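import Groth.Statements.S5255
import Groth.Agent.SGA3x.K5.CentNorm

set_option autoImplicit false
open CategoryTheory MonoidalCategory CartesianMonoidalCategory MonObj GrpObj AlgebraicGeometry
universe u
open SGA3x

namespace Groth.Agent.S5255

/-- Let K be an S-group locally of finite type over S whose fibres are connected, and i : H ⟶ K a
subgroup scheme of multiplicative type and of finite type which is normal in K. Then H is central in
K: for every S-scheme X, every X-point of K commutes with (the image of) every X-point of H. -/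
theorem result {S : Scheme.{u}} (K H : Over S) [GrpObj K] [GrpObj H]
    [LocallyOfFiniteType K.hom] (hconn : ∀ s : S, ConnectedSpace ↥(Limits.pullback K.hom (S.fromSpecResidueField s)))
    (i : H ⟶ K) [IsMonHom i] [Mono i] (hH : SGA3x.IsMultTypeFT H) (hn : AlgGrp.IsNormalHom i) :
    ∀ (X : Over S) (k : X ⟶ K) (h : X ⟶ H), k * (h ≫ i) = (h ≫ i) * k := by
  obtain ⟨U, hU, hU'⟩ := Groth.Agent.SGA3x.K5.CentNorm.exists_clopen_centralize i hH (𝟙 K)
    fun T t h => hn T (t ≫ 𝟙 K) h
  -- the unit section
  have h1 : Set.range (η[K] : 𝟙_ (Over S) ⟶ K).left ⊆ (U : Set K.left) := by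
    rw [← hU' (𝟙_ (Over S)) η[K]]
    intro T' b h
    have h2 : b ≫ η[K] ≫ 𝟙 K = (1 : T' ⟶ K) := by
      rw [Category.comp_id, Hom.one_def]
      congr 1
      exact toUnit_unique _ _
    rw [h2, _root_.one_mul, _root_.mul_one]
  have h2 : (U : Set K.left) = Set.univ := by
    rw [Set.eq_univ_iff_forall]
    intro k
    let s := K.hom k
    have hs : s ∈ Set.range (S.fromSpecResidueField s) := by
      rw [Scheme.range_fromSpecResidueField]
      rfl
    obtain ⟨p, hp⟩ := hs
    obtain ⟨k', hk', -⟩ := Scheme.Pullback.exists_preimage_pullback (f := K.hom) (g := S.fromSpecResidueField s)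
      k p hp.symm
    obtain ⟨e', he', -⟩ := Scheme.Pullback.exists_preimage_pullback (f := K.hom) (g := S.fromSpecResidueField s)
      ((η[K] : 𝟙_ (Over S) ⟶ K).left s) p (by
        rw [hp, ← Scheme.Hom.comp_apply, Over.w]
        rfl)
    have := hconn s
    have hcl : IsClopen ((Limits.pullback.fst K.hom (S.fromSpecResidueField s)) ⁻¹' (U : Set K.left)) :=
      ⟨hU.preimage (Limits.pullback.fst K.hom (S.fromSpecResidueField s)).continuous,
        U.2.preimage (Limits.pullback.fst K.hom (S.fromSpecResidueField s)).continuous⟩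
    rcases isClopen_iff.mp hcl with h | h
    · exfalso
      have : e' ∈ (Limits.pullback.fst K.hom (S.fromSpecResidueField s)) ⁻¹' (U : Set K.left) := by
        rw [Set.mem_preimage, he']
        exact h1 ⟨_, rfl⟩
      rw [h] at this
      exact this
    · have : k' ∈ (Limits.pullback.fst K.hom (S.fromSpecResidueField s)) ⁻¹' (U : Set K.left) := by
        rw [h]
        trivial
      rw [← hk']
      exact this
  intro X k h
  have h3 := (hU' K (𝟙 K)).mpr (by rw [h2]; exact Set.subset_univ _) X k h
  simpa using h3

end Groth.Agent.S5255
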