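import Groth.Statements.S14205
import Groth.Agent.Brauer.K441.TPow

set_option autoImplicit false
universe u v
open scoped TensorProduct
open Brauer

namespace Groth.Agent.S14205

/-- Let A be a finite-dimensional central simple algebra over a field k with period p: p is the least
positive integer for which the p-fold tensor power of A over k is a full matrix algebra over k. Then
for every r ≥ 1 the r-fold tensor power of A has period p / gcd(p, r) (the order of the r-th
multiple of an element of order p). -/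
theorem result (k : Type u) [Field k] (A : Type v) [Ring A] [Algebra k A]
    [Algebra.IsCentral k A] [IsSimpleRing A] [FiniteDimensional k A] (p : ℕ)
    (hp : CSAGal.IsPeriod k A p) (r : ℕ) (hr : 0 < r) :
    CSAGal.IsPeriod k (CSAGal.tpow k A r) (p / Nat.gcd p r) := by
  have hA : K441.Br.IsCSA k A := K441.Br.IsCSA.of_inst
  have hAr : K441.Br.IsCSA k (CSAGal.tpow k A r) := K441.TPow.isCSA_tpow hA r
  have hp0 : 0 < p := hp.1
  have hg : 0 < Nat.gcd p r := Nat.gcd_pos_of_pos_left r hp0
  rw [K441.TPow.isPeriod_iff_dvd hAr]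
  refine ⟨Nat.div_pos (Nat.le_of_dvd hp0 (Nat.gcd_dvd_left p r)) hg, fun f => ?_⟩
  have h1 : K441.Br.BrEq k (CSAGal.tpow k (CSAGal.tpow k A r) f) k ↔
      K441.Br.BrEq k (CSAGal.tpow k A (r * f)) k :=
    ⟨fun h => (K441.TPow.brEq_tpow_mul r f).trans h,
      fun h => (K441.TPow.brEq_tpow_mul r f).symm.trans h⟩
  rw [h1, K441.TPow.isPeriod_dvd hA hp]
  obtain ⟨g, p', r', hgpos, hcop, rfl, rfl⟩ := Nat.exists_coprime' hg
  rw [Nat.gcd_mul_right, hcop.gcd_eq_one, one_mul, Nat.mul_div_cancel _ hgpos]
  rw [mul_right_comm, Nat.mul_dvd_mul_iff_right hgpos]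
  exact ⟨fun h => hcop.dvd_of_dvd_mul_left h, fun h => h.mul_left _⟩

end Groth.Agent.S14205
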