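import Groth.Statements.S12441
import Groth.Agent.Grass.K652.ClosedPts

set_option autoImplicit false
universe u
open scoped TensorProduct
open Grass

namespace Groth.Agent.S12441

open AlgebraicGeometry CategoryTheory in
/-- Let k be a field, A a possibly non-commutative k-algebra, e a natural number, and X a k-scheme
representing the Grassmannian functor Grass^e(A) on affine k-schemes — bijections, natural in the
commutative k-algebra B, between k-morphisms Spec B → X and B-submodules U of B ⊗_k A whose quotient
is finite projective of constant rank e. Then there is a closed immersion ι : Z → X such that a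
k-morphism g : Spec B → X factors through ι if and only if the submodule U attached to g is a left
ideal of B ⊗_k A, i.e. is stable under left multiplication by every 1 ⊗ a. -/
theorem result (k : Type u) [Field k] (A : Type u) [Ring A] [Algebra k A]
    (e : ℕ) (X : Over (Spec (CommRingCat.of k)))
    (eX : ∀ B : CommAlgCat.{u} k,
      ((Over.mk (Spec.map (CommRingCat.ofHom (algebraMap k B)))) ⟶ X) ≃ (Module.Grassmannian.functor (R := k) (M := A) e).obj B)
    (heX : ∀ (B C : CommAlgCat.{u} k) (φ : B ⟶ C)
      (g : Over.mk (Spec.map (CommRingCat.ofHom (algebraMap k B))) ⟶ X) (g' : Over.mk (Spec.map (CommRingCat.ofHom (algebraMap k C))) ⟶ X),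
      g'.left = Spec.map (CommRingCat.ofHom φ.hom.toRingHom) ≫ g.left →
        eX C g' = (Module.Grassmannian.functor (R := k) (M := A) e).map φ (eX B g)) :
    ∃ (Z : Scheme.{u}) (ι : Z ⟶ X.left), IsClosedImmersion ι ∧
      ∀ (B : CommAlgCat.{u} k) (g : Over.mk (Spec.map (CommRingCat.ofHom (algebraMap k B))) ⟶ X),
        (∃ h : (Over.mk (Spec.map (CommRingCat.ofHom (algebraMap k B)))).left ⟶ Z, h ≫ ι = g.left) ↔
          ∀ (a : A) (x : ↑B ⊗[k] A), x ∈ (eX B g).toSubmodule →
            ((1 : ↑B) ⊗ₜ[k] a) * x ∈ (eX B g).toSubmodule := by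
  have hmul : ∀ (B C : Type u) [CommRing B] [Algebra k B] [CommRing C] [Algebra k C] (f : B →ₐ[k] C) (a : A)
      (x : B ⊗[k] A), K652.MapSpan.bcM A f (((1 : B) ⊗ₜ[k] a) * x) = ((1 : C) ⊗ₜ[k] a) * K652.MapSpan.bcM A f x := by
    intro B C _ _ _ _ f a x
    induction x using TensorProduct.induction_on with
    | zero => simp
    | tmul b m => simp
    | add x y hx hy => rw [mul_add, map_add, map_add, hx, hy, mul_add]
  obtain ⟨Z, i, hi, hZ⟩ := K652.ClosedPts.exists_closed_pts (X := X)
    (P := fun B g => ∀ (a : A) (x : ↑B ⊗[k] A), x ∈ (eX B g).toSubmodule →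
            ((1 : ↑B) ⊗ₜ[k] a) * x ∈ (eX B g).toSubmodule) (by
      intro B g
      obtain ⟨I, hI⟩ := K652.ClosedPts.exists_ideal_mem (eX B g)
        {s | ∃ (a : A) (x : ↑B ⊗[k] A), x ∈ (eX B g).toSubmodule ∧ s = ((1 : ↑B) ⊗ₜ[k] a) * x}
      refine ⟨I, fun C φ g' h => ?_⟩
      rw [← hI C φ.hom]
      have h1 := heX B C φ g g' h
      have h2 : (eX C g').toSubmodule = (Module.Grassmannian.map φ.hom (eX B g)).toSubmodule := by
        rw [h1]
        rfl
      constructor
      · rintro h3 _ ⟨a, x, hx, rfl⟩
        rw [hmul, ← h2]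
        apply h3
        rw [h2, K652.MapSpan.map_toSubmodule_eq_span]
        exact Submodule.subset_span ⟨x, hx, rfl⟩
      · intro h3 a x hx
        have hx' : x ∈ Submodule.span C (K652.MapSpan.bcM A φ.hom '' ((eX B g).toSubmodule : Set (↑B ⊗[k] A))) := by
          rw [← K652.MapSpan.map_toSubmodule_eq_span, ← h2]
          exact hx
        rw [h2]
        clear hx
        induction hx' using Submodule.span_induction with
        | mem x hx =>
          obtain ⟨y, hy, rfl⟩ := hx
          rw [← hmul]
          exact h3 _ ⟨a, y, hy, rfl⟩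
        | zero =>
          rw [mul_zero]
          exact zero_mem _
        | add x y _ _ hx hy =>
          rw [mul_add]
          exact add_mem hx hy
        | smul c x _ hx =>
          rw [mul_smul_comm]
          exact Submodule.smul_mem _ c hx)
  exact ⟨Z, i, hi, fun B g => (hZ B g).symm⟩

end Groth.Agent.S12441
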