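import Groth.Statements.S10962
import Groth.Agent.SDiv.K474.ProjPts
import Groth.Agent.Ega3B.ProjAmple
import Groth.Agent.S2352
import Groth.Agent.S2328
import Groth.Agent.S2126
import Groth.Agent.S2329
import Groth.Agent.S0024
import Groth.Agent.Ega2.AmpleUnit

set_option autoImplicit false
universe u
open CategoryTheory CategoryTheory.Limits AlgebraicGeometry TopologicalSpace
open SDiv

namespace Groth.Agent.S10962

open Groth.Agent.SDiv.K474.ProjPts

section

variable (R : Type u) [CommRing R] (n : ℕ)

theorem exists_X_notMem (x : Proj (CohB1.polyGrading n R)) : ∃ i : Fin (n + 1),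
    (MvPolynomial.X i : MvPolynomial (Fin (n + 1)) R) ∉
      (x : ProjectiveSpectrum (CohB1.polyGrading n R)).asHomogeneousIdeal := by
  by_contra hcon
  push Not at hcon
  apply (x : ProjectiveSpectrum (CohB1.polyGrading n R)).not_irrelevant_le
  intro f hf
  have h2 : Ideal.span (Set.range (MvPolynomial.X : Fin (n + 1) → MvPolynomial (Fin (n + 1)) R)) ≤
      (x : ProjectiveSpectrum (CohB1.polyGrading n R)).asHomogeneousIdeal.toIdeal := by
    rw [Ideal.span_le]
    rintro _ ⟨i, rfl⟩
    exact hcon i
  exact h2 (Groth.Agent.S0024.irrelevant_le n R hf)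

theorem coveredBy (e : ℕ) : Groth.Agent.Ega3B.ProjAmple.CoveredBy (CohB1.polyGrading n R) e := by
  intro x
  obtain ⟨i, hi⟩ := exists_X_notMem R n x
  refine ⟨⟨MvPolynomial.X i ^ e, ?_⟩, fun h => hi ?_⟩
  · have := (MvPolynomial.isHomogeneous_X R i).pow e
    rwa [one_mul] at this
  · exact (x : ProjectiveSpectrum (CohB1.polyGrading n R)).isPrime.mem_of_pow_mem e h

instance compactSpace_projSpace : CompactSpace (Proj (CohB1.polyGrading n R)) := by
  refine ⟨?_⟩
  have h1 : (Set.univ : Set (Proj (CohB1.polyGrading n R))) =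
      ⋃ i : Fin (n + 1), ((Proj.basicOpen (CohB1.polyGrading n R) (MvPolynomial.X i) :
        (Proj (CohB1.polyGrading n R)).Opens) : Set (Proj (CohB1.polyGrading n R))) := by
    symm
    rw [Set.eq_univ_iff_forall]
    intro x
    obtain ⟨i, hi⟩ := exists_X_notMem R n x
    exact Set.mem_iUnion.mpr ⟨i, hi⟩
  rw [h1]
  exact isCompact_iUnion fun i =>
    (Proj.isAffineOpen_basicOpen (CohB1.polyGrading n R) (MvPolynomial.X i) (MvPolynomial.isHomogeneous_X _ i)
      one_pos).isCompact

theorem isAmple_of_pos {d : ℤ} (hd : 0 < d) : CohB1.IsAmple (Twist.twistProjSpace n R d) := by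
  obtain ⟨e, rfl⟩ := Int.eq_ofNat_of_zero_le hd.le
  exact Groth.Agent.Ega3B.ProjAmple.isAmple_twist (𝒜 := CohB1.polyGrading n R) (e := e) (by omega) (coveredBy R n e)

/-- On projective space of positive dimension over a nonzero ring the structure sheaf is not ample: a function
does not separate the points of a fibre. -/
theorem not_isAmple_structureModule [Nontrivial R] (hn : 1 ≤ n) :
    ¬ CohB1.IsAmple (Coh.structureModule (CohB1.ProjSpace n R)) := by
  intro h
  have : CompactSpace (CohB1.ProjSpace n R) := h.2.1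
  have hb := (Groth.Agent.S2126.result _ h.1).mp h
  obtain ⟨p⟩ : Nonempty (Spec (CommRingCat.of R)) := inferInstance
  obtain ⟨m, rfl⟩ : ∃ m, n = m + 1 := ⟨n - 1, by omega⟩
  have h0 : (pt R (m + 1) 0) p ∈ Proj.basicOpen (CohB1.polyGrading (m + 1) R) (MvPolynomial.X 0) :=
    (pt_mem_iff R (m + 1) 0 0 p).mpr rfl
  obtain ⟨_, ⟨k, s, rfl⟩, hx, hle⟩ := (Opens.isBasis_iff_nbhd.mp hb) h0
  obtain ⟨r, hr⟩ := Groth.Agent.Ega2.Weight.exists_genLocus_tensorPow_structureModule _ s
  rw [hr] at hx hle
  have := Groth.Agent.S0024.result (m + 1) R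
  obtain ⟨r', hr'⟩ : ∃ r', (CohB1.ProjSpace.toSpec (m + 1) R).appTop r' = r :=
    ⟨inv (CohB1.ProjSpace.toSpec (m + 1) R).appTop r, by
      rw [← CommRingCat.comp_apply, IsIso.inv_hom_id]; rfl⟩
  have hbo : (CohB1.ProjSpace (m + 1) R).basicOpen r =
      (CohB1.ProjSpace.toSpec (m + 1) R) ⁻¹ᵁ ((Spec (CommRingCat.of R)).basicOpen r') := by
    rw [← hr']
    exact (Scheme.preimage_basicOpen_top _ r').symm
  have hfib : ∀ i, (CohB1.ProjSpace.toSpec (m + 1) R) ((pt R (m + 1) i) p) = p := fun i => by
    rw [← Scheme.Hom.comp_apply, pt_toSpec]; rfl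
  rw [hbo] at hx hle
  have hp : p ∈ (Spec (CommRingCat.of R)).basicOpen r' := by
    have : (CohB1.ProjSpace.toSpec (m + 1) R) ((pt R (m + 1) 0) p) ∈ (Spec (CommRingCat.of R)).basicOpen r' := hx
    rwa [hfib] at this
  have h1 : (pt R (m + 1) 1) p ∈ (CohB1.ProjSpace.toSpec (m + 1) R) ⁻¹ᵁ ((Spec (CommRingCat.of R)).basicOpen r') := by
    change (CohB1.ProjSpace.toSpec (m + 1) R) ((pt R (m + 1) 1) p) ∈ (Spec (CommRingCat.of R)).basicOpen r'
    rwa [hfib]
  have h2 := (pt_mem_iff R (m + 1) 1 0 p).mp (hle h1)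
  exact absurd h2 (by simp)

theorem irrelevant_eq : (HomogeneousIdeal.irrelevant (CohB1.polyGrading n R)).toIdeal =
    Ideal.span (CohB1.polyGrading n R 1 : Set (MvPolynomial (Fin (n + 1)) R)) := by
  apply le_antisymm
  · refine (Groth.Agent.S0024.irrelevant_le n R).trans (Ideal.span_mono ?_)
    rintro _ ⟨i, rfl⟩
    exact MvPolynomial.isHomogeneous_X _ i
  · rw [Ideal.span_le]
    intro a ha
    change a ∈ HomogeneousIdeal.irrelevant (CohB1.polyGrading n R)
    rw [HomogeneousIdeal.mem_irrelevant_iff, GradedRing.proj_apply]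
    exact DirectSum.decompose_of_mem_ne (CohB1.polyGrading n R) ha one_ne_zero

theorem nonempty_twist_zero : Nonempty (Twist.twistProjSpace n R 0 ≅ Coh.structureModule (CohB1.ProjSpace n R)) := by
  obtain ⟨e⟩ := (Groth.Agent.S2352.result (CohB1.polyGrading n R) (irrelevant_eq R n)).2.2 0
  exact ⟨e⟩

theorem nonempty_tensor (i j : ℤ) : Nonempty (CohB1.tensorMod (Twist.twistProjSpace n R i) (Twist.twistProjSpace n R j) ≅
    Twist.twistProjSpace n R (i + j)) :=
  (Groth.Agent.S2352.result (CohB1.polyGrading n R) (irrelevant_eq R n)).2.1 i j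

theorem isInvertible_twist (i : ℤ) : PicF.IsInvertible (Twist.twistProjSpace n R i) :=
  (Groth.Agent.S2352.result (CohB1.polyGrading n R) (irrelevant_eq R n)).1 i

end

/-- Let R be a nonzero ring and n ≥ 1, and let X be projective n-space over R. For an integer d, the
Serre twist O_X(d) is ample if and only if d > 0. (Ample is taken in the sense that X is
quasi-compact and covered by the affine open non-vanishing loci X_s of global sections s of positive
tensor powers; for the quasi-compact separated scheme X this agrees with the definition through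
finitely many generating sections with quasi-affine non-vanishing loci. The published remark also
asserts that O_X(d) is very ample relative to R for d > 0; that clause is not part of this row.) -/
theorem result (R : Type u) [CommRing R] [Nontrivial R] (n : ℕ) (hn : 1 ≤ n) (d : ℤ) :
    CohB1.IsAmple (Twist.twistProjSpace n R d) ↔ 0 < d := by
  refine ⟨fun h => ?_, isAmple_of_pos R n⟩
  by_contra hd
  rcases eq_or_lt_of_le (not_lt.mp hd) with rfl | hd'
  · obtain ⟨e⟩ := nonempty_twist_zero R n
    exact not_isAmple_structureModule R n hn (Groth.Agent.S2329.isAmple_of_iso e h)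
  · have : CompactSpace (CohB1.ProjSpace n R) := h.2.1
    have : (CohB1.ProjSpace n R).IsSeparated := inferInstanceAs (Scheme.IsSeparated (Proj (CohB1.polyGrading n R)))
    have h' := isAmple_of_pos R n (d := -d) (by omega)
    have h2 := Groth.Agent.S2328.result _ _ _ h h'.1 (fun x => by
      obtain ⟨k, s, hs, -⟩ := h'.2.2 x
      exact ⟨k, s, hs⟩)
    obtain ⟨e⟩ := nonempty_tensor R n d (-d)
    rw [add_neg_cancel] at e
    obtain ⟨e'⟩ := nonempty_twist_zero R n
    exact not_isAmple_structureModule R n hn (Groth.Agent.S2329.isAmple_of_iso (e ≪≫ e') h2)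

end Groth.Agent.S10962
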