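import Groth.Statements.S10960
import Groth.Agent.S10962
import Groth.Agent.S1697

set_option autoImplicit false
universe u
open CategoryTheory CategoryTheory.Limits AlgebraicGeometry TopologicalSpace
open SDiv

namespace Groth.Agent.S10960

/-- An isomorphism `O(a) ≅ O(b)` on projective space of positive dimension forces `a = b`. -/
theorem eq_of_iso (R : Type u) [CommRing R] [Nontrivial R] (n : ℕ) (hn : 1 ≤ n) {a b : ℤ}
    (e : Twist.twistProjSpace n R a ≅ Twist.twistProjSpace n R b) : a = b := by
  have key : ∀ {a b : ℤ}, (Twist.twistProjSpace n R a ≅ Twist.twistProjSpace n R b) → a ≤ b := by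
    intro a b e
    by_contra hab
    push Not at hab
    -- twist by `-b`
    obtain ⟨e1⟩ := Groth.Agent.S10962.nonempty_tensor R n a (-b)
    obtain ⟨e2⟩ := Groth.Agent.S10962.nonempty_tensor R n b (-b)
    have e3 : Twist.twistProjSpace n R (a + -b) ≅ Twist.twistProjSpace n R (b + -b) :=
      e1.symm ≪≫ Groth.Agent.Ega2.Tens.mapTIso e (Iso.refl _) ≪≫ e2
    have h1 : CohB1.IsAmple (Twist.twistProjSpace n R (a + -b)) :=
      Groth.Agent.S10962.isAmple_of_pos R n (by omega)
    have h2 := (Groth.Agent.S10962.result R n hn _).mp (Groth.Agent.S2329.isAmple_of_iso e3 h1)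
    omega
  exact le_antisymm (key e) (key e.symm)

/-- Let L be a field and n ≥ 1. Then every invertible module on projective n-space over L is isomorphic
to the twisting sheaf O(d) for exactly one integer d. In other words d ↦ O(d) is a bijection from
the integers onto the isomorphism classes of invertible modules on P^n_L. -/
theorem result (L : Type u) [Field L] (n : ℕ) (hn : 1 ≤ n)
    (M : (CohB1.ProjSpace n L).Modules) (hM : PicF.IsInvertible M) :
    ∃! d : ℤ, Nonempty (M ≅ Twist.twistProjSpace n L d) := by
  obtain ⟨d, ⟨e⟩⟩ := Groth.Agent.S1697.result L n M hM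
  refine ⟨d, ⟨e⟩, ?_⟩
  rintro d' ⟨e'⟩
  exact eq_of_iso L n hn (e'.symm ≪≫ e)

end Groth.Agent.S10960
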