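import Groth.Statements.S19659
import Groth.Agent.S1386
import Groth.Agent.S0414
import Groth.Agent.S1628
import Groth.Agent.Sga3C.FlatHomog
import Groth.Agent.Sga3C.FlatAt

set_option autoImplicit false
universe u
open CategoryTheory CategoryTheory.Limits MonoidalCategory CartesianMonoidalCategory MonObj GrpObj AlgebraicGeometry
open AbSch

namespace Groth.Agent.S19659

open Groth.Agent.Sga3C.FlatPt Groth.Agent.Sga3C.FlatHomog Groth.Agent.Sga3C.GrpBasic

/-- a homomorphism of group schemes, the source flat over the base, which is flat at one point of a fibre is flat at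
all points of that fibre -/
theorem isFlatAt_of_hom {S : Scheme.{u}} {G H : Over S} [GrpObj G] [GrpObj H] [Flat G.hom] (f : G ⟶ H)
    [IsMonHom f] (x y : G.left) (hxy : G.hom x = G.hom y) (hy : IsFlatAt f.left y) : IsFlatAt f.left x := by
  refine isFlatAt_of_isFlatAt f (mulLeftShear f) ?_ x y hxy hy
  ext1
  · simp
  · rw [Category.assoc, mulLeftShear_hom_snd, Category.assoc, whiskerLeft_snd, MonObj.comp_mul,
      whiskerLeft_snd, whiskerLeft_fst_assoc, ← Category.assoc, mulLeftShear_hom_snd, Category.comp_id,
      MonObj.mul_comp]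

/-- A finite type morphism which is surjective onto a nonempty scheme smooth over a field is flat at some point. -/
theorem exists_isFlatAt {k : Type u} [Field k] {X Y : Scheme.{u}} (h : Y ⟶ Spec (CommRingCat.of k)) [Smooth h]
    [Nonempty Y] (f : X ⟶ Y) [LocallyOfFiniteType f] [QuasiCompact f] [Surjective f] : ∃ x : X, IsFlatAt f x := by
  have hred : IsReduced Y := by
    have : ∀ y : Y, _root_.IsReduced (Y.presheaf.stalk y) := fun y => S1628.isReduced_stalk_of_smooth h y
    exact isReduced_of_isReduced_stalk Y
  obtain ⟨U, hU, hfl, -⟩ := S0414.result f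
  obtain ⟨y, hy⟩ := hU.nonempty
  obtain ⟨x, hx⟩ := f.surjective y
  have hxU : x ∈ f ⁻¹ᵁ U := by change f x ∈ U; rw [hx]; exact hy
  refine ⟨x, ?_⟩
  let x' : (f ⁻¹ᵁ U : Scheme.{u}) := ⟨x, hxU⟩
  have h1 : IsFlatAt ((f ∣_ U) ≫ U.ι) x' := isFlatAt_of_flat _ _
  rw [morphismRestrict_ι] at h1
  rw [isFlatAt_iff_stalkMap] at h1 ⊢
  exact (Sga3C.FlatAt.flatAt_comp_left (f ⁻¹ᵁ U).ι f x').mp h1

theorem surjective_of_flat
    {S : Scheme.{u}} (A B : Over S) [GrpObj A] [IsProper A.hom] [Smooth A.hom]
    [GrpObj B] [IsProper B.hom] [Smooth B.hom] [GeometricallyConnected B.hom]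
    (f : A ⟶ B) [IsMonHom f] (hf : Flat f.left) : Surjective f.left := by
  have hw : f.left ≫ B.hom = A.hom := Over.w f
  have hlfp : LocallyOfFinitePresentation (f.left ≫ B.hom) := by rw [hw]; infer_instance
  have hprop : IsProper (f.left ≫ B.hom) := by rw [hw]; infer_instance
  have hp : IsProper f.left := IsProper.of_comp f.left B.hom
  have h1 : LocallyOfFinitePresentation f.left := Flat2E.Thick.locallyOfFinitePresentation_of_comp f.left B.hom
  have ho : IsOpenMap f.left := f.left.isOpenMap
  have hc : IsClosedMap f.left := f.left.isClosedMap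
  constructor
  intro b
  have hconn := B.hom.isConnected_preimage_singleton (B.hom b)
  have hclopen : IsClopen (Set.range f.left) := ⟨hc.isClosed_range, ho.isOpen_range⟩
  -- the unit point over `B.hom b`
  let e : B.left := (η[B]).left (B.hom b)
  have hunit : ((η[B]).left) ≫ B.hom = 𝟙 S := by
    have := Over.w η[B]
    exact this
  have hunitA : ((η[A]).left) ≫ f.left = (η[B]).left := by
    rw [← Over.comp_left, IsMonHom.one_hom]
  have he1 : e ∈ B.hom ⁻¹' {B.hom b} := by
    change B.hom ((η[B]).left (B.hom b)) = B.hom b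
    rw [← Scheme.Hom.comp_apply, hunit]
    rfl
  have he2 : e ∈ Set.range f.left := by
    refine ⟨(η[A]).left (B.hom b), ?_⟩
    rw [← Scheme.Hom.comp_apply, hunitA]
  have := hconn.isPreconnected.subset_isClopen hclopen ⟨e, he1, he2⟩
  exact this rfl

theorem isPullback_fiberMap {X Y Z : Scheme.{u}} (f : X ⟶ Y) (g : Y ⟶ Z) (s : Z) :
    IsPullback (MoreMor.fiberMap f g s) ((f ≫ g).fiberι s) (g.fiberι s) f := by
  refine IsPullback.of_right (t := (IsPullback.of_hasPullback g (Z.fromSpecResidueField s)).flip) ?_ ?_
  · have h := (IsPullback.of_hasPullback (f ≫ g) (Z.fromSpecResidueField s)).flip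
    have e : MoreMor.fiberMap f g s ≫ pullback.snd g (Z.fromSpecResidueField s) =
        pullback.snd (f ≫ g) (Z.fromSpecResidueField s) := by
      unfold MoreMor.fiberMap
      exact pullback.lift_snd _ _ _
    rw [e]
    exact h
  · unfold MoreMor.fiberMap
    exact pullback.lift_fst _ _ _

theorem flat_of_surjective
    {S : Scheme.{u}} (A B : Over S) [GrpObj A] [IsProper A.hom] [Smooth A.hom]
    [GrpObj B] [IsProper B.hom] [Smooth B.hom]
    (f : A ⟶ B) [IsMonHom f] (hf : Surjective f.left) : Flat f.left := by
  have hw : f.left ≫ B.hom = A.hom := Over.w f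
  have hlfp : LocallyOfFinitePresentation (f.left ≫ B.hom) := by rw [hw]; infer_instance
  have hprop : IsProper (f.left ≫ B.hom) := by rw [hw]; infer_instance
  have hflat : Flat (f.left ≫ B.hom) := by rw [hw]; infer_instance
  have hflatA : Flat A.hom := by rw [← hw]; infer_instance
  refine flat_of_forall_isFlatAt f.left fun x => ?_
  let s : S := A.hom x
  -- the map of fibres is flat somewhere
  let φ := MoreMor.fiberMap f.left B.hom s
  have sq : IsPullback φ ((f.left ≫ B.hom).fiberι s) (B.hom.fiberι s) f.left :=
    isPullback_fiberMap f.left B.hom s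
  have hφs : Surjective φ := MorphismProperty.of_isPullback (P := @Surjective) sq.flip hf
  have hφp : IsProper φ := by
    have hp : IsProper f.left := IsProper.of_comp f.left B.hom
    exact MorphismProperty.of_isPullback (P := @IsProper) sq.flip hp
  have : Smooth (B.hom.fiberToSpecResidueField s) := by
    change Smooth (pullback.snd _ _)
    infer_instance
  have hxs : (f.left ≫ B.hom) x = s := by rw [hw]
  have : Nonempty (B.hom.fiber s) := by
    have h1 : x ∈ Set.range ((f.left ≫ B.hom).fiberι s) := by
      rw [Scheme.Hom.range_fiberι]; exact hxs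
    obtain ⟨z, -⟩ := h1
    exact ⟨φ z⟩
  obtain ⟨z, hz⟩ := exists_isFlatAt (k := S.residueField s) (B.hom.fiberToSpecResidueField s) φ
  let y : A.left := (f.left ≫ B.hom).fiberι s z
  have hys : (f.left ≫ B.hom) y = s := by
    have : y ∈ Set.range ((f.left ≫ B.hom).fiberι s) := ⟨z, rfl⟩
    rw [Scheme.Hom.range_fiberι] at this
    exact this
  have h1 : LocallyOfFinitePresentation f.left := Flat2E.Thick.locallyOfFinitePresentation_of_comp f.left B.hom
  have hy : IsFlatAt f.left y := by
    rw [isFlatAt_iff_stalkMap] at hz ⊢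
    exact Flat2E.FibreCrit.flat_stalkMap_of_fibre f.left B.hom s z
      ((isFlatAt_iff_stalkMap _ _).mp (isFlatAt_of_flat _ _)) hz
  exact isFlatAt_of_hom f x y (by
    rw [← hw, hxs, hys]) hy

/-- Let S be a scheme, A and B abelian schemes over S (proper smooth S-group schemes with geometrically
connected fibres) and f : A → B a homomorphism. Then f is flat exactly when it is surjective. -/
theorem result
    {S : Scheme.{u}} (A B : Over S) [GrpObj A] [IsProper A.hom] [Smooth A.hom] [GeometricallyConnected A.hom]
    [GrpObj B] [IsProper B.hom] [Smooth B.hom] [GeometricallyConnected B.hom]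
    (f : A ⟶ B) [IsMonHom f] :
    Flat f.left ↔ Surjective f.left :=
  ⟨surjective_of_flat A B f, flat_of_surjective A B f⟩

end Groth.Agent.S19659
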