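import Groth.Statements.S12128
import Groth.Agent.S1495
import Groth.Agent.Ega2.RelAmpRows

set_option autoImplicit false
universe u
open Cons9

namespace Groth.Agent.S12128

open AlgebraicGeometry CategoryTheory Limits in
/-- Let f : X → S be a proper morphism of finite presentation and L an invertible O_X-module. Then L is
ample relative to f if and only if, for every point s of S, the pullback of L to the fibre X_s is
ample (relative to X_s → Spec k(s), i.e. an ample invertible sheaf on the quasi-compact scheme X_s). -/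
theorem result {X S : Scheme.{u}} (f : X ⟶ S)
    [IsProper f] [LocallyOfFinitePresentation f] (L : X.Modules) (hL : PicF.IsInvertible L) :
    RelAmple.IsRelAmple f L ↔
      ∀ s : S, CohB1.IsAmple ((Scheme.Modules.pullback (f.fiberι s)).obj L) := by
  constructor
  · intro h s
    exact Groth.Agent.Ega2.RelAmp.isRelAmple_iff_isAmple.1
      (Groth.Agent.Ega2.RelAmp.relAmple_baseChange f (S.fromSpecResidueField s) L h)
  · intro h
    refine Groth.Agent.Ega2.RelAmp.isRelAmple_of_forall_exists fun s => ?_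
    obtain ⟨U, hsU, hU⟩ := Groth.Agent.S1495.result f L hL s (h s)
    obtain ⟨s, rfl⟩ : ∃ s' : U, U.ι s' = s := ⟨⟨s, hsU⟩, rfl⟩
    obtain ⟨_, ⟨W, hW, rfl⟩, hsW, -⟩ :=
      (U : Scheme).isBasis_affineOpens.exists_subset_of_mem_open
        (show s ∈ (⊤ : (U : Scheme).Opens) from trivial) (⊤ : (U : Scheme).Opens).2
    have hamp := hU.2 ⟨W, hW⟩
    refine ⟨U.ι ''ᵁ W, hW.image_of_isOpenImmersion _, ⟨s, hsW, rfl⟩, ?_⟩
    rw [← image_morphismRestrict_preimage]
    have h1 : ((f ∣_ U) ⁻¹ᵁ W).ι.opensRange = (f ∣_ U) ⁻¹ᵁ W := Scheme.Opens.opensRange_ι _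
    have h2 : (((f ∣_ U) ⁻¹ᵁ W).ι ≫ (f ⁻¹ᵁ U).ι).opensRange = (f ⁻¹ᵁ U).ι ''ᵁ ((f ∣_ U) ⁻¹ᵁ W) := by
      rw [Scheme.Hom.opensRange_comp, h1]
    rw [← h2, ← Groth.Agent.Ega2.Ample.isAmple_restrict_iff,
      Groth.Agent.Models2.AmplePull.isAmple_restrict_iff,
      Groth.Agent.Models2.AmplePull.isAmple_pullback_comp]
    rw [Groth.Agent.Models2.AmplePull.isAmple_restrict_iff] at hamp
    exact Groth.Agent.Models2.AmplePull.isAmple_of_iso ((Scheme.Modules.pullback _).mapIso
      ((Scheme.Modules.restrictFunctorIsoPullback (f ⁻¹ᵁ U).ι).app L)) hamp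

end Groth.Agent.S12128
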