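import Groth.Statements.S14124
import Groth.Agent.S7859
import Groth.Agent.AbVar.K511.AmpleVan
import Groth.Agent.AbSch.K449.Basic
import Groth.Agent.Flat2B.SmoothGeom

set_option autoImplicit false
universe u
open CategoryTheory CategoryTheory.Limits MonoidalCategory CartesianMonoidalCategory MonObj GrpObj AlgebraicGeometry
open AbVar

namespace Groth.Agent.S14124

/-- Let k be an algebraically closed field, A an abelian variety over k (a proper smooth k-group scheme
with geometrically connected fibres) and L an ample invertible O_A-module. Then the cohomology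
groups H^j(A, L) vanish for all j > 0, and H^0(A, L) is non-zero. -/
theorem result (k : Type u) [Field k] [IsAlgClosed k]
    (A : Over (Spec (CommRingCat.of k))) [GrpObj A] [IsProper A.hom] [Smooth A.hom] [GeometricallyConnected A.hom]
    (L : A.left.Modules) (hLa : CohB1.IsAmple L) :
    (∀ j : ℕ, 0 < j → Subsingleton (Coh.HH A.left L j)) ∧ Nontrivial (Coh.HH A.left L 0) := by
  have hgr : GeometricallyReduced A.hom := Groth.Agent.Flat2B.SmoothGeom.geometricallyReduced_of_smooth A.hom
  have hgi : GeometricallyIntegral A.hom := K449.Basic.geometricallyIntegral A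
  have hint : IsIntegral A.left := GeometricallyIntegral.isIntegral_of_subsingleton A.hom
  refine ⟨fun j hj => K511.AmpleVan.vanish A L hLa j hj, ?_⟩
  obtain ⟨n, hn1, hnK, hv, h0⟩ := K511.AmpleVan.exists_good A L hLa
  obtain ⟨g, hg⟩ := K511.AmpleVan.exists_dim A
  obtain ⟨h1, h2, h3⟩ := Groth.Agent.S1842.pos_case k A g hg n hn1
  exact K511.AmpleVan.nontrivial_of_euler A L hLa n (n ^ (2 * g)) hv h0
    (Groth.Agent.S7859.result k A A (𝟙 A ^ n) (n ^ (2 * g)) h3 L (K511.AmpleVan.isCoh_of_isInvertible A hLa.1))

end Groth.Agent.S14124
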