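import Groth.Statements.S14328
import Groth.Agent.AbSch.K450.KeyMain
import Groth.Agent.AbSch.K645.Conc

set_option autoImplicit false
universe u
open CategoryTheory CategoryTheory.Limits MonoidalCategory CartesianMonoidalCategory MonObj GrpObj AlgebraicGeometry
open AbSch

attribute [-instance] CategoryTheory.catToReflQuiver

namespace Groth.Agent.S14328

/-- Let S be a locally Noetherian scheme, f : A → S and h : B → S abelian schemes of relative dimension
g (commutative S-group schemes, smooth and proper with geometrically connected fibres of dimension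
g) with unit sections e_A, e_B, and λ : A → B a homomorphism of S-group schemes which is finite,
flat and surjective and whose kernel is killed by an integer m ≥ 1 (every point x of A with λx = 1
satisfies x^m = 1). Let M be an invertible O_B-module which is rigidified along e_B, symmetric
([-1]^*M ≅ M), ample relative to S and principal (h_*M invertible), and put L = λ^*M. Assume f_*L is
finite locally free of rank d and let D = Λ^d f_*L, ω_A = Λ^g e_A^*Ω¹_{A/S}, ω_B = Λ^g
e_B^*Ω¹_{B/S}; put δ_A = D^{⊗2} ⊗ ω_A^{⊗d} and δ_B = (h_*M)^{⊗2} ⊗ ω_B. Then δ_A^{⊗m} is isomorphic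
to δ_B^{⊗md}. (The published statement covers semi-stable group schemes with cubical structures and
asserts a natural isomorphism compatible with admissible base change and change of model, together
with a finer formula involving a norm; this row is the case of abelian schemes and asserts the
existence of the isomorphism only.) -/
theorem result {S : Scheme.{u}} [IsLocallyNoetherian S]
    (A B : Over S) [GrpObj A] [IsCommMonObj A] [GrpObj B] [IsCommMonObj B] (g : ℕ) (hA : AgPol.IsAbSch A g) (hB : AgPol.IsAbSch B g)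
    (lam : A ⟶ B) [IsMonHom lam] (hfin : IsFinite lam.left) (hflat : Flat lam.left) (hsurj : Surjective lam.left)
    (m : ℕ) (hm : 1 ≤ m) (hker : ∀ (T : Over S) (x : T ⟶ A), x ≫ lam = 1 → x ^ m = 1)
    (M : B.left.Modules) (hM : PicF.IsInvertible M)
    (hrig : Nonempty ((Scheme.Modules.pullback η[B].left).obj M ≅ Coh.structureModule S))
    (hsym : Nonempty ((Scheme.Modules.pullback (𝟙 B ^ (-1 : ℤ)).left).obj M ≅ M))
    (hamp : RelAmple.IsRelAmple B.hom M) (hpr : PicF.IsInvertible ((Coh.push B.hom).obj M))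
    (d : ℕ) (hfree : FlatMod.IsFinLocFreeOfRank d ((Coh.push A.hom).obj ((Scheme.Modules.pullback lam.left).obj M)))
    (D : S.Modules) (hD : ExtPow.IsExtPow d ((Coh.push A.hom).obj ((Scheme.Modules.pullback lam.left).obj M)) D)
    (ωA : S.Modules) (hωA : ExtPow.IsExtPow g ((Scheme.Modules.pullback η[A].left).obj (Omega.sheaf A.hom)) ωA)
    (ωB : S.Modules) (hωB : ExtPow.IsExtPow g ((Scheme.Modules.pullback η[B].left).obj (Omega.sheaf B.hom)) ωB) :
    Nonempty (CohB1.tensorPow (CohB1.tensorMod (CohB1.tensorPow D 2) (CohB1.tensorPow ωA d)) m ≅ CohB1.tensorPow (CohB1.tensorMod (CohB1.tensorPow ((Coh.push B.hom).obj M) 2) ωB) (m * d)) := by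
  have := hA.proper
  have := hB.proper
  have hL : PicF.IsInvertible ((Scheme.Modules.pullback lam.left).obj M) :=
    Groth.Agent.Fdesc.LocGen.isInvertible_pullback _ hM
  have hDi : PicF.IsInvertible D := K451.DetMat.isInvertible_of_isExtPow hfree hD
  have hωAi : PicF.IsInvertible ωA :=
    K451.DetMat.isInvertible_of_isExtPow (K451.OmegaBox.isFinLocFreeOfRank_om hA) hωA
  have hωBi : PicF.IsInvertible ωB :=
    K451.DetMat.isInvertible_of_isExtPow (K451.OmegaBox.isFinLocFreeOfRank_om hB) hωB
  have hrig' : Grpsch.PicGrp.pull (K451.TopSide.et B) (Grpsch.PicGrp.mk M hM) = 1 :=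
    (Grpsch.PicGrp.mk_eq_one_iff _).mpr hrig
  have hsym' : K449.Cube.pl (𝟙 B ^ (-1 : ℤ)) (Grpsch.PicGrp.mk M hM) = Grpsch.PicGrp.mk M hM :=
    (Grpsch.PicGrp.mk_eq_iff _ _).mpr hsym
  have key := K450.KeyMain.key hA hB lam m hker hM hrig' hsym' hamp hpr (K645.Conc.isZero_Rpush hB hM hamp).1 hL rfl
    (K645.Conc.isZero_Rpush hA hL (K645.Conc.isRelAmple_pullback lam hamp)).1 hfree hωA hωAi hωB hωBi
  rw [← K451.DetPic.mk_eq_det hfree hD hDi] at key
  rw [← Grpsch.PicGrp.mk_tensorPow hDi, ← Grpsch.PicGrp.mk_tensorPow hωAi, ← Grpsch.PicGrp.mk_tensorPow hpr,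
    Grpsch.PicGrp.mk_mul_mk, Grpsch.PicGrp.mk_mul_mk, ← Grpsch.PicGrp.mk_tensorPow, ← Grpsch.PicGrp.mk_tensorPow] at key
  exact (Grpsch.PicGrp.mk_eq_iff _ _).mp key

end Groth.Agent.S14328
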