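import Groth.Statements.S16219
import Groth.Agent.Lim.K342.LftDominant
import Groth.Agent.Etcore.FGLim

set_option autoImplicit false
universe u
open Lim

namespace Groth.Agent.S16219

theorem exists_le {ι : Type u} {A C : Type u} [CommRing A] [CommRing C] [Algebra A C]
    (S : ι → Subalgebra A C) (hdir : Directed (· ≤ ·) S) (hcov : ∀ c : C, ∃ i, c ∈ S i)
    (B : Subalgebra A C) (hB : B.FG) : ∃ i, B ≤ S i := by
  classical
  obtain ⟨s, rfl⟩ := hB
  suffices h : ∀ s : Finset C, ∃ i, (s : Set C) ⊆ S i by
    obtain ⟨i, hi⟩ := h s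
    exact ⟨i, Algebra.adjoin_le hi⟩
  intro s
  induction s using Finset.induction_on with
  | empty =>
    obtain ⟨i, -⟩ := hcov 0
    exact ⟨i, by simp⟩
  | insert a s ha ih =>
    obtain ⟨i, hi⟩ := ih
    obtain ⟨j, hj⟩ := hcov a
    obtain ⟨k, hk, hk'⟩ := hdir i j
    refine ⟨k, ?_⟩
    rw [Finset.coe_insert]
    exact Set.insert_subset (hk' hj) (hi.trans hk)

open AlgebraicGeometry CategoryTheory Opposite Limits Groth.Agent.Etcore.FGLim in
theorem exists_fg (A C : Type u) [CommRing A] [CommRing C] [Algebra A C] [IsDomain C]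
    (X : Scheme.{u}) (f : X ⟶ Spec (CommRingCat.of A)) [LocallyOfFiniteType f]
    (g : Spec (CommRingCat.of C) ⟶ X)
    (hg : g ≫ f = Spec.map (CommRingCat.ofHom (algebraMap A C))) :
    ∃ (B : FGSub A C) (g' : Spec (CommRingCat.of B.1) ⟶ X),
      g' ≫ f = Spec.map (CommRingCat.ofHom (algebraMap A B.1)) ∧
      Spec.map (CommRingCat.ofHom B.1.val.toRingHom) ≫ g' = g := by
  let D : (FGSub A C)ᵒᵖ ⥤ Scheme.{u} := (fgSys A C).op ⋙ Scheme.Spec
  let c : Cone D := Scheme.Spec.mapCone (fgCocone A C).op
  have hc : IsLimit c := isLimitOfPreserves Scheme.Spec (isColimitFG A C).op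
  let t : D ⟶ (Functor.const _).obj (Spec (CommRingCat.of A)) :=
    { app := fun j => Spec.map (CommRingCat.ofHom (algebraMap A j.unop.1))
      naturality := fun j k a => by
        change Spec.map _ ≫ Spec.map _ = Spec.map _ ≫ 𝟙 _
        rw [← Spec.map_comp, Category.comp_id]
        rfl }
  have h1 : ∀ j, IsAffine (D.obj j) := fun j =>
    inferInstanceAs (IsAffine (Spec (CommRingCat.of j.unop.1)))
  have h2 : ∀ j, IsReduced (D.obj j) := fun j =>
    inferInstanceAs (IsReduced (Spec (CommRingCat.of j.unop.1)))
  have h3 : ∀ j, IsDominant (c.π.app j) := fun j => by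
    change IsDominant (Spec.map (CommRingCat.ofHom j.unop.1.val.toRingHom))
    refine ⟨?_⟩
    refine (PrimeSpectrum.denseRange_comap_iff_ker_le_nilRadical _).2 ?_
    rw [(RingHom.injective_iff_ker_eq_bot _).1]
    · exact bot_le
    · exact Subtype.val_injective
  obtain ⟨j, g', h5, h6⟩ := K342.LftDominant.exists_π_app_comp_eq D t f c hc g (by
    ext j
    change Spec.map _ ≫ Spec.map _ = g ≫ f
    rw [hg, ← Spec.map_comp]
    rfl)
  exact ⟨j.unop, g', h6, h5⟩

open AlgebraicGeometry CategoryTheory in
/-- Let A be a commutative ring, X a scheme of finite type over Spec A (quasi-compact and locally of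
finite type), C an A-algebra that is an integral domain and the union of a directed family of
A-subalgebras C_i, and g : Spec C → X an A-morphism. Then for some index i there is an A-morphism
Spec C_i → X whose composite with the morphism Spec C → Spec C_i induced by the inclusion is g. The
published statement asserts that the map from the colimit of the sets of A-morphisms Spec C_i → X to
the set of A-morphisms Spec C → X is bijective; this row states only that it is surjective
(injectivity holds for every filtered colimit of A-algebras). -/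
theorem result
    {ι : Type u} (A C : Type u) [CommRing A] [CommRing C] [Algebra A C] [IsDomain C]
    (S : ι → Subalgebra A C) (hdir : Directed (· ≤ ·) S) (hcov : ∀ c : C, ∃ i, c ∈ S i)
    (X : Scheme.{u}) (f : X ⟶ Spec (CommRingCat.of A))
    [LocallyOfFiniteType f] [QuasiCompact f]
    (g : Spec (CommRingCat.of C) ⟶ X)
    (hg : g ≫ f = Spec.map (CommRingCat.ofHom (algebraMap A C))) :
    ∃ (i : ι) (g' : Spec (CommRingCat.of (S i)) ⟶ X),
      g' ≫ f = Spec.map (CommRingCat.ofHom (algebraMap A (S i))) ∧
      Spec.map (CommRingCat.ofHom (S i).val.toRingHom) ≫ g' = g := by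
  obtain ⟨B, g', h1, h2⟩ := exists_fg A C X f g hg
  obtain ⟨i, hi⟩ := exists_le S hdir hcov B.1 B.2
  refine ⟨i, Spec.map (CommRingCat.ofHom (Subalgebra.inclusion hi).toRingHom) ≫ g', ?_, ?_⟩
  · rw [Category.assoc, h1, ← Spec.map_comp]
    rfl
  · rw [← Category.assoc, ← Spec.map_comp]
    exact h2

end Groth.Agent.S16219
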