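import Groth.Statements.S8712
import Groth.Agent.SGA7.K564.ExtTwisted

set_option autoImplicit false
universe u
open CategoryTheory CategoryTheory.Limits MonoidalCategory CartesianMonoidalCategory MonObj AlgebraicGeometry
open SGA7

namespace Groth.Agent.S8712

open K564.ConstTors K564.ExtAlg K564.ExtBase K564.ExtTwisted

theorem torsionFree (r : ℕ) (z : ULift.{u} (Multiplicative (Fin r → ℤ))) (h : IsOfFinOrder z) : z = 1 := by
  obtain ⟨n, hn, h1⟩ := isOfFinOrder_iff_pow_eq_one.1 h
  have h2 : z.down ^ n = 1 := congrArg ULift.down h1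
  have h3 : n • (Multiplicative.toAdd z.down) = 0 := h2
  apply ULift.ext
  apply Multiplicative.toAdd.injective
  funext i
  have h4 := congrFun h3 i
  rw [Pi.smul_apply, Pi.zero_apply, smul_eq_zero] at h4
  exact h4.resolve_left hn.ne'

theorem exists_cover {S : Scheme.{u}} {P E M : Over S} [GrpObj P] [GrpObj E] [GrpObj M]
    (hM : TwC.Locally S TwC.Topology.fpqc (fun S' f =>
      ∃ (r : ℕ) (e : Red.bc f M ≅ TwC.const S' (Multiplicative (Fin r → ℤ))),
        TwC.IsConstGrp (Multiplicative (Fin r → ℤ)) (Red.bc f M) e))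
    (u : M ⟶ E) (v : E ⟶ P) [IsMonHom u] [IsMonHom v] (huv : u ≫ v = 1)
    (hpb : IsPullback (fst E M) ((E ◁ u) ≫ μ[E]) v v) :
    ∃ R ∈ Scheme.fpqcPrecoverage S, ∀ ⦃W : Scheme.{u}⦄ (f : W ⟶ S), R f → ConstOver v f := by
  obtain ⟨S', f, hfl, hsurj, hc, hU⟩ := hM
  choose U hmem r e he using hU
  have h1 : Presieve.ofArrows (fun _ : PUnit.{u + 1} => S') (fun _ => f) ∈ Scheme.fpqcPrecoverage S := by
    rw [Presieve.ofArrows_pUnit]
    exact K206.Fpqc.isFpqc_iff_singleton_mem.1 ⟨hfl, hsurj, hc⟩
  have h2 : Presieve.ofArrows (fun s' : S' => (U s' : Scheme.{u})) (fun s' => (U s').ι) ∈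
      Scheme.fpqcPrecoverage S' := by
    apply Scheme.zariskiPrecoverage_le_fpqcPrecoverage
    change _ ∈ Scheme.precoverage @IsOpenImmersion S'
    rw [Scheme.ofArrows_mem_precoverage_iff]
    exact ⟨fun s' => ⟨s', ⟨s', hmem s'⟩, rfl⟩, fun s' => inferInstance⟩
  refine ⟨_, Precoverage.comp_mem_coverings (fun _ : PUnit.{u + 1} => f) h1 (fun _ s' => (U s').ι)
    (fun _ => h2), ?_⟩
  rintro _ _ ⟨⟨_, s'⟩⟩
  exact ⟨ULift.{u} (Multiplicative (Fin (r s') → ℤ)), inferInstance, torsionFree _,
    ⟨ctBc ((U s').ι ≫ f) (isConstGrp_ulift (e s') (he s')) u v huv hpb⟩⟩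

/-- The vanishing of Ext¹(P, M) proved there: let S be a scheme, P a commutative S-group scheme which is
smooth and of finite presentation over S (smooth, quasi-compact, quasi-separated) with geometrically
connected fibres, M a commutative S-group scheme which is a twisted constant group with fibres Z^r:
after a flat surjective base change S' → S which is an fpqc covering, Zariski-locally on S', M
becomes the constant group scheme of Z^r for some r (allowed to vary), and u : M → E, v : E → P
homomorphisms of commutative S-group schemes forming a sequence 1 → M → E → P → 1 exact for the fppf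
topology. Then every homomorphism P → M is trivial, and the extension E of P by M is trivial: there
is a homomorphism s : P → E with s followed by v equal to the identity of P. -/
theorem result (S : Scheme.{u})
    (P E M : Over S) [GrpObj P] [GrpObj E] [GrpObj M] [IsCommMonObj P] [IsCommMonObj E] [IsCommMonObj M]
    [Smooth P.hom] [QuasiCompact P.hom] [QuasiSeparated P.hom] [GeometricallyConnected P.hom]
    (hM : TwC.Locally S TwC.Topology.fpqc (fun S' f =>
      ∃ (r : ℕ) (e : Red.bc f M ≅ TwC.const S' (Multiplicative (Fin r → ℤ))),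
        TwC.IsConstGrp (Multiplicative (Fin r → ℤ)) (Red.bc f M) e))
    (u : M ⟶ E) (v : E ⟶ P) (hex : NonAbH1.IsExactSeq Scheme.fppfPrecoverage u v) :
    (∀ φ : P ⟶ M, IsMonHom φ → φ = 1) ∧ ∃ s : P ⟶ E, IsMonHom s ∧ s ≫ v = 𝟙 P := by
  obtain ⟨hu, hv, huv, hpb, hloc⟩ := hex
  obtain ⟨R, hR, hc⟩ := exists_cover hM u v huv hpb
  have hmono : Mono u := mono_of_pb u v hpb
  have hηP : (η[P] : 𝟙_ (Over S) ⟶ P).left ≫ P.hom = 𝟙 S := Over.w (η[P] : 𝟙_ (Over S) ⟶ P)
  constructor
  · intro φ hφ
    rw [← cancel_mono u, one_comp]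
    apply Over.OverMorphism.ext
    refine eq_of_cover hR v hc P.hom (η[P] : 𝟙_ (Over S) ⟶ P).left hηP _ _ (Over.w _) ?_ ?_
    · rw [← Over.comp_left, ← Over.comp_left, Category.assoc, huv, comp_one, one_comp]
    · rw [← Over.comp_left, ← Over.comp_left, ← Category.assoc, IsMonHom.one_hom φ, IsMonHom.one_hom u,
        comp_one, MonObj.one_eq_one]
  · have hηE : (η[E] : 𝟙_ (Over S) ⟶ E).left ≫ v.left = (η[P] : 𝟙_ (Over S) ⟶ P).left := by
      rw [← Over.comp_left, IsMonHom.one_hom]
    obtain ⟨s, hs1, hs2⟩ := exists_section_of_cover hR v (locTriv_of v.left hloc) hc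
      (η[P] : 𝟙_ (Over S) ⟶ P).left hηP (η[E] : 𝟙_ (Over S) ⟶ E).left hηE
    let g : P ⟶ E := Over.homMk s (by rw [← Over.w v, ← Category.assoc, hs1, Category.id_comp])
    have hgv : g ≫ v = 𝟙 P := Over.OverMorphism.ext hs1
    have hη : η[P] ≫ g = η[E] := Over.OverMorphism.ext hs2
    refine ⟨g, ⟨hη, ?_⟩, hgv⟩
    have hconn : GeometricallyConnected (P ⊗ P).hom := by
      have h1 : GeometricallyConnected (pullback.fst P.hom P.hom) := inferInstance
      exact GeometricallyConnected.comp (pullback.fst P.hom P.hom) P.hom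
    apply Over.OverMorphism.ext
    refine eq_of_cover hR v hc (P ⊗ P).hom (lift η[P] η[P]).left (Over.w (lift η[P] η[P])) _ _ (Over.w _) ?_ ?_
    · rw [← Over.comp_left, ← Over.comp_left]
      congr 1
      rw [Category.assoc, Category.assoc, hgv, Category.comp_id, IsMonHom.mul_hom v, ← Category.assoc (g ⊗ₘ g),
        tensorHom_comp_tensorHom, hgv, id_tensorHom_id, Category.id_comp]
    · rw [← Over.comp_left, ← Over.comp_left]
      congr 1
      have h1 : ∀ (Q : Over S) [GrpObj Q], lift η[Q] η[Q] ≫ μ[Q] = η[Q] := by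
        intro Q _
        rw [← Hom.mul_def]
        have h2 : (η[Q] : 𝟙_ (Over S) ⟶ Q) = 1 := by
          rw [Hom.one_def, toUnit_unique (toUnit (𝟙_ (Over S))) (𝟙 _), Category.id_comp]
        rw [h2, _root_.mul_one]
      rw [← Category.assoc, h1, hη, ← Category.assoc, lift_map, hη, h1]

end Groth.Agent.S8712
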