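import Groth.Statements.S19288
-- import your own Groth.Agent.* helpers here

set_option autoImplicit false
universe u
open CategoryTheory CategoryTheory.Limits MonoidalCategory CartesianMonoidalCategory MonObj AlgebraicGeometry
open AbSch

namespace Groth.Agent.S19288

/-- A morphism `t` whose composite with an unramified morphism `h` is an open immersion is an open immersion. -/
private theorem isOpenImmersion_of_postcomp' {A B C : Scheme.{u}} (t : A ⟶ B) (h : B ⟶ C)
    [FormallyUnramified h] [LocallyOfFiniteType h] [IsOpenImmersion (t ≫ h)] :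
    IsOpenImmersion t := by
  let gr : A ⟶ pullback (t ≫ h) h := pullback.lift (𝟙 A) t (by simp)
  have e : gr ≫ pullback.snd (t ≫ h) h = t := pullback.lift_snd _ _ _
  have h1 : IsOpenImmersion gr :=
    MorphismProperty.of_isPullback (P := @IsOpenImmersion)
      (pullback_lift_diagonal_isPullback t h)
      (inferInstanceAs (IsOpenImmersion (pullback.diagonal h)))
  have h2 : IsOpenImmersion (gr ≫ pullback.snd (t ≫ h) h) := inferInstance
  rwa [e] at h2


/-- Let S be a scheme, X a commutative S-group scheme which is etale and separated over S (hence locally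
of finite presentation), and P a commutative S-group scheme of finite presentation over S all of
whose fibres are connected. Then every homomorphism of S-group schemes from P to X is trivial (it
factors through the unit section). -/
theorem result {S : Scheme.{u}} (P X : Over S)
    [GrpObj P] [IsCommMonObj P] [GrpObj X] [IsCommMonObj X]
    [Etale X.hom] [IsSeparated X.hom]
    [QuasiCompact P.hom] [QuasiSeparated P.hom] [LocallyOfFinitePresentation P.hom]
    (hP : ∀ s : S, ConnectedSpace ↥(P.hom.fiber s))
    (f : P ⟶ X) [IsMonHom f] : f = 1 := by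
  have hwe : η[X].left ≫ X.hom = 𝟙 S := Over.w η[X]
  have : IsOpenImmersion (η[X].left ≫ X.hom) := by
    rw [hwe]; exact inferInstanceAs (IsOpenImmersion (𝟙 S))
  have ho : IsOpenImmersion η[X].left := isOpenImmersion_of_postcomp' η[X].left X.hom
  have : IsClosedImmersion (η[X].left ≫ X.hom) := by
    rw [hwe]; exact inferInstanceAs (IsClosedImmersion (𝟙 S))
  have hc : IsClosedImmersion η[X].left := IsClosedImmersion.of_comp η[X].left X.hom
  let W : Set ↥P.left := f.left ⁻¹' (Set.range η[X].left)
  have hW : IsClopen W :=
    ⟨η[X].left.isClosedEmbedding.isClosed_range.preimage f.left.continuous,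
      (ho.isOpen_range).preimage f.left.continuous⟩
  have hall : ∀ p : ↥P.left, p ∈ W := by
    intro p
    let s : S := P.hom p
    have := hP s
    have hcl : IsClopen ((P.hom.fiberι s) ⁻¹' W) := hW.preimage (P.hom.fiberι s).continuous
    have hηs : (η[P].left ≫ P.hom) = 𝟙 S := Over.w η[P]
    have hmem : η[P].left s ∈ Set.range (P.hom.fiberι s) := by
      rw [Scheme.Hom.range_fiberι]
      change P.hom (η[P].left s) = s
      rw [← Scheme.Hom.comp_apply, hηs]; rfl
    obtain ⟨z, hz⟩ := hmem
    have hne : ((P.hom.fiberι s) ⁻¹' W).Nonempty := by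
      refine ⟨z, ?_⟩
      change f.left (P.hom.fiberι s z) ∈ Set.range η[X].left
      rw [hz, ← Scheme.Hom.comp_apply]
      have : η[P].left ≫ f.left = η[X].left := by
        rw [← Over.comp_left, IsMonHom.one_hom]
      rw [this]
      exact ⟨s, rfl⟩
    have huniv := hcl.eq_univ hne
    have hp : p ∈ Set.range (P.hom.fiberι s) := by
      rw [Scheme.Hom.range_fiberι]; rfl
    obtain ⟨y, hy⟩ := hp
    have : y ∈ (P.hom.fiberι s) ⁻¹' W := by rw [huniv]; trivial
    rw [← hy]; exact this
  have hr : Set.range f.left ⊆ Set.range η[X].left := by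
    rintro _ ⟨p, rfl⟩
    exact hall p
  apply Over.OverMorphism.ext
  have hl : IsOpenImmersion.lift η[X].left f.left hr ≫ η[X].left = f.left := IsOpenImmersion.lift_fac _ _ _
  have hl2 : IsOpenImmersion.lift η[X].left f.left hr = P.hom := by
    have h3 : f.left ≫ X.hom = P.hom := Over.w f
    have h4 : (IsOpenImmersion.lift η[X].left f.left hr ≫ η[X].left) ≫ X.hom = f.left ≫ X.hom :=
      congrArg (· ≫ X.hom) hl
    rw [Category.assoc, hwe, h3] at h4
    rw [← h4]
    exact (Category.comp_id _).symm
  rw [← hl, hl2, Hom.one_def, Over.comp_left]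
  rfl

end Groth.Agent.S19288
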