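import Groth.Statements.S19290
import Groth.Agent.AbSch.K452.HomPts
import Groth.Agent.AbSch.K452.TorusRig
import Groth.Agent.AbSch.K453.HomShEx

set_option autoImplicit false
universe u
open CategoryTheory CategoryTheory.Limits MonoidalCategory CartesianMonoidalCategory MonObj AlgebraicGeometry
open AbSch

namespace Groth.Agent.S19290

/-- Let S be a scheme, T an S-torus and A an abelian S-scheme (smooth, proper, with connected fibres).
Then the S-sheaf of homomorphisms from T to A is trivial: the internal Hom sheaf, on the big fppf
site of S, from the abelian sheaf of points of T to that of A is the zero sheaf. -/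
theorem result {S : Scheme.{u}} (T A : Over S)
    [GrpObj T] [IsCommMonObj T] (hT : Red.IsTorus T)
    [GrpObj A] [IsCommMonObj A] [Smooth A.hom] [IsProper A.hom]
    (hA : ∀ s : S, ConnectedSpace ↥(A.hom.fiber s)) :
    IsZero (HomSh.homSh (QuotSh.J Scheme.fppfPrecoverage S) (CGrpSh.pts Scheme.fppfPrecoverage T) (CGrpSh.pts Scheme.fppfPrecoverage A)) := by
  rw [K453.HomShEx.isZero_homSh_iff]
  intro X φ
  apply K452.HomPts.eq_zero_of_toHom
  have := K452.HomPts.isMonHom_toHom φ
  have h1 : IsProper (Red.bc X.hom A).hom := inferInstanceAs (IsProper (pullback.snd A.hom X.hom))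
  exact K452.TorusRig.hom_eq_one (Groth.Agent.Sga3B.TorusBc.isTorus_bc X.hom hT) (K452.HomPts.toHom φ)

end Groth.Agent.S19290
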