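import Groth.Statements.S10122
import Groth.Agent.AlgSp.K608.Stab
import Groth.Agent.AlgSp.K608.Comp
import Groth.Agent.AlgSp.K595.DiagRel
import Groth.Agent.S9912

set_option autoImplicit false
universe u
open CategoryTheory CategoryTheory.Limits AlgebraicGeometry
open AlgSp AlgSp.GroupoidSp

namespace Groth.Agent.S10122

open K608.Gpd in
theorem cycle {S : Scheme.{u}} {B : AlgSp.Sp S} (G : AlgSp.GroupoidSp B)
    (eG : G.U ⟶ G.stabilizer) (heG : eG ≫ G.stabilizerι = G.e)
    (P : MorphismProperty Scheme.{u}) :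
    (AlgSp.RepWith P (pullback.diagonal G.stabilizerToU) → AlgSp.RepWith P eG) ∧
    (AlgSp.RepWith P eG → AlgSp.RepWith P (pullback.diagonal G.j)) := by
  constructor
  · intro h
    exact K595.DiagRel.repWith_section G.stabilizerToU eG (eG_toU G heG) h
  · intro h
    obtain ⟨δ, sq⟩ := exists_isPullback_diagonal_j G heG
    exact MorphismProperty.of_isPullback (P := RepWith P) sq h

open K608.Gpd in
theorem bc {S : Scheme.{u}} {B : AlgSp.Sp S} (G : AlgSp.GroupoidSp B)
    (P : MorphismProperty Scheme.{u}) [P.IsStableUnderBaseChange] :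
    AlgSp.RepWith P (pullback.diagonal G.j) → AlgSp.RepWith P (pullback.diagonal G.stabilizerToU) := by
  intro h
  exact MorphismProperty.of_isPullback (P := (RepWith (S := S) P).diagonal)
    (isPullback_stabilizer G) h

open K608.Gpd in
/-- Let `(U, R, s, t, c)` be a groupoid in algebraic spaces over `B` with stabilizer `G ⟶ U` and unit
section `e : U ⟶ G`. Then (1) `j : R ⟶ U ×_B U` is separated iff `G ⟶ U` is separated iff `e` is a
closed immersion; (3) `j` is quasi-separated iff `G ⟶ U` is quasi-separated iff `e` is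
quasi-compact; (2) if `j` or `G ⟶ U` is locally separated then `e` is an immersion. The unit section
is written as any morphism `U ⟶ G` lifting the identity `e : U ⟶ R` of the groupoid. (The published
part (2) is a three-way equivalence; this row states only that `j` locally separated, or `G ⟶ U`
locally separated, implies that `e` is an immersion.) -/
theorem result (S : Scheme.{u}) (B : AlgSp.Sp S) (hB : AlgSp.IsAlgSpace B)
    (G : AlgSp.GroupoidSp B) (hU : AlgSp.IsAlgSpace G.U) (hR : AlgSp.IsAlgSpace G.R)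
    (eG : G.U ⟶ G.stabilizer) (heG : eG ≫ G.stabilizerι = G.e) :
    ((AlgSp.IsSeparatedMor G.j ↔ AlgSp.IsSeparatedMor G.stabilizerToU) ∧
        (AlgSp.IsSeparatedMor G.j ↔ AlgSp.RepWith @IsClosedImmersion eG)) ∧
      ((AlgSp.IsQuasiSeparatedMor G.j ↔ AlgSp.IsQuasiSeparatedMor G.stabilizerToU) ∧
        (AlgSp.IsQuasiSeparatedMor G.j ↔ AlgSp.IsQuasiCompactMor eG)) ∧
      ((AlgSp.IsLocallySeparatedMor G.j → AlgSp.RepWith @IsImmersion eG) ∧
        (AlgSp.IsLocallySeparatedMor G.stabilizerToU → AlgSp.RepWith @IsImmersion eG)) := by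
  have hUU := K608.Comp.isAlgSpace_pullback G.pU G.pU hU hU hB
  have hSt : AlgSp.IsAlgSpace G.stabilizer :=
    K608.Comp.isAlgSpace_of_isPullback (isPullback_stabilizer G) hR hU hUU
  have hrep : AlgSp.Representable eG :=
    K595.DiagRel.representable_section G.stabilizerToU eG (eG_toU G heG)
      (K595.DiagRel.representable_diagonal hSt _)
  have hqc : AlgSp.RepWith @QuasiCompact eG ↔ AlgSp.IsQuasiCompactMor eG :=
    Groth.Agent.S9912.result (X := ⟨G.U, hU⟩) (Y := ⟨_, hSt⟩) (ObjectProperty.homMk eG) hrep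
  refine ⟨⟨?_, ?_⟩, ⟨?_, ?_⟩, ?_, ?_⟩
  · exact ⟨bc G _, fun h => (cycle G eG heG _).2 ((cycle G eG heG _).1 h)⟩
  · exact ⟨fun h => (cycle G eG heG _).1 (bc G _ h), (cycle G eG heG _).2⟩
  · exact ⟨bc G _, fun h => (cycle G eG heG _).2 ((cycle G eG heG _).1 h)⟩
  · rw [← hqc]
    exact ⟨fun h => (cycle G eG heG _).1 (bc G _ h), (cycle G eG heG _).2⟩
  · exact fun h => (cycle G eG heG _).1 (bc G _ h)
  · exact (cycle G eG heG _).1

end Groth.Agent.S10122
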