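import Groth.Statements.S10128
import Groth.Agent.S10122
import Groth.Agent.AlgSp.K608.DecSec
import Groth.Agent.AlgSp.K608.SepAbs
import Groth.Agent.AlgSp.K620.Dec

set_option autoImplicit false
universe u
open CategoryTheory CategoryTheory.Limits AlgebraicGeometry
open AlgSp AlgSp.GroupoidSp

namespace Groth.Agent.S10128

open K608.Gpd in
/-- Let `(U, R, s, t, c)` be a groupoid in algebraic spaces over `B` whose object space is `U = Spec k`,
with `k` a field, and assume `R` is a decent algebraic space. Then `R` is separated over the base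
scheme `S`. (The published statement concludes that `R` is separated in the absolute sense; this row
concludes that `R` is separated over `S`, which the absolute notion implies.) -/
theorem result (S : Scheme.{u}) (B : AlgSp.Sp S) (hB : AlgSp.IsAlgSpace B)
    (G : AlgSp.GroupoidSp B) (hR : AlgSp.IsAlgSpace G.R) (k : Type u) [Field k]
    (σ : Spec (CommRingCat.of k) ⟶ S) (eU : G.U ≅ (AlgSp.yon S).obj (Over.mk σ)) (hd : AlgSp.IsDecent G.R) :
    AlgSp.IsSeparatedSp G.R := by
  have hU : AlgSp.IsAlgSpace G.U := (AlgSp.IsAlgSpace.yon_obj _).of_iso eU.symm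
  have hUU := K608.Comp.isAlgSpace_pullback G.pU G.pU hU hU hB
  have hSt : AlgSp.IsAlgSpace G.stabilizer :=
    K608.Comp.isAlgSpace_of_isPullback (isPullback_stabilizer G) hR hU hUU
  -- `U` is separated over `S`
  have hσ : IsSeparated σ := by
    have : IsSeparated (σ ≫ terminal.from S) := by
      rw [terminal.comp_from]
      infer_instance
    exact IsSeparated.of_comp σ (terminal.from S)
  have hUs0 : AlgSp.IsSeparatedSp ((AlgSp.yon S).obj (Over.mk σ)) :=
    (repWith_diag_yon_iff _ _).2 hσ.diagonal_isClosedImmersion
  have hUs1 : AlgSp.IsSeparatedMor eU.hom := by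
    have : IsIso (pullback.diagonal eU.hom) := inferInstance
    exact MorphismProperty.of_isIso (RepWith @IsClosedImmersion) _
  have hUs : AlgSp.IsSeparatedSp G.U := K608.SepAbs.isSeparatedSp_of_isSeparatedMor eU.hom hUs1 hUs0
  -- the diagonal of `U` over `B`
  have hdiag : AlgSp.RepWith @IsClosedImmersion G.diag :=
    K608.SepAbs.isSeparatedMor_of_isSeparatedSp G.pU hUs
  have hι : AlgSp.RepWith @IsClosedImmersion G.stabilizerι :=
    MorphismProperty.of_isPullback (P := RepWith @IsClosedImmersion) (isPullback_stabilizer G).flip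
      hdiag
  have hdec : AlgSp.IsDecent G.stabilizer := K620.Dec.isDecent_of_representable _ hι.1 hd
  -- the unit section is a closed immersion
  obtain ⟨eG, heG⟩ := exists_toStabilizer G G.e (by rw [G.e_s, G.e_t])
  have he : AlgSp.RepWith @IsClosedImmersion (eU.inv ≫ eG) := by
    refine K608.DecSec.repWith_isClosedImmersion_section hSt hdec (G.stabilizerToU ≫ eU.hom) _ ?_
    rw [Category.assoc, ← Category.assoc eG, eG_toU G heG, Category.id_comp, eU.inv_hom_id]
  have he' : AlgSp.RepWith @IsClosedImmersion eG := by
    have h := MorphismProperty.RespectsIso.precomp (RepWith @IsClosedImmersion) eU.hom _ he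
    rwa [eU.hom_inv_id_assoc] at h
  have hj : AlgSp.IsSeparatedMor G.j :=
    (Groth.Agent.S10122.result S B hB G hU hR eG heG).1.2.2 he'
  have hUUs : AlgSp.IsSeparatedSp (pullback G.pU G.pU) := by
    refine K608.SepAbs.isSeparatedSp_of_isSeparatedMor (pullback.fst G.pU G.pU) ?_ hUs
    exact MorphismProperty.of_isPullback (P := IsSeparatedMor)
      (IsPullback.of_hasPullback G.pU G.pU).flip
      (K608.SepAbs.isSeparatedMor_of_isSeparatedSp G.pU hUs)
  exact K608.SepAbs.isSeparatedSp_of_isSeparatedMor G.j hj hUUs

end Groth.Agent.S10128
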