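import Groth.Statements.S10127
import Groth.Agent.S10128
import Groth.Agent.AlgSp.K608.GrpGpd

set_option autoImplicit false
universe u
open CategoryTheory CategoryTheory.Limits AlgebraicGeometry MonoidalCategory MonObj
open AlgSp

namespace Groth.Agent.S10127

/-- A group algebraic space over a field `k` which is a decent algebraic space is separated. (The
published situation allows any base scheme `S` with `k` a field over `S`; this row takes `S = Spec
k`.) -/
theorem result (k : Type u) [Field k]
    (G : Over ((AlgSp.yon (Spec (CommRingCat.of k))).obj (Over.mk (𝟙 _)))) [GrpObj G]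
    (hG : AlgSp.IsAlgSpace G.left) (hd : AlgSp.IsDecent G.left) : AlgSp.IsSeparatedSp G.left :=
  Groth.Agent.S10128.result (Spec (CommRingCat.of k)) _ (AlgSp.IsAlgSpace.yon_obj _)
    (K608.GrpGpd.ofGrp G) hG k (𝟙 _) (Iso.refl _) hd

end Groth.Agent.S10127
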