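import Groth.Statements.S10350
import Groth.Agent.AlgSp.K618.QCPoint
import Groth.Agent.S10361

set_option autoImplicit false
universe u
open CategoryTheory CategoryTheory.Limits AlgebraicGeometry Topology TopologicalSpace
open AlgSp

namespace Groth.Agent.S10350

/-- For a scheme S, every algebraic space X over S whose diagonal X ⟶ X ×_S X is representable
quasi-compact (X quasi-separated over S) is decent: each point of |X| is the class of some
monomorphism Spec k ⟶ X which is representable quasi-compact. (The published statement assumes X
quasi-separated in the absolute sense, a condition which implies quasi-separatedness over S; this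
row assumes only quasi-separatedness over S.) -/
theorem result {S : Scheme.{u}} (X : AlgSp.Space S)
    (hX : AlgSp.IsQuasiSeparatedSp X.obj) : AlgSp.IsDecent X.obj := by
  intro x
  obtain ⟨q, rfl⟩ := AlgSp.Points.mk_surjective x
  have hq : QuasiCompact q.pt.hom := inferInstanceAs (QuasiCompact q.str)
  exact Groth.Agent.S10361.result X q (K618.QCPoint.repWith_quasiCompact_of_qs hX hq q.toHom)

end Groth.Agent.S10350
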