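import Groth.Statements.S10211
import Groth.Agent.AlgSp.K611.Pt

set_option autoImplicit false
universe u
open CategoryTheory CategoryTheory.Limits AlgebraicGeometry Topology TopologicalSpace
open AlgSp

namespace Groth.Agent.S10211

/-- If f : X ⟶ Y is an etale morphism of algebraic spaces over a scheme S, then the induced map of
topological spaces |X| → |Y| is open. -/
theorem result {S : Scheme.{u}} {X Y : AlgSp.Space S} (f : X ⟶ Y)
    (hf : AlgSp.IsEtaleMor f.hom) :
    IsOpenMap (AlgSp.Points.map f.hom) := by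
  intro O hO
  obtain ⟨U, a, ha, ha'⟩ := X.property.atlas
  have h1 : AlgSp.Points.map f.hom '' O = AlgSp.Points.ofPt (a ≫ f.hom) '' (AlgSp.Points.ofPt a ⁻¹' O) := by
    ext y
    constructor
    · rintro ⟨x, hx, rfl⟩
      obtain ⟨u, rfl⟩ := K611.ofPt_surjective ha' x
      exact ⟨u, hx, (AlgSp.Points.map_ofPt a f.hom u).symm⟩
    · rintro ⟨u, hu, rfl⟩
      exact ⟨AlgSp.Points.ofPt a u, hu, AlgSp.Points.map_ofPt a f.hom u⟩
  rw [h1]
  exact K611.isOpenMap_ofPt (hf a ha) _ (hO.preimage (AlgSp.Points.continuous_ofPt a))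

end Groth.Agent.S10211
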