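import Groth.Statements.S10120
import Groth.Agent.AlgSp.K626.GrpFinal
import Groth.Agent.S10119

set_option autoImplicit false
universe u
open CategoryTheory CategoryTheory.Limits AlgebraicGeometry MonoidalCategory MonObj
open AlgSp

namespace Groth.Agent.S10120

/-- A group algebraic space over a field `k` that is separated over `k` is a scheme. -/
theorem result (k : Type u) [Field k]
    (G : Over ((AlgSp.yon (Spec (CommRingCat.of k))).obj (Over.mk (𝟙 _)))) [GrpObj G]
    (hG : AlgSp.IsAlgSpace G.left) (hsep : AlgSp.IsSeparatedSp G.left) :
    G.left.obj.IsRepresentable := by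
  exact K626.GrpFinal.main G hG hsep (Groth.Agent.S10119.result k G hG hsep)

end Groth.Agent.S10120
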