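import Groth.Statements.S5212
import Mathlib.RingTheory.LocalRing.ResidueField.Fiber
import Mathlib.LinearAlgebra.Charpoly.BaseChange

set_option autoImplicit false
universe u
open GrpQ
open scoped TensorProduct

namespace Groth.Agent.S5212

/-- For `A'` finite and free as an `A`-module, a prime `p` of `A` and `a ∈ A'`, the element `a` belongs
to some prime of `A'` lying over `p` if and only if its norm belongs to `p`. (The published
statement allows `A'` projective of constant rank over `A`; this row takes `A'` free, where the norm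
is the determinant of multiplication.) -/
theorem result {A A' : Type u} [CommRing A] [CommRing A'] [Algebra A A']
    [Module.Free A A'] [Module.Finite A A'] (p : Ideal A) [p.IsPrime] (a : A') :
    (∃ q : Ideal A', q.IsPrime ∧ q.LiesOver p ∧ a ∈ q) ↔ Algebra.norm A a ∈ p := by
  let F := p.Fiber A'
  have h1 : IsUnit ((1 : p.ResidueField) ⊗ₜ[A] a : F) ↔ Algebra.norm A a ∉ p := by
    have e : (LinearMap.baseChange p.ResidueField (Algebra.lmul A A' a)) =
        Algebra.lmul p.ResidueField F ((1 : p.ResidueField) ⊗ₜ[A] a : F) := by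
      ext x
      change (1 : p.ResidueField) ⊗ₜ[A] (a * x) =
        ((1 : p.ResidueField) ⊗ₜ[A] a) * ((1 : p.ResidueField) ⊗ₜ[A] x)
      rw [Algebra.TensorProduct.tmul_mul_tmul, one_mul]
    have h2 : IsUnit (Algebra.lmul p.ResidueField F ((1 : p.ResidueField) ⊗ₜ[A] a : F)) ↔
        IsUnit ((1 : p.ResidueField) ⊗ₜ[A] a : F) := by
      constructor
      · intro h
        rw [Module.End.isUnit_iff] at h
        obtain ⟨y, hy⟩ := h.2 1
        exact IsUnit.of_mul_eq_one y hy
      · intro h
        exact h.map (Algebra.lmul p.ResidueField F)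
    rw [← h2, LinearMap.isUnit_iff_isUnit_det, ← e, LinearMap.det_baseChange, isUnit_iff_ne_zero,
      Ne, Ideal.algebraMap_residueField_eq_zero]
    rfl
  rw [← not_iff_not, ← h1]
  constructor
  · intro h
    by_contra hu
    obtain ⟨m, hm, hmem⟩ := exists_max_ideal_of_mem_nonunits hu
    let Q : PrimeSpectrum F := ⟨m, hm.isPrime⟩
    refine h ⟨((PrimeSpectrum.primesOverOrderIsoFiber A A' p).symm Q).1,
      ((PrimeSpectrum.primesOverOrderIsoFiber A A' p).symm Q).2.1,
      ((PrimeSpectrum.primesOverOrderIsoFiber A A' p).symm Q).2.2, ?_⟩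
    rw [PrimeSpectrum.coe_primesOverOrderIsoFiber_symm_apply]
    exact hmem
  · rintro h ⟨q, hq, hqp, haq⟩
    let Q := (PrimeSpectrum.primesOverOrderIsoFiber A A' p) ⟨q, hq, hqp⟩
    have hQ : ((PrimeSpectrum.primesOverOrderIsoFiber A A' p).symm Q).1 = q := by
      simp [Q]
    rw [PrimeSpectrum.coe_primesOverOrderIsoFiber_symm_apply] at hQ
    rw [← hQ] at haq
    exact Q.2.ne_top (Ideal.eq_top_of_isUnit_mem _ haq h)

end Groth.Agent.S5212
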