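import Groth.Statements.S17690
import Groth.Agent.Neron.K489.PurInsep
import Groth.Agent.S2654
import Groth.Agent.S0567
import Mathlib.RingTheory.DiscreteValuationRing.TFAE
import Mathlib.RingTheory.DedekindDomain.Basic
import Mathlib.RingTheory.DedekindDomain.Dvr
import Mathlib.RingTheory.Polynomial.RationalRoot

set_option autoImplicit false
universe u
open Neron

namespace Groth.Agent.S17690

/-- Over a Nagata domain the integral closure in a finite extension of the fraction field is finite. -/
theorem finite_integralClosure (R K L : Type u) [CommRing R] [IsDomain R] (hR : CAlg.IsNagata R)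
    [Field K] [Algebra R K] [IsFractionRing R K] [Field L] [Algebra K L] [FiniteDimensional K L]
    [Algebra R L] [IsScalarTower R K L] : Module.Finite R ↥(integralClosure R L) := by
  have h2 := ((Groth.Agent.S0567.result R).mp hR).2 R inferInstance
  let i : FractionRing R ≃ₐ[R] K := FractionRing.algEquiv R K
  let _ : Algebra (FractionRing R) L := ((algebraMap K L).comp (i : FractionRing R →+* K)).toAlgebra
  have : IsScalarTower R (FractionRing R) L := IsScalarTower.of_algebraMap_eq (fun x => by
    change _ = algebraMap K L (i (algebraMap R (FractionRing R) x))
    rw [AlgEquiv.commutes, ← IsScalarTower.algebraMap_apply])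
  let _ : Algebra (FractionRing R) K := (i : FractionRing R →+* K).toAlgebra
  have : IsScalarTower (FractionRing R) K L := IsScalarTower.of_algebraMap_eq (fun x => rfl)
  have : Module.Finite (FractionRing R) K :=
    Module.Finite.of_surjective (Algebra.linearMap (FractionRing R) K) i.surjective
  have h3 : FiniteDimensional (FractionRing R) L := Module.Finite.trans K L
  exact h2 L h3

/-- Let R be an excellent discrete valuation ring (Noetherian, universally catenary, G-ring, J-2) with
fraction field K, and let L be a finite purely inseparable field extension of K. Then the integral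
closure S of R in L is a discrete valuation ring, and S is a finite R-module. -/
theorem result
    (R K L : Type u) [CommRing R] [IsDomain R] [IsDiscreteValuationRing R] (hR : EGA4.IsExcellent R)
    [Field K] [Algebra R K] [IsFractionRing R K] [Field L] [Algebra K L] [FiniteDimensional K L]
    [IsPurelyInseparable K L] [Algebra R L] [IsScalarTower R K L] :
    IsDiscreteValuationRing ↥(integralClosure R L) ∧ Module.Finite R ↥(integralClosure R L) := by
  have hN := Groth.Agent.S2654.result R ⟨hR.1, hR.2.2.1, hR.2.2.2⟩
  have hfin : Module.Finite R ↥(integralClosure R L) := finite_integralClosure R K L hN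
  refine ⟨?_, hfin⟩
  have hfaith : FaithfulSMul R L := by
    rw [faithfulSMul_iff_algebraMap_injective, IsScalarTower.algebraMap_eq R K L]
    exact (algebraMap K L).injective.comp (IsFractionRing.injective R K)
  have hfaithS : FaithfulSMul R ↥(integralClosure R L) := by
    rw [faithfulSMul_iff_algebraMap_injective]
    intro a b hab
    apply FaithfulSMul.algebraMap_injective R L
    exact congrArg Subtype.val hab
  have hu := K489.PurInsep.isUnivHomeo R ↥(integralClosure R L) K L
  have hhomeo : IsHomeomorph (AlgebraicGeometry.Spec.map (CommRingCat.ofHom (algebraMap R ↥(integralClosure R L)))) :=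
    Groth.Agent.FlatA.UnivHomeo.isHomeomorph_of_isUnivHomeo hu
  have hloc : IsLocalRing ↥(integralClosure R L) := by
    have hinj := hhomeo.injective
    refine IsLocalRing.of_unique_max_ideal ?_
    obtain ⟨m, hm⟩ := Ideal.exists_maximal ↥(integralClosure R L)
    refine ⟨m, hm, ?_⟩
    intro m' hm'
    have h1 : (⟨m', hm'.isPrime⟩ : PrimeSpectrum ↥(integralClosure R L)) = ⟨m, hm.isPrime⟩ := by
      apply hinj
      apply PrimeSpectrum.ext
      change Ideal.comap (algebraMap R ↥(integralClosure R L)) m' = Ideal.comap (algebraMap R ↥(integralClosure R L)) m
      have a1 : (Ideal.comap (algebraMap R ↥(integralClosure R L)) m').IsMaximal :=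
        Ideal.isMaximal_comap_of_isIntegral_of_isMaximal m'
      have a2 : (Ideal.comap (algebraMap R ↥(integralClosure R L)) m).IsMaximal :=
        Ideal.isMaximal_comap_of_isIntegral_of_isMaximal m
      rw [IsLocalRing.eq_maximalIdeal a1, IsLocalRing.eq_maximalIdeal a2]
    exact congrArg PrimeSpectrum.asIdeal h1
  have hnoeth : IsNoetherianRing ↥(integralClosure R L) := IsNoetherianRing.of_finite R _
  have hnf : ¬ IsField ↥(integralClosure R L) := by
    intro hf
    exact IsDiscreteValuationRing.not_isField R
      (isField_of_isIntegral_of_isField (FaithfulSMul.algebraMap_injective R ↥(integralClosure R L)) hf)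
  have hic : IsIntegrallyClosed ↥(integralClosure R L) := by
    have : IsFractionRing ↥(integralClosure R L) L :=
      integralClosure.isFractionRing_of_finite_extension K L
    exact (integralClosure.isIntegrallyClosedOfFiniteExtension K (L := L))
  have hded' : IsDedekindRing ↥(integralClosure R L) :=
    (isDedekindRing_iff ↥(integralClosure R L) (FractionRing ↥(integralClosure R L))).mpr
      ⟨hnoeth, Ring.DimensionLEOne.integralClosure R L, fun h => IsIntegrallyClosed.isIntegral_iff.mp h⟩
  have hded : IsDedekindDomain ↥(integralClosure R L) := inferInstance
  exact ((IsDiscreteValuationRing.TFAE ↥(integralClosure R L) hnf).out 0 2).mpr hded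

end Groth.Agent.S17690
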