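import Groth.Statements.S4514
import Groth.Agent.Ega41.LiftExist

set_option autoImplicit false
universe u
open EGA41

namespace Groth.Agent.S4514

open IsLocalRing TensorProduct in
theorem aux {A : Type u} [CommRing A] [IsLocalRing A] [IsNoetherianRing A]
    (B₀ : Type u) [CommRing B₀] [IsRegularLocalRing B₀] [IsAdicComplete (maximalIdeal B₀) B₀]
    [Algebra (A ⧸ maximalIdeal A) B₀] :
    ∃ (B : Type u) (_ : CommRing B) (_ : IsLocalRing B) (_ : IsNoetherianRing B) (_ : Algebra A B)
      (_ : IsLocalHom (algebraMap A B)),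
      IsAdicComplete (maximalIdeal B) B ∧ Module.Flat A B ∧
        Nonempty ((A ⧸ maximalIdeal A) ⊗[A] B ≃ₐ[A ⧸ maximalIdeal A] B₀) := by
  let fld : Field (A ⧸ maximalIdeal A) := Ideal.Quotient.field _
  have hloc : IsLocalRing (A ⧸ maximalIdeal A) := inferInstance
  have hlh : IsLocalHom (algebraMap (A ⧸ maximalIdeal A) B₀) := inferInstance
  have hfl : Module.Flat (A ⧸ maximalIdeal A) B₀ := inferInstance
  have hbot : maximalIdeal (A ⧸ maximalIdeal A) = ⊥ := IsLocalRing.maximalIdeal_eq_bot
  have hreg : IsRegularLocalRing (B₀ ⧸ (maximalIdeal (A ⧸ maximalIdeal A)).map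
      (algebraMap (A ⧸ maximalIdeal A) B₀)) := by
    have h1 : (maximalIdeal (A ⧸ maximalIdeal A)).map (algebraMap (A ⧸ maximalIdeal A) B₀) = ⊥ := by
      rw [hbot, Ideal.map_bot]
    have e : B₀ ≃+* (B₀ ⧸ (maximalIdeal (A ⧸ maximalIdeal A)).map
        (algebraMap (A ⧸ maximalIdeal A) B₀)) :=
      ((Ideal.quotEquivOfEq h1).trans (RingEquiv.quotientBot B₀)).symm
    exact IsRegularLocalRing.of_ringEquiv e
  exact Groth.Agent.Ega41.LiftExist.exists_lift (maximalIdeal A) B₀ hreg

open IsLocalRing TensorProduct in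
/-- Let A be a Noetherian local ring with residue field k, and let B₀ be a k-algebra which is a complete
regular local ring. Then there exist a complete Noetherian local ring B and a local homomorphism A →
B making B a flat A-module, such that B₀ is k-isomorphic to k ⊗_A B = B/𝔪B. -/
theorem result {A : Type u} [CommRing A] [IsLocalRing A] [IsNoetherianRing A]
    (B₀ : Type u) [CommRing B₀] [IsRegularLocalRing B₀] [IsAdicComplete (maximalIdeal B₀) B₀]
    [Algebra (ResidueField A) B₀] :
    ∃ (B : Type u) (_ : CommRing B) (_ : IsLocalRing B) (_ : IsNoetherianRing B) (_ : Algebra A B)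
      (_ : IsLocalHom (algebraMap A B)),
      IsAdicComplete (maximalIdeal B) B ∧ Module.Flat A B ∧
        Nonempty (ResidueField A ⊗[A] B ≃ₐ[ResidueField A] B₀) := by
  exact @aux A _ _ _ B₀ _ _ _ ‹Algebra (ResidueField A) B₀›
end Groth.Agent.S4514
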