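import Groth.Statements.S4366
import Mathlib.AlgebraicGeometry.Morphisms.Flat
-- import your own Groth.Agent.* helpers here

set_option autoImplicit false
universe u
open SchMor

namespace Groth.Agent.S4366

open AlgebraicGeometry in
open CategoryTheory in
open CategoryTheory.Limits in
/-- Let f : X -> Y be a morphism, y a point of Y and Z = Spec O_{Y,y} the local scheme of Y at y with
its canonical morphism to Y. Then the projection p : X x_Y Z -> X induces isomorphisms on all local
rings: for every point t of X x_Y Z the homomorphism O_{X, p t} -> O_{X x_Y Z, t} is bijective. (The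
published statement also asserts that p is a homeomorphism onto the preimage of Z; that part is not
stated here.) -/
theorem result
    {X Y : Scheme.{u}} (f : X ⟶ Y) (y : Y) (t : ↑(pullback f (Y.fromSpecStalk y))) :
    IsIso ((pullback.fst f (Y.fromSpecStalk y)).stalkMap t) := by
  haveI hflat : Flat (Y.fromSpecStalk y) := by
    let U : Y.Opens := (Y.affineCover.f (Y.affineCover.idx y)).opensRange
    have hU : IsAffineOpen U := isAffineOpen_opensRange _
    have hy : y ∈ U := Y.affineCover.covers y
    have e : Y.fromSpecStalk y = Spec.map (Y.presheaf.germ U y hy) ≫ hU.fromSpec := rfl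
    rw [e]
    haveI : Flat (Spec.map (Y.presheaf.germ U y hy)) := by
      rw [Flat.SpecMap_iff]
      letI : Algebra Γ(Y, U) (Y.presheaf.stalk y) := (Y.presheaf.germ U y hy).hom.toAlgebra
      haveI := hU.isLocalization_stalk ⟨y, hy⟩
      exact IsLocalization.flat (Y.presheaf.stalk y) (hU.primeIdealOf ⟨y, hy⟩).asIdeal.primeCompl
    infer_instance
  have hsurj : Function.Surjective ((pullback.fst f (Y.fromSpecStalk y)).stalkMap t) :=
    (pullback.fst f (Y.fromSpecStalk y)).stalkMap_surjective t
  have hfl : ((pullback.fst f (Y.fromSpecStalk y)).stalkMap t).hom.Flat :=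
    Flat.stalkMap (pullback.fst f (Y.fromSpecStalk y)) t
  have hinj : Function.Injective ((pullback.fst f (Y.fromSpecStalk y)).stalkMap t).hom := by
    letI := ((pullback.fst f (Y.fromSpecStalk y)).stalkMap t).hom.toAlgebra
    haveI : Module.Flat _ _ := hfl
    haveI : IsLocalHom (algebraMap
      (X.presheaf.stalk ((pullback.fst f (Y.fromSpecStalk y)).base t))
      ((pullback f (Y.fromSpecStalk y)).presheaf.stalk t)) :=
      inferInstanceAs (IsLocalHom ((pullback.fst f (Y.fromSpecStalk y)).stalkMap t).hom)
    haveI : Module.FaithfullyFlat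
      (X.presheaf.stalk ((pullback.fst f (Y.fromSpecStalk y)).base t))
      ((pullback f (Y.fromSpecStalk y)).presheaf.stalk t) :=
      Module.FaithfullyFlat.of_flat_of_isLocalHom
    exact FaithfulSMul.algebraMap_injective _ _
  rw [ConcreteCategory.isIso_iff_bijective]
  exact ⟨hinj, hsurj⟩

end Groth.Agent.S4366
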