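import Groth.Statements.S9689
import Groth.Agent.Mor.K385.NormFrac
import Groth.Agent.Ega43.Unibranch
import Groth.Agent.S2351
import Groth.Agent.FlatA.UnivHomeo

set_option autoImplicit false
universe u
open CategoryTheory CategoryTheory.Limits AlgebraicGeometry
open Mor

namespace Groth.Agent.S9689

theorem isFractionRing_red (A : Type u) [CommRing A] [IsDomain A] [IsDomain (CAlg2.red A)] :
    IsFractionRing A (FractionRing (CAlg2.red A)) := by
  have hinj : Function.Injective (algebraMap A (CAlg2.red A)) := by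
    change Function.Injective (Ideal.Quotient.mk (nilradical A))
    rw [RingHom.injective_iff_ker_eq_bot, Ideal.mk_ker, nilradical_eq_zero]
    rfl
  have hsurj : Function.Surjective (algebraMap A (CAlg2.red A)) := Ideal.Quotient.mk_surjective
  have hinj' : Function.Injective (algebraMap A (FractionRing (CAlg2.red A))) := by
    rw [IsScalarTower.algebraMap_eq A (CAlg2.red A) (FractionRing (CAlg2.red A))]
    exact (IsFractionRing.injective (CAlg2.red A) _).comp hinj
  refine ⟨⟨fun y => ?_, fun z => ?_, fun {x y} h => ?_⟩⟩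
  · rw [isUnit_iff_ne_zero]
    intro h
    exact nonZeroDivisors.ne_zero y.2 (hinj' (by rw [h, map_zero]))
  · obtain ⟨⟨s, t⟩, hst⟩ := IsLocalization.surj (nonZeroDivisors (CAlg2.red A)) z
    obtain ⟨s', rfl⟩ := hsurj s
    obtain ⟨t', ht'⟩ := hsurj t
    refine ⟨⟨s', ⟨t', mem_nonZeroDivisors_of_ne_zero ?_⟩⟩, ?_⟩
    · rintro rfl
      rw [map_zero] at ht'
      exact nonZeroDivisors.ne_zero t.2 ht'.symm
    · dsimp only at hst ⊢
      rw [← ht', ← IsScalarTower.algebraMap_apply, ← IsScalarTower.algebraMap_apply] at hst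
      exact hst
  · exact ⟨1, by rw [hinj' h]⟩

theorem ringHom_eq {A K : Type u} [CommRing A] [IsDomain A] [CommRing K] [Algebra A K] [IsFractionRing A K]
    (h : Ega43.Unibranch.AllGeomUnibranch A)
    {Ω : Type*} [Field Ω] (φ₁ φ₂ : integralClosure A K →+* Ω)
    (h12 : φ₁.comp (algebraMap A _) = φ₂.comp (algebraMap A _)) : φ₁ = φ₂ := by
  have hN : (nilradical A).IsPrime := by
    rw [nilradical_eq_zero]
    exact Ideal.isPrime_bot
  have : IsDomain (CAlg2.red A) := Ideal.Quotient.isDomain _
  have := isFractionRing_red A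
  let e : FractionRing (CAlg2.red A) ≃ₐ[A] K :=
    IsLocalization.algEquiv (nonZeroDivisors A) _ _
  let e' := AlgEquiv.mapIntegralClosure e
  have key : φ₁.comp e'.toAlgHom.toRingHom = φ₂.comp e'.toAlgHom.toRingHom := by
    refine Ega43.Unibranch.ringHom_eq h _ _ fun a => ?_
    have := RingHom.congr_fun h12 a
    simpa using this
  ext x
  have := RingHom.congr_fun key (e'.symm x)
  simpa using this

/-- The rings of sections over affine opens of a scheme with geometrically unibranch local rings. -/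
lemma allGeomUnibranch {Y : Scheme.{u}} (hY : ∀ y : Y, CAlg2.IsGeomUnibranch (Y.presheaf.stalk y))
    {V : Y.Opens} (hV : IsAffineOpen V) : Ega43.Unibranch.AllGeomUnibranch Γ(Y, V) := by
  intro p
  exact ⟨Y.presheaf.stalk (hV.fromSpec p), inferInstance, inferInstance,
    (TopCat.Presheaf.algebra_section_stalk Y.presheaf ⟨hV.fromSpec p, (hV.isoSpec.inv p).2⟩),
    hV.isLocalization_stalk' p (hV.isoSpec.inv p).2, hY _⟩

theorem universallyInjective (X : Scheme.{u}) [IsIntegral X] [QuasiCompact (X.fromSpecStalk (genericPoint ↥X))] [QuasiSeparated (X.fromSpecStalk (genericPoint ↥X))]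
    (hX : ∀ x : X, CAlg2.IsGeomUnibranch (X.presheaf.stalk x)) :
    UniversallyInjective (Curv2.normalizationι X) := by
  have haff : IsAffineHom (Curv2.normalizationι X) := by
    change IsAffineHom (X.fromSpecStalk (genericPoint X)).fromNormalization
    infer_instance
  refine ((tfae_universallyInjective _).out 0 1).mpr ?_
  intro K _ g₁ g₂ hg
  have hg : g₁ ≫ Curv2.normalizationι X = g₂ ≫ Curv2.normalizationι X := hg
  obtain ⟨t, ht⟩ : ∃ t, t = g₁ ≫ Curv2.normalizationι X := ⟨_, rfl⟩
  let x : Spec (CommRingCat.of K) := IsLocalRing.closedPoint K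
  obtain ⟨_, ⟨U, hU, rfl⟩, hxU, -⟩ := X.isBasis_affineOpens.exists_subset_of_mem_open
    (Set.mem_univ (t x)) isOpen_univ
  have hU : IsAffineOpen U := hU
  have hη : genericPoint X ∈ U := ((genericPoint_spec X).specializes (Set.mem_univ (t x))).mem_open U.2 hxU
  have hne : Nonempty U := ⟨⟨_, hη⟩⟩
  have hνU : IsAffineOpen (Curv2.normalizationι X ⁻¹ᵁ U) := hU.preimage _
  have hW : (⊤ : (Spec (CommRingCat.of K)).Opens) ≤ t ⁻¹ᵁ U := by
    intro y _
    have : y = x := Subsingleton.elim _ _
    subst this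
    exact hxU
  have l1 : ⊤ ≤ g₁ ⁻¹ᵁ Curv2.normalizationι X ⁻¹ᵁ U := by
    rw [← Scheme.Hom.comp_preimage, ← ht]; exact hW
  have l2 : ⊤ ≤ g₂ ⁻¹ᵁ Curv2.normalizationι X ⁻¹ᵁ U := by
    rw [← Scheme.Hom.comp_preimage, ← hg, ← ht]; exact hW
  have h1 : (Curv2.normalizationι X).app U ≫ g₁.appLE (Curv2.normalizationι X ⁻¹ᵁ U) ⊤ l1 =
      t.appLE U ⊤ hW := by
    subst ht
    rw [Scheme.Hom.app_eq_appLE, Scheme.Hom.appLE_comp_appLE]
  have h2 : (Curv2.normalizationι X).app U ≫ g₂.appLE (Curv2.normalizationι X ⁻¹ᵁ U) ⊤ l2 =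
      t.appLE U ⊤ hW := by
    rw [hg] at ht
    subst ht
    rw [Scheme.Hom.app_eq_appLE, Scheme.Hom.appLE_comp_appLE]
  have h3 : g₁.appLE (Curv2.normalizationι X ⁻¹ᵁ U) ⊤ l1 = g₂.appLE (Curv2.normalizationι X ⁻¹ᵁ U) ⊤ l2 := by
    let algK : Algebra Γ(X, U) Γ(Spec (X.presheaf.stalk (genericPoint X)),
      (X.fromSpecStalk (genericPoint X)) ⁻¹ᵁ U) := ((X.fromSpecStalk (genericPoint X)).app U).hom.toAlgebra
    have hfr := K385.NormFrac.isFractionRing X U hU hη
    let N := (X.fromSpecStalk (genericPoint X)).normalizationObjIso hU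
    have hN : (Curv2.normalizationι X).app U = CommRingCat.ofHom (algebraMap Γ(X, U)
        (integralClosure Γ(X, U) Γ(Spec (X.presheaf.stalk (genericPoint X)),
          (X.fromSpecStalk (genericPoint X)) ⁻¹ᵁ U))) ≫ N.inv :=
      Scheme.Hom.fromNormalization_app (X.fromSpecStalk (genericPoint X)) hU
    have key : N.inv ≫ g₁.appLE (Curv2.normalizationι X ⁻¹ᵁ U) ⊤ l1 ≫ (Scheme.ΓSpecIso (CommRingCat.of K)).hom =
        N.inv ≫ g₂.appLE (Curv2.normalizationι X ⁻¹ᵁ U) ⊤ l2 ≫ (Scheme.ΓSpecIso (CommRingCat.of K)).hom := by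
      apply CommRingCat.hom_ext
      refine ringHom_eq (allGeomUnibranch hX hU) _ _ ?_
      have h12 := h1.trans h2.symm
      rw [hN] at h12
      have h13 := (Category.assoc _ _ _).symm.trans (h12.trans (Category.assoc _ _ _))
      exact congrArg CommRingCat.Hom.hom (congrArg (fun k => k ≫ (Scheme.ΓSpecIso (CommRingCat.of K)).hom) h13)
    have key2 := (cancel_epi N.inv).mp key
    exact (cancel_mono (Scheme.ΓSpecIso (CommRingCat.of K)).hom).mp key2
  have h4 := IsAffineOpen.SpecMap_appLE_fromSpec g₁ hνU (isAffineOpen_top _) l1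
  have h5 := IsAffineOpen.SpecMap_appLE_fromSpec g₂ hνU (isAffineOpen_top _) l2
  rw [h3, h5] at h4
  rw [IsAffineOpen.fromSpec_top] at h4
  exact ((cancel_epi _).mp h4).symm

/-- For an integral scheme X: if every local ring of X is geometrically unibranch, then the
normalization morphism X^ν ⟶ X is a universal homeomorphism. (The published statement assumes only X
irreducible; this row takes X integral, which loses nothing since the normalization of X equals that
of its reduction.) (The quasi-compactness and quasi-separatedness binders on Spec K(X) ⟶ X always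
hold; they are only needed to form the normalization.) -/
theorem result (X : Scheme.{u}) [IsIntegral X] [QuasiCompact (X.fromSpecStalk (genericPoint ↥X))] [QuasiSeparated (X.fromSpecStalk (genericPoint ↥X))]
    (hX : ∀ x : X, CAlg2.IsGeomUnibranch (X.presheaf.stalk x)) :
    FlatMor.IsUnivHomeo (Curv2.normalizationι X) := by
  refine (FlatA.UnivHomeo.isUnivHomeo_iff _).mpr ⟨?_, universallyInjective X hX, ?_⟩
  · change IsIntegralHom (X.fromSpecStalk (genericPoint X)).fromNormalization
    infer_instance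
  · exact (S2351.result X).2.2.1

end Groth.Agent.S9689
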