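import Groth.Statements.S18223
import Groth.Agent.CurvesB.HZero
import Groth.Agent.Dcoh.FlatSES
import Groth.Agent.CohqB.TwistMono
import Groth.Agent.S0002
import Groth.Agent.Dcoh.TensRestr
import Groth.Agent.PerfB.TensInv
import Groth.Agent.Models.TrivGeom
import Groth.Agent.Fga.HShift

set_option autoImplicit false
universe u
open CategoryTheory CategoryTheory.Limits AlgebraicGeometry
open Coh

namespace Groth.Agent.S18223

open Groth.Agent.Fdesc.LocGen (IsGen res ores isGen_one one ofFun)
open Groth.Agent.Ega2.Tens Groth.Agent.Ega2 Groth.Agent.CurvesB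

variable {X : Scheme.{u}}

/-- The free module on `J`, as a coproduct in `X.Modules`. -/
noncomputable abbrev Fr (X : Scheme.{u}) (J : Type u) : X.Modules := ∐ fun _ : J => Coh.structureModule X

/-- The inclusion of a coordinate in the free module. -/
noncomputable def inc (J : Type u) (j : J) :
    Coh.structureModule X ⟶ Fr X J :=
  Sigma.ι (fun _ : J => Coh.structureModule X) j

/-- The projection of the free module onto a coordinate. -/
noncomputable def prj (J : Type u) (j : J) :
    Fr X J ⟶ Coh.structureModule X := by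
  classical
  exact Sigma.desc (fun j' => if j' = j then 𝟙 _ else 0)

theorem inc_prj_self (J : Type u) (j : J) :
    inc (X := X) J j ≫ prj J j = 𝟙 _ := by
  classical
  have := Sigma.ι_desc (f := fun _ : J => Coh.structureModule X)
    (P := Coh.structureModule X) (fun j' => if j' = j then 𝟙 _ else 0) j
  rw [if_pos rfl] at this
  exact this

theorem inc_prj_ne (J : Type u) {j j' : J} (h : j' ≠ j) :
    inc (X := X) J j' ≫ prj J j = 0 := by
  classical
  have := Sigma.ι_desc (f := fun _ : J => Coh.structureModule X)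
    (P := Coh.structureModule X) (fun j' => if j' = j then 𝟙 _ else 0) j'
  rw [if_neg h] at this
  exact this

theorem sum_prj_inc (J : Type u) [Fintype J] :
    ∑ j, prj (X := X) J j ≫ inc J j = 𝟙 (Fr X J) := by
  apply Sigma.hom_ext
  intro j
  change inc J j ≫ _ = inc J j ≫ 𝟙 (Fr X J)
  rw [Category.comp_id, Preadditive.comp_sum, Finset.sum_eq_single j]
  · rw [← Category.assoc, inc_prj_self, Category.id_comp]
  · intro j' _ hj'
    rw [← Category.assoc, inc_prj_ne J hj'.symm, zero_comp]
  · intro h
    exact (h (Finset.mem_univ _)).elim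

/-- If the sections of a free module inject into a finite-dimensional space, the index set is
finite. -/
theorem finite_index (k : Type u) [Field k] [Nonempty X]
    [X.Over (Spec (CommRingCat.of k))] (L : X.Modules) [Module.Finite k (Coh.HH X L 0)]
    (J : Type u) (ev : Fr X J ⟶ L)
    (hev : Function.Injective (ev.app ⊤)) : Finite J := by
  let v : J → Coh.HH X L 0 := fun j =>
    (HZero.equivAdd L).symm (ev.app ⊤ ((inc J j).app ⊤ (one ⊤)))
  have hv : LinearIndependent k v := by
    rw [linearIndependent_iff']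
    intro s c hc j hj
    have h1 := congrArg (HZero.equivAdd L) hc
    rw [map_sum, map_zero] at h1
    have h2 : ∀ i ∈ s, HZero.equivAdd L (c i • v i) =
        ev.app ⊤ ((HZero.gl k X (c i)) • ((inc J i).app ⊤ (one ⊤))) := by
      intro i _
      rw [HZero.equivAdd_smul_over, AddEquiv.apply_symm_apply]
      exact (Scheme.Modules.Hom.app_smul ev _ _).symm
    rw [Finset.sum_congr rfl h2, ← map_sum] at h1
    have h3 := hev (h1.trans (map_zero _).symm)
    have h4 := congrArg ((prj J j).app ⊤) h3
    have h5 : ∀ i, (prj J j).app ⊤ (HZero.gl k X (c i) • ((inc J i).app ⊤ (one ⊤))) =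
        HZero.gl k X (c i) • (inc J i ≫ prj J j).app ⊤ (one ⊤) := fun i =>
      Scheme.Modules.Hom.app_smul _ _ _
    rw [map_sum, map_zero, Finset.sum_eq_single j, h5, inc_prj_self] at h4
    · have h6 : HZero.gl k X (c j) = 0 := by
        have h7 : HZero.gl k X (c j) * (1 : Γ(X, ⊤)) = 0 := h4
        rwa [mul_one] at h7
      have hinj : Function.Injective (HZero.gl k X) := by
        have : Nontrivial Γ(X, ⊤) := by
          obtain ⟨x⟩ : Nonempty X := inferInstance
          exact (X.presheaf.germ ⊤ x trivial).hom.domain_nontrivial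
        exact (HZero.gl k X).injective
      exact (map_eq_zero_iff _ hinj).mp h6
    · intro i _ hi
      rw [h5, inc_prj_ne J hi]
      change HZero.gl k X (c i) * (0 : Γ(X, ⊤)) = 0
      exact mul_zero _
    · intro h
      exact (h hj).elim
  exact hv.finite

/-- Tensoring with `T` on the right. -/
noncomputable abbrev tR (T : X.Modules) : X.Modules ⥤ X.Modules := DCoh.tensorBi.flip.obj T

theorem additive_tR (T : X.Modules) : (tR T).Additive where
  map_add {M N f g} := by
    change (DCoh.tensorBi.map (f + g)).app T = (DCoh.tensorBi.map f).app T + (DCoh.tensorBi.map g).app T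
    rw [Functor.map_add]
    rfl

theorem tR_map {M N : X.Modules} (f : M ⟶ N) (T : X.Modules) : (tR T).map f = mapT f (𝟙 T) :=
  Groth.Agent.Dcoh.TensRestr.tensorBi_map_eq f T

theorem sum_app {ι : Type*} (s : Finset ι) {M N : X.Modules} (f : ι → (M ⟶ N)) (U : X.Opens)
    (z : Γ(M, U)) : (∑ i ∈ s, f i).app U z = ∑ i ∈ s, (f i).app U z := by
  classical
  induction s using Finset.induction_on with
  | empty => rfl
  | insert a s ha ih =>
    rw [Finset.sum_insert ha, Finset.sum_insert ha, ← ih]
    rfl

/-- Sections of `O^J ⊗ T` for finite `J`. -/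
theorem exists_sum_inc (J : Type u) [Fintype J] (T : X.Modules)
    (z : Γ(CohB1.tensorMod (Fr X J) T, ⊤)) :
    ∃ t : J → Γ(T, ⊤), z = ∑ j, tmul ((inc J j).app ⊤ (one ⊤)) (t j) := by
  have := additive_tR T
  have h0 : (tR T).map (𝟙 (Fr X J)) = ∑ j, (tR T).map (prj J j ≫ inc J j) := by
    rw [← sum_prj_inc J, Functor.map_sum]
  have h0' : 𝟙 (CohB1.tensorMod (Fr X J) T) = ∑ j, mapT (prj J j) (𝟙 T) ≫ mapT (inc J j) (𝟙 T) := by
    refine Eq.trans ((tR T).map_id _).symm (h0.trans (Finset.sum_congr rfl fun j _ => ?_))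
    rw [Functor.map_comp, tR_map, tR_map]
    rfl
  have h1 : z = ∑ j, (mapT (inc J j) (𝟙 T)).app ⊤ ((mapT (prj J j) (𝟙 T)).app ⊤ z) := by
    have h2 := congr(($h0').app ⊤ z)
    rw [sum_app] at h2
    exact h2
  refine ⟨fun j => (lunit T).hom.app ⊤ ((mapT (prj J j) (𝟙 T)).app ⊤ z), ?_⟩
  refine h1.trans (Finset.sum_congr rfl fun j _ => ?_)
  beta_reduce
  generalize (mapT (prj J j) (𝟙 T)).app ⊤ z = w
  have h3 : w = tmul (one ⊤) ((lunit T).hom.app ⊤ w) :=
    congr(($((lunit T).hom_inv_id)).app ⊤ w).symm
  conv_lhs => rw [h3]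
  rw [mapT_tmul]
  rfl

set_option maxHeartbeats 400000 in
theorem core (k : Type u) [Field k] [IsAlgClosed k]
    (X : Scheme.{u}) [X.Over (Spec (CommRingCat.of k))] [IsProper (X ↘ Spec (CommRingCat.of k))]
    (L : X.Modules) (hL : PicF.IsInvertible L)
    (J : Type u) (ev : Fr X J ⟶ L) [Epi ev] (hev : Function.Bijective (ev.app ⊤))
    (T : X.Modules) (hvan : Subsingleton (Coh.HH X (CohB1.tensorMod (kernel ev) T) 1)) :
    Function.Surjective ((eta L T).app (Opposite.op ⊤)) := by
  intro z
  rcases isEmpty_or_nonempty X with hX | hX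
  · exact ⟨0, eq_of_locally_eq _ _ _ fun x _ => (hX.false x).elim⟩
  have hcoh : Coh.IsCoh L := Groth.Agent.Models.TrivGeom.isCoh_of_isInvertible hL
  have hfin : Module.Finite k (Coh.HH X L 0) := Groth.Agent.S0002.result k X L hcoh 0
  have : Finite J := finite_index k L J ev hev.injective
  have : Fintype J := Fintype.ofFinite J
  have hS : (ShortComplex.mk (kernel.ι ev) ev (kernel.condition ev)).ShortExact :=
    { exact := ShortComplex.exact_kernel ev }
  have hS' := Groth.Agent.Dcoh.FlatSES.shortExact_tensor hS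
    (Groth.Agent.PerfB.TensInv.isFlat_of_isInvertible hL) T
  obtain ⟨y, hy⟩ := Groth.Agent.CohqB.TwistMono.surjective_of_H1 hS' hvan z
  obtain ⟨t, ht⟩ := exists_sum_inc J T y
  refine ⟨∑ j, pt (ev.app ⊤ ((inc J j).app ⊤ (one ⊤))) (t j), ?_⟩
  rw [map_sum]
  rw [← hy]
  have h1 : (mapT ev (𝟙 T)).app ⊤ y = ∑ j, tmul (ev.app ⊤ ((inc J j).app ⊤ (one ⊤))) (t j) := by
    rw [ht, map_sum]
    exact Finset.sum_congr rfl fun j _ => mapT_tmul _ _ _ _
  refine Eq.trans ?_ (Eq.trans h1.symm ?_)
  · rfl
  · rw [← tR_map]
    rfl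

/-- Let k be an algebraically closed field, X a proper k-scheme and L an invertible O_X-module which is
globally generated, its evaluation map H^0(X, L) ⊗ O_X → L given as an epimorphism ev from a free
module inducing a bijection on global sections; let M_L = ker ev be the kernel bundle. Let i ≥ 0 and
h ≥ 1 and suppose H^1(X, M_L^{⊗(i+1)} ⊗ L^{⊗h}) = 0. Then the multiplication map on global sections
H^0(X, L) ⊗ H^0(X, M_L^{⊗i} ⊗ L^{⊗h}) → H^0(X, L ⊗ (M_L^{⊗i} ⊗ L^{⊗h})), written as the map from the
global sections of the sectionwise tensor product presheaf to the global sections of its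
sheafification, is surjective (its target is H^0(X, M_L^{⊗i} ⊗ L^{⊗(h+1)}) up to the canonical
isomorphism; the published statement writes both sides as the iterated kernels K(L^h, L, …, L) of
multiplication maps, which its first part identifies with these section spaces). The published
statement is for a projective variety; this row allows any proper k-scheme. -/
theorem result (k : Type u) [Field k] [IsAlgClosed k]
    (X : Scheme.{u}) [X.Over (Spec (CommRingCat.of k))] [IsProper (X ↘ Spec (CommRingCat.of k))]
    (L : X.Modules) (hL : PicF.IsInvertible L)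
    (J : Type u) (ev : (SheafOfModules.free J : X.Modules) ⟶ L) [Epi ev]
    (hev : Function.Bijective (Sheaf.H.map ((SheafOfModules.toSheaf X.ringCatSheaf).map ev) 0))
    (i h : ℕ) (hh : 1 ≤ h)
    (hvan : Subsingleton (Coh.HH X (CohB1.tensorMod (CohB1.tensorPow (kernel ev) (i + 1)) (CohB1.tensorPow L h)) 1)) :
    Function.Surjective ((toSheafify (Opens.grothendieckTopology ↥X)
      (CohB1.tensorPre L (CohB1.tensorMod (CohB1.tensorPow (kernel ev) i) (CohB1.tensorPow L h))).presheaf).app
        (Opposite.op ⊤)) := by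
  let ev' : Fr X J ⟶ L := ev
  have : Epi ev' := ‹Epi ev›
  have hev' : Function.Bijective (ev'.app ⊤) := by
    let g : Coh.HH X (Fr X J) 0 → Coh.HH X L 0 :=
      Sheaf.H.map ((SheafOfModules.toSheaf X.ringCatSheaf).map ev') 0
    have hg : Function.Bijective g := hev
    have h1 : (fun y => ev'.app ⊤ (HZero.equivAdd (Fr X J) y)) = fun y => HZero.equivAdd L (g y) :=
      funext fun y => (HZero.equivAdd_map ev' y).symm
    have h2 : Function.Bijective (fun y => HZero.equivAdd L (g y)) :=
      (HZero.equivAdd L).bijective.comp hg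
    rw [← h1] at h2
    exact (Function.Bijective.of_comp_iff _ (HZero.equivAdd (Fr X J)).bijective).mp h2
  let K : X.Modules := kernel ev
  let e : CohB1.tensorMod (CohB1.tensorPow K (i + 1)) (CohB1.tensorPow L h) ≅
      CohB1.tensorMod K (CohB1.tensorMod (CohB1.tensorPow K i) (CohB1.tensorPow L h)) :=
    mapTIso (swap _ _) (Iso.refl _) ≪≫ assoc _ _ _
  exact core k X L hL J ev' hev' _ (Groth.Agent.Fga.HShift.subsingleton_of_iso e 1 hvan)

end Groth.Agent.S18223
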