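import Groth.Statements.S10860
import Mathlib.AlgebraicGeometry.ZariskisMainTheorem
import Groth.Agent.Mor.K386.Loc

set_option autoImplicit false
universe u
open Mor

namespace Groth.Agent.S10860

open CategoryTheory AlgebraicGeometry in
/-- For a proper morphism f : X → Y, the set V of points of Y with finite fibre is open, and f
restricted over V is finite (stated as the existence of an open subscheme of Y whose underlying set
is exactly V and over which f is finite). -/
theorem result {X Y : Scheme.{u}} (f : X ⟶ Y) [IsProper f] :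
    ∃ U : Y.Opens, (U : Set Y) = {y : Y | (f.base ⁻¹' {y}).Finite} ∧ IsFinite (f ∣_ U) := by
  let I := {V : Y.Opens // IsFinite (f ∣_ V)}
  have hU : (((⨆ i : I, i.1 : Y.Opens)) : Set Y) = {y : Y | (f.base ⁻¹' {y}).Finite} := by
    ext y
    constructor
    · intro hy
      obtain ⟨⟨V, hV⟩, hyV⟩ := TopologicalSpace.Opens.mem_iSup.mp hy
      have h1 := (f ∣_ V).finite_preimage_singleton ⟨y, hyV⟩
      refine (h1.image (f ⁻¹ᵁ V).ι).subset ?_
      intro x (hx : f x = y)
      have hxV : x ∈ f ⁻¹ᵁ V := by
        change f x ∈ V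
        rw [hx]
        exact hyV
      refine ⟨⟨x, hxV⟩, ?_, rfl⟩
      refine Subtype.ext ?_
      rw [morphismRestrict_base_coe]
      exact hx
    · intro hy
      obtain ⟨V, hyV, hV⟩ :=
        AlgebraicGeometry.exists_isFinite_morphismRestrict_of_finite_preimage_singleton f y hy
      exact TopologicalSpace.Opens.mem_iSup.mpr ⟨⟨V, hV⟩, hyV⟩
  exact ⟨⨆ i : I, i.1, hU, K386.Loc.restrict_iSup @IsFinite f (fun i : I ↦ i.1) fun i ↦ i.2⟩

end Groth.Agent.S10860
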