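import Groth.Statements.S18229
import Groth.Agent.AbVar.K506.AmpleNd
import Groth.Agent.AbVar.K512.PhiSurj
import Groth.Agent.AbVar.K524.Degen
import Groth.Agent.Surf.K456.SecTriv

set_option autoImplicit false
universe u
open CategoryTheory CategoryTheory.Limits MonoidalCategory CartesianMonoidalCategory MonObj GrpObj AlgebraicGeometry
open AbVar

namespace Groth.Agent.S18229

/-- Let k be an algebraically closed field (any characteristic) and X a simple abelian variety over k: a
proper smooth k-group scheme with geometrically connected fibres whose only geometrically integral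
closed k-subgroup schemes are the trivial subgroup and X itself. Let G be an invertible O_X-module
which is effective and non-trivial: H^0(X, G) ≠ 0 and G is not isomorphic to O_X. Then G is ample.
(In other words, when the abelian variety is simple, any line bundle that is effective and not
trivial must be ample.) -/
theorem result (k : Type u) [Field k] [IsAlgClosed k]
    (X : Over (Spec (CommRingCat.of k))) [GrpObj X] [IsProper X.hom] [Smooth X.hom] [GeometricallyConnected X.hom]
    (hsimple : ∀ (B : Over (Spec (CommRingCat.of k))) [GrpObj B] [GeometricallyIntegral B.hom] (i : B ⟶ X) [IsMonHom i]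
      [IsClosedImmersion i.left], Subsingleton ↥B.left ∨ IsIso i)
    (G : X.left.Modules) (hG : PicF.IsInvertible G)
    (hsec : Nontrivial (Coh.HH X.left G 0)) (hne : ¬ Nonempty (G ≅ Coh.structureModule X.left)) :
    CohB1.IsAmple G := by
  have hint : IsIntegral X.left := K528.Irr.isIntegral_of_av X
  have hgr : GeometricallyReduced X.hom := Groth.Agent.Sga3C.GeomRedPerf.geometricallyReduced_of_isReduced X.hom
  have hgir : GeometricallyIrreducible X.hom :=
    Groth.Agent.Fdesc.GeomAlgClosed.geometricallyIrreducible_of_irreducibleSpace X.hom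
  have hgi : GeometricallyIntegral X.hom :=
    GeometricallyIntegral.of_geometricallyReduced_of_geometricallyIrreducible X.hom
  obtain ⟨t, ht⟩ := K456.SecTriv.exists_ne_zero_of_nontrivial hsec
  have hs : Groth.Agent.Fdesc.LocGen.homOf t ≠ 0 := by
    intro h
    apply ht
    have h1 := congrArg (fun q => Groth.Agent.Fdesc.LocGen.sec q ⊤) h
    simp only [Groth.Agent.Fdesc.LocGen.sec_homOf, Groth.Agent.Fdesc.LocGen.res_refl] at h1
    exact h1
  refine K506.AmpleNd.isAmple hG _ hs ?_
  by_contra hinf
  obtain ⟨B, _, i, hi, hcl, hBp, hBi, hKc, hBinf⟩ :=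
    K524.Degen.exists_sub (Groth.Agent.Grpsch.PicGrp.mk G hG) hinf
  rcases hsimple B i with h | h
  · refine hBinf (Set.Subsingleton.finite fun a _ b _ => K512.Pts.ext_pt (Subsingleton.elim _ _))
  · have hinv : ∀ x : 𝟙_ (Over (Spec (CommRingCat.of k))) ⟶ X,
        K506.Transl.phi (Groth.Agent.Grpsch.PicGrp.mk G hG) x = 1 := by
      intro x
      have h1 := hKc (x ≫ inv i)
      rwa [Category.assoc, IsIso.inv_hom_id, Category.comp_id] at h1
    have hne' : Groth.Agent.Grpsch.PicGrp.mk G hG ≠ 1 := by
      intro h1
      exact hne ((Groth.Agent.Grpsch.PicGrp.mk_eq_one_iff hG).1 h1)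
    have hv := K512.PhiSurj.van (Groth.Agent.Grpsch.PicGrp.mk G hG) (fun x => mul_inv_eq_one.1 (hinv x)) hne'
    have h0 : Subsingleton (Coh.HH X.left G 0) := hv G hG rfl 0
    exact not_subsingleton _ h0

end Groth.Agent.S18229
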