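import Groth.Statements.S5742
import Groth.Agent.CohqB.AlgIso

set_option autoImplicit false
universe u
open Coherent

namespace Groth.Agent.S5742

open AlgebraicGeometry CategoryTheory CategoryTheory.Limits in
/-- Let A be a Noetherian ring separated and complete for the I-adic topology, X proper over Spec A and
Y locally of finite type over Spec A; write X_n = X ×_A Spec(A/I^(n+1)). Two A-morphisms φ, ψ : X →
Y whose restrictions to X_n coincide for every n are equal. (The published statement takes Y
separated and of finite type over A, which the surjectivity half needs; injectivity uses neither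
separatedness nor quasi-compactness of Y. Together with the existence of an A-morphism inducing any
compatible system of morphisms X_n → Y_n, this is the bijectivity of f ↦ f̂ from A-morphisms X → Y
to morphisms of the completions.) -/
theorem result (A : Type u) [CommRing A] [IsNoetherianRing A]
    (I : Ideal A) [IsAdicComplete I A] {X Y : Scheme.{u}} (f : X ⟶ Spec (CommRingCat.of A))
    (h : Y ⟶ Spec (CommRingCat.of A)) [IsProper f] [LocallyOfFiniteType h] (φ ψ : X ⟶ Y)
    (hφ : φ ≫ h = f) (hψ : ψ ≫ h = f)
    (e : ∀ n : ℕ, CohB1.thickι f I n ≫ φ = CohB1.thickι f I n ≫ ψ) : φ = ψ := by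
  have hI : I ≤ Ideal.jacobson ⊥ := IsAdicComplete.le_jacobson_bot I
  let j : equalizer φ ψ ⟶ X := equalizer.ι φ ψ
  let s : (n : ℕ) → (CohB1.thick f I n ⟶ equalizer φ ψ) := fun n =>
    equalizer.lift (CohB1.thickι f I n) (e n)
  have hs : ∀ n, s n ≫ j = CohB1.thickι f I n := fun n => equalizer.lift_ι _ _
  have hU : j.coborderRange = ⊤ := by
    apply Groth.Agent.CohqB.AlgIso.eq_top_of_range_le I hI f 0
    rintro _ ⟨x, rfl⟩
    rw [← hs 0]
    exact subset_coborder ⟨(s 0) x, rfl⟩
  have hj : IsClosedImmersion j := by
    have h1 : IsClosed (Set.range j) := by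
      rw [← coborder_eq_univ_iff]
      have := congrArg (fun U : X.Opens => (U : Set X)) hU
      exact this
    exact ⟨⟨j.isEmbedding, h1⟩⟩
  have : IsIso j := by
    refine Groth.Agent.CohqB.AlgIso.isIso_of_thick I hI j f fun n => ?_
    have h2 : IsSplitEpi (pullback.snd j (CohB1.thickι f I n)) :=
      ⟨⟨⟨pullback.lift (s n) (𝟙 _) (by rw [hs n, Category.id_comp]), pullback.lift_snd _ _ _⟩⟩⟩
    exact isIso_of_mono_of_isSplitEpi _
  exact eq_of_epi_equalizer

end Groth.Agent.S5742
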