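import Groth.Statements.S17501
import Groth.Agent.AbVar.K523.IndexCount
import Groth.Agent.AbVar.K523.IndexGeo
import Groth.Agent.AbVar.K524.PicInv
import Groth.Agent.AbVar.K522.Dim
import Groth.Agent.EGA2.K30.AmpleLoc
import Groth.Agent.S17503
import Groth.Agent.S17508
import Groth.Agent.S17509
import Groth.Agent.S17510

set_option autoImplicit false
universe u
open CategoryTheory CategoryTheory.Limits MonoidalCategory CartesianMonoidalCategory MonObj GrpObj AlgebraicGeometry
open AbVar

namespace Groth.Agent.S17501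

open Groth.Agent Groth.Agent.Grpsch.PicGrp K524.Index K524.Chi in
/-- The index of line bundles on an abelian variety satisfies the formal properties used to count roots. -/
theorem data (k : Type u) [Field k] (X : Over (Spec (CommRingCat.of k))) [GrpObj X] [IsProper X.hom]
    [GeometricallyIntegral X.hom] (g : ℕ) (hg : topologicalKrullDim X.left = g) :
    K523.IndexCount.Data (P := Pic X.left) HasIdx (fun h => ∃ (H : X.left.Modules) (hH : CohB1.IsAmple H), h = mk H hH.1)
      chi g where
  uniq _ _ _ h h' := h.unique h'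
  exist c hc := K523.IndexGeo.exists_idx g hg c hc
  ne _ _ h := K524.Bc.chi_ne_zero h
  pow c i hi m hm := by
    obtain ⟨L, hL, rfl⟩ := exists_mk c
    rw [hasIdx_mk] at hi
    rw [← mk_tensorPow hL m, hasIdx_mk]
    exact S17503.result k X L hL i hi.1 hi.2 m hm
  inv c i hi := by
    obtain ⟨L, hL, rfl⟩ := exists_mk c
    rw [hasIdx_mk] at hi
    obtain ⟨L', hL', ⟨e⟩⟩ := exists_inverse hL
    have e' : CohB1.tensorMod L L' ≅ Coh.structureModule X.left := e
    have h1 := S17508.result k X g hg L L' hL ⟨e'⟩ i hi.1 hi.2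
    rw [← K524.PicInv.mk_inv_of hL hL' e', hasIdx_mk]
    exact h1
  apow h hh n hn := by
    obtain ⟨H, hH, rfl⟩ := hh
    exact ⟨CohB1.tensorPow H n, (K30.AmpleLoc.isAmple_iff_tensorPow hH.1 hn).1 hH, (mk_tensorPow hH.1 n).symm⟩
  serre c h hh := by
    obtain ⟨H, hH, rfl⟩ := hh
    exact K523.IndexGeo.serre c H hH
  snapper c h := K523.IndexGeo.snapper g hg c h
  hom c t _ := K523.IndexGeo.chi_pow g hg c t
  key9 c h hh i i' hi hi' hne Φ hΦ := by
    obtain ⟨L, hL, rfl⟩ := exists_mk c
    obtain ⟨H, hH, rfl⟩ := hh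
    rw [hasIdx_mk] at hi
    rw [mk_mul_mk, hasIdx_mk] at hi'
    exact S17509.result k X L H (CohB1.tensorMod L H) hL hH ⟨Iso.refl _⟩ i i' hi.1 hi.2 hi'.1 hi'.2 hne Φ
      (fun n => by rw [hΦ n, ← mk_tensorPow hH.1 n, mk_mul_mk, chi_mk])
  key10 c h hh i i' hi hi' Φ hΦ τ h0 h1 hτ huniq := by
    obtain ⟨L, hL, rfl⟩ := exists_mk c
    obtain ⟨H, hH, rfl⟩ := hh
    rw [hasIdx_mk] at hi
    rw [mk_mul_mk, hasIdx_mk] at hi'
    exact S17510.result k X L H (CohB1.tensorMod L H) hL hH ⟨Iso.refl _⟩ i i' hi.1 hi.2 hi'.1 hi'.2 Φ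
      (fun n => by rw [hΦ n, ← mk_tensorPow hH.1 n, mk_mul_mk, chi_mk]) τ h0 h1 hτ huniq

/-- Let X be an abelian variety over a field k (a proper, geometrically integral k-group scheme), let L
be an invertible O_X-module and i a natural number such that the cohomology of L is concentrated in
degree i: H^j(X, L) = 0 for j ≠ i and H^i(X, L) ≠ 0, let H be an ample invertible O_X-module, and
let Φ be a polynomial with rational coefficients such that Φ(n) = χ(X, L ⊗ H^{⊗ n}) for every
natural number n (the Hilbert polynomial of L with respect to H). Then all complex roots of Φ are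
real — the number of real roots of Φ counted with multiplicity equals its degree — and i equals the
number of positive real roots of Φ counted with multiplicity. (A line bundle on an abelian variety
is non-degenerate with index i exactly when its cohomology vanishes outside degree i and is non-zero
in degree i; this is how non-degeneracy and the index are expressed here.) -/
theorem result
    (k : Type u) [Field k] (X : Over (Spec (CommRingCat.of k))) [GrpObj X] [IsProper X.hom] [GeometricallyIntegral X.hom]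
    (L : X.left.Modules) (hL : PicF.IsInvertible L) (i : ℕ)
    (hvan : ∀ j : ℕ, j ≠ i → Subsingleton (Coh.HH X.left L j)) (hne : Nontrivial (Coh.HH X.left L i))
    (H : X.left.Modules) (hH : CohB1.IsAmple H)
    (Φ : Polynomial ℚ)
    (hΦ : ∀ n : ℕ, Φ.eval (n : ℚ) =
      (@Curv2.euler k _ X.left ⟨X.hom⟩ (CohB1.tensorMod L (CohB1.tensorPow H n)) : ℚ)) :
    Multiset.card (Φ.map (algebraMap ℚ ℝ)).roots = Φ.natDegree ∧
      i = Multiset.card ((Φ.map (algebraMap ℚ ℝ)).roots.filter (fun t => 0 < t)) := by
  obtain ⟨g, hg⟩ := K522.Dim.exists_dim X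
  exact K523.IndexCount.main (data k X g hg) (Grpsch.PicGrp.mk L hL) (Grpsch.PicGrp.mk H hH.1) ⟨H, hH, rfl⟩ i
    ((K524.Index.hasIdx_mk hL i).2 ⟨hvan, hne⟩) Φ
    (fun n => by rw [hΦ n, ← Grpsch.PicGrp.mk_tensorPow hH.1 n, Grpsch.PicGrp.mk_mul_mk, K524.Chi.chi_mk])

end Groth.Agent.S17501
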