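import Groth.Statements.S18221
import Groth.Agent.ShStab.K848.Flag
import Groth.Agent.S1535

set_option autoImplicit false
universe u
open CategoryTheory CategoryTheory.Limits AlgebraicGeometry Polynomial
open ShStab

namespace Groth.Agent.S18221

open Groth.Agent.Fga.PicMon
open StabCat
open Groth.Agent.CycB.StalkExact Groth.Agent.Sga67.ExtSheaf Groth.Agent.Divis.StalkMod
open K848.Rank K848.Hull K848.Poly K848.HB K848.TF K848.Dim K848.Stab K848.Hartogs K848.PicOne K848.Extn K848.Hull2
open K848.Slope K848.Flag K321.Satur

/-- Let k be an algebraically closed field, X an integral scheme, smooth and proper over k, of dimension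
n ≥ 1, L an ample invertible O_X-module (the polarization) and E a finite locally free O_X-module of
rank ρ ≥ 1. Hilbert polynomials are taken with respect to L; for a polynomial p write α_{n−1}(p) for
(n−1)! times its coefficient of degree n − 1, so that with p_O and p_E Hilbert polynomials of O_X
and E the degree of E is deg E = α_{n−1}(p_E) − ρ·α_{n−1}(p_O), and for an invertible G with Hilbert
polynomial p_G, deg G = α_{n−1}(p_G) − α_{n−1}(p_O) (the intersection number (G · L^{n−1})); the
slope of E is deg E / ρ. Suppose E is cohomologically stable: for every integer r with 0 < r < ρ,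
every invertible O_X-module G with ρ·deg G ≥ r·deg E (that is, (G · L^{n−1}) at least r times the
slope of E), every inverse G' of G and every r-th exterior power Λ^r E of E, the space H^0(X, Λ^r E
⊗ G') is zero. Then E is slope-stable of dimension n with respect to L. -/
theorem result (k : Type u) [Field k] [IsAlgClosed k]
    (X : Scheme.{u}) [X.Over (Spec (CommRingCat.of k))] [IsIntegral X]
    [Smooth (X ↘ Spec (CommRingCat.of k))] [IsProper (X ↘ Spec (CommRingCat.of k))]
    (n : ℕ) (hn : 1 ≤ n) (hdim : topologicalKrullDim ↥X = n)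
    (L : X.Modules) (hL : CohB1.IsAmple L)
    (E : X.Modules) (ρ : ℕ) (hρ : 1 ≤ ρ) (hE : FlatMod.IsFinLocFreeOfRank ρ E)
    (pO pE : ℚ[X]) (hpO : ShStab.IsHilbPoly k X L (Coh.structureModule X) pO) (hpE : ShStab.IsHilbPoly k X L E pE)
    (hcoh : ∀ r : ℕ, 0 < r → r < ρ → ∀ (G G' : X.Modules), PicF.IsInvertible G → ClSub.IsInverseOf G' G →
      ∀ pG : ℚ[X], ShStab.IsHilbPoly k X L G pG →
        (r : ℚ) * (StabCat.alpha (n - 1) pE - (ρ : ℚ) * StabCat.alpha (n - 1) pO) ≤
          (ρ : ℚ) * (StabCat.alpha (n - 1) pG - StabCat.alpha (n - 1) pO) →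
        ∀ Er : X.Modules, ExtPow.IsExtPow r E Er → Subsingleton (Coh.HH X (CohB1.tensorMod Er G') 0)) :
    ShStab.IsMuStable k X L E n := by
  have := Groth.Agent.Fga.SnapperTwist.isNoetherian_of_proper k X
  have hreg := fun x => Groth.Agent.S1535.result k X x
  have hpO' := eq_hp k hpO
  have hpE' := eq_hp k hpE
  subst hpO' hpE'
  have hEf : FlatMod.IsFinLocFree E := fun x => by
    obtain ⟨U, hx, e⟩ := hE x
    exact ⟨U, ρ, hx, e⟩
  have hEc : Coh.IsCoh E := Groth.Agent.PerfA.CohSerre.isCoh_of_isFinLocFree hEf
  have hEt : TorSh.IsTorsionFree E := isTorsionFree_of_isFinLocFree hEf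
  have hEr : rk E = ρ := by
    obtain ⟨U, hx, ⟨e⟩⟩ := hE (genericPoint X)
    exact (eq_rk_of_triv e hx).symm
  refine isMuStable_of k hL hdim hEc hEt (by omega) fun F f hf hF hF0 hF1 => ?_
  rw [hEr] at hF1 ⊢
  -- exterior powers
  choose N hN hext using fun i => Groth.Agent.Krr.H495.ExtExist.exists_isExtPow i E hEf
  choose Φ hΦ using fun i => exists_phi (hext i)
  choose ev hinj hev using fun i => K848.Wedge.exists_stalk_ev hEf (Φ i) (hΦ i) (genericPoint X)
  let _ : Field (X.presheaf.stalk (genericPoint X)) := inferInstanceAs (Field X.functionField)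
  have hfin := finite_stalk hEc (genericPoint X)
  -- a basis of the generic stalk of `F`
  have hrange : Module.finrank (X.presheaf.stalk (genericPoint X)) (LinearMap.range (stalkLin f (genericPoint X))) =
      rk F := LinearMap.finrank_range_of_inj (stalkLin_injective f (genericPoint X))
  let b := Module.finBasisOfFinrankEq (X.presheaf.stalk (genericPoint X))
    (LinearMap.range (stalkLin f (genericPoint X))) hrange
  let v : Fin (rk F) → E.presheaf.stalk (genericPoint X) := fun i => (b i : E.presheaf.stalk (genericPoint X))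
  have hv : LinearIndependent (X.presheaf.stalk (genericPoint X)) v :=
    b.linearIndependent.map' (Submodule.subtype _) (Submodule.ker_subtype _)
  have hspan : Submodule.span (X.presheaf.stalk (genericPoint X)) (Set.range v) =
      LinearMap.range (stalkLin f (genericPoint X)) := by
    have h1 : Set.range v = (Submodule.subtype (LinearMap.range (stalkLin f (genericPoint X)))) '' (Set.range b) := by
      rw [← Set.range_comp]
      rfl
    rw [h1, ← Submodule.map_span, b.span_eq, Submodule.map_top, Submodule.range_subtype]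
  obtain ⟨M, hM, ω, p, hp, hdeg⟩ := exists_line k hL hdim hn hreg hEc hEf N hN Φ hΦ ev hinj hev (rk F) v hv
  have hω : ω ≠ 0 := by
    rintro rfl
    rw [Groth.Agent.Dcoh.StalkMod.stalkLin_zero, LinearMap.zero_apply, map_zero] at hp
    exact ιMulti_ne_zero hv hp.symm
  -- comparison of degrees
  obtain ⟨a, ha⟩ := exists_lift_gsub (Submodule.span (X.presheaf.stalk (genericPoint X)) (Set.range v)) f
    (by rw [hspan])
  have ham : Mono a := by
    have : Mono (a ≫ (gsub E (Submodule.span (X.presheaf.stalk (genericPoint X)) (Set.range v))).ι) := by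
      rw [ha]; exact hf
    exact mono_of_mono a (gsub E _).ι
  have hle := alpha_pred_le k hL hdim a hF (isCoh_gsub _ hEc) (by
    have h1 : rk (gsub E (Submodule.span (X.presheaf.stalk (genericPoint X)) (Set.range v))).toModules =
      Module.finrank (X.presheaf.stalk (genericPoint X))
        (Submodule.span (X.presheaf.stalk (genericPoint X)) (Set.range v)) := rk_gsub _
    rw [h1, finrank_span_eq_card hv, Fintype.card_fin])
  by_contra hcon
  push Not at hcon
  obtain ⟨M', hM', ⟨e⟩⟩ := Groth.Agent.Grpsch.PicGrp.exists_inverse hM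
  have e' : CohB1.tensorMod M' M ≅ Coh.structureModule X := Groth.Agent.Ega2.Tens.swap M' M ≪≫ e
  have hvan := hcoh (rk F) hF0 hF1 M M' hM ⟨e'⟩ _ (isHilbPoly_hp k hL.1 (isCoh_of_isInvertible hM)) (by
    rw [hdeg]
    have h1 : (0 : ℚ) < ρ := by exact_mod_cast (by omega : 0 < ρ)
    nlinarith) (N (rk F)) (hext (rk F))
  exact hω (Groth.Agent.Sga2.LefPow644.hom_eq_zero e' hvan ω)


end Groth.Agent.S18221
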