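import Groth.Statements.S17693
import Groth.Agent.WeilRes.K933.WRFinite
import Groth.Agent.WeilRes.K933.WRArtin
set_option autoImplicit false
universe u
open CategoryTheory CategoryTheory.Limits AlgebraicGeometry
open WeilRes

namespace Groth.Agent.S17693

/-- Let k be a field, A a finite k-algebra and G a group scheme of finite type over Spec A, not
necessarily smooth. Then the Weil restriction of G along Spec A → Spec k is representable: there
exist a k-scheme R and an A-morphism q : R ×_k Spec A → G such that for every k-scheme T the map g ↦
(g ×_k Spec A) ≫ q is a bijection from k-morphisms T → R onto A-morphisms T ×_k Spec A → G. (The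
published statement adds that the representing k-group scheme is quasi-projective; only
representability is stated here.) -/
theorem result
    (k A : Type u) [Field k] [CommRing A] [Algebra k A] [Module.Finite k A]
    (G : Over (Spec (CommRingCat.of A))) [GrpObj G] [LocallyOfFiniteType G.hom] [QuasiCompact G.hom] :
    ∃ (R : Over (Spec (CommRingCat.of k)))
      (q : Red.bc (Spec.map (CommRingCat.ofHom (algebraMap k A))) R ⟶ G),
      WeilRes.IsWeilRes (Spec.map (CommRingCat.ofHom (algebraMap k A))) G R q := by
  have : IsArtinianRing A := IsArtinianRing.of_finite k A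
  have hfin : IsFinite (Spec.map (CommRingCat.ofHom (algebraMap k A))) := by
    rw [IsFinite.SpecMap_iff]
    exact RingHom.finite_algebraMap.mpr inferInstance
  obtain ⟨R, ⟨r⟩⟩ := K933.WRFinite.exists_representableBy_of_AF k A G (by
    intro T y t
    have h1 : {z : ↥(Red.bc (K933.WRAffine.fA k A) T).left |
        pullback.fst T.hom (K933.WRAffine.fA k A) z = t}.Finite :=
      IsFinite.finite_preimage_singleton (pullback.fst T.hom (K933.WRAffine.fA k A)) t
    obtain ⟨U, hU, hZ⟩ := K933.WRArtin.exists_affine_of_finite_artin A G _ (h1.image y.left)
    exact ⟨U, hU, fun z hz => hZ ⟨z, hz, rfl⟩⟩)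
  exact ⟨R, r.homEquiv (𝟙 R), WeilRes.IsWeilRes.of_representableBy r⟩

end Groth.Agent.S17693
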