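import Groth.Statements.S17457
import Groth.Agent.SGA7.K566.CM
import Groth.Agent.Sga7.H254.S4054Cond

set_option autoImplicit false
universe u
open CategoryTheory CategoryTheory.Limits AlgebraicGeometry MonObj
open SGA7

namespace Groth.Agent.S17457

/-- Let R be a discrete valuation ring with fraction field K and A an abelian variety over K of
dimension g (a proper, geometrically integral commutative K-group scheme) which has semistable
reduction over R. Suppose that A has sufficiently many complex multiplications over K by a field: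
the ℚ-algebra End⁰_K(A) = ℚ ⊗ End_K(A) contains a ℚ-subalgebra L which is a field and has
ℚ-dimension 2g. Then A has good reduction over R. (The published statement allows the complex
multiplications to be a product of fields acquired over an extension of K and concludes good
reduction at every place of a finite separable extension where A is semistable; this row treats one
field acting over K and one place.) -/
theorem result (R K : Type u) [CommRing R] [IsDomain R]
    [IsDiscreteValuationRing R] [Field K] [Algebra R K] [IsFractionRing R K]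
    (A : Over (Spec (CommRingCat.of K))) [GrpObj A] [IsCommMonObj A] [IsProper A.hom] [GeometricallyIntegral A.hom]
    (g : ℕ) (hg : topologicalKrullDim ↥A.left = g)
    (L : Subalgebra ℚ (EndAV.End0 A)) (hL : IsField ↥L) (hLfin : Module.Finite ℚ ↥L)
    (hdeg : Module.finrank ℚ ↥L = 2 * g)
    (hss : SGA7.HasSemistableReduction R K A) :
    SGA7.HasGoodReduction R K A := by

  obtain ⟨R', _, _, _, _, _⟩ := Groth.Agent.S0537.result R
  have : IsDomain R' := Sga4h.ChartDVR.isDomain_of_isStrictHenselization R R'
  have : IsDiscreteValuationRing R' :=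
    Sga4h.ChartDVR.isDiscreteValuationRing_of_isStrictHenselization R R'
  obtain ⟨hh, hs⟩ := Sga4h.ChartDVR.isStrictlyHenselianLocalRing_of_isStrictHenselization R R'
  let K' := FractionRing R'
  have hinj : Function.Injective (algebraMap R K') := by
    rw [IsScalarTower.algebraMap_eq R R' K']
    exact (IsFractionRing.injective R' K').comp (Sga4h.ChartDVR.injective_algebraMap R R')
  let _ : Algebra K K' := (IsFractionRing.lift (K := K) hinj).toAlgebra
  have : IsScalarTower R K K' := by
    refine IsScalarTower.of_algebraMap_eq fun r => ?_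
    exact (IsFractionRing.lift_algebraMap hinj r).symm
  let f : Spec (CommRingCat.of K') ⟶ Spec (CommRingCat.of K) := Spec.map (CommRingCat.ofHom (algebraMap K K'))
  have hP : IsProper (Red.bc f A).hom := inferInstanceAs (IsProper (pullback.snd A.hom f))
  have hG : GeometricallyIntegral (Red.bc f A).hom :=
    inferInstanceAs (GeometricallyIntegral (pullback.snd A.hom f))
  obtain ⟨N, _, e, he, hN⟩ := Sga7.H750.NeronMain.neAll R' K' (Red.bc f A)
  have hel : IsIso e.hom.left := inferInstanceAs (IsIso ((Over.forget _).map e.hom))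
  have hw : e.hom.left ≫ (Red.bc f A).hom = ((SGA7.genFib R' K').obj N).hom := Over.w e.hom
  have hP' : IsProper ((SGA7.genFib R' K').obj N).hom := by
    rw [← hw]
    infer_instance
  have hG' : GeometricallyIntegral ((SGA7.genFib R' K').obj N).hom := by
    rw [← hw]
    have j1 : MorphismProperty.IsStableUnderBaseChange @GeometricallyIntegral.{u} := inferInstance
    have j2 : MorphismProperty.RespectsIso @GeometricallyIntegral.{u} :=
      MorphismProperty.IsStableUnderBaseChange.respectsIso
    exact (MorphismProperty.cancel_left_of_respectsIso @GeometricallyIntegral _ _).2 hG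
  have cN : IsCommMonObj N := Sga7.H751.SecRoot.isCommMonObj_of_isNeron R' K' N hN
  have hsem : SGA7.HasSemistableReduction R' K' ((SGA7.genFib R' K').obj N) := by
    obtain ⟨G, _, eG, heG, hsm, hsep, hqc, hur⟩ := hss
    let p : Spec (CommRingCat.of R') ⟶ Spec (CommRingCat.of R) := Spec.map (CommRingCat.ofHom (algebraMap R R'))
    have hcomp : Spec.map (CommRingCat.ofHom (algebraMap R' K')) ≫ p =
        f ≫ Spec.map (CommRingCat.ofHom (algebraMap R K)) := by
      change Spec.map _ ≫ Spec.map _ = Spec.map _ ≫ Spec.map _
      rw [← Spec.map_comp, ← Spec.map_comp, ← CommRingCat.ofHom_comp, ← CommRingCat.ofHom_comp,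
        ← IsScalarTower.algebraMap_eq R R' K', ← IsScalarTower.algebraMap_eq R K K']
    let I : Grp.mk (Red.bc (Spec.map (CommRingCat.ofHom (algebraMap R' K'))) (Red.bc p G)) ≅
        Grp.mk ((SGA7.genFib R' K').obj N) :=
      (Sga3B.BcIso.bcCompIso (Spec.map (CommRingCat.ofHom (algebraMap R' K'))) p G).symm ≪≫
        Sga3B.BcIso.bcCongrIso hcomp G ≪≫
        Sga3B.BcIso.bcCompIso f (Spec.map (CommRingCat.ofHom (algebraMap R K))) G ≪≫
        Sga3B.BcIso.bcMapIso f (Grp.mkIso' eG) ≪≫ (Grp.mkIso' e).symm
    refine ⟨Red.bc p G, inferInstance, (Grp.forget _).mapIso I, I.hom.hom.isMonHom_hom,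
      inferInstanceAs (Smooth (pullback.snd G.hom p)), inferInstanceAs (IsSeparated (pullback.snd G.hom p)),
      inferInstanceAs (QuasiCompact (pullback.snd G.hom p)), ?_⟩
    exact Sga7.H738.RankZeroBc.fibresUnipotentRankZero_bc Sga7.H738.S4057Comm.l2 p G hur
  have hrk := (S4077.result R' K' N hN).1 hsem
  have gA : GrpObj (Over.mk A.hom) := ‹GrpObj A›
  have hsmA : Smooth A.hom := smooth_of_grpObj A.hom
  have hdimN : topologicalKrullDim ((SGA7.genFib R' K').obj N).left = g := by
    obtain ⟨n, hn⟩ := Sga7.H620.DimSmooth.exists_dim A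
    have h1 := hn K' f
    have h2 := hn K (𝟙 _)
    have h3 : topologicalKrullDim (Red.bc (𝟙 (Spec (CommRingCat.of K))) A).left = topologicalKrullDim A.left :=
      SGA7.K566.CM.topologicalKrullDim_eq_of_iso (pullback.fst A.hom (𝟙 _))
    have h4 : topologicalKrullDim ((SGA7.genFib R' K').obj N).left = topologicalKrullDim (Red.bc f A).left :=
      SGA7.K566.CM.topologicalKrullDim_eq_of_iso e.hom.left
    rw [h4, h1, ← h2, h3, hg]
  have cA' : IsCommMonObj (Red.bc f A) := Sga7.H620.NOS.isCommMonObj_bc f A
  have cK' : IsCommMonObj ((SGA7.genFib R' K').obj N) :=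
    Sga7.H620.NOS.isCommMonObj_bc (Spec.map (CommRingCat.ofHom (algebraMap R' K'))) N
  let α : EndAV.End A →+* EndAV.End N :=
    (RingEquiv.ofBijective (SGA7.K566.EndBc.bcEnd (Spec.map (CommRingCat.ofHom (algebraMap R' K'))) N)
      (SGA7.K566.EndBc.bijective_bcEnd N hN)).symm.toRingHom.comp
      ((SGA7.K566.EndBc.conjEnd e).comp (SGA7.K566.EndBc.bcEnd f A))
  have hprop : IsProper N.hom :=
    SGA7.K566.CM.isProper_of_cm R' K' N hN (hrk _) g hdimN α L hL hLfin hdeg
  exact Sga7.H331.n7Good R K R' K' A N e he hN hprop

end Groth.Agent.S17457
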