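import Groth.Statements.S17449
import Groth.Agent.S7803
import Groth.Agent.Ega43.DvrScheme
import Groth.Agent.Ega43.GeomFibre
import Groth.Agent.Flat2D.GeomFib
import Groth.Agent.Sga4B.SmoothNormal
import Groth.Agent.Ega1.GenPts
import Groth.Agent.UnramA.NormalUnibranch
import Mathlib.AlgebraicGeometry.Morphisms.SchemeTheoreticallyDominant

set_option autoImplicit false
universe u
open CategoryTheory CategoryTheory.Limits AlgebraicGeometry
open Stein

namespace Groth.Agent.S17449

/-- A connected smooth scheme over a field is integral. -/
theorem isIntegral_of_connected {k : Type u} [Field k] {X : Scheme.{u}} (f : X ⟶ Spec (CommRingCat.of k))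
    [Smooth f] [ConnectedSpace X] : IsIntegral X := by
  have h1 : IsLocallyNoetherian X := LocallyOfFiniteType.isLocallyNoetherian f
  rw [Groth.Agent.Ega1.GenPts.isIntegral_iff]
  exact ⟨inferInstance, fun x => (Groth.Agent.Sga4B.SmoothNormal.isNormalScheme_of_smooth f x).1⟩

/-- The local rings of the spectrum of a discrete valuation ring are geometrically unibranch. -/
theorem isGeomUnibranch_dvr (R : Type u) [CommRing R] [IsDomain R] [IsDiscreteValuationRing R]
    (s : ↥(Spec (CommRingCat.of R))) : CAlg2.IsGeomUnibranch ((Spec (CommRingCat.of R)).presheaf.stalk s) := by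
  have h1 : IsIntegrallyClosed ((Spec (CommRingCat.of R)).presheaf.stalk s) := by
    let p : PrimeSpectrum R := s
    let _ : Algebra R ((Spec (CommRingCat.of R)).presheaf.stalk s) := StructureSheaf.stalkAlgebra R p
    have h2 : IsLocalization.AtPrime ((Spec (CommRingCat.of R)).presheaf.stalk s) p.asIdeal :=
      StructureSheaf.IsLocalization.to_stalk R p
    exact isIntegrallyClosed_of_isLocalization (R := R) _ p.asIdeal.primeCompl
      (Ideal.primeCompl_le_nonZeroDivisors _)
  exact Groth.Agent.UnramA.NormalUnibranch.isGeomUnibranch_of_isIntegrallyClosed _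

/-- A scheme flat over a discrete valuation ring with integral generic fibre is integral. -/
theorem isIntegral_of_flat (R L : Type u) [CommRing R] [IsDomain R] [Field L] [Algebra R L] [IsFractionRing R L]
    {X Z : Scheme.{u}} (p : X ⟶ Spec (CommRingCat.of R)) [Flat p] (w : Z ⟶ X) (z : Z ⟶ Spec (CommRingCat.of L))
    (h : IsPullback w z p (Spec.map (CommRingCat.ofHom (algebraMap R L)))) [IsIntegral Z] : IsIntegral X := by
  have h0 : IsDominant (Spec.map (CommRingCat.ofHom (algebraMap R L))) := by
    constructor
    change DenseRange (PrimeSpectrum.comap (algebraMap R L))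
    rw [PrimeSpectrum.denseRange_comap_iff_ker_le_nilRadical,
      (RingHom.injective_iff_ker_eq_bot _).mp (IsFractionRing.injective R L)]
    exact bot_le
  have h1 : IsSchemeTheoreticallyDominant (Spec.map (CommRingCat.ofHom (algebraMap R L))) :=
    IsSchemeTheoreticallyDominant.of_isDominant _
  have h2 : IsSchemeTheoreticallyDominant w := IsSchemeTheoreticallyDominant.of_isPullback h.flip
  have h3 : QuasiCompact w := MorphismProperty.of_isPullback h.flip inferInstance
  have h4 : IsReduced X := IsSchemeTheoreticallyDominant.isReduced w
  have h5 : IrreducibleSpace X := by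
    rw [irreducibleSpace_def]
    convert! ((IrreducibleSpace.isIrreducible_univ Z).image _ w.continuous.continuousOn).closure
    simpa using w.denseRange.closure_range.symm
  exact isIntegral_of_irreducibleSpace_of_isReduced _

/-- Let S be a Noetherian scheme and f : X → S a proper, flat and surjective morphism. Suppose that for
every generic point η of an irreducible component of S the fibre of f at η is geometrically
connected and smooth over the residue field κ(η). Then every fibre of f is geometrically connected. -/
theorem result {X S : Scheme.{u}}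
    (f : X ⟶ S) [IsProper f] [Flat f] [Surjective f] [IsNoetherian S]
    (h : ∀ (Z : Set ↑S) (η : ↑S), Z ∈ irreducibleComponents ↑S → IsGenericPoint η Z →
      GeometricallyConnected (f.fiberToSpecResidueField η) ∧ Smooth (f.fiberToSpecResidueField η)) :
    GeometricallyConnected f := by
  rw [GeometricallyConnected.iff_geometricallyConnected_fiber]
  intro s
  obtain ⟨η, hη⟩ := QuasiSober.sober (isIrreducible_irreducibleComponent (x := s))
    isClosed_irreducibleComponent
  have hη' : IsGenericPoint η (irreducibleComponent s) := hη
  obtain ⟨h1, h2⟩ := h _ η (irreducibleComponent_mem_irreducibleComponents s) hη'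
  by_cases hs : η = s
  · subst hs; exact h1
  have hsp : η ⤳ s := hη'.specializes mem_irreducibleComponent
  obtain ⟨R, i1, i2, i3, i4, i5, g, hg1, hg2⟩ := Groth.Agent.Ega43.DvrScheme.exists_dvr_of_specializes
    hsp hs (S.residueField η) (𝟙 _) (by
      refine RingHom.FiniteType.essFiniteType ?_
      exact RingHom.FiniteType.of_surjective _ Function.surjective_id)
  let L := S.residueField η
  have sq : IsPullback (pullback.fst f g) (pullback.snd f g) f g := .of_hasPullback f g
  let γ : Spec (CommRingCat.of L) ⟶ Spec (CommRingCat.of R) :=
    Spec.map (CommRingCat.ofHom (algebraMap R (S.residueField η)))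
  have hγ : γ ≫ g = S.fromSpecResidueField η := by
    have h3 := hg2
    rw [Spec.map_id] at h3
    exact h3.trans (Category.id_comp _)
  let w : f.fiber η ⟶ pullback f g := pullback.lift (f.fiberι η) (f.fiberToSpecResidueField η ≫ γ)
    (by rw [Category.assoc, hγ]; exact pullback.condition)
  have sqw : IsPullback w (f.fiberToSpecResidueField η) (pullback.snd f g) γ := by
    refine IsPullback.of_right (h₁₂ := pullback.fst f g) (h₂₂ := g) (v₁₃ := f) ?_ ?_ sq
    · have e : w ≫ pullback.fst f g = f.fiberι η := pullback.lift_fst _ _ _
      rw [e, hγ]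
      exact IsPullback.of_hasPullback f (S.fromSpecResidueField η)
    · exact pullback.lift_snd _ _ _
  have hcon : ConnectedSpace ↥(f.fiber η) :=
    GeometricallyConnected.connectedSpace_of_subsingleton (f.fiberToSpecResidueField η)
  have hint : IsIntegral (f.fiber η) :=
    isIntegral_of_connected (k := S.residueField η) (f.fiberToSpecResidueField η)
  have hintR : IsIntegral (pullback f g) := isIntegral_of_flat R L (pullback.snd f g) w _ sqw
  let c₀ : ↥(Spec (CommRingCat.of L)) := IsLocalRing.closedPoint L
  let c₁ : ↥(Spec (CommRingCat.of R)) := IsLocalRing.closedPoint R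
  have hgen : γ c₀ = genericPoint ↥(Spec (CommRingCat.of R)) := by
    rw [genericPoint_eq_bot_of_affine]
    apply PrimeSpectrum.ext
    change (IsLocalRing.maximalIdeal L).comap (algebraMap R L) = ⊥
    rw [IsLocalRing.maximalIdeal_eq_bot, ← RingHom.ker_eq_comap_bot]
    exact (RingHom.injective_iff_ker_eq_bot _).mp (IsFractionRing.injective R L)
  have hgη : g (genericPoint ↥(Spec (CommRingCat.of R))) = η := by
    rw [← hgen, ← Scheme.Hom.comp_apply, hγ]
    exact Scheme.fromSpecResidueField_apply _ _
  have k1 : MoreMor.nGeomConnComp (pullback.snd f g) (genericPoint ↥(Spec (CommRingCat.of R))) = 1 := by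
    rw [Groth.Agent.Flat2D.GeomFib.nGeomConnComp_baseChange f (pullback.snd f g) (pullback.fst f g) g sq,
      hgη]
    exact Groth.Agent.Ega43.GeomFibre.nGeomConnComp_eq_one f η h1
  have k2 : GeometricallyConnected ((pullback.snd f g).fiberToSpecResidueField
      (genericPoint ↥(Spec (CommRingCat.of R)))) :=
    Groth.Agent.Ega43.GeomFibre.geometricallyConnected_of_nGeomConnComp _ _ k1
  have k3 : GeometricallyConnected (pullback.snd f g) :=
    Groth.Agent.S7803.result (pullback.snd f g) (isGeomUnibranch_dvr R) k2
  have k4 : MoreMor.nGeomConnComp (pullback.snd f g) c₁ = 1 :=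
    Groth.Agent.Ega43.GeomFibre.nGeomConnComp_eq_one _ _ inferInstance
  rw [Groth.Agent.Flat2D.GeomFib.nGeomConnComp_baseChange f (pullback.snd f g) (pullback.fst f g) g sq,
    show g c₁ = s from hg1] at k4
  exact Groth.Agent.Ega43.GeomFibre.geometricallyConnected_of_nGeomConnComp _ _ k4

end Groth.Agent.S17449
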