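import Groth.Statements.S17377
import Groth.Agent.Ega2.H277.UnivHomeo
import Groth.Agent.Ega2.Normal
import Groth.Agent.Divis.CartierStalk
import Groth.Agent.S10855

set_option autoImplicit false
universe u
open CategoryTheory CategoryTheory.Limits AlgebraicGeometry
open Variety

namespace Groth.Agent.S17377

theorem isIso_of_finite_birational {E D : Scheme.{u}} [IsIntegral E] [IsIntegral D]
    (hDn : Pi1.IsNormalScheme D) (g : E ⟶ D) [IsFinite g] (hsurj : Function.Surjective g.base)
    (hdeg : g.residueDegree (genericPoint E) = 1) : IsIso g := by
  have hgen : g (genericPoint E) = genericPoint D := by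
    have h1 : IsGenericPoint (g (genericPoint E)) (Set.univ : Set D) := by
      rw [isGenericPoint_def]
      apply Set.eq_univ_of_univ_subset
      rw [← hsurj.range_eq, ← Set.image_univ, ← (genericPoint_spec E).def]
      exact image_closure_subset_closure_image g.continuous |>.trans (by simp)
    exact h1.eq (genericPoint_spec D)
  have hb : Function.Bijective (g.residueFieldMap (genericPoint E)).hom := by
    refine ⟨RingHom.injective _, fun w => ?_⟩
    let := (g.residueFieldMap (genericPoint E)).hom.toAlgebra
    have h1 : Module.finrank (D.residueField (g (genericPoint E))) (E.residueField (genericPoint E)) = 1 := hdeg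
    obtain ⟨c, hc⟩ := (finrank_eq_one_iff_of_nonzero' (1 : E.residueField (genericPoint E)) one_ne_zero).1 h1 w
    refine ⟨c, ?_⟩
    rw [← hc, Algebra.smul_def, mul_one]
    rfl
  obtain ⟨t, ht⟩ := Ega2.H277.UnivHomeo.exists_functionField_section g (genericPoint E) hgen hb
  exact Ega2.Normal.isIso_of_functionField_section hDn g t ht

/-- Let X and Y be integral normal schemes locally of finite type over a field k and f : Y → X a finite
étale k-morphism; let D ⊆ X be a closed subscheme which is an effective Cartier divisor and is
integral and normal as a scheme, and E ⊆ Y an integral closed subscheme mapping to D by a surjective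
morphism g compatible with the inclusions whose residue-field extension at the generic point of E
has degree 1 (so E is a prime divisor of Y over D with the same function field: D splits in Y at the
level of Weil divisors). Then g is an isomorphism and E is an effective Cartier divisor on Y; in
particular D is the image of the relative Cartier divisor E (D is c-split). (The source works with
projective, geometrically normal and geometrically integral X, Y of dimension at least 2 and
geometrically normal, geometrically integral D; those hypotheses only serve base change to extension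
fields and are dropped here.) -/
theorem result (k : Type u) [Field k] (X Y : Scheme.{u})
    [X.Over (Spec (CommRingCat.of k))] [Y.Over (Spec (CommRingCat.of k))]
    [LocallyOfFiniteType (X ↘ Spec (CommRingCat.of k))] [LocallyOfFiniteType (Y ↘ Spec (CommRingCat.of k))]
    [IsIntegral X] [IsIntegral Y] (hX : Pi1.IsNormalScheme X) (hY : Pi1.IsNormalScheme Y)
    (f : Y ⟶ X) (hf : f ≫ (X ↘ Spec (CommRingCat.of k)) = Y ↘ Spec (CommRingCat.of k)) [IsFinite f] [Etale f]
    (D : X.IdealSheafData) (hD : FGA.IsEffCartier D) [IsIntegral D.subscheme] (hDn : Pi1.IsNormalScheme D.subscheme)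
    (E : Y.IdealSheafData) [IsIntegral E.subscheme]
    (g : (E.subscheme : Scheme.{u}) ⟶ D.subscheme) (hg : g ≫ D.subschemeι = E.subschemeι ≫ f)
    (hsurj : Function.Surjective g.base) (hdeg : g.residueDegree (genericPoint E.subscheme) = 1) :
    IsIso g ∧ FGA.IsEffCartier E := by
  have hfin : IsFinite (g ≫ D.subschemeι) := by rw [hg]; infer_instance
  have : IsFinite g := IsFinite.of_comp g D.subschemeι
  have hiso : IsIso g := isIso_of_finite_birational hDn g hsurj hdeg
  refine ⟨hiso, ?_⟩
  have : IsLocallyNoetherian Y := LocallyOfFiniteType.isLocallyNoetherian (Y ↘ Spec (CommRingCat.of k))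
  have hcom : BlowUp.IsEffCartierIdeal (D.comap f) := Groth.Agent.S10855.result f D hD
  refine Groth.Agent.Divis.CartierBasic.isEffCartierIdeal_of_stalkIdeal E fun x hx => ?_
  obtain ⟨a, ha, haD⟩ := Groth.Agent.Divis.CartierBasic.exists_stalkIdeal_eq_span hcom x
  refine ⟨a, ha, ?_⟩
  rw [← haD]
  obtain ⟨e, rfl⟩ := Groth.Agent.Divis.CartierStalk.exists_subscheme_apply_eq E hx
  -- the lift to the pullback
  let j : E.subscheme ⟶ pullback f D.subschemeι := pullback.lift E.subschemeι g hg.symm
  have hj1 : j ≫ pullback.fst f D.subschemeι = E.subschemeι := pullback.lift_fst _ _ _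
  have hj2 : j ≫ pullback.snd f D.subschemeι = g := pullback.lift_snd _ _ _
  have : IsClosedImmersion (j ≫ pullback.fst f D.subschemeι) := by rw [hj1]; infer_instance
  have hjc : IsClosedImmersion j := IsClosedImmersion.of_comp j (pullback.fst f D.subschemeι)
  have : Etale (j ≫ pullback.snd f D.subschemeι) := by rw [hj2]; infer_instance
  have hje : Etale j := Etale.of_comp j (pullback.snd f D.subschemeι)
  have hinj : Function.Injective (j.stalkMap e).hom := by
    have hfl : (j.stalkMap e).hom.Flat := Flat.stalkMap _ _
    algebraize [(j.stalkMap e).hom]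
    have : IsLocalHom (algebraMap ((pullback f D.subschemeι).presheaf.stalk (j e)) (E.subscheme.presheaf.stalk e)) :=
      inferInstanceAs (IsLocalHom (j.stalkMap e).hom)
    have : Module.FaithfullyFlat ((pullback f D.subschemeι).presheaf.stalk (j e)) (E.subscheme.presheaf.stalk e) :=
      Module.FaithfullyFlat.of_flat_of_isLocalHom
    exact FaithfulSMul.algebraMap_injective _ _
  have key : ∀ (ι : E.subscheme ⟶ Y) [IsClosedImmersion ι], j ≫ pullback.fst f D.subschemeι = ι →
      Groth.Agent.Divis.CartierBasic.stalkIdeal ι.ker (ι e) =
        Groth.Agent.Divis.CartierBasic.stalkIdeal (pullback.fst f D.subschemeι).ker (ι e) := by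
    rintro ι hι rfl
    have h1 := Groth.Agent.Divis.CartierStalk.ker_stalkMap (j ≫ pullback.fst f D.subschemeι) e
    have h2 := Groth.Agent.Divis.CartierStalk.ker_stalkMap (pullback.fst f D.subschemeι) (j e)
    rw [← h1]
    refine Eq.trans ?_ h2
    rw [Scheme.Hom.stalkMap_comp]
    ext s
    constructor
    · intro hs
      apply hinj
      rw [map_zero]
      exact hs
    · intro hs
      change (j.stalkMap e).hom (((pullback.fst f D.subschemeι).stalkMap (j e)).hom s) = 0
      rw [show ((pullback.fst f D.subschemeι).stalkMap (j e)).hom s = 0 from hs, map_zero]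
  have h3 := key E.subschemeι hj1
  rw [Scheme.IdealSheafData.ker_subschemeι] at h3
  exact h3

end Groth.Agent.S17377
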