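-- Statement S16836: AbVar.sum_count_mul_count_mul_natDegree_map_eq
import Groth.Statements.S16836
import Mathlib.FieldTheory.Separable
import Mathlib.FieldTheory.Perfect
import Mathlib.RingTheory.PrincipalIdealDomain

set_option autoImplicit false
universe u v
open scoped Classical
open AbVar

namespace Groth.Agent.S16836

open Polynomial UniqueFactorizationMonoid

section aux

variable {K : Type u} {L : Type v} [Field K] [Field L] [Algebra K L]

theorem natDegree_eq_sum_of_monic {f : L[X]} (hf : f.Monic) :
    ((normalizedFactors f).map natDegree).sum = f.natDegree := by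
  have h0 : f ≠ 0 := hf.ne_zero
  have h1 : (normalizedFactors f).prod = f := by
    rw [prod_normalizedFactors_eq h0, hf.normalize_eq_self]
  conv_rhs => rw [← h1]
  rw [natDegree_multiset_prod]
  intro h
  exact (prime_of_normalized_factor 0 h).ne_zero rfl

theorem isCoprime_map_of_ne {P Q : K[X]} (hP : Irreducible P) (hQ : Irreducible Q)
    (hPm : P.Monic) (hQm : Q.Monic) (hne : P ≠ Q) :
    IsCoprime (P.map (algebraMap K L)) (Q.map (algebraMap K L)) := by
  have h : IsCoprime P Q := by
    rw [hP.coprime_iff_not_dvd]
    intro hd
    exact hne (eq_of_monic_of_associated hPm hQm (hP.associated_of_dvd hQ hd))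
  exact h.map (mapRingHom (algebraMap K L))

theorem count_normalizedFactors_map [PerfectField K] {P : K[X]} (hP : Irreducible P) (hPm : P.Monic)
    {Q : L[X]} (hQ : Q ∈ normalizedFactors (P.map (algebraMap K L))) (f : K[X]) (hf : f ≠ 0) :
    (normalizedFactors (f.map (algebraMap K L))).count Q = (normalizedFactors f).count P := by
  have hQirr : Irreducible Q := irreducible_of_normalized_factor Q hQ
  have hQd : Q ∣ P.map (algebraMap K L) := dvd_of_mem_normalizedFactors hQ
  have hPm0 : P.map (algebraMap K L) ≠ 0 := (hPm.map _).ne_zero
  have key1 : (normalizedFactors (P.map (algebraMap K L))).count Q = 1 := by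
    have hsep : (P.map (algebraMap K L)).Separable :=
      (PerfectField.separable_of_irreducible hP).map
    have hsq : Squarefree (P.map (algebraMap K L)) := hsep.squarefree
    rw [squarefree_iff_nodup_normalizedFactors hPm0] at hsq
    exact Multiset.count_eq_one_of_mem hsq hQ
  have key2 : ∀ P' : K[X], Irreducible P' → P'.Monic → P' ≠ P →
      (normalizedFactors (P'.map (algebraMap K L))).count Q = 0 := by
    intro P' hP' hPm' hne
    rw [Multiset.count_eq_zero]
    intro hmem
    have hd := dvd_of_mem_normalizedFactors hmem
    exact hQirr.not_isUnit ((isCoprime_map_of_ne (L := L) hP' hP hPm' hPm hne).isUnit_of_dvd' hd hQd)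
  -- reduce to the product of the normalized factors
  have key3 : ∀ s : Multiset K[X], (∀ P' ∈ s, Irreducible P' ∧ P'.Monic) →
      (normalizedFactors ((s.prod).map (algebraMap K L))).count Q = s.count P := by
    intro s
    induction s using Multiset.induction_on with
    | empty => intro _; simp
    | cons a s ih =>
      intro h
      have ha := h a (Multiset.mem_cons_self a s)
      have hs : ∀ P' ∈ s, Irreducible P' ∧ P'.Monic := fun P' hP' => h P' (Multiset.mem_cons_of_mem hP')
      have hs0 : (s.prod).map (algebraMap K L) ≠ 0 := by
        refine (Monic.map _ ?_).ne_zero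
        have h9 := monic_multiset_prod_of_monic s id (fun i hi => (hs i hi).2)
        simpa using h9
      rw [Multiset.prod_cons, Polynomial.map_mul, normalizedFactors_mul (ha.2.map _).ne_zero hs0,
        Multiset.count_add, ih hs, Multiset.count_cons]
      by_cases hc : P = a
      · subst hc
        rw [key1]; simp [add_comm]
      · rw [key2 a ha.1 ha.2 (Ne.symm hc)]; simp [hc]
  have h1 : normalizedFactors (f.map (algebraMap K L)) =
      normalizedFactors (((normalizedFactors f).prod).map (algebraMap K L)) := by
    have hass : Associated ((normalizedFactors f).prod) f := prod_normalizedFactors hf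
    have hass' : Associated (((normalizedFactors f).prod).map (algebraMap K L)) (f.map (algebraMap K L)) :=
      hass.map (mapRingHom (algebraMap K L))
    have hf0 : f.map (algebraMap K L) ≠ 0 := (Polynomial.map_ne_zero_iff (algebraMap K L).injective).2 hf
    have hg0 : ((normalizedFactors f).prod).map (algebraMap K L) ≠ 0 :=
      (Polynomial.map_ne_zero_iff (algebraMap K L).injective).2 (hass.ne_zero_iff.2 hf)
    exact ((associated_iff_normalizedFactors_eq_normalizedFactors hg0 hf0).1 hass').symm
  rw [h1]
  refine key3 _ (fun P' hP' => ⟨irreducible_of_normalized_factor P' hP', ?_⟩)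
  have h2 := normalize_normalized_factor P' hP'
  have h3 : P' ≠ 0 := (irreducible_of_normalized_factor P' hP').ne_zero
  rw [← h2]
  exact monic_normalize h3

end aux

/-- Let K ⊆ L be a field extension and f₁, f₂ non-zero polynomials in K[t]. For a field F and
polynomials g₁, g₂ over F put r_F(g₁, g₂) = Σ_P mult_P(g₁) · mult_P(g₂) · deg P, the sum running
over the monic irreducible polynomials P in F[t] (mult_P the multiplicity of P as an irreducible
factor). Assume K is perfect. Then r_K(f₁, f₂) = r_L(f₁, f₂): the number does not depend on the
field over which the factorisations are taken. (Perfectness of K cannot be dropped: for K = F_p(s),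
L = K(s^{1/p}) and f₁ = f₂ = t^p − s the number is p over K and p² over L, since the irreducible t^p
− s becomes a p-th power over L; the published statement has no restriction on K, and its proof
requires the relevant K[t]-modules to remain semisimple after base change, which holds when every
irreducible factor stays squarefree over L, in particular for K perfect.) -/
theorem result (K : Type u) (L : Type v) [Field K] [PerfectField K] [Field L] [Algebra K L]
    (f₁ f₂ : K[X]) (h₁ : f₁ ≠ 0) (h₂ : f₂ ≠ 0) :
    ∑ P ∈ (normalizedFactors (f₁.map (algebraMap K L))).toFinset,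
        (normalizedFactors (f₁.map (algebraMap K L))).count P *
          (normalizedFactors (f₂.map (algebraMap K L))).count P * P.natDegree =
      ∑ P ∈ (normalizedFactors f₁).toFinset,
        (normalizedFactors f₁).count P * (normalizedFactors f₂).count P * P.natDegree := by
  have hmonic : ∀ P ∈ normalizedFactors f₁, P.Monic := by
    intro P' hP'
    have h2 := normalize_normalized_factor P' hP'
    have h3 : P' ≠ 0 := (irreducible_of_normalized_factor P' hP').ne_zero
    rw [← h2]
    exact monic_normalize h3
  have hf0 : f₁.map (algebraMap K L) ≠ 0 := (Polynomial.map_ne_zero_iff (algebraMap K L).injective).2 h₁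
  have hunion : (normalizedFactors (f₁.map (algebraMap K L))).toFinset =
      (normalizedFactors f₁).toFinset.biUnion
        (fun P => (normalizedFactors (P.map (algebraMap K L))).toFinset) := by
    ext Q
    simp only [Multiset.mem_toFinset, Finset.mem_biUnion]
    constructor
    · intro hQ
      have hQirr := irreducible_of_normalized_factor Q hQ
      have hQd : Q ∣ f₁.map (algebraMap K L) := dvd_of_mem_normalizedFactors hQ
      have hass' : Associated (((normalizedFactors f₁).prod).map (algebraMap K L))
          (f₁.map (algebraMap K L)) :=
        (prod_normalizedFactors h₁).map (mapRingHom (algebraMap K L))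
      have hQd' : Q ∣ ((normalizedFactors f₁).map (fun P => P.map (algebraMap K L))).prod := by
        have : ((normalizedFactors f₁).map (fun P => P.map (algebraMap K L))).prod =
            ((normalizedFactors f₁).prod).map (algebraMap K L) :=
          (map_multiset_prod (mapRingHom (algebraMap K L)) (normalizedFactors f₁)).symm
        rw [this]
        exact hQd.trans hass'.symm.dvd
      obtain ⟨R, hR, hQR⟩ := (hQirr.prime).exists_mem_multiset_dvd hQd'
      obtain ⟨P, hP, rfl⟩ := Multiset.mem_map.1 hR
      refine ⟨P, hP, ?_⟩
      obtain ⟨Q', hQ', hass⟩ := exists_mem_normalizedFactors_of_dvd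
        (((hmonic P hP).map (algebraMap K L)).ne_zero) hQirr hQR
      have h4 := normalize_normalized_factor Q' hQ'
      have h5 := normalize_normalized_factor Q hQ
      have : Q = Q' := by rw [← h4, ← h5]; exact normalize_eq_normalize_iff_associated.2 hass
      rwa [this]
    · rintro ⟨P, hP, hQ⟩
      have h6 := count_normalizedFactors_map (irreducible_of_normalized_factor P hP) (hmonic P hP)
        hQ f₁ h₁
      rw [← Multiset.count_pos, h6, Multiset.count_pos]
      exact hP
  rw [hunion, Finset.sum_biUnion]
  · refine Finset.sum_congr rfl (fun P hP => ?_)
    rw [Multiset.mem_toFinset] at hP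
    have hPirr := irreducible_of_normalized_factor P hP
    have hPm := hmonic P hP
    have h7 : ∀ Q ∈ (normalizedFactors (P.map (algebraMap K L))).toFinset,
        (normalizedFactors (f₁.map (algebraMap K L))).count Q *
          (normalizedFactors (f₂.map (algebraMap K L))).count Q * Q.natDegree =
        ((normalizedFactors f₁).count P * (normalizedFactors f₂).count P) * Q.natDegree := by
      intro Q hQ
      rw [Multiset.mem_toFinset] at hQ
      rw [count_normalizedFactors_map hPirr hPm hQ f₁ h₁, count_normalizedFactors_map hPirr hPm hQ f₂ h₂]
    rw [Finset.sum_congr rfl h7, ← Finset.mul_sum]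
    congr 1
    have hsep : (P.map (algebraMap K L)).Separable :=
      (PerfectField.separable_of_irreducible hPirr).map
    have hsq : Squarefree (P.map (algebraMap K L)) := hsep.squarefree
    rw [squarefree_iff_nodup_normalizedFactors (hPm.map _).ne_zero] at hsq
    have h8 := natDegree_eq_sum_of_monic (hPm.map (algebraMap K L))
    rw [natDegree_map] at h8
    rw [← h8, Finset.sum, Multiset.toFinset_val, Multiset.dedup_eq_self.2 hsq]
  · intro P hP P' hP' hne
    rw [Finset.mem_coe, Multiset.mem_toFinset] at hP hP'
    rw [Function.onFun, Finset.disjoint_left]
    intro Q hQ hQ'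
    rw [Multiset.mem_toFinset] at hQ hQ'
    have hc := isCoprime_map_of_ne (L := L) (irreducible_of_normalized_factor P hP)
      (irreducible_of_normalized_factor P' hP') (hmonic P hP) (hmonic P' hP') hne
    exact (irreducible_of_normalized_factor Q hQ).not_isUnit
      (hc.isUnit_of_dvd' (dvd_of_mem_normalizedFactors hQ) (dvd_of_mem_normalizedFactors hQ'))

end Groth.Agent.S16836
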