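import Groth.Statements.S18369
import Groth.Agent.AbVar.K512.PhiSurj
import Groth.Agent.AbVar.K515.Bc
import Groth.Agent.AbVar.K510.TorsGen
import Groth.Agent.CohqB.AmpGeneric
import Groth.Agent.Fdesc.AmpleDescent

set_option autoImplicit false
universe u
open CategoryTheory CategoryTheory.Limits MonoidalCategory CartesianMonoidalCategory MonObj GrpObj AlgebraicGeometry
open AbVar

namespace Groth.Agent.S18369

open Groth.Agent Groth.Agent.Grpsch.PicGrp Groth.Agent.Grpsch.Cube K512.Phi K515.Bc
  Groth.Agent.Sga7.H761.BaseChg Groth.Agent.Sga7.H761.TransSig Groth.Agent.Fdesc.LocGen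

section Mul

variable {k : Type u} [Field k] {A : Over (Spec (CommRingCat.of k))} [GrpObj A]

/-- The Mumford condition, on all points. -/
theorem pl_mul (c : Pic A.left) (h : pl μ[A] c = pl (fst A A) c * pl (snd A A) c)
    {T : Over (Spec (CommRingCat.of k))} (a b : T ⟶ A) : pl (a * b) c = pl a c * pl b c := by
  have h1 : a * b = lift a b ≫ μ[A] := rfl
  rw [h1, pl_comp, h, map_mul, ← pl_comp, ← pl_comp, lift_fst, lift_snd]

variable (Ω : Type u) [Field Ω] [Algebra k Ω]

theorem pl_bc (c : Pic A.left) {T : Over (Spec (CommRingCat.of Ω))} (a : T ⟶ bc Ω A) :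
    pl a (pull (pr Ω A) c) = pull (adjn Ω a).left c := by
  rw [pl, ← pull_comp, adjn_left]

theorem pl_bc_mul (c : Pic A.left) (h : pl μ[A] c = pl (fst A A) c * pl (snd A A) c)
    {T : Over (Spec (CommRingCat.of Ω))} (a b : T ⟶ bc Ω A) :
    pl (a * b) (pull (pr Ω A) c) = pl a (pull (pr Ω A) c) * pl b (pull (pr Ω A) c) := by
  rw [pl_bc, pl_bc, pl_bc, adjn_mul]
  exact pl_mul c h _ _

theorem pl_tr_bc (c : Pic A.left) (h : pl μ[A] c = pl (fst A A) c * pl (snd A A) c)
    (x : 𝟙_ (Over (Spec (CommRingCat.of Ω))) ⟶ bc Ω A) :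
    pl (tr x) (pull (pr Ω A) c) = pull (pr Ω A) c := by
  rw [tr, pl_bc_mul Ω c h, pl_id, Groth.Agent.Sga7.H260.Square.pl_const, _root_.mul_one]

end Mul

/-- Over an algebraically closed field. -/
theorem ample_closed {k : Type u} [Field k] [IsAlgClosed k] (A : Over (Spec (CommRingCat.of k))) [GrpObj A]
    [IsProper A.hom] [GeometricallyIntegral A.hom] (L : A.left.Modules) (hL : CohB1.IsAmple L) (N : A.left.Modules)
    (hN : PicF.IsInvertible N)
    (hm : ∀ x : 𝟙_ (Over (Spec (CommRingCat.of k))) ⟶ A, pl (tr x) (mk N hN) = mk N hN) :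
    CohB1.IsAmple (CohB1.tensorMod L N) := by
  obtain ⟨x, hx⟩ := K512.PhiSurj.exists_eq_of_isAmple L hL _ hm
  rw [mul_inv_eq_iff_eq_mul, mul_comm, mk_mul_mk, pull_mk, mk_eq_iff] at hx
  obtain ⟨e⟩ := hx
  have hiso : IsIso (tr x) :=
    ⟨tr x⁻¹, by rw [tr_comp_tr, mul_inv_cancel, tr_one], by rw [tr_comp_tr, inv_mul_cancel, tr_one]⟩
  have hiso' : IsIso (tr x).left := inferInstanceAs (IsIso ((Over.forget _).map (tr x)))
  exact Groth.Agent.CohqB.AmpCocycle.isAmple_of_iso e (Groth.Agent.CohqB.AmpCocycle.isAmple_pullback (tr x).left hL)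

/-- Let k be a field, A an abelian variety over k (a proper smooth k-group scheme with geometrically
connected fibres) with group law m : A × A → A and projections p₁, p₂, L an ample invertible
O_A-module, and N an invertible O_A-module whose class lies in the dual abelian variety, expressed
as m^*N ≅ p₁^*N ⊗ p₂^*N. Then L ⊗ N is again ample; so ampleness of an invertible module on A
depends only on its class modulo Pic⁰. -/
theorem result (k : Type u) [Field k]
    (A : Over (Spec (CommRingCat.of k))) [GrpObj A] [IsProper A.hom] [Smooth A.hom] [GeometricallyConnected A.hom]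
    (L N : A.left.Modules) (hL : CohB1.IsAmple L) (hN : PicF.IsInvertible N)
    (hN0 : Nonempty ((Scheme.Modules.pullback μ[A].left).obj N ≅
      CohB1.tensorMod ((Scheme.Modules.pullback (fst A A).left).obj N) ((Scheme.Modules.pullback (snd A A).left).obj N))) :
    CohB1.IsAmple (CohB1.tensorMod L N) := by
  have hconn : ConnectedSpace A.left :=
    have : Subsingleton (Spec (CommRingCat.of k)) := inferInstanceAs (Subsingleton (PrimeSpectrum k))
    GeometricallyConnected.connectedSpace_of_subsingleton A.hom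
  have hgi : GeometricallyIntegral A.hom := K510.TorsGen.geometricallyIntegral_of_smooth_connected A
  have h0 : pl μ[A] (mk N hN) = pl (fst A A) (mk N hN) * pl (snd A A) (mk N hN) := by
    rw [pull_mk, pull_mk, pull_mk, mk_mul_mk, mk_eq_iff]
    exact hN0
  let Ω := AlgebraicClosure k
  have hfa : IsAffineHom (fKL k Ω) := by
    unfold fKL
    infer_instance
  have hpa : IsAffineHom (pr Ω A) :=
    MorphismProperty.of_isPullback (P := @IsAffineHom) (isPullback_pr Ω A).flip hfa
  have h1 := ample_closed (bc Ω A) _ (Groth.Agent.CohqB.AmpCocycle.isAmple_pullback (pr Ω A) hL)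
    ((Scheme.Modules.pullback (pr Ω A)).obj N) (isInvertible_pullback (pr Ω A) hN)
    (fun x => by
      have := pl_tr_bc Ω (mk N hN) h0 x
      rwa [pull_mk (pr Ω A)] at this)
  have h2 : CohB1.IsAmple ((Scheme.Modules.pullback (pr Ω A)).obj (CohB1.tensorMod L N)) := by
    have := isIso_pullTensor (pr Ω A) hL.1 hN
    exact Groth.Agent.CohqB.AmpCocycle.isAmple_of_iso (asIso (pullTensor (pr Ω A) L N)).symm h1
  have hs : Surjective (fKL k Ω) := ⟨fun y => ⟨IsLocalRing.closedPoint Ω, Subsingleton.elim (α := PrimeSpectrum k) _ _⟩⟩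
  have hf : Flat (fKL k Ω) := by
    unfold fKL
    infer_instance
  exact Groth.Agent.Fdesc.AmpleDescent.isAmple_of_isPullback A.hom (fKL k Ω) (pr Ω A) (bc Ω A).hom (isPullback_pr Ω A)
    _ (isInvertible_tensorMod hL.1 hN) h2

end Groth.Agent.S18369
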