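import Groth.Statements.S6619
import Groth.Agent.Cohder.RDAcyc

set_option autoImplicit false
universe v v' u u'
open CategoryTheory CategoryTheory.Limits
open CohDer

namespace Groth.Agent.S6619

/-- In the case where A has enough injectives (an object X is right acyclic for the left exact functor F
when RⁱF(X) = 0 for all i > 0): suppose A and B are abelian categories, A has enough injectives, F :
A ⥤ B is left exact, and 0 → X₁ → X₂ → X₃ → 0 is a short exact sequence of A. (1) If X₁, X₃ are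
right acyclic so is X₂; (2) if X₁, X₂ are right acyclic so is X₃; (3) if X₂, X₃ are right acyclic
and F(X₂) ⟶ F(X₃) is surjective then X₁ is right acyclic. In each of the three cases 0 → F(X₁) →
F(X₂) → F(X₃) → 0 is short exact. -/
theorem result {A : Type u} [Category.{v} A] [Abelian A] [EnoughInjectives A]
    {B : Type u'} [Category.{v'} B] [Abelian B] (F : A ⥤ B) [F.Additive] [PreservesFiniteLimits F]
    (S : ShortComplex A) (hS : S.ShortExact) :
    ((∀ i : ℕ, 0 < i → IsZero ((F.rightDerived i).obj S.X₁)) → (∀ i : ℕ, 0 < i → IsZero ((F.rightDerived i).obj S.X₃)) →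
      (∀ i : ℕ, 0 < i → IsZero ((F.rightDerived i).obj S.X₂)) ∧ (S.map F).ShortExact) ∧
    ((∀ i : ℕ, 0 < i → IsZero ((F.rightDerived i).obj S.X₁)) → (∀ i : ℕ, 0 < i → IsZero ((F.rightDerived i).obj S.X₂)) →
      (∀ i : ℕ, 0 < i → IsZero ((F.rightDerived i).obj S.X₃)) ∧ (S.map F).ShortExact) ∧
    ((∀ i : ℕ, 0 < i → IsZero ((F.rightDerived i).obj S.X₂)) → (∀ i : ℕ, 0 < i → IsZero ((F.rightDerived i).obj S.X₃)) →
      Epi (F.map S.g) → (∀ i : ℕ, 0 < i → IsZero ((F.rightDerived i).obj S.X₁)) ∧ (S.map F).ShortExact) := by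
  refine ⟨fun h₁ h₃ => ⟨fun i hi => Groth.Agent.Cohder.RDAcyc.isAcyc_X₂ F hS h₁ h₃ i hi,
      Groth.Agent.Cohder.RDAcyc.map_shortExact F hS (h₁ 1 zero_lt_one)⟩,
    fun h₁ h₂ => ⟨fun i hi => Groth.Agent.Cohder.RDAcyc.isAcyc_X₃ F hS h₁ h₂ i hi,
      Groth.Agent.Cohder.RDAcyc.map_shortExact F hS (h₁ 1 zero_lt_one)⟩, fun h₂ h₃ hg => ?_⟩
  have h1 : IsZero ((F.rightDerived 1).obj S.X₁) := by
    obtain ⟨δ, hδ⟩ := (Groth.Agent.Cohder.RDLES.exists_les F hS).2.2
    obtain ⟨w₁, w₂, h, h'⟩ := hδ 0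
    have hepi : Epi ((F.rightDerived 0).map S.g) := by
      have h6 : (F.rightDerived 0).map S.g =
          F.rightDerivedZeroIsoSelf.hom.app S.X₂ ≫ F.map S.g ≫ F.rightDerivedZeroIsoSelf.inv.app S.X₃ := by
        rw [← Category.assoc, ← F.rightDerivedZeroIsoSelf.hom.naturality, Category.assoc,
          ← NatTrans.comp_app, Iso.hom_inv_id, NatTrans.id_app, Category.comp_id]
      rw [h6]
      infer_instance
    have hδ0 : δ 0 = 0 := by
      rw [← cancel_epi ((F.rightDerived 0).map S.g), w₁, comp_zero]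
    exact h'.isZero_of_both_zeros hδ0 ((h₂ 1 zero_lt_one).eq_of_tgt _ _)
  refine ⟨fun i hi => ?_, Groth.Agent.Cohder.RDAcyc.map_shortExact F hS h1⟩
  obtain ⟨i, rfl⟩ : ∃ j, i = j + 1 := ⟨i - 1, by lia⟩
  rcases Nat.eq_zero_or_pos i with rfl | hi'
  · exact h1
  · exact Groth.Agent.Cohder.RDAcyc.isZero_X₁ F hS i (h₃ i hi') (h₂ (i + 1) (by lia))

end Groth.Agent.S6619
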