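import Groth.Statements.S15958
import Mathlib.AlgebraicGeometry.Morphisms.FlatDescent
import Groth.Agent.Neron.K488.LftGen
import Groth.Agent.Sga3C.KerSquare

set_option autoImplicit false
universe u
open Neron

namespace Groth.Agent.S15958

open CategoryTheory AlgebraicGeometry in
theorem descendsAlong_gen (P : MorphismProperty Scheme.{u})
    [MorphismProperty.DescendsAlong P (@Surjective ⊓ @Flat ⊓ @QuasiCompact)] [IsZariskiLocalAtTarget P] :
    MorphismProperty.DescendsAlong P (@Surjective ⊓ @Flat ⊓ @LocallyOfFinitePresentation) := inferInstance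

open CategoryTheory Limits AlgebraicGeometry MonoidalCategory CartesianMonoidalCategory MonObj GrpObj
  K488.LftGen in
/-- A flat surjective homomorphism, locally of finite presentation, with smooth kernel is smooth. -/
theorem smooth_of_isKernel {S : Scheme.{u}} {N G Q : Over S} [GrpObj G] [GrpObj Q] (i : N ⟶ G) (q : G ⟶ Q)
    [IsMonHom q] [Flat q.left] [Surjective q.left] [LocallyOfFinitePresentation q.left]
    (hk : AlgGrp.IsKernel i q) [Smooth N.hom] : Smooth q.left := by
  obtain ⟨d, hd⟩ := Groth.Agent.Sga3C.KerSquare.isPullback_fst_ker q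
  have h1 : Smooth (Limits.pullback.snd q.left (η[Q] : 𝟙_ (Over S) ⟶ Q).left) := by
    have h2 : IsPullback i.left N.hom q.left (η[Q] : 𝟙_ (Over S) ⟶ Q).left := by
      have h3 := hk.map (Over.forget S)
      have h4 : (toUnit N).left = N.hom := by
        simpa using Over.w (toUnit N)
      have h5 : (Over.forget S).map (toUnit N) = N.hom := h4
      rw [h5] at h3
      exact h3
    have h3 : h2.isoPullback.inv ≫ N.hom =
        Limits.pullback.snd q.left (η[Q] : 𝟙_ (Over S) ⟶ Q).left := h2.isoPullback_inv_snd
    rw [← h3]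
    infer_instance
  have h2 : Smooth (Limits.pullback.fst q.left q.left) := MorphismProperty.of_isPullback hd.flip h1
  have hz : IsZariskiLocalAtTarget (@Smooth : MorphismProperty Scheme.{u}) :=
    HasRingHomProperty.instIsZariskiLocalAtTarget (P := @Smooth) (Q := RingHom.Smooth)
  have hD := descendsAlong_gen.{u} (@Smooth)
  exact MorphismProperty.of_isPullback_of_descendsAlong (P := @Smooth)
      (Q := @Surjective ⊓ @Flat ⊓ @LocallyOfFinitePresentation) (IsPullback.of_hasPullback q.left q.left)
      ⟨⟨‹_›, ‹_›⟩, ‹_›⟩ h2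

open CategoryTheory Limits AlgebraicGeometry MonoidalCategory CartesianMonoidalCategory MonObj GrpObj
  K488.LftGen in
/-- The extension argument over an arbitrary base with a schematically dominant `gn : E ⟶ S`. -/
theorem exists_ext {S E : Scheme.{u}} (gn : E ⟶ S) [IsSchemeTheoreticallyDominant gn] [QuasiCompact gn]
    (G' G G'' : Over S) [GrpObj G'] [GrpObj G] [GrpObj G'']
    [Smooth G'.hom] [Smooth G.hom] [IsSeparated G.hom] [Smooth G''.hom]
    (i : G' ⟶ G) (q : G ⟶ G'') [IsMonHom q]
    (hker : AlgGrp.IsKernel i q) [Flat q.left] [Surjective q.left]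
    (hG' : ∀ Y : Over S, Smooth Y.hom → ∀ f : gen gn Y ⟶ G', ∃ g : Y ⟶ G', proj gn Y ≫ g = f)
    (hG'' : ∀ Y : Over S, Smooth Y.hom → ∀ f : gen gn Y ⟶ G'', ∃ g : Y ⟶ G'', proj gn Y ≫ g = f)
    (Y : Over S) (hY : Smooth Y.hom) (f : gen gn Y ⟶ G) : ∃ g : Y ⟶ G, proj gn Y ≫ g = f := by
  have hlfp : LocallyOfFinitePresentation q.left := by
    have h1 : LocallyOfFinitePresentation (q.left ≫ G''.hom) := by
      rw [Over.w]
      infer_instance
    exact Groth.Agent.Ega43.FPOfComp.locallyOfFinitePresentation_of_comp q.left G''.hom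
  have hq : Smooth q.left := smooth_of_isKernel i q hker
  obtain ⟨v, hv⟩ := hG'' Y hY (f ≫ q)
  let P : Over S := pullback v q
  let p₁ : P ⟶ Y := pullback.fst v q
  let p₂ : P ⟶ G := pullback.snd v q
  have hsq : p₁ ≫ v = p₂ ≫ q := pullback.condition
  have hpl : IsPullback p₁.left p₂.left v.left q.left :=
    (IsPullback.of_hasPullback v q).map (Over.forget S)
  have j1 : Smooth p₁.left := MorphismProperty.of_isPullback (P := @Smooth) hpl.flip inferInstance
  have j2 : Surjective p₁.left := MorphismProperty.of_isPullback (P := @Surjective) hpl.flip inferInstance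
  have hP : Smooth P.hom := by
    rw [← Over.w p₁]
    infer_instance
  -- the difference of the two candidates lies in the kernel
  let d₀ : gen gn P ⟶ G := (genMap gn p₁ ≫ f) * (proj gn P ≫ p₂)⁻¹
  have hd₀ : d₀ ≫ q = toUnit _ ≫ η[G''] := by
    have h1 : (genMap gn p₁ ≫ f) ≫ q = (proj gn P ≫ p₂) ≫ q := by
      rw [Category.assoc, ← hv, Category.assoc, ← hsq, ← Category.assoc, ← Category.assoc, genMap_proj]
    rw [MonObj.mul_comp, GrpObj.inv_comp, h1, mul_inv_cancel, Hom.one_def]
  let d₁ : gen gn P ⟶ G' := hker.lift d₀ (toUnit _) hd₀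
  have hd₁ : d₁ ≫ i = d₀ := hker.lift_fst _ _ _
  obtain ⟨d, hd⟩ := hG' P hP d₁
  obtain ⟨g, hg, -⟩ := exists_ext_of_cover (gn := gn) p₁ f ((d ≫ i) * p₂) (by
    rw [comp_mul, ← Category.assoc, hd, hd₁]
    simp [d₀])
  exact ⟨g, hg⟩

open CategoryTheory AlgebraicGeometry MonObj in
/-- Let S be a Dedekind scheme (integral, Noetherian, separated, of dimension one, with regular local
rings) with generic point η : Spec K → S, and let G', G and G'' be smooth separated group schemes
over S sitting in a short exact sequence 0 → G' → G → G'' → 0: i : G' → G and q : G → G'' are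
homomorphisms, i identifies G' with the kernel of q, and q is flat and surjective. If G' and G'' are
Néron lft-models of their generic fibres (for every smooth S-scheme Y, restriction to η is a
bijection from S-morphisms into them onto K-morphisms of generic fibres), then so is G. -/
theorem result
    {S : Scheme.{u}} [IsIntegral S] [IsNoetherian S] [S.IsSeparated]
    (hreg : ∀ s : S, IsRegularLocalRing (S.presheaf.stalk s)) (hdim : topologicalKrullDim S = 1)
    (G' G G'' : Over S) [GrpObj G'] [GrpObj G] [GrpObj G'']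
    [Smooth G'.hom] [IsSeparated G'.hom] [Smooth G.hom] [IsSeparated G.hom] [Smooth G''.hom] [IsSeparated G''.hom]
    (i : G' ⟶ G) (q : G ⟶ G'') [IsMonHom i] [IsMonHom q]
    (hker : AlgGrp.IsKernel i q) [Flat q.left] [Surjective q.left]
    (hG' : ∀ Y : Over S, Smooth Y.hom →
        Function.Bijective (fun g : Y ⟶ G' => (Over.pullback (S.fromSpecStalk (genericPoint S))).map g))
    (hG'' : ∀ Y : Over S, Smooth Y.hom →
        Function.Bijective (fun g : Y ⟶ G'' => (Over.pullback (S.fromSpecStalk (genericPoint S))).map g)) :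
    ∀ Y : Over S, Smooth Y.hom →
        Function.Bijective (fun g : Y ⟶ G => (Over.pullback (S.fromSpecStalk (genericPoint S))).map g) := by
  intro Y hY
  have hdom := K488.LftGen.isSchemeTheoreticallyDominant_fromSpecStalk S
  have hqc : QuasiCompact (S.fromSpecStalk (genericPoint S)) := inferInstance
  rw [K488.LftGen.bijective_map_iff]
  refine ⟨fun a b hab => K488.LftGen.ext_gen hab, fun f => ?_⟩
  exact exists_ext (S.fromSpecStalk (genericPoint S)) G' G G'' i q hker
    (fun Z hZ f => ((K488.LftGen.bijective_map_iff Z G').mp (hG' Z hZ)).2 f)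
    (fun Z hZ f => ((K488.LftGen.bijective_map_iff Z G'').mp (hG'' Z hZ)).2 f) Y hY f

end Groth.Agent.S15958
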