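import Groth.Statements.S14585
import Groth.Agent.AlgGrp.K401.NoA1
import Groth.Agent.AbVar.K505.RatConst
import Groth.Agent.Sga3.H794.ChevClosed
import Groth.Agent.AlgGrp.K395.Pts
-- import your own Groth.Agent.* helpers here

set_option autoImplicit false
universe u
open CategoryTheory MonoidalCategory CartesianMonoidalCategory MonObj GrpObj AlgebraicGeometry CategoryTheory.Limits
open AlgGrp

namespace Groth.Agent.S14585

/-- Let k be an algebraically closed field and G a smooth connected k-group scheme of finite type. Then
G is a semi-abelian variety, i.e. an extension of an abelian variety by a torus (there are a closed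
subgroup scheme i : T → G with T a torus and a flat surjective homomorphism q : G → A with kernel T
onto a proper smooth connected k-group scheme), if and only if every k-morphism from the affine line
to G is constant. (The published statement is over a perfect field with constancy asked of morphisms
defined over k only; over the real numbers the group of quaternions of norm one receives only
constant morphisms from the affine line, by comparing leading coefficients in a sum of four squares
equal to 1, yet it is non-commutative, so not such an extension; the published proof uses root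
subgroups, available over an algebraic closure, so k is taken algebraically closed here.) -/
theorem result (k : Type u) [Field k] [IsAlgClosed k]
    (G : Over (Spec (CommRingCat.of k))) [GrpObj G] [Smooth G.hom] [QuasiCompact G.hom] [ConnectedSpace ↥G.left] :
    (∃ (T : Over (Spec (CommRingCat.of k))) (_ : GrpObj T) (i : T ⟶ G) (A : Over (Spec (CommRingCat.of k))) (_ : GrpObj A) (q : G ⟶ A),
        IsMonHom i ∧ IsClosedImmersion i.left ∧ Red.IsTorus T ∧ IsMonHom q ∧ Surjective q.left ∧ Flat q.left ∧
        AlgGrp.IsKernel i q ∧ IsProper A.hom ∧ Smooth A.hom ∧ ConnectedSpace ↥A.left) ↔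
    ∀ f : Over.mk (𝔸(PUnit.{u + 1}; Spec (CommRingCat.of k)) ↘ Spec (CommRingCat.of k)) ⟶ G, ∃ g : 𝟙_ (Over (Spec (CommRingCat.of k))) ⟶ G, f = toUnit _ ≫ g := by
  constructor
  · rintro ⟨T, _, i, A, _, q, hi1, hi2, hT, hq1, hq2, hq3, hk, hA1, hA2, hA3⟩ f
    obtain ⟨a, ha⟩ := K505.RatConst.exists_const A PUnit.{u + 1} (f ≫ q)
    let z : 𝟙_ (Over (Spec (CommRingCat.of k))) ⟶ K401.NoA1.line k := K505.RatConst.pt 0
    have h1 : (f * (toUnit _ ≫ z ≫ f)⁻¹) ≫ q = 1 := by
      rw [MonObj.mul_comp, GrpObj.inv_comp, Category.assoc, Category.assoc, ha, ← Category.assoc z, ← Category.assoc,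
        toUnit_unique (toUnit _ ≫ z ≫ toUnit _) (toUnit _), mul_inv_cancel]
    obtain ⟨t, ht⟩ := K395.Pts.exists_of_comp_eq_one hk _ h1
    obtain ⟨g, hg⟩ := K401.NoA1.const_of_isTorus hT t
    refine ⟨(g ≫ i) * (z ≫ f), ?_⟩
    rw [MonObj.comp_mul, ← Category.assoc (toUnit _) g, ← hg, ht, inv_mul_cancel_right]
  · intro h
    obtain ⟨L, _, i, A, _, q, hi1, hi2, hL1, hL2, hL3, hi3, hq1, hq2, hq3, hk, hA1, hA2, hA3⟩ :=
      Groth.Agent.Sga3.H794.ChevClosed.exists_chevalley k G
    have hmono : Mono i := Groth.Agent.Books.AlgPtsGrp.mono_of_isClosedImmersion i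
    refine ⟨L, inferInstance, i, A, inferInstance, q, hi1, hi2, ?_, hq1, hq2, hq3, hk, hA1, hA2, hA3⟩
    apply K401.NoA1.isTorus
    intro f
    obtain ⟨g, hg⟩ := h (f ≫ i)
    let z : 𝟙_ (Over (Spec (CommRingCat.of k))) ⟶ K401.NoA1.line k := K505.RatConst.pt 0
    refine ⟨z ≫ f, ?_⟩
    rw [← cancel_mono i, Category.assoc, Category.assoc, hg, ← Category.assoc z, ← Category.assoc]
    congr 1
    exact toUnit_unique _ _

end Groth.Agent.S14585
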