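import Groth.Statements.S19948
import Groth.Agent.ThetaGrp.K999.Isot

set_option autoImplicit false
universe u
open CategoryTheory MonoidalCategory CartesianMonoidalCategory MonObj GrpObj AlgebraicGeometry
open ThetaGrp

namespace Groth.Agent.S19948

/-- Let k be an algebraically closed field, f : X → Y an isogeny of abelian varieties over k (X, Y
proper, geometrically integral, commutative k-group schemes; f a finite surjective homomorphism), i
: N → X the kernel of f (a homomorphism forming a cartesian square with the unit section of Y), L an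
invertible O_X-module and i_K : K → X a closed immersion exhibiting K as K(L), the maximal closed
subscheme of X over which the Mumford bundle m^*L ⊗ p_1^*L⁻¹ ⊗ p_2^*L⁻¹, restricted to X ×_k K, is
the inverse image of an invertible module on K, with its universal property. Then L is the inverse
image of an invertible O_Y-module (there is an invertible M on Y with f^*M ≅ L) if and only if the
kernel of f lies inside K(L) as a subgroup scheme and the commutator pairing e_L is trivial on it: i
factors through i_K, and for every k-scheme T any two points (x₁, φ₁), (x₂, φ₂) of G(L)(T) whose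
translations are by points of N commute. (Algebraic closedness is used for the converse; over other
fields an isotropic kernel descends in general only after a finite extension of k.) -/
theorem result (k : Type u) [Field k] [IsAlgClosed k]
    (A : Over (Spec (CommRingCat.of k))) [GrpObj A] [IsCommMonObj A] [IsProper A.hom] [GeometricallyIntegral A.hom]
    (B : Over (Spec (CommRingCat.of k))) [GrpObj B] [IsCommMonObj B] [IsProper B.hom] [GeometricallyIntegral B.hom]
    (f : A ⟶ B) [IsMonHom f] [IsFinite f.left] (hf : Surjective f.left)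
    (N : Over (Spec (CommRingCat.of k))) [GrpObj N] (i : N ⟶ A) [IsMonHom i] (hN : AlgGrp.IsKernel i f)
    (L : A.left.Modules) (hL : PicF.IsInvertible L)
    (K : Over (Spec (CommRingCat.of k))) (iK : K ⟶ A) (hK : ThetaGrp.IsKL A L iK) :
    (∃ M : B.left.Modules, PicF.IsInvertible M ∧ Nonempty ((Scheme.Modules.pullback f.left).obj M ≅ L)) ↔
      ((∃ y : N ⟶ K, y ≫ iK = i) ∧ ThetaGrp.IsIsotropic L i) := by
  have hmono : Mono i := ⟨fun a b h => K999.Ker.ker_mono hN h⟩
  have hM1 : ∀ {M : B.left.Modules} (hM : PicF.IsInvertible M) (T : Over (Spec (CommRingCat.of k))),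
      ThetaGrp.IsMumfordTriv B M (1 : T ⟶ B) := by
    intro M hM T
    have h := K999.Mum.isMumfordTriv_pt hM (1 : ThetaGrp.thetaPts B M T)
    rwa [K999.Rel.pt_one] at h
  constructor
  · rintro ⟨M, hM, ⟨e⟩⟩
    let m : K999.Rel.PMor A B L M := (K999.Rel.PMor.ofIso e.symm).comp (K999.Rel.PMor.ofHom f M)
    have hmf : m.f = f := Category.id_comp f
    have hif : i ≫ f = 1 := by
      have h := K999.Ker.ker_comp hN (𝟙 N)
      rwa [Category.id_comp] at h
    constructor
    · rw [← hK.univ]
      have h1 := K999.Perp.isMumfordTriv_pull hM f (x := i) (by rw [hif]; exact hM1 hM N)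
      have hL' := Groth.Agent.Fdesc.LocGen.isInvertible_pullback f.left hM
      rw [K529.KL.isMumfordTriv_iff hL'] at h1
      rw [K529.KL.isMumfordTriv_iff hL]
      have h2 : Groth.Agent.Grpsch.PicGrp.mk L hL = Groth.Agent.Grpsch.PicGrp.mk _ hL' := by
        rw [Groth.Agent.Grpsch.PicGrp.mk_eq_iff]
        exact ⟨e.symm⟩
      rw [h2]
      exact h1
    · intro T x y β₁ β₂ h₁ h₂
      rw [K999.Rel.over_iff] at h₁ h₂
      apply K999.Perp.comm_of_mumford hL hM m
      · rw [h₁, hmf, K999.Ker.ker_comp hN]
        exact hM1 hM T
      · rw [h₂, hmf, K999.Ker.ker_comp hN]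
  · rintro ⟨hy, hiso⟩
    have hfl : Flat f.left := K999.AVFlat.flat_left k f hf
    have hfin : IsFinite N.hom := by
      have h1 : IsPullback i.left (toUnit N).left f.left (η[B] : 𝟙_ _ ⟶ B).left := hN.map (Over.forget _)
      exact MorphismProperty.of_isPullback (P := @IsFinite) h1 inferInstance
    obtain ⟨s⟩ := K999.Isot.exists_klift hL i ((hK.univ N i).mpr hy) hiso
    obtain ⟨M, m, hmf, hM, -⟩ := K999.VIso.exists_descent_inv f hN hL s
    obtain ⟨e, -⟩ := K999.VIso.exists_iso_pmor m
    rw [hmf] at e
    exact ⟨M, hM, ⟨e⟩⟩

end Groth.Agent.S19948
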