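import Groth.Statements.S17864
import Mathlib.LinearAlgebra.StdBasis
import Mathlib.RingTheory.Finiteness.Cardinality

set_option autoImplicit false
universe u
open Algz

namespace Groth.Agent.S17864

theorem mem_smul_top_of_forall {A : Type u} [CommRing A] (J : Ideal A) {n : ℕ} (v : Fin n → A)
    (h : ∀ k, v k ∈ J) : v ∈ (J • ⊤ : Submodule A (Fin n → A)) := by
  classical
  rw [pi_eq_sum_univ' v]
  exact Submodule.sum_mem _ fun k _ => Submodule.smul_mem_smul (h k) trivial

theorem apply_mem_of_mem_smul_top {A : Type u} [CommRing A] (J : Ideal A) {n : ℕ} (v : Fin n → A)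
    (h : v ∈ (J • ⊤ : Submodule A (Fin n → A))) (k : Fin n) : v k ∈ J := by
  refine Submodule.smul_induction_on h (fun r hr w _ => ?_) (fun x y hx hy => ?_)
  · exact J.mul_mem_right _ hr
  · exact J.add_mem hx hy

theorem map_mem_smul_top {A : Type u} [CommRing A] (J : Ideal A) {M N : Type u} [AddCommGroup M]
    [Module A M] [AddCommGroup N] [Module A N] (f : M →ₗ[A] N) {x : M}
    (hx : x ∈ (J • ⊤ : Submodule A M)) : f x ∈ (J • ⊤ : Submodule A N) := by
  have h := Submodule.mem_map_of_mem (f := f) hx
  rw [Submodule.map_smul''] at h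
  exact Submodule.smul_mono le_rfl le_top h

theorem isAdicComplete_of_finite_projective {A : Type u} [CommRing A] (I : Ideal A)
    [IsAdicComplete I A] (Q : Type u) [AddCommGroup Q] [Module A Q] [Module.Finite A Q]
    [Module.Projective A Q] : IsAdicComplete I Q := by
  obtain ⟨n, f, hf⟩ := Module.Finite.exists_fin' A Q
  obtain ⟨s, hs⟩ := Module.projective_lifting_property f LinearMap.id hf
  have hfs : ∀ x, f (s x) = x := fun x => LinearMap.congr_fun hs x
  have hA : ∀ (J : Ideal A), (J • ⊤ : Submodule A A) = J := fun J => by simp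
  refine { haus' := fun x hx => ?_, prec' := fun x hx => ?_ }
  · have h0 : s x = 0 := by
      funext k
      refine IsHausdorff.haus (I := I) (M := A) inferInstance _ fun m => ?_
      rw [SModEq.zero, hA]
      exact apply_mem_of_mem_smul_top _ _ (map_mem_smul_top _ s (SModEq.zero.mp (hx m))) k
    rw [← hfs x, h0, map_zero]
  · have h1 : ∀ k : Fin n, ∃ L : A, ∀ m, s (x m) k ≡ L [SMOD (I ^ m • ⊤ : Submodule A A)] := by
      intro k
      refine IsPrecomplete.prec (I := I) (M := A) inferInstance fun {m m'} hmm => ?_
      rw [SModEq.sub_mem, hA]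
      have h2 := map_mem_smul_top _ s (SModEq.sub_mem.mp (hx hmm))
      rw [map_sub] at h2
      exact apply_mem_of_mem_smul_top _ _ h2 k
    choose L hL using h1
    refine ⟨f L, fun m => ?_⟩
    rw [SModEq.sub_mem]
    have h3 : s (x m) - L ∈ (I ^ m • ⊤ : Submodule A (Fin n → A)) := by
      refine mem_smul_top_of_forall _ _ fun k => ?_
      have h4 := SModEq.sub_mem.mp (hL k m)
      rwa [hA] at h4
    have h5 := map_mem_smul_top _ f h3
    rwa [map_sub, hfs] at h5

/-- The full-faithfulness assertion. Let `A` be a commutative ring which is `I`-adically complete for an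
ideal `I`, and `P`, `Q` finitely generated projective `A`-modules. An `A`-linear map `P → Q` is
determined by its reductions modulo the powers `I^n`, and every family of `A`-linear maps `P/I^n P →
Q/I^n Q` compatible with the transition maps is the family of reductions of an `A`-linear map `P →
Q`. (The companion assertion, that compatible systems of finite projective modules over the rings
`A/I^n` lift to `A`, is not restated here.) -/
theorem result (A : Type u) [CommRing A] (I : Ideal A)
    [IsAdicComplete I A] (P Q : Type u) [AddCommGroup P] [Module A P] [Module.Finite A P]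
    [Module.Projective A P] [AddCommGroup Q] [Module A Q] [Module.Finite A Q] [Module.Projective A Q] :
    (∀ f f' : P →ₗ[A] Q, (∀ n : ℕ, f.reduceModIdeal (I ^ n) = f'.reduceModIdeal (I ^ n)) → f = f') ∧
    (∀ g : ∀ n : ℕ, P ⧸ (I ^ n • ⊤ : Submodule A P) →ₗ[A] Q ⧸ (I ^ n • ⊤ : Submodule A Q),
      (∀ n : ℕ, AdicCompletion.transitionMap I Q (Nat.le_succ n) ∘ₗ g (n + 1) =
        g n ∘ₗ AdicCompletion.transitionMap I P (Nat.le_succ n)) →
      ∃ f : P →ₗ[A] Q, ∀ n : ℕ, f.reduceModIdeal (I ^ n) = g n) := by
  have : IsAdicComplete I Q := isAdicComplete_of_finite_projective I Q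
  refine ⟨fun f f' h => ?_, fun g hg => ?_⟩
  · refine LinearMap.ext fun x => ?_
    rw [← sub_eq_zero]
    refine IsHausdorff.haus (I := I) inferInstance _ fun n => ?_
    have h1 := LinearMap.congr_fun (h n) (Submodule.Quotient.mk x)
    rw [LinearMap.reduceModIdeal_apply, LinearMap.reduceModIdeal_apply] at h1
    rw [SModEq.zero]
    exact (Submodule.Quotient.eq _).mp h1
  · have hcomp : ∀ {m n : ℕ} (hle : m ≤ n), AdicCompletion.transitionMap I Q hle ∘ₗ g n =
        g m ∘ₗ AdicCompletion.transitionMap I P hle := by
      intro m n hle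
      induction n, hle using Nat.le_induction with
      | base =>
        ext x
        simp
      | succ n hle ih =>
        have e1 : AdicCompletion.transitionMap I Q (hle.trans (Nat.le_succ n)) =
            AdicCompletion.transitionMap I Q hle ∘ₗ
              AdicCompletion.transitionMap I Q (Nat.le_succ n) :=
          LinearMap.ext fun x => by
            obtain ⟨x, rfl⟩ := Submodule.Quotient.mk_surjective _ x
            simp
        have e2 : AdicCompletion.transitionMap I P (hle.trans (Nat.le_succ n)) =
            AdicCompletion.transitionMap I P hle ∘ₗ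
              AdicCompletion.transitionMap I P (Nat.le_succ n) :=
          LinearMap.ext fun x => by
            obtain ⟨x, rfl⟩ := Submodule.Quotient.mk_surjective _ x
            simp
        rw [e1, e2, LinearMap.comp_assoc, hg n, ← LinearMap.comp_assoc, ih, LinearMap.comp_assoc]
    let F : ∀ n : ℕ, P →ₗ[A] Q ⧸ (I ^ n • ⊤ : Submodule A Q) := fun n =>
      g n ∘ₗ (I ^ n • ⊤ : Submodule A P).mkQ
    have hF : ∀ {m n : ℕ} (hle : m ≤ n), AdicCompletion.transitionMap I Q hle ∘ₗ F n = F m := by
      intro m n hle
      simp only [F]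
      rw [← LinearMap.comp_assoc, hcomp hle, LinearMap.comp_assoc]
      congr 1
    refine ⟨IsAdicComplete.lift I F hF, fun n => ?_⟩
    ext x
    simp [F]

end Groth.Agent.S17864
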