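import Groth.Statements.S9692
import Groth.Agent.Dix.ProjProper
import Groth.Agent.S1616

set_option autoImplicit false
universe u
open CategoryTheory CategoryTheory.Limits AlgebraicGeometry
open Mor

namespace Groth.Agent.S9692

open Groth.Agent.Dix

/-- A composition of H-projective morphisms (closed immersions into a projective space P^n over the
target, followed by the projection) is H-projective. -/
theorem result {X Y Z : Scheme.{u}} (f : X ⟶ Y) (g : Y ⟶ Z)
    (hf : RelProj.IsHProjective f) (hg : RelProj.IsHProjective g) :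
    RelProj.IsHProjective (f ≫ g) := by
  obtain ⟨n, i, hi, rfl⟩ := hf
  obtain ⟨m, j, hj, hjg⟩ := hg
  obtain ⟨φ, hφ, hφ'⟩ := Groth.Agent.S1616.result Z n m
  have h1 := Dix.ProjProper.isPullback_mapBase n g
  have h2 : IsPullback (pullback.fst (CohB1.ProjSpaceOver.toBase n Z) (CohB1.ProjSpaceOver.toBase m Z))
      (pullback.snd (CohB1.ProjSpaceOver.toBase n Z) (CohB1.ProjSpaceOver.toBase m Z))
      (CohB1.ProjSpaceOver.toBase n Z) (CohB1.ProjSpaceOver.toBase m Z) := IsPullback.of_hasPullback _ _
  let k : CohB1.ProjSpaceOver n Y ⟶ pullback (CohB1.ProjSpaceOver.toBase n Z) (CohB1.ProjSpaceOver.toBase m Z) :=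
    h2.lift (Dix.ProjProper.mapBase n g) (CohB1.ProjSpaceOver.toBase n Y ≫ j)
      (by rw [Category.assoc, hjg]; exact h1.w)
  have hk : IsPullback k (CohB1.ProjSpaceOver.toBase n Y)
      (pullback.snd (CohB1.ProjSpaceOver.toBase n Z) (CohB1.ProjSpaceOver.toBase m Z)) j := by
    refine IsPullback.of_right (h₁₂ := pullback.fst _ _) (h₂₂ := CohB1.ProjSpaceOver.toBase m Z)
      (v₁₃ := CohB1.ProjSpaceOver.toBase n Z) ?_ (h2.lift_snd _ _ _) h2
    rw [hjg, show k ≫ pullback.fst _ _ = Dix.ProjProper.mapBase n g from h2.lift_fst _ _ _]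
    exact h1
  have hkc : IsClosedImmersion k :=
    MorphismProperty.of_isPullback (P := @IsClosedImmersion) hk.flip hj
  refine ⟨n * m + n + m, i ≫ k ≫ φ, inferInstance, ?_⟩
  rw [Category.assoc, Category.assoc, hφ', ← Category.assoc k,
    show k ≫ pullback.fst _ _ = Dix.ProjProper.mapBase n g from h2.lift_fst _ _ _, h1.w, ← Category.assoc]

end Groth.Agent.S9692
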