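import Groth.Statements.S17103
import Groth.Agent.Vanish.K911.SurjP
import Groth.Agent.DelIll.K911.CoreProof

set_option autoImplicit false
universe u
open CategoryTheory CategoryTheory.Limits AlgebraicGeometry
open Vanish

namespace Groth.Agent.S17103

/-- Let k be an algebraically closed field of characteristic zero and X an irreducible proper smooth
k-scheme with an ample invertible O_X-module (a projective manifold). Let L be an invertible
O_X-module with tensor inverse L⁻¹, N ≥ 1 an integer and D = Σ α_j D_j a normal crossing divisor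
with 0 < α_j < N for all j and L^N ≅ O_X(D): the reduced components D_1, …, D_r are given by
quasi-coherent ideal sheaves forming a strict normal crossing divisor (étale-locally coordinate
hyperplanes) and L^⊗N is a tensor inverse of the product ideal ∏_j 𝓘_{D_j}^{α_j}. Let D' = Σ μ_j D_j
be any effective divisor supported in D, with ideal 𝓘' = ∏_j 𝓘_{D_j}^{μ_j}. Then for every b the
natural map H^b(X, L⁻¹(−D')) = H^b(X, L⁻¹ ⊗ 𝓘') → H^b(X, L⁻¹), induced by 𝓘' ⊆ O_X and the unit
isomorphism, is surjective. (The dual injectivity for ω_X ⊗ L and the positive-characteristic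
version under liftability are not stated.) -/
theorem result (k : Type u) [Field k] [IsAlgClosed k] [CharZero k]
    (X : Scheme.{u}) [X.Over (Spec (CommRingCat.of k))] [IsProper (X ↘ Spec (CommRingCat.of k))]
    [Smooth (X ↘ Spec (CommRingCat.of k))] [IrreducibleSpace X] (n : ℕ) (hn : topologicalKrullDim X = n)
    (H : X.Modules) (hH : CohB1.IsAmple H)
    (L Linv : X.Modules) (hL : PicF.IsInvertible L) (hLinv : ClSub.IsInverseOf Linv L)
    (N : ℕ) (hN : 1 ≤ N) {r : ℕ} (D : Fin r → X.IdealSheafData) (hD : LogNCD.IsNCD D (X ↘ Spec (CommRingCat.of k)))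
    (α : Fin r → ℕ) (hα : ∀ j, 0 < α j ∧ α j < N)
    (hLN : ClSub.IsInverseOf (CohB1.tensorPow L N) (ClSub.idealMod (∏ j, D j ^ α j)))
    (μ : Fin r → ℕ) (b : ℕ) :
    Function.Surjective (Sheaf.H.map ((SheafOfModules.toSheaf X.ringCatSheaf).map
      (LogNCD.inclTwist Linv (∏ j, D j ^ μ j))) b) := by
  exact K911.Spread104.s17103 (K911.SurjP.surjP K911.CoreProof.coreP K911.CoreProof.coreS) k X n hn H hH L Linv hL hLinv N hN
    D hD α hα hLN μ b

end Groth.Agent.S17103
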