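import Groth.Statements.S17401
import Groth.Agent.CycCov.K27.Kaw

set_option autoImplicit false
universe u
open CycCov

namespace Groth.Agent.S17401

open CategoryTheory AlgebraicGeometry in
/-- Let k be an algebraically closed field, X an integral smooth separated quasi-compact k-scheme with
an ample invertible module (a quasi-projective manifold), D_1, …, D_r a reduced strict normal
crossing divisor on X and N_1, …, N_r positive integers invertible in k. Then there exist an
integral smooth k-scheme Z and a finite surjective morphism τ : Z → X such that: (a) for each j the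
pulled-back ideal of D_j is the N_j-th power of its radical, i.e. τ^*D_j = N_j · (τ^*D_j)_red; (b)
the reduced preimages (τ^*D_j)_red form a strict normal crossing divisor on Z; (c) τ_*O_Z is locally
free of some rank e dividing a power of ∏_j N_j (the degree of τ). (The published lemma calls Z
projective; Z is finite over X, hence projective exactly when X is, and only its smoothness,
integrality and finiteness over X are asserted here. The clause on liftings to W_2(k) is not
stated.) -/
theorem result {k : Type u} [Field k] [IsAlgClosed k] {X : Scheme.{u}}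
    (f : X ⟶ Spec (CommRingCat.of k)) [Smooth f] [IsIntegral X] [IsSeparated f] [CompactSpace X]
    (A : X.Modules) (hA : PicF.IsInvertible A) (hAmp : CohB1.IsAmple A)
    {r : ℕ} (D : Fin r → X.IdealSheafData) (hD : LogNCD.IsNCD D f)
    (Nj : Fin r → ℕ) (hN : ∀ j, 0 < Nj j) (hNk : ∀ j, (Nj j : k) ≠ 0) :
    ∃ (Z : Scheme.{u}) (τ : Z ⟶ X), IsIntegral Z ∧ Smooth (τ ≫ f) ∧ IsFinite τ ∧ Surjective τ ∧
      (∀ j : Fin r, (D j).comap τ = ((D j).comap τ).radical ^ Nj j) ∧
      LogNCD.IsNCD (fun j : Fin r => ((D j).comap τ).radical) (τ ≫ f) ∧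
      ∃ e m : ℕ, FlatMod.IsFinLocFreeOfRank e ((Scheme.Modules.pushforward τ).obj (Coh.structureModule Z)) ∧ e ∣ (∏ j : Fin r, Nj j) ^ m := by
  have hsep : QuasiSeparatedSpace X := quasiSeparatedSpace_of_quasiSeparated f
  obtain ⟨U₁, -, hxU₁, -, e₁, he₁⟩ := Groth.Agent.Pi1C.ZeroScheme.exists_affine_isGen hA ⊤ (genericPoint X) trivial
  have hne : Nonempty U₁ := ⟨⟨_, hxU₁⟩⟩
  let φ : Coh.structureModule X ≅ CohB1.tensorPow (Coh.structureModule X) 1 :=
    (Groth.Agent.Ega2.Tens.lunit (Coh.structureModule X)).symm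
  have hgen : ∀ U : X.Opens, Groth.Agent.Fdesc.LocGen.IsGen (Groth.Agent.Fdesc.LocGen.sec φ.hom U) := fun U =>
    (Groth.Agent.Fdesc.LocGen.isGen_one U).app φ.hom
  have ht : CycCov.IsZeroDiv (CohB1.tensorPow (Coh.structureModule X) 1) φ.hom (CycCov.divIdeal D fun _ => 0) := by
    intro U
    have h1 : (CycCov.divIdeal D fun _ => 0).ideal U = ⊤ := by
      unfold CycCov.divIdeal
      simp only [pow_zero, Finset.prod_const_one]
      rfl
    rw [h1, Submodule.top_smul]
    rw [eq_top_iff]
    intro m _
    obtain ⟨c, hc⟩ := (hgen U.1).exists_eq m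
    rw [hc]
    exact Submodule.smul_mem _ c (Submodule.mem_span_singleton_self _)
  obtain ⟨γt, hγt⟩ := K926.Frame.exists_coord (Groth.Agent.Fdesc.LocGen.isGen_one U₁) φ.hom
  obtain ⟨L, _, _, S, hfd, -, hchart, M, hM⟩ := K27.Kaw.exists_kummer f hAmp hD Nj hNk
    (Groth.Agent.Fdesc.LocGen.isInvertible_structureModule) (N := 1) (by rw [Nat.cast_one]; exact one_ne_zero) (fun _ => 0) φ.hom ht (fun j h => absurd rfl h)
    he₁ (Groth.Agent.Fdesc.LocGen.isGen_one U₁) γt hγt
  obtain ⟨h1, h2, h3, h4, h5, h6⟩ := K27.KumCover.global_structure L hchart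
  refine ⟨_, _, inferInstance, h1, h2, h3, h4, h5, _, M, ((K993.LocFree.isCover_iff _ _).mp h6).2, ?_⟩
  rwa [mul_one] at hM

end Groth.Agent.S17401
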