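import Groth.Statements.S9693
import Groth.Agent.Dix.ProjProper

set_option autoImplicit false
universe u
open CategoryTheory CategoryTheory.Limits AlgebraicGeometry
open Mor

namespace Groth.Agent.S9693

open Groth.Agent.Dix

/-- A base change of an H-projective morphism (a closed immersion into some P^n over the base followed
by the projection) is H-projective. -/
theorem result {X S S' : Scheme.{u}} (f : X ⟶ S) (hf : RelProj.IsHProjective f)
    (g : S' ⟶ S) : RelProj.IsHProjective (pullback.snd f g) := by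
  obtain ⟨n, c, hc, rfl⟩ := hf
  have h : IsPullback (pullback.fst (c ≫ CohB1.ProjSpaceOver.toBase n S) g)
      (pullback.snd (c ≫ CohB1.ProjSpaceOver.toBase n S) g) (c ≫ CohB1.ProjSpaceOver.toBase n S) g :=
    IsPullback.of_hasPullback _ _
  have h1 := Dix.ProjProper.isPullback_mapBase n g
  obtain ⟨c', hc', hp⟩ : ∃ c' : pullback (c ≫ CohB1.ProjSpaceOver.toBase n S) g ⟶ CohB1.ProjSpaceOver n S',
      c' ≫ CohB1.ProjSpaceOver.toBase n S' = pullback.snd (c ≫ CohB1.ProjSpaceOver.toBase n S) g ∧
      IsPullback (pullback.fst (c ≫ CohB1.ProjSpaceOver.toBase n S) g) c' c (Dix.ProjProper.mapBase n g) := by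
    refine ⟨h1.lift (pullback.fst (c ≫ CohB1.ProjSpaceOver.toBase n S) g ≫ c)
      (pullback.snd (c ≫ CohB1.ProjSpaceOver.toBase n S) g) (by rw [Category.assoc, h.w]), h1.lift_snd _ _ _, ?_⟩
    refine IsPullback.of_bot (h₃₁ := g) (v₂₁ := CohB1.ProjSpaceOver.toBase n S')
      (v₂₂ := CohB1.ProjSpaceOver.toBase n S) ?_ (h1.lift_fst _ _ _).symm h1
    rw [h1.lift_snd]
    exact h
  exact ⟨n, c', MorphismProperty.of_isPullback (P := @IsClosedImmersion) hp hc, hc'⟩

end Groth.Agent.S9693
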