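import Groth.Statements.S10829
import Groth.Agent.CohqA.ProjDim
import Groth.Agent.Sga5.ProjSmooth

set_option autoImplicit false
universe u
open AlgebraicGeometry
open Variety

namespace Groth.Agent.S10829

/-- For a field k and a natural number n, projective n-space over k (Proj of the polynomial ring in n +
1 variables graded by degree) has Krull dimension n as a topological space. (The published statement
also gives affine n-space dimension n; that half is the Krull dimension of a polynomial ring and is
not restated here.) -/
theorem result (k : Type u) [Field k] (n : ℕ) :
    topologicalKrullDim ↥(CohB1.ProjSpace n k) = (n : WithBot ℕ∞) := by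
  refine le_antisymm (CohqA.ProjDim.topologicalKrullDim_le k n) ?_
  have h1 := (Sga5.ProjSmooth.chart n k 0).isOpenEmbedding.isInducing.topologicalKrullDim_le
  refine le_trans ?_ h1
  have h2 : topologicalKrullDim (Spec (CommRingCat.of (MvPolynomial (Fin n) k))) =
      ringKrullDim (MvPolynomial (Fin n) k) :=
    PrimeSpectrum.topologicalKrullDim_eq_ringKrullDim _
  rw [h2, MvPolynomial.ringKrullDim_of_isNoetherianRing, ringKrullDim_eq_zero_of_field]
  simp

end Groth.Agent.S10829
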