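import Groth.Statements.S5258
import Groth.Agent.Sga3C.CWMain
import Groth.Agent.Sga4B.FibDense
import Groth.Agent.VarietyA.GeomIrrS

set_option autoImplicit false
open CategoryTheory MonoidalCategory CartesianMonoidalCategory MonObj GrpObj AlgebraicGeometry
universe u
open SGA3x

namespace Groth.Agent.S5258

/-- A smooth morphism whose geometric fibres (over algebraic closures of the residue fields) are connected and
nonempty is geometrically irreducible. -/
theorem geometricallyIrreducible {S X : Scheme.{u}} (f : X ⟶ S) [Smooth f]
    (hconn : ∀ s : S, ConnectedSpace ↥(Limits.pullback f (Red.geomPt s))) : GeometricallyIrreducible f := by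
  rw [GeometricallyIrreducible.iff_geometricallyIrreducible_fiber]
  intro s
  let k := S.residueField s
  let K := AlgebraicClosure (S.residueField s)
  let q : Limits.pullback f (S.fromSpecResidueField s) ⟶ Spec (S.residueField s) :=
    Limits.pullback.snd f (S.fromSpecResidueField s)
  have hq : Smooth q := inferInstanceAs (Smooth (Limits.pullback.snd f (S.fromSpecResidueField s)))
  let g : Spec (CommRingCat.of K) ⟶ Spec (CommRingCat.of (S.residueField s)) :=
    Spec.map (CommRingCat.ofHom (algebraMap (S.residueField s) K))
  let e : Limits.pullback q g ≅ Limits.pullback f (Red.geomPt s) :=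
    Limits.pullbackLeftPullbackSndIso f (S.fromSpecResidueField s) g
  have h1 : ConnectedSpace ↥(Limits.pullback q g) := by
    have := hconn s
    exact (Scheme.homeoOfIso e).symm.surjective.connectedSpace (Scheme.homeoOfIso e).symm.continuous
  have h2 : Smooth (Limits.pullback.snd q g) := inferInstance
  have h3 : IrreducibleSpace ↥(Limits.pullback q g) :=
    Groth.Agent.Sga4B.FibDense.irreducibleSpace_of_smooth (k := K) (Limits.pullback.snd q g)
  exact VarietyA.GeomIrr.geometricallyIrreducible_of_irreducibleSpace_of_isSepClosed k K q

/-- Let f : X ⟶ S be a smooth morphism whose geometric fibres are connected and nonempty, and Y a closed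
subscheme of X. Then the functor on S-schemes whose value at S' ⟶ S is a point when X ×_S S' ⟶ X
factors through Y and empty otherwise is representable by a closed subscheme T of S; if moreover Y ⟶
X is of finite presentation, then T ⟶ S is of finite presentation. -/
theorem result {S X Y : Scheme.{u}} (f : X ⟶ S) [Smooth f]
    (hconn : ∀ s : S, ConnectedSpace ↥(Limits.pullback f (Red.geomPt s))) (y : Y ⟶ X) [IsClosedImmersion y] :
    ∃ (T : Scheme.{u}) (t : T ⟶ S), IsClosedImmersion t ∧
      (∀ (S' : Scheme.{u}) (g : S' ⟶ S), (∃ g' : S' ⟶ T, g' ≫ t = g) ↔
        ∃ l : Limits.pullback f g ⟶ Y, l ≫ y = Limits.pullback.fst f g) ∧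
      (LocallyOfFinitePresentation y → LocallyOfFinitePresentation t) := by
  have := geometricallyIrreducible f hconn
  exact Groth.Agent.Sga3C.CWMain.exists_closed_weilRestriction f y

end Groth.Agent.S5258
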