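import Groth.Statements.S16888
import Groth.Agent.Vanish.K909.KodAkn
-- import your own Groth.Agent.* helpers here

set_option autoImplicit false
universe u
open CategoryTheory CategoryTheory.Limits AlgebraicGeometry
open Vanish

namespace Groth.Agent.S16888

/-- Let k be an algebraically closed field of characteristic zero and X an irreducible proper smooth
k-scheme of dimension n (a projective manifold: the ample module below makes X projective). For an
ample invertible O_X-module L with tensor inverse L⁻¹ (L⁻¹ ⊗ L ≅ O_X), the cohomology group H^b(X,
L⁻¹) vanishes for every b < n. (Only the characteristic-zero case of the published statement is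
given here; its positive-characteristic case assumes a lifting to the Witt vectors of length two.) -/
theorem result (k : Type u) [Field k] [IsAlgClosed k] [CharZero k]
    (X : Scheme.{u}) [X.Over (Spec (CommRingCat.of k))] [IsProper (X ↘ Spec (CommRingCat.of k))]
    [Smooth (X ↘ Spec (CommRingCat.of k))] [IrreducibleSpace X] (n : ℕ) (hn : topologicalKrullDim X = n)
    (L Linv : X.Modules) (hL : CohB1.IsAmple L) (hLinv : ClSub.IsInverseOf Linv L)
    (b : ℕ) (hb : b < n) :
    Subsingleton (Coh.HH X Linv b) :=
  K909.KodAkn.kod k X n hn L Linv hL hLinv b hb

end Groth.Agent.S16888
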