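import Groth.Statements.S9220
import Groth.Agent.S9189
import Groth.Agent.S0591
import Groth.Agent.Smoothlim.ClosedFP
import Groth.Agent.Sga3A.H781.EssFree

set_option autoImplicit false
universe u
open CategoryTheory AlgebraicGeometry
open Lim

namespace Groth.Agent.S9220

/-- Let S = lim S_i be a cofiltered limit of quasi-compact quasi-separated schemes with affine
transition morphisms, and let I be a quasi-coherent sheaf of ideals of finite type on S (its ideal
of sections on every affine open is finitely generated). Then for some index i there is a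
quasi-coherent sheaf of ideals of finite type I_i on S_i such that I = I_i · O_S, the pullback ideal
sheaf along S → S_i. -/
theorem result {I : Type u} [SmallCategory I] [IsCofiltered I]
    (D : I ⥤ Scheme.{u}) (c : Limits.Cone D) (hc : Limits.IsLimit c)
    [∀ (i j : I) (f : i ⟶ j), IsAffineHom (D.map f)] [∀ i, CompactSpace (D.obj i)]
    [∀ i, QuasiSeparatedSpace (D.obj i)] (J : c.pt.IdealSheafData)
    (hJ : ∀ U : c.pt.affineOpens, (J.ideal U).FG) :
    ∃ (i : I) (Ji : (D.obj i).IdealSheafData), (∀ U : (D.obj i).affineOpens, (Ji.ideal U).FG) ∧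
      Ji.comap (c.π.app i) = J := by
  have hA : ∀ {i j : I} (φ : i ⟶ j), IsAffineHom (D.map φ) := fun {i j} φ ↦ inferInstance
  have hlfp : LocallyOfFinitePresentation J.subschemeι :=
    Smoothlim.ClosedFP.locallyOfFinitePresentation_subschemeι J hJ
  obtain ⟨i, Xi, fi, g, h1, h2, h3, hpb⟩ := S0591.result D c hc _ J.subschemeι
  have : CompactSpace Xi := QuasiCompact.compactSpace_of_compactSpace fi
  have : QuasiSeparatedSpace Xi := quasiSeparatedSpace_of_quasiSeparated fi
  obtain ⟨j, φ, Xj, Yj, fj, gj, pY, pX, hY, hX, hcl⟩ := S9189.result D c hc i fi (𝟙 (D.obj i))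
    J.subschemeι (𝟙 c.pt) (c.π.app i) g (IsPullback.of_vert_isIso ⟨by simp⟩) hpb
  have hgj : IsIso gj := hY.isIso_snd_of_isIso
  let k : Xj ⟶ D.obj j := fj ≫ gj
  have hk : IsPullback pX k fi (D.map φ) := by
    have h4 := hX.paste_vert hY
    simpa [k] using h4
  have hkc : IsClosedImmersion k := inferInstance
  have hkl : LocallyOfFinitePresentation k :=
    MorphismProperty.of_isPullback hk h1
  refine ⟨j, k.ker, Sga3A.H781.EssFree.fg_ker_ideal k, ?_⟩
  rw [← Scheme.IdealSheafData.ker_fst_of_isClosedImmersion]
  let gj' : J.subscheme ⟶ Xj := hk.lift g (J.subschemeι ≫ c.π.app j) (by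
    rw [Category.assoc, c.w, hpb.w])
  have hpbj : IsPullback gj' J.subschemeι k (c.π.app j) := by
    have h1 : IsPullback (gj' ≫ pX) J.subschemeι fi (c.π.app j ≫ D.map φ) := by
      rw [c.w, hk.lift_fst]; exact hpb
    exact h1.of_right (hk.lift_snd _ _ _) hk
  let e : J.subscheme ≅ Limits.pullback (c.π.app j) k := hpbj.flip.isoPullback
  have he : e.hom ≫ Limits.pullback.fst (c.π.app j) k = J.subschemeι := hpbj.flip.isoPullback_hom_fst
  rw [← Scheme.Hom.ker_comp_of_isIso e.hom, he]
  exact J.ker_subschemeι

end Groth.Agent.S9220
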