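import Groth.Statements.S4466
import Groth.Agent.S0843
import Groth.Agent.S0844
import Groth.Agent.S0845
import Groth.Agent.CAlgX.K581.HomDim
import Mathlib.RingTheory.Binomial

set_option autoImplicit false
universe u
open Coherent

namespace Groth.Agent.S4466

/-- `C(-(1 + d), r) = (-1)^r C(d + r, r)`. -/
theorem choose_neg (d r : ℕ) :
    Ring.choose (-(1 + (d : ℤ))) r = (-1) ^ r * ((d + r).choose r : ℤ) := by
  rw [Ring.choose_neg, show (1 + (d : ℤ)) + r - 1 = ((d + r : ℕ) : ℤ) by push_cast; ring,
    Ring.choose_natCast, Units.smul_def, Int.coe_negOnePow_natCast, smul_eq_mul]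

open AlgebraicGeometry CategoryTheory in
/-- Let k be a field, r > 0 and n any integer. Then the Euler characteristic of the twisting sheaf O(n)
on projective r-space over k, namely the alternating sum of the dimensions of H^j(P^r_k, O(n)) for 0
≤ j ≤ r, equals the binomial coefficient C(n+r, r), understood as the binomial polynomial evaluated
at the integer n+r (so that it makes sense and is correct for negative n too). -/
theorem result (k : Type u) [Field k] (r : ℕ) (hr : 0 < r)
    (n : ℤ) :
    ((Finset.range (r + 1)).sum fun j => (-1 : ℤ) ^ j *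
        (Module.finrank k (Coh.HH (CohB1.ProjSpace r k) (Twist.twistProjSpace r k n) j) : ℤ)) =
      Ring.choose (n + r) r := by
  rcases Int.le_total 0 n with h | h
  · -- `n ≥ 0`
    obtain ⟨d, rfl⟩ := Int.eq_ofNat_of_zero_le h
    rw [Finset.sum_eq_single 0]
    · obtain ⟨e⟩ := Groth.Agent.S0843.result k r d
      rw [e.finrank_eq, K581.HomDim.finrank_homogeneous, pow_zero, one_mul,
        show ((d : ℤ) + r) = ((d + r : ℕ) : ℤ) by push_cast; ring, Ring.choose_natCast]
    · intro q _ hq
      have := Groth.Agent.S0844.result k r d q (by omega) (by omega)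
      rw [Module.finrank_zero_of_subsingleton, Nat.cast_zero, mul_zero]
    · intro h'
      exact absurd (Finset.mem_range.2 (Nat.succ_pos r)) h'
  · by_cases h2 : n ≤ -((r : ℤ) + 1)
    · obtain ⟨d, hd⟩ := Int.eq_ofNat_of_zero_le (show 0 ≤ -((r : ℤ) + 1) - n by omega)
      obtain rfl : n = -((r : ℤ) + 1 + d) := by omega
      rw [Finset.sum_eq_single r]
      · obtain ⟨e⟩ := Groth.Agent.S0845.result k r d
        rw [e.finrank_eq, K581.HomDim.finrank_homogeneous,
          show -((r : ℤ) + 1 + d) + r = -(1 + (d : ℤ)) by ring, choose_neg]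
      · intro q _ hq
        have := Groth.Agent.S0844.result k r (-((r : ℤ) + 1 + d)) q (by omega) (by omega)
        rw [Module.finrank_zero_of_subsingleton, Nat.cast_zero, mul_zero]
      · intro h'
        exact absurd (Finset.mem_range.2 (Nat.lt_succ_self r)) h'
    · by_cases h3 : n = 0
      · subst h3
        rw [Finset.sum_eq_single 0]
        · obtain ⟨e⟩ := Groth.Agent.S0843.result k r 0
          rw [Nat.cast_zero] at e
          rw [e.finrank_eq, K581.HomDim.finrank_homogeneous, pow_zero, one_mul, zero_add, zero_add,
            Ring.choose_natCast]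
        · intro q _ hq
          have := Groth.Agent.S0844.result k r 0 q (by omega) (by omega)
          rw [Module.finrank_zero_of_subsingleton, Nat.cast_zero, mul_zero]
        · intro h'
          exact absurd (Finset.mem_range.2 (Nat.succ_pos r)) h'
      · obtain ⟨m, hm⟩ := Int.eq_ofNat_of_zero_le (show 0 ≤ n + r by omega)
        rw [hm, Ring.choose_natCast, Nat.choose_eq_zero_of_lt (by omega), Nat.cast_zero]
        refine Finset.sum_eq_zero fun q _ => ?_
        have := Groth.Agent.S0844.result k r n q (by omega) (by omega)
        rw [Module.finrank_zero_of_subsingleton, Nat.cast_zero, mul_zero]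

end Groth.Agent.S4466
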