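import Groth.Statements.S5975
import Groth.Agent.Nrm16.K137.Basic
-- import your own Groth.Agent.* helpers here

set_option autoImplicit false
universe u
open CategoryTheory CategoryTheory.Limits AlgebraicGeometry TopologicalSpace Opposite
open Nrm16

namespace Groth.Agent.S5975

open K137.Basic K583.DerAffine OmegaSh

/-- Let f : X ⟶ Y and g : Y ⟶ Z be morphisms of schemes. Let (Ω_{Y/Z}, d), (Ω_{X/Z}, d') and (Ω_{X/Y},
d'') be sheaves of differentials (universal derivations) and let c₁ : f^*Ω_{Y/Z} ⟶ Ω_{X/Z} and c₂ :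
Ω_{X/Z} ⟶ Ω_{X/Y} be the canonical maps compatible with the derivations. Then c₂ is an epimorphism
and the image of c₁ is the kernel of c₂: the sequence f^*Ω_{Y/Z} ⟶ Ω_{X/Z} ⟶ Ω_{X/Y} ⟶ 0 is exact. -/
theorem result {X Y Z : Scheme.{u}} (f : X ⟶ Y) (g : Y ⟶ Z)
    (ΩY : Y.Modules) (dY : OmegaSh.Der g ΩY) (hY : OmegaSh.IsUniversal dY)
    (ΩX : X.Modules) (dX : OmegaSh.Der (f ≫ g) ΩX) (hX : OmegaSh.IsUniversal dX)
    (ΩXY : X.Modules) (dXY : OmegaSh.Der f ΩXY) (hXY : OmegaSh.IsUniversal dXY)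
    (c₁ : (Scheme.Modules.pullback f).obj ΩY ⟶ ΩX) (hc₁ : OmegaSh.IsDiffCompat f dY dX c₁)
    (c₂ : (Scheme.Modules.pullback (𝟙 X)).obj ΩX ⟶ ΩXY) (hc₂ : OmegaSh.IsDiffCompat (𝟙 X) dX dXY c₂) :
    Epi c₂ ∧
      imageSubobject c₁ = kernelSubobject ((Scheme.Modules.pullbackId X).inv.app ΩX ≫ c₂) := by
  -- uniqueness of maps out of `ΩX` and `ΩXY`
  have extX : ∀ {N : X.Modules} {a b : ΩX ⟶ N},
      (∀ (U : X.Opens) (s : Γ(X, U)), a.app U (dX.app U s) = b.app U (dX.app U s)) → a = b := by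
    intro N a b h
    refine (hX N (dX.postcomp a.val)).unique rfl ?_
    exact ext_of_app (D := dX.postcomp b.val) (D' := dX.postcomp a.val) (fun U s => (h U s).symm)
  have extXY : ∀ {N : X.Modules} {a b : ΩXY ⟶ N},
      (∀ (U : X.Opens) (s : Γ(X, U)), a.app U (dXY.app U s) = b.app U (dXY.app U s)) → a = b := by
    intro N a b h
    refine (hXY N (dXY.postcomp a.val)).unique rfl ?_
    exact ext_of_app (D := dXY.postcomp b.val) (D' := dXY.postcomp a.val) (fun U s => (h U s).symm)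
  set p := (Scheme.Modules.pullbackId X).inv.app ΩX with hp
  have hc : ∀ (U : X.Opens) (s : Γ(X, U)), (p ≫ c₂).app U (dX.app U s) = dXY.app U s := by
    intro U s
    have h1 := hc₂ U s
    have h2 : p.app U (dX.app U s) = pullSect (𝟙 X) ΩX U (dX.app U s) := id_inv ΩX U _
    change c₂.app U (p.app U (dX.app U s)) = _
    rw [h2]
    refine h1.trans ?_
    exact congrArg (dXY.app U) (congr($(Scheme.Hom.id_app (X := X) U) s))
  have hepi : Epi (p ≫ c₂) := by
    refine ⟨fun {N} a b hab => extXY fun U s => ?_⟩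
    rw [← hc]
    exact congr(($(hab).app U) (dX.app U s))
  have : Epi c₂ := epi_of_epi p c₂
  refine ⟨inferInstance, ?_⟩
  refine image_eq_kernel _ _ ?_ ?_
  · -- the composite is zero: two derivations of `O_Y` into `f_* Ω_{X/Y}`
    have hcomp : adj f (c₁ ≫ p ≫ c₂) = 0 := by
      refine (hY _ (dY.postcomp (adj f (c₁ ≫ p ≫ c₂)).val)).unique rfl ?_
      refine ext_of_app (D := dY.postcomp (0 : ΩY ⟶ (Scheme.Modules.pushforward f).obj ΩXY).val)
        (D' := dY.postcomp (adj f (c₁ ≫ p ≫ c₂)).val) (fun U s => ?_)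
      change (0 : Γ((Scheme.Modules.pushforward f).obj ΩXY, U)) = (adj f (c₁ ≫ p ≫ c₂)).app U (dY.app U s)
      rw [adj_app]
      change _ = (p ≫ c₂).app (f ⁻¹ᵁ U) (c₁.app (f ⁻¹ᵁ U) (pullSect f ΩY U (dY.app U s)))
      rw [hc₁, hc]
      exact (app_base dXY U s).symm
    apply pull_hom_ext
    intro U s
    rw [← adj_app, hcomp]
    rfl
  · intro N k hk
    -- `k ∘ dX` kills the functions on `Y`
    have h0 : ∀ (V : Y.Opens) (c : Γ(Y, V)), k.app (f ⁻¹ᵁ V) (dX.app (f ⁻¹ᵁ V) (f.app V c)) = 0 := by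
      intro V c
      rw [← hc₁]
      exact congr(($(hk).app (f ⁻¹ᵁ V)) (pullSect f ΩY V (dY.app V c)))
    let D : Der f N := mkDer f N (fun U => (k.app U).hom.comp (dX.app U))
      (fun U a b => by
        change k.app U (dX.app U (a * b)) = a • k.app U (dX.app U b) + b • k.app U (dX.app U a)
        rw [app_mul, map_add, Scheme.Modules.Hom.app_smul, Scheme.Modules.Hom.app_smul])
      (fun U V h a => by
        change k.app V (dX.app V (X.presheaf.map (homOfLE h).op a)) = _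
        rw [app_map]
        exact congr($((Scheme.Modules.Hom.mapPresheaf k).naturality (homOfLE h).op) (dX.app U a)))
      h0
    obtain ⟨l, hl, -⟩ := hXY N D
    refine ⟨l, extX fun U s => ?_⟩
    change l.app U ((p ≫ c₂).app U (dX.app U s)) = _
    rw [hc]
    exact congrArg (fun D => Der.app (F := N) D U s) hl

end Groth.Agent.S5975
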