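import Groth.Statements.S14142
import Groth.Agent.S1843
import Groth.Agent.S0383
import Groth.Agent.AbVar.K512.AV
import Groth.Agent.AbVar.K512.PTors
import Groth.Agent.AbVar.K512.Pts

set_option autoImplicit false
universe u
open CategoryTheory CategoryTheory.Limits MonoidalCategory CartesianMonoidalCategory MonObj GrpObj AlgebraicGeometry
open AbVar

namespace Groth.Agent.S14142

/-- Let k be an algebraically closed field of characteristic p > 0 and A an abelian variety over k (a
proper smooth k-group scheme with geometrically connected fibres) of dimension g. Then there is an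
integer i with 0 ≤ i ≤ g, the p-rank of A, such that for every m ≥ 0 the group A[p^m](k) of
k-rational points of A killed by p^m is isomorphic to (ℤ/p^m)^i (existence of a group isomorphism;
the group of k-points is written multiplicatively). (The published statement of this part assumes
only that k has characteristic p and does not assume k algebraically closed; it is false without
that assumption — for an elliptic curve over the prime field with exactly p rational points the
rational p-torsion is cyclic of order p while the rational p²-torsion has only p elements — and this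
row assumes k algebraically closed, which the printed proof's divisibility argument requires.) -/
theorem result (k : Type u) [Field k] [IsAlgClosed k] (p : ℕ) [Fact p.Prime] [CharP k p]
    (A : Over (Spec (CommRingCat.of k))) [GrpObj A] [IsProper A.hom] [Smooth A.hom] [GeometricallyConnected A.hom] [IsCommMonObj A]
    (g : ℕ) (hg : topologicalKrullDim ↥A.left = g) :
    ∃ i : ℕ, i ≤ g ∧ ∀ m : ℕ,
      Nonempty (AbDual.torsPts A (p ^ m) (𝟙_ (Over (Spec (CommRingCat.of k)))) ≃* Multiplicative (Fin i → ZMod (p ^ m))) := by
  have hG : GeometricallyIntegral A.hom := K512.AV.geometricallyIntegral A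
  have hpow : ∀ (n : ℕ) (x : 𝟙_ (Over (Spec (CommRingCat.of k))) ⟶ A), x ≫ (𝟙 A ^ n) = x ^ n := by
    intro n x
    rw [MonObj.comp_pow, Category.comp_id]
  have hp1 : 1 ≤ p := (Fact.out : p.Prime).one_lt.le
  have hsurj : Surjective ((𝟙 A ^ p).left) := Groth.Agent.S0383.result k A p hp1
  have hdiv : ∀ x : Additive (𝟙_ (Over (Spec (CommRingCat.of k))) ⟶ A), ∃ y, p • y = x := by
    intro x
    obtain ⟨y, hy⟩ := K512.Pts.exists_lift (𝟙 A ^ p) x.toMul
    refine ⟨Additive.ofMul y, ?_⟩
    rw [hpow] at hy
    exact congrArg Additive.ofMul hy
  have hfin : Set.encard {x : Additive (𝟙_ (Over (Spec (CommRingCat.of k))) ⟶ A) | p • x = 0} ≤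
      (p ^ g : ℕ) := by
    refine le_trans (Set.encard_le_encard_of_injOn
      (f := fun x : Additive (𝟙_ (Over (Spec (CommRingCat.of k))) ⟶ A) =>
        x.toMul.left (IsLocalRing.closedPoint k))
      (t := {a : A.left | (𝟙 A ^ p).left a = η[A].left (IsLocalRing.closedPoint k)}) ?_ ?_)
      (Groth.Agent.S1843.result k p A g hg)
    · intro x hx
      have h1 : x.toMul ^ p = 1 := congrArg Additive.toMul hx
      rw [← hpow] at h1
      have h2 : (x.toMul.left ≫ (𝟙 A ^ p).left) = η[A].left := by
        rw [← Over.comp_left, h1, Hom.one_def]
        have : toUnit (𝟙_ (Over (Spec (CommRingCat.of k)))) = 𝟙 _ := toUnit_unique _ _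
        rw [this, Category.id_comp]
      exact congrArg (fun f : (𝟙_ (Over (Spec (CommRingCat.of k)))).left ⟶ A.left =>
        f (IsLocalRing.closedPoint k)) h2
    · intro x _ y _ h
      exact congrArg Additive.ofMul (K512.Pts.ext_pt h)
  obtain ⟨i, hi, h⟩ := K512.PTors.exists_rank p g hdiv hfin
  refine ⟨i, hi, fun m => ?_⟩
  obtain ⟨e⟩ := h m
  exact ⟨{
    toFun := fun x => Multiplicative.ofAdd (e ⟨Additive.ofMul x.1, congrArg Additive.ofMul x.2⟩)
    invFun := fun a => ⟨(e.symm a.toAdd).1.toMul, congrArg Additive.toMul (e.symm a.toAdd).2⟩
    left_inv := fun x => by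
      apply Subtype.ext
      simp
    right_inv := fun a => by
      change Multiplicative.ofAdd (e (e.symm a.toAdd)) = a
      simp
    map_mul' := fun x y => congrArg Multiplicative.ofAdd (map_add e _ _) }⟩

end Groth.Agent.S14142
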