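import Groth.Statements.S9691
import Groth.Agent.Divis.AmpleFin
import Groth.Agent.Desc.AmpleDesc

set_option autoImplicit false
universe u
open CategoryTheory CategoryTheory.Limits AlgebraicGeometry
open Mor

namespace Groth.Agent.S9691

theorem uniqueness {X S : Scheme.{u}} (f : X ⟶ S) (L : X.Modules)
    (hL : RelAmple.IsRelAmple f L) : ValuativeCriterion.Uniqueness f := by
  intro sq
  constructor
  rintro ⟨l₁, hl₁, hl₁'⟩ ⟨l₂, hl₂, hl₂'⟩
  ext : 1
  dsimp at *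
  have h := hl₁'.trans hl₂'.symm
  set c := IsLocalRing.closedPoint sq.R with hc
  have hfc : f (l₁ c) = f (l₂ c) := by
    rw [← Scheme.Hom.comp_apply, ← Scheme.Hom.comp_apply, h]
  obtain ⟨V, hV, hxV, -⟩ := exists_isAffineOpen_mem_and_subset (X := S) (U := ⊤) (x := f (l₁ c)) trivial
  have hA := hL.2 ⟨V, hV⟩
  obtain ⟨m, t, hE, -, haff⟩ := Divis.AmpleFin.exists_genLocus_of_finite hA
    ({⟨l₁ c, hxV⟩, ⟨l₂ c, by rw [hfc] at hxV; exact hxV⟩} : Set (f ⁻¹ᵁ V : X.Opens))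
    (Set.toFinite _) ⊤ (fun _ _ => trivial)
  set U := CohB1.genLocus _ t with hU
  have haff' : IsAffineOpen ((f ⁻¹ᵁ V).ι ''ᵁ U) := haff.image_of_isOpenImmersion _
  set W := (f ⁻¹ᵁ V).ι ''ᵁ U with hW
  have h1 : l₁ c ∈ W := ⟨_, hE (Set.mem_insert _ _), rfl⟩
  have h2 : l₂ c ∈ W := ⟨_, hE (Set.mem_insert_of_mem _ rfl), rfl⟩
  have key : ∀ l : Spec (.of sq.R) ⟶ X, l c ∈ W → Set.range l ⊆ Set.range W.ι := by
    rintro l hl _ ⟨y, rfl⟩
    rw [Scheme.Opens.range_ι]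
    have : y ⤳ c := IsLocalRing.specializes_closedPoint y
    exact (this.map l.continuous).mem_open W.2 hl
  have hm₁ := IsOpenImmersion.lift_fac W.ι l₁ (key _ h1)
  have hm₂ := IsOpenImmersion.lift_fac W.ι l₂ (key _ h2)
  set m₁ := IsOpenImmersion.lift W.ι l₁ (key _ h1)
  set m₂ := IsOpenImmersion.lift W.ι l₂ (key _ h2)
  have : IsAffine W := haff'
  have hs : IsSeparated (W.ι ≫ f) := inferInstance
  have hcs : (Spec.map (CommRingCat.ofHom (algebraMap sq.R sq.K)) ≫ m₁) ≫ W.ι ≫ f =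
      Spec.map (CommRingCat.ofHom (algebraMap sq.R sq.K)) ≫ sq.i₂ := by
    rw [Category.assoc, reassoc_of% hm₁, hl₁']
  have huniq := IsSeparated.valuativeCriterion (W.ι ≫ f)
    { R := sq.R, K := sq.K, i₁ := Spec.map (CommRingCat.ofHom (algebraMap sq.R sq.K)) ≫ m₁, i₂ := sq.i₂,
      commSq := ⟨hcs⟩ }
  have hm₁' : m₁ ≫ W.ι ≫ f = sq.i₂ := by rw [reassoc_of% hm₁, hl₁']
  have hm₂' : m₂ ≫ W.ι ≫ f = sq.i₂ := by rw [reassoc_of% hm₂, hl₂']
  have hk : Spec.map (CommRingCat.ofHom (algebraMap sq.R sq.K)) ≫ m₂ =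
      Spec.map (CommRingCat.ofHom (algebraMap sq.R sq.K)) ≫ m₁ := by
    rw [← cancel_mono W.ι, Category.assoc, Category.assoc, hm₁, hm₂, hl₁, hl₂]
  have e : m₁ = m₂ := congrArg CommSq.LiftStruct.l (huniq.elim
    ⟨m₁, rfl, hm₁'⟩
    ⟨m₂, hk, hm₂'⟩)
  rw [← hm₁, ← hm₂, e]

/-- Let f : X ⟶ S be a morphism of schemes and L an invertible O_X-module which is ample relative to f.
Then f is separated. -/
theorem result {X S : Scheme.{u}} (f : X ⟶ S) (L : X.Modules)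
    (hL : RelAmple.IsRelAmple f L) : IsSeparated f := by
  have : QuasiSeparated f := Desc.AmpleDesc.quasiSeparated_of_isRelAmple hL
  exact IsSeparated.of_valuativeCriterion f (uniqueness f L hL)

end Groth.Agent.S9691
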