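import Groth.Statements.S9695
import Groth.Agent.Mor.K385.VeryAmpleBC
import Groth.Agent.Ega3B.TensRestrict
import Groth.Agent.Ega2.RelAmp
import Groth.Agent.S2330
import Groth.Agent.S9691

set_option autoImplicit false
universe u
open CategoryTheory CategoryTheory.Limits AlgebraicGeometry
open Mor

namespace Groth.Agent.S9695

open Groth.Agent.K385.VeryAmpleBC

/-- Suppose f : X ⟶ S is a morphism of finite type and L is an invertible O_X-module. Then L is
f-relatively ample exactly when S can be covered by open subsets V with the following property: for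
every such V there is an integer d ≥ 1 for which the tensor power L^{⊗d}, restricted to f⁻¹(V), is
isomorphic to the pullback of O(1) under some V-immersion of f⁻¹(V) into a projective space P^n_V. -/
theorem result {X S : Scheme.{u}} (f : X ⟶ S)
    [LocallyOfFiniteType f] [QuasiCompact f] (L : X.Modules) (hLinv : PicF.IsInvertible L) :
    RelAmple.IsRelAmple f L ↔
      ∃ (ι : Type u) (V : ι → S.Opens), (⨆ j, V j) = ⊤ ∧
        ∀ j, ∃ d : ℕ, 0 < d ∧
          RelAmple.IsRelVeryAmplePn (f ∣_ V j) ((CohB1.tensorPow L d).restrict (f ⁻¹ᵁ V j).ι) := by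
  constructor
  · intro hL
    have hsep : IsSeparated f := S9691.result f L hL
    refine ⟨S.affineOpens, Subtype.val, iSup_affineOpens_eq_top S, fun V => ?_⟩
    have : IsAffine (V.1 : Scheme.{u}) := V.2
    have hA := hL.2 V
    obtain ⟨n, hn, h⟩ := (S2330.result (f ∣_ V.1) (L.restrict (f ⁻¹ᵁ V.1).ι) hA.1).1.1 hA
    obtain ⟨e⟩ := Ega3B.TensRestrict.restrictPowIso (f ⁻¹ᵁ V.1).ι L n
    exact ⟨n, hn, of_iso h e.symm⟩
  · rintro ⟨ι, V, hV, h⟩
    apply Ega2.RelAmp.isRelAmple_of_forall_exists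
    intro x
    obtain ⟨j, hj⟩ := TopologicalSpace.Opens.mem_iSup.1 (hV.ge (Set.mem_univ x) : x ∈ ⨆ j, V j)
    obtain ⟨W, hW, hxW, hWV⟩ := exists_isAffineOpen_mem_and_subset hj
    replace hWV : W ≤ V j := hWV
    refine ⟨W, hW, hxW, ?_⟩
    rw [← Ega2.Ample.isAmple_restrict_ι_iff]
    obtain ⟨d, hd, h⟩ := h j
    have h2 := restrict_of_le hWV h
    have : IsAffine (W : Scheme.{u}) := hW
    have : IsSeparated (f ∣_ W) := isSeparated_of_isRelVeryAmplePn h2
    obtain ⟨e⟩ := Ega3B.TensRestrict.restrictPowIso (f ⁻¹ᵁ W).ι L d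
    have hinv : PicF.IsInvertible (L.restrict (f ⁻¹ᵁ W).ι) :=
      Ega2.VeryAmpleAmple.isInvertible_of_iso
        ((Scheme.Modules.restrictFunctorIsoPullback (f ⁻¹ᵁ W).ι).app L).symm
        (Fdesc.LocGen.isInvertible_pullback (f ⁻¹ᵁ W).ι hLinv)
    exact (S2330.result (f ∣_ W) (L.restrict (f ⁻¹ᵁ W).ι) hinv).1.2 ⟨d, hd, of_iso h2 e⟩

end Groth.Agent.S9695
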