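import Groth.Statements.S11448
import Groth.Agent.GIT.K384.Glob
import Groth.Agent.Dix.ProjProper

set_option autoImplicit false
universe u
open CategoryTheory MonoidalCategory CartesianMonoidalCategory MonObj GrpObj AlgebraicGeometry Topology
open GIT

namespace Groth.Agent.S11448

/-- Let S be locally Noetherian and X → S smooth and projective (a closed subscheme of some Pⁿ_S) with a
section e. Then the functor on locally Noetherian S-schemes T ↦ {abelian-scheme structures over T on
X ×_S T whose identity is induced by e} is represented by an open subscheme U of S: X ×_S T admits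
such a structure exactly when T → S factors through U. (Such a structure is unique when it exists,
and by translation its unit can be taken to be any given section, so the row records only existence
of a group-scheme structure with connected geometric fibres.) -/
theorem result (S : Scheme.{u}) [IsLocallyNoetherian S]
    (X : Over S) [Smooth X.hom] (n : ℕ) (i : X ⟶ Over.mk (CohB1.ProjSpaceOver.toBase n S))
    [IsClosedImmersion i.left] (e : 𝟙_ (Over S) ⟶ X) :
    ∃ U : S.Opens, ∀ (T : Scheme.{u}) [IsLocallyNoetherian T] (f : T ⟶ S),
      (Nonempty (GrpObj (Red.bc f X)) ∧ ∀ t : T, ConnectedSpace (Red.geomFibre t (Red.bc f X)).left) ↔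
        Set.range f.base ⊆ (U : Set S) := by
  have h1 : IsProper (CohB1.ProjSpaceOver.toBase n S) :=
    Groth.Agent.Dix.ProjProper.isProper_toBase n S
  have h2 : i.left ≫ CohB1.ProjSpaceOver.toBase n S = X.hom := Over.w i
  have h3 : IsProper X.hom := by
    rw [← h2]
    infer_instance
  obtain ⟨U, hU⟩ := K384.Glob.main X e
  exact ⟨U, fun T _ f => hU T f⟩

end Groth.Agent.S11448
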