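import Groth.Statements.S15985
import Groth.Agent.Coherent.K54.FibreCx
import Groth.Agent.CurvesB.NodalRpush
-- import your own Groth.Agent.* helpers here

set_option autoImplicit false
universe u
open Coherent

namespace Groth.Agent.S15985

open AlgebraicGeometry CategoryTheory Scheme.Modules in
/-- Let π : X → Y be proper of finite presentation, F a quasi-coherent O_X-module of finite
presentation, flat over Y, and p a natural number such that H^p(X_y, F|_{X_y}) = 0 for every point y
of Y (cohomology of the restriction of F to the scheme-theoretic fibre at y). Then the higher direct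
image R^p π_* F (the p-th right derived functor of π_* on O_X-modules, applied to F) is zero. -/
theorem result
    {X Y : Scheme.{u}} (π : X ⟶ Y) [IsProper π] [LocallyOfFinitePresentation π]
    [HasInjectiveResolutions X.Modules]
    (F : X.Modules) [Coh.IsQCoh F] (hfp : CohB1.IsFP F) (hfl : FlatMod.IsFlatOver π F) (p : ℕ)
    (h0 : ∀ y : Y, Subsingleton (CohIII.fiberH π F y p)) :
    Limits.IsZero ((Coh.Rpush π p).obj F) := by
  have hq : Coh.IsQCoh F := inferInstance
  refine Groth.Agent.CurvesB.NodalRpush.isZero_of_sections _
    (Groth.Agent.CohqA.RelCoh.isQCoh_Rpush π F hq p) fun V hV => ?_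
  obtain ⟨P, hP, -, hG, hr⟩ := K54.FibreCx.package π F hfp hfl V hV
  have h1 := K54.FibreCx.dRank_eq_zero π F hV P p (fun y => (hr y p).2) h0
  have h2 := K54.CxAlg.isZero_homology_of_dRank_eq_zero P hP _ h1
  have h3 : Subsingleton (P.homology (-(p : ℤ))) := ModuleCat.subsingleton_of_isZero h2
  obtain ⟨e⟩ := hG p
  exact e.toEquiv.subsingleton

end Groth.Agent.S15985
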