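import Groth.Statements.S7521
import Groth.Agent.Desc.K388.FinLFEff
import Groth.Agent.Ega2.FiniteSet

set_option autoImplicit false
open CategoryTheory CategoryTheory.Limits AlgebraicGeometry
universe u
open Desc

namespace Groth.Agent.S7521

/-- Let p : X -> Y be a surjective finite locally free morphism and V a scheme over X which has an
invertible module ample relative to V -> X. Then every descent datum on V relative to p is
effective. (A quasi-projective morphism V -> X, in particular a projective one, carries such a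
module.) (Descent data are taken in functor-of-points form.) -/
theorem result {X Y : Scheme.{u}} (p : X ⟶ Y) [Surjective p] [IsFinite p] [Flat p] [LocallyOfFinitePresentation p] (D : Desc.SchDD p) (L : D.obj.left.Modules) (hL : RelAmple.IsRelAmple D.obj.hom L) : ∃ W : Over Y, Nonempty ((Desc.toDD p).obj W ≅ D) := by
  refine K388.FinLFEff.effective_of_fibres D fun y s hs => ?_
  obtain ⟨O, hO, hy, -⟩ := TopologicalSpace.Opens.isBasis_iff_nbhd.mp Y.isBasis_affineOpens
    (TopologicalSpace.Opens.mem_top y)
  have hX : IsAffineOpen (p ⁻¹ᵁ O) := hO.preimage p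
  have hL' := hL.2 ⟨_, hX⟩
  let W : D.obj.left.Opens := D.obj.hom ⁻¹ᵁ (p ⁻¹ᵁ O)
  have hsW : ∀ v ∈ s, v ∈ W := fun v hv => by
    show p (D.obj.hom v) ∈ O
    rw [hs v hv]; exact hy
  have hfin : (W.ι ⁻¹' (s : Set D.obj.left)).Finite := s.finite_toSet.preimage W.ι.isOpenEmbedding.injective.injOn
  obtain ⟨n, t, h1, -, h2⟩ := Groth.Agent.Ega2.FiniteSet.exists_affine_genLocus_of_finite hL' _ hfin ⊤
    (fun _ _ => trivial)
  refine ⟨W.ι ''ᵁ _, h2.image_of_isOpenImmersion W.ι, fun v hv => ?_⟩
  obtain ⟨x, hx⟩ := (Groth.Agent.Desc.StableDD.mem_range_ι W v).2 (hsW v hv)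
  refine ⟨x, h1 ?_, hx⟩
  show W.ι x ∈ (s : Set D.obj.left)
  rw [hx]; exact hv

end Groth.Agent.S7521
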