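import Groth.Statements.S11412
import Groth.Agent.AlgGrp.K398.AntiAff
import Groth.Agent.S3026

set_option autoImplicit false
universe u
open CategoryTheory MonoidalCategory CartesianMonoidalCategory MonObj GrpObj AlgebraicGeometry CategoryTheory.Limits
open AlgGrp

namespace Groth.Agent.S11412

/-- Over an algebraically closed field k, let G be a k-group scheme of finite type whose only global
functions are the constants. Then G is reduced, i.e. smooth over k, and for every closed subgroup
scheme H of G and every quotient G/H (a k-scheme X of locally finite type with a G-action and a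
rational point o whose orbit map is flat and surjective and identifies G × H with G ×_X G), the only
global functions on X are the constants. (The published statement also records that G is connected
and commutative.) -/
theorem result (k : Type u) [Field k] [IsAlgClosed k]
    (G : Over (Spec (CommRingCat.of k))) [GrpObj G] [LocallyOfFiniteType G.hom] [QuasiCompact G.hom]
    (hG : Function.Bijective ((Scheme.ΓSpecIso (CommRingCat.of k)).inv ≫ G.hom.appTop).hom) :
    Smooth G.hom ∧
      ∀ (H : Over (Spec (CommRingCat.of k))) [GrpObj H] (h : H ⟶ G) [IsMonHom h] [IsClosedImmersion h.left]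
        (X : Over (Spec (CommRingCat.of k))) (a : AlgGrp.Action G X) (o : 𝟙_ (Over (Spec (CommRingCat.of k))) ⟶ X), AGF.IsQuotient h X a o →
        Function.Bijective ((Scheme.ΓSpecIso (CommRingCat.of k)).inv ≫ X.hom.appTop).hom := by
  have := K398.AntiAff.isIso_appTop hG
  refine ⟨Groth.Agent.S3026.result k G hG, ?_⟩
  intro H _ h _ _ X a o hX
  obtain ⟨h1, h2, h3, h4⟩ := hX
  have h5 : LocallyOfFiniteType X.hom := h1
  have h6 : Flat (a.orbitMap o).left := h2
  have h7 : Surjective (a.orbitMap o).left := h3
  have hX' : IsLocallyNoetherian X.left := LocallyOfFiniteType.isLocallyNoetherian X.hom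
  have h8 : QuasiCompact ((a.orbitMap o).left ≫ X.hom) := by
    rw [Over.w]; infer_instance
  have h9 : QuasiCompact (a.orbitMap o).left := QuasiCompact.of_comp _ X.hom
  have h10 : Epi (a.orbitMap o).left := inferInstance
  have h11 := Groth.Agent.S3026.appTop_injective (a.orbitMap o).left
  have h12 : G.hom.appTop = X.hom.appTop ≫ (a.orbitMap o).left.appTop := by
    rw [← Scheme.Hom.comp_appTop, Over.w]
  have h13 : Function.Bijective X.hom.appTop.hom := by
    have hb : Function.Bijective G.hom.appTop.hom := ConcreteCategory.bijective_of_isIso _
    rw [h12] at hb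
    have hb' : Function.Bijective ((a.orbitMap o).left.appTop.hom ∘ X.hom.appTop.hom) := hb
    refine ⟨hb'.1.of_comp, fun y => ?_⟩
    obtain ⟨x, hx⟩ := hb'.2 ((a.orbitMap o).left.appTop.hom y)
    exact ⟨x, h11 hx⟩
  have h14 : IsIso X.hom.appTop := (ConcreteCategory.isIso_iff_bijective _).mpr h13
  exact K398.AntiAff.bijective_of_isIso h14

end Groth.Agent.S11412
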