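import Groth.Statements.S7383
import Groth.Agent.Lim.K339.FPSystem

set_option autoImplicit false
universe u
open CategoryTheory AlgebraicGeometry
open Lim

namespace Groth.Agent.S7383

open K339.FPSystem in
/-- Let `f : X → S` be a morphism with `X` quasi-compact and quasi-separated and `S` quasi-separated.
Then, in the category of schemes over `S`, `X` is the limit of a nonempty directed inverse system of
schemes `X_i → S` of finite presentation (locally of finite presentation, quasi-compact and
quasi-separated) with affine transition morphisms. -/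
theorem result {X S : Scheme.{u}} (f : X ⟶ S)
    [CompactSpace X] [QuasiSeparatedSpace X] [QuasiSeparatedSpace S] :
    ∃ (I : Type u) (_ : Preorder I) (_ : IsDirected I (fun a b => a ≤ b)) (_ : Nonempty I)
      (D : Iᵒᵖ ⥤ Over S) (c : Limits.Cone D) (_ : Limits.IsLimit c),
      (∀ i, LocallyOfFinitePresentation (D.obj i).hom ∧ QuasiCompact (D.obj i).hom ∧
        QuasiSeparated (D.obj i).hom) ∧
      (∀ (i j : Iᵒᵖ) (a : i ⟶ j), IsAffineHom (D.map a).left) ∧
      Nonempty (c.pt ≅ Over.mk f) := by
  have hK : IsCompact (Set.range f) := isCompact_range f.continuous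
  obtain ⟨V, hV, hVo, hKV, -⟩ := PrespectralSpace.exists_isCompact_and_isOpen_between hK
    isOpen_univ (Set.subset_univ _)
  let U : S.Opens := ⟨V, hVo⟩
  have hr : Set.range f ⊆ Set.range U.ι := by simpa using! hKV
  let f' : X ⟶ U := IsOpenImmersion.lift U.ι f hr
  have hf' : f' ≫ U.ι = f := IsOpenImmersion.lift_fac _ _ _
  have hUc : CompactSpace U := isCompact_iff_compactSpace.mp hV
  have hUq : QuasiSeparatedSpace U := quasiSeparatedSpace_of_quasiSeparated U.ι
  obtain ⟨M⟩ := nonempty_model f'
  refine ⟨M.I, inferInstance, inferInstance, inferInstance, zD M U.ι, zC M U.ι, isLimitZC M U.ι,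
    fun i => ?_, fun i j a => inferInstance, ⟨Over.isoMk (Iso.refl X) ?_⟩⟩
  · have h1 := locallyOfFinitePresentation_snd M i
    obtain ⟨h2, h3⟩ := qcqs_snd M i
    have h4 : QuasiCompact U.ι := inferInstance
    exact ⟨(inferInstance : LocallyOfFinitePresentation (Limits.pullback.snd (M.φ.app i) (M.πS.app i) ≫ U.ι)),
      (inferInstance : QuasiCompact (Limits.pullback.snd (M.φ.app i) (M.πS.app i) ≫ U.ι)),
      (inferInstance : QuasiSeparated (Limits.pullback.snd (M.φ.app i) (M.πS.app i) ≫ U.ι))⟩
  · exact (Category.id_comp _).trans hf'.symm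

end Groth.Agent.S7383
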