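import Groth.Statements.S7382
import Groth.Agent.Lim.K339.IntegralLim

set_option autoImplicit false
universe u
open CategoryTheory AlgebraicGeometry
open Lim

namespace Groth.Agent.S7382

open K339.PairLim in
/-- Let `f : X → S` be integral with `S` quasi-compact and quasi-separated. Then, in the category of
schemes over `S`, `X` is the limit of a nonempty directed inverse system of schemes `X_i → S` that
are finite and locally of finite presentation. -/
theorem result {X S : Scheme.{u}} (f : X ⟶ S) [IsIntegralHom f]
    [CompactSpace S] [QuasiSeparatedSpace S] :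
    ∃ (I : Type u) (_ : Preorder I) (_ : IsDirected I (fun a b => a ≤ b)) (_ : Nonempty I)
      (D : Iᵒᵖ ⥤ Over S) (c : Limits.Cone D) (_ : Limits.IsLimit c),
      (∀ i, IsFinite (D.obj i).hom ∧ LocallyOfFinitePresentation (D.obj i).hom) ∧
      Nonempty (c.pt ≅ Over.mk f) := by
  have : CompactSpace X := QuasiCompact.compactSpace_of_compactSpace f
  have : QuasiSeparatedSpace X := quasiSeparatedSpace_of_quasiSeparated f
  obtain ⟨I, _, _, _, D, c, hc, hD, haff, ⟨e⟩⟩ := Groth.Agent.S7383.result f
  have h1 : ∀ i, LocallyOfFinitePresentation (D.obj i).hom := fun i => (hD i).1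
  have h2 : ∀ i, QuasiCompact (D.obj i).hom := fun i => (hD i).2.1
  have h3 : ∀ i, QuasiSeparated (D.obj i).hom := fun i => (hD i).2.2
  have h4 : ∀ {i j : Iᵒᵖ} (a : i ⟶ j), IsAffineHom (D.map a).left := fun a => haff _ _ a
  have h5 : IsIntegralHom c.pt.hom := by
    rw [← Over.w e.hom]
    have h8 : IsIntegralHom (Over.mk f).hom := (inferInstance : IsIntegralHom f)
    have h9 : IsIso e.hom.left := (inferInstance : IsIso ((Over.forget S).map e.hom))
    have h10 : IsIntegralHom e.hom.left := inferInstance
    exact MorphismProperty.comp_mem (W := @IsIntegralHom) _ _ h10 h8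
  have h6 : ∀ i, CompactSpace (D.obj i).left := fun i =>
    QuasiCompact.compactSpace_of_compactSpace (D.obj i).hom
  have h7 : ∀ i, QuasiSeparatedSpace (D.obj i).left := fun i =>
    quasiSeparatedSpace_of_quasiSeparated (D.obj i).hom
  have hQ := K339.IntegralLim.good D c hc
  have hdir := isDirected_pair hQ
  have hne := nonempty_pair hQ
  obtain ⟨hlim⟩ := nonempty_isLimit_pC hQ hc
  refine ⟨Pair D c (fun i K => IsFinite (K.subschemeι ≫ zs D i)), inferInstance, hdir, hne, pD D c _,
    pC D c _, hlim, fun s => ⟨s.unop.q, ?_⟩, ⟨e⟩⟩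
  have h8 := Groth.Agent.Smoothlim.ClosedFP.locallyOfFinitePresentation_subschemeι s.unop.K s.unop.ft
  have h9 := h1 (Opposite.op s.unop.i)
  exact (inferInstance : LocallyOfFinitePresentation (s.unop.K.subschemeι ≫ (D.obj (Opposite.op s.unop.i)).hom))

end Groth.Agent.S7382
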