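import Groth.Statements.S7415

set_option autoImplicit false
universe u
open CategoryTheory AlgebraicGeometry
open Mor

namespace Groth.Agent.S7415

/-- Let `X` be a reduced scheme with finitely many irreducible components and `x ∈ X`. Then `x` has an
affine open neighbourhood `U` such that `O_X(U) → O_{X,x}` is injective. -/
theorem result (X : Scheme.{u}) [AlgebraicGeometry.IsReduced X]
    (hirr : (irreducibleComponents (X : Type u)).Finite) (x : X) : X.IsGermInjectiveAt x := by
  let V : X.Opens := ⟨(⋃₀ {Z ∈ irreducibleComponents (X : Type u) | x ∉ Z})ᶜ, by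
    rw [isOpen_compl_iff, Set.sUnion_eq_biUnion]
    refine Set.Finite.isClosed_biUnion (hirr.subset fun Z hZ => hZ.1) fun Z hZ => ?_
    exact isClosed_of_mem_irreducibleComponents Z hZ.1⟩
  have hxV : x ∈ V := by
    rintro ⟨Z, hZ, hxZ⟩
    exact hZ.2 hxZ
  obtain ⟨_, ⟨U, hU, rfl⟩, hxU, hUV⟩ := X.isBasis_affineOpens.exists_subset_of_mem_open
    hxV V.isOpen
  replace hU : IsAffineOpen U := hU
  refine ⟨⟨U, hxU, hU, ?_⟩⟩
  rw [RingHom.injective_iff_ker_eq_bot, RingHom.ker_eq_bot_iff_eq_zero]
  intro s hs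
  rw [← map_zero (X.presheaf.germ U x hxU).hom] at hs
  obtain ⟨W, hxW, i1, i2, hW⟩ := X.presheaf.germ_eq x hxU hxU s 0 hs
  rw [map_zero] at hW
  have hbot : X.basicOpen s = ⊥ := by
    by_contra hne
    obtain ⟨y, hy⟩ := (TopologicalSpace.Opens.ne_bot_iff_nonempty _).mp hne
    have hyU : y ∈ U := X.basicOpen_le s hy
    have hxZ : x ∈ irreducibleComponent y := by
      by_contra h
      exact hUV hyU ⟨irreducibleComponent y, ⟨irreducibleComponent_mem_irreducibleComponents y, h⟩,
        mem_irreducibleComponent⟩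
    have hZ : IsPreirreducible (irreducibleComponent y) := isIrreducible_irreducibleComponent.2
    obtain ⟨z, hzZ, hz1, hz2⟩ := hZ _ _ (X.basicOpen s).isOpen W.isOpen
      ⟨y, mem_irreducibleComponent, hy⟩ ⟨x, hxZ, hxW⟩
    have h1 : z ∈ X.basicOpen (X.presheaf.map i1.op s) := by
      rw [Scheme.basicOpen_res]
      exact ⟨hz2, hz1⟩
    rw [hW, Scheme.basicOpen_zero] at h1
    exact h1
  exact (basicOpen_eq_bot_iff s).mp hbot

end Groth.Agent.S7415
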