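import Groth.Statements.S13709
import Mathlib.AlgebraicGeometry.Morphisms.FlatDescent

set_option autoImplicit false
universe u
open CategoryTheory CategoryTheory.Limits AlgebraicGeometry
open ZeroCyc

namespace Groth.Agent.S13709

/-- Let f : X → Y be a quasi-compact morphism of schemes and g : Y' → Y a faithfully flat morphism, i.e.
flat and surjective, with no quasi-compactness assumption on g. If the base change X ×_Y Y' → Y' of
f along g is a homeomorphism on underlying spaces, then so is f. -/
theorem result {X Y Y' : Scheme.{u}} (f : X ⟶ Y) (g : Y' ⟶ Y)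
    [Flat g] [Surjective g] [QuasiCompact f] (h : IsHomeomorph (pullback.snd f g).base) :
    IsHomeomorph f.base := by
  have hinj : Function.Injective f.base := by
    intro x₁ x₂ hx
    obtain ⟨y', hy'⟩ := g.surjective (f x₁)
    obtain ⟨z₁, hz₁, hz₁'⟩ := Scheme.Pullback.exists_preimage_pullback (f := f) (g := g) x₁ y' hy'.symm
    obtain ⟨z₂, hz₂, hz₂'⟩ := Scheme.Pullback.exists_preimage_pullback (f := f) (g := g) x₂ y'
      (hx.symm.trans hy'.symm)
    have hz : z₁ = z₂ := h.injective (hz₁'.trans hz₂'.symm)
    rw [← hz₁, ← hz₂, hz]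
  have hsurj : Function.Surjective f.base := by
    intro y
    obtain ⟨y', hy'⟩ := g.surjective y
    obtain ⟨z, hz⟩ := h.surjective y'
    refine ⟨(pullback.fst f g) z, ?_⟩
    rw [← hy', ← hz]
    change (pullback.fst f g ≫ f) z = (pullback.snd f g ≫ g) z
    rw [pullback.condition]
  have hcl : IsClosedMap f.base := by
    refine (isClosedMap_iff_specializingMap f).mpr ?_
    have hsp := h.isClosedMap.specializingMap
    intro x y₂ hxy
    obtain ⟨y₂', hy₂'⟩ := g.surjective y₂
    have hxy' : f x ⤳ g y₂' := by rw [hy₂']; exact hxy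
    obtain ⟨y', hy', hgy'⟩ := Flat.generalizingMap g hxy'
    obtain ⟨z, hz, hz'⟩ := Scheme.Pullback.exists_preimage_pullback (f := f) (g := g) x y' hgy'.symm
    have hs : (pullback.snd f g) z ⤳ y₂' := by rw [hz']; exact hy'
    obtain ⟨z₂, hz₂, hz₂'⟩ := hsp hs
    refine ⟨(pullback.fst f g) z₂, ?_, ?_⟩
    · rw [← hz]
      exact hz₂.map (pullback.fst f g).continuous
    · rw [← hy₂', ← hz₂']
      change (pullback.fst f g ≫ f) z₂ = (pullback.snd f g ≫ g) z₂
      rw [pullback.condition]
  exact isHomeomorph_iff_continuous_isClosedMap_bijective.mpr ⟨f.continuous, hcl, hinj, hsurj⟩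

end Groth.Agent.S13709
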