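import Groth.Statements.S13710
import Groth.Agent.S13709
import Groth.Agent.ZeroCyc.K757.Desc

set_option autoImplicit false
universe u
open CategoryTheory CategoryTheory.Limits AlgebraicGeometry
open ZeroCyc

namespace Groth.Agent.S13710

/-- Let f : X → Y be a morphism of schemes and g : Y' → Y a faithfully flat morphism (flat and
surjective, not assumed quasi-compact). Then f is an isomorphism exactly when it is quasi-compact
and its base change X ×_Y Y' → Y' along g is an isomorphism. -/
theorem result {X Y Y' : Scheme.{u}} (f : X ⟶ Y) (g : Y' ⟶ Y)
    [Flat g] [Surjective g] :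
    IsIso f ↔ QuasiCompact f ∧ IsIso (pullback.snd f g) := by
  constructor
  · intro h
    exact ⟨inferInstance, inferInstance⟩
  · rintro ⟨h1, h2⟩
    have hh : IsHomeomorph (pullback.snd f g).base :=
      (Scheme.homeoOfIso (asIso (pullback.snd f g))).isHomeomorph
    have hf : IsHomeomorph f.base := Groth.Agent.S13709.result f g hh
    have haff : IsAffineHom f :=
      isAffineHom_of_isInducing f hf.isInducing hf.isClosedEmbedding.isClosed_range
    exact K757.Desc.isIso_of_isAffineHom f g h2

end Groth.Agent.S13710
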