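import Groth.Statements.S5353
import Groth.Agent.S0114
import Groth.Agent.S1128
import Groth.Agent.Localalg.GrpSchComp2

set_option autoImplicit false
universe u
open CategoryTheory CategoryTheory.Limits MonoidalCategory CartesianMonoidalCategory MonObj GrpObj AlgebraicGeometry
open SGA3

namespace Groth.Agent.S5353

/-- Let A be a local artinian ring, G an A-group scheme which is flat and locally of finite type, i : G⁰
→ G an open subgroup scheme whose image is the connected component of the unit (the neutral
component), and p : G → Q a homomorphism of A-group schemes which is surjective, flat and locally of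
finite presentation with kernel G⁰ (Q is the quotient of G by G⁰). Then Q is etale over A. -/
theorem result (A : Type u) [CommRing A] [IsArtinianRing A] [IsLocalRing A] (G0 G Q : Over (Spec (CommRingCat.of A))) [GrpObj G0] [GrpObj G] [GrpObj Q]
    [Flat G.hom] [LocallyOfFiniteType G.hom] (i : G0 ⟶ G) [IsMonHom i] [IsOpenImmersion i.left]
    (pt : ↥(𝟙_ (Over (Spec (CommRingCat.of A)))).left) (hi : Set.range i.left.base = connectedComponent (η[G].left.base pt))
    (p : G ⟶ Q) [IsMonHom p] [Surjective p.left] [Flat p.left] [LocallyOfFinitePresentation p.left]
    (hK : AlgGrp.IsKernel i p) : Etale Q.hom := by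
  have hlfpG : LocallyOfFinitePresentation G.hom :=
    LocallyOfFinitePresentation.iff_locallyOfFiniteType.mpr inferInstance
  have h1 : LocallyOfFinitePresentation (p.left ≫ Q.hom) := by rw [Over.w]; exact hlfpG
  have h2 : LocallyOfFinitePresentation Q.hom := Groth.Agent.S0114.result p.left Q.hom
  have h3 : Flat (p.left ≫ Q.hom) := by rw [Over.w]; infer_instance
  have h4 : Flat Q.hom := Groth.Agent.S1128.result p.left Q.hom
  have h5 : IsPullback i.left (toUnit G0).left p.left η[Q].left := hK.map (Over.forget _)
  have h6 : IsOpenImmersion η[Q].left :=
    MorphismProperty.of_isPullback_of_descendsAlong (P := @IsOpenImmersion)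
      (Q := @Surjective ⊓ @Flat ⊓ @LocallyOfFinitePresentation) h5
      ⟨⟨inferInstance, inferInstance⟩, inferInstance⟩ inferInstance
  have h7 : IsOpenImmersion (pullback.diagonal Q.hom) :=
    MorphismProperty.of_isPullback (P := @IsOpenImmersion)
      (Groth.Agent.Localalg.GrpSchComp2.isPullback_diagonal _ Q).flip h6
  have h8 : FormallyUnramified Q.hom := inferInstance
  exact Etale.of_formallyUnramified_of_flat _

end Groth.Agent.S5353
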