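import Groth.Statements.S17076
import Groth.Agent.MorSch.K921.IsoLocus

set_option autoImplicit false
universe u
open CategoryTheory CategoryTheory.Limits AlgebraicGeometry
open MorSch

namespace Groth.Agent.S17076

/-- Let S be a locally Noetherian scheme, X and Y schemes proper over S with X flat over S, and f : X →
Y an S-morphism. Then there is an open subset S₀ of S such that, for every locally Noetherian scheme
S' and every morphism h : S' → S, the image of h lies in S₀ if and only if the base change X ×_S S'
→ Y ×_S S' of f is an isomorphism. (The published statement also supposes that some fibre of f is an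
isomorphism; that hypothesis only serves to make S₀ nonempty and is not needed.) -/
theorem result
    {S : Scheme.{u}} [IsLocallyNoetherian S] (X Y : Over S) [IsProper X.hom] [IsProper Y.hom]
    [Flat X.hom] (f : X ⟶ Y) :
    ∃ S₀ : S.Opens, ∀ (S' : Scheme.{u}) [IsLocallyNoetherian S'] (h : S' ⟶ S),
      Set.range h ⊆ (S₀ : Set S) ↔ IsIso ((Over.pullback h).map f).left := by
  refine ⟨K921.IsoLocus.locus f.left Y.hom, fun S' _ h => ?_⟩
  have h1 : IsPullback (pullback.fst Y.hom h) (pullback.snd Y.hom h) Y.hom h :=
    IsPullback.of_hasPullback _ _
  have h2 : IsPullback (pullback.fst X.hom h) (pullback.snd X.hom h) X.hom h :=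
    IsPullback.of_hasPullback _ _
  have e1 : ((Over.pullback h).map f).left ≫ pullback.fst Y.hom h =
      pullback.fst X.hom h ≫ f.left := pullback.lift_fst _ _ _
  have e2 : ((Over.pullback h).map f).left ≫ pullback.snd Y.hom h = pullback.snd X.hom h :=
    pullback.lift_snd _ _ _
  have h3 : IsPullback (pullback.fst X.hom h) ((Over.pullback h).map f).left f.left
      (pullback.fst Y.hom h) := by
    refine (IsPullback.of_right ?_ e1 h1.flip).flip
    rw [e2, Over.w f]
    exact h2.flip
  exact (K921.IsoLocus.isIso_baseChange_iff f.left X.hom Y.hom (Over.w f) h3 h1).symm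

end Groth.Agent.S17076
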