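import Groth.Statements.S15180
import Groth.Agent.BddFin.K844.FinSub2

set_option autoImplicit false
universe u
open CategoryTheory MonoidalCategory CartesianMonoidalCategory MonObj GrpObj AlgebraicGeometry
open BddFin

namespace Groth.Agent.S15180

theorem transport {K : Type u} [Field K] {G G' H : Over (Spec (CommRingCat.of K))} [GrpObj G] [GrpObj G']
    [GrpObj H] (e : Grp.mk G ≅ Grp.mk G')
    (main : ∀ (i : H ⟶ G') [IsMonHom i] [Mono i], ∃ φ : G' ⟶ G',
      IsMonHom φ ∧ AlgGrp.IsKernel i φ ∧ Flat φ.left ∧ Surjective φ.left)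
    (i : H ⟶ G) [IsMonHom i] [Mono i] :
    ∃ φ : G ⟶ G, IsMonHom φ ∧ AlgGrp.IsKernel i φ ∧ Flat φ.left ∧ Surjective φ.left := by
  let f : G ⟶ G' := e.hom.hom.hom
  let g : G' ⟶ G := e.inv.hom.hom
  have hfg : f ≫ g = 𝟙 _ := congrArg (fun h => h.hom.hom) e.hom_inv_id
  have hgf : g ≫ f = 𝟙 _ := congrArg (fun h => h.hom.hom) e.inv_hom_id
  have hf : IsIso f := ⟨g, hfg, hgf⟩
  have hg : IsIso g := ⟨f, hgf, hfg⟩
  have hf1 : IsMonHom f := e.hom.hom.isMonHom_hom
  have hg1 : IsMonHom g := e.inv.hom.isMonHom_hom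
  have hm : Mono (i ≫ f) := mono_comp _ _
  obtain ⟨φ, h1, h2, h3, h4⟩ := main (i ≫ f)
  have hfl : IsIso f.left := inferInstanceAs (IsIso ((Over.forget _).map f))
  have hgl : IsIso g.left := inferInstanceAs (IsIso ((Over.forget _).map g))
  refine ⟨f ≫ φ ≫ g, inferInstance, ?_, ?_, ?_⟩
  · apply K844.FinSub.isKernel_of
    · have h5 := h2.w
      have h6 : η[G'] ≫ g = η[G] := IsMonHom.one_hom _
      rw [← h6, ← Category.assoc (toUnit H), ← h5]
      simp
    · intro T t b h
      have h5 : (t ≫ f) ≫ φ = b ≫ η[G'] := by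
        have h6 : η[G] ≫ f = η[G'] := IsMonHom.one_hom _
        rw [← h6, ← Category.assoc b, ← h]
        simp [hgf]
      refine ⟨h2.lift _ _ h5, ?_⟩
      have h6 := h2.lift_fst _ _ h5
      rw [← cancel_mono f, Category.assoc, h6]
  · rw [Over.comp_left, Over.comp_left]; infer_instance
  · rw [Over.comp_left, Over.comp_left]; infer_instance

/-- Let K be an arbitrary field, G a K-group scheme isomorphic (as a group scheme) to 𝔾_a (additive) or
to 𝔾_m (multiplicative), and H a finite subgroup scheme of G (a monomorphic homomorphism H → G with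
H finite over K). Then the quotient G/H is isomorphic to G; equivalently, there is a homomorphism of
K-group schemes G → G which is flat and surjective and whose kernel is H. -/
theorem result
    (K : Type u) [Field K] (G H : Over (Spec (CommRingCat.of K))) [GrpObj G] [GrpObj H]
    (hG : Nonempty (Grp.mk G ≅ Grp.mk (Red.Ga (Spec (CommRingCat.of K)))) ∨
      Nonempty (Grp.mk G ≅ Grp.mk (Red.Gm (Spec (CommRingCat.of K)))))
    (i : H ⟶ G) [IsMonHom i] [Mono i] [IsFinite H.hom] :
    ∃ φ : G ⟶ G, IsMonHom φ ∧ AlgGrp.IsKernel i φ ∧ Flat φ.left ∧ Surjective φ.left := by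
  rcases hG with ⟨⟨e⟩⟩ | ⟨⟨e⟩⟩
  · exact transport e (fun i _ _ => K844.FinSub.main_ga i) i
  · exact transport e (fun i _ _ => K844.FinSub.main_gm i) i

end Groth.Agent.S15180
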