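import Groth.Statements.S5347
import Groth.Agent.Sga3C.FlatHomog
import Groth.Agent.Sga3C.Transl

set_option autoImplicit false
universe u
open CategoryTheory CategoryTheory.Limits MonoidalCategory CartesianMonoidalCategory MonObj GrpObj AlgebraicGeometry
open SGA3

namespace Groth.Agent.S5347

/-- Let A be a local artinian ring, G a flat A-group scheme (not assumed of finite type), X an A-scheme
with a left action of G and an A-point s₀ of X, and φ : G → X the orbit morphism g ↦ g·s₀. If φ is
flat at some point of G (the local ring of G there is flat over the local ring of X at the image),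
then φ is flat. -/
theorem result (A : Type u) [CommRing A] [IsArtinianRing A] [IsLocalRing A] (G X : Over (Spec (CommRingCat.of A))) [GrpObj G] [Flat G.hom]
    (a : AlgGrp.Action G X) (s₀ : 𝟙_ (Over (Spec (CommRingCat.of A))) ⟶ X)
    (h : ∃ g : G.left, ((a.orbitMap s₀).left.stalkMap g).hom.Flat) : Flat (a.orbitMap s₀).left := by
  obtain ⟨x₀, hx₀⟩ := h
  refine Groth.Agent.Sga3C.FlatPt.flat_of_forall_isFlatAt _ fun x => ?_
  refine Groth.Agent.Sga3C.FlatHomog.isFlatAt_of_isFlatAt (a.orbitMap s₀)
    (Groth.Agent.Sga3C.Transl.transl a (𝟙 G)) ?_ x x₀ ?_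
    ((Groth.Agent.Sga3C.FlatPt.isFlatAt_iff_stalkMap _ _).mpr hx₀)
  · have e0 : (Groth.Agent.Sga3C.Transl.transl a (𝟙 G)).hom =
        Groth.Agent.Sga3C.Transl.translHom a (𝟙 G) := rfl
    have e1 : (Groth.Agent.Sga3C.GrpBasic.mulLeftShear (𝟙 G)).hom ≫ snd G G ≫ a.orbitMap s₀ =
        (fst G G * snd G G) ≫ a.orbitMap s₀ := by
      rw [← Category.assoc, Groth.Agent.Sga3C.GrpBasic.mulLeftShear_hom_snd, Category.comp_id]
    have e2 : ∀ {T : Over (Spec (CommRingCat.of A))} (g : T ⟶ G),
        g ≫ a.orbitMap s₀ = lift g (toUnit T ≫ s₀) ≫ a.act := by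
      intro T g
      rw [AlgGrp.Action.orbitMap, ← Category.assoc, comp_lift, Category.comp_id,
        ← Category.assoc, toUnit_unique (g ≫ toUnit G) (toUnit T)]
    rw [e0]
    ext1
    · rw [Category.assoc, Groth.Agent.Sga3C.Transl.translHom_fst]
      simp
    · rw [Category.assoc, Category.assoc, Groth.Agent.Sga3C.Transl.translHom_snd,
        whiskerLeft_snd, e1, e2, Groth.Agent.Sga3C.Transl.lift_mul_act,
        Groth.Agent.Sga3C.Transl.comp_lift_act, Category.comp_id, whiskerLeft_fst,
        whiskerLeft_snd, e2]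
  · exact Subsingleton.elim (α := PrimeSpectrum A) _ _

end Groth.Agent.S5347
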