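import Groth.Statements.S14633
import Groth.Agent.AlgGrp.K403.GeomPts2
import Groth.Agent.AlgGrp.K403.Act2
import Groth.Agent.Flat2B.SmoothGeom

set_option autoImplicit false
universe u
open CategoryTheory MonoidalCategory CartesianMonoidalCategory MonObj GrpObj AlgebraicGeometry CategoryTheory.Limits
open AlgGrp

namespace Groth.Agent.S14633

open K403.GeomPts K403.Act Groth.Agent.Books.BorelOrb

/-- Over a field k, let G be a smooth connected k-group scheme of finite type and let Z be a reduced
k-scheme of finite type of dimension at most 0 (for Z empty the conclusion is immediate). Then every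
action of G on Z is trivial: the action morphism G × Z → Z is the second projection. -/
theorem result (k : Type u) [Field k]
    (G Z : Over (Spec (CommRingCat.of k))) [GrpObj G] [Smooth G.hom] [QuasiCompact G.hom] [ConnectedSpace ↥G.left]
    [LocallyOfFiniteType Z.hom] [QuasiCompact Z.hom] [IsReduced Z.left] (hdim : topologicalKrullDim ↥Z.left ≤ 0)
    (a : AlgGrp.Action G Z) : a.act = CartesianMonoidalCategory.snd G Z := by
  let K := AlgebraicClosure k
  have hGR : GeometricallyReduced G.hom := Groth.Agent.Flat2B.SmoothGeom.geometricallyReduced_of_smooth G.hom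
  have hN : IsLocallyNoetherian Z.left := LocallyOfFiniteType.isLocallyNoetherian Z.hom
  have h1 : LocallyOfFiniteType (G ⊗ Z).hom := by
    have : LocallyOfFiniteType (pullback.fst G.hom Z.hom ≫ G.hom) := inferInstance
    exact this
  have hfl : Flat G.hom := inferInstance
  have h2 : IsReduced (G ⊗ Z).left := inferInstanceAs (IsReduced (pullback G.hom Z.hom))
  have hD0 : DiscreteTopology Z.left := discreteTopology_of_dim Z.hom hdim
  have hc : CompactSpace Z.left := (quasiCompact_iff_compactSpace (f := Z.hom)).mp inferInstance
  have hfinite : Finite Z.left := finite_of_compact_of_discrete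
  have hsep : IsSeparated Z.hom := inferInstance
  refine ext_of_pts K _ _ ?_
  intro p
  obtain ⟨g, z, rfl⟩ : ∃ g z, p = CartesianMonoidalCategory.lift g z := ⟨p ≫ fst _ _, p ≫ snd _ _, by simp⟩
  rw [lift_snd]
  change sm a g z = z
  have hconn := connectedSpace_prod_KK G K
  have hdisc := discreteTopology_prod hdim K
  let F : G ⊗ KK k K ⟶ Z ⊗ KK k K :=
    CartesianMonoidalCategory.lift (sm a (fst G (KK k K)) (snd G (KK k K) ≫ z)) (snd G (KK k K))
  have hF : ∀ g : KK k K ⟶ G, CartesianMonoidalCategory.lift g (𝟙 (KK k K)) ≫ F =
      CartesianMonoidalCategory.lift (sm a g z) (𝟙 _) := by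
    intro g
    simp only [F, comp_lift, comp_sm, lift_fst, lift_snd_assoc, lift_snd, Category.id_comp]
  have hconst : ∀ x y : (G ⊗ KK k K).left, F.left x = F.left y := by
    intro x y
    exact (isPreconnected_univ.image _ F.left.continuous.continuousOn).subsingleton ⟨x, trivial, rfl⟩ ⟨y, trivial, rfl⟩
  have h3 := hF g
  have h4 := hF 1
  rw [one_sm] at h4
  apply eq_of_pt_eq
  rw [← h3, ← h4, Over.comp_left, Over.comp_left, Scheme.Hom.comp_apply, Scheme.Hom.comp_apply]
  exact hconst _ _

end Groth.Agent.S14633
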