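import Groth.Statements.S14635
import Groth.Agent.AlgGrp.K403.ExtAct
import Groth.Agent.AlgGrp.K403.QuotAct
import Groth.Agent.Books.AlgPtsGrp
import Groth.Agent.Ega1.ReducedSub
import Groth.Agent.CalgA.SerreLocal
import Groth.Agent.CurvesC.RegNormal
import Groth.Agent.S14633

set_option autoImplicit false
universe u
open CategoryTheory MonoidalCategory CartesianMonoidalCategory MonObj GrpObj AlgebraicGeometry CategoryTheory.Limits
open AlgGrp

namespace Groth.Agent.S14635

open K403.Dense K403.Act K403.ExtAct Groth.Agent.Books.BorelOrb K403.GeomPts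

section
variable {k : Type u} [Field k] {G C Cc : Over (Spec (CommRingCat.of k))} [GrpObj G] [Smooth G.hom]
  [QuasiCompact G.hom] [ConnectedSpace G.left] [IsSeparated C.hom] [LocallyOfFiniteType C.hom] [QuasiCompact C.hom]
  [IsProper Cc.hom] [IsIntegral Cc.left] (j : C ⟶ Cc) [IsOpenImmersion j.left] (a : AlgGrp.Action G C)

/-- existence and uniqueness of the extension of the action. -/
theorem existsUnique_action [GeometricallyIntegral C.hom] (hdense : DenseRange j.left)
    (hex : ∃ m : G ⊗ Cc ⟶ Cc, (G ◁ j) ≫ m = a.act ≫ j) : ∃! b : AlgGrp.Action G Cc, (G ◁ j) ≫ b.act = a.act ≫ j := by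
  obtain ⟨m, hm⟩ := hex
  have hN : IsLocallyNoetherian Cc.left := LocallyOfFiniteType.isLocallyNoetherian Cc.hom
  have hjd : IsDominant j.left := ⟨hdense⟩
  have hjs : IsSchemeTheoreticallyDominant j.left := .of_isDominant _
  have hqj : QuasiCompact j.left := inferInstance
  refine ⟨⟨m, ?_, ?_⟩, hm, ?_⟩
  · refine eq_of_separated_over ((𝟙_ (Over (Spec (CommRingCat.of k)))) ◁ j) _ _ ?_
    have h1 : ((𝟙_ (Over (Spec (CommRingCat.of k)))) ◁ j) ≫ (η[G] ▷ Cc) = (η[G] ▷ C) ≫ (G ◁ j) := whisker_exchange _ _
    rw [← Category.assoc, h1, Category.assoc, hm, ← Category.assoc, a.one_act]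
    exact (leftUnitor_naturality j).symm
  · refine eq_of_separated_over ((G ⊗ G) ◁ j) _ _ ?_
    have h1 : ((G ⊗ G) ◁ j) ≫ (μ[G] ▷ Cc) = (μ[G] ▷ C) ≫ (G ◁ j) := whisker_exchange _ _
    rw [← Category.assoc, h1, Category.assoc, hm, ← Category.assoc, a.mul_act]
    have h2 : ((G ⊗ G) ◁ j) ≫ (α_ G G Cc).hom = (α_ G G C).hom ≫ (G ◁ (G ◁ j)) := by
      rw [tensor_whiskerLeft, Category.assoc, Category.assoc, Iso.inv_hom_id, Category.comp_id]
    have h3 : (G ◁ (G ◁ j)) ≫ (G ◁ m) = (G ◁ a.act) ≫ (G ◁ j) := by
      rw [← whiskerLeft_comp, hm, whiskerLeft_comp]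
    rw [← Category.assoc ((G ⊗ G) ◁ j), h2]
    simp only [Category.assoc]
    rw [← Category.assoc (G ◁ (G ◁ j)) (G ◁ m) m, h3, Category.assoc, hm]
  · intro b hb
    apply K403.QuotAct.action_ext
    refine eq_of_separated_over (G ◁ j) _ _ ?_
    rw [hb, hm]

end

/-- Over a field k, let G be a smooth connected k-group scheme of finite type acting on a regular curve
C (a separated, geometrically integral k-scheme of finite type of dimension 1 whose local rings are
regular), and let j : C → Ĉ be its regular completion: an open immersion over k with dense image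
into an integral proper k-scheme Ĉ of dimension 1 whose local rings are regular. Then the action
extends in a unique way to an action of G on Ĉ for which j is equivariant. Moreover, for any such
extension, G acts trivially on the (reduced) complement of C: for every field K over k, every
K-point z of Ĉ over k whose image lies outside j(C) and every K-point g of G, one has g · z = z. -/
theorem result (k : Type u) [Field k]
    (G C Cc : Over (Spec (CommRingCat.of k))) [GrpObj G] [Smooth G.hom] [QuasiCompact G.hom] [ConnectedSpace ↥G.left]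
    [IsSeparated C.hom] [LocallyOfFiniteType C.hom] [QuasiCompact C.hom] [GeometricallyIntegral C.hom] (hdim : topologicalKrullDim ↥C.left = 1) (hreg : Models.IsRegularScheme C.left)
    [IsProper Cc.hom] [IsIntegral Cc.left] (hdimc : topologicalKrullDim ↥Cc.left = 1) (hregc : Models.IsRegularScheme Cc.left)
    (j : C ⟶ Cc) [IsOpenImmersion j.left] (hdense : DenseRange j.left.base)
    (a : AlgGrp.Action G C) :
    (∃! b : AlgGrp.Action G Cc, (G ◁ j) ≫ b.act = a.act ≫ j) ∧
      ∀ b : AlgGrp.Action G Cc, (G ◁ j) ≫ b.act = a.act ≫ j →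
        ∀ (K : Type u) [Field K] [Algebra k K]
          (z : Over.mk (Spec.map (CommRingCat.ofHom (algebraMap k K))) ⟶ Cc)
          (g : Over.mk (Spec.map (CommRingCat.ofHom (algebraMap k K))) ⟶ G),
          (∀ p, z.left.base p ∉ Set.range j.left.base) →
            CartesianMonoidalCategory.lift g z ≫ b.act = z := by
  have hjopen : IsOpen (Set.range j.left) := j.left.isOpenEmbedding.isOpen_range
  -- the complement
  let T : TopologicalSpace.Closeds Cc.left := ⟨(Set.range j.left)ᶜ, hjopen.isClosed_compl⟩
  let J := Scheme.IdealSheafData.vanishingIdeal T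
  let Z : Over (Spec (CommRingCat.of k)) := Over.mk (J.subschemeι ≫ Cc.hom)
  let ζ : Z ⟶ Cc := Over.homMk J.subschemeι rfl
  have hζc : IsClosedImmersion ζ.left := inferInstanceAs (IsClosedImmersion J.subschemeι)
  have hζr : Set.range ζ.left = (Set.range j.left)ᶜ := by
    change Set.range J.subschemeι = _
    rw [Scheme.IdealSheafData.range_subschemeι, Scheme.IdealSheafData.coe_support_vanishingIdeal]
    rfl
  have hZred : IsReduced Z.left := Groth.Agent.Ega1.ReducedSub.isReduced_subscheme_vanishingIdeal T
  have hZlft : LocallyOfFiniteType Z.hom := inferInstanceAs (LocallyOfFiniteType (J.subschemeι ≫ Cc.hom))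
  have hZqc : QuasiCompact Z.hom := inferInstanceAs (QuasiCompact (J.subschemeι ≫ Cc.hom))
  have hdimZ : topologicalKrullDim Z.left ≤ 0 := by
    have h1 : topologicalKrullDim Z.left = topologicalKrullDim (Set.range ζ.left) :=
      IsHomeomorph.topologicalKrullDim_eq _ ζ.left.isClosedEmbedding.isEmbedding.toHomeomorph.isHomeomorph
    have h2 : topologicalKrullDim (Set.range ζ.left) < ((1 : ℕ) : WithBot ℕ∞) := by
      refine Groth.Agent.Fga.DimLt.topologicalKrullDim_lt (A := Set.univ) (IrreducibleSpace.isIrreducible_univ _)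
        ζ.left.isClosedEmbedding.isClosed_range (Set.subset_univ _) ?_ ?_
      · rw [hζr]
        intro h
        have h3 : Set.range j.left = ∅ := by rw [← compl_compl (Set.range j.left), h, Set.compl_univ]
        have h4 := hdense
        have h5 : Nonempty Cc.left := inferInstance
        obtain ⟨x, hx⟩ := h4.exists_mem_open isOpen_univ Set.univ_nonempty
        have : j.left x ∈ (∅ : Set Cc.left) := by rw [← h3]; exact ⟨x, rfl⟩
        exact this
      · rw [show topologicalKrullDim (Set.univ : Set Cc.left) = topologicalKrullDim Cc.left from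
          IsHomeomorph.topologicalKrullDim_eq _ (Homeomorph.Set.univ _).isHomeomorph, hdimc]
        decide
    rw [h1]
    exact ENat.WithBot.lt_add_one_iff.1 (by simpa using h2)
  have hlqf : LocallyQuasiFinite Z.hom := by
    have h1 : DiscreteTopology Z.left := discreteTopology_of_dim Z.hom hdimZ
    rw [locallyQuasiFinite_iff_isDiscrete_preimage_singleton]
    intro x
    exact (isDiscrete_univ_iff.2 h1).mono (Set.subset_univ _)
  have hnorm : Pi1.IsNormalScheme Cc.left := fun x => by
    have h1 : IsRegularLocalRing (Cc.left.presheaf.stalk x) := hregc x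
    exact ⟨inferInstance, Groth.Agent.CurvesC.RegNormal.isIntegrallyClosed _⟩
  refine ⟨existsUnique_action j a hdense (exists_ext j a hnorm hdense ζ hζr.ge), ?_⟩
  intro b hb K _ _ z g hz
  -- the complement is stable
  have hsq := (isPullback_act hb).map (Over.forget _)
  have hrange : Set.range (G ◁ j).left = b.act.left ⁻¹' Set.range j.left :=
    range_fst_of_isPullback hsq.flip
  have hGR : GeometricallyReduced G.hom := Groth.Agent.Flat2B.SmoothGeom.geometricallyReduced_of_smooth G.hom
  have hNZ : IsLocallyNoetherian Z.left := LocallyOfFiniteType.isLocallyNoetherian Z.hom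
  have hGZ : IsReduced (G ⊗ Z).left := inferInstanceAs (IsReduced (pullback G.hom Z.hom))
  obtain ⟨n, hn⟩ := Groth.Agent.Books.AlgPtsGrp.exists_lift ζ ((G ◁ ζ) ≫ b.act) (by
    rintro _ ⟨w, rfl⟩
    rw [hζr]
    intro h
    rw [Over.comp_left, Scheme.Hom.comp_apply] at h
    have h1 : (G ◁ ζ).left w ∈ Set.range (G ◁ j).left := by rw [hrange]; exact h
    rw [range_whiskerLeft] at h1
    have h2 : (snd G Cc).left ((G ◁ ζ).left w) ∈ Set.range ζ.left := by
      have h3 : (G ◁ ζ).left w ∈ Set.range (G ◁ ζ).left := ⟨w, rfl⟩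
      rw [range_whiskerLeft] at h3
      exact h3
    rw [hζr] at h2
    exact h2 h1)
  have hmono : Mono ζ := Over.mono_of_mono_left _
  have hn2 : ∀ {S : Over (Spec (CommRingCat.of k))} (g : S ⟶ G) (x : S ⟶ Z),
      (CartesianMonoidalCategory.lift g x ≫ n) ≫ ζ = sm b g (x ≫ ζ) := by
    intro S g x
    rw [Category.assoc, hn, lift_whiskerLeft_assoc, sm]
  let c : AlgGrp.Action G Z := K403.QuotAct.mkAction n
    (by
      intro S x
      rw [← cancel_mono ζ, hn2, one_sm])
    (by
      intro S g h x
      rw [← cancel_mono ζ, hn2, hn2, hn2, mul_sm])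
  have hc : n = snd G Z := Groth.Agent.S14633.result k G Z hdimZ c
  have hKred : IsReduced (Over.mk (Spec.map (CommRingCat.ofHom (algebraMap k K)))).left :=
    inferInstanceAs (IsReduced (Spec (CommRingCat.of K)))
  obtain ⟨z', rfl⟩ := Groth.Agent.Books.AlgPtsGrp.exists_lift ζ z (by
    rintro _ ⟨w, rfl⟩
    rw [hζr]
    exact hz w)
  have h1 := hn2 g z'
  rw [hc, lift_snd] at h1
  exact h1.symm

end Groth.Agent.S14635
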