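import Groth.Statements.S5364
import Groth.Agent.SGA3.K205.Transporter

set_option autoImplicit false
universe u
open CategoryTheory CategoryTheory.Limits MonoidalCategory CartesianMonoidalCategory MonObj GrpObj AlgebraicGeometry
open SGA3

namespace Groth.Agent.S5364

open K205.Transporter in
/-- The principle behind normality of generated subgroups. -/
theorem normal_of_minimal {k : Type u} [Field k] {G X Γ : Over (Spec (CommRingCat.of k))} [GrpObj G]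
    [GrpObj Γ] (f : X ⟶ G) (i : Γ ⟶ G) [IsMonHom i] [IsClosedImmersion i.left]
    (hf : ∃ f' : X ⟶ Γ, f' ≫ i = f)
    (hmin : ∀ (Γ' : Over (Spec (CommRingCat.of k))) (_ : GrpObj Γ') (i' : Γ' ⟶ G), IsMonHom i' →
      IsClosedImmersion i'.left → (∃ f'' : X ⟶ Γ', f'' ≫ i' = f) → ∃ j : Γ ⟶ Γ', j ≫ i' = i)
    (hconj : ∀ (T : Over (Spec (CommRingCat.of k))) (g : T ⟶ G),
      ∃ y : T ⊗ X ⟶ Γ, y ≫ i = (fst T X ≫ g) * (snd T X ≫ f) * (fst T X ≫ g)⁻¹) :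
    AlgGrp.IsNormalHom i := by
  intro T g n
  let c : T ⊗ Γ ⟶ G := (fst T Γ ≫ g) * (snd T Γ ≫ i) * (fst T Γ ≫ g)⁻¹
  have hc : ∀ {S' : Over (Spec (CommRingCat.of k))} (γ : S' ⟶ Γ), (T ◁ γ) ≫ c =
      (fst T S' ≫ g) * (snd T S' ≫ γ ≫ i) * (fst T S' ≫ g)⁻¹ := by
    intro S' γ
    simp only [c, comp_mul, GrpObj.comp_inv, whiskerLeft_fst_assoc, whiskerLeft_snd_assoc]
  obtain ⟨H, h, hh, hH⟩ := exists_closed (K205.EssFree.isEssentiallyFree_of_field k T.hom) c i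
  have hH' : ∀ (S' : Over (Spec (CommRingCat.of k))) (γ : S' ⟶ Γ), (∃ z : S' ⟶ H, z ≫ h = γ) ↔
      ∃ y : T ⊗ S' ⟶ Γ, y ≫ i = (fst T S' ≫ g) * (snd T S' ≫ γ ≫ i) * (fst T S' ≫ g)⁻¹ := by
    intro S' γ
    rw [hH, hc]
  have hmono : Mono h := Groth.Agent.Sga3C.ClosedSub.mono_of_left h
  obtain ⟨hHg, hHm⟩ := exists_grpObj_of_mem h
    ((hH' _ _).mpr ⟨1, by
      rw [IsMonHom.one_hom, one_eq_one, comp_one, one_comp]; group⟩)
    (fun {T'} g₁ g₂ hg₁ hg₂ => (hH' _ _).mpr (by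
      rw [hH'] at hg₁ hg₂
      obtain ⟨y, hy⟩ := hg₁
      obtain ⟨y', hy'⟩ := hg₂
      exact ⟨y * y', by rw [mul_comp, mul_comp, comp_mul, hy, hy']; group⟩))
    (fun {T'} g₁ hg₁ => (hH' _ _).mpr (by
      rw [hH'] at hg₁
      obtain ⟨y, hy⟩ := hg₁
      exact ⟨y⁻¹, by rw [GrpObj.inv_comp, GrpObj.inv_comp, GrpObj.comp_inv, hy]; group⟩))
  obtain ⟨f', hf'⟩ := hf
  obtain ⟨w, hw⟩ := (hH' _ f').mpr (by rw [hf']; exact hconj T g)
  obtain ⟨j₀, hj₀⟩ := hmin H hHg (h ≫ i) inferInstance (by rw [Over.comp_left]; infer_instance)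
    ⟨w, by rw [reassoc_of% hw, hf']⟩
  have hmi : Mono i := Groth.Agent.Sga3C.ClosedSub.mono_of_left i
  obtain ⟨y, hy⟩ := (hH' _ (𝟙 Γ)).mp ⟨j₀, by
    rw [← cancel_mono i, Category.assoc, hj₀, Category.id_comp]⟩
  refine ⟨lift (𝟙 T) n ≫ y, ?_⟩
  rw [Category.assoc, hy]
  simp only [comp_mul, GrpObj.comp_inv, lift_fst_assoc, lift_snd_assoc, Category.id_comp]

/-- Let G be a group scheme over a field k and a : A → G, b : B → G two closed subgroup schemes which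
are geometrically reduced over k and normal in G. Let i : Γ → G be the commutator subgroup scheme
(A, B): the smallest closed subgroup scheme of G through which the morphism A ×_k B → G, (x, y) ↦
a(x) b(y) a(x)⁻¹ b(y)⁻¹, factors. Then Γ is normal in G. (The published statement also covers
characteristic subgroups; this row states the case of normal subgroups only.) -/
theorem result (k : Type u) [Field k] (G A B : Over (Spec (CommRingCat.of k))) [GrpObj G] [GrpObj A] [GrpObj B]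
    (a : A ⟶ G) [IsMonHom a] [IsClosedImmersion a.left] (b : B ⟶ G) [IsMonHom b] [IsClosedImmersion b.left]
    [GeometricallyReduced A.hom] [GeometricallyReduced B.hom] (hA : AlgGrp.IsNormalHom a) (hB : AlgGrp.IsNormalHom b)
    (Γ : Over (Spec (CommRingCat.of k))) [GrpObj Γ] (i : Γ ⟶ G) [IsMonHom i] [IsClosedImmersion i.left]
    (hf : ∃ f' : A ⊗ B ⟶ Γ, f' ≫ i = (((fst A B) ≫ a) * ((snd A B) ≫ b) * ((fst A B) ≫ a)⁻¹ * ((snd A B) ≫ b)⁻¹))
    (hmin : ∀ (Γ' : Over (Spec (CommRingCat.of k))) (_ : GrpObj Γ') (i' : Γ' ⟶ G), IsMonHom i' → IsClosedImmersion i'.left →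
        (∃ f'' : A ⊗ B ⟶ Γ', f'' ≫ i' = (((fst A B) ≫ a) * ((snd A B) ≫ b) * ((fst A B) ≫ a)⁻¹ * ((snd A B) ≫ b)⁻¹)) → ∃ j : Γ ⟶ Γ', j ≫ i' = i) :
    AlgGrp.IsNormalHom i := by
  refine normal_of_minimal _ i hf hmin fun T g => ?_
  obtain ⟨a', ha'⟩ := hA (T ⊗ (A ⊗ B)) (fst T (A ⊗ B) ≫ g) (snd T (A ⊗ B) ≫ fst A B)
  obtain ⟨b', hb'⟩ := hB (T ⊗ (A ⊗ B)) (fst T (A ⊗ B) ≫ g) (snd T (A ⊗ B) ≫ snd A B)
  obtain ⟨f', hf'⟩ := hf
  refine ⟨lift a' b' ≫ f', ?_⟩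
  rw [Category.assoc, hf']
  simp only [comp_mul, GrpObj.comp_inv, lift_fst_assoc, lift_snd_assoc, ← ha', ← hb',
    Category.assoc]
  group

end Groth.Agent.S5364
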