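import Groth.Statements.S9866
import Groth.Agent.Desc.StableDD
import Groth.Agent.Desc.ToDD
import Groth.Agent.Desc.HullDD
import Mathlib.AlgebraicGeometry.Morphisms.Flat
-- import your own Groth.Agent.* helpers here

set_option autoImplicit false
open CategoryTheory CategoryTheory.Limits AlgebraicGeometry Opposite
universe u
open Desc

namespace Groth.Agent.S9866

open Groth.Agent.Desc.StableDD

theorem isIso_of_fac {A Y : Scheme.{u}} (W : Y.Opens) (F : A ⟶ W.toScheme) (j : A ⟶ Y)
    [IsOpenImmersion j] (hc : F ≫ W.ι = j) (hW : W = j.opensRange) : IsIso F := by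
  have : IsOpenImmersion (F ≫ W.ι) := by rw [hc]; infer_instance
  have h1 : IsOpenImmersion F := IsOpenImmersion.of_comp F W.ι
  have : Surjective F := ⟨fun w => by
    have hw : W.ι w ∈ W := (mem_range_ι W _).mp ⟨w, rfl⟩
    have hw2 : W.ι w ∈ j.opensRange := by
      generalize W.ι w = z at hw
      rwa [hW] at hw
    obtain ⟨a, ha⟩ := hw2
    refine ⟨a, W.ι.isOpenEmbedding.injective ?_⟩
    rw [← Scheme.Hom.comp_apply, hc]
    exact ha⟩
  have : Epi F.base := (TopCat.epi_iff_surjective _).2 this.surj
  exact IsOpenImmersion.isIso F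

set_option backward.isDefEq.respectTransparency false in
set_option backward.isDefEq.respectTransparency.types false in
/-- The range of an open immersion of descent data is stable. -/
theorem isStable_opensRange {X S : Scheme.{u}} {p : X ⟶ S} {D D' : Desc.SchDD p} (j : D' ⟶ D)
    [IsOpenImmersion j.hom.left] : IsStable D j.hom.left.opensRange := by
  intro T x₀ x₁ h v t ht
  -- restrict to the open where `v` lands in the range
  let O : T.Opens := v.1 ⁻¹ᵁ j.hom.left.opensRange
  have hO : t ∈ O := ht
  let vO : Desc.Lifts D.obj (O.ι ≫ x₀) := ⟨O.ι ≫ v.1, by rw [Category.assoc, v.2]⟩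
  have hr : Set.range vO.1 ⊆ Set.range j.hom.left := by
    rintro _ ⟨s, rfl⟩
    have hs : O.ι s ∈ O := (mem_range_ι O _).mp ⟨s, rfl⟩
    exact hs
  let w : O.toScheme ⟶ D'.obj.left := IsOpenImmersion.lift j.hom.left vO.1 hr
  have hw : w ≫ j.hom.left = vO.1 := IsOpenImmersion.lift_fac _ _ _
  let w' : Desc.Lifts D'.obj (O.ι ≫ x₀) := ⟨w, by
    rw [← Over.w j.hom, ← Category.assoc, hw]
    exact vO.2⟩
  have hOp : (O.ι ≫ x₀) ≫ p = (O.ι ≫ x₁) ≫ p := by
    rw [Category.assoc, h, Category.assoc]
  have h1 := j.comm (O.ι ≫ x₀) (O.ι ≫ x₁) hOp w' vO hw.symm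
  have h2 := D.φ_natural O.ι x₀ x₁ h hOp v vO rfl
  rw [h2] at h1
  have h3 := congrArg (fun f : O.toScheme ⟶ D.obj.left => f ⟨t, hO⟩) h1
  simp only [Scheme.Hom.comp_apply] at h3
  change (D.φ x₀ x₁ h v).1 t ∈ Set.range j.hom.left
  exact ⟨_, h3.symm⟩

/-- Let p : X ⟶ S be a surjective, flat, quasi-compact morphism of schemes and D = (V, φ) a descent
datum for schemes relative to p. Suppose every point v of V lies in the image of some morphism of
descent data D' ⟶ D whose underlying morphism of schemes over X is an open immersion and whose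
source D' is effective (isomorphic to the canonical descent datum of a scheme over S). Then D is
effective. (A φ-stable open W ⊆ V with its restricted descent datum, as in the published statement,
is the same thing as such a morphism D' ⟶ D up to isomorphism.) -/
theorem result {X S : Scheme.{u}} (p : X ⟶ S) [Surjective p] [Flat p] [QuasiCompact p]
    (D : Desc.SchDD p)
    (h : ∀ v : D.obj.left, ∃ (D' : Desc.SchDD p) (j : D' ⟶ D), IsOpenImmersion j.hom.left ∧
      v ∈ Set.range j.hom.left.base ∧ ∃ U' : Over S, Nonempty ((Desc.toDD p).obj U' ≅ D')) :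
    ∃ U : Over S, Nonempty ((Desc.toDD p).obj U ≅ D) := by
  have hfull : (Desc.toDD p).Full := ⟨fun {U₁ U₂} => Groth.Agent.Desc.ToDD.map_surjective_of_effectiveEpi p U₁ U₂⟩
  have hfaith : (Desc.toDD p).Faithful := ⟨fun {U₁ U₂} => @(Groth.Agent.Desc.ToDD.map_injective_of_epi p U₁ U₂)⟩
  choose D' j hj hv U' e using h
  let W : D.obj.left → D.obj.left.Opens := fun v => (j v).hom.left.opensRange
  have hW : ∀ v, IsStable D (W v) := fun v => isStable_opensRange (j v)
  refine effective_of_cover D (fun T => ?_) W hW (fun v => ⟨v, hv v⟩) fun v => ⟨U' v, ?_⟩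
  · exact Flat.isQuotientMap_of_surjective (pullback.snd p T.hom)
  · obtain ⟨F', hF'⟩ := exists_factor_restrict (W v) (hW v) (j v) (fun e => ⟨e, rfl⟩)
    have hc : F'.hom.left ≫ (W v).ι = (j v).hom.left :=
      congrArg (fun f : D' v ⟶ D => f.hom.left) hF'
    have h2 : IsIso F'.hom.left := isIso_of_fac (W v) F'.hom.left (j v).hom.left hc rfl
    obtain ⟨e1⟩ := Groth.Agent.Desc.HullDD.nonempty_iso_of_isIso F' h2
    exact ⟨(e v).some ≪≫ e1⟩

end Groth.Agent.S9866
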