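import Groth.Statements.S9673
import Groth.Agent.Mor.K384.NormNormal

set_option autoImplicit false
universe u
open CategoryTheory CategoryTheory.Limits AlgebraicGeometry
open Mor

namespace Groth.Agent.S9673

open Groth.Agent.Ega1.GenPts

/-- Let f : Y ⟶ X be quasi-compact and quasi-separated, with Y normal and the irreducible components of
Y locally finite (equivalently, each quasi-compact open subset of Y meets only finitely many of
them). Let X' be the normalization of X in Y and f' : Y ⟶ X' the canonical morphism. Then X' is
normal with locally finitely many irreducible components (hence a disjoint union of normal integral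
schemes), f' maps generic points of irreducible components of Y to generic points of irreducible
components of X', and over each generic point of a component of X' there lies exactly one generic
point of a component of Y. (Dominance of f' holds for every quasi-compact quasi-separated f and is
not restated.) -/
theorem result {X Y : Scheme.{u}} (f : Y ⟶ X)
    [QuasiCompact f] [QuasiSeparated f] (hY : Pi1.IsNormalScheme Y)
    (hfin : LocallyFinite (fun Z : ↥(irreducibleComponents ↥Y) => (Z : Set ↥Y))) :
    Pi1.IsNormalScheme f.normalization ∧
    LocallyFinite (fun Z : ↥(irreducibleComponents ↥f.normalization) => (Z : Set ↥f.normalization)) ∧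
    (∀ y : Y, closure {y} ∈ irreducibleComponents ↥Y →
      closure {f.toNormalization.base y} ∈ irreducibleComponents ↥f.normalization) ∧
    (∀ x' : ↥f.normalization, closure {x'} ∈ irreducibleComponents ↥f.normalization →
      ∃! y : Y, closure {y} ∈ irreducibleComponents ↥Y ∧ f.toNormalization.base y = x') := by
  have hdom : ∀ y : Y, IsDomain (Y.presheaf.stalk y) := fun y => (hY y).1
  have h2255 := (Groth.Agent.S2255.result f.toNormalization).mp inferInstance
  have hgen : ∀ x' : f.normalization, ∃ y : Y, closure {y} ∈ irreducibleComponents ↥Y ∧
      f.toNormalization y ⤳ x' ∧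
      closure {f.toNormalization y} = irreducibleComponent x' := by
    intro x'
    obtain ⟨z, hz⟩ : ∃ z : f.normalization, IsGenericPoint z (irreducibleComponent x') :=
      QuasiSober.sober isIrreducible_irreducibleComponent isClosed_irreducibleComponent
    have hzx : z ⤳ x' := hz.specializes mem_irreducibleComponent
    have hz' : closure {z} ∈ irreducibleComponents f.normalization := by
      rw [hz.def]; exact irreducibleComponent_mem_irreducibleComponents x'
    obtain ⟨y, hy, hyz⟩ := h2255 z hz'
    refine ⟨y, hy, ?_, ?_⟩
    · rw [hyz]; exact hzx
    · rw [hyz]; exact hz.def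
  have hcomp : ∀ y : Y, closure {y} ∈ irreducibleComponents ↥Y →
      closure {f.toNormalization y} ∈ irreducibleComponents ↥f.normalization := by
    intro y hy
    rw [closure_mem_irreducibleComponents_iff']
    intro z hz
    obtain ⟨y'', hy'', hs, -⟩ := hgen z
    have e := K384.NormNormal.eq_of_specializes f hdom hfin hy hy'' (hs.trans hz)
    rw [← e] at hs
    exact (hz.antisymm hs).eq
  refine ⟨K384.NormNormal.isNormalScheme_normalization f hY hfin, ?_, hcomp, ?_⟩
  · intro x'
    obtain ⟨_, ⟨U, hU, rfl⟩, hxU, -⟩ := X.isBasis_affineOpens.exists_subset_of_mem_open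
      (Set.mem_univ (f.fromNormalization x')) isOpen_univ
    replace hU : IsAffineOpen U := hU
    refine ⟨(f.fromNormalization ⁻¹ᵁ U : f.normalization.Opens),
      (f.fromNormalization ⁻¹ᵁ U).isOpen.mem_nhds hxU, ?_⟩
    have hG := K384.NormFinite.finite_generic _ (f.isCompact_preimage hU.isCompact) hfin
    refine Set.Finite.of_finite_image (f := Subtype.val) ?_ Subtype.val_injective.injOn
    refine (hG.image (fun y => closure {f.toNormalization y})).subset ?_
    rintro _ ⟨Z, ⟨w, hwZ, hwU⟩, rfl⟩
    obtain ⟨z, hz⟩ : ∃ z : f.normalization, IsGenericPoint z (Z : Set f.normalization) :=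
      QuasiSober.sober Z.2.1 (isClosed_of_mem_irreducibleComponents _ Z.2)
    have hzw : z ⤳ w := hz.specializes hwZ
    have hz' : closure {z} ∈ irreducibleComponents f.normalization := by
      rw [hz.def]; exact Z.2
    obtain ⟨y, hy, hyz⟩ := h2255 z hz'
    refine ⟨y, ⟨?_, hy⟩, ?_⟩
    · have h4 : f.fromNormalization (f.toNormalization y) = f y :=
        congr($(f.toNormalization_fromNormalization) y)
      change f y ∈ U
      rw [← h4, hyz]
      exact (hzw.map f.fromNormalization.continuous).mem_open U.isOpen hwU
    · change closure {f.toNormalization y} = _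
      rw [hyz]; exact hz.def
  · intro x' hx'
    obtain ⟨y, hy, hyx⟩ := h2255 x' hx'
    refine ⟨y, ⟨hy, hyx⟩, ?_⟩
    rintro y' ⟨hy', hyx'⟩
    refine (K384.NormNormal.eq_of_specializes f hdom hfin hy hy' ?_).symm
    have e : f.toNormalization y' = f.toNormalization y := hyx'.trans hyx.symm
    rw [e]

end Groth.Agent.S9673
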