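import Groth.Statements.S18070
import Groth.Agent.AlgGrp.K399.Basic
import Groth.Agent.Sga3.H962.Fpqc

set_option autoImplicit false
universe u
open CategoryTheory MonoidalCategory CartesianMonoidalCategory MonObj GrpObj AlgebraicGeometry CategoryTheory.Limits
open AlgGrp

namespace Groth.Agent.S18070

/-- A pointed scheme all of whose morphisms to affine schemes are constant is anti-affine. -/
theorem isIso_of_const {k : Type u} [Field k] {X : Over (Spec (CommRingCat.of k))}
    (e : 𝟙_ (Over (Spec (CommRingCat.of k))) ⟶ X)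
    (h : ∀ (T : Over (Spec (CommRingCat.of k))) [IsAffine T.left] (f : X ⟶ T), f = toUnit X ≫ e ≫ f) :
    IsIso X.hom.appTop := by
  let T : Over (Spec (CommRingCat.of k)) :=
    Over.mk (Spec.map X.hom.appTop ≫ inv (Spec (CommRingCat.of k)).toSpecΓ)
  have hT : IsAffine T.left := inferInstanceAs (IsAffine (Spec _))
  let f : X ⟶ T := Over.homMk X.left.toSpecΓ (by
    change X.left.toSpecΓ ≫ Spec.map X.hom.appTop ≫ inv (Spec (CommRingCat.of k)).toSpecΓ = X.hom
    rw [← Category.assoc, IsIso.comp_inv_eq]
    exact (Scheme.toSpecΓ_naturality X.hom).symm)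
  have hf : IsIso f.left.appTop := by
    change IsIso X.left.toSpecΓ.appTop
    rw [Scheme.toSpecΓ_appTop]
    infer_instance
  have h1 : e.left ≫ X.hom = 𝟙 _ := Over.w e
  have h2 : X.hom.appTop ≫ e.left.appTop = 𝟙 _ := by
    rw [← Scheme.Hom.comp_appTop, h1]; simp
  have h3 := congr(($(h T f)).left.appTop)
  rw [Over.comp_left, Over.comp_left, Scheme.Hom.comp_appTop, Scheme.Hom.comp_appTop,
    Category.assoc] at h3
  have h4 : (toUnit X).left = X.hom := by simp
  rw [h4] at h3
  have h5 : e.left.appTop ≫ X.hom.appTop = 𝟙 _ := by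
    rw [← cancel_epi f.left.appTop]
    erw [← h3]
    simp
  exact ⟨e.left.appTop, h2, h5⟩

/-- Let k be a field and 1 → G₁ → G → G₂ → 1 an exact sequence of k-group schemes of finite type with
G₁, G₂ connected (i : G₁ → G a homomorphism and closed immersion which is the kernel of the flat
surjective homomorphism q : G → G₂). Anti-affineness passes from G to the quotient G₂; in the other
direction, G is anti-affine whenever G₁ and G₂ both are. -/
theorem result (k : Type u) [Field k]
    (G₁ G G₂ : Over (Spec (CommRingCat.of k))) [GrpObj G₁] [LocallyOfFiniteType G₁.hom] [QuasiCompact G₁.hom] [ConnectedSpace ↥G₁.left]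
    [GrpObj G] [LocallyOfFiniteType G.hom] [QuasiCompact G.hom]
    [GrpObj G₂] [LocallyOfFiniteType G₂.hom] [QuasiCompact G₂.hom] [ConnectedSpace ↥G₂.left]
    (i : G₁ ⟶ G) [IsMonHom i] [IsClosedImmersion i.left] (q : G ⟶ G₂) [IsMonHom q] [Surjective q.left] [Flat q.left]
    (hex : AlgGrp.IsKernel i q) :
    (Function.Bijective ((Scheme.ΓSpecIso (CommRingCat.of k)).inv ≫ G.hom.appTop).hom → Function.Bijective ((Scheme.ΓSpecIso (CommRingCat.of k)).inv ≫ G₂.hom.appTop).hom) ∧
    (Function.Bijective ((Scheme.ΓSpecIso (CommRingCat.of k)).inv ≫ G₁.hom.appTop).hom → Function.Bijective ((Scheme.ΓSpecIso (CommRingCat.of k)).inv ≫ G₂.hom.appTop).hom → Function.Bijective ((Scheme.ΓSpecIso (CommRingCat.of k)).inv ≫ G.hom.appTop).hom) := by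
  have hsep2 : IsSeparated G₂.hom := Books.AntiAffine.isSeparated_hom G₂
  have hqc : QuasiCompact q.left := by
    have : QuasiCompact (q.left ≫ G₂.hom) := by rw [Over.w]; infer_instance
    exact QuasiCompact.of_comp q.left G₂.hom
  have hepi : Epi q := Sga3.H962.Fpqc.epi_of_flat_surjective q
  constructor
  · intro h
    have := K399.Const.isIso_of_bijective h
    have h1 : IsIso G₂.hom.appTop := by
      refine isIso_of_const η[G₂] (fun T _ f => ?_)
      rw [← cancel_epi q]
      have h2 := K399.Const.eq_const η[G] (q ≫ f)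
      rw [← Category.assoc η[G], IsMonHom.one_hom] at h2
      rw [h2, ← Category.assoc q (toUnit G₂)]
      congr 1
      exact toUnit_unique _ _
    exact K399.Const.bijective_of_isIso
  · intro h1 h2
    have i1 := K399.Const.isIso_of_bijective h1
    have i2 := K399.Const.isIso_of_bijective h2
    have hc : CompactSpace G₁.left := (quasiCompact_iff_compactSpace G₁.hom).mp inferInstance
    have hsep : IsSeparated G₁.hom := Books.AntiAffine.isSeparated_hom G₁
    have hs : QuasiSeparatedSpace G₁.left := (quasiSeparated_iff_quasiSeparatedSpace G₁.hom).mp inferInstance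
    have h3 : IsIso G.hom.appTop := by
      refine isIso_of_const η[G] (fun T _ f => ?_)
      have hsnd : IsIso (snd G₁ G).left.appTop := K399.Basic.isIso_snd_app G₁ G ⊤
      obtain ⟨s, hs1, hs2⟩ : ∃ s : G ⟶ G₁ ⊗ G, s ≫ fst _ _ = toUnit G ≫ η[G₁] ∧ s ≫ snd _ _ = 𝟙 G :=
        ⟨lift (toUnit G ≫ η[G₁]) (𝟙 G), lift_fst _ _, lift_snd _ _⟩
      have hs3 : IsIso s.left.appTop := by
        have h4 : (snd G₁ G).left.appTop ≫ s.left.appTop = 𝟙 _ := by
          rw [← Scheme.Hom.comp_appTop, ← Over.comp_left, hs2]; simp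
        have h5 : s.left.appTop = inv (snd G₁ G).left.appTop := by
          rw [← cancel_epi (snd G₁ G).left.appTop, h4]; simp
        rw [h5]; infer_instance
      have hk : s ≫ (snd G₁ G * (fst G₁ G ≫ i)) = s ≫ snd G₁ G := by
        rw [comp_mul, hs2, ← Category.assoc, hs1, Category.assoc, IsMonHom.one_hom]
        have : toUnit G ≫ η[G] = 1 := by rw [Hom.one_def]
        rw [this, _root_.mul_one]
      have key : (snd G₁ G * (fst G₁ G ≫ i)) ≫ f = snd G₁ G ≫ f := by
        ext1
        apply ext_of_isAffine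
        rw [← cancel_mono s.left.appTop, ← Scheme.Hom.comp_appTop, ← Scheme.Hom.comp_appTop,
          ← Over.comp_left, ← Over.comp_left, ← Category.assoc, hk, Category.assoc]
      obtain ⟨f', hf'⟩ := Sga3.H962.Fpqc.exists_desc q f (by
        intro T' x y hxy
        obtain ⟨c, hc⟩ := (Sga3.H962.Fpqc.rel_of_kernel i q hex T' x y).1 hxy
        have h6 := congr(lift c x ≫ $key)
        rw [← Category.assoc, comp_mul, lift_snd, ← Category.assoc, lift_fst, hc,
          ← Category.assoc, lift_snd] at h6
        rw [← h6]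
        congr 1
        group)
      have h7 := K399.Const.eq_const η[G₂] f'
      have h8 : q ≫ toUnit G₂ = toUnit G := toUnit_unique _ _
      have h9 : η[G₂] = η[G] ≫ q := (IsMonHom.one_hom q).symm
      have h10 : q ≫ f' = toUnit G ≫ η[G] ≫ q ≫ f' := by
        conv_lhs => rw [h7, h9]
        rw [← Category.assoc q, h8, Category.assoc]
      rw [← hf']
      exact h10
    exact K399.Const.bijective_of_isIso

end Groth.Agent.S18070
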