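import Groth.Statements.S18068
import Groth.Agent.AlgGrp.K410.IntTop
import Groth.Agent.AlgGrp.K411.HomKit
import Groth.Agent.AlgGrp.K399.Basic
import Groth.Agent.CurvesC.RegNormal
import Groth.Agent.Lefpen.H705.ClosedPoint
import Groth.Agent.S18070

set_option autoImplicit false
universe u
open CategoryTheory MonoidalCategory CartesianMonoidalCategory MonObj GrpObj AlgebraicGeometry CategoryTheory.Limits
open AlgGrp

namespace Groth.Agent.S18068

open Polynomial in
/-- The constants of a connected smooth group are algebraically closed in its ring of functions. -/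
theorem isIso_of_integral {k : Type u} [Field k] (G : Over (Spec (CommRingCat.of k))) [GrpObj G]
    [IsIntegral G.left]
    (h : ∀ b : Γ(G.left, ⊤), (((Scheme.ΓSpecIso (CommRingCat.of k)).inv ≫ G.hom.appTop).hom).IsIntegralElem b) :
    IsIso G.hom.appTop := by
  obtain ⟨ρ, hρ⟩ : ∃ ρ : k →+* Γ(G.left, ⊤), ρ = ((Scheme.ΓSpecIso (CommRingCat.of k)).inv ≫ G.hom.appTop).hom :=
    ⟨_, rfl⟩
  obtain ⟨ε, hε⟩ : ∃ ε : Γ(G.left, ⊤) →+* k,
      ε = (η[G].left.appTop ≫ (Scheme.ΓSpecIso (CommRingCat.of k)).hom).hom := ⟨_, rfl⟩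
  have hερ : ε.comp ρ = RingHom.id k := by
    have h2 : η[G].left ≫ G.hom = 𝟙 _ := Over.w η[G]
    have h3 : G.hom.appTop ≫ η[G].left.appTop = 𝟙 _ := by
      rw [← Scheme.Hom.comp_appTop, h2]; simp
    rw [hε, hρ, ← CommRingCat.hom_comp, Category.assoc, ← Category.assoc G.hom.appTop]
    erw [h3]
    simp
  rw [← hρ] at h
  have hsurj : Function.Surjective ρ := by
    intro b
    refine ⟨ε b, ?_⟩
    by_contra hne
    let _ : Algebra k Γ(G.left, ⊤) := ρ.toAlgebra
    have h1 : ρ (ε b) - b ≠ 0 := sub_ne_zero.2 hne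
    have h2 : _root_.IsIntegral k (ρ (ε b) - b) := by
      have h3 : _root_.IsIntegral k b := h b
      have h4 : _root_.IsIntegral k (ρ (ε b)) := isIntegral_algebraMap (R := k) (A := Γ(G.left, ⊤)) (x := ε b)
      exact h4.sub h3
    have h3 : IsUnit (ρ (ε b) - b) := h2.isUnit h1
    have h4 : ε (ρ (ε b) - b) = 0 := by
      rw [map_sub]
      have := congr($hερ (ε b))
      simp only [RingHom.comp_apply, RingHom.id_apply] at this
      rw [this, sub_self]
    have h5 := h3.map ε
    rw [h4] at h5
    exact not_isUnit_zero h5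
  have hinj : Function.Injective ρ := ρ.injective
  have : Function.Bijective ((Scheme.ΓSpecIso (CommRingCat.of k)).inv ≫ G.hom.appTop).hom := by
    rw [← hρ]; exact ⟨hinj, hsurj⟩
  exact K399.Const.isIso_of_bijective this

/-- Let k be a field and f : G → H an isogeny (a surjective homomorphism with finite kernel, i.e.
surjective and finite) of connected commutative algebraic groups over k. Then G is anti-affine (O(G)
= k) if and only if H is anti-affine. -/
theorem result (k : Type u) [Field k]
    (G H : Over (Spec (CommRingCat.of k))) [GrpObj G] [Smooth G.hom] [QuasiCompact G.hom] [ConnectedSpace ↥G.left] [IsCommMonObj G]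
    [GrpObj H] [Smooth H.hom] [QuasiCompact H.hom] [ConnectedSpace ↥H.left] [IsCommMonObj H]
    (f : G ⟶ H) [IsMonHom f] [Surjective f.left] [IsFinite f.left] :
    Function.Bijective ((Scheme.ΓSpecIso (CommRingCat.of k)).inv ≫ G.hom.appTop).hom ↔
      Function.Bijective ((Scheme.ΓSpecIso (CommRingCat.of k)).inv ≫ H.hom.appTop).hom := by
  have hf : Flat f.left := by
    have := K399.Basic.isIntegral H
    exact Groth.Agent.AlgGrp.K411.HomKit.flat_of_surjective f
  constructor
  · intro h
    have := K399.Const.isIso_of_bijective h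
    have h1 : IsIso H.hom.appTop := by
      refine S18070.isIso_of_const η[H] (fun T _ g => ?_)
      have hepi : Epi f := Sga3.H962.Fpqc.epi_of_flat_surjective f
      rw [← cancel_epi f]
      have h2 := K399.Const.eq_const η[G] (f ≫ g)
      rw [← Category.assoc η[G], IsMonHom.one_hom] at h2
      rw [h2, ← Category.assoc f (toUnit H)]
      congr 1
      exact toUnit_unique _ _
    exact K399.Const.bijective_of_isIso
  · intro h
    have hG := K399.Basic.isIntegral G
    have hH := K399.Basic.isIntegral H
    have hnorm : ∀ x : H.left, IsIntegrallyClosed (H.left.presheaf.stalk x) := fun x => by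
      have := Lefpen.H705.ClosedPoint.isRegularLocalRing_stalk H.hom x
      exact CurvesC.RegNormal.isIntegrallyClosed _
    have h1 : IsIso G.hom.appTop := by
      refine isIso_of_integral G (fun b => ?_)
      obtain ⟨q, hq, hq0⟩ := K410.IntTop.isIntegralElem_appTop f.left hnorm b
      obtain ⟨ρ, hρ⟩ : ∃ ρ : k →+* Γ(H.left, ⊤), ρ = ((Scheme.ΓSpecIso (CommRingCat.of k)).inv ≫ H.hom.appTop).hom :=
        ⟨_, rfl⟩
      rw [← hρ] at h
      obtain ⟨q', hq', -, hqm⟩ := Polynomial.lifts_and_natDegree_eq_and_monic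
        (Polynomial.mem_lifts_of_surjective h.2 q) hq
      refine ⟨q', hqm, ?_⟩
      have h2 : ((Scheme.ΓSpecIso (CommRingCat.of k)).inv ≫ G.hom.appTop).hom = f.left.appTop.hom.comp ρ := by
        rw [hρ, ← CommRingCat.hom_comp, Category.assoc, ← Scheme.Hom.comp_appTop, Over.w]
      rw [h2, ← Polynomial.eval₂_map, hq']
      exact hq0
    exact K399.Const.bijective_of_isIso

end Groth.Agent.S18068
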