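import Groth.Statements.S18828
import Groth.Agent.AlgGrp.K413.EquivFlat
import Groth.Agent.AlgGrp.K413.FlatOfCompletion

set_option autoImplicit false
universe u
open CategoryTheory MonoidalCategory CartesianMonoidalCategory MonObj AlgebraicGeometry
open AlgGrp

namespace Groth.Agent.S18828

/-- The action of `H` on `G` by left multiplication through a homomorphism. -/
noncomputable def actHom {S : Scheme.{u}} {H G : Over S} [GrpObj H] [GrpObj G] (f : H ⟶ G) [IsMonHom f] :
    AlgGrp.Action H G where
  act := (f ▷ G) ≫ μ[G]
  one_act := by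
    rw [← Category.assoc, ← comp_whiskerRight, IsMonHom.one_hom, MonObj.one_mul]
  mul_act := by
    rw [← Category.assoc, ← comp_whiskerRight, IsMonHom.mul_hom]
    have h1 : lift (lift (fst (H ⊗ H) G ≫ fst H H) (fst (H ⊗ H) G ≫ snd H H)) (snd (H ⊗ H) G) =
        𝟙 ((H ⊗ H) ⊗ G) := by
      ext1
      · ext1 <;> simp
      · simp
    rw [← Category.id_comp ((((f ⊗ₘ f) ≫ μ) ▷ G) ≫ μ[G]),
      ← Category.id_comp ((α_ H H G).hom ≫ (H ◁ ((f ▷ G) ≫ μ)) ≫ (f ▷ G) ≫ μ), ← h1]
    simp only [lift_whiskerRight_assoc, lift_lift_associator_hom_assoc, lift_whiskerLeft_assoc,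
      lift_whiskerRight, lift_map_assoc, ← Hom.mul_def, Category.assoc]
    rw [_root_.mul_assoc]

/-- Let k be a field and f : H → G a homomorphism of locally algebraic groups over k (group k-schemes
locally of finite type). Write e_H for the unit point of H (the image under the unit section of the
point pt of the base Spec k) and φ : O_{G,f(e_H)} → O_{H,e_H} for the induced local homomorphism of
local rings. Assume (1) φ induces an isomorphism of completed local rings, stated here as: for every
n, φ followed by reduction modulo the (n+1)-st power of the maximal ideal of O_{H,e_H} is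
surjective, and an element of O_{G,f(e_H)} maps into that power exactly when it lies in the (n+1)-st
power of the maximal ideal of O_{G,f(e_H)}; and (2) f is a monomorphism of schemes. Then f is an
open immersion. -/
theorem result (k : Type u) [Field k]
    (H G : Over (Spec (CommRingCat.of k))) [GrpObj H] [GrpObj G]
    [LocallyOfFiniteType H.hom] [LocallyOfFiniteType G.hom] (f : H ⟶ G) [IsMonHom f] [Mono f.left]
    (pt : ↥(𝟙_ (Over (Spec (CommRingCat.of k)))).left)
    (h : ∀ n : ℕ,
      Function.Surjective ((Ideal.Quotient.mk (IsLocalRing.maximalIdeal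
          ↑(H.left.presheaf.stalk (η[H].left.base pt)) ^ (n + 1))).comp
        (f.left.stalkMap (η[H].left.base pt)).hom) ∧
      ∀ a : ↑(G.left.presheaf.stalk (f.left.base (η[H].left.base pt))),
        (f.left.stalkMap (η[H].left.base pt)).hom a ∈
            IsLocalRing.maximalIdeal ↑(H.left.presheaf.stalk (η[H].left.base pt)) ^ (n + 1) ↔
          a ∈ IsLocalRing.maximalIdeal ↑(G.left.presheaf.stalk (f.left.base (η[H].left.base pt))) ^ (n + 1)) :
    IsOpenImmersion f.left := by
  have hH : IsLocallyNoetherian H.left := LocallyOfFiniteType.isLocallyNoetherian H.hom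
  have hG : IsLocallyNoetherian G.left := LocallyOfFiniteType.isLocallyNoetherian G.hom
  refine K413.EquivFlat.isOpenImmersion_of_flat_one (actHom f) ?_ fun s => ?_
  · change (H ◁ f) ≫ (f ▷ G) ≫ μ[G] = μ[H] ≫ f
    rw [IsMonHom.mul_hom, whisker_exchange_assoc, tensorHom_def, Category.assoc]
  · have hs : s = pt := Subsingleton.elim (α := ↥(Spec (CommRingCat.of k))) _ _
    subst hs
    algebraize [(f.left.stalkMap (η[H].left s)).hom]
    have : IsLocalHom (algebraMap (G.left.presheaf.stalk (f.left (η[H].left s)))
        (H.left.presheaf.stalk (η[H].left s))) :=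
      inferInstanceAs (IsLocalHom (f.left.stalkMap (η[H].left s)).hom)
    exact K413.FlatOfCompletion.flat_of_bijective (fun n => (h n).1) (fun n a => ((h n).2 a).mp)

end Groth.Agent.S18828
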