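import Groth.Statements.S5433
import Groth.Agent.SGA3.K203.CommPerf

set_option autoImplicit false
universe u
open TensorProduct
open SGA3

namespace Groth.Agent.S5433

/-- Let k be a perfect field and A a finitely generated commutative and cocommutative Hopf algebra over
k (a commutative affine algebraic group G). Let J be the Hopf ideal of the largest subgroup of
multiplicative type M (A/J is of multiplicative type and J lies in every Hopf ideal whose quotient
is of multiplicative type). Then there is exactly one Hopf ideal I of A (a unipotent subgroup U)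
such that A/I is unipotent in the fixed-vector sense and the map A → (A/J) ⊗ (A/I), a ↦ Σ ā₁ ⊗ ā₂
(the comorphism of the multiplication M × U → G), is bijective. -/
theorem result (k : Type u) [Field k] [PerfectField k] (A : Type u) [CommRing A] [HopfAlgebra k A] [Algebra.FiniteType k A]
    [Coalgebra.IsCocomm k A] (J : Ideal A) [J.IsHopfIdeal k] (hJ : SGA3b.IsMultTypeConst k (A ⧸ J))
    (hJmax : ∀ (I : Ideal A) [I.IsHopfIdeal k], SGA3b.IsMultTypeConst k (A ⧸ I) → J ≤ I) :
    ∃! I : Ideal A, ∃ (_ : I.IsHopfIdeal k), HopfRep.IsUnipotent k (A ⧸ I) ∧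
      Function.Bijective ((Algebra.TensorProduct.map (Ideal.Quotient.mkₐ k J) (Ideal.Quotient.mkₐ k I)).comp
        (Bialgebra.comulAlgHom k A)) := by
  have hB := Sga3.H793.UnipPart.isHopfSubalgebra_unipSub (k := k) (A := A)
  let C := Sga3.H793.UnipPart.unipSub k A
  let _ : HopfAlgebra k C := Sga3C.SubHopf.hopfB hB
  let ψ : C →ₐc[k] A := Sga3C.SubHopf.valB hB
  have hψ : Function.Injective ψ := Subtype.val_injective
  have hC : HopfRep.IsUnipotent k C := Sga3.H793.UnipPart2.isUnipotent_unipSub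
  have hJ1 : J = Sga3.H793.MultPart.multIdeal k A := le_antisymm
    (hJmax _ Sga3.H793.MultPart.isMultTypeConst_quotient) (Sga3.H793.MultPart.multIdeal_le J hJ)
  have hJ2 : J = K203.Pts.kerIdeal ψ := by
    rw [hJ1]
    apply le_antisymm
    · refine Ideal.span_le.2 ?_
      rintro b ⟨hb, hb0⟩
      exact Ideal.mem_map_of_mem (x := (⟨b, hb⟩ : Sga3.H793.UnipPart.unipSub k A)) _ hb0
    · refine Ideal.map_le_iff_le_comap.mpr fun b hb => ?_
      exact Ideal.subset_span ⟨b.2, hb⟩
  have hspan : ∀ x : AlgebraicClosure k ⊗[k] A, x ∈ Submodule.span (AlgebraicClosure k)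
      {y | ∃ (c : AlgebraicClosure k ⊗[k] C) (γ : AlgebraicClosure k ⊗[k] A),
      IsGroupLikeElem (AlgebraicClosure k) γ ∧
        y = Sga3.H809.Transfer.bcHom (AlgebraicClosure k) ψ c * γ} := by
    intro x
    have h1 := Sga3.H793.UnipPart3.mem_span_groupLike_mul (K := AlgebraicClosure k) x
    refine Submodule.span_mono ?_ h1
    rintro _ ⟨γ, b, hγ, ⟨n, hb⟩, rfl⟩
    have h2 := Sga3.H793.UnipPart2.soc_baseChange_le _ n b hb
    have h3 : ∃ c : AlgebraicClosure k ⊗[k] C,
        Sga3.H809.Transfer.bcHom (AlgebraicClosure k) ψ c = b := by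
      clear hb
      induction h2 using Submodule.span_induction with
      | mem y hy =>
        obtain ⟨a, ha, rfl⟩ := hy
        exact ⟨1 ⊗ₜ ⟨a, n, ha⟩, rfl⟩
      | zero => exact ⟨0, map_zero _⟩
      | add y z _ _ hy hz =>
        obtain ⟨c, rfl⟩ := hy
        obtain ⟨d, rfl⟩ := hz
        exact ⟨c + d, map_add _ _ _⟩
      | smul s y _ hy =>
        obtain ⟨c, rfl⟩ := hy
        exact ⟨s • c, map_smul _ _ _⟩
    obtain ⟨c, rfl⟩ := h3
    exact ⟨c, γ, hγ, mul_comm _ _⟩
  obtain ⟨r, hr⟩ := K203.CommPerf.exists_retraction_perfect hC ψ hψ J hJ2 hJ hspan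
  have hrψ : ∀ c, r (ψ c) = c := fun c ↦ DFunLike.congr_fun hr c
  have hrs : Function.Surjective r := fun c ↦ ⟨ψ c, hrψ c⟩
  have hI : (RingHom.ker r).IsHopfIdeal k := Books.AffBridge2.isHopfIdeal_ker r
  let e := Books.AffBridge2.quotKerEquiv r hrs (RingHom.ker r) rfl
  have hU : HopfRep.IsUnipotent k (A ⧸ RingHom.ker r) :=
    K203.Desc.isUnipotent_of_injective (e : (A ⧸ RingHom.ker r) →ₐc[k] C) e.injective hC
  have hθ : Function.Bijective ((Algebra.TensorProduct.map (Ideal.Quotient.mkₐ k J)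
      (Ideal.Quotient.mkₐ k (RingHom.ker r))).comp (Bialgebra.comulAlgHom k A)) := by
    have h1 := K203.Pts.theta_bijective ψ r hr J hJ2
    have h2 : K203.Pts.theta r J = (Algebra.TensorProduct.map (AlgHom.id k (A ⧸ J))
        ((e : (A ⧸ RingHom.ker r) →ₐc[k] C) : (A ⧸ RingHom.ker r) →ₐ[k] C)).comp
        ((Algebra.TensorProduct.map (Ideal.Quotient.mkₐ k J) (Ideal.Quotient.mkₐ k (RingHom.ker r))).comp
        (Bialgebra.comulAlgHom k A)) := by
      rw [K203.Pts.theta_eq, ← AlgHom.comp_assoc, ← Algebra.TensorProduct.map_comp]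
      rfl
    have h3 : Function.Bijective (Algebra.TensorProduct.map (AlgHom.id k (A ⧸ J))
        ((e : (A ⧸ RingHom.ker r) →ₐc[k] C) : (A ⧸ RingHom.ker r) →ₐ[k] C)) :=
      (Algebra.TensorProduct.congr (AlgEquiv.refl (R := k) (A₁ := A ⧸ J))
        (e : (A ⧸ RingHom.ker r) ≃ₐ[k] C)).bijective
    rw [h2, AlgHom.coe_comp] at h1
    exact (Function.Bijective.of_comp_iff' h3 _).mp h1
  refine ⟨RingHom.ker r, ⟨hI, hU, hθ⟩, ?_⟩
  rintro I ⟨hI', hIU, hbij⟩
  have hle : RingHom.ker r ≤ I := fun a ha ↦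
    K203.CommPerf.ker_le hC ψ hspan r hr I hIU a ha
  refine le_antisymm ?_ hle
  intro a ha
  let f : (A ⧸ RingHom.ker r) →ₐ[k] A ⧸ I := Ideal.Quotient.factorₐ k hle
  have h1 : (Algebra.TensorProduct.map (Ideal.Quotient.mkₐ k J) (Ideal.Quotient.mkₐ k I)).comp
      (Bialgebra.comulAlgHom k A) = (Algebra.TensorProduct.map (AlgHom.id k (A ⧸ J)) f).comp
      ((Algebra.TensorProduct.map (Ideal.Quotient.mkₐ k J)
        (Ideal.Quotient.mkₐ k (RingHom.ker r))).comp (Bialgebra.comulAlgHom k A)) := by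
    rw [← AlgHom.comp_assoc, ← Algebra.TensorProduct.map_comp]
    rfl
  rw [h1, AlgHom.coe_comp] at hbij
  have h2 : Function.Bijective (Algebra.TensorProduct.map (AlgHom.id k (A ⧸ J)) f) :=
    (Function.Bijective.of_comp_iff _ hθ).mp hbij
  have h3 : (1 : A ⧸ J) ⊗ₜ[k] (Ideal.Quotient.mk (RingHom.ker r) a) =
      (1 : A ⧸ J) ⊗ₜ[k] (0 : A ⧸ RingHom.ker r) := by
    apply h2.1
    rw [Algebra.TensorProduct.map_tmul, Algebra.TensorProduct.map_tmul, map_zero]
    congr 1
    exact Ideal.Quotient.eq_zero_iff_mem.mpr ha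
  have : Nontrivial (A ⧸ J) := (Bialgebra.counitAlgHom k (A ⧸ J)).toRingHom.domain_nontrivial
  have h4 := Algebra.TensorProduct.includeRight_injective (R := k) (A := A ⧸ J)
    (B := A ⧸ RingHom.ker r) (algebraMap k (A ⧸ J)).injective h3
  exact Ideal.Quotient.eq_zero_iff_mem.mp h4

end Groth.Agent.S5433
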