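import Groth.Statements.S17091
import Groth.Agent.AGF.K501.RadSch

set_option autoImplicit false
universe u
open CategoryTheory MonoidalCategory CartesianMonoidalCategory MonObj GrpObj AlgebraicGeometry
open AGF

namespace Groth.Agent.S17091

/-- Let k be an algebraically closed field, G an affine, smooth, connected k-group scheme, u : U ⟶ G its
unipotent radical (the largest normal closed subgroup scheme of G, smooth and quasi-compact over k,
whose geometric fibre is connected and contains no non-trivial subtorus), B a Borel subgroup of G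
and v : V ⟶ B the unipotent radical of B. Then U is contained in V: u factors through v. -/
theorem result (k : Type u) [Field k] [IsAlgClosed k]
    (G : Over (Spec (CommRingCat.of k))) [GrpObj G] [IsAffine G.left] [Smooth G.hom] [ConnectedSpace ↥G.left]
    (U : Over (Spec (CommRingCat.of k))) [GrpObj U] (u : U ⟶ G) (hU : Par.IsUnipotentRadical u)
    (B : Over (Spec (CommRingCat.of k))) [GrpObj B] (iB : B ⟶ G) (hB : Red.IsBorelOver k iB)
    (V : Over (Spec (CommRingCat.of k))) [GrpObj V] (v : V ⟶ B) (hV : Par.IsUnipotentRadical v) :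
    ∃ f : U ⟶ V, f ≫ v ≫ iB = u := by
  have hB1 := hB.1
  have hB2 := hB.2.1
  have hB3 := hB.2.2.1
  have hB4 := hB.2.2.2.1
  have hU1 := hU.1
  have hU2 := hU.2.1
  have hU3 := hU.2.2.2.1
  obtain ⟨A, _, _, e, he, hft, hdom⟩ := Groth.Agent.Agf.H614.FieldGlue.exists_hopf_domain G
  have hUR := K501.RadSch.isUR_ptsSub e hU
  have hBp := Groth.Agent.Agf.H614.AlgDict.isBorelPt e hB
  have hle := Groth.Agent.Agf.H593.UnipRad.le_of_isBorelPt_of_normal hBp
    ⟨hUR.isCl, hUR.isConn, Groth.Agent.Sga3B.Parab.SolvPts172.isSolvable_of_isUnip hUR.isUnip⟩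
    hUR.normal
  obtain ⟨f₀, hf₀⟩ := Groth.Agent.Agf.H614.AlgDict.exists_factor_of_ptsSub_le e u iB hle
  have hmB : Mono iB := Groth.Agent.Books.AlgPtsGrp.mono_of_isClosedImmersion iB
  have hmon : IsMonHom (f₀ ≫ iB) := by rw [hf₀]; exact hU1
  have hf₀m : IsMonHom f₀ := by
    refine ⟨?_, ?_⟩
    · rw [← cancel_mono iB, Category.assoc, hf₀, IsMonHom.one_hom, IsMonHom.one_hom]
    · rw [← cancel_mono iB, Category.assoc, Category.assoc, hf₀, IsMonHom.mul_hom,
        IsMonHom.mul_hom, ← Category.assoc, MonoidalCategory.tensorHom_comp_tensorHom, hf₀]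
  have hcl : IsClosedImmersion f₀.left := by
    have h1 : IsClosedImmersion (f₀.left ≫ iB.left) := by
      rw [← Over.comp_left, hf₀]; exact hU2
    exact IsClosedImmersion.of_comp f₀.left iB.left
  have hn : AlgGrp.IsNormalHom f₀ := by
    intro T g n
    obtain ⟨n', hn'⟩ := hU.2.2.1 T (g ≫ iB) n
    refine ⟨n', ?_⟩
    rw [← cancel_mono iB, MonObj.mul_comp, MonObj.mul_comp, GrpObj.inv_comp, Category.assoc,
      Category.assoc, hf₀, hn']
  obtain ⟨f, hf⟩ := hV.2.2.2.2.2.2 U f₀ hcl hn hU3 hU.2.2.2.2.1 hU.2.2.2.2.2.1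
  exact ⟨f, by rw [← Category.assoc, hf, hf₀]⟩

end Groth.Agent.S17091
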