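import Groth.Statements.S10769
import Groth.Agent.AlgSp.K646.AcycX
import Groth.Agent.AlgSp.K644.Colim
import Groth.Agent.CohtopB.DCoprod

set_option autoImplicit false
universe u
open CategoryTheory CategoryTheory.Limits AlgebraicGeometry
attribute [local instance] HasDerivedCategory.standard
open AlgSp

namespace Groth.Agent.S10769

/-- Let X be an algebraic space over S and E_i a family of objects of D(O_X) (modules on the small etale
site) with quasi-coherent cohomology sheaves. Granted that the direct sum of the E_i exists in
D(O_X) (it does), the direct sum again has quasi-coherent cohomology sheaves; thus D_QCoh(O_X) has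
direct sums and they agree with those of D(O_X). -/
theorem result {S : Scheme.{u}} (X : AlgSp.Space S) {ι : Type (u + 1)}
    (E : ι → AlgSp.DModEt X.obj) [HasCoproduct E]
    (hE : ∀ i, DCoh.IsQCohDMod (AlgSp.OEtRing X.obj) (E i)) :
    DCoh.IsQCohDMod (AlgSp.OEtRing X.obj) (∐ E) := by
  have := K646.Inst.isGrothendieckAbelian X.obj
  have : AB4OfSize.{u + 1} (AlgSp.ModEt X.obj) := inferInstance
  have hx : HasExactColimitsOfShape (Discrete ι) (AlgSp.ModEt X.obj) := inferInstance
  intro i
  have hp := Groth.Agent.CohtopB.DCoprod.preservesColimitsOfShape_homologyFunctor_derivedCategory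
    (A := AlgSp.ModEt X.obj) (ι := ι) i
  have hc := isColimitOfPreserves (DerivedCategory.homologyFunctor (AlgSp.ModEt X.obj) i)
    (coproductIsCoproduct E)
  refine K644.QCoh.isQuasicoherent_of_isQC (T := AlgSp.EtOver.toScheme X.obj)
    (K644.Colim.isQC_of_isColimit hc fun k => ?_)
  have : (DCoh.HDMod (AlgSp.OEtRing X.obj) (E k.as) i).IsQuasicoherent := hE k.as i
  exact K644.Chart.isQC (DCoh.HDMod (AlgSp.OEtRing X.obj) (E k.as) i)


end Groth.Agent.S10769
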