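import Groth.Statements.S9965
import Groth.Agent.AlgSp.K598.SchImg
import Groth.Agent.AlgSp.K597.LocP
import Groth.Agent.AlgSp.K597.EtLoc

set_option autoImplicit false
universe u
open CategoryTheory CategoryTheory.Limits AlgebraicGeometry
open AlgSp

namespace Groth.Agent.S9965

/-- For a quasi-compact morphism of algebraic spaces, forming the scheme theoretic image commutes with
etale base change, and the image of the morphism is dense in the scheme theoretic image. -/
theorem result {S : Scheme.{u}} {X Y Z : AlgSp.Space S} (f : X ⟶ Y) (i : Z ⟶ Y)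
    (hq : AlgSp.IsQuasiCompactMor f.hom) (hZ : AlgSp.IsSchImage f.hom i.hom) :
    (∀ (V XV ZV : AlgSp.Space S) (b : V ⟶ Y), AlgSp.IsEtaleMor b.hom →
      ∀ (f₁ : XV ⟶ X) (fV : XV ⟶ V) (i₁ : ZV ⟶ Z) (iV : ZV ⟶ V),
        IsPullback f₁.hom fV.hom f.hom b.hom → IsPullback i₁.hom iV.hom i.hom b.hom →
        AlgSp.IsSchImage fV.hom iV.hom) ∧
    Set.range (AlgSp.Points.map i.hom) ⊆ closure (Set.range (AlgSp.Points.map f.hom)) := by
  have hi : RepWith @IsClosedImmersion i.hom := hZ.1
  constructor
  · intro V XV ZV b hb f₁ fV i₁ iV sqf sqi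
    have hiV : RepWith @IsClosedImmersion iV.hom := K598.RepKit.repWith_of_isPullback sqi hi
    obtain ⟨ι, U, x, h1, h2, h3⟩ := K598.Charts.exists_affine_charts V.property
    refine K598.SchImg.isSchImage_of_K V.property hiV (K598.Charts.ChartFam.of_etale h1 h3) fun j => ?_
    have hfl : RepWith @Flat (x j ≫ b.hom) := K598.Charts.repWith_flat_of_etale (hb _ (h1 j))
    rw [K598.ClFam.ofClosed_of_isPullback hi sqi hiV,
      K598.SchImg.image_eq_K Y.property hq hi hZ _ (h2 j) hfl, K598.SchImg.K_of_isPullback sqf]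
  · rintro _ ⟨z, rfl⟩
    obtain ⟨ι, V, p, h1, h2, h3⟩ := K598.Charts.exists_affine_charts Y.property
    obtain ⟨j, v, hv⟩ := h3 (Points.map i.hom z)
    -- the chart of `X`
    have := h2 j
    obtain ⟨P, fst, snd, sq, U, u, q, hu, hus, hqu, hqc⟩ := K598.SchImg.exists_qc_chart hq (p j)
    -- `v` is in the closure of the image of `U`
    have sqZ := hi.1.isPullback (p j)
    have hcl : IsClosedImmersion (hi.1.snd (p j)).left := hi.2 _ _ _ sqZ
    obtain ⟨w, hw1, hw2⟩ := K609.Points.exists_of_isPullback sqZ z (Points.ofScheme (V j) v) (by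
      rw [← hv, Points.ofPt_eq_map_ofScheme])
    have hv' : v ∈ Set.range (hi.1.snd (p j)).left := by
      obtain ⟨w', rfl⟩ := K609.Points.ofScheme_surjective _ w
      rw [K609.Points.map_yon_map_ofScheme] at hw2
      exact ⟨w', K609.Points.ofScheme_injective _ hw2⟩
    have hcl2 : v ∈ closure (Set.range q.left) := by
      have h4 : (hi.1.snd (p j)).left.ker = q.left.ker := by
        rw [← K598.ClFam.ofClosed_eq hi sqZ, K598.SchImg.image_eq_K Y.property hq hi hZ _ (h2 j)
          (K598.Charts.repWith_flat_of_etale (h1 j)), K598.SchImg.K_eq_ker sq u hu hus q hqu]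
      have h5 : ((hi.1.snd (p j)).left.ker.support : Set (V j).left) = closure (Set.range q.left) := by
        rw [h4]
        exact Scheme.Hom.support_ker _
      rw [← h5, Scheme.Hom.support_ker]
      exact subset_closure hv'
    rw [← hv]
    have h6 : Points.ofPt (p j) v ∈ closure (Points.ofPt (p j) '' Set.range q.left) :=
      image_closure_subset_closure_image (Points.continuous_ofPt (p j)) ⟨v, hcl2, rfl⟩
    refine closure_mono ?_ h6
    rintro _ ⟨_, ⟨t, rfl⟩, rfl⟩
    refine ⟨Points.ofPt (u ≫ fst) t, ?_⟩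
    rw [Points.map_ofPt, Category.assoc, sq.w, ← Category.assoc, hqu, K609.Points.ofPt_yon_map_comp]

end Groth.Agent.S9965
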