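import Groth.Statements.S10261
import Groth.Agent.AlgSp.K613.Mono

set_option autoImplicit false
universe u
open CategoryTheory CategoryTheory.Limits AlgebraicGeometry
open AlgSp

namespace Groth.Agent.S10261

/-- An etale and universally injective morphism of algebraic spaces is an open immersion. -/
theorem result {S : Scheme.{u}} {X Y : AlgSp.Space S}
    (f : X ⟶ Y) (het : AlgSp.IsEtaleMor f.hom) (hinj : AlgSp.IsUnivInjectiveMor f.hom) :
    AlgSp.RepWith @IsOpenImmersion f.hom := by
  refine K613.Mono.repWith_isOpenImmersion_of_mono X.property het fun T g => ?_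
  have sq : IsPullback (pullback.fst f.hom g) (pullback.snd f.hom g) f.hom g := IsPullback.of_hasPullback _ _
  have hP : AlgSp.IsAlgSpace (pullback f.hom g) :=
    K613.Chart.isAlgSpace_of_isPullback Y.property.diag X.property (AlgSp.IsAlgSpace.yon_obj T) sq
  obtain ⟨U, a, ha⟩ := K613.Chart.exists_ch X.property
  have hφ := het a ha.et
  obtain ⟨W, w, k, sqW⟩ := hφ.1 g
  have hw : Etale w.left := hφ.2 _ _ _ sqW
  have hc : (k ≫ a) ≫ f.hom = (AlgSp.yon S).map w ≫ g := by rw [Category.assoc]; exact sqW.w
  have sq2 : IsPullback (sq.lift _ _ hc) k (pullback.fst f.hom g) a :=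
    IsPullback.of_right (by rw [sq.lift_snd]; exact sqW.flip) (sq.lift_fst _ _ hc) sq.flip
  obtain ⟨m, hm⟩ : ∃ m, m = sq.lift _ _ hc := ⟨_, rfl⟩
  rw [← hm] at sq2
  have hms : m ≫ pullback.snd f.hom g = (AlgSp.yon S).map w := by rw [hm, sq.lift_snd]
  have hch : K613.Chart.Ch m := ⟨MorphismProperty.of_isPullback sq2.flip ha.et,
    MorphismProperty.of_isPullback sq2.flip ha.surj⟩
  obtain ⟨R, s, t, sqR⟩ := K613.Chart.exists_refine hP.diag (𝟙 _) m m
  rw [Category.comp_id] at sqR
  have hst : s ≫ w = t ≫ w := by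
    apply (AlgSp.yon S).map_injective
    rw [Functor.map_comp, Functor.map_comp, ← hms, reassoc_of% sqR.w]
  have h1 : IsOpenImmersion (pullback.lift s t hst).left := K613.Unram.isOpenImmersion_of_unramified hch.et sqR hst
  have h2 : Surjective (pullback.lift s t hst).left := by
    refine ⟨fun ξ => ?_⟩
    let Z : Over S := pullback w w
    let κ : Over S := Over.mk (Z.left.fromSpecResidueField ξ ≫ Z.hom)
    let i : κ ⟶ Z := Over.homMk (Z.left.fromSpecResidueField ξ) rfl
    have hu : ((AlgSp.yon S).map (i ≫ pullback.fst w w) ≫ m ≫ pullback.fst f.hom g) ≫ f.hom =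
        ((AlgSp.yon S).map (i ≫ pullback.snd w w) ≫ m ≫ pullback.fst f.hom g) ≫ f.hom := by
      have e1 : (m ≫ pullback.fst f.hom g) ≫ f.hom = (AlgSp.yon S).map w ≫ g := by
        rw [Category.assoc, sq.w, ← Category.assoc, hms]
      rw [Category.assoc, e1, Category.assoc, e1, ← Category.assoc, ← Category.assoc, ← Functor.map_comp,
        ← Functor.map_comp, Category.assoc, Category.assoc, pullback.condition]
    obtain ⟨Ω, hΩ, ω, a', ha'⟩ := K613.Mono.exists_of_univInj hinj (Z.left.fromSpecResidueField ξ ≫ Z.hom) _ _ hu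
    have hR : (AlgSp.yon S).map (a' ≫ i ≫ pullback.fst w w) ≫ m = (AlgSp.yon S).map (a' ≫ i ≫ pullback.snd w w) ≫ m := by
      apply sq.hom_ext
      · rw [Functor.map_comp, Functor.map_comp, Category.assoc, Category.assoc, Category.assoc, Category.assoc]
        exact ha'
      · rw [Category.assoc, Category.assoc, hms, ← Functor.map_comp, ← Functor.map_comp, Category.assoc, Category.assoc,
          Category.assoc, Category.assoc, pullback.condition]
    obtain ⟨ρ, hρ⟩ := (AlgSp.yon S).map_surjective (sqR.lift _ _ hR)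
    have hρs : ρ ≫ s = a' ≫ i ≫ pullback.fst w w := by
      apply (AlgSp.yon S).map_injective
      rw [Functor.map_comp, hρ, sqR.lift_fst]
    have hρt : ρ ≫ t = a' ≫ i ≫ pullback.snd w w := by
      apply (AlgSp.yon S).map_injective
      rw [Functor.map_comp, hρ, sqR.lift_snd]
    have hρj : ρ ≫ pullback.lift s t hst = a' ≫ i := by
      apply pullback.hom_ext
      · rw [Category.assoc, pullback.lift_fst, hρs, Category.assoc]
      · rw [Category.assoc, pullback.lift_snd, hρt, Category.assoc]
    refine ⟨ρ.left (IsLocalRing.closedPoint Ω), ?_⟩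
    have h3 : ρ.left ≫ (pullback.lift s t hst).left = a'.left ≫ i.left := congrArg (·.left) hρj
    rw [← Scheme.Hom.comp_apply, h3, Scheme.Hom.comp_apply]
    exact Scheme.fromSpecResidueField_apply _ _
  have h3 : IsIso (pullback.lift s t hst).left := (isIso_iff_isOpenImmersion_and_surjective _).2 ⟨h1, h2⟩
  refine K613.Mono.mono_of_repWith_diagonal ?_
  exact K613.Unram.repWith_diagonal_of_chart hch.fSurj (K613.Diag.representable_diagonal hP.diag _) hms sqR hst h3

end Groth.Agent.S10261
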