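import Groth.Statements.S10587
import Groth.Agent.AlgSp.K631.ThickMor
-- import your own Groth.Agent.* helpers here

set_option autoImplicit false
universe u
open CategoryTheory CategoryTheory.Limits AlgebraicGeometry
open AlgSp

namespace Groth.Agent.S10587

/-- Consider a morphism (f, f') from the thickening X ⊂ X' to the thickening Y ⊂ Y' of algebraic spaces
over S, meaning: i : X ⟶ X' and j : Y ⟶ Y' are thickenings (representable, every base change to a
scheme a surjective closed immersion) and i ≫ f' = f ≫ j. Then f is surjective, resp. quasi-compact,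
universally closed, universally injective, universally open, if and only if f' is. -/
theorem result {S : Scheme.{u}} {X X' Y Y' : AlgSp.Space S} (i : X ⟶ X') (j : Y ⟶ Y')
    (f : X ⟶ Y) (f' : X' ⟶ Y')
    (hi : AlgSp.IsThickMor i.hom)
    (hj : AlgSp.IsThickMor j.hom) (w : i ≫ f' = f ≫ j) :
    (AlgSp.IsSurjectiveMor f.hom ↔ AlgSp.IsSurjectiveMor f'.hom) ∧
    (AlgSp.IsQuasiCompactMor f.hom ↔ AlgSp.IsQuasiCompactMor f'.hom) ∧
    (AlgSp.IsUnivClosedMor f.hom ↔ AlgSp.IsUnivClosedMor f'.hom) ∧
    (AlgSp.IsUnivInjectiveMor f.hom ↔ AlgSp.IsUnivInjectiveMor f'.hom) ∧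
    (AlgSp.IsUnivOpenMor f.hom ↔ AlgSp.IsUnivOpenMor f'.hom) := by
  have w' : i.hom ≫ f'.hom = f.hom ≫ j.hom := congrArg (fun x => x.hom) w
  refine ⟨K631.ThickMor.surjective_iff hi hj w', K631.ThickMor.isQuasiCompactMor_iff X'.property Y'.property hi hj w',
    K631.ThickMor.univSp_iff (fun _ _ _ _ l k p p' hl hk e => K631.ThickMor.isClosedMap_iff hl hk e) hi hj w',
    K631.ThickMor.univSp_iff (fun _ _ _ _ l k p p' hl hk e => K631.ThickMor.injective_iff hl hk e) hi hj w',
    K631.ThickMor.univSp_iff (fun _ _ _ _ l k p p' hl hk e => K631.ThickMor.isOpenMap_iff hl hk e) hi hj w'⟩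

end Groth.Agent.S10587
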