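import Groth.Statements.S10313
import Groth.Agent.AlgSp.K616.NearDim
import Groth.Agent.AlgSp.K597.EtLoc
import Groth.Agent.AlgSp.K597.LocP
import Groth.Agent.AlgSp.K610.Sub

set_option autoImplicit false
universe u
open CategoryTheory CategoryTheory.Limits AlgebraicGeometry
open AlgSp

namespace Groth.Agent.S10313

/-- For f locally of finite type there is an open subspace of X on which f is locally quasi-finite,
outside of which the relative dimension is at least 1, and whose formation commutes with base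
change. -/
theorem result {S : Scheme.{u}} {X Y : AlgSp.Space S} (f : X ⟶ Y)
    (hf : AlgSp.LocP @LocallyOfFiniteType f.hom) :
    ∃ (X' : AlgSp.Space S) (j : X' ⟶ X), AlgSp.RepWith @IsOpenImmersion j.hom ∧
      AlgSp.LocP (@LocallyQuasiFinite ⊓ @LocallyOfFiniteType) (j ≫ f).hom ∧
      (∀ x : AlgSp.Points X.obj, x ∉ Set.range (AlgSp.Points.map j.hom) →
        AlgSp.HasAtMor (fun _ _ h u => 1 ≤ FlatMor.fibreDimAt h u) f.hom x) ∧
      ∀ (Y'' X'' : AlgSp.Space S) (g : Y'' ⟶ Y) (b : X'' ⟶ X) (f'' : X'' ⟶ Y''),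
        IsPullback b.hom f''.hom f.hom g.hom → ∀ x'' : AlgSp.Points X''.obj,
          AlgSp.Points.map b.hom x'' ∈ Set.range (AlgSp.Points.map j.hom) ↔ AlgSp.HasAtMor (fun U _ h u => ∃ W : U.Opens, u ∈ W ∧ LocallyQuasiFinite (W.ι ≫ h) ∧ LocallyOfFiniteType (W.ι ≫ h)) f''.hom x'' := by
  let W : Set (Points X.obj) :=
    {x | HasAtMor (K616.Near.Near (@LocallyQuasiFinite ⊓ @LocallyOfFiniteType)) f.hom x}
  obtain ⟨X', j, hj, hW⟩ := K610.Sub.exists_open_subspace X W (K616.Near.isOpen_near _ f.hom)
  have hje : RepWith @Etale j.hom := MorphismProperty.relative_monotone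
    (fun _ _ g hg => by
      have : IsOpenImmersion g.left := hg
      exact (inferInstance : Etale g.left)) _ hj
  have hinv : K616.Inv.EtInvOn ⊤ (K616.Near.Near (@LocallyQuasiFinite.{u} ⊓ @LocallyOfFiniteType)) :=
    K616.Near.etInvOn_near K597.etLoc_lqf
  have hinv' : K616.Inv.EtInvOn @LocallyOfFiniteType
      (K616.Near.Near (@LocallyQuasiFinite.{u} ⊓ @LocallyOfFiniteType)) :=
    fun _ _ _ _ h h' p q _ _ _ _ w u => hinv h h' p q trivial trivial w u
  refine ⟨X', j, hj, ?_, ?_, ?_⟩
  · change LocP _ (j.hom ≫ f.hom)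
    rw [K616.Near.locP_iff_near K597.etLoc_lqf X'.property Y.property]
    intro x'
    rw [K616.NearDim.hasAtMor_precomp hinv X'.property Y.property hje (K616.Inv.locP_top _)]
    have : Points.map j.hom x' ∈ W := by rw [← hW]; exact ⟨x', rfl⟩
    exact this
  · intro x hx
    rw [hW] at hx
    obtain ⟨U, V, a, b, h, u, ha, hb, w, hu⟩ := K616.Inv.exists_diagram X.property Y.property f.hom x
    have h1 : LocallyOfFiniteType h.left := hf a b h ha hb w
    refine ⟨U, V, a, b, h, u, ha, hb, w, hu, ?_⟩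
    refine K616.NearDim.one_le_fibreDimAt h.left u fun h2 => hx ?_
    exact ⟨U, V, a, b, h, u, ha, hb, w, hu, (K616.NearDim.near_lqf_iff h.left u).2 h2⟩
  · intro Y'' X'' g b f'' sq x''
    rw [hW]
    have hf'' : LocP @LocallyOfFiniteType f''.hom := K597.locP_bc K597.etLoc_lft sq X.property.hasAtlas
      Y.property.hasAtlas Y''.property.hasAtlas hf
    refine K616.Near.hasAtMor_baseChange hinv' ?_ X.property Y.property Y''.property X''.property
      sq hf hf'' x''
    intro U V U' V' h h' p q sq' hh u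
    have : LocallyOfFiniteType h := hh
    have : LocallyOfFiniteType h' := MorphismProperty.of_isPullback sq' hh
    rw [K616.NearDim.near_lqf_iff, K616.NearDim.near_lqf_iff,
      Groth.Agent.Ega4fib.H172.FibDimBC.fibreDimAt_of_isPullback sq' u]

end Groth.Agent.S10313
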