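import Groth.Statements.S10750
import Groth.Agent.AlgSp.K636.QfLocus
import Groth.Agent.AlgSp.K636.FinLqf
import Groth.Agent.S10260
import Groth.Agent.S10195
import Groth.Agent.AlgSp.K597.ProperSub
import Groth.Agent.S10267

set_option autoImplicit false
universe u
open CategoryTheory CategoryTheory.Limits AlgebraicGeometry Opposite
open AlgSp

namespace Groth.Agent.S10750

open AlgSp in
theorem isFiniteMor_of_lqf {S : Scheme.{u}} {X Y : AlgSp.Space S} (f : X ⟶ Y) (h1 : IsProperMor f.hom)
    (h2 : LocP (@LocallyQuasiFinite ⊓ @LocallyOfFiniteType) f.hom) : IsFiniteMor f.hom := by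
  have hr := Groth.Agent.S10260.result f h2 h1.1
  rw [(Groth.Agent.S10267.result f).2]
  have h3 := (K597.Proper.isProperMor_iff_repWith Y.property hr).1 h1
  have h4 : RepWith (@LocallyQuasiFinite ⊓ @LocallyOfFiniteType) f.hom :=
    K597.repWith_of_locP K597.etLoc_lqf Y.property.hasAtlas hr h2
  refine ⟨hr, fun T V g fst snd sq => ?_⟩
  have : IsProper _ := h3.2 _ _ _ sq
  have : LocallyQuasiFinite _ := (h4.2 _ _ _ sq).1
  exact IsFinite.of_isProper_of_locallyQuasiFinite _

/-- Take a proper morphism f : X ⟶ Y of algebraic spaces over S whose target Y is locally Noetherian,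
and let y be a geometric point of Y such that the fibre X_y (a pullback of f along the corresponding
morphism from the spectrum of the algebraically closed field) has finitely many points. Then there
is an open subspace V of Y containing the image of y such that the base change X ×_Y V ⟶ V is
finite. -/
theorem result {S : Scheme.{u}} {X Y : AlgSp.Space S}
    (f : X ⟶ Y) (hY : AlgSp.IsLocNoethSp Y.obj) (hf : AlgSp.IsProperMor f.hom) (y : AlgSp.FieldPt Y.obj)
    (hy : y.IsGeometric) (Xy : AlgSp.Sp S) (fst : Xy ⟶ X.obj) (snd : Xy ⟶ (AlgSp.yon S).obj y.pt)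
    (hsq : IsPullback fst snd f.hom y.toHom) (hfin : Finite (AlgSp.Points Xy)) :
    ∃ (V : AlgSp.Space S) (j : V ⟶ Y), AlgSp.RepWith @IsOpenImmersion j.hom ∧
      AlgSp.Points.mk y ∈ Set.range (AlgSp.Points.map j.hom) ∧
        ∀ (P : AlgSp.Space S) (fst' : P ⟶ X) (snd' : P ⟶ V), IsPullback fst'.hom snd'.hom f.hom j.hom →
          AlgSp.IsFiniteMor snd'.hom := by
  have hft : AlgSp.LocP @LocallyOfFiniteType f.hom := hf.2.1.1
  obtain ⟨ho, hbc⟩ := K636.QfLocus.qfSet_spec f hft
  have hcm : IsClosedMap (AlgSp.Points.map f.hom) :=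
    hf.2.2 Y.property (𝟙 _) (𝟙 _) f.hom (IsPullback.of_horiz_isIso ⟨by simp⟩)
  have hZ := hcm _ ho.isClosed_compl
  -- the point is not in the image of the bad locus
  have hy' : AlgSp.Points.mk y ∉ AlgSp.Points.map f.hom '' (K636.QfLocus.qfSet f)ᶜ := by
    rintro ⟨x, hx, hxy⟩
    apply hx
    let T : AlgSp.Space S := ⟨(AlgSp.yon S).obj y.pt, AlgSp.IsAlgSpace.yon_obj _⟩
    let t : T ⟶ Y := ObjectProperty.homMk y.toHom
    have hXy : AlgSp.IsAlgSpace Xy := K613.Chart.isAlgSpace_of_isPullback Y.property.diag X.property T.property hsq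
    let X' : AlgSp.Space S := ⟨Xy, hXy⟩
    let b : X' ⟶ X := ObjectProperty.homMk fst
    let f' : X' ⟶ T := ObjectProperty.homMk snd
    have hsq' : IsPullback b.hom f'.hom f.hom t.hom := hsq
    have h1 : AlgSp.Points.map f.hom x =
        AlgSp.Points.map t.hom (AlgSp.Points.ofScheme y.pt (IsLocalRing.closedPoint y.K)) := by
      rw [hxy, ← AlgSp.Points.ofPt_toHom y (IsLocalRing.closedPoint y.K), AlgSp.Points.ofPt_eq_map_ofScheme]
      rfl
    obtain ⟨z, hz, -⟩ := K609.Points.exists_of_isPullback hsq' x _ h1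
    have hT : IsAffine y.pt.left := inferInstanceAs (IsAffine (Spec (.of y.K)))
    have hp' : AlgSp.IsProperMor f'.hom := K597.Proper.isProperMor_of_isPullback X.property Y.property T.property hsq' hf
    have hlqf := K636.FinLqf.locP_lqf_of_finite X'.property (T := y.pt) f'.hom
      (K609.Points.repWith_mono (fun _ h => by have := h; infer_instance) hp'.1) hp'.2.1.1
    have h2 : K636.QfLocus.qfSet f' = Set.univ := (K636.QfLocus.locP_iff _).1 hlqf
    rw [hbc _ _ _ _ _ hsq'] at h2
    have : z ∈ AlgSp.Points.map b.hom ⁻¹' K636.QfLocus.qfSet f := by rw [h2]; trivial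
    rwa [Set.mem_preimage, hz] at this
  obtain ⟨V, j, hj, hr⟩ := Groth.Agent.S10195.result Y _ hZ.isOpen_compl
  refine ⟨V, j, hj, by rw [hr]; exact hy', fun P fst' snd' sq => ?_⟩
  refine isFiniteMor_of_lqf snd' (K597.Proper.isProperMor_of_isPullback X.property Y.property V.property sq hf) ?_
  rw [K636.QfLocus.locP_iff, hbc _ _ _ _ _ sq, Set.eq_univ_iff_forall]
  intro p
  by_contra hp
  have h1 : AlgSp.Points.map j.hom (AlgSp.Points.map snd'.hom p) ∈ Set.range (AlgSp.Points.map j.hom) := ⟨_, rfl⟩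
  rw [hr, ← AlgSp.Points.map_comp, ← sq.w, AlgSp.Points.map_comp] at h1
  exact h1 ⟨_, hp, rfl⟩

end Groth.Agent.S10750
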