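import Groth.Statements.S7508
import Groth.Agent.Grpd.K393.SliceMain
import Groth.Agent.Flat2C.LqfDense

set_option autoImplicit false
universe u
open CategoryTheory CategoryTheory.Limits AlgebraicGeometry
open Grpd

namespace Groth.Agent.S7508

/-- Let (U, R, s, t, c, e, i) be a groupoid scheme over S with s and t Cohen-Macaulay and locally of
finite presentation, assume the stabilizer G -> U is locally quasi-finite (locally of finite type
with discrete fibres), and let u be a finite type point of U. Then there exist an affine scheme U',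
an immersion g : U' -> U locally of finite presentation and a point u' with g(u') = u such that h =
s ∘ pr_1 : U' x_(g,U,t) R -> U and the source and target s', t' : R' -> U' of the restriction R' =
(U' x_(g,U,t) R) x_(h,U,g) U' are flat, locally of finite presentation and locally quasi-finite.
Here a morphism is Cohen-Macaulay when it is Cohen-Macaulay at every point of its source (flat there
with Cohen-Macaulay fibre local ring, Grpd.IsCMAt), and a finite type point u is one for which Spec
κ(u) -> U is locally of finite type. (A groupoid scheme carries U, R, s, t, c, e, i over S with the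
groupoid axioms on T-points; c is defined on the fibre product of s and t and sends a pair (a, b)
with s(a) = t(b) to a composed with b.) -/
theorem result (S : Scheme.{u}) (G : Grpd.GroupoidScheme S) [LocallyOfFinitePresentation G.s] [LocallyOfFinitePresentation G.t] (hs : ∀ r : G.R, Grpd.IsCMAt G.s r) (ht : ∀ r : G.R, Grpd.IsCMAt G.t r) [LocallyOfFiniteType G.stabilizerToU] [LocallyQuasiFinite G.stabilizerToU] (u : G.U) (hu : LocallyOfFiniteType (G.U.fromSpecResidueField u)) : ∃ (U' : Scheme.{u}) (_ : IsAffine U') (g : U' ⟶ G.U) (u' : U'), IsImmersion g ∧ LocallyOfFinitePresentation g ∧ g u' = u ∧ (Flat (pullback.snd g G.t ≫ G.s) ∧ LocallyOfFinitePresentation (pullback.snd g G.t ≫ G.s) ∧ LocallyOfFiniteType (pullback.snd g G.t ≫ G.s) ∧ LocallyQuasiFinite (pullback.snd g G.t ≫ G.s)) ∧ (Flat (pullback.snd (pullback.snd g G.t ≫ G.s) g) ∧ LocallyOfFinitePresentation (pullback.snd (pullback.snd g G.t ≫ G.s) g) ∧ LocallyQuasiFinite (pullback.snd (pullback.snd g G.t ≫ G.s) g)) ∧ (Flat (pullback.fst (pullback.snd g G.t ≫ G.s) g ≫ pullback.fst g G.t) ∧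 LocallyOfFinitePresentation (pullback.fst (pullback.snd g G.t ≫ G.s) g ≫ pullback.fst g G.t) ∧ LocallyQuasiFinite (pullback.fst (pullback.snd g G.t ≫ G.s) g ≫ pullback.fst g G.t)) := by
  obtain ⟨Z, g, z, d, h1, h2, h3, h4, h5, h6, h7, h8, h9⟩ :=
    K393.SliceMain.exists_slice G u (hs _) hu
  have hcm := K393.SliceMain.isCMAt_src G hs ht g h8
  have hsrc : LocallyOfFinitePresentation (pullback.snd g G.t ≫ G.s) := inferInstance
  have hd : (d : WithBot ℕ∞) ≤ 0 := by
    rw [← h6]
    have hdisc : DiscreteTopology ↥(G.stabilizerToU.fiber u) := inferInstance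
    exact topologicalKrullDim_zero_of_discreteTopology _
  have hflat : Flat (pullback.snd g G.t ≫ G.s) := K393.SliceMain.flat_of_isCMAt _ hcm
  have hlqf : LocallyQuasiFinite (pullback.snd g G.t ≫ G.s) :=
    Groth.Agent.Flat2C.LqfDense.locallyQuasiFinite_of_fibreDimAt _
      (fun x => (K393.SliceMain.fibreDimAt_src_le G g d h9 x).trans hd)
  have h11 : Flat (pullback.snd (pullback.snd g G.t ≫ G.s) g) := inferInstance
  have h12 : LocallyOfFinitePresentation (pullback.snd (pullback.snd g G.t ≫ G.s) g) :=
    inferInstance
  have h13 : LocallyQuasiFinite (pullback.snd (pullback.snd g G.t ≫ G.s) g) := inferInstance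
  exact ⟨Z, h1, g, z, h2, h3, h4, ⟨hflat, hsrc, inferInstance, hlqf⟩, ⟨h11, h12, h13⟩,
    (Groth.Agent.Grpsch.Points.s_iff_t (Groth.Agent.Grpsch.Restrict.restrict G g) @Flat).mp h11,
    (Groth.Agent.Grpsch.Points.s_iff_t (Groth.Agent.Grpsch.Restrict.restrict G g)
      @LocallyOfFinitePresentation).mp h12,
    (Groth.Agent.Grpsch.Points.s_iff_t (Groth.Agent.Grpsch.Restrict.restrict G g)
      @LocallyQuasiFinite).mp h13⟩

end Groth.Agent.S7508
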