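import Groth.Statements.S9339
import Groth.Agent.FtPts.K585.Basic

set_option autoImplicit false
universe u
open FtPts

namespace Groth.Agent.S9339

open AlgebraicGeometry CategoryTheory in
/-- A morphism locally of finite type maps finite type points (points s whose canonical morphism Spec
κ(s) → S is locally of finite type) to finite type points. -/
theorem result {T S : Scheme.{u}} (f : T ⟶ S) [LocallyOfFiniteType f] :
    f.base '' {t : ↑T | LocallyOfFiniteType (T.fromSpecResidueField t)} ⊆
      {s : ↑S | LocallyOfFiniteType (S.fromSpecResidueField s)} := by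
  rintro _ ⟨t, ht, rfl⟩
  have ht' : LocallyOfFiniteType (T.fromSpecResidueField t) := ht
  have h0 : LocallyOfFiniteType (T.fromSpecResidueField t ≫ f) := inferInstance
  obtain ⟨U, hU, hs, h⟩ := K585.FtPtsBasic.exists_isClosed_of_locallyOfFiniteType S
    (T.residueField t) (Field.toIsField _) (T.fromSpecResidueField t ≫ f)
    (IsLocalRing.closedPoint _)
  have h1 := K585.FtPtsBasic.locallyOfFiniteType_of_isClosed S _ U hs h
  have h2 : (T.fromSpecResidueField t ≫ f) (IsLocalRing.closedPoint _) = f t := by
    rw [Scheme.Hom.comp_apply, Scheme.fromSpecResidueField_apply]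
  rw [h2] at h1
  exact h1

end Groth.Agent.S9339
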