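import Groth.Statements.S10265
import Groth.Agent.AlgSp.K613.Diag
import Groth.Agent.Desc.LQF

set_option autoImplicit false
universe u
open CategoryTheory CategoryTheory.Limits AlgebraicGeometry
open AlgSp

namespace Groth.Agent.S10265

/-- Whenever a morphism of algebraic spaces is etale, it is, etale locally on both source and target,
smooth, flat, unramified, locally quasi-finite, locally of finite type and locally of finite
presentation. -/
theorem result {S : Scheme.{u}} {X Y : AlgSp.Space S} (f : X ⟶ Y) (hf : AlgSp.IsEtaleMor f.hom) :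
    AlgSp.LocP (@LocallyQuasiFinite ⊓ @LocallyOfFiniteType) f.hom ∧ AlgSp.LocP @Smooth f.hom ∧
    AlgSp.LocP @Flat f.hom ∧ AlgSp.LocP @LocallyOfFinitePresentation f.hom ∧
    AlgSp.LocP @LocallyOfFiniteType f.hom ∧ AlgSp.LocP (@LocallyOfFiniteType ⊓ @FormallyUnramified) f.hom := by
  have key : ∀ ⦃U V : Over S⦄ (a : (AlgSp.yon S).obj U ⟶ X.obj) (b : (AlgSp.yon S).obj V ⟶ Y.obj) (h : U ⟶ V),
      AlgSp.RepWith @Etale a → AlgSp.RepWith @Etale b → a ≫ f.hom = (AlgSp.yon S).map h ≫ b → Etale h.left :=
    fun U V a b h ha hb w => K613.Diag.etale_of_comp h hb (hf a ha) w.symm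
  refine ⟨?_, ?_, ?_, ?_, ?_, ?_⟩
  · intro U V a b h ha hb w
    have := key a b h ha hb w
    exact ⟨Groth.Agent.Desc.LQF.of_etale h.left, inferInstance⟩
  · intro U V a b h ha hb w
    have := key a b h ha hb w
    infer_instance
  · intro U V a b h ha hb w
    have := key a b h ha hb w
    infer_instance
  · intro U V a b h ha hb w
    have := key a b h ha hb w
    infer_instance
  · intro U V a b h ha hb w
    have := key a b h ha hb w
    infer_instance
  · intro U V a b h ha hb w
    have := key a b h ha hb w
    exact ⟨inferInstance, inferInstance⟩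

end Groth.Agent.S10265
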