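import Groth.Statements.S9192
import Groth.Agent.Lim.K340.Unram
import Groth.Agent.Lim.K340.Combine

set_option autoImplicit false
universe u
open CategoryTheory AlgebraicGeometry
open Lim

namespace Groth.Agent.S9192

/-- Let S = lim S_i be a cofiltered limit of schemes with affine transition morphisms, S_{i₀} a
quasi-compact quasi-separated stage, f₀ : X₀ → Y₀ a morphism of quasi-compact quasi-separated
schemes over S_{i₀}, and f : X → Y its base change along S → S_{i₀} (base changes expressed by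
pullback squares). If f₀ is locally of finite presentation and f is etale, then for some index i
over i₀ the base change f_i : X_i → Y_i of f₀ along S_i → S_{i₀} is etale. -/
theorem result {I : Type u} [SmallCategory I] [IsCofiltered I]
    (D : I ⥤ Scheme.{u}) (c : Limits.Cone D) (hc : Limits.IsLimit c)
    [∀ (i j : I) (f : i ⟶ j), IsAffineHom (D.map f)] (i₀ : I) [CompactSpace (D.obj i₀)]
    [QuasiSeparatedSpace (D.obj i₀)] {X₀ Y₀ : Scheme.{u}} (f₀ : X₀ ⟶ Y₀) (g₀ : Y₀ ⟶ D.obj i₀)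
    [CompactSpace X₀] [QuasiSeparatedSpace X₀] [CompactSpace Y₀] [QuasiSeparatedSpace Y₀]
    [LocallyOfFinitePresentation f₀]
    {X Y : Scheme.{u}} (f : X ⟶ Y) (g : Y ⟶ c.pt) (qY : Y ⟶ Y₀) (qX : X ⟶ X₀)
    (hY : IsPullback qY g g₀ (c.π.app i₀)) (hX : IsPullback qX f f₀ qY) [Etale f] :
    ∃ (i : I) (φ : i ⟶ i₀) (Xi Yi : Scheme.{u}) (fi : Xi ⟶ Yi) (gi : Yi ⟶ D.obj i) (pY : Yi ⟶ Y₀)
      (pX : Xi ⟶ X₀), IsPullback pY gi g₀ (D.map φ) ∧ IsPullback pX fi f₀ pY ∧ Etale fi := by
  have h1 : (@Flat ⊓ @FormallyUnramified : MorphismProperty Scheme.{u}) f :=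
    ⟨inferInstance, inferInstance⟩
  obtain ⟨i, φ, hi⟩ := Groth.Agent.Smoothlim.LimBase.exists_descend
    (K340.Combine.descendsAffine_inf Groth.Agent.Smoothlim.LimBase.descendsAffine_flat
      K340.Unram.descendsAffine_unram) D c hc i₀ f₀ g₀ f g qY qX hY hX
    ⟨⟨inferInstance, inferInstance⟩, ⟨inferInstance, inferInstance⟩⟩ h1
  refine ⟨i, φ, _, _, _, _, _, _, IsPullback.of_hasPullback g₀ (D.map φ),
    IsPullback.of_hasPullback f₀ (Limits.pullback.fst g₀ (D.map φ)), ?_⟩
  rw [Etale.iff_flat_and_formallyUnramified]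
  exact ⟨hi.1, hi.2, inferInstance⟩

end Groth.Agent.S9192
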