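import Groth.Statements.S9208
import Groth.Agent.Lim.K341.LfpSurj

set_option autoImplicit false
universe u
open CategoryTheory AlgebraicGeometry
open Lim

namespace Groth.Agent.S9208

/-- Let f : X → S be a morphism of schemes. Suppose that for every inverse system (T_j) of affine
schemes over S indexed by a nonempty directed preordered set, with limit T, the canonical map
colim_j Mor_S(T_j, X) → Mor_S(T, X) is surjective: every S-morphism T → X is the composite of the
projection T → T_j with an S-morphism T_j → X for some j. Then f is locally of finite presentation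
(surjectivity alone suffices; bijectivity is not required). -/
theorem result {X S : Scheme.{u}} (f : X ⟶ S)
    (h : ∀ (J : Type u) [Preorder J] [IsDirected J (· ≤ ·)] [Nonempty J] (D : Jᵒᵖ ⥤ Scheme.{u})
      (t : D ⟶ (Functor.const Jᵒᵖ).obj S) (c : Limits.Cone D) (_ : Limits.IsLimit c),
      (∀ j, IsAffine (D.obj j)) → ∀ (j₀ : Jᵒᵖ) (g : c.pt ⟶ X), g ≫ f = c.π.app j₀ ≫ t.app j₀ →
        ∃ (j : Jᵒᵖ) (gj : D.obj j ⟶ X), gj ≫ f = t.app j ∧ c.π.app j ≫ gj = g) :
    LocallyOfFinitePresentation f := by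
  refine ⟨fun {U} hU {V} hV e ↦ ?_⟩
  refine K341.LfpSurj.finitePresentation_of_surjCond _ ?_
  intro J _ _ _ F t ht c hc g hg
  have hJ : IsCofiltered Jᵒᵖ := inferInstance
  let D : Jᵒᵖ ⥤ Scheme.{u} := F.op ⋙ Scheme.Spec
  let cD : Limits.Cone D := Scheme.Spec.mapCone c.op
  have hcD : Limits.IsLimit cD := Limits.isLimitOfPreserves Scheme.Spec hc.op
  have ht' {i j : Jᵒᵖ} (a : i ⟶ j) : Spec.map (F.map a.unop) ≫ Spec.map (t j.unop) = Spec.map (t i.unop) := by
    rw [← Spec.map_comp, ht]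
  let tD : D ⟶ (Functor.const Jᵒᵖ).obj S :=
    { app j := Spec.map (t j.unop) ≫ hU.fromSpec
      naturality i j a := by
        change Spec.map (F.map a.unop) ≫ Spec.map (t j.unop) ≫ hU.fromSpec =
          (Spec.map (t i.unop) ≫ hU.fromSpec) ≫ 𝟙 S
        rw [Category.comp_id, ← ht' a, Category.assoc] }
  have hDaff : ∀ j, IsAffine (D.obj j) := fun j ↦ inferInstanceAs (IsAffine (Spec (F.obj j.unop)))
  have hDmap : ∀ {i j : Jᵒᵖ} (a : i ⟶ j), IsAffineHom (D.map a) := fun {i j} a ↦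
    inferInstanceAs (IsAffineHom (Spec.map (F.map a.unop)))
  let g' : cD.pt ⟶ X := Spec.map g ≫ hV.fromSpec
  have hg' : ∀ j₀ : Jᵒᵖ, g' ≫ f = cD.π.app j₀ ≫ tD.app j₀ := by
    intro j₀
    change (Spec.map g ≫ hV.fromSpec) ≫ f = Spec.map (c.ι.app j₀.unop) ≫ Spec.map (t j₀.unop) ≫ hU.fromSpec
    rw [Category.assoc, ← IsAffineOpen.SpecMap_appLE_fromSpec f hU hV e, ← Category.assoc,
      ← Spec.map_comp, hg j₀.unop, Spec.map_comp, Category.assoc]
  obtain ⟨j₀⟩ : Nonempty Jᵒᵖ := inferInstance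
  obtain ⟨j, gj, hgj1, hgj2⟩ := h J D tD cD hcD hDaff j₀ g' (hg' j₀)
  obtain ⟨k, a, ha⟩ := exists_map_eq_top D cD hcD (gj ⁻¹ᵁ V) (by
    rw [← Scheme.Hom.comp_preimage, hgj2]
    refine top_le_iff.mp fun x _ ↦ ?_
    have h1 : hV.fromSpec (Spec.map g x) ∈ Set.range hV.fromSpec := ⟨_, rfl⟩
    rw [hV.range_fromSpec] at h1
    exact h1)
  have hr : Set.range (D.map a ≫ gj) ⊆ Set.range hV.fromSpec := by
    rw [hV.range_fromSpec]
    rintro _ ⟨x, rfl⟩
    have h1 : x ∈ D.map a ⁻¹ᵁ gj ⁻¹ᵁ V := by rw [ha]; trivial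
    exact h1
  let ψ' : Spec (F.obj k.unop) ⟶ Spec Γ(X, V) := IsOpenImmersion.lift hV.fromSpec (D.map a ≫ gj) hr
  have hψ' : ψ' ≫ hV.fromSpec = D.map a ≫ gj := IsOpenImmersion.lift_fac _ _ _
  obtain ⟨ψ, hψ⟩ := Spec.map_surjective ψ'
  refine ⟨k.unop, ψ, ?_, ?_⟩
  · apply Spec.map_injective
    rw [← cancel_mono hU.fromSpec, Spec.map_comp, Category.assoc,
      IsAffineOpen.SpecMap_appLE_fromSpec f hU hV e, ← Category.assoc, hψ, hψ', Category.assoc, hgj1]
    exact (tD.naturality a).trans (Category.comp_id _)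
  · apply Spec.map_injective
    rw [← cancel_mono hV.fromSpec, Spec.map_comp, Category.assoc, hψ, hψ', ← Category.assoc]
    have h1 : Spec.map (c.ι.app k.unop) ≫ D.map a = cD.π.app j := cD.w a
    rw [h1, hgj2]

end Groth.Agent.S9208
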