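import Groth.Agent.AlgSp.K640.EtGluePush
import Groth.Agent.S9868
import Groth.Agent.S9869
import Groth.Agent.AlgSp.K598.Red

set_option autoImplicit false
universe u
open CategoryTheory CategoryTheory.Limits AlgebraicGeometry
open AlgSp

namespace Groth.Agent.S10696

/-- Let `U`, `V` be algebraic spaces over `S`, `V' ⊂ V` an open subspace and `f' : V' → U` a separated
etale morphism. Then there are an algebraic space `W` and morphisms `j : U → W`, `f : V → W` making
the square on `V' → V`, `f'`, `f`, `j` a pushout in the category of algebraic spaces over `S`, with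
`(U ⊂ W, f : V → W)` an elementary distinguished square whose cartesian corner is `V'` (the square
is also a fibre product square). (The published statement does not assert that the square is
cartesian; this row does, as the construction gives it.) -/
theorem result {S : Scheme.{u}} {U V V' : AlgSp.Space S} (jV : V' ⟶ V)
    (hjV : AlgSp.RepWith @IsOpenImmersion jV.hom) (f' : V' ⟶ U) (hsep : AlgSp.IsSeparatedMor f'.hom)
    (het : AlgSp.IsEtaleMor f'.hom) :
    ∃ (W : AlgSp.Space S) (j : U ⟶ W) (f : V ⟶ W), IsPushout jV f' f j ∧
      IsPullback jV.hom f'.hom f.hom j.hom ∧ AlgSp.IsElemDistSq j.hom f.hom := by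
  obtain ⟨D⟩ := K640.EtGlue.exists_dat U.property V.property hjV het
  obtain ⟨E⟩ := D.exists_relDat
  have hR := E.isEtaleEqvRel
  have hW := S9868.result S E.s E.t hR
  have hpres := S9869.result S E.s E.t hR hW
  obtain ⟨P⟩ := K640.EtGlue.exists_pushDat D E hpres
  let W : AlgSp.Space S := ⟨_, hW⟩
  have hm : Mono jV.hom := K640.EtGlue.mono_of_openImmersion hjV
  refine ⟨W, ObjectProperty.homMk P.j, ObjectProperty.homMk P.f, ?_, P.isPullback, ?_⟩
  · exact IsPushout.of_map (ObjectProperty.ι _) (ObjectProperty.hom_ext _ P.w) P.isPushout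
  · refine P.isElemDistSq U.property hW ?_
    have hopen := (K610.OpenImm.isOpenEmbedding_points hW (P.isOpenImmersion_j U.property hW)).isOpen_range
    obtain ⟨Z, i, -, hi⟩ := K598.Red.exists_isRedInduced hW (Set.range (AlgSp.Points.map P.j))ᶜ hopen.isClosed_compl
    exact ⟨Z, i, hi⟩

end Groth.Agent.S10696
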