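import Groth.Statements.S9964
import Groth.Agent.AlgSp.K598.ClFam

set_option autoImplicit false
universe u
open CategoryTheory CategoryTheory.Limits AlgebraicGeometry
open AlgSp

namespace Groth.Agent.S9964

/-- Every morphism of algebraic spaces has a scheme theoretic image, a smallest closed subspace of the
target through which it factors. -/
theorem result {S : Scheme.{u}} {X Y : AlgSp.Space S} (f : X ⟶ Y) :
    ∃ (Z : AlgSp.Space S) (i : Z ⟶ Y), AlgSp.IsSchImage f.hom i.hom := by
  let s : K598.ClFam.Fam Y.obj → Prop := fun A =>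
    ∀ (T : Over S) (w : (AlgSp.yon S).obj T ⟶ X.obj), A.I (w ≫ f.hom) = ⊥
  let A : K598.ClFam.Fam Y.obj := K598.ClFam.Fam.sSup s
  have hA : s A := by
    intro T w
    rw [eq_bot_iff]
    refine sSup_le ?_
    rintro _ ⟨B, hB, rfl⟩
    exact (hB T w).le
  refine ⟨⟨A.sheaf, A.isAlgSpace_sheaf Y.property⟩, ObjectProperty.homMk A.ι, A.repWith_ι,
    (A.factors_iff' f.hom).2 hA, fun Z' i' _ hi' h => ?_⟩
  rw [K598.ClFam.factors_iff hi'] at h
  refine (K598.ClFam.exists_hom_iff_le A.repWith_ι hi').2 ?_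
  rw [K598.ClFam.ofClosed_ι]
  exact K598.ClFam.Fam.le_sSup h

end Groth.Agent.S9964
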