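import Groth.Statements.S9971
import Groth.Agent.AlgSp.K598.SchImg2
import Groth.Agent.AlgSp.K595.RepDesc
import Groth.Agent.AlgSp.K596.QC

set_option autoImplicit false
universe u
open CategoryTheory CategoryTheory.Limits AlgebraicGeometry
open AlgSp

namespace Groth.Agent.S9971

/-- A quasi-compact (or reduced-source) immersion is a scheme theoretically dense, topologically dense
open immersion into its scheme theoretic image. -/
theorem result {S : Scheme.{u}} {Z X Zbar : AlgSp.Space S} (h : Z ⟶ X)
    (hh : AlgSp.RepWith @IsImmersion h.hom) (hq : AlgSp.IsQuasiCompactMor h.hom ∨ AlgSp.IsReducedSp Z.obj)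
    (c : Zbar ⟶ X) (hc : AlgSp.IsSchImage h.hom c.hom) (h' : Z ⟶ Zbar) (fac : h' ≫ c = h) :
    AlgSp.RepWith @IsOpenImmersion h'.hom ∧ AlgSp.IsSchDense h'.hom ∧
      Dense (Set.range (AlgSp.Points.map h'.hom)) := by
  have hfac : h'.hom ≫ c.hom = h.hom := congrArg (fun k => k.hom) fac
  have hci := hc.1
  obtain ⟨V, p, hp, hps⟩ := X.property.atlas
  obtain ⟨R, r, fR, sqR⟩ := hci.1 p
  obtain ⟨ZV, m, fZ, sqZ⟩ := hh.1 p
  have hrcl : IsClosedImmersion r.left := hci.2 _ _ _ sqR
  have hmim : IsImmersion m.left := hh.2 _ _ _ sqZ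
  -- the induced morphism
  obtain ⟨k, hk⟩ := (yon S).map_surjective (sqR.lift (fZ ≫ h'.hom) ((yon S).map m) (by
    rw [Category.assoc, hfac, sqZ.w]))
  have hk1 : (yon S).map k ≫ fR = fZ ≫ h'.hom := by rw [hk, sqR.lift_fst]
  have hk2 : k ≫ r = m := (yon S).map_injective (by rw [Functor.map_comp, hk, sqR.lift_snd])
  have sqk : IsPullback fZ ((yon S).map k) h'.hom fR := by
    refine IsPullback.of_bot (h₃₁ := p) (v₂₁ := (yon S).map r) (v₂₂ := c.hom) ?_ hk1.symm sqR
    rw [← Functor.map_comp, hk2, hfac]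
    exact sqZ
  have hfR : RepWith @Etale fR := K598.RepKit.repWith_of_isPullback sqR.flip hp
  have hfRs : RepWith @Surjective fR := K598.RepKit.repWith_of_isPullback sqR.flip hps
  have hfZ : RepWith @Etale fZ := K598.RepKit.repWith_of_isPullback sqZ.flip hp
  -- the kernels
  have hker : r.left.ker = m.left.ker := by
    rw [← K598.ClFam.ofClosed_eq hci sqR]
    exact K598.SchImg2.ker_eq_of_isSchImage X.property hq hc p hp sqZ
  have hq' : QuasiCompact m.left ∨ IsReduced ZV.left := by
    refine hq.imp (fun hq => ?_) (fun hr => K612.Reduced.isReduced_of_isReducedSp hr fZ hfZ)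
    exact (K596.QC.repWith_of_isQuasiCompactMor hh.1 hq).2 _ _ _ sqZ
  obtain ⟨h1, h2, h3⟩ := K598.ImmSch.main m.left r.left k.left (congrArg (fun t => t.left) hk2) hker hq'
  have hrep : Representable h'.hom := by
    have : Mono c.hom := K598.RepKit.mono_of_repWith_isClosedImmersion hci
    exact K598.SchImg2.representable_of_comp_mono' (i := c.hom) h'.hom (by rw [hfac]; exact hh.1)
  have hopen : RepWith @IsOpenImmersion h'.hom :=
    K595.RepDesc.repWith_of_isPullback (P := @IsOpenImmersion) (Q := K595.RepDesc.Fppf) sqk hrep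
      (K595.RepDesc.repWith_fppf hfR hfRs) (K598.Charts.repWith_yon_map h1)
  have hrange : Points.ofPt fR ⁻¹' Set.range (Points.map h'.hom) = Set.range k.left := by
    have h4 := K609.Points.preimage_image_map sqk Set.univ
    rwa [Set.image_univ, Set.preimage_univ, Set.image_univ] at h4
  refine ⟨hopen, ?_, ?_⟩
  · obtain ⟨W, hW⟩ := K598.Dens.exists_isPre hopen fR
    have hW' := hW.preimage
    obtain ⟨fst, hW⟩ := hW
    exact ⟨hopen, R, fR, W, fst, hfR, hfRs, hW, h3 W (by rw [← hW', hrange])⟩
  · intro z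
    obtain ⟨t, rfl⟩ := K609.Points.surjective_ofPt_of_repWith_surjective hfRs z
    have h5 : Points.ofPt fR t ∈ closure (Points.ofPt fR '' Set.range k.left) :=
      image_closure_subset_closure_image (Points.continuous_ofPt fR) ⟨t, h2 t, rfl⟩
    refine closure_mono ?_ h5
    rw [← hrange]
    exact Set.image_preimage_subset _ _

end Groth.Agent.S9971
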