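import Groth.Statements.S10053
import Groth.Agent.AlgSp.K603.UnivClosedMain

set_option autoImplicit false
universe u
open CategoryTheory CategoryTheory.Limits AlgebraicGeometry
open AlgSp

namespace Groth.Agent.S10053

open K603.Points K603.UnivClosedAux K603.UnivClosedMain

variable {S : Scheme.{u}}

/-- A representable map with `P` has `P` etale locally on source and target. -/
theorem locP_of_repWith (P : MorphismProperty Scheme.{u}) [P.IsStableUnderBaseChange]
    [P.IsStableUnderComposition] (hP : @Etale ≤ P) {F G : Sp S} (f : F ⟶ G) (hf : RepWith P f) : LocP P f := by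
  intro U W a b h ha hb e
  have haf : RepWith P (a ≫ f) :=
    (MorphismProperty.relative_isStableUnderComposition (F := yon S)
      (P.inverseImage (Over.forget S))).comp_mem _ _ (repWith_mono hP ha) hf
  obtain ⟨R, snd, fst, sq⟩ := haf.1 b
  have h1 : P snd.left := haf.2 b fst snd sq
  obtain ⟨fst', rfl⟩ := (yon S).map_surjective fst
  have h2 : Etale fst'.left := hb.2 (a ≫ f) _ fst' sq.flip
  obtain ⟨s, hs⟩ := (yon S).map_surjective (sq.lift (𝟙 _) ((yon S).map h) (by rw [Category.id_comp, e]))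
  have hs1 : s ≫ fst' = 𝟙 _ := (yon S).map_injective (by
    rw [(yon S).map_comp, hs, (yon S).map_id]; exact sq.lift_fst _ _ _)
  have hs2 : s ≫ snd = h := (yon S).map_injective (by
    rw [(yon S).map_comp, hs]; exact sq.lift_snd _ _ _)
  have hsec : Etale s.left := by
    refine MorphismProperty.HasOfPostcompProperty.of_postcomp (W := @Etale) s.left fst'.left h2 ?_
    rw [← Over.comp_left, hs1, Over.id_left]
    infer_instance
  rw [← hs2, Over.comp_left]
  exact P.comp_mem _ _ (hP _ _ _ hsec) h1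

theorem exists_affine_nhd (X : Scheme.{u}) (x : X) :
    ∃ (R : CommRingCat.{u}) (ι : Spec R ⟶ X), IsOpenImmersion ι ∧ x ∈ Set.range ι := by
  have h : IsOpenImmersion (X.affineCover.f (X.affineCover.idx x)) := inferInstance
  exact ⟨_, X.affineCover.f (X.affineCover.idx x), h, X.affineCover.covers x⟩

theorem repWith_etale_id (U : Over S) : RepWith @Etale.{u} (𝟙 ((yon S).obj U)) := by
  rw [← (yon S).map_id]
  exact (repWith_yon_map_iff _ _).2 (by dsimp; infer_instance)

theorem repWith_surjective_id (U : Over S) : RepWith @Surjective.{u} (𝟙 ((yon S).obj U)) := by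
  rw [← (yon S).map_id]
  exact (repWith_yon_map_iff _ _).2 (by dsimp; infer_instance)

theorem repWith_comp (P : MorphismProperty Scheme.{u}) [P.IsStableUnderComposition] {F G H : Sp S}
    {f : F ⟶ G} {g : G ⟶ H} (hf : RepWith P f) (hg : RepWith P g) : RepWith P (f ≫ g) :=
  (MorphismProperty.relative_isStableUnderComposition (F := yon S)
      (P.inverseImage (Over.forget S))).comp_mem _ _ hf hg

theorem exists_affine_nhd_le {X : Scheme.{u}} (x : X) (O : X.Opens) (hx : x ∈ O) :
    ∃ (B : CommRingCat.{u}) (a : Spec B ⟶ X), IsOpenImmersion a ∧ x ∈ Set.range a ∧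
      Set.range a ⊆ (O : Set X) := by
  obtain ⟨_, ⟨A, hA, rfl⟩, hwA, hAO⟩ := X.isBasis_affineOpens.exists_subset_of_mem_open hx O.isOpen
  refine ⟨_, hA.fromSpec, hA.isOpenImmersion_fromSpec, ?_, ?_⟩
  · rw [hA.range_fromSpec]; exact hwA
  · rw [hA.range_fromSpec]; exact hAO

theorem univClosed_of_aff {X Y : AlgSp.Space S} (f : X ⟶ Y)
    (hqc : AlgSp.IsQuasiCompactMor f.hom)
    {V : Over S} (p : (AlgSp.yon S).obj V ⟶ Y.obj) (hpe : RepWith @Etale p) (hps : RepWith @Surjective p)
    (H : ∀ (n : ℕ) (P : AlgSp.Sp S) (fst : P ⟶ X.obj)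
      (snd : P ⟶ (AlgSp.yon S).obj (Aff n V)),
        IsPullback fst snd f.hom ((AlgSp.yon S).map (affπ n V) ≫ p) →
          IsClosedMap (AlgSp.Points.map snd)) : AlgSp.IsUnivClosedMor f.hom := by
  intro Z Z' hZ g fst snd sq
  refine isClosedMap_of_charts snd fun z => ?_
  obtain ⟨W, q, hqe, hqs⟩ := hZ.atlas
  obtain ⟨w, rfl⟩ := surjective_ofPt_of_repWith q hqs z
  obtain ⟨W', snd', fst', sq'⟩ := hps.1 (q ≫ g)
  obtain ⟨fst'', rfl⟩ := (yon S).map_surjective fst'
  have hs : Surjective snd'.left := hps.2 _ _ _ sq'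
  have he : Etale snd'.left := hpe.2 _ _ _ sq'
  obtain ⟨w', hw'⟩ := hs.surj w
  obtain ⟨R, ι, hι, hv⟩ := exists_affine_nhd V.left (fst''.left w')
  obtain ⟨B, a, ha, hwa, hao'⟩ := exists_affine_nhd_le w' (fst''.left ⁻¹ᵁ ι.opensRange) hv
  have hao : Set.range (a ≫ fst''.left) ⊆ Set.range ι := by
    rintro _ ⟨x, rfl⟩
    rw [Scheme.Hom.comp_apply]
    exact hao' ⟨x, rfl⟩
  obtain ⟨ψ, hψ⟩ := Spec.map_surjective (IsOpenImmersion.lift ι (a ≫ fst''.left) hao)
  have hψ' : Spec.map ψ ≫ ι = a ≫ fst''.left := by rw [hψ, IsOpenImmersion.lift_fac]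
  algebraize [ψ.hom]
  have hψa : CommRingCat.ofHom (algebraMap R B) = ψ := rfl
  let T : Over S := Over.mk (Spec.map (CommRingCat.ofHom (algebraMap R B)) ≫ ι ≫ V.hom)
  let aT : T ⟶ W' := Over.homMk a (by
    change a ≫ W'.hom = Spec.map ψ ≫ ι ≫ V.hom
    rw [← Category.assoc, hψ', Category.assoc, Over.w])
  have haT : aT ≫ fst'' = Over.homMk (Spec.map (CommRingCat.ofHom (algebraMap R B)) ≫ ι) :=
    Over.OverMorphism.ext hψ'.symm
  obtain ⟨t, ht⟩ := hwa
  refine ⟨T, (yon S).map (aT ≫ snd') ≫ q, t, ?_, ?_, ?_⟩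
  · refine (repWith_isMultiplicative (S := S) @Etale).comp_mem _ _ ((repWith_yon_map_iff _ _).2 ?_) hqe
    change Etale (a ≫ snd'.left)
    infer_instance
  · rw [ofPt_comp]
    congr 1
    change (a ≫ snd'.left) t = w
    rw [Scheme.Hom.comp_apply, ht, hw']
  · intro P' fstP sndP sqP
    have hcomp : ((yon S).map (aT ≫ snd') ≫ q) ≫ g =
        (yon S).map (Over.homMk (Spec.map (CommRingCat.ofHom (algebraMap R B)) ≫ ι) : T ⟶ V) ≫ p := by
      rw [← haT, Functor.map_comp, Functor.map_comp, Category.assoc, Category.assoc, Category.assoc]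
      erw [← sq'.w]
    have sqT : IsPullback (fstP ≫ fst) sndP f.hom ((yon S).map
        (Over.homMk (Spec.map (CommRingCat.ofHom (algebraMap R B)) ≫ ι) : T ⟶ V) ≫ p) := by
      rw [← hcomp]
      exact sqP.paste_horiz sq
    have sq₀ := IsPullback.of_hasPullback f.hom
      ((yon S).map (Over.homMk ι : Over.mk (ι ≫ V.hom) ⟶ V) ≫ p)
    obtain ⟨U, u, hu, hus, hU⟩ := hqc (IsAlgSpace.yon_obj (Over.mk (ι ≫ V.hom)))
      ⟨_, 𝟙 _, repWith_etale_id _, repWith_surjective_id _, inferInstanceAs (CompactSpace (Spec R))⟩ _ _ _ sq₀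
    have : CompactSpace U.left := hU
    exact isClosedMap_of_aff f.hom p H ι sq₀ u hu hus sqT

/-- For a quasi-compact morphism `f : X ⟶ Y` of algebraic spaces over `S` these conditions are
equivalent: (1) `f` is universally closed; (2) for every `Z ⟶ Y` locally of finite presentation,
with `Z` an algebraic space, the map `|X ×_Y Z| → |Z|` is closed; (3) for some scheme `V` with a
surjective etale morphism `V ⟶ Y`, the maps `|X ×_Y 𝐀^n_V| → |𝐀^n_V|` are closed for all `n`. Stated
as (1) ↔ (2) and (1) ↔ (3). -/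
theorem result (S : Scheme.{u}) {X Y : AlgSp.Space S} (f : X ⟶ Y)
    (hqc : AlgSp.IsQuasiCompactMor f.hom) :
    (AlgSp.IsUnivClosedMor f.hom ↔
      ∀ (Z : AlgSp.Space S) (g : Z ⟶ Y), AlgSp.LocP @LocallyOfFinitePresentation g.hom →
        ∀ (P : AlgSp.Sp S) (fst : P ⟶ X.obj) (snd : P ⟶ Z.obj), IsPullback fst snd f.hom g.hom →
          IsClosedMap (AlgSp.Points.map snd)) ∧
    (AlgSp.IsUnivClosedMor f.hom ↔
      ∃ (V : Over S) (p : (AlgSp.yon S).obj V ⟶ Y.obj), AlgSp.RepWith @Etale p ∧ AlgSp.RepWith @Surjective p ∧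
        ∀ (n : ℕ) (P : AlgSp.Sp S) (fst : P ⟶ X.obj)
          (snd : P ⟶ (AlgSp.yon S).obj (Over.mk ((𝔸(ULift.{u} (Fin n); V.left) ↘ V.left) ≫ V.hom))),
          IsPullback fst snd f.hom ((AlgSp.yon S).map (Over.homMk (𝔸(ULift.{u} (Fin n); V.left) ↘ V.left)) ≫ p) →
            IsClosedMap (AlgSp.Points.map snd)) := by
  refine ⟨⟨fun h Z g _ P fst snd sq => h Z.property g.hom fst snd sq, fun h => ?_⟩, ⟨fun h => ?_, ?_⟩⟩
  · obtain ⟨V, p, hpe, hps⟩ := Y.property.atlas
    refine univClosed_of_aff f hqc p hpe hps fun n P fst snd sq => ?_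
    let g : (ofScheme S).obj (Aff n V) ⟶ Y := ObjectProperty.homMk ((yon S).map (affπ n V) ≫ p)
    refine h ((ofScheme S).obj (Aff n V)) g ?_ P fst snd sq
    refine locP_of_repWith @LocallyOfFinitePresentation (fun _ _ g hg => ?_) _ ?_
    · have : Etale g := hg
      infer_instance
    · refine repWith_comp @LocallyOfFinitePresentation.{u}
        ((repWith_yon_map_iff _ _).2 ?_) (repWith_mono (fun _ _ g hg => ?_) hpe)
      · change LocallyOfFinitePresentation (𝔸(ULift.{u} (Fin n); V.left) ↘ V.left)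
        infer_instance
      · have : Etale g := hg
        infer_instance
  · obtain ⟨V, p, hpe, hps⟩ := Y.property.atlas
    exact ⟨V, p, hpe, hps, fun n P fst snd sq => h (IsAlgSpace.yon_obj _) _ fst snd sq⟩
  · rintro ⟨V, p, hpe, hps, H⟩
    exact univClosed_of_aff f hqc p hpe hps H

end Groth.Agent.S10053
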