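import Groth.Statements.S10003
import Groth.Agent.AlgSp.K598.SchImg2
import Groth.Agent.AlgSp.K599.CutOut
import Groth.Agent.Divis.IdealComap

set_option autoImplicit false
universe u
open CategoryTheory CategoryTheory.Limits AlgebraicGeometry Opposite
open AlgSp

namespace Groth.Agent.S10003

open K598.SchImg K598.ClFam K598.RepKit K598.Charts K598.SchImg2

set_option backward.isDefEq.respectTransparency false

section
variable {S : Scheme.{u}} {X Y Z : Sp S}

theorem K_bcObj {f : X ⟶ Y} (hf : AlgSp.Representable f) (E : EtOver Y) :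
    K f E.obj.hom = (EtOver.bcπ hf E).left.ker :=
  K_eq_ker (EtOver.isPullback_bcObj hf E) (𝟙 _) (repWith_id _ _) (repWith_id _ _) _ (Category.id_comp _)

theorem ideal_eq {f : X ⟶ Y} (hf : AlgSp.Representable f) (E : EtOver Y) (hE : IsAffine E.obj.left.left) :
    (idealOfRep hf).ideal E hE = (K f E.obj.hom).ideal ⟨⊤, isAffineOpen_top _⟩ := by
  rw [K_bcObj hf E, Scheme.ker_of_isAffine]
  have h2 : (Scheme.IdealSheafData.ofIdealTop (RingHom.ker (EtOver.bcπ hf E).left.appTop.hom)).ideal
      ⟨⊤, isAffineOpen_top _⟩ = RingHom.ker (EtOver.bcπ hf E).left.appTop.hom :=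
    congrArg (fun K => K) (Scheme.IdealSheafData.equivOfIsAffine.apply_symm_apply _)
  exact h2.symm

theorem ofClosed_bcObj {i : Z ⟶ Y} (hi : RepWith @IsClosedImmersion i) (E : EtOver Y) :
    (ofClosed i hi).I E.obj.hom = (EtOver.bcπ hi.1 E).left.ker :=
  ofClosed_eq hi (EtOver.isPullback_bcObj hi.1 E)

theorem ideal_ext {T : Scheme.{u}} [IsAffine T] {I J : T.IdealSheafData}
    (h : I.ideal ⟨⊤, isAffineOpen_top _⟩ = J.ideal ⟨⊤, isAffineOpen_top _⟩) : I = J :=
  Scheme.IdealSheafData.equivOfIsAffine.injective h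

/-- The chart `p : h_V ⟶ Y` as an object of the small etale site. -/
abbrev chartObj {V : Over S} (p : (yon S).obj V ⟶ Y) (hp : RepWith @Etale p) : EtOver Y := EtOver.mk p hp

theorem main (hY : IsAlgSpace Y) {f : X ⟶ Y} (hf : AlgSp.Representable f) (hqc : IsQuasiCompactMor f) :
    (idealOfRep hf).IsQCoh ∧ ∀ (Z : Sp S) (i : Z ⟶ Y), IsSchImage f i ↔ IsCutOutBy (idealOfRep hf) i := by
  constructor
  · intro E E' g hE hE'
    have e1 : E'.obj.hom = (yon S).map g.hom.left ≫ E.obj.hom := (CostructuredArrow.w g.hom).symm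
    have hfl : Flat g.hom.left.left := by
      have : Etale g.hom.left.left := EtOver.etale_left g
      infer_instance
    rw [ideal_eq, ideal_eq, e1, K_bc' hqc E.obj.hom g.hom.left,
      Groth.Agent.Divis.IdealComap.ideal_comap_top]
  · intro Z i
    constructor
    · intro h
      refine ⟨h.1, ?_⟩
      have hi := h.1
      ext E hE : 3
      have h1 := image_eq_K' hY hqc h.1 h E.obj.hom (repWith_flat_of_etale E.property)
      rw [ofClosed_bcObj, K_bcObj hf] at h1
      rw [ideal_eq hi.1, ideal_eq hf, K_bcObj hi.1, K_bcObj hf, h1]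
    · rintro ⟨hi, h⟩
      obtain ⟨ι, V, p, h1, h2, h3⟩ := exists_affine_charts hY
      refine isSchImage_of_K hY hi (ChartFam.of_etale h1 h3) fun j => ?_
      have hV := h2 j
      have h4 := congrArg (fun I => I.ideal (chartObj (p j) (h1 j)) hV) h
      simp only at h4
      have h5 := ofClosed_bcObj hi (chartObj (p j) (h1 j))
      have h6 := K_bcObj hi.1 (chartObj (p j) (h1 j))
      rw [ideal_eq, ideal_eq, h6, ← h5] at h4
      exact ideal_ext h4

end

/-- For a quasi-compact morphism f : X ⟶ Y of algebraic spaces that is representable by schemes, the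
sheaf of ideals Ker(O_Y ⟶ f_* O_X) (the kernel family on affine etale charts of Y) is
quasi-coherent, and the scheme theoretic image of f is exactly the closed subspace it cuts out. (The
published statement is for an arbitrary quasi-compact morphism of algebraic spaces; f_* O_X on the
small etale site with scheme charts is available only for representable f, the case stated.) -/
theorem result {S : Scheme.{u}} {X Y : AlgSp.Space S} (f : X ⟶ Y)
    (hf : AlgSp.Representable f.hom) (hqc : AlgSp.IsQuasiCompactMor f.hom) :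
    (AlgSp.idealOfRep hf).IsQCoh ∧
      ∀ (Z : AlgSp.Space S) (i : Z ⟶ Y), AlgSp.IsSchImage f.hom i.hom ↔ AlgSp.IsCutOutBy (AlgSp.idealOfRep hf) i.hom := by
  obtain ⟨h1, h2⟩ := main Y.property hf hqc
  exact ⟨h1, fun Z i => h2 Z.obj i.hom⟩

end Groth.Agent.S10003
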