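import Groth.Statements.S10895
import Groth.Agent.S0386
import Mathlib.AlgebraicGeometry.Morphisms.FlatMono
-- import your own Groth.Agent.* helpers here

set_option autoImplicit false
universe u
open CategoryTheory AlgebraicGeometry
open FlatMor

namespace Groth.Agent.S10895

/-- A closed immersion of finite presentation which is flat at a point x is an isomorphism over some
open neighbourhood of the image of x. -/
theorem result {X Y : Scheme.{u}} (f : X ⟶ Y) [IsClosedImmersion f]
    [LocallyOfFinitePresentation f] (x : X) (hflat : (f.stalkMap x).hom.Flat) :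
    ∃ V : Y.Opens, f.base x ∈ V ∧ IsIso (f ∣_ V) := by
  -- the flat locus is an open neighbourhood of x
  let W : X.Opens := ⟨{x : X | (f.stalkMap x).hom.Flat}, Groth.Agent.S0386.result f⟩
  have hxW : x ∈ W := hflat
  have hWflat : Flat (W.ι ≫ f) := by
    rw [Flat.iff_flat_stalkMap]
    intro w
    rw [Scheme.Hom.stalkMap_comp]
    have h1 : (f.stalkMap (W.ι w)).hom.Flat := w.2
    have h2 : (W.ι.stalkMap w).hom.Flat := Flat.stalkMap W.ι w
    exact h1.comp h2
  have hopen : IsOpenImmersion (W.ι ≫ f) := IsOpenImmersion.of_flat_of_mono _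
  have hWc : IsClosed (f '' (W : Set X)ᶜ) := f.isClosedEmbedding.isClosedMap _ W.2.isClosed_compl
  let V : Y.Opens := (W.ι ≫ f).opensRange ⊓ ⟨(f '' (W : Set X)ᶜ)ᶜ, hWc.isOpen_compl⟩
  have hpre : f ⁻¹ᵁ V ≤ W := by
    intro z hz
    by_contra hzW
    exact hz.2 ⟨z, hzW, rfl⟩
  refine ⟨V, ⟨⟨⟨x, hxW⟩, rfl⟩, ?_⟩, ?_⟩
  · rintro ⟨z, hz, hzx⟩
    exact hz ((f.isClosedEmbedding.injective hzx) ▸ hxW)
  · have : IsOpenImmersion (f ∣_ V) := by
      have e : X.homOfLE hpre ≫ W.ι ≫ f = f ∣_ V ≫ V.ι := by simp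
      have : IsOpenImmersion (f ∣_ V ≫ V.ι) := by rw [← e]; infer_instance
      exact IsOpenImmersion.of_comp _ V.ι
    have hs : Surjective (f ∣_ V) := by
      rw [surjective_iff]
      rintro v
      obtain ⟨w, hw⟩ := v.2.1
      have hw' : f (W.ι w) = V.ι v := hw
      have hmem : W.ι w ∈ f ⁻¹ᵁ V := by
        change f (W.ι w) ∈ V
        rw [hw']
        exact v.2
      refine ⟨(⟨W.ι w, hmem⟩ : (f ⁻¹ᵁ V : X.Opens)), ?_⟩
      apply V.ι.isOpenEmbedding.injective
      rw [← hw']
      exact (Scheme.Hom.comp_apply _ _ _).symm.trans (by rw [morphismRestrict_ι]; rfl)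
    exact (isIso_iff_isOpenImmersion_and_surjective _).2 ⟨inferInstance, hs⟩

end Groth.Agent.S10895
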