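import Groth.Statements.S8876
import Groth.Agent.SDiv.K474.FittLoc
import Groth.Agent.QCohSub.K582.Support

set_option autoImplicit false
universe u
open CategoryTheory CategoryTheory.Limits AlgebraicGeometry TopologicalSpace
open SDiv

namespace Groth.Agent.S8876

/-- Let S be a scheme and F a quasi-coherent O_S-module of finite type. Then the closed subset of S cut
out by Fit_0(F) equals the support of F (the scheme-theoretic support and the Fit_0 subscheme have
the same underlying set). -/
theorem result (S : Scheme.{u}) (F : S.Modules) (hF : Coh.IsQCoh F) (hft : CohB1.IsFT F) :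
    ((Fitt.sheafIdeal F 0).support : Set ↥S) = CohB1.support F := by
  ext x
  obtain ⟨V, hV, hxV, -⟩ := exists_isAffineOpen_mem_and_subset (x := x) (U := ⊤) trivial
  have := hF
  have := CohqB.FiniteType2.finite_sections_of_isFT F hft hV
  rw [← K582.Support.mem_support_iff_primeIdealOf F hF hV x hxV,
    ← K360.FittFiber.zeroLocus_ideal_zero, PrimeSpectrum.mem_zeroLocus, SetLike.coe_subset_coe,
    SetLike.mem_coe, SDiv.K474.FittLoc.mem_support_iff_le _ hV hxV,
    SDiv.K474.FittSheaf.sheafIdeal_ideal F hF hft]

end Groth.Agent.S8876
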