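import Groth.Statements.S9341
import Groth.Agent.FtPts.K585.Basic

set_option autoImplicit false
universe u
open FtPts

namespace Groth.Agent.S9341

open AlgebraicGeometry CategoryTheory in
theorem aux (S : Scheme.{u}) (Z : Set S) (hZ : IsLocallyClosed Z) (hne : Z.Nonempty) :
    (Z ∩ {s : S | LocallyOfFiniteType (S.fromSpecResidueField s)}).Nonempty := by
  obtain ⟨z, hz⟩ := hne
  obtain ⟨V, C, hV, hC, rfl⟩ := hZ
  obtain ⟨_, ⟨U, hU, rfl⟩, hzU, hUV⟩ :=
    S.isBasis_affineOpens.exists_subset_of_mem_open hz.1 hV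
  have hoi : IsOpenImmersion hU.fromSpec := hU.isOpenImmersion_fromSpec
  obtain ⟨w, rfl⟩ : z ∈ Set.range hU.fromSpec := by rw [hU.range_fromSpec]; exact hzU
  have hcl : IsClosed (hU.fromSpec ⁻¹' C) := hC.preimage hU.fromSpec.continuous
  obtain ⟨x, hx, hxcl⟩ := (hcl).exists_closed_singleton ⟨w, hz.2⟩
  refine ⟨hU.fromSpec x, ⟨hUV ?_, hx⟩,
    K585.FtPtsBasic.locallyOfFiniteType_of_isOpenImmersion hU.fromSpec x hxcl⟩
  rw [← hU.range_fromSpec]
  exact ⟨x, rfl⟩


open AlgebraicGeometry CategoryTheory in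
/-- Every nonempty locally closed subset of a scheme S contains a finite type point of S; in particular
for a closed subset Z the finite type points lying in Z are dense in Z. -/
theorem result (S : Scheme.{u}) :
    (∀ Z : Set ↑S, IsLocallyClosed Z → Z.Nonempty →
        (Z ∩ {s : ↑S | LocallyOfFiniteType (S.fromSpecResidueField s)}).Nonempty) ∧
      ∀ Z : Set ↑S, IsClosed Z →
        Z ⊆ closure (Z ∩ {s : ↑S | LocallyOfFiniteType (S.fromSpecResidueField s)}) := by
  refine ⟨fun Z hZ hne => aux S Z hZ hne, fun Z hZ z hz => ?_⟩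
  rw [mem_closure_iff]
  intro o ho hzo
  obtain ⟨s, hs1, hs2⟩ := aux S (Z ∩ o) (hZ.isLocallyClosed.inter ho.isLocallyClosed) ⟨z, hz, hzo⟩
  exact ⟨s, hs1.2, hs1.1, hs2⟩

end Groth.Agent.S9341
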