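import Groth.Statements.S9683
import Groth.Agent.Sga3C.DimTop

set_option autoImplicit false
universe u
open CategoryTheory CategoryTheory.Limits AlgebraicGeometry
open Mor

namespace Groth.Agent.S9683

/-- For any integral morphism of schemes f : X ⟶ Y, the dimension of X is at most that of Y, and if f is
surjective then dim X = dim Y (dimensions of the underlying topological spaces). -/
theorem result {X Y : Scheme.{u}} (f : X ⟶ Y) [IsIntegralHom f] :
    topologicalKrullDim ↥X ≤ topologicalKrullDim ↥Y ∧
      (Surjective f → topologicalKrullDim ↥X = topologicalKrullDim ↥Y) := by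
  refine ⟨?_, fun _ => Groth.Agent.Sga3C.DimTop.topologicalKrullDim_eq_of_isIntegralHom f⟩
  letI := specializationOrder X
  letI := specializationOrder Y
  rw [Groth.Agent.Sga3C.DimTop.topologicalKrullDim_eq_krullDim,
    Groth.Agent.Sga3C.DimTop.topologicalKrullDim_eq_krullDim]
  have hmono : StrictMono f.base := by
    intro a b hab
    refine lt_of_le_of_ne ?_ ?_
    · exact (Groth.Agent.Sga3C.DimTop.le_iff_specializes.mp hab.le).map f.continuous
    · intro he
      exact hab.ne ((Groth.Agent.Sga3C.DimTop.eq_of_specializes_of_isIntegralHom f b a
        (Groth.Agent.Sga3C.DimTop.le_iff_specializes.mp hab.le) he.symm).symm)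
  exact Order.krullDim_le_of_strictMono f.base hmono

end Groth.Agent.S9683
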