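import Groth.Statements.S10652
import Groth.Agent.AlgSp.K637.OpenRestr
import Groth.Agent.AlgSp.K596.QC
import Groth.Agent.AlgSp.K597.EtLoc
import Groth.Agent.Ega4dB.SchDense
import Groth.Agent.S0451

set_option autoImplicit false
universe u
open CategoryTheory CategoryTheory.Limits AlgebraicGeometry
open AlgSp

namespace Groth.Agent.S10652

/-- For a flat morphism f : X ⟶ Y of algebraic spaces over S which is locally of finite type, and an
open subspace j : V ⟶ Y which is quasi-compact (as a morphism) and scheme theoretically dense (on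
some etale surjective scheme chart its inverse image is a schematically dense open): if the base
change X ×_Y V ⟶ V is locally of finite presentation then so is f. -/
theorem result {S : Scheme.{u}} {X Y V : AlgSp.Space S} (f : X ⟶ Y) (j : V ⟶ Y)
    (hf1 : AlgSp.LocP @LocallyOfFiniteType f.hom) (hf2 : AlgSp.LocP @Flat f.hom)
    (hj1 : AlgSp.IsQuasiCompactMor j.hom) (hj2 : AlgSp.IsSchDense j.hom)
    (P : AlgSp.Space S) (fst : P ⟶ X) (snd : P ⟶ V) (hP : IsPullback fst.hom snd.hom f.hom j.hom)
    (hV : AlgSp.LocP @LocallyOfFinitePresentation snd.hom) :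
    AlgSp.LocP @LocallyOfFinitePresentation f.hom := by
  obtain ⟨hj, Y₀, φ, W, w, hφ, hφs, sqW, hW⟩ := hj2
  have hjq : RepWith @QuasiCompact j.hom := K596.QC.repWith_of_isQuasiCompactMor hj.1 hj1
  have hWq : QuasiCompact W.ι := hjq.2 φ w _ sqW
  have hWd : IsSchemeTheoreticallyDominant W.ι :=
    Groth.Agent.Ega4dB.SchDense.isSchemeTheoreticallyDominant_ι W hW
  obtain ⟨U₀, a₀, ha₀, has₀⟩ := X.property.atlas
  obtain ⟨U, a, h, ha, has, hh⟩ := K597.exists_chart_over f.hom a₀ ha₀ has₀ φ hφ hφs
  refine K597.locP_of_chart K597.etLoc_lfp f.hom a φ h ha has hφ hh ?_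
  have h1 : LocallyOfFiniteType h.left := hf1 a φ h ha hφ hh
  have h2 : Flat h.left := hf2 a φ h ha hφ hh
  have h3 : LocallyOfFinitePresentation (h.left ∣_ W) :=
    K637.OpenRestr.restrict_of_locP hP ha hφ hh sqW hV
  exact Groth.Agent.S0451.result h.left W

end Groth.Agent.S10652
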