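import Groth.Statements.S10655
import Groth.Agent.AlgSp.K637.MonoDense
import Groth.Agent.S10652
import Groth.Agent.AlgSp.K598.RepKit

set_option autoImplicit false
universe u
open CategoryTheory CategoryTheory.Limits AlgebraicGeometry
open AlgSp

namespace Groth.Agent.S10655

/-- For a separated flat morphism f : X ⟶ Y of algebraic spaces over S which is locally of finite type,
and an open subspace j : V ⟶ Y which is quasi-compact and scheme theoretically dense (on some etale
surjective scheme chart its inverse image is a schematically dense open): if the base change X ×_Y V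
⟶ V is an isomorphism then f is a representable open immersion. -/
theorem result {S : Scheme.{u}} {X Y V : AlgSp.Space S} (f : X ⟶ Y) (j : V ⟶ Y)
    (hf1 : AlgSp.IsSeparatedMor f.hom) (hf2 : AlgSp.LocP @LocallyOfFiniteType f.hom) (hf3 : AlgSp.LocP @Flat f.hom)
    (hj1 : AlgSp.IsQuasiCompactMor j.hom) (hj2 : AlgSp.IsSchDense j.hom)
    (P : AlgSp.Space S) (fst : P ⟶ X) (snd : P ⟶ V) (hP : IsPullback fst.hom snd.hom f.hom j.hom)
    (hV : IsIso snd.hom) :
    AlgSp.RepWith @IsOpenImmersion f.hom := by
  have hj2' := hj2
  obtain ⟨hj, Y₀, φ, W, w, hφ, hφs, sqW, hW⟩ := hj2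
  have hjq : RepWith @QuasiCompact j.hom := K596.QC.repWith_of_isQuasiCompactMor hj.1 hj1
  have hWq : QuasiCompact W.ι := hjq.2 φ w _ sqW
  have hWd : IsSchemeTheoreticallyDominant W.ι :=
    Groth.Agent.Ega4dB.SchDense.isSchemeTheoreticallyDominant_ι W hW
  have hmono : CategoryTheory.Mono f.hom := K637.MonoDense.mono X.property Y.property hP hf1 hf3 hφ hφs sqW inferInstance
  have hlfp : LocP @LocallyOfFinitePresentation snd.hom :=
    K597.locP_of_repWith K597.etLoc_lfp.precomp (K597.repWith_mono (P := @IsOpenImmersion)
      (fun _ _ f hf => by have : IsOpenImmersion f := hf; infer_instance) (K598.RepKit.repWith_of_isIso snd.hom))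
  exact K637.MonoDense.isOpenImmersion_of_flat_mono X.property Y.property f.hom hf3
    (Groth.Agent.S10652.result f j hf2 hf3 hj1 hj2' P fst snd hP hlfp)

end Groth.Agent.S10655
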