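import Groth.Statements.S10722
import Groth.Agent.EtAlg.K363.GlueAlg
import Mathlib.RingTheory.RingHom.FiniteType
import Mathlib.RingTheory.Finiteness.FiniteTypeLocal
import Mathlib.LinearAlgebra.TensorProduct.Finiteness

set_option autoImplicit false
universe u
open TensorProduct
open EtAlg

namespace Groth.Agent.S10722

/-- a morphism of `R`-algebras is of finite type if it is so after `R' ⊗` and after inverting `f`. -/
theorem ft_aux (R : Type u) [CommRing R] (R' : Type u) [CommRing R'] [Algebra R R'] (f : R)
    (hq : EtGlue.QuotPowBijective R R' f) (A B : Type u) [CommRing A] [Algebra R A] [CommRing B] [Algebra R B]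
    [Algebra A B] [IsScalarTower R A B]
    (h1 : (Localization.awayMap (algebraMap A B) (algebraMap R A f)).FiniteType)
    (h2 : (Algebra.TensorProduct.map (AlgHom.id R R') (IsScalarTower.toAlgHom R A B)).toRingHom.FiniteType) :
    (algebraMap A B).FiniteType := by
  classical
  -- generators over `A_f`
  let Bf := Localization.Away (algebraMap A B (algebraMap R A f))
  have h1' : (algebraMap A Bf).FiniteType := by
    have h3 : algebraMap A Bf = (Localization.awayMap (algebraMap A B) (algebraMap R A f)).comp
        (algebraMap A (Localization.Away (algebraMap R A f))) := by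
      apply RingHom.ext
      intro x
      rw [RingHom.comp_apply, Localization.awayMap, IsLocalization.Away.map,
        IsLocalization.map_eq]
      exact IsScalarTower.algebraMap_apply A B Bf x
    rw [h3]
    exact h1.comp (RingHom.finiteType_holdsForLocalizationAway _ (algebraMap R A f))
  rw [RingHom.finiteType_algebraMap] at h1'
  obtain ⟨s, hs⟩ := h1'.out
  let M : Submonoid B := Submonoid.powers (algebraMap A B (algebraMap R A f))
  let s₁ : Finset B := IsLocalization.finsetIntegerMultiple M s
  -- generators over `R' ⊗ A`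
  let _ : Algebra (R' ⊗[R] A) (R' ⊗[R] B) :=
    (Algebra.TensorProduct.map (AlgHom.id R R') (IsScalarTower.toAlgHom R A B)).toRingHom.toAlgebra
  have h2' : Algebra.FiniteType (R' ⊗[R] A) (R' ⊗[R] B) := h2
  obtain ⟨t, ht⟩ := h2'.out
  obtain ⟨N₁, hN₁, hsN₁⟩ := TensorProduct.exists_finite_submodule_right_of_setFinite
      (R := R) (M := R') (N := B) (t : Set (R' ⊗[R] B)) t.finite_toSet
  obtain ⟨s₂, hs₂⟩ := (Module.Finite.iff_fg.1 hN₁)
  -- the subalgebra
  let C : Subalgebra A B := Algebra.adjoin A ((s₁ : Set B) ∪ (s₂ : Set B))
  have hsur : Function.Surjective C.val := by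
    apply K363.GlueAlg.surjective_of_glueing hq (C.val.restrictScalars R).toLinearMap
    · intro x
      have hx : x ∈ Algebra.adjoin (R' ⊗[R] A) (t : Set (R' ⊗[R] B)) := ht ▸ Algebra.mem_top
      change ∃ y, Algebra.TensorProduct.map (AlgHom.id R R') (C.val.restrictScalars R) y = x
      induction hx using Algebra.adjoin_induction with
      | mem x hx =>
        obtain ⟨y, hy⟩ := hsN₁ hx
        have hNC : ∀ b ∈ N₁, b ∈ C := by
          have : N₁ ≤ (Subalgebra.toSubmodule C).restrictScalars R := by
            rw [← hs₂, Submodule.span_le]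
            intro b hb
            exact Algebra.subset_adjoin (Or.inr hb)
          exact fun b hb => this hb
        let ι : N₁ →ₗ[R] C := LinearMap.codRestrict ((Subalgebra.toSubmodule C).restrictScalars R)
          N₁.subtype (fun b => hNC _ b.2)
        refine ⟨LinearMap.lTensor R' ι y, ?_⟩
        rw [← hy]
        change LinearMap.lTensor R' ((C.val.restrictScalars R).toLinearMap) (LinearMap.lTensor R' ι y) =
          LinearMap.lTensor R' N₁.subtype y
        rw [← LinearMap.comp_apply, ← LinearMap.lTensor_comp]
        rfl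
      | algebraMap r =>
        refine ⟨Algebra.TensorProduct.map (AlgHom.id R R') (IsScalarTower.toAlgHom R A C) r, ?_⟩
        change _ = Algebra.TensorProduct.map (AlgHom.id R R') (IsScalarTower.toAlgHom R A B) r
        rw [← AlgHom.comp_apply, ← Algebra.TensorProduct.map_comp]
        rfl
      | add x y _ _ hx hy =>
        obtain ⟨x', hx⟩ := hx
        obtain ⟨y', hy⟩ := hy
        exact ⟨x' + y', by rw [map_add, hx, hy]⟩
      | mul x y _ _ hx hy =>
        obtain ⟨x', hx⟩ := hx
        obtain ⟨y', hy⟩ := hy
        exact ⟨x' * y', by rw [map_mul, hx, hy]⟩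
    · intro b
      obtain ⟨⟨_, m, rfl⟩, hm⟩ := IsLocalization.exists_smul_mem_of_mem_adjoin (R := A) (S' := Bf) M b s C
        (fun x hx => Algebra.subset_adjoin (Or.inl hx))
        (by
          rintro _ ⟨n, rfl⟩
          exact C.pow_mem (C.algebraMap_mem _) n)
        (by rw [hs]; exact Algebra.mem_top)
      refine ⟨m, ⟨_, hm⟩, ?_⟩
      change f ^ m • b = (algebraMap A B (algebraMap R A f)) ^ m * b
      rw [Algebra.smul_def, map_pow, ← IsScalarTower.algebraMap_apply]
  rw [RingHom.finiteType_algebraMap]
  refine ⟨⟨s₁ ∪ s₂, ?_⟩⟩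
  rw [Finset.coe_union, eq_top_iff]
  intro b _
  obtain ⟨c, rfl⟩ := hsur b
  exact c.2

/-- Glueing along a glueing pair detects finite type morphisms of affine schemes, stated for coordinate
rings. Let `(R → R', f)` be a glueing pair and `φ : A → B` a homomorphism of `R`-algebras with `A`,
`B` glueable as `R`-modules (so `Spec A`, `Spec B` are affine and glueable over `Spec R`). Then `φ`
is of finite type if and only if `A_f → B_f` and `R' ⊗_R A → R' ⊗_R B` are. -/
theorem result (R : Type u) [CommRing R] (R' : Type u) [CommRing R'] [Algebra R R'] (f : R)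
    (hRR' : EtGlue.IsGlueingPair R R' f) (A B : Type u) [CommRing A] [Algebra R A] [CommRing B] [Algebra R B]
    (hA : EtGlue.IsGlueable R R' f A) (hB : EtGlue.IsGlueable R R' f B) (φ : A →ₐ[R] B) :
    φ.toRingHom.FiniteType ↔ (Localization.awayMap φ.toRingHom (algebraMap R A f)).FiniteType ∧ (Algebra.TensorProduct.map (AlgHom.id R R') φ).toRingHom.FiniteType := by
  let _ : Algebra A B := φ.toRingHom.toAlgebra
  have : IsScalarTower R A B := IsScalarTower.of_algebraMap_eq' φ.comp_algebraMap.symm
  constructor
  · exact K363.GlueAlg.forward (f := f) (R' := R') A B RingHom.finiteType_respectsIso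
      RingHom.finiteType_isStableUnderBaseChange
  · rintro ⟨h1, h2⟩
    exact ft_aux R R' f hRR'.1 A B h1 h2

end Groth.Agent.S10722
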