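import Groth.Statements.S12188
import Groth.Agent.EtAlg.K363.GlueAlg
import Mathlib.RingTheory.RingHom.Flat

set_option autoImplicit false
universe u
open TensorProduct
open EtAlg

namespace Groth.Agent.S12188

attribute [local instance] Algebra.TensorProduct.rightAlgebra

theorem flat_aux (R : Type u) [CommRing R] (R' : Type u) [CommRing R'] [Algebra R R'] (f : R)
    (hRR' : EtGlue.IsGlueingPair R R' f) (A B : Type u) [CommRing A] [Algebra R A] [CommRing B] [Algebra R B]
    [Algebra A B] [IsScalarTower R A B] (hA : EtGlue.IsGlueable R R' f A)
    (h1 : (Localization.awayMap (algebraMap A B) (algebraMap R A f)).Flat)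
    (h2 : (Algebra.TensorProduct.map (AlgHom.id R R') (IsScalarTower.toAlgHom R A B)).toRingHom.Flat) :
    (algebraMap A B).Flat := by
  rw [RingHom.flat_algebraMap_iff]
  apply Groth.Agent.Etalg.GlueFlat.flat_of_glueing
    (K363.GlueAlg.glueingPair_baseChange A hRR' hA) B
  · rw [← RingHom.flat_algebraMap_iff]
    exact (K363.GlueAlg.respectsIso_iff A B RingHom.Flat.respectsIso).2 h2
  · let _ : Algebra (Localization.Away (algebraMap R A f))
      (Localization.Away (algebraMap A B (algebraMap R A f))) :=
      (Localization.awayMap (algebraMap A B) (algebraMap R A f)).toAlgebra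
    obtain ⟨e⟩ := K363.GlueAlg.exists_locEquiv A B (algebraMap R A f)
    have : Module.Flat (Localization.Away (algebraMap R A f))
      (Localization.Away (algebraMap A B (algebraMap R A f))) := h1
    exact Module.Flat.of_linearEquiv e

/-- Glueing along a glueing pair detects flat morphisms of affine schemes, stated for coordinate rings.
Let (R → R', f) be a glueing pair and φ : A → B a homomorphism of R-algebras with A and B glueable
as R-modules. Then φ is flat exactly when both induced maps A_f → B_f and R' ⊗_R A → R' ⊗_R B are
flat. -/
theorem result (R : Type u) [CommRing R] (R' : Type u) [CommRing R'] [Algebra R R'] (f : R)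
    (hRR' : EtGlue.IsGlueingPair R R' f) (A B : Type u) [CommRing A] [Algebra R A] [CommRing B] [Algebra R B]
    (hA : EtGlue.IsGlueable R R' f A) (hB : EtGlue.IsGlueable R R' f B) (φ : A →ₐ[R] B) :
    φ.toRingHom.Flat ↔ (Localization.awayMap φ.toRingHom (algebraMap R A f)).Flat ∧
      (Algebra.TensorProduct.map (AlgHom.id R R') φ).toRingHom.Flat := by
  let _ : Algebra A B := φ.toRingHom.toAlgebra
  have : IsScalarTower R A B := IsScalarTower.of_algebraMap_eq' φ.comp_algebraMap.symm
  constructor
  · exact K363.GlueAlg.forward (f := f) (R' := R') A B RingHom.Flat.respectsIso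
      RingHom.Flat.isStableUnderBaseChange
  · rintro ⟨h1, h2⟩
    exact flat_aux R R' f hRR' A B hA h1 h2

end Groth.Agent.S12188
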