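import Groth.Statements.S10723
import Groth.Agent.EtAlg.K363.GlueFP
import Groth.Agent.S10722
import Groth.Agent.S12188
import Mathlib.RingTheory.RingHom.FinitePresentation

set_option autoImplicit false
universe u
open TensorProduct
open EtAlg

namespace Groth.Agent.S10723

attribute [local instance] Algebra.TensorProduct.rightAlgebra

/-- flat of finite presentation, from a glueing pair. -/
theorem fp_aux (R : Type u) [CommRing R] (R' : Type u) [CommRing R'] [Algebra R R'] (f : R)
    (hRR' : EtGlue.IsGlueingPair R R' f) (A B : Type u) [CommRing A] [Algebra R A] [CommRing B] [Algebra R B]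
    [Algebra A B] [IsScalarTower R A B] (hA : EtGlue.IsGlueable R R' f A)
    (h1 : (Localization.awayMap (algebraMap A B) (algebraMap R A f)).Flat)
    (h1' : (Localization.awayMap (algebraMap A B) (algebraMap R A f)).FinitePresentation)
    (h2 : (Algebra.TensorProduct.map (AlgHom.id R R') (IsScalarTower.toAlgHom R A B)).toRingHom.Flat)
    (h2' : (Algebra.TensorProduct.map (AlgHom.id R R') (IsScalarTower.toAlgHom R A B)).toRingHom.FinitePresentation) :
    (algebraMap A B).Flat ∧ (algebraMap A B).FinitePresentation := by
  have hflat := Groth.Agent.S12188.flat_aux R R' f hRR' A B hA h1 h2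
  have hft := Groth.Agent.S10722.ft_aux R R' f hRR'.1 A B
    (RingHom.FiniteType.of_finitePresentation h1') (RingHom.FiniteType.of_finitePresentation h2')
  refine ⟨hflat, ?_⟩
  rw [RingHom.flat_algebraMap_iff] at hflat
  rw [RingHom.finiteType_algebraMap] at hft
  rw [RingHom.finitePresentation_algebraMap]
  apply K363.GlueFP.fp_aux0 (K363.GlueAlg.quotPow_baseChange A hRR'.1) B h1'
  rw [← RingHom.finitePresentation_algebraMap]
  exact (K363.GlueAlg.respectsIso_iff A B RingHom.finitePresentation_respectsIso).2 h2'

/-- Glueing along a glueing pair detects morphisms of affine schemes that are flat and of finite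
presentation, stated for coordinate rings. Let `(R → R', f)` be a glueing pair and `φ : A → B` a
homomorphism of `R`-algebras with `A`, `B` glueable as `R`-modules (so `Spec A`, `Spec B` are affine
and glueable over `Spec R`). Then `φ` is flat and of finite presentation if and only if `A_f → B_f`
and `R' ⊗_R A → R' ⊗_R B` are. -/
theorem result (R : Type u) [CommRing R] (R' : Type u) [CommRing R'] [Algebra R R'] (f : R)
    (hRR' : EtGlue.IsGlueingPair R R' f) (A B : Type u) [CommRing A] [Algebra R A] [CommRing B] [Algebra R B]
    (hA : EtGlue.IsGlueable R R' f A) (hB : EtGlue.IsGlueable R R' f B) (φ : A →ₐ[R] B) :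
    (φ.toRingHom.Flat ∧ φ.toRingHom.FinitePresentation) ↔
      ((Localization.awayMap φ.toRingHom (algebraMap R A f)).Flat ∧ (Localization.awayMap φ.toRingHom (algebraMap R A f)).FinitePresentation) ∧
        ((Algebra.TensorProduct.map (AlgHom.id R R') φ).toRingHom.Flat ∧ (Algebra.TensorProduct.map (AlgHom.id R R') φ).toRingHom.FinitePresentation) := by
  let _ : Algebra A B := φ.toRingHom.toAlgebra
  have : IsScalarTower R A B := IsScalarTower.of_algebraMap_eq' φ.comp_algebraMap.symm
  constructor
  · rintro ⟨h1, h2⟩
    obtain ⟨h3, h4⟩ := K363.GlueAlg.forward (f := f) (R' := R') A B RingHom.Flat.respectsIso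
      RingHom.Flat.isStableUnderBaseChange h1
    obtain ⟨h5, h6⟩ := K363.GlueAlg.forward (f := f) (R' := R') A B
      RingHom.finitePresentation_respectsIso
      RingHom.finitePresentation_isStableUnderBaseChange h2
    exact ⟨⟨h3, h5⟩, ⟨h4, h6⟩⟩
  · rintro ⟨⟨h1, h2⟩, ⟨h3, h4⟩⟩
    exact fp_aux R R' f hRR' A B hA h1 h2 h3 h4

end Groth.Agent.S10723
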