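import Groth.Statements.S10724
import Groth.Agent.S10723
import Mathlib.RingTheory.RingHom.Etale
import Mathlib.RingTheory.Kaehler.TensorProduct

set_option autoImplicit false
universe u
open TensorProduct
open EtAlg

namespace Groth.Agent.S10724

attribute [local instance] Algebra.TensorProduct.rightAlgebra

open KaehlerDifferential in
/-- Unramifiedness from a glueing pair. -/
theorem unram_aux0 {R R' : Type u} [CommRing R] [CommRing R'] [Algebra R R'] {f : R}
    (hq : EtGlue.QuotPowBijective R R' f) (B : Type u) [CommRing B] [Algebra R B]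
    (h1 : (Localization.awayMap (algebraMap R B) f).FormallyUnramified)
    (h2 : Algebra.FormallyUnramified R' (R' ⊗[R] B)) : Algebra.FormallyUnramified R B := by
  constructor
  apply K363.GlueAlg.subsingleton_of_torsion hq
  · intro n
    have h3 : Subsingleton (Ω[(R' ⊗[R] B)⁄R']) := h2.1
    have h4 : Subsingleton (R' ⊗[R] Ω[B⁄R]) :=
      (KaehlerDifferential.tensorKaehlerEquivBase R R' B (R' ⊗[R] B)).toEquiv.subsingleton
    exact Subsingleton.elim _ _
  · intro n
    let Rf := Localization.Away f
    let Bf := Localization.Away (algebraMap R B f)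
    let _ : Algebra Rf Bf := (Localization.awayMap (algebraMap R B) f).toAlgebra
    have : IsScalarTower R Rf Bf := IsScalarTower.of_algebraMap_eq (fun x => by
      rw [RingHom.algebraMap_toAlgebra, Localization.awayMap, IsLocalization.Away.map,
        IsLocalization.map_eq]
      exact IsScalarTower.algebraMap_apply R B Bf x)
    have : IsLocalization (Algebra.algebraMapSubmonoid B (Submonoid.powers f)) Bf := by
      have h : Algebra.algebraMapSubmonoid B (Submonoid.powers f) =
        Submonoid.powers (algebraMap R B f) := by
        rw [Algebra.algebraMapSubmonoid, Submonoid.map_powers]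
      rw [h]; infer_instance
    have h5 : Algebra.FormallyUnramified Rf Bf := h1
    have h6 : Subsingleton (Ω[Bf⁄Rf]) := h5.1
    have h7 : IsLocalizedModule (Submonoid.powers f) ((map R Rf B Bf).restrictScalars R) :=
      KaehlerDifferential.isLocalizedModule R Rf B Bf (Submonoid.powers f)
    obtain ⟨⟨_, k, rfl⟩, hk⟩ := (IsLocalizedModule.eq_zero_iff (Submonoid.powers f)
      ((map R Rf B Bf).restrictScalars R) (m := n)).1 (Subsingleton.elim _ _)
    exact ⟨k, hk⟩

/-- Glueing along a glueing pair detects etale morphisms of affine schemes, stated for coordinate rings.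
Let `(R → R', f)` be a glueing pair and `φ : A → B` a homomorphism of `R`-algebras with `A`, `B`
glueable as `R`-modules (so `Spec A`, `Spec B` are affine and glueable over `Spec R`). Then `φ` is
etale if and only if `A_f → B_f` and `R' ⊗_R A → R' ⊗_R B` are. -/
theorem result (R : Type u) [CommRing R] (R' : Type u) [CommRing R'] [Algebra R R'] (f : R)
    (hRR' : EtGlue.IsGlueingPair R R' f) (A B : Type u) [CommRing A] [Algebra R A] [CommRing B] [Algebra R B]
    (hA : EtGlue.IsGlueable R R' f A) (hB : EtGlue.IsGlueable R R' f B) (φ : A →ₐ[R] B) :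
    φ.toRingHom.Etale ↔ (Localization.awayMap φ.toRingHom (algebraMap R A f)).Etale ∧ (Algebra.TensorProduct.map (AlgHom.id R R') φ).toRingHom.Etale := by
  let _ : Algebra A B := φ.toRingHom.toAlgebra
  have : IsScalarTower R A B := IsScalarTower.of_algebraMap_eq' φ.comp_algebraMap.symm
  constructor
  · exact K363.GlueAlg.forward (f := f) (R' := R') A B RingHom.Etale.respectsIso
      RingHom.Etale.isStableUnderBaseChange
  · rintro ⟨h1, h2⟩
    rw [RingHom.Etale.iff_flat_and_formallyUnramified] at h1 h2 ⊢
    obtain ⟨h3, h4⟩ := Groth.Agent.S10723.fp_aux R R' f hRR' A B hA h1.1 h1.2.2 h2.1 h2.2.2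
    refine ⟨h3, ?_, h4⟩
    change (algebraMap A B).FormallyUnramified
    rw [RingHom.formallyUnramified_algebraMap]
    apply unram_aux0 (K363.GlueAlg.quotPow_baseChange A hRR'.1) B h1.2.1
    rw [← RingHom.formallyUnramified_algebraMap]
    exact (K363.GlueAlg.respectsIso_iff A B RingHom.FormallyUnramified.respectsIso).2 h2.2.1

end Groth.Agent.S10724
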