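import Groth.Statements.S10807
import Groth.Agent.AlgSp.K647.BlowUpSp
import Groth.Agent.AlgSp.K647.Proper

set_option autoImplicit false
universe u
open CategoryTheory CategoryTheory.Limits AlgebraicGeometry Topology TopologicalSpace
open AlgSp

namespace Groth.Agent.S10807

/-- Let X be an algebraic space over a scheme S and Z ⟶ X a closed subspace of finite presentation (its
ideal is of finite type), and let b : X' ⟶ X be the blowing up of X in Z, characterised by its
universal property: the inverse image of Z under b is an effective Cartier divisor (one-chart sense)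
and every morphism from an algebraic space to X under which the inverse image of Z is an effective
Cartier divisor factors uniquely through b. Then b is a proper morphism. -/
theorem result {S : Scheme.{u}} (X X' Z : AlgSp.Space S)
    (i : Z ⟶ X) (hi : AlgSp.RepWith (@IsClosedImmersion ⊓ @LocallyOfFinitePresentation) i.hom)
    (b : X' ⟶ X) (hb : AlgSp.IsBlowUpSp b.hom i.hom) :
    AlgSp.IsProperMor b.hom := by
  obtain ⟨V, φ, hφ, hφ'⟩ := X.property.atlas
  have hi' : AlgSp.RepWith @IsClosedImmersion i.hom := ⟨hi.1, fun _ _ g fst snd sq => (hi.2 g fst snd sq).1⟩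
  have hft : BlowUp.IsFiniteTypeIdeal (K647.Idl.idl hi' φ) := by
    have sq := hi'.1.isPullback φ
    have h1 := hi.2 _ _ _ sq
    have : IsClosedImmersion (hi'.1.snd φ).left := h1.1
    have : LocallyOfFinitePresentation (hi'.1.snd φ).left := h1.2
    exact Groth.Agent.Sga5.H855.Geom.isFiniteTypeIdeal_ker (hi'.1.snd φ).left
  obtain ⟨B, b₀, hb₀⟩ := Groth.Agent.Flat2C.BlowExist.exists_isBlowUp (K647.Idl.idl hi' φ)
  have hprop : IsProper b₀ := Groth.Agent.Flat2C.BlowProper.isProper_of_isBlowUp hb₀ hft
  let B' : Over S := Over.mk (b₀ ≫ V.hom)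
  let b₁ : B' ⟶ V := Over.homMk b₀ rfl
  have : IsProper b₁.left := hprop
  obtain ⟨c, sq⟩ := K647.BlowUpSp.exists_isPullback hi' φ X.property X'.property hb hφ (b₀ := b₁) hb₀
  exact K647.Proper.isProperMor_of_cover X'.property X.property hφ hφ' sq (K647.Proper.isProperMor_yon_map b₁)

end Groth.Agent.S10807
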