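import Groth.Statements.S14315
import Groth.Agent.S2156
import Groth.Agent.Smoothlim.SmoothLocusBC
import Groth.Agent.VarietyA.RegSmoothSch
import Groth.Agent.EtpbcA.CharPDim
import Groth.Agent.Surf.K456.FlatCurve
import Mathlib.AlgebraicGeometry.Morphisms.Etale

set_option autoImplicit false
universe u
open CategoryTheory CategoryTheory.Limits AlgebraicGeometry TopologicalSpace
open Surf

namespace Groth.Agent.S14315

theorem mem_comp {X Y Z : Scheme.{u}} (f : X ⟶ Y) (g : Y ⟶ Z) [LocallyOfFinitePresentation f]
    [LocallyOfFinitePresentation g] [LocallyOfFinitePresentation (f ≫ g)] (x : X)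
    (hf : x ∈ f.smoothLocus) (hg : f x ∈ g.smoothLocus) : x ∈ (f ≫ g).smoothLocus := by
  rw [Scheme.Hom.mem_smoothLocus] at hf hg ⊢
  rw [Scheme.Hom.stalkMap_comp]
  exact RingHom.FormallySmooth.comp hg hf

theorem mem_congr {X Y : Scheme.{u}} {f g : X ⟶ Y} (e : f = g) [LocallyOfFinitePresentation f]
    [LocallyOfFinitePresentation g] (x : X) (h : x ∈ f.smoothLocus) : x ∈ g.smoothLocus := by
  subst e
  exact h

/-- A finite morphism from a curve has at least two points in its image. -/
theorem nontrivial_range {X Y : Scheme.{u}} [IsIntegral X] (ψ : X ⟶ Y) [IsFinite ψ]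
    (hdim : topologicalKrullDim X = 1) : (Set.range ψ.base).Nontrivial := by
  by_contra hcon
  rw [Set.not_nontrivial_iff] at hcon
  have h : Subsingleton X := ⟨fun a b => by
    have ha : genericPoint X = a := Sga3C.DimTop.eq_of_specializes_of_isIntegralHom ψ _ _
      (genericPoint_specializes a) (hcon ⟨_, rfl⟩ ⟨_, rfl⟩)
    have hb : genericPoint X = b := Sga3C.DimTop.eq_of_specializes_of_isIntegralHom ψ _ _
      (genericPoint_specializes b) (hcon ⟨_, rfl⟩ ⟨_, rfl⟩)
    rw [← ha, ← hb]⟩
  have h2 : topologicalKrullDim X ≤ 0 := by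
    have : Subsingleton (IrreducibleCloseds X) := ⟨fun A B => by
      apply IrreducibleCloseds.ext
      have key : ∀ A : IrreducibleCloseds X, (A : Set X) = Set.univ := fun A => by
        obtain ⟨a, ha⟩ := A.isIrreducible.nonempty
        ext z
        simp only [Set.mem_univ, iff_true]
        rwa [Subsingleton.elim z a]
      rw [key A, key B]⟩
    exact Order.krullDim_nonpos_of_subsingleton
  rw [hdim] at h2
  exact absurd h2 (by decide)

/-- Let k be an algebraically closed field, S a smooth projective surface over k (integral, proper and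
smooth over k, of dimension 2), f : S → C a surjective k-morphism onto a smooth projective curve C
(integral, proper and smooth over k, of dimension 1), and ψ : C' → C a finite k-morphism from
another smooth projective curve C' which is unramified at every point of C' lying over a point of C
whose fibre of f is not smooth. Then S ×_C C' is smooth over k. (The published statement takes ψ
separable and f the chapter's generically smooth semi-stable fibration with connected fibres over an
algebraically closed field of positive characteristic; this row assumes only f surjective and ψ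
finite, over any algebraically closed field.) -/
theorem result (k : Type u) [Field k] [IsAlgClosed k]
    (S : Scheme.{u}) [S.Over (Spec (CommRingCat.of k))] [IsProper (S ↘ (Spec (CommRingCat.of k)))]
    [Smooth (S ↘ (Spec (CommRingCat.of k)))] [IsIntegral S] (hdim : topologicalKrullDim S = 2)
    (C : Scheme.{u}) [C.Over (Spec (CommRingCat.of k))] [IsProper (C ↘ (Spec (CommRingCat.of k)))]
    [Smooth (C ↘ (Spec (CommRingCat.of k)))] [IsIntegral C] (hdimC : topologicalKrullDim C = 1)
    (f : S ⟶ C) [f.IsOver (Spec (CommRingCat.of k))] [Surjective f]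
    (C' : Scheme.{u}) [C'.Over (Spec (CommRingCat.of k))] [IsProper (C' ↘ (Spec (CommRingCat.of k)))]
    [Smooth (C' ↘ (Spec (CommRingCat.of k)))] [IsIntegral C'] (hdimC' : topologicalKrullDim C' = 1)
    (ψ : C' ⟶ C) [ψ.IsOver (Spec (CommRingCat.of k))] [IsFinite ψ]
    (hψ : ∀ c : C', ¬ Smooth (f.fiberToSpecResidueField (ψ.base c)) →
      ∃ U : C'.Opens, c ∈ U ∧ FormallyUnramified (U.ι ≫ ψ)) :
    Smooth (pullback.snd f ψ ≫ (C' ↘ (Spec (CommRingCat.of k)))) := by
  have hcp : pullback.fst f ψ ≫ (S ↘ (Spec (CommRingCat.of k))) =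
      pullback.snd f ψ ≫ (C' ↘ (Spec (CommRingCat.of k))) := by
    rw [← comp_over f (Spec (CommRingCat.of k)), ← comp_over ψ (Spec (CommRingCat.of k)),
      pullback.condition_assoc]
  have hCn : IsLocallyNoetherian C :=
    LocallyOfFiniteType.isLocallyNoetherian (C ↘ (Spec (CommRingCat.of k)))
  have hft : LocallyOfFiniteType f := by
    have : LocallyOfFiniteType (f ≫ (C ↘ (Spec (CommRingCat.of k)))) := by
      rw [comp_over]; infer_instance
    exact locallyOfFiniteType_of_comp f (C ↘ (Spec (CommRingCat.of k)))
  have hψft : LocallyOfFiniteType ψ := inferInstance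
  have hf : LocallyOfFinitePresentation f := LocallyOfFinitePresentation.iff_locallyOfFiniteType.2 hft
  have hψf : LocallyOfFinitePresentation ψ := LocallyOfFinitePresentation.iff_locallyOfFiniteType.2 hψft
  have hregC : ∀ c : C, IsRegularLocalRing (C.presheaf.stalk c) := fun c =>
    VarietyA.RegSmoothSch.isRegularLocalRing_stalk_of_mem_smoothLocus (C ↘ (Spec (CommRingCat.of k))) c
      (by rw [Scheme.Hom.smoothLocus_eq_top]; trivial)
  have hqf : QuasiCompact f := by
    have : QuasiCompact (f ≫ (C ↘ (Spec (CommRingCat.of k)))) := by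
      rw [comp_over]; infer_instance
    exact QuasiCompact.of_comp f (C ↘ (Spec (CommRingCat.of k)))
  have hflat : Flat f := K456.FlatCurve.flat_of_dominant f hregC hdimC.le
  have hdomψ : IsDominant ψ := K456.FlatCurve.isDominant_of_nontrivial ψ hdimC.le
    (nontrivial_range ψ hdimC')
  have hflatψ : Flat ψ := K456.FlatCurve.flat_of_dominant ψ hregC hdimC.le
  have hp : LocallyOfFinitePresentation (pullback.snd f ψ ≫ (C' ↘ (Spec (CommRingCat.of k)))) :=
    inferInstance
  rw [← Scheme.Hom.smoothLocus_eq_top_iff, eq_top_iff]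
  intro z _
  by_cases hc : Smooth (f.fiberToSpecResidueField (ψ.base (pullback.snd f ψ z)))
  · -- the fibre is smooth
    have hx : f (pullback.fst f ψ z) = ψ.base (pullback.snd f ψ z) := by
      rw [← Scheme.Hom.comp_apply, pullback.condition, Scheme.Hom.comp_apply]
    rw [← hx] at hc
    have h1 : pullback.fst f ψ z ∈ f.smoothLocus := by
      rw [S2156.result]
      refine ⟨Flat.stalkMap f _, ?_⟩
      rw [Scheme.Hom.smoothLocus_eq_top]; trivial
    have h2 : z ∈ (pullback.snd f ψ).smoothLocus :=
      (Smoothlim.SmoothLocusBC.mem_smoothLocus_iff_of_isPullback (IsPullback.of_hasPullback f ψ) z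
        (Or.inl (Flat.stalkMap f _))).2 h1
    exact mem_comp _ _ z h2 (by rw [Scheme.Hom.smoothLocus_eq_top]; trivial)
  · -- the cover is unramified
    obtain ⟨U, hcU, hU⟩ := hψ _ hc
    have : Etale (U.ι ≫ ψ) := Etale.of_formallyUnramified_of_flat _
    have h1 : pullback.snd f ψ z ∈ ψ.smoothLocus := by
      have e : U.ι ⁻¹ᵁ ψ.smoothLocus = (U.ι ≫ ψ).smoothLocus := Scheme.Hom.preimage_smoothLocus_eq _ _
      have : (⟨pullback.snd f ψ z, hcU⟩ : U) ∈ U.ι ⁻¹ᵁ ψ.smoothLocus := by
        rw [e, Scheme.Hom.smoothLocus_eq_top (U.ι ≫ ψ)]; trivial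
      exact this
    have h2 : z ∈ (pullback.fst f ψ).smoothLocus :=
      (Smoothlim.SmoothLocusBC.mem_smoothLocus_iff_of_isPullback (IsPullback.of_hasPullback f ψ).flip z
        (Or.inr hflat)).2 h1
    have h3 : z ∈ (pullback.fst f ψ ≫ (S ↘ (Spec (CommRingCat.of k)))).smoothLocus :=
      mem_comp _ _ z h2 (by rw [Scheme.Hom.smoothLocus_eq_top]; trivial)
    exact mem_congr hcp z h3

end Groth.Agent.S14315
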