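import Groth.Statements.S7659
import Groth.Agent.Variety.K421.SpreadIso
import Mathlib.AlgebraicGeometry.Properties
import Mathlib.AlgebraicGeometry.Morphisms.FiniteType

set_option autoImplicit false
universe u
open CategoryTheory CategoryTheory.Limits AlgebraicGeometry
open Variety

namespace Groth.Agent.S7659

/-- On a reduced scheme with finitely many irreducible components, a point `s` has an open neighbourhood all of whose
components pass through `s`; sections over it (or over a smaller neighbourhood) inject into the local ring at `s`. -/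
theorem exists_good_nhd {S : Scheme.{u}} [IsReduced S] (hS : (irreducibleComponents (S : Type u)).Finite) (s : S) :
    ∃ W : S.Opens, ∃ hs : s ∈ W, IsAffineOpen W ∧ Function.Injective (S.presheaf.germ W s hs) := by
  let 𝒵 : Set (Set S) := {Z | Z ∈ irreducibleComponents (S : Type u) ∧ s ∉ Z}
  have hcl : IsClosed (⋃₀ 𝒵) := by
    rw [Set.sUnion_eq_biUnion]
    refine Set.Finite.isClosed_biUnion (hS.subset fun Z hZ => hZ.1) ?_
    intro Z hZ
    exact isClosed_of_mem_irreducibleComponents Z hZ.1
  let O : S.Opens := ⟨(⋃₀ 𝒵)ᶜ, hcl.isOpen_compl⟩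
  have hsO : s ∈ O := by
    change s ∉ ⋃₀ 𝒵
    rintro ⟨Z, hZ, hsZ⟩
    exact hZ.2 hsZ
  obtain ⟨W, hW, hsW, hWO⟩ := exists_isAffineOpen_mem_and_subset hsO
  refine ⟨W, hsW, hW, ?_⟩
  rw [injective_iff_map_eq_zero]
  intro x hx
  rw [← basicOpen_eq_bot_iff, eq_bot_iff]
  intro z hz
  exfalso
  have hzW : z ∈ W := S.basicOpen_le x hz
  let Z := irreducibleComponent (z : S)
  have hZ : Z ∈ irreducibleComponents (S : Type u) := irreducibleComponent_mem_irreducibleComponents z
  have hsZ : s ∈ Z := by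
    by_contra hcon
    exact hWO hzW ⟨Z, ⟨hZ, hcon⟩, mem_irreducibleComponent⟩
  obtain ⟨ζ, hζ⟩ := QuasiSober.sober (isIrreducible_irreducibleComponent (x := z)) isClosed_irreducibleComponent
  have h1 : ζ ⤳ z := by
    rw [specializes_iff_mem_closure, hζ.def]
    exact mem_irreducibleComponent
  have h2 : ζ ⤳ s := by
    rw [specializes_iff_mem_closure, hζ.def]
    exact hsZ
  have h3 : ζ ∈ S.basicOpen x := h1.mem_open (S.basicOpen x).isOpen hz
  have hζW : ζ ∈ W := S.basicOpen_le x h3
  have h4 : IsUnit (S.presheaf.germ W ζ hζW x) := (Scheme.mem_basicOpen S x ζ hζW).mp h3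
  have h5 : S.presheaf.germ W ζ hζW x = 0 := by
    rw [← TopCat.Presheaf.germ_stalkSpecializes_apply S.presheaf hsW h2]
    exact (congrArg _ hx).trans (map_zero _)
  rw [h5] at h4
  exact not_isUnit_zero h4

/-- Let f : X → S be a morphism of schemes and x a point with image s such that O_{S,s} → O_{X,x} is an
isomorphism, S is reduced with finitely many irreducible components, and f is locally of finite
type. Then f restricted to some open neighbourhood of x is an open immersion. (The published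
statement assumes f of finite type; this row assumes only that f is locally of finite type.) -/
theorem result {X S : Scheme.{u}} (f : X ⟶ S)
    [LocallyOfFiniteType f] [IsReduced S] (hS : (irreducibleComponents (S : Type u)).Finite)
    (x : X) (hx : IsIso (f.stalkMap x)) :
    ∃ U : X.Opens, x ∈ U ∧ IsOpenImmersion (U.ι ≫ f) := by
  obtain ⟨W, hsW, hW, hinj⟩ := exists_good_nhd hS (f x)
  obtain ⟨V, hV, hxV, hVW⟩ := exists_isAffineOpen_mem_and_subset (x := x) (U := f ⁻¹ᵁ W) hsW
  have e : V ≤ f ⁻¹ᵁ W := hVW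
  -- the algebra structures
  let algAB : Algebra Γ(S, W) Γ(X, V) := (f.appLE W V e).hom.toAlgebra
  let algBC : Algebra Γ(X, V) (X.presheaf.stalk x) := X.presheaf.algebra_section_stalk ⟨x, hxV⟩
  let algAC : Algebra Γ(S, W) (X.presheaf.stalk x) :=
    ((X.presheaf.germ V x hxV).hom.comp (f.appLE W V e).hom).toAlgebra
  have tower : IsScalarTower Γ(S, W) Γ(X, V) (X.presheaf.stalk x) := IsScalarTower.of_algebraMap_eq fun _ => rfl
  have hft : Algebra.FiniteType Γ(S, W) Γ(X, V) := f.finiteType_appLE hW hV e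
  let algAS : Algebra Γ(S, W) (S.presheaf.stalk (f x)) := S.presheaf.algebra_section_stalk ⟨f x, hsW⟩
  have hlocS : IsLocalization.AtPrime (S.presheaf.stalk (f x)) (hW.primeIdealOf ⟨f x, hsW⟩).asIdeal :=
    hW.isLocalization_stalk ⟨f x, hsW⟩
  have hlocX : IsLocalization.AtPrime (X.presheaf.stalk x) (hV.primeIdealOf ⟨x, hxV⟩).asIdeal :=
    hV.isLocalization_stalk ⟨x, hxV⟩
  have hcomm : ∀ a, f.stalkMap x (S.presheaf.germ W (f x) hsW a) =
      X.presheaf.germ V x hxV (f.appLE W V e a) := by
    intro a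
    rw [Scheme.Hom.germ_stalkMap_apply]
    rw [Scheme.Hom.appLE]
    simp
  let ε : S.presheaf.stalk (f x) ≃ₐ[Γ(S, W)] X.presheaf.stalk x :=
    AlgEquiv.ofRingEquiv (f := (asIso (f.stalkMap x)).commRingCatIsoToRingEquiv) hcomm
  have hlocC : IsLocalization.AtPrime (X.presheaf.stalk x) (hW.primeIdealOf ⟨f x, hsW⟩).asIdeal :=
    IsLocalization.isLocalization_of_algEquiv _ ε
  have hinj' : Function.Injective (algebraMap Γ(S, W) (X.presheaf.stalk x)) := by
    intro a b hab
    apply hinj
    apply (asIso (f.stalkMap x)).commRingCatIsoToRingEquiv.injective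
    exact (hcomm a).trans (hab.trans (hcomm b).symm)
  have hpq : (hW.primeIdealOf ⟨f x, hsW⟩).asIdeal =
      (hV.primeIdealOf ⟨x, hxV⟩).asIdeal.comap (algebraMap Γ(S, W) Γ(X, V)) :=
    congrArg PrimeSpectrum.asIdeal (IsAffineOpen.comap_primeIdealOf_appLE W hW V hV e hxV).symm
  obtain ⟨a, h, hh, hloc⟩ := K421.SpreadIso.exists_isLocalization_away
    (A := Γ(S, W)) (B := Γ(X, V)) (hV.primeIdealOf ⟨x, hxV⟩).asIdeal
    (hW.primeIdealOf ⟨f x, hsW⟩).asIdeal hpq (X.presheaf.stalk x) hinj'
  have hxU : x ∈ X.basicOpen h := by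
    rw [Scheme.mem_basicOpen X h x hxV]
    exact IsLocalization.map_units (X.presheaf.stalk x) (⟨h, hh⟩ : (hV.primeIdealOf ⟨x, hxV⟩).asIdeal.primeCompl)
  refine ⟨X.basicOpen h, hxU, ?_⟩
  have hU : IsAffineOpen (X.basicOpen h) := hV.basicOpen h
  have eU : X.basicOpen h ≤ f ⁻¹ᵁ W := (X.basicOpen_le h).trans e
  have hlocU : IsLocalization.Away h Γ(X, X.basicOpen h) := hV.isLocalization_basicOpen h
  let algAU : Algebra Γ(S, W) Γ(X, X.basicOpen h) := (f.appLE W (X.basicOpen h) eU).hom.toAlgebra
  have tower' : IsScalarTower Γ(S, W) Γ(X, V) Γ(X, X.basicOpen h) := by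
    refine IsScalarTower.of_algebraMap_eq fun a => ?_
    have := Scheme.Hom.appLE_map f e (homOfLE (X.basicOpen_le h)).op
    exact (congrArg (fun g => g a) (congrArg CommRingCat.Hom.hom this)).symm
  let ε' : Localization.Away h ≃ₐ[Γ(S, W)] Γ(X, X.basicOpen h) :=
    (IsLocalization.algEquiv (Submonoid.powers h) (Localization.Away h) Γ(X, X.basicOpen h)).restrictScalars _
  have hlocAU : IsLocalization.Away a Γ(X, X.basicOpen h) :=
    IsLocalization.isLocalization_of_algEquiv _ ε'
  have hopen : IsOpenImmersion (Spec.map (f.appLE W (X.basicOpen h) eU)) :=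
    IsOpenImmersion.of_isLocalization (R := Γ(S, W)) (S := Γ(X, X.basicOpen h)) a
  have hfac : (X.basicOpen h).ι ≫ f = hU.isoSpec.hom ≫ Spec.map (f.appLE W (X.basicOpen h) eU) ≫ hW.fromSpec := by
    rw [IsAffineOpen.SpecMap_appLE_fromSpec f hW hU eU, ← Category.assoc]
    congr 1
    rw [IsAffineOpen.fromSpec, ← Category.assoc]
    simp
  rw [hfac]
  infer_instance

end Groth.Agent.S7659
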