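import Groth.Statements.S10352
import Groth.Agent.AlgSp.K618.QCPoint
import Groth.Agent.AlgSp.K618.ClosedPt
import Groth.Agent.S10361

set_option autoImplicit false
universe u
open CategoryTheory CategoryTheory.Limits AlgebraicGeometry Topology TopologicalSpace
open AlgSp

namespace Groth.Agent.S10352

/-- Let S be a scheme, X and Y algebraic spaces over S, and f : X ⟶ Y an etale morphism. If Y is decent
then X is decent. -/
theorem result {S : Scheme.{u}} {X Y : AlgSp.Space S} (f : X ⟶ Y)
    (hf : AlgSp.IsEtaleMor f.hom) (hY : AlgSp.IsDecent Y.obj) : AlgSp.IsDecent X.obj := by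
  intro x
  obtain ⟨q, rfl⟩ := AlgSp.Points.mk_surjective x
  obtain ⟨p, hp, hm, hqc⟩ := hY (AlgSp.Points.mk (q.map f.hom))
  have h1 := K618.ClosedPt.quasiCompact_of_mono p (q.map f.hom) hm hqc hp.symm
  rw [AlgSp.FieldPt.toHom_map] at h1
  exact Groth.Agent.S10361.result X q (K618.QCPoint.repWith_quasiCompact_of_etale X.property f.hom hf q h1)

end Groth.Agent.S10352
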