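import Groth.Statements.S10398
import Groth.Agent.AlgSp.K621.GenFinSp
import Groth.Agent.AlgSp.K621.Generic
import Groth.Agent.AlgSp.K609.QC
import Groth.Agent.AlgSp.K596.QC

set_option autoImplicit false
universe u
open CategoryTheory CategoryTheory.Limits AlgebraicGeometry Topology TopologicalSpace
open AlgSp

namespace Groth.Agent.S10398

open K621 K621.Base K621.SchemeEt K621.GenFin K621.GenFinSp K621.QFin K621.Generic

/-- (2) ⇒ (3): let S be a scheme, X and Y algebraic spaces over S, and f : X ⟶ Y a quasi-separated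
morphism of finite type, and let y ∈ |Y| be a codimension 0 point of Y. Suppose that at every point
of |X| lying over y the morphism f is quasi-finite. Then there is an open subspace Y' ⊆ Y containing
y for which the morphism Y' ×_Y X ⟶ Y' is finite. -/
theorem result {S : Scheme.{u}} {X Y : AlgSp.Space S} (f : X ⟶ Y)
    (hqs : AlgSp.IsQuasiSeparatedMor f.hom) (hft : AlgSp.IsFiniteTypeMor f.hom) (y : AlgSp.Points Y.obj)
    (hy : AlgSp.HasAt (fun U u => ringKrullDim ↥(U.presheaf.stalk u) = 0) Y.obj y)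
    (hqf : ∀ x : AlgSp.Points X.obj, AlgSp.Points.map f.hom x = y → AlgSp.HasAtMor (fun U _ h u => ∃ W : U.Opens, u ∈ W ∧ LocallyQuasiFinite (W.ι ≫ h) ∧ LocallyOfFiniteType (W.ι ≫ h)) f.hom x) :
    ∃ (Y' X' : AlgSp.Space S) (j : Y' ⟶ Y) (fst : X' ⟶ Y') (snd : X' ⟶ X), AlgSp.RepWith @IsOpenImmersion j.hom ∧
      y ∈ Set.range (AlgSp.Points.map j.hom) ∧ IsPullback fst.hom snd.hom j.hom f.hom ∧
      AlgSp.IsFiniteMor fst.hom := by
  have hX := X.property
  have hY := Y.property
  -- an affine chart of `Y`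
  obtain ⟨V₀, b₀, v₀, hb₀, rfl⟩ := exists_chart hY y
  obtain ⟨W₀, hvW₀, -, hW₀a⟩ := exists_affine_openChart v₀ ⊤ trivial
  let V := openChart V₀ W₀
  let b : (yon S).obj V ⟶ Y.obj := (yon S).map (openChartι V₀ W₀) ≫ b₀
  have hb : RepWith @Etale b := repWith_openChart hb₀ W₀
  let v : ↥V.left := ⟨v₀, hvW₀⟩
  have hbv : Points.ofPt b v = Points.ofPt b₀ v₀ := ofPt_openChart b₀ W₀ v
  have hVa : IsAffine V.left := hW₀a
  rw [← hbv] at hy hqf
  have hmin : QFin.Min v := fun v' hv' => CodimZero.chart hY hb hy hv'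
  -- the base change
  let F := pullback f.hom b
  let φ : F ⟶ X.obj := pullback.fst f.hom b
  let g : F ⟶ (yon S).obj V := pullback.snd f.hom b
  have sqF : IsPullback φ g f.hom b := IsPullback.of_hasPullback _ _
  have hF : IsAlgSpace F := K613.Chart.isAlgSpace_pullback hX (IsAlgSpace.yon_obj V) hY _ _
  have hφ : RepWith @Etale φ := repWith_baseChange sqF.flip hb
  have hg : LocP @LocallyOfFiniteType g := locP_of_isPullback sqF hb hft.1
  have hgqs : RepWith @QuasiCompact (pullback.diagonal g) := K613.Diag.repWith_diagonal_of_isPullback hqs sqF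
  obtain ⟨U, q, hUa, hqe, hqs⟩ := K609.QC.exists_affine_chart
    (hft.2 (IsAlgSpace.yon_obj V) (K596.QC.isQuasiCompactSp_yon V) b φ g sqF)
  obtain ⟨h, hh⟩ := (yon S).map_surjective (q ≫ g)
  obtain ⟨R, t, s, sq⟩ := exists_pullback hF q q
  have hlft : LocallyOfFiniteType h.left := by
    refine hg q (𝟙 _) h hqe (repWith_id _ _) ?_
    rw [hh, Category.comp_id]
  have hdiag : (q ≫ φ) ≫ f.hom = (yon S).map h ≫ b := by rw [hh, Category.assoc, Category.assoc, sqF.w]
  have hqφ : RepWith @Etale (q ≫ φ) := repWith_etale_comp hqe hφ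
  have hquasi : ∀ x : ↥U.left, h.left x = v → h.left.QuasiFiniteAt x := by
    intro x hx
    have h1 := hqf (Points.ofPt (q ≫ φ) x) (by rw [Points.map_ofPt, hdiag, ofPt_comp, hx])
    exact (qf_iff _ _).1 ((K616.Inv.hasAtMor_iff etInvOn_qf hft.1 (q ≫ φ) b h hqφ hb hdiag x).1 h1)
  have hqc : QuasiCompact h.left := inferInstance
  obtain ⟨W₁, hW₁, H₁⟩ := exists_isFinite h.left hmin hquasi
  -- the relation
  have hse : Etale s.left := hqe.2 _ _ _ sq
  have hst : t ≫ h = s ≫ h := by
    apply (yon S).map_injective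
    rw [Functor.map_comp, Functor.map_comp, hh, ← Category.assoc, ← Category.assoc, sq.w]
  have hsqc : QuasiCompact s.left := by
    have h1 : RepWith @QuasiCompact (q ≫ g) := by
      rw [← hh]
      exact (repWith_yon_map_iff _ _).2 hqc
    exact (K613.Diag.repWith_of_comp h1 hgqs).2 _ _ _ sq
  have hRlft : LocallyOfFiniteType (s ≫ h).left := inferInstanceAs (LocallyOfFiniteType (s.left ≫ h.left))
  have hRqc : QuasiCompact (s ≫ h).left := inferInstanceAs (QuasiCompact (s.left ≫ h.left))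
  have hRsep : IsSeparated (s ≫ h).left := K621.QuotFin.isSeparated_rel sq hst
  obtain ⟨W₂, hW₂, H₂⟩ := exists_isFinite (s ≫ h).left hmin (fun x hx =>
    (quasiFiniteAt_etale_comp s.left h.left x).2 (hquasi _ hx))
  obtain ⟨W, hvW, hWa, hW⟩ := exists_repWith_finite hF hg hqe hqs sq hh.symm hW₁ H₁ hW₂ H₂
  -- conclusion
  let b' : (yon S).obj (openChart V W) ⟶ Y.obj := (yon S).map (openChartι V W) ≫ b
  have hb' : RepWith @Etale b' := repWith_openChart hb W
  let F' := pullback g ((yon S).map (openChartι V W))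
  have sqF' : IsPullback (pullback.fst g ((yon S).map (openChartι V W))) (pullback.snd g ((yon S).map (openChartι V W)))
    g ((yon S).map (openChartι V W)) := IsPullback.of_hasPullback _ _
  obtain ⟨Y', X', j, fst, snd, hj, hr, sqX, hfin⟩ := exists_finite_over f (ι := Unit) (V := fun _ => openChart V W)
    (b := fun _ => b') (fun _ => hb') (fun _ => sqF'.paste_horiz sqF) (fun _ => hW sqF')
  refine ⟨Y', X', j, fst, snd, hj, ?_, sqX, hfin⟩
  rw [hr]
  refine Set.mem_iUnion.2 ⟨(), ⟨v, hvW⟩, ?_⟩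
  exact (ofPt_openChart b W ⟨v, hvW⟩).trans hbv

end Groth.Agent.S10398
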