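import Groth.Statements.S10423
import Groth.Agent.AlgSp.K623.QSep
import Groth.Agent.S10360

set_option autoImplicit false
universe u
open CategoryTheory CategoryTheory.Limits AlgebraicGeometry Topology TopologicalSpace
open AlgSp

namespace Groth.Agent.S10423

/-- A morphism of algebraic spaces over a scheme S which is representable, or which is quasi-separated,
is decent (all its base changes to schemes are decent algebraic spaces). The implications through
reasonable and very reasonable morphisms are not part of this row. -/
theorem result {S : Scheme.{u}} {X Y : AlgSp.Space S} (f : X ⟶ Y) :
    (AlgSp.Representable f.hom → AlgSp.IsDecentMor f.hom) ∧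
      (AlgSp.IsQuasiSeparatedMor f.hom → AlgSp.IsDecentMor f.hom) := by
  exact ⟨fun h => K623.QSep.isDecentMor_of_representable f.hom h,
    fun h => K623.QSep.isDecentMor_of_qs X.property Y.property f.hom h
      fun P hP hfin x => (Groth.Agent.S10360.result (X := ⟨P, hP⟩) x).1 (hfin x)⟩


end Groth.Agent.S10423
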