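import Groth.Statements.S10496
import Groth.Agent.AlgSp.K598.Red
import Groth.Agent.AlgSp.K620.Dec
import Groth.Agent.AlgSp.K610.OpenImm

set_option autoImplicit false
universe u
open CategoryTheory CategoryTheory.Limits AlgebraicGeometry Topology TopologicalSpace
open AlgSp

namespace Groth.Agent.S10496

/-- Let X be a decent algebraic space over a scheme S. For every irreducible closed subset T of |X|
there is an integral closed subspace Z of X with |Z| = T. -/
theorem result {S : Scheme.{u}} (X : AlgSp.Space S)
    (hX : AlgSp.IsDecent X.obj) (T : Set (AlgSp.Points X.obj)) (hT : IsClosed T) (hTi : IsIrreducible T) :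
    ∃ (Z : AlgSp.Space S) (i : Z ⟶ X), AlgSp.RepWith @IsClosedImmersion i.hom ∧ AlgSp.IsIntegralSp Z.obj ∧
      Set.range (AlgSp.Points.map i.hom) = T := by
  obtain ⟨Z, i, hZ, hi, hr, hred⟩ := K598.Red.exists_isRedInduced X.property T hT
  refine ⟨⟨Z, hZ⟩, ⟨i⟩, hi, ⟨hred, K620.Dec.isDecent_of_representable i hi.1 hX, ?_⟩, hr⟩
  have he := (K610.OpenImm.isEmbedding_points X.property
    (K610.OpenImm.repWith_isImmersion_of_closed hi)).1
  have hirr : IrreducibleSpace ↥(Set.range (Points.map i)) := by
    rw [hr]
    exact Subtype.irreducibleSpace hTi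
  have h1 : IsIrreducible (Set.univ : Set (Points Z)) := by
    rw [← he.toHomeomorph.symm.surjective.range_eq, ← Set.image_univ]
    exact (IrreducibleSpace.isIrreducible_univ _).image _
      he.toHomeomorph.symm.continuous.continuousOn
  exact { toPreirreducibleSpace := ⟨h1.2⟩, toNonempty := h1.1.to_type }

end Groth.Agent.S10496
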