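import Groth.Statements.S10400
import Groth.Agent.AlgSp.K621.NearFinDec
import Groth.Agent.AlgSp.K596.QC

set_option autoImplicit false
universe u
open CategoryTheory CategoryTheory.Limits AlgebraicGeometry Topology TopologicalSpace
open AlgSp

namespace Groth.Agent.S10400

open K621 K621.Base K621.SchemeEt K621.GenFin K621.GenFinSp K621.QFin K621.Generic K621.NearFin

/-- Let f : X ⟶ Y be a morphism locally of finite type of algebraic spaces over a scheme S with Y
decent. Assume the codimension 0 points of X and of Y form finite sets, that a point of X has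
codimension 0 exactly when its image does, and that f is quasi-compact or separated. Then there is a
dense open subspace V ⊆ Y with f⁻¹(V) ⟶ V finite. -/
theorem result {S : Scheme.{u}} {X Y : AlgSp.Space S} (f : X ⟶ Y)
    (hf : AlgSp.LocP @LocallyOfFiniteType f.hom) (hY : AlgSp.IsDecent Y.obj)
    (hX0 : {x : AlgSp.Points X.obj | AlgSp.HasAt (fun U u => ringKrullDim ↥(U.presheaf.stalk u) = 0) X.obj x}.Finite)
    (hY0 : {y : AlgSp.Points Y.obj | AlgSp.HasAt (fun U u => ringKrullDim ↥(U.presheaf.stalk u) = 0) Y.obj y}.Finite)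
    (hpre : ∀ x : AlgSp.Points X.obj, AlgSp.HasAt (fun U u => ringKrullDim ↥(U.presheaf.stalk u) = 0) X.obj x ↔ AlgSp.HasAt (fun U u => ringKrullDim ↥(U.presheaf.stalk u) = 0) Y.obj (AlgSp.Points.map f.hom x))
    (hqs : AlgSp.IsQuasiCompactMor f.hom ∨ AlgSp.IsSeparatedMor f.hom) :
    ∃ (V X' : AlgSp.Space S) (j : V ⟶ Y) (fst : X' ⟶ V) (snd : X' ⟶ X), AlgSp.RepWith @IsOpenImmersion j.hom ∧
      Dense (Set.range (AlgSp.Points.map j.hom)) ∧ IsPullback fst.hom snd.hom j.hom f.hom ∧
      AlgSp.IsFiniteMor fst.hom := by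
  have hX := X.property
  have hYa := Y.property
  -- local statement
  have key : ∀ y : {y : Points Y.obj // CodimZero Y.obj y}, ∃ (V : Over S) (b : (yon S).obj V ⟶ Y.obj)
      (F : Sp S) (φ : F ⟶ X.obj) (g : F ⟶ (yon S).obj V), RepWith @Etale b ∧ y.1 ∈ Set.range (Points.ofPt b) ∧
        IsPullback φ g f.hom b ∧ RepWith @IsFinite g := by
    rintro ⟨y, hy⟩
    obtain ⟨V, b, v, hVa, hb, rfl, hmin, hmin'⟩ := exists_chart_min hYa hY hY0 hy
    let F := pullback f.hom b
    let φ : F ⟶ X.obj := pullback.fst f.hom b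
    let g : F ⟶ (yon S).obj V := pullback.snd f.hom b
    have sqF : IsPullback φ g f.hom b := IsPullback.of_hasPullback _ _
    have hF : IsAlgSpace F := K613.Chart.isAlgSpace_pullback hX (IsAlgSpace.yon_obj V) hYa _ _
    have hφ : RepWith @Etale φ := repWith_baseChange sqF.flip hb
    have hg : LocP @LocallyOfFiniteType g := locP_of_isPullback sqF hb hf
    have hdiag : ∀ {U : Over S} {q : (yon S).obj U ⟶ F} {h : U ⟶ V}, q ≫ g = (yon S).map h →
        (q ≫ φ) ≫ f.hom = (yon S).map h ≫ b := by
      intro U q h hh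
      rw [← hh, Category.assoc, Category.assoc, sqF.w]
    have hmap : ∀ {U : Over S} {q : (yon S).obj U ⟶ F} {h : U ⟶ V}, q ≫ g = (yon S).map h →
        ∀ x : ↥U.left, Points.map f.hom (Points.ofPt (q ≫ φ) x) = Points.ofPt b (h.left x) := by
      intro U q h hh x
      rw [Points.map_ofPt, hdiag hh, ofPt_comp]
    have hminO : MinOver g v := by
      intro U q h x hq hh hx
      refine hmin' _ ((codimZero_iff hYa hb).1 ?_)
      have h1 : CodimZero X.obj (Points.ofPt (q ≫ φ) x) := (codimZero_iff hX (repWith_etale_comp hq hφ)).2 hx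
      have h2 := (hpre _).1 h1
      rwa [hmap hh] at h2
    have hqf : QFOver g v := by
      intro U q h x hq hh hx
      have hlft : LocallyOfFiniteType h.left := lft_chart hg hq hh
      refine quasiFiniteAt_of_min h.left ?_
      intro x' hx' x'' hx'' hs
      refine (codimZero_iff hX (repWith_etale_comp hq hφ)).1 ?_ x'' hs
      refine (hpre _).2 ?_
      rw [hmap hh, hx', hx]
      exact hy
    have hnear : NearFinite g v := by
      rcases hqs with hqc | hsep
      · have hFc : IsQuasiCompactSp F := hqc (IsAlgSpace.yon_obj V) (K596.QC.isQuasiCompactSp_yon V) b φ g sqF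
        exact nearFinite_of_qc_min hF hFc hg hmin hqf hminO
      · have hsep' : RepWith @IsClosedImmersion (pullback.diagonal g) :=
          K613.Diag.repWith_diagonal_of_isPullback hsep sqF
        refine nearFinite_of_sep hF hg hsep' hmin hqf hminO ?_
        have h1 : (Points.map φ ⁻¹' {x | CodimZero X.obj x}).Finite :=
          hX0.preimage' fun x _ => finite_fibre_baseChange hY hb sqF x
        refine h1.subset ?_
        intro z hz
        refine (hpre _).2 ?_
        have h2 : Points.map f.hom (Points.map φ z) = Points.ofPt b v := by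
          rw [← Points.map_comp, sqF.w, Points.map_comp, hz, ← Points.ofPt_eq_map_ofScheme]
        rw [h2]
        exact hy
    obtain ⟨W, hvW, hWa, hW⟩ := hnear
    have sqF' : IsPullback (pullback.fst g ((yon S).map (openChartι V W)))
      (pullback.snd g ((yon S).map (openChartι V W))) g ((yon S).map (openChartι V W)) := IsPullback.of_hasPullback _ _
    exact ⟨openChart V W, (yon S).map (openChartι V W) ≫ b, _, _, _, repWith_openChart hb W,
      ⟨⟨v, hvW⟩, ofPt_openChart b W ⟨v, hvW⟩⟩, sqF'.paste_horiz sqF, hW sqF'⟩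
  choose V b F φ g hb hy sq hfin using key
  obtain ⟨Y', X', j, fst, snd, hj, hr, sqX, hfin⟩ := exists_finite_over f hb sq hfin
  refine ⟨Y', X', j, fst, snd, hj, ?_, sqX, hfin⟩
  rw [hr]
  refine dense_codimZero hYa fun y hy' => ?_
  exact Set.mem_iUnion.2 ⟨⟨y, hy'⟩, hy ⟨y, hy'⟩⟩

end Groth.Agent.S10400
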