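import Groth.Statements.S10733
import Groth.Agent.AlgSp.K642.WeakChow
import Groth.Agent.AlgSp.K597.Proper
import Groth.Agent.AlgSp.K609.QC

set_option autoImplicit false
universe u
open CategoryTheory CategoryTheory.Limits AlgebraicGeometry Opposite
open AlgSp

namespace Groth.Agent.S10733

theorem isSeparatedSp {S : Scheme.{u}} {X : Sp S} (p : X ⟶ (AlgSp.yon S).obj (Over.mk (𝟙 S)))
    (hsep : AlgSp.IsSeparatedMor p) : IsSeparatedSp X := by
  unfold IsSeparatedSp
  unfold IsSeparatedMor at hsep
  rw [K613.Diag.repWith_diagonal_iff] at hsep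
  rw [K613.Chart.repWith_diag_iff]
  intro T a b
  refine hsep T a b ?_
  obtain ⟨x, hx⟩ := (yon S).map_surjective (a ≫ p)
  obtain ⟨y, hy⟩ := (yon S).map_surjective (b ≫ p)
  rw [← hx, ← hy, Over.mkIdTerminal.hom_ext x y]

/-- Let S be an affine scheme and X an algebraic space over S whose structure morphism p to h_S (S over
itself by the identity) is separated and of finite type. Then there are a scheme X' over S whose
structure morphism X' ⟶ S is H-quasi-projective (a quasi-compact immersion into some projective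
space over S) and a proper surjective morphism h_{X'} ⟶ X. -/
theorem result {S : Scheme.{u}} [IsAffine S] (X : AlgSp.Space S)
    (p : X.obj ⟶ (AlgSp.yon S).obj (Over.mk (𝟙 S)))
    (hsep : AlgSp.IsSeparatedMor p) (hft : AlgSp.IsFiniteTypeMor p) :
    ∃ (T : Over S) (g : (AlgSp.yon S).obj T ⟶ X.obj),
      RelProj.IsHQuasiProjective T.hom ∧ AlgSp.IsProperMor g ∧ AlgSp.IsSurjectiveMor g := by
  have hX := isSeparatedSp p hsep
  have hqc : IsQuasiCompactSp X.obj := hft.2 (Z := (yon S).obj (Over.mk (𝟙 S))) (IsAlgSpace.yon_obj _)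
    ⟨Over.mk (𝟙 S), 𝟙 _, repWith_id _ _, repWith_id _ _, (inferInstance : CompactSpace S)⟩ (𝟙 _) (𝟙 _) p
    (IsPullback.of_horiz_isIso ⟨by rw [Category.id_comp, Category.comp_id]⟩)
  obtain ⟨W, q, hW, hq, hqs⟩ := K609.QC.exists_affine_chart hqc
  have hlft : LocallyOfFiniteType W.hom := by
    obtain ⟨h, hh⟩ := (yon S).map_surjective (q ≫ p)
    have h1 : LocallyOfFiniteType h.left := hft.1 q (𝟙 _) h hq (repWith_id _ _) (by rw [Category.comp_id, hh])
    have h2 : h.left = W.hom := by
      have := Over.w h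
      rw [← this]
      exact (Category.comp_id _).symm
    rw [← h2]
    exact h1
  obtain ⟨T, g, hT, hg, hs⟩ := K642.WeakChow.exists_weakChow X.property hX hW hlft hq hqs
  exact ⟨T, g, hT, (K597.Proper.isProperMor_iff_repWith X.property hg.1).2 hg, hs⟩

end Groth.Agent.S10733
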