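import Groth.Statements.S10454
import Groth.Agent.S10048
import Groth.Agent.AlgSp.K624.FinQuotSch
import Groth.Agent.AlgSp.K634.FiniteMor
-- import your own Groth.Agent.* helpers here

set_option autoImplicit false
universe u
open CategoryTheory CategoryTheory.Limits AlgebraicGeometry Topology TopologicalSpace
open AlgSp

namespace Groth.Agent.S10454

theorem finCov {S : Scheme.{u}} [QuasiSeparatedSpace S] : K624.CodimOne.FinCov S := by
  intro X hX hqc hqs
  obtain ⟨U, p, hpe, hps⟩ := hX.atlas
  obtain ⟨Z, z, h1, h2, -, -⟩ := Groth.Agent.S10048.result S ⟨X, hX⟩ hqc hqs U p hpe hps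
  have h3 : RepWith @IsFinite z := K634.FiniteMor.isFiniteMor_iff.1 h1
  exact ⟨Z, z, h3, K610.Base.repWith_surjective_of_points h3.1 h2⟩

/-- Let X be a separated, locally Noetherian algebraic space over a separated scheme S and x a point of
X whose local ring has dimension at most 1. Then some open subspace of X containing x is a scheme.
(The published statement allows any base scheme S and takes X separated in the absolute sense; this
row asks S to be separated and X separated over S, which together imply absolute separatedness.) -/
theorem result {S : Scheme.{u}} [S.IsSeparated]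
    (X : AlgSp.Space S) (hsep : AlgSp.IsSeparatedSp X.obj) (hN : AlgSp.IsLocNoethSp X.obj)
    (x : AlgSp.Points X.obj) (hx : AlgSp.HasAt (fun U u => ringKrullDim ↥(U.presheaf.stalk u) ≤ 1) X.obj x) :
    ∃ (X' : AlgSp.Space S) (j : X' ⟶ X), AlgSp.RepWith @IsOpenImmersion j.hom ∧
      X'.obj.obj.IsRepresentable ∧ x ∈ Set.range (AlgSp.Points.map j.hom) :=
  K624.FinQuotSch.main finCov X hsep hN x hx

end Groth.Agent.S10454
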