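import Groth.Statements.S16030
import Mathlib.RingTheory.Ideal.Operations
import Mathlib.RingTheory.Spectrum.Prime.Topology

set_option autoImplicit false
universe u
open CAlg

namespace Groth.Agent.S16030

/-- For a finite set F of points of the spectrum of a commutative ring A and an open subset U containing
F, some basic open D(a) contains F and is contained in U. -/
theorem result
    (A : Type u) [CommRing A] (F : Set (PrimeSpectrum A)) (hF : F.Finite)
    (U : TopologicalSpace.Opens (PrimeSpectrum A)) (hFU : F ⊆ (U : Set (PrimeSpectrum A))) :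
    ∃ a : A, F ⊆ (PrimeSpectrum.basicOpen a : Set (PrimeSpectrum A)) ∧ PrimeSpectrum.basicOpen a ≤ U := by
  rcases F.eq_empty_or_nonempty with rfl | ⟨p₀, -⟩
  · exact ⟨0, Set.empty_subset _, by simp⟩
  obtain ⟨I, hI⟩ := (PrimeSpectrum.isClosed_iff_zeroLocus_ideal _).mp U.isOpen.isClosed_compl
  have h1 : ¬ ((I : Set A) ⊆ ⋃ p ∈ (hF.toFinset : Set (PrimeSpectrum A)), (p.asIdeal : Set A)) := by
    rw [Ideal.subset_union_prime (s := hF.toFinset) (f := fun p => p.asIdeal) p₀ p₀
      (fun p _ _ _ => p.isPrime)]
    rintro ⟨p, hp, hle⟩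
    have : p ∈ PrimeSpectrum.zeroLocus (I : Set A) := hle
    rw [← hI] at this
    exact this (hFU (by simpa using hp))
  obtain ⟨a, haI, ha⟩ := Set.not_subset.mp h1
  refine ⟨a, ?_, ?_⟩
  · intro p hp
    simp only [Set.mem_iUnion, not_exists] at ha
    exact fun h => ha p (by simpa using hp) h
  · intro p hp
    by_contra hpU
    have : p ∈ PrimeSpectrum.zeroLocus (I : Set A) := by rw [← hI]; exact hpU
    exact hp (this haI)

end Groth.Agent.S16030
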