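import Groth.Statements.S7065
import Mathlib.RingTheory.Spectrum.Prime.Topology

set_option autoImplicit false
universe u
open EtGlue

namespace Groth.Agent.S7065

/-- Let R → R' be a homomorphism of commutative rings and f an element of R such that the induced map
R/fR → R'/fR' is bijective. Then Spec(R') ⊔ Spec(R_f) → Spec(R) is surjective: every prime of R is
the contraction of a prime of R' or of a prime of R_f. -/
theorem result {R R' : Type u} [CommRing R] [CommRing R']
    [Algebra R R'] (f : R)
    (hq : Function.Bijective
      (Ideal.quotientMap (Ideal.map (algebraMap R R') (Ideal.span {f})) (algebraMap R R') Ideal.le_comap_map))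
    (p : PrimeSpectrum R) :
    (∃ q : PrimeSpectrum R', PrimeSpectrum.comap (algebraMap R R') q = p) ∨
      ∃ q : PrimeSpectrum (Localization.Away f), PrimeSpectrum.comap (algebraMap R (Localization.Away f)) q = p := by
  by_cases hf : f ∈ p.asIdeal
  · left
    let I : Ideal R := Ideal.span {f}
    let I' : Ideal R' := Ideal.map (algebraMap R R') I
    have hI : I ≤ p.asIdeal := by
      rw [Ideal.span_le, Set.singleton_subset_iff]; exact hf
    let e : (R ⧸ I) ≃+* (R' ⧸ I') := RingEquiv.ofBijective _ hq
    let ψ : R' →+* R ⧸ I := (e.symm : (R' ⧸ I') →+* (R ⧸ I)).comp (Ideal.Quotient.mk I')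
    have hψ : ψ.comp (algebraMap R R') = Ideal.Quotient.mk I := by
      ext r
      show e.symm (Ideal.Quotient.mk I' (algebraMap R R' r)) = Ideal.Quotient.mk I r
      rw [RingEquiv.symm_apply_eq]
      exact (Ideal.quotientMap_mk (f := algebraMap R R') (H := Ideal.le_comap_map)).symm
    obtain ⟨q, hq'⟩ : ∃ q : PrimeSpectrum (R ⧸ I),
        PrimeSpectrum.comap (Ideal.Quotient.mk I) q = p := by
      have := range_comap_of_surjective (R ⧸ I) (Ideal.Quotient.mk I)
        Ideal.Quotient.mk_surjective
      have hp : p ∈ Set.range (PrimeSpectrum.comap (Ideal.Quotient.mk I)) := by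
        rw [this, PrimeSpectrum.mem_zeroLocus, Ideal.mk_ker]
        exact hI
      exact hp
    refine ⟨PrimeSpectrum.comap ψ q, ?_⟩
    rw [← hq', ← hψ, PrimeSpectrum.comap_comp]
    rfl
  · right
    have hr := PrimeSpectrum.localization_away_comap_range (Localization.Away f) f
    have hp : p ∈ Set.range (PrimeSpectrum.comap (algebraMap R (Localization.Away f))) := by
      rw [hr]; exact hf
    exact hp

end Groth.Agent.S7065
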