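import Groth.Statements.S10727
import Groth.Agent.S2000
import Mathlib.RingTheory.Localization.BaseChange
import Mathlib.RingTheory.TensorProduct.Maps

set_option autoImplicit false
universe u
open TensorProduct
open EtAlg

namespace Groth.Agent.S10727

/-- Glueing affine schemes along a glueing pair, stated for their coordinate rings. Let `(R → R', f)` be
a glueing pair, `A₁` an `R`-algebra in which `f` is invertible, `A'` an `R'`-algebra and `φ : A'_f ≅
R' ⊗_R A₁` an isomorphism of `R'`-algebras. Then there is an `R`-algebra `A`, glueable as an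
`R`-module, with isomorphisms `A_f ≅ A₁` of `R`-algebras and `R' ⊗_R A ≅ A'` of `R'`-algebras under
which `φ` is the canonical identification `(R' ⊗_R A)_f = R' ⊗_R A_f`. (The published statement is
that base change is an equivalence between affine schemes over `Spec R` that are glueable and
triples of affine schemes over `Spec R_f`, `Spec R'_f`, `Spec R'` with cartesian squares; this row
states only that every such triple arises, on coordinate rings.) -/
theorem result (R : Type u) [CommRing R] (R' : Type u) [CommRing R'] [Algebra R R']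
    (f : R) (hRR' : EtGlue.IsGlueingPair R R' f) (A₁ : Type u) [CommRing A₁] [Algebra R A₁]
    (h₁ : IsUnit (algebraMap R A₁ f)) (A' : Type u) [CommRing A'] [Algebra R A'] [Algebra R' A']
    [IsScalarTower R R' A'] (φ : Localization.Away (algebraMap R A' f) ≃ₐ[R'] R' ⊗[R] A₁) :
    ∃ (A : Type u) (_ : CommRing A) (_ : Algebra R A) (_ : EtGlue.IsGlueable R R' f A)
      (e₁ : Localization.Away (algebraMap R A f) ≃ₐ[R] A₁) (e' : R' ⊗[R] A ≃ₐ[R'] A'),
      ∀ a : A, φ (algebraMap A' (Localization.Away (algebraMap R A' f)) (e' ((1 : R') ⊗ₜ[R] a))) =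
        (1 : R') ⊗ₜ[R] e₁ (algebraMap A (Localization.Away (algebraMap R A f)) a) := by
  let L := Localization.Away (algebraMap R A' f)
  -- the comparison map
  let α : A' →ₐ[R'] R' ⊗[R] A₁ := φ.toAlgHom.comp (IsScalarTower.toAlgHom R' A' L)
  have hf : Function.Bijective fun x : A₁ => f • x := by
    have : (fun x : A₁ => f • x) = fun x => algebraMap R A₁ f * x := by
      ext x; rw [Algebra.smul_def]
    rw [this]
    exact (Units.mulLeft_bijective h₁.unit)
  have A1 : ∀ x, α x = 0 → ∃ n : ℕ, f ^ n • x = 0 := by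
    intro x hx
    have h1 : algebraMap A' L x = 0 := φ.map_eq_zero_iff.1 hx
    obtain ⟨⟨_, n, rfl⟩, hc⟩ := (IsLocalization.map_eq_zero_iff
      (Submonoid.powers (algebraMap R A' f)) L x).1 h1
    refine ⟨n, ?_⟩
    rw [Algebra.smul_def, map_pow]; exact hc
  have A2 : ∀ p, ∃ (n : ℕ) (x : A'), f ^ n • p = α x := by
    intro p
    obtain ⟨⟨x, ⟨_, n, rfl⟩⟩, hc⟩ := IsLocalization.surj
      (Submonoid.powers (algebraMap R A' f)) (φ.symm p)
    refine ⟨n, x, ?_⟩
    simp only at hc
    have h2 : α x = φ (algebraMap A' L x) := rfl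
    rw [h2, ← hc, map_mul, AlgEquiv.apply_symm_apply, map_pow, map_pow]
    have h3 : φ (algebraMap A' L (algebraMap R A' f)) = algebraMap R (R' ⊗[R] A₁) f := by
      have h4 : algebraMap A' L (algebraMap R A' f) = algebraMap R' L (algebraMap R R' f) := by
        rw [IsScalarTower.algebraMap_apply R' A' L]
        exact congrArg _ (IsScalarTower.algebraMap_apply R R' A' f)
      rw [h4]
      exact (φ.commutes _).trans (IsScalarTower.algebraMap_apply R R' (R' ⊗[R] A₁) f).symm
    rw [h3, Algebra.smul_def, map_pow, mul_comm]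
  -- the subalgebra
  let S : Subalgebra R (A' × A₁) :=
    AlgHom.equalizer ((α.restrictScalars R).comp (AlgHom.fst R A' A₁))
      ((Algebra.TensorProduct.includeRight : A₁ →ₐ[R] R' ⊗[R] A₁).comp (AlgHom.snd R A' A₁))
  have hM : ∀ v, v ∈ Subalgebra.toSubmodule S ↔ α.toLinearMap v.1 = (1 : R') ⊗ₜ[R] v.2 :=
    fun v => Iff.rfl
  have hloc := Groth.Agent.S2000.snd_loc hf α.toLinearMap A1 A2 (Subalgebra.toSubmodule S) hM
  have hbij := Groth.Agent.S2000.glue_bij hRR' hf α.toLinearMap A1 A2 (Subalgebra.toSubmodule S) hM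
  have hgl : EtGlue.IsGlueable R R' f S :=
    Groth.Agent.S2000.glueable hRR' hf α.toLinearMap A1 A2 (Subalgebra.toSubmodule S) hM
  let p₁ : S →ₐ[R] A' := (AlgHom.fst R A' A₁).comp S.val
  let p₂ : S →ₐ[R] A₁ := (AlgHom.snd R A' A₁).comp S.val
  let g : R' ⊗[R] S →ₐ[R'] A' :=
    Algebra.TensorProduct.lift (Algebra.ofId R' A') p₁ (fun _ _ => Commute.all _ _)
  have hg1 : ∀ a : S, g ((1 : R') ⊗ₜ[R] a) = (a : A' × A₁).1 := by
    intro a
    rw [Algebra.TensorProduct.lift_tmul, map_one, one_mul]; rfl
  have hgbij : Function.Bijective g := by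
    have : (g : R' ⊗[R] S → A') = LinearMap.liftBaseChange R'
        ((LinearMap.fst R A' A₁).comp (Subalgebra.toSubmodule S).subtype) := by
      ext x
      induction x with
      | zero => rw [map_zero, map_zero]
      | add x y hx hy => rw [map_add, map_add, hx, hy]
      | tmul r a =>
        rw [LinearMap.liftBaseChange_tmul, Algebra.TensorProduct.lift_tmul, Algebra.smul_def]
        rfl
    rw [this]
    exact hbij
  let _ : Algebra S A₁ := p₂.toRingHom.toAlgebra
  have : IsScalarTower R S A₁ := IsScalarTower.of_algebraMap_eq' p₂.comp_algebraMap.symm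
  have hloc' : IsLocalization (Algebra.algebraMapSubmonoid S (Submonoid.powers f)) A₁ := by
    rw [← isLocalizedModule_iff_isLocalization]
    exact hloc
  have : IsLocalization.Away (algebraMap R S f) A₁ := by
    have h : Algebra.algebraMapSubmonoid S (Submonoid.powers f) =
        Submonoid.powers (algebraMap R S f) := by
      rw [Algebra.algebraMapSubmonoid, Submonoid.map_powers]
    rw [h] at hloc'
    exact hloc'
  let e₁ : Localization.Away (algebraMap R S f) ≃ₐ[S] A₁ :=
    IsLocalization.algEquiv (Submonoid.powers (algebraMap R S f)) _ _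
  refine ⟨S, inferInstance, inferInstance, hgl, e₁.restrictScalars R,
    AlgEquiv.ofBijective g hgbij, ?_⟩
  intro a
  rw [AlgEquiv.ofBijective_apply, hg1]
  have h4 : (e₁.restrictScalars R) (algebraMap S (Localization.Away (algebraMap R S f)) a) =
      (a : A' × A₁).2 := e₁.commutes a
  rw [h4]
  exact a.2

end Groth.Agent.S10727
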