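import Groth.Statements.S7190
import Groth.Agent.S0441
import Groth.Agent.FlatMor.K251.FamSingle

set_option autoImplicit false
universe w u
open FlatMor

namespace Groth.Agent.S7190

open AlgebraicGeometry CategoryTheory Limits in
/-- An fppf covering {T_i → T} of schemes (flat, locally of finite presentation, jointly surjective) is
a ph covering. -/
theorem result {T : Scheme.{u}} (E : PreZeroHypercover.{w} T)
    (hflat : ∀ i, Flat (E.f i)) (hfp : ∀ i, LocallyOfFinitePresentation (E.f i))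
    (hsurj : ∀ t : T, ∃ (i : E.I₀) (x : E.X i), E.f i x = t) : HTop.IsPhCover E := by
  refine ⟨fun i => ?_, fun U => ?_⟩
  · have := hfp i
    infer_instance
  have hUaff : IsAffineOpen (U : T.Opens) := U.2
  have : IsAffine ((U : T.Opens) : Scheme.{u}) := hUaff
  obtain ⟨G, g, hg1, hg2, hg3, hg⟩ := K251.FamSingle.exists_single E hflat hfp hsurj (U : T.Opens)
    hUaff.isCompact
  obtain ⟨S', π, hπ1, hπ2, -, hloc⟩ := Groth.Agent.S0441.result g
  have : IsAffine S' := isAffine_of_isAffineHom π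
  -- local data
  have key : ∀ y : S', ∃ (V : S'.Opens) (i : E.I₀) (r : V.toScheme ⟶ E.X i), y ∈ V ∧ IsAffineOpen V ∧
      r ≫ E.f i = V.ι ≫ π ≫ (U : T.Opens).ι := by
    intro y
    obtain ⟨V, h, hyV, hV⟩ := hloc y
    obtain ⟨W, i, r, hyW, hr⟩ := hg (h ⟨y, hyV⟩)
    -- the preimage of `W` in `V`, as an open of `S'`
    obtain ⟨V', hV'1, hyV', hV'2⟩ := (S'.isBasis_affineOpens).exists_subset_of_mem_open
      (show y ∈ (V.ι ''ᵁ (h ⁻¹ᵁ W) : Set S') from ⟨⟨y, hyV⟩, hyW, rfl⟩) (V.ι ''ᵁ (h ⁻¹ᵁ W)).isOpen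
    obtain ⟨V'', hV''1, rfl⟩ := hV'1
    have hle : V'' ≤ V := fun z hz => by
      obtain ⟨⟨z', hz'⟩, -, rfl⟩ := hV'2 hz
      exact hz'
    have hle2 : (S'.homOfLE hle ≫ h) ⁻¹ᵁ W = ⊤ := by
      rw [eq_top_iff]
      rintro ⟨z, hz⟩ -
      obtain ⟨⟨z', hz'⟩, h1, h2⟩ := hV'2 hz
      have : S'.homOfLE hle ⟨z, hz⟩ = ⟨z', hz'⟩ := by
        apply Subtype.ext
        rw [Scheme.homOfLE_apply]
        exact h2.symm
      show h (S'.homOfLE hle ⟨z, hz⟩) ∈ W
      rw [this]; exact h1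
    have hle3 : Set.range (S'.homOfLE hle ≫ h) ⊆ Set.range W.ι := by
      rw [Scheme.Opens.range_ι]
      rintro _ ⟨z, rfl⟩
      have : z ∈ (S'.homOfLE hle ≫ h) ⁻¹ᵁ W := hle2 ▸ trivial
      exact this
    refine ⟨V'', i, IsOpenImmersion.lift W.ι (S'.homOfLE hle ≫ h) hle3 ≫ r, hyV', hV''1, ?_⟩
    rw [Category.assoc, hr, ← Category.assoc, IsOpenImmersion.lift_fac, Category.assoc,
      reassoc_of% hV, ← Category.assoc, Scheme.homOfLE_ι]
  choose V i r hyV hVaff hr using key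
  obtain ⟨t, ht⟩ := isCompact_univ.elim_finite_subcover (fun y : S' => (V y : Set S'))
    (fun y => (V y).isOpen) (fun y _ => Set.mem_iUnion.2 ⟨y, hyV y⟩)
  let e := t.equivFin
  let F : PreZeroHypercover.{0} ((U : T.Opens) : Scheme.{u}) :=
    { I₀ := Fin t.card
      X := fun k => (V (e.symm k).1).toScheme
      f := fun k => (V (e.symm k).1).ι ≫ π }
  refine ⟨F, ⟨inferInstance, ?_, fun k => ?_, S', π, fun k => (V (e.symm k).1).ι, inferInstance,
    hπ1, fun k => ?_, fun k => rfl, fun x => ?_⟩, fun k => ?_⟩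
  · show Finite (Fin t.card)
    infer_instance
  · exact hVaff _
  · show IsOpenImmersion (V (e.symm k).1).ι
    infer_instance
  · obtain ⟨y, hy, hx⟩ : ∃ y ∈ t, x ∈ V y := by simpa using ht (Set.mem_univ x)
    refine ⟨e ⟨y, hy⟩, ?_⟩
    show x ∈ Set.range (V (e.symm (e ⟨y, hy⟩)).1).ι
    rw [Scheme.Opens.range_ι, Equiv.symm_apply_apply]
    exact hx
  · refine ⟨i (e.symm k).1, r (e.symm k).1, ?_⟩
    rw [hr]
    rfl

end Groth.Agent.S7190
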