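import Groth.Statements.S10250
import Groth.Agent.AlgSp.K616.DimInv
import Groth.Agent.Sga3C.DimTop

set_option autoImplicit false
universe u
open CategoryTheory CategoryTheory.Limits AlgebraicGeometry Topology TopologicalSpace
open AlgSp

namespace Groth.Agent.S10250

/-- Let f : X ⟶ Y be an etale and surjective morphism of algebraic spaces over a scheme S. Then X and Y
have the same dimension (the dimension of an algebraic space being the supremum of the Krull
dimensions of the schemes etale over it). -/
theorem result {S : Scheme.{u}} {X Y : AlgSp.Space S} (f : X ⟶ Y)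
    (hf : AlgSp.IsEtaleMor f.hom) (hs : AlgSp.IsSurjectiveMor f.hom) :
    AlgSp.dim X.obj = AlgSp.dim Y.obj := by
  apply le_antisymm
  · refine iSup_le fun U => iSup_le fun a => iSup_le fun ha => ?_
    exact le_iSup_of_le U (le_iSup_of_le (a ≫ f.hom) (le_iSup_of_le (hf a ha) le_rfl))
  · refine iSup_le fun V => iSup_le fun b => iSup_le fun hb => ?_
    have h1 : topologicalKrullDim ↥V.left =
        ⨆ v : ↥V.left, ((@Order.coheight _ (specializationOrder _).toPreorder v : ℕ∞) :
          WithBot ℕ∞) :=
      (Groth.Agent.Sga3C.DimTop.topologicalKrullDim_eq_krullDim (X := ↥V.left)).trans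
        (@Order.krullDim_eq_iSup_coheight _ (specializationOrder ↥V.left).toPreorder)
    rw [h1]
    refine iSup_le fun v => ?_
    obtain ⟨x, hx⟩ := hs (Points.ofPt b v)
    obtain ⟨U, a, u, ha, hu⟩ := K616.Inv.exists_chart X.property x
    have hv : Points.ofPt (a ≫ f.hom) u = Points.ofPt b v := by
      rw [← hx, ← hu, Points.map_ofPt]
    obtain ⟨W, p, q, w, -, e1, e2, hw1, hw2⟩ :=
      K616.Inv.exists_chart_refinement (a ≫ f.hom) b (hf a ha) hb u v hv
    have h2 := K616.DimInv.ringKrullDim_stalk_eq_of_etale p.left w
    have h3 := K616.DimInv.ringKrullDim_stalk_eq_of_etale q.left w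
    rw [hw1] at h2
    rw [hw2] at h3
    have h4 := h3.symm.trans h2
    rw [ringKrullDim_stalk_eq_coheight, ringKrullDim_stalk_eq_coheight] at h4
    refine h4.le.trans ?_
    refine le_trans ?_ (le_iSup_of_le U (le_iSup_of_le a (le_iSup_of_le ha le_rfl)))
    rw [Groth.Agent.Sga3C.DimTop.topologicalKrullDim_eq_krullDim (X := ↥U.left)]
    exact (le_iSup (fun u : ↥U.left => ((@Order.coheight _ (specializationOrder _).toPreorder u :
      ℕ∞) : WithBot ℕ∞)) u).trans
        (@Order.krullDim_eq_iSup_coheight _ (specializationOrder ↥U.left).toPreorder).symm.le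

end Groth.Agent.S10250
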