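import Groth.Statements.S9675
import Groth.Agent.Mor.K384.NormFinite

set_option autoImplicit false
universe u
open CategoryTheory CategoryTheory.Limits AlgebraicGeometry
open Mor

namespace Groth.Agent.S9675

/-- Let f : X ⟶ S be of finite type with X reduced and every affine open of S having Nagata coordinate
ring. Then the normalization of S in X is finite over S. (Such an f is automatically
quasi-separated; the binder is carried only to form the relative normalization.) -/
theorem result {X S : Scheme.{u}} (f : X ⟶ S)
    [LocallyOfFiniteType f] [QuasiCompact f] [QuasiSeparated f] [IsReduced X]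
    (hS : ∀ U : S.affineOpens, CAlg.IsNagata Γ(S, U)) :
    IsFinite f.fromNormalization := by
  have hSn : IsLocallyNoetherian S := ⟨fun U => (hS U).1⟩
  have hXn : IsLocallyNoetherian X := LocallyOfFiniteType.isLocallyNoetherian f
  exact K384.NormFinite.isFinite_fromNormalization f hS
    (Groth.Agent.Ega1.GenPts.locallyFinite_irreducibleComponents
      (Groth.Agent.Ega1.GenPts.exists_noetherianSpace_nhds X))
    (fun x _ => K384.NormFinite.essFiniteType_residueFieldMap f x)

end Groth.Agent.S9675
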