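import Groth.Statements.S10589
import Groth.Agent.AlgSp.K632.Basic
import Groth.Agent.S1313
import Groth.Agent.S1303
import Groth.Agent.S9900

set_option autoImplicit false
universe u
open CategoryTheory CategoryTheory.Limits AlgebraicGeometry
open AlgSp

namespace Groth.Agent.S10589

/-- Consider a morphism (f, f') from the thickening X ⊂ X' to the thickening Y ⊂ Y' of algebraic spaces
over S, meaning: i : X ⟶ X' and j : Y ⟶ Y' are thickenings (representable, every base change to a
scheme a surjective closed immersion) and i ≫ f' = f ≫ j. Then f is separated if and only if f' is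
separated, and f is quasi-separated if and only if f' is quasi-separated. -/
theorem result {S : Scheme.{u}} {X X' Y Y' : AlgSp.Space S} (i : X ⟶ X') (j : Y ⟶ Y')
    (f : X ⟶ Y) (f' : X' ⟶ Y')
    (hi : AlgSp.IsThickMor i.hom)
    (hj : AlgSp.IsThickMor j.hom) (w : i ≫ f' = f ≫ j) :
    (AlgSp.IsSeparatedMor f.hom ↔ AlgSp.IsSeparatedMor f'.hom) ∧
    (AlgSp.IsQuasiSeparatedMor f.hom ↔ AlgSp.IsQuasiSeparatedMor f'.hom) := by
  have hj' : Mono j.hom := K632.Basic.mono_of_isThickMor hj
  have hi' : Mono i.hom := K632.Basic.mono_of_isThickMor hi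
  have w' : i.hom ≫ f'.hom = f.hom ≫ j.hom := congrArg (·.hom) w
  have sq := K632.Basic.isPullback_diagonal w'
  have hm := K632.Basic.isThickMor_pullbackMap w' hi
  obtain ⟨h1, h2, h3, h4, h5⟩ := Groth.Agent.S9900.result f'
  refine ⟨⟨fun h => ?_, fun h => ?_⟩, ⟨fun h => ?_, fun h => ?_⟩⟩
  · refine K632.Basic.repWith_of_thick (P := @IsClosedImmersion) (Q := @LocallyOfFiniteType)
      ?_ sq hm h2 h
    intro A A' B B' iA iB g g' ht hc hg' hg
    have : LocallyOfFiniteType g' := hg'
    have : IsClosedImmersion g := hg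
    exact (Groth.Agent.S1313.result iA iB g g' ht hc).1 hg
  · exact MorphismProperty.of_isPullback (P := RepWith @IsClosedImmersion) sq h
  · refine K632.Basic.repWith_of_thick (P := @QuasiCompact) (Q := @LocallyOfFiniteType)
      ?_ sq hm h2 h
    intro A A' B B' iA iB g g' ht hc hg' hg
    have hA : MoreMor.IsThickening iA := by
      obtain ⟨ht1, ht2⟩ := ht
      exact ⟨MorphismProperty.of_isPullback hc.flip ht1, MorphismProperty.of_isPullback hc.flip ht2⟩
    exact (Groth.Agent.S1303.result iA iB g g' hA ht hc.w).1 hg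
  · exact MorphismProperty.of_isPullback (P := RepWith @QuasiCompact) sq h

end Groth.Agent.S10589
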