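import Groth.Statements.S10629
import Groth.Agent.AlgSp.K634.SmoothLoc
import Groth.Agent.AlgSp.K635.EtCrit

set_option autoImplicit false
universe u
open CategoryTheory CategoryTheory.Limits AlgebraicGeometry
open AlgSp

namespace Groth.Agent.S10629

/-- A morphism f : X ⟶ Y of algebraic spaces over S is smooth if and only if it is locally of finite
presentation and formally smooth (lifting sense). -/
theorem result {S : Scheme.{u}} {X Y : AlgSp.Space S} (f : X ⟶ Y) :
    AlgSp.LocP @Smooth f.hom ↔ AlgSp.LocP @LocallyOfFinitePresentation f.hom ∧ AlgSp.IsFormallySmoothMor f.hom := by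
  refine ⟨fun h ↦ ⟨?_, ?_⟩, fun h ↦ K635.EtCrit.locP_smooth h.1 h.2⟩
  · exact fun U V a b g ha hb w ↦ ((Groth.Agent.S1488.result _).1 (h a b g ha hb w)).1
  · rw [K634.SmoothLoc.smooth_iff_locP X.property Y.property]
    exact fun U V a b g ha hb w ↦ ((Groth.Agent.S1488.result _).1 (h a b g ha hb w)).2

end Groth.Agent.S10629
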