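import Groth.Statements.S10264
import Groth.Agent.AlgSp.K613.Diag

set_option autoImplicit false
universe u
open CategoryTheory CategoryTheory.Limits AlgebraicGeometry
open AlgSp

namespace Groth.Agent.S10264

/-- An immersion of algebraic spaces is unramified. -/
theorem result {S : Scheme.{u}} {X Y : AlgSp.Space S} (i : X ⟶ Y)
    (hi : AlgSp.RepWith @IsImmersion i.hom) :
    AlgSp.LocP (@LocallyOfFiniteType ⊓ @FormallyUnramified) i.hom := by
  intro U V a b h ha hb w
  obtain ⟨W, s, k, sq⟩ := hi.1 b
  have h1 : IsImmersion s.left := hi.2 _ _ _ sq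
  have h2 : AlgSp.RepWith @Etale k := MorphismProperty.of_isPullback sq.flip hb
  obtain ⟨c, hc⟩ := (AlgSp.yon S).map_surjective (sq.lift a ((AlgSp.yon S).map h) w)
  have hc1 : (AlgSp.yon S).map c ≫ k = a := by rw [hc, sq.lift_fst]
  have hc2 : c ≫ s = h := by
    apply (AlgSp.yon S).map_injective
    rw [Functor.map_comp, hc, sq.lift_snd]
  have h3 : Etale c.left := K613.Diag.etale_of_comp c h2 ha hc1
  have : h.left = c.left ≫ s.left := congrArg (·.left) hc2.symm
  rw [this]
  have h4 : Mono s.left := inferInstance
  have h5 : IsIso (pullback.diagonal s.left) := inferInstance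
  have h6 : FormallyUnramified s.left := inferInstance
  exact ⟨inferInstance, MorphismProperty.comp_mem @FormallyUnramified _ _ inferInstance h6⟩

end Groth.Agent.S10264
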