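import Groth.Statements.S10591
import Groth.Agent.AlgSp.K632.Chart
import Groth.Agent.AlgSp.K632.SrcNil
import Groth.Agent.AlgSp.K632.RelDim
import Groth.Agent.AlgSp.K597.LocP
import Groth.Agent.AlgSp.K597.EtLoc
import Groth.Agent.S1312

set_option autoImplicit false
universe u
open CategoryTheory CategoryTheory.Limits AlgebraicGeometry
open AlgSp

namespace Groth.Agent.S10591

/-- Consider a morphism (f, f') from the thickening X ⊂ X' to the thickening Y ⊂ Y' of algebraic spaces
over S, meaning: i : X ⟶ X' and j : Y ⟶ Y' are thickenings (representable, every base change to a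
scheme a surjective closed immersion) and i ≫ f' = f ≫ j. Assume moreover that the square is
cartesian (X = Y ×_{Y'} X') and that i is a finite order thickening (for one n, on every affine
etale scheme chart of X' the (n+1)-st power of the ideal of the base change of X vanishes). Then f
is locally of finite type of relative dimension d, resp. locally of finite type, resp. locally
quasi-finite, resp. unramified, if and only if f' is (relative dimension d at a point: some chart
diagram through the point has fibre of local dimension d there) (all in the etale-local sense,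
locally quasi-finite and unramified including locally of finite type). -/
theorem result {S : Scheme.{u}} {X X' Y Y' : AlgSp.Space S} (i : X ⟶ X') (j : Y ⟶ Y')
    (f : X ⟶ Y) (f' : X' ⟶ Y')
    (hi : AlgSp.IsThickMor i.hom)
    (hj : AlgSp.IsThickMor j.hom) (w : i ≫ f' = f ≫ j)
    (hcart : IsPullback i.hom f.hom f'.hom j.hom)
    (hfo : AlgSp.IsFinThickMor i.hom) (d : ℕ) :
    ((AlgSp.LocP @LocallyOfFiniteType f.hom ∧
        ∀ x, AlgSp.HasAtMor (fun _ _ h u => FlatMor.fibreDimAt h u = (d : WithBot ℕ∞)) f.hom x) ↔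
      (AlgSp.LocP @LocallyOfFiniteType f'.hom ∧
        ∀ x', AlgSp.HasAtMor (fun _ _ h u => FlatMor.fibreDimAt h u = (d : WithBot ℕ∞)) f'.hom x')) ∧
    (AlgSp.LocP @LocallyOfFiniteType f.hom ↔ AlgSp.LocP @LocallyOfFiniteType f'.hom) ∧
    (AlgSp.LocP (@LocallyQuasiFinite ⊓ @LocallyOfFiniteType) f.hom ↔
      AlgSp.LocP (@LocallyQuasiFinite ⊓ @LocallyOfFiniteType) f'.hom) ∧
    (AlgSp.LocP (@LocallyOfFiniteType ⊓ @FormallyUnramified) f.hom ↔
      AlgSp.LocP (@LocallyOfFiniteType ⊓ @FormallyUnramified) f'.hom) := by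
  have hX := X.property.hasAtlas
  have hX' := X'.property.hasAtlas
  have hY := Y.property.hasAtlas
  have hY' := Y'.property.hasAtlas
  have : MorphismProperty.RespectsRight @LocallyOfFiniteType.{u} @IsOpenImmersion.{u} :=
    ⟨fun i hi f hf => MorphismProperty.comp_mem _ _ _ hf (by
      have : IsOpenImmersion i := hi
      infer_instance)⟩
  have : MorphismProperty.RespectsRight @FormallyUnramified.{u} @IsOpenImmersion.{u} :=
    ⟨fun i hi f hf => MorphismProperty.comp_mem _ _ _ hf (by
      have : IsOpenImmersion i := hi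
      infer_instance)⟩
  have hft : LocP @LocallyOfFiniteType f.hom → LocP @LocallyOfFiniteType f'.hom := fun h =>
    K632.Chart.locP_of_finThick (P := @LocallyOfFiniteType)
      (fun A A' B B' iA iB g g' _ _ ht hc hn hg => K632.SrcNil.locallyOfFiniteType iA iB g g' ht hc hn hg)
      hcart hj hfo h
  have hft' : LocP @LocallyOfFiniteType f'.hom → LocP @LocallyOfFiniteType f.hom := fun h =>
    K597.locP_bc K597.etLoc_lft hcart hX' hY' hY h
  refine ⟨⟨fun h => ⟨hft h.1, ?_⟩, fun h => ⟨hft' h.1, ?_⟩⟩, ⟨hft, hft'⟩, ⟨fun h => ?_, fun h => ?_⟩,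
    ⟨fun h => ?_, fun h => ?_⟩⟩
  · exact (K632.RelDim.relDim_iff hcart hj X'.property Y'.property h.1 (hft h.1) (· = (d : WithBot ℕ∞))).1 h.2
  · exact (K632.RelDim.relDim_iff hcart hj X'.property Y'.property (hft' h.1) h.1 (· = (d : WithBot ℕ∞))).2 h.2
  · refine K632.Chart.locP_of_thick (Q := @LocallyOfFiniteType) ?_ hcart hj
      (hft (K632.Chart.locP_inf.1 h).2) h
    intro A A' B B' iA iB g g' ht hc hg' hg
    obtain ⟨hg1, hg2⟩ := hg
    have : LocallyOfFiniteType g' := hg'
    have : LocallyOfFiniteType g := hg2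
    exact ⟨(Groth.Agent.S1312.result iA iB g g' ht hc).1 hg1, hg'⟩
  · have := K597.stableBC_inf @LocallyQuasiFinite.{u} @LocallyOfFiniteType.{u}
    exact K597.locP_bc K597.etLoc_lqf hcart hX' hY' hY h
  · refine K632.Chart.locP_inf.2 ⟨hft (K632.Chart.locP_inf.1 h).1, ?_⟩
    exact K632.Chart.locP_of_finThick (P := @FormallyUnramified)
      (fun A A' B B' iA iB g g' _ _ ht hc hn hg => K632.SrcNil.formallyUnramified iA iB g g' ht hc hn hg)
      hcart hj hfo (K632.Chart.locP_inf.1 h).2
  · have := K597.stableBC_inf @LocallyOfFiniteType.{u} @FormallyUnramified.{u}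
    exact K597.locP_bc K597.etLoc_unram hcart hX' hY' hY h

end Groth.Agent.S10591
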