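import Groth.Statements.S4946
import Groth.Agent.EGA43.K126.QuasiSec2

set_option autoImplicit false
open CategoryTheory AlgebraicGeometry
universe u v w
open EGA43

namespace Groth.Agent.S4946

open Groth.Agent.CycB.RelDim Groth.Agent.Ega4fib.H174.Equidim Groth.Agent.Ega4fib.H174.EquidimCrit

/-- Let Y be an irreducible locally Noetherian scheme which is regular of dimension 1 (all local rings
regular of dimension at most 1), f : X ⟶ Y a morphism locally of finite type and y a point of Y.
Then the following are equivalent: d) every irreducible component of X meeting the fibre X_y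
dominates Y; e) for every point x closed in X_y and every irreducible component X_i of X containing
x, there are an irreducible reduced scheme T and an immersion T ⟶ X with image containing x and
contained in X_i, such that T ⟶ Y is quasi-finite and dominant. -/
theorem result {X Y : Scheme.{u}} [IrreducibleSpace Y]
    [IsLocallyNoetherian Y] (hY : ∀ y : Y, IsRegularLocalRing (Y.presheaf.stalk y) ∧ ringKrullDim (Y.presheaf.stalk y) ≤ 1)
    (f : X ⟶ Y) [LocallyOfFiniteType f] (y : Y) :
    (∀ Z ∈ irreducibleComponents (X : Type u), (Z ∩ f.base ⁻¹' {y}).Nonempty → Dense (f.base '' Z)) ↔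
      ∀ x : X, f.base x = y → (∀ x' : X, f.base x' = y → x ⤳ x' → x' = x) →
        ∀ Xi ∈ irreducibleComponents (X : Type u), x ∈ Xi →
          ∃ (T : Scheme.{u}) (i : T ⟶ X), IsImmersion i ∧ IrreducibleSpace ↥T ∧ IsReduced T ∧ x ∈ Set.range i.base ∧
            Set.range i.base ⊆ Xi ∧
            LocallyOfFiniteType (i ≫ f) ∧ LocallyQuasiFinite (i ≫ f) ∧ QuasiCompact (i ≫ f) ∧ IsDominant (i ≫ f) := by
  have hX : IsLocallyNoetherian X := LocallyOfFiniteType.isLocallyNoetherian f
  constructor
  · intro H x hxy hcl Xi hXi hx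
    obtain ⟨ζ, hζ⟩ := QuasiSober.sober hXi.1 (isClosed_of_mem_irreducibleComponents Xi hXi)
    have hζ' : closure {ζ} = Xi := hζ
    subst hζ'
    have hd := H _ hXi ⟨x, hx, hxy⟩
    have hgen := K126.QuasiSec.apply_generic_of_dense f ζ hd
    obtain ⟨W, j, w₀, ξ, hj, -, -, hr, hw₀, hξ, hξall⟩ :=
      K126.QuasiSec.exists_closure_family ζ x (specializes_iff_mem_closure.mpr hx)
    obtain ⟨T, i, h1, h2, h3, h4, h5, h6, h7, h8⟩ :=
      K126.QuasiSec.exists_quasiSection_of_dim_le_one (j ≫ f) w₀ (hY _).2 (by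
        intro z _ hz hne
        exact ⟨ξ, hξall z, fun h => hne (by rw [← hz, ← h, Scheme.Hom.comp_apply, hξ, hgen])⟩)
      (by
        rw [rtd_comp_closedImmersion, hw₀]
        exact K126.QuasiSec.rtd_eq_zero_of_closed_in_fibre f x fun x' h h' => hcl x' (h.trans hxy) h')
    refine ⟨T, i ≫ j, inferInstance, h2, h3, ?_, ?_, ?_, ?_, ?_, ?_⟩
    · obtain ⟨t, ht⟩ := h4
      refine ⟨t, ?_⟩
      change (i ≫ j) t = x
      rw [Scheme.Hom.comp_apply]
      exact (congrArg j ht).trans hw₀
    · rintro _ ⟨t, rfl⟩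
      rw [← hr]
      exact ⟨i t, rfl⟩
    all_goals
      rw [Category.assoc]
      assumption
  · rintro H Z hZ ⟨z, hz, hzy⟩
    obtain ⟨x', h1, h2, h3⟩ := K126.ClosedFib.exists_closed_in_fibre_mem f z Z
      (isClosed_of_mem_irreducibleComponents Z hZ).isLocallyClosed hz
    have hzy' : f z = y := hzy
    obtain ⟨T, i, -, -, -, -, h4, -, -, -, h5⟩ := H x' (h2.trans hzy')
      (fun x'' h h' => h3 x'' (Eq.trans h hzy'.symm) h') Z hZ h1
    refine h5.denseRange.mono ?_
    rintro _ ⟨t, rfl⟩
    exact ⟨i t, h4 ⟨t, rfl⟩, rfl⟩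

end Groth.Agent.S4946
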