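import Groth.Statements.S10262
import Groth.Agent.AlgSp.K613.Unram

set_option autoImplicit false
universe u
open CategoryTheory CategoryTheory.Limits AlgebraicGeometry
open AlgSp

namespace Groth.Agent.S10262

/-- (1) an unramified morphism of algebraic spaces has diagonal an open immersion; (2) a morphism
locally of finite type whose diagonal is an open immersion is unramified. -/
theorem result {S : Scheme.{u}} {X Y : AlgSp.Space S} (f : X ⟶ Y) :
    (AlgSp.LocP (@LocallyOfFiniteType ⊓ @FormallyUnramified) f.hom →
      AlgSp.RepWith @IsOpenImmersion (pullback.diagonal f.hom)) ∧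
    (AlgSp.LocP @LocallyOfFiniteType f.hom → AlgSp.RepWith @IsOpenImmersion (pullback.diagonal f.hom) →
      AlgSp.LocP (@LocallyOfFiniteType ⊓ @FormallyUnramified) f.hom) := by
  constructor
  · intro h
    obtain ⟨V, q, hq⟩ := K613.Chart.exists_ch Y.property
    have sq : IsPullback (pullback.fst f.hom q) (pullback.snd f.hom q) f.hom q := IsPullback.of_hasPullback _ _
    have hP : AlgSp.IsAlgSpace (pullback f.hom q) :=
      K613.Chart.isAlgSpace_of_isPullback Y.property.diag X.property (AlgSp.IsAlgSpace.yon_obj V) sq
    obtain ⟨U, p, hp⟩ := K613.Chart.exists_ch hP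
    obtain ⟨α, hα⟩ := (AlgSp.yon S).map_surjective (p ≫ pullback.snd f.hom q)
    obtain ⟨R, s, t, sqR⟩ := K613.Chart.exists_refine hP.diag (𝟙 _) p p
    rw [Category.comp_id] at sqR
    have hst : s ≫ α = t ≫ α := by
      apply (AlgSp.yon S).map_injective
      rw [Functor.map_comp, Functor.map_comp, hα, reassoc_of% sqR.w]
    have hα' := h (p ≫ pullback.fst f.hom q) q α
      (MorphismProperty.comp_mem _ _ _ hp.et (MorphismProperty.of_isPullback sq.flip hq.et)) hq.et (by
        rw [Category.assoc, sq.w, hα, Category.assoc])
    have h1 : LocallyOfFiniteType α.left := hα'.1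
    have h2 : FormallyUnramified α.left := hα'.2
    have h3 := K613.Unram.isOpenImmersion_of_unramified hp.et sqR hst
    exact K613.Unram.repWith_diagonal_of_cover (K613.Diag.representable_diagonal X.property.diag f.hom) hq.fSurj sq
      (K613.Unram.repWith_diagonal_of_chart hp.fSurj (K613.Diag.representable_diagonal hP.diag _) hα.symm sqR hst h3)
  · intro h1 h2 U V a b h ha hb w
    have hft : LocallyOfFiniteType h.left := h1 a b h ha hb w
    refine ⟨hft, ?_⟩
    -- the equalizer locus on `U ×_V U`
    have hxy : ((AlgSp.yon S).map (pullback.fst h h) ≫ a) ≫ f.hom =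
        ((AlgSp.yon S).map (pullback.snd h h) ≫ a) ≫ f.hom := by
      rw [Category.assoc, Category.assoc, w, ← Category.assoc, ← Category.assoc, ← Functor.map_comp,
        ← Functor.map_comp, pullback.condition]
    obtain ⟨E, e, he, hoe⟩ := (K613.Diag.repWith_diagonal_iff @IsOpenImmersion f.hom).1 h2 _ _ _ hxy
    obtain ⟨R, s, t, sqR⟩ := K613.Chart.exists_refine X.property.diag (𝟙 _) a a
    rw [Category.comp_id] at sqR
    -- the diagonal of the chart
    obtain ⟨Δ, hΔ⟩ := (AlgSp.yon S).map_surjective (sqR.lift (𝟙 _) (𝟙 _) rfl)
    have hΔs : Δ ≫ s = 𝟙 U := by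
      apply (AlgSp.yon S).map_injective
      rw [Functor.map_comp, hΔ, sqR.lift_fst]
      exact ((AlgSp.yon S).map_id U).symm
    have hΔt : Δ ≫ t = 𝟙 U := by
      apply (AlgSp.yon S).map_injective
      rw [Functor.map_comp, hΔ, sqR.lift_snd]
      exact ((AlgSp.yon S).map_id U).symm
    have hs : Etale s.left := K613.Chart.prop_of_isPullback sqR ha
    have hΔo : IsOpenImmersion Δ.left := by
      have h3 : Δ.left ≫ s.left = 𝟙 U.left := congrArg (·.left) hΔs
      have h4 : Etale (Δ.left ≫ s.left) := by rw [h3]; infer_instance
      have h5 : Etale Δ.left := Etale.of_comp _ s.left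
      have h6 : Mono Δ.left := (SplitMono.mk s.left h3).mono
      exact IsOpenImmersion.of_flat_of_mono _
    -- `d : U ⟶ E`
    have hem := he.mono
    obtain ⟨d, hd, -⟩ := he.lift U (pullback.diagonal h) (by
      rw [← Category.assoc, ← Category.assoc, ← Functor.map_comp, ← Functor.map_comp, pullback.diagonal_fst,
        pullback.diagonal_snd])
    have hek : ((AlgSp.yon S).map (e ≫ pullback.fst h h)) ≫ a = ((AlgSp.yon S).map (e ≫ pullback.snd h h)) ≫ a := by
      have := he.w
      rw [Functor.map_comp, Functor.map_comp, Category.assoc, Category.assoc]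
      exact this
    obtain ⟨k, hk⟩ := (AlgSp.yon S).map_surjective (sqR.lift _ _ hek)
    have hks : k ≫ s = e ≫ pullback.fst h h := by
      apply (AlgSp.yon S).map_injective
      rw [Functor.map_comp, hk, sqR.lift_fst]
    have hkt : k ≫ t = e ≫ pullback.snd h h := by
      apply (AlgSp.yon S).map_injective
      rw [Functor.map_comp, hk, sqR.lift_snd]
    have sqd : IsPullback d (𝟙 U) k Δ := by
      refine ⟨⟨?_⟩, ⟨PullbackCone.IsLimit.mk _ (fun c => c.snd) ?_ ?_ ?_⟩⟩
      · apply (AlgSp.yon S).map_injective
        apply sqR.hom_ext
        · rw [← Functor.map_comp, ← Functor.map_comp, Category.assoc, Category.assoc, hks, hΔs, ← Category.assoc, hd,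
            pullback.diagonal_fst, Category.id_comp]
        · rw [← Functor.map_comp, ← Functor.map_comp, Category.assoc, Category.assoc, hkt, hΔt, ← Category.assoc, hd,
            pullback.diagonal_snd, Category.id_comp]
      · intro c
        have hc : c.fst ≫ k = c.snd ≫ Δ := c.condition
        rw [← cancel_mono e, Category.assoc, hd]
        apply pullback.hom_ext
        · rw [Category.assoc, pullback.diagonal_fst, Category.comp_id, Category.assoc, ← hks, ← Category.assoc, hc,
            Category.assoc, hΔs, Category.comp_id]
        · rw [Category.assoc, pullback.diagonal_snd, Category.comp_id, Category.assoc, ← hkt, ← Category.assoc, hc,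
            Category.assoc, hΔt, Category.comp_id]
      · intro c
        exact Category.comp_id _
      · intro c m _ h2
        rw [← h2, Category.comp_id]
    have hdo : IsOpenImmersion d.left :=
      MorphismProperty.of_isPullback (P := @IsOpenImmersion) (sqd.map (Over.forget S)).flip hΔo
    have h7 : IsOpenImmersion ((Over.forget S).map (pullback.diagonal h)) := by
      rw [← hd, Functor.map_comp]
      have i1 : IsOpenImmersion ((Over.forget S).map d) := hdo
      have i2 : IsOpenImmersion ((Over.forget S).map e) := hoe
      infer_instance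
    have h8 : IsOpenImmersion (pullback.diagonal h.left) := by
      have := AlgSp.diagonal_forget_map h
      change IsOpenImmersion (pullback.diagonal ((Over.forget S).map h))
      rw [this]
      infer_instance
    infer_instance

end Groth.Agent.S10262
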