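import Groth.Statements.S9447
import Groth.Agent.S0585
import Mathlib.RingTheory.Extension.Cotangent.BaseChange
import Mathlib.RingTheory.Kaehler.TensorProduct
import Mathlib.RingTheory.Flat.FaithfullyFlat.Algebra
import Mathlib.RingTheory.Smooth.Basic

set_option autoImplicit false
universe u
open CAlg

namespace Groth.Agent.S9447

open TensorProduct in
/-- Formal smoothness descends along faithfully flat base change: for R → S arbitrary and R → R'
faithfully flat, the R-algebra S is formally smooth exactly when the R'-algebra R' ⊗_R S is formally
smooth. No finiteness hypothesis on S. -/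
theorem result (R : Type u) [CommRing R]
    (S : Type u) [CommRing S] [Algebra R S] (R' : Type u) [CommRing R'] [Algebra R R']
    [Module.FaithfullyFlat R R'] :
    Algebra.FormallySmooth R S ↔ Algebra.FormallySmooth R' (R' ⊗[R] S) := by
  constructor
  · intro h
    infer_instance
  · intro h
    let : Algebra S (R' ⊗[R] S) := Algebra.TensorProduct.rightAlgebra
    have hff : Module.FaithfullyFlat S (R' ⊗[R] S) := by
      have e : (S ⊗[R] R') ≃ₐ[S] (R' ⊗[R] S) :=
        { Algebra.TensorProduct.comm R S R' with
          commutes' := fun s => by
            change Algebra.TensorProduct.comm R S R' (s ⊗ₜ[R] (1 : R')) = _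
            rw [Algebra.TensorProduct.comm_tmul]
            rfl }
      exact Module.FaithfullyFlat.of_linearEquiv S (S ⊗[R] R') e.symm.toLinearEquiv
    refine ⟨?_, ?_⟩
    · have hpush : Algebra.IsPushout R R' S (R' ⊗[R] S) := inferInstance
      have h1 : Module.Projective (R' ⊗[R] S) ((R' ⊗[R] S) ⊗[S] Ω[S⁄R]) :=
        Module.Projective.of_equiv (KaehlerDifferential.tensorKaehlerEquiv R R' S (R' ⊗[R] S)).symm
      exact Groth.Agent.S0585.result S (R' ⊗[R] S) Ω[S⁄R]
    · have e := Algebra.tensorH1CotangentOfFlat R S R'
      have h1 : Subsingleton (R' ⊗[R] Algebra.H1Cotangent R S) := e.injective.subsingleton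
      exact Module.FaithfullyFlat.lTensor_reflects_triviality R R' _

end Groth.Agent.S9447
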