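import Groth.Statements.S9962
import Groth.Agent.AlgSp.K598.RepKit
import Groth.Agent.AlgSp.K597.LocP
import Groth.Agent.AlgSp.K597.EtLoc
import Groth.Agent.AlgSp.K596.Univ

set_option autoImplicit false
universe u
open CategoryTheory CategoryTheory.Limits AlgebraicGeometry
open AlgSp

namespace Groth.Agent.S9962

/-- A flat morphism locally of finite presentation between algebraic spaces is universally open. -/
theorem result {S : Scheme.{u}} {X Y : AlgSp.Space S} (f : X ⟶ Y)
    (hfl : AlgSp.LocP @Flat f.hom) (hfp : AlgSp.LocP @LocallyOfFinitePresentation f.hom) :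
    AlgSp.IsUnivOpenMor f.hom := by
  obtain ⟨U, a, ha, has⟩ := X.property.atlas
  refine K596.Univ.isUnivOpenMor_of_precomp has ?_
  have hr : Representable (a ≫ f.hom) := Y.property.representable_from_yon _
  have h1 : RepWith @Flat (a ≫ f.hom) := K597.repWith_of_locP K597.etLoc_flat Y.property.hasAtlas hr
    (K597.locP_precomp ha hfl)
  have h2 : RepWith @LocallyOfFinitePresentation (a ≫ f.hom) := K597.repWith_of_locP K597.etLoc_lfp
    Y.property.hasAtlas hr (K597.locP_precomp ha hfp)
  refine (K596.Univ.repWith_universallyOpen_iff hr).1 ⟨hr, fun _ _ g fst snd sq => ?_⟩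
  have h3 : Flat snd.left := h1.2 _ _ _ sq
  have h4 : LocallyOfFinitePresentation snd.left := h2.2 _ _ _ sq
  exact (inferInstance : UniversallyOpen snd.left)

end Groth.Agent.S9962
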