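import Groth.Statements.S10312
import Groth.Agent.AlgSp.K616.Near
import Groth.Agent.AlgSp.K597.EtLoc
import Groth.Agent.AlgSp.K597.LocP
import Groth.Agent.UnramA.PullbackChart

set_option autoImplicit false
universe u
open CategoryTheory CategoryTheory.Limits AlgebraicGeometry
open AlgSp

namespace Groth.Agent.S10312

/-- For X -> Y over Z with X -> Z locally of finite type, the locus where X -> Y is unramified is an
open subset of |X| whose formation commutes with base change along any Z' -> Z. -/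
theorem result {S : Scheme.{u}} {X Y Z Z' Y' X' : AlgSp.Space S} (f : X ⟶ Y)
    (p : X ⟶ Z) (q : Y ⟶ Z) (comm : f ≫ q = p) (hp : AlgSp.LocP @LocallyOfFiniteType p.hom) (g : Z' ⟶ Z)
    (a : Y' ⟶ Y) (q' : Y' ⟶ Z') (sq1 : IsPullback a.hom q'.hom q.hom g.hom)
    (b : X' ⟶ X) (f' : X' ⟶ Y') (sq2 : IsPullback b.hom f'.hom f.hom a.hom) :
    IsOpen {x : AlgSp.Points X.obj | AlgSp.HasAtMor (fun U _ h u => ∃ W : U.Opens, u ∈ W ∧ LocallyOfFiniteType (W.ι ≫ h) ∧ FormallyUnramified (W.ι ≫ h)) f.hom x} ∧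
    {x' : AlgSp.Points X'.obj | AlgSp.HasAtMor (fun U _ h u => ∃ W : U.Opens, u ∈ W ∧ LocallyOfFiniteType (W.ι ≫ h) ∧ FormallyUnramified (W.ι ≫ h)) f'.hom x'} =
      AlgSp.Points.map b.hom ⁻¹' {x : AlgSp.Points X.obj | AlgSp.HasAtMor (fun U _ h u => ∃ W : U.Opens, u ∈ W ∧ LocallyOfFiniteType (W.ι ≫ h) ∧ FormallyUnramified (W.ι ≫ h)) f.hom x} := by
  have hpq : LocP @LocallyOfFiniteType (f.hom ≫ q.hom) := by
    have : f.hom ≫ q.hom = p.hom := congrArg (·.hom) comm
    rw [this]; exact hp
  have hf : LocP @LocallyOfFiniteType f.hom :=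
    K597.locP_of_comp' K597.etLoc_lft (fun _ _ _ u v h => locallyOfFiniteType_of_comp u v)
      X.property.hasAtlas Y.property.hasAtlas Z.property.hasAtlas hpq
  have hf' : LocP @LocallyOfFiniteType f'.hom := K597.locP_bc K597.etLoc_lft sq2 X.property.hasAtlas Y.property.hasAtlas
    Y'.property.hasAtlas hf
  refine ⟨K616.Near.isOpen_near (@LocallyOfFiniteType ⊓ @FormallyUnramified) f.hom, ?_⟩
  ext x'
  refine (K616.Near.hasAtMor_baseChange (P := @LocallyOfFiniteType)
    (Q := K616.Near.Near (@LocallyOfFiniteType ⊓ @FormallyUnramified))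
    (fun _ _ _ _ h h' p q _ _ _ _ w u => K616.Near.etInvOn_near K597.etLoc_unram h h' p q trivial trivial w u)
    ?_ X.property Y.property Y'.property X'.property sq2 hf hf' x').symm
  intro U V U' V' h h' p q sq hh u
  have key : ∀ {A B : Scheme.{u}} (k : A ⟶ B) [LocallyOfFiniteType k] (z : A),
      K616.Near.Near (@LocallyOfFiniteType ⊓ @FormallyUnramified) A B k z ↔ (k.stalkMap z).hom.FormallyUnramified := by
    intro A B k _ z
    rw [← Groth.Agent.UnramA.NearPoint.exists_formallyUnramified_nhd_iff]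
    constructor
    · rintro ⟨W, h1, h2, h3⟩
      exact ⟨W, h1, h3⟩
    · rintro ⟨W, h1, h3⟩
      exact ⟨W, h1, inferInstance, h3⟩
  have hh' : LocallyOfFiniteType h' := MorphismProperty.of_isPullback sq hh
  constructor
  · intro H
    exact K616.Near.near_of_isPullback sq u H
  · intro H
    rw [key] at H ⊢
    exact Groth.Agent.UnramA.PullbackChart.formallyUnramified_stalkMap_of_isPullback sq u H

end Groth.Agent.S10312
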