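import Groth.Statements.S9935
import Groth.Agent.AlgSp.K597.RepImage

set_option autoImplicit false
universe u
open CategoryTheory CategoryTheory.Limits AlgebraicGeometry
open AlgSp

namespace Groth.Agent.S9935

/-- A quasi-compact immersion of algebraic spaces factors as an open immersion followed by a closed
immersion. -/
theorem result {S : Scheme.{u}} {Z X : AlgSp.Space S}
    (i : Z ⟶ X) (hi : AlgSp.RepWith @IsImmersion i.hom) (hq : AlgSp.IsQuasiCompactMor i.hom) :
    ∃ (Zbar : AlgSp.Space S) (j : Z ⟶ Zbar) (c : Zbar ⟶ X), j ≫ c = i ∧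
      AlgSp.RepWith @IsOpenImmersion j.hom ∧ AlgSp.RepWith @IsClosedImmersion c.hom := by
  obtain ⟨Zbar, j, c, hj, hjo, hc⟩ := K597.RepImage.exists_openImmersion_closedImmersion X.property hi
    (K596.QC.repWith_of_isQuasiCompactMor hi.1 hq)
  refine ⟨⟨Zbar, K598.RepKit.isAlgSpace_of_repWith_isClosedImmersion hc X.property⟩, ⟨j⟩, ⟨c⟩, ?_, hjo, hc⟩
  apply ObjectProperty.hom_ext
  exact hj

end Groth.Agent.S9935
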