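import Groth.Statements.S10310
import Groth.Agent.AlgSp.K616.DimInv
import Groth.Agent.Flat2C.LqfDense
import Groth.Agent.Ega43.FibreDimNat

set_option autoImplicit false
universe u
open CategoryTheory CategoryTheory.Limits AlgebraicGeometry
open AlgSp

namespace Groth.Agent.S10310

/-- A morphism locally of finite type is locally quasi-finite if and only if it has relative dimension 0
at every point. -/
theorem result {S : Scheme.{u}} {X Y : AlgSp.Space S} (f : X ⟶ Y)
    (hf : AlgSp.LocP @LocallyOfFiniteType f.hom) :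
    AlgSp.LocP (@LocallyQuasiFinite ⊓ @LocallyOfFiniteType) f.hom ↔
      ∀ x : AlgSp.Points X.obj, AlgSp.HasAtMor (fun _ _ h u => FlatMor.fibreDimAt h u = 0) f.hom x := by
  constructor
  · intro H x
    obtain ⟨U, V, a, b, h, u, ha, hb, w, hu⟩ := K616.Inv.exists_diagram X.property Y.property f.hom x
    have h1 : LocallyQuasiFinite h.left := (H a b h ha hb w).1
    have h2 : LocallyOfFiniteType h.left := (H a b h ha hb w).2
    refine ⟨U, V, a, b, h, u, ha, hb, w, hu, ?_⟩
    obtain ⟨n, hn⟩ := Groth.Agent.Ega43.FibreDimNat.exists_natCast_fibreDimAt h.left u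
    have h3 := Groth.Agent.Flat2C.LqfDense.fibreDimAt_le_zero_of_quasiFiniteAt h.left u
      (h.left.quasiFiniteAt u)
    rw [hn] at h3 ⊢
    have h4 : n = 0 := by
      have : n ≤ 0 := by exact_mod_cast h3
      omega
    rw [h4]
    rfl
  · intro H U V a b h ha hb w
    have h2 : LocallyOfFiniteType h.left := hf a b h ha hb w
    refine ⟨?_, h2⟩
    refine Groth.Agent.Flat2C.LqfDense.locallyQuasiFinite_of_fibreDimAt h.left fun u => ?_
    have h3 := H (AlgSp.Points.ofPt a u)
    rw [K616.Inv.hasAtMor_iff (K616.DimInv.etInvOn_fibreDimAt fun d => d = 0) hf a b h ha hb w u] at h3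
    exact h3.le

end Groth.Agent.S10310
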