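import Groth.Statements.S9934
import Groth.Agent.AlgSp.K597.Chart
import Groth.Agent.AlgSp.K596.Univ

set_option autoImplicit false
universe u
open CategoryTheory CategoryTheory.Limits AlgebraicGeometry
open AlgSp

namespace Groth.Agent.S9934

set_option backward.isDefEq.respectTransparency false
set_option backward.isDefEq.respectTransparency.types false

/-- An immersion of algebraic spaces is a closed immersion exactly when its image on points is closed. -/
theorem result {S : Scheme.{u}} {Z X : AlgSp.Space S} (i : Z ⟶ X)
    (hi : AlgSp.RepWith @IsImmersion i.hom) :
    AlgSp.RepWith @IsClosedImmersion i.hom ↔ IsClosed (Set.range (AlgSp.Points.map i.hom)) := by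
  constructor
  · intro h
    have := K596.Univ.isClosedMap_of_repWith
      (K597.repWith_mono (fun _ _ f (_ : IsClosedImmersion f) => (inferInstance : UniversallyClosed f)) h)
    exact this.isClosed_range
  · intro h
    refine ⟨hi.1, fun U V g fst snd sq => ?_⟩
    have him : IsImmersion snd.left := hi.2 g fst snd sq
    have h1 : Points.map g ⁻¹' (Set.range (Points.map i.hom)) = Set.range (Points.map ((yon S).map snd)) := by
      have := K596.Pts.preimage_image sq Set.univ
      simpa only [Set.image_univ, Set.preimage_univ] using this
    have h2 : IsClosed (Set.range (Points.map ((yon S).map snd))) := by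
      rw [← h1]
      exact h.preimage (Points.continuous_map g)
    have h3 : Set.range snd.left = Points.schemeHomeo U ⁻¹' (Set.range (Points.map ((yon S).map snd))) := by
      ext x
      constructor
      · rintro ⟨v, rfl⟩
        exact ⟨Points.schemeHomeo V v, Points.map_yon_map_apply snd v⟩
      · rintro ⟨z, hz⟩
        obtain ⟨v, rfl⟩ := (Points.schemeHomeo V).surjective z
        refine ⟨v, (Points.schemeHomeo U).injective ?_⟩
        rw [← hz]
        exact (Points.map_yon_map_apply snd v).symm
    have h4 : IsClosed (Set.range snd.left) := by
      rw [h3]
      exact h2.preimage (Points.schemeHomeo U).continuous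
    exact IsClosedImmersion.of_isPreimmersion snd.left h4

end Groth.Agent.S9934
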