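import Groth.Statements.S6063
import Groth.Agent.SGA3x.K12.DenseAlg

set_option autoImplicit false
universe u
open CategoryTheory AlgebraicGeometry
open TensorProduct
open SGA3x

namespace Groth.Agent.S6063

open CategoryTheory.Limits TopologicalSpace Opposite

/-- A push-out of a surjection is a surjection, whose kernel is generated by the image of the kernel. -/
theorem pushout_surj {R B R' P : CommRingCat.{u}} {a : R ⟶ B} {b : R ⟶ R'} {c : B ⟶ P} {d : R' ⟶ P}
    (h : IsPushout a b c d) (hb : Function.Surjective b.hom) :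
    RingHom.ker c.hom = (RingHom.ker b.hom).map a.hom := by
  apply le_antisymm
  · intro x hx
    let I : Ideal B := (RingHom.ker b.hom).map a.hom
    let q : B ⟶ CommRingCat.of (B ⧸ I) := CommRingCat.ofHom (Ideal.Quotient.mk I)
    have hk : RingHom.ker b.hom ≤ RingHom.ker (q.hom.comp a.hom) := fun y hy => by
      rw [RingHom.mem_ker, RingHom.comp_apply]
      exact Ideal.Quotient.eq_zero_iff_mem.2 (Ideal.mem_map_of_mem _ hy)
    let r : R' →+* (B ⧸ I) := RingHom.liftOfSurjective b.hom hb ⟨q.hom.comp a.hom, hk⟩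
    have hr : a ≫ q = b ≫ CommRingCat.ofHom r := by
      ext y
      exact (RingHom.liftOfRightInverse_comp_apply b.hom _ (Function.rightInverse_surjInv hb)
        ⟨q.hom.comp a.hom, hk⟩ y).symm
    have h1 : c ≫ h.desc q (CommRingCat.ofHom r) hr = q := h.inl_desc _ _ _
    have h2 : q.hom x = 0 := by
      rw [← h1, CommRingCat.hom_comp, RingHom.comp_apply, (RingHom.mem_ker).1 hx, map_zero]
    exact Ideal.Quotient.eq_zero_iff_mem.1 h2
  · rw [Ideal.map_le_iff_le_comap]
    intro y hy
    rw [Ideal.mem_comap, RingHom.mem_ker, ← RingHom.comp_apply, ← CommRingCat.hom_comp, h.w,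
      CommRingCat.hom_comp, RingHom.comp_apply, (RingHom.mem_ker).1 hy, map_zero]

section

variable {A : CommRingCat.{u}} (J : Ideal A) {Y : Scheme.{u}} (q : Y ⟶ Spec A)

/-- The coordinate ring of an open as an `A`-algebra. -/
noncomputable abbrev str (W : Y.Opens) : A ⟶ Γ(Y, W) := (Scheme.ΓSpecIso A).inv ≫ q.appLE ⊤ W le_top

theorem ker_app {W : Y.Opens} (hW : IsAffineOpen W) :
    RingHom.ker ((pullback.fst q (Spec.map (CommRingCat.ofHom (Ideal.Quotient.mk J)))).app W).hom =
      J.map (str q W).hom := by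
  set f := Spec.map (CommRingCat.ofHom (Ideal.Quotient.mk J)) with hf
  have H : IsPullback (pullback.fst q f) (pullback.snd q f) q f := .of_hasPullback _ _
  have hpo := (isIso_pushoutSection_iff H (US := ⊤) (UT := ⊤) (UX := W) le_top le_top
    (UY := (pullback.fst q f) ⁻¹ᵁ W) (by simp)).1
    (isIso_pushoutSection_of_isAffineOpen H le_top le_top (by simp) (isAffineOpen_top _) (isAffineOpen_top _) hW)
  have hnat : (Scheme.ΓSpecIso A).inv ≫ f.appLE ⊤ ⊤ le_top =
      CommRingCat.ofHom (Ideal.Quotient.mk J) ≫ (Scheme.ΓSpecIso _).inv := by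
    rw [hf, Scheme.ΓSpecIso_inv_naturality, Scheme.Hom.appTop, Scheme.Hom.app_eq_appLE]
    rfl
  have hpo2 : IsPushout (str q W) (CommRingCat.ofHom (Ideal.Quotient.mk J))
      ((pullback.fst q f).appLE W ((pullback.fst q f) ⁻¹ᵁ W) le_rfl)
      ((Scheme.ΓSpecIso _).inv ≫ (pullback.snd q f).appLE ⊤ ((pullback.fst q f) ⁻¹ᵁ W) le_top) := by
    refine IsPushout.of_iso hpo (Scheme.ΓSpecIso A) (Iso.refl _) (Scheme.ΓSpecIso _) (Iso.refl _) ?_ ?_ ?_ ?_
    · simp
    · rw [← Iso.inv_comp_eq, ← Category.assoc, hnat]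
      simp
    · simp
    · simp
  have h1 := pushout_surj hpo2 (Ideal.Quotient.mk_surjective)
  rw [Scheme.Hom.app_eq_appLE, h1, CommRingCat.hom_ofHom, Ideal.mk_ker]

end

open CategoryTheory.Limits in
/-- Over an affine base with free successive quotients. Let A be a ring, J a nilpotent ideal of A such
that every quotient J^k/J^(k+1) is a free (A/J)-module, p : X ⟶ Spec A a flat morphism and (v_i :
Z_i ⟶ X) a family of subschemes of X (immersions) with every Z_i flat over Spec A. If the family of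
reductions Z_i ×_A (A/J) ⟶ X ×_A (A/J) is schematically dense, i.e. a section of the structure sheaf
of X ×_A (A/J) over an open subset whose pullback to every member vanishes is zero, then the family
(v_i) is schematically dense in X in the same sense. (The published statement has an arbitrary base
S and a nilpotent quasi-coherent ideal of the structure sheaf whose successive quotients are locally
free modulo the ideal; the assertion is local on S and on X, and this row is the case of an affine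
base with free successive quotients.) -/
theorem result {X : Scheme.{u}} (A : CommRingCat.{u}) (p : X ⟶ Spec A) [Flat p]
    (J : Ideal ↑A) (hJ : IsNilpotent J) (hfree : ∀ k : ℕ, Module.Free (↑A ⧸ J) ((↑A ⧸ J) ⊗[↑A] ↥(J ^ k)))
    {ι : Type u} (Z : ι → Scheme.{u}) (v : ∀ i, Z i ⟶ X) [∀ i, IsImmersion (v i)] [∀ i, Flat (v i ≫ p)]
    (h0 : ∀ (V : (pullback p (Spec.map (CommRingCat.ofHom (Ideal.Quotient.mk J)))).Opens) (t : Γ(pullback p (Spec.map (CommRingCat.ofHom (Ideal.Quotient.mk J))), V)),
      (∀ i, (pullback.map (v i ≫ p) (Spec.map (CommRingCat.ofHom (Ideal.Quotient.mk J))) p (Spec.map (CommRingCat.ofHom (Ideal.Quotient.mk J))) (v i) (𝟙 _) (𝟙 _)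
        (Category.comp_id _) ((Category.comp_id _).trans (Category.id_comp _).symm)).app V t = 0) → t = 0) :
    ∀ (V : X.Opens) (t : Γ(X, V)), (∀ i, (v i).app V t = 0) → t = 0 := by
  set f := Spec.map (CommRingCat.ofHom (Ideal.Quotient.mk J)) with hf
  -- reduction to affine opens
  suffices H : ∀ (V : X.Opens), IsAffineOpen V → ∀ t : Γ(X, V), (∀ i, (v i).app V t = 0) → t = 0 by
    intro V t ht
    apply X.IsSheaf.section_ext
    intro x hx
    obtain ⟨_, ⟨V', hV', rfl⟩, hxV', hV'V⟩ :=
      X.isBasis_affineOpens.exists_subset_of_mem_open (a := x) (u := (V : Set X)) hx V.isOpen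
    refine ⟨V', hV'V, hxV', ?_⟩
    rw [map_zero]
    refine H V' hV' _ fun i => ?_
    have h1 := (v i).naturality (homOfLE (show V' ≤ V from hV'V)).op
    have h2 := congr($h1 t)
    rw [CommRingCat.comp_apply, CommRingCat.comp_apply, ht i, map_zero] at h2
    exact h2
  intro V hV t ht
  -- the algebra structures
  let iB : Algebra A Γ(X, V) := (str p V).hom.toAlgebra
  let IDX := Σ i, {W : (Z i).Opens // IsAffineOpen W ∧ W ≤ (v i) ⁻¹ᵁ V}
  let N : IDX → Type u := fun w => Γ(Z w.1, w.2.1)
  let iC0 : ∀ w : IDX, CommRing (N w) := fun w => inferInstanceAs (CommRing Γ(Z w.1, w.2.1))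
  let iC : ∀ w : IDX, Algebra A (N w) := fun w => (str (v w.1 ≫ p) w.2.1).hom.toAlgebra
  have hflat : ∀ w : IDX, Module.Flat A (N w) := by
    rintro ⟨i, W, hW, hWV⟩
    have h1 : ((v i ≫ p).appLE ⊤ W le_top).hom.Flat :=
      HasRingHomProperty.appLE (P := @Flat) (v i ≫ p) inferInstance ⟨⊤, isAffineOpen_top _⟩ ⟨W, hW⟩ le_top
    have h2 : ((Scheme.ΓSpecIso A).inv.hom).Flat :=
      RingHom.Flat.of_bijective (ConcreteCategory.bijective_of_isIso (Scheme.ΓSpecIso A).inv)
    exact h2.comp h1
  have hstr : ∀ w : IDX, str (v w.1 ≫ p) w.2.1 = str p V ≫ (v w.1).appLE V w.2.1 w.2.2.2 := by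
    intro w
    rw [str, str, Category.assoc, Scheme.Hom.appLE_comp_appLE]
  let φ : ∀ w : IDX, Γ(X, V) →ₗ[A] N w := fun w =>
    { toFun := fun b => ((v w.1).appLE V w.2.1 w.2.2.2).hom b
      map_add' := fun x y => map_add _ x y
      map_smul' := fun a x => by
        rw [RingHom.id_apply, Algebra.smul_def, Algebra.smul_def, map_mul]
        congr 1
        exact congr($((hstr w).symm) a) }
  refine K12.DenseAlg.eq_zero_of_isNilpotent J hJ hfree N φ ?_ t ?_
  · intro b hb
    have hb' : ∀ w : IDX, ((v w.1).appLE V w.2.1 w.2.2.2).hom b ∈ J.map (str (v w.1 ≫ p) w.2.1).hom := by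
      intro w
      have := hb w
      rw [Ideal.smul_top_eq_map] at this
      exact this
    rw [Ideal.smul_top_eq_map]
    change b ∈ J.map (str p V).hom
    rw [← ker_app J p hV, RingHom.mem_ker]
    apply h0
    intro i
    set m := pullback.map (v i ≫ p) f p f (v i) (𝟙 _) (𝟙 _)
        (Category.comp_id _) ((Category.comp_id _).trans (Category.id_comp _).symm) with hm
    have hmf : m ≫ pullback.fst p f = pullback.fst (v i ≫ p) f ≫ v i := pullback.lift_fst _ _ _
    apply (pullback (v i ≫ p) f).IsSheaf.section_ext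
    intro z hz
    have hz' : (pullback.fst (v i ≫ p) f) z ∈ (v i) ⁻¹ᵁ V := by
      have h3 : (m ≫ pullback.fst p f) z ∈ V := hz
      rw [hmf] at h3
      exact h3
    obtain ⟨_, ⟨W, hW, rfl⟩, hxW, hWV⟩ :=
      (Z i).isBasis_affineOpens.exists_subset_of_mem_open (a := (pullback.fst (v i ≫ p) f) z)
        (u := (((v i) ⁻¹ᵁ V : (Z i).Opens) : Set (Z i))) hz' ((v i) ⁻¹ᵁ V).isOpen
    have hWV' : W ≤ (v i) ⁻¹ᵁ V := hWV
    have hO : (pullback.fst (v i ≫ p) f) ⁻¹ᵁ W ≤ m ⁻¹ᵁ ((pullback.fst p f) ⁻¹ᵁ V) := by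
      intro y hy
      change (m ≫ pullback.fst p f) y ∈ V
      rw [hmf]
      exact hWV' hy
    refine ⟨(pullback.fst (v i ≫ p) f) ⁻¹ᵁ W, hO, hxW, ?_⟩
    rw [map_zero]
    have h4 : ((pullback.fst p f).app V ≫ m.app ((pullback.fst p f) ⁻¹ᵁ V)) ≫
        (pullback (v i ≫ p) f).presheaf.map (homOfLE hO).op =
        (v i).appLE V W hWV' ≫ (pullback.fst (v i ≫ p) f).app W := by
      have e1 : m.app ((pullback.fst p f) ⁻¹ᵁ V) ≫ (pullback (v i ≫ p) f).presheaf.map (homOfLE hO).op =
          m.appLE ((pullback.fst p f) ⁻¹ᵁ V) ((pullback.fst (v i ≫ p) f) ⁻¹ᵁ W) hO := rfl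
      rw [Category.assoc, e1, Scheme.Hom.app_eq_appLE (pullback.fst p f), Scheme.Hom.app_eq_appLE,
        Scheme.Hom.appLE_comp_appLE, Scheme.Hom.appLE_comp_appLE]
      congr 1
    have h5 := congr($h4 b)
    simp only [CommRingCat.comp_apply] at h5
    refine h5.trans ?_
    have h6 : (v i).appLE V W hWV' b ∈ RingHom.ker ((pullback.fst (v i ≫ p) f).app W).hom := by
      rw [hf, ker_app J (v i ≫ p) hW]
      exact hb' ⟨i, W, hW, hWV'⟩
    exact h6
  · rintro ⟨i, W, hW, hWV⟩
    have h1 : (v i).appLE V W hWV = (v i).app V ≫ (Z i).presheaf.map (homOfLE hWV).op := rfl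
    have h2 := congr($h1 t)
    rw [CommRingCat.comp_apply, ht i, map_zero] at h2
    exact h2

end Groth.Agent.S6063
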