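import Groth.Statements.S12201
import Groth.Agent.AlgSp.K601.PDMain
-- import your own Groth.Agent.* helpers here

set_option autoImplicit false
universe u
open CategoryTheory CategoryTheory.Limits AlgebraicGeometry
open AlgSp

namespace Groth.Agent.S12201

section datum

variable {S : Scheme.{u}} {X Y X₂ U U₀ U₁ : Sp S} {f : X ⟶ Y} {p₀ p₁ : X₂ ⟶ X} (hX₂ : IsPullback p₀ p₁ f f)
  {u : U ⟶ X} {a₀ : U₀ ⟶ U} {b₀ : U₀ ⟶ X₂} (hU₀ : IsPullback a₀ b₀ u p₀) {a₁ : U₁ ⟶ U} {b₁ : U₁ ⟶ X₂}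
  (φ : U₀ ⟶ U₁)

/-- the point of `U₀` -/
noncomputable def pt {T : Sp S} (p : T ⟶ U) (x : T ⟶ X) (h : p ≫ u ≫ f = x ≫ f) : T ⟶ U₀ :=
  hU₀.lift p (hX₂.lift (p ≫ u) x (by rw [Category.assoc, h])) (hX₂.lift_fst _ _ _).symm

theorem pt_a₀ {T : Sp S} (p : T ⟶ U) (x : T ⟶ X) (h : p ≫ u ≫ f = x ≫ f) : pt hX₂ hU₀ p x h ≫ a₀ = p :=
  hU₀.lift_fst _ _ _

theorem pt_b₀ {T : Sp S} (p : T ⟶ U) (x : T ⟶ X) (h : p ≫ u ≫ f = x ≫ f) :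
    pt hX₂ hU₀ p x h ≫ b₀ = hX₂.lift (p ≫ u) x (by rw [Category.assoc, h]) :=
  hU₀.lift_snd _ _ _

theorem eq_pt {T : Sp S} (l : T ⟶ U₀) (p : T ⟶ U) (x : T ⟶ X) (h : p ≫ u ≫ f = x ≫ f) (h1 : l ≫ a₀ = p)
    (h2 : l ≫ b₀ ≫ p₁ = x) : l = pt hX₂ hU₀ p x h := by
  apply hU₀.hom_ext
  · rw [pt_a₀, h1]
  · rw [pt_b₀]
    apply hX₂.hom_ext
    · rw [hX₂.lift_fst, Category.assoc, ← hU₀.w, ← Category.assoc, h1]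
    · rw [hX₂.lift_snd, Category.assoc, h2]

/-- transport -/
noncomputable def trf (a₁ : U₁ ⟶ U) {T : Sp S} (p : T ⟶ U) (x : T ⟶ X) (h : p ≫ u ≫ f = x ≫ f) : T ⟶ U :=
  pt hX₂ hU₀ p x h ≫ φ ≫ a₁

theorem trf_u (hU₁ : IsPullback a₁ b₁ u p₁) (hφ : φ ≫ b₁ = b₀) {T : Sp S} (p : T ⟶ U) (x : T ⟶ X)
    (h : p ≫ u ≫ f = x ≫ f) : trf hX₂ hU₀ φ a₁ p x h ≫ u = x := by
  rw [trf, Category.assoc, Category.assoc, hU₁.w, reassoc_of% hφ, ← Category.assoc, pt_b₀, hX₂.lift_snd]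

theorem comp_trf {T T' : Sp S} (t : T' ⟶ T) (p : T ⟶ U) (x : T ⟶ X) (h : p ≫ u ≫ f = x ≫ f)
    (h' : (t ≫ p) ≫ u ≫ f = (t ≫ x) ≫ f) : t ≫ trf hX₂ hU₀ φ a₁ p x h = trf hX₂ hU₀ φ a₁ (t ≫ p) (t ≫ x) h' := by
  rw [trf, trf, ← Category.assoc]
  congr 1
  apply eq_pt
  · rw [Category.assoc, pt_a₀]
  · rw [Category.assoc, ← Category.assoc (pt hX₂ hU₀ p x h), pt_b₀, hX₂.lift_snd]

theorem trf_inj (hU₁ : IsPullback a₁ b₁ u p₁) (hφ : φ ≫ b₁ = b₀) [Mono φ] {T : Sp S} (p q : T ⟶ U) (x : T ⟶ X)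
    (h : p ≫ u ≫ f = x ≫ f) (h' : q ≫ u ≫ f = x ≫ f) (hpq : p ≫ u = q ≫ u)
    (e : trf hX₂ hU₀ φ a₁ p x h = trf hX₂ hU₀ φ a₁ q x h') : p = q := by
  have h1 : pt hX₂ hU₀ p x h ≫ φ = pt hX₂ hU₀ q x h' ≫ φ := by
    apply hU₁.hom_ext
    · rw [Category.assoc, Category.assoc]
      exact e
    · rw [Category.assoc, Category.assoc, hφ, pt_b₀, pt_b₀]
      congr 1
  rw [← pt_a₀ hX₂ hU₀ p x h, ← pt_a₀ hX₂ hU₀ q x h', (cancel_mono φ).1 h1]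

end datum

/-- Let f : X → Y be a proper and surjective morphism between algebraic spaces over the scheme S and let
U → X be etale. A descent datum on U relative to f is an isomorphism φ : U ×_{X,p₀} (X ×_Y X) ≅ U
×_{X,p₁} (X ×_Y X) over X ×_Y X whose three pullbacks ψ₀₁, ψ₁₂, ψ₀₂ to X ×_Y X ×_Y X satisfy ψ₀₁ ≫
ψ₁₂ = ψ₀₂; here all fibre products are given as cartesian squares and the pulled-back maps are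
pinned by their defining equations. Then the descent datum is effective: there exist an algebraic
space V etale over Y and a morphism U → V exhibiting U as X ×_Y V, under which φ corresponds to the
canonical descent datum (the two composites U ×_{X,p₀} (X ×_Y X) → V agree). -/
theorem result {S : Scheme.{u}}
    {X Y X₂ X₃ U U₀ U₁ W₀ W₁ W₂ : AlgSp.Space S} (f : X ⟶ Y)
    (hf : AlgSp.IsProperMor f.hom) (hfs : AlgSp.IsSurjectiveMor f.hom)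
    (p₀ p₁ : X₂ ⟶ X) (hX₂ : IsPullback p₀.hom p₁.hom f.hom f.hom)
    (π₀₁ π₁₂ π₀₂ : X₃ ⟶ X₂) (hX₃ : IsPullback π₀₁.hom π₁₂.hom p₁.hom p₀.hom)
    (h₀₂ : π₀₂ ≫ p₀ = π₀₁ ≫ p₀) (h₀₂' : π₀₂ ≫ p₁ = π₁₂ ≫ p₁)
    (u : U ⟶ X) (hu : AlgSp.IsEtaleMor u.hom)
    (a₀ : U₀ ⟶ U) (b₀ : U₀ ⟶ X₂) (hU₀ : IsPullback a₀.hom b₀.hom u.hom p₀.hom)
    (a₁ : U₁ ⟶ U) (b₁ : U₁ ⟶ X₂) (hU₁ : IsPullback a₁.hom b₁.hom u.hom p₁.hom)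
    (φ : U₀ ≅ U₁) (hφ : φ.hom ≫ b₁ = b₀)
    (c₀ : W₀ ⟶ U) (d₀ : W₀ ⟶ X₃) (hW₀ : IsPullback c₀.hom d₀.hom u.hom (π₀₁ ≫ p₀).hom)
    (c₁ : W₁ ⟶ U) (d₁ : W₁ ⟶ X₃) (hW₁ : IsPullback c₁.hom d₁.hom u.hom (π₀₁ ≫ p₁).hom)
    (c₂ : W₂ ⟶ U) (d₂ : W₂ ⟶ X₃) (hW₂ : IsPullback c₂.hom d₂.hom u.hom (π₁₂ ≫ p₁).hom)
    (e₀ : W₀ ⟶ U₀) (he₀ : e₀ ≫ a₀ = c₀) (he₀' : e₀ ≫ b₀ = d₀ ≫ π₀₁)
    (e₁ : W₁ ⟶ U₀) (he₁ : e₁ ≫ a₀ = c₁) (he₁' : e₁ ≫ b₀ = d₁ ≫ π₁₂)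
    (e₂ : W₀ ⟶ U₀) (he₂ : e₂ ≫ a₀ = c₀) (he₂' : e₂ ≫ b₀ = d₀ ≫ π₀₂)
    (ψ₀₁ : W₀ ⟶ W₁) (hψ₀₁ : ψ₀₁ ≫ d₁ = d₀) (hψ₀₁' : ψ₀₁ ≫ c₁ = e₀ ≫ φ.hom ≫ a₁)
    (ψ₁₂ : W₁ ⟶ W₂) (hψ₁₂ : ψ₁₂ ≫ d₂ = d₁) (hψ₁₂' : ψ₁₂ ≫ c₂ = e₁ ≫ φ.hom ≫ a₁)
    (ψ₀₂ : W₀ ⟶ W₂) (hψ₀₂ : ψ₀₂ ≫ d₂ = d₀) (hψ₀₂' : ψ₀₂ ≫ c₂ = e₂ ≫ φ.hom ≫ a₁)
    (cocycle : ψ₀₁ ≫ ψ₁₂ = ψ₀₂) :
    ∃ (V : AlgSp.Space S) (v : V ⟶ Y) (g : U ⟶ V), AlgSp.IsEtaleMor v.hom ∧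
      IsPullback g.hom u.hom v.hom f.hom ∧ a₀ ≫ g = φ.hom ≫ a₁ ≫ g := by
  have hφ' : φ.hom.hom ≫ b₁.hom = b₀.hom := congrArg (fun k => k.hom) hφ
  have hmono : Mono φ.hom.hom := by
    have : φ.hom.hom ≫ φ.inv.hom = 𝟙 _ := congrArg (fun k => k.hom) φ.hom_inv_id
    exact (SplitMono.mk _ this).mono
  have htt : ∀ {T : Sp S} (p : T ⟶ U.obj) (x x' : T ⟶ X.obj) (h : p ≫ u.hom ≫ f.hom = x ≫ f.hom)
      (h' : trf hX₂ hU₀ φ.hom.hom a₁.hom p x h ≫ u.hom ≫ f.hom = x' ≫ f.hom)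
      (h'' : p ≫ u.hom ≫ f.hom = x' ≫ f.hom), trf hX₂ hU₀ φ.hom.hom a₁.hom
        (trf hX₂ hU₀ φ.hom.hom a₁.hom p x h) x' h' = trf hX₂ hU₀ φ.hom.hom a₁.hom p x' h'' := by
    intro T p x x' h h' h''
    have hx : x ≫ f.hom = x' ≫ f.hom := h.symm.trans h''
    have hpx : (p ≫ u.hom) ≫ f.hom = x ≫ f.hom := by rw [Category.assoc, h]
    obtain ⟨r, hr1, hr2⟩ : ∃ r : T ⟶ X₃.obj, r ≫ π₀₁.hom = hX₂.lift (p ≫ u.hom) x hpx ∧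
        r ≫ π₁₂.hom = hX₂.lift x x' hx :=
      ⟨hX₃.lift _ _ (by rw [hX₂.lift_snd, hX₂.lift_fst]), hX₃.lift_fst _ _ _, hX₃.lift_snd _ _ _⟩
    obtain ⟨m, hm1, hm2⟩ : ∃ m : T ⟶ W₀.obj, m ≫ c₀.hom = p ∧ m ≫ d₀.hom = r :=
      ⟨hW₀.lift p r (by
        change p ≫ u.hom = r ≫ π₀₁.hom ≫ p₀.hom
        rw [← Category.assoc, hr1, hX₂.lift_fst]), hW₀.lift_fst _ _ _, hW₀.lift_snd _ _ _⟩
    have k1 : e₀.hom ≫ a₀.hom = c₀.hom := congrArg (fun k => k.hom) he₀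
    have k2 : e₀.hom ≫ b₀.hom = d₀.hom ≫ π₀₁.hom := congrArg (fun k => k.hom) he₀'
    have k3 : e₁.hom ≫ a₀.hom = c₁.hom := congrArg (fun k => k.hom) he₁
    have k4 : e₁.hom ≫ b₀.hom = d₁.hom ≫ π₁₂.hom := congrArg (fun k => k.hom) he₁'
    have k5 : e₂.hom ≫ a₀.hom = c₀.hom := congrArg (fun k => k.hom) he₂
    have k6 : e₂.hom ≫ b₀.hom = d₀.hom ≫ π₀₂.hom := congrArg (fun k => k.hom) he₂'
    have k7 : ψ₀₁.hom ≫ d₁.hom = d₀.hom := congrArg (fun k => k.hom) hψ₀₁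
    have k8 : ψ₀₁.hom ≫ c₁.hom = e₀.hom ≫ φ.hom.hom ≫ a₁.hom := congrArg (fun k => k.hom) hψ₀₁'
    have k9 : ψ₁₂.hom ≫ c₂.hom = e₁.hom ≫ φ.hom.hom ≫ a₁.hom := congrArg (fun k => k.hom) hψ₁₂'
    have k10 : ψ₀₂.hom ≫ c₂.hom = e₂.hom ≫ φ.hom.hom ≫ a₁.hom := congrArg (fun k => k.hom) hψ₀₂'
    have k11 : ψ₀₁.hom ≫ ψ₁₂.hom = ψ₀₂.hom := congrArg (fun k => k.hom) cocycle
    have k12 : π₀₂.hom ≫ p₁.hom = π₁₂.hom ≫ p₁.hom := congrArg (fun k => k.hom) h₀₂'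
    have l0 : m ≫ e₀.hom = pt hX₂ hU₀ p x h := by
      apply eq_pt
      · rw [Category.assoc, k1, hm1]
      · rw [Category.assoc, ← Category.assoc e₀.hom, k2, Category.assoc, ← Category.assoc m, hm2,
          ← Category.assoc, hr1, hX₂.lift_snd]
    have l1 : (m ≫ ψ₀₁.hom) ≫ e₁.hom = pt hX₂ hU₀ (trf hX₂ hU₀ φ.hom.hom a₁.hom p x h) x' h' := by
      apply eq_pt
      · rw [Category.assoc, Category.assoc, k3, k8, ← Category.assoc, l0, trf]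
      · rw [Category.assoc, ← Category.assoc e₁.hom, k4, Category.assoc, Category.assoc,
          ← Category.assoc ψ₀₁.hom, k7, ← Category.assoc, hm2, ← Category.assoc, hr2, hX₂.lift_snd]
    have l2 : m ≫ e₂.hom = pt hX₂ hU₀ p x' h'' := by
      apply eq_pt
      · rw [Category.assoc, k5, hm1]
      · rw [Category.assoc, ← Category.assoc e₂.hom, k6, Category.assoc, ← Category.assoc m, hm2, k12,
          ← Category.assoc, hr2, hX₂.lift_snd]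
    conv_lhs => rw [trf]
    conv_rhs => rw [trf]
    rw [← l1, ← l2, Category.assoc, ← k9, Category.assoc, Category.assoc m, ← k10, ← k11]
    simp only [Category.assoc]
  have htu : ∀ {T : Sp S} (p : T ⟶ U.obj) (x : T ⟶ X.obj) (h : p ≫ u.hom ≫ f.hom = x ≫ f.hom),
      trf hX₂ hU₀ φ.hom.hom a₁.hom p x h ≫ u.hom = x := fun p x h => trf_u hX₂ hU₀ _ hU₁ hφ' p x h
  let D : K601.PD.DD f.hom u.hom :=
    { tr := fun p x h => trf hX₂ hU₀ φ.hom.hom a₁.hom p x h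
      tr_u := htu
      comp_tr := fun t p x h h' => comp_trf hX₂ hU₀ _ t p x h h'
      tr_id := fun {T} p h => by
        refine trf_inj hX₂ hU₀ φ.hom.hom hU₁ hφ' _ _ (p ≫ u.hom) (by rw [← Category.assoc, htu]) h (htu _ _ _) ?_
        exact htt _ _ _ _ _ _
      tr_tr := fun p x x' h h' h'' => htt p x x' h h' h'' }
  obtain ⟨V, v, g, hV, hv, sq, hg⟩ := K601.PD.main X.property Y.property hf U.property hu D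
  refine ⟨⟨V, hV⟩, ⟨v⟩, ⟨g⟩, hv, sq, ObjectProperty.hom_ext _ ?_⟩
  have h1 := hg a₀.hom (b₀.hom ≫ p₁.hom) (by
    rw [← Category.assoc, hU₀.w, Category.assoc, hX₂.w, Category.assoc])
  have h2 : D.tr a₀.hom (b₀.hom ≫ p₁.hom) (by
      rw [← Category.assoc, hU₀.w, Category.assoc, hX₂.w, Category.assoc]) = φ.hom.hom ≫ a₁.hom := by
    change pt hX₂ hU₀ _ _ _ ≫ _ = _
    rw [← eq_pt hX₂ hU₀ (𝟙 _) _ _ _ (Category.id_comp _) (Category.id_comp _), Category.id_comp]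
  rw [h2, Category.assoc] at h1
  exact h1.symm

end Groth.Agent.S12201
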