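import Groth.Statements.S10203
import Groth.Agent.AlgSp.K610.Noeth

set_option autoImplicit false
universe u
open CategoryTheory CategoryTheory.Limits AlgebraicGeometry Topology TopologicalSpace
open AlgSp

namespace Groth.Agent.S10203

/-- If X is a quasi-compact, locally Noetherian algebraic space over a scheme S, then |X| is a
Noetherian topological space. -/
theorem result {S : Scheme.{u}} (X : AlgSp.Space S)
    (hqc : AlgSp.IsQuasiCompactSp X.obj) (hX : AlgSp.IsLocNoethSp X.obj) :
    NoetherianSpace (AlgSp.Points X.obj) := by
  have := K610.Noeth.compactSpace_points hqc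
  exact K610.Noeth.noetherianSpace_of_local (K610.Noeth.exists_nhd hX)

end Groth.Agent.S10203
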