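import Groth.Statements.S10240
import Groth.Agent.AlgSp.K644.Ses
import Groth.Agent.AlgSp.K644.CohAff
import Groth.Agent.AlgSp.K644.Chart

set_option autoImplicit false
universe u
open CategoryTheory CategoryTheory.Limits AlgebraicGeometry Topology TopologicalSpace
open AlgSp

namespace Groth.Agent.S10240

/-- Let X be an algebraic space over a scheme S. Colimits of quasi-coherent O_X-modules are
quasi-coherent; kernels and cokernels of maps between quasi-coherent O_X-modules are quasi-coherent;
and in a short exact sequence of O_X-modules, if two out of three are quasi-coherent then so is the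
third. -/
theorem result {S : Scheme.{u}} (X : AlgSp.Space S) :
    (∀ (J : Type u) [SmallCategory J] (D : J ⥤ AlgSp.ModEt X.obj) [HasColimit D],
        (∀ j, (D.obj j).IsQuasicoherent) → (colimit D).IsQuasicoherent) ∧
    (∀ (F G : AlgSp.ModEt X.obj) (φ : F ⟶ G), F.IsQuasicoherent → G.IsQuasicoherent →
        (kernel φ).IsQuasicoherent ∧ (cokernel φ).IsQuasicoherent) ∧
    (∀ C : ShortComplex (AlgSp.ModEt X.obj), C.ShortExact →
        (C.X₁.IsQuasicoherent → C.X₂.IsQuasicoherent → C.X₃.IsQuasicoherent) ∧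
        (C.X₁.IsQuasicoherent → C.X₃.IsQuasicoherent → C.X₂.IsQuasicoherent) ∧
        (C.X₂.IsQuasicoherent → C.X₃.IsQuasicoherent → C.X₁.IsQuasicoherent)) := by
  have key : ∀ M : AlgSp.ModEt X.obj, M.IsQuasicoherent ↔
      K644.Psh.IsQC (AlgSp.EtOver.toScheme X.obj) M.val :=
    K644.QCoh.isQuasicoherent_iff (AlgSp.EtOver.toScheme X.obj)
  refine ⟨fun J _ D _ h => ?_, fun F G φ hF hG => ⟨?_, ?_⟩, fun C hC => ⟨fun h1 h2 => ?_,
    fun h1 h3 => ?_, fun h2 h3 => ?_⟩⟩
  · exact (key _).2 (K644.Colim.isQC_of_isColimit (colimit.isColimit D) fun j => (key _).1 (h j))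
  · exact (key _).2 (K644.Exact.isQC_kernel ((key _).1 hF) ((key _).1 hG) (kernel.ι φ) φ
      (kernel.condition φ) (kernelIsKernel φ))
  · exact (key _).2 (K644.Exact.isQC_cokernel ((key _).1 hF) ((key _).1 hG) φ (cokernel.π φ)
      (cokernel.condition φ) (cokernelIsCokernel φ))
  · exact (key _).2 (K644.Ses.isQC_X₃ hC ((key _).1 h1) ((key _).1 h2))
  · exact (key _).2 (K644.Ses.isQC_X₂ hC ((key _).1 h1) ((key _).1 h3))
  · exact (key _).2 (K644.Ses.isQC_X₁ hC ((key _).1 h2) ((key _).1 h3))

end Groth.Agent.S10240
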