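import Groth.Statements.S10754
import Groth.Agent.AlgSp.K644.CohAff

set_option autoImplicit false
universe u
open CategoryTheory CategoryTheory.Limits AlgebraicGeometry Opposite
open AlgSp

namespace Groth.Agent.S10754

/-- The terminal object of the small étale site of a scheme. -/
theorem exists_isTerminal {S : Scheme.{u}} {X : Sp S} (T : Over S) (e : (yon S).obj T ≅ X) :
    ∃ t : EtOver X, Nonempty (IsTerminal t) ∧ t.obj.left.left = T.left := by
  have he : RepWith @Etale e.hom :=
    (repWith_isStableUnderBaseChange (S := S) @Etale).of_isPullback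
      (IsPullback.of_horiz_isIso (fst := 𝟙 _) (snd := e.hom) (f := 𝟙 _) (g := e.inv) ⟨by simp⟩)
      (repWith_id @Etale T)
  refine ⟨EtOver.mk e.hom he, ⟨IsTerminal.ofUniqueHom (fun E => EtOver.homMk
    (E' := EtOver.mk e.hom he) ((yon S).preimage (E.obj.hom ≫ e.inv)) (by
      rw [Functor.map_preimage, Category.assoc]
      exact (congrArg (fun z => E.obj.hom ≫ z) e.inv_hom_id).trans (Category.comp_id _)))
    (fun E m => EtOver.hom_ext _ _ ((yon S).map_injective ?_))⟩, rfl⟩
  have h : (yon S).map m.hom.left ≫ e.hom = E.obj.hom := EtOver.w m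
  rw [← cancel_mono e.hom, h]
  refine Eq.symm (Eq.trans (congrArg (fun z => z ≫ e.hom)
    ((yon S).map_preimage (E.obj.hom ≫ e.inv))) ?_)
  change (E.obj.hom ≫ e.inv) ≫ e.hom = _
  rw [Category.assoc, e.inv_hom_id, Category.comp_id]

/-- Consider an algebraic space X over S that happens to be an affine scheme, meaning X ≅ h_T where T is
an affine scheme over S. Then for each i > 0 and each quasi-coherent O_X-module M on the small etale
site of X, the cohomology H^i(X, M) vanishes. -/
theorem result {S : Scheme.{u}} (X : AlgSp.Space S) (T : Over S)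
    (hT : IsAffine T.left) (e : (AlgSp.yon S).obj T ≅ X.obj) (M : AlgSp.ModEt X.obj) [M.IsQuasicoherent]
    (i : ℕ) (hi : 0 < i) :
    Subsingleton (AlgSp.HModEt X.obj M i) := by
  obtain ⟨t, ⟨ht⟩, h⟩ := exists_isTerminal T e
  obtain ⟨n, rfl⟩ := Nat.exists_eq_succ_of_ne_zero hi.ne'
  exact K644.CohAff.subsingleton_HModEt ht (by rw [h]; exact hT) M n

end Groth.Agent.S10754
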