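import Groth.Statements.S9635
import Groth.Agent.CAlg.K77.SepDiag
import Groth.Agent.VarietyA.GeomRedAlg
import Groth.Agent.Ega41.RedTensor
import Mathlib.LinearAlgebra.TensorProduct.Quotient

set_option autoImplicit false
universe u
open CAlg

namespace Groth.Agent.S9635

open TensorProduct in
theorem descend {k k' A : Type*} [Field k] [Field k'] [Algebra k k'] [Algebra.IsSeparable k k']
    [CommRing A] [Algebra k' A] [Algebra k A] [IsScalarTower k k' A] (K : Type*) [Field K]
    [Algebra k' K] [Algebra k K] [IsScalarTower k k' K] (h : IsReduced (K ⊗[k] A)) :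
    IsReduced (K ⊗[k'] A) := by
  let π : K ⊗[k] A →ₐ[k] K ⊗[k'] A := Algebra.TensorProduct.mapOfCompatibleSMul k' k k K A
  have hπ : Function.Surjective π := by
    intro x
    induction x using TensorProduct.induction_on with
    | zero => exact ⟨0, map_zero _⟩
    | tmul a b => exact ⟨a ⊗ₜ b, rfl⟩
    | add a b ha hb =>
      obtain ⟨a', ha⟩ := ha
      obtain ⟨b', hb⟩ := hb
      exact ⟨a' + b', by rw [map_add, ha, hb]⟩
  let i : k' →+* K ⊗[k] A :=
    ((Algebra.TensorProduct.includeLeft : K →ₐ[k] K ⊗[k] A).comp
      (IsScalarTower.toAlgHom k k' K)).toRingHom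
  let j : k' →+* K ⊗[k] A :=
    ((Algebra.TensorProduct.includeRight : A →ₐ[k] K ⊗[k] A).comp
      (IsScalarTower.toAlgHom k k' A)).toRingHom
  have hi : ∀ s, i s = algebraMap k' K s ⊗ₜ 1 := fun s => rfl
  have hj : ∀ s, j s = 1 ⊗ₜ algebraMap k' A s := fun s => rfl
  have hker : ∀ x, π x = 0 → x ∈ Ideal.span (Set.range fun s : k' => i s - j s) := by
    intro x hx
    have h1 : x ∈ (TensorProduct.mapOfCompatibleSMul k' k k' K A).ker := hx
    rw [TensorProduct.AlgebraTensorModule.ker_mapOfCompatibleSMul] at h1
    clear hx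
    induction h1 using Submodule.span_induction with
    | mem x hx =>
      obtain ⟨a, m, n, rfl⟩ := hx
      have h2 : (a • m) ⊗ₜ[k] n - m ⊗ₜ[k] (a • n) = (m ⊗ₜ n) * (i a - j a) := by
        rw [hi, hj, mul_sub, Algebra.TensorProduct.tmul_mul_tmul,
          Algebra.TensorProduct.tmul_mul_tmul, mul_one, mul_one, Algebra.smul_def,
          Algebra.smul_def, mul_comm m, mul_comm n]
      rw [h2]
      exact Ideal.mul_mem_left _ _ (Ideal.subset_span ⟨a, rfl⟩)
    | zero => exact zero_mem _
    | add x y _ _ hx hy => exact add_mem hx hy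
    | smul a x _ hx =>
      rw [Algebra.smul_def]
      exact Ideal.mul_mem_left _ _ hx
  refine ⟨fun x hx => ?_⟩
  obtain ⟨y, rfl⟩ := hπ x
  obtain ⟨n, hn⟩ := hx
  rw [← map_pow] at hn
  obtain ⟨t, ht, hte⟩ := K77.SepDiag.exists_kill_of_mem_span (k := k) i j π.toRingHom
    (fun a => by
      rw [hi, hj, ← IsScalarTower.algebraMap_apply, ← IsScalarTower.algebraMap_apply,
        ← Algebra.TensorProduct.algebraMap_apply, Algebra.TensorProduct.algebraMap_apply'])
    (fun s => by
      change (algebraMap k' K s ⊗ₜ[k'] (1 : A)) = (1 : K) ⊗ₜ[k'] algebraMap k' A s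
      rw [Algebra.algebraMap_eq_smul_one, Algebra.algebraMap_eq_smul_one,
        TensorProduct.smul_tmul]) _ (hker _ hn)
  have h2 : (t * y) ^ (n + 1) = 0 := by
    rw [mul_pow, pow_succ t, pow_succ y]
    linear_combination t ^ n * y * hte
  have h3 : t * y = 0 := h.eq_zero _ ⟨_, h2⟩
  have h4 : π t * π y = 0 := by rw [← map_mul, h3, map_zero]
  exact (IsUnit.mul_right_eq_zero ht).1 h4

open TensorProduct in
/-- Let k ⊆ k' be fields with k' separable algebraic over k, and A a k'-algebra. Then A is geometrically
reduced over k (K ⊗_k A reduced for all field extensions K/k) if and only if A is geometrically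
reduced over k' (K ⊗_{k'} A reduced for all field extensions K/k'). Here the test fields K range
over field extensions (of k, respectively of k') in the common universe of k and k'; this is
equivalent to the unrestricted notions, since an algebraic closure of the base field suffices as a
test. -/
theorem result {k k' A : Type u} [Field k] [Field k'] [Algebra k k'] [Algebra.IsSeparable k k'] [CommRing A] [Algebra k' A] [Algebra k A] [IsScalarTower k k' A] :
    (∀ (K : Type u) [Field K] [Algebra k K], IsReduced (K ⊗[k] A)) ↔
      ∀ (K : Type u) [Field K] [Algebra k' K], IsReduced (K ⊗[k'] A) := by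
  constructor
  · intro h K _ _
    let : Algebra k K := ((algebraMap k' K).comp (algebraMap k k')).toAlgebra
    have : IsScalarTower k k' K := IsScalarTower.of_algebraMap_eq fun _ => rfl
    exact descend K (h K)
  · intro h K _ _
    have hA : Algebra.IsGeometricallyReduced k' A := by
      rw [Algebra.isGeometricallyReduced_field_iff]
      exact h _
    have h1 : IsReduced (K ⊗[k] k') :=
      Groth.Agent.Ega41.RedTensor.isReduced_tensor_of_isSeparable k K k'
    have h1' : IsReduced (k' ⊗[k] K) :=
      isReduced_of_injective (Algebra.TensorProduct.comm k k' K) (AlgEquiv.injective _)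
    have h2 : IsReduced ((k' ⊗[k] K) ⊗[k'] A) :=
      Groth.Agent.VarietyA.GeomRedAlg.isReduced_tensorProduct
    have h3 : IsReduced (A ⊗[k'] (k' ⊗[k] K)) :=
      isReduced_of_injective (Algebra.TensorProduct.comm k' A (k' ⊗[k] K)) (AlgEquiv.injective _)
    have h4 : IsReduced (A ⊗[k] K) :=
      isReduced_of_injective (Algebra.TensorProduct.cancelBaseChange k k' k' A K).symm
        (AlgEquiv.injective _)
    exact isReduced_of_injective (Algebra.TensorProduct.comm k K A) (AlgEquiv.injective _)

end Groth.Agent.S9635
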