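import Groth.Statements.S12775
import Groth.Agent.AlgSt.K734.Rep
import Groth.Agent.S9874

set_option autoImplicit false
open CategoryTheory AlgebraicGeometry
universe u
open AlgSt

namespace Groth.Agent.S12775

/-- If `𝒳` and `𝒴` are categories fibred in groupoids over `(Sch/S)` that are both representable by
algebraic spaces, then every 1-morphism `f : 𝒳 ⟶ 𝒴` is representable by algebraic spaces. -/
theorem result {S : Scheme.{u}} {𝒳 𝒴 : AlgSt.Cat S}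
    (h𝒳 : FibCat.IsFibGrpd 𝒳.p) (h𝒴 : FibCat.IsFibGrpd 𝒴.p)
    (hX : AlgSt.RepByAlgSp 𝒳) (hY : AlgSt.RepByAlgSp 𝒴) (f : 𝒳 ⥤ᵇ 𝒴) :
    AlgSt.RepByAlgSp1 f := by
  obtain ⟨F, e, he⟩ := hX
  obtain ⟨G, e', he'⟩ := hY
  obtain ⟨k, hk, -, ⟨b⟩⟩ := K734.Fib.exists_inverse he'
  -- reduce to a map of sheaves
  let Φ : AlgSt.ofSp F.obj ⥤ᵇ AlgSt.ofSp G.obj := BasedFunctor.comp (BasedFunctor.comp e f) k
  obtain ⟨i⟩ := K735.Rep.exists_iso_spMap Φ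
  have h1 : AlgSt.RepByAlgSp1 (AlgSt.ofSpMap (K735.Rep.spMap Φ)) := by
    refine (K734.Rep.repBySp_iff (K735.Rep.spMap Φ).hom).1 ?_
    rw [AlgSp.repBySp_hom_iff]
    intro U ξ F' fst snd sq
    exact Groth.Agent.S9874.result S G.obj G.property.diag F ⟨_, AlgSp.IsAlgSpace.yon_obj U⟩
      (K735.Rep.spMap Φ) ξ F' fst snd sq
  have h2 : AlgSt.RepByAlgSp1 Φ := K734.Rep.repByAlgSp1_of_iso i.symm h1
  rw [K735.Rep.repByAlgSp1_iff_top] at h2 ⊢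
  obtain ⟨e₁, he₁, -, ⟨b₁⟩⟩ := K734.Fib.exists_inverse he
  refine K735.Rep.repByAlgSpWith_of_sq ⊤ Φ f e₁ k he₁ hk ?_ h2
  exact (K734.Fib.wr b₁ (BasedFunctor.comp f k)).symm

end Groth.Agent.S12775
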