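import Groth.Statements.S16702
import Groth.Agent.AlgSt.K746.EtMod
-- import your own Groth.Agent.* helpers here

set_option autoImplicit false
universe u
open AlgSt AlgSt.IsWellNighAffine

namespace Groth.Agent.S16702

open CategoryTheory AlgebraicGeometry in
/-- Let `𝒳` be a well-nigh affine algebraic stack with categorical moduli space `π : 𝒳 → M` (the affine
moduli space), and `h : 𝒳' → 𝒳` a morphism of algebraic stacks representable by algebraic spaces and
étale, separated, and bijective on the automorphism groups (over the identity) of all objects. Then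
`𝒳'` maps to a scheme `M'` separated and étale over `M` with `𝒳' ≃ M' ×_M 𝒳`. (The source asks `h`
étale and inducing isomorphisms on automorphism groups at all points; such an `h` is representable
by algebraic spaces, and for unramified `h` the pointwise condition is the inertia condition used
here.) -/
theorem result (S : Scheme.{u})
    (𝒳 𝒳' : AlgSt.Cat S)
    (h𝒳 : AlgSt.IsAlgStack Scheme.fppfPrecoverage 𝒳) (h𝒳' : AlgSt.IsAlgStack Scheme.fppfPrecoverage 𝒳')
    (hw : AlgSt.IsWellNighAffine 𝒳) (h : 𝒳' ⥤ᵇ 𝒳)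
    (het : AlgSt.RepByAlgSpWith AlgSp.IsEtaleMor h) (hsep : AlgSt.IsSeparatedMor h)
    (haut : ∀ x' : 𝒳'.obj, Function.Bijective (Gerb.autMap h x'))
    (M : AlgSp.Sp S) (π : 𝒳 ⥤ᵇ AlgSt.ofSp M) (hπ : AlgSt.IsCatModuli π) :
    ∃ (M' : Over S) (π' : 𝒳' ⥤ᵇ AlgSt.ofSch M') (g : (AlgSp.yon S).obj M' ⟶ M)
      (e : BasedFunctor.comp h π ≅ BasedFunctor.comp π' (AlgSt.ofSpMap g)),
      AlgSp.IsEtaleMor g ∧ AlgSp.IsSeparatedMor g ∧ FibCat.IsTwoCartOver h π' e := by
  exact K746.EtWna.exists_etale_moduli_of_isCatModuli h𝒳 h𝒳' hw h het hsep haut M π hπ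

end Groth.Agent.S16702
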