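import Groth.Statements.S9955
import Groth.Agent.AlgSp.K598.Disc
import Groth.Agent.AlgSp.K613.Chart

set_option autoImplicit false
universe u
open CategoryTheory CategoryTheory.Limits AlgebraicGeometry
open AlgSp

namespace Groth.Agent.S9955

/-- A morphism locally of finite type is locally quasi-finite if and only if all its fibres over
field-valued points have discrete spaces of points. -/
theorem result {S : Scheme.{u}} {X Y : AlgSp.Space S} (f : X ⟶ Y)
    (hf : AlgSp.LocP @LocallyOfFiniteType f.hom) :
    AlgSp.LocP ((@LocallyQuasiFinite : MorphismProperty Scheme.{u}) ⊓ @LocallyOfFiniteType) f.hom ↔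
      ∀ (k : Type u) [Field k] (str : Spec (CommRingCat.of k) ⟶ S) (y : (AlgSp.yon S).obj (Over.mk str) ⟶ Y.obj)
        (P : AlgSp.Sp S) (fst : P ⟶ X.obj) (snd : P ⟶ (AlgSp.yon S).obj (Over.mk str)),
        IsPullback fst snd f.hom y → DiscreteTopology (AlgSp.Points P) := by
  constructor
  · intro hq k _ str y P fst snd sq
    have hP : IsAlgSpace P := K613.Chart.isAlgSpace_of_isPullback Y.property.diag X.property (IsAlgSpace.yon_obj _) sq
    have hbc := K597.stableBC_inf @LocallyQuasiFinite.{u} @LocallyOfFiniteType.{u}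
    have h1 := K597.locP_bc K597.etLoc_lqf sq X.property.hasAtlas Y.property.hasAtlas
      (IsAlgSpace.yon_obj _).hasAtlas hq
    obtain ⟨U, u, hu, hus⟩ := hP.atlas
    obtain ⟨q, hqu⟩ := (yon S).map_surjective (u ≫ snd)
    obtain ⟨h2, h3⟩ := h1 u (𝟙 _) q hu (repWith_id _ _) (by rw [hqu, Category.comp_id])
    have h2' : LocallyQuasiFinite q.left := h2
    let c : U.left ⟶ Spec (CommRingCat.of k) := q.left
    have h4 : LocallyQuasiFinite c := h2
    have h5 : IsLocallyArtinian U.left := IsLocallyArtinian.of_locallyQuasiFinite c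
    have h6 : DiscreteTopology U.left := inferInstance
    refine discreteTopology_iff_forall_isOpen.2 fun s => ?_
    rw [← (K609.Points.isQuotientMap_ofPt hu hus).isOpen_preimage]
    exact isOpen_discrete _
  · intro H
    obtain ⟨V, b, hb, hbs⟩ := Y.property.atlas
    obtain ⟨XV, fX, fV, sqX⟩ : ∃ (XV : AlgSp.Sp S) (fX : XV ⟶ X.obj) (fV : XV ⟶ (yon S).obj V),
        IsPullback fX fV f.hom b := ⟨_, _, _, IsPullback.of_hasPullback _ _⟩
    have hXV : IsAlgSpace XV := K613.Chart.isAlgSpace_of_isPullback Y.property.diag X.property (IsAlgSpace.yon_obj _) sqX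
    have hfX : RepWith @Etale fX := K598.RepKit.repWith_of_isPullback sqX.flip hb
    have hfXs : RepWith @Surjective fX := K598.RepKit.repWith_of_isPullback sqX.flip hbs
    obtain ⟨U, a, ha, has⟩ := hXV.atlas
    obtain ⟨h, hh⟩ := (yon S).map_surjective (a ≫ fV)
    have comm : (a ≫ fX) ≫ f.hom = (yon S).map h ≫ b := by rw [Category.assoc, sqX.w, ← Category.assoc, hh]
    have hft : LocallyOfFiniteType h.left := hf (a ≫ fX) b h (MorphismProperty.comp_mem _ _ _ ha hfX) hb comm
    refine K597.locP_of_chart K597.etLoc_lqf f.hom (a ≫ fX) b h (MorphismProperty.comp_mem _ _ _ ha hfX)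
      (MorphismProperty.comp_mem _ _ _ has hfXs) hb comm ⟨?_, hft⟩
    refine LocallyQuasiFinite.of_fiberToSpecResidueField h.left fun v => ?_
    -- the fibre
    let str := V.left.fromSpecResidueField v ≫ V.hom
    let cv : Over.mk str ⟶ V := Over.homMk (V.left.fromSpecResidueField v) rfl
    obtain ⟨P, r, s, sqP⟩ : ∃ (P : AlgSp.Sp S) (r : P ⟶ XV) (s : P ⟶ (yon S).obj (Over.mk str)),
        IsPullback r s fV ((yon S).map cv) := ⟨_, _, _, IsPullback.of_hasPullback _ _⟩
    have hPd : DiscreteTopology (Points P) :=
      H (V.left.residueField v) str ((yon S).map cv ≫ b) P (r ≫ fX) s (sqP.paste_horiz sqX)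
    have sq3 : IsPullback (pullback.fst h cv) (pullback.snd h cv) h cv := IsPullback.of_hasPullback _ _
    have sq3' := sq3.map (yon S)
    have sq3'' := sq3.map (Over.forget S)
    let u : (yon S).obj (pullback h cv) ⟶ P := sqP.lift ((yon S).map (pullback.fst h cv) ≫ a)
      ((yon S).map (pullback.snd h cv)) (by
        rw [Category.assoc, ← hh, ← Functor.map_comp, pullback.condition, Functor.map_comp])
    have hu1 : u ≫ r = (yon S).map (pullback.fst h cv) ≫ a := sqP.lift_fst _ _ _
    have hu2 : u ≫ s = (yon S).map (pullback.snd h cv) := sqP.lift_snd _ _ _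
    have sq4 : IsPullback u ((yon S).map (pullback.fst h cv)) r a := by
      refine IsPullback.of_right (h₁₂ := s) (h₂₂ := fV) (v₁₃ := (yon S).map cv) ?_ hu1 sqP.flip
      rw [hu2, ← hh]
      exact sq3'.flip
    have hu : RepWith @Etale u := K598.RepKit.repWith_of_isPullback sq4.flip ha
    let c : (pullback h cv).left ⟶ Spec (CommRingCat.of (V.left.residueField v)) := (pullback.snd h cv).left
    have hc : LocallyOfFiniteType c := MorphismProperty.of_isPullback (P := @LocallyOfFiniteType) sq3'' hft
    have hd : DiscreteTopology (pullback h cv).left := K598.Disc.discreteTopology_of_chart u hu c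
    have hlq : LocallyQuasiFinite c := locallyQuasiFinite_iff_isDiscrete_preimage_singleton.2 fun x =>
      (isDiscrete_univ_iff.2 hd).mono (Set.subset_univ _)
    have sq5 : IsPullback (pullback.fst h cv).left c h.left (V.left.fromSpecResidueField v) := sq3''
    change LocallyQuasiFinite (pullback.snd h.left (V.left.fromSpecResidueField v))
    rw [← sq5.isoPullback_inv_snd]
    infer_instance

end Groth.Agent.S9955
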