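import Groth.Statements.S10649
import Mathlib.AlgebraicGeometry.ZariskisMainTheorem
import Groth.Agent.S9955
import Groth.Agent.S9925
import Groth.Agent.S10271
import Groth.Agent.S10260
import Groth.Agent.S10267
import Groth.Agent.S9922
import Groth.Agent.S9905
import Groth.Agent.S9948

set_option autoImplicit false
universe u
open CategoryTheory CategoryTheory.Limits AlgebraicGeometry
open AlgSp

namespace Groth.Agent.S10649

/-- The following conditions on a morphism f : X ⟶ Y of algebraic spaces over S are equivalent: (1)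
finiteness of f; (2) f is locally quasi-finite as well as proper (locally quasi-finite and locally
of finite type etale locally); (3) f is proper and for every field k and every k-point Spec k ⟶ Y
the fibre X_k (any pullback of f along it in fppf sheaves) has discrete space of points; (4) f is
universally closed, separated and locally of finite type, and every such fibre X_k has discrete
space of points. -/
theorem result {S : Scheme.{u}} {X Y : AlgSp.Space S} (f : X ⟶ Y) :
    [AlgSp.IsFiniteMor f.hom,
      AlgSp.IsProperMor f.hom ∧ AlgSp.LocP (@LocallyQuasiFinite ⊓ @LocallyOfFiniteType) f.hom,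
      AlgSp.IsProperMor f.hom ∧
        ∀ (k : AlgSp.FieldPt Y.obj) (Xk : AlgSp.Sp S) (fst : Xk ⟶ X.obj) (snd : Xk ⟶ (AlgSp.yon S).obj k.pt),
          IsPullback fst snd f.hom k.toHom → DiscreteTopology (AlgSp.Points Xk),
      AlgSp.IsUnivClosedMor f.hom ∧ AlgSp.IsSeparatedMor f.hom ∧ AlgSp.LocP @LocallyOfFiniteType f.hom ∧
        ∀ (k : AlgSp.FieldPt Y.obj) (Xk : AlgSp.Sp S) (fst : Xk ⟶ X.obj) (snd : Xk ⟶ (AlgSp.yon S).obj k.pt),
          IsPullback fst snd f.hom k.toHom → DiscreteTopology (AlgSp.Points Xk)].TFAE := by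
  have hP : (∀ ⦃A B : Scheme.{u}⦄ (g : A ⟶ B), (@LocallyQuasiFinite ⊓ @LocallyOfFiniteType :
      MorphismProperty Scheme.{u}) g ↔ (LocallyQuasiFinite g ∧ LocallyOfFiniteType g)) := fun _ _ _ => Iff.rfl
  -- discrete fibres, translated
  have key : LocP @LocallyOfFiniteType f.hom →
      (LocP (@LocallyQuasiFinite ⊓ @LocallyOfFiniteType) f.hom ↔
        ∀ (k : AlgSp.FieldPt Y.obj) (Xk : AlgSp.Sp S) (fst : Xk ⟶ X.obj) (snd : Xk ⟶ (AlgSp.yon S).obj k.pt),
          IsPullback fst snd f.hom k.toHom → DiscreteTopology (AlgSp.Points Xk)) := by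
    intro hf
    rw [Groth.Agent.S9955.result f hf]
    constructor
    · intro h k Xk fst snd sq
      exact h k.K k.str k.toHom Xk fst snd sq
    · intro h k _ str y P fst snd sq
      refine h ⟨k, str, (J S).uliftYonedaEquiv y⟩ P fst snd ?_
      have : (⟨k, str, (J S).uliftYonedaEquiv y⟩ : FieldPt Y.obj).toHom = y := by
        simp [FieldPt.toHom]
      rwa [this]
  tfae_have 1 → 2 := by
    intro h
    obtain ⟨_, hp⟩ := (Groth.Agent.S10271.result f).1 h
    have hr := (Groth.Agent.S10267.result f).2.1 h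
    refine ⟨hp, (Groth.Agent.S9948.result _ (Or.inr <| Or.inr <| Or.inr <| Or.inr <| Or.inr <| Or.inl hP) f hr.1).2 ?_⟩
    exact ⟨hr.1, fun W T g fst i sq => by
      have : IsFinite i.left := hr.2 g fst i sq
      exact ⟨(inferInstance : LocallyQuasiFinite i.left), (inferInstance : LocallyOfFiniteType i.left)⟩⟩
  tfae_have 2 → 1 := by
    rintro ⟨⟨h1, h2, h3⟩, h⟩
    have hr : Representable f.hom := Groth.Agent.S10260.result f h h1
    have a1 := (Groth.Agent.S9905.result f hr).1.1 h1
    have a2 := (Groth.Agent.S9922.result f hr).2 h3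
    have a3 := (Groth.Agent.S9948.result _ (Or.inr <| Or.inr <| Or.inr <| Or.inr <| Or.inr <| Or.inl hP) f hr).1 h
    refine (Groth.Agent.S10267.result f).2.2 ⟨hr, fun W T g fst i sq => ?_⟩
    have b1 : IsSeparated i.left := a1.2 g fst i sq
    have b2 : UniversallyClosed i.left := a2.2 g fst i sq
    obtain ⟨b3, b4⟩ := a3.2 g fst i sq
    have b3 : LocallyQuasiFinite i.left := b3
    have b4 : LocallyOfFiniteType i.left := b4
    have : IsProper i.left := ⟨⟩
    exact (IsFinite.of_isProper_of_locallyQuasiFinite i.left : IsFinite i.left)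
  tfae_have 2 ↔ 3 := and_congr_right fun h => key h.2.1.1
  tfae_have 3 → 4 := fun h => ⟨h.1.2.2, h.1.1, h.1.2.1.1, h.2⟩
  tfae_have 4 → 3 := fun h => ⟨⟨h.2.1, ⟨h.2.2.1, Groth.Agent.S9925.result f h.1⟩, h.1⟩, h.2.2.2⟩
  tfae_finish

end Groth.Agent.S10649
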