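import Groth.Statements.S10548
import Groth.Agent.AlgSp.K629.Cover
import Groth.Agent.AlgSp.K629.EtLocInst

set_option autoImplicit false
universe u
open CategoryTheory CategoryTheory.Limits AlgebraicGeometry
open AlgSp

namespace Groth.Agent.S10548

/-- The property of morphisms of algebraic spaces over S given by f is flat (on etale charts) is fpqc
local on the source: for a morphism f : X ⟶ Y of algebraic spaces and a fpqc covering of X by
algebraic spaces X_i, f has the property if and only if every composite X_i ⟶ X ⟶ Y has it. -/
theorem result (S : Scheme.{u}) :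
    AlgSp.IsLocalOnSource (AlgSp.IsFpqcCover (S := S)) (AlgSp.LocP @Flat) := by
  refine K629.Cover.isLocalOnSource _ @Flat (fun Xi g hX hXi hg =>
      ⟨hg.1, K629.Cover.jointly_surjective_of_isFpqcCover hX Xi g hg⟩) ?_
    (fun f g hf hg => MorphismProperty.comp_mem _ _ _ hf hg) K629.EtLocInst.flat K629.EtLocInst.flat
  intro ι Y Z X f g h1 h2 h3
  exact K629.SchDesc.family (R := @Flat) (P := @Flat)
    (fun f g hf hs h => K629.SchDesc.flat f g hf hs h) X f g h1 h2 h3


end Groth.Agent.S10548
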