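import Groth.Statements.S10549
import Groth.Agent.AlgSp.K629.Cover
import Groth.Agent.AlgSp.K629.EtLocInst

set_option autoImplicit false
universe u
open CategoryTheory CategoryTheory.Limits AlgebraicGeometry
open AlgSp

namespace Groth.Agent.S10549

/-- The property of morphisms of algebraic spaces over S given by f is locally of finite presentation
(on etale charts) is fppf local on the source: for a morphism f : X ⟶ Y of algebraic spaces and a
fppf covering of X by algebraic spaces X_i, f has the property if and only if every composite X_i ⟶
X ⟶ Y has it. -/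
theorem result (S : Scheme.{u}) :
    AlgSp.IsLocalOnSource (AlgSp.IsFppfCover (S := S)) (AlgSp.LocP @LocallyOfFinitePresentation) := by
  refine K629.Cover.isLocalOnSource _ (@Flat ⊓ @LocallyOfFinitePresentation)
    (fun Xi g hX hXi hg => ⟨fun i _ _ a b h ha hb hab =>
      ⟨(hg.1 i).1 a b h ha hb hab, (hg.1 i).2 a b h ha hb hab⟩, hg.2⟩) ?_
    (fun f g hf hg => ?_) K629.EtLocInst.fppf K629.EtLocInst.lfp
  · intro ι Y Z X f g h1 h2 h3
    exact K629.SchDesc.family (R := @Flat ⊓ @LocallyOfFinitePresentation)
      (P := @LocallyOfFinitePresentation)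
      (fun f g hf hs h => K629.SchDesc.lfp f g hf.1 hf.2 hs h) X f g h1 h2 h3
  · have := hf.2
    exact MorphismProperty.comp_mem @LocallyOfFinitePresentation _ _ inferInstance hg


end Groth.Agent.S10549
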