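import Groth.Statements.S12986
import Groth.Agent.S12763
import Groth.Agent.S12981
import Groth.Agent.S12982
import Groth.Agent.S12983
import Groth.Agent.AlgSt.K740.SpIso

set_option autoImplicit false
universe u
open CategoryTheory AlgebraicGeometry
open AlgSt

namespace Groth.Agent.S12986

/-- If the composite of f : 𝒳 → 𝒴 and g : 𝒴 → 𝒵 (morphisms of algebraic stacks) is quasi-compact and g
is quasi-separated, then f is quasi-compact. -/
theorem result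
    (S : Scheme.{u}) (𝒳 : AlgSt.Cat S) (𝒴 : AlgSt.Cat S) (𝒵 : AlgSt.Cat S)
    (h𝒳 : AlgSt.IsAlgStack Scheme.fppfPrecoverage 𝒳)
    (h𝒴 : AlgSt.IsAlgStack Scheme.fppfPrecoverage 𝒴)
    (h𝒵 : AlgSt.IsAlgStack Scheme.fppfPrecoverage 𝒵)
    (f : 𝒳 ⥤ᵇ 𝒴) (g : 𝒴 ⥤ᵇ 𝒵) :
    AlgSt.IsQuasiCompactMor Scheme.fppfPrecoverage (BasedFunctor.comp f g) → AlgSt.IsQuasiSeparatedMor g → AlgSt.IsQuasiCompactMor Scheme.fppfPrecoverage f := by
  intro h1 h2
  -- the graph of `f`, as a functor to `fp g (f ⋙ g)`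
  have h3 : AlgSt.RepByAlgSpWith AlgSp.IsQuasiCompactMor (FibCat.diag g) :=
    K740.SpIso.repByAlgSpWith_imp h2 (fun _ _ _ h => h.1)
  let e : BasedFunctor.comp (BasedFunctor.id 𝒳) (BasedFunctor.comp f g) ≅ BasedFunctor.comp f g := Iso.refl _
  have h4 := K743.DiagBC.repByAlgSpWith_graph (BasedFunctor.comp f g) g f e h3
  have h5 : AlgSt.RepByAlgSpWith AlgSp.IsQuasiCompactMor
      (BasedFunctor.comp (FibCat.fpLift (BasedFunctor.id 𝒳) f e)
        (K734.Fib.fpSwap (BasedFunctor.comp f g) g)) :=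
    (K740.Inertia.repByAlgSpWith_iff_of_equiv (K734.Fib.isEquivOver_refl 𝒳)
      (K734.Fib.isEquivOver_fpSwap (BasedFunctor.comp f g) g) (Iso.refl _)).1 h4
  have hA : AlgSt.IsAlgStack Scheme.fppfPrecoverage (FibCat.fp g (BasedFunctor.comp f g)) :=
    Groth.Agent.S12763.result h𝒵.isStack h𝒵.diag h𝒴 h𝒳 g (BasedFunctor.comp f g)
  have h6 := (Groth.Agent.S12981.result S 𝒳 _ h𝒳 hA _ (K735.Rep.repByAlgSp1_of_with h5)).1 h5
  have h7 := Groth.Agent.S12982.result S 𝒳 𝒵 𝒴 h𝒳 h𝒵 h𝒴 (BasedFunctor.comp f g) g h1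
  exact Groth.Agent.S12983.result S 𝒳 _ 𝒴 h𝒳 hA h𝒴 _ _ h6 h7

end Groth.Agent.S12986
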