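import Groth.Statements.S12972
import Groth.Agent.S12763
import Groth.Agent.S12770
import Groth.Agent.S12939
import Groth.Agent.S12943
import Groth.Agent.AlgSt.K740.Inertia
import Groth.Agent.AlgSt.K735.Rep

set_option autoImplicit false
universe u
open CategoryTheory AlgebraicGeometry
open AlgSt

namespace Groth.Agent.S12972

/-- For a morphism f : 𝒳 → 𝒴 of algebraic stacks the following are equivalent: the relative inertia
𝓘_{𝒳/𝒴} → 𝒳 is separated; the diagonal of f is separated; the neutral section 𝒳 → 𝓘_{𝒳/𝒴} (the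
second diagonal) is a closed immersion. All three morphisms are representable by algebraic spaces
and the properties are the ones of such morphisms. -/
theorem result
    (S : Scheme.{u}) (𝒳 : AlgSt.Cat S) (𝒴 : AlgSt.Cat S)
    (h𝒳 : AlgSt.IsAlgStack Scheme.fppfPrecoverage 𝒳)
    (h𝒴 : AlgSt.IsAlgStack Scheme.fppfPrecoverage 𝒴)
    (f : 𝒳 ⥤ᵇ 𝒴) :
    [AlgSt.RepByAlgSpWith AlgSp.IsSeparatedMor (FibCat.inertiaToBase f),
      AlgSt.RepByAlgSpWith AlgSp.IsSeparatedMor (FibCat.diag f),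
      AlgSt.IsClosedImm (FibCat.inertiaNeutral f)].TFAE := by
  have hA : AlgSt.IsAlgStack Scheme.fppfPrecoverage (FibCat.fp f f) :=
    Groth.Agent.S12763.result h𝒴.isStack h𝒴.diag h𝒳 h𝒳 f f
  have hB : AlgSt.IsAlgStack Scheme.fppfPrecoverage (FibCat.fp (FibCat.diag f) (FibCat.diag f)) :=
    Groth.Agent.S12763.result hA.isStack hA.diag h𝒳 h𝒳 (FibCat.diag f) (FibCat.diag f)
  have hI : AlgSt.IsAlgStack Scheme.fppfPrecoverage (FibCat.inertia f) :=
    (Groth.Agent.S12770.result (K740.Inertia.toFp f) (K740.Inertia.isEquivOver_toFp f)).2 hB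
  have hd : AlgSt.RepByAlgSp1 (FibCat.diag f) :=
    K735.Rep.repByAlgSp1_of_with (Groth.Agent.S12939.result S 𝒳 𝒴 h𝒳 h𝒴 f)
  have e := Groth.Agent.S12943.result S 𝒳 (FibCat.fp f f) h𝒳 hA (FibCat.diag f) hd
  tfae_have 2 ↔ 3 := (e.out 0 1).trans (K740.Inertia.repByAlgSpWith_inertiaNeutral_iff f).symm
  tfae_have 2 → 1 := fun h => K740.Inertia.repByAlgSpWith_inertiaToBase f h
  tfae_have 1 → 3 := fun h => by
    have e' := Groth.Agent.S12943.result S (FibCat.inertia f) 𝒳 hI h𝒳 (FibCat.inertiaToBase f)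
      (K735.Rep.repByAlgSp1_of_with h)
    exact K740.Inertia.repByAlgSpWith_section (FibCat.inertiaToBase f) (FibCat.inertiaNeutral f) (Iso.refl _)
      ((e'.out 0 1).1 h)
  tfae_finish

end Groth.Agent.S12972
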