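import Groth.Statements.S13708
import Mathlib.AlgebraicGeometry.Morphisms.Immersion
import Mathlib.AlgebraicGeometry.PullbackCarrier

set_option autoImplicit false
universe u
open CategoryTheory CategoryTheory.Limits AlgebraicGeometry
open ZeroCyc

namespace Groth.Agent.S13708

/-- Let X be a scheme over S such that every finite set of points of X over a common point of S lies in
some affine open subscheme of X (the condition (AF)). Then X is separated over S. (The published
condition (AF) asks for an open U with U → S quasi-affine rather than U affine; with U affine, as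
here, the same argument applies verbatim, and the two conditions agree over a quasi-separated base.) -/
theorem result {X S : Scheme.{u}} (f : X ⟶ S) (hX : SymProd.IsAF f) :
    IsSeparated f := by
  classical
  constructor
  refine IsClosedImmersion.of_isPreimmersion _ ?_
  rw [← isOpen_compl_iff, isOpen_iff_forall_mem_open]
  intro z hz
  obtain ⟨U, hU, hT⟩ := hX (f.base ((pullback.fst f f).base z))
    {(pullback.fst f f).base z, (pullback.snd f f).base z} (by
      intro x hx
      rw [Finset.mem_insert, Finset.mem_singleton] at hx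
      rcases hx with rfl | rfl
      · rfl
      · rw [← Scheme.Hom.comp_apply, ← Scheme.Hom.comp_apply, pullback.condition])
  have _ : IsAffine U := hU
  have _ : IsSeparated (U.ι ≫ f) := inferInstance
  let j := pullback.map (U.ι ≫ f) (U.ι ≫ f) f f U.ι U.ι (𝟙 S) (by simp) (by simp)
  have hj : IsOpenImmersion j := inferInstance
  have hj1 : j ≫ pullback.fst f f = pullback.fst (U.ι ≫ f) (U.ι ≫ f) ≫ U.ι := pullback.lift_fst _ _ _
  have hj2 : j ≫ pullback.snd f f = pullback.snd (U.ι ≫ f) (U.ι ≫ f) ≫ U.ι := pullback.lift_snd _ _ _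
  have hjd : pullback.diagonal (U.ι ≫ f) ≫ j = U.ι ≫ pullback.diagonal f := by
    apply pullback.hom_ext
    · rw [Category.assoc, hj1, ← Category.assoc, pullback.diagonal_fst, Category.assoc, pullback.diagonal_fst,
        Category.id_comp, Category.comp_id]
    · rw [Category.assoc, hj2, ← Category.assoc, pullback.diagonal_snd, Category.assoc, pullback.diagonal_snd,
        Category.id_comp, Category.comp_id]
  have hz' : z ∈ Set.range j := by
    rw [Scheme.Pullback.range_map]
    constructor
    · rw [Set.mem_preimage, Scheme.Opens.range_ι]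
      exact hT _ (by simp)
    · rw [Set.mem_preimage, Scheme.Opens.range_ι]
      exact hT _ (by simp)
  obtain ⟨w, rfl⟩ := hz'
  have hcl : IsClosed (Set.range (pullback.diagonal (U.ι ≫ f))) :=
    (inferInstance : IsClosedImmersion (pullback.diagonal (U.ι ≫ f))).isClosedEmbedding.isClosed_range
  refine ⟨j '' (Set.range (pullback.diagonal (U.ι ≫ f)))ᶜ, ?_, j.isOpenEmbedding.isOpenMap _ hcl.isOpen_compl,
    ⟨w, ?_, rfl⟩⟩
  · rintro _ ⟨v, hv, rfl⟩ ⟨x, hx⟩
    apply hv
    have h1 : x = U.ι (pullback.fst (U.ι ≫ f) (U.ι ≫ f) v) := by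
      rw [← Scheme.Hom.comp_apply, ← hj1, Scheme.Hom.comp_apply, ← hx, ← Scheme.Hom.comp_apply,
        pullback.diagonal_fst]
      rfl
    refine ⟨pullback.fst (U.ι ≫ f) (U.ι ≫ f) v, ?_⟩
    apply j.isOpenEmbedding.injective
    rw [← hx, h1, ← Scheme.Hom.comp_apply, hjd, Scheme.Hom.comp_apply]
  · rintro ⟨x, hx⟩
    apply hz
    refine ⟨U.ι x, ?_⟩
    rw [← hx, ← Scheme.Hom.comp_apply, ← Scheme.Hom.comp_apply, hjd]

end Groth.Agent.S13708
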