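import Groth.Statements.S12762
import Groth.Agent.S12761
import Groth.Agent.S12763
import Groth.Agent.AlgSt.K744.AlgOver
import Groth.Agent.AlgSt.K734.Rep

set_option autoImplicit false
open CategoryTheory AlgebraicGeometry
universe u
open AlgSt

namespace Groth.Agent.S12762

/-- (2) ⇔ (3): a 1-morphism `f : 𝒳 ⟶ 𝒴` of algebraic stacks over `S` is faithful (equivalently, faithful
on every fibre category) if and only if it is representable by algebraic spaces. -/
theorem result {S : Scheme.{u}} {𝒳 𝒴 : AlgSt.Cat S}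
    (h𝒳 : AlgSt.IsAlgStack Scheme.fppfPrecoverage 𝒳) (h𝒴 : AlgSt.IsAlgStack Scheme.fppfPrecoverage 𝒴) (f : 𝒳 ⥤ᵇ 𝒴) :
    f.toFunctor.Faithful ↔ AlgSt.RepByAlgSp1 f := by
  have h1 := h𝒳.isStack.1
  have h2 := h𝒴.isStack.1
  refine ⟨fun hf U y => ?_, fun hf => K734.Rep.faithful_of_repByAlgSp1 h1 h2 f hf⟩
  have hA : AlgSt.IsAlgStack Scheme.fppfPrecoverage (FibCat.fp y f) :=
    Groth.Agent.S12763.result h𝒴.isStack h𝒴.diag (K744.AlgOver.isAlgStack_overCat U) h𝒳 y f
  exact (Groth.Agent.S12761.result hA).1 (K734.Fib.isFibSetoid_of_faithful (K734.Fib.faithful_fpFst y f hf)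
    hA.isStack.1 (K734.Fib.isFibSetoid_overCat U))

end Groth.Agent.S12762
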