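import Groth.Statements.S10547
import Groth.Agent.AlgSp.K629.BaseLocal

set_option autoImplicit false
universe u
open CategoryTheory CategoryTheory.Limits AlgebraicGeometry
open AlgSp

namespace Groth.Agent.S10547

/-- The property of morphisms of algebraic spaces over S given by immersions (representable by
immersions of schemes) is fppf local on the base: for an fppf covering of an algebraic space Y by
algebraic spaces Y_i (each Y_i ⟶ Y flat and locally of finite presentation, jointly surjective on
points), a morphism f : X ⟶ Y of algebraic spaces and cartesian squares X_i = Y_i ×_Y X, f is an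
immersion if and only if every X_i ⟶ Y_i is. -/
theorem result (S : Scheme.{u}) :
    AlgSp.IsLocalOnBase (AlgSp.IsFppfCover (S := S)) (AlgSp.RepWith @IsImmersion) := by
  intro ι Y Yi g hY hYi hg X f hX Xi snd fst hXi sq
  refine ⟨fun hf i => ?_, fun h => ?_⟩
  · exact MorphismProperty.of_isPullback (P := AlgSp.RepWith @IsImmersion) (sq i) hf
  · have := Groth.Agent.Desc.ImmersionDescent.descendsAlong_isImmersion_fppf.{u}
    refine K629.BaseLocal.repWith_of_family (P := @IsImmersion) ?_ hY Yi g hYi
      (fun i => (hg.1 i).1) (fun i => (hg.1 i).2) hg.2 f Xi fst snd sq h
    intro A B i hi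
    have : Mono i := inferInstance
    exact ⟨inferInstance, inferInstance, inferInstance⟩

end Groth.Agent.S10547
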