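import Groth.Statements.S4997
import Groth.Agent.Ega4late.H526.SmoothQf
import Mathlib.AlgebraicGeometry.Morphisms.QuasiFinite
import Mathlib.RingTheory.Etale.Locus
import Mathlib.RingTheory.Unramified.LocalStructure

set_option autoImplicit false
universe u
open CategoryTheory CategoryTheory.Limits AlgebraicGeometry TopologicalSpace
open Unram17

namespace Groth.Agent.S4997

/-- A morphism of schemes is etale if and only if it is smooth and locally quasi-finite. -/
theorem result {X Y : Scheme.{u}} (f : X ⟶ Y) :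
    Etale f ↔ Smooth f ∧ LocallyQuasiFinite f := by
  constructor
  · intro h
    refine ⟨inferInstance, ⟨fun {U} hU {V} hV e => ?_⟩⟩
    have h := HasRingHomProperty.appLE @AlgebraicGeometry.Etale f ‹_› ⟨U, hU⟩ ⟨V, hV⟩ e
    algebraize [(f.appLE U V e).hom]
    change Algebra.QuasiFinite Γ(Y, U) Γ(X, V)
    infer_instance
  · rintro ⟨hs, hq⟩
    refine ⟨fun {U} hU {V} hV e => ?_⟩
    have h1 := f.smooth_appLE hU hV e
    have h2 := hq.quasiFinite_appLE hU hV e
    algebraize [(f.appLE U V e).hom]
    change Algebra.Etale Γ(Y, U) Γ(X, V)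
    rw [← Algebra.etaleLocus_eq_univ_iff_etale]
    refine Set.eq_univ_of_forall fun q => ?_
    have : Algebra.QuasiFiniteAt Γ(Y, U) q.asIdeal := inferInstance
    exact Groth.Agent.Ega4late.H526.SmoothQf.isEtaleAt_of_isSmoothAt_of_quasiFiniteAt _ _ q.asIdeal

end Groth.Agent.S4997
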