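import Groth.Statements.S12877
import Groth.Agent.AlgSt.K738.Largest6

set_option autoImplicit false
open CategoryTheory AlgebraicGeometry
universe u
open AlgSt

namespace Groth.Agent.S12877

/-- Let `P`, `Q`, `R` be properties of morphisms of algebraic spaces over `S`, each stable under base
change and fppf local on the base, such that smooth morphisms have `R`, every morphism `f : X ⟶ Y`
of algebraic spaces with `Q` admits a largest open subspace `W ⊂ X` on which `f` has `P`, and for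
such `f` and every `g : Y' ⟶ Y` with `R` the inverse image of `W` in `X ×_Y Y'` is the largest open
subspace on which the base change of `f` has `P`. Then for every 1-morphism `f : 𝒳 ⟶ 𝒴` of algebraic
stacks over `S` which is representable by algebraic spaces and has `Q` there is a largest open
substack `𝒳' ⊂ 𝒳` such that the restriction of `f` to `𝒳'` has `P`. (Stability under base change is
asked for every pullback square of fppf sheaves whose four corners are algebraic spaces. The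
published statement also describes the largest open substack of a base change along a morphism with
`R`; this row does not include that part.) -/
theorem result {S : Scheme.{u}} {𝒳 𝒴 : AlgSt.Cat S}
    (h𝒳 : AlgSt.IsAlgStack Scheme.fppfPrecoverage 𝒳) (h𝒴 : AlgSt.IsAlgStack Scheme.fppfPrecoverage 𝒴)
    (P Q R : MorphismProperty (AlgSp.Sp S))
    (hPb : ∀ ⦃X₁ Y₁ X₂ Y₂ : AlgSp.Sp S⦄, AlgSp.IsAlgSpace X₁ → AlgSp.IsAlgSpace Y₁ → AlgSp.IsAlgSpace X₂ →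
      AlgSp.IsAlgSpace Y₂ → ∀ (a : X₁ ⟶ Y₁) (b : Y₂ ⟶ Y₁) (a' : X₂ ⟶ Y₂) (b' : X₂ ⟶ X₁),
      IsPullback b' a' a b → P a → P a')
    (hQb : ∀ ⦃X₁ Y₁ X₂ Y₂ : AlgSp.Sp S⦄, AlgSp.IsAlgSpace X₁ → AlgSp.IsAlgSpace Y₁ → AlgSp.IsAlgSpace X₂ →
      AlgSp.IsAlgSpace Y₂ → ∀ (a : X₁ ⟶ Y₁) (b : Y₂ ⟶ Y₁) (a' : X₂ ⟶ Y₂) (b' : X₂ ⟶ X₁),
      IsPullback b' a' a b → Q a → Q a')
    (hRb : ∀ ⦃X₁ Y₁ X₂ Y₂ : AlgSp.Sp S⦄, AlgSp.IsAlgSpace X₁ → AlgSp.IsAlgSpace Y₁ → AlgSp.IsAlgSpace X₂ →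
      AlgSp.IsAlgSpace Y₂ → ∀ (a : X₁ ⟶ Y₁) (b : Y₂ ⟶ Y₁) (a' : X₂ ⟶ Y₂) (b' : X₂ ⟶ X₁),
      IsPullback b' a' a b → R a → R a')
    (hP : AlgSp.IsLocalOnBase AlgSp.IsFppfCover P) (hQ : AlgSp.IsLocalOnBase AlgSp.IsFppfCover Q)
    (hR : AlgSp.IsLocalOnBase AlgSp.IsFppfCover R)
    (h₂ : ∀ (X Y : AlgSp.Space S) (g : X ⟶ Y), AlgSp.LocP @Smooth g.hom → R g.hom)
    (h₃ : ∀ (X Y : AlgSp.Space S) (f : X ⟶ Y), Q f.hom →
      ∃ (W : AlgSp.Space S) (w : W ⟶ X), (AlgSp.RepWith @IsOpenImmersion w.hom ∧ P (w ≫ f).hom ∧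
          ∀ (W₁ : AlgSp.Space S) (w₁ : W₁ ⟶ X), AlgSp.RepWith @IsOpenImmersion w₁.hom → P (w₁ ≫ f).hom →
            ∃ k : W₁ ⟶ W, k ≫ w = w₁))
    (h₄ : ∀ (X Y X' Y' : AlgSp.Space S) (f : X ⟶ Y) (g : Y' ⟶ Y) (f' : X' ⟶ Y') (g' : X' ⟶ X),
      IsPullback g'.hom f'.hom f.hom g.hom → Q f.hom → R g.hom →
      ∀ (W : AlgSp.Space S) (w : W ⟶ X), (AlgSp.RepWith @IsOpenImmersion w.hom ∧ P (w ≫ f).hom ∧
          ∀ (W₁ : AlgSp.Space S) (w₁ : W₁ ⟶ X), AlgSp.RepWith @IsOpenImmersion w₁.hom → P (w₁ ≫ f).hom →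
            ∃ k : W₁ ⟶ W, k ≫ w = w₁) →
        ∀ (W' : AlgSp.Space S) (w' : W' ⟶ X') (k : W' ⟶ W), IsPullback k.hom w'.hom w.hom g'.hom →
          (AlgSp.RepWith @IsOpenImmersion w'.hom ∧ P (w' ≫ f').hom ∧
          ∀ (W₁ : AlgSp.Space S) (w₁ : W₁ ⟶ X'), AlgSp.RepWith @IsOpenImmersion w₁.hom → P (w₁ ≫ f').hom →
            ∃ k : W₁ ⟶ W', k ≫ w' = w₁))
    (f : 𝒳 ⥤ᵇ 𝒴) (hf : AlgSt.RepByAlgSpWith Q f) :
    ∃ Q₀ : 𝒳.obj → Prop, AlgSt.IsOpenSubstack 𝒳 Q₀ Scheme.fppfPrecoverage ∧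
      AlgSt.RepByAlgSpWith P (BasedFunctor.comp (AlgSt.subIncl 𝒳 Q₀) f) ∧
        ∀ Q₁ : 𝒳.obj → Prop, AlgSt.IsOpenSubstack 𝒳 Q₁ Scheme.fppfPrecoverage →
          AlgSt.RepByAlgSpWith P (BasedFunctor.comp (AlgSt.subIncl 𝒳 Q₁) f) → ∀ y, Q₁ y → Q₀ y := by
  have hX : FibCat.IsFibGrpd 𝒳.p := h𝒳.isStack.1
  have hY : FibCat.IsFibGrpd 𝒴.p := h𝒴.isStack.1
  obtain ⟨V, v, hv, hv'⟩ := h𝒴.atlas
  obtain ⟨F, e, he, hQF⟩ := hf V v
  obtain ⟨R₀⟩ := K738.SecRep.nonempty_of_equiv (FibCat.fpFst v f) e he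
  let π : F ⟶ (AlgSp.ofScheme S).obj V :=
    ObjectProperty.homMk (AlgSt.spMapOfOver (BasedFunctor.comp e (FibCat.fpFst v f)))
  obtain ⟨W, w, hW⟩ := h₃ F _ π hQF
  let D : K738.LOpen.Dat f v F W π w :=
    { R := R₀
      open_ := hW.1
      claimA := fun z₁ z₂ ε hε => K738.LOpen.claimA h₄ h₂ hX hY hv hW hQF R₀ z₁ z₂ ε hε
      hX := hX
      hY := hY
      hv := hv
      hv' := hv' }
  have hop : K899.OpenCrit.HasOpenLocus D.Q₀ := D.hasOpenLocus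
  have hO := K899.OpenCrit.isOpenSubstack h𝒳 hop
  have hmono : Mono w.hom := K596.Mono.mono_of_repWith (fun _ _ f (_ : IsOpenImmersion f) => inferInstance) hW.1
  obtain ⟨RW⟩ := K738.LOpen.nonempty_secRep_restr hmono D.R D.q₀_snd_iff
  refine ⟨D.Q₀, hO, ?_, ?_⟩
  · refine K738.LOpen.repByAlgSpWith_of_chart hPb hP hY ?_ v hv hv' W.property RW hW.2.1
    exact K734.Rep.repByAlgSp1_comp (K899.OpenCrit.isFibGrpd_fullSub hX hop.of_hom) hX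
      (K735.Rep.repByAlgSp1_of_with hO.2.2) (K735.Rep.repByAlgSp1_of_with hf)
  · intro Q₁ hQ₁ hP₁ x hx z m
    obtain ⟨hiso, hl⟩ := (K737.OpenSt.isOpenSubstack_iff h𝒳 Q₁).1 hQ₁
    have hop₁ := K737.OpenSt.hasOpenLocus_of_hasLoci hX hiso hl
    obtain ⟨W₁, e₁, he₁, hPW₁⟩ := hP₁ V v
    obtain ⟨R₁⟩ := K738.SecRep.nonempty_of_equiv _ e₁ he₁
    obtain ⟨w₁, hw₁, hinj, hin⟩ := K738.LOpen.exists_sub (fun _ _ φ h => hop₁.of_hom φ h) D.R R₁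
    have hopen := K738.LOpen.repWith_of_hasOpenLocus D.isFibGrpd_fp' hop₁ D.R hinj hin
    obtain ⟨k, hk⟩ := hW.2.2 W₁ (ObjectProperty.homMk w₁) hopen ((congrArg (fun r => P r) hw₁).mpr hPW₁)
    obtain ⟨s, hs⟩ := (hin z).2 (hop₁.of_hom m hx)
    exact ⟨k.hom.hom.app _ s, (congrArg (fun r => r.hom.hom.app _ s) hk).trans hs⟩

end Groth.Agent.S12877
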