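import Groth.Statements.S10043
import Groth.Agent.AlgSp.K603.ChevBase
import Groth.Agent.AlgSp.K617.FinLoc

set_option autoImplicit false
universe u
open CategoryTheory CategoryTheory.Limits AlgebraicGeometry
open AlgSp

namespace Groth.Agent.S10043

/-- Let `f : X ⟶ Y` be a finite and surjective morphism of algebraic spaces over `S` with `X` an affine
scheme. Then `Y` is an affine scheme. -/
theorem result (S : Scheme.{u}) {X Y : AlgSp.Space S} (f : X ⟶ Y)
    (hfin : AlgSp.IsFiniteMor f.hom) (hsurj : AlgSp.IsSurjectiveMor f.hom) (hX : ∃ (T : Over S), IsAffine T.left ∧ Nonempty ((AlgSp.yon S).obj T ≅ X.obj)) :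
    ∃ (T : Over S), IsAffine T.left ∧ Nonempty ((AlgSp.yon S).obj T ≅ Y.obj) := by
  obtain ⟨T, hT, ⟨e⟩⟩ := hX
  have h1 : RepWith @IsFinite f.hom := K617.FinLoc.isFiniteMor_iff.1 hfin
  have h2 : RepWith @Surjective f.hom := (K609.Points.repWith_surjective_iff h1.1).2 hsurj
  exact K603.ChevBase.aff_of_finite Y.property hT (e.hom ≫ f.hom) (MorphismProperty.RespectsIso.precomp _ _ _ h1)
    (MorphismProperty.RespectsIso.precomp _ _ _ h2)

end Groth.Agent.S10043
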