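import Groth.Statements.S10554
import Groth.Agent.AlgSp.K629.Cover
import Groth.Agent.AlgSp.K629.EtLocInst

set_option autoImplicit false
universe u
open CategoryTheory CategoryTheory.Limits AlgebraicGeometry
open AlgSp

namespace Groth.Agent.S10554

/-- The property of morphisms of algebraic spaces over S given by f is etale (composition with every
representable etale map from a scheme is representable etale) is etale local on the source: for a
morphism f : X ⟶ Y of algebraic spaces and a etale covering of X by algebraic spaces X_i, f has the
property if and only if every composite X_i ⟶ X ⟶ Y has it. -/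
theorem result (S : Scheme.{u}) :
    AlgSp.IsLocalOnSource (AlgSp.IsEtCover (S := S)) AlgSp.IsEtaleMor := by
  intro ι X Xi g hX hXi hg Y f hY
  refine ⟨fun hf i U φ hφ => ?_, fun h => ?_⟩
  · rw [← Category.assoc]
    exact hf _ (hg.1 i _ hφ)
  · refine K629.LocP.isEtaleMor_of_locP hY
      (K629.Cover.locP_of_cover Xi g hXi hg.2 f @Etale
        (fun i => K629.LocP.locP_etale_of_isEtaleMor (hg.1 i)) ?_
        fun i => K629.LocP.locP_etale_of_isEtaleMor (h i)) K629.EtLocInst.etale
    intro Y Z X f g h1 h2 h3
    exact K629.SchDesc.family (R := @Etale) (P := @Etale)
      (fun f g hf hs h => K629.SchDesc.etale f g inferInstance inferInstance hs h) X f g h1 h2 h3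


end Groth.Agent.S10554
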