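import Groth.Statements.S18325
import Groth.Agent.AlgSt.K748.Lift
import Groth.Agent.AlgSp.K651.Hens

set_option autoImplicit false
universe u
open AlgSt

namespace Groth.Agent.S18325

open CategoryTheory AlgebraicGeometry in
/-- Let S be a scheme, 𝒵 an algebraic stack over (Sch/S) for the fppf topology, Z an algebraic space
over S and f : Z → 𝒵 a functor over (Sch/S) (from the category of points of Z) which is
representable by algebraic spaces and smooth. Let R be a Henselian local ring with residue field k =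
R/m and structure morphism Spec R → S, let z : (Sch/Spec R) → 𝒵 be an object of 𝒵 over Spec R, and
let z₀' : h_{Spec k} → Z be a k-point of Z whose image under f is isomorphic, over (Sch/S), to the
restriction of z to Spec k. Then there is an R-point z' : h_{Spec R} → Z whose restriction to Spec k
is z₀' and whose image under f is isomorphic to z over (Sch/S). -/
theorem result {S : Scheme.{u}} (𝒵 : AlgSt.Cat S)
    (h𝒵 : AlgSt.IsAlgStack Scheme.fppfPrecoverage 𝒵) (Z : AlgSp.Space S)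
    (f : AlgSt.ofSp Z.obj ⥤ᵇ 𝒵) (hf : AlgSt.RepByAlgSpWith (AlgSp.LocP @Smooth) f)
    (R : Type u) [CommRing R] [HenselianLocalRing R] (str : Spec (CommRingCat.of R) ⟶ S)
    (z : FibCat.overCat (Over.mk str) ⥤ᵇ 𝒵)
    (z₀ : (AlgSp.yon S).obj (Over.mk ((Spec.map (CommRingCat.ofHom (IsLocalRing.residue R))) ≫ str)) ⟶ Z.obj)
    (w : Nonempty (BasedFunctor.comp (BasedFunctor.comp (AlgSt.ofOverCat (Over.mk ((Spec.map (CommRingCat.ofHom (IsLocalRing.residue R))) ≫ str))) (AlgSt.ofSpMap z₀)) f ≅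
      BasedFunctor.comp (AlgSt.overMap (Over.homMk (Spec.map (CommRingCat.ofHom (IsLocalRing.residue R))) rfl : Over.mk ((Spec.map (CommRingCat.ofHom (IsLocalRing.residue R))) ≫ str) ⟶ Over.mk str)) z)) :
    ∃ z' : (AlgSp.yon S).obj (Over.mk str) ⟶ Z.obj,
      (AlgSp.yon S).map (Over.homMk (Spec.map (CommRingCat.ofHom (IsLocalRing.residue R))) rfl : Over.mk ((Spec.map (CommRingCat.ofHom (IsLocalRing.residue R))) ≫ str) ⟶ Over.mk str) ≫ z' = z₀ ∧
        Nonempty (BasedFunctor.comp (BasedFunctor.comp (AlgSt.ofOverCat (Over.mk str)) (AlgSt.ofSpMap z')) f ≅ z) := by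
  obtain ⟨F, e, he, hP⟩ := hf (Over.mk str) z
  obtain ⟨w⟩ := w
  obtain ⟨x₀, h1, ⟨j⟩⟩ := K748.Lift.exists_lift he (Over.homMk (Spec.map (CommRingCat.ofHom (IsLocalRing.residue R))) rfl)
    (K735.SpFp.chart z₀) w.symm
  obtain ⟨x, hx1, hx2⟩ := K651.Hens.exists_lift_of_smooth F.property (AlgSp.IsAlgSpace.yon_obj _)
    (AlgSt.spMapOfOver (BasedFunctor.comp e (FibCat.fpFst z f))) hP R str (𝟙 _) x₀ (by rw [h1, Category.comp_id])
  obtain ⟨l⟩ := K735.Rep.exists_iso_spMap (BasedFunctor.comp e (FibCat.fpSnd z f))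
  refine ⟨x ≫ K735.Rep.spMap (BasedFunctor.comp e (FibCat.fpSnd z f)), ?_, ?_⟩
  · rw [← Category.assoc, hx2]
    apply K748.Lift.chart_inj
    exact (K735.Fib.whiskerLeftIso (K735.SpFp.chart x₀) l.symm :
      BasedFunctor.comp (K735.SpFp.chart x₀) (AlgSt.ofSpMap _) ≅ _) ≪≫ j
  · obtain ⟨m⟩ := K748.Lift.iso_of_lift e (𝟙 (Over.mk str)) x (by rw [hx1, CategoryTheory.Functor.map_id])
    refine ⟨(K735.Fib.whiskerRightIso (K735.Fib.whiskerLeftIso (K735.SpFp.chart x) l.symm) f :
      BasedFunctor.comp (BasedFunctor.comp (K735.SpFp.chart x) (AlgSt.ofSpMap _)) f ≅ _) ≪≫ m ≪≫ ?_⟩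
    exact (K735.Fib.whiskerRightIso (K748.Lift.overMapId (Over.mk str)) z : _ ≅ BasedFunctor.comp (BasedFunctor.id _) z)

end Groth.Agent.S18325
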