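import Groth.Statements.S8730
import Groth.Agent.Dix.VertForm

set_option autoImplicit false
universe u
open CategoryTheory CategoryTheory.Limits AlgebraicGeometry
open ArSurf

namespace Groth.Agent.S8730

open Groth.Agent.Dix.IdealModCartier Groth.Agent.Dix.InterNum Groth.Agent.Dix.VertGeom
open Groth.Agent.Dix.InterSurf Groth.Agent.Dix.VertForm

/-- For two distinct vertical prime divisors: let R be a discrete valuation ring, X an arithmetic
surface over Spec R (regular, integral, of dimension 2, flat and projective), Γ_1 ≠ Γ_2 vertical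
prime divisors of X over the closed point, and L_1, L_2 O_X-modules with L_i ⊗ I(Γ_i) ≅ O_X (L_i =
O_X(Γ_i)). Then the intersection number is symmetric: deg_k(L_2|_{Γ_1}) = deg_k(L_1|_{Γ_2}), both
being the length over k of the scheme-theoretic intersection Γ_1 ∩ Γ_2. -/
theorem result (R : Type u) [CommRing R] [IsDomain R] [IsDiscreteValuationRing R]
    (X : Over (Spec (CommRingCat.of R))) (hX : ArSurf.IsArithSurface R X) (Γ₁ Γ₂ : ArSurf.VertComp R X)
    (hne : Set.range Γ₁.ι.base ≠ Set.range Γ₂.ι.base)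
    (L₁ L₂ : X.left.Modules) (h₁ : ClSub.IsInverseOf L₁ (ClSub.idealMod Γ₁.ι.ker))
    (h₂ : ClSub.IsInverseOf L₂ (ClSub.idealMod Γ₂.ι.ker)) :
    ArSurf.inter R X L₂ Γ₁ = ArSurf.inter R X L₁ Γ₂ := by
  have hgp : ∀ Γ Γ' : ArSurf.VertComp R X, Set.range Γ.ι.base ≠ Set.range Γ'.ι.base →
      gp Γ ∉ Γ'.ι.ker.support := by
    intro Γ Γ' hne h
    apply hne
    have h1 := ker_eq_of_gp_mem Γ Γ' h
    ext x
    have h2 := mem_support_ker_iff Γ.ι x
    have h3 := mem_support_ker_iff Γ'.ι x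
    rw [h1] at h2
    exact h2.symm.trans h3
  have e1 := isEffCartierIdeal_of_isInverseOf h₁
  have e2 := isEffCartierIdeal_of_isInverseOf h₂
  rw [inter_inverse hX h₂ Γ₁, inter_inverse hX h₁ Γ₂]
  change - dd Γ₁ Γ₂.ι.ker = - dd Γ₂ Γ₁.ι.ker
  rw [dd_eq hX Γ₁ e2 (hgp _ _ hne), dd_eq hX Γ₂ e1 (hgp _ _ hne.symm), hz_congr Γ₁ Γ₂ _ _ (sup_comm _ _)]

end Groth.Agent.S8730
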