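import Groth.Statements.S8727
import Groth.Agent.Models.H65.InterForm
import Groth.Agent.ArSurf.K481.CompList
import Groth.Agent.ArSurf.K481.Kernel

set_option autoImplicit false
universe u
open CategoryTheory CategoryTheory.Limits AlgebraicGeometry
open ArSurf

namespace Groth.Agent.S8727

open Groth.Agent.Dix.InterSurf Groth.Agent.Models.H65 Groth.Agent.Models.H71.Comps

/-- The assertion on the kernel of the intersection form: let R be a discrete valuation ring, X an
arithmetic surface over Spec R (regular, integral, of dimension 2, flat and projective over R) whose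
special fibre is connected, Γ_1, ..., Γ_r pairwise distinct vertical prime divisors whose union is
the whole special fibre, n_i the multiplicity of Γ_i in the special fibre, i.e. the length of
O_{X,γ_i}/m_R O_{X,γ_i} for γ_i the generic point of Γ_i, and L_j invertible O_X-modules with L_j ⊗
I(Γ_j) ≅ O_X. Then for integers a_1, ..., a_r one has Σ_j a_j (Γ_i · Γ_j) = 0 for every i, where Γ_i
· Γ_j = deg(L_j|_{Γ_i}) over the residue field, if and only if (a_1, ..., a_r) is a rational
multiple of (n_1, ..., n_r): the kernel of the (negative semi-definite) intersection form on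
vertical divisors is spanned by the special fibre. -/
theorem result (R : Type u) [CommRing R] [IsDomain R] [IsDiscreteValuationRing R]
    (X : Over (Spec (CommRingCat.of R))) (hX : ArSurf.IsArithSurface R X)
    (hconn : _root_.IsConnected {x : ↥X.left | X.hom.base x = IsLocalRing.closedPoint R})
    {r : ℕ} (Γ : Fin r → ArSurf.VertComp R X)
    (hdist : Function.Injective fun i => Set.range (Γ i).ι.base)
    (hcov : ∀ x : ↥X.left, X.hom.base x = IsLocalRing.closedPoint R → ∃ i, x ∈ Set.range (Γ i).ι.base)
    (L : Fin r → X.left.Modules) (hL : ∀ j, ClSub.IsInverseOf (L j) (ClSub.idealMod ((Γ j).ι.ker)))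
    (a : Fin r → ℤ) :
    let γ : Fin r → ↥X.left := fun i => (Γ i).ι.base (genericPoint ↥(Γ i).curve.left)
    let ρ : ∀ i, R →+* ↑(X.left.presheaf.stalk (γ i)) := fun i =>
      (X.left.presheaf.germ ⊤ (γ i) trivial).hom.comp
        (X.hom.appTop.hom.comp (Scheme.ΓSpecIso (CommRingCat.of R)).inv.hom)
    let n : Fin r → ℕ := fun i => (Module.length ↑(X.left.presheaf.stalk (γ i))
      (↑(X.left.presheaf.stalk (γ i)) ⧸ (IsLocalRing.maximalIdeal R).map (ρ i))).toNat
    (∀ i, ∑ j, a j * ArSurf.inter R X (L j) (Γ i) = 0) ↔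
      ∃ c : ℚ, ∀ i, (a i : ℚ) = c * (n i : ℚ) := by
  classical
  intro γ ρ n
  have hp : IsProper X.hom := isProper_hom hX
  have hfl : Flat X.hom := hX.2.2.2.1
  have hreg : Models.IsRegularScheme X.left := hX.1
  have hΓ : Models.IsComponentList R X Γ := K481.CompList.isComponentList Γ hdist hcov
  have hn : ∀ i, n i = Models.mult R X (Γ i) := fun i => rfl
  have hpos : ∀ i, (0 : ℤ) < n i := fun i => by
    rw [hn i]
    exact_mod_cast Groth.Agent.Models.H36.FibreFact.mult_pos hreg hΓ i
  have hrow : ∀ i, ∑ j, (n j : ℤ) * ArSurf.inter R X (L j) (Γ i) = 0 := by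
    intro i
    have h1 := InterForm.sum_mult hreg hΓ hL i
    rw [← h1]
    refine Finset.sum_congr rfl fun j _ => ?_
    rw [hn j, InterForm.symm hreg hΓ hL i j]
  constructor
  · intro ha
    refine K481.Kernel.exists_ratio (fun i j => ArSurf.inter R X (L j) (Γ i))
      (fun i j hij => InterForm.nonneg hreg hΓ hL hij) (fun i => (n i : ℤ)) hpos hrow ?_ a ha
    intro I hI hIu
    obtain ⟨i, hi, j, hj, hij⟩ := exists_meet_of_isPreconnected hΓ hconn.isPreconnected I hI hIu
    refine ⟨i, hi, j, hj, ?_⟩
    have hne : i ≠ j := fun h => hj (h ▸ hi)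
    change ArSurf.inter R X (L j) (Γ i) ≠ 0
    rw [Ne, InterForm.eq_zero_iff hreg hΓ hL hne, Set.not_disjoint_iff_nonempty_inter]
    exact hij
  · rintro ⟨c, hc⟩ i
    have h1 : (∑ j, (n j : ℚ) * (ArSurf.inter R X (L j) (Γ i) : ℚ)) = 0 := by exact_mod_cast hrow i
    have h2 : (∑ j, (a j : ℚ) * (ArSurf.inter R X (L j) (Γ i) : ℚ)) = 0 := by
      calc (∑ j, (a j : ℚ) * (ArSurf.inter R X (L j) (Γ i) : ℚ)) =
          c * ∑ j, (n j : ℚ) * (ArSurf.inter R X (L j) (Γ i) : ℚ) := by
            rw [Finset.mul_sum]
            exact Finset.sum_congr rfl fun j _ => by rw [hc j]; ring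
        _ = 0 := by rw [h1, mul_zero]
    exact_mod_cast h2

end Groth.Agent.S8727
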