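import Groth.Statements.S7642
import Groth.Agent.Variety.K420.Comp
import Groth.Agent.Coherent.K49.AmpleClosedCover
import Groth.Agent.S1530
import Groth.Agent.S1529
import Groth.Agent.S4373

set_option autoImplicit false
universe u
open CategoryTheory CategoryTheory.Limits AlgebraicGeometry
open Variety

namespace Groth.Agent.S7642

/-- Let X be proper of dimension at most one over a field k and let L be an invertible module on X. Then
L is ample if and only if deg(L|_C) > 0 for every irreducible component C of X of dimension one, C
carrying its reduced induced structure. -/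
theorem result (k : Type u) [Field k] (X : Scheme.{u}) [X.Over (Spec (CommRingCat.of k))] [IsProper (X ↘ (Spec (CommRingCat.of k)))] [IsNoetherian X]
    (hdim : topologicalKrullDim X ≤ 1) (L : X.Modules) (hL : PicF.IsInvertible L) :
    CohB1.IsAmple L ↔ ∀ (C : Set X) (hC : C ∈ irreducibleComponents (X : Type u)),
      topologicalKrullDim C = 1 → 0 < @Curv2.deg k _ (X.irreducibleComponentIdeal C hC).radical.subscheme ⟨(X.irreducibleComponentIdeal C hC).radical.subschemeι ≫ (X ↘ (Spec (CommRingCat.of k)))⟩ ((Scheme.Modules.pullback (X.irreducibleComponentIdeal C hC).radical.subschemeι).obj L) 1 := by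
  constructor
  · intro h C hC hd
    letI : ((X.irreducibleComponentIdeal C hC).radical.subscheme).Over (Spec (CommRingCat.of k)) :=
      ⟨(X.irreducibleComponentIdeal C hC).radical.subschemeι ≫ (X ↘ (Spec (CommRingCat.of k)))⟩
    have hint : IsIntegral (X.irreducibleComponentIdeal C hC).radical.subscheme :=
      K420.Comp.isIntegral_compSub X ⟨C, hC⟩
    have hpr : IsProper ((X.irreducibleComponentIdeal C hC).radical.subscheme ↘
        (Spec (CommRingCat.of k))) :=
      inferInstanceAs (IsProper ((X.irreducibleComponentIdeal C hC).radical.subschemeι ≫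
        (X ↘ (Spec (CommRingCat.of k)))))
    exact (Groth.Agent.S1530.result k (X.irreducibleComponentIdeal C hC).radical.subscheme
      ((K420.Comp.dim_compSub X ⟨C, hC⟩).trans hd) _
      (Groth.Agent.Fdesc.LocGen.isInvertible_pullback _ hL)).1
      (Groth.Agent.CohqB.AmpCocycle.isAmple_pullback _ h)
  · intro h
    refine K49.AmpleClosedCover.isAmple_of_closed_cover k X L hL
      (fun C : irreducibleComponents (X : Type u) => (X.irreducibleComponentIdeal C.1 C.2).radical)
      (fun x => ?_) (fun C => ?_)
    · refine ⟨⟨irreducibleComponent x, irreducibleComponent_mem_irreducibleComponents x⟩, ?_⟩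
      have h1 : x ∈ Set.range (K420.Comp.compι X
          ⟨irreducibleComponent x, irreducibleComponent_mem_irreducibleComponents x⟩) := by
        rw [K420.Comp.range_compι]
        exact mem_irreducibleComponent
      rw [Scheme.IdealSheafData.range_subschemeι] at h1
      exact h1
    · letI : (K420.Comp.compSub X C).Over (Spec (CommRingCat.of k)) :=
        ⟨(X.irreducibleComponentIdeal C.1 C.2).radical.subschemeι ≫ (X ↘ (Spec (CommRingCat.of k)))⟩
      have hpr : IsProper (K420.Comp.compSub X C ↘ (Spec (CommRingCat.of k))) :=
        inferInstanceAs (IsProper ((X.irreducibleComponentIdeal C.1 C.2).radical.subschemeι ≫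
          (X ↘ (Spec (CommRingCat.of k)))))
      have hinv := Groth.Agent.Fdesc.LocGen.isInvertible_pullback
        (X.irreducibleComponentIdeal C.1 C.2).radical.subschemeι hL
      by_cases hd : topologicalKrullDim C.1 = 1
      · exact (Groth.Agent.S1530.result k (K420.Comp.compSub X C)
          ((K420.Comp.dim_compSub X C).trans hd) _ hinv).2 (h C.1 C.2 hd)
      · have h1 : topologicalKrullDim (K420.Comp.compSub X C) ≤ 0 := by
          rw [K420.Comp.dim_compSub X C]
          have h2 : topologicalKrullDim C.1 ≤ 1 :=
            (Topology.IsInducing.subtypeVal.topologicalKrullDim_le).trans hdim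
          have h3 : topologicalKrullDim C.1 < 1 := lt_of_le_of_ne h2 hd
          have h4 := (ENat.WithBot.lt_add_one_iff (n := topologicalKrullDim C.1) (m := 0)).mp
            (by simpa using h3)
          simpa using h4
        have haff := (Groth.Agent.S1529.result k (K420.Comp.compSub X C) h1).1
        exact Groth.Agent.S4373.result _ _ hinv

end Groth.Agent.S7642
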