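import Groth.Statements.S18101
import Groth.Agent.AlgGrp.K412.AffRepS
import Groth.Agent.AlgGrp.K398.Affin
import Groth.Agent.AlgGrp.K401.RigidAA

set_option autoImplicit false
universe u
open CategoryTheory MonoidalCategory CartesianMonoidalCategory MonObj GrpObj AlgebraicGeometry CategoryTheory.Limits
open AlgGrp

namespace Groth.Agent.S18101

/-- Let k be a field and G a k-group scheme of finite type. Then G is anti-affine, i.e. O(G) = k, if and
only if every action of G on a variety having a fixed point is trivial; the fixed point is taken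
k-rational here (the published condition allows any closed fixed point, which gives a formally
stronger necessary condition; the equivalence with a rational fixed point is what the published
argument through linear representations yields). -/
theorem result (k : Type u) [Field k]
    (G : Over (Spec (CommRingCat.of k))) [GrpObj G] [LocallyOfFiniteType G.hom] [QuasiCompact G.hom] :
    Function.Bijective ((Scheme.ΓSpecIso (CommRingCat.of k)).inv ≫ G.hom.appTop).hom ↔
      ∀ (X : Over (Spec (CommRingCat.of k))) [LocallyOfFiniteType X.hom] [QuasiCompact X.hom] [IsSeparated X.hom] [GeometricallyIntegral X.hom]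
        (a : AlgGrp.Action G X) (x : 𝟙_ (Over (Spec (CommRingCat.of k))) ⟶ X), a.IsFixedPt x → a.act = snd G X := by
  constructor
  · intro hG X _ _ _ _ a x hx
    have h1 := K398.AntiAff.isIso_appTop hG
    have hGs : IsSeparated G.hom := Books.AntiAffine.isSeparated_hom G
    have c1 : CompactSpace G.left := QuasiCompact.compactSpace_of_compactSpace G.hom
    have c0 : IsLocallyNoetherian G.left := LocallyOfFiniteType.isLocallyNoetherian G.hom
    have hsub : Subsingleton ↥(Spec (CommRingCat.of k)) := inferInstanceAs (Subsingleton (PrimeSpectrum k))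
    have i1 : IsIntegral X.left := GeometricallyIntegral.isIntegral_of_subsingleton X.hom
    have i2 : IsLocallyNoetherian X.left := LocallyOfFiniteType.isLocallyNoetherian X.hom
    have h2 := K401.RigidAA.rigid η[G] x a.act x (by
      have h3 := hx (G ⊗ 𝟙_ _) (fst _ _)
      have h4 : G ◁ x = lift (fst G (𝟙_ _)) (toUnit (G ⊗ 𝟙_ _) ≫ x) := by
        apply CartesianMonoidalCategory.hom_ext
        · simp
        · rw [whiskerLeft_snd, lift_snd]
          congr 1
          exact toUnit_unique _ _
      rw [h4]
      exact h3)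
    rw [h2]
    have h5 := a.one_act
    have h6 : lift (toUnit X ≫ η[G]) (𝟙 X) ≫ a.act = 𝟙 X := by
      have h7 : lift (toUnit X ≫ η[G]) (𝟙 X) = (λ_ X).inv ≫ (η[G] ▷ X) := by
        apply CartesianMonoidalCategory.hom_ext
        · simp
        · simp
      rw [h7, Category.assoc, h5, Iso.inv_hom_id]
    change snd G X ≫ lift (toUnit X ≫ η[G]) (𝟙 X) ≫ a.act = _
    rw [h6, Category.comp_id]
  · intro h
    obtain ⟨N, Q, _, _, n, q, hs⟩ := K398.Affin.exists_affSeq G
    have i1 := hs.homQ
    have i2 := hs.affine
    have i3 := hs.ftQ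
    obtain ⟨A, _, _, e, he, hA⟩ := AlgGrp.K411.IsogUnip.exists_hopf_ft Q
    obtain ⟨m, _, _, g, hg, hgm⟩ := K412.AffRep.exists_repS k A
    have c0 : Finite m := inferInstance
    have c1 : LocallyOfFiniteType (K412.LinAct.V m (Spec (CommRingCat.of k))).hom :=
      inferInstanceAs (LocallyOfFiniteType (𝔸(m; Spec (CommRingCat.of k)) ↘ Spec (CommRingCat.of k)))
    have c2 : QuasiCompact (K412.LinAct.V m (Spec (CommRingCat.of k))).hom :=
      inferInstanceAs (QuasiCompact (𝔸(m; Spec (CommRingCat.of k)) ↘ Spec (CommRingCat.of k)))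
    have c3 : IsSeparated (K412.LinAct.V m (Spec (CommRingCat.of k))).hom :=
      inferInstanceAs (IsSeparated (𝔸(m; Spec (CommRingCat.of k)) ↘ Spec (CommRingCat.of k)))
    have c4 : GeometricallyIntegral (K412.LinAct.V m (Spec (CommRingCat.of k))).hom :=
      inferInstanceAs (GeometricallyIntegral (𝔸(m; Spec (CommRingCat.of k)) ↘ Spec (CommRingCat.of k)))
    have h1 : q ≫ e.hom ≫ g = 1 := K412.LinAct.eq_one_of_trivial (q ≫ e.hom ≫ g)
      (h _ (K412.LinAct.linAct (q ≫ e.hom ≫ g)) _ (K412.LinAct.isFixedPt_zero _))
    have h2 : IsAffine (Sga3B.GLn.GLS m (Spec (CommRingCat.of k))).left :=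
      isAffine_of_isAffineHom (Sga3B.GLn.GLS m (Spec (CommRingCat.of k))).hom
    have h3 : e.hom ≫ g = 1 := hs.hom_ext (by rw [h1, MonObj.comp_one])
    have h4 : Mono (e.hom ≫ g) := inferInstance
    have h5 : Red.IsTrivialGrp Q := by
      apply AlgGrp.K411.IsogUnip.isTrivialGrp_of_id_eq_one
      rw [← cancel_mono (e.hom ≫ g), h3, MonObj.comp_one, MonObj.comp_one]
    have h6 : IsIso Q.hom := h5
    have h7 := hs.affz.isIso
    apply K398.AntiAff.bijective_of_isIso
    have h8 : IsIso Q.hom.appTop := inferInstanceAs (IsIso (Scheme.Γ.map Q.hom.op))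
    rw [← Over.w q, Scheme.Hom.comp_appTop]
    exact @IsIso.comp_isIso _ _ _ _ _ _ _ h8 h7

end Groth.Agent.S18101
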