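import Groth.Statements.S10839
import Groth.Agent.Fga.DimLt
import Mathlib.AlgebraicGeometry.Morphisms.ClosedImmersion

set_option autoImplicit false
universe u
open CategoryTheory AlgebraicGeometry Topology
open Variety

namespace Groth.Agent.S10839

/-- A closed immersion i : Y → X into an integral scheme X with dim X = dim Y < ∞ is an isomorphism. -/
theorem result {X Y : Scheme.{u}} (i : Y ⟶ X)
    [IsClosedImmersion i] [IsIntegral X] (hfin : topologicalKrullDim ↥X ≠ ⊤)
    (hdim : topologicalKrullDim ↥X = topologicalKrullDim ↥Y) : IsIso i := by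
  have hsurj : Set.range i = Set.univ := by
    by_contra hne
    have hcl : IsClosed (Set.range i) := i.isClosedEmbedding.isClosed_range
    have hhomeo : topologicalKrullDim ↥Y = topologicalKrullDim ↥(Set.range i) :=
      IsHomeomorph.topologicalKrullDim_eq _
        i.isClosedEmbedding.isEmbedding.toHomeomorph.isHomeomorph
    have hbot : topologicalKrullDim ↥X ≠ ⊥ := by
      unfold topologicalKrullDim
      rw [Ne, Order.krullDim_eq_bot_iff, not_isEmpty_iff]
      exact ⟨⟨Set.univ, IrreducibleSpace.isIrreducible_univ X, isClosed_univ⟩⟩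
    obtain ⟨n, hn⟩ : ∃ n : ℕ, topologicalKrullDim ↥X = (n : WithBot ℕ∞) := by
      obtain ⟨m, hm⟩ := WithBot.ne_bot_iff_exists.mp hbot
      have hm' : m ≠ ⊤ := by
        rintro rfl
        exact hfin hm.symm
      obtain ⟨n, hn⟩ := ENat.ne_top_iff_exists.mp hm'
      exact ⟨n, by rw [← hm, ← hn]; rfl⟩
    have h1 := Fga.DimLt.exists_ltSeries_succ hcl hne (n := n) (by rw [← hhomeo, ← hdim, hn])
    rw [hn] at h1
    have h2 : n + 1 ≤ n := by exact_mod_cast h1
    omega
  have : Surjective i := ⟨Set.range_eq_univ.mp hsurj⟩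
  exact isIso_of_isClosedImmersion_of_surjective i

end Groth.Agent.S10839
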