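import Groth.Statements.S19476
import Groth.Agent.Grpsch.CubeTriv
import Groth.Agent.PicF.K248.Basic

set_option autoImplicit false
universe u
open CategoryTheory CategoryTheory.Limits AlgebraicGeometry
open PicF

namespace Groth.Agent.S19476

open Groth.Agent Groth.Agent.Grpsch Groth.Agent.Grpsch.CubeData in
/-- Let S be a locally Noetherian scheme, f : X → S flat and proper with integral geometric fibres, and
L a line bundle on X (a locally free module of rank 1). Then there is a closed subscheme Z ⊆ S with
the following universal property among locally Noetherian S-schemes: a morphism u : T → S with T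
locally Noetherian factors through Z if and only if the pullback of L to X ×_S T is isomorphic to
the pullback along the projection X ×_S T → T of some line bundle on T, i.e. is trivial relative to
T. (Only the existence of such a closed subscheme is asserted.) -/
theorem result {X S : Scheme.{u}} (f : X ⟶ S)
    [IsProper f] [Flat f] [GeometricallyIntegral f] [IsLocallyNoetherian S]
    (L : X.Modules) (hL : FlatMod.IsFinLocFreeOfRank 1 L) :
    ∃ (Z : Scheme.{u}) (ι : Z ⟶ S), IsClosedImmersion ι ∧
      ∀ (T : Scheme.{u}) (u : T ⟶ S), IsLocallyNoetherian T →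
        ((∃ u' : T ⟶ Z, u' ≫ ι = u) ↔
          ∃ M : T.Modules, FlatMod.IsFinLocFreeOfRank 1 M ∧
            Nonempty ((Scheme.Modules.pullback (pullback.fst f u)).obj L ≅
              (Scheme.Modules.pullback (pullback.snd f u)).obj M)) := by
  have hlfp : LocallyOfFinitePresentation f :=
    LocallyOfFinitePresentation.iff_locallyOfFiniteType.mpr inferInstance
  have hL' : PicF.IsInvertible L := Ega2.QCohLocal.isFinLocFreeOfRank_one_iff.1 hL
  obtain ⟨Z, j, hj1, hj2, hj⟩ := S1431.result f
    (fun T g U => isIso_app (pullback.snd f g) U) L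
    (CubeClosed.isFinLocFree_of_isInvertible hL')
  have key : ∀ (T : Scheme.{u}) (u : T ⟶ S), (∃ u' : T ⟶ Z, u' ≫ j = u) ↔
      ∃ M : T.Modules, FlatMod.IsFinLocFreeOfRank 1 M ∧
            Nonempty ((Scheme.Modules.pullback (pullback.fst f u)).obj L ≅
              (Scheme.Modules.pullback (pullback.snd f u)).obj M) := by
    intro T u
    rw [hj]
    constructor
    · rintro ⟨N, hN, ⟨e⟩⟩
      refine ⟨N, K248.Basic.rankOne_of_pullback (pullback.snd f u) hN ?_, ⟨e.symm⟩⟩
      rw [Ega2.QCohLocal.isFinLocFreeOfRank_one_iff]
      exact K248.Basic.isInvertible_of_iso e.symm (Fdesc.LocGen.isInvertible_pullback _ hL')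
    · rintro ⟨M, hM, ⟨e⟩⟩
      exact ⟨M, Ega2.QCohLocal.isFinLocFree_of_rank hM, ⟨e.symm⟩⟩
  have hrange : Set.range j = {z : S | Nonempty
      ((Scheme.Modules.pullback (f.fiberι z)).obj L ≅ Coh.structureModule (f.fiber z))} := by
    ext z
    rw [K248.Basic.mem_range_iff, key]
    constructor
    · rintro ⟨M, hM, ⟨e⟩⟩
      have := K248.Basic.triv_of_specField (S.residueField z)
        (pullback.snd f (S.fromSpecResidueField z))
        (Ega2.QCohLocal.isFinLocFreeOfRank_one_iff.1 hM)
      exact Triv.of_iso e this
    · rintro ⟨e⟩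
      refine ⟨Coh.structureModule _,
        Ega2.QCohLocal.isFinLocFreeOfRank_one_iff.2 Fdesc.LocGen.isInvertible_structureModule, ?_⟩
      obtain ⟨i⟩ : Triv ((Scheme.Modules.pullback (pullback.snd f (S.fromSpecResidueField z))).obj
          (Coh.structureModule _)) := Triv.pullback _ ⟨Iso.refl _⟩
      exact ⟨e ≪≫ i.symm⟩
  have hclosed : IsClosed (Set.range j) := by
    rw [hrange]
    exact CubeClosed.isClosed_trivialLocus f L hL'
  exact ⟨Z, j, IsClosedImmersion.of_isPreimmersion j hclosed, fun T u _ => key T u⟩

end Groth.Agent.S19476
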