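import Groth.Statements.S4427
import Groth.Agent.Ega2.RelAmp

set_option autoImplicit false
universe u
open CategoryTheory CategoryTheory.Limits AlgebraicGeometry
open EGA2

namespace Groth.Agent.S4427

open Groth.Agent.Fdesc.LocGen Groth.Agent.Ega2.Ample Groth.Agent.Ega2.Nv Groth.Agent.Ega2.RelAmp

/-- A module with a generator over an affine open is ample there. -/
theorem ampleOn_of_isGen {Y : Scheme.{u}} {L : Y.Modules} {V : Y.Opens} (hV : IsAffineOpen V)
    {e : Γ(L, V)} (he : IsGen e) : AmpleOn L V := by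
  refine ⟨fun x hx => ⟨V, e, hx, le_rfl, he⟩, hV.isCompact, fun x hx => ?_⟩
  have h1 : nv _ (pow e 1) = V := by
    apply le_antisymm (nv_le _ _)
    rw [le_nv_iff _ _ le_rfl, res_refl]
    exact he.pow 1
  exact ⟨1, one_pos, pow e 1, by rwa [h1], by rwa [h1]⟩

/-- Let Y be a scheme and L an invertible O_Y-module. Then L is ample relative to the identity morphism
of Y. -/
theorem result (Y : Scheme.{u}) (L : Y.Modules) (hL : PicF.IsInvertible L) :
    RelAmple.IsRelAmple (𝟙 Y) L := by
  refine isRelAmple_of_forall_exists (fun x => ?_)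
  obtain ⟨U, e, hx, he⟩ := (isInvertible_iff L).mp hL x
  obtain ⟨_, ⟨V, hV, rfl⟩, hxV, hVU⟩ := Y.isBasis_affineOpens.exists_subset_of_mem_open hx U.2
  exact ⟨V, hV, hxV, ampleOn_of_isGen hV (he.res (show V ≤ U from hVU))⟩

end Groth.Agent.S4427
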