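import Groth.Statements.S15163
import Groth.Agent.BddFin.K843.GL2Z

set_option autoImplicit false
open Matrix
open BddFin

namespace Groth.Agent.S15163

/-- Let Γ be a finite subgroup of GL_2(ℤ) and d > 6 an integer. Suppose some vector w of (ℤ/dℤ)², with
m·w ≠ 0 for all 0 < m < d, is fixed by the reduction modulo d of every element of Γ. Then some
non-zero vector of ℤ² is fixed by all of Γ. -/
theorem result
    (Γ : Subgroup (Matrix.GeneralLinearGroup (Fin 2) ℤ)) [Finite Γ] (d : ℕ) (hd : 6 < d)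
    (w : Fin 2 → ZMod d) (hw : ∀ m : ℕ, 0 < m → m < d → m • w ≠ 0)
    (hfix : ∀ γ ∈ Γ, ((γ : Matrix (Fin 2) (Fin 2) ℤ).map (Int.castRingHom (ZMod d))) *ᵥ w = w) :
    ∃ v : Fin 2 → ℤ, v ≠ 0 ∧ ∀ γ ∈ Γ, (γ : Matrix (Fin 2) (Fin 2) ℤ) *ᵥ v = v := by
  refine K843.GL2Z.exists_common_fixed Γ fun γ hγ => ?_
  obtain ⟨n, hn, h1⟩ := (isOfFinOrder_iff_pow_eq_one (x := (⟨γ, hγ⟩ : Γ))).mp (isOfFinOrder_of_finite _)
  have h2 : (γ : Matrix (Fin 2) (Fin 2) ℤ) ^ n = 1 := by
    have h3 : γ ^ n = 1 := by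
      have := congrArg (Subtype.val) h1
      simpa using this
    rw [← Units.val_pow_eq_pow_val, h3, Units.val_one]
  have hle := K843.GL2Z.natAbs_det_one_sub_le _ n hn h2
  have hfixγ := hfix γ hγ
  generalize (γ : Matrix (Fin 2) (Fin 2) ℤ) = M at *
  -- the determinant of `1 - γ` kills `w`
  have hkill : (((1 - M).det : ℤ) : ZMod d) • w = 0 := by
    have h5 : ((1 - M).map (Int.castRingHom (ZMod d))) *ᵥ w = 0 := by
      have : (1 - M).map (Int.castRingHom (ZMod d)) = 1 - M.map (Int.castRingHom (ZMod d)) := by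
        rw [Matrix.map_sub _ (map_sub _), Matrix.map_one _ (map_zero _) (map_one _)]
      rw [this, Matrix.sub_mulVec, hfixγ, Matrix.one_mulVec, sub_self]
    have h6 := congrArg (fun z => ((1 - M).map (Int.castRingHom (ZMod d))).adjugate *ᵥ z) h5
    simp only [Matrix.mulVec_mulVec, Matrix.mulVec_zero, Matrix.adjugate_mul] at h6
    rw [Matrix.smul_mulVec, Matrix.one_mulVec] at h6
    have h7 : ((1 - M).map (Int.castRingHom (ZMod d))).det = (((1 - M).det : ℤ) : ZMod d) := by
      have : (1 - M).map (Int.castRingHom (ZMod d)) = (Int.castRingHom (ZMod d)).mapMatrix (1 - M) := rfl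
      rw [this, ← RingHom.map_det]; rfl
    rw [h7] at h6
    exact h6
  have hnat : (1 - M).det.natAbs • w = 0 := by
    rcases Int.natAbs_eq (1 - M).det with h | h
    · rw [h] at hkill
      rw [Int.cast_natCast, Nat.cast_smul_eq_nsmul] at hkill
      exact hkill
    · rw [h] at hkill
      rw [Int.cast_neg, Int.cast_natCast, neg_smul, neg_eq_zero, Nat.cast_smul_eq_nsmul] at hkill
      exact hkill
  have h0 : (1 - M).det = 0 := by
    by_contra hne
    have hpos : 0 < (1 - M).det.natAbs := Int.natAbs_pos.mpr hne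
    exact hw _ hpos (by omega) hnat
  obtain ⟨v, hv, hv0⟩ := Matrix.exists_mulVec_eq_zero_iff.mpr h0
  refine ⟨v, hv, ?_⟩
  rw [Matrix.sub_mulVec, Matrix.one_mulVec, sub_eq_zero] at hv0
  exact hv0.symm

end Groth.Agent.S15163
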