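import Groth.Statements.S15185
import Groth.Agent.S15168
import Mathlib.Algebra.CharP.Lemmas
import Mathlib.LinearAlgebra.Dimension.Constructions

set_option autoImplicit false
universe u v
open Polynomial TensorProduct
open BddFin

namespace Groth.Agent.S15185

/-- Let K be a field of characteristic p > 0 such that K contains all roots of unity (for every n ≥ 1
the polynomial X^n − 1 splits into linear factors over K), A a central division algebra of dimension
n ^ 2 over K, and write n = n' · p ^ m with n' prime to p; let N be the reduced norm of A. Consider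
the kernel of the homomorphism from the units of A modulo those of K to Kˣ/(Kˣ)^(p^m) induced by N.
Every element of finite order of that kernel has order dividing n': if x ≠ 0 in A has x ^ r in K for
some r ≥ 1 and N x is a (p ^ m)-th power of a non-zero element of K, then x ^ n' lies in K. -/
theorem result
    (K : Type u) [Field K] (p : ℕ) [Fact p.Prime] [CharP K p] (hK : ∀ n : ℕ, 0 < n → (X ^ n - 1 : K[X]).Splits)
    (A : Type v) [DivisionRing A] [Algebra K A] [Algebra.IsCentral K A] [FiniteDimensional K A]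
    (n n' m : ℕ) (hA : Module.finrank K A = n ^ 2) (hn : n = n' * p ^ m) (hn' : ¬ p ∣ n')
    (N : A →* K) (hN : CSAGal.IsRedNorm K A N)
    (x : A) (hx : x ≠ 0) (hxr : ∃ r : ℕ, 0 < r ∧ x ^ r ∈ (algebraMap K A).range)
    (hNx : ∃ b : K, b ≠ 0 ∧ N x = b ^ (p ^ m)) :
    x ^ n' ∈ (algebraMap K A).range := by
  have hnpos : 0 < n := by
    rcases Nat.eq_zero_or_pos n with h0 | h0
    · rw [h0] at hA
      have h1 : 0 < Module.finrank K A := Module.finrank_pos
      omega
    · exact h0
  have hn'pos : 0 < n' := by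
    rcases Nat.eq_zero_or_pos n' with h0 | h0
    · exact absurd (h0 ▸ dvd_zero p) hn'
    · exact h0
  obtain ⟨c, hc⟩ := Groth.Agent.S15168.result K hK A n hA x hxr
  obtain ⟨b, hb0, hb⟩ := hNx
  -- the reduced norm of a scalar
  have hNc : N (algebraMap K A c) = c ^ n := by
    obtain ⟨F, _, _, _, n₀, φ, hφ⟩ := hN
    have hn₀ : n₀ = n := by
      have h1 := φ.toLinearEquiv.finrank_eq
      rw [Module.finrank_baseChange, hA, Module.finrank_matrix, Fintype.card_fin, Module.finrank_self, mul_one, sq] at h1
      exact (Nat.mul_self_inj.mp h1).symm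
    apply FaithfulSMul.algebraMap_injective K F
    rw [hφ]
    have h2 : (1 : F) ⊗ₜ[K] (algebraMap K A c) = algebraMap F (F ⊗[K] A) (algebraMap K F c) := by
      rw [Algebra.TensorProduct.algebraMap_apply, Algebra.algebraMap_self, RingHom.id_apply,
        Algebra.algebraMap_eq_smul_one, Algebra.algebraMap_eq_smul_one, TensorProduct.tmul_smul, TensorProduct.smul_tmul']
    rw [h2, AlgEquiv.commutes, Matrix.algebraMap_eq_diagonal, Matrix.det_diagonal]
    simp [hn₀]
  have hpow : (algebraMap K A b) ^ (p ^ m * n) = x ^ (n * n) := by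
    have h1 : (N x) ^ n = c ^ n := by
      rw [← map_pow, ← hc, hNc]
    rw [pow_mul x, ← hc, ← map_pow, ← map_pow, pow_mul, ← hb, h1]
  have : CharP A p := charP_of_injective_algebraMap (FaithfulSMul.algebraMap_injective K A) p
  have hcomm : Commute (x ^ (n' * n')) ((algebraMap K A b) ^ n') := by
    rw [← map_pow]
    exact (Algebra.commutes _ _).symm
  have hroot : x ^ (n' * n') = (algebraMap K A b) ^ n' := by
    have h1 := sub_pow_char_pow_of_commute (R := A) p (n := m + m) hcomm
    rw [← pow_mul, ← pow_mul] at h1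
    have e1 : n' * n' * p ^ (m + m) = n * n := by rw [hn, pow_add]; ring
    have e2 : n' * p ^ (m + m) = p ^ m * n := by rw [hn, pow_add]; ring
    rw [e1, e2, ← hpow, sub_self] at h1
    exact sub_eq_zero.mp (pow_eq_zero_iff (pow_pos (Fact.out (p := p.Prime)).pos _).ne' |>.mp h1)
  -- group theory
  let H : Subgroup Aˣ := (Units.map (algebraMap K A : K →* A)).range
  have hmem : ∀ u : Aˣ, u ∈ H ↔ (u : A) ∈ (algebraMap K A).range := by
    intro u
    constructor
    · rintro ⟨r, rfl⟩
      exact ⟨r, rfl⟩
    · rintro ⟨r, hr⟩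
      have hr0 : r ≠ 0 := by
        rintro rfl
        rw [map_zero] at hr
        exact u.ne_zero hr.symm
      exact ⟨Units.mk0 r hr0, by ext; exact hr⟩
  let u : Aˣ := Units.mk0 x hx
  have h1 : u ^ n ∈ H := by
    rw [hmem, Units.val_pow_eq_pow_val]
    exact ⟨c, hc⟩
  have h2 : u ^ (n' * n') ∈ H := by
    rw [hmem, Units.val_pow_eq_pow_val]
    exact ⟨b ^ n', by rw [map_pow]; exact hroot.symm⟩
  have hgcd : Nat.gcd n (n' * n') = n' := by
    rw [hn, Nat.gcd_mul_left]
    have : Nat.gcd (p ^ m) n' = 1 := Nat.Coprime.pow_left _ ((Nat.Prime.coprime_iff_not_dvd Fact.out).mpr hn')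
    rw [this, mul_one]
  have h3 : u ^ n' ∈ H := by
    rw [← zpow_natCast, ← hgcd, Nat.gcd_eq_gcd_ab, zpow_add, zpow_mul, zpow_mul, zpow_natCast, zpow_natCast]
    exact H.mul_mem (H.zpow_mem h1 _) (H.zpow_mem h2 _)
  rw [hmem, Units.val_pow_eq_pow_val] at h3
  exact h3

end Groth.Agent.S15185
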