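import Groth.Statements.S15376
import Groth.Agent.Biell.K856.Num
import Groth.Agent.Surf.K455.Canon
import Groth.Agent.CurvesA.CSpecD1

set_option autoImplicit false
universe u
open CategoryTheory CategoryTheory.Limits AlgebraicGeometry
open Biell Groth.Agent Groth.Agent.Grpsch.PicGrp

namespace Groth.Agent.S15376

/-- Let k be an algebraically closed field and X a (quasi-)bielliptic surface over k, meaning here: X is
an integral k-scheme, proper and smooth of relative dimension 2 over k and carrying an ample
invertible sheaf, whose canonical sheaf ω (a second exterior power of Ω_{X/k}) is numerically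
trivial (degree 0 on every integral closed curve in X) and whose second ℓ-adic Betti number (the
rank of lim_ν H²(X_et, Z/ℓ^ν)) equals 2 for every prime ℓ invertible in k. Then the geometric genus
p_g(X) = dim_k H²(X, O_X) equals 1 if and only if ω ≅ O_X, i.e. ω has order 1 in Pic(X). (The
published statement is for bielliptic surfaces and has a third equivalent condition, non-reducedness
of the identity component of the Picard scheme, which is not stated here; the equivalence of the two
conditions stated rests only on the numerical triviality of ω on an integral smooth projective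
surface, so this row states it for quasi-bielliptic surfaces as well.) -/
theorem result (k : Type u) [Field k] [IsAlgClosed k] (X : Scheme.{u}) [X.Over (Spec (CommRingCat.of k))]
    [IsIntegral X] [IsProper (X ↘ Spec (CommRingCat.of k))] [SmoothOfRelativeDimension 2 (X ↘ Spec (CommRingCat.of k))]
    (hproj : ∃ H : X.Modules, CohB1.IsAmple H)
    (ω : X.Modules) (hω : Canon.IsTopDiff (X ↘ Spec (CommRingCat.of k)) 2 ω) (hnum : Pic13.IsNumEquivZero k X ω)
    (hb2 : ∀ ℓ : ℕ, ℓ.Prime → (ℓ : k) ≠ 0 → EtAdic.betti X ℓ 2 = 2) :
    Module.finrank k (Coh.HH X (Coh.structureModule X) 2) = 1 ↔ Nonempty (ω ≅ Coh.structureModule X) := by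
  have hs : Smooth (X ↘ Spec (CommRingCat.of k)) := SmoothOfRelativeDimension.smooth 2 _
  have hdim : topologicalKrullDim X = 2 := by
    exact_mod_cast CurvesA.CSpecD1.topologicalKrullDim_eq_of_smoothOfRelativeDimension 2
      (X ↘ Spec (CommRingCat.of k))
  have hωi := K455.Canon.isInvertible _ 2 hω
  have h1 := K455.SmoothRR.finrank_dual k hω (L := Coh.structureModule X) (L' := Coh.structureModule X)
    Fdesc.LocGen.isInvertible_structureModule ⟨Ega2.Tens.runit _⟩ 0 2 rfl
  rw [h1, K464.Cohom.finrank_congr k (Ega2.Tens.runit ω) 0]
  constructor
  · intro h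
    have h2 : Nontrivial (Coh.HH X ω 0) := Module.nontrivial_of_finrank_pos (R := k) (by omega)
    exact (mk_eq_one_iff hωi).1 (K856.Num.eq_one_of_num k hdim hproj hωi hnum h2)
  · rintro ⟨e⟩
    rw [K464.Cohom.finrank_congr k e 0, K856.Num.h0_eq_one k]

end Groth.Agent.S15376
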