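import Groth.Statements.S14809
import Groth.Agent.PicF.K247.SecIso
import Groth.Agent.Fdesc.LocGenPullback

set_option autoImplicit false
universe u
open CategoryTheory CategoryTheory.Limits AlgebraicGeometry
open PicF

namespace Groth.Agent.S14809

open Groth.Agent.Fdesc.LocGen K247.SecIso in
/-- Let X be an integral scheme such that Γ(X, O_X) is a field and L an invertible O_X-module with a
nonzero global section (a nonzero morphism O_X → L). If some tensor power L^{⊗d} with d ≥ 1 is
isomorphic to O_X, then L itself is isomorphic to O_X. -/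
theorem result (X : Scheme.{u}) [IsIntegral X]
    (hfield : IsField (Γ(X, ⊤) : Type u)) (L : X.Modules) (hL : PicF.IsInvertible L)
    (s : Coh.structureModule X ⟶ L) (hs : s ≠ 0) (d : ℕ) (hd : 0 < d)
    (htriv : Nonempty (CohB1.tensorPow L d ≅ Coh.structureModule X)) :
    Nonempty (L ≅ Coh.structureModule X) := by
  obtain ⟨φ⟩ := htriv
  obtain ⟨x⟩ : Nonempty X := inferInstance
  obtain ⟨U, e, hxU, he⟩ := (isInvertible_iff L).mp hL x
  have hne : (U : Set X).Nonempty := ⟨x, hxU⟩
  obtain ⟨a, ha⟩ := he.exists_eq (sec s U)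
  have : Nonempty (U : Scheme.{u}) := Set.nonempty_coe_sort.mpr hne
  have ha0 : a ≠ 0 := by
    rintro rfl
    exact sec_ne_zero hL s hs U hne (by rw [ha, zero_smul])
  obtain ⟨b, hb⟩ := (ofFun (X := X) (U := U)).surjective (φ.hom.app U (pow e d))
  have hbu : IsUnit b := by
    have h1 := (he.pow d).app φ.hom
    rw [← hb, ofFun_eq_smul] at h1
    exact (isGen_one U).isUnit_of_smul h1
  obtain ⟨c, hc⟩ := (ofFun (X := X) (U := ⊤)).surjective (φ.hom.app ⊤ (pow (sec s ⊤) d))
  have hc1 : ores (le_top : U ≤ ⊤) c = a ^ d * b := by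
    apply (isGen_one U).ext
    have h1 := congr(res _ (le_top : U ≤ ⊤) $hc)
    rw [← app_res, res_pow, res_sec, ha, smul_pow, Scheme.Modules.Hom.app_smul, ← hb, ofFun_eq_smul, ofFun_eq_smul,
      res_smul, res_one, smul_smul] at h1
    exact h1
  have hc0 : c ≠ 0 := by
    rintro rfl
    rw [map_zero] at hc1
    exact mul_ne_zero (pow_ne_zero d ha0) hbu.ne_zero hc1.symm
  obtain ⟨d', hd'⟩ := hfield.mul_inv_cancel hc0
  have hcu : IsUnit c := IsUnit.of_mul_eq_one d' hd'
  have hgen : IsGen (pow (sec s ⊤) d) := by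
    rw [← isGen_app_iff φ.hom, ← hc, ofFun_eq_smul]
    exact (isGen_one ⊤).unit_smul hcu
  have hiso : IsIso s := by
    rw [isIso_iff_isGen, isGen_iff_forall_exists]
    intro y _
    obtain ⟨W, f, hyW, hf⟩ := (isInvertible_iff L).mp hL y
    refine ⟨W, le_top, hyW, ?_⟩
    obtain ⟨g, hg⟩ := hf.exists_eq (sec s W)
    rw [res_sec, hg]
    refine hf.unit_smul ?_
    have h1 := hgen.res (le_top : W ≤ ⊤)
    rw [res_pow, res_sec, hg, smul_pow] at h1
    exact (isUnit_pow_iff hd.ne').mp ((hf.pow d).isUnit_of_smul h1)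
  exact ⟨(asIso s).symm⟩

end Groth.Agent.S14809
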