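import Groth.Statements.S7637
import Groth.Agent.S1641
import Groth.Agent.Krr.H478.EpiIso

set_option autoImplicit false
universe u
open CategoryTheory CategoryTheory.Limits AlgebraicGeometry
open Variety

namespace Groth.Agent.S7637

open Groth.Agent.VarietyB

theorem length_of_basis {R M : Type*} [CommRing R] [AddCommGroup M] [Module R M] {m : ℕ}
    (b : Module.Basis (Fin m) R M) : Module.length R M = m * Module.length R R := by
  rw [b.equivFun.length_eq, Module.length_pi_of_fintype]
  simp

theorem len_locFree {X : Scheme.{u}} [IsNoetherian X] {m : ℕ} {V : X.Modules}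
    (hV : FlatMod.IsFinLocFreeOfRank m V) (C : irreducibleComponents (X : Type u)) :
    DegMult.len V C = m * DegMult.len (Coh.structureModule X) C := by
  rw [DegMult.len_unit]
  obtain ⟨b⟩ := Groth.Agent.Krr.H478.EpiIso.exists_basis hV C.2.1.genericPoint
  unfold DegMult.len
  rw [length_of_basis b, ENat.toNat_mul]
  simp

theorem mult_locFree {X : Scheme.{u}} [IsNoetherian X] {m : ℕ} {V : X.Modules}
    (hV : FlatMod.IsFinLocFreeOfRank m V) (d : irreducibleComponents (X : Type u) → ℤ) :
    DegMult.mult d V = m * DegMult.mult d (Coh.structureModule X) := by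
  have hfin : Finite (irreducibleComponents (X : Type u)) :=
      TopologicalSpace.NoetherianSpace.finite_irreducibleComponents
  unfold DegMult.mult
  rw [mul_finsum]
  refine finsum_congr fun C => ?_
  rw [len_locFree hV C]
  split_ifs
  · ring
  · ring

/-- Let X be proper of dimension at most one over a field k and let E, V be finite locally free modules
of ranks n and m. Then the degree of E ⊗ V (a module of rank n·m) is n·deg(V) + m·deg(E). -/
theorem result (k : Type u) [Field k] (X : Scheme.{u}) [X.Over (Spec (CommRingCat.of k))] [IsProper (X ↘ (Spec (CommRingCat.of k)))]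
    (hdim : topologicalKrullDim X ≤ 1) (n m : ℕ) (E V : X.Modules)
    (hE : FlatMod.IsFinLocFreeOfRank n E) (hV : FlatMod.IsFinLocFreeOfRank m V) :
    Curv2.deg k X (CohB1.tensorMod E V) (n * m) = n * Curv2.deg k X V m + m * Curv2.deg k X E n := by
  have hN : IsNoetherian X := DegFin.isNoetherian_of_isProper k X
  have hVc : Coh.IsCoh V := DegPhi.isCoh_of_hasBases (TensCoh.HasBases.of_isFinLocFreeOfRank hV)
  have hOc := Groth.Agent.CurvesB.UnitCoh.isCoh_structureModule X
  have h1 := Groth.Agent.S1641.phi_eq_mult k X hdim n E hE V hVc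
  have h2 := Groth.Agent.S1641.phi_eq_mult k X hdim n E hE _ hOc
  rw [mult_locFree hV, ← h2, DegPhi.phi_unit k X] at h1
  unfold DegPhi.phi at h1
  have h3 : Curv2.euler k X (CohB1.tensorMod E V) = m * Curv2.deg k X E n + n * Curv2.euler k X V := by
    linarith
  unfold Curv2.deg at h3 ⊢
  rw [h3]
  push_cast
  ring

end Groth.Agent.S7637
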