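import Groth.Statements.S14132
import Groth.Agent.AbVar.K232.FMPush

set_option autoImplicit false
universe u
open CategoryTheory CategoryTheory.Limits MonoidalCategory CartesianMonoidalCategory MonObj GrpObj AlgebraicGeometry
attribute [local instance] HasDerivedCategory.standard
open AbVar

namespace Groth.Agent.S14132

/-- Let k be a field, A and B abelian varieties over k (proper smooth k-group schemes with geometrically
connected fibres), f : A → B a homomorphism, (A^t, φ_A) and (B^t, φ_B) given dual abelian varieties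
for the fppf topology (both abelian varieties), P_A on A ×_k A^t and P_B on B ×_k B^t invertible
modules whose classes are Poincaré classes, and f^t : B^t → A^t the transpose of f with respect to
these duals. Write Φ_{P_A} = Rpr_{2,*}(Lpr_1^*(−) ⊗^L P_A) : D(O_A) → D(O_{A^t}) and similarly
Φ_{P_B}; the derived functors involved are assumed to exist. Then, restricted to objects of D(O_A)
with quasi-coherent cohomology sheaves, Φ_{P_B} ∘ Rf_* is isomorphic to L(f^t)^* ∘ Φ_{P_A}
(existence of an isomorphism of functors). -/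
theorem result (k : Type u) [Field k]
    (A At B Bt : Over (Spec (CommRingCat.of k))) [GrpObj A] [IsProper A.hom] [Smooth A.hom] [GeometricallyConnected A.hom]
    [GrpObj At] [IsProper At.hom] [Smooth At.hom] [GeometricallyConnected At.hom]
    [GrpObj B] [IsProper B.hom] [Smooth B.hom] [GeometricallyConnected B.hom]
    [GrpObj Bt] [IsProper Bt.hom] [Smooth Bt.hom] [GeometricallyConnected Bt.hom]
    (φA : ∀ T : Over (Spec (CommRingCat.of k)), PicF.Cl (PicF.XT A.hom T) → (T ⟶ At))
    (hφA : AbDual.IsDualAV Scheme.fppfPrecoverage A At φA)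
    (φB : ∀ T : Over (Spec (CommRingCat.of k)), PicF.Cl (PicF.XT B.hom T) → (T ⟶ Bt))
    (hφB : AbDual.IsDualAV Scheme.fppfPrecoverage B Bt φB)
    (PA : (pullback A.hom At.hom).Modules) (hPA : PicF.IsInvertible PA)
    (hPAξ : AbDual.IsPoincareCl A At φA (PicF.cl PA))
    (PB : (pullback B.hom Bt.hom).Modules) (hPB : PicF.IsInvertible PB)
    (hPBξ : AbDual.IsPoincareCl B Bt φB (PicF.cl PB))
    (f : A ⟶ B) [IsMonHom f] (ft : Bt ⟶ At) (hft : AbDual.IsTranspose f φA φB ft)
    [DCoh.HasLpull (pullback.fst A.hom At.hom)] [DCoh.HasLTensorMod PA] [DCoh.HasRpush (pullback.snd A.hom At.hom)]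
    [DCoh.HasLpull (pullback.fst B.hom Bt.hom)] [DCoh.HasLTensorMod PB] [DCoh.HasRpush (pullback.snd B.hom Bt.hom)]
    [DCoh.HasRpush f.left] [DCoh.HasLpull ft.left] :
    Nonempty (ObjectProperty.ι (DCoh.IsQCohD (X := A.left)) ⋙ DCoh.Rpush f.left ⋙ (DCoh.Lpull (pullback.fst B.hom Bt.hom) ⋙ DCoh.LTensorMod PB ⋙ DCoh.Rpush (pullback.snd B.hom Bt.hom)) ≅
      ObjectProperty.ι (DCoh.IsQCohD (X := A.left)) ⋙ (DCoh.Lpull (pullback.fst A.hom At.hom) ⋙ DCoh.LTensorMod PA ⋙ DCoh.Rpush (pullback.snd A.hom At.hom)) ⋙ DCoh.Lpull ft.left) := by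
  obtain ⟨ζA, a1, a2, a3, a4⟩ := K732.AV.exists_of_isPoincareCl hPAξ
  have eA : ζA = Groth.Agent.Grpsch.PicGrp.mk PA hPA := Groth.Agent.Fga.RigGrp.toCl_injective a4
  subst eA
  obtain ⟨ζB, b1, b2, b3, b4⟩ := K732.AV.exists_of_isPoincareCl hPBξ
  have eB : ζB = Groth.Agent.Grpsch.PicGrp.mk PB hPB := Groth.Agent.Fga.RigGrp.toCl_injective b4
  subst eB
  have h := K232.FMPush.pull_eq hφA (K732.AV.hF A) a1 a2 a3 b1 b2 b3 f hft
  rw [Groth.Agent.Grpsch.PicGrp.pull_mk, Groth.Agent.Grpsch.PicGrp.pull_mk,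
    Groth.Agent.Grpsch.PicGrp.mk_eq_iff] at h
  obtain ⟨e⟩ := h
  have hf : f.left ≫ B.hom = A.hom := Over.w f
  have i1 : IsProper f.left := by
    have : IsProper (f.left ≫ B.hom) := by
      rw [hf]
      infer_instance
    exact MorphismProperty.of_postcomp @IsProper f.left B.hom (inferInstance : IsSeparated B.hom) this
  obtain ⟨c1⟩ := K232.FMInv.fm_mod (pullback.fst A.hom At.hom) (pullback.snd A.hom At.hom) hPA
  obtain ⟨c2⟩ := K232.FMInv.fm_mod (pullback.fst B.hom Bt.hom) (pullback.snd B.hom Bt.hom) hPB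
  have h := K232.FMInv.push_main (f := f.left) (ft := ft.left) (pB := pullback.fst B.hom Bt.hom)
    (qB := pullback.snd B.hom Bt.hom) (pA := pullback.fst A.hom At.hom) (qA := pullback.snd A.hom At.hom)
    (v := pullback.fst A.hom Bt.hom) (w := pullback.snd A.hom Bt.hom) (F := AbDual.bcMap f Bt)
    (G := PicF.XTmap A.hom ft) (K232.FMPush.isPullback_bcMap f Bt) (K732.PicZero.bcMap_XTproj f Bt)
    (K732.PicZero.isPullback_XTmap ft) (Groth.Agent.Fga.RigGrp.XTmap_fst A.hom ft) hPA hPB e
  exact h.congr (Functor.isoWhiskerLeft _ c2.symm) (Functor.isoWhiskerRight c1.symm _)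

end Groth.Agent.S14132
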