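import Groth.Statements.S14146
import Groth.Agent.AbVar.K512.FMPull
import Groth.Agent.AbVar.K512.PoincMod
import Groth.Agent.AbVar.K519.DualBase
import Groth.Agent.Grpsch.Cube

set_option autoImplicit false
universe u
open CategoryTheory CategoryTheory.Limits MonoidalCategory CartesianMonoidalCategory MonObj GrpObj AlgebraicGeometry
attribute [local instance] HasDerivedCategory.standard
open AbVar

namespace Groth.Agent.S14146

open Groth.Agent.Grpsch Groth.Agent.Grpsch.PicGrp Groth.Agent.Grpsch.Cube Groth.Agent.Fga.RigGrp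

/-- Let k be an algebraically closed field, A an abelian variety over k (a proper smooth k-group scheme
with geometrically connected fibres) with structure map a : A → Spec k, (A^t, φ) a given dual
abelian variety for the fppf topology with A^t an abelian variety, P an invertible module on A ×_k
A^t whose class is a Poincaré class, L an invertible O_A-module with an inverse L', and Λ a module
on A ×_k A isomorphic to the Mumford module m^*L ⊗ pr_1^*L' ⊗ pr_2^*L', whose class is assumed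
algebraically trivial on every geometric fibre of the second projection. Let φ_L = φ(Λ) : A → A^t
and assume L non-degenerate in the sense that φ_L is finite and flat. Write Φ_P =
Rpr_{2,*}(Lpr_1^*(−) ⊗^L P); the derived functors involved are assumed to exist. Then Lφ_L^*(Φ_P(L))
is isomorphic in D(O_A) to La^*(Ra_*L) ⊗^L L', that is, to RΓ(A, L) ⊗_k L^{-1} (existence of an
isomorphism). -/
theorem result (k : Type u) [Field k] [IsAlgClosed k]
    (A At : Over (Spec (CommRingCat.of k))) [GrpObj A] [IsProper A.hom] [Smooth A.hom] [GeometricallyConnected A.hom]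
    [GrpObj At] [IsProper At.hom] [Smooth At.hom] [GeometricallyConnected At.hom]
    (φ : ∀ T : Over (Spec (CommRingCat.of k)), PicF.Cl (PicF.XT A.hom T) → (T ⟶ At))
    (hφ : AbDual.IsDualAV Scheme.fppfPrecoverage A At φ)
    (P : (pullback A.hom At.hom).Modules) (hP : PicF.IsInvertible P)
    (hPξ : AbDual.IsPoincareCl A At φ (PicF.cl P))
    (L : A.left.Modules) (hL : PicF.IsInvertible L) (L' : A.left.Modules) (hL' : Nonempty (CohB1.tensorMod L L' ≅ Coh.structureModule A.left))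
    (Λ : (PicF.XT A.hom A).Modules)
    (hΛ : Nonempty (Λ ≅ CohB1.tensorMod (CohB1.tensorMod ((Scheme.Modules.pullback μ[A].left).obj L)
      ((Scheme.Modules.pullback (fst A A).left).obj L')) ((Scheme.Modules.pullback (snd A A).left).obj L')))
    (hΛ0 : AbDual.IsPicZeroCl A.hom A (PicF.cl Λ))
    [IsFinite (φ A (PicF.cl Λ)).left] [Flat (φ A (PicF.cl Λ)).left]
    [DCoh.HasLpull (pullback.fst A.hom At.hom)] [DCoh.HasLTensorMod P] [DCoh.HasRpush (pullback.snd A.hom At.hom)]
    [DCoh.HasLpull (φ A (PicF.cl Λ)).left] [DCoh.HasRpush A.hom] [DCoh.HasLpull A.hom] [DCoh.HasLTensorMod L'] :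
    Nonempty ((DCoh.Lpull (φ A (PicF.cl Λ)).left).obj ((DCoh.Lpull (pullback.fst A.hom At.hom) ⋙ DCoh.LTensorMod P ⋙ DCoh.Rpush (pullback.snd A.hom At.hom)).obj (DCoh.inD A.left L)) ≅
      (DCoh.LTensorMod L').obj ((DCoh.Lpull A.hom).obj ((DCoh.Rpush A.hom).obj (DCoh.inD A.left L)))) := by
  have hgi : GeometricallyIntegral A.hom := K512.AV.geometricallyIntegral A
  obtain ⟨hLi, hLi'⟩ := K519.DualBase.mk_inv hL hL'
  obtain ⟨eΛ⟩ := hΛ
  have hT1 := Groth.Agent.Fdesc.LocGen.isInvertible_pullback μ[A].left hL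
  have hT2 := Groth.Agent.Fdesc.LocGen.isInvertible_pullback (fst A A).left hLi
  have hT3 := Groth.Agent.Fdesc.LocGen.isInvertible_pullback (snd A A).left hLi
  have hT := Groth.Agent.Fdesc.LocGen.isInvertible_tensorMod
    (Groth.Agent.Fdesc.LocGen.isInvertible_tensorMod hT1 hT2) hT3
  have hΛi : PicF.IsInvertible Λ := Groth.Agent.Pic13.H138.AlgEquiv.isInvertible_of_iso eΛ.symm hT
  have eΛ' : PicGrp.mk Λ hΛi = pl μ[A] (PicGrp.mk L hL) * (pl (fst A A) (PicGrp.mk L hL))⁻¹ * (pl (snd A A) (PicGrp.mk L hL))⁻¹ := by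
    rw [← map_inv, ← map_inv, ← hLi', pull_mk, pull_mk, pull_mk, mk_mul_mk, mk_mul_mk]
    exact mk_congr eΛ
  obtain ⟨ζ, h1, h2, h3, h4⟩ := K732.AV.exists_of_isPoincareCl hPξ
  have eζ : ζ = PicGrp.mk P hP := Groth.Agent.Fga.RigGrp.toCl_injective h4
  subst eζ
  let c : Pic (PicF.XT A.hom A) := PicGrp.mk Λ hΛi
  have hc : c ∈ K732.PicZero.pz A.hom A := K732.PicZero.isPicZeroCl_iff.1 hΛ0
  have hc' : c ∈ K732.Dual.rg A A := by
    rw [K732.Prim.mem_rg_iff]
    change pl (lift (1 : A ⟶ A) (𝟙 A)) (PicGrp.mk Λ hΛi) = 1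
    have e1 : lift (1 : A ⟶ A) (𝟙 A) ≫ μ[A] = (1 : A ⟶ A) * 𝟙 A := rfl
    rw [eΛ', map_mul, map_mul, map_inv, map_inv, ← pl_comp, ← pl_comp, ← pl_comp, e1, lift_fst, lift_snd,
      _root_.one_mul, pl_one, inv_one, _root_.mul_one, mul_inv_cancel]
  have h5 := K732.Dual.eq_pull_poinc hφ (K732.CubeSec.bijective_XTproj A.hom) h1 h2 h3 hc hc'
  let f : A ⟶ At := φ A (PicF.cl Λ)
  let T : A ⊗ A ⟶ A ⊗ A := lift μ[A] (snd A A)
  have hμ : μ[A] = fst A A * snd A A := MonObj.mul_eq_mul A
  have iT : IsIso T := by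
    refine ⟨lift (fst A A * (snd A A)⁻¹) (snd A A), ?_, ?_⟩
    · rw [comp_lift, MonObj.comp_mul, GrpObj.comp_inv, lift_fst, lift_snd, hμ, _root_.mul_assoc,
        mul_inv_cancel, _root_.mul_one, lift_fst_snd]
    · rw [comp_lift, lift_snd, hμ, MonObj.comp_mul, lift_fst, lift_snd, _root_.mul_assoc, inv_mul_cancel,
        _root_.mul_one, lift_fst_snd]
  have iT' : IsIso T.left := inferInstanceAs (IsIso ((Over.forget _).map T))
  have w1 : T.left ≫ pullback.snd A.hom A.hom = pullback.snd A.hom A.hom :=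
    congrArg (fun f => f.left) (lift_snd μ[A] (snd A A))
  have w2 : T.left ≫ pullback.fst A.hom A.hom = μ[A].left :=
    congrArg (fun f => f.left) (lift_fst μ[A] (snd A A))
  have hpL := Groth.Agent.Fdesc.LocGen.isInvertible_pullback (pullback.fst A.hom A.hom) hL
  have hgP := Groth.Agent.Fdesc.LocGen.isInvertible_pullback (PicF.XTmap A.hom f) hP
  have hTL := Groth.Agent.Fdesc.LocGen.isInvertible_pullback T.left hpL
  have hqL := Groth.Agent.Fdesc.LocGen.isInvertible_pullback (pullback.snd A.hom A.hom) hLi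
  have e : PicGrp.mk _ hpL * PicGrp.mk _ hgP =
      (show Pic (pullback A.hom A.hom) from PicGrp.mk _ hTL) * PicGrp.mk _ hqL := by
    rw [← pull_mk _ hL, ← pull_mk _ hP, ← pull_mk _ hpL, ← pull_mk _ hL, ← pull_mk _ hLi, ← pull_comp,
      w2, hLi', map_inv]
    have h6 : pull (PicF.XTmap A.hom f) (PicGrp.mk P hP) = PicGrp.mk Λ hΛi := h5.symm
    rw [h6]
    refine (congrArg (pull (pullback.fst A.hom A.hom) (PicGrp.mk L hL) * ·) eΛ').trans ?_
    change pl (fst A A) (PicGrp.mk L hL) * (pl μ[A] (PicGrp.mk L hL) * (pl (fst A A) (PicGrp.mk L hL))⁻¹ *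
      (pl (snd A A) (PicGrp.mk L hL))⁻¹) = pl μ[A] (PicGrp.mk L hL) * (pl (snd A A) (PicGrp.mk L hL))⁻¹
    rw [← _root_.mul_assoc, mul_comm (pl μ[A] (PicGrp.mk L hL)) _, mul_inv_cancel_left]
  obtain ⟨e'⟩ := (mk_eq_iff _ _).1 e
  exact K512.FMPull.nonempty_main (K732.PicZero.isPullback_XTmap f) (XTmap_fst A.hom f)
    (IsPullback.of_hasPullback A.hom A.hom) T.left w1 hP hL hLi e'

end Groth.Agent.S14146
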