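import Groth.Statements.S7638
import Groth.Agent.Variety.K420.DetMain
import Groth.Agent.Variety.K420.Comp
import Groth.Agent.Krr.H487.PullExt
import Groth.Agent.S1641

set_option autoImplicit false
universe u
open CategoryTheory CategoryTheory.Limits AlgebraicGeometry
open Variety

namespace Groth.Agent.S7638

/-- Let X be proper of dimension at most one over a field k, let E be finite locally free of rank n and
let L be an n-th exterior power of E (its determinant). Then deg(E) = deg(L), the latter computed as
a module of rank one. -/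
theorem result (k : Type u) [Field k] (X : Scheme.{u}) [X.Over (Spec (CommRingCat.of k))] [IsProper (X ↘ (Spec (CommRingCat.of k)))]
    (hdim : topologicalKrullDim X ≤ 1) (n : ℕ) (E : X.Modules) (hE : FlatMod.IsFinLocFreeOfRank n E)
    (L : X.Modules) (hL : ExtPow.IsExtPow n E L) :
    Curv2.deg k X E n = Curv2.deg k X L 1 := by
  have hN : IsNoetherian X := VarietyA.GlobGen.isNoetherian_of_finiteType (X ↘ (Spec (CommRingCat.of k)))
  have hLr : FlatMod.IsFinLocFreeOfRank 1 L := by
    have := Krr.H487.KerRank.isFinLocFreeOfRank_extPow hE hL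
    rwa [Nat.choose_self] at this
  rw [S1641.result k X hdim n E hE, S1641.result k X hdim 1 L hLr]
  refine finsum_congr fun Z => ?_
  split_ifs with hZ
  · congr 1
    let _ : ((X.irreducibleComponentIdeal Z.1 Z.2).radical.subscheme).Over (Spec (CommRingCat.of k)) :=
      ⟨(X.irreducibleComponentIdeal Z.1 Z.2).radical.subschemeι ≫ (X ↘ (Spec (CommRingCat.of k)))⟩
    have hint : IsIntegral (X.irreducibleComponentIdeal Z.1 Z.2).radical.subscheme :=
      K420.Comp.isIntegral_compSub X Z
    have hpr : IsProper ((X.irreducibleComponentIdeal Z.1 Z.2).radical.subscheme ↘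
        (Spec (CommRingCat.of k))) :=
      inferInstanceAs (IsProper ((X.irreducibleComponentIdeal Z.1 Z.2).radical.subschemeι ≫
        (X ↘ (Spec (CommRingCat.of k)))))
    have hE' : FlatMod.IsFinLocFreeOfRank n ((Scheme.Modules.pullback
        (X.irreducibleComponentIdeal Z.1 Z.2).radical.subschemeι).obj E) := by
      rw [Krr.H487.KerRank.isFinLocFreeOfRank_iff]
      intro z
      obtain ⟨U, hU, b, hb⟩ := (Krr.H487.KerRank.isFinLocFreeOfRank_iff _).mp hE
        ((X.irreducibleComponentIdeal Z.1 Z.2).radical.subschemeι z)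
      exact ⟨_, hU, _, Krr.H487.LocBasisPull.isLocBasis_pbS _ hb⟩
    exact K420.DetMain.deg_det k ((K420.Comp.dim_compSub X Z).trans hZ) hE'
      (Krr.H487.PullExt.isExtPow_pullback _ (Krr.H487.KerRank.isFinLocFree_of_rank hE) hL)
  · rfl

end Groth.Agent.S7638
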