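import Groth.Statements.S4413
import Groth.Agent.Ega2.WeightPull

set_option autoImplicit false
universe u
open CategoryTheory CategoryTheory.Limits AlgebraicGeometry
open EGA2

namespace Groth.Agent.S4413

open Groth.Agent.Fdesc.LocGen Groth.Agent.Ega2.Weight

/-- The generating locus does not change under precomposition with an isomorphism. -/
theorem genLocus_iso_comp {Z : Scheme.{u}} {M : Z.Modules} (L : Z.Modules)
    (e : Coh.structureModule Z ≅ M) (e' : Coh.structureModule Z ≅ M) (f : M ⟶ L) :
    CohB1.genLocus L (e.hom ≫ f) = CohB1.genLocus L (e'.hom ≫ f) := by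
  have key : ∀ (e : Coh.structureModule Z ≅ M) (U : Z.Opens),
      IsIso ((Scheme.Modules.restrictFunctor U.ι).map (e.hom ≫ f)) ↔
        IsIso ((Scheme.Modules.restrictFunctor U.ι).map f) := by
    intro e U
    rw [Functor.map_comp]
    constructor
    · intro h
      exact IsIso.of_isIso_comp_left ((Scheme.Modules.restrictFunctor U.ι).map e.hom) _
    · intro h
      infer_instance
  unfold CohB1.genLocus
  simp only [key e, key e']

/-- Let u : Z → S be a morphism of schemes, L an invertible O_S-module, s : O_S → L a global section of
L and s' the section of u^*(L) corresponding to s, i.e. u^*(s) composed with an isomorphism O_Z ≅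
u^*(O_S) (the locus in question does not depend on that choice). Then the open Z_{s'} of Z where s'
generates u^*(L) is the preimage u⁻¹(S_s) of the open where s generates L. -/
theorem result {Z S : Scheme.{u}} (u : Z ⟶ S) (L : S.Modules) (hL : PicF.IsInvertible L)
    (s : Coh.structureModule S ⟶ L)
    (e : Coh.structureModule Z ≅ (Scheme.Modules.pullback u).obj (Coh.structureModule S)) :
    CohB1.genLocus ((Scheme.Modules.pullback u).obj L) (e.hom ≫ (Scheme.Modules.pullback u).map s) = u ⁻¹ᵁ CohB1.genLocus L s := by
  have hg : IsGen (pullTop u (one (X := S) ⊤)) := IsGen.pullTop u (isGen_one ⊤)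
  have hiso : IsIso (homOf (pullTop u (one (X := S) ⊤))) :=
    (isIso_iff_isGen _).mpr (by simpa using hg)
  have h1 : (asIso (homOf (pullTop u (one (X := S) ⊤)))).hom ≫ (Scheme.Modules.pullback u).map s =
      pullHom u s := by
    apply hom_ext_sec
    rw [sec_comp]
    change ((Scheme.Modules.pullback u).map s).app ⊤
      (sec (homOf (pullTop u (one (X := S) ⊤))) ⊤) = sec (pullHom u s) ⊤
    rw [sec_homOf, res_refl]
    have h2 := sec_pullHom u s ⊤
    have h3 := pullback_map_pullSec u s (one (X := S) ⊤)
    exact h3.trans h2.symm
  rw [genLocus_iso_comp _ e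
    (asIso (homOf (pullTop u (one (X := S) ⊤)))), h1]
  exact genLocus_pullHom u hL s

end Groth.Agent.S4413
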