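import Groth.Statements.S14681
import Groth.Agent.AbVar.K506.StabComp
import Groth.Agent.Ega2.BlowBasic

set_option autoImplicit false
universe u
open CategoryTheory CategoryTheory.Limits MonoidalCategory CartesianMonoidalCategory MonObj GrpObj AlgebraicGeometry
open AbVar

namespace Groth.Agent.S14681

/-- (b) ⇒ (e): let k be an algebraically closed field, A an abelian variety over k (a proper k-group
scheme whose structure morphism is geometrically integral), D an effective Cartier divisor on A
given by its ideal sheaf I, and L an invertible O_A-module with L ⊗ I ≅ O_A (so L = O_A(D)). Suppose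
the set of k-points a of A whose translation x ↦ x·a maps each irreducible component of the support
of D onto itself is finite. Then L is ample. -/
theorem result (k : Type u) [Field k] [IsAlgClosed k]
    (A : Over (Spec (CommRingCat.of k))) [GrpObj A] [IsProper A.hom] [GeometricallyIntegral A.hom]
    (I : A.left.IdealSheafData) (hI : BlowUp.IsEffCartierIdeal I)
    (L : A.left.Modules) (hL : PicF.IsInvertible L) (hLI : ClSub.IsInverseOf L (ClSub.idealMod I))
    (hb : Set.Finite {a : (𝟙_ (Over (Spec (CommRingCat.of k)))) ⟶ A |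
      ∀ Z ∈ irreducibleComponents ↥(I.support : Set ↥A.left),
        (fun x : ↥A.left => (𝟙 A * (toUnit A ≫ a)).left.base x) '' (Subtype.val '' Z) = Subtype.val '' Z}) :
    CohB1.IsAmple L := by
  have hint : IsIntegral A.left := GeometricallyIntegral.isIntegral_of_subsingleton A.hom
  have hk : I.subschemeι.ker = I := Scheme.IdealSheafData.ker_subschemeι I
  have hs := Groth.Agent.Dix.Cast5.exists_section I.subschemeι (by rw [hk]; exact hI)
  rw [Scheme.IdealSheafData.range_subschemeι, hk] at hs
  obtain ⟨s, hs⟩ := hs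
  have hIi := Groth.Agent.Dix.IdealModCartier.isInvertible_idealMod hI
  have hdi := Groth.Agent.Grpsch.PicGrp.isInvertible_dual hIi
  obtain ⟨e⟩ : Nonempty (Groth.Agent.Grpsch.PicGrp.dual (ClSub.idealMod I) ≅ L) := by
    obtain ⟨e1⟩ := hLI
    have h1 : Groth.Agent.Grpsch.PicGrp.mk L hL * Groth.Agent.Grpsch.PicGrp.mk _ hIi = 1 :=
      Groth.Agent.Grpsch.PicGrp.mk_congr e1
    have h2 : Groth.Agent.Grpsch.PicGrp.mk _ hdi * Groth.Agent.Grpsch.PicGrp.mk _ hIi = 1 :=
      Groth.Agent.Grpsch.PicGrp.mk_congr (Groth.Agent.Ega2.Tens.swap _ _ ≪≫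
        (@asIso _ _ _ _ (Groth.Agent.Grpsch.PicGrp.ev (ClSub.idealMod I)) (Groth.Agent.Grpsch.PicGrp.isIso_ev hIi)))
    exact (Groth.Agent.Grpsch.PicGrp.mk_eq_iff hdi hL).1 (mul_right_cancel (h2.trans h1.symm))
  have hloc : (I.support : Set A.left) = (CohB1.genLocus L (s ≫ e.hom) : Set A.left)ᶜ := by
    rw [Groth.Agent.Ega2.SecCalc.genLocus_comp, hs, compl_compl]
  refine K506.StabComp.isAmple_of_stab hL (s ≫ e.hom) ?_ _ hloc hb
  intro h0
  rw [h0, K518.Sec.genLocus_eq_bot_of_eq_zero] at hloc
  obtain ⟨x, hx⟩ := (Groth.Agent.Ega2.BlowBasic.dense_offSupport hI).nonempty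
  have hx' : x ∉ (I.support : Set A.left) := hx
  rw [hloc] at hx'
  exact hx' (fun h => h)

end Groth.Agent.S14681
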