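import Groth.Statements.S7640
import Groth.Agent.VarietyB.DegPhi
import Groth.Agent.VarietyB.DegComp
import Groth.Agent.CycB.PushLen
import Groth.Agent.CycB.FiniteFlat
import Groth.Agent.S0219
import Groth.Agent.S1557

set_option autoImplicit false
universe u
open CategoryTheory CategoryTheory.Limits AlgebraicGeometry
open Variety

namespace Groth.Agent.S7640

open Groth.Agent.VarietyB

/-- On an integral scheme of dimension one every point other than the generic point is closed. -/
theorem isClosed_singleton {X : Scheme.{u}} [IsIntegral X] (hX : topologicalKrullDim X ≤ 1) (x : X)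
    (hx : x ≠ genericPoint X) : IsClosed ({x} : Set X) := by
  rw [← closure_subset_iff_isClosed]
  intro w hw
  have hxw : x ⤳ w := specializes_iff_mem_closure.mpr hw
  by_contra hne
  -- a chain `closure {w} < closure {x} < X`
  have h1 : genericPoint X ⤳ x := genericPoint_specializes x
  have h2 : ¬ x ⤳ genericPoint X := fun h => hx (h.antisymm h1).eq
  have h3 : ¬ w ⤳ x := fun h => hne (h.antisymm hxw).eq
  let c : X → TopologicalSpace.IrreducibleCloseds X := fun z =>
    ⟨closure {z}, isIrreducible_singleton.closure, isClosed_closure⟩
  have hc : ∀ a b : X, b ⤳ a → ¬ a ⤳ b → c a < c b := by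
    intro a b hab hba
    refine lt_of_le_not_ge ?_ fun h => hba ?_
    · exact hab.closure_subset
    · exact specializes_iff_closure_subset.mpr h
  let q : LTSeries (TopologicalSpace.IrreducibleCloseds X) :=
    { length := 2
      toFun := ![c w, c x, c (genericPoint X)]
      step := by
        intro i
        fin_cases i
        · exact hc _ _ hxw h3
        · exact hc _ _ h1 h2 }
  have h4 : (2 : WithBot ℕ∞) ≤ topologicalKrullDim X := Order.LTSeries.length_le_krullDim q
  exact absurd (h4.trans hX) (by decide)

/-- A nonconstant morphism of proper curves is finite. -/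
theorem isFinite_of_nonconstant (k : Type u) [Field k] (X Y : Scheme.{u})
    [X.Over (Spec (CommRingCat.of k))] [Y.Over (Spec (CommRingCat.of k))] [IsIntegral X] [IsIntegral Y]
    [IsProper (X ↘ (Spec (CommRingCat.of k)))] [IsProper (Y ↘ (Spec (CommRingCat.of k)))]
    (hX : topologicalKrullDim X = 1) (hY : topologicalKrullDim Y = 1)
    (f : X ⟶ Y) (hf : f ≫ (Y ↘ (Spec (CommRingCat.of k))) = X ↘ (Spec (CommRingCat.of k)))
    (hξ : f.base (genericPoint X) = genericPoint Y) : IsFinite f := by
  refine Groth.Agent.S0219.result k X Y _ _ f hf hX.le fun Z hZ _ => ?_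
  have hp : IsProper (f ≫ (Y ↘ (Spec (CommRingCat.of k)))) := by rw [hf]; infer_instance
  have : IsProper f := IsProper.of_comp f (Y ↘ (Spec (CommRingCat.of k)))
  have hdom : IsDominant f := by
    refine ⟨?_⟩
    rw [denseRange_iff_closure_range]
    refine Set.eq_univ_of_univ_subset ?_
    rw [← (genericPoint_spec Y).def]
    refine closure_mono (Set.singleton_subset_iff.mpr ⟨_, hξ⟩)
  have hsurj : Function.Surjective f.base := by
    have h1 : IsClosed (Set.range f.base) := f.isClosedMap.isClosed_range
    intro y
    have : y ∈ closure (Set.range f.base) := by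
      rw [hdom.denseRange.closure_range]; trivial
    rw [h1.closure_eq] at this
    exact this
  have hZu : Z = Set.univ := by
    have h1 := irreducibleComponents_eq_singleton (X := X)
    rw [h1] at hZ
    exact hZ
  rw [hZu, Set.image_univ, hsurj.range_eq]
  by_contra hnt
  rw [Set.not_nontrivial_iff] at hnt
  have hs : Subsingleton Y := Set.subsingleton_univ_iff.mp hnt
  have h7 : topologicalKrullDim Y ≤ 0 := by
    have h8 : Subsingleton (TopologicalSpace.IrreducibleCloseds Y) := by
      refine ⟨fun a b => ?_⟩
      apply TopologicalSpace.IrreducibleCloseds.ext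
      rw [a.isIrreducible.nonempty.eq_univ, b.isIrreducible.nonempty.eq_univ]
    exact Order.krullDim_nonpos_of_subsingleton
  rw [hY] at h7
  exact absurd h7 (by decide)

/-- The rank of `f_* O_X` at the generic point. -/
theorem finrank_push_stalk {X Y : Scheme.{u}} [IsIntegral X] [IsIntegral Y] [IsNoetherian X]
    [IsNoetherian Y] (f : X ⟶ Y) [IsFinite f] (hX : topologicalKrullDim X ≤ 1)
    (hY : topologicalKrullDim Y = 1) (hξ : f (genericPoint X) = genericPoint Y) :
    Module.finrank (Y.presheaf.stalk (genericPoint Y))
      (((Coh.push f).obj (Coh.structureModule X)).presheaf.stalk (genericPoint Y)) =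
        f.residueDegree (genericPoint X) := by
  classical
  have hcl : ∀ x : X, f x = genericPoint Y → x = genericPoint X := by
    intro x hx
    by_contra hne
    have h1 := isClosed_singleton hX x hne
    have h2 : IsClosed (f.base '' {x}) := f.isClosedMap _ h1
    rw [Set.image_singleton] at h2
    have h3 : ({f.base x} : Set Y) = Set.univ := by
      rw [← h2.closure_eq]
      change closure {f x} = _
      rw [hx]
      exact (genericPoint_spec Y).def
    have hs : Subsingleton Y := by
      refine ⟨fun a b => ?_⟩
      have ha : a ∈ ({f.base x} : Set Y) := h3 ▸ Set.mem_univ a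
      have hb : b ∈ ({f.base x} : Set Y) := h3 ▸ Set.mem_univ b
      rw [Set.mem_singleton_iff.mp ha, Set.mem_singleton_iff.mp hb]
    have h7 : topologicalKrullDim Y ≤ 0 := by
      have h8 : Subsingleton (TopologicalSpace.IrreducibleCloseds Y) := by
        refine ⟨fun a b => ?_⟩
        apply TopologicalSpace.IrreducibleCloseds.ext
        rw [a.isIrreducible.nonempty.eq_univ, b.isIrreducible.nonempty.eq_univ]
      exact Order.krullDim_nonpos_of_subsingleton
    rw [hY] at h7
    exact absurd h7 (by decide)
  obtain ⟨hS, h⟩ := Groth.Agent.CycB.PushLen.length_push_stalk f f.isClosedMap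
    (Coh.structureModule X) Set.univ isClosed_univ (fun x hx => absurd (Set.mem_univ x) hx)
    (genericPoint Y)
    (fun x _ hx x' _ hxx' => by
      rw [hcl x hx] at hxx' ⊢
      exact (hxx'.antisymm (genericPoint_specializes x')).eq)
    (fun x _ _ => Groth.Agent.CycB.FiniteFlat.residueFieldMap_finite f x)
  have h1 : hS.toFinset = {genericPoint X} := by
    ext x
    simp only [Set.Finite.mem_toFinset, Set.mem_setOf_eq, Set.mem_univ, and_true,
      Finset.mem_singleton]
    exact ⟨hcl x, fun h => h ▸ hξ⟩
  rw [h1, Finset.sum_singleton, DegComp.length_stalk_structureModule_genericPoint, one_mul] at h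
  have h2 : (Module.length (Y.presheaf.stalk (genericPoint Y))
      (((Coh.push f).obj (Coh.structureModule X)).presheaf.stalk (genericPoint Y))).toNat =
        Module.finrank (Y.presheaf.stalk (genericPoint Y))
          (((Coh.push f).obj (Coh.structureModule X)).presheaf.stalk (genericPoint Y)) := by
    letI : Field (Y.presheaf.stalk (genericPoint Y)) := inferInstanceAs (Field Y.functionField)
    rw [Module.length_eq_rank]
    exact Cardinal.toNat_toENat _
  rw [← h2, h]
  rfl

/-- Let k be a field, let X and Y be proper curves over k (integral, proper over k, of dimension one)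
and let f : X → Y be a morphism over k that is not constant, i.e. sends the generic point of X to
that of Y. For a finite locally free module E of rank n on Y, the degree of f^*E is deg(X/Y) ·
deg(E), where deg(X/Y) is the degree of the function field of X over that of Y. -/
theorem result (k : Type u) [Field k] (X Y : Scheme.{u})
    [X.Over (Spec (CommRingCat.of k))] [Y.Over (Spec (CommRingCat.of k))] [IsIntegral X] [IsIntegral Y]
    [IsProper (X ↘ (Spec (CommRingCat.of k)))] [IsProper (Y ↘ (Spec (CommRingCat.of k)))]
    (hX : topologicalKrullDim X = 1) (hY : topologicalKrullDim Y = 1)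
    (f : X ⟶ Y) (hf : f ≫ (Y ↘ (Spec (CommRingCat.of k))) = X ↘ (Spec (CommRingCat.of k)))
    (hξ : f.base (genericPoint X) = genericPoint Y)
    (n : ℕ) (E : Y.Modules) (hE : FlatMod.IsFinLocFreeOfRank n E) :
    Curv2.deg k X ((Scheme.Modules.pullback f).obj E) n =
      (f.residueDegree (genericPoint X) : ℤ) * Curv2.deg k Y E n := by
  have hfin : IsFinite f := isFinite_of_nonconstant k X Y hX hY f hf hξ
  have hNX : IsNoetherian X := DegFin.isNoetherian_of_isProper k X
  have hNY : IsNoetherian Y := DegFin.isNoetherian_of_isProper k Y
  have hEb := TensCoh.HasBases.of_isFinLocFreeOfRank hE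
  have hO := Groth.Agent.CurvesB.UnitCoh.isCoh_structureModule X
  have hpO : Coh.IsCoh ((Coh.push f).obj (Coh.structureModule X)) := Groth.Agent.S0019.result f _ hO
  rw [← DegPhi.phi_push k f hf hEb]
  unfold DegPhi.phi
  rw [Groth.Agent.S1557.result k Y hY n E hE _ hpO]
  -- the generic rank of `f_* O_X`
  rw [finrank_push_stalk f hX.le hY hξ]
  ring

end Groth.Agent.S7640
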