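import Groth.Statements.S4674

set_option autoImplicit false
open scoped TensorProduct
universe u v w
open FDesc

namespace Groth.Agent.S4674

/-- Let B be a flat A-algebra and M a finitely presented A-module. Then the annihilator of the B-module
B ⊗_A M is the ideal of B generated by the image of the annihilator of M. -/
theorem result {A : Type u} {B : Type v} [CommRing A] [CommRing B] [Algebra A B]
    [Module.Flat A B] (M : Type w) [AddCommGroup M] [Module A M] [Module.FinitePresentation A M] :
    Module.annihilator B (B ⊗[A] M) = (Module.annihilator A M).map (algebraMap A B) := by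
  apply le_antisymm
  · intro b hb
    rw [Module.mem_annihilator] at hb
    obtain ⟨n, m, hm⟩ := Module.Finite.exists_fin (R := A) (M := M)
    let φ : A →ₗ[A] (Fin n → M) := LinearMap.pi fun i => LinearMap.toSpanSingleton A M (m i)
    have hφ : ∀ a, a ∈ LinearMap.ker φ → a ∈ Module.annihilator A M := by
      intro a ha
      have h1 : ∀ i, a • m i = 0 := fun i => congr_fun (LinearMap.mem_ker.mp ha) i
      rw [Module.mem_annihilator]
      intro x
      have hx : x ∈ Submodule.span A (Set.range m) := hm ▸ Submodule.mem_top
      induction hx using Submodule.span_induction with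
      | mem x hx => obtain ⟨i, rfl⟩ := hx; exact h1 i
      | zero => simp
      | add x y _ _ hx hy => rw [smul_add, hx, hy, add_zero]
      | smul c x _ hx => rw [smul_comm, hx, smul_zero]
    have hex : Function.Exact ((LinearMap.ker φ).subtype) φ := by
      rw [LinearMap.exact_iff]; simp
    have hexB := Module.Flat.lTensor_exact B hex
    have hz : (LinearMap.lTensor B φ) (b ⊗ₜ (1 : A)) = 0 := by
      rw [LinearMap.lTensor_tmul]
      have : φ 1 = ∑ i, LinearMap.single A (fun _ => M) i (m i) := by
        ext j
        simp [φ, Finset.sum_apply, Pi.single_apply]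
      rw [this, TensorProduct.tmul_sum]
      apply Finset.sum_eq_zero
      intro i _
      have h2 : b ⊗ₜ[A] (m i) = 0 := by
        have := hb ((1 : B) ⊗ₜ (m i))
        rwa [TensorProduct.smul_tmul', smul_eq_mul, mul_one] at this
      have := congrArg (LinearMap.lTensor B (LinearMap.single A (fun _ : Fin n => M) i)) h2
      simpa using this
    obtain ⟨t, ht⟩ := (hexB _).mp hz
    have key : ∀ t : B ⊗[A] (LinearMap.ker φ),
        TensorProduct.rid A B (LinearMap.lTensor B (LinearMap.ker φ).subtype t) ∈
          (Module.annihilator A M).map (algebraMap A B) := by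
      intro t
      induction t with
      | zero => simp
      | add x y hx hy => rw [map_add, map_add]; exact Ideal.add_mem _ hx hy
      | tmul b a =>
        rw [LinearMap.lTensor_tmul, TensorProduct.rid_tmul, Submodule.subtype_apply, Algebra.smul_def, mul_comm]
        exact Ideal.mul_mem_left _ _ (Ideal.mem_map_of_mem _ (hφ _ a.2))
    have := key t
    rw [ht] at this
    simpa using this
  · rw [Ideal.map_le_iff_le_comap]
    intro a ha
    rw [Ideal.mem_comap, Module.mem_annihilator]
    rw [Module.mem_annihilator] at ha
    intro x
    rw [algebraMap_smul]
    induction x with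
    | zero => simp
    | add x y hx hy => rw [smul_add, hx, hy, add_zero]
    | tmul b m => rw [TensorProduct.smul_tmul', TensorProduct.smul_tmul, ha, TensorProduct.tmul_zero]

end Groth.Agent.S4674
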