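import Groth.Statements.S6886
import Groth.Agent.FlatA.FiniteFreeSplit

set_option autoImplicit false
universe u
open TensorProduct
open CAlg

namespace Groth.Agent.S6886

/-- Let `R → S` be a finite ring map. One can find an extension `R ⊆ R'` of rings, with `R'` finite and
free as an `R`-module, for which the ring `S ⊗_R R'` arises as a quotient of `R'[T_1, …,
T_n]/(P_1(T_1), …, P_n(T_n))` with each `P_i(T) = ∏_j (T - α_{ij})` a product of linear factors over
`R'`. -/
theorem result (R S : Type u) [CommRing R] [CommRing S] [Algebra R S]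
    [Module.Finite R S] :
    ∃ (R' : Type u) (_ : CommRing R') (_ : Algebra R R'), Module.Finite R R' ∧ Module.Free R R' ∧
      Function.Injective (algebraMap R R') ∧
      ∃ (n : ℕ) (d : Fin n → ℕ) (α : (i : Fin n) → Fin (d i) → R')
        (φ : MvPolynomial (Fin n) R' →ₐ[R'] R' ⊗[R] S), Function.Surjective φ ∧
          ∀ i, φ (∏ j, (MvPolynomial.X i - MvPolynomial.C (α i j))) = 0 := by
  classical
  obtain ⟨n, s, hs⟩ := Module.Finite.exists_fin (R := R) (M := S)
  have hint : ∀ i, ∃ P : Polynomial R, P.Monic ∧ Polynomial.aeval (s i) P = 0 := fun i =>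
    Algebra.IsIntegral.isIntegral (R := R) (s i)
  choose P hP hPs using hint
  obtain ⟨R', _, _, hfin, hfree, hff, m, hm⟩ := Groth.Agent.FlatA.FiniteFreeSplit.exists_finite_free_splits
    (∏ i, P i) (Polynomial.monic_prod_of_monic _ _ fun i _ => hP i)
  let φ : MvPolynomial (Fin n) R' →ₐ[R'] R' ⊗[R] S := MvPolynomial.aeval fun i => 1 ⊗ₜ s i
  refine ⟨R', inferInstance, inferInstance, hfin, hfree, ?_, n, fun _ => m.toList.length,
    fun _ j => m.toList.get j, φ, ?_, ?_⟩
  · exact FaithfulSMul.algebraMap_injective R R'
  · intro x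
    have : x ∈ LinearMap.range φ.toLinearMap := by
      induction x using TensorProduct.induction_on with
      | zero => exact zero_mem _
      | add x y hx hy => exact add_mem hx hy
      | tmul r x =>
        have hx : x ∈ Submodule.span R (Set.range s) := hs ▸ trivial
        induction hx using Submodule.span_induction with
        | mem x hx =>
          obtain ⟨i, rfl⟩ := hx
          refine ⟨r • MvPolynomial.X i, ?_⟩
          simp [φ, TensorProduct.smul_tmul']
        | zero => rw [TensorProduct.tmul_zero]; exact zero_mem _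
        | add x y _ _ hx hy => rw [TensorProduct.tmul_add]; exact add_mem hx hy
        | smul c x _ hx =>
          have : r ⊗ₜ[R] (c • x) = algebraMap R R' c • (r ⊗ₜ[R] x) := by
            rw [← TensorProduct.smul_tmul, TensorProduct.smul_tmul', Algebra.smul_def, smul_eq_mul]
          rw [this]
          exact Submodule.smul_mem _ _ hx
    exact this
  · intro i
    have h1 : Polynomial.aeval (s i) (∏ i, P i) = 0 := by
      rw [map_prod]
      exact Finset.prod_eq_zero (Finset.mem_univ i) (hPs i)
    have h2 : Polynomial.aeval (1 ⊗ₜ s i : R' ⊗[R] S) ((∏ i, P i).map (algebraMap R R')) = 0 := by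
      rw [Polynomial.aeval_map_algebraMap]
      have : (1 ⊗ₜ s i : R' ⊗[R] S) = Algebra.TensorProduct.includeRight (s i) := rfl
      rw [this, Polynomial.aeval_algHom_apply, h1, map_zero]
    rw [hm, ← Multiset.prod_map_toList, ← Fin.prod_univ_fun_getElem, map_prod] at h2
    rw [map_prod, ← h2]
    refine Finset.prod_congr rfl fun j _ => ?_
    simp [φ, MvPolynomial.algebraMap_eq]

end Groth.Agent.S6886
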