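import Groth.Statements.S7107
import Mathlib.LinearAlgebra.Finsupp.LSum
import Mathlib.LinearAlgebra.Finsupp.SumProd
import Mathlib.LinearAlgebra.Finsupp.Pi
import Mathlib.LinearAlgebra.Finsupp.Defs
import Mathlib.Algebra.Module.Equiv.Basic
import Mathlib.SetTheory.Cardinal.Arithmetic

set_option autoImplicit false
universe u
open CAlg

namespace Groth.Agent.S7107

/-- `(ℕ →₀ P × Q) ≃ (ℕ →₀ P) × (ℕ →₀ Q)`. -/
noncomputable def finsuppProdEquiv (R : Type u) [CommRing R] (P Q : Type u) [AddCommGroup P]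
    [Module R P] [AddCommGroup Q] [Module R Q] (κ : Type*) :
    (κ →₀ P × Q) ≃ₗ[R] (κ →₀ P) × (κ →₀ Q) :=
  LinearEquiv.ofLinearMap
    (LinearMap.prod (Finsupp.mapRange.linearMap (LinearMap.fst R P Q))
      (Finsupp.mapRange.linearMap (LinearMap.snd R P Q)))
    (LinearMap.coprod (Finsupp.mapRange.linearMap (LinearMap.inl R P Q))
      (Finsupp.mapRange.linearMap (LinearMap.inr R P Q)))
    (by
      apply LinearMap.ext
      rintro ⟨x, y⟩
      apply Prod.ext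
      · ext i; simp
      · ext i; simp)
    (by
      apply LinearMap.ext
      intro x
      ext i <;> simp)

/-- `P × (ℕ →₀ P) ≃ (ℕ →₀ P)`. -/
theorem absorb (R : Type u) [CommRing R] (P : Type u) [AddCommGroup P] [Module R P] :
    Nonempty ((P × (ℕ →₀ P)) ≃ₗ[R] (ℕ →₀ P)) := by
  let e1 : (Unit ⊕ ℕ) ≃ ℕ := (Equiv.sumComm Unit ℕ).trans Equiv.natSumPUnitEquivNat
  exact ⟨((LinearEquiv.prodCongr (Finsupp.uniqueLinearEquiv R P ()).symm
    (LinearEquiv.refl R (ℕ →₀ P))).trans (Finsupp.sumFinsuppLEquivProdFinsupp R).symm).trans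
    (Finsupp.domLCongr e1)⟩

/-- Let R be a ring and P, Q modules such that P ⊕ Q is isomorphic to a free module F on an infinite
basis. Then P ⊕ F is isomorphic to F. -/
theorem result (R : Type u) [CommRing R] (P Q : Type u) [AddCommGroup P] [Module R P]
    [AddCommGroup Q] [Module R Q] (ι : Type u) [Infinite ι] (e : (P × Q) ≃ₗ[R] (ι →₀ R)) :
    Nonempty ((P × (ι →₀ R)) ≃ₗ[R] (ι →₀ R)) := by
  obtain ⟨e0⟩ : Nonempty (ℕ × ι ≃ ι) := by
    rw [← Cardinal.lift_mk_eq']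
    simp
  obtain ⟨a⟩ := absorb R P
  let e1 : (ι →₀ R) ≃ₗ[R] (ℕ →₀ ι →₀ R) :=
    (Finsupp.domLCongr e0.symm).trans (Finsupp.curryLinearEquiv R)
  let e2 : (ι →₀ R) ≃ₗ[R] (ℕ →₀ P) × (ℕ →₀ Q) :=
    (e1.trans (Finsupp.mapRange.linearEquiv e.symm)).trans (finsuppProdEquiv R P Q ℕ)
  exact ⟨(((LinearEquiv.refl R P).prodCongr e2).trans
    (LinearEquiv.prodAssoc R P (ℕ →₀ P) (ℕ →₀ Q)).symm).trans
    ((a.prodCongr (LinearEquiv.refl R (ℕ →₀ Q))).trans e2.symm)⟩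

end Groth.Agent.S7107
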