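import Groth.Statements.S7108
import Groth.Agent.S7107
import Groth.Agent.CAlg.K65.SplitBasics

set_option autoImplicit false
universe u
open CAlg

namespace Groth.Agent.S7108

/-- Every projective module P over a ring R becomes free after adding a suitable free module: P ⊕ F is
free for some free module F (here F is the free module on some index type). -/
theorem result (R : Type u) [CommRing R] (P : Type u) [AddCommGroup P]
    [Module R P] [Module.Projective R P] : ∃ ι : Type u, Module.Free R (P × (ι →₀ R)) := by
  refine ⟨ℕ × P, ?_⟩
  let f : (ℕ × P →₀ R) →ₗ[R] P := Finsupp.linearCombination R (fun x : ℕ × P => x.2)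
  have hf : Function.Surjective f := by
    intro p
    exact ⟨Finsupp.single (0, p) 1, by simp [f]⟩
  obtain ⟨s, hs⟩ := Module.projective_lifting_property f LinearMap.id hf
  have : Infinite (ℕ × P) := Prod.infinite_of_left
  obtain ⟨e⟩ := Groth.Agent.S7107.result R P (LinearMap.ker f) (ℕ × P)
    (K65.SplitBasics.equivProdKer s f hs)
  exact Module.Free.of_equiv e.symm

end Groth.Agent.S7108
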