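import Groth.Statements.S7109
import Groth.Agent.S7108
import Groth.Agent.CAlg.K65.SplitBasics
import Mathlib.LinearAlgebra.Basis.Basic
import Mathlib.RingTheory.Finiteness.Finsupp
import Mathlib.RingTheory.Finiteness.Basic

set_option autoImplicit false
universe u
open CAlg

namespace Groth.Agent.S7109

/-- Let P be a projective module over a ring R and s an element of P. Then there are a finite free
module R^n and a direct summand K of R^n ⊕ P which is finite free and contains (0, s). -/
theorem result (R : Type u) [CommRing R] (P : Type u) [AddCommGroup P]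
    [Module R P] [Module.Projective R P] (s : P) :
    ∃ (n : ℕ) (K K' : Submodule R ((Fin n → R) × P)), IsCompl K K' ∧ Module.Free R K ∧ Module.Finite R K ∧
      ((0, s) : (Fin n → R) × P) ∈ K := by
  classical
  obtain ⟨ι, hfree⟩ := Groth.Agent.S7108.result R P
  let b := Module.Free.chooseBasis R (P × (ι →₀ R))
  let κ := Module.Free.ChooseBasisIndex R (P × (ι →₀ R))
  let T : Finset κ := (b.repr (s, 0)).support
  let S : Finset ι := T.biUnion (fun j => (b j).2.support)
  let eS : Fin S.card ≃ S := S.equivFin.symm
  -- the inclusion of the finite free part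
  let i0 : (T →₀ R) →ₗ[R] P × (ι →₀ R) := Finsupp.linearCombination R (fun j : T => b j.1)
  let r0 : P × (ι →₀ R) →ₗ[R] (T →₀ R) :=
    Finsupp.lcomapDomain (fun j : T => j.1) Subtype.val_injective ∘ₗ b.repr.toLinearMap
  have hr0 : r0 ∘ₗ i0 = LinearMap.id := by
    ext j k
    have h1 : (r0 (i0 (Finsupp.single j 1))) k = b.repr (i0 (Finsupp.single j 1)) k.1 := rfl
    have h2 : i0 (Finsupp.single j 1) = b j.1 := by simp only [i0, Finsupp.linearCombination_single, one_smul]
    show (r0 (i0 (Finsupp.single j 1))) k = (Finsupp.single j (1 : R)) k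
    rw [h1, h2, Module.Basis.repr_self, Finsupp.single_apply, Finsupp.single_apply]
    simp only [Subtype.ext_iff]
  let φ : (Fin S.card → R) × P →ₗ[R] P × (ι →₀ R) :=
    LinearMap.prod (LinearMap.snd R _ _)
      ((Finsupp.lmapDomain R R (fun x : Fin S.card => (eS x).1)) ∘ₗ
        (Finsupp.linearEquivFunOnFinite R R (Fin S.card)).symm.toLinearMap ∘ₗ LinearMap.fst R _ _)
  let ψ : P × (ι →₀ R) →ₗ[R] (Fin S.card → R) × P :=
    LinearMap.prod (LinearMap.pi (fun x => Finsupp.lapply (eS x).1) ∘ₗ LinearMap.snd R _ _)
      (LinearMap.fst R _ _)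
  have hφψ : ∀ x : P × (ι →₀ R), (x.2.support ⊆ S) → φ (ψ x) = x := by
    rintro ⟨p, y⟩ hy
    apply Prod.ext
    · rfl
    · show Finsupp.mapDomain (fun x : Fin S.card => (eS x).1) _ = y
      ext i
      by_cases hi : i ∈ S
      · obtain ⟨x, hx⟩ := eS.surjective ⟨i, hi⟩
        have hx' : (eS x).1 = i := by rw [hx]
        have h1 := Finsupp.mapDomain_apply (f := fun x : Fin S.card => (eS x).1)
          (Subtype.val_injective.comp eS.injective)
          ((Finsupp.linearEquivFunOnFinite R R (Fin S.card)).symm (fun x => y (eS x).1)) x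
        simp only [hx'] at h1
        refine Eq.trans h1 ?_
        simp [hx']
      · rw [Finsupp.mapDomain_of_notMem_range]
        · symm
          by_contra hne
          exact hi (hy (Finsupp.mem_support_iff.2 hne))
        · rintro ⟨x, hx⟩
          exact hi (hx ▸ (eS x).2)
  have hi0 : ∀ x, φ (ψ (i0 x)) = i0 x := by
    intro x
    induction x using Finsupp.induction_linear with
    | zero => simp
    | add f g hf hg => rw [map_add, map_add, map_add, hf, hg]
    | single j r =>
      have h1 : i0 (Finsupp.single j r) = r • b j.1 := by simp [i0]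
      rw [h1, map_smul, map_smul, hφψ]
      intro k hk
      exact Finset.mem_biUnion.2 ⟨j.1, j.2, hk⟩
  have hri : (r0 ∘ₗ φ) ∘ₗ (ψ ∘ₗ i0) = LinearMap.id := by
    apply LinearMap.ext
    intro x
    show r0 (φ (ψ (i0 x))) = x
    rw [hi0]
    exact LinearMap.congr_fun hr0 x
  refine ⟨S.card, LinearMap.range (ψ ∘ₗ i0), LinearMap.ker (r0 ∘ₗ φ),
    K65.SplitBasics.isCompl_range_ker _ _ hri, K65.SplitBasics.free_range _ _ hri, inferInstance, ?_⟩
  let c : T →₀ R := Finsupp.lcomapDomain (R := R) (fun j : T => j.1) Subtype.val_injective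
    (b.repr (s, 0))
  refine ⟨c, ?_⟩
  have h1 : i0 c = (s, 0) := by
    have h2 : Finsupp.linearCombination R b (Finsupp.mapDomain (fun j : T => j.1) c) = i0 c := by
      rw [Finsupp.linearCombination_mapDomain]
      rfl
    rw [← h2]
    have h3 : Finsupp.mapDomain (fun j : T => j.1) c = b.repr (s, 0) := by
      ext i
      by_cases hi : i ∈ T
      · exact Finsupp.mapDomain_apply (f := fun j : T => j.1) Subtype.val_injective c ⟨i, hi⟩
      · rw [Finsupp.mapDomain_of_notMem_range]
        · symm
          by_contra hne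
          exact hi (Finsupp.mem_support_iff.2 hne)
        · rintro ⟨x, hx⟩
          exact hi (hx ▸ x.2)
    rw [h3, Module.Basis.linearCombination_repr]
  show ψ (i0 c) = (0, s)
  rw [h1]
  apply Prod.ext
  · funext x
    rfl
  · rfl

end Groth.Agent.S7109
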