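import Groth.Statements.S7116
import Groth.Agent.CAlg.K65.Sop
import Mathlib.RingTheory.Length
import Mathlib.RingTheory.Noetherian.Basic

set_option autoImplicit false
universe u
open CAlg

namespace Groth.Agent.S7116

/-- Perturbing `f` by an element of `m ((f) + J)` does not change `(f) + J`. -/
theorem span_insert_add_eq {R : Type u} [CommRing R] [IsLocalRing R] (f h : R) (s : Set R)
    (hh : h ∈ IsLocalRing.maximalIdeal R * Ideal.span (insert f s)) :
    Ideal.span (insert (f + h) s) = Ideal.span (insert f s) := by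
  rw [Ideal.span_insert, Ideal.mul_sup, Submodule.mem_sup] at hh
  obtain ⟨y, hy, j, hj, rfl⟩ := hh
  rw [mul_comm, Ideal.mem_span_singleton_mul] at hy
  obtain ⟨a, ha, rfl⟩ := hy
  have hj' : j ∈ Ideal.span s := Ideal.mul_le_right hj
  have hu : IsUnit (1 + a) := by
    by_contra hcon
    have h1 : 1 + a ∈ IsLocalRing.maximalIdeal R := hcon
    have h2 : (1 : R) ∈ IsLocalRing.maximalIdeal R := by
      have h3 := Ideal.sub_mem _ h1 ha
      rwa [add_sub_cancel_right] at h3
    exact (IsLocalRing.mem_maximalIdeal _).1 h2 isUnit_one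
  rw [Ideal.span_insert, Ideal.span_insert]
  apply le_antisymm
  · apply sup_le _ le_sup_right
    rw [Ideal.span_singleton_le_iff_mem]
    have h3 : f + (f * a + j) = f * (1 + a) + j := by ring
    rw [h3]
    exact Submodule.add_mem_sup (Ideal.mul_mem_right _ _ (Ideal.mem_span_singleton_self f)) hj'
  · apply sup_le _ le_sup_right
    rw [Ideal.span_singleton_le_iff_mem]
    obtain ⟨w, hw⟩ := hu
    have h3 : (f + (f * a + j)) * (↑w⁻¹ : R) + (-(j * (↑w⁻¹ : R))) = f := by
      have h4 : f + (f * a + j) = f * (w : R) + j := by rw [hw]; ring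
      rw [h4, add_mul, mul_assoc, Units.mul_inv, mul_one, add_neg_cancel_right]
    have h5 : (f + (f * a + j)) * (↑w⁻¹ : R) + (-(j * (↑w⁻¹ : R))) ∈
        Ideal.span {f + (f * a + j)} ⊔ Ideal.span s :=
      Submodule.add_mem_sup (Ideal.mul_mem_right _ _ (Ideal.mem_span_singleton_self _))
        ((Ideal.neg_mem_iff _).2 (Ideal.mul_mem_right _ _ hj'))
    rwa [h3] at h5

/-- Let R be a Noetherian local ring of Krull dimension d with maximal ideal m and let f be an element
of m contained in no minimal prime. Then there are g_1, ..., g_{d-1} in m and a natural number N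
such that f, g_1, ..., g_{d-1} is a system of parameters (these d elements of m generate an ideal
with radical m) and, for every h in m^N, the elements f + h, g_1, ..., g_{d-1} again form a system
of parameters and the lengths of R/(f, g_1, ..., g_{d-1}) and R/(f + h, g_1, ..., g_{d-1}) agree. -/
theorem result (R : Type u) [CommRing R] [IsNoetherianRing R] [IsLocalRing R]
    (d : ℕ) (hd : ringKrullDim R = d) (f : R) (hf : f ∈ IsLocalRing.maximalIdeal R)
    (hmin : ∀ p ∈ minimalPrimes R, f ∉ p) :
    ∃ (g : Fin (d - 1) → R) (N : ℕ), (∀ i, g i ∈ IsLocalRing.maximalIdeal R) ∧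
      IsLocalRing.maximalIdeal R ≤ (Ideal.span (insert f (Set.range g))).radical ∧
      ∀ h ∈ IsLocalRing.maximalIdeal R ^ N,
        IsLocalRing.maximalIdeal R ≤ (Ideal.span (insert (f + h) (Set.range g))).radical ∧
        Module.length R (R ⧸ Ideal.span (insert f (Set.range g))) =
          Module.length R (R ⧸ Ideal.span (insert (f + h) (Set.range g))) := by
  obtain ⟨g, hg, hrad⟩ := K65.Sop.exists_sop_extending d hd f hf hmin 0
  obtain ⟨N, hN⟩ := Ideal.exists_pow_le_of_le_radical_of_fg hrad
    (IsNoetherian.noetherian (IsLocalRing.maximalIdeal R))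
  refine ⟨g, N + 1, fun i => Ideal.pow_le_self one_ne_zero (hg i), hrad, fun h hh => ?_⟩
  have h1 : h ∈ IsLocalRing.maximalIdeal R * Ideal.span (insert f (Set.range g)) := by
    rw [pow_succ'] at hh
    exact Ideal.mul_mono_right hN hh
  rw [span_insert_add_eq f h _ h1]
  exact ⟨hrad, rfl⟩

end Groth.Agent.S7116
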