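import Groth.Statements.S7203
import Groth.Agent.FlatMor.K596.ApxCpl

set_option autoImplicit false
universe u
open FlatMor

namespace Groth.Agent.S7203

open Groth.Agent.FlatMor

open AlgebraicGeometry CategoryTheory Limits in
/-- Let S be locally Noetherian, p : X → S and q : Y → S locally of finite type, x in X and y in Y over
the same point s with O_{S,s} a G-ring, and φ : O_{Y,y}^∧ ≅ O_{X,x}^∧ an isomorphism of
O_{S,s}-algebras between the completed local rings. For every N ≥ 1 there are a scheme U, a point u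
and morphisms e : U → X, f : U → Y over S which are both elementary étale neighbourhoods (of (X, x)
and of (Y, y)) such that O_{Y,y}^∧ → O_{U,u}^∧ and O_{Y,y}^∧ → O_{X,x}^∧ → O_{U,u}^∧ (φ followed by
the map induced by e) agree modulo m_u^N; the last condition is written on O_{U,u}/m_u^N through
lifts modulo the N-th powers of the maximal ideals. -/
theorem result {X Y S : Scheme.{u}} [IsLocallyNoetherian S]
    (p : X ⟶ S) (q : Y ⟶ S) [LocallyOfFiniteType p] [LocallyOfFiniteType q] (x : X) (y : Y) (hxy : p x = q y)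
    (hG : CAlg.IsGRing ↑(S.presheaf.stalk (p x)))
    (φ : (AdicCompletion (IsLocalRing.maximalIdeal ↑(Y.presheaf.stalk y)) ↑(Y.presheaf.stalk y)) ≃+* (AdicCompletion (IsLocalRing.maximalIdeal ↑(X.presheaf.stalk x)) ↑(X.presheaf.stalk x)))
    (hφ : φ.toRingHom.comp ((algebraMap ↑(Y.presheaf.stalk y) (AdicCompletion (IsLocalRing.maximalIdeal ↑(Y.presheaf.stalk y)) ↑(Y.presheaf.stalk y))).comp
        ((q.stalkMap y).hom.comp (S.presheaf.stalkCongr (Inseparable.of_eq hxy)).hom.hom)) =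
      (algebraMap ↑(X.presheaf.stalk x) (AdicCompletion (IsLocalRing.maximalIdeal ↑(X.presheaf.stalk x)) ↑(X.presheaf.stalk x))).comp (p.stalkMap x).hom)
    (N : ℕ) (hN : 1 ≤ N) :
    ∃ (U : Scheme.{u}) (u : U) (e : U ⟶ X) (heu : e u = x) (f : U ⟶ Y) (hfu : f u = y),
      Etale e ∧ Function.Bijective (e.residueFieldMap u) ∧ Etale f ∧ Function.Bijective (f.residueFieldMap u) ∧
      f ≫ q = e ≫ p ∧
      ∀ (b : (AdicCompletion (IsLocalRing.maximalIdeal ↑(Y.presheaf.stalk y)) ↑(Y.presheaf.stalk y))) (cY : ↑(Y.presheaf.stalk y)) (cX : ↑(X.presheaf.stalk x)),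
        AdicCompletion.evalₐ (IsLocalRing.maximalIdeal ↑(Y.presheaf.stalk y)) N b =
          Ideal.Quotient.mk (IsLocalRing.maximalIdeal ↑(Y.presheaf.stalk y) ^ N) cY →
        AdicCompletion.evalₐ (IsLocalRing.maximalIdeal ↑(X.presheaf.stalk x)) N (φ b) =
          Ideal.Quotient.mk (IsLocalRing.maximalIdeal ↑(X.presheaf.stalk x) ^ N) cX →
        Ideal.Quotient.mk (IsLocalRing.maximalIdeal ↑(U.presheaf.stalk u) ^ N)
            ((f.stalkMap u).hom ((Y.presheaf.stalkCongr (Inseparable.of_eq hfu)).inv.hom cY)) =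
          Ideal.Quotient.mk (IsLocalRing.maximalIdeal ↑(U.presheaf.stalk u) ^ N)
            ((e.stalkMap u).hom ((X.presheaf.stalkCongr (Inseparable.of_eq heu)).inv.hom cX)) := by
  have hXN : IsLocallyNoetherian X := LocallyOfFiniteType.isLocallyNoetherian p
  have hYN : IsLocallyNoetherian Y := LocallyOfFiniteType.isLocallyNoetherian q
  have hNx : IsNoetherianRing (X.presheaf.stalk x) := inferInstance
  have hNy : IsNoetherianRing (Y.presheaf.stalk y) := inferInstance
  have hNx2 := K596.ApxCpl.isNoetherianRing_cpl (X.presheaf.stalk x)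
  let φ₀ := φ.toRingHom.comp (algebraMap ↑(Y.presheaf.stalk y)
    (AdicCompletion (IsLocalRing.maximalIdeal ↑(Y.presheaf.stalk y)) ↑(Y.presheaf.stalk y)))
  have hcy : K596.IsCplMap φ₀ := K596.IsCplMap.algebraMap_cpl.comp_ringEquiv φ
  have hφ' := K596.ApxCpl.spec_eq p q x y hxy φ₀ _ hφ
  have hloc : ∀ b ∈ IsLocalRing.maximalIdeal ↑(Y.presheaf.stalk y),
      φ₀ b ∈ (IsLocalRing.maximalIdeal ↑(X.presheaf.stalk x)).map (algebraMap ↑(X.presheaf.stalk x)
        (AdicCompletion (IsLocalRing.maximalIdeal ↑(X.presheaf.stalk x)) ↑(X.presheaf.stalk x))) := by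
    intro b hb
    rw [← AdicCompletion.maximalIdeal_eq_map]
    exact (hcy.mem_iff_one b).mpr hb
  obtain ⟨U, e, f, v, ψ, _, h1, h2, h3, h4, h5, h6, h7, h8⟩ := K596.ApxCpl.exists_nbhd p q x y hG φ₀
    hφ' hloc (max N 2) (by omega)
  have h9 : K596.IsCplMap (ψ.comp ((f.stalkMap v).hom.comp
      (Y.presheaf.stalkCongr (Inseparable.of_eq h3)).inv.hom)) :=
    K596.IsCplMap.of_congr hcy (fun b => Ideal.pow_le_pow_right (le_max_right _ _) (h8 h3 b))
  have h10 : K596.IsCplMap (f.stalkMap v).hom :=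
    (K596.ApxCpl.isCplMap_of_congr_inv f v h3 ψ h9).of_comp h5
  have : LocallyOfFiniteType (f ≫ q) := by rw [h2]; infer_instance
  have : LocallyOfFiniteType f := locallyOfFiniteType_of_comp f q
  obtain ⟨W, hW, h11⟩ := K596.ApxCpl.exists_open_etale f v h10
  refine ⟨W, ⟨v, hW⟩, W.ι ≫ e, h4, W.ι ≫ f, h3, inferInstance,
    K596.ApxCpl.residueFieldMap_bijective _ _
      (K596.ApxCpl.isCplMap_comp_openImmersion W.ι e ⟨v, hW⟩ h7), h11,
    K596.ApxCpl.residueFieldMap_bijective _ _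
      (K596.ApxCpl.isCplMap_comp_openImmersion W.ι f ⟨v, hW⟩ h10),
    by rw [Category.assoc, Category.assoc, h2], fun b cY cX hb hφb => ?_⟩
  have key : (f.stalkMap v).hom ((Y.presheaf.stalkCongr (Inseparable.of_eq h3)).inv.hom cY) -
      (e.stalkMap v).hom ((X.presheaf.stalkCongr (Inseparable.of_eq h4)).inv.hom cX) ∈
        IsLocalRing.maximalIdeal ↑(U.presheaf.stalk v) ^ N := by
    rw [← h5.mem_iff, map_sub, K596.ApxCpl.stalk_eq e v h4 ψ _ h6 cX]
    have e1 := K596.ApxCpl.sub_mem_of_evalₐ hφb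
    have e2 : φ (algebraMap _ _ cY) - φ b ∈ IsLocalRing.maximalIdeal _ ^ N := by
      have e5 := K596.ApxCpl.sub_mem_of_evalₐ hb
      have hlφ : IsLocalHom φ.toRingHom := ⟨fun a ha => (MulEquiv.isUnit_map φ).mp ha⟩
      have e7 := Ideal.neg_mem_iff _ |>.mpr (K596.ApxCpl.sub_mem_pow_of_isLocalHom φ.toRingHom e5)
      rw [neg_sub] at e7
      exact e7
    have e3 := Ideal.pow_le_pow_right (le_max_left N 2) (h8 h3 cY)
    have e8 := Ideal.add_mem _ e3 e2
    change ψ _ - φ (algebraMap _ _ cY) + _ ∈ _ at e8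
    rw [sub_add_sub_cancel] at e8
    have e9 := Ideal.add_mem _ e8 e1
    rwa [sub_add_sub_cancel] at e9
  rw [Ideal.Quotient.eq]
  have e11 := K596.ApxCpl.sub_mem_pow_of_isLocalHom (R := U.presheaf.stalk (W.ι ⟨v, hW⟩))
    (W.ι.stalkMap ⟨v, hW⟩).hom key
  rw [Scheme.Hom.stalkMap_comp, Scheme.Hom.stalkMap_comp]
  exact e11

end Groth.Agent.S7203
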