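import Groth.Statements.S4575
import Groth.Agent.CalgA.RegBasic
import Mathlib.LinearAlgebra.Dimension.OrzechProperty

set_option autoImplicit false
universe u
open IsLocalRing
open EGA41

namespace Groth.Agent.S4575

/-- A generating family of the maximal ideal of a regular local ring with `dim` elements is linearly
independent in the cotangent space. -/
theorem linearIndependent_of_span {A : Type u} [CommRing A] [IsRegularLocalRing A] {ι : Type} [Fintype ι]
    (x : ι → A) (hx : ∀ i, x i ∈ maximalIdeal A) (hspan : Ideal.span (Set.range x) = maximalIdeal A)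
    (hdim : ((Fintype.card ι : ℕ) : WithBot ℕ∞) = ringKrullDim A) :
    LinearIndependent (ResidueField A) (fun i => (maximalIdeal A).toCotangent ⟨x i, hx i⟩) := by
  have h1 := (IsRegularLocalRing.iff_finrank_cotangentSpace A).mp ‹_›
  have h2 : Fintype.card ι = Module.finrank (ResidueField A) (CotangentSpace A) := by
    rw [← hdim] at h1
    exact_mod_cast h1.symm
  refine linearIndependent_of_top_le_span_of_card_eq_finrank ?_ h2
  have h3 : Submodule.span A (Set.range (fun i => (⟨x i, hx i⟩ : maximalIdeal A))) = ⊤ := by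
    apply Submodule.map_injective_of_injective (maximalIdeal A).injective_subtype
    rw [Submodule.map_span, Submodule.map_top, Submodule.range_subtype, ← Set.range_comp]
    exact hspan
  have h4 := (IsLocalRing.CotangentSpace.span_image_eq_top_iff (R := A)
    (s := Set.range (fun i => (⟨x i, hx i⟩ : maximalIdeal A)))).2 h3
  rw [← Set.range_comp] at h4
  exact h4.ge

/-- Let R be a regular local ring with maximal ideal m and n a proper ideal with R/n regular. Then
(n/n²) ⊗_R K → (m/m²) ⊗_R K is injective, K the residue field; stated in the equivalent form n ∩ m²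
= m·n (the kernel of n/mn → m/m² is (n ∩ m²)/mn). -/
theorem result {R : Type u} [CommRing R] [IsRegularLocalRing R]
    (n : Ideal R) (hn : n ≠ ⊤) (hreg : IsRegularRing (R ⧸ n)) :
    n ⊓ maximalIdeal R ^ 2 = maximalIdeal R * n := by
  have : Nontrivial (R ⧸ n) := Ideal.Quotient.nontrivial_iff.2 hn
  have : IsLocalRing (R ⧸ n) := IsLocalRing.of_surjective' (Ideal.Quotient.mk n) Ideal.Quotient.mk_surjective
  have : IsRegularLocalRing (R ⧸ n) := IsRegularLocalRing.of_isRegularRing_of_isLocalRing _
  have hnm : n ≤ maximalIdeal R := le_maximalIdeal hn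
  obtain ⟨d, hd⟩ : ∃ d : ℕ, ringKrullDim R = d :=
    ⟨_, (IsRegularLocalRing.spanFinrank_maximalIdeal (R := R)).symm⟩
  obtain ⟨x, c, hc, hx, hnx⟩ := Groth.Agent.CalgA.RegBasic.exists_generators_of_quotient d hd n
  apply le_antisymm
  · rintro y ⟨hy, hy2⟩
    have hxm : ∀ i, x i ∈ maximalIdeal R := fun i => hx ▸ Ideal.subset_span ⟨i, rfl⟩
    have hli := linearIndependent_of_span x hxm hx (by rw [hd, Fintype.card_fin])
    replace hli := hli.comp (Fin.castLE hc) (Fin.castLE_injective hc)
    rw [SetLike.mem_coe, hnx] at hy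
    obtain ⟨a, rfl⟩ := (Ideal.mem_span_range_iff_exists_fun).1 hy
    have h0 : ∑ i, residue R (a i) • (maximalIdeal R).toCotangent ⟨x (Fin.castLE hc i), hxm _⟩ = 0 := by
      have h1 : (maximalIdeal R).toCotangent ⟨∑ i, a i * x (Fin.castLE hc i), Ideal.sum_mem _ fun i _ =>
          (maximalIdeal R).mul_mem_left _ (hxm _)⟩ = 0 := by
        rw [Ideal.toCotangent_eq_zero]
        exact hy2
      rw [← h1]
      have h2 : (⟨∑ i, a i * x (Fin.castLE hc i), Ideal.sum_mem _ fun i _ =>
          (maximalIdeal R).mul_mem_left _ (hxm _)⟩ : maximalIdeal R) =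
          ∑ i, a i • (⟨x (Fin.castLE hc i), hxm _⟩ : maximalIdeal R) := by
        ext
        simp
      rw [h2, map_sum]
      refine Finset.sum_congr rfl fun i _ => ?_
      rw [map_smul]
      rfl
    have ha : ∀ i, a i ∈ maximalIdeal R := fun i => by
      have := Fintype.linearIndependent_iff.1 hli (fun i => residue R (a i)) h0 i
      exact (residue_eq_zero_iff _).1 this
    refine Ideal.sum_mem _ fun i _ => Ideal.mul_mem_mul (ha i) ?_
    rw [hnx]
    exact Ideal.subset_span ⟨i, rfl⟩
  · exact le_inf Ideal.mul_le_right (by rw [pow_two]; exact Ideal.mul_mono_right hnm)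

end Groth.Agent.S4575
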