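import Groth.Statements.S19778
import Groth.Agent.PicLoc.K730.IdemConj
import Groth.Agent.PicLoc.K730.CompPair
import Mathlib.LinearAlgebra.TensorProduct.Pi
import Mathlib.RingTheory.Finiteness.Projective

set_option autoImplicit false
universe u
open TensorProduct
open CAlg

namespace Groth.Agent.S19778

theorem aux {A B : Type u} [CommRing A] [CommRing B] [Algebra A B] (t : A) (At Bt : Type u) [CommRing At] [CommRing Bt]
    [Algebra A At] [Algebra B Bt] [Algebra At Bt] [Algebra A Bt] [IsScalarTower A B Bt] [IsScalarTower A At Bt]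
    [IsLocalization.Away t At] [IsLocalization.Away (algebraMap A B t) Bt] [HenselianRing A (Ideal.span {t})]
    (hd : ∀ (N : ℕ) (b : B), ∃ (a : A) (b' : B), b = algebraMap A B a + algebraMap A B t ^ N * b')
    (hi : ∀ (N : ℕ) (a : A) (b : B), algebraMap A B a = algebraMap A B t ^ N * b → ∃ a', a = t ^ N * a')
    (hj : algebraMap A B t ∈ Ideal.jacobson (⊥ : Ideal B))
    (M' : Type u) [AddCommGroup M'] [Module Bt M'] [Module.Finite Bt M'] [Module.Projective Bt M'] :
    ∃ (M : Type u) (_ : AddCommGroup M) (_ : Module At M), Module.Finite At M ∧ Module.Projective At M ∧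
      Nonempty (Bt ⊗[At] M ≃ₗ[Bt] M') := by
  classical
  obtain ⟨b, p, hp⟩ := Module.Finite.exists_fin' Bt M'
  obtain ⟨s, hs⟩ := Module.projective_lifting_property p LinearMap.id hp
  have hs' : ∀ y, p (s y) = y := fun y => LinearMap.congr_fun hs y
  let P : Matrix (Fin b) (Fin b) Bt := LinearMap.toMatrix' (s ∘ₗ p)
  have hPv : ∀ v, P.mulVec v = s (p v) := by
    intro v
    rw [← Matrix.toLin'_apply, Matrix.toLin'_toMatrix']
    rfl
  have hP : P * P = P := by
    change LinearMap.toMatrix' (s ∘ₗ p) * LinearMap.toMatrix' (s ∘ₗ p) = _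
    rw [← LinearMap.toMatrix'_comp]
    congr 1
    ext v : 2
    simp [hs']
  obtain ⟨E, u, hE, hu⟩ := K730.IdemConj.exists_conj t At Bt hd hi hj P hP
  let uB : Matrix (Fin b) (Fin b) Bt := (u : Matrix (Fin b) (Fin b) B).map (algebraMap B Bt)
  let uB' : Matrix (Fin b) (Fin b) Bt := (↑u⁻¹ : Matrix (Fin b) (Fin b) B).map (algebraMap B Bt)
  have h1 : uB * uB' = 1 := by
    change Matrix.map _ _ * Matrix.map _ _ = 1
    rw [← Matrix.map_mul, u.mul_inv, Matrix.map_one _ (map_zero _) (map_one _)]
  have h2 : uB' * uB = 1 := by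
    change Matrix.map _ _ * Matrix.map _ _ = 1
    rw [← Matrix.map_mul, u.inv_mul, Matrix.map_one _ (map_zero _) (map_one _)]
  have hu' : E.map (algebraMap At Bt) * uB = uB * P := hu
  let E' : (Fin b → At) →ₗ[At] (Fin b → At) := Matrix.toLin' E
  have hE' : ∀ v, E' (E' v) = E' v := by
    intro v
    simp only [E', Matrix.toLin'_apply, Matrix.mulVec_mulVec, hE]
  let M := LinearMap.range E'
  let r : (Fin b → At) →ₗ[At] M := E'.rangeRestrict
  let i : M →ₗ[At] (Fin b → At) := M.subtype
  have hri : r ∘ₗ i = LinearMap.id := by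
    ext1 ⟨_, v, rfl⟩
    apply Subtype.ext
    exact hE' v
  have hir : i ∘ₗ r = E' := rfl
  let e : Bt ⊗[At] (Fin b → At) ≃ₗ[Bt] (Fin b → Bt) := TensorProduct.piScalarRight At Bt Bt (Fin b)
  have he1 : ∀ v : Fin b → At, e (1 ⊗ₜ v) = fun j => algebraMap At Bt (v j) := by
    intro v
    funext j
    simp [e, Algebra.smul_def]
  have heE : ∀ w, e (E'.baseChange Bt w) = (E.map (algebraMap At Bt)).mulVec (e w) := by
    intro w
    induction w with
    | zero => simp
    | add x y hx hy => rw [map_add, map_add, hx, hy, map_add, Matrix.mulVec_add]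
    | tmul x v =>
      have e2 : x ⊗ₜ[At] v = x • (1 ⊗ₜ[At] v) := by rw [smul_tmul', smul_eq_mul, mul_one]
      rw [e2, map_smul, map_smul, LinearMap.baseChange_tmul, he1, map_smul, he1, Matrix.mulVec_smul]
      congr 1
      funext j
      simp only [E', Matrix.toLin'_apply]
      exact RingHom.map_mulVec (algebraMap At Bt) E v j
  let F : Bt ⊗[At] M →ₗ[Bt] M' := p ∘ₗ Matrix.toLin' uB' ∘ₗ e.toLinearMap ∘ₗ i.baseChange Bt
  let G : M' →ₗ[Bt] Bt ⊗[At] M := r.baseChange Bt ∘ₗ e.symm.toLinearMap ∘ₗ Matrix.toLin' uB ∘ₗ s
  have hcomp1 : ∀ w, i.baseChange Bt (r.baseChange Bt w) = E'.baseChange Bt w := by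
    intro w
    rw [← hir, LinearMap.baseChange_comp]
    rfl
  have hcomp2 : ∀ w, r.baseChange Bt (i.baseChange Bt w) = w := by
    intro w
    have := LinearMap.congr_fun (LinearMap.baseChange_comp (A := Bt) i r) w
    rw [hri, LinearMap.baseChange_id] at this
    exact this.symm
  have hFG : F ∘ₗ G = LinearMap.id := by
    ext y
    change p (Matrix.toLin' uB' (e (i.baseChange Bt (r.baseChange Bt (e.symm (Matrix.toLin' uB (s y))))))) = y
    rw [hcomp1, heE, e.apply_symm_apply, Matrix.toLin'_apply, Matrix.toLin'_apply, Matrix.mulVec_mulVec,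
      Matrix.mulVec_mulVec, mul_assoc, hu', ← mul_assoc, h2, one_mul, hPv, hs', hs']
  have hGF : G ∘ₗ F = LinearMap.id := by
    apply LinearMap.ext
    intro w
    change r.baseChange Bt (e.symm (Matrix.toLin' uB (s (p (Matrix.toLin' uB' (e (i.baseChange Bt w))))))) = w
    rw [← hPv, Matrix.toLin'_apply, Matrix.toLin'_apply, Matrix.mulVec_mulVec, Matrix.mulVec_mulVec]
    rw [← hu', mul_assoc, h1, mul_one, ← heE, e.symm_apply_apply, ← hcomp1, hcomp2, hcomp2]
  refine ⟨M, inferInstance, inferInstance, inferInstance, ?_, ⟨LinearEquiv.ofLinearMap F G hFG hGF⟩⟩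
  exact Module.Projective.of_split i r hri

/-- For general linear groups, in the case A[1/t] → Â[1/t], let A be a commutative ring and t ∈ A with
(A, tA) a Henselian pair and the t-power torsion of A bounded, let Â be the t-adic completion and
give Â[1/t] the A[1/t]-algebra structure of the canonical map. Then every finitely generated
projective Â[1/t]-module is the base change of a finitely generated projective A[1/t]-module. (The
published statement is the bijection H¹(A[1/t], G) ≅ H¹(Â[1/t], G) for every quasi-affine smooth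
group G; this row is the case of the general linear groups, stated as essential surjectivity of base
change on finitely generated projective modules of arbitrary rank.) -/
theorem result (A : Type u) [CommRing A]
    (t : A) [HenselianRing A (Ideal.span {t})]
    (hbd : ∃ N : ℕ, ∀ a : A, (∃ m : ℕ, t ^ m * a = 0) → t ^ N * a = 0)
    [Algebra (Localization.Away t) (Localization.Away (algebraMap A (AdicCompletion (Ideal.span {t}) A) t))]
    (halg : algebraMap (Localization.Away t) (Localization.Away (algebraMap A (AdicCompletion (Ideal.span {t}) A) t)) = Localization.awayMap (algebraMap A (AdicCompletion (Ideal.span {t}) A)) t)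
    (M' : Type u) [AddCommGroup M'] [Module (Localization.Away (algebraMap A (AdicCompletion (Ideal.span {t}) A) t)) M']
    [Module.Finite (Localization.Away (algebraMap A (AdicCompletion (Ideal.span {t}) A) t)) M'] [Module.Projective (Localization.Away (algebraMap A (AdicCompletion (Ideal.span {t}) A) t)) M'] :
    ∃ (M : Type u) (_ : AddCommGroup M) (_ : Module (Localization.Away t) M),
      Module.Finite (Localization.Away t) M ∧ Module.Projective (Localization.Away t) M ∧
      Nonempty ((Localization.Away (algebraMap A (AdicCompletion (Ideal.span {t}) A) t)) ⊗[Localization.Away t] M ≃ₗ[Localization.Away (algebraMap A (AdicCompletion (Ideal.span {t}) A) t)] M') := by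
  have hc : K730.CP (Ideal.span {t}) (AdicCompletion (Ideal.span {t}) A) :=
    K730.CP.of_adicCompletion _ ⟨{t}, by simp⟩
  have hco := hc.complete
  have hmap : ∀ n : ℕ, (Ideal.map (algebraMap A (AdicCompletion (Ideal.span {t}) A)) (Ideal.span {t})) ^ n =
      Ideal.span {algebraMap A (AdicCompletion (Ideal.span {t}) A) t ^ n} := by
    intro n
    rw [Ideal.map_span, Set.image_singleton, Ideal.span_singleton_pow]
  have : IsScalarTower A (Localization.Away t) (Localization.Away (algebraMap A (AdicCompletion (Ideal.span {t}) A) t)) :=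
    IsScalarTower.of_algebraMap_eq fun a => by
      rw [IsScalarTower.algebraMap_apply A (AdicCompletion (Ideal.span {t}) A)
        (Localization.Away (algebraMap A (AdicCompletion (Ideal.span {t}) A) t)), halg]
      have hy : Submonoid.powers t ≤ (Submonoid.powers (algebraMap A (AdicCompletion (Ideal.span {t}) A) t)).comap
          (algebraMap A (AdicCompletion (Ideal.span {t}) A)) := by
        rw [Submonoid.powers_le]; exact Submonoid.mem_powers _
      exact (IsLocalization.map_eq (S := Localization.Away t)
        (Q := Localization.Away (algebraMap A (AdicCompletion (Ideal.span {t}) A) t)) hy a).symm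
  exact aux t _ _ (fun n b => by
      obtain ⟨a, ha⟩ := hc.d n b
      rw [hmap, Ideal.mem_span_singleton] at ha
      obtain ⟨b', hb'⟩ := ha
      exact ⟨a, b', by rw [← hb']; ring⟩) (fun n a b hab => by
      have h1 : algebraMap A _ a ∈ (Ideal.map (algebraMap A (AdicCompletion (Ideal.span {t}) A)) (Ideal.span {t})) ^ n := by
        rw [hmap, hab]; exact Ideal.mul_mem_right _ _ (Ideal.mem_span_singleton_self _)
      have h2 := hc.i n a h1
      rw [Ideal.span_singleton_pow, Ideal.mem_span_singleton] at h2
      exact h2) (by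
      have h1 := IsAdicComplete.le_jacobson_bot
        (Ideal.map (algebraMap A (AdicCompletion (Ideal.span {t}) A)) (Ideal.span {t}))
      exact h1 (Ideal.mem_map_of_mem _ (Ideal.mem_span_singleton_self _))) M'

end Groth.Agent.S19778
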