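import Groth.Statements.S19779
import Groth.Agent.CAlg.K89.AwayProj
import Groth.Agent.S19778
import Groth.Agent.NonAbH1.K551.TruncQuot
import Mathlib.RingTheory.LaurentSeries

set_option autoImplicit false
universe u
open Polynomial TensorProduct
open CAlg

namespace Groth.Agent.S19779


open K89.AwayCompl in
/-- the map from the henselization to power series is a glueing map. -/
theorem glue {R : Type u} [CommRing R] {B : Type u} [CommRing B] [Algebra R[X] B]
    (hB : Hens2.IsPairHenselization R[X] (Ideal.span {(X : R[X])}) B) (ψ : B →ₐ[R[X]] PowerSeries R) :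
    Glue ψ.toRingHom (algebraMap R[X] B X) := by
  have hX : ψ.toRingHom (algebraMap R[X] B X) = PowerSeries.X := by
    change ψ _ = _
    rw [AlgHom.commutes, K551.TruncQuot.algebraMap_eq_coe, Polynomial.coe_X]
  have hreg : ∀ (m : ℕ) (b : PowerSeries R), PowerSeries.X ^ m * b = 0 → b = 0 := by
    intro m b hb
    ext d
    have h1 := congrArg (PowerSeries.coeff (d + m)) hb
    rw [PowerSeries.coeff_X_pow_mul] at h1
    simpa using h1
  refine ⟨?_, ?_, ?_, ?_, ?_⟩
  · intro n b
    refine ⟨algebraMap R[X] B (PowerSeries.trunc n b), PowerSeries.mk fun d => PowerSeries.coeff (d + n) b, ?_⟩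
    rw [hX]
    change b = ψ _ + _
    rw [AlgHom.commutes, K551.TruncQuot.algebraMap_eq_coe]
    ext d
    rw [map_add, Polynomial.coeff_coe, PowerSeries.coeff_trunc, PowerSeries.coeff_X_pow_mul']
    by_cases hd : d < n
    · rw [if_pos hd, if_neg (by omega), add_zero]
    · rw [if_neg hd, if_pos (by omega), PowerSeries.coeff_mk, zero_add, Nat.sub_add_cancel (by omega)]
  · intro n a c hac
    have h1 := K551.TruncQuot.eps_apply hB ψ n a
    have h2 : K551.TruncQuot.eps B n (PowerSeries.X ^ n * c) = 0 := by
      rw [map_mul]
      have h3 : (PowerSeries.X : PowerSeries R) ^ n = ((X ^ n : R[X]) : PowerSeries R) := by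
        rw [Polynomial.coe_pow, Polynomial.coe_X]
      rw [h3, K551.TruncQuot.eps, RingHom.comp_apply, K551.TruncQuot.truncHom_coe, Ideal.quotientMap_mk, map_pow]
      rw [Ideal.Quotient.eq_zero_iff_mem.2 (Ideal.mem_span_singleton_self _), zero_mul]
    have h4 : ψ a = PowerSeries.X ^ n * c := by rw [← hX]; exact hac
    rw [h4, h2, eq_comm, Ideal.Quotient.eq_zero_iff_mem, Ideal.mem_span_singleton] at h1
    exact h1
  · intro m b hb
    rw [hX] at hb
    exact ⟨0, 0, by rw [hreg m b hb, map_zero], by simp⟩
  · have h1 := hB.1.jac
    exact h1 (Ideal.mem_map_of_mem _ (Ideal.mem_span_singleton_self _))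
  · rw [hX, Ideal.mem_jacobson_bot]
    intro y
    rw [PowerSeries.isUnit_iff_constantCoeff]
    simp

/-- For general linear groups, in the case R{t}[1/t] → R((t)), let R be a commutative ring, B = R{t} a
henselization of R[t] along (t), ψ : B → R[[t]] the R[t]-algebra map, L = B[1/t], and L' an
L-algebra identified with R((t)) compatibly with ψ. Then base change along L → L' is a bijection on
isomorphism classes of finitely generated projective modules: two finitely generated projective
L-modules isomorphic over L' are isomorphic, and every finitely generated projective L'-module is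
extended from one over L. (The published statement is the bijection H¹(R{t}[1/t], G) ≅ H¹(R((t)), G)
for every quasi-affine smooth group G; this row is the case of the general linear groups, stated for
finitely generated projective modules of arbitrary rank.) -/
theorem result (R : Type u) [CommRing R]
    (B : Type u) [CommRing B] [Algebra R[X] B] (hB : Hens2.IsPairHenselization R[X] (Ideal.span {(X : R[X])}) B)
    (ψ : B →ₐ[R[X]] PowerSeries R)
    (L' : Type u) [CommRing L'] [Algebra (Localization.Away (algebraMap R[X] B X)) L'] (e : L' ≃+* LaurentSeries R)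
    (he : ∀ b : B, e (algebraMap (Localization.Away (algebraMap R[X] B X)) L' (algebraMap B (Localization.Away (algebraMap R[X] B X)) b)) =
      HahnSeries.ofPowerSeries ℤ R (ψ b)) :
    (∀ (M N : Type u) [AddCommGroup M] [Module (Localization.Away (algebraMap R[X] B X)) M] [Module.Finite (Localization.Away (algebraMap R[X] B X)) M] [Module.Projective (Localization.Away (algebraMap R[X] B X)) M]
        [AddCommGroup N] [Module (Localization.Away (algebraMap R[X] B X)) N] [Module.Finite (Localization.Away (algebraMap R[X] B X)) N] [Module.Projective (Localization.Away (algebraMap R[X] B X)) N],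
        Nonempty (L' ⊗[Localization.Away (algebraMap R[X] B X)] M ≃ₗ[L'] L' ⊗[Localization.Away (algebraMap R[X] B X)] N) → Nonempty (M ≃ₗ[Localization.Away (algebraMap R[X] B X)] N)) ∧
    (∀ (M' : Type u) [AddCommGroup M'] [Module L' M'] [Module.Finite L' M'] [Module.Projective L' M'],
        ∃ (M : Type u) (_ : AddCommGroup M) (_ : Module (Localization.Away (algebraMap R[X] B X)) M),
          Module.Finite (Localization.Away (algebraMap R[X] B X)) M ∧ Module.Projective (Localization.Away (algebraMap R[X] B X)) M ∧
          Nonempty (L' ⊗[Localization.Away (algebraMap R[X] B X)] M ≃ₗ[L'] M')) := by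
  have hG := glue hB ψ
  have hX : ψ.toRingHom (algebraMap R[X] B X) = PowerSeries.X := by
    change ψ _ = _
    rw [AlgHom.commutes, K551.TruncQuot.algebraMap_eq_coe, Polynomial.coe_X]
  let _ : Algebra (PowerSeries R) L' := (e.symm.toRingHom.comp (HahnSeries.ofPowerSeries ℤ R)).toAlgebra
  have halg : ∀ b : PowerSeries R, algebraMap (PowerSeries R) L' b = e.symm (HahnSeries.ofPowerSeries ℤ R b) := fun _ => rfl
  let e' : LaurentSeries R ≃ₐ[PowerSeries R] L' := AlgEquiv.ofRingEquiv (f := e.symm) (fun b => rfl)
  have hL0 : IsLocalization.Away (PowerSeries.X : PowerSeries R) L' := by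
    have := LaurentSeries.of_powerSeries_localization (R := R)
    exact IsLocalization.isLocalization_of_algEquiv _ e'
  have hL : IsLocalization.Away (ψ.toRingHom (algebraMap R[X] B X)) L' := by rw [hX]; exact hL0
  have hφ : ∀ a : B, algebraMap (Localization.Away (algebraMap R[X] B X)) L'
      (algebraMap B (Localization.Away (algebraMap R[X] B X)) a) = algebraMap (PowerSeries R) L' (ψ.toRingHom a) := by
    intro a
    rw [halg]
    apply e.injective
    rw [he, e.apply_symm_apply]
    rfl
  refine ⟨?_, ?_⟩
  · rintro M N _ _ _ _ _ _ _ _ ⟨θ⟩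
    exact K89.AwayProj.nonempty_equiv hG hφ M N θ
  · intro M' _ _ _ _
    let _ : Algebra B (PowerSeries R) := ψ.toRingHom.toAlgebra
    let _ : Algebra B L' := ((algebraMap (PowerSeries R) L').comp ψ.toRingHom).toAlgebra
    have : IsScalarTower B (PowerSeries R) L' := IsScalarTower.of_algebraMap_eq fun _ => rfl
    have : IsScalarTower B (Localization.Away (algebraMap R[X] B X)) L' :=
      IsScalarTower.of_algebraMap_eq fun a => (hφ a).symm
    have hen : HenselianRing B (Ideal.span {algebraMap R[X] B X}) := by
      have := hB.1
      rwa [Ideal.map_span, Set.image_singleton] at this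
    exact Groth.Agent.S19778.aux (A := B) (B := PowerSeries R) (algebraMap R[X] B X)
      (Localization.Away (algebraMap R[X] B X)) L' (fun n b => hG.surj n b) (fun n a b h => hG.inj n a b h) hG.jac' M'

end Groth.Agent.S19779
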