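import Groth.Statements.S9305
import Groth.Agent.CAlg.K71.NormRed
import Groth.Agent.CAlg.K71.MinMax
import Groth.Agent.CalgC.IndNormal
import Groth.Agent.Proet.IndEtale
import Groth.Agent.Hensel.HenselPerm

set_option autoImplicit false
universe u
open CAlg

namespace Groth.Agent.S9305

open TensorProduct

theorem core {A A' Ash : Type u} [CommRing A] [CommRing A'] [CommRing Ash] [Algebra A A'] [Algebra A Ash]
    (hhens : HenselianLocalRing Ash) [Algebra.IsIntegral A A'] (hN : EGA4.IsNormalRing A')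
    (hL : Groth.Agent.Hensel.LazardPerm.LazardEtale A Ash) :
    (∀ q ∈ minimalPrimes (A' ⊗[A] Ash), ∃! m : Ideal (A' ⊗[A] Ash), m.IsMaximal ∧ q ≤ m) ∧
      (∀ m : Ideal (A' ⊗[A] Ash), m.IsMaximal →
        ∃! q : Ideal (A' ⊗[A] Ash), q ∈ minimalPrimes (A' ⊗[A] Ash) ∧ q ≤ m) := by
  constructor
  · intro q hq
    have hqp : q.IsPrime := hq.1.1
    let aD : Algebra Ash (A' ⊗[A] Ash) := Algebra.TensorProduct.rightAlgebra
    have hint : @Algebra.IsIntegral Ash (A' ⊗[A] Ash) _ _ aD := by
      have h1 : Algebra.IsIntegral Ash (Ash ⊗[A] A') := inferInstance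
      let e : Ash ⊗[A] A' ≃+* A' ⊗[A] Ash :=
        (Algebra.TensorProduct.comm A Ash A').toRingEquiv
      let e' : Ash ⊗[A] A' →ₐ[Ash] A' ⊗[A] Ash :=
        { e.toRingHom with
          commutes' := fun s => by
            change (Algebra.TensorProduct.comm A Ash A') (s ⊗ₜ 1) = _
            rw [Algebra.TensorProduct.comm_tmul]
            rfl }
      exact Algebra.IsIntegral.of_surjective e' e.surjective
    exact K71.MinMax.existsUnique_isMaximal_of_isIntegral (R := Ash) q
  · intro m hm
    have hmp : m.IsPrime := hm.isPrime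
    let Dm := Localization.AtPrime m
    have h1 : EtPBC.IsIndEtale A Ash := by
      rw [Groth.Agent.Proet.IndEtale.isIndEtale_iff_factor]
      intro Z _ _ _ g
      obtain ⟨E, a, b, c, ψ, χ, h⟩ := hL Z g
      exact ⟨E, a, b, ψ, χ, c, h⟩
    have h2 : EtPBC.IsIndEtale A' (A' ⊗[A] Ash) :=
      Groth.Agent.Proet.IndEtale.isIndEtale_baseChange A Ash A' h1
    have h3 : EtPBC.IsIndEtale (A' ⊗[A] Ash) Dm := by
      rw [Groth.Agent.Proet.IndEtale.isIndEtale_iff_factor]
      intro Z _ _ _ g
      obtain ⟨E, a, b, c, ψ, χ, h⟩ :=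
        Groth.Agent.CalgC.IndEtale.isIndEtale_of_isLocalization m.primeCompl Dm Z g
      exact ⟨E, a, b, ψ, χ, c, h⟩
    have h4 : EtPBC.IsIndEtale A' Dm :=
      Groth.Agent.Proet.IndEtale.isIndEtale_trans _ _ _ h2 h3
    have h5 : Groth.Agent.CalgC.IndEtale.IsIndSmooth A' Dm := by
      rw [Groth.Agent.Proet.IndEtale.isIndEtale_iff_factor] at h4
      intro P _ _ hP φ
      obtain ⟨W, _, _, u, v, hW, h⟩ := h4 P hP φ
      exact ⟨W, inferInstance, inferInstance, inferInstance, u, v, h⟩
    have hD : IsDomain Dm :=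
      (Groth.Agent.CalgC.IndNormal.isDomain_and_isIntegrallyClosed h5 (hN _)).1
    exact K71.MinMax.existsUnique_minimalPrimes m


open TensorProduct in
/-- Let A be a local ring with finitely many minimal primes, A' the integral closure of A_red in its
total ring of fractions and A^sh a strict henselization of A. In the ring A' ⊗_A A^sh, each minimal
prime lies in exactly one maximal ideal and each maximal ideal contains exactly one minimal prime. -/
theorem result {A Ash : Type u} [CommRing A]
    [IsLocalRing A] (hfin : (minimalPrimes A).Finite) [CommRing Ash] [IsLocalRing Ash] [Algebra A Ash]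
    [IsLocalHom (algebraMap A Ash)] [Hensel.IsStrictHenselization A Ash] :
    (∀ q ∈ minimalPrimes ((CAlg2.normRed A) ⊗[A] Ash),
        ∃! m : Ideal ((CAlg2.normRed A) ⊗[A] Ash), m.IsMaximal ∧ q ≤ m) ∧
      (∀ m : Ideal ((CAlg2.normRed A) ⊗[A] Ash), m.IsMaximal →
        ∃! q : Ideal ((CAlg2.normRed A) ⊗[A] Ash), q ∈ minimalPrimes ((CAlg2.normRed A) ⊗[A] Ash) ∧ q ≤ m) := by
  have hhens : HenselianLocalRing Ash := Hensel.IsStrictHenselization.henselian A
  have hnt : Nontrivial (CAlg2.red A) := by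
    refine Ideal.Quotient.nontrivial_iff.2 ?_
    intro h
    have h1 : (1 : A) ∈ nilradical A := h ▸ Submodule.mem_top
    obtain ⟨n, hn⟩ := h1
    rw [one_pow] at hn
    exact one_ne_zero hn
  have hNint : Algebra.IsIntegral A (CAlg2.normRed A) := by
    constructor
    intro a
    obtain ⟨f, hf, hfa⟩ : IsIntegral (CAlg2.red A) a := Algebra.IsIntegral.isIntegral a
    have hfl : f ∈ Polynomial.lifts (Ideal.Quotient.mk (nilradical A)) := by
      obtain ⟨g, hg⟩ := Polynomial.map_surjective (Ideal.Quotient.mk (nilradical A)) Ideal.Quotient.mk_surjective f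
      exact ⟨g, hg⟩
    obtain ⟨g, hg, -, hgm⟩ := Polynomial.lifts_and_degree_eq_and_monic hfl hf
    refine ⟨g, hgm, ?_⟩
    rw [← hg, Polynomial.eval₂_map] at hfa
    exact hfa
  exact core hhens (K71.NormRed.isNormalRing_normRed hfin)
    (Groth.Agent.Hensel.HenselPerm.lazardEtale_of_isStrictHenselization A Ash)

end Groth.Agent.S9305
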