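import Groth.Statements.S5756
import Groth.Agent.Ega4B.DepthFinite

set_option autoImplicit false
universe u
open EGA41

namespace Groth.Agent.S5756

open IsLocalRing Groth.Agent.Ega4B.DepthBasic Groth.Agent.Ega4B.DepthFinite in
lemma one_le_iff (A B : Type u) [CommRing A] [CommRing B] [IsLocalRing A]
    [IsLocalRing B] [IsNoetherianRing A] [IsNoetherianRing B] [Algebra A B] [IsLocalHom (algebraMap A B)]
    (M : Type u) [AddCommGroup M] [Module B M] [Module A M] [IsScalarTower A B M] [Module.Finite A M] :
    1 ≤ LocCoh.depth A M ↔ 1 ≤ LocCoh.depth B M := by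
  have hfin : Module.Finite B M := Module.Finite.of_restrictScalars_finite A B M
  rw [one_le_depth_iff, one_le_depth_iff, not_iff_not, associatedPrimes_restrictScalars (B := B)]
  constructor
  · rintro ⟨q, hq, hqA⟩
    have hqp : q.IsPrime := hq.isPrime
    suffices q = maximalIdeal B by rwa [← this]
    obtain ⟨-, f, hf⟩ := (isAssociatedPrime_iff_exists_injective_linearMap _ _).mp hq
    have h1 : Module.Finite A (B ⧸ q) :=
      Module.Finite.of_injective (f.restrictScalars A) hf
    have h2 : Algebra.IsIntegral A (B ⧸ q) := inferInstance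
    have h3 : (⊥ : Ideal (B ⧸ q)).comap (algebraMap A (B ⧸ q)) = maximalIdeal A := by
      rw [← hqA, IsScalarTower.algebraMap_eq A B (B ⧸ q), ← Ideal.comap_comap]
      congr 1
      ext x
      exact Ideal.Quotient.eq_zero_iff_mem
    have h4 : (⊥ : Ideal (B ⧸ q)).IsMaximal :=
      Ideal.isMaximal_of_isIntegral_of_isMaximal_comap _ (h3 ▸ maximalIdeal.isMaximal A)
    have h5 : q.IsMaximal := by
      have := Ideal.comap_isMaximal_of_surjective (Ideal.Quotient.mk q)
        Ideal.Quotient.mk_surjective (K := (⊥ : Ideal (B ⧸ q)))
      rwa [← RingHom.ker_eq_comap_bot, Ideal.mk_ker] at this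
    exact eq_maximalIdeal h5
  · intro h
    have hl : IsLocalHom (algebraMap A B) := inferInstance
    exact ⟨_, h, ((local_hom_TFAE (algebraMap A B)).out 0 4).mp hl⟩

open IsLocalRing Groth.Agent.Ega4B.DepthBasic Groth.Agent.Ega4B.DepthFinite in
lemma natCast_le_iff (A B : Type u) [CommRing A] [CommRing B] [IsLocalRing A]
    [IsLocalRing B] [IsNoetherianRing A] [IsNoetherianRing B] [Algebra A B] [IsLocalHom (algebraMap A B)]
    (n : ℕ) (M : Type u) [AddCommGroup M] [Module B M] [Module A M] [IsScalarTower A B M]
    [Module.Finite A M] :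
    (n : ℕ∞) ≤ LocCoh.depth A M ↔ (n : ℕ∞) ≤ LocCoh.depth B M := by
  induction n generalizing M with
  | zero => simp
  | succ n ih =>
    have hfin : Module.Finite B M := Module.Finite.of_restrictScalars_finite A B M
    by_cases h1 : 1 ≤ LocCoh.depth A M
    · obtain ⟨x, hx, hreg⟩ := (exists_isSMulRegular_mem_iff (maximalIdeal A) M).mpr (fun P hP hle => by
        have h4 : P.IsPrime := hP.isPrime
        have h5 : P = IsLocalRing.maximalIdeal A :=
          le_antisymm (IsLocalRing.le_maximalIdeal h4.ne_top) hle
        exact (one_le_depth_iff M).mp h1 (h5 ▸ hP))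
      have hregB : IsSMulRegular M (algebraMap A B x) := by
        intro a b hab
        apply hreg
        change algebraMap A B x • a = algebraMap A B x • b at hab
        rwa [algebraMap_smul, algebraMap_smul] at hab
      have hxB : algebraMap A B x ∈ maximalIdeal B := by
        have h6 := ((local_hom_TFAE (algebraMap A B)).out 0 2).mp (inferInstance : IsLocalHom _)
        exact h6 (Ideal.mem_map_of_mem _ hx)
      have e := quotSMulTopEquiv (A := A) (B := B) x M
      have hf1 : Module.Finite A (QuotSMulTop (algebraMap A B x) M) := Module.Finite.equiv e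
      rw [← depth_quotSMulTop_add_one M x hx hreg,
        ← depth_quotSMulTop_add_one M (algebraMap A B x) hxB hregB, depth_congr e]
      push_cast
      rw [ENat.add_le_add_iff_right ENat.one_ne_top, ENat.add_le_add_iff_right ENat.one_ne_top]
      exact ih _
    · have h2 : ¬ 1 ≤ LocCoh.depth B M := fun h => h1 ((one_le_iff A B M).mpr h)
      have h3 : (1 : ℕ∞) ≤ ((n + 1 : ℕ) : ℕ∞) := by
        exact_mod_cast Nat.le_add_left 1 n
      exact ⟨fun h => absurd (h3.trans h) h1, fun h => absurd (h3.trans h) h2⟩

lemma eq_of_forall_iff (A B : Type u) [CommRing A] [CommRing B] [IsLocalRing A]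
    [IsLocalRing B] [IsNoetherianRing A] [IsNoetherianRing B] [Algebra A B] [IsLocalHom (algebraMap A B)]
    (M : Type u) [AddCommGroup M] [Module B M] [Module A M] [IsScalarTower A B M] [Module.Finite A M] :
    LocCoh.depth A M = LocCoh.depth B M :=
  le_antisymm
    (ENat.forall_natCast_le_iff_le.mp fun n hn => (natCast_le_iff A B n M).mp hn)
    (ENat.forall_natCast_le_iff_le.mp fun n hn => (natCast_le_iff A B n M).mpr hn)


/-- Suppose A and B are Noetherian local rings and ρ : A → B is a local homomorphism. Given a B-module M
that, viewed as an A-module through ρ, is finitely generated, the depth of M over A coincides with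
the depth of M over B. -/
theorem result (A B : Type u) [CommRing A] [CommRing B] [IsLocalRing A]
    [IsLocalRing B] [IsNoetherianRing A] [IsNoetherianRing B] [Algebra A B] [IsLocalHom (algebraMap A B)]
    (M : Type u) [AddCommGroup M] [Module B M] [Module A M] [IsScalarTower A B M] [Module.Finite A M] :
    LocCoh.depth A M = LocCoh.depth B M := by
  exact eq_of_forall_iff A B M

end Groth.Agent.S5756
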