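import Groth.Statements.S8495
import Groth.Agent.Par.K545.Dyn
import Groth.Agent.RedSub.H606.D5Any
import Groth.Agent.Sga3B.MT.Levi

set_option autoImplicit false
open CategoryTheory MonoidalCategory CartesianMonoidalCategory MonObj GrpObj AlgebraicGeometry
universe u
open Par

namespace Groth.Agent.S8495

open Groth.Agent.Sga3B Groth.Agent.Sga3B.Parab Groth.Agent.RedSub.H664.Comb
  Groth.Agent.RedSub.H664.Calc3 Groth.Agent.RedSub.H664.Ad Groth.Agent.RedSub.H664.Min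
  Groth.Agent.RedSub.H606

/-- Let k be a field, G a reductive k-group and P, P' two parabolic subgroups of G, with intersection I
= P ∩ P' (I ⟶ P and I ⟶ P' forming a cartesian square over G, I carrying the induced group
structure). Then I is smooth over k and contains a maximal torus of G (so it has the same reductive
rank as G). -/
theorem result (k : Type u) [Field k]
    {G P P' I : Over (Spec (CommRingCat.of k))} [GrpObj G] [GrpObj P] [GrpObj P'] [GrpObj I]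
    (hG : Red.IsReductive G) (p : P ⟶ G) (p' : P' ⟶ G) (hP : Red.IsParabolic p) (hP' : Red.IsParabolic p')
    (m : I ⟶ P) (m' : I ⟶ P') [IsMonHom m] (hI : IsPullback m m' p p') :
    Smooth I.hom ∧ ∃ (T : Over (Spec (CommRingCat.of k))) (_ : GrpObj T) (t : T ⟶ I),
      IsMonHom t ∧ Red.IsMaximalTorus (t ≫ m ≫ p) := by
  have hGa := hG.1
  have hGs := hG.2.1
  have hpm := hP.1
  have hpo := K545.Tools.mono_of_isParabolic hP
  have hpo' := K545.Tools.mono_of_isParabolic hP'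
  have hmo : Mono m := ⟨fun a b hab => hI.hom_ext hab (by
    rw [← cancel_mono p', Category.assoc, Category.assoc, ← hI.w, reassoc_of% hab])⟩
  obtain ⟨α, hα, hpα⟩ := K545.Dyn.exists_cochar hG hP
  obtain ⟨β, hβ, hpβ⟩ := K545.Dyn.exists_cochar hG hP'
  obtain ⟨u, v, hu, hv, hc⟩ := D5Any.d5All k G hG α β hα hβ
  have e1 : Eqv (ad u α) α := eqv_ad hu.ptP
  have e2 : Eqv (ad v β) β := eqv_ad hv.ptP
  have hH : ∀ (X : Over (Spec (CommRingCat.of k))) (g : X ⟶ G), (∃ x : X ⟶ I, x ≫ m ≫ p = g) ↔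
      PtP (ad u α) g ∧ PtP (ad v β) g := by
    intro X g
    constructor
    · rintro ⟨x, rfl⟩
      refine ⟨e1.2 _ _ ((hpα.iff_ptP _ _).1 ⟨x ≫ m, Category.assoc _ _ _⟩),
        e2.2 _ _ ((hpβ.iff_ptP _ _).1 ⟨x ≫ m', ?_⟩)⟩
      rw [Category.assoc, hI.w]
    · rintro ⟨h1, h2⟩
      obtain ⟨a, ha⟩ := (hpα.iff_ptP _ _).2 (e1.1 _ _ h1)
      obtain ⟨b, hb⟩ := (hpβ.iff_ptP _ _).2 (e2.1 _ _ h2)
      exact ⟨hI.lift a b (ha.trans hb.symm), by rw [← Category.assoc, hI.lift_fst, ha]⟩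
  refine ⟨D5Fld.smooth_inter_of_comm hc hH, ?_⟩
  obtain ⟨N, hN, h⟩ := exists_N (α := ad u α) (β := ad v β) hc
  have hcm : IsMonHom (cmb N 1 (ad u α) (ad v β)) := isMonHom_cmb hc _ _
  obtain ⟨Q, V, Z, _, _, _, q, w, z, hq, hw, hz, hqp, hwr, hzl⟩ :=
    K545.Dyn.exists_all hG (cmb N 1 (ad u α) (ad v β))
  have hqm := hqp.1
  have hzm := hzl.1
  obtain ⟨y, hy⟩ := (hH Z (z ≫ q)).2 <| by
    have h1 := (h N le_rfl Z (z ≫ q)).2.2.1 ((hz.iff_ptZ _ _).1 ⟨𝟙 _, Category.id_comp _⟩)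
    exact ⟨h1.1.ptP, h1.2.ptP⟩
  have hym : IsMonHom y := K545.Tools.isMonHom_of_comp (g := m ≫ p) (h := z ≫ q) hy
  have hZa : IsAffineHom Z.hom := hzl.2.2.1.1
  have hZs : Smooth Z.hom := hzl.2.2.1.2.1
  have hZaf : IsAffine Z.left := isAffine_of_isAffineHom Z.hom
  obtain ⟨T, _, i, hi⟩ := Agf.H609.GrothFinal.exists_isMaximalTorus Z
  have him := hi.1
  refine ⟨T, inferInstance, i ≫ y, inferInstance, ?_⟩
  rw [Category.assoc, hy]
  exact MT.Levi.isMaximalTorus_comp_levi hG q hqp z hzl i hi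

end Groth.Agent.S8495
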