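import Groth.Statements.S14818
import Groth.Agent.PicF.K247.FrDeg
import Groth.Agent.Grpsch.PicGrp
import Groth.Agent.Ega2.AmpleTransfer
import Groth.Agent.Picfga.HilbZero

set_option autoImplicit false
universe u
open CategoryTheory CategoryTheory.Limits AlgebraicGeometry
open PicF

namespace Groth.Agent.S14818

open Groth.Agent.Fdesc.LocGen Groth.Agent.Grpsch Groth.Agent.Ega2.Nv in
/-- Let X be a connected locally Noetherian scheme, f : X' → X a finite locally free morphism of
constant degree d (a finite flat covering of X of degree d) and L an invertible O_X-module whose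
pullback f^*L is isomorphic to O_{X'}. Then L^{⊗d} ≅ O_X; in particular L has finite order in Pic(X)
dividing the degree of f. -/
theorem result (X X' : Scheme.{u})
    [IsLocallyNoetherian X] [ConnectedSpace X] (f : X' ⟶ X) (d : ℕ) (hf : Mor2.IsFinLocFreeOfDeg d f)
    (L : X.Modules) (hL : PicF.IsInvertible L)
    (htriv : Nonempty ((Scheme.Modules.pullback f).obj L ≅ Coh.structureModule X')) :
    Nonempty (CohB1.tensorPow L d ≅ Coh.structureModule X) := by
  obtain ⟨φ⟩ := htriv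
  rcases Nat.eq_zero_or_pos d with rfl | hd
  · exact ⟨Iso.refl _⟩
  have : IsFinite f := hf.1.1
  have : Flat f := hf.1.2.1
  have hsurj : Surjective f := Groth.Agent.Picfga.HilbZero.surjective_of_isFinLocFreeOfDeg f hd hf
  have hfr : ∀ x : X, ∃ (W : X.Opens) (r : ℕ), x ∈ W ∧ r ∣ d ∧ Nonempty (Groth.Agent.Ega2.H275.FrameNorm.Fr f W r) :=
    fun x => by
      obtain ⟨W, hx, h⟩ := K247.FrDeg.exists_fr_of_deg hf x
      exact ⟨W, d, hx, dvd_rfl, h⟩
  let D := Groth.Agent.Ega2.H275.FrameData.normData f hd hfr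
  -- a generator of the pullback
  let g : Γ((Scheme.Modules.pullback f).obj L, f ⁻¹ᵁ ⊤) := φ.inv.app _ (one (f ⁻¹ᵁ ⊤))
  have hg : IsGen g := (isGen_one _).app φ.inv
  have hgn : IsGen (pow g 1) := hg.pow 1
  obtain ⟨t, -, ht, -⟩ := D.exists_norm (L := L) (U := ⊤) (Groth.Agent.Ega2.Ample.locGen_top_iff.mpr hL)
    (m := 1) (pow g 1)
  have hnv : (𝟙 X) ⁻¹ᵁ ⊤ ≤ nv _ t := fun z _ => ht z trivial fun x₁ _ => by
    have h1 : f ⁻¹ᵁ ⊤ ≤ nv _ (pow g 1) := (le_nv_iff _ _ le_rfl).mpr (by rw [res_refl]; exact hgn)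
    exact h1 trivial
  have htg : IsGen t := by
    have h1 := (le_nv_iff _ t (le_refl ((𝟙 X) ⁻¹ᵁ ⊤))).mp hnv
    rwa [res_refl] at h1
  have hL' := isInvertible_pullback (𝟙 X) hL
  have h2 : Nonempty (CohB1.tensorPow ((Scheme.Modules.pullback (𝟙 X)).obj L) (d * 1) ≅ Coh.structureModule X) := by
    let t' : Γ(CohB1.tensorPow ((Scheme.Modules.pullback (𝟙 X)).obj L) (d * 1), ⊤) := t
    have : IsIso (homOf t') := by
      rw [isIso_iff_isGen, sec_homOf, res_refl]
      exact htg
    exact ⟨(asIso (homOf t')).symm⟩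
  rw [← PicGrp.mk_eq_one_iff (isInvertible_tensorPow hL' _), PicGrp.mk_tensorPow hL', ← PicGrp.pull_mk (𝟙 X) hL,
    PicGrp.pull_id, mul_one, ← PicGrp.mk_tensorPow hL] at h2
  exact (PicGrp.mk_eq_one_iff _).mp h2

end Groth.Agent.S14818
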