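import Groth.Statements.S9560
import Groth.Agent.UnramA.FlatUnramAt
import Mathlib.RingTheory.Unramified.LocalRing

set_option autoImplicit false
universe u
open EtLocal

namespace Groth.Agent.S9560

/-- Suppose A is a Noetherian ring and B is a finite-type A-algebra, and consider a prime q of B lying
over the prime p of A, where B_q carries its A_p-algebra structure. Then B is étale at q over A (the
local ring B_q is formally étale over A) if and only if the local homomorphism A_p → B_q is étale,
which means three things: B_q is A_p-flat, the ideal p B_q equals the maximal ideal of B_q, and the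
residue field of q is a finite separable extension of the residue field of p (that B_q is
essentially of finite type over A_p holds automatically). -/
theorem result (A B : Type u) [CommRing A] [CommRing B]
    [Algebra A B] [IsNoetherianRing A] [Algebra.FiniteType A B]
    (p : Ideal A) [p.IsPrime] (q : Ideal B) [q.IsPrime] [q.LiesOver p]
    [Algebra (Localization.AtPrime p) (Localization.AtPrime q)]
    [Localization.AtPrime.IsLiesOverAlgebra p q] :
    Algebra.IsEtaleAt A q ↔
      Module.Flat (Localization.AtPrime p) (Localization.AtPrime q) ∧
        p.map (algebraMap A (Localization.AtPrime q)) = IsLocalRing.maximalIdeal (Localization.AtPrime q) ∧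
        Module.Finite p.ResidueField q.ResidueField ∧
        Algebra.IsSeparable p.ResidueField q.ResidueField := by
  have hfp : Algebra.FinitePresentation A B :=
    Algebra.FinitePresentation.of_finiteType.mp inferInstance
  constructor
  · intro h
    have hu : Algebra.IsUnramifiedAt A q := inferInstance
    obtain ⟨f, hf, hfe⟩ := Algebra.exists_etale_of_isEtaleAt (R := A) q
    have hflat : Module.Flat A (Localization.Away f) := inferInstance
    letI : Algebra (Localization.Away f) (Localization.AtPrime q) :=
      (IsLocalization.lift (M := Submonoid.powers f) (g := algebraMap B (Localization.AtPrime q))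
        (by
          rintro ⟨_, n, rfl⟩
          rw [map_pow]
          exact (IsLocalization.map_units (Localization.AtPrime q) (⟨f, hf⟩ : q.primeCompl)).pow n)).toAlgebra
    haveI : IsScalarTower B (Localization.Away f) (Localization.AtPrime q) :=
      .of_algebraMap_eq' (IsLocalization.lift_comp _).symm
    haveI : IsScalarTower A (Localization.Away f) (Localization.AtPrime q) := .to₁₃₄ A B _ _
    haveI : IsLocalization (Algebra.algebraMapSubmonoid (Localization.Away f) q.primeCompl)
        (Localization.AtPrime q) :=
      .isLocalization_of_submonoid_le _ _ (.powers f) _ (by
        rintro _ ⟨n, rfl⟩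
        exact q.primeCompl.pow_mem hf n)
    haveI : Module.Flat (Localization.Away f) (Localization.AtPrime q) :=
      IsLocalization.flat _ (Algebra.algebraMapSubmonoid (Localization.Away f) q.primeCompl)
    have h4 : Module.Flat A (Localization.AtPrime q) := Module.Flat.trans A (Localization.Away f) _
    have h5 := (Algebra.isUnramifiedAt_iff_map_eq A p q).mp hu
    exact ⟨(Module.flat_iff_of_isLocalization (Localization.AtPrime p) p.primeCompl _).mpr h4,
      h5.2, inferInstance, h5.1⟩
  · rintro ⟨h1, h2, h3, h4⟩
    have hu : Algebra.IsUnramifiedAt A q := (Algebra.isUnramifiedAt_iff_map_eq A p q).mpr ⟨h4, h2⟩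
    have h5 : Module.Flat A (Localization.AtPrime q) :=
      (Module.flat_iff_of_isLocalization (Localization.AtPrime p) p.primeCompl _).mp h1
    exact UnramA.FlatUnramAt.isEtaleAt_of_isUnramifiedAt_of_flat q h5

end Groth.Agent.S9560
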