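import Groth.Statements.S11377
import Groth.Agent.CohDim.K685.ResolAmple

set_option autoImplicit false
universe u
open CategoryTheory CategoryTheory.Limits AlgebraicGeometry TopologicalSpace
open CohDim

namespace Groth.Agent.S11377

/-- Let S be an integral scheme, separated and of finite type over an algebraically closed field k, with
all local rings regular, let L be an ample invertible O_S-module with tensor inverse M (so S is
quasi-projective and M^{⊗m} plays the role of O_S(-m)), and let r ≥ 0. If there is m₀ such that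
H^i(S, M^{⊗m}) = 0 for every i > r and every m ≥ m₀, then H^i(S, F) = 0 for every i > r and every
coherent O_S-module F. (The published statement takes O_S(1) from a quasi-projective embedding; the
printed proof uses only that F ⊗ O_S(m) is generated by finitely many global sections for m ≫ 0,
which holds for any ample L.) -/
theorem result (k : Type u) [Field k] [IsAlgClosed k] (S : Scheme.{u})
    [S.Over (Spec (CommRingCat.of k))] [IsSeparated (S ↘ (Spec (CommRingCat.of k)))]
    [LocallyOfFiniteType (S ↘ (Spec (CommRingCat.of k)))] [QuasiCompact (S ↘ (Spec (CommRingCat.of k)))]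
    [IsIntegral S] (hreg : ∀ x : S, IsRegularLocalRing (S.presheaf.stalk x))
    (L M : S.Modules) (hL : CohB1.IsAmple L) (hM : ClSub.IsInverseOf M L) (r : ℕ)
    (hneg : ∃ m₀ : ℕ, ∀ m : ℕ, m₀ ≤ m → ∀ i : ℕ, r < i → Subsingleton (Coh.HH S (CohB1.tensorPow M m) i))
    (F : S.Modules) (hF : Coh.IsCoh F) (i : ℕ) (hi : r < i) :
    Subsingleton (Coh.HH S F i) := by
  have hN : IsLocallyNoetherian S := LocallyOfFiniteType.isLocallyNoetherian (S ↘ Spec (CommRingCat.of k))
  have hc : CompactSpace S := QuasiCompact.compactSpace_of_compactSpace (S ↘ Spec (CommRingCat.of k))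
  have hd : ∀ V W : S.Opens, IsAffineOpen V → IsAffineOpen W → IsAffineOpen (V ⊓ W) :=
    fun V W hV hW => K685.Resol.affine_inf (S ↘ Spec (CommRingCat.of k)) hV hW
  obtain ⟨t, ht⟩ := K685.Resol.exists_bound S hd
  obtain ⟨m₀, hm₀⟩ := hneg
  exact K685.Resol.descend' (K685.ResolAmple.NegSum M m₀)
    (fun G hG => by
      obtain ⟨E, π, hE, hπ⟩ := K685.ResolAmple.exists_negSum hL hM m₀ hG
      exact ⟨E, π, hE, hE.isCoh (K685.ResolAmple.isInvertible_of_isInverseOf hL.1 hM), hπ⟩)
    (fun G j => Subsingleton (Coh.HH S G j)) r t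
    (fun E hE j hj => hE.subsingleton j fun m hm => hm₀ m hm j hj) (fun G hG j hj => ht G hG.1 j hj)
    (fun T hT j h2 h1 => Groth.Agent.Fga.HShift.subsingleton₃ hT j h2 h1) F hF i hi

end Groth.Agent.S11377
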