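import Groth.Statements.S11378
import Groth.Agent.CohDim.K685.Licht

set_option autoImplicit false
universe u
open CategoryTheory CategoryTheory.Limits AlgebraicGeometry TopologicalSpace
open CohDim

namespace Groth.Agent.S11378

/-- Let X be proper and integral over an algebraically closed field k, of dimension n ≥ 2, with all
local rings regular, and let U ≠ X be an open subscheme whose cohomological dimension is at most n -
2: H^i(U, F) = 0 for every coherent O_U-module F and every i with n - 2 < i. Then Y = X ∖ U is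
connected. -/
theorem result (k : Type u) [Field k] [IsAlgClosed k] (X : Scheme.{u})
    [X.Over (Spec (CommRingCat.of k))] [IsProper (X ↘ (Spec (CommRingCat.of k)))] [IsIntegral X]
    (hreg : ∀ x : X, IsRegularLocalRing (X.presheaf.stalk x))
    (n : ℕ) (hn : 2 ≤ n) (hdim : topologicalKrullDim X = n)
    (U : X.Opens) (hUX : U ≠ ⊤)
    (hcd : ∀ F : (U : Scheme.{u}).Modules, Coh.IsCoh F → ∀ i : ℕ, n - 2 < i → Subsingleton (Coh.HH (U : Scheme.{u}) F i)) :
    _root_.IsConnected ((U : Set X)ᶜ) := by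
  have hne : ((U : Set X)ᶜ).Nonempty := by
    by_contra h
    rw [Set.not_nonempty_iff_eq_empty, Set.compl_empty_iff] at h
    exact hUX (Opens.ext h)
  refine ⟨hne, ?_⟩
  rw [isPreconnected_closed_iff]
  intro Y₁ Y₂ hY₁ hY₂ hcov h1 h2
  by_contra hemp
  rw [Set.not_nonempty_iff_eq_empty] at hemp
  have hUc : IsClosed ((U : Set X)ᶜ) := U.2.isClosed_compl
  let A : X.Opens := ⟨((U : Set X)ᶜ ∩ Y₁)ᶜ, (hUc.inter hY₁).isOpen_compl⟩
  let B : X.Opens := ⟨((U : Set X)ᶜ ∩ Y₂)ᶜ, (hUc.inter hY₂).isOpen_compl⟩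
  have hAB : A ⊔ B = ⊤ := by
    refine Opens.ext (Set.eq_univ_of_forall fun x => ?_)
    by_contra hx
    have hx' : x ∈ (U : Set X)ᶜ ∩ (Y₁ ∩ Y₂) := by
      rw [Opens.coe_sup, Set.mem_union, not_or] at hx
      have h3 := not_not.mp hx.1
      have h4 := not_not.mp hx.2
      exact ⟨h3.1, h3.2, h4.2⟩
    rw [hemp] at hx'
    exact hx'
  have hABU : A ⊓ B = U := by
    refine Opens.ext (Set.ext fun x => ?_)
    constructor
    · intro hx
      by_contra hxU
      rcases hcov hxU with h | h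
      · exact hx.1 ⟨hxU, h⟩
      · exact hx.2 ⟨hxU, h⟩
    · intro hx
      exact ⟨fun h => h.1 hx, fun h => h.1 hx⟩
  have hA : A ≠ ⊤ := by
    obtain ⟨x, hx⟩ := h1
    intro h
    have : x ∈ A := h ▸ trivial
    exact this hx
  have hB : B ≠ ⊤ := by
    obtain ⟨x, hx⟩ := h2
    intro h
    have : x ∈ B := h ▸ trivial
    exact this hx
  have hAne : (A : Set X).Nonempty := by
    obtain ⟨x, hx⟩ := h2
    refine ⟨x, fun h => ?_⟩
    have : x ∈ (U : Set X)ᶜ ∩ (Y₁ ∩ Y₂) := ⟨hx.1, h.2, hx.2⟩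
    rw [hemp] at this
    exact this
  have hBne : (B : Set X).Nonempty := by
    obtain ⟨x, hx⟩ := h1
    refine ⟨x, fun h => ?_⟩
    have : x ∈ (U : Set X)ᶜ ∩ (Y₁ ∩ Y₂) := ⟨hx.1, hx.2, h.2⟩
    rw [hemp] at this
    exact this
  obtain ⟨F, hF, hnt⟩ := K685.Licht.exists_nontrivial_top (X ↘ Spec (CommRingCat.of k)) n hdim
  obtain ⟨m, rfl⟩ : ∃ m, n = m + 1 := ⟨n - 1, by lia⟩
  refine not_subsingleton_iff_nontrivial.mpr hnt ?_
  refine K685.Licht.subsingleton_mv F A B hAB m ?_ ?_ ?_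
  · rw [hABU]
    exact hcd _ (Groth.Agent.PerfA.CohSerre.isCoh_restrict U.ι hF) m (by lia)
  · exact K685.Licht.subsingleton_of_ne_top (X ↘ Spec (CommRingCat.of k)) (m + 1) hdim.le A hA hAne _
      (Groth.Agent.PerfA.CohSerre.isCoh_restrict A.ι hF)
  · exact K685.Licht.subsingleton_of_ne_top (X ↘ Spec (CommRingCat.of k)) (m + 1) hdim.le B hB hBne _
      (Groth.Agent.PerfA.CohSerre.isCoh_restrict B.ι hF)

end Groth.Agent.S11378
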