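import Groth.Statements.S10934
import Groth.Agent.ProjDual.K271.PnSubDepth
import Groth.Agent.CurvesB.UnitCoh
import Groth.Agent.CurvesB.DimPts
import Groth.Agent.PerfA.CohSerre
import Groth.Agent.Divis.StalkMod
import Groth.Agent.Fdesc.StructMod

set_option autoImplicit false
universe u
open CategoryTheory CategoryTheory.Limits AlgebraicGeometry
open ProjDual

namespace Groth.Agent.S10934

/-- (a)⇔(b): let k be a field, i : X → P^N_k a closed immersion with X of dimension n, and write F(−q) =
F ⊗ i^*O(−q). Then X is an equidimensional Cohen–Macaulay scheme of dimension n — the local ring of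
X at every closed point is Cohen–Macaulay of Krull dimension n — if and only if for every finite
locally free O_X-module F (vector bundle) there is q₀ such that H^j(X, F(−q)) = 0 for all j < n and
all q ≥ q₀. -/
theorem result (k : Type u) [Field k] (N n : ℕ)
    {X : Scheme.{u}} (i : X ⟶ CohB1.ProjSpace N k) [IsClosedImmersion i] (hn : topologicalKrullDim ↥X = n) :
    (∀ x : X, IsClosed ({x} : Set ↥X) →
        LocCoh.IsCohenMacaulayLocalRing (X.presheaf.stalk x) ∧ ringKrullDim (X.presheaf.stalk x) = n) ↔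
      ∀ F : X.Modules, FlatMod.IsFinLocFree F → ∃ q₀ : ℕ, ∀ q : ℕ, q₀ ≤ q → ∀ j : ℕ, j < n →
        Subsingleton (Coh.HH X (CohB1.tensorMod F
          ((Scheme.Modules.pullback i).obj (Twist.twistProjSpace N k (-(q : ℤ))))) j) := by
  have hN := K271.PnSubDepth.isNoetherian k i
  constructor
  · intro h F hF
    rcases Nat.eq_zero_or_pos n with rfl | hpos
    · exact ⟨0, fun q _ j hj => absurd hj (Nat.not_lt_zero j)⟩
    obtain ⟨m, rfl⟩ := Nat.exists_eq_succ_of_ne_zero hpos.ne'
    have hFc : Coh.IsCoh F := Groth.Agent.PerfA.CohSerre.isCoh_of_isFinLocFree hF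
    obtain ⟨q₀, h0⟩ := (K271.PnSubDepth.vanish_iff_depth k i F hFc m).2 (fun x hx => by
      obtain ⟨hCM, hdim⟩ := h x hx
      have hfree := Groth.Agent.Divis.StalkMod.finite_free_stalk hFc.1 hF x
      have := hfree.1
      have := hfree.2
      refine lt_of_lt_of_le ?_ (K271.PnSubDepth.depth_self_le_of_flat (X.presheaf.stalk x) (F.presheaf.stalk x))
      have h1 := hCM.supportDim_eq_depth
      rw [Module.supportDim_self_eq_ringKrullDim, hdim] at h1
      have h2 : ((m + 1 : ℕ) : ℕ∞) = LocCoh.depth (X.presheaf.stalk x) (X.presheaf.stalk x) := by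
        exact_mod_cast h1
      rw [← h2]
      exact_mod_cast Nat.lt_succ_self m)
    exact ⟨q₀, fun q hq j hj => h0 q hq j (Nat.lt_succ_iff.1 hj)⟩
  · intro h x hx
    have hle : (n : ℕ∞) ≤ LocCoh.depth (X.presheaf.stalk x) (X.presheaf.stalk x) := by
      rcases Nat.eq_zero_or_pos n with rfl | hpos
      · exact_mod_cast (bot_le : (0 : ℕ∞) ≤ _)
      obtain ⟨m, rfl⟩ := Nat.exists_eq_succ_of_ne_zero hpos.ne'
      obtain ⟨q₀, h0⟩ := h (Coh.structureModule X) (K271.PnSubDepth.isFinLocFree_structureModule X)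
      have h1 := (K271.PnSubDepth.vanish_iff_depth k i (Coh.structureModule X)
        (Groth.Agent.CurvesB.UnitCoh.isCoh_structureModule X) m).1
        ⟨q₀, fun q hq j hj => h0 q hq j (Nat.lt_succ_iff.2 hj)⟩ x hx
      unfold LocCoh.depth at h1 ⊢
      rw [← Groth.Agent.Localalg.Depth.idealDepth_congr_equiv _ (Groth.Agent.Fdesc.StructMod.stalkEquiv x)] at h1
      have h2 := Order.add_one_le_of_lt h1
      exact_mod_cast h2
    have hdle : ringKrullDim (X.presheaf.stalk x) ≤ n := by
      rw [← hn]; exact Groth.Agent.CurvesB.DimPts.ringKrullDim_stalk_le x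
    have hdd := Groth.Agent.Localalg.Depth2.depth_le_supportDim (R := X.presheaf.stalk x) (X.presheaf.stalk x)
    rw [Module.supportDim_self_eq_ringKrullDim] at hdd
    have hle' : (n : WithBot ℕ∞) ≤ ((LocCoh.depth (X.presheaf.stalk x) (X.presheaf.stalk x) : ℕ∞) : WithBot ℕ∞) := by
      exact_mod_cast hle
    have hdim : ringKrullDim (X.presheaf.stalk x) = n := le_antisymm hdle (hle'.trans hdd)
    refine ⟨{ supportDim_eq_depth := ?_ }, hdim⟩
    rw [Module.supportDim_self_eq_ringKrullDim]
    exact le_antisymm (hdim.le.trans hle') hdd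

end Groth.Agent.S10934
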