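import Groth.Statements.S14448
-- import your own Groth.Agent.* helpers here

set_option autoImplicit false
universe u
open Coherent

namespace Groth.Agent.S14448

section Helpers

open AlgebraicGeometry CategoryTheory

variable {X Y Z : Scheme.{u}}

/-- transposes of composites of pullbacks. -/
theorem homEquiv_comp (f : X ⟶ Y) (g : Y ⟶ Z) {K : X.Modules} {L : Y.Modules} {M : Z.Modules}
    (x : (Scheme.Modules.pullback f).obj L ⟶ K) (y : (Scheme.Modules.pullback g).obj M ⟶ L) :
    (Scheme.Modules.pullbackPushforwardAdjunction (f ≫ g)).homEquiv M K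
      ((Scheme.Modules.pullbackComp f g).inv.app M ≫ (Scheme.Modules.pullback f).map y ≫ x) =
    (Scheme.Modules.pullbackPushforwardAdjunction g).homEquiv M L y ≫
      (Scheme.Modules.pushforward g).map ((Scheme.Modules.pullbackPushforwardAdjunction f).homEquiv L K x) ≫
      (Scheme.Modules.pushforwardComp f g).hom.app K := by
  let adj₁ := (Scheme.Modules.pullbackPushforwardAdjunction g).comp (Scheme.Modules.pullbackPushforwardAdjunction f)
  let adj₂ := Scheme.Modules.pullbackPushforwardAdjunction (f ≫ g)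
  have h1 := unit_conjugateEquiv adj₁ adj₂ (Scheme.Modules.pullbackComp f g).inv M
  rw [Scheme.Modules.conjugateEquiv_pullbackComp_inv] at h1
  rw [Adjunction.homEquiv_unit, Functor.map_comp]
  refine (reassoc_of% h1.symm) _ |>.trans ?_
  have h2 := (Scheme.Modules.pushforwardComp f g).hom.naturality ((Scheme.Modules.pullback f).map y ≫ x)
  refine (congrArg (fun t => adj₁.unit.app M ≫ t) h2.symm).trans ?_
  rw [← Category.assoc, ← Category.assoc]
  refine congrArg (fun t => t ≫ _) ?_
  rw [Adjunction.homEquiv_unit, Adjunction.homEquiv_unit]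
  have h3 := (Scheme.Modules.pullbackPushforwardAdjunction f).unit.naturality y
  have h4 : adj₁.unit.app M = (Scheme.Modules.pullbackPushforwardAdjunction g).unit.app M ≫
      (Scheme.Modules.pushforward g).map
        ((Scheme.Modules.pullbackPushforwardAdjunction f).unit.app ((Scheme.Modules.pullback g).obj M)) := by
    simp only [adj₁, Adjunction.comp_unit_app]
  rw [h4, Category.assoc, Category.assoc, Functor.comp_map, ← Functor.map_comp, ← Functor.map_comp,
    Functor.map_comp (Scheme.Modules.pushforward f)]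
  refine congrArg (fun t => (Scheme.Modules.pullbackPushforwardAdjunction g).unit.app M ≫
    (Scheme.Modules.pushforward g).map t) ?_
  simp only [Functor.id_map, Functor.comp_map] at h3
  exact (reassoc_of% h3.symm) _

/-- The unit of the adjunction for a composite. -/
theorem unit_comp (f : X ⟶ Y) (g : Y ⟶ Z) (M : Z.Modules) :
    (Scheme.Modules.pullbackPushforwardAdjunction (f ≫ g)).unit.app M =
      (Scheme.Modules.pullbackPushforwardAdjunction g).unit.app M ≫
      (Scheme.Modules.pushforward g).map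
        ((Scheme.Modules.pullbackPushforwardAdjunction f).unit.app ((Scheme.Modules.pullback g).obj M)) ≫
      (Scheme.Modules.pushforwardComp f g).hom.app _ ≫
      (Scheme.Modules.pushforward (f ≫ g)).map ((Scheme.Modules.pullbackComp f g).hom.app M) := by
  have h := homEquiv_comp f g ((Scheme.Modules.pullbackComp f g).hom.app M) (𝟙 ((Scheme.Modules.pullback g).obj M))
  have h0 : (Scheme.Modules.pullbackComp f g).inv.app M ≫ (Scheme.Modules.pullback f).map
      (𝟙 ((Scheme.Modules.pullback g).obj M)) ≫ (Scheme.Modules.pullbackComp f g).hom.app M = 𝟙 _ := by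
    rw [CategoryTheory.Functor.map_id]
    exact (congrArg _ (Category.id_comp _)).trans (Iso.inv_hom_id_app _ _)
  rw [h0] at h
  rw [Adjunction.homEquiv_id, Adjunction.homEquiv_id, Adjunction.homEquiv_unit, Functor.map_comp,
    Category.assoc] at h
  have h2 := (Scheme.Modules.pushforwardComp f g).hom.naturality ((Scheme.Modules.pullbackComp f g).hom.app M)
  refine h.trans ?_
  refine congrArg (fun t => (Scheme.Modules.pullbackPushforwardAdjunction g).unit.app M ≫
    (Scheme.Modules.pushforward g).map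
        ((Scheme.Modules.pullbackPushforwardAdjunction f).unit.app ((Scheme.Modules.pullback g).obj M)) ≫ t) ?_
  exact h2

theorem aux (f : X ⟶ Y) {G : Y.Modules} {F K : X.Modules} (uf : G ⟶ (Scheme.Modules.pushforward f).obj F)
    (α : F ⟶ K) {A B : Y.Opens} (e2 : B = A) {C : X.Opens} (e1 : C = f ⁻¹ᵁ B) (e0 : C = f ⁻¹ᵁ A) (y : Γ(G, A)) :
    K.presheaf.map (eqToHom e0).op (α.app (f ⁻¹ᵁ A) (uf.app A y)) =
      α.app C (F.presheaf.map (eqToHom e1).op (uf.app B (G.presheaf.map (eqToHom e2).op y))) := by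
  subst e2
  subst e0
  simp

end Helpers

open AlgebraicGeometry CategoryTheory Scheme.Modules in
/-- Take two commutative squares of schemes side by side, f : X → Y over φ : U → V (vertical maps ξ : X
→ U and η : Y → V, f ≫ η = ξ ≫ φ) and g : Y → Z over ψ : V → W (vertical map ζ : Z → W, g ≫ ζ = η ≫
ψ), and an O_Z-module L. For a commutative square the base change map β_{f,φ}(M) : φ^* η_* M → ξ_*
f^* M is the adjoint of η_*(unit) : η_* M → η_* f_* f^* M = φ_* ξ_* f^* M, and α denotes the
composition isomorphisms of module pullbacks. Then the composite of α_{φ,ψ}(ζ_* L) : φ^* ψ^* ζ_* L →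
(φ ≫ ψ)^* ζ_* L with β_{f ≫ g, φ ≫ ψ}(L) equals the composite of φ^* β_{g,ψ}(L), β_{f,φ}(g^* L) and
ξ_* α_{f,g}(L), as maps φ^* ψ^* ζ_* L → ξ_* (f ≫ g)^* L. No cartesian or finiteness hypothesis is
made; the outer square is used through any proof hw of its commutativity. -/
theorem result {X Y Z U V W : Scheme.{u}} (f : X ⟶ Y) (g : Y ⟶ Z)
    (ξ : X ⟶ U) (η : Y ⟶ V) (ζ : Z ⟶ W) (φ : U ⟶ V) (ψ : V ⟶ W)
    (h₁ : f ≫ η = ξ ≫ φ) (h₂ : g ≫ ζ = η ≫ ψ) (hw : (f ≫ g) ≫ ζ = ξ ≫ (φ ≫ ψ)) (L : Z.Modules) :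
    (pullbackComp φ ψ).hom.app ((pushforward ζ).obj L) ≫
        (((pullbackPushforwardAdjunction (φ ≫ ψ)).homEquiv ((pushforward ζ).obj L)
            ((pushforward ξ).obj ((pullback (f ≫ g)).obj L))).symm
          ((pushforward ζ).map ((pullbackPushforwardAdjunction (f ≫ g)).unit.app L) ≫
            (pushforwardComp (f ≫ g) ζ).hom.app ((pullback (f ≫ g)).obj L) ≫
            (pushforwardCongr hw).hom.app ((pullback (f ≫ g)).obj L) ≫
            (pushforwardComp ξ (φ ≫ ψ)).inv.app ((pullback (f ≫ g)).obj L))) =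
      (pullback φ).map (((pullbackPushforwardAdjunction ψ).homEquiv ((pushforward ζ).obj L)
            ((pushforward η).obj ((pullback g).obj L))).symm
          ((pushforward ζ).map ((pullbackPushforwardAdjunction g).unit.app L) ≫
            (pushforwardComp g ζ).hom.app ((pullback g).obj L) ≫
            (pushforwardCongr h₂).hom.app ((pullback g).obj L) ≫
            (pushforwardComp η ψ).inv.app ((pullback g).obj L))) ≫
        (((pullbackPushforwardAdjunction φ).homEquiv ((pushforward η).obj ((pullback g).obj L))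
            ((pushforward ξ).obj ((pullback f).obj ((pullback g).obj L)))).symm
          ((pushforward η).map ((pullbackPushforwardAdjunction f).unit.app ((pullback g).obj L)) ≫
            (pushforwardComp f η).hom.app ((pullback f).obj ((pullback g).obj L)) ≫
            (pushforwardCongr h₁).hom.app ((pullback f).obj ((pullback g).obj L)) ≫
            (pushforwardComp ξ φ).inv.app ((pullback f).obj ((pullback g).obj L)))) ≫
        (pushforward ξ).map ((pullbackComp f g).hom.app L) := by
  rw [← cancel_epi ((pullbackComp φ ψ).inv.app ((pushforward ζ).obj L)), Iso.inv_hom_id_app_assoc]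
  apply ((pullbackPushforwardAdjunction (φ ≫ ψ)).homEquiv ((pushforward ζ).obj L)
            ((pushforward ξ).obj ((pullback (f ≫ g)).obj L))).injective
  rw [Equiv.apply_symm_apply, homEquiv_comp, Equiv.apply_symm_apply,
    Adjunction.homEquiv_naturality_right, Equiv.apply_symm_apply, unit_comp]
  apply Scheme.Modules.hom_ext
  intro O
  ext x
  have e0 : ξ ⁻¹ᵁ φ ⁻¹ᵁ ψ ⁻¹ᵁ O = (f ≫ g) ⁻¹ᵁ ζ ⁻¹ᵁ O :=
    congrArg (fun (t : X ⟶ W) => t ⁻¹ᵁ O) hw.symm
  have e1 : ξ ⁻¹ᵁ φ ⁻¹ᵁ ψ ⁻¹ᵁ O = f ⁻¹ᵁ η ⁻¹ᵁ ψ ⁻¹ᵁ O :=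
    congrArg (fun (t : X ⟶ V) => t ⁻¹ᵁ ψ ⁻¹ᵁ O) h₁.symm
  have e2 : η ⁻¹ᵁ ψ ⁻¹ᵁ O = g ⁻¹ᵁ ζ ⁻¹ᵁ O :=
    congrArg (fun (t : Y ⟶ W) => t ⁻¹ᵁ O) h₂.symm
  change ((pullback (f ≫ g)).obj L).presheaf.map (eqToHom e0).op
      (((pullbackComp f g).hom.app L).app ((f ≫ g) ⁻¹ᵁ ζ ⁻¹ᵁ O)
        (((pullbackPushforwardAdjunction f).unit.app ((pullback g).obj L)).app (g ⁻¹ᵁ ζ ⁻¹ᵁ O)
          (((pullbackPushforwardAdjunction g).unit.app L).app (ζ ⁻¹ᵁ O) x))) =
    ((pullbackComp f g).hom.app L).app (ξ ⁻¹ᵁ φ ⁻¹ᵁ ψ ⁻¹ᵁ O)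
      (((pullback f).obj ((pullback g).obj L)).presheaf.map (eqToHom e1).op
        (((pullbackPushforwardAdjunction f).unit.app ((pullback g).obj L)).app (η ⁻¹ᵁ ψ ⁻¹ᵁ O)
          (((pullback g).obj L).presheaf.map (eqToHom e2).op
            (((pullbackPushforwardAdjunction g).unit.app L).app (ζ ⁻¹ᵁ O) x))))
  generalize ((pullbackPushforwardAdjunction g).unit.app L).app (ζ ⁻¹ᵁ O) x = y
  exact aux f ((pullbackPushforwardAdjunction f).unit.app ((pullback g).obj L)) ((pullbackComp f g).hom.app L)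
    e2 e1 e0 y

end Groth.Agent.S14448
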