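import Groth.Statements.S15287
import Groth.Agent.Ega2.AmpleGlobGen
import Groth.Agent.Ega2.QCohLocal
import Groth.Agent.Ega2.FiniteSet
import Groth.Agent.Smoothlim.LineSec

set_option autoImplicit false
universe u
open CategoryTheory AlgebraicGeometry
open PicF

namespace Groth.Agent.S15287

open Groth.Agent.Fdesc.LocGen Groth.Agent.Ega2.TensGen Groth.Agent.Ega2.TensPow
  Groth.Agent.Ega2.AmpleGlobGen

/-- Let Y be a scheme proper over a field k carrying an ample invertible O_Y-module A, let L be an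
invertible O_Y-module and y_1, …, y_m finitely many points of Y. Then there is N₀ such that for
every N ≥ N₀ the module L ⊗ A^{⊗ N} has a global section generating it at every y_i (each y_i lies
in the largest open over which the section is a basis). (The published statement takes Y projective
over k and A very ample; this row takes Y proper over k and A ample.) -/
theorem result
    (k : Type u) [Field k] (Y : Scheme.{u}) (f : Y ⟶ Spec (CommRingCat.of k)) [IsProper f]
    (A : Y.Modules) (hA : CohB1.IsAmple A) (L : Y.Modules) (hL : PicF.IsInvertible L)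
    (ι : Type) [Finite ι] (y : ι → ↥Y) :
    ∃ N₀ : ℕ, ∀ N : ℕ, N₀ ≤ N →
      ∃ s : Coh.structureModule Y ⟶ CohB1.tensorMod L (CohB1.tensorPow A N),
        ∀ i : ι, y i ∈ CohB1.genLocus (CohB1.tensorMod L (CohB1.tensorPow A N)) s := by
  classical
  have hcomp : CompactSpace Y := hA.2.1
  have hqs := quasiSeparatedSpace_of_isAmple hA
  have hinv := hA.1
  obtain ⟨n, s, hys, -, haff⟩ := Ega2.FiniteSet.exists_affine_genLocus_of_finite hA (Set.range y)
    (Set.finite_range y) ⊤ (fun _ _ => trivial)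
  set W : Y.Opens := CohB1.genLocus _ s with hW
  have key : ∀ r : Fin (n + 1), ∃ m₀ : ℕ, ∀ m, m₀ ≤ m →
      ∃ t : Coh.structureModule Y ⟶ CohB1.tensorMod (CohB1.tensorMod L (CohB1.tensorPow A r))
        (CohB1.tensorPow (CohB1.tensorPow A (n + 1)) m), ∀ i, y i ∈ CohB1.genLocus _ t := by
    intro r
    have hLr := isInvertible_tensorMod hL (isInvertible_tensorPow hinv r)
    obtain ⟨g, hg⟩ := Smoothlim.LineSec.exists_genAt_finite hLr haff (Set.range y) (Set.finite_range y)
      (fun x hx => hys hx)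
    obtain ⟨m₀, hm₀⟩ := exists_extend_top (Ega2.QCohLocal.isQCoh_of_isInvertible hLr)
      (isInvertible_tensorPow hinv (n + 1)) s g
    refine ⟨m₀, fun m hm => ?_⟩
    obtain ⟨t', ht'⟩ := hm₀ m hm
    refine ⟨homOf t', fun i => ?_⟩
    obtain ⟨U, hU, hyU, hgU⟩ := hg (y i) ⟨i, rfl⟩
    refine (mem_genLocus_iff _ _).mpr ⟨U, hyU, ?_⟩
    rw [sec_homOf]
    have h1 := congrArg (res _ (hU : U ≤ CohB1.genLocus _ s)) ht'
    rw [res_res, res_tmul, res_pow, res_sec] at h1
    rw [h1]
    have h2 : IsGen (res _ hU g) := hgU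
    exact h2.tmul (((le_genLocus_iff s _).mp hU).pow m)
  choose m₀ hm₀ using key
  refine ⟨(n + 1) * Finset.univ.sup m₀, fun N hN => ?_⟩
  have hlt : N % (n + 1) < n + 1 := Nat.mod_lt _ (Nat.succ_pos n)
  have hdiv : Finset.univ.sup m₀ ≤ N / (n + 1) := by
    rw [Nat.le_div_iff_mul_le (Nat.succ_pos n), mul_comm]
    exact hN
  obtain ⟨t, ht⟩ := hm₀ ⟨N % (n + 1), hlt⟩ (N / (n + 1))
    ((Finset.le_sup (Finset.mem_univ _)).trans hdiv)
  let e : CohB1.tensorMod (CohB1.tensorMod L (CohB1.tensorPow A (N % (n + 1))))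
        (CohB1.tensorPow (CohB1.tensorPow A (n + 1)) (N / (n + 1))) ≅
      CohB1.tensorMod L (CohB1.tensorPow A N) :=
    Ega2.Tens.mapTIso (Iso.refl _) (powMul A (n + 1) (N / (n + 1))) ≪≫
    tensPowAdd L A (N % (n + 1)) ((n + 1) * (N / (n + 1))) ≪≫
    Ega2.Tens.mapTIso (Iso.refl L) (powCongr A (Nat.mod_add_div N (n + 1)))
  refine ⟨t ≫ e.hom, fun i => ?_⟩
  rw [Ega2.SecCalc.genLocus_comp]
  exact ht i

end Groth.Agent.S15287
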