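import Groth.Statements.S5029
import Groth.Agent.EGA2.K36.SymAlg
import Groth.Agent.Ega2.BasSec

set_option autoImplicit false
universe u
open CategoryTheory CategoryTheory.Limits AlgebraicGeometry TopologicalSpace
open Unram17

namespace Groth.Agent.S5029

open Groth.Agent.Ega2.BasSec Opposite

/-- The chart of the vector bundle over an affine open where `E` has a basis is smooth. -/
theorem smooth_chart {S : Scheme.{u}} (E : S.Modules) (hE : Coh.IsQCoh E) (A : RelSpec.QCAlg S)
    (j : E ⟶ A.toModule) (hA : RelSpec.IsSymAlg E A j) (U : S.Opens) (hU : IsAffineOpen U) {n : ℕ}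
    (b : Module.Basis (Fin n) Γ(S, U) Γ(E, U)) : Smooth (Spec.map (A.str.app (op U))) := by
  rw [HasRingHomProperty.Spec_iff (P := @Smooth)]
  have hb := K36.SymAlg.bijective_symHom hE hA U hU
  have h1 : (A.str.app (op U)).hom = (K36.SymAlg.symHom E A j U).comp
      ((SymmetricAlgebra.equivMvPolynomial b).symm.toRingEquiv.toRingHom.comp
        (algebraMap Γ(S, U) (MvPolynomial (Fin n) Γ(S, U)))) := by
    ext r
    have h2 := K36.SymAlg.symHom_algebraMap E A j U r
    rw [← h2]
    change _ = K36.SymAlg.symHom E A j U ((SymmetricAlgebra.equivMvPolynomial b).symm (algebraMap _ _ r))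
    rw [AlgEquiv.commutes]
  rw [h1]
  refine RingHom.Smooth.comp (RingHom.Smooth.comp ?_ (RingHom.Smooth.of_bijective
    (SymmetricAlgebra.equivMvPolynomial b).symm.bijective)) (RingHom.Smooth.of_bijective hb)
  rw [RingHom.smooth_algebraMap]
  exact ⟨inferInstance, inferInstance⟩

/-- Let S be a scheme and E a quasi-coherent O_S-module that is finite locally free. If A is a
quasi-coherent O_S-algebra which is the symmetric algebra of E (through j : E ⟶ A), then the
structure morphism of the relative spectrum of A, i.e. of the vector bundle V(E), is smooth. -/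
theorem result {S : Scheme.{u}} (E : S.Modules) (hE : Coh.IsQCoh E)
    (hlf : FlatMod.IsFinLocFree E) (A : RelSpec.QCAlg S) (j : E ⟶ A.toModule) (hA : RelSpec.IsSymAlg E A j) :
    Smooth A.π := by
  have hloc : ∀ s : S, ∃ (U : S.Opens) (hU : IsAffineOpen U), s ∈ U ∧ Smooth (A.ι U hU ≫ A.π) := by
    intro s
    obtain ⟨V, n, hsV, hV⟩ := hlf s
    obtain ⟨e, he⟩ := (nonempty_restrict_iso_freeMod_iff E n V).mp hV
    obtain ⟨U, hU, hsU, hUV⟩ := exists_isAffineOpen_mem_and_subset hsV
    obtain ⟨b, -⟩ := (comb_bijective_iff _).mp (he U hUV)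
    refine ⟨U, hU, hsU, ?_⟩
    have := smooth_chart E hE A j hA U hU b
    rw [A.ι_π U hU]
    infer_instance
  choose U hU hsU hs using hloc
  let 𝒰 : A.spec.OpenCover := Scheme.Cover.mkOfCovers S (fun s => Spec (A.presheaf.obj (op (U s))))
    (fun s => A.ι (U s) (hU s)) (fun x => by
      have hx : x ∈ A.π ⁻¹ᵁ (U (A.π x)) := hsU _
      rw [A.π_preimage (U (A.π x)) (hU (A.π x))] at hx
      obtain ⟨y, hy⟩ := hx
      exact ⟨A.π x, y, hy⟩) (fun s => inferInstance)
  exact IsZariskiLocalAtSource.of_openCover 𝒰 (fun s => hs s)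

end Groth.Agent.S5029
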