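import Groth.Statements.S14077
import Groth.Agent.FamCyc.K812.RigidGeo
import Groth.Agent.Picfga.IdealDescent
import Groth.Agent.Ega43.FPOfComp
import Groth.Agent.Sga3C.CWMain
import Mathlib.AlgebraicGeometry.Morphisms.LocalFlatDescent
-- import your own Groth.Agent.* helpers here

set_option autoImplicit false
open CategoryTheory CategoryTheory.Limits AlgebraicGeometry
universe u
open FamCyc

namespace Groth.Agent.S14077

open FamCyc.K812.RigidGeo

theorem flat_codescends : RingHom.CodescendsAlong.{u} RingHom.Flat RingHom.FaithfullyFlat := by
  refine RingHom.CodescendsAlong.mk _ RingHom.Flat.respectsIso fun R S T _ _ _ _ _ h h' ↦ ?_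
  rw [RingHom.flat_algebraMap_iff] at h' ⊢
  rw [RingHom.faithfullyFlat_algebraMap_iff] at h
  exact Module.Flat.of_flat_tensorProduct R T S

theorem flat_descends : MorphismProperty.DescendsAlong @Flat
    (@Surjective ⊓ @Flat ⊓ @QuasiCompact : MorphismProperty Scheme.{u}) :=
  HasRingHomProperty.descendsAlong_flat flat_codescends

/-- The ideal of a closed subscheme of finite presentation over the base is of finite type. -/
theorem ideal_fg {X S : Scheme.{u}} (f : X ⟶ S) [LocallyOfFiniteType f] (Z : X.IdealSheafData)
    [LocallyOfFinitePresentation (Z.subschemeι ≫ f)] (U : X.affineOpens) : (Z.ideal U).FG := by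
  have := Groth.Agent.Ega43.FPOfComp.locallyOfFinitePresentation_of_comp Z.subschemeι f
  have h := Groth.Agent.Sga3C.CWMain.fg_ker_ideal (j := Z.subschemeι) U
  rwa [Z.ker_subschemeι] at h

/-- `O = g_* O` universally for proper smooth morphisms with geometrically connected fibres. -/
theorem isIso_appTop {S G : Scheme.{u}} (g : G ⟶ S) [IsProper g] [Smooth g]
    [GeometricallyConnected g] : IsIso g.appTop := by
  have : GeometricallyReduced g := Groth.Agent.Flat2B.SmoothGeom.geometricallyReduced_of_smooth g
  refine Groth.Agent.S0981.result g (fun K _ _ a => ⟨?_, ?_⟩) ⊤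
  · exact GeometricallyReduced.geometrically_isReduced (f := g) a _ _ (.of_hasPullback _ _)
  · exact GeometricallyConnected.geometrically_connectedSpace (f := g) a _ _ (.of_hasPullback _ _)

/-- Let p : X ⟶ S be flat and locally of finite presentation and g : G ⟶ S proper and smooth with
geometrically connected fibres. Let S₀ ⟶ S be the closed subscheme defined by the nilradical, X₀ = X
×_S S₀, and Z₀ a closed subscheme of X₀, locally of finite presentation and flat over S₀. Let W be a
closed subscheme of X ×_S G, flat and locally of finite presentation over G, whose preimage in (X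
×_S G) ×_S S₀ coincides with the preimage of Z₀. Then there is exactly one closed subscheme Z of X,
flat and locally of finite presentation over S, whose preimage in X₀ is Z₀ and whose preimage in X
×_S G is W. (The published statement allows locally closed subschemes and asks W ⟶ G to be flat and
finitely presented only over a schematically dense open subset containing all points of relative
codimension one over Z₀; this row states the case where that open subset is all of W and the
subschemes are closed.) -/
theorem result {S X G : Scheme.{u}}
    (p : X ⟶ S) [Flat p] [LocallyOfFinitePresentation p]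
    (g : G ⟶ S) [IsProper g] [Smooth g] [GeometricallyConnected g]
    (Z₀ : (pullback p S.nilradical.subschemeι).IdealSheafData)
    [Flat (Z₀.subschemeι ≫ pullback.snd p S.nilradical.subschemeι)]
    [LocallyOfFinitePresentation (Z₀.subschemeι ≫ pullback.snd p S.nilradical.subschemeι)]
    (W : (pullback p g).IdealSheafData)
    [Flat (W.subschemeι ≫ pullback.snd p g)] [LocallyOfFinitePresentation (W.subschemeι ≫ pullback.snd p g)]
    (hW : W.comap (pullback.fst (pullback.fst p g ≫ p) S.nilradical.subschemeι) =
      Z₀.comap (pullback.map (pullback.fst p g ≫ p) S.nilradical.subschemeι p S.nilradical.subschemeι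
        (pullback.fst p g) (𝟙 _) (𝟙 S) (Category.comp_id _)
        ((Category.comp_id _).trans (Category.id_comp _).symm))) :
    ∃! Z : X.IdealSheafData, Flat (Z.subschemeι ≫ p) ∧ LocallyOfFinitePresentation (Z.subschemeι ≫ p) ∧
      Z.comap (pullback.fst p S.nilradical.subschemeι) = Z₀ ∧ Z.comap (pullback.fst p g) = W := by
  let f : pullback p g ⟶ X := pullback.fst p g
  have hcond : f ≫ p = pullback.snd p g ≫ g := pullback.condition
  have hWfl : Flat (W.subschemeι ≫ f ≫ p) := by
    rw [hcond, ← Category.assoc]
    infer_instance
  have hWfg : ∀ V, (W.ideal V).FG := fun V => ideal_fg (pullback.snd p g) W V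
  have hZ₀fg : ∀ U, (Z₀.ideal U).FG := fun U =>
    ideal_fg (pullback.snd p S.nilradical.subschemeι) Z₀ U
  have hf : ∀ (T : Scheme.{u}) [IsAffine T] (b : T ⟶ X), IsIso (pullback.snd f b).appTop :=
    fun T _ b => isIso_appTop (pullback.snd f b)
  have hmap : (W.map f).comap f = W := comap_map_eq f p hf W hWfl hWfg Z₀ hZ₀fg hW
  have hinj : Function.Injective (fun I : X.IdealSheafData => I.comap f) :=
    Groth.Agent.Picfga.IdealDescent.comap_injective_of_fpqc f
  let Z : X.IdealSheafData := W.map f
  have hQ : (@Surjective ⊓ @Flat ⊓ @QuasiCompact : MorphismProperty Scheme.{u}) g :=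
    ⟨⟨inferInstance, inferInstance⟩, inferInstance⟩
  -- the square `W → Z` over `G → S`
  have H1 := Groth.Agent.Picfga.IdealDescent.isPullback_comap f Z
  have H2 : IsPullback f (pullback.snd p g) p g := IsPullback.of_hasPullback p g
  have H3 := (H1.paste_vert H2).flip
  have hZW : Z.comap f = W := hmap
  have h1 : Flat ((Z.comap f).subschemeι ≫ pullback.snd p g) := by rw [hZW]; infer_instance
  have h2 : LocallyOfFinitePresentation ((Z.comap f).subschemeι ≫ pullback.snd p g) := by
    rw [hZW]; infer_instance
  have hfl : Flat (Z.subschemeι ≫ p) := by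
    have := flat_descends.{u}
    exact MorphismProperty.of_isPullback_of_descendsAlong (P := @Flat) H3 hQ h1
  have hlfp : LocallyOfFinitePresentation (Z.subschemeι ≫ p) :=
    MorphismProperty.of_isPullback_of_descendsAlong (P := @LocallyOfFinitePresentation) H3 hQ h2
  refine ⟨Z, ⟨hfl, hlfp, ?_, hZW⟩, fun Z' h => hinj (h.2.2.2.trans hZW.symm)⟩
  -- `Z` restricts to `Z₀`
  have H4 : IsPullback (g₀ f p) (pullback.fst (f ≫ p) S.nilradical.subschemeι)
      (pullback.fst p S.nilradical.subschemeι) f := by
    have h5 := (IsPullback.of_hasPullback (f ≫ p) S.nilradical.subschemeι).flip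
    have h6 := (IsPullback.of_hasPullback p S.nilradical.subschemeι).flip
    have h7 : g₀ f p ≫ pullback.snd p S.nilradical.subschemeι =
        pullback.snd (f ≫ p) S.nilradical.subschemeι :=
      (pullback.lift_snd _ _ _).trans (Category.comp_id _)
    rw [← h7] at h5
    exact IsPullback.of_right h5 (g₀_fst f p) h6
  have h3 : Flat (g₀ f p) := MorphismProperty.of_isPullback H4.flip inferInstance
  have h4 : Surjective (g₀ f p) := MorphismProperty.of_isPullback H4.flip inferInstance
  have h5 : QuasiCompact (g₀ f p) := MorphismProperty.of_isPullback H4.flip inferInstance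
  refine Groth.Agent.Picfga.IdealDescent.comap_injective_of_fpqc (g₀ f p) ?_
  dsimp only
  rw [← Scheme.IdealSheafData.comap_comp, g₀_fst, Scheme.IdealSheafData.comap_comp, hZW]
  exact hW

end Groth.Agent.S14077
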