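import Groth.Statements.S4457
import Groth.Agent.Coherent.K44.PushComp
import Groth.Agent.S0028
import Groth.Agent.S0030
import Groth.Agent.Dcoh.DerSch

set_option autoImplicit false
universe u
open Coherent

namespace Groth.Agent.S4457

open AlgebraicGeometry CategoryTheory in
/-- Let f : X → Y be a separated quasi-compact morphism, g : Y → Z an affine morphism and F a
quasi-coherent O_X-module. Then for every p ≥ 0, R^p (g ∘ f)_* F is isomorphic to g_*(R^p f_* F)
(higher direct images and direct image of the underlying abelian sheaves). The source shows that the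
canonical comparison map is an isomorphism; only the existence of an isomorphism is asserted here. -/
theorem result {X Y Z : Scheme.{u}} (f : X ⟶ Y) (g : Y ⟶ Z)
    [IsSeparated f] [QuasiCompact f] [IsAffineHom g] (F : X.Modules) [Coh.IsQCoh F] (p : ℕ) :
    Nonempty ((Coh.RpushAb (f ≫ g) p).obj (Coh.toAb F) ≅
      (Coh.pushAb g).obj ((Coh.RpushAb f p).obj (Coh.toAb F))) := by
  have := Groth.Agent.Dcoh.DerSch.hasInjectiveResolutions X
  refine K44.PushComp.rpushAb_comp_of_acyc_all f g (Coh.toAb F) (fun q => ?_) p
  obtain ⟨e⟩ := Groth.Agent.Ega3B.RpushAbCmp.nonempty_toAb_Rpush_iso f F q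
  have h1 : Coh.IsQCoh ((Coh.Rpush f q).obj F) := Groth.Agent.S0030.result f F q
  have h2 : Etcore.DerLES.Acyc (Coh.pushAb g) (Coh.toAb ((Coh.Rpush f q).obj F)) :=
    fun p => S0028.result g _ (p + 1) p.succ_pos
  exact h2.of_iso (Coh.pushAb g) e

end Groth.Agent.S4457
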