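import Groth.Statements.S15543
import Groth.Agent.Ega4fib.H149.FibreTopLoc

set_option autoImplicit false
open CategoryTheory AlgebraicGeometry
universe u
open ProCons

namespace Groth.Agent.S15543

/-- The ind-constructible case. Let f : X ⟶ Y be any morphism of schemes and T an ind-constructible
subset of Y (locally on Y a union of locally constructible subsets). Then the preimage of T under f
is ind-constructible in X. -/
theorem result {X Y : Scheme.{u}} (f : X ⟶ Y) (T : Set Y)
    (hT : ProCons.IsIndConstructible T) :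
    ProCons.IsIndConstructible (f.base ⁻¹' T) := by
  intro x
  obtain ⟨U, hU, hxU, S, hS, hTS⟩ := hT (f.base x)
  let U' : Y.Opens := ⟨U, hU⟩
  refine ⟨(f ⁻¹ᵁ U' : X.Opens), (f ⁻¹ᵁ U').2, hxU, (fun Z : Set ↥U => ((f ∣_ U').base ⁻¹' Z)) '' S,
    ?_, ?_⟩
  · rintro _ ⟨Z, hZ, rfl⟩
    exact Groth.Agent.Ega4fib.H149.FibreTopLoc.isLocallyConstructible_preimage (f ∣_ U') (hS Z hZ)
  · ext y
    have h1 : (show ↥U from (f ∣_ U').base y).1 ∈ T ↔ ∃ Z ∈ S, (show ↥U from (f ∣_ U').base y) ∈ Z :=
      Set.ext_iff.1 hTS ((f ∣_ U').base y)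
    have h2 : (show ↥U from (f ∣_ U').base y).1 = f.base y.1 := morphismRestrict_base_coe f U' y
    rw [h2] at h1
    simp only [Set.sUnion_image, Set.mem_iUnion, exists_prop]
    exact h1

end Groth.Agent.S15543
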