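import Groth.Statements.S5166
import Groth.Agent.S3433

set_option autoImplicit false
universe u
open LocCoh

namespace Groth.Agent.S5166

/-- In its local form at a point y ∈ Y (A = O_{X,y}). Let A be a Noetherian local ring and I ≠ A an
ideal contained in no minimal prime of A. Then some prime p ⊉ I has dim A/p = 1. -/
theorem result (A : Type u) [CommRing A] [IsLocalRing A] [IsNoetherianRing A] (I : Ideal A) (hI : I ≠ ⊤) (hdense : ∀ q ∈ minimalPrimes A, ¬ I ≤ q) : ∃ p : PrimeSpectrum A, ¬ I ≤ p.asIdeal ∧ ringKrullDim (A ⧸ p.asIdeal) = 1 := by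
  obtain ⟨q0, hq0⟩ := (Ideal.nonempty_minimalPrimes (I := (⊥ : Ideal A)) bot_ne_top)
  obtain ⟨f, hfI, hf⟩ := Set.not_subset.mp (hdense q0 hq0)
  have hq0p : q0.IsPrime := hq0.1.1
  let S : Set (Ideal A) := {q | Ideal.IsPrime q ∧ f ∉ q}
  obtain ⟨q, hq, hmax⟩ := set_has_maximal_iff_noetherian.mpr (inferInstance : IsNoetherian A A) S
    ⟨q0, hq0p, hf⟩
  have hqp : Ideal.IsPrime q := hq.1
  refine ⟨⟨q, hqp⟩, fun h => hq.2 (h hfI), ?_⟩
  refine Groth.Agent.S3433.dim_quot_eq_one (IsLocalRing.le_maximalIdeal hI hfI) q hq.2 ?_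
  intro q' hq' hle hf'
  by_contra hne
  exact hmax q' ⟨hq', hf'⟩ (lt_of_le_of_ne hle (Ne.symm hne))

end Groth.Agent.S5166
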