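import Groth.Statements.S19899
import Groth.Agent.Curves.K335.RegInj
import Groth.Agent.CurvesC.ReducedConnField
import Groth.Agent.Etcore.SmoothRed
import Groth.Agent.Ega1.ReducedSub
import Groth.Agent.S1602
import Groth.Agent.S1603
import Mathlib.AlgebraicGeometry.AlgClosed.Basic

set_option autoImplicit false
universe u
open CategoryTheory CategoryTheory.Limits AlgebraicGeometry
open Curves

namespace Groth.Agent.S19899

/-- Global functions on a reduced connected scheme, universally closed over an algebraically closed field, are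
constant. -/
theorem appTop_bijective {K : Type u} [Field K] [IsAlgClosed K] {X : Scheme.{u}} (f : X ⟶ Spec (CommRingCat.of K))
    [ConnectedSpace X] [AlgebraicGeometry.IsReduced X] [UniversallyClosed f] :
    Function.Bijective ((Scheme.ΓSpecIso (CommRingCat.of K)).inv ≫ f.appTop).hom := by
  have hfield := Groth.Agent.CurvesC.ReducedConnField.isField_of_universallyClosed f
  have hdom : IsDomain Γ(X, ⊤) := hfield.isDomain
  have hF : ((Scheme.ΓSpecIso (CommRingCat.of K)).inv ≫ f.appTop).hom.IsIntegral := by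
    apply RingHom.isIntegral_respectsIso.2 (e := (Scheme.ΓSpecIso _).symm.commRingCatIsoToRingEquiv)
    exact isIntegral_appTop_of_universallyClosed f
  exact IsAlgClosed.ringHom_bijective_of_isIntegral _ hF

theorem surjective_of_closed_dominant {X Y : Scheme.{u}} (f : X ⟶ Y) [UniversallyClosed f] [IsDominant f] :
    Surjective f := by
  constructor
  intro y
  have h1 : IsClosed (Set.range f) := f.isClosedMap.isClosed_range
  have h2 : closure (Set.range f) = Set.univ := f.denseRange.closure_range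
  rw [h1.closure_eq] at h2
  have h3 : y ∈ Set.range f := by rw [h2]; trivial
  exact h3

/-- The descent. -/
theorem descends
    (k : Type u) [Field k] [IsAlgClosed k] (C : Scheme.{u}) [C.Over (Spec (CommRingCat.of k))]
    [IsProper (C ↘ Spec (CommRingCat.of k))] [IsReduced C] [ConnectedSpace ↥C]
    (hdim : topologicalKrullDim ↥C = 1) (hgen : Curv2.genus k C = 0)
    (C' : Scheme.{u}) [C'.Over (Spec (CommRingCat.of k))] [Smooth (C' ↘ Spec (CommRingCat.of k))]
    (ν : C' ⟶ C) [IsFinite ν] (hν : ν ≫ (C ↘ Spec (CommRingCat.of k)) = C' ↘ Spec (CommRingCat.of k))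
    (U : C.Opens) (hU : Dense (U : Set ↥C)) (hU' : Dense ((ν ⁻¹ᵁ U : C'.Opens) : Set ↥C'))
    [IsIso (ν ∣_ U)]
    (ψ : C' ⟶ C') (hψ : ψ ≫ (C' ↘ Spec (CommRingCat.of k)) = C' ↘ Spec (CommRingCat.of k))
    (hfix : ∀ x : ↥C', ¬ IsRegularLocalRing (C.presheaf.stalk (ν.base x)) → ψ.base x = x) :
    ∃ φ : C ⟶ C, ν ≫ φ = ψ ≫ ν := by
  have hC'p : IsProper (C' ↘ Spec (CommRingCat.of k)) := by rw [← hν]; infer_instance
  have hsm : Smooth (ν ≫ (C ↘ Spec (CommRingCat.of k))) := by rw [hν]; infer_instance
  have hC'r : IsReduced C' := Groth.Agent.Etcore.SmoothRed.isReduced_of_smooth (C' ↘ Spec (CommRingCat.of k))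
  have hN : IsNoetherian C := Groth.Agent.Models.H58.NodalGlueGeo.isNoetherian (C ↘ Spec (CommRingCat.of k))
  have hN' : IsNoetherian C' := Groth.Agent.Models.H58.NodalGlueGeo.isNoetherian (C' ↘ Spec (CommRingCat.of k))
  have hdim' : topologicalKrullDim C' ≤ 1 :=
    (Groth.Agent.EtpbcA.CharPDim.dim_le_of_isIntegralHom ν).trans hdim.le
  -- `ν` is surjective
  have hνd : IsDominant ν := Groth.Agent.Models.H58.NodalGlueGeo.isDominant ν U hU
  have hνs : Surjective ν := surjective_of_closed_dominant ν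
  set p := C ↘ Spec (CommRingCat.of k) with hp
  -- the image of `C'` in `C × C`
  let i : C' ⟶ pullback p p := pullback.lift ν (ψ ≫ ν) (by rw [hν, Category.assoc, hν, hψ])
  have hi1 : i ≫ pullback.fst p p = ν := pullback.lift_fst _ _ _
  have hi2 : i ≫ pullback.snd p p = ψ ≫ ν := pullback.lift_snd _ _ _
  have hip : IsProper (i ≫ pullback.fst p p) := by rw [hi1]; infer_instance
  have hip' : IsProper i := IsProper.of_comp i (pullback.fst p p)
  have hΓr : IsReduced i.image := Groth.Agent.Ega1.ReducedSub.isReduced_image i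
  have hts : Surjective i.toImage := surjective_of_closed_dominant i.toImage
  let f : i.image ⟶ C := i.imageι ≫ pullback.fst p p
  have htf : i.toImage ≫ f = ν := by
    rw [← hi1]
    change i.toImage ≫ i.imageι ≫ pullback.fst p p = _
    rw [← Category.assoc, Scheme.Hom.toImage_imageι]
  have hfp : IsProper f := inferInstance
  -- `f` is an isomorphism over `U`
  have hcomp : IsIso (i.toImage ∣_ (f ⁻¹ᵁ U) ≫ f ∣_ U) := by
    rw [← morphismRestrict_comp]
    have : IsIso (ν ∣_ U) := inferInstance
    rw [← htf] at this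
    exact this
  have hsa : Surjective (i.toImage ∣_ (f ⁻¹ᵁ U)) := by
    have := IsZariskiLocalAtTarget.restrict (P := @Surjective) (f := i.toImage) hts (f ⁻¹ᵁ U)
    exact this
  have hca : IsClosedImmersion (i.toImage ∣_ (f ⁻¹ᵁ U)) :=
    IsClosedImmersion.of_comp (i.toImage ∣_ (f ⁻¹ᵁ U)) (f ∣_ U)
  have hia : IsIso (i.toImage ∣_ (f ⁻¹ᵁ U)) := isIso_of_isClosedImmersion_of_surjective _
  have hfU : IsIso (f ∣_ U) := IsIso.of_isIso_comp_left (i.toImage ∣_ (f ⁻¹ᵁ U)) (f ∣_ U)
  have hfU' : Dense ((f ⁻¹ᵁ U : i.image.Opens) : Set i.image) := by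
    have h1 : Dense (i.toImage '' ((ν ⁻¹ᵁ U : C'.Opens) : Set C')) :=
      hts.1.denseRange.dense_image i.toImage.continuous hU'
    refine h1.mono ?_
    rintro _ ⟨x, hx, rfl⟩
    change f (i.toImage x) ∈ U
    rw [← Scheme.Hom.comp_apply, htf]
    exact hx
  -- `f` is surjective and injective
  have hfs : Function.Surjective f := by
    intro y
    obtain ⟨x, hx⟩ := hνs.1 y
    refine ⟨i.toImage x, ?_⟩
    rw [← Scheme.Hom.comp_apply, htf]
    exact hx
  have hfi : Function.Injective f := by
    intro γ₁ γ₂ hγ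
    obtain ⟨x₁, rfl⟩ := hts.1 γ₁
    obtain ⟨x₂, rfl⟩ := hts.1 γ₂
    rw [← Scheme.Hom.comp_apply, ← Scheme.Hom.comp_apply, htf] at hγ
    by_cases hreg : IsRegularLocalRing (C.presheaf.stalk (ν x₁))
    · rw [K335.RegInj.eq_of_regular p ν hdim.le U hU hU' x₁ x₂ hγ hreg]
    have hreg2 : ¬ IsRegularLocalRing (C.presheaf.stalk (ν x₂)) := hγ ▸ hreg
    have hnot : ∀ x : C', ¬ IsRegularLocalRing (C.presheaf.stalk (ν x)) → ν x ∉ U := by
      intro x hx hxU
      apply hx
      have h1 : IsRegularLocalRing (C'.presheaf.stalk x) :=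
        (Groth.Agent.VarietyA.SmoothReg.mem_smoothLocus_iff_of_perfectField (ν ≫ p) x).1
          (by rw [(ν ≫ p).smoothLocus_eq_top]; trivial)
      have h2 := K335.RegInj.isIso_stalkMap ν U x hxU
      exact IsRegularLocalRing.of_ringEquiv (asIso (ν.stalkMap x)).commRingCatIsoToRingEquiv.symm
    have hcl : ∀ x : C', ¬ IsRegularLocalRing (C.presheaf.stalk (ν x)) → IsClosed ({x} : Set C') := fun x hx =>
      Groth.Agent.Models.H58.NodalGlueGeo.isClosed_of_notMem hdim' (ν ⁻¹ᵁ U) hU' x (hnot x hx)
    have hq : LocallyOfFiniteType (C' ↘ Spec (CommRingCat.of k)) := inferInstance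
    let g₁ := pointOfClosedPoint (C' ↘ Spec (CommRingCat.of k)) x₁ (hcl x₁ hreg)
    let g₂ := pointOfClosedPoint (C' ↘ Spec (CommRingCat.of k)) x₂ (hcl x₂ hreg2)
    have hg₁ : g₁ ≫ (C' ↘ Spec (CommRingCat.of k)) = 𝟙 _ := pointOfClosedPoint_comp _ _ _
    have hg₂ : g₂ ≫ (C' ↘ Spec (CommRingCat.of k)) = 𝟙 _ := pointOfClosedPoint_comp _ _ _
    have ha₁ : ∀ a, g₁ a = x₁ := pointOfClosedPoint_apply _ _ _
    have ha₂ : ∀ a, g₂ a = x₂ := pointOfClosedPoint_apply _ _ _
    have hgg : g₁ ≫ i = g₂ ≫ i := by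
      apply pullback.hom_ext
      · rw [Category.assoc, Category.assoc, hi1]
        refine ext_of_apply_closedPoint_eq p ?_ ?_ ?_
        · rw [Category.assoc, hν, hg₁]
        · rw [Category.assoc, hν, hg₂]
        · rw [Scheme.Hom.comp_apply, Scheme.Hom.comp_apply, ha₁, ha₂]
          exact hγ
      · rw [Category.assoc, Category.assoc, hi2]
        refine ext_of_apply_closedPoint_eq p ?_ ?_ ?_
        · rw [Category.assoc, Category.assoc, hν, hψ, hg₁]
        · rw [Category.assoc, Category.assoc, hν, hψ, hg₂]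
        · rw [Scheme.Hom.comp_apply, Scheme.Hom.comp_apply, Scheme.Hom.comp_apply, Scheme.Hom.comp_apply, ha₁, ha₂]
          have e1 : ψ x₁ = x₁ := hfix x₁ hreg
          have e2 : ψ x₂ = x₂ := hfix x₂ hreg2
          rw [e1, e2]
          exact hγ
    apply i.imageι.isClosedEmbedding.injective
    rw [← Scheme.Hom.comp_apply, ← Scheme.Hom.comp_apply, Scheme.Hom.toImage_imageι]
    have h3 := congr($hgg (IsLocalRing.closedPoint k))
    rw [Scheme.Hom.comp_apply, Scheme.Hom.comp_apply, ha₁, ha₂] at h3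
    exact h3
  -- `Γ` is connected
  have hconn : ConnectedSpace i.image := by
    let e := (Equiv.ofBijective f ⟨hfi, hfs⟩).toHomeomorphOfContinuousClosed f.continuous f.isClosedMap
    exact e.symm.surjective.connectedSpace e.symm.continuous
  let _ : i.image.Over (Spec (CommRingCat.of k)) := ⟨f ≫ p⟩
  have hf : f ≫ (C ↘ Spec (CommRingCat.of k)) = i.image ↘ Spec (CommRingCat.of k) := rfl
  have hprop : IsProper (f ≫ p) := inferInstance
  have h0 : Function.Surjective (f.app ⊤).hom := by
    intro s
    obtain ⟨c, hc⟩ := (appTop_bijective (f ≫ p)).2 s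
    refine ⟨((Scheme.ΓSpecIso (CommRingCat.of k)).inv ≫ p.appTop).hom c, ?_⟩
    rw [← hc]
    have h4 : (f ≫ p).appTop = p.appTop ≫ f.appTop := Scheme.Hom.comp_appTop f p
    rw [h4]
    rfl
  have h1 : Curv2.genus k i.image = Curv2.genus k C := by
    have := Groth.Agent.S1602.result k C i.image hdim.le f hf U hU hfU' hfU
    rw [hgen] at this ⊢
    exact Nat.le_zero.mp this
  have hiso : IsIso f := Groth.Agent.S1603.result k C i.image hdim.le f hf U hU hfU' hfU h0 h1
  refine ⟨inv f ≫ i.imageι ≫ pullback.snd p p, ?_⟩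
  rw [← htf, Category.assoc, IsIso.hom_inv_id_assoc, ← Category.assoc, Scheme.Hom.toImage_imageι, hi2, htf]

/-- Let k be an algebraically closed field and C a reduced, connected scheme proper over k of dimension
one with H¹(C, O_C) = 0 (a curve of arithmetic genus zero), and let ν : C' → C be its normalization,
given as a finite morphism over k from a smooth k-scheme C' that restricts to an isomorphism over a
dense open subset U of C whose preimage is dense in C'. Let ψ be an automorphism of C' over k fixing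
every point of C' that lies over a singular point of C (a point whose local ring is not regular).
Then ψ descends to C: there is a unique endomorphism φ of C with ν ∘ ψ = φ ∘ ν, and φ is an
automorphism. (The source states the resulting group isomorphism between the automorphisms of the
pointed curve C fixing each irreducible component and each singular point and the automorphisms of
C' fixing each component and each point above a marked or singular point; the descent statement here
is its non-trivial half and needs neither the marked points nor the condition on components.) -/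
theorem result
    (k : Type u) [Field k] [IsAlgClosed k] (C : Scheme.{u}) [C.Over (Spec (CommRingCat.of k))]
    [IsProper (C ↘ Spec (CommRingCat.of k))] [IsReduced C] [ConnectedSpace ↥C]
    (hdim : topologicalKrullDim ↥C = 1) (hgen : Curv2.genus k C = 0)
    (C' : Scheme.{u}) [C'.Over (Spec (CommRingCat.of k))] [Smooth (C' ↘ Spec (CommRingCat.of k))]
    (ν : C' ⟶ C) [IsFinite ν] (hν : ν ≫ (C ↘ Spec (CommRingCat.of k)) = C' ↘ Spec (CommRingCat.of k))
    (U : C.Opens) (hU : Dense (U : Set ↥C)) (hU' : Dense ((ν ⁻¹ᵁ U : C'.Opens) : Set ↥C'))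
    [IsIso (ν ∣_ U)]
    (ψ : C' ≅ C') (hψ : ψ.hom ≫ (C' ↘ Spec (CommRingCat.of k)) = C' ↘ Spec (CommRingCat.of k))
    (hfix : ∀ x : ↥C', ¬ IsRegularLocalRing (C.presheaf.stalk (ν.base x)) → ψ.hom.base x = x) :
    ∃! φ : C ⟶ C, ν ≫ φ = ψ.hom ≫ ν ∧ IsIso φ := by
  obtain ⟨φ, hφ⟩ := descends k C hdim hgen C' ν hν U hU hU' ψ.hom hψ hfix
  have hψ' : ψ.inv ≫ (C' ↘ Spec (CommRingCat.of k)) = C' ↘ Spec (CommRingCat.of k) := by
    rw [Iso.inv_comp_eq, hψ]
  have hfix' : ∀ x : ↥C', ¬ IsRegularLocalRing (C.presheaf.stalk (ν.base x)) → ψ.inv.base x = x := by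
    intro x hx
    have h1 := hfix x hx
    have h2 : ψ.inv (ψ.hom x) = x := by
      rw [← Scheme.Hom.comp_apply, Iso.hom_inv_id]
      rfl
    have h3 : ψ.hom x = x := h1
    rw [h3] at h2
    exact h2
  obtain ⟨φ', hφ'⟩ := descends k C hdim hgen C' ν hν U hU hU' ψ.inv hψ' hfix'
  have hνd : IsDominant ν := Groth.Agent.Models.H58.NodalGlueGeo.isDominant ν U hU
  have hCsep : C.IsSeparated := by
    constructor
    have h1 : terminal.from C = (C ↘ Spec (CommRingCat.of k)) ≫ terminal.from _ := Subsingleton.elim _ _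
    rw [h1]
    infer_instance
  have huniq : ∀ a b : C ⟶ C, ν ≫ a = ν ≫ b → a = b := fun a b hab => ext_of_isDominant ν hab
  refine ⟨φ, ⟨hφ, ⟨φ', ?_, ?_⟩⟩, fun φ'' h => huniq _ _ (h.1.trans hφ.symm)⟩
  · apply huniq
    rw [← Category.assoc, hφ, Category.assoc, hφ', Iso.hom_inv_id_assoc, Category.comp_id]
  · apply huniq
    rw [← Category.assoc, hφ', Category.assoc, hφ, Iso.inv_hom_id_assoc, Category.comp_id]

end Groth.Agent.S19899
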