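import Groth.Statements.S16819
import Groth.Agent.AlgSt.K600.FinCov

set_option autoImplicit false
universe u
open AlgSt

namespace Groth.Agent.S16819

open CategoryTheory AlgebraicGeometry in
/-- Let S be a Noetherian scheme and 𝒳 a Deligne–Mumford stack over (Sch/S) for the etale topology which
is separated over S (diagonal over S representable by algebraic spaces and proper), locally of
finite type over S and quasi-compact. Then there are a scheme Z over S and a functor (Sch/Z) → 𝒳
over (Sch/S) which is representable by algebraic spaces, finite and surjective. The source states in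
addition that the cover may be chosen generically etale; that refinement is not stated here. -/
theorem result (S : Scheme.{u}) [IsNoetherian S]
    (𝒳 : AlgSt.Cat S) (h𝒳 : AlgSt.IsDM Scheme.etalePrecoverage 𝒳) (hsep : AlgSt.IsSeparatedOver 𝒳)
    (hft : AlgSt.LocQ (AlgSp.LocP @LocallyOfFiniteType) (FibCat.toSelf 𝒳))
    (hqc : AlgSt.IsQuasiCompact 𝒳) :
    ∃ (Z : Over S) (z : FibCat.overCat Z ⥤ᵇ 𝒳),
      AlgSt.RepByAlgSpWith AlgSp.IsFiniteMor z ∧ AlgSt.RepByAlgSpWith AlgSp.IsSurjectiveMor z := by
  exact K600.FinCov.main h𝒳 hsep hft hqc

end Groth.Agent.S16819
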