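import Groth.Statements.S16750
import Groth.Agent.CurvSt.K897.GenIso
import Groth.Agent.CurvSt.K897.SteinMap
import Groth.Agent.S3328
import Groth.Agent.S3336

set_option autoImplicit false
universe u
open CurvSt

namespace Groth.Agent.S16750

attribute [-instance] CategoryTheory.catToReflQuiver

open CategoryTheory CategoryTheory.Limits AlgebraicGeometry in
/-- For a discrete valuation ring R, K its field of fractions, and a curve C over K which is proper,
smooth, integral and of dimension one (the source says projective, which for curves over a field is
the same) and has H^0(C, O_C) = K and genus g = dim_K H^1(C, O_C) ≥ 2, C has semistable reduction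
over R (some proper model of C is an at-worst-nodal family of relative dimension one over R) if and
only if there is a model Y → Spec R of C (flat, of finite type, with generic fibre C) which is a
stable curve of genus g over Spec R in the sense of a flat proper finitely presented morphism of
schemes Y → Spec R whose geometric fibres are connected nodal curves of dimension one and arithmetic
genus g in which every smooth rational component meets the other components in at least three
points. -/
theorem result (R : Type u) [CommRing R] [IsDomain R] [IsDiscreteValuationRing R]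
    (C : Scheme.{u}) (f : C ⟶ Spec (CommRingCat.of (FractionRing R)))
    (hC : Curve.IsSmoothProperCurve (FractionRing R) C f) (hH0 : IsIso f.appTop)
    (hg : 2 ≤ Models.curveGenus (FractionRing R) C f) :
    Models.HasSemistableReduction R C f ↔
      ∃ (Y : Scheme.{u}) (q : Y ⟶ Spec (CommRingCat.of R)), Models.IsModel R Y q C f ∧
        CurvSt.IsStableFam q (Fin.elim0 : Fin 0 → (Spec (CommRingCat.of R) ⟶ Y)) (fun i => i.elim0)
          (Models.curveGenus (FractionRing R) C f) := by
  constructor
  · intro hss
    obtain ⟨X, p, hX⟩ := Groth.Agent.S3328.result R C f hC hH0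
    have hnod := Groth.Agent.S3336.result R C X f p hC hH0 hss hX
    obtain ⟨⟨hM, hpr, hreg⟩, hexc⟩ := hX
    obtain ⟨hfl, hlft, hqc, gC, hgC⟩ := hM
    have hgeo := K897.GeoGen.geoGenus R C X f p hC hH0 gC hgC hnod
    obtain ⟨w, hw, hform⟩ := K897.OmegaFam.exists_omega p hnod
    obtain ⟨hvan, hgg⟩ := K897.ModelFib.vanish_gg p hnod hg hgeo hreg hexc hw hform 2 le_rfl
    have hL := Groth.Agent.Fdesc.LocGen.isInvertible_tensorPow hw 2
    obtain ⟨Y, c, q, n, s, V, rfl, hc, hq, hO, hcov, hV, hs⟩ := K897.SteinMap.exists_stein p hL hgg
    have hst := K897.FamContr.isStableFam c q hO hnod hg hgeo hw hform 2 two_pos hvan s V hcov hV hs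
      (Fin.elim0 : Fin 0 → (Spec (CommRingCat.of R) ⟶ Y)) (fun i => i.elim0)
    exact ⟨Y, q, K897.GenIso.isModel c q hC gC hgC hO hnod hgeo hL hvan s V hcov hs
      (K898.StabFam.geoGenus_of_isStableFam hst), hst⟩
  · rintro ⟨Y, q, hM, hst⟩
    have h1 : Flat q := hst.1
    have h2 : IsProper q := hst.2.1
    have h3 : LocallyOfFinitePresentation q := hst.2.2.1
    exact ⟨Y, q, hM, hst.2.1, K898.StabFam.isNodalFamily q (K898.StabFam.geoGenus_of_isStableFam hst)⟩

end Groth.Agent.S16750
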