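import Groth.Statements.S16748
import Groth.Agent.S16750
import Groth.Agent.S3333
import Groth.Agent.Models.H74.CurveBC

set_option autoImplicit false
universe u
open CurvSt

namespace Groth.Agent.S16748

attribute [-instance] CategoryTheory.catToReflQuiver

open CategoryTheory CategoryTheory.Limits AlgebraicGeometry in
/-- For a discrete valuation ring R, K its field of fractions, and a curve C over K which is proper,
smooth, integral and of dimension one (the source says projective, which for curves over a field is
the same) and has H^0(C, O_C) = K and genus g = dim_K H^1(C, O_C) ≥ 2, there are an extension of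
discrete valuation rings R → R' (an injective local homomorphism) with a compatible homomorphism of
fraction fields K → K' which is finite separable, and a model Y → Spec R' of the base change C_{K'}
(flat, of finite type, with generic fibre C_{K'}) which is a stable curve of genus g over Spec R' in
the sense of a flat proper finitely presented morphism of schemes Y → Spec R' whose geometric fibres
are connected nodal curves of dimension one and arithmetic genus g in which every smooth rational
component meets the other components in at least three points. -/
theorem result (R : Type u) [CommRing R] [IsDomain R] [IsDiscreteValuationRing R]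
    (C : Scheme.{u}) (f : C ⟶ Spec (CommRingCat.of (FractionRing R)))
    (hC : Curve.IsSmoothProperCurve (FractionRing R) C f) (hH0 : IsIso f.appTop)
    (hg : 2 ≤ Models.curveGenus (FractionRing R) C f) :
    ∃ (R' : Type u) (_ : CommRing R') (_ : IsDomain R') (_ : IsDiscreteValuationRing R')
      (φ : R →+* R') (ψ : FractionRing R →+* FractionRing R'),
      Models.IsDVRExtension R φ ∧
      ψ.comp (algebraMap R (FractionRing R)) = (algebraMap R' (FractionRing R')).comp φ ∧
      Models.IsFiniteSeparable ψ ∧
      ∃ (Y : Scheme.{u}) (q : Y ⟶ Spec (CommRingCat.of R')),
        Models.IsModel R' Y q (pullback f (Spec.map (CommRingCat.ofHom ψ)))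
          (pullback.snd f (Spec.map (CommRingCat.ofHom ψ))) ∧
        CurvSt.IsStableFam q (Fin.elim0 : Fin 0 → (Spec (CommRingCat.of R') ⟶ Y)) (fun i => i.elim0)
          (Models.curveGenus (FractionRing R) C f) := by
  obtain ⟨R', i1, i2, i3, φ, ψ, h1, h2, h3, h4⟩ := Groth.Agent.S3333.result R C f hC hH0
  refine ⟨R', i1, i2, i3, φ, ψ, h1, h2, h3, ?_⟩
  have hfp : IsProper f := hC.1
  let _ : Algebra (FractionRing R) (FractionRing R') := ψ.toAlgebra
  have hfd : FiniteDimensional (FractionRing R) (FractionRing R') := h3.1
  have hpb : IsPullback (pullback.fst f (Spec.map (CommRingCat.ofHom ψ)))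
      (pullback.snd f (Spec.map (CommRingCat.ofHom ψ))) f
      (Spec.map (CommRingCat.ofHom (algebraMap (FractionRing R) (FractionRing R')))) :=
    IsPullback.of_hasPullback _ _
  have hC' := Groth.Agent.Models.H74.CurveBC.isSmoothProperCurve f hpb hC
  have hH0' := Groth.Agent.Models.H74.CurveBC.isIso_appTop f hpb
  have hgen := Groth.Agent.Models.H74.CurveBC.curveGenus_eq f hpb
  have key := (Groth.Agent.S16750.result R' _ _ hC' hH0' (hg.trans hgen.ge)).1 h4
  rw [hgen] at key
  exact key

end Groth.Agent.S16748
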