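import Groth.Statements.S4880
import Groth.Agent.EGA43.K122.IsolatedPt
import Groth.Agent.Sga3C.DimTop
import Groth.Agent.Localalg.GrpDim

set_option autoImplicit false
universe u
open CategoryTheory AlgebraicGeometry
open EGA43

namespace Groth.Agent.S4880

/-- a Noetherian ring with finitely many primes has dimension at most one -/
theorem ringKrullDim_le_one_of_finite (A : Type u) [CommRing A] [IsNoetherianRing A]
    [Finite (PrimeSpectrum A)] : ringKrullDim A ≤ 1 := by
  classical
  rw [show (1 : WithBot ℕ∞) = ((1 : ℕ∞) : WithBot ℕ∞) from rfl, ringKrullDim_le_iff_height_le]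
  intro q hq
  by_contra hcon
  have hfin : {r : PrimeSpectrum A | r.asIdeal.height ≤ 1}.Finite := Set.toFinite _
  have hnot : ¬ ∃ i ∈ {r : PrimeSpectrum A | r.asIdeal.height ≤ 1}, q ≤ i.asIdeal := by
    rintro ⟨i, hi, hle⟩
    apply hcon
    have h1 := (Ideal.height_mono hle).trans hi
    exact_mod_cast h1
  rw [← Ideal.subset_union_prime_finite hfin (f := fun i => i.asIdeal) ⟨q, hq⟩ ⟨q, hq⟩
    (fun i hi _ _ => i.isPrime), Set.not_subset] at hnot
  obtain ⟨g, hgQ, hg⟩ := hnot
  simp only [Set.mem_iUnion, not_exists] at hg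
  have hgQ' : Ideal.span {g} ≤ q := (Ideal.span_singleton_le_iff_mem q).2 hgQ
  obtain ⟨r, hr, hrq⟩ := Ideal.exists_minimalPrimes_le hgQ'
  have hgr : g ∈ r := hr.1.2 (Ideal.mem_span_singleton_self g)
  have hrp : r.IsPrime := hr.1.1
  have hht := Ideal.height_le_one_of_isPrincipal_of_mem_minimalPrimes (Ideal.span {g}) r hr
  exact hg ⟨r, hrp⟩ hht hgr

theorem dim_le_one_of_finite (X : Scheme.{u}) [IsNoetherian X] [Finite X] :
    topologicalKrullDim X ≤ 1 := by
  rw [Groth.Agent.Sga3C.DimTop.topologicalKrullDim_eq_krullDim,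
    @Order.krullDim_eq_iSup_coheight]
  refine iSup_le fun x => ?_
  have h1 : ringKrullDim (X.presheaf.stalk x) = Order.coheight x := ringKrullDim_stalk_eq_coheight x
  have hfin : Finite (PrimeSpectrum (X.presheaf.stalk x)) :=
    Finite.of_injective (X.fromSpecStalk x) (X.fromSpecStalk x).isEmbedding.injective
  have h2 := ringKrullDim_le_one_of_finite (X.presheaf.stalk x)
  rw [h1] at h2
  exact h2

theorem isClosed_of_dim_le_one (X : Scheme.{u}) [IrreducibleSpace X]
    (h : topologicalKrullDim X ≤ 1) (x : X) (hx : x ≠ genericPoint X) : IsClosed ({x} : Set X) := by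
  rw [← closure_subset_iff_isClosed]
  intro z hz
  by_contra hne
  have hxz : x ⤳ z := specializes_iff_mem_closure.mpr hz
  have h1 : x < genericPoint X := by
    refine lt_of_le_not_ge (genericPoint_specializes x) ?_
    intro hle
    exact hx (((genericPoint_specializes x).antisymm hle).eq).symm
  have h2 : z < x := by
    refine lt_of_le_not_ge hxz ?_
    intro hle
    exact hne (hxz.antisymm hle).eq.symm
  have h3 := Order.coheight_add_one_le h1
  have h4 := Order.coheight_add_one_le h2
  have h5 : ((Order.coheight z : ℕ∞) : WithBot ℕ∞) ≤ topologicalKrullDim X := by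
    rw [Groth.Agent.Localalg.GrpDim.topologicalKrullDim_eq, Order.krullDim_eq_iSup_coheight]
    exact le_iSup (fun a : X => ((Order.coheight a : ℕ∞) : WithBot ℕ∞)) z
  have h6 : (Order.coheight z : ℕ∞) ≤ 1 := by
    have := h5.trans h
    exact_mod_cast this
  have h7 : (1 : ℕ∞) + 1 ≤ 1 := by
    calc (1 : ℕ∞) + 1 ≤ Order.coheight x + 1 := by
          gcongr
          exact le_trans (by simp) h3
      _ ≤ Order.coheight z := h4
      _ ≤ 1 := h6
  exact absurd h7 (by decide)

/-- For a Noetherian irreducible scheme X the following are equivalent: a) the generic point of X is an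
isolated point; b) the underlying set of X is finite; c) X has dimension at most 1 and finitely many
closed points. -/
theorem result (X : Scheme.{u}) [IsNoetherian X]
    [IrreducibleSpace X] :
    [IsOpen ({genericPoint X} : Set X),
      Finite X,
      topologicalKrullDim X ≤ 1 ∧ {x : X | IsClosed ({x} : Set X)}.Finite].TFAE := by
  tfae_have 1 → 2 := by
    intro h
    have := K122.IsolatedPt.finite_closure X (genericPoint X) h.isLocallyClosed
    rw [genericPoint_closure] at this
    exact Set.finite_univ_iff.mp this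
  tfae_have 2 → 3 := by
    intro h
    exact ⟨dim_le_one_of_finite X, Set.toFinite _⟩
  tfae_have 3 → 1 := by
    rintro ⟨h1, h2⟩
    have h3 : ({genericPoint X} : Set X)ᶜ = {x : X | IsClosed ({x} : Set X)} \ {genericPoint X} := by
      ext x
      simp only [Set.mem_compl_iff, Set.mem_singleton_iff, Set.mem_sdiff, Set.mem_ofPred_eq]
      constructor
      · intro hx
        exact ⟨isClosed_of_dim_le_one X h1 x hx, hx⟩
      · rintro ⟨-, hx⟩
        exact hx
    have h4 : IsClosed ({x : X | IsClosed ({x} : Set X)} \ {genericPoint X}) := by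
      rw [← Set.biUnion_of_singleton ({x : X | IsClosed ({x} : Set X)} \ {genericPoint X})]
      exact (h2.subset Set.sdiff_subset).isClosed_biUnion (fun x hx => hx.1)
    rw [← isClosed_compl_iff, h3]
    exact h4
  tfae_finish

end Groth.Agent.S4880
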