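import Groth.Statements.S9800
import Groth.Agent.Props.K592.NormLow

set_option autoImplicit false
universe u
open CategoryTheory AlgebraicGeometry TopologicalSpace
open Props

namespace Groth.Agent.S9800

/-- A locally Noetherian normal scheme of dimension at most one is regular, that is, all of its local
rings are regular local rings. -/
theorem result (X : Scheme.{u})
    [IsLocallyNoetherian X] (hN : Pi1.IsNormalScheme X) (hd : topologicalKrullDim X ≤ 1) (x : X) :
    IsRegularLocalRing (X.presheaf.stalk x) := by
  have := (hN x).1
  have := (hN x).2
  exact K592.NormLow.isRegular_of_normal _ ((K592.NormLow.ringKrullDim_stalk_le X x).trans hd)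

end Groth.Agent.S9800
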