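import Groth.Statements.S16733
import Groth.Agent.Curves.K330.EtProj

set_option autoImplicit false
universe u
open Curves

namespace Groth.Agent.S16733

open CategoryTheory CategoryTheory.Limits AlgebraicGeometry in
/-- Let f : C → S be a flat, proper morphism of schemes, locally of finite presentation, whose fibres
all have dimension at most one (the source takes families of curves, with fibres of dimension
exactly one, and allows the total space to be an algebraic space; the same argument covers fibres of
dimension at most one). Then f is projective étale-locally on S: for every s ∈ S there are an affine
scheme S' and an étale morphism e : S' → S with s in its image such that the base change C ×_S S' →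
S' factors as a closed immersion into a projective space P^N_{S'} followed by the projection. -/
theorem result {C S : Scheme.{u}} (f : C ⟶ S) [Flat f] [IsProper f]
    [LocallyOfFinitePresentation f] (hdim : ∀ s : S, topologicalKrullDim ↥(f.fiber s) ≤ 1) (s : S) :
    ∃ (S' : Scheme.{u}) (e : S' ⟶ S), IsAffine S' ∧ Etale e ∧ s ∈ Set.range e.base ∧
      RelProj.IsHProjective (pullback.snd f e) := by
  obtain ⟨T, g, t, hT, hg, hP⟩ := K330.EtDiv.exists_etaleNbhd_isHProjective f s (hdim s)
  exact ⟨T, g, hT, hg.etale, ⟨t, hg.base_eq⟩, hP⟩

end Groth.Agent.S16733
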