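import Groth.Statements.S15990
import Groth.Agent.S1184
-- import your own Groth.Agent.* helpers here

set_option autoImplicit false
universe u
open SDiv

namespace Groth.Agent.S15990

open AlgebraicGeometry CategoryTheory in
/-- Let f : X → Y be separated and smooth of relative dimension 1 and let σ : Y → X be a section of f.
Then σ(Y) is a relative effective Cartier divisor on X/Y: the kernel ideal sheaf of the closed
immersion σ is the ideal sheaf of an effective Cartier divisor (locally on affine opens generated by
one nonzerodivisor) and the closed subscheme it defines is flat over Y. (The source adds the special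
case of the diagonal of X ×_Y X, a section of the first projection.) -/
theorem result
    {X Y : Scheme.{u}} (f : X ⟶ Y) [IsSeparated f] [SmoothOfRelativeDimension 1 f]
    (σ : Y ⟶ X) (hσ : σ ≫ f = 𝟙 Y) :
    BlowUp.IsEffCartierIdeal σ.ker ∧ Flat (σ.ker.subschemeι ≫ f) := by
  have hcl : IsClosedImmersion (σ ≫ f) := by rw [hσ]; infer_instance
  have : IsClosedImmersion σ := IsClosedImmersion.of_comp σ f
  have hiso : IsIso σ.toImage := inferInstance
  have h1 : σ.toImage ≫ σ.ker.subschemeι ≫ f = 𝟙 Y := by
    rw [← hσ, ← Category.assoc]
    congr 1
    exact σ.toImage_imageι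
  have h2 : σ.ker.subschemeι ≫ f = inv σ.toImage := by
    rw [← cancel_epi σ.toImage, h1, IsIso.hom_inv_id]
  refine (Groth.Agent.S1184.result f σ.ker).1.mpr ?_
  rw [h2]
  exact ⟨inferInstance, inferInstance, inferInstance⟩

end Groth.Agent.S15990
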