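import Groth.Statements.S10869
import Groth.Agent.Sga67.PushLocal
import Groth.Agent.Sga67.SerreVB
import Groth.Agent.VarietyB.GGStalk
import Groth.Agent.Ega1.QcqsPush
import Groth.Agent.PerfA.QCohSerre

set_option autoImplicit false
universe u
open Coh

namespace Groth.Agent.S10869

open CategoryTheory CategoryTheory.Limits AlgebraicGeometry

/-- On an affine scheme a quasi-coherent module is generated by its global sections. -/
theorem isGloballyGenerated_of_isAffine {X : Scheme.{u}} [IsAffine X] (M : X.Modules)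
    (hM : Coh.IsQCoh M) : Curv2.IsGloballyGenerated M := by
  refine Groth.Agent.Ega2.GlobGenCrit.isGloballyGenerated_of_span hM (ι := PUnit.{1})
    (fun _ => ⊤) (fun _ => isAffineOpen_top X) (by simp) (fun _ => ?_)
  rw [eq_top_iff]
  rintro m -
  refine Submodule.subset_span ⟨m, ?_⟩
  exact Groth.Agent.Fdesc.LocGen.res_refl M m

theorem isGloballyGenerated_of_epi {X : Scheme.{u}} {M N : X.Modules} (φ : M ⟶ N) [Epi φ]
    (h : Curv2.IsGloballyGenerated M) : Curv2.IsGloballyGenerated N := by
  obtain ⟨κ, p, hp⟩ := h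
  exact ⟨κ, p ≫ φ, @epi_comp _ _ _ _ _ p hp φ ‹_›⟩

open CategoryTheory AlgebraicGeometry in
/-- For f : X → S quasi-compact and quasi-separated and F a quasi-coherent O_X-module, the counit
f^*f_*F → F is an epimorphism iff F is a quotient of f^*G for some quasi-coherent O_S-module G, iff
the restriction of F to the inverse image of every affine open of S is globally generated. -/
theorem result {X S : Scheme.{u}} (f : X ⟶ S) [QuasiCompact f] [QuasiSeparated f]
    (F : X.Modules) (hF : Coh.IsQCoh F) :
    (Epi ((Scheme.Modules.pullbackPushforwardAdjunction f).counit.app F) ↔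
      ∃ G : S.Modules, Coh.IsQCoh G ∧ ∃ φ : (Scheme.Modules.pullback f).obj G ⟶ F, Epi φ) ∧
    (Epi ((Scheme.Modules.pullbackPushforwardAdjunction f).counit.app F) ↔
      ∀ U : S.Opens, IsAffineOpen U → Curv2.IsGloballyGenerated (F.restrict (f ⁻¹ᵁ U).ι)) := by
  have hP : Coh.IsQCoh ((Scheme.Modules.pushforward f).obj F) :=
    Ega1.QcqsPush.isQCoh_pushforward f F hF
  refine ⟨⟨fun h => ⟨_, hP, _, h⟩, ?_⟩, ?_, ?_⟩
  · rintro ⟨G, -, φ, hφ⟩
    have h1 : (Scheme.Modules.pullback f).map
        ((Scheme.Modules.pullbackPushforwardAdjunction f).homEquiv _ _ φ) ≫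
          (Scheme.Modules.pullbackPushforwardAdjunction f).counit.app F = φ :=
      ((Scheme.Modules.pullbackPushforwardAdjunction f).homEquiv_counit _ _ _).symm.trans
        (Equiv.symm_apply_apply _ _)
    have h2 : Epi ((Scheme.Modules.pullback f).map
        ((Scheme.Modules.pullbackPushforwardAdjunction f).homEquiv _ _ φ) ≫
          (Scheme.Modules.pullbackPushforwardAdjunction f).counit.app F) := by
      rw [h1]; exact hφ
    exact epi_of_epi ((Scheme.Modules.pullback f).map
        ((Scheme.Modules.pullbackPushforwardAdjunction f).homEquiv _ _ φ)) _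
  · intro h U hU
    have : IsAffine U := hU
    let G := (Scheme.Modules.pushforward f).obj F
    have h1 : Epi ((Scheme.Modules.restrictFunctor (f ⁻¹ᵁ U).ι).map
      ((Scheme.Modules.pullbackPushforwardAdjunction f).counit.app F)) := inferInstance
    have h2 : Coh.IsQCoh (G.restrict U.ι) := PerfA.QCohSerre.isQCoh_restrict _ hP
    have h3 := isGloballyGenerated_of_isAffine (G.restrict U.ι) h2
    have h4 := VarietyB.GGStalk.isGloballyGenerated_pullback (f ∣_ U) _ h3
    have h5 := Ega2.GlobGenCrit.isGloballyGenerated_of_iso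
      ((PerfC.PullRestrict.pullbackSquare (f := f) (j := U.ι) (j' := (f ⁻¹ᵁ U).ι) (f' := f ∣_ U)
        (morphismRestrict_ι f U).symm).app G) h4
    exact isGloballyGenerated_of_epi ((Scheme.Modules.restrictFunctor (f ⁻¹ᵁ U).ι).map
      ((Scheme.Modules.pullbackPushforwardAdjunction f).counit.app F)) h5
  · intro H
    refine Sga67.PushLocal.epi_counit (ι := S.affineOpens) (V := fun x => (x.1 : Scheme.{u}))
      (P := fun x => ((f ⁻¹ᵁ x.1 : X.Opens) : Scheme.{u})) (h := fun x => x.1.ι)
      (j := fun x => (f ⁻¹ᵁ x.1).ι) (π := fun x => f ∣_ x.1) (fun s => ?_)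
      (fun x => (isPullback_morphismRestrict f x.1).flip) _ fun x => ?_
    · obtain ⟨V, hV, hxV, -⟩ := exists_isAffineOpen_mem_and_subset (X := S) (U := ⊤) (x := s) trivial
      exact ⟨⟨V, hV⟩, by rw [Scheme.Opens.range_ι]; exact hxV⟩
    · exact Sga67.SerreVB.epi_counit (f ∣_ x.1) (H x.1 x.2)

end Groth.Agent.S10869
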