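import Groth.Statements.S9346
import Mathlib.AlgebraicGeometry.FunctionField
import Mathlib.AlgebraicGeometry.Morphisms.UnderlyingMap

set_option autoImplicit false
universe u
open Dom

namespace Groth.Agent.S9346

open AlgebraicGeometry CategoryTheory in
/-- For a morphism f : X → Y between integral schemes, these six conditions coincide: (1) f is dominant;
(2) f sends the generic point of X to that of Y; (3) there exist affine opens U ⊆ X, V ⊆ Y with U
nonempty and U ⊆ f⁻¹V such that the induced ring map on sections is injective; (4) the same for all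
such pairs; (5) for some x ∈ X the map of local rings O_{Y,f x} → O_{X,x} is injective; (6) the same
for all x. -/
theorem result {X Y : Scheme.{u}} [AlgebraicGeometry.IsIntegral X] [AlgebraicGeometry.IsIntegral Y] (f : X ⟶ Y) :
    [IsDominant f,
      f.base (genericPoint ↑X) = genericPoint ↑Y,
      ∃ (U : X.Opens) (V : Y.Opens) (hUV : U ≤ f ⁻¹ᵁ V), IsAffineOpen U ∧ IsAffineOpen V ∧ (U : Set ↑X).Nonempty ∧
        Function.Injective (f.appLE V U hUV),
      ∀ (U : X.Opens) (V : Y.Opens) (hUV : U ≤ f ⁻¹ᵁ V), IsAffineOpen U → IsAffineOpen V → (U : Set ↑X).Nonempty →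
        Function.Injective (f.appLE V U hUV),
      ∃ x : ↑X, Function.Injective (f.stalkMap x),
      ∀ x : ↑X, Function.Injective (f.stalkMap x)].TFAE := by
  have key : IsDominant f → ∀ (V : Y.Opens) (a : Γ(Y, V)), a ≠ 0 →
      ∃ z : X, z ∈ f ⁻¹ᵁ (Y.basicOpen a) := by
    intro hf V a ha
    have h3 : Y.basicOpen a ≠ ⊥ := fun h => ha (by rwa [basicOpen_eq_bot_iff] at h)
    obtain ⟨y, hy⟩ : ((Y.basicOpen a : Y.Opens) : Set Y).Nonempty := by
      rw [Set.nonempty_iff_ne_empty]
      exact fun he => h3 (TopologicalSpace.Opens.ext he)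
    obtain ⟨z, hz⟩ := f.denseRange.exists_mem_open (Y.basicOpen a).2 ⟨y, hy⟩
    exact ⟨z, hz⟩
  have h12 : IsDominant f → f.base (genericPoint ↑X) = genericPoint ↑Y := by
    intro hf
    have h := (genericPoint_spec X).image f.continuous
    rw [Set.image_univ, f.denseRange.closure_eq] at h
    exact h.eq (genericPoint_spec Y)
  have h21 : f.base (genericPoint ↑X) = genericPoint ↑Y → IsDominant f := by
    intro h
    refine ⟨fun y => ?_⟩
    exact ((genericPoint_spec Y).specializes (Set.mem_univ y)).mem_closed isClosed_closure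
      (subset_closure ⟨_, h⟩)
  have h16 : IsDominant f → ∀ x : ↑X, Function.Injective (f.stalkMap x) := by
    intro hf x
    rw [injective_iff_map_eq_zero]
    intro a ha
    obtain ⟨U, hxU, s, rfl⟩ := Y.presheaf.exists_germ_eq a
    have h1 : X.presheaf.germ (f ⁻¹ᵁ U) x hxU (f.app U s) = 0 := by
      rw [← ha]
      exact (ConcreteCategory.congr_hom (f.germ_stalkMap U x hxU) s).symm
    have h2 : f.app U s = 0 := germ_injective_of_isIntegral X x hxU (by rw [h1, map_zero])
    by_contra h3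
    have h4 : s ≠ 0 := fun h => h3 (by rw [h, map_zero])
    obtain ⟨z, hz⟩ := key hf U s h4
    rw [Scheme.preimage_basicOpen, h2, Scheme.basicOpen_zero] at hz
    exact hz
  have h14 : IsDominant f → ∀ (U : X.Opens) (V : Y.Opens) (hUV : U ≤ f ⁻¹ᵁ V), IsAffineOpen U →
      IsAffineOpen V → (U : Set ↑X).Nonempty → Function.Injective (f.appLE V U hUV) := by
    intro hf U V hUV hU hV hne
    rw [injective_iff_map_eq_zero]
    intro a ha
    by_contra h
    have h1 := key hf V a h
    obtain ⟨z, hz⟩ := nonempty_preirreducible_inter U.isOpen (f ⁻¹ᵁ Y.basicOpen a).isOpen hne h1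
    have h2 : z ∈ X.basicOpen (f.appLE V U hUV a) := by
      rw [Scheme.basicOpen_appLE]; exact hz
    rw [ha, Scheme.basicOpen_zero] at h2
    exact h2
  have hex : ∀ x : X, ∃ (U : X.Opens) (V : Y.Opens) (_ : U ≤ f ⁻¹ᵁ V), IsAffineOpen U ∧
      IsAffineOpen V ∧ x ∈ U := by
    intro x
    obtain ⟨_, ⟨V, hV, rfl⟩, hxV, -⟩ :=
      Y.isBasis_affineOpens.exists_subset_of_mem_open (Set.mem_univ (f x)) isOpen_univ
    obtain ⟨_, ⟨U, hU, rfl⟩, hxU, hUV⟩ :=
      X.isBasis_affineOpens.exists_subset_of_mem_open (show x ∈ (f ⁻¹ᵁ V : X.Opens) from hxV)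
        (f ⁻¹ᵁ V).isOpen
    exact ⟨U, V, hUV, hU, hV, hxU⟩
  have h53 : (∃ x : ↑X, Function.Injective (f.stalkMap x)) →
      ∃ (U : X.Opens) (V : Y.Opens) (hUV : U ≤ f ⁻¹ᵁ V), IsAffineOpen U ∧ IsAffineOpen V ∧
        (U : Set ↑X).Nonempty ∧ Function.Injective (f.appLE V U hUV) := by
    rintro ⟨x, hx⟩
    obtain ⟨U, V, hUV, hU, hV, hxU⟩ := hex x
    refine ⟨U, V, hUV, hU, hV, ⟨x, hxU⟩, ?_⟩
    rw [injective_iff_map_eq_zero]
    intro a ha
    have h1 : f.stalkMap x (Y.presheaf.germ V (f x) (hUV hxU) a) = 0 := by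
      have h2 := ConcreteCategory.congr_hom (f.germ_stalkMap V x (hUV hxU)) a
      have h3 : X.presheaf.germ (f ⁻¹ᵁ V) x (hUV hxU) (f.app V a) =
          X.presheaf.germ U x hxU (f.appLE V U hUV a) := by
        have := ConcreteCategory.congr_hom (X.presheaf.germ_res (homOfLE hUV) x hxU) (f.app V a)
        exact this.symm
      rw [ha, map_zero] at h3
      exact h2.trans h3
    have h4 := (injective_iff_map_eq_zero _).mp hx _ h1
    exact (injective_iff_map_eq_zero _).mp (germ_injective_of_isIntegral Y (f x) (hUV hxU)) _ h4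
  have h31 : (∃ (U : X.Opens) (V : Y.Opens) (hUV : U ≤ f ⁻¹ᵁ V), IsAffineOpen U ∧ IsAffineOpen V ∧
        (U : Set ↑X).Nonempty ∧ Function.Injective (f.appLE V U hUV)) → IsDominant f := by
    rintro ⟨U, V, hUV, hU, hV, hne, hinj⟩
    refine ⟨dense_iff_inter_open.mpr fun W hW hWne => ?_⟩
    have hVne : (V : Set Y).Nonempty := by
      obtain ⟨x, hx⟩ := hne
      exact ⟨f x, hUV hx⟩
    obtain ⟨y, hy1, hy2⟩ := nonempty_preirreducible_inter hW V.isOpen hWne hVne
    obtain ⟨a, haW, hya⟩ := hV.exists_basicOpen_le ⟨y, (show y ∈ (⟨W, hW⟩ : Y.Opens) from hy1)⟩ hy2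
    have ha : a ≠ 0 := by
      rintro rfl
      rw [Scheme.basicOpen_zero] at hya
      exact hya
    have hb : f.appLE V U hUV a ≠ 0 := fun h => ha ((injective_iff_map_eq_zero _).mp hinj _ h)
    have h3 : X.basicOpen (f.appLE V U hUV a) ≠ ⊥ := fun h => hb (by rwa [basicOpen_eq_bot_iff] at h)
    obtain ⟨x, hx⟩ : ((X.basicOpen (f.appLE V U hUV a) : X.Opens) : Set X).Nonempty := by
      rw [Set.nonempty_iff_ne_empty]
      exact fun he => h3 (TopologicalSpace.Opens.ext he)
    rw [Scheme.basicOpen_appLE] at hx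
    exact ⟨f x, haW hx.2, x, rfl⟩
  tfae_have 1 ↔ 2 := ⟨h12, h21⟩
  tfae_have 1 → 6 := h16
  tfae_have 1 → 4 := h14
  tfae_have 6 → 5 := fun h => ⟨genericPoint X, h _⟩
  tfae_have 5 → 3 := h53
  tfae_have 3 → 1 := h31
  tfae_have 4 → 3 := by
    intro h
    obtain ⟨U, V, hUV, hU, hV, hxU⟩ := hex (genericPoint X)
    exact ⟨U, V, hUV, hU, hV, ⟨_, hxU⟩, h U V hUV hU hV ⟨_, hxU⟩⟩
  tfae_finish

end Groth.Agent.S9346
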