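import Groth.Statements.S16703
import Groth.Agent.AlgSt.K734.Wna5

set_option autoImplicit false
universe u
open AlgSt

namespace Groth.Agent.S16703

open CategoryTheory AlgebraicGeometry in
/-- An algebraic stack with finite inertia is covered, on points, by the images of morphisms `g : 𝒳' →
𝒳` from well-nigh affine algebraic stacks which are representable by algebraic spaces, separated and
étale, and bijective on the automorphism groups (over the identity) of all objects of `𝒳'` (the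
inertia of `𝒳'` is the pullback of the inertia of `𝒳`). Stated one point at a time; the family
indexed by a set is the collection of these. -/
theorem result (S : Scheme.{u}) (𝒳 : AlgSt.Cat S)
    (h𝒳 : AlgSt.IsAlgStack Scheme.fppfPrecoverage 𝒳)
    (hI : AlgSt.RepByAlgSpWith AlgSp.IsFiniteMor (FibCat.inertiaToBase (FibCat.toSelf 𝒳)))
    (x : AlgSt.Points 𝒳) :
    ∃ (𝒳' : AlgSt.Cat S) (g : 𝒳' ⥤ᵇ 𝒳), x ∈ Set.range (AlgSt.Points.map g) ∧
      AlgSt.IsAlgStack Scheme.fppfPrecoverage 𝒳' ∧ AlgSt.IsWellNighAffine 𝒳' ∧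
      (∀ x' : 𝒳'.obj, Function.Bijective (Gerb.autMap g x')) ∧
      AlgSt.RepByAlgSpWith AlgSp.IsEtaleMor g ∧ AlgSt.IsSeparatedMor g := by
  obtain ⟨⟨K, s₀, ξ₀, h₀⟩, rfl⟩ := AlgSt.Points.mk_surjective x
  let L := AlgebraicClosure K
  let g : Spec (CommRingCat.of L) ⟶ Spec (CommRingCat.of K) := Spec.map (CommRingCat.ofHom (algebraMap K L))
  obtain ⟨ξ, hξ, φ, -⟩ := K735.Pts.exists_restrict h𝒳.isStack.1 ⟨K, s₀, ξ₀, h₀⟩ (g ≫ s₀)
    (Over.homMk g rfl : Over.mk (g ≫ s₀) ⟶ Over.mk s₀)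
  obtain ⟨𝒳', G, h1, h2⟩ := K734.KM.exists_nhd h𝒳 hI (Ω := L) ξ hξ
  refine ⟨𝒳', G, ?_, h2⟩
  rw [← K735.Pts.mk_eq_of_hom (p := ⟨L, g ≫ s₀, ξ, hξ⟩) (q := ⟨K, s₀, ξ₀, h₀⟩) φ]
  exact h1

end Groth.Agent.S16703
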