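import Groth.Statements.S16692
import Groth.Agent.AlgSt.K161.KM
import Groth.Agent.S16703

set_option autoImplicit false
universe u
open AlgSt

namespace Groth.Agent.S16692

open CategoryTheory AlgebraicGeometry in
/-- An algebraic stack whose inertia is finite over it has a uniform categorical moduli space `π : 𝒳 →
M` in algebraic spaces, and `π` is separated, quasi-compact and a universal homeomorphism. -/
theorem result (S : Scheme.{u}) (𝒳 : AlgSt.Cat S)
    (h𝒳 : AlgSt.IsAlgStack Scheme.fppfPrecoverage 𝒳)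
    (hI : AlgSt.RepByAlgSpWith AlgSp.IsFiniteMor (FibCat.inertiaToBase (FibCat.toSelf 𝒳))) :
    ∃ (M : AlgSp.Sp S) (π : 𝒳 ⥤ᵇ AlgSt.ofSp M), AlgSt.IsUnifCatModuli π ∧ AlgSt.IsSeparatedMor π ∧
      AlgSt.IsQuasiCompactMor Scheme.fppfPrecoverage π ∧ AlgSt.IsUnivHomeo Scheme.fppfPrecoverage π := by
  exact K161.KM.main16692 (fun 𝒳 h₁ h₂ x => Groth.Agent.S16703.result S 𝒳 h₁ h₂ x) 𝒳 h𝒳 hI

end Groth.Agent.S16692
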