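import Groth.Statements.S9758
import Groth.Agent.Synt.K561.SynLci
import Groth.Agent.Synt.K561.LciDict
import Groth.Agent.Synt.K563.SchDict

set_option autoImplicit false
universe u
open FlatMor

namespace Groth.Agent.S9758

open AlgebraicGeometry CategoryTheory Limits in
/-- A morphism of schemes f : X ⟶ S is flat and a local complete intersection morphism (Koszul at every
point) if and only if it is syntomic. -/
theorem result {X S : Scheme.{u}} (f : X ⟶ S) :
    (Flat f ∧ ∀ x : X, Synt.IsKoszulAt f x) ↔ Synt.IsSyntomicMor f := by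
  constructor
  · rintro ⟨h1, h2⟩ x
    rw [K561.LciDict.forall_isKoszulAt_iff] at h2
    obtain ⟨_, ⟨V, hV, rfl⟩, hxV, -⟩ := S.isBasis_affineOpens.exists_subset_of_mem_open
      (Set.mem_univ (f x)) isOpen_univ
    obtain ⟨_, ⟨U, hU, rfl⟩, hxU, hUV⟩ := X.isBasis_affineOpens.exists_subset_of_mem_open
      (show x ∈ ((f ⁻¹ᵁ V : X.Opens) : Set X) from hxV) (f ⁻¹ᵁ V).2
    refine ⟨⟨U, hU⟩, ⟨V, hV⟩, hUV, hxU, ?_⟩
    let : Algebra Γ(S, V) Γ(X, U) := (f.appLE V U hUV).hom.toAlgebra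
    exact (K561.SynLci.isSyntomic_iff_isLCI).2
      ⟨(Scheme.Hom.flat_appLE f hV hU hUV), h2 U V hU hV hUV⟩
  · intro h
    have h3 := K563.SchDict.flat_and_lfp_of_isSyntomicMor f h
    refine ⟨h3.1, ?_⟩
    rw [K561.LciDict.forall_isKoszulAt_iff]
    intro U V hU hV hUV
    let : Algebra Γ(S, V) Γ(X, U) := (f.appLE V U hUV).hom.toAlgebra
    exact ((K561.SynLci.isSyntomic_iff_isLCI).1
      (K563.SchDict.isSyntomic_appLE_of_isSyntomicMor f h ⟨U, hU⟩ ⟨V, hV⟩ hUV)).2

end Groth.Agent.S9758
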