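import Groth.Statements.S9268
import Groth.Agent.S2060
import Groth.Agent.CalgB.AdicFSExt
import Mathlib.RingTheory.Smooth.Locus

set_option autoImplicit false
universe u
open CAlg

namespace Groth.Agent.S9268

/-- Suppose A is a Noetherian ring and B is a finitely generated A-algebra, and consider a prime q of B
lying over p in A. Then A → B is smooth at q (meaning some g not in q makes A → B_g smooth) exactly
when the induced map A_p → B_q is formally smooth with respect to the adic topology defined by the
maximal ideal of B_q. -/
theorem result (A B : Type u) [CommRing A] [IsNoetherianRing A]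
    [CommRing B] [Algebra A B] [Algebra.FiniteType A B] (q : Ideal B) [q.IsPrime] :
    (∃ g : B, g ∉ q ∧ Algebra.Smooth A (Localization.Away g)) ↔
      letI := (Localization.localRingHom (Ideal.comap (algebraMap A B) q) q (algebraMap A B) rfl).toAlgebra
      CAlgX.IsAdicFormallySmooth (Localization.AtPrime (Ideal.comap (algebraMap A B) q))
        (Localization.AtPrime q) (IsLocalRing.maximalIdeal (Localization.AtPrime q)) := by
  have hfp : Algebra.FinitePresentation A B := Algebra.FinitePresentation.of_finiteType.mp inferInstance
  have key : (∃ g : B, g ∉ q ∧ Algebra.Smooth A (Localization.Away g)) ↔ Algebra.IsSmoothAt A q := by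
    constructor
    · rintro ⟨g, hg, hs⟩
      exact (Algebra.basicOpen_subset_smoothLocus_iff (R := A) (f := g)).mpr hs.formallySmooth
        (show (⟨q, inferInstance⟩ : PrimeSpectrum B) ∈ PrimeSpectrum.basicOpen g from hg)
    · intro h
      exact Algebra.IsSmoothAt.exists_notMem_smooth A q
  rw [key]
  let _ := (Localization.localRingHom (Ideal.comap (algebraMap A B) q) q (algebraMap A B) rfl).toAlgebra
  have : q.LiesOver (Ideal.comap (algebraMap A B) q) := ⟨rfl⟩
  have : Localization.AtPrime.IsLiesOverAlgebra (Ideal.comap (algebraMap A B) q) q := ⟨rfl⟩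
  have hst : IsScalarTower A (Localization.AtPrime (Ideal.comap (algebraMap A B) q))
    (Localization.AtPrime q) := inferInstance
  constructor
  · intro h
    have h1 : Algebra.FormallySmooth A (Localization.AtPrime q) := h
    have h2 : Algebra.FormallySmooth (Localization.AtPrime (Ideal.comap (algebraMap A B) q))
        (Localization.AtPrime q) :=
      Algebra.FormallySmooth.localization_base (Ideal.comap (algebraMap A B) q).primeCompl
    intro C _ _ J hJ ψ _
    exact ⟨Algebra.FormallySmooth.lift J ⟨2, hJ⟩ ψ, Algebra.FormallySmooth.comp_lift J ⟨2, hJ⟩ ψ⟩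
  · intro h
    rw [Groth.Agent.S2060.result]
    intro B' C _ _ _ _ _ _ _ _ π hπ ⟨t, ht, htm⟩ g hg
    -- units
    have hunit : ∀ y : q.primeCompl, IsUnit (g y) := by
      intro y
      by_contra h
      have h1 : (y : B) ∈ (IsLocalRing.maximalIdeal C).comap g := h
      rw [hg] at h1
      exact y.2 h1
    have hkerle : RingHom.ker π.toRingHom ≤ IsLocalRing.maximalIdeal B' := by
      apply IsLocalRing.le_maximalIdeal
      intro h1
      have h2 : (1 : B') ∈ RingHom.ker π.toRingHom := h1 ▸ Submodule.mem_top
      have h3 : π 1 = 0 := h2
      rw [map_one] at h3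
      exact one_ne_zero h3
    have htmem : t ∈ IsLocalRing.maximalIdeal B' :=
      hkerle (ht ▸ Ideal.mem_span_singleton_self t)
    have hker2 : RingHom.ker (π : B' →ₐ[A] C) ^ 2 = ⊥ := by
      have ht' : RingHom.ker (π : B' →ₐ[A] C) = Ideal.span {t} := ht
      rw [ht', Ideal.span_singleton_pow, pow_two, htm t htmem]
      simp
    have hloc : IsLocalHom π.toRingHom := hπ.isLocalHom
    have hunit' : ∀ y : (Ideal.comap (algebraMap A B) q).primeCompl, IsUnit (algebraMap A B' y) := by
      intro y
      have h1 : IsUnit (g (algebraMap A B y)) := hunit ⟨algebraMap A B y, y.2⟩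
      rw [g.commutes] at h1
      have h2 : IsUnit (π.toRingHom (algebraMap A B' y)) := by
        have : π.toRingHom (algebraMap A B' y) = algebraMap A C y := π.commutes _
        rw [this]
        exact h1
      exact isUnit_of_map_unit π.toRingHom _ h2
    let φ' : Localization.AtPrime (Ideal.comap (algebraMap A B) q) →+* B' := IsLocalization.lift hunit'
    have hφ' : ∀ a, φ' (algebraMap A _ a) = algebraMap A B' a := IsLocalization.lift_eq hunit'
    let _ : Algebra (Localization.AtPrime (Ideal.comap (algebraMap A B) q)) B' := φ'.toAlgebra
    let _ : Algebra (Localization.AtPrime (Ideal.comap (algebraMap A B) q)) C :=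
      (π.toRingHom.comp φ').toAlgebra
    let π' : B' →ₐ[Localization.AtPrime (Ideal.comap (algebraMap A B) q)] C :=
      { π.toRingHom with commutes' := fun _ ↦ rfl }
    let gA : Localization.AtPrime q →+* C := IsLocalization.lift hunit
    have hgA : ∀ s : B, gA (algebraMap B (Localization.AtPrime q) s) = g s := fun s =>
      IsLocalization.lift_eq _ s
    have hcomm : gA.comp (algebraMap (Localization.AtPrime (Ideal.comap (algebraMap A B) q))
        (Localization.AtPrime q)) = π.toRingHom.comp φ' := by
      refine IsLocalization.ringHom_ext (Ideal.comap (algebraMap A B) q).primeCompl ?_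
      ext a
      have h1 : gA (algebraMap (Localization.AtPrime (Ideal.comap (algebraMap A B) q))
        (Localization.AtPrime q) (algebraMap A _ a)) = algebraMap A C a := by
        rw [← IsScalarTower.algebraMap_apply, IsScalarTower.algebraMap_apply A B, hgA, g.commutes]
      have h2 : π.toRingHom (φ' (algebraMap A _ a)) = algebraMap A C a := by
        rw [hφ']
        exact π.commutes a
      exact h1.trans h2.symm
    let ψ : Localization.AtPrime q →ₐ[Localization.AtPrime (Ideal.comap (algebraMap A B) q)] C :=
      { gA with commutes' := fun x ↦ RingHom.congr_fun hcomm x }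
    have hψ : ∃ k : ℕ, ∀ x ∈ (IsLocalRing.maximalIdeal (Localization.AtPrime q)) ^ k, ψ x = 0 := by
      obtain ⟨k, hk⟩ : IsNilpotent (IsLocalRing.maximalIdeal C) := by
        rw [← IsLocalRing.jacobson_eq_maximalIdeal ⊥ bot_ne_top]
        exact IsArtinianRing.isNilpotent_jacobson_bot
      refine ⟨k, fun x hx ↦ ?_⟩
      have hmap : (IsLocalRing.maximalIdeal (Localization.AtPrime q)).map gA ≤
          IsLocalRing.maximalIdeal C := by
        rw [Ideal.map_le_iff_le_comap]
        intro y hy
        obtain ⟨b, s, rfl⟩ := IsLocalization.exists_mk'_eq q.primeCompl y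
        have hb : b ∈ q := by
          have := (IsLocalization.AtPrime.mk'_mem_maximal_iff (Localization.AtPrime q) q b s).mp hy
          exact this
        rw [Ideal.mem_comap]
        have h1 : gA (IsLocalization.mk' (Localization.AtPrime q) b s) * g s = g b := by
          rw [← hgA, ← hgA, ← map_mul, IsLocalization.mk'_spec]
        have h2 : g b ∈ IsLocalRing.maximalIdeal C := by
          have : b ∈ (IsLocalRing.maximalIdeal C).comap g := by rw [hg]; exact hb
          exact this
        rw [← h1] at h2
        exact ((Ideal.IsPrime.mem_or_mem inferInstance h2).resolve_right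
          fun h3 ↦ (IsLocalRing.mem_maximalIdeal _).mp h3 (hunit s))
      have h1 : gA x ∈ (IsLocalRing.maximalIdeal C) ^ k := by
        have := Ideal.mem_map_of_mem gA hx
        rw [Ideal.map_pow] at this
        exact Ideal.pow_right_mono hmap k this
      rw [hk] at h1
      exact h1
    obtain ⟨χ, hχ⟩ := Groth.Agent.CalgB.AdicFSExt.AdicFS.exists_lift h π' hπ hker2 ψ hψ
    refine ⟨{ (χ : Localization.AtPrime q →+* B').comp (algebraMap B (Localization.AtPrime q)) with
      commutes' := ?_ }, ?_⟩
    · intro a
      have h1 : χ (algebraMap B (Localization.AtPrime q) (algebraMap A B a)) = algebraMap A B' a := by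
        rw [← IsScalarTower.algebraMap_apply A B, IsScalarTower.algebraMap_apply A
          (Localization.AtPrime (Ideal.comap (algebraMap A B) q)), χ.commutes]
        exact hφ' a
      exact h1
    · ext b
      have h1 := AlgHom.congr_fun hχ (algebraMap B (Localization.AtPrime q) b)
      have h2 : ψ (algebraMap B (Localization.AtPrime q) b) = g b := hgA b
      rw [h2] at h1
      exact h1

end Groth.Agent.S9268
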