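import Groth.Statements.S14457
import Groth.Agent.Hensel.FiniteEtaleLift
import Mathlib.Algebra.DualNumber
import Mathlib.Algebra.Polynomial.Taylor
import Mathlib.RingTheory.IntegralClosure.IsIntegralClosure.Basic
import Mathlib.RingTheory.Unramified.Basic
import Mathlib.FieldTheory.Separable

set_option autoImplicit false
universe u
open CAlg

namespace Groth.Agent.S14457

open Polynomial

/-- If `A[X]/(f)` is unramified over `A` then the derivative of `f` is a unit in it. -/
theorem isUnit_mk_derivative {A : Type u} [CommRing A] (f : A[X])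
    [Algebra.FormallyUnramified A (AdjoinRoot f)] : IsUnit (AdjoinRoot.mk f (derivative f)) := by
  rw [← Ideal.span_singleton_eq_top, ← Ideal.Quotient.subsingleton_iff]
  set I : Ideal (AdjoinRoot f) := Ideal.span {AdjoinRoot.mk f (derivative f)} with hI
  let C := AdjoinRoot f ⧸ I
  let t : C := Ideal.Quotient.mk I (AdjoinRoot.root f)
  have ht : ∀ p : A[X], aeval t p = Ideal.Quotient.mk I (AdjoinRoot.mk f p) := by
    intro p
    have : t = Ideal.Quotient.mkₐ A I (AdjoinRoot.root f) := rfl
    rw [this, aeval_algHom_apply, AdjoinRoot.aeval_eq]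
    rfl
  let D := DualNumber C
  let s : D := algebraMap C D t
  have hs : ∀ p : A[X], aeval s p = algebraMap C D (aeval t p) := by
    intro p
    rw [aeval_algebraMap_apply]
  have hε : (DualNumber.eps : D) ^ 2 = 0 := by rw [pow_two, DualNumber.eps_mul_eps]
  have h1 : aeval s f = 0 := by
    rw [hs, ht, AdjoinRoot.mk_self, map_zero, map_zero]
  have h2 : aeval (s + DualNumber.eps) f = 0 := by
    rw [aeval_add_of_sq_eq_zero _ _ _ hε, h1, hs, ht,
      Ideal.Quotient.eq_zero_iff_mem.2 (Ideal.mem_span_singleton_self _), map_zero, zero_mul, add_zero]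
  let g₁ : AdjoinRoot f →ₐ[A] D := AdjoinRoot.liftAlgHom f (Algebra.ofId A D) s h1
  let g₂ : AdjoinRoot f →ₐ[A] D := AdjoinRoot.liftAlgHom f (Algebra.ofId A D) (s + DualNumber.eps) h2
  have h3 : g₁ = g₂ := by
    refine Algebra.FormallyUnramified.lift_unique (Ideal.span {(DualNumber.eps : D)}) ⟨2, ?_⟩ g₁ g₂ ?_
    · rw [Ideal.span_singleton_pow, hε, Ideal.span_singleton_zero, Ideal.zero_eq_bot]
    · apply AdjoinRoot.algHom_ext
      simp only [g₁, g₂, AlgHom.comp_apply, AdjoinRoot.liftAlgHom_root, Ideal.Quotient.mkₐ_eq_mk,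
        map_add]
      rw [Ideal.Quotient.eq_zero_iff_mem.2 (Ideal.mem_span_singleton_self _), add_zero]
  have h4 : g₁ (AdjoinRoot.root f) = g₂ (AdjoinRoot.root f) := by rw [h3]
  simp only [g₁, g₂, AdjoinRoot.liftAlgHom_root] at h4
  have h5 : (DualNumber.eps : D) = 0 := by
    have := h4.symm
    rwa [add_eq_left] at this
  have h6 : (1 : C) = 0 := by
    have := congrArg TrivSqZeroExt.snd h5
    rwa [DualNumber.snd_eps, TrivSqZeroExt.snd_zero] at this
  exact subsingleton_of_zero_eq_one h6.symm

open Polynomial in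
/-- Let A be a commutative ring, a an element of A and n ≥ 1 an integer. The A-algebra A[T]/(T^n − a) is
etale exactly when either n = 1 or the product n·a is a unit of A. (The exponent n is a positive
integer here; for n = 0 the quotient is (A/(1 − a))[T] and the equivalence fails.) -/
theorem result (A : Type u) [CommRing A] (a : A) (n : ℕ) (hn : 1 ≤ n) :
    Algebra.Etale A (AdjoinRoot ((X : A[X]) ^ n - C a)) ↔ n = 1 ∨ IsUnit ((n : A) * a) := by
  have hmon : ((X : A[X]) ^ n - C a).Monic := monic_X_pow_sub_C a (by omega)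
  constructor
  · intro h
    by_cases h1 : n = 1
    · exact Or.inl h1
    right
    have h2 := isUnit_mk_derivative ((X : A[X]) ^ n - C a)
    set f : A[X] := (X : A[X]) ^ n - C a with hf
    have h3 : derivative f = C (n : A) * X ^ (n - 1) := by
      rw [hf, derivative_sub, derivative_X_pow, derivative_C, sub_zero]
    rw [h3, map_mul, map_pow, AdjoinRoot.mk_C, AdjoinRoot.mk_X, IsUnit.mul_iff] at h2
    obtain ⟨h4, h5⟩ := h2
    have h6 : IsUnit (AdjoinRoot.root f) := by
      rwa [isUnit_pow_iff (by omega)] at h5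
    have h7 : (AdjoinRoot.root f) ^ n = AdjoinRoot.of f a := by
      have : AdjoinRoot.mk f f = 0 := AdjoinRoot.mk_self
      rw [hf, map_sub, map_pow, AdjoinRoot.mk_X, AdjoinRoot.mk_C, sub_eq_zero] at this
      exact this
    have h8 : IsUnit (algebraMap A (AdjoinRoot f) ((n : A) * a)) := by
      rw [AdjoinRoot.algebraMap_eq, map_mul]
      refine h4.mul ?_
      rw [← h7]
      exact h6.pow n
    rcases subsingleton_or_nontrivial A with hA | hA
    · exact isUnit_of_subsingleton _
    have hint : (algebraMap A (AdjoinRoot f)).IsIntegral := by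
      have : Module.Finite A (AdjoinRoot f) := hmon.finite_adjoinRoot
      exact fun x => Algebra.IsIntegral.isIntegral x
    have hinj : Function.Injective (algebraMap A (AdjoinRoot f)) := by
      rw [injective_iff_map_eq_zero]
      intro x hx
      rw [AdjoinRoot.algebraMap_eq, ← AdjoinRoot.mk_C, AdjoinRoot.mk_eq_zero] at hx
      by_contra hx0
      refine hmon.not_dvd_of_natDegree_lt (C_ne_zero.2 hx0) ?_ hx
      rw [natDegree_C, hf, natDegree_X_pow_sub_C]
      omega
    have := hint.isLocalHom hinj
    exact this.map_nonunit _ h8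
  · intro h
    refine Groth.Agent.Hensel.FiniteEtaleLift.etale_adjoinRoot _ hmon ?_
    rcases h with rfl | h
    · rw [pow_one]; exact separable_X_sub_C
    · rw [IsUnit.mul_iff] at h
      obtain ⟨h1, u, rfl⟩ := h
      exact separable_X_pow_sub_C_unit u h1

end Groth.Agent.S14457
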