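import Groth.Statements.S16723
import Groth.Agent.CurvSt.K316.MbarAlg

set_option autoImplicit false
universe u
open CurvSt

namespace Groth.Agent.S16723

attribute [-instance] CategoryTheory.catToReflQuiver

open CategoryTheory AlgebraicGeometry in
/-- Let S be a scheme and g, n natural numbers with 2g - 2 + n > 0. The category over (Sch/S) of stable
n-pointed curves of genus g is a Deligne–Mumford algebraic stack for the big etale topology, and for
every algebraically closed field Ω and every Spec Ω → S there is a stable n-pointed curve of genus g
over Ω (the stack is non-empty over every geometric point of S). (The source works over all schemes,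
i.e. S the spectrum of the integers; the statement over a general base S is its restriction to
schemes over S.) -/
theorem result (S : Scheme.{u}) (g n : ℕ) (h : 3 ≤ 2 * g + n) :
    AlgSt.IsDM Scheme.etalePrecoverage (CurvSt.Mbar S g n) ∧
      ∀ (Ω : Type u) [Field Ω] [IsAlgClosed Ω] (t : Spec (CommRingCat.of Ω) ⟶ S),
        Nonempty ((CurvSt.Mbar S g n).p.Fiber (Over.mk t)) := by
  exact ⟨K316.MbarAlg.isDM_mbar S h, fun Ω _ _ t => K310.ExistsCurve.nonempty_Mbar_fiber t g n h⟩

end Groth.Agent.S16723
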