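import Groth.Statements.S16724
import Groth.Agent.CurvSt.K45.MbarQC
import Groth.Agent.CurvSt.K316.MbarAlg

set_option autoImplicit false
universe u
open CurvSt

namespace Groth.Agent.S16724

open CategoryTheory AlgebraicGeometry in
/-- Let S be a quasi-compact scheme and g, n natural numbers with 2g - 2 + n > 0. The category over
(Sch/S) of stable n-pointed curves of genus g is an algebraic stack for the big etale topology
admitting a smooth surjective morphism from an affine scheme (it is quasi-compact), and it has an
object over every algebraically closed field over S. (The source proves the stack over the integers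
is of finite type, i.e. quasi-compact; over a general base this gives quasi-compactness over S,
hence absolute quasi-compactness when S is quasi-compact — for a base that is not quasi-compact the
stack is not quasi-compact.) -/
theorem result (S : Scheme.{u}) [CompactSpace S] (g n : ℕ) (h : 3 ≤ 2 * g + n) :
    AlgSt.IsAlgStack Scheme.etalePrecoverage (CurvSt.Mbar S g n) ∧ AlgSt.IsQuasiCompact (CurvSt.Mbar S g n) ∧
      ∀ (Ω : Type u) [Field Ω] [IsAlgClosed Ω] (t : Spec (CommRingCat.of Ω) ⟶ S),
        Nonempty ((CurvSt.Mbar S g n).p.Fiber (Over.mk t)) := by
  exact K45.MbarQC.main S g n h (K316.MbarAlg.isAlgStack_mbar S h)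

end Groth.Agent.S16724
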