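import Groth.Statements.S16729
import Groth.Agent.CurvSt.K744.DensFinal

set_option autoImplicit false
universe u
open CurvSt

namespace Groth.Agent.S16729

open CategoryTheory AlgebraicGeometry in
/-- Let k be a field of characteristic 0 and g, n natural numbers with 2g - 2 + n > 0. In the category
over (Sch/Spec k) of stable n-pointed curves of genus g, which is an algebraic stack for the big
etale topology, the objects whose underlying pointed family is a smooth n-pointed family of genus g
form an open substack, the image of its space of points is dense in the space of points of the whole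
stack, and it has an object over every algebraically closed field over k (the smooth locus is a
non-empty dense open substack). -/
theorem result (k : Type u) [Field k] [CharZero k] (g n : ℕ) (h : 3 ≤ 2 * g + n) :
    AlgSt.IsAlgStack Scheme.etalePrecoverage (CurvSt.Mbar (Spec (CommRingCat.of k)) g n) ∧
      AlgSt.IsOpenSubstack (CurvSt.Mbar (Spec (CommRingCat.of k)) g n)
        (fun A => CurvSt.IsSmoothPtdFam A.obj.f A.obj.sect g) Scheme.etalePrecoverage ∧
      Dense (Set.range (AlgSt.Points.map (AlgSt.subIncl (CurvSt.Mbar (Spec (CommRingCat.of k)) g n)
        (fun A => CurvSt.IsSmoothPtdFam A.obj.f A.obj.sect g)))) ∧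
      ∀ (Ω : Type u) [Field Ω] [IsAlgClosed Ω] (t : Spec (CommRingCat.of Ω) ⟶ Spec (CommRingCat.of k)),
        Nonempty ((AlgSt.fullSub (CurvSt.Mbar (Spec (CommRingCat.of k)) g n)
          (fun A => CurvSt.IsSmoothPtdFam A.obj.f A.obj.sect g)).p.Fiber (Over.mk t)) := by
  exact K744.Dens.main_etale h (K316.MbarAlg.isAlgStack_mbar_etale _ h) (K896.MbarFinal.locQ_lfp_mbar _ h)

end Groth.Agent.S16729
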