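import Groth.Statements.S16731
import Groth.Agent.CurvSt.K896.TailBridge
import Groth.Agent.CurvesC.NodalPos2
import Groth.Agent.CurvesC.TailMain
import Groth.Agent.CurvesC.GenusOne512

set_option autoImplicit false
universe u
open CurvSt

namespace Groth.Agent.S16731

open CategoryTheory CategoryTheory.Limits AlgebraicGeometry in
/-- Let k be an algebraically closed field and X a proper connected scheme over k of dimension one with
at-worst-nodal singularities. For a natural number g the following are equivalent: (i) X, with no
marked points, is a stable curve of genus g in the component form — dim H^1(X, O_X) = g, every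
irreducible component which is a smooth rational curve (the image of a closed immersion of the
projective line) contains at least three points lying on other components, and 2g ≥ 3; (ii) dim
H^1(X, O_X) = g with g ≥ 2, and no irreducible component of X is a rational tail or a rational
bridge. (With no marked points the published statement excludes only genus one; it fails for the
projective line, which has genus zero, no rational tail and no rational bridge, and is not stable,
so genus at least two is required in (ii) here — exactly what the inequality 2g ≥ 3 of (i) forces.) -/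
theorem result (k : Type u) [Field k] [IsAlgClosed k] (X : Scheme.{u})
    [X.Over (Spec (CommRingCat.of k))] [IsProper (X ↘ Spec (CommRingCat.of k))] [ConnectedSpace X]
    (hdim : topologicalKrullDim X = 1) (hX : Curv2.AtWorstNodal k X) (g : ℕ) :
    CurvSt.IsStablePtd k X (X ↘ Spec (CommRingCat.of k)) g (Fin.elim0 : Fin 0 → X) ↔
      (Curv2.genus k X = g ∧ 2 ≤ g ∧
        (∀ (C : Set X) (hC : C ∈ irreducibleComponents (X : Type u)), ¬ Curv2.IsRationalTail X C hC) ∧
        (∀ (C : Set X) (hC : C ∈ irreducibleComponents (X : Type u)), ¬ Curv2.IsRationalBridge k X C hC)) := by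
  have hR : IsReduced X := Groth.Agent.CurvesC.GenusOne512.isReduced_of_atWorstNodal k X hX
  have hN : IsNoetherian X := Groth.Agent.CurvesC.CurveCoh.noetherianSpace k X
  have hpure := Groth.Agent.CurvesC.TailMain.pure_of_connected X hdim
  have henc : ∀ (C : Set X) (hC : C ∈ irreducibleComponents (X : Type u)),
      (CurvSt.meetPts X C).encard = ((C ∩ closure Cᶜ).ncard : ℕ∞) := by
    intro C hC
    rw [K896.CompMeet.meetPts_eq hC]
    exact ((Groth.Agent.CurvesC.TailGeom.finite_inter hdim.le hC).1.cast_ncard_eq).symm
  have hcard : ∀ C : Set X, Nat.card {i : Fin 0 // (Fin.elim0 : Fin 0 → X) i ∈ C} = 0 := by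
    intro C
    have : IsEmpty {i : Fin 0 // (Fin.elim0 : Fin 0 → X) i ∈ C} := ⟨fun i => Fin.elim0 i.1⟩
    exact Nat.card_of_isEmpty
  constructor
  · rintro ⟨-, -, -, ⟨-, h1⟩, -, -, h2, h3⟩
    have key : ∀ (C : Set X) (hC : C ∈ irreducibleComponents (X : Type u)),
        Subsingleton (Coh.HH (Groth.Agent.CurvesC.CompGeom.IC X C hC).subscheme
          (Coh.structureModule (Groth.Agent.CurvesC.CompGeom.IC X C hC).subscheme) 1) →
        3 ≤ (C ∩ closure Cᶜ).ncard := by
      intro C hC hs
      have h4 := h2 C (K896.TailBridge.isSmRatComp_of_h1 k X C hC (hpure C hC) hs)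
      rw [henc C hC, hcard C] at h4
      have h5 : (3 : ℕ∞) ≤ (((C ∩ closure Cᶜ).ncard : ℕ) : ℕ∞) := by simpa using h4
      exact_mod_cast h5
    refine ⟨h1, by omega, ?_, ?_⟩
    · intro C hC h
      have h4 := key C hC h.2.2.2.2.2
      have h5 := K896.TailBridge.ncard_of_isRationalTail k X C hC hdim hX h
      omega
    · intro C hC h
      have h4 := key C hC h.2.2
      have h5 := K896.TailBridge.ncard_of_isRationalBridge k X C hC hdim hX h
      omega
  · rintro ⟨h1, h2, h3, h4⟩
    refine ⟨inferInstance, inferInstance, hdim, ⟨hX, h1⟩, fun a => Fin.elim0 a, fun i => Fin.elim0 i, ?_,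
      by omega⟩
    intro E hE
    rw [henc E hE.1, hcard E]
    have hne : E ≠ Set.univ := by
      intro hu
      have h5 := Groth.Agent.CurvesC.NodalPos2.finrank_quot_univ k X E hE.1 hu 1
      let _ := Groth.Agent.CurvesC.TailNum.subOver k X (Groth.Agent.CurvesC.CompGeom.IC X E hE.1)
      have h6 := K896.TailBridge.h1_of_isSmRatComp k X E hE
      have h7 := Groth.Agent.CurvesC.TailNum.finrank_quotMod k X (Groth.Agent.CurvesC.CompGeom.IC X E hE.1) 1
      have h8 : Module.finrank k (Coh.HH (Groth.Agent.CurvesC.CompGeom.IC X E hE.1).subscheme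
          (Coh.structureModule (Groth.Agent.CurvesC.CompGeom.IC X E hE.1).subscheme) 1) = 0 :=
        Module.finrank_zero_of_subsingleton
      have h9 : Curv2.genus k X = 0 := h5.symm.trans (h7.symm.trans h8)
      omega
    have h5 : (E ∩ closure Eᶜ).ncard ≠ 0 := by
      intro h0
      obtain ⟨x⟩ := Groth.Agent.CurvesC.CompGeom.nonempty_T X E hE.1 hne
      have h6 : (E ∩ closure Eᶜ).Finite := (Groth.Agent.CurvesC.TailGeom.finite_inter hdim.le hE.1).1
      rw [Set.ncard_eq_zero h6] at h0
      have h7 : (Groth.Agent.CurvesC.CompGeom.IC X E hE.1 ⊔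
          Groth.Agent.CurvesC.CompGeom.IX' X E hE.1).subschemeι x ∈ E ∩ closure Eᶜ := by
        rw [← Groth.Agent.CurvesC.CompGeom.range_T X E hE.1]
        exact ⟨x, rfl⟩
      rw [h0] at h7
      exact h7
    have h6 : (E ∩ closure Eᶜ).ncard ≠ 1 := fun h =>
      h3 E hE.1 (K896.TailBridge.isRationalTail_of_ncard k X E hdim hX hE hne h)
    have h7 : (E ∩ closure Eᶜ).ncard ≠ 2 := fun h =>
      h4 E hE.1 (K896.TailBridge.isRationalBridge_of_ncard k X E hdim hX hE hne h)
    have h8 : 3 ≤ (E ∩ closure Eᶜ).ncard := by omega
    have h9 : (3 : ℕ∞) ≤ (((E ∩ closure Eᶜ).ncard : ℕ) : ℕ∞) := by exact_mod_cast h8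
    simpa using h9

end Groth.Agent.S16731
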