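import Groth.Statements.S17196
import Groth.Agent.CurvSt.K900.GeoFib

set_option autoImplicit false
universe u
open CurvSt

namespace Groth.Agent.S17196

open CategoryTheory CategoryTheory.Limits AlgebraicGeometry in
/-- Let f : C → T be a morphism of schemes which is a prestable family of curves (proper, flat and
locally of finite presentation, every fibre with all irreducible components of dimension one and
at-worst-nodal singularities, every geometric fibre connected) all of whose geometric fibres have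
genus g, where g ≥ 2. Suppose c₁ : C → C₁ and c₂ : C → C₂ are morphisms over T to stable families g₁
: C₁ → T, g₂ : C₂ → T of genus g (prestable families all of whose geometric fibres have genus g and
neither a rational tail nor a rational bridge) such that, for i = 1, 2, for every morphism T₁ → T
and every pair of cartesian squares of schemes producing the base change of c_i (with injective
resolutions on the base-changed source), the map from the structure sheaf to the direct image of the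
structure sheaf is an isomorphism and the first higher direct image of the structure sheaf vanishes.
Then there is a unique isomorphism e : C₁ ≅ C₂ with c₁ followed by e equal to c₂. (Scheme total
spaces, a special case of the source's algebraic spaces; genus at least two as in the existence
statement.) -/
theorem result {C T : Scheme.{u}} (f : C ⟶ T) (g : ℕ)
    (hpre : CurvSt.IsPrestableFam f)
    (hgen : ∀ (Ω : Type u) [Field Ω] [IsAlgClosed Ω] (t : Spec (CommRingCat.of Ω) ⟶ T) (X : Scheme.{u}) (i : X ⟶ C)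
      (q : X ⟶ Spec (CommRingCat.of Ω)), IsPullback i q f t → Models.curveGenus Ω X q = g)
    (hg : 2 ≤ g)
    (C₁ : Scheme.{u}) (g₁ : C₁ ⟶ T) (c₁ : C ⟶ C₁) (hc₁ : c₁ ≫ g₁ = f)
    (hst₁ : CurvSt.IsPrestableFam g₁ ∧
        ∀ (Ω : Type u) [Field Ω] [IsAlgClosed Ω] (t : Spec (CommRingCat.of Ω) ⟶ T) (Y : Scheme.{u}) (i : Y ⟶ C₁)
          (q : Y ⟶ Spec (CommRingCat.of Ω)), IsPullback i q g₁ t →
          Models.curveGenus Ω Y q = g ∧ ∀ (Z : Set ↥Y) (hZ : Z ∈ irreducibleComponents (↥Y : Type u)),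
            ¬ Curv2.IsRationalTail Y Z hZ ∧ ¬ @Curv2.IsRationalBridge Ω _ Y ⟨q⟩ Z hZ)
    (hbc₁ : ∀ (T₀ C₀ D₀ : Scheme.{u}) (b : T₀ ⟶ T) (g₀ : D₀ ⟶ T₀) (c₀ : C₀ ⟶ D₀) (pD : D₀ ⟶ C₁) (pC : C₀ ⟶ C)
        [HasInjectiveResolutions C₀.Modules],
        IsPullback pD g₀ g₁ b → IsPullback pC c₀ c₁ pD →
          IsIso (ClSub.unitToPush c₀) ∧ IsZero ((Coh.Rpush c₀ 1).obj (Coh.structureModule C₀)))
    (C₂ : Scheme.{u}) (g₂ : C₂ ⟶ T) (c₂ : C ⟶ C₂) (hc₂ : c₂ ≫ g₂ = f)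
    (hst₂ : CurvSt.IsPrestableFam g₂ ∧
        ∀ (Ω : Type u) [Field Ω] [IsAlgClosed Ω] (t : Spec (CommRingCat.of Ω) ⟶ T) (Y : Scheme.{u}) (i : Y ⟶ C₂)
          (q : Y ⟶ Spec (CommRingCat.of Ω)), IsPullback i q g₂ t →
          Models.curveGenus Ω Y q = g ∧ ∀ (Z : Set ↥Y) (hZ : Z ∈ irreducibleComponents (↥Y : Type u)),
            ¬ Curv2.IsRationalTail Y Z hZ ∧ ¬ @Curv2.IsRationalBridge Ω _ Y ⟨q⟩ Z hZ)
    (hbc₂ : ∀ (T₀ C₀ D₀ : Scheme.{u}) (b : T₀ ⟶ T) (g₀ : D₀ ⟶ T₀) (c₀ : C₀ ⟶ D₀) (pD : D₀ ⟶ C₂) (pC : C₀ ⟶ C)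
        [HasInjectiveResolutions C₀.Modules],
        IsPullback pD g₀ g₂ b → IsPullback pC c₀ c₂ pD →
          IsIso (ClSub.unitToPush c₀) ∧ IsZero ((Coh.Rpush c₀ 1).obj (Coh.structureModule C₀))) :
    ∃! e : C₁ ≅ C₂, c₁ ≫ e.hom = c₂ := by
  have hp : IsProper f := hpre.1
  have hp₁ : IsProper g₁ := hst₁.1.1
  have hp₂ : IsProper g₂ := hst₂.1.1
  have hpc₁ : IsProper c₁ := by
    have : IsProper (c₁ ≫ g₁) := by rw [hc₁]; exact hp
    exact IsProper.of_comp c₁ g₁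
  have hpc₂ : IsProper c₂ := by
    have : IsProper (c₂ ≫ g₂) := by rw [hc₂]; exact hp
    exact IsProper.of_comp c₂ g₂
  have hij : ∀ Z : Scheme.{u}, HasInjectiveResolutions Z.Modules :=
    Groth.Agent.Dcoh.DerSch.hasInjectiveResolutions
  -- the geometric fibres
  have H : ∀ (Ω : Type u) [Field Ω] [IsAlgClosed Ω] (t : Spec (CommRingCat.of Ω) ⟶ T),
      (Surjective (K900.FamArg.cb c₁ hc₁ t) ∧ Surjective (K900.FamArg.cb c₂ hc₂ t)) ∧
      (∀ x x' : ↥(pullback f t), K900.FamArg.cb c₂ hc₂ t x = K900.FamArg.cb c₂ hc₂ t x' →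
        K900.FamArg.cb c₁ hc₁ t x = K900.FamArg.cb c₁ hc₁ t x') ∧
      (∀ x x' : ↥(pullback f t), K900.FamArg.cb c₁ hc₁ t x = K900.FamArg.cb c₁ hc₁ t x' →
        K900.FamArg.cb c₂ hc₂ t x = K900.FamArg.cb c₂ hc₂ t x') := by
    intro Ω _ _ t
    have i₀ := hij (pullback f t)
    let _ : (pullback f t).Over (Spec (CommRingCat.of Ω)) := ⟨pullback.snd f t⟩
    let _ : (pullback g₁ t).Over (Spec (CommRingCat.of Ω)) := ⟨pullback.snd g₁ t⟩
    let _ : (pullback g₂ t).Over (Spec (CommRingCat.of Ω)) := ⟨pullback.snd g₂ t⟩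
    have P : IsProper (pullback f t ↘ Spec (CommRingCat.of Ω)) :=
      inferInstanceAs (IsProper (pullback.snd f t))
    have P₁ : IsProper (pullback g₁ t ↘ Spec (CommRingCat.of Ω)) :=
      inferInstanceAs (IsProper (pullback.snd g₁ t))
    have P₂ : IsProper (pullback g₂ t ↘ Spec (CommRingCat.of Ω)) :=
      inferInstanceAs (IsProper (pullback.snd g₂ t))
    have C₀ : ConnectedSpace ↥(pullback f t) :=
      hpre.2.2 Ω t _ _ _ (IsPullback.of_hasPullback f t)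
    have K₁ : ConnectedSpace ↥(pullback g₁ t) :=
      hst₁.1.2.2 Ω t _ _ _ (IsPullback.of_hasPullback g₁ t)
    have K₂ : ConnectedSpace ↥(pullback g₂ t) :=
      hst₂.1.2.2 Ω t _ _ _ (IsPullback.of_hasPullback g₂ t)
    obtain ⟨d, n⟩ := K900.GeoFib.atWorstNodal_geometric f hpre.2.1 Ω t
    obtain ⟨d₁, n₁⟩ := K900.GeoFib.atWorstNodal_geometric g₁ hst₁.1.2.1 Ω t
    obtain ⟨d₂, n₂⟩ := K900.GeoFib.atWorstNodal_geometric g₂ hst₂.1.2.1 Ω t
    obtain ⟨γ₁, s₁⟩ := hst₁.2 Ω t _ _ _ (IsPullback.of_hasPullback g₁ t)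
    obtain ⟨γ₂, s₂⟩ := hst₂.2 Ω t _ _ _ (IsPullback.of_hasPullback g₂ t)
    have G₁ : 2 ≤ Curv2.genus Ω (pullback g₁ t) := by
      have : Curv2.genus Ω (pullback g₁ t) = g := γ₁
      rw [this]; exact hg
    have G₂ : 2 ≤ Curv2.genus Ω (pullback g₂ t) := by
      have : Curv2.genus Ω (pullback g₂ t) = g := γ₂
      rw [this]; exact hg
    obtain ⟨u₁, r₁⟩ := hbc₁ _ _ _ t (pullback.snd g₁ t) (K900.FamArg.cb c₁ hc₁ t) (pullback.fst g₁ t)
      (pullback.fst f t) (IsPullback.of_hasPullback g₁ t) (K900.FamArg.isPullback_cb c₁ hc₁ t)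
    obtain ⟨u₂, r₂⟩ := hbc₂ _ _ _ t (pullback.snd g₂ t) (K900.FamArg.cb c₂ hc₂ t) (pullback.fst g₂ t)
      (pullback.fst f t) (IsPullback.of_hasPullback g₂ t) (K900.FamArg.isPullback_cb c₂ hc₂ t)
    have w₁ : K900.FamArg.cb c₁ hc₁ t ≫ (pullback g₁ t ↘ Spec (CommRingCat.of Ω)) =
        pullback f t ↘ Spec (CommRingCat.of Ω) := K900.FamArg.cb_snd c₁ hc₁ t
    have w₂ : K900.FamArg.cb c₂ hc₂ t ≫ (pullback g₂ t ↘ Spec (CommRingCat.of Ω)) =
        pullback f t ↘ Spec (CommRingCat.of Ω) := K900.FamArg.cb_snd c₂ hc₂ t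
    have q₁ := K900.FieldThm.isProper_c _ Ω w₁
    have q₂ := K900.FieldThm.isProper_c _ Ω w₂
    have N₁ : IsNoetherian (pullback g₁ t) :=
      Groth.Agent.CurvesC.CurveCoh.noetherianSpace Ω (pullback g₁ t)
    have N₂ : IsNoetherian (pullback g₂ t) :=
      Groth.Agent.CurvesC.CurveCoh.noetherianSpace Ω (pullback g₂ t)
    refine ⟨⟨K900.UnptField.surjective_of_unit _ u₁, K900.UnptField.surjective_of_unit _ u₂⟩, ?_, ?_⟩
    · exact K900.GeoFib.fibres Ω d n d₁ n₁ G₁ (fun Z hZ => (s₁ Z hZ).1) (fun Z hZ => (s₁ Z hZ).2)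
        d₂ n₂ G₂ (fun Z hZ => (s₂ Z hZ).1) (fun Z hZ => (s₂ Z hZ).2) _ w₁ _ w₂ u₁ r₁ u₂ r₂
    · exact K900.GeoFib.fibres Ω d n d₂ n₂ G₂ (fun Z hZ => (s₂ Z hZ).1) (fun Z hZ => (s₂ Z hZ).2)
        d₁ n₁ G₁ (fun Z hZ => (s₁ Z hZ).1) (fun Z hZ => (s₁ Z hZ).2) _ w₂ _ w₁ u₂ r₂ u₁ r₁
  have S₁ : Surjective c₁ := K900.FamArg.surjective_of_geometric f g₁ c₁ hc₁ fun Ω _ _ t => (H Ω t).1.1
  have S₂ : Surjective c₂ := K900.FamArg.surjective_of_geometric f g₂ c₂ hc₂ fun Ω _ _ t => (H Ω t).1.2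
  have i₀ := hij C
  have U₁ := (hbc₁ T C C₁ (𝟙 T) g₁ c₁ (𝟙 C₁) (𝟙 C) (IsPullback.of_horiz_isIso ⟨by simp⟩)
    (IsPullback.of_horiz_isIso ⟨by simp⟩)).1
  have U₂ := (hbc₂ T C C₂ (𝟙 T) g₂ c₂ (𝟙 C₂) (𝟙 C) (IsPullback.of_horiz_isIso ⟨by simp⟩)
    (IsPullback.of_horiz_isIso ⟨by simp⟩)).1
  refine K900.Desc.existsUnique_iso c₁ (K900.Desc.isIso_app_of_unit c₁ U₁) c₂
    (K900.Desc.isIso_app_of_unit c₂ U₂) ?_ ?_
  · exact K900.FamArg.fibres_of_geometric f g₁ c₁ hc₁ g₂ c₂ hc₂ fun Ω _ _ t => (H Ω t).2.1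
  · exact K900.FamArg.fibres_of_geometric f g₂ c₂ hc₂ g₁ c₁ hc₁ fun Ω _ _ t => (H Ω t).2.2

end Groth.Agent.S17196
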