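import Groth.Statements.S4496
import Groth.Agent.S2407
import Groth.Agent.Ega3A.TFunFlat

set_option autoImplicit false
universe u
open FlatCx

namespace Groth.Agent.S4496

open CategoryTheory CategoryTheory.Limits MonoidalCategory in
/-- For the homological functor T_p(M) = H_p(P ⊗_A M) of a chain complex P of flat modules over a
commutative ring A: T_p takes injections to injections and surjections to surjections if and only if
T_p is isomorphic to the functor M ↦ N ⊗_A M for some flat A-module N (which is then isomorphic to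
T_p(A)). -/
theorem result {A : Type u} [CommRing A]
    (P : ChainComplex (ModuleCat.{u} A) ℤ) (hP : ∀ i, Module.Flat A (P.X i)) (p : ℤ) :
    ((CohIII.TFun P p).PreservesMonomorphisms ∧ (CohIII.TFun P p).PreservesEpimorphisms) ↔
      ∃ N : ModuleCat.{u} A, Module.Flat A N ∧ Nonempty (CohIII.TFun P p ≅ tensorLeft N) := by
  constructor
  · rintro ⟨h1, h2⟩
    obtain ⟨N, ⟨e⟩⟩ := (Groth.Agent.S2407.result P hP p).1 h2
    refine ⟨N, ?_, ⟨e⟩⟩
    rw [Module.Flat.iff_lTensor_preserves_injective_linearMap]
    intro X Y _ _ _ _ f hf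
    have hg : Mono (ModuleCat.ofHom f) := (ModuleCat.mono_iff_injective _).2 hf
    have h3 := h1.preserves (ModuleCat.ofHom f)
    have h4 : (tensorLeft N).map (ModuleCat.ofHom f) =
        e.inv.app _ ≫ (CohIII.TFun P p).map (ModuleCat.ofHom f) ≫ e.hom.app _ := by
      rw [e.hom.naturality, e.inv_hom_id_app_assoc]
    have h5 : Mono ((tensorLeft N).map (ModuleCat.ofHom f)) := by
      rw [h4]; infer_instance
    rw [ModuleCat.mono_iff_injective] at h5
    exact h5
  · rintro ⟨N, hN, ⟨e⟩⟩
    refine ⟨⟨fun {X Y} f hf => ?_⟩, (Groth.Agent.S2407.result P hP p).2 ⟨N, ⟨e⟩⟩⟩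
    have h4 : (CohIII.TFun P p).map f =
        e.hom.app _ ≫ (tensorLeft N).map f ≫ e.inv.app _ := by
      rw [e.inv.naturality, e.hom_inv_id_app_assoc]
    have h5 : Mono ((tensorLeft N).map f) := by
      rw [ModuleCat.mono_iff_injective] at hf ⊢
      exact Module.Flat.lTensor_preserves_injective_linearMap (M := N) f.hom hf
    rw [h4]
    infer_instance

end Groth.Agent.S4496
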