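import Groth.Statements.S7553
import Groth.Agent.ConstrTop.K391.Basic
import Mathlib.Topology.NoetherianSpace
import Mathlib.Topology.Sober

set_option autoImplicit false
universe u
open ConstrTop

namespace Groth.Agent.S7553

open Topology TopologicalSpace in
/-- A point in the closure of a constructible subset of a Noetherian sober space specializes from
a point of the subset. -/
theorem exists_specializes {X : Type u} [TopologicalSpace X] [NoetherianSpace X] [QuasiSober X]
    {E : Set X} (hE : IsConstructible E) {x : X} (hx : x ∈ closure E) :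
    ∃ ξ ∈ E, ξ ⤳ x := by
  obtain ⟨n, L, hL, rfl⟩ := K391.Basic.exists_isLocallyClosed hE
  rw [closure_iUnion_of_finite] at hx
  obtain ⟨i, hi⟩ := Set.mem_iUnion.mp hx
  obtain ⟨U, C, hU, hC, hUC⟩ := hL i
  have hN : NoetherianSpace ↥(L i) := inferInstance
  have hfin := NoetherianSpace.finite_irreducibleComponents (α := ↥(L i))
  have hun : (⋃₀ irreducibleComponents ↥(L i)) = Set.univ := by
    refine Set.eq_univ_of_forall fun y => ?_
    exact ⟨irreducibleComponent y, irreducibleComponent_mem_irreducibleComponents y,
      mem_irreducibleComponent⟩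
  have h1 : L i = ⋃ W ∈ irreducibleComponents ↥(L i), (Subtype.val : ↥(L i) → X) '' W := by
    rw [← Set.image_iUnion₂, ← Set.sUnion_eq_biUnion, hun, Set.image_univ, Subtype.range_coe]
  rw [h1, hfin.closure_biUnion] at hi
  obtain ⟨W, hW, hxW⟩ := Set.mem_iUnion₂.mp hi
  have hWirr : IsIrreducible ((Subtype.val : ↥(L i) → X) '' W) :=
    hW.1.image _ continuous_subtype_val.continuousOn
  obtain ⟨ξ, hξ⟩ := QuasiSober.sober hWirr.closure isClosed_closure
  have hWL : (Subtype.val : ↥(L i) → X) '' W ⊆ L i := Subtype.coe_image_subset _ _
  have hξC : ξ ∈ C := closure_minimal (hWL.trans (by rw [hUC]; exact Set.inter_subset_right)) hC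
    hξ.mem
  have hξU : ξ ∈ U := by
    obtain ⟨w, hw⟩ := hWirr.nonempty
    have hwU : w ∈ U := by have := hWL hw; rw [hUC] at this; exact this.1
    have h2 : ξ ⤳ w := hξ.specializes (subset_closure hw)
    exact h2.mem_open hU hwU
  exact ⟨ξ, Set.mem_iUnion.mpr ⟨i, by rw [hUC]; exact ⟨hξU, hξC⟩⟩, hξ.specializes hxW⟩

open Topology TopologicalSpace in
/-- Constructible and stable under specialization implies closed. -/
theorem isClosed_of {X : Type u} [TopologicalSpace X] [NoetherianSpace X] [QuasiSober X]
    {E : Set X} (hE : IsConstructible E) (h : StableUnderSpecialization E) : IsClosed E := by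
  rw [← closure_subset_iff_isClosed]
  intro x hx
  obtain ⟨ξ, hξ, hs⟩ := exists_specializes hE hx
  exact h hs hξ

/-- Let X be a Noetherian sober topological space and E ⊆ X. (1) A constructible E that is closed under
specialization is a closed subset. (2) A constructible E that is closed under generalization is an
open subset. -/
theorem result {X : Type u} [TopologicalSpace X]
    [TopologicalSpace.NoetherianSpace X] [QuasiSober X] [T0Space X] (E : Set X) (hE : Topology.IsConstructible E) :
    (StableUnderSpecialization E → IsClosed E) ∧ (StableUnderGeneralization E → IsOpen E) := by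
  refine ⟨fun h => isClosed_of hE h, fun h => ?_⟩
  rw [← isClosed_compl_iff]
  exact isClosed_of hE.compl (stableUnderSpecialization_compl_iff.mpr h)

end Groth.Agent.S7553
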