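import Groth.Statements.S7647
import Groth.Agent.S7637
import Groth.Agent.Variety.K420.IntPush
import Mathlib.Algebra.MvPolynomial.Equiv

set_option autoImplicit false
universe u
open CategoryTheory CategoryTheory.Limits AlgebraicGeometry
open Variety

namespace Groth.Agent.S7647

open Groth.Agent.Ega2 Groth.Agent.Fga.PicMon K420.IntCoeff K420.IntPush

/-- The degree of a power of an invertible module on a scheme of dimension at most one. -/
theorem euler_tensorPow (k : Type u) [Field k] (Z : Scheme.{u}) [Z.Over (Spec (CommRingCat.of k))]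
    [IsProper (Z ↘ (Spec (CommRingCat.of k)))] (hdim : topologicalKrullDim Z ≤ 1)
    (L : Z.Modules) (hL : PicF.IsInvertible L) (n : ℕ) :
    Curv2.euler k Z (CohB1.tensorPow L n) =
      n * Curv2.deg k Z L 1 + Curv2.euler k Z (Coh.structureModule Z) := by
  induction n with
  | zero =>
    change Curv2.euler k Z (Coh.structureModule Z) = _
    simp
  | succ n ih =>
    have h1 : FlatMod.IsFinLocFreeOfRank 1 L := Ega2.QCohLocal.isFinLocFreeOfRank_one_iff.mpr hL
    have h2 : FlatMod.IsFinLocFreeOfRank 1 (CohB1.tensorPow L n) :=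
      Ega2.QCohLocal.isFinLocFreeOfRank_one_iff.mpr (Fdesc.LocGen.isInvertible_tensorPow hL n)
    have h3 := Groth.Agent.S7637.result k Z hdim 1 1 (CohB1.tensorPow L n) L h2 h1
    have h4 : Curv2.deg k Z (CohB1.tensorPow L n) 1 = n * Curv2.deg k Z L 1 := by
      rw [Curv2.deg, ih]
      push_cast
      ring
    rw [h4] at h3
    have h5 : Curv2.euler k Z (CohB1.tensorPow L (n + 1)) =
      Curv2.deg k Z (CohB1.tensorMod (CohB1.tensorPow L n) L) (1 * 1) +
        Curv2.euler k Z (Coh.structureModule Z) := by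
      rw [Curv2.deg]
      change Curv2.euler k Z (CohB1.tensorMod (CohB1.tensorPow L n) L) = _
      push_cast
      ring
    rw [h5, h3]
    push_cast
    ring

/-- Let X be proper over a field k, Z ⊆ X a closed subscheme of dimension ≤ 1 and L an invertible
module. Then the intersection number (L · Z), i.e. the coefficient of n in the polynomial computing
χ(X, O_Z ⊗ L^{⊗n}), equals the degree of L|_Z on Z. -/
theorem result (k : Type u) [Field k] (X : Scheme.{u}) [X.Over (Spec (CommRingCat.of k))] [IsProper (X ↘ (Spec (CommRingCat.of k)))]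
    (D : X.IdealSheafData) (hD : topologicalKrullDim (D.support : Set X) ≤ 1)
    (L : X.Modules) (hL : PicF.IsInvertible L) (P : MvPolynomial (Fin 1) ℚ)
    (hP : ∀ n : Fin 1 → ℕ, (Curv2.euler k X (Curv2.tensorPows (ClSub.quotMod D) 1 (fun _ => L) n) : ℚ) = MvPolynomial.eval (fun i => (n i : ℚ)) P) :
    MvPolynomial.coeff (Finsupp.equivFunOnFinite.symm fun _ : Fin 1 => 1) P =
      (@Curv2.deg k _ D.subscheme ⟨D.subschemeι ≫ (X ↘ (Spec (CommRingCat.of k)))⟩
        ((Scheme.Modules.pullback D.subschemeι).obj L) 1 : ℚ) := by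
  letI : D.subscheme.Over (Spec (CommRingCat.of k)) := ⟨D.subschemeι ≫ (X ↘ (Spec (CommRingCat.of k)))⟩
  have hprop : IsProper (D.subscheme ↘ (Spec (CommRingCat.of k))) :=
    inferInstanceAs (IsProper (D.subschemeι ≫ (X ↘ (Spec (CommRingCat.of k)))))
  have hdim : topologicalKrullDim D.subscheme ≤ 1 := by
    have e := D.subschemeι.isClosedEmbedding.isEmbedding.toHomeomorph
    rw [IsHomeomorph.topologicalKrullDim_eq _ e.isHomeomorph, Scheme.IdealSheafData.range_subschemeι]
    exact hD
  have hL' : PicF.IsInvertible ((Scheme.Modules.pullback D.subschemeι).obj L) :=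
    Fdesc.LocGen.isInvertible_pullback D.subschemeι hL
  set d := Curv2.deg k D.subscheme ((Scheme.Modules.pullback D.subschemeι).obj L) 1 with hd
  set c := Curv2.euler k D.subscheme (Coh.structureModule D.subscheme) with hc
  have hval : ∀ n : Fin 1 → ℕ,
      Curv2.euler k X (Curv2.tensorPows (ClSub.quotMod D) 1 (fun _ => L) n) = n 0 * d + c := by
    intro n
    have h1 := euler_tensorPows_push k D.subschemeι rfl (Coh.structureModule D.subscheme)
      (Groth.Agent.CurvesB.UnitCoh.isCoh_structureModule _).1 (fun _ : Fin 1 => L) (fun _ => hL) n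
    refine h1.trans ?_
    rw [← euler_tensorPow k D.subscheme hdim _ hL' (n 0)]
    exact euler_congr k (Ega2.Tens.lunit _)
  have hPQ : P = MvPolynomial.C (d : ℚ) * MvPolynomial.X 0 + MvPolynomial.C (c : ℚ) := by
    refine K420.PolyNat.eq_of_nat' _ _ fun n => ?_
    rw [← hP, hval]
    simp
    ring
  rw [hPQ]
  have h2 : (Finsupp.equivFunOnFinite.symm fun _ : Fin 1 => 1) = Finsupp.single (0 : Fin 1) 1 := by
    refine Finsupp.ext fun i => ?_
    rw [Subsingleton.elim i 0]
    simp
  have h3 : (0 : Fin 1 →₀ ℕ) ≠ Finsupp.single (0 : Fin 1) 1 := by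
    intro h
    have := DFunLike.congr_fun h 0
    simp at this
  rw [h2, MvPolynomial.coeff_add, MvPolynomial.coeff_C_mul, MvPolynomial.coeff_C, if_neg h3]
  simp [MvPolynomial.coeff_X]

end Groth.Agent.S7647
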