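import Groth.Statements.S17207
import Groth.Agent.CurvSt.K900.PtField
import Groth.Agent.CurvSt.K900.FamArg
import Groth.Agent.CurvSt.K900.Desc
import Groth.Agent.Dcoh.DerSch

set_option autoImplicit false
universe u
open CurvSt

namespace Groth.Agent.S17207

section

open CategoryTheory CategoryTheory.Limits AlgebraicGeometry

/-- The marked points of the fibres of the target of a morphism of pointed families. -/
theorem markedPt_cb {C C₁ T : Scheme.{u}} {f : C ⟶ T} {n : ℕ} {σ : Fin n → (T ⟶ C)}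
    (hσ : ∀ i, σ i ≫ f = 𝟙 T) {g₁ : C₁ ⟶ T} (c₁ : C ⟶ C₁) (hc₁ : c₁ ≫ g₁ = f)
    (hσ₁ : ∀ i, (σ i ≫ c₁) ≫ g₁ = 𝟙 T) {Ω : Type u} [Field Ω] (t : Spec (CommRingCat.of Ω) ⟶ T) :
    CurvSt.markedPt (fun i => σ i ≫ c₁) hσ₁ (IsPullback.of_hasPullback g₁ t) =
      fun i => (K900.FamArg.cb c₁ hc₁ t).base (CurvSt.markedPt σ hσ (IsPullback.of_hasPullback f t) i) := by
  funext i
  have key : (IsPullback.of_hasPullback g₁ t).lift (t ≫ σ i ≫ c₁) (𝟙 _)
      (by rw [Category.assoc, hσ₁, Category.comp_id, Category.id_comp]) =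
      (IsPullback.of_hasPullback f t).lift (t ≫ σ i) (𝟙 _)
        (by rw [Category.assoc, hσ, Category.comp_id, Category.id_comp]) ≫ K900.FamArg.cb c₁ hc₁ t := by
    apply (IsPullback.of_hasPullback g₁ t).hom_ext
    · rw [IsPullback.lift_fst, Category.assoc, K900.FamArg.cb_fst, IsPullback.lift_fst_assoc, Category.assoc]
    · rw [IsPullback.lift_snd, Category.assoc, K900.FamArg.cb_snd, IsPullback.lift_snd]
  exact congrArg (fun m => m (IsLocalRing.closedPoint Ω)) key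

end

open CategoryTheory CategoryTheory.Limits AlgebraicGeometry in
/-- Let f : C → T be a morphism of schemes with n sections σ_i which is a prestable n-pointed family of
genus g (flat, proper and locally of finite presentation, every geometric fibre with the induced
marked points a connected at-worst-nodal curve of dimension one with h^1(O) = g and marked points
distinct, closed and in the smooth locus), with 2g − 2 + n > 0. Suppose c₁ : C → C₁ and c₂ : C → C₂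
are morphisms over T to schemes g₁ : C₁ → T, g₂ : C₂ → T such that, for i = 1, 2, the family C_i → T
with the sections σ_j followed by c_i is a stable n-pointed family of genus g, and for every
morphism T₀ → T and every pair of cartesian squares of schemes producing the base change of c_i
(with injective resolutions on the base-changed source) the map from the structure sheaf to the
direct image of the structure sheaf is an isomorphism and the first higher direct image of the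
structure sheaf vanishes. Then there is a unique isomorphism e : C₁ ≅ C₂ with c₁ followed by e equal
to c₂. (Scheme total spaces, a special case of the source.) -/
theorem result {C T : Scheme.{u}} (f : C ⟶ T) (n g : ℕ) (σ : Fin n → (T ⟶ C))
    (hσ : ∀ i, σ i ≫ f = 𝟙 T) (hpre : CurvSt.IsPrestablePtdFam f σ hσ g) (hg : 3 ≤ 2 * g + n)
    (C₁ : Scheme.{u}) (g₁ : C₁ ⟶ T) (c₁ : C ⟶ C₁) (hc₁ : c₁ ≫ g₁ = f)
    (hst₁ : CurvSt.IsStableFam g₁ (fun i => σ i ≫ c₁)
      (fun i => (Category.assoc _ _ _).trans ((congrArg (fun x => σ i ≫ x) hc₁).trans (hσ i))) g)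
    (hbc₁ : ∀ (T₀ C₀ D₀ : Scheme.{u}) (b : T₀ ⟶ T) (g₀ : D₀ ⟶ T₀) (c₀ : C₀ ⟶ D₀) (pD : D₀ ⟶ C₁) (pC : C₀ ⟶ C)
        [HasInjectiveResolutions C₀.Modules],
        IsPullback pD g₀ g₁ b → IsPullback pC c₀ c₁ pD →
          IsIso (ClSub.unitToPush c₀) ∧ IsZero ((Coh.Rpush c₀ 1).obj (Coh.structureModule C₀)))
    (C₂ : Scheme.{u}) (g₂ : C₂ ⟶ T) (c₂ : C ⟶ C₂) (hc₂ : c₂ ≫ g₂ = f)
    (hst₂ : CurvSt.IsStableFam g₂ (fun i => σ i ≫ c₂)
      (fun i => (Category.assoc _ _ _).trans ((congrArg (fun x => σ i ≫ x) hc₂).trans (hσ i))) g)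
    (hbc₂ : ∀ (T₀ C₀ D₀ : Scheme.{u}) (b : T₀ ⟶ T) (g₀ : D₀ ⟶ T₀) (c₀ : C₀ ⟶ D₀) (pD : D₀ ⟶ C₂) (pC : C₀ ⟶ C)
        [HasInjectiveResolutions C₀.Modules],
        IsPullback pD g₀ g₂ b → IsPullback pC c₀ c₂ pD →
          IsIso (ClSub.unitToPush c₀) ∧ IsZero ((Coh.Rpush c₀ 1).obj (Coh.structureModule C₀))) :
    ∃! e : C₁ ≅ C₂, c₁ ≫ e.hom = c₂ := by
  have hp : IsProper f := hpre.2.1
  have hp₁ : IsProper g₁ := hst₁.2.1
  have hp₂ : IsProper g₂ := hst₂.2.1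
  have hpc₁ : IsProper c₁ := by
    have : IsProper (c₁ ≫ g₁) := by rw [hc₁]; exact hp
    exact IsProper.of_comp c₁ g₁
  have hpc₂ : IsProper c₂ := by
    have : IsProper (c₂ ≫ g₂) := by rw [hc₂]; exact hp
    exact IsProper.of_comp c₂ g₂
  have hij : ∀ Z : Scheme.{u}, HasInjectiveResolutions Z.Modules :=
    Groth.Agent.Dcoh.DerSch.hasInjectiveResolutions
  -- the geometric fibres
  have H : ∀ (Ω : Type u) [Field Ω] [IsAlgClosed Ω] (t : Spec (CommRingCat.of Ω) ⟶ T),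
      (Surjective (K900.FamArg.cb c₁ hc₁ t) ∧ Surjective (K900.FamArg.cb c₂ hc₂ t)) ∧
      (∀ x x' : ↥(pullback f t), K900.FamArg.cb c₂ hc₂ t x = K900.FamArg.cb c₂ hc₂ t x' →
        K900.FamArg.cb c₁ hc₁ t x = K900.FamArg.cb c₁ hc₁ t x') ∧
      (∀ x x' : ↥(pullback f t), K900.FamArg.cb c₁ hc₁ t x = K900.FamArg.cb c₁ hc₁ t x' →
        K900.FamArg.cb c₂ hc₂ t x = K900.FamArg.cb c₂ hc₂ t x') := by
    intro Ω _ _ t
    have i₀ := hij (pullback f t)
    let _ : (pullback f t).Over (Spec (CommRingCat.of Ω)) := ⟨pullback.snd f t⟩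
    let _ : (pullback g₁ t).Over (Spec (CommRingCat.of Ω)) := ⟨pullback.snd g₁ t⟩
    let _ : (pullback g₂ t).Over (Spec (CommRingCat.of Ω)) := ⟨pullback.snd g₂ t⟩
    have P : IsProper (pullback f t ↘ Spec (CommRingCat.of Ω)) :=
      inferInstanceAs (IsProper (pullback.snd f t))
    have P₁ : IsProper (pullback g₁ t ↘ Spec (CommRingCat.of Ω)) :=
      inferInstanceAs (IsProper (pullback.snd g₁ t))
    have P₂ : IsProper (pullback g₂ t ↘ Spec (CommRingCat.of Ω)) :=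
      inferInstanceAs (IsProper (pullback.snd g₂ t))
    have X₀ := hpre.2.2.2 Ω t _ _ _ (IsPullback.of_hasPullback f t)
    have X₁ := hst₁.2.2.2 Ω t _ _ _ (IsPullback.of_hasPullback g₁ t)
    have X₂ := hst₂.2.2.2 Ω t _ _ _ (IsPullback.of_hasPullback g₂ t)
    rw [markedPt_cb hσ c₁ hc₁] at X₁
    rw [markedPt_cb hσ c₂ hc₂] at X₂
    obtain ⟨u₁, r₁⟩ := hbc₁ _ _ _ t (pullback.snd g₁ t) (K900.FamArg.cb c₁ hc₁ t) (pullback.fst g₁ t)
      (pullback.fst f t) (IsPullback.of_hasPullback g₁ t) (K900.FamArg.isPullback_cb c₁ hc₁ t)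
    obtain ⟨u₂, r₂⟩ := hbc₂ _ _ _ t (pullback.snd g₂ t) (K900.FamArg.cb c₂ hc₂ t) (pullback.fst g₂ t)
      (pullback.fst f t) (IsPullback.of_hasPullback g₂ t) (K900.FamArg.isPullback_cb c₂ hc₂ t)
    have w₁ : K900.FamArg.cb c₁ hc₁ t ≫ (pullback g₁ t ↘ Spec (CommRingCat.of Ω)) =
        pullback f t ↘ Spec (CommRingCat.of Ω) := K900.FamArg.cb_snd c₁ hc₁ t
    have w₂ : K900.FamArg.cb c₂ hc₂ t ≫ (pullback g₂ t ↘ Spec (CommRingCat.of Ω)) =
        pullback f t ↘ Spec (CommRingCat.of Ω) := K900.FamArg.cb_snd c₂ hc₂ t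
    have q₁ := K900.FieldThm.isProper_c _ Ω w₁
    have q₂ := K900.FieldThm.isProper_c _ Ω w₂
    have N₁ : IsNoetherian (pullback g₁ t) :=
      Groth.Agent.CurvesC.CurveCoh.noetherianSpace Ω (pullback g₁ t)
    have N₂ : IsNoetherian (pullback g₂ t) :=
      Groth.Agent.CurvesC.CurveCoh.noetherianSpace Ω (pullback g₂ t)
    refine ⟨⟨K900.UnptField.surjective_of_unit _ u₁, K900.UnptField.surjective_of_unit _ u₂⟩, ?_, ?_⟩
    · exact K900.PtField.fibres Ω X₀ _ w₁ X₁ _ w₂ X₂ u₁ r₁ u₂ r₂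
    · exact K900.PtField.fibres Ω X₀ _ w₂ X₂ _ w₁ X₁ u₂ r₂ u₁ r₁
  have S₁ : Surjective c₁ := K900.FamArg.surjective_of_geometric f g₁ c₁ hc₁ fun Ω _ _ t => (H Ω t).1.1
  have S₂ : Surjective c₂ := K900.FamArg.surjective_of_geometric f g₂ c₂ hc₂ fun Ω _ _ t => (H Ω t).1.2
  have i₀ := hij C
  have U₁ := (hbc₁ T C C₁ (𝟙 T) g₁ c₁ (𝟙 C₁) (𝟙 C) (IsPullback.of_horiz_isIso ⟨by simp⟩)
    (IsPullback.of_horiz_isIso ⟨by simp⟩)).1
  have U₂ := (hbc₂ T C C₂ (𝟙 T) g₂ c₂ (𝟙 C₂) (𝟙 C) (IsPullback.of_horiz_isIso ⟨by simp⟩)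
    (IsPullback.of_horiz_isIso ⟨by simp⟩)).1
  refine K900.Desc.existsUnique_iso c₁ (K900.Desc.isIso_app_of_unit c₁ U₁) c₂
    (K900.Desc.isIso_app_of_unit c₂ U₂) ?_ ?_
  · exact K900.FamArg.fibres_of_geometric f g₁ c₁ hc₁ g₂ c₂ hc₂ fun Ω _ _ t => (H Ω t).2.1
  · exact K900.FamArg.fibres_of_geometric f g₂ c₂ hc₂ g₁ c₁ hc₁ fun Ω _ _ t => (H Ω t).2.2

end Groth.Agent.S17207
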