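import Groth.Statements.S4450
import Groth.Agent.Ega2.DVRCriterion

set_option autoImplicit false
universe u
open CategoryTheory CategoryTheory.Limits AlgebraicGeometry
open EGA2

namespace Groth.Agent.S4450

/-- Let Y be a locally Noetherian scheme, p : X ⟶ Y a morphism locally of finite type, x a point of X, y
= p(x) and y' a specialization of y distinct from y. Then there are a discrete valuation ring A with
field of fractions the residue field k(x) and a morphism Spec A ⟶ Y mapping the closed point to y'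
and restricting on Spec k(x) to the canonical morphism Spec k(x) ⟶ X ⟶ Y (so the generic point goes
to y, and the rational map from Spec A to X so defined induces the identity of k(x)). -/
theorem result {X Y : Scheme.{u}} [IsLocallyNoetherian Y]
    (p : X ⟶ Y) [LocallyOfFiniteType p] (x : X) (y' : Y) (hsp : p.base x ⤳ y') (hne : y' ≠ p.base x) :
    ∃ (A : ValuationSubring (X.residueField x)) (h : Spec (CommRingCat.of A) ⟶ Y), IsDiscreteValuationRing A ∧
      h.base (IsLocalRing.closedPoint A) = y' ∧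
      Spec.map (CommRingCat.ofHom A.subtype) ≫ h = X.fromSpecResidueField x ≫ p := by
  classical
  let y : Y := p.base x
  let K : Type u := X.residueField x
  -- affine neighbourhoods
  obtain ⟨V, hV, hyV', -⟩ := exists_isAffineOpen_mem_and_subset
    (U := (⊤ : Y.Opens)) (x := y') trivial
  have hyV : y ∈ V := hsp.mem_open V.2 hyV'
  obtain ⟨U, hU, hxU, hUV'⟩ := exists_isAffineOpen_mem_and_subset
    (U := p ⁻¹ᵁ V) (x := x) hyV
  have hUV : U ≤ p ⁻¹ᵁ V := hUV'
  let evX : Γ(X, U) ⟶ X.residueField x := X.evaluation U x hxU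
  let ρ : Γ(Y, V) ⟶ X.residueField x := p.appLE V U hUV ≫ evX
  have hUst := hU.fromSpecStalk_eq_fromSpecStalk hxU
  rw [IsAffineOpen.fromSpecStalk] at hUst
  have hevX : Spec.map evX ≫ hU.fromSpec = X.fromSpecResidueField x := by
    rw [Scheme.fromSpecResidueField, ← hUst, ← Category.assoc, ← Spec.map_comp]
    rfl
  have hρ : Spec.map ρ ≫ hV.fromSpec = X.fromSpecResidueField x ≫ p := by
    rw [Spec.map_comp, Category.assoc, hV.SpecMap_appLE_fromSpec p hU hUV, ← Category.assoc, hevX]
  -- the map from the local ring at `y'`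
  let σ : Y.presheaf.stalk y' ⟶ X.residueField x :=
    Y.presheaf.stalkSpecializes hsp ≫ p.stalkMap x ≫ X.residue x
  have hσ : Y.presheaf.germ V y' hyV' ≫ σ = ρ := by
    simp only [σ, ρ, evX, Scheme.evaluation]
    rw [TopCat.Presheaf.germ_stalkSpecializes_assoc, Scheme.Hom.germ_stalkMap_assoc]
    have h0 : p.appLE V U hUV = p.app V ≫ X.presheaf.map (homOfLE hUV).op := rfl
    rw [h0, Category.assoc, TopCat.Presheaf.germ_res_assoc]
  obtain ⟨V₀, hV₀, hloc⟩ := IsLocalRing.exists_factor_valuationRing (K := K) σ.hom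
  have hσval : ∀ r, ρ.hom r = σ.hom ((Y.presheaf.germ V y' hyV').hom r) := fun r =>
    (congr($(hσ).hom r)).symm
  have hmem₀ : ∀ r : Γ(Y, V), ρ.hom r ∈ V₀ := by
    intro r
    rw [hσval]
    exact hV₀ _
  have hnon : ∀ r : Γ(Y, V), ρ.hom r ∈ V₀.nonunits ↔ y' ∉ Y.basicOpen r := by
    intro r
    rw [Y.mem_basicOpen r y' hyV', ValuationSubring.mem_nonunits_iff_exists_mem_maximalIdeal,
      ← isUnit_map_iff (σ.hom.codRestrict V₀.toSubring hV₀)]
    constructor
    · rintro ⟨h1, h2⟩ h3
      apply h2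
      exact (show (⟨ρ.hom r, h1⟩ : V₀) = (σ.hom.codRestrict V₀.toSubring hV₀)
        ((Y.presheaf.germ V y' hyV').hom r) from Subtype.ext (hσval r)) ▸ h3
    · intro h1
      refine ⟨hmem₀ r, ?_⟩
      intro h2
      apply h1
      exact (show (⟨ρ.hom r, hmem₀ r⟩ : V₀) = (σ.hom.codRestrict V₀.toSubring hV₀)
        ((Y.presheaf.germ V y' hyV').hom r) from Subtype.ext (hσval r)) ▸ h2
  have hzero : ∀ r : Γ(Y, V), ρ.hom r = 0 ↔ y ∉ Y.basicOpen r := by
    intro r
    have h1 : x ∈ X.basicOpen (p.appLE V U hUV r) ↔ y ∈ Y.basicOpen r := by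
      rw [Scheme.basicOpen_appLE]
      exact ⟨fun h => h.2, fun h => ⟨hxU, h⟩⟩
    rw [← h1]
    exact X.evaluation_eq_zero_iff_notMem_basicOpen x hxU _
  -- a function vanishing at `y'` but not at `y`
  have hex : ∃ r : Γ(Y, V), y' ∉ Y.basicOpen r ∧ y ∈ Y.basicOpen r := by
    by_contra hcon
    push Not at hcon
    apply hne
    have h1 : y' ⤳ y := by
      rw [specializes_iff_forall_open]
      intro W hW hyW
      obtain ⟨r, hrW, hyr⟩ := hV.exists_basicOpen_le (V := ⟨W, hW⟩) ⟨y, hyW⟩ hyV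
      by_contra h2
      exact hcon r (fun h3 => h2 (hrW h3)) hyr
    exact (h1.antisymm hsp).eq
  -- finite generation of `K`
  let : Algebra Γ(Y, V) K := ρ.hom.toAlgebra
  have hft : (p.appLE V U hUV).hom.FiniteType := p.finiteType_appLE hV hU _
  let : Algebra Γ(Y, V) Γ(X, U) := (p.appLE V U hUV).hom.toAlgebra
  obtain ⟨⟨G, hG⟩⟩ := hft
  let S : Finset K := G.image evX.hom
  have hevF : ∀ b : Γ(X, U), evX.hom b ∈ Subfield.closure (Set.range (algebraMap Γ(Y, V) K) ∪ S) := by
    intro b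
    have hb : b ∈ Algebra.adjoin Γ(Y, V) (G : Set Γ(X, U)) := by
      rw [hG]
      trivial
    induction hb using Algebra.adjoin_induction with
    | mem z hz =>
      apply Subfield.subset_closure
      right
      rw [Finset.mem_coe, Finset.mem_image]
      exact ⟨z, hz, rfl⟩
    | algebraMap r => exact Subfield.subset_closure (Or.inl ⟨r, rfl⟩)
    | add x y _ _ hx hy =>
      rw [map_add]
      exact add_mem hx hy
    | mul x y _ _ hx hy =>
      rw [map_mul]
      exact mul_mem hx hy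
  have hS : Subfield.closure (Set.range (algebraMap Γ(Y, V) K) ∪ S) = ⊤ := by
    rw [eq_top_iff]
    intro z _
    obtain ⟨q, rfl⟩ := X.residue_surjective x z
    let x' : U := ⟨x, hxU⟩
    let : Algebra Γ(X, U) (X.presheaf.stalk x) :=
      TopCat.Presheaf.algebra_section_stalk X.presheaf x'
    have hloc' : IsLocalization.AtPrime (X.presheaf.stalk x) (hU.primeIdealOf x').asIdeal :=
      hU.isLocalization_stalk x'
    obtain ⟨⟨a, b⟩, hq⟩ := IsLocalization.surj (S := X.presheaf.stalk x)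
      (hU.primeIdealOf x').asIdeal.primeCompl q
    have hb : IsUnit (X.presheaf.germ U x hxU b.1) :=
      IsLocalization.map_units (X.presheaf.stalk x) b
    have hb' : evX.hom b.1 ≠ 0 := (hb.map (X.residue x).hom).ne_zero
    have h1 : (X.residue x).hom q * evX.hom b.1 = evX.hom a := by
      have := congrArg (X.residue x).hom hq
      rw [map_mul] at this
      exact this
    have h2 : (X.residue x).hom q = evX.hom a / evX.hom b.1 := by
      rw [eq_div_iff hb', h1]
    rw [h2]
    exact div_mem (hevF _) (hevF _)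
  have hnoeth : IsNoetherianRing Γ(Y, V) := IsLocallyNoetherian.component_noetherian ⟨V, hV⟩
  obtain ⟨r₀, hr₀, hr₀'⟩ := hex
  obtain ⟨A, hA, hA1, hA2, -⟩ := Groth.Agent.Ega2.DVRDominate.exists_dvr_approx
    (R₀ := Γ(Y, V)) S hS V₀ hmem₀ ∅ (by simp)
    ⟨ρ.hom r₀, Or.inr ⟨r₀, rfl⟩, fun h => (hzero r₀).1 h hr₀', (hnon r₀).2 hr₀⟩
  let ρ₀ : Γ(Y, V) →+* A := ρ.hom.codRestrict A.toSubring hA1
  refine ⟨A, Spec.map (CommRingCat.ofHom ρ₀) ≫ hV.fromSpec, hA, ?_, ?_⟩
  · have h1 : (Spec.map (CommRingCat.ofHom ρ₀)) (IsLocalRing.closedPoint A) =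
        hV.primeIdealOf ⟨y', hyV'⟩ := by
      apply PrimeSpectrum.ext
      ext r
      have h2 : r ∈ (hV.primeIdealOf ⟨y', hyV'⟩).asIdeal ↔ y' ∉ Y.basicOpen r := by
        rw [Y.mem_basicOpen r y' hyV', IsAffineOpen.primeIdealOf_eq_map_closedPoint]
        rfl
      rw [h2, ← hnon]
      refine Iff.trans ?_ (hA2 r)
      rw [ValuationSubring.mem_nonunits_iff_exists_mem_maximalIdeal]
      exact ⟨fun h => ⟨hA1 r, h⟩, fun ⟨_, h⟩ => h⟩
    change hV.fromSpec ((Spec.map (CommRingCat.ofHom ρ₀)) (IsLocalRing.closedPoint A)) = y'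
    rw [h1]
    exact hV.fromSpec_primeIdealOf ⟨y', hyV'⟩
  · rw [← Category.assoc, ← Spec.map_comp, ← hρ]
    rfl

end Groth.Agent.S4450
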