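import Groth.Statements.S16186
import Groth.Agent.Deform.K682.CurveThrough
import Groth.Agent.Deform.K682.SmoothNear
import Groth.Agent.Ega3B.LimInv4
import Groth.Agent.Ega3B.ProjProper
import Groth.Agent.Ega4dA.ParaCrit

set_option autoImplicit false
universe u
open CategoryTheory CategoryTheory.Limits AlgebraicGeometry
open Deform

namespace Groth.Agent.S16186

open IsLocalRing

theorem lfp_of_noetherian {X Y : Scheme.{u}} (f : X ⟶ Y) [IsLocallyNoetherian Y] [LocallyOfFiniteType f] :
    LocallyOfFinitePresentation f where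
  finitePresentation_appLE {U} hU {V} hV e := by
    have : IsNoetherianRing Γ(Y, U) := IsLocallyNoetherian.component_noetherian ⟨U, hU⟩
    exact RingHom.FinitePresentation.of_finiteType.1 (f.finiteType_appLE hU hV e)

/-- A model over a finitely generated `k`-subalgebra containing a given element. -/
theorem exists_model (k R : Type u) [Field k] [CommRing R] [Algebra k R] {P : Scheme.{u}}
    (p : P ⟶ Spec (CommRingCat.of R)) [IsProper p] [Flat p] [LocallyOfFinitePresentation p] (x : R) :
    ∃ (A : Subalgebra k R) (_ : A.FG) (_ : x ∈ A) (X₀ : Scheme.{u}) (f : X₀ ⟶ Spec (CommRingCat.of A)) (q : P ⟶ X₀),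
      IsPullback q p f (Spec.map (CommRingCat.ofHom A.val.toRingHom)) ∧ IsProper f ∧ Flat f ∧
      LocallyOfFinitePresentation f := by
  obtain ⟨S, ⟨s, hs⟩, X₀, f₀, p₀, -, h0, h1, h2, h3, -⟩ :=
    Groth.Agent.Ega3B.LimInv.exists_proper_flat_model_Spec R p (Groth.Agent.Ega4dA.ParaCrit.structureModule_isInvertible P)
  let A : Subalgebra k R := Algebra.adjoin k ((s : Set R) ∪ {x})
  have hSA : ∀ y : R, y ∈ S → y ∈ A := by
    intro y hy
    rw [← hs] at hy
    have h4 : Algebra.adjoin ℤ (s : Set R) ≤ A.restrictScalars ℤ :=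
      Algebra.adjoin_le fun z hz => Algebra.subset_adjoin (Or.inl hz)
    exact h4 hy
  have hAfg : A.FG := by
    classical
    refine ⟨s ∪ {x}, ?_⟩
    rw [Finset.coe_union, Finset.coe_singleton]
  let φ : S →+* A := S.val.toRingHom.codRestrict A.toSubring fun y => hSA y y.2
  have hφ : A.val.toRingHom.comp φ = S.val.toRingHom := rfl
  let f : pullback f₀ (Spec.map (CommRingCat.ofHom φ)) ⟶ Spec (CommRingCat.of A) := pullback.snd _ _
  have hf : IsPullback (pullback.fst f₀ (Spec.map (CommRingCat.ofHom φ))) f f₀ (Spec.map (CommRingCat.ofHom φ)) :=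
    IsPullback.of_hasPullback _ _
  have h0' : IsPullback p₀ p f₀ (Spec.map (CommRingCat.ofHom A.val.toRingHom) ≫ Spec.map (CommRingCat.ofHom φ)) := by
    rw [← Spec.map_comp, ← CommRingCat.ofHom_comp, hφ]
    exact h0
  refine ⟨A, hAfg, Algebra.subset_adjoin (Or.inr rfl), _, f,
    hf.lift p₀ (p ≫ Spec.map (CommRingCat.ofHom A.val.toRingHom)) (by rw [Category.assoc, h0'.w]), ?_,
    inferInstance, inferInstance, inferInstance⟩
  refine IsPullback.of_right ?_ (hf.lift_snd _ _ _) hf
  rw [hf.lift_fst]
  exact h0'

/-- Let k be an algebraically closed field and let p : P → Spec k[[t]] be flat and projective, i.e. P is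
a closed subscheme of a projective space over k[[t]] compatibly with p; let X be its closed fibre
over k and suppose the generic fibre P ⊗ Frac k[[t]] is smooth. Then X is geometrically smoothable:
there exist an affine integral curve C, smooth of dimension one over k, a k-rational point c of C
and a flat proper morphism Y → C whose fibre over c is isomorphic to X over k and whose fibre over
the generic point of C is smooth. (The source's statement is the equivalence, for X reduced
projective and equidimensional over an algebraically closed field of characteristic zero with H^2(X,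
O_X) = 0 or with X Gorenstein and its dualizing sheaf or the dual of it ample, between the existence
of a formal smoothing and of a geometric smoothing; its proof first turns a formal smoothing into a
smoothing over Spec k[[t]] and then runs the argument stated here, which uses neither characteristic
zero nor the hypotheses on X.) -/
theorem result
    (k : Type u) [Field k] [IsAlgClosed k]
    (X : Scheme.{u}) (pX : X ⟶ Spec (CommRingCat.of k))
    (P : Scheme.{u}) (p : P ⟶ Spec (CommRingCat.of (PowerSeries k))) [Flat p]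
    (hproj : ∃ (d : ℕ) (ι : P ⟶ CohB1.ProjSpace d (PowerSeries k)), IsClosedImmersion ι ∧
      ι ≫ CohB1.ProjSpace.toSpec d (PowerSeries k) = p)
    (i : X ⟶ P)
    (hX : IsPullback i pX p (Spec.map (CommRingCat.ofHom (PowerSeries.constantCoeff (R := k)))))
    (hgen : Smooth (pullback.snd p
      (Spec.map (CommRingCat.ofHom (algebraMap (PowerSeries k) (FractionRing (PowerSeries k)))))))
    : ∃ (C : Scheme.{u}) (qC : C ⟶ Spec (CommRingCat.of k)) (c : Spec (CommRingCat.of k) ⟶ C)
      (_ : c ≫ qC = 𝟙 (Spec (CommRingCat.of k))) (_ : IsIntegral C) (_ : IsAffine C) (_ : Smooth qC)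
      (_ : topologicalKrullDim C = 1)
      (Y : Scheme.{u}) (π : Y ⟶ C) (_ : Flat π) (_ : IsProper π) (j : X ⟶ Y)
      (η : C) (_ : closure ({η} : Set C) = Set.univ),
      IsPullback j pX π c ∧ Smooth (π.fiberToSpecResidueField η) := by
  have hproper : IsProper p := by
    obtain ⟨d, ι, hι, rfl⟩ := hproj
    have := Groth.Agent.Ega3B.ProjProper.isProper_toSpec d (PowerSeries k)
    infer_instance
  have hnoeth : IsLocallyNoetherian (Spec (CommRingCat.of (PowerSeries k))) := inferInstance
  have hlfp : LocallyOfFinitePresentation p := lfp_of_noetherian p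
  obtain ⟨A, hAfg, hXA, X₀, f, q, hq, hf1, hf2, hf3⟩ := exists_model k (PowerSeries k) p PowerSeries.X
  have hft : Algebra.FiniteType k A := A.fg_iff_finiteType.mp hAfg
  have hdom : IsDomain A := inferInstance
  let K := FractionRing (PowerSeries k)
  -- the smooth locus
  have hgenpb := (IsPullback.of_hasPullback p
    (Spec.map (CommRingCat.ofHom (algebraMap (PowerSeries k) K)))).paste_horiz hq
  obtain ⟨U, hU1, hU2⟩ := K682.SmoothNear.exists_open hgenpb hgen (closedPoint K)
  -- a function
  obtain ⟨f₁, hf₁0, hf₁⟩ : ∃ f₁ : A, f₁ ≠ 0 ∧ ∀ y : PrimeSpectrum A, f₁ ∉ y.asIdeal → (y : Spec (CommRingCat.of A)) ∈ U := by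
    let ζ : PrimeSpectrum A := PrimeSpectrum.comap ((algebraMap (PowerSeries k) K).comp A.val.toRingHom) (closedPoint K)
    have hζ : (ζ : Spec (CommRingCat.of A)) ∈ U := by
      have h0 : (Spec.map (CommRingCat.ofHom (algebraMap (PowerSeries k) K)) ≫
          Spec.map (CommRingCat.ofHom A.val.toRingHom)) (closedPoint K) = (ζ : Spec (CommRingCat.of A)) := by
        rw [← Spec.map_comp, ← CommRingCat.ofHom_comp]
        rfl
      rw [← h0]
      exact hU1
    have hUo : IsOpen ((U : Set (Spec (CommRingCat.of A))) : Set (PrimeSpectrum A)) := U.2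
    obtain ⟨_, ⟨f₁, rfl⟩, h1, h2⟩ := PrimeSpectrum.isTopologicalBasis_basic_opens.exists_subset_of_mem_open hζ hUo
    refine ⟨f₁, ?_, fun y hy => h2 hy⟩
    rintro rfl
    exact h1 (Ideal.zero_mem _)
  let ε : A →ₐ[k] k := { (PowerSeries.constantCoeff (R := k)).comp A.val.toRingHom with
    commutes' := fun c => PowerSeries.constantCoeff_C c }
  obtain ⟨B, _, _, _, g, δ, hδ, hgf, hsm, hdim⟩ := K682.CurveThrough.exists_curve k A ε
    ⟨⟨PowerSeries.X, hXA⟩, fun h => PowerSeries.X_ne_zero (congrArg Subtype.val h), PowerSeries.constantCoeff_X⟩ f₁ hf₁0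
  let C := Spec (CommRingCat.of B)
  let qC : C ⟶ Spec (CommRingCat.of k) := Spec.map (CommRingCat.ofHom (algebraMap k B))
  let c : Spec (CommRingCat.of k) ⟶ C := Spec.map (CommRingCat.ofHom δ.toRingHom)
  let γ : C ⟶ Spec (CommRingCat.of A) := Spec.map (CommRingCat.ofHom g.toRingHom)
  let η : C := (⟨⊥, Ideal.isPrime_bot⟩ : PrimeSpectrum B)
  have hpb : IsPullback (pullback.fst f γ) (pullback.snd f γ) f γ := IsPullback.of_hasPullback _ _
  have hcγ : c ≫ γ = Spec.map (CommRingCat.ofHom (PowerSeries.constantCoeff (R := k))) ≫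
      Spec.map (CommRingCat.ofHom A.val.toRingHom) := by
    rw [← Spec.map_comp, ← Spec.map_comp, ← CommRingCat.ofHom_comp, ← CommRingCat.ofHom_comp]
    have : δ.toRingHom.comp g.toRingHom = ε.toRingHom := congrArg AlgHom.toRingHom hδ
    rw [this]
  have hX' := hX.paste_horiz hq
  rw [← hcγ] at hX'
  refine ⟨C, qC, c, ?_, inferInstance, inferInstance, hsm, ?_, pullback f γ, pullback.snd f γ, inferInstance,
    inferInstance, hpb.lift (i ≫ q) (pX ≫ c) (by rw [hX'.w, Category.assoc]), η, ?_, ?_, ?_⟩
  · rw [← Spec.map_comp, ← CommRingCat.ofHom_comp]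
    have h5 : δ.toRingHom.comp (algebraMap k B) = RingHom.id k := δ.comp_algebraMap
    exact (congrArg (fun t => Spec.map (CommRingCat.ofHom t)) h5).trans (Spec.map_id _)
  · rw [← hdim]
    exact PrimeSpectrum.topologicalKrullDim_eq_ringKrullDim (R := B)
  · have h5 : closure ({(⟨⊥, Ideal.isPrime_bot⟩ : PrimeSpectrum B)} : Set (PrimeSpectrum B)) = Set.univ := by
      rw [PrimeSpectrum.closure_singleton]
      exact PrimeSpectrum.zeroLocus_bot
    exact h5
  · refine IsPullback.of_right ?_ (hpb.lift_snd _ _ _) hpb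
    rw [hpb.lift_fst]
    exact hX'
  · have h2 : IsPullback ((pullback.snd f γ).fiberι η) ((pullback.snd f γ).fiberToSpecResidueField η)
      (pullback.snd f γ) (C.fromSpecResidueField η) := IsPullback.of_hasPullback _ _
    refine K682.SmoothNear.smooth_of_forall_mem (h2.paste_horiz hpb) fun z => ?_
    apply hU2
    have h3 : f (((pullback.snd f γ).fiberι η ≫ pullback.fst f γ) z) = γ η := by
      rw [← Scheme.Hom.comp_apply, (h2.paste_horiz hpb).w, Scheme.Hom.comp_apply, Scheme.Hom.comp_apply,
        Scheme.fromSpecResidueField_apply]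
    rw [h3]
    refine hf₁ (PrimeSpectrum.comap g.toRingHom ⟨⊥, Ideal.isPrime_bot⟩) ?_
    exact hgf

end Groth.Agent.S16186
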