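import Groth.Statements.S5683
import Groth.Agent.S3222

set_option autoImplicit false
universe u
open CategoryTheory CategoryTheory.Limits AlgebraicGeometry
open FGA

namespace Groth.Agent.S5683

theorem isFinLocFree_of_isInvertible {X : Scheme.{u}} {L : X.Modules} (hL : PicF.IsInvertible L) :
    FlatMod.IsFinLocFree L := by
  intro x
  obtain ⟨U, hU, ⟨e⟩⟩ := hL x
  refine ⟨U, 1, hU, ⟨e ≪≫ ?_⟩⟩
  exact (Limits.coproductUniqueIso (fun _ : Fin 1 => Coh.structureModule (↑U : Scheme.{u}))).symm

/-- pullback is injective on isomorphism classes of finite locally free modules when it is fully faithful -/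
theorem nonempty_iso_of_pullback {X S : Scheme.{u}} (f : X ⟶ S)
    (hf : ∀ U : S.Opens, Function.Bijective (f.app U))
    (N N' : S.Modules) (hN : FlatMod.IsFinLocFree N) (hN' : FlatMod.IsFinLocFree N')
    (h : Nonempty ((Scheme.Modules.pullback f).obj N ≅ (Scheme.Modules.pullback f).obj N')) :
    Nonempty (N ≅ N') := by
  obtain ⟨e⟩ := h
  obtain ⟨a, ha⟩ := (S3222.result f hf N N' hN hN').2 e.hom
  obtain ⟨b, hb⟩ := (S3222.result f hf N' N hN' hN).2 e.inv
  refine ⟨⟨a, b, ?_, ?_⟩⟩
  · apply (S3222.result f hf N N hN hN).1
    simp only at ha hb ⊢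
    rw [Functor.map_comp, ha, hb, e.hom_inv_id, CategoryTheory.Functor.map_id]
  · apply (S3222.result f hf N' N' hN' hN').1
    simp only at ha hb ⊢
    rw [Functor.map_comp, ha, hb, e.inv_hom_id, CategoryTheory.Functor.map_id]

theorem isInvertible_structureModule (S : Scheme.{u}) : PicF.IsInvertible (Coh.structureModule S) := fun _ =>
  ⟨⊤, trivial, ⟨(Scheme.Modules.restrictFunctorIsoPullback (⊤ : S.Opens).ι).app _ ≪≫
    Fga.UnitRestrict.pullbackUnitIso (⊤ : S.Opens).ι⟩⟩

/-- Let f : X ⟶ S be a morphism of schemes such that for every open U of S the induced map from sections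
of the structure sheaf of S over U to sections of the structure sheaf of X over the inverse image of
U is bijective. If L is an invertible module on S whose pullback to X is isomorphic to the structure
sheaf of X, then L is isomorphic to the structure sheaf of S: pullback of invertible modules along f
is injective on isomorphism classes. This is exactness at Pic(S). -/
theorem result {X S : Scheme.{u}} (f : X ⟶ S)
    (hf : ∀ U : S.Opens, Function.Bijective (f.app U)) (L : S.Modules) (hL : PicF.IsInvertible L)
    (htriv : Nonempty ((Scheme.Modules.pullback f).obj L ≅ Coh.structureModule X)) :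
    Nonempty (L ≅ Coh.structureModule S) := by
  refine nonempty_iso_of_pullback f hf L _ (isFinLocFree_of_isInvertible hL)
    (isFinLocFree_of_isInvertible (isInvertible_structureModule S)) ?_
  obtain ⟨e⟩ := htriv
  exact ⟨e ≪≫ (Fga.UnitRestrict.pullbackUnitIso f).symm⟩

end Groth.Agent.S5683
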