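import Groth.Statements.S8862
import Groth.Agent.Divis.WeakAss
import Groth.Agent.Divis.EffCartier

set_option autoImplicit false
universe u
open CategoryTheory CategoryTheory.Limits AlgebraicGeometry TopologicalSpace
open SDiv

namespace Groth.Agent.S8862

/-- Let f : X ⟶ Y be a morphism of schemes with X reduced and 𝓘 the ideal sheaf of an effective Cartier
divisor D ⊆ Y. If f ξ ∉ D for every generic point ξ of an irreducible component of X (every point of
X with no proper generization), then the inverse image ideal sheaf of 𝓘 on X is the ideal of an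
effective Cartier divisor. -/
theorem result {X Y : Scheme.{u}} [IsReduced X] (f : X ⟶ Y) (𝓘 : Y.IdealSheafData)
    (hD : BlowUp.IsEffCartierIdeal 𝓘)
    (h : ∀ ξ : ↥X, (∀ y : ↥X, y ⤳ ξ → y = ξ) → f ξ ∉ 𝓘.support) :
    BlowUp.IsEffCartierIdeal (𝓘.comap f) := by
  refine Groth.Agent.Divis.EffCartier.isEff_comap_of f fun x => ?_
  obtain ⟨U, hxU, a, ha, hIa⟩ := hD (f x)
  obtain ⟨V, hV, hxV, hVU⟩ := exists_isAffineOpen_mem_and_subset (U := f ⁻¹ᵁ U.1) (x := x) hxU
  have e : V ≤ f ⁻¹ᵁ U.1 := hVU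
  refine ⟨U, ⟨V, hV⟩, hxU, hxV, e, a, hIa, ?_⟩
  rw [mem_nonZeroDivisors_iff_right]
  intro t ht
  by_contra ht0
  have hnil : t ∉ sInf (minimalPrimes Γ(X, V)) := by
    rw [minimalPrimes, Ideal.sInf_minimalPrimes, ← Ideal.zero_eq_bot]
    intro h1
    exact ht0 (IsReduced.eq_zero t h1)
  obtain ⟨p, hp, htp⟩ : ∃ p ∈ minimalPrimes Γ(X, V), t ∉ p := by
    by_contra! hcon
    exact hnil (by rw [Submodule.mem_sInf]; exact hcon)
  have hpp : p.IsPrime := hp.1.1
  obtain ⟨y, hy, hyp⟩ := Groth.Agent.Divis.WeakAss.exists_point hV ⟨p, hpp⟩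
  have hyU : f y ∉ 𝓘.support := by
    refine h y fun z hz => ?_
    have hzV : z ∈ V := hz.mem_open V.isOpen hy
    have h1 := (Groth.Agent.Divis.WeakAss.specializes_iff_primeIdealOf_le hV hy hzV).1 hz
    have h2 := hp.2 ⟨(hV.primeIdealOf ⟨z, hzV⟩).isPrime, bot_le⟩ (by
      simpa [hyp] using h1)
    refine Inseparable.eq (hz.antisymm ((Groth.Agent.Divis.WeakAss.specializes_iff_primeIdealOf_le hV hzV hy).2 ?_))
    simpa [hyp] using h2
  rw [Scheme.IdealSheafData.mem_support_iff_of_mem (e hy), hIa, Scheme.zeroLocus_span,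
    Scheme.zeroLocus_singleton] at hyU
  have hfy : f y ∈ Y.basicOpen a := by simpa using hyU
  have hyu : y ∈ X.basicOpen ((f.appLE U V e).hom a) := by
    have h2 : X.basicOpen ((f.appLE U V e).hom a) = V ⊓ f ⁻¹ᵁ Y.basicOpen a := by
      simp [Scheme.Hom.appLE]
    rw [h2]
    exact ⟨hy, hfy⟩
  rw [Groth.Agent.Fdesc.QCohStalk.mem_basicOpen_iff hV y hy, hyp] at hyu
  have h3 : t * (f.appLE U V e).hom a ∈ p := by rw [ht]; exact p.zero_mem
  rcases hpp.mem_or_mem h3 with h4 | h4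
  · exact htp h4
  · exact hyu h4

end Groth.Agent.S8862
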