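import Groth.Statements.S10888
import Groth.Agent.FlatMor.K260.IsoLocus
-- import your own Groth.Agent.* helpers here

set_option autoImplicit false
universe u
open CategoryTheory AlgebraicGeometry
open FlatMor

namespace Groth.Agent.S10888

/-- Let g : X → S and h : Y → S be proper and of finite presentation with g flat, and f : X → Y a
morphism over S. Then the locus U of points of S over which the fibre morphism X_s → Y_s is an
isomorphism is an open subset of S, and f restricts to an isomorphism over U. -/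
theorem result {X Y S : Scheme.{u}} (g : X ⟶ S) (h : Y ⟶ S)
    [IsProper g] [LocallyOfFinitePresentation g] [Flat g] [IsProper h] [LocallyOfFinitePresentation h]
    (f : X ⟶ Y) (w : f ≫ h = g) :
    ∃ U : S.Opens, (∀ s : S, s ∈ U ↔ ∃ e : g.fiber s ≅ h.fiber s, e.hom ≫ h.fiberι s = g.fiberι s ≫ f) ∧
      IsIso (f ∣_ (h ⁻¹ᵁ U)) := by
  have hfp : IsProper f := by
    have : IsProper (f ≫ h) := by rw [w]; infer_instance
    exact .of_comp f h
  have hlfp : LocallyOfFinitePresentation f := by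
    have : LocallyOfFinitePresentation (f ≫ h) := by rw [w]; infer_instance
    exact Groth.Agent.Flat2E.Thick.locallyOfFinitePresentation_of_comp f h
  let U : S.Opens := ⟨(h '' (K260.IsoLocus.isoOpen f : Set Y)ᶜ)ᶜ,
    (h.isClosedMap _ (K260.IsoLocus.isoOpen f).2.isClosed_compl).isOpen_compl⟩
  have hU : h ⁻¹ᵁ U ≤ K260.IsoLocus.isoOpen f := by
    intro y hy
    by_contra hyW
    exact hy ⟨y, hyW, rfl⟩
  have hiso : IsIso (f ∣_ (h ⁻¹ᵁ U)) :=
    K260.IsoLocus.isIso_mono f _ _ hU (K260.IsoLocus.isIso_isoOpen f)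
  refine ⟨U, fun s ↦ ⟨fun hs ↦ ?_, ?_⟩, hiso⟩
  · -- the fibre map is a base change of `f ∣_ (h ⁻¹ᵁ U)`
    have hle : Set.range (h.fiberι s) ⊆ (h ⁻¹ᵁ U : Y.Opens) := by
      rw [h.range_fiberι]
      rintro y rfl
      exact hs
    let j : h.fiber s ⟶ (h ⁻¹ᵁ U : Y.Opens) := IsOpenImmersion.lift (h ⁻¹ᵁ U).ι (h.fiberι s) (by simpa using hle)
    have hj : j ≫ (h ⁻¹ᵁ U).ι = h.fiberι s := IsOpenImmersion.lift_fac _ _ _
    have H1 := Groth.Agent.Ega3B.FibreSpread.isPullback_fiberMapOver f g h w s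
    rw [← hj] at H1
    have H2 : IsPullback (f ∣_ (h ⁻¹ᵁ U)) (f ⁻¹ᵁ (h ⁻¹ᵁ U)).ι (h ⁻¹ᵁ U).ι f := isPullback_morphismRestrict f (h ⁻¹ᵁ U)
    have H3 := IsPullback.of_right' H1.flip H2.flip
    have : IsIso (CohIII.fiberMapOver f g h w s) :=
      MorphismProperty.of_isPullback (P := MorphismProperty.isomorphisms Scheme.{u}) H3 hiso
    exact ⟨asIso (CohIII.fiberMapOver f g h w s),
      Groth.Agent.Ega3B.FibreSpread.fiberMapOver_fiberι f g h w s⟩
  · rintro ⟨e, he⟩
    have h1 : CohIII.fiberMapOver f g h w s = e.hom := by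
      rw [← cancel_mono (h.fiberι s), he, Groth.Agent.Ega3B.FibreSpread.fiberMapOver_fiberι]
    have h2 : IsIso (CohIII.fiberMapOver f g h w s) := by rw [h1]; infer_instance
    rintro ⟨y, hy, rfl⟩
    obtain ⟨V, hyV, hV⟩ := K260.IsoLocus.exists_isIso_near f g h w y h2
    exact hy (K260.IsoLocus.le_isoOpen f V hV hyV)

end Groth.Agent.S10888
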