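import Groth.Statements.S18900
import Groth.Agent.DblCov.K976.Main

set_option autoImplicit false
universe u
open CategoryTheory CategoryTheory.Limits AlgebraicGeometry
open DblCov

namespace Groth.Agent.S18900

/-- Let f : X → Y be a double cover, i.e. a finite, flat, locally finitely presented morphism of rank 2
at every point, and assume 2 is invertible in O_Y(Y). Then X carries a Y-automorphism σ with σ ∘ σ =
id such that f is the quotient of X by the group generated by σ: f is affine and σ-invariant, and
over every open subset of Y the sections of O_Y are exactly the σ-invariant sections of O_X. (The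
source adds that σ has order exactly 2, which holds as soon as X is non-empty.) -/
theorem result {X Y : Scheme.{u}} (f : X ⟶ Y)
    [IsFinite f] [Flat f] [LocallyOfFinitePresentation f] (hrk : ∀ y : Y, f.finrank y = 2)
    (h2 : IsUnit (2 : Γ(Y, ⊤))) :
    ∃ σ : Aut X, σ.hom ≫ f = f ∧ σ * σ = 1 ∧ SGA1.IsQuot (Subgroup.zpowers σ).subtype f := by
  obtain ⟨s, hs, hss, h3⟩ := K976.DCMain.exists_sigma f hrk h2
  let σ : Aut X := ⟨s, s, hss, hss⟩
  have hσσ : σ * σ = 1 := by
    apply Iso.ext
    exact hss
  have hz : ∀ g : Subgroup.zpowers σ, (g : Aut X) = 1 ∨ (g : Aut X) = σ := by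
    rintro ⟨_, k, rfl⟩
    rcases Int.even_or_odd k with ⟨m, rfl⟩ | ⟨m, rfl⟩
    · left
      change σ ^ (m + m) = 1
      rw [← two_mul, zpow_mul, zpow_two, hσσ, one_zpow]
    · right
      change σ ^ (2 * m + 1) = σ
      rw [zpow_add, zpow_mul, zpow_two, hσσ, one_zpow, one_mul, zpow_one]
  have hinv : ∀ g : Subgroup.zpowers σ, ((Subgroup.zpowers σ).subtype g).hom ≫ f = f := by
    intro g
    rcases hz g with h | h
    · change (g : Aut X).hom ≫ f = f
      rw [h]
      exact Category.id_comp f
    · change (g : Aut X).hom ≫ f = f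
      rw [h]
      exact hs
  refine ⟨σ, hs, hσσ, ⟨inferInstance, hinv, K976.DCMain.app_injective f hrk h2, ?_⟩⟩
  intro U x
  constructor
  · rintro ⟨a, rfl⟩ g
    have e1 := SGA1.preimage_le_of_inv (Subgroup.zpowers σ).subtype f hinv g U
    have h4 : f.app U ≫ ((Subgroup.zpowers σ).subtype g).hom.appLE (f ⁻¹ᵁ U) (f ⁻¹ᵁ U) e1 =
        f.app U := by
      rw [← Scheme.Hom.appLE_eq_app, Scheme.Hom.appLE_comp_appLE]
      congr 1
      exact hinv g
    exact congrArg (fun k => k.hom a) h4
  · intro hx
    apply K976.DCMain.exists_of_invariant f hrk h2 x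
    intro W hW e
    have h4 := hx ⟨σ, Subgroup.mem_zpowers σ⟩
    rw [← h3 W hW]
    have h5 : s.appLE (f ⁻¹ᵁ U) (f ⁻¹ᵁ U) (K976.AffHom.preimage_le f f hs U) ≫
        X.presheaf.map (homOfLE (f.preimage_mono e)).op =
        X.presheaf.map (homOfLE (f.preimage_mono e)).op ≫
          s.appLE (f ⁻¹ᵁ W) (f ⁻¹ᵁ W) (K976.AffHom.preimage_le f f hs W) := by
      rw [Scheme.Hom.appLE_map, Scheme.Hom.map_appLE]
    have h6 := congrArg (fun k => k.hom x) h5
    refine h6.symm.trans ?_
    exact congrArg (X.presheaf.map (homOfLE (f.preimage_mono e)).op).hom h4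

end Groth.Agent.S18900
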