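import Groth.Statements.S4711

set_option autoImplicit false
universe u
open EGA4

namespace Groth.Agent.S4711

open Topology in
/-- Every point of a constructible set lies in a locally closed set contained in it, and the same holds
for the complement. -/
theorem exists_isLocallyClosed_aux {T : Type*} [TopologicalSpace T] {E : Set T} (hE : IsConstructible E) :
    (∀ x ∈ E, ∃ L : Set T, IsLocallyClosed L ∧ x ∈ L ∧ L ⊆ E) ∧
      (∀ x ∈ Eᶜ, ∃ L : Set T, IsLocallyClosed L ∧ x ∈ L ∧ L ⊆ Eᶜ) := by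
  induction hE using IsConstructible.empty_union_induction with
  | open_retrocompact U hU _ =>
    exact ⟨fun x hx => ⟨U, hU.isLocallyClosed, hx, subset_rfl⟩,
      fun x hx => ⟨Uᶜ, hU.isClosed_compl.isLocallyClosed, hx, subset_rfl⟩⟩
  | union s hs t ht ihs iht =>
    refine ⟨?_, ?_⟩
    · rintro x (hx | hx)
      · obtain ⟨L, hL, hxL, hLs⟩ := ihs.1 x hx
        exact ⟨L, hL, hxL, hLs.trans Set.subset_union_left⟩
      · obtain ⟨L, hL, hxL, hLs⟩ := iht.1 x hx
        exact ⟨L, hL, hxL, hLs.trans Set.subset_union_right⟩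
    · intro x hx
      rw [Set.compl_union] at hx
      obtain ⟨L, hL, hxL, hLs⟩ := ihs.2 x hx.1
      obtain ⟨L', hL', hxL', hLs'⟩ := iht.2 x hx.2
      refine ⟨L ∩ L', hL.inter hL', ⟨hxL, hxL'⟩, ?_⟩
      rw [Set.compl_union]
      exact Set.inter_subset_inter hLs hLs'
  | compl s hs ih =>
    refine ⟨ih.2, ?_⟩
    rw [compl_compl]
    exact ih.1

open AlgebraicGeometry Topology in
/-- A nonempty locally closed subset of a scheme contains a locally closed point. -/
theorem exists_of_isLocallyClosed (X : Scheme.{u}) (L : Set X) (hL : IsLocallyClosed L) (hne : L.Nonempty) :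
    ∃ x ∈ L, IsLocallyClosed ({x} : Set X) := by
  obtain ⟨x₀, hx₀⟩ := hne
  obtain ⟨O, C, hO, hC, rfl⟩ := hL
  obtain ⟨_, ⟨V, hV, rfl⟩, hxV, hVO⟩ := X.isBasis_affineOpens.exists_subset_of_mem_open hx₀.1 hO
  replace hV : IsAffineOpen V := hV
  -- a closed point of `V ∩ C` seen in the affine scheme `V`
  have hcomp : IsCompact (V : Set X) := hV.isCompact
  have : CompactSpace (V : Set X) := isCompact_iff_compactSpace.mp hcomp
  have hZ : IsClosed (Subtype.val ⁻¹' C : Set (V : Set X)) := hC.preimage continuous_subtype_val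
  have hZne : (Subtype.val ⁻¹' C : Set (V : Set X)).Nonempty := ⟨⟨x₀, hxV⟩, hx₀.2⟩
  obtain ⟨z, hzZ, hz⟩ := IsClosed.exists_closed_singleton hZ hZne
  refine ⟨z.1, ⟨hVO z.2, hzZ⟩, ?_⟩
  have h1 : ({z.1} : Set X) = Subtype.val '' ({z} : Set (V : Set X)) := by
    rw [Set.image_singleton]
  rw [h1]
  refine hz.isLocallyClosed.image V.isOpenEmbedding'.isInducing ?_
  rw [Subtype.range_coe]
  exact V.isOpen.isLocallyClosed

open AlgebraicGeometry Topology in
/-- In any scheme X, every nonempty locally constructible subset E contains a point x such that the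
one-point set {x} is locally closed in X (equivalently x is isolated in its closure). -/
theorem result (X : Scheme.{u}) (E : Set X)
    (hE : Topology.IsLocallyConstructible E) (hne : E.Nonempty) :
    ∃ x ∈ E, IsLocallyClosed ({x} : Set X) := by
  obtain ⟨x₀, hx₀⟩ := hne
  obtain ⟨U, hU, hUo, hUE⟩ := hE x₀
  have hxU : x₀ ∈ U := mem_of_mem_nhds hU
  obtain ⟨L, hL, hxL, hLE⟩ := (exists_isLocallyClosed_aux hUE).1 ⟨x₀, hxU⟩ hx₀
  have hL' : IsLocallyClosed (Subtype.val '' L : Set X) := by
    refine hL.image hUo.isOpenEmbedding_subtypeVal.isInducing ?_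
    rw [Subtype.range_coe]
    exact hUo.isLocallyClosed
  obtain ⟨x, ⟨y, hy, rfl⟩, hx⟩ := exists_of_isLocallyClosed X _ hL' ⟨_, ⟨x₀, hxU⟩, hxL, rfl⟩
  exact ⟨y.1, hLE hy, hx⟩

end Groth.Agent.S4711
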