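import Groth.Statements.S4714
import Groth.Agent.Fga.DimCut
import Groth.Agent.Etbc.H218.FrontierDim
import Groth.Agent.Sga2lef.H134.DimCl
import Groth.Agent.S4713

set_option autoImplicit false
universe u
open EGA4

namespace Groth.Agent.S4714

open AlgebraicGeometry CategoryTheory TopologicalSpace

/-- A closed subset containing no irreducible component has smaller dimension. -/
theorem dim_add_one_le {Y : Type*} [TopologicalSpace Y] (D : Set Y) (hD : IsClosed D)
    (h : ∀ Z ∈ irreducibleComponents Y, ¬ Z ⊆ D) : topologicalKrullDim D + 1 ≤ topologicalKrullDim Y := by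
  have key := Fga.DimCut.length_succ_le_of_forall_not_subset D hD h
  have hempty : ∀ b : WithBot ℕ∞, b ≤ 0 → topologicalKrullDim Y ≤ b → topologicalKrullDim D + 1 ≤ b := by
    intro b hb hY
    have h1 : topologicalKrullDim D = ⊥ := by
      rw [eq_bot_iff]
      refine iSup_le fun p => ?_
      have h2 : ((p.length + 1 : ℕ) : WithBot ℕ∞) ≤ ((0 : ℕ) : WithBot ℕ∞) := ((key p).trans hY).trans hb
      have h3 : p.length + 1 ≤ 0 := by exact_mod_cast h2
      omega
    rw [h1]
    exact bot_le
  generalize hb : topologicalKrullDim Y = b at *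
  induction b using WithBot.recBotCoe with
  | bot => exact hempty ⊥ bot_le le_rfl
  | coe b =>
    induction b using ENat.recTopCoe with
    | top => exact le_top
    | coe n =>
      rcases n with _ | m
      · exact hempty _ le_rfl le_rfl
      · have h1 := Fga.DimCut.dim_le_of_forall_not_subset D hD h m (by rw [hb]; exact le_rfl)
        have h2 : topologicalKrullDim D + 1 ≤ (m : WithBot ℕ∞) + 1 := by gcongr
        refine h2.trans (le_of_eq ?_)
        norm_cast

/-- For a section of the structure sheaf: let X be a scheme locally of finite type over a field k and f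
a global section of O_X whose zero locus Y is nowhere dense in X. Then dim Y + 1 ≤ dim X. If
moreover some irreducible component of X has dimension equal to dim X and Y meets every such
component, then dim Y + 1 = dim X. (The published statement is for a section of an invertible sheaf;
the existence of a component of maximal dimension, implicit in the published wording, is made a
hypothesis of the equality clause.) -/
theorem result (k : Type u) [Field k] (X : Scheme.{u}) (p : X ⟶ Spec (CommRingCat.of k))
    [LocallyOfFiniteType p] (f : Γ(X, ⊤)) (hY : interior (X.zeroLocus (U := ⊤) {f}) = ∅) :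
    topologicalKrullDim (X.zeroLocus (U := ⊤) {f}) + 1 ≤ topologicalKrullDim X ∧
      ((∃ Z ∈ irreducibleComponents (X : Type u), topologicalKrullDim Z = topologicalKrullDim X) →
        (∀ Z ∈ irreducibleComponents (X : Type u), topologicalKrullDim Z = topologicalKrullDim X →
          (Z ∩ X.zeroLocus (U := ⊤) {f}).Nonempty) →
        topologicalKrullDim (X.zeroLocus (U := ⊤) {f}) + 1 = topologicalKrullDim X) := by
  have hLN : IsLocallyNoetherian X := LocallyOfFiniteType.isLocallyNoetherian p
  have hDcl : IsClosed (X.zeroLocus (U := ⊤) {f}) := X.zeroLocus_isClosed _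
  have hDmem : ∀ x : X, x ∈ X.zeroLocus (U := ⊤) {f} ↔ x ∉ X.basicOpen f := by
    intro x
    rw [Scheme.mem_zeroLocus_iff]
    simp
  set D : Set X := X.zeroLocus (U := ⊤) {f} with hDdef
  have hcomp : ∀ Z ∈ irreducibleComponents (X : Type u), ¬ Z ⊆ D := by
    intro Z hZ hZD
    obtain ⟨x, hx⟩ := Etbc.H218.FrontierDim.nonempty_interior X Z hZ
    have : x ∈ interior D := interior_mono hZD hx
    rw [hY] at this
    exact this
  have h1 := dim_add_one_le D hDcl hcomp
  refine ⟨h1, ?_⟩
  rintro ⟨Z, hZ, hZdim⟩ hmeet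
  refine le_antisymm h1 ?_
  obtain ⟨x₀, hx₀Z, hx₀D⟩ := hmeet Z hZ hZdim
  have hZcl : IsClosed Z := isClosed_of_mem_irreducibleComponents Z hZ
  have hZirr : IsIrreducible Z := hZ.1
  -- the dimension of `Z` is a natural number
  obtain ⟨ζ, hζ⟩ := QuasiSober.sober hZirr hZcl
  obtain ⟨n, -, hn⟩ := Sga2lef.H134.DimCl.exists_dim p ζ
  have hζ' : closure ({ζ} : Set X) = Z := hζ
  rw [hζ'] at hn
  -- it is positive
  have hn0 : n ≠ 0 := by
    rintro rfl
    have hirr : IrreducibleSpace Z := isIrreducible_iff_irreducibleSpace.mp hZirr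
    have h2 := dim_add_one_le (Subtype.val ⁻¹' D : Set Z) (hDcl.preimage continuous_subtype_val) (by
      intro T hT hTD
      have hT' : T = Set.univ := by
        rw [irreducibleComponents_eq_singleton] at hT
        exact hT
      apply hcomp Z hZ
      intro z hz
      have : (⟨z, hz⟩ : Z) ∈ T := by rw [hT']; trivial
      exact hTD this)
    rw [hn] at h2
    have hne : Nonempty (Subtype.val ⁻¹' D : Set Z) := ⟨⟨⟨x₀, hx₀Z⟩, hx₀D⟩⟩
    have h3 : (0 : WithBot ℕ∞) ≤ topologicalKrullDim (Subtype.val ⁻¹' D : Set Z) := by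
      obtain ⟨z⟩ := hne
      have : Nonempty (IrreducibleCloseds (Subtype.val ⁻¹' D : Set Z)) :=
        ⟨⟨closure {z}, isIrreducible_singleton.closure, isClosed_closure⟩⟩
      exact Order.krullDim_nonneg
    have h4 : (1 : WithBot ℕ∞) ≤ 0 := by
      calc (1 : WithBot ℕ∞) = 0 + 1 := by rw [zero_add]
        _ ≤ topologicalKrullDim (Subtype.val ⁻¹' D : Set Z) + 1 := by gcongr
        _ ≤ 0 := h2
    exact absurd h4 (by decide)
  obtain ⟨m, rfl⟩ := Nat.exists_eq_succ_of_ne_zero hn0
  -- the reduced closed subscheme on `Z`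
  let I : X.IdealSheafData := Scheme.IdealSheafData.vanishingIdeal ⟨Z, hZcl⟩
  let Y : Scheme.{u} := I.subscheme
  let ι : Y ⟶ X := I.subschemeι
  have hrange : Set.range ι = Z := by
    refine I.range_subschemeι.trans ?_
    simp [I]
  let _ : Y.Over (Spec (CommRingCat.of k)) := ⟨ι ≫ p⟩
  have hYft : LocallyOfFiniteType (Y ↘ (Spec (CommRingCat.of k))) :=
    inferInstanceAs (LocallyOfFiniteType (ι ≫ p))
  have hYN : IsLocallyNoetherian Y :=
    LocallyOfFiniteType.isLocallyNoetherian (Y ↘ (Spec (CommRingCat.of k)))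
  have hYirr : IrreducibleSpace Y := by
    have h1 : IsPreirreducible (ι ⁻¹' Z) := VarietyB.DimTop.isPreirreducible_preimage
      ι.isEmbedding.isInducing hZirr.isPreirreducible (by rw [hrange])
    have h2 : ι ⁻¹' Z = Set.univ := by
      rw [← hrange]; exact Set.preimage_range _
    rw [h2] at h1
    have hc := hx₀Z
    rw [← hrange] at hc
    obtain ⟨y, -⟩ := hc
    exact { isPreirreducible_univ := h1, toNonempty := ⟨y⟩ }
  have hYdim : ((m + 1 : ℕ) : WithBot ℕ∞) ≤ topologicalKrullDim Y := by
    rw [← hn]
    have hex : ∀ z : Z, ∃ y : Y, ι y = (z : X) := by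
      intro z
      exact hrange.ge z.2
    choose g hg using hex
    have h1 : Topology.IsInducing (ι ∘ g) := by
      have : ι ∘ g = fun z : Z => (z : X) := funext hg
      rw [this]
      exact Topology.IsInducing.subtypeVal
    exact (ι.isEmbedding.isInducing.of_comp_iff.mp h1).topologicalKrullDim_le
  -- a closed point of `Y` where `f` vanishes
  have hne : (ι ⁻¹' D).Nonempty := by
    have hc := hx₀Z
    rw [← hrange] at hc
    obtain ⟨y, hy⟩ := hc
    exact ⟨y, by rw [Set.mem_preimage, hy]; exact hx₀D⟩
  obtain ⟨y, hy, hycl⟩ := Groth.Agent.S4713.result Y (ι ⁻¹' D) (hDcl.preimage ι.continuous) hne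
  have h5 := Fga.DimCut.le_dim_of_local_equation k Y y hycl (ι ⁻¹ᵁ ⊤) trivial (ι.app ⊤ f) (by
      rw [← Scheme.preimage_basicOpen]
      exact (hDmem _).mp hy) (ι ⁻¹' D) (fun z _ hz => by
      rw [← Scheme.preimage_basicOpen] at hz
      exact (hDmem _).mpr hz) m hYdim
  have h6 : (m : WithBot ℕ∞) ≤ topologicalKrullDim D := by
    refine h5.trans ?_
    exact VarietyB.DimTop.topologicalKrullDim_le_of_isEmbedding ι.isEmbedding.isInducing _ _ fun z hz => hz
  rw [← hZdim, hn]
  calc ((m + 1 : ℕ) : WithBot ℕ∞) = (m : WithBot ℕ∞) + 1 := by norm_cast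
    _ ≤ topologicalKrullDim D + 1 := by gcongr

end Groth.Agent.S4714
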