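import Groth.Statements.S10970
import Groth.Agent.FunFld.K660.Places

set_option autoImplicit false
open FunFld

namespace Groth.Agent.S10970

/-- An element of a function field of one variable has only finitely many zeros and poles. -/
theorem result (k K : Type*) [Field k] [Field K] [Algebra k K]
    (hK : FunFld.IsFunctionField k K) (x : K) :
    (Function.support fun P : FunFld.Place k K => P.ord x).Finite := by
  rcases eq_or_ne x 0 with rfl | hx
  · simp [Function.support, FunFld.Place.ord]
  refine ((K660.Places.finite_pole hK x).union (K660.Places.finite_pole hK x⁻¹)).subset ?_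
  intro P hP
  by_contra hcon
  simp only [Set.mem_union, Set.mem_ofPred_eq, not_or, not_not] at hcon
  have h1 := (K660.Ord.val_le_one_iff (P := P) hx).1 hcon.1
  have h2 := (K660.Ord.val_le_one_iff (P := P) (inv_ne_zero hx)).1 hcon.2
  rw [K660.Ord.ord_inv] at h2
  exact hP (by dsimp only; omega)

end Groth.Agent.S10970
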