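import Groth.Statements.S11355
import Groth.Agent.Curves.K320.BaseFree
import Groth.Agent.Curves.K321.SmoothPid
import Groth.Agent.Ega2.SmoothBdry

set_option autoImplicit false
universe u
open CategoryTheory CategoryTheory.Limits AlgebraicGeometry
open Curves

namespace Groth.Agent.S11355

open K532.CurvePic Groth.Agent.Grpsch.PicGrp

/-- Let k be an algebraically closed field and X a curve over k (an integral scheme, proper over k, of
dimension one, with all local rings regular), of genus g ≥ 2. If X is hyperelliptic its g^1_2 is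
unique: for any two linear series (M, s), (M', s') of degree 2 and dimension 1 on X (invertible
modules of degree 2, each with two k-linearly independent global sections), M ≅ M' (existence of an
isomorphism; for g ≥ 2 such a module has exactly a 2-dimensional space of sections, so the linear
series coincide). -/
theorem result (k : Type u) [Field k] [IsAlgClosed k] (X : Scheme.{u}) [X.Over (Spec (CommRingCat.of k))]
    [IsIntegral X] [IsProper (X ↘ (Spec (CommRingCat.of k)))] (hdim : topologicalKrullDim X = 1)
    (hreg : ∀ x : X, IsRegularLocalRing (X.presheaf.stalk x)) (hg : 2 ≤ Curv2.genus k X)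
    (M : X.Modules) (s : Fin 2 → LinSer.Sect X M) (hM : LinSer.IsLinSer k X M 2 1 s)
    (M' : X.Modules) (s' : Fin 2 → LinSer.Sect X M') (hM' : LinSer.IsLinSer k X M' 2 1 s') :
    Nonempty (M ≅ M') := by
  obtain ⟨hMi, hMd, hMs⟩ := hM
  obtain ⟨hMi', hMd', hMs'⟩ := hM'
  have hsm : Smooth (X ↘ (Spec (CommRingCat.of k))) := Groth.Agent.Ega2.SmoothBdry.smooth_of_regular _ hreg
  have hX : IsCurve k X := isCurve_of_isAlgClosed k X ⟨inferInstance, hsm, inferInstance, hdim⟩
  have hP : ∀ x : X, IsPrincipalIdealRing (X.presheaf.stalk x) :=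
    K321.SmoothPid.isPrincipalIdealRing_of_smooth (X ↘ (Spec (CommRingCat.of k))) hdim.le
  have hgg := K320.BaseFree.isGloballyGenerated hX hP (by change Curv2.genus k X ≠ 0; omega) hMi
    (by exact_mod_cast hMd) s hMs
  have hfin := finite_HH hX hMi 0
  have hfin' := finite_HH hX hMi' 0
  have h2 := K320.G12.two_le_finrank s hMs
  have h2' := K320.G12.two_le_finrank s' hMs'
  have hd : deg k X (mk M hMi) = 2 := by rw [deg_mk k X hdim hMi]; exact_mod_cast hMd
  have hd' : deg k X (mk M' hMi') = 2 := by rw [deg_mk k X hdim hMi']; exact_mod_cast hMd'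
  have hh := h_mk k X 0 hMi
  have hh' := h_mk k X 0 hMi'
  have h3 : Module.finrank k (Coh.HH X M 0) = 2 := by
    have h4 : 0 < h k X 0 (mk M hMi) := by omega
    have h5 := h0_le_deg hX h4
    rw [hd] at h5
    by_contra h6
    have h7 := gen_eq_zero_of_h0_eq hX h4 (by rw [hd]; omega) (by rw [hd]; norm_num)
    change Curv2.genus k X = 0 at h7
    omega
  have hcov := K320.G12.covers_of_globGen hX hMi hgg h3 s hMs
  have h8 := K320.G12.eq_of_covers hX hreg hg hMi hd hcov hd' (by omega)
  exact (mk_eq_iff hMi hMi').1 h8.symm

end Groth.Agent.S11355
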