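import Groth.Statements.S16504
import Groth.Agent.Curves.K329.ClosRat

set_option autoImplicit false
universe u
open CategoryTheory AlgebraicGeometry
open Curves

namespace Groth.Agent.S16504

/-- Over an algebraically closed field k, let X ⊆ P^N_k be a projective variety with hyperplane class L
and let d be a natural number. The set of closed points of X lying on some rational curve of
L-degree at most d (the image of a nonconstant k-morphism g from the projective line with deg g^*L ≤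
d) is the set of closed points of a closed subset of X. (The published statement says that the image
of the evaluation map on curves of bounded degree is closed; this row records its trace on closed
points, and the ample divisor is taken to be a hyperplane class.) -/
theorem result
    (k : Type u) [Field k] [IsAlgClosed k]
    (X : Scheme.{u}) [X.Over (Spec (CommRingCat.of k))] [IsIntegral X]
    (N : ℕ) (ι : X ⟶ CohB1.ProjSpace N k) [IsClosedImmersion ι]
    (hι : ι ≫ CohB1.ProjSpace.toSpec N k = X ↘ Spec (CommRingCat.of k)) (d : ℕ) :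
    ∃ Z : Set X, IsClosed Z ∧ ∀ x : X, IsClosed ({x} : Set X) →
      (x ∈ Z ↔ ∃ g : CohB1.ProjSpace 1 k ⟶ X,
        g ≫ (X ↘ Spec (CommRingCat.of k)) = CohB1.ProjSpace.toSpec 1 k ∧
        (¬ ∃ y : X, Set.range g.base ⊆ {y}) ∧ x ∈ Set.range g.base ∧
        Curv2.deg k (CohB1.ProjSpace 1 k)
          ((Scheme.Modules.pullback (g ≫ ι)).obj (Twist.twistProjSpace N k 1)) 1 ≤ d) := by
  have hprop : IsProper (CohB1.ProjSpace.toSpec N k) :=
    Groth.Agent.VarietyB.ProjSpaceProper.isProper_toSpec N k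
  have hpX : IsProper (X ↘ Spec (CommRingCat.of k)) := by
    rw [← hι]
    infer_instance
  let S : Set X := {x | IsClosed ({x} : Set X) ∧ ∃ g : CohB1.ProjSpace 1 k ⟶ X,
        g ≫ (X ↘ Spec (CommRingCat.of k)) = CohB1.ProjSpace.toSpec 1 k ∧
        (¬ ∃ y : X, Set.range g.base ⊆ {y}) ∧ x ∈ Set.range g.base ∧
        Curv2.deg k (CohB1.ProjSpace 1 k)
          ((Scheme.Modules.pullback (g ≫ ι)).obj (Twist.twistProjSpace N k 1)) 1 ≤ d}
  refine ⟨closure S, isClosed_closure, fun x hx => ⟨fun hxS => ?_, fun h => subset_closure ⟨hx, h⟩⟩⟩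
  obtain ⟨j, hj⟩ := Groth.Agent.PerfB.ProjSpaceCover.exists_mem_basicOpen_X N k (ι x)
  let U : X.Opens := ι ⁻¹ᵁ Proj.basicOpen (CohB1.polyGrading N k) (MvPolynomial.X j)
  have hxU : x ∈ U := hj
  have h1 : x ∈ closure (S ∩ U) := by
    rw [mem_closure_iff] at hxS ⊢
    intro V hV hxV
    obtain ⟨y, ⟨hy1, hy2⟩, hy3⟩ := hxS (V ∩ U) (hV.inter U.2) ⟨hxV, hxU⟩
    exact ⟨y, hy1, hy3, hy2⟩
  have h2 : ι '' (S ∩ U) ⊆ ⋃ p : Fin (d + 1) × Fin (N + 1),
      Set.range (K329.ParamAlg.ev0 ι j p.2 p.1) := by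
    rintro _ ⟨y, ⟨⟨hy, g, hg1, hg2, hg3, hg4⟩, hyU⟩, rfl⟩
    obtain ⟨e, he, m, hm⟩ := K329.Reparam.mem_range_of_curve (X ↘ Spec (CommRingCat.of k)) ι hι j d y hy hyU g hg1 hg2
      hg3 hg4
    exact Set.mem_iUnion.2 ⟨(⟨e, by omega⟩, m), hm⟩
  have h3 : ι x ∈ closure (ι '' (S ∩ U)) := image_closure_subset_closure_image ι.continuous ⟨x, h1, rfl⟩
  have h4 := closure_mono h2 h3
  rw [closure_iUnion_of_finite] at h4
  obtain ⟨⟨e, m⟩, h5⟩ := Set.mem_iUnion.1 h4
  obtain ⟨r, hr1, hr2, hr3, hr4⟩ := K329.ClosRat.exists_curve_of_mem_closure (X ↘ Spec (CommRingCat.of k)) ι hι j m e x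
    hx hj h5
  refine ⟨r, hr1, hr2, hr3, hr4.trans ?_⟩
  have : (e : ℕ) ≤ d := by omega
  exact_mod_cast this

end Groth.Agent.S16504
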