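import Groth.Statements.S4436
import Groth.Agent.Ega2.BasSec

set_option autoImplicit false
universe u
open CategoryTheory CategoryTheory.Limits AlgebraicGeometry
open EGA2

namespace Groth.Agent.S4436

/-- Let f : X' ⟶ X be a finite morphism and F' a locally free O_{X'}-module of rank r. Then every point
of X has an open neighbourhood U over whose inverse image F' is free of rank r; this is the content
of the statement that the direct image of F' is a locally free module of rank r over the direct
image of O_{X'} (the converse implication being immediate). -/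
theorem result {X' X : Scheme.{u}} (f : X' ⟶ X) [IsFinite f] (r : ℕ)
    (F : X'.Modules) (hF : FlatMod.IsFinLocFreeOfRank r F) (x : X) :
    ∃ U : X.Opens, x ∈ U ∧ Nonempty (F.restrict (f ⁻¹ᵁ U).ι ≅ FlatMod.freeMod (↑(f ⁻¹ᵁ U)) r) := by
  obtain ⟨_, ⟨V, hV, rfl⟩, hxV, -⟩ := X.isBasis_affineOpens.exists_subset_of_mem_open
    (Set.mem_univ x) isOpen_univ
  have hfin : (f ⁻¹' {x}).Finite := f.finite_preimage_singleton x
  obtain ⟨g, e, hg, he⟩ := Groth.Agent.Ega2.BasSec.exists_isBas_of_finite hF (hV.preimage f) (f ⁻¹' {x}) hfin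
    (by
      intro z hz
      have hz' : f z = x := hz
      change f z ∈ V
      rw [hz']
      exact hxV)
  let W : X'.Opens := X'.basicOpen g
  have hcl : IsClosed (f '' (W : Set X')ᶜ) := f.isClosedMap _ W.isOpen.isClosed_compl
  let U : X.Opens := ⟨(f '' (W : Set X')ᶜ)ᶜ, hcl.isOpen_compl⟩
  have hxU : x ∈ U := by
    rintro ⟨z, hz, hzx⟩
    exact hz (hg hzx)
  have hUW : f ⁻¹ᵁ U ≤ W := by
    intro z hz
    by_contra hzW
    exact hz ⟨z, hzW, rfl⟩
  exact ⟨U, hxU, (Groth.Agent.Ega2.BasSec.nonempty_restrict_iso_freeMod_iff F r _).2 ⟨_, he.res hUW⟩⟩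

end Groth.Agent.S4436
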