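import Groth.Statements.S16081
import Groth.Agent.SDiv.K475.RefAlg
import Groth.Agent.SDiv.K476.HomSh4

set_option autoImplicit false
universe u
open CategoryTheory CategoryTheory.Limits AlgebraicGeometry TopologicalSpace
open SDiv

namespace Groth.Agent.S16081

/-- Let X be an integral locally Noetherian scheme and F, G coherent O_X-modules with G reflexive. Then
the sheaf Hom 𝓗om_{O_X}(F, G) is reflexive: its canonical map into its reflexive hull is an
isomorphism. -/
theorem result (X : Scheme.{u}) [IsIntegral X] [IsLocallyNoetherian X] (F G : X.Modules)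
    (hF : Coh.IsCoh F) (hG : Coh.IsCoh G) (hGr : RefHull.IsReflexive G) :
    RefHull.IsReflexive (RefHull.homSh F G) := by
  rw [K476.HomSh4.isReflexive_iff_isReflexiveAt (K476.HomSh3.isCoh_homSh hF hG)]
  rw [K476.HomSh4.isReflexive_iff_isReflexiveAt hG] at hGr
  intro x
  have h1 : Module.IsReflexive (X.presheaf.stalk x) (G.presheaf.stalk x) := hGr x
  have h2 := Groth.Agent.Divis.StalkMod.finite_stalk hF x
  have h3 := Groth.Agent.Divis.StalkMod.finite_stalk hG x
  have h4 := K475.RefAlg.isReflexive_hom (R := X.presheaf.stalk x) (F.presheaf.stalk x) (G.presheaf.stalk x)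
  exact Module.equiv
    (K476.HomSh3.evalStalkEquiv F G (K476.HomSh3.isFP_of_isCoh hF) x).symm

end Groth.Agent.S16081
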