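import Groth.Statements.S14473
import Groth.Agent.S7916
import Groth.Agent.Grpsch.Transl
import Groth.Agent.Fdesc.BaseField

set_option autoImplicit false
universe u
open CategoryTheory CategoryTheory.Limits AlgebraicGeometry
open Curves

namespace Groth.Agent.S14473

/-- A one-dimensional irreducible scheme locally of finite type over a field has infinitely many closed points. -/
theorem infinite_closedPoints {k : Type u} [Field k] {X : Scheme.{u}} (p : X ⟶ Spec (CommRingCat.of k))
    [LocallyOfFiniteType p] [IrreducibleSpace X] (hdim : topologicalKrullDim X = 1) :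
    Infinite {x : X // IsClosed ({x} : Set X)} := by
  have hJ : JacobsonSpace X := LocallyOfFiniteType.jacobsonSpace p
  by_contra hcon
  rw [not_infinite_iff_finite] at hcon
  have h1 : closure (closedPoints X) = Set.univ := by
    have := closure_closedPoints (X := X)
    exact this
  have hfin : (closedPoints X).Finite :=
    @Set.toFinite _ (closedPoints X) (show Finite {x : X // IsClosed ({x} : Set X)} from hcon)
  have h2 : IsClosed (closedPoints X) := by
    rw [← Set.biUnion_of_singleton (closedPoints X)]
    exact hfin.isClosed_biUnion fun x hx => hx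
  rw [h2.closure_eq] at h1
  have h3 : IsClosed ({genericPoint X} : Set X) := by
    have : genericPoint X ∈ closedPoints X := h1 ▸ Set.mem_univ _
    exact this
  have huniv : (Set.univ : Set X) = {genericPoint X} := by
    rw [← genericPoint_closure, h3.closure_eq]
  have : Subsingleton X := by
    refine ⟨fun a b => ?_⟩
    have ha : a ∈ ({genericPoint X} : Set X) := huniv ▸ Set.mem_univ a
    have hb : b ∈ ({genericPoint X} : Set X) := huniv ▸ Set.mem_univ b
    rw [Set.mem_singleton_iff.1 ha, Set.mem_singleton_iff.1 hb]
  have h0 : topologicalKrullDim X ≤ 0 := topologicalKrullDim_zero_of_discreteTopology X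
  rw [hdim] at h0
  exact absurd h0 (by decide)

/-- Let k be an algebraically closed field and C a smooth proper connected curve over k (proper and
smooth over k, integral, of dimension one) of genus 1, the genus being the dimension of H¹(C, O_C).
Then the group of k-automorphisms of C is infinite: there are infinitely many automorphisms of the
scheme C over Spec k. -/
theorem result (k : Type u) [Field k] [IsAlgClosed k]
    (C : Scheme.{u}) [C.Over (Spec (CommRingCat.of k))] (hC : Curve.IsSmoothProperCurve k C (C ↘ (Spec (CommRingCat.of k))))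
    (hg : Curv2.genus k C = 1) :
    Infinite {e : C ≅ C // e.hom ≫ (C ↘ (Spec (CommRingCat.of k))) = C ↘ (Spec (CommRingCat.of k))} := by
  obtain ⟨hp, hs, hint, hdim⟩ := hC
  have hinf := infinite_closedPoints (C ↘ (Spec (CommRingCat.of k))) hdim
  obtain ⟨x₀, hx₀⟩ : Nonempty {x : C // IsClosed ({x} : Set C)} := inferInstance
  let E : Over (Spec (CommRingCat.of k)) := Over.mk (C ↘ (Spec (CommRingCat.of k)))
  have hEs : Smooth E.hom := hs
  have hEp : IsProper E.hom := hp
  have hEg : GeometricallyIrreducible E.hom :=
    Fdesc.BaseField.geometricallyIrreducible_of_isAlgClosed (C ↘ (Spec (CommRingCat.of k)))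
  obtain ⟨G, -, -⟩ := S7916.result k E hdim hg (Grpsch.Transl.pt E x₀ hx₀)
  have key : ∀ x : {x : C // IsClosed ({x} : Set C)},
      ∃ e : {e : C ≅ C // e.hom ≫ (C ↘ (Spec (CommRingCat.of k))) = C ↘ (Spec (CommRingCat.of k))},
        e.1.hom x₀ = x.1 := by
    rintro ⟨x, hx⟩
    obtain ⟨α, hα⟩ := Grpsch.Transl.exists_iso_of_closedPoints E x₀ x hx₀ hx
    exact ⟨⟨(Over.forget _).mapIso α, Over.w α.hom⟩, hα⟩
  choose F hF using key
  refine Infinite.of_injective F fun x y hxy => Subtype.ext ?_
  rw [← hF x, ← hF y, hxy]

end Groth.Agent.S14473
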