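import Groth.Statements.S16754
import Groth.Agent.CurvSt.K898.HZeroOne
import Groth.Agent.S0223
import Groth.Agent.S1536
import Groth.Agent.Pi1.H382.Trait

set_option autoImplicit false
universe u
open CurvSt

namespace Groth.Agent.S16754

section

open CategoryTheory CategoryTheory.Limits AlgebraicGeometry

theorem geomConn_of_h0 (k : Type u) [Field k]
    (X : Scheme.{u}) [X.Over (Spec (CommRingCat.of k))] [IsProper (X ↘ Spec (CommRingCat.of k))]
    (h0 : Module.finrank k (Coh.HH X (Coh.structureModule X) 0) = 1) :
    GeometricallyConnected (X ↘ Spec (CommRingCat.of k)) := by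
  refine ⟨fun K _ y Z fst snd hpb => ?_⟩
  obtain ⟨φ, rfl⟩ := Spec.map_surjective y
  let _ : Algebra k K := φ.hom.toAlgebra
  let _ : Z.Over (Spec (CommRingCat.of K)) := ⟨snd⟩
  have h := S0223.finrank_eq k X K Z fst hpb 0
  exact K898.HZeroOne.connectedSpace_of_finrank K Z (h.trans h0)

theorem geomInt_of_geomConn (k : Type u) [Field k]
    (X : Scheme.{u}) [X.Over (Spec (CommRingCat.of k))]
    [Smooth (X ↘ Spec (CommRingCat.of k))] (h : GeometricallyConnected (X ↘ Spec (CommRingCat.of k))) :
    GeometricallyIntegral (X ↘ Spec (CommRingCat.of k)) := by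
  refine ⟨fun K _ y Z fst snd hpb => ?_⟩
  have : ConnectedSpace Z := h.geometrically_connectedSpace y fst snd hpb
  have : Smooth snd := MorphismProperty.of_isPullback hpb inferInstance
  exact Groth.Agent.Pi1.H382.Trait.isIntegral_of_smooth snd

end

open CategoryTheory CategoryTheory.Limits AlgebraicGeometry in
/-- Let k be a field and X a scheme which is proper and smooth over k and of dimension one. Then the
following are equivalent: dim_k H^0(X, O_X) = 1 (the ground field is the ring of global functions);
X is geometrically connected over k; X is geometrically integral over k. (The remaining conditions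
of the source concern membership in an open substack of the stack of curves and are not stated.) -/
theorem result (k : Type u) [Field k]
    (X : Scheme.{u}) [X.Over (Spec (CommRingCat.of k))] [IsProper (X ↘ Spec (CommRingCat.of k))]
    [Smooth (X ↘ Spec (CommRingCat.of k))] (hdim : topologicalKrullDim ↥X = 1) :
    (Module.finrank k (Coh.HH X (Coh.structureModule X) 0) = 1 ↔ GeometricallyConnected (X ↘ Spec (CommRingCat.of k))) ∧
      (GeometricallyConnected (X ↘ Spec (CommRingCat.of k)) ↔ GeometricallyIntegral (X ↘ Spec (CommRingCat.of k))) := by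
  refine ⟨⟨fun h => geomConn_of_h0 k X h, fun h => ?_⟩,
    ⟨fun h => geomInt_of_geomConn k X h, fun h => ?_⟩⟩
  · have := geomInt_of_geomConn k X h
    exact Groth.Agent.S1536.result k X
  · refine ⟨fun K _ y Z fst snd hpb => ?_⟩
    have : IsIntegral Z := h.geometrically_isIntegral y fst snd hpb
    exact (inferInstance : ConnectedSpace Z)

end Groth.Agent.S16754
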