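import Groth.Statements.S9821
import Groth.Agent.Ega2.Normal

set_option autoImplicit false
universe u
open CategoryTheory CategoryTheory.Limits AlgebraicGeometry TopologicalSpace Opposite
open Props

namespace Groth.Agent.S9821

/-- An integral scheme is normal if and only if the coordinate ring of every nonempty affine open is an
integrally closed domain. -/
theorem result (X : Scheme.{u}) [IsIntegral X] :
    Pi1.IsNormalScheme X ↔ ∀ (U : X.Opens) [Nonempty U], IsAffineOpen U → IsIntegrallyClosed Γ(X, U) := by
  constructor
  · intro hX U hne hU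
    exact Groth.Agent.Ega2.Normal.isIntegrallyClosed_of_isAffineOpen hX hU hne
  · intro h x
    obtain ⟨U, hU, hx, -⟩ :=
      exists_isAffineOpen_mem_and_subset (X := X) (x := x) (U := ⊤) trivial
    have hne : Nonempty U := ⟨⟨x, hx⟩⟩
    have hcl : IsIntegrallyClosed Γ(X, U) := h U hU
    refine ⟨inferInstance, ?_⟩
    have hloc := hU.isLocalization_stalk ⟨x, hx⟩
    let _ : Algebra Γ(X, U) (X.presheaf.stalk x) :=
      TopCat.Presheaf.algebra_section_stalk X.presheaf ⟨x, hx⟩
    exact isIntegrallyClosed_of_isLocalization (R := Γ(X, U))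
      (hU.primeIdealOf ⟨x, hx⟩).asIdeal.primeCompl
      (Ideal.primeCompl_le_nonZeroDivisors _) (S := X.presheaf.stalk x)

end Groth.Agent.S9821
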