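import Groth.Statements.S10887
import Groth.Agent.FlatMor.K260.DedFlat
-- import your own Groth.Agent.* helpers here

set_option autoImplicit false
universe u
open CategoryTheory AlgebraicGeometry
open FlatMor

namespace Groth.Agent.S10887

/-- (i) ⇔ (iii): let Y be a Dedekind scheme — an integral Noetherian scheme of dimension at most one all
of whose local rings are regular — and f : X → Y a morphism of schemes with X reduced. Then f is
flat if and only if every irreducible component of X dominates Y. (Without reducedness only the
forward implication holds.) -/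
theorem result {X Y : Scheme.{u}} [IsIntegral Y]
    [IsNoetherian Y] (hreg : ∀ y : Y, IsRegularLocalRing (Y.presheaf.stalk y)) (hdim : topologicalKrullDim Y ≤ 1)
    (f : X ⟶ Y) [IsReduced X] :
    Flat f ↔ ∀ Z ∈ irreducibleComponents (X : Type u), Dense (f.base '' Z) := by
  have hV : ∀ y : Y, ValuationRing (Y.presheaf.stalk y) := fun y ↦ by
    have := hreg y
    exact K260.DedFlat.valuationRing_of_regular _ ((K260.DedFlat.ringKrullDim_stalk_le Y y).trans hdim)
  constructor
  · intro hf Z hZ
    obtain ⟨ξ, hξ, rfl⟩ := K260.Gen.exists_isMax_of_mem hZ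
    have h1 : K260.Gen.IsMax (f ξ) := hξ.map (Flat.generalizingMap f)
    have h2 : f ξ = genericPoint Y := (h1 _ (genericPoint_specializes _)).symm
    have h3 : closure {genericPoint Y} ⊆ closure (f.base '' closure {ξ}) := by
      apply closure_mono
      rintro _ rfl
      exact ⟨ξ, subset_closure rfl, h2⟩
    rw [dense_iff_closure_eq]
    exact Set.eq_univ_of_univ_subset ((genericPoint_spec Y).def ▸ h3)
  · intro h
    rw [K260.DedFlat.flat_iff_nonZeroDivisors hV]
    intro U V e a b ha hab
    rw [← basicOpen_eq_bot_iff]
    by_contra hne
    obtain ⟨x, hx⟩ : (X.basicOpen b : Set X).Nonempty := by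
      rw [Set.nonempty_iff_ne_empty]
      intro h0
      exact hne (TopologicalSpace.Opens.ext h0)
    obtain ⟨ξ, hξx, hξ⟩ := K260.Gen.exists_isMax x
    have hξb : ξ ∈ X.basicOpen b := hξx.mem_open (X.basicOpen b).2 hx
    have hfξ : f ξ = genericPoint Y := by
      have h1 := h _ ((K260.Gen.isMax_iff ξ).1 hξ)
      have h2 : f ξ ⤳ genericPoint Y := by
        rw [specializes_iff_mem_closure]
        have h3 : closure (f.base '' closure {ξ}) ⊆ closure {f ξ} := by
          apply closure_minimal _ isClosed_closure
          rintro _ ⟨z, hz, rfl⟩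
          have : ξ ⤳ z := by rwa [specializes_iff_mem_closure]
          exact (this.map f.continuous).mem_closed isClosed_closure (subset_closure rfl)
        rw [h1.closure_eq] at h3
        exact h3 trivial
      exact (h2.antisymm (genericPoint_specializes _)).eq
    have hξa : ξ ∈ X.basicOpen (f.appLE U V e a) := by
      rw [Scheme.basicOpen_appLE]
      refine ⟨X.basicOpen_le b hξb, ?_⟩
      change f ξ ∈ Y.basicOpen a
      rw [hfξ]
      exact K260.DedFlat.genericPoint_mem_basicOpen _ a ha
    have : ξ ∈ X.basicOpen (f.appLE U V e a * b) := by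
      rw [Scheme.basicOpen_mul]
      exact ⟨hξa, hξb⟩
    rw [hab] at this
    simp at this

end Groth.Agent.S10887
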