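import Groth.Statements.S4717
import Groth.Agent.Sga3C.DimTop

set_option autoImplicit false
universe u
open EGA4

namespace Groth.Agent.S4717

open AlgebraicGeometry CategoryTheory in
/-- Let f : X → Y be a finite morphism of locally Noetherian schemes. Then dim X equals the dimension of
the image f(X); in particular if f is surjective then dim X = dim Y. -/
theorem result {X Y : Scheme.{u}} (f : X ⟶ Y) [IsLocallyNoetherian X] [IsLocallyNoetherian Y]
    [IsFinite f] :
    topologicalKrullDim X = topologicalKrullDim (Set.range f.base) ∧
      (Function.Surjective f.base → topologicalKrullDim X = topologicalKrullDim Y) := by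
  refine ⟨?_, fun hs => ?_⟩
  · have hcl : IsClosed (Set.range f.base) := f.isClosedMap.isClosed_range
    have hq : QuasiSober (Set.range f.base) := hcl.isClosedEmbedding_subtypeVal.quasiSober
    refine Sga3C.DimTop.topologicalKrullDim_eq_of_closedMap (Set.rangeFactorization f.base)
      (f.continuous.subtype_mk _) ?_ Set.rangeFactorization_surjective fun x x' h he => ?_
    · intro Z hZ
      have h1 : IsClosed (f.base '' Z) := f.isClosedMap Z hZ
      have h2 : Set.rangeFactorization f.base '' Z = Subtype.val ⁻¹' (f.base '' Z) := by
        ext ⟨y, hy⟩
        constructor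
        · rintro ⟨z, hz, hzy⟩
          exact ⟨z, hz, congrArg Subtype.val hzy⟩
        · rintro ⟨z, hz, hzy⟩
          exact ⟨z, hz, Subtype.ext hzy⟩
      rw [h2]
      exact h1.preimage continuous_subtype_val
    · exact Sga3C.DimTop.eq_of_specializes_of_isIntegralHom f x x' h (congrArg Subtype.val he)
  · have : Surjective f := ⟨hs⟩
    exact Sga3C.DimTop.topologicalKrullDim_eq_of_isIntegralHom f

end Groth.Agent.S4717
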