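import Groth.Statements.S7654
import Groth.Agent.Variety.K421.DeltaBC
import Groth.Agent.S0507
import Groth.Agent.S0508
import Groth.Agent.S0509
import Groth.Agent.S0511
import Groth.Agent.S0538
import Groth.Agent.S0539
import Groth.Agent.S0540
import Groth.Agent.S0543
import Mathlib.RingTheory.AdicCompletion.LocalRing
import Mathlib.RingTheory.AdicCompletion.AsTensorProduct

set_option autoImplicit false
universe u
open CategoryTheory CategoryTheory.Limits AlgebraicGeometry
open Variety

namespace Groth.Agent.S7654

open IsLocalRing in
theorem isSeparable_of_bijective (A B : Type u) [CommRing A] [IsLocalRing A] [CommRing B] [IsLocalRing B]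
    [Algebra A B] [IsLocalHom (algebraMap A B)]
    (h : Function.Bijective (ResidueField.map (algebraMap A B))) :
    Algebra.IsSeparable (ResidueField A) (ResidueField B) := by
  refine ⟨fun x => ?_⟩
  obtain ⟨y, rfl⟩ := h.2 x
  exact isSeparable_algebraMap y

/-- For a reduced local Nagata ring A of Krull dimension one, the δ-invariant does not change on passing
to a henselization of A, to a strict henselization of A, or to the completion of A. -/
theorem result (A : Type u) [CommRing A] [IsLocalRing A]
    [IsReduced A] (hN : CAlg.IsNagata A) (hdim : ringKrullDim A = 1) :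
    (∀ (B : Type u) [CommRing B] [IsLocalRing B] [Algebra A B] [IsLocalHom (algebraMap A B)],
        Hensel.IsHenselization A B → Curv2.deltaInv B = Curv2.deltaInv A) ∧
      (∀ (B : Type u) [CommRing B] [IsLocalRing B] [Algebra A B] [IsLocalHom (algebraMap A B)],
        Hensel.IsStrictHenselization A B → Curv2.deltaInv B = Curv2.deltaInv A) ∧
      Curv2.deltaInv (Curv2.cpl A) = Curv2.deltaInv A := by
  have hNoeth : IsNoetherianRing A := hN.1
  have hfin := K421.NormCl.finite_cl A hN
  refine ⟨?_, ?_, ?_⟩
  · intro B _ _ _ _ hB
    have h1 := Groth.Agent.S0507.result A B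
    have h2 := isSeparable_of_bijective A B (Groth.Agent.S0508.result A B)
    have h3 := Groth.Agent.S0509.result A B
    have h4 := (Groth.Agent.S0511.result A B).mp hNoeth
    exact K421.DeltaBC.deltaInv_baseChange A B hdim h1
  · intro B _ _ _ _ hB
    have h1 := Groth.Agent.S0538.result A B
    have h2 : Algebra.IsSeparable (IsLocalRing.ResidueField A) (IsLocalRing.ResidueField B) :=
      hB.isSepClosure.separable
    have h3 := Groth.Agent.S0539.result A B
    have h4 := (Groth.Agent.S0540.result A B).mp hNoeth
    exact K421.DeltaBC.deltaInv_baseChange A B hdim h1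
  · have h1 := (AdicCompletion.maximalIdeal_eq_map (R := A)).symm
    have h2 := isSeparable_of_bijective A (Curv2.cpl A) (AdicCompletion.residueField_map_bijective (R := A))
    have h3 : Module.Flat A (Curv2.cpl A) := AdicCompletion.flat_of_isNoetherian _
    have h4 : IsNoetherianRing (Curv2.cpl A) := Groth.Agent.S0543.result A (IsLocalRing.maximalIdeal A)
    exact K421.DeltaBC.deltaInv_baseChange A (Curv2.cpl A) hdim h1

end Groth.Agent.S7654
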