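import Groth.Statements.S10944
import Groth.Agent.FlatMor.K260.Gen
-- import your own Groth.Agent.* helpers here

set_option autoImplicit false
universe u
open CategoryTheory AlgebraicGeometry
open FlatMor

namespace Groth.Agent.S10944

/-- Let f : X → Y be a flat morphism of Noetherian schemes and Y' an irreducible component of Y. Then
f⁻¹(Y') is the union of the irreducible components Z of X with f(Z) ⊆ Y'. -/
theorem result {X Y : Scheme.{u}}
    [IsNoetherian X] [IsNoetherian Y] (f : X ⟶ Y) [Flat f]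
    (Y' : Set ↥Y) (hY' : Y' ∈ irreducibleComponents ↥Y) :
    f.base ⁻¹' Y' = ⋃₀ {Z : Set ↥X | Z ∈ irreducibleComponents ↥X ∧ f.base '' Z ⊆ Y'} := by
  have hcl : IsClosed Y' := isClosed_of_mem_irreducibleComponents Y' hY'
  ext x
  simp only [Set.mem_preimage, Set.mem_sUnion, Set.mem_setOf_eq]
  constructor
  · intro hx
    obtain ⟨η, hη, hηc, hηx⟩ := K260.Gen.exists_isMax_of_mem_irreducibleComponent hY' hx
    obtain ⟨x', hx', hfx'⟩ := Flat.generalizingMap f hηx
    obtain ⟨ξ, hξx', hξ⟩ := K260.Gen.exists_isMax x'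
    have hfξ : f ξ = η := by
      apply hη
      rw [← hfx']
      exact hξx'.map f.continuous
    refine ⟨closure {ξ}, ⟨(K260.Gen.isMax_iff ξ).1 hξ, ?_⟩, ?_⟩
    · rintro _ ⟨z, hz, rfl⟩
      have : ξ ⤳ z := by rwa [specializes_iff_mem_closure]
      have h2 : f ξ ⤳ f z := this.map f.continuous
      refine h2.mem_closed hcl ?_
      rw [hfξ, ← hηc]
      exact subset_closure rfl
    · rw [← specializes_iff_mem_closure]
      exact hξx'.trans hx'
  · rintro ⟨Z, ⟨hZ, hZY⟩, hxZ⟩
    exact hZY ⟨x, hxZ, rfl⟩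


end Groth.Agent.S10944
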