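import Groth.Statements.S17083
import Groth.Agent.Divis.BlowUpFormal

set_option autoImplicit false
universe u
open CategoryTheory CategoryTheory.Limits AlgebraicGeometry
open MorSch

namespace Groth.Agent.S17083


open Groth.Agent.Divis.IdealComap Groth.Agent.Divis.EffCartier Groth.Agent.Divis.BlowUpFormal

theorem comap_eq_top {X Y : Scheme.{u}} (I : X.IdealSheafData) (g : Y ⟶ X)
    (h : ∀ y : Y, g y ∉ I.support) : I.comap g = ⊤ := by
  rw [← Scheme.IdealSheafData.support_eq_bot_iff, Scheme.IdealSheafData.support_comap]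
  ext x
  simp only [TopologicalSpace.Closeds.coe_preimage, Set.mem_preimage, TopologicalSpace.Closeds.coe_bot,
    Set.mem_empty_iff_false, iff_false]
  exact h x

theorem isBlowUp_fst {X B₁ B₂ : Scheme.{u}} (I₁ I₂ : X.IdealSheafData)
    (hdisj : ∀ x : X, x ∈ I₂.support → x ∉ I₁.support)
    (σ₁ : B₁ ⟶ X) (hσ₁ : BlowUp.IsBlowUp σ₁ I₁) (σ₂ : B₂ ⟶ X) (hσ₂ : BlowUp.IsBlowUp σ₂ I₂) :
    BlowUp.IsBlowUp (pullback.fst σ₁ σ₂) (I₂.comap σ₁) := by
  constructor
  · apply isEff_of_forall_comap
    intro x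
    by_cases hx : σ₁ (pullback.fst σ₁ σ₂ x) ∈ I₂.support
    · -- `σ₁` is an isomorphism near the image
      let U₁ : X.Opens := I₁.support.compl
      have hiso := isIso_morphismRestrict_compl_support hσ₁ U₁ disjoint_compl_left
      let V : B₁.Opens := σ₁ ⁻¹ᵁ U₁
      have hV : IsOpenImmersion (V.ι ≫ σ₁) := by
        rw [← morphismRestrict_ι]
        infer_instance
      have h1 : IsPullback (pullback.fst (pullback.fst σ₁ σ₂) V.ι) (pullback.snd (pullback.fst σ₁ σ₂) V.ι)
        (pullback.fst σ₁ σ₂) V.ι := IsPullback.of_hasPullback _ _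
      have h2 : IsPullback (pullback.fst σ₁ σ₂) (pullback.snd σ₁ σ₂) σ₁ σ₂ := IsPullback.of_hasPullback _ _
      have h3 := h1.flip.paste_vert h2
      have h4 : IsOpenImmersion (pullback.fst (pullback.fst σ₁ σ₂) V.ι ≫ pullback.snd σ₁ σ₂) :=
        MorphismProperty.of_isPullback (P := @IsOpenImmersion) h3 hV
      have hxV : pullback.fst σ₁ σ₂ x ∈ V := hdisj _ hx
      refine ⟨_, pullback.fst (pullback.fst σ₁ σ₂) V.ι, inferInstance, ?_, ?_⟩
      · obtain ⟨z, hz, -⟩ := Scheme.Pullback.exists_preimage_pullback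
          (f := pullback.fst σ₁ σ₂) (g := V.ι) x ⟨_, hxV⟩ rfl
        exact ⟨z, hz⟩
      · have e : (pullback.fst (pullback.fst σ₁ σ₂) V.ι ≫ pullback.fst σ₁ σ₂) ≫ σ₁ =
          (pullback.fst (pullback.fst σ₁ σ₂) V.ι ≫ pullback.snd σ₁ σ₂) ≫ σ₂ := by
          rw [Category.assoc, Category.assoc, pullback.condition]
        rw [← Scheme.IdealSheafData.comap_comp, ← Scheme.IdealSheafData.comap_comp, e,
          Scheme.IdealSheafData.comap_comp]
        exact isEff_comap_flat hσ₂.1 _
    · refine ⟨_, (Scheme.Opens.ι ((pullback.fst σ₁ σ₂ ≫ σ₁) ⁻¹ᵁ I₂.support.compl)), inferInstance, ?_, ?_⟩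
      · rw [Scheme.Opens.range_ι]
        exact hx
      · rw [← Scheme.IdealSheafData.comap_comp, ← Scheme.IdealSheafData.comap_comp,
          comap_eq_top]
        · exact isEff_top
        · intro y
          exact y.2
  · intro Y a hY
    rw [← Scheme.IdealSheafData.comap_comp] at hY
    obtain ⟨k, hk, huniq⟩ := hσ₂.2 Y (a ≫ σ₁) hY
    refine ⟨pullback.lift a k hk.symm, pullback.lift_fst _ _ _, fun l hl => ?_⟩
    apply pullback.hom_ext
    · rw [pullback.lift_fst, hl]
    · rw [pullback.lift_snd]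
      apply huniq
      simp only [Category.assoc]
      rw [← pullback.condition, reassoc_of% hl]

/-- The closed immersion constructed in its proof, as follows. Let X be a scheme, I₁ and I₂
quasi-coherent ideal sheaves on X with I₁ + I₂ = O_X, so that they cut out disjoint closed
subschemes Z₁ and Z₂, let σ : B → X be a blow-up of X in the ideal I₁ ∩ I₂ of Z₁ ∪ Z₂, and let σ₁ :
B₁ → X and σ₂ : B₂ → X be blow-ups of X in Z₁ and in Z₂ (blow-up in the sense of the universal
property: the inverse image ideal is effective Cartier, finally so). Then there is a morphism ι : B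
→ B₁ ×_X B₂ over X which is a closed immersion; the components B → B_i are necessarily the unique
X-morphisms given by the universal properties. (Published for X a projective space over an
algebraically closed field, Z₂ a closed point and Z₁ a finite set of closed points not containing
it, and iterated there to embed the blow-up at r distinct points as a closed subscheme of the fibre
product over X of the r blow-ups at single points.) -/
theorem result
    {X B B₁ B₂ : Scheme.{u}} (I₁ I₂ : X.IdealSheafData) (hdisj : I₁ ⊔ I₂ = ⊤)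
    (σ : B ⟶ X) (hσ : BlowUp.IsBlowUp σ (I₁ ⊓ I₂))
    (σ₁ : B₁ ⟶ X) (hσ₁ : BlowUp.IsBlowUp σ₁ I₁) (σ₂ : B₂ ⟶ X) (hσ₂ : BlowUp.IsBlowUp σ₂ I₂) :
    ∃ ι : B ⟶ pullback σ₁ σ₂, IsClosedImmersion ι ∧ ι ≫ pullback.fst σ₁ σ₂ ≫ σ₁ = σ := by
  have hmem : ∀ x : X, x ∈ I₂.support → x ∉ I₁.support := by
    intro x h2 h1
    have h3 := congrArg Scheme.IdealSheafData.support hdisj
    rw [Scheme.IdealSheafData.support_sup, Scheme.IdealSheafData.support_top] at h3
    have : x ∈ (I₁.support ⊓ I₂.support : TopologicalSpace.Closeds X) := ⟨h1, h2⟩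
    rw [h3] at this
    exact this
  have hmul : I₁ * I₂ = I₁ ⊓ I₂ := by
    apply Scheme.IdealSheafData.ext
    rw [Scheme.IdealSheafData.ideal_mul, Scheme.IdealSheafData.ideal_inf]
    funext U
    simp only [Pi.mul_apply, Pi.inf_apply]
    apply Ideal.mul_eq_inf_of_coprime
    have := congrFun (congrArg Scheme.IdealSheafData.ideal hdisj) U
    simpa using this
  have h1 := isBlowUp_comp_mul hσ₁ (isBlowUp_fst I₁ I₂ hmem σ₁ hσ₁ σ₂ hσ₂)
  rw [hmul] at h1
  obtain ⟨e, he⟩ := exists_iso_of_isBlowUp hσ h1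
  exact ⟨e.hom, inferInstance, he⟩

end Groth.Agent.S17083
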