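import Groth.Statements.S6542
import Groth.Agent.S6541
import Groth.Agent.Curves.K314.PointDeg

set_option autoImplicit false
universe u
open CategoryTheory CategoryTheory.Limits AlgebraicGeometry
attribute [local instance] Curv2.resAlgebra
open Curves

namespace Groth.Agent.S6542

/-- Let X be a proper curve over the field k (proper, integral, of dimension one). If H^1(X, O_X) = 0
and there are closed points x_1, ..., x_n of X whose local rings are normal and whose residue-field
degrees over k have greatest common divisor 1, then X is isomorphic to P^1_k over k. -/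
theorem result (k : Type u) [Field k] (X : Scheme.{u}) [X.Over (Spec (CommRingCat.of k))]
    [IsIntegral X] [IsProper (X ↘ (Spec (CommRingCat.of k)))] (hdim : topologicalKrullDim X = 1)
    (h1 : Subsingleton (Coh.HH X (Coh.structureModule X) 1))
    (s : Finset X) (hcl : ∀ x ∈ s, IsClosed ({x} : Set X)) (hn : ∀ x ∈ s, IsIntegrallyClosed (X.presheaf.stalk x))
    (hgcd : s.gcd (fun x => Module.finrank k (X.residueField x)) = 1) :
    ∃ e : X ≅ CohB1.ProjSpace 1 k, e.hom ≫ CohB1.ProjSpace.toSpec 1 k = X ↘ (Spec (CommRingCat.of k)) := by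
  have hdvr : ∀ x ∈ s, ∃ L : X.Modules, PicF.IsInvertible L ∧
      Curv2.deg k X L 1 = Module.finrank k (X.residueField x) := by
    intro x hx
    have : IsLocallyNoetherian X := LocallyOfFiniteType.isLocallyNoetherian (X ↘ Spec (CommRingCat.of k))
    obtain ⟨ϖ, hϖ, hϖ0⟩ := K314.PointDeg.exists_uniformizer hdim x (hcl x hx) (hn x hx)
    exact K314.PointDeg.exists_invertible_deg k X hdim x (hcl x hx) ϖ hϖ hϖ0
  obtain ⟨L, hL, hdeg⟩ := K314.PointDeg.exists_deg_one_of_gcd k X hdim
    (s.image fun x => Module.finrank k (X.residueField x)) (by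
      intro d hd
      obtain ⟨x, hx, rfl⟩ := Finset.mem_image.1 hd
      exact hdvr x hx) (by rw [Finset.gcd_image]; exact hgcd)
  exact Groth.Agent.S6541.result k X hdim h1 L hL hdeg

end Groth.Agent.S6542
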