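import Groth.Statements.S5105
import Groth.Agent.Div21.K172.LocFact

set_option autoImplicit false
universe u
open CategoryTheory CategoryTheory.Limits AlgebraicGeometry TopologicalSpace
open Div21

namespace Groth.Agent.S5105

/-- For an integral scheme (X is locally factorial exactly when the canonical map Pic(X) → Cl(X) is a
bijection; in the presence of (i), being bijective means that each codimension-1 cycle arises as the
Weil divisor of some rational section of an invertible module): suppose X is an integral scheme that
is normal and locally Noetherian. Then these two conditions are equivalent: (1) whenever Z is a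
function from the points of X to the integers that is zero away from the points of codimension 1
(coheight 1) and whose support is locally finite, one can find an invertible O_X-module L together
with a nonzero rational section s of L (a nonzero element of the generic fibre of L) such that, at
each point of codimension 1, the order of s equals the value Z takes there; (2) each local ring of X
is a unique factorisation domain. -/
theorem result (X : Scheme.{u}) [IsIntegral X]
    [IsLocallyNoetherian X] (hX : Pi1.IsNormalScheme X) :
    (∀ Z : ↥X → ℤ, (∀ x : ↥X, Order.coheight x ≠ 1 → Z x = 0) →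
        (∀ x : ↥X, ∃ W : X.Opens, x ∈ W ∧ {z : ↥X | z ∈ W ∧ Z z ≠ 0}.Finite) →
        ∃ (L : X.Modules) (_ : PicF.IsInvertible L) (s : Cyc.secFibre L (genericPoint ↥X)), s ≠ 0 ∧
          ∀ x : ↥X, Order.coheight x = 1 →
            Cyc.secOrdAt L (genericPoint ↥X) x (genericPoint_specializes x) s = Z x) ↔
      ∀ x : ↥X, UniqueFactorizationMonoid ↑(X.presheaf.stalk x) := by
  have hX' : ∀ x : X, IsIntegrallyClosed (X.presheaf.stalk x) := fun x => (hX x).2
  constructor
  · intro h
    classical
    rw [Groth.Agent.S2877.result X hX]
    intro x₀ hx₀
    obtain ⟨L, hL, s, hs, hord⟩ := h (fun x => if x = x₀ then 1 else 0) (by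
      intro x hx
      rw [if_neg]
      rintro rfl
      exact hx hx₀) (by
      intro x
      refine ⟨⊤, trivial, (Set.finite_singleton x₀).subset ?_⟩
      rintro z ⟨-, hz⟩
      by_contra hne
      exact hz (if_neg hne))
    obtain ⟨D, hD⟩ := K172.LocFact.divisor_of_sec hX' _ hL hs hord
    refine ⟨D, fun f hf => ?_, fun x hx hx1 f hf => ?_⟩
    · rw [hD x₀ hx₀ f hf, if_pos rfl]
    · rw [hD x hx1 f hf, if_neg hx]
  · intro hufd Z hZ hfin
    exact K172.LocFact.exists_of_local hX' Z fun x =>
      K172.LocFact.exists_near hX' x (hufd x) Z hZ (hfin x)

end Groth.Agent.S5105
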