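import Groth.Statements.S16121
import Groth.Agent.AlgGrp.K407.RatCell
import Groth.Agent.Sga3B.RG.BrHc

set_option autoImplicit false
universe u
open CategoryTheory MonoidalCategory CartesianMonoidalCategory MonObj GrpObj AlgebraicGeometry CategoryTheory.Limits
open AlgGrp

namespace Groth.Agent.S16121

/-- Over an algebraically closed field k, a connected linear algebraic group G (an affine, smooth,
connected k-group scheme) is a rational variety: there are a nonempty open subscheme U of G, an n,
an open subscheme V of the affine space 𝔸ⁿ_k and an isomorphism U ≅ V compatible with the structure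
morphisms to Spec k. -/
theorem result (k : Type u) [Field k] [IsAlgClosed k]
    (G : Over (Spec (CommRingCat.of k))) [GrpObj G] [IsAffine G.left] [Smooth G.hom] [ConnectedSpace ↥G.left] :
    ∃ (U : G.left.Opens) (n : ℕ) (V : (𝔸(ULift.{u} (Fin n); Spec (CommRingCat.of k))).Opens)
      (e : (U : Scheme.{u}) ≅ (V : Scheme.{u})), (U : Set ↥G.left).Nonempty ∧
        e.hom ≫ V.ι ≫ (𝔸(ULift.{u} (Fin n); Spec (CommRingCat.of k)) ↘ Spec (CommRingCat.of k)) = U.ι ≫ G.hom := by
  obtain ⟨A, _, _, e, he, hft⟩ := Groth.Agent.Sga3B.RG.BrHc.exists_hopf_ft G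
  have hsm : Smooth (Groth.Agent.Books.AffBridge.SpecOver k A).hom := by
    rw [← Over.w e.inv]
    have : IsIso e.inv.left := inferInstanceAs (IsIso ((Over.forget _).map e.inv))
    infer_instance
  have hcn : ConnectedSpace (Groth.Agent.Books.AffBridge.SpecOver k A).left :=
    (Groth.Agent.Books.AlgPtsIrred.homeo e).surjective.connectedSpace
      (Groth.Agent.Books.AlgPtsIrred.homeo e).continuous
  have hdom : IsDomain A := (Groth.Agent.Sga3B.RG.BrPts.isDomain_iff (K := k) A).1 ⟨hsm, hcn⟩
  obtain ⟨R, _, _, φ, hR, hnt, hopen⟩ := K407.RatCell.exists_cell k A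
  obtain ⟨n, j, hj, hjo⟩ := hR.exists_openImmersion
  have hiso : IsIso e.inv.left := inferInstanceAs (IsIso ((Over.forget _).map e.inv))
  let a : Spec (CommRingCat.of R) ⟶ (Groth.Agent.Books.AffBridge.SpecOver k A).left :=
    Spec.map (CommRingCat.ofHom φ.toRingHom)
  have ha : IsOpenImmersion a := hopen
  let i : Spec (CommRingCat.of R) ⟶ G.left := a ≫ e.inv.left
  have hio : i ≫ G.hom = Spec.map (CommRingCat.ofHom (algebraMap k R)) := by
    rw [Category.assoc, Over.w e.inv]
    change Spec.map _ ≫ Spec.map _ = _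
    rw [← Spec.map_comp]
    congr 1
    ext x
    exact φ.commutes x
  have hi : IsOpenImmersion i := IsOpenImmersion.comp a e.inv.left
  refine ⟨i.opensRange, n, j.opensRange, i.isoOpensRange.symm ≪≫ j.isoOpensRange, ?_, ?_⟩
  · obtain ⟨x⟩ : Nonempty (Spec (CommRingCat.of R)) :=
      inferInstanceAs (Nonempty (PrimeSpectrum R))
    exact ⟨i x, ⟨x, rfl⟩⟩
  · rw [Iso.trans_hom, Iso.symm_hom, Category.assoc, ← Category.assoc j.isoOpensRange.hom,
      Scheme.Hom.isoOpensRange_hom_ι, hjo, ← hio, ← Category.assoc, Scheme.Hom.isoOpensRange_inv_comp]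

end Groth.Agent.S16121
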