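import Groth.Statements.S6729
import Groth.Agent.DEquiv.K237.BoxGen
import Groth.Agent.DEquiv.K237.PRes
import Groth.Agent.PerfA.CohSerre
import Groth.Agent.CycB.ClosSheaf

set_option autoImplicit false
universe u
open CategoryTheory AlgebraicGeometry
open DEquiv

namespace Groth.Agent.S6729

open CategoryTheory.Limits in
/-- Let R be a Noetherian ring and X a separated scheme of finite type over R which has the resolution
property. Let O_Δ = Δ_* O_X on X ×_R X, where Δ is the diagonal. Then there is a resolution ⋯ ⟶ E_1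
⊠ G_1 ⟶ E_0 ⊠ G_0 ⟶ O_Δ ⟶ 0 with every E_i and G_i a finite locally free O_X-module: an ℕ-indexed
chain complex with a quasi-isomorphism to O_Δ in degree 0, each of whose terms is isomorphic to
pr_1^* E_i ⊗ pr_2^* G_i. -/
theorem result
    (R : Type u) [CommRing R] [IsNoetherianRing R] (X : Scheme.{u}) [X.Over (Spec (.of R))]
    [IsSeparated (X ↘ Spec (.of R))] [LocallyOfFiniteType (X ↘ Spec (.of R))] [CompactSpace X]
    (hX : PerfAux.HasResolutionProperty X) :
    ∃ (C : ChainComplex (pullback (X ↘ Spec (.of R)) (X ↘ Spec (.of R))).Modules ℕ)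
      (π : C ⟶ (ChainComplex.single₀ _).obj
        ((Coh.push (pullback.diagonal (X ↘ Spec (.of R)))).obj (Coh.structureModule X))),
      QuasiIso π ∧ ∀ n : ℕ, ∃ (E G : X.Modules), FlatMod.IsFinLocFree E ∧ FlatMod.IsFinLocFree G ∧
        Nonempty (C.X n ≅ CohB1.tensorMod
          ((Scheme.Modules.pullback (pullback.fst (X ↘ Spec (.of R)) (X ↘ Spec (.of R)))).obj E)
          ((Scheme.Modules.pullback (pullback.snd (X ↘ Spec (.of R)) (X ↘ Spec (.of R)))).obj G)) := by
  have : IsAffine (Spec (.of R)) := inferInstance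
  have hqs : QuasiSeparatedSpace X := by
    have h1 : QuasiSeparatedSpace (Spec (.of R)) := inferInstance
    exact quasiSeparatedSpace_of_quasiSeparated (X ↘ Spec (.of R))
  have hNR : IsLocallyNoetherian (Spec (.of R)) := inferInstance
  have hN : IsLocallyNoetherian (pullback (X ↘ Spec (.of R)) (X ↘ Spec (.of R))) :=
    LocallyOfFiniteType.isLocallyNoetherian (pullback.fst (X ↘ Spec (.of R)) (X ↘ Spec (.of R)) ≫
      (X ↘ Spec (.of R)))
  obtain ⟨C, π, hπ, hC⟩ := K237.PRes.exists_resolution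
    (K237.BoxGen.IsBox (X ↘ Spec (.of R)) (X ↘ Spec (.of R))) (fun M => Coh.IsCoh M)
    (fun M hM => by
      obtain ⟨E, G, hE, hG, π, hπ⟩ := K237.BoxGen.exists_epi (X ↘ Spec (.of R)) (X ↘ Spec (.of R))
        hX hX M hM.1 hM.2
      have hB : K237.BoxGen.IsBox (X ↘ Spec (.of R)) (X ↘ Spec (.of R)) _ :=
        ⟨E, G, hE, hG, ⟨Iso.refl _⟩⟩
      exact ⟨_, π, hB, hπ, Groth.Agent.PerfA.CohSerre.isCoh_kernel π
        (Groth.Agent.PerfA.CohSerre.isCoh_of_isFinLocFree (hB.isFinLocFree _ _)) hM.1⟩)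
    ((Coh.push (pullback.diagonal (X ↘ Spec (.of R)))).obj (Coh.structureModule X))
    (Groth.Agent.CycB.ClosSheaf.isCoh_push_structureModule _)
  exact ⟨C, π, hπ, hC⟩

end Groth.Agent.S6729
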