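import Groth.Statements.S6742
import Groth.Agent.DEquiv.K351.FinHom
import Groth.Agent.S1011

set_option autoImplicit false
universe u
open CategoryTheory AlgebraicGeometry
attribute [local instance] HasDerivedCategory.standard
open DEquiv

namespace Groth.Agent.S6742

/-- Let X be a scheme proper over a field k, let K be an object of D(O_X) which is bounded and has
coherent cohomology sheaves, and let E be a perfect object of D(O_X). Then the k-vector spaces
Ext^i_X(E, K) = Hom(E, K⟦i⟧) (k-linear structure induced by X → Spec k) are finite-dimensional for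
all i ∈ ℤ and nonzero for only finitely many i. -/
theorem result
    (k : Type u) [Field k] (X : Scheme.{u}) [X.Over (Spec (.of k))] [IsProper (X ↘ Spec (.of k))]
    (K : DCoh.D X) (hK : SGA6.cohbP X K) (E : DCoh.D X) (hE : DCoh.IsPerfect E) :
    (∀ i : ℤ, Module.Finite k (E ⟶ (shiftFunctor (DCoh.D X) i).obj K)) ∧
        Set.Finite {i : ℤ | Nontrivial (E ⟶ (shiftFunctor (DCoh.D X) i).obj K)} := by
  have hN : IsNoetherian X := K351.FinHom.isNoetherian_of_proper k X
  obtain ⟨hKc, a, b, ha, hb⟩ := hK
  refine ⟨fun i => K351.FinHom.finite_hom E _ hE ⟨?_, a - i, b - i, ?_, ?_⟩, ?_⟩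
  · intro j
    exact PerfA.CohSerre.isCoh_of_iso
      (((DerivedCategory.homologyFunctor X.Modules 0).shiftIso i j (i + j) rfl).app K).symm
      (hKc (i + j))
  · exact DerivedCategory.TStructure.t.isGE_shift K a i (a - i) (by omega)
  · exact DerivedCategory.TStructure.t.isLE_shift K b i (b - i) (by omega)
  · refine ((S1011.result X E hE).2 K a b (fun j => (hKc j).1) ha hb).subset ?_
    intro i hi
    obtain ⟨φ, hφ⟩ := @exists_ne _ hi 0
    exact ⟨φ, hφ⟩

end Groth.Agent.S6742
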