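import Groth.Statements.S6758
import Groth.Agent.DEquiv.K352.Pn
import Groth.Agent.DEquiv.K352.IsoTr
import Groth.Agent.PerfC.LpullTens
import Groth.Agent.Dcoh.TMod
import Groth.Agent.Ega3A.PChart
import Groth.Agent.Fdesc.LocGen

set_option autoImplicit false
universe u
open CategoryTheory AlgebraicGeometry
attribute [local instance] HasDerivedCategory.standard
open DEquiv

namespace Groth.Agent.S6758

open CategoryTheory.Limits Groth.Agent.PerfB Groth.Agent.PerfB.FlatPull Groth.Agent.PerfB.TwistDer
  Groth.Agent.Ega3A.PChart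

section

variable (k : Type u) [Field k] (n : ℕ)

/-- `P^n_k` as a `Proj` and as a base change. -/
noncomputable def rho : CohB1.ProjSpace n k ≅ CohB1.ProjSpaceOver n (Spec (CommRingCat.of k)) :=
  haveI : IsIso (chart n (𝟙 (Spec (CommRingCat.of k)))) :=
    MorphismProperty.of_isPullback (P := MorphismProperty.isomorphisms Scheme)
      (isPullback_chart n (𝟙 (Spec (CommRingCat.of k)))).flip (MorphismProperty.isomorphisms.infer_property _)
  asIso (chart n (𝟙 (Spec (CommRingCat.of k))))

instance : (rho k n).hom.IsOver (Spec (CommRingCat.of k)) where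
  comp_over := by
    have := chart_toBase n (𝟙 (Spec (CommRingCat.of k)))
    rw [Category.comp_id] at this
    exact this

/-- `f^* (M ⊗ G) ≅ f^* M ⊗ f^* G`, naturally in `M`. -/
noncomputable def pullTensFlip {X Y : Scheme.{u}} (f : X ⟶ Y) (G : Y.Modules) :
    (DCoh.tensorBi (X := Y)).flip.obj G ⋙ Scheme.Modules.pullback f ≅
      Scheme.Modules.pullback f ⋙ (DCoh.tensorBi (X := X)).flip.obj
        ((Scheme.Modules.pullback f).obj G) :=
  NatIso.ofComponents (fun M => (((Groth.Agent.PerfC.LpullTens.pullBi f).app M).app G))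
    (fun φ => congr_app ((Groth.Agent.PerfC.LpullTens.pullBi f).hom.naturality φ) G)

/-- `f^* (M ⊗ G) ≅ f^* M ⊗ f^* G`, naturally in `M`. -/
noncomputable def pullTens {X Y : Scheme.{u}} (f : X ⟶ Y) (G : Y.Modules) :
    DCoh.tensorRightMod G ⋙ Scheme.Modules.pullback f ≅
      Scheme.Modules.pullback f ⋙ DCoh.tensorRightMod ((Scheme.Modules.pullback f).obj G) :=
  Functor.isoWhiskerRight (Groth.Agent.Dcoh.TMod.flipIso G).symm (Scheme.Modules.pullback f) ≪≫
    pullTensFlip f G ≪≫
    Functor.isoWhiskerLeft (Scheme.Modules.pullback f)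
      (Groth.Agent.Dcoh.TMod.flipIso ((Scheme.Modules.pullback f).obj G))

/-- Twists on the two models. -/
noncomputable def twIso (d : ℤ) :
    DCoh.tensorRightMod (Twist.twistOver n (Spec (CommRingCat.of k)) d) ⋙
      Scheme.Modules.pullback (rho k n).hom ≅ Scheme.Modules.pullback (rho k n).hom ⋙ twM n k d :=
  pullTens (rho k n).hom _ ≪≫ Functor.isoWhiskerLeft _
    (TensExact.tensorRightModCongr (chartTwistIso n (𝟙 (Spec (CommRingCat.of k))) d))

instance (d : ℤ) : PreservesFiniteLimits (DCoh.tensorRightMod (Twist.twistOver n (Spec (CommRingCat.of k)) d)) :=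
  TensInv.preservesFiniteLimits_of_isInvertible
    (Groth.Agent.Fdesc.LocGen.isInvertible_pullback _ (isInvertible_tw n (ULift.{u} ℤ) d))

/-- Twists on the two models, derived version. -/
noncomputable def twDIso (d : ℤ) [DCoh.HasLTensorMod (Twist.twistOver n (Spec (CommRingCat.of k)) d)] :
    DCoh.LTensorMod (Twist.twistOver n (Spec (CommRingCat.of k)) d) ⋙ pullbackD (rho k n).hom ≅
      pullbackD (rho k n).hom ⋙ twD n k d :=
  Functor.isoWhiskerRight (TensExact.LTensorModIso _) _ ≪≫
    Groth.Agent.Dcoh.MapDer.mapDerCompIso (twIso k n d) ≪≫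
    (Groth.Agent.Dcoh.MapDer.mapDerCompIso (Iso.refl _)).symm

end

/-- (1) ⇔ (4): let k be a field, n ≥ 0, P = P^n_k, and let K be an object of D(O_P) with quasi-coherent
cohomology sheaves. Then K is bounded with coherent cohomology sheaves if and only if for each d =
0, …, n the k-vector spaces H^i(P, K ⊗^L O_P(d)) = Hom(O_P, (K ⊗^L O_P(d))⟦i⟧) are
finite-dimensional for all i ∈ ℤ and nonzero for only finitely many i. (The derived functors - ⊗^L
O_P(d) are assumed to exist, as instance binders. The published statement lists two further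
equivalent conditions, which are not restated here: that for every perfect object E of D(O_P) the
spaces Hom(E, K⟦i⟧) be finite-dimensional for all i and nonzero for only finitely many i, a
criterion which holds on every H-projective scheme over k, and the same condition on the spaces
H^i(P, E ⊗^L K) for every perfect E.) -/
theorem result
    (k : Type u) [Field k] (n : ℕ)
    (K : DCoh.D (CohB1.ProjSpaceOver n (Spec (.of k)))) (hK : DCoh.IsQCohD K)
    [∀ d : ℤ, DCoh.HasLTensorMod (Twist.twistOver n (Spec (.of k)) d)] :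
    SGA6.cohbP (CohB1.ProjSpaceOver n (Spec (.of k))) K ↔
      ∀ d : ℕ, d ≤ n →
        (∀ i : ℤ, Module.Finite k (DCoh.inD (CohB1.ProjSpaceOver n (Spec (.of k))) (Coh.structureModule (CohB1.ProjSpaceOver n (Spec (.of k)))) ⟶
            (shiftFunctor (DCoh.D (CohB1.ProjSpaceOver n (Spec (.of k)))) i).obj ((DCoh.LTensorMod (Twist.twistOver n (Spec (.of k)) (d : ℤ))).obj K))) ∧
        Set.Finite {i : ℤ | Nontrivial (DCoh.inD (CohB1.ProjSpaceOver n (Spec (.of k))) (Coh.structureModule (CohB1.ProjSpaceOver n (Spec (.of k)))) ⟶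
            (shiftFunctor (DCoh.D (CohB1.ProjSpaceOver n (Spec (.of k)))) i).obj ((DCoh.LTensorMod (Twist.twistOver n (Spec (.of k)) (d : ℤ))).obj K))} := by
  have key : ∀ d : ℕ, (∀ i : ℤ, Module.Finite k (DCoh.inD (CohB1.ProjSpaceOver n (Spec (.of k))) (Coh.structureModule (CohB1.ProjSpaceOver n (Spec (.of k)))) ⟶
            (shiftFunctor (DCoh.D (CohB1.ProjSpaceOver n (Spec (.of k)))) i).obj ((DCoh.LTensorMod (Twist.twistOver n (Spec (.of k)) (d : ℤ))).obj K))) ∧
        Set.Finite {i : ℤ | Nontrivial (DCoh.inD (CohB1.ProjSpaceOver n (Spec (.of k))) (Coh.structureModule (CohB1.ProjSpaceOver n (Spec (.of k)))) ⟶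
            (shiftFunctor (DCoh.D (CohB1.ProjSpaceOver n (Spec (.of k)))) i).obj ((DCoh.LTensorMod (Twist.twistOver n (Spec (.of k)) (d : ℤ))).obj K))} ↔
      K352.Pn.Fin n k ((twD n k d).obj ((pullbackD (rho k n).hom).obj K)) := by
    intro d
    have e : ∀ i : ℤ, (DCoh.inD (CohB1.ProjSpaceOver n (Spec (.of k))) (Coh.structureModule (CohB1.ProjSpaceOver n (Spec (.of k)))) ⟶
            (shiftFunctor (DCoh.D (CohB1.ProjSpaceOver n (Spec (.of k)))) i).obj ((DCoh.LTensorMod (Twist.twistOver n (Spec (.of k)) (d : ℤ))).obj K)) ≃ₗ[k]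
        (DCoh.inD (CohB1.ProjSpace n k) (Coh.structureModule _) ⟶
          (((twD n k d).obj ((pullbackD (rho k n).hom).obj K)))⟦i⟧) := fun i =>
      (K352.IsoTr.homE (A := k) (rho k n) _ i).trans
        (Linear.homCongr k (Iso.refl _) ((shiftFunctor _ i).mapIso ((twDIso k n d).app K)))
    refine and_congr (forall_congr' fun i => Module.Finite.equiv_iff (e i)) ?_
    have h : {i : ℤ | Nontrivial (DCoh.inD (CohB1.ProjSpaceOver n (Spec (.of k))) (Coh.structureModule (CohB1.ProjSpaceOver n (Spec (.of k)))) ⟶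
            (shiftFunctor (DCoh.D (CohB1.ProjSpaceOver n (Spec (.of k)))) i).obj ((DCoh.LTensorMod (Twist.twistOver n (Spec (.of k)) (d : ℤ))).obj K))} =
      {i : ℤ | Nontrivial (DCoh.inD (CohB1.ProjSpace n k) (Coh.structureModule _) ⟶
          (((twD n k d).obj ((pullbackD (rho k n).hom).obj K)))⟦i⟧)} := by
      ext i
      exact (e i).toEquiv.nontrivial_congr
    rw [h]
  rw [← K352.IsoTr.cohbP_iff (rho k n)]
  constructor
  · intro h d _
    exact (key d).2 (K352.Pn.fin_of_cohb n k (K352.Pn.cohb_tw n k h d))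
  · intro h
    exact K352.Pn.cohb_of_fin n k ((K352.IsoTr.isQCohD_iff (rho k n) K).2 hK) fun d hd => (key d).1 (h d hd)

end Groth.Agent.S6758
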