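import Groth.Statements.S6501

set_option autoImplicit false
universe u
open DPow

namespace Groth.Agent.S6501

section

variable {A : Type u} [CommRing A]

/-- every element of the ideal has powers divisible by factorials within the ideal -/
theorem key (I : Ideal A) (S : Set A) (hS : Ideal.span S = I)
    (h : ∀ x ∈ S, ∀ n : ℕ, 1 ≤ n → x ^ n ∈ Ideal.span {(Nat.factorial n : A)} * I) :
    ∀ x ∈ I, ∀ n : ℕ, n ≠ 0 → ∃ y ∈ I, (Nat.factorial n : A) * y = x ^ n := by
  intro x hx
  rw [← hS] at hx
  induction hx using Submodule.span_induction with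
  | mem x hx =>
    intro n hn
    have := h x hx n (by omega)
    rw [Ideal.mem_span_singleton_mul] at this
    exact this
  | zero =>
    intro n hn
    exact ⟨0, I.zero_mem, by rw [mul_zero, zero_pow hn]⟩
  | add x y hx hy h1 h2 =>
    intro n hn
    choose! f hf1 hf2 using h1
    choose! g hg1 hg2 using h2
    let F : ℕ → A := fun i => if i = 0 then 1 else f i
    let G : ℕ → A := fun i => if i = 0 then 1 else g i
    have hF : ∀ i, (Nat.factorial i : A) * F i = x ^ i := by
      intro i
      by_cases hi : i = 0
      · simp [F, hi]
      · simp only [F, if_neg hi]; exact hf2 i hi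
    have hG : ∀ i, (Nat.factorial i : A) * G i = y ^ i := by
      intro i
      by_cases hi : i = 0
      · simp [G, hi]
      · simp only [G, if_neg hi]; exact hg2 i hi
    refine ⟨∑ k ∈ Finset.antidiagonal n, F k.1 * G k.2, ?_, ?_⟩
    · refine I.sum_mem fun k hk => ?_
      rw [Finset.mem_antidiagonal] at hk
      by_cases h0 : k.1 = 0
      · refine I.mul_mem_left _ ?_
        have : k.2 ≠ 0 := by omega
        simp only [G, if_neg this]
        exact hg1 _ this
      · refine I.mul_mem_right _ ?_
        simp only [F, if_neg h0]
        exact hf1 _ h0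
    · rw [Commute.add_pow' (Commute.all x y), Finset.mul_sum]
      refine Finset.sum_congr rfl fun k hk => ?_
      rw [Finset.mem_antidiagonal] at hk
      rw [← hF, ← hG, nsmul_eq_mul]
      have h3 : (Nat.factorial n : A) = (n.choose k.1 : A) * (Nat.factorial k.1 : A) *
          (Nat.factorial k.2 : A) := by
        have := Nat.choose_mul_factorial_mul_factorial (n := n) (k := k.1) (by omega)
        have h4 : n - k.1 = k.2 := by omega
        rw [h4] at this
        rw [← this]
        push_cast
        ring
      rw [h3]
      ring
  | smul a x hx h1 =>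
    intro n hn
    obtain ⟨y, hy, hy'⟩ := h1 n hn
    refine ⟨a ^ n * y, I.mul_mem_left _ hy, ?_⟩
    rw [smul_eq_mul, mul_pow, ← hy']
    ring

end

/-- Let A be a commutative ring whose additive group is torsion free and I an ideal of A. Then I carries
at most one divided power structure, and it carries one if and only if I is generated by a set S
such that for every x in S and every n ≥ 1 the power x^n lies in the ideal generated by the products
of n! with elements of I. -/
theorem result {A : Type u} [CommRing A] [IsAddTorsionFree A] (I : Ideal A) :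
    Subsingleton (DividedPowers I) ∧
    (Nonempty (DividedPowers I) ↔ ∃ S : Set A, Ideal.span S = I ∧
      ∀ x ∈ S, ∀ n : ℕ, 1 ≤ n → x ^ n ∈ Ideal.span {(Nat.factorial n : A)} * I) := by
  classical
  have cancel : ∀ (n : ℕ) (a b : A), (Nat.factorial n : A) * a = (Nat.factorial n : A) * b → a = b := by
    intro n a b hab
    rw [← nsmul_eq_mul, ← nsmul_eq_mul] at hab
    exact (nsmul_right_injective (Nat.factorial_ne_zero n)) hab
  have cancel' : ∀ (n : ℕ) (hn : n ≠ 0) (a b : A), (n : A) * a = (n : A) * b → a = b := by
    intro n hn a b hab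
    rw [← nsmul_eq_mul, ← nsmul_eq_mul] at hab
    exact (nsmul_right_injective hn) hab
  refine ⟨⟨fun γ δ => ?_⟩, ?_, ?_⟩
  · refine DividedPowers.ext γ δ fun {n x} hx => ?_
    apply cancel n
    rw [γ.factorial_mul_dpow_eq_pow hx, δ.factorial_mul_dpow_eq_pow hx]
  · rintro ⟨γ⟩
    refine ⟨I, Ideal.span_eq I, fun x hx n hn => ?_⟩
    rw [Ideal.mem_span_singleton_mul]
    exact ⟨γ.dpow n x, γ.dpow_mem (by omega) hx, γ.factorial_mul_dpow_eq_pow hx⟩
  · rintro ⟨S, hS, h⟩
    have hk := key I S hS h
    choose! f hf1 hf2 using hk
    let d : ℕ → A → A := fun n x => if x ∈ I then (if n = 0 then 1 else f x n) else 0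
    have hd : ∀ (n : ℕ) (x : A), x ∈ I → (Nat.factorial n : A) * d n x = x ^ n := by
      intro n x hx
      by_cases hn : n = 0
      · simp [d, hn, hx]
      · simp only [d, if_pos hx, if_neg hn]
        exact hf2 x hx n hn
    have hd0 : ∀ x ∈ I, d 0 x = 1 := by
      intro x hx; simp [d, hx]
    have hdm : ∀ (n : ℕ) (x : A), n ≠ 0 → x ∈ I → d n x ∈ I := by
      intro n x hn hx
      simp only [d, if_pos hx, if_neg hn]
      exact hf1 x hx n hn
    refine ⟨{
      dpow := d
      dpow_null := fun {n x} hx => by simp [d, hx]
      dpow_zero := fun {x} hx => hd0 x hx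
      dpow_one := fun {x} hx => ?_
      dpow_mem := fun {n x} hn hx => hdm n x hn hx
      dpow_add := fun {n x y} hx hy => ?_
      dpow_mul := fun {n a x} hx => ?_
      mul_dpow := fun {m n x} hx => ?_
      dpow_comp := fun {m n x} hn hx => ?_ }⟩
    · apply cancel 1
      rw [hd 1 x hx]; simp
    · apply cancel n
      rw [hd n _ (I.add_mem hx hy), Commute.add_pow' (Commute.all x y), Finset.mul_sum]
      refine Finset.sum_congr rfl fun k hk => ?_
      rw [Finset.mem_antidiagonal] at hk
      rw [← hd k.1 x hx, ← hd k.2 y hy, nsmul_eq_mul]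
      have h3 : (Nat.factorial n : A) = (n.choose k.1 : A) * (Nat.factorial k.1 : A) *
          (Nat.factorial k.2 : A) := by
        have := Nat.choose_mul_factorial_mul_factorial (n := n) (k := k.1) (by omega)
        have h4 : n - k.1 = k.2 := by omega
        rw [h4] at this
        rw [← this]
        push_cast
        ring
      rw [h3]
      ring
    · apply cancel n
      rw [hd n _ (I.mul_mem_left _ hx), mul_pow, ← hd n x hx]
      ring
    · apply cancel m
      apply cancel n
      have e1 : (Nat.factorial n : A) * ((Nat.factorial m : A) * (d m x * d n x)) =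
          ((Nat.factorial m : A) * d m x) * ((Nat.factorial n : A) * d n x) := by ring
      rw [e1, hd m x hx, hd n x hx, ← pow_add, ← hd (m + n) x hx]
      have h3 : (Nat.factorial (m + n) : A) = ((m + n).choose m : A) * (Nat.factorial m : A) *
          (Nat.factorial n : A) := by
        have := Nat.choose_mul_factorial_mul_factorial (n := m + n) (k := m) (by omega)
        have h4 : m + n - m = n := by omega
        rw [h4] at this
        rw [← this]
        push_cast
        ring
      rw [h3]
      ring
    · apply cancel m
      have hne : ((Nat.factorial n) ^ m : ℕ) ≠ 0 := pow_ne_zero _ (Nat.factorial_ne_zero n)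
      apply cancel' _ hne
      rw [hd m _ (hdm n x hn hx)]
      have e1 : ((Nat.factorial n ^ m : ℕ) : A) * d n x ^ m = ((Nat.factorial n : A) * d n x) ^ m := by
        push_cast; ring
      rw [e1, hd n x hx, ← pow_mul, mul_comm n m, ← hd (m * n) x hx]
      have := Nat.uniformBell_mul_eq m hn
      have h3 : (Nat.factorial (m * n) : A) = (Nat.uniformBell m n : A) * (Nat.factorial n : A) ^ m *
          (Nat.factorial m : A) := by
        rw [← this]; push_cast; ring
      rw [h3]
      push_cast
      ring

end Groth.Agent.S6501
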