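import Groth.Statements.S6974
-- import your own Groth.Agent.* helpers here
import Groth.Agent.DRing.K228.TorPerf

set_option autoImplicit false
universe u
open CategoryTheory CategoryTheory.Limits
attribute [local instance] HasDerivedCategory.standard
open DRing

namespace Groth.Agent.S6974

/-- Let R be a commutative ring such that the derived base change D(R) → D(R/m) exists for every ideal
m, let K be a pseudo-coherent object of D(R) and a, b integers. If for every maximal ideal m of R
the cohomology H^i(K ⊗^L_R R/m) vanishes for all i outside [a, b], then K is perfect and has tor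
amplitude in [a, b]. -/
theorem result (R : Type u) [CommRing R]
    [∀ m : Ideal R, DRing.HasLBaseChange (Ideal.Quotient.mk m)] (K : Dual.D R)
    (hK : DRing.IsPseudoCoherent' R K) (a b : ℤ)
    (h : ∀ (m : Ideal R), m.IsMaximal → ∀ i : ℤ, (i < a ∨ b < i) →
      Subsingleton (Dual.HD (R ⧸ m) ((DRing.LBaseChange (Ideal.Quotient.mk m)).obj K) i)) :
    DRing.IsPerfect R K ∧ DRing.HasTorAmplitudeIn R a b K := by
  refine K228.FibreSplit.isPerfect_and_torAmp
    (K228.TorPerf.exists_of_retraction hK fun E hE hKP ⟨e⟩ i hi => ?_)
  refine K228.FibreSplit.exists_retraction_of_forall _ fun m hm => ?_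
  obtain ⟨s, r, hs, hr⟩ := K228.FibreSplit.exists_retraction_of_exactAt E
    (Ideal.Quotient.mk m) ((Ideal.Quotient.maximal_ideal_iff_isField_quotient m).1 hm) hE i
    (K228.FibreSplit.exactAt_ext E _ e i (h m hm i hi))
  exact ⟨s, r, fun hmem => hs (Ideal.Quotient.eq_zero_iff_mem.2 hmem), hr⟩

end Groth.Agent.S6974
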