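import Groth.Statements.S12907
import Groth.Agent.CAlgX.K581.HilbertBurch
import Groth.Agent.CAlgX.K581.RowMat

set_option autoImplicit false
universe u
open CAlgX

namespace Groth.Agent.S12907

/-- Let R be a Noetherian ring and I a nonzero ideal admitting a free resolution 0 → R^m → R^n → I → 0:
an injective matrix Ψ with n rows and m columns, and a linear map π : R^n → R with image I whose
kernel is the image of Ψ. Then n = m + 1; there is a non-zero-divisor a with I = a · I_m(Ψ), where
I_m(Ψ) is the ideal generated by the m × m minors of Ψ; and the I_m(Ψ)-depth of R is at least 2.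
(The published statement also asserts that this depth is exactly 2; only the lower bound is stated
here. The hypothesis that I is nonzero is implicit in the published statement.) -/
theorem result {R : Type u} [CommRing R] [IsNoetherianRing R] (m n : ℕ)
    (Ψ : Matrix (Fin n) (Fin m) R) (π : (Fin n → R) →ₗ[R] R)
    (hΨ : LinearMap.ker Ψ.mulVecLin = ⊥) (hex : LinearMap.ker π = LinearMap.range Ψ.mulVecLin)
    (hI : LinearMap.range π ≠ ⊥) :
    n = m + 1 ∧
      (∃ a : R, a ∈ nonZeroDivisors R ∧ LinearMap.range π = Ideal.span {a} * CAlgX.minorIdeal Ψ m) ∧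
      2 ≤ LocCoh.idealDepth (CAlgX.minorIdeal Ψ m) R := by
  classical
  -- the rank count and a non-zero-divisor in the ideal
  let nn : ℕ → ℕ := fun | 0 => n | _ => m
  let AA : (i : ℕ) → Matrix (Fin (nn i)) (Fin (nn (i + 1))) R := fun | 0 => Ψ | _ + 1 => 0
  have hinj : ∀ v, Ψ.mulVec v = 0 → v = 0 := fun v hv => by
    have h1 : v ∈ LinearMap.ker Ψ.mulVecLin := hv
    rw [hΨ] at h1
    exact h1
  have hπΨ : ∀ v, π (Ψ.mulVec v) = 0 := fun v => by
    have h1 : Ψ.mulVec v ∈ LinearMap.ker π := by rw [hex]; exact ⟨v, rfl⟩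
    exact h1
  have hker : ∀ w, π w = 0 → ∃ u, Ψ.mulVec u = w := fun w hw => by
    have h1 : w ∈ LinearMap.ker π := hw
    rw [hex] at h1
    exact h1
  obtain ⟨⟨r, hr, hr1⟩, z, hz, hz'⟩ := K581.FFR.main 0 nn AA (K581.RowMat.row π)
    (by
      apply Matrix.mulVec_injective
      ext1 v
      rw [← Matrix.mulVec_mulVec, Matrix.zero_mulVec, K581.RowMat.row_mulVec_eq_zero]
      exact hπΨ v)
    (fun v hv => hker v ((K581.RowMat.row_mulVec_eq_zero π v).1 hv))
    (fun i hi => by omega)
    (fun i hi => by omega)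
    hinj
    (K581.RowMat.row_ne_zero π hI)
  have hn : n = m + 1 := by
    have h1 := hr.2 1 le_rfl (by omega)
    have h2 := hr.2 2 (by omega) le_rfl
    have h3 := hr.1
    have h4 : K581.FFR.n' nn 1 = n := rfl
    have h5 : K581.FFR.n' nn 2 = m := rfl
    rw [h4] at h1
    rw [h5] at h2
    have h6 : r (0 + 2 + 1) = r (2 + 1) := rfl
    rw [h6] at h3
    have h7 : r (1 + 1) = r 2 := rfl
    omega
  subst hn
  rw [K581.RowMat.minorIdeal_row] at hz
  -- depth at least two
  have hTwo : K581.HilbertBurch.Two (CAlgX.minorIdeal Ψ m) := by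
    obtain ⟨x, hx, hx'⟩ := (K581.McCoy.ker_eq_bot_iff_exists Ψ).1 hΨ
    have hx0 : ∀ a, x * a = 0 → a = 0 := fun a ha => by
      rw [mul_comm] at ha
      exact (mem_nonZeroDivisors_iff_right.1 hx') a ha
    let q := Ideal.Quotient.mk (Ideal.span {x})
    have hq : ∀ a, q a = 0 ↔ ∃ c, a = x * c := fun a => by
      rw [Ideal.Quotient.eq_zero_iff_mem, Ideal.mem_span_singleton']
      exact ⟨fun ⟨c, hc⟩ => ⟨c, by rw [← hc, mul_comm]⟩, fun ⟨c, hc⟩ => ⟨c, by rw [hc, mul_comm]⟩⟩
    have hker' : LinearMap.ker (Ψ.map q).mulVecLin = ⊥ := by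
      rw [LinearMap.ker_eq_bot']
      intro v hv
      choose v' hv' using fun j => Ideal.Quotient.mk_surjective (v j)
      have h1 : ∀ i, q (Ψ.mulVec v' i) = 0 := by
        intro i
        have h2 := congrFun hv i
        rw [Matrix.mulVecLin_apply, Matrix.mulVec, dotProduct] at h2
        rw [Matrix.mulVec, dotProduct, map_sum]
        refine Eq.trans ?_ h2
        refine Finset.sum_congr rfl fun j _ => ?_
        rw [map_mul, Matrix.map_apply]
        congr 1
        exact hv' j
      choose w hw using fun i => (hq _).1 (h1 i)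
      have h2 : Ψ.mulVec v' = x • w := funext hw
      have h3 : π w = 0 := by
        apply hx0
        rw [← smul_eq_mul, ← map_smul, ← h2]
        exact hπΨ v'
      obtain ⟨u, hu⟩ := hker w h3
      have h4 : Ψ.mulVec (v' - x • u) = 0 := by
        rw [Matrix.mulVec_sub, Matrix.mulVec_smul, hu, h2, sub_self]
      have h5 := hinj _ h4
      ext j
      have h6 := congrFun h5 j
      rw [← hv' j]
      exact (hq _).2 ⟨u j, sub_eq_zero.1 h6⟩
    obtain ⟨y, hy, hy'⟩ := (K581.McCoy.ker_eq_bot_iff_exists (Ψ.map q)).1 hker'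
    rw [Groth.Agent.CalgB.Minors.minorIdeal_map, Ideal.mem_map_iff_of_surjective q
      Ideal.Quotient.mk_surjective] at hy
    obtain ⟨y', hy1, rfl⟩ := hy
    refine ⟨x, hx, y', hy1, hx0, fun a b hab => ?_⟩
    rw [← hq]
    have h7 : q a * q y' = 0 := by
      rw [← map_mul, mul_comm, hab]
      exact (hq _).2 ⟨b, rfl⟩
    exact (mem_nonZeroDivisors_iff_right.1 hy') _ h7
  refine ⟨rfl, ?_, K581.HilbertBurch.le_idealDepth_of_two _ hTwo⟩
  -- the linear form is a multiple of the minors
  have hπ : ∀ w, π w = ∑ i, w i * π (Pi.single i 1) := fun w => by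
    conv_lhs => rw [pi_eq_sum_univ' w, map_sum]
    exact Finset.sum_congr rfl fun i _ => by rw [map_smul, smul_eq_mul]
  obtain ⟨a, ha⟩ := K581.HilbertBurch.exists_eq_mul_dl Ψ hTwo (fun i => π (Pi.single i 1)) (by
    intro j
    have h1 := hπΨ (Pi.single j 1)
    rw [hπ] at h1
    rw [← h1]
    refine Finset.sum_congr rfl fun i _ => ?_
    rw [Matrix.mulVec_single_one, Matrix.col_apply]
    ring)
  have hπ' : ∀ w, π w = a * ∑ i, w i * K581.HilbertBurch.dl Ψ i := fun w => by
    rw [hπ, Finset.mul_sum]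
    refine Finset.sum_congr rfl fun i _ => ?_
    have h1 := ha i
    rw [h1]
    ring
  have hrange : LinearMap.range π = Ideal.span {a} * CAlgX.minorIdeal Ψ m := by
    ext y
    rw [Ideal.mem_span_singleton_mul]
    constructor
    · rintro ⟨w, rfl⟩
      exact ⟨∑ i, w i * K581.HilbertBurch.dl Ψ i,
        (K581.HilbertBurch.mem_minorIdeal_iff Ψ _).2 ⟨w, rfl⟩, (hπ' w).symm⟩
    · rintro ⟨x, hx, rfl⟩
      obtain ⟨w, rfl⟩ := (K581.HilbertBurch.mem_minorIdeal_iff Ψ _).1 hx
      exact ⟨w, hπ' w⟩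
  refine ⟨a, ?_, hrange⟩
  rw [mem_nonZeroDivisors_iff_right]
  intro b hb
  obtain ⟨w, hw⟩ := hz
  have h1 : b * z = 0 := by
    rw [← hw, hπ', ← mul_assoc, hb, zero_mul]
  exact (mem_nonZeroDivisors_iff_right.1 hz') b h1

end Groth.Agent.S12907
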