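import Groth.Statements.S12908
import Groth.Agent.CAlgX.K581.HilbertBurch

set_option autoImplicit false
universe u
open CAlgX

namespace Groth.Agent.S12908

/-- Let R be a Noetherian ring, t a natural number, Ψ a (t+1) × t matrix over R such that the
I_t(Ψ)-depth of R is at least 2, where I_t(Ψ) is the ideal generated by the t × t minors of Ψ, and a
a non-zero-divisor of R. Put Δ_i = a · (-1)^i det Ψ_i, where Ψ_i is Ψ with row i deleted. Then 0 →
R^t → R^{t+1} → R, with first map Ψ and second map v ↦ Σ_i Δ_i v_i, is exact: Ψ is injective and the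
kernel of the second map equals the image of Ψ; moreover the image of the second map is the ideal a
· I_t(Ψ). (The published statement adds that this ideal has depth 2 exactly when a is a unit; that
clause is not stated here.) -/
theorem result {R : Type u} [CommRing R] [IsNoetherianRing R] (t : ℕ)
    (Ψ : Matrix (Fin (t + 1)) (Fin t) R) (hdepth : 2 ≤ LocCoh.idealDepth (CAlgX.minorIdeal Ψ t) R)
    (a : R) (ha : a ∈ nonZeroDivisors R) :
    LinearMap.ker Ψ.mulVecLin = ⊥ ∧
      LinearMap.ker (Fintype.linearCombination R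
          (fun i : Fin (t + 1) => a * ((-1 : R) ^ (i : ℕ) * (Ψ.submatrix i.succAbove id).det))) =
        LinearMap.range Ψ.mulVecLin ∧
      LinearMap.range (Fintype.linearCombination R
          (fun i : Fin (t + 1) => a * ((-1 : R) ^ (i : ℕ) * (Ψ.submatrix i.succAbove id).det))) =
        Ideal.span {a} * CAlgX.minorIdeal Ψ t := by
  have hTwo := K581.HilbertBurch.two_of_le_idealDepth _ hdepth
  have ha' : ∀ x, a * x = 0 → x = 0 := fun x hx => by
    rw [mul_comm] at hx
    exact (mem_nonZeroDivisors_iff_right.1 ha) x hx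
  have hlin : ∀ w : Fin (t + 1) → R, Fintype.linearCombination R
      (fun i : Fin (t + 1) => a * ((-1 : R) ^ (i : ℕ) * (Ψ.submatrix i.succAbove id).det)) w =
        a * ∑ i, w i * K581.HilbertBurch.dl Ψ i := by
    intro w
    rw [Fintype.linearCombination_apply, Finset.mul_sum]
    refine Finset.sum_congr rfl fun i _ => ?_
    rw [smul_eq_mul, K581.HilbertBurch.dl]
    ring
  refine ⟨?_, ?_, ?_⟩
  · obtain ⟨x, hx, y, hy, h1, h2⟩ := hTwo
    rw [LinearMap.ker_eq_bot']
    intro u hu
    have h3 := K581.McCoy.smul_eq_zero_of_mem Ψ u hu x hx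
    ext j
    exact h1 _ (congrFun h3 j)
  · apply le_antisymm
    · intro w hw
      rw [LinearMap.mem_ker, hlin] at hw
      exact K581.HilbertBurch.ker_le_range Ψ hTwo w (ha' _ hw)
    · rintro _ ⟨u, rfl⟩
      rw [LinearMap.mem_ker, hlin]
      have := K581.HilbertBurch.sum_mulVec_mul_dl Ψ u
      rw [Matrix.mulVecLin_apply, this, mul_zero]
  · ext z
    rw [Ideal.mem_span_singleton_mul]
    constructor
    · rintro ⟨w, rfl⟩
      refine ⟨∑ i, w i * K581.HilbertBurch.dl Ψ i,
        (K581.HilbertBurch.mem_minorIdeal_iff Ψ _).2 ⟨w, rfl⟩, (hlin w).symm⟩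
    · rintro ⟨x, hx, rfl⟩
      obtain ⟨w, rfl⟩ := (K581.HilbertBurch.mem_minorIdeal_iff Ψ _).1 hx
      exact ⟨w, hlin w⟩

end Groth.Agent.S12908
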