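import Groth.Statements.S11449
import Groth.Agent.S12907
import Groth.Agent.S12908
import Groth.Agent.Pi1C.ConeDepth
import Groth.Agent.Ega4B.DepthTransfer

set_option autoImplicit false
universe u
open DefT

namespace Groth.Agent.S11449

open Groth.Agent.CalgA.RegProjDim Groth.Agent.CalgA

/-- depth of `A/I` over `A` when `A/I` is Cohen-Macaulay. -/
theorem depth_quotient (A : Type u) [CommRing A] [IsLocalRing A] (I : Ideal A)
    [LocCoh.IsCohenMacaulayLocalRing (A ⧸ I)] :
    ((LocCoh.depth A (A ⧸ I) : ℕ∞) : WithBot ℕ∞) = ringKrullDim (A ⧸ I) := by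
  have h1 : LocCoh.depth (A ⧸ I) (A ⧸ I) = LocCoh.depth A (A ⧸ I) :=
    Groth.Agent.Ega4B.DepthTransfer.depth_eq (Ideal.Quotient.mk I) (AddEquiv.refl (A ⧸ I))
      (fun b x => rfl) Ideal.Quotient.mk_surjective
  rw [← h1, ← LocCoh.IsCohenMacaulayLocalRing.supportDim_eq_depth, Module.supportDim_self_eq_ringKrullDim]

/-- Minimal presentations of ideals of projective dimension at most one. -/
theorem exists_presentation (A : Type u) [CommRing A] [IsLocalRing A] [IsNoetherianRing A] (I : Ideal A)
    (hpd : PD A (A ⧸ I) 3) (n : ℕ) (hn : I.spanFinrank = n) :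
    ∃ (m : ℕ) (Ψ : Matrix (Fin n) (Fin m) A) (π : (Fin n → A) →ₗ[A] A),
      LinearMap.ker Ψ.mulVecLin = ⊥ ∧ LinearMap.ker π = LinearMap.range Ψ.mulVecLin ∧
      LinearMap.range π = I := by
  classical
  obtain ⟨g, hg⟩ : ∃ g : Fin n → A, Ideal.span (Set.range g) = I := by
    obtain ⟨s, hs, hsp⟩ := (IsNoetherian.noetherian I).exists_span_finset_card_eq_spanFinrank
    let e : Fin n ≃ s := (finCongr (hs.trans hn).symm).trans s.equivFin.symm
    refine ⟨fun i => (e i : A), ?_⟩
    rw [← hsp]
    have h1 : Set.range (fun i => (e i : A)) = (s : Set A) := by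
      rw [show (fun i => (e i : A)) = Subtype.val ∘ e from rfl, Set.range_comp, e.surjective.range_eq,
        Set.image_univ, Subtype.range_coe_subtype]
      rfl
    rw [h1]
  let π : (Fin n → A) →ₗ[A] A := Fintype.linearCombination A g
  have hπ : LinearMap.range π = I := by
    rw [← hg]
    exact Fintype.range_linearCombination A g
  -- `0 → I → A → A/I → 0`
  have h1 : PD A I 2 := by
    have hex : Function.Exact (Submodule.subtype I) (Submodule.mkQ I) :=
      LinearMap.exact_subtype_mkQ I
    exact (PD.ses_iff (Submodule.subtype I) (Submodule.mkQ I) (Submodule.injective_subtype _) hex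
      (Submodule.mkQ_surjective _) 1).1 hpd
  let π' : (Fin n → A) →ₗ[A] I := π.codRestrict I (fun x => by
    have : π x ∈ LinearMap.range π := ⟨x, rfl⟩
    rwa [hπ] at this)
  have hπ's : Function.Surjective π' := by
    intro y
    have : (y : A) ∈ LinearMap.range π := by rw [hπ]; exact y.2
    obtain ⟨x, hx⟩ := this
    exact ⟨x, Subtype.ext hx⟩
  have hkerπ' : LinearMap.ker π' = LinearMap.ker π := LinearMap.ker_codRestrict _ _ _
  have h2 : PD A (LinearMap.ker π') 1 :=
    (PD.ses_iff (LinearMap.ker π').subtype π' (Submodule.injective_subtype _)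
      (LinearMap.exact_subtype_ker_map π') hπ's 0).1 h1
  rw [PD.one_iff] at h2
  have h3 : Module.Free A (LinearMap.ker π') := Module.free_of_flat_of_isLocalRing
  let b := Module.finBasis A (LinearMap.ker π')
  let ψ : (Fin (Module.finrank A (LinearMap.ker π')) → A) →ₗ[A] (Fin n → A) :=
    (LinearMap.ker π').subtype ∘ₗ b.equivFun.symm.toLinearMap
  have hψ : (LinearMap.toMatrix' ψ).mulVecLin = ψ := by
    rw [← Matrix.toLin'_apply', Matrix.toLin'_toMatrix']
  refine ⟨Module.finrank A (LinearMap.ker π'), LinearMap.toMatrix' ψ, π, ?_, ?_, hπ⟩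
  · rw [hψ, LinearMap.ker_eq_bot]
    exact (Submodule.injective_subtype _).comp b.equivFun.symm.injective
  · rw [hψ]
    change _ = LinearMap.range ((LinearMap.ker π').subtype ∘ₗ b.equivFun.symm.toLinearMap)
    rw [LinearMap.range_comp, LinearEquiv.range, Submodule.map_top, Submodule.range_subtype, hkerπ']

/-- Let A be a regular local ring and I an ideal such that A/I is a Cohen–Macaulay local ring whose
Krull dimension is dim A − 2. Then for some r there is an (r+1) × r matrix φ with entries in A such
that, writing f_i for (−1)^i times the determinant of φ with its i-th row removed (i = 0, …, r), the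
elements f_0, …, f_r generate I, no family of fewer than r + 1 elements generates I, multiplication
by φ is an injective map A^r → A^{r+1}, and the image of that map is exactly the kernel of the map
A^{r+1} → A sending v to Σ_i v_i f_i; together with A → A/I this is a free resolution 0 → A^r →
A^{r+1} → A → A/I → 0. -/
theorem result
    (A : Type u) [CommRing A] [IsRegularLocalRing A] (I : Ideal A)
    [LocCoh.IsCohenMacaulayLocalRing (A ⧸ I)]
    (hcodim : ringKrullDim (A ⧸ I) + 2 = ringKrullDim A) :
    ∃ (r : ℕ) (φ : Matrix (Fin (r + 1)) (Fin r) A),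
      Ideal.span (Set.range (fun i : Fin (r + 1) => (-1 : A) ^ (i : ℕ) * (φ.submatrix i.succAbove id).det)) = I ∧
      I.spanFinrank = r + 1 ∧
      Function.Injective φ.mulVecLin ∧
      LinearMap.range φ.mulVecLin =
        LinearMap.ker (Fintype.linearCombination A (fun i : Fin (r + 1) => (-1 : A) ^ (i : ℕ) * (φ.submatrix i.succAbove id).det)) := by
  classical
  obtain ⟨d, hd⟩ := RegBasic.ringKrullDim_eq_natCast A
  obtain ⟨e, he⟩ := RegBasic.ringKrullDim_eq_natCast (A ⧸ I)
  have hed : e + 2 = d := by
    rw [hd, he] at hcodim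
    exact_mod_cast hcodim
  have hdepth : LocCoh.depth A (A ⧸ I) = (e : ℕ∞) := by
    have := depth_quotient A I
    rw [he] at this
    exact_mod_cast this
  have hpd : PD A (A ⧸ I) 3 :=
    Groth.Agent.Pi1C.ConeDepth.PD_of_depth A e 2 (by rw [hd, hed]) (A ⧸ I) hdepth.ge
  obtain ⟨n, hn⟩ : ∃ n : ℕ, I.spanFinrank = n := ⟨_, rfl⟩
  obtain ⟨m, Ψ, π, hΨ, hex, hπ⟩ := exists_presentation A I hpd n hn
  have hI : I ≠ ⊥ := by
    rintro rfl
    have h1 : ringKrullDim (A ⧸ (⊥ : Ideal A)) = ringKrullDim A :=
      ringKrullDim_eq_of_ringEquiv (RingEquiv.quotientBot A)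
    rw [he, hd] at h1
    have : e = d := by exact_mod_cast h1
    omega
  obtain ⟨hnm, ⟨a, ha, haI⟩, hdep⟩ := Groth.Agent.S12907.result m _ Ψ π hΨ hex (by rwa [hπ])
  have hau : IsUnit a := by
    by_contra hcon
    have ham : a ∈ IsLocalRing.maximalIdeal A := hcon
    have h1 := ringKrullDim_quotient_span_singleton_succ_eq_ringKrullDim_of_mem_nonZeroDivisors ha ham
    have h2 : I ≤ Ideal.span {a} := by
      rw [← hπ, haI]
      exact Ideal.mul_le_left
    have h3 := ringKrullDim_le_of_surjective (Ideal.Quotient.factor h2)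
      (Ideal.Quotient.factor_surjective h2)
    rw [he] at h3
    rw [hd] at h1
    have h4 : (d : WithBot ℕ∞) ≤ e + 1 := by
      rw [← h1]
      gcongr
    have : d ≤ e + 1 := by exact_mod_cast h4
    omega
  subst hnm
  obtain ⟨h1, h2, h3⟩ := Groth.Agent.S12908.result m Ψ hdep 1 (one_mem _)
  simp only [one_mul] at h2 h3
  refine ⟨m, Ψ, ?_, hn, LinearMap.ker_eq_bot.1 h1, h2.symm⟩
  have h4 : LinearMap.range (Fintype.linearCombination A
      (fun i : Fin (m + 1) => (-1 : A) ^ (i : ℕ) * (Ψ.submatrix i.succAbove id).det)) = I := by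
    rw [h3, ← hπ, haI, Ideal.span_singleton_one, Ideal.span_singleton_eq_top.2 hau]
  rw [← h4]
  exact (Fintype.range_linearCombination A _).symm

end Groth.Agent.S11449
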