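import Groth.Statements.S11460
import Groth.Agent.S11449
import Groth.Agent.DefT.K692.HBSpread
import Groth.Agent.Grpsch.CMFibre
import Groth.Agent.VarietyA.RegSmoothSch
import Groth.Agent.Divis.CartierStalk

set_option autoImplicit false
universe u
open CategoryTheory AlgebraicGeometry
open DefT

namespace Groth.Agent.S11460

/-- Let X be smooth over a field k and Y ⊆ X a closed subscheme which is Cohen–Macaulay of codimension 2
(all local rings of Y Cohen–Macaulay, and dim O_{X,y} = dim O_{Y,y} + 2 at every point y of Y). Then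
each point of Y has an affine open neighbourhood U in X and an (r+1) × r matrix φ of functions on U
whose signed maximal minors f_i generate the ideal of Y ∩ U and give an exact sequence 0 → O(U)^r →
O(U)^{r+1} → O(U), hence a resolution of O_{Y ∩ U} on the affine U. -/
theorem result (k : Type u) [Field k]
    (X Y : Scheme.{u}) (f : X ⟶ Spec (CommRingCat.of k)) [Smooth f] (ι : Y ⟶ X) [IsClosedImmersion ι]
    (hCM : ∀ y : Y, LocCoh.IsCohenMacaulayLocalRing (Y.presheaf.stalk y))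
    (hcodim : ∀ y : Y, ringKrullDim (Y.presheaf.stalk y) + 2 = ringKrullDim (X.presheaf.stalk (ι.base y)))
    (y : Y) :
    ∃ U : X.affineOpens, ι.base y ∈ (U : X.Opens) ∧ ∃ (r : ℕ) (φ : Matrix (Fin (r + 1)) (Fin r) Γ(X, U)),
      (Ideal.span (Set.range (fun i : Fin (r + 1) => (-1 : Γ(X, U)) ^ (i : ℕ) * ((φ).submatrix i.succAbove id).det)) = ι.ker.ideal U ∧
        Function.Injective (φ).mulVecLin ∧
        LinearMap.range (φ).mulVecLin = LinearMap.ker (Fintype.linearCombination Γ(X, U) (fun i : Fin (r + 1) => (-1 : Γ(X, U)) ^ (i : ℕ) * ((φ).submatrix i.succAbove id).det))) := by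
  have hX : IsLocallyNoetherian X := LocallyOfFiniteType.isLocallyNoetherian f
  obtain ⟨⟨U, hU⟩, hx⟩ := Groth.Agent.Divis.CartierBasic.exists_affine (ι y)
  replace hx : ι y ∈ U := hx
  replace hU : IsAffineOpen U := hU
  have hnoeth : IsNoetherianRing Γ(X, U) := IsLocallyNoetherian.component_noetherian ⟨U, hU⟩
  let := X.presheaf.algebra_section_stalk (⟨ι y, hx⟩ : U)
  have hloc : IsLocalization.AtPrime (X.presheaf.stalk (ι y)) (hU.primeIdealOf ⟨ι y, hx⟩).asIdeal :=
    hU.isLocalization_stalk ⟨ι y, hx⟩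
  have hreg : IsRegularLocalRing (X.presheaf.stalk (ι y)) := by
    apply VarietyA.RegSmoothSch.isRegularLocalRing_stalk_of_mem_smoothLocus f
    rw [Scheme.Hom.smoothLocus_eq_top]
    trivial
  have hsurj : Function.Surjective (ι.stalkMap y).hom := ι.stalkMap_surjective y
  let I : Ideal (X.presheaf.stalk (ι y)) := RingHom.ker (ι.stalkMap y).hom
  let e : (X.presheaf.stalk (ι y) ⧸ I) ≃+* Y.presheaf.stalk y :=
    RingHom.quotientKerEquivOfSurjective hsurj
  have hCMI : LocCoh.IsCohenMacaulayLocalRing (X.presheaf.stalk (ι y) ⧸ I) :=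
    Groth.Agent.Grpsch.CMFibre.isCohenMacaulayLocalRing_of_ringEquiv e.symm (hCM y)
  have hcod : ringKrullDim (X.presheaf.stalk (ι y) ⧸ I) + 2 = ringKrullDim (X.presheaf.stalk (ι y)) := by
    rw [ringKrullDim_eq_of_ringEquiv e]
    exact hcodim y
  obtain ⟨r, Φ, h1, -, h2, h3⟩ := Groth.Agent.S11449.result (X.presheaf.stalk (ι y)) I hcod
  have hI : I = (ι.ker.ideal ⟨U, hU⟩).map (algebraMap Γ(X, U) (X.presheaf.stalk (ι y))) :=
    (Groth.Agent.Divis.CartierStalk.ker_stalkMap ι y).trans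
      (Groth.Agent.Divis.CartierBasic.stalkIdeal_eq ι.ker ⟨U, hU⟩ hx)
  obtain ⟨Ψ, s, hs, hΨ⟩ := K692.HBSpread.exists_matrix
    (hU.primeIdealOf ⟨ι y, hx⟩).asIdeal.primeCompl (ι.ker.ideal ⟨U, hU⟩) Φ ⟨h2, h3⟩ (h1.trans hI)
  have hxs : ι y ∈ X.basicOpen s := by
    rw [X.mem_basicOpen s (ι y) hx]
    exact IsLocalization.map_units (X.presheaf.stalk (ι y))
      (⟨s, hs⟩ : (hU.primeIdealOf ⟨ι y, hx⟩).asIdeal.primeCompl)
  have hloc2 : IsLocalization.Away s Γ(X, X.basicOpen s) := hU.isLocalization_basicOpen s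
  obtain ⟨⟨h4, h5⟩, h6⟩ := hΨ.hbExact (Submonoid.powers s) (Submonoid.mem_powers s)
    (S := Γ(X, X.basicOpen s))
  refine ⟨X.affineBasicOpen (U := ⟨U, hU⟩) s, hxs, r, Ψ.map (algebraMap Γ(X, U) Γ(X, X.basicOpen s)), ?_, h4, h5⟩
  exact h6.trans (ι.ker.map_ideal_basicOpen ⟨U, hU⟩ s)

end Groth.Agent.S11460
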