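import Groth.Statements.S12722
import Groth.Agent.ArtFun.K724.PowerSeries2

set_option autoImplicit false
universe u v
open CategoryTheory
open ArtFun

namespace Groth.Agent.S12722

/-- (1) ⇔ (5): let Λ be a complete local Noetherian ring with residue field k. For a complete local
Noetherian Λ-algebra R with residue field k, the functor h_R on Artinian local Λ-algebras with
residue field k is smooth if and only if R is isomorphic over Λ to a power series ring Λ[[x₁, …,
xₙ]] for some n. -/
theorem result {Λ : Type u} {k : Type u} [CommRing Λ] [Field k] [Algebra Λ k]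
    [IsNoetherianRing Λ] [Module.Finite Λ k]
    [IsLocalRing Λ] [IsAdicComplete (IsLocalRing.maximalIdeal Λ) Λ]
    (hk : Function.Surjective (algebraMap Λ k)) (R : ArtFun.CRing Λ k) :
    ArtFun.IsSmoothFunctor (ArtFun.hR R.carrier R.res) ↔
      ∃ n : ℕ, Nonempty (R.carrier ≃ₐ[Λ] MvPowerSeries (Fin n) Λ) := by
  let L : ArtFun.CRing Λ k :=
    { carrier := Λ
      res := Algebra.ofId Λ k
      res_surjective := hk
      isAdicComplete := inferInstance }
  letI a1 : Algebra L.carrier R.carrier := inferInstanceAs (Algebra Λ R.carrier)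
  haveI a2 : IsScalarTower Λ L.carrier R.carrier := inferInstanceAs (IsScalarTower Λ Λ R.carrier)
  have hRS : R.res.comp (IsScalarTower.toAlgHom Λ L.carrier R.carrier) = L.res :=
    AlgHom.ext fun r => R.res.commutes r
  have hsub : ∀ A : ArtFun.Art Λ k, ∀ x y : ArtFun.HomSet L.carrier L.res A, x = y := by
    intro A x y
    apply Subtype.ext
    apply AlgHom.ext
    intro r
    exact (x.1.commutes r).trans (y.1.commutes r).symm
  have hiff : ArtFun.IsSmoothFunctor (ArtFun.hR R.carrier R.res) ↔
      ArtFun.IsVersal ((ArtFun.Family.self L.carrier L.res).along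
        (IsScalarTower.toAlgHom Λ L.carrier R.carrier) hRS) := by
    constructor
    · intro h B A μ hμ φ y _
      obtain ⟨ψ, hψ⟩ := h μ hμ φ
      exact ⟨ψ, hψ, hsub _ _ _⟩
    · intro h B A μ hμ φ
      obtain ⟨ψ, hψ, -⟩ := h μ hμ φ ⟨Algebra.ofId Λ B, AlgHom.ext fun r => B.res.commutes r⟩ (hsub _ _ _)
      exact ⟨ψ, hψ⟩
  rw [hiff]
  constructor
  · exact K724.PowerSeries2.exists_algEquiv_of_isVersal L R hRS
  · rintro ⟨n, ⟨e⟩⟩
    exact K724.PowerSeries.isVersal_of_algEquiv L R hRS n e


end Groth.Agent.S12722
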