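import Groth.Statements.S19853
import Groth.Agent.DelIll.K890.NoDiv
import Groth.Agent.DelIll.K890.LogFinal

set_option autoImplicit false
universe u
open DelIll

namespace Groth.Agent.S19853

open CategoryTheory AlgebraicGeometry TopologicalSpace in
/-- The case of no boundary divisor, in dimension form, over any field of characteristic zero. Let K be
a field of characteristic zero and X a smooth proper K-scheme; let D be a de Rham complex of the
sheaf of differentials of X over K with K-linear differentials, K acting through the structure map,
and write Ω^a for its a-th term. Then for every natural number l the algebraic de Rham cohomology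
H^l_dR(X/K) = H^l(X, D) is a finite-dimensional K-vector space whose dimension is the sum over a =
0, …, l of dim_K H^{l−a}(X, Ω^a); equivalently the Hodge to de Rham spectral sequence E_1^{ab} =
H^b(X, Ω^a) ⇒ H^{a+b}_dR(X/K) degenerates at the first page. (The published statement allows a
reduced normal crossing divisor A + B and the logarithmic complex Ω•_X(A, B); here A = B = 0. The
K-linearity of the differentials holds for the de Rham complex and is carried as a hypothesis.) -/
theorem result (K : Type u) [Field K] [CharZero K]
    (X : Scheme.{u}) [X.Over (Spec (CommRingCat.of K))] [IsProper (X ↘ Spec (CommRingCat.of K))] [Smooth (X ↘ Spec (CommRingCat.of K))]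
    (D : DeRhamSh.OmegaCx (X ↘ Spec (CommRingCat.of K)))
    (h : KLinDR.TermwiseLinear (Coh.toGlobal (X ↘ Spec (CommRingCat.of K))) D.K D.term D.iso)
    [HasDerivedCategory.{u} (Sheaf (Opens.grothendieckTopology X) AddCommGrpCat.{u})] (l : ℕ) :
    Module.Finite K (KLinDR.HdR (Coh.toGlobal (X ↘ Spec (CommRingCat.of K))) D h l) ∧
      Module.finrank K (KLinDR.HdR (Coh.toGlobal (X ↘ Spec (CommRingCat.of K))) D h l) =
        ∑ a ∈ Finset.range (l + 1), Module.finrank K (Coh.HH X (D.term a) (l - a)) :=
  K890.LogFinal.finrank_eq K890.NoDiv.degP_zero D h l

end Groth.Agent.S19853
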