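import Groth.Statements.S11454
import Groth.Agent.DefT.K692.NilLocal
import Mathlib.RingTheory.KrullDimension.Regular

set_option autoImplicit false
universe u
open DefT

namespace Groth.Agent.S11454

open K692.NilFlat K692.NilReg K692.NilLocal IsLocalRing

/-- in a Cohen-Macaulay local ring, elements of the maximal ideal with `dim R/(rs) + length ≤ dim R` form a
regular sequence. -/
theorem isRegular_of_ringKrullDim_le {R : Type u} [CommRing R] [hR : LocCoh.IsCohenMacaulayLocalRing R]
    (rs : List R) (hmem : ∀ r ∈ rs, r ∈ maximalIdeal R)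
    (hdim : ringKrullDim (R ⧸ Ideal.ofList rs) + rs.length ≤ ringKrullDim R) :
    RingTheory.Sequence.IsRegular R rs := by
  refine (IsLocalRing.isRegular_iff_isWeaklyRegular_of_subset_maximalIdeal hmem).mpr ?_
  refine Groth.Agent.Models.CMSeq.isWeaklyRegular_of_supportDim_le hR.supportDim_eq_depth rs hmem ?_
  have eq : Ideal.ofList rs • (⊤ : Ideal R) = Ideal.ofList rs := by simp
  rw [eq, Module.supportDim_quotient_eq_ringKrullDim, Module.supportDim_self_eq_ringKrullDim]
  exact hdim

/-- Let C' be a local Artin ring, J ⊊ C' a proper ideal annihilated by the maximal ideal, C = C'/J, A' a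
flat C'-algebra whose reduction modulo the maximal ideal of C' is a Cohen–Macaulay local ring, and A
= A'/JA'. If a'_1, …, a'_r ∈ A' have images in A forming a regular sequence with A/(a_1, …, a_r)
flat over C, then a'_1, …, a'_r is a regular sequence on A' and A'/(a'_1, …, a'_r) is flat over C'.
(Regular sequences stand in for the exactness of the Koszul complexes in the published statement;
over a Noetherian local ring with the elements in the maximal ideal the two are equivalent.) -/
theorem result (C' : Type u) [CommRing C'] [IsLocalRing C'] [IsArtinianRing C'] (J : Ideal C')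
    (hJ : IsLocalRing.maximalIdeal C' * J = ⊥) (hJne : J ≠ ⊤) (A' : Type u) [CommRing A'] [Algebra C' A'] [Module.Flat C' A']
    [LocCoh.IsCohenMacaulayLocalRing (A' ⧸ (IsLocalRing.maximalIdeal C').map (algebraMap C' A'))]
    (r : ℕ) (a' : Fin r → A')
    (hreg : RingTheory.Sequence.IsRegular (A' ⧸ J.map (algebraMap C' A'))
      (List.ofFn (fun i => Ideal.Quotient.mk (J.map (algebraMap C' A')) (a' i))))
    [Module.Flat (C' ⧸ J) ((A' ⧸ J.map (algebraMap C' A')) ⧸
      Ideal.span (Set.range (fun i => Ideal.Quotient.mk (J.map (algebraMap C' A')) (a' i))))] :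
    RingTheory.Sequence.IsRegular A' (List.ofFn a') ∧ Module.Flat C' (A' ⧸ Ideal.span (Set.range a')) := by
  set K := J.map (algebraMap C' A') with hK
  set N := (IsLocalRing.maximalIdeal C').map (algebraMap C' A') with hN
  have hnil : IsNilpotent (maximalIdeal C') := isNilpotent_maximalIdeal C'
  have hNnil : N ≤ nilradical A' := le_nilradical_of_isNilpotent (isNilpotent_map hnil)
  have hKN : K ≤ N := Ideal.map_mono (le_maximalIdeal hJne)
  have hNoeth : IsNoetherianRing A' := by
    refine Groth.Agent.Fcompl.H548.ThickNoeth.isNoetherianRing_of_le_nilradical N ?_ hNnil inferInstance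
    exact Ideal.FG.map (IsNoetherian.noetherian (maximalIdeal C')) (algebraMap C' A')
  have hloc : IsLocalRing A' := isLocalRing_of_quotient N hNnil
  have hKne : K ≠ ⊤ := fun h => by
    have h1 : N = ⊤ := top_le_iff.1 (h ▸ hKN)
    exact (Ideal.Quotient.nontrivial_iff.1 (inferInstance : Nontrivial (A' ⧸ N))) h1
  have hntK : Nontrivial (A' ⧸ K) := Ideal.Quotient.nontrivial_iff.2 hKne
  have hlocK : IsLocalRing (A' ⧸ K) := IsLocalRing.of_surjective' (Ideal.Quotient.mk K) Ideal.Quotient.mk_surjective
  -- the images in `A'/K`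
  have hmapK : (List.ofFn a').map (Ideal.Quotient.mk K) = List.ofFn (fun i => Ideal.Quotient.mk K (a' i)) := by
    rw [List.map_ofFn]
    rfl
  rw [← hmapK] at hreg
  -- all `a'` are in the maximal ideal
  have hmem : ∀ x ∈ List.ofFn a', x ∈ maximalIdeal A' := by
    intro x hx hu
    refine hreg.top_ne_smul ?_
    have h1 : Ideal.ofList ((List.ofFn a').map (Ideal.Quotient.mk K)) = ⊤ := by
      refine Ideal.eq_top_of_isUnit_mem _ (x := Ideal.Quotient.mk K x) ?_ (hu.map _)
      exact Ideal.subset_span (List.mem_map_of_mem hx)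
    rw [h1]
    simp
  have hdimK := ringKrullDim_add_length_eq_ringKrullDim_of_isRegular _ hreg
  have hw : RingTheory.Sequence.IsRegular (A' ⧸ N) ((List.ofFn a').map (Ideal.Quotient.mk N)) := by
    have hlocalHom : IsLocalHom (Ideal.Quotient.mk N) := IsLocalHom.of_surjective _ Ideal.Quotient.mk_surjective
    refine isRegular_of_ringKrullDim_le _ ?_ ?_
    · intro x hx
      obtain ⟨y, hy, rfl⟩ := List.mem_map.1 hx
      have := hmem y hy
      rw [mem_maximalIdeal, mem_nonunits_iff] at this ⊢
      exact fun h => this (isUnit_of_map_unit (Ideal.Quotient.mk N) y h)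
    · rw [ringKrullDim_quotient_of_le_nilradical N hNnil]
      have h1 : ringKrullDim (A' ⧸ K) ≤ ringKrullDim A' :=
        ringKrullDim_le_of_surjective (Ideal.Quotient.mk K) Ideal.Quotient.mk_surjective
      refine le_trans ?_ h1
      rw [← hdimK, List.length_map, List.length_map]
      have h2 : ringKrullDim ((A' ⧸ N) ⧸ Ideal.ofList ((List.ofFn a').map (Ideal.Quotient.mk N))) ≤
          ringKrullDim ((A' ⧸ K) ⧸ Ideal.ofList ((List.ofFn a').map (Ideal.Quotient.mk K))) := by
        refine ringKrullDim_le_of_surjective
          (Ideal.quotientMap _ (Ideal.Quotient.factor hKN) ?_) ?_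
        · rw [← Ideal.map_le_iff_le_comap, Ideal.map_ofList, List.map_map]
          rfl
        · exact Ideal.quotientMap_surjective (Ideal.Quotient.factor_surjective hKN)
      gcongr
  have hfin := isWeaklyRegular_and_flat_ring hnil (List.ofFn a') hw.toIsWeaklyRegular
  refine ⟨isRegular_of_map N _ hw hfin.1, ?_⟩
  have h3 : Ideal.ofList (List.ofFn a') = Ideal.span (Set.range a') := by
    rw [Ideal.ofList]
    congr 1
    ext x
    exact List.mem_ofFn' _ _
  rw [← h3]
  exact hfin.2

end Groth.Agent.S11454
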