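import Groth.Statements.S12274
import Groth.Agent.DefT.K693.LHTan

set_option autoImplicit false
universe u
open CategoryTheory CategoryTheory.Limits AlgebraicGeometry
open scoped TensorProduct
attribute [local instance] HasDerivedCategory.standard
open DefT

namespace Groth.Agent.S12274

open K693.LHSit K693.IdealFam K693.HZero in
theorem aux {k : Type u} [Field k] (X : Scheme.{u}) (x : X ⟶ Spec (CommRingCat.of k))
    (I₀ : X.IdealSheafData) [hO : I₀.subscheme.Over (Spec (CommRingCat.of k))]
    (hY : I₀.subscheme ↘ Spec (CommRingCat.of k) = I₀.subschemeι ≫ x)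
    [DCoh.HasSheafHom (Omega.conormal I₀.subschemeι)]
    [ArtFun.TangentStr (ArtFun.localHilb X x I₀)] :
    Nonempty (ArtFun.TangentSpace (ArtFun.localHilb X x I₀) ≃ₗ[k]
      Coh.HH I₀.subscheme ((DCoh.sheafHom (Omega.conormal I₀.subschemeι)).obj (Coh.structureModule I₀.subscheme)) 0) := by
  obtain ⟨I⟩ := (K680.LHFib.h0 x I₀).1
  let e1 := Groth.Agent.Fga.EulerIso.HHequiv k ((Groth.Agent.Sga2.PnHomAdj.sheafHomIso (Omega.conormal I₀.subschemeι)).app
        (Coh.structureModule I₀.subscheme)) 0
  let φ : ArtFun.TangentSpace (ArtFun.localHilb X x I₀) → Coh.HH I₀.subscheme (NN I₀.subschemeι) 0 :=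
    fun z => (e0 (NN I₀.subschemeι)).symm (phi (Scheme.IdealSheafData.ker_subschemeι I₀) (M := k) I LinearMap.id z)
  have hadd : ∀ z w, φ (z + w) = φ z + φ w := by
    intro z w
    obtain ⟨t, ht₁, ht₂⟩ := exists_dual2 (Scheme.IdealSheafData.ker_subschemeι I₀) I z w
    have h1 : z + w = (ArtFun.localHilb X x I₀).map ArtFun.Art.plus t := by
      rw [← ArtFun.TangentStr.add_eq t, ht₁, ht₂]
      rfl
    have h2 := phi_plus (Scheme.IdealSheafData.ker_subschemeι I₀) I t
    rw [ht₁, ht₂] at h2
    have h3 : phi (Scheme.IdealSheafData.ker_subschemeι I₀) (M := k) I LinearMap.id (z + w) = phi (Scheme.IdealSheafData.ker_subschemeι I₀) (M := k) I LinearMap.id z + phi (Scheme.IdealSheafData.ker_subschemeι I₀) (M := k) I LinearMap.id w :=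
      (congrArg (phi (Scheme.IdealSheafData.ker_subschemeι I₀) (M := k) I LinearMap.id) h1).trans h2
    change (e0 (NN I₀.subschemeι)).symm (phi (Scheme.IdealSheafData.ker_subschemeι I₀) (M := k) I LinearMap.id (z + w)) = _
    rw [h3]
    exact map_add _ _ _
  have hsmul : ∀ (c : k) z, φ (c • z) = c • φ z := by
    intro c z
    have h1 : c • z = (ArtFun.localHilb X x I₀).map (ArtFun.Art.scale c) z := ArtFun.TangentStr.smul_eq c z
    have h2 := phi_scale (Scheme.IdealSheafData.ker_subschemeι I₀) I c z
    apply (e0 (NN I₀.subschemeι)).injective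
    have h3 := e0_smul (X := I₀.subscheme) (NN I₀.subschemeι) c (φ z)
    refine Eq.trans ?_ h3.symm
    change e0 _ ((e0 (NN I₀.subschemeι)).symm (phi (Scheme.IdealSheafData.ker_subschemeι I₀) (M := k) I LinearMap.id (c • z))) =
      _ • e0 _ ((e0 (NN I₀.subschemeι)).symm (phi (Scheme.IdealSheafData.ker_subschemeι I₀) (M := k) I LinearMap.id z))
    rw [AddEquiv.apply_symm_apply, AddEquiv.apply_symm_apply, h1, hY]
    exact h2
  have hbij : Function.Bijective φ := (e0 (NN I₀.subschemeι)).symm.bijective.comp (phi1_bijective (Scheme.IdealSheafData.ker_subschemeι I₀) I)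
  exact ⟨(LinearEquiv.ofBijective (⟨⟨φ, hadd⟩, hsmul⟩ : _ →ₗ[k] _) hbij).trans e1.symm⟩

/-- Let k be an algebraically closed field, X a separated k-scheme of finite type and Y ⊆ X the closed
subscheme cut out by a quasi-coherent ideal sheaf I, regarded as a k-scheme through X, with normal
sheaf N_{Y/X} = Hom_{O_Y}(I/I², O_Y) (the sheaf Hom, assumed to exist as the right adjoint of
tensoring with the conormal sheaf I/I²). Give the set of deformations of Y over the dual numbers
inside X (closed subschemes of X ×_k Spec k[ε], flat over Spec k[ε], whose pull-back to the closed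
fibre X is Y) its k-vector-space structure, in which scalars act through ε ↦ cε and addition comes
from k[ε₁, ε₂] → k[ε]. Then this space and H^0(Y, N_{Y/X}) are isomorphic k-vector spaces. (The
published statement is for an arbitrary scheme X over an arbitrary field and gives a natural
bijection taking the trivial deformation to zero; this row takes X separated of finite type over an
algebraically closed field, where the vector-space structure is determined, and asserts the
existence of a k-linear isomorphism.) -/
theorem result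
    {k : Type u} [Field k] [IsAlgClosed k] (X : Scheme.{u}) [X.Over (Spec (CommRingCat.of k))]
    [LocallyOfFiniteType (X ↘ Spec (CommRingCat.of k))]
    [IsSeparated (X ↘ Spec (CommRingCat.of k))] [QuasiCompact (X ↘ Spec (CommRingCat.of k))]
    (I₀ : X.IdealSheafData) [I₀.subscheme.Over (Spec (CommRingCat.of k))]
    (hY : I₀.subscheme ↘ Spec (CommRingCat.of k) = I₀.subschemeι ≫ (X ↘ Spec (CommRingCat.of k)))
    [DCoh.HasSheafHom (Omega.conormal I₀.subschemeι)]
    [ArtFun.TangentStr (ArtFun.localHilb X (X ↘ Spec (CommRingCat.of k)) I₀)] :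
    Nonempty (ArtFun.TangentSpace (ArtFun.localHilb X (X ↘ Spec (CommRingCat.of k)) I₀) ≃ₗ[k]
      Coh.HH I₀.subscheme ((DCoh.sheafHom (Omega.conormal I₀.subschemeι)).obj (Coh.structureModule I₀.subscheme)) 0) :=
  aux X (X ↘ Spec (CommRingCat.of k)) I₀ hY

end Groth.Agent.S12274
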