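import Groth.Statements.S7240
import Groth.Agent.PerfA.PCohQCoh

set_option autoImplicit false
universe u
open CategoryTheory CategoryTheory.Limits AlgebraicGeometry
attribute [local instance] HasDerivedCategory.standard
open Perf

namespace Groth.Agent.S7240

/-- Let X be a scheme, m an integer and E an m-pseudo-coherent object of D(O_X). Then the cohomology
sheaf Hⁱ(E) is quasi-coherent for every i > m, and Hᵐ(E) is, locally on X, a quotient of a
quasi-coherent module: every point of X has an open neighbourhood V and a quasi-coherent O_V-module
mapping onto Hᵐ(E)|_V. (The published statement says that Hᵐ(E) is a quotient of a quasi-coherent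
O_X-module; its proof gives this only locally on X, which is what this row states, and the global
form fails: on the affine plane over ℚ, the direct image of an invertible module over the inverse
image of O_X on a triangle of three lines, twisted by the constant 2 around the cycle, is an
O_X-module of finite type with no nonzero global section, so it is not a quotient of any
quasi-coherent module.) -/
theorem result {X : Scheme.{u}} (m : ℤ) (E : DCoh.D X)
    (hE : DCoh.IsPseudoCoherentD m E) :
    (∀ i : ℤ, m < i → Coh.IsQCoh (DCoh.HD E i)) ∧
      ∀ x : X, ∃ (V : X.Opens) (Q : (V : Scheme.{u}).Modules)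
        (π : Q ⟶ (Scheme.Modules.restrictFunctor V.ι).obj (DCoh.HD E m)), x ∈ V ∧ Coh.IsQCoh Q ∧ Epi π := by
  refine ⟨fun i hi => Groth.Agent.PerfA.PCohQCoh.isQCoh_HD_of_isPseudoCoherentD hE i hi, fun x => ?_⟩
  obtain ⟨V, hx, P, α, hP, -, h2⟩ := (Groth.Agent.PerfA.Restrict.isPseudoCoherentD_iff m E).1 hE x
  haveI := h2
  exact ⟨V, _, (DerivedCategory.homologyFunctor _ m).map α ≫
    (Groth.Agent.PerfA.Restrict.HDrestrict V.ι E m).hom, hx,
    Groth.Agent.PerfA.PCohQCoh.isQCohD_of_isStrictlyPerfect P hP m, inferInstance⟩

end Groth.Agent.S7240
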