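import Groth.Statements.S9142
import Groth.Agent.Synt.K562.FieldCI3
import Groth.Agent.Synt.K562.CM
import Groth.Agent.Ega4A.CMModule

set_option autoImplicit false
universe u
open Synt

namespace Groth.Agent.S9142

/-- A local complete intersection over a field is a Cohen–Macaulay ring. -/
theorem result (k S : Type u) [Field k] [CommRing S] [Algebra k S]
    (h : Synt.IsLCIOver k S) : LocCoh.IsCohenMacaulayRing S := by
  obtain ⟨hft, h⟩ := (K562.FieldCI.isLCIOver_iff k S).mp h
  have hN : IsNoetherianRing S := Algebra.FiniteType.isNoetherianRing k S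
  refine { isCohenMacaulayLocalRing_localization := fun p hp => ?_ }
  obtain ⟨n, Q, hQ, π, hπ⟩ := K562.FieldCI.exists_surjective_of_essFiniteType k (Localization.AtPrime p)
  have h1 := h p
  rw [Groth.Agent.S2842.isCompleteIntersection_iff_of_surjective π.toRingHom hπ] at h1
  obtain ⟨rs, hreg, hrs⟩ := h1
  let e : (Localization.AtPrime Q ⧸ Ideal.ofList rs) ≃+* Localization.AtPrime p :=
    (Ideal.quotEquivOfEq hrs).trans (RingHom.quotientKerEquivOfSurjective (f := π.toRingHom) hπ)
  have : IsLocalRing (Localization.AtPrime Q ⧸ Ideal.ofList rs) := e.symm.isLocalRing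
  have := K562.CM.cm_of_regular (Localization.AtPrime Q)
  have hcm := K562.CM.cm_quotient_ofList rs hreg
  exact @Groth.Agent.Ega4A.CMModule.isCohenMacaulayLocalRing_of_ringEquiv
    (Localization.AtPrime Q ⧸ Ideal.ofList rs) (Localization.AtPrime p) _ _ e hcm

end Groth.Agent.S9142
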