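import Groth.Statements.S7198
import Groth.Agent.S1353
import Groth.Agent.S1390
import Groth.Agent.S2735

set_option autoImplicit false
universe w u
open FlatMor

namespace Groth.Agent.S7198

open AlgebraicGeometry CategoryTheory Limits

/-- A flat, locally finitely presented morphism through a point `x` over `s`: there are an étale neighbourhood
`U → S` of `s` and a surjective finite locally free `V → U` with a morphism `V → X` over `S`. -/
theorem exists_etale_finLocFree {X S : Scheme.{u}} (f : X ⟶ S) [Flat f] [LocallyOfFinitePresentation f]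
    (x : X) : ∃ (U : Scheme.{u}) (e : U ⟶ S) (u : U) (V : Scheme.{u}) (ρ : V ⟶ U) (r : V ⟶ X),
      Etale e ∧ e u = f x ∧ Mor2.IsFinLocFree ρ ∧ Surjective ρ ∧ r ≫ f = ρ ≫ e := by
  let O : S.Opens := ⟨Set.range f, f.isOpenMap.isOpen_range⟩
  have hO : Set.range f ⊆ Set.range O.ι := by
    rw [Scheme.Opens.range_ι]; exact subset_rfl
  let f' : X ⟶ O.toScheme := IsOpenImmersion.lift O.ι f hO
  have hf' : f' ≫ O.ι = f := IsOpenImmersion.lift_fac _ _ _
  have h1 : Flat f' := MorphismProperty.of_postcomp (W := @Flat.{u}) (W' := @IsOpenImmersion.{u})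
    f' O.ι inferInstance (by rw [hf']; infer_instance)
  have h2 : LocallyOfFinitePresentation f' := MorphismProperty.of_postcomp
    (W := @LocallyOfFinitePresentation.{u}) (W' := @IsOpenImmersion.{u})
    f' O.ι inferInstance (by rw [hf']; infer_instance)
  have h3 : Surjective f' := ⟨fun y => by
    have hy : O.ι y ∈ (O : Set S) := by rw [← Scheme.Opens.range_ι]; exact ⟨y, rfl⟩
    obtain ⟨z, hz⟩ := hy
    refine ⟨z, O.ι.isOpenEmbedding.injective ?_⟩
    rw [← Scheme.Hom.comp_apply, hf', hz]⟩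
  obtain ⟨Z, g, h, hg, hg1, hg2, hg3, hg4, -⟩ := Groth.Agent.S2735.result f'
  obtain ⟨z, hz⟩ := hg4.surj (f' x)
  have hzs : (g ≫ O.ι) z = f x := by
    rw [Scheme.Hom.comp_apply, hz, ← Scheme.Hom.comp_apply, hf']
  obtain ⟨U, e, u, he, V, v, hvV, hVfin, hvu, -, -, -⟩ :=
    Groth.Agent.S1353.result (g ≫ O.ι) z (Scheme.Hom.quasiFiniteAt _ _)
  have := he.etale
  let ρ : V.toScheme ⟶ U := V.ι ≫ pullback.snd (g ≫ O.ι) e
  have hρ1 : IsFinite ρ := hVfin
  have hρ2 : Flat ρ := by dsimp only [ρ]; infer_instance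
  have hρ3 : LocallyOfFinitePresentation ρ := by dsimp only [ρ]; infer_instance
  let O' : U.Opens := ⟨Set.range ρ, ρ.isOpenMap.isOpen_range⟩
  have hO' : Set.range ρ ⊆ Set.range O'.ι := by
    rw [Scheme.Opens.range_ι]; exact subset_rfl
  let ρ' : V.toScheme ⟶ O'.toScheme := IsOpenImmersion.lift O'.ι ρ hO'
  have hρ' : ρ' ≫ O'.ι = ρ := IsOpenImmersion.lift_fac _ _ _
  have k1 : Flat ρ' := MorphismProperty.of_postcomp (W := @Flat.{u}) (W' := @IsOpenImmersion.{u})
    ρ' O'.ι inferInstance (by rw [hρ']; infer_instance)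
  have k2 : LocallyOfFinitePresentation ρ' := MorphismProperty.of_postcomp
    (W := @LocallyOfFinitePresentation.{u}) (W' := @IsOpenImmersion.{u})
    ρ' O'.ι inferInstance (by rw [hρ']; infer_instance)
  have k3 : IsFinite ρ' := MorphismProperty.of_postcomp
    (W := @IsFinite.{u}) (W' := @IsOpenImmersion.{u})
    ρ' O'.ι inferInstance (by rw [hρ']; infer_instance)
  have k4 : Surjective ρ' := ⟨fun y => by
    have hy : O'.ι y ∈ (O' : Set U) := by rw [← Scheme.Opens.range_ι]; exact ⟨y, rfl⟩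
    obtain ⟨z, hz⟩ := hy
    refine ⟨z, O'.ι.isOpenEmbedding.injective ?_⟩
    rw [← Scheme.Hom.comp_apply, hρ', hz]⟩
  have huO : u ∈ O' := ⟨⟨v, hvV⟩, hvu⟩
  refine ⟨O'.toScheme, O'.ι ≫ e, ⟨u, huO⟩, V.toScheme, ρ', V.ι ≫ pullback.fst (g ≫ O.ι) e ≫ h,
    inferInstance, ?_, ⟨k3, k1, k2⟩, k4, ?_⟩
  · have : O'.ι ⟨u, huO⟩ = u := rfl
    rw [Scheme.Hom.comp_apply, this]
    exact he.base_eq.trans hzs
  · have : h ≫ f = g ≫ O.ι := by rw [← hg, Category.assoc, hf']
    rw [Category.assoc, Category.assoc, this, pullback.condition, ← Category.assoc,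
      ← Category.assoc, hρ']

/-- Any fppf covering {S_i → S} is refined by a family built in four steps — cover S by Zariski opens
U_j; over each U_j take a surjective finite locally free W_j → U_j; cover each W_j by Zariski opens
W_{j,k}; over each of those take a surjective finite locally free T_{j,k} → W_{j,k} — where every
composite T_{j,k} → S factors through some S_i. Stated pointwise: around every point of S, and then
around every point of the finite locally free cover, such data exist. -/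
theorem result {S : Scheme.{u}} (E : PreZeroHypercover.{w} S)
    (hflat : ∀ i, Flat (E.f i)) (hfp : ∀ i, LocallyOfFinitePresentation (E.f i))
    (hsurj : ∀ s : S, ∃ (i : E.I₀) (x : E.X i), E.f i x = s) (s : S) :
    ∃ (U : S.Opens) (W : Scheme.{u}) (π : W ⟶ U.toScheme), s ∈ U ∧ Mor2.IsFinLocFree π ∧ Surjective π ∧
      ∀ w : W, ∃ (W' : W.Opens) (T : Scheme.{u}) (ρ : T ⟶ W'.toScheme) (i : E.I₀) (r : T ⟶ E.X i),
        w ∈ W' ∧ Mor2.IsFinLocFree ρ ∧ Surjective ρ ∧ r ≫ E.f i = ρ ≫ W'.ι ≫ π ≫ U.ι := by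
  obtain ⟨i, x, hx⟩ := hsurj s
  have := hflat i
  have := hfp i
  obtain ⟨Y, e, y, V, ρ, r, he, hy, hρ, hρs, hr⟩ := exists_etale_finLocFree (E.f i) x
  obtain ⟨V₀, T₀, π, hsV₀, -, hπs, hπ1, hπ2, hπ3, hπ⟩ := Groth.Agent.S1390.result e y s (hy.trans hx)
  choose N h htN hh _ using hπ
  -- the locus where a lift exists, and its complement
  let C : Set V₀.toScheme := π '' (⋃ (t : T₀) (ht : V₀.ι (π t) = s), (N t ht : Set T₀))ᶜ
  have hC : IsClosed C := π.isClosedMap _
    (isOpen_iUnion fun t => isOpen_iUnion fun ht => (N t ht).isOpen).isClosed_compl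
  let V₁' : V₀.toScheme.Opens := ⟨Cᶜ, hC.isOpen_compl⟩
  let V₁ : S.Opens := V₀.ι ''ᵁ V₁'
  have hle : V₁ ≤ V₀ := by
    rintro _ ⟨a, -, rfl⟩
    exact a.2
  have hs₁ : s ∈ V₁ := by
    refine ⟨⟨s, hsV₀⟩, ?_, rfl⟩
    rintro ⟨t, ht, hts⟩
    apply ht
    have hts' : V₀.ι (π t) = s := by rw [hts]; rfl
    exact Set.mem_iUnion.2 ⟨t, Set.mem_iUnion.2 ⟨hts', htN t hts'⟩⟩
  refine ⟨V₁, pullback π (S.homOfLE hle), pullback.snd π (S.homOfLE hle), hs₁,
    ⟨inferInstance, inferInstance, inferInstance⟩, inferInstance, fun w => ?_⟩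
  have hw : π (pullback.fst π (S.homOfLE hle) w) ∈ V₁' := by
    rw [← Scheme.Hom.comp_apply, pullback.condition, Scheme.Hom.comp_apply]
    obtain ⟨b, hb, hb'⟩ := (pullback.snd π (S.homOfLE hle) w).2
    have : S.homOfLE hle (pullback.snd π (S.homOfLE hle) w) = b := by
      apply V₀.ι.isOpenEmbedding.injective
      rw [← Scheme.Hom.comp_apply, Scheme.homOfLE_ι]
      exact hb'.symm
    rw [this]
    exact hb
  obtain ⟨t, ht, hwt⟩ : ∃ (t : T₀) (ht : V₀.ι (π t) = s),
      pullback.fst π (S.homOfLE hle) w ∈ N t ht := by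
    by_contra hcon
    apply hw
    refine ⟨_, ?_, rfl⟩
    intro hmem
    obtain ⟨t, ht⟩ := Set.mem_iUnion.1 hmem
    obtain ⟨ht, ht'⟩ := Set.mem_iUnion.1 ht
    exact hcon ⟨t, ht, ht'⟩
  let W' : (pullback π (S.homOfLE hle)).Opens := pullback.fst π (S.homOfLE hle) ⁻¹ᵁ N t ht
  let a : W'.toScheme ⟶ (N t ht).toScheme := (pullback.fst π (S.homOfLE hle)) ∣_ N t ht
  let b : W'.toScheme ⟶ Y := a ≫ h t ht
  obtain ⟨hρ1, hρ2, hρ3⟩ := hρ
  refine ⟨W', pullback ρ b, pullback.snd ρ b, i, pullback.fst ρ b ≫ r, hwt,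
    ⟨inferInstance, inferInstance, inferInstance⟩, inferInstance, ?_⟩
  rw [Category.assoc, hr, ← Category.assoc, pullback.condition, Category.assoc]
  congr 1
  dsimp only [b, a]
  rw [Category.assoc, hh, ← Category.assoc, morphismRestrict_ι, Category.assoc,
    pullback.condition_assoc, Scheme.homOfLE_ι]

end Groth.Agent.S7198
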