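import Groth.Statements.S14389
import Groth.Agent.Sga4h.H513.LocEdge
import Groth.Agent.Etrest.HpullFun

set_option autoImplicit false
open CategoryTheory CategoryTheory.Limits AlgebraicGeometry Opposite
universe u
open EtLim

namespace Groth.Agent.S14389

open Groth.Agent.Sga4h.H513.LocEdge Groth.Agent.Etcore.PullCoh Groth.Agent.Etrest.HPost
  Groth.Agent.EtpbcB.HRel

theorem HF_map {X : Scheme.{u}} (n : ℕ) {F G : EtCoh.Ab X} (φ : F ⟶ G) (e : EtCoh.H X F n) : ((EtCoh.HF X n).map φ).hom e = post φ n e := rfl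
theorem HofPush_eq {X Y : Scheme.{u}} (f : X ⟶ Y) [PreservesFiniteLimits (EtCoh.pull f)]
    (F : EtCoh.Ab X) (q : ℕ) (ζ : EtCoh.H Y ((EtCoh.push f).obj F) q) :
    EtLim.HofPush f F q ζ = post ((EtCoh.pullPushAdj f).counit.app F) q
      (EtCore.Hpull f ((EtCoh.push f).obj F) q ζ) := by
  exact HF_map _ _ _

theorem post_th_Hpull {X Y Z : Scheme.{u}} (f : X ⟶ Y) (t : Y ⟶ Z) (f₀ : X ⟶ Z) (w : f ≫ t = f₀)
  [PreservesFiniteLimits (EtCoh.pull f)] [PreservesFiniteLimits (EtCoh.pull t)]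
  [PreservesFiniteLimits (EtCoh.pull f₀)] (G : EtCoh.Ab Z) (p : ℕ) (e : EtCoh.H Z G p) :
  post (th f t f₀ w G) p (EtCore.Hpull f ((EtCoh.pull t).obj G) p (EtCore.Hpull t G p e)) =
    EtCore.Hpull f₀ G p e := by
  rw [post_apply]
  exact Groth.Agent.Etrest.HpullFun.Hpull_Hpull f t f₀ w G p e

theorem step {X Y X' Y' : Scheme.{u}} (f : X ⟶ Y)
    (g : Y' ⟶ Y) (f' : X' ⟶ Y') (g' : X' ⟶ X) (w : g' ≫ f = f' ≫ g) (F : EtCoh.Ab X) (q : ℕ)
    [PreservesFiniteLimits (EtCoh.pull f)] [PreservesFiniteLimits (EtCoh.pull g)]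
    [PreservesFiniteLimits (EtCoh.pull f')] [PreservesFiniteLimits (EtCoh.pull g')]
    (ζ : EtCoh.H Y ((EtCoh.push f).obj F) q) :
   post ((EtCoh.pullPushAdj f').counit.app ((EtCoh.pull g').obj F)) q
      (EtCore.Hpull f' ((EtCoh.push f').obj ((EtCoh.pull g').obj F)) q
        (post (EtCoh.baseChange0 f g f' g' w F) q (EtCore.Hpull g ((EtCoh.push f).obj F) q ζ))) = 
    post ((EtCoh.pull g').map ((EtCoh.pullPushAdj f).counit.app F)) q 
      (EtCore.Hpull g' _ q (EtCore.Hpull f ((EtCoh.push f).obj F) q ζ)) := by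
  rw [← edge_eq f g f' g' (g' ≫ f) w.symm rfl w F q, edge_apply, HpullVia_eq_post,
    post_th_Hpull f' g (g' ≫ f) w.symm, ← post_th_Hpull g' f (g' ≫ f) rfl, post_comp,
    IsIso.hom_inv_id_assoc]
  dsimp only [Functor.comp_obj]

/-- For small étale sites of schemes: let g' ≫ f = f' ≫ g be a commutative square of schemes with f : X
→ Y, g : Y' → Y, f' : X' → Y', g' : X' → X, and let F be an abelian sheaf on the small étale site of
X. For every q and every class ζ in H^q(Y_ét, f_*F), the pullback along g' of the image of ζ under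
the canonical map H^q(Y, f_*F) → H^q(X, F) (pull back along f, then apply the counit f⁻¹f_*F → F)
equals the image of g^*ζ ∈ H^q(Y', g⁻¹f_*F) under the map induced by the base-change morphism
g⁻¹f_*F → f'_*g'⁻¹F followed by the canonical map H^q(Y', f'_*g'⁻¹F) → H^q(X', g'⁻¹F). (The
published statement is for a commutative square of topoi with a chosen isomorphism f_*g'_* ≅
g_*f'_*; this row is the square of étale topoi of schemes. Exactness of pullback of abelian sheaves,
which always holds, is carried as instance hypotheses.) -/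
theorem result {X Y X' Y' : Scheme.{u}} (f : X ⟶ Y)
    (g : Y' ⟶ Y) (f' : X' ⟶ Y') (g' : X' ⟶ X) (w : g' ≫ f = f' ≫ g) (F : EtCoh.Ab X) (q : ℕ)
    [PreservesFiniteLimits (EtCoh.pull f)] [PreservesFiniteLimits (EtCoh.pull g)]
    [PreservesFiniteLimits (EtCoh.pull f')] [PreservesFiniteLimits (EtCoh.pull g')]
    (ζ : EtCoh.H Y ((EtCoh.push f).obj F) q) :
    EtCore.Hpull g' F q (EtLim.HofPush f F q ζ) =
      EtLim.HofPush f' ((EtCoh.pull g').obj F) q
        (((EtCoh.HF Y' q).map (EtCoh.baseChange0 f g f' g' w F)).hom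
          (EtCore.Hpull g ((EtCoh.push f).obj F) q ζ)) := by
  rw [HofPush_eq, HofPush_eq, HF_map]
  refine (Hpull_post g' _ q _).trans ?_
  exact (step f g f' g' w F q ζ).symm

end Groth.Agent.S14389
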