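import Groth.Statements.S14450
-- import your own Groth.Agent.* helpers here
import Groth.Agent.EtCore.K301.GmDivRFinal
import Groth.Agent.EtCore.K301.GmDivRSum
import Groth.Agent.S0065
import Groth.Agent.S2821

set_option autoImplicit false
universe u
open CategoryTheory CategoryTheory.Limits AlgebraicGeometry
open EtCore

namespace Groth.Agent.S14450

open Groth.Agent.CohtopA.GmDivGen in
theorem elf (X : Scheme.{u}) [IsLocallyNoetherian X]
    (hreg : ∀ x : ↥X, IsRegularLocalRing (X.presheaf.stalk x)) : ELF X where
  lf U := by
    have hU : Etale (X := U.left) (Y := X) U.hom := U.prop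
    have h : ∀ u : U.left, IsRegularLocalRing (U.left.presheaf.stalk u) := fun u =>
      (Groth.Agent.S0065.result (X := U.left) (Y := X) U.hom u).2 (hreg _)
    exact
      { noeth := LocallyOfFiniteType.isLocallyNoetherian (X := U.left) (Y := X) U.hom
        dom := fun u => have := h u; (Groth.Agent.S2821.result _).1
        ufd := fun u => have := h u; (Groth.Agent.S2821.result _).2 }

/-- Let X be an integral, locally Noetherian scheme whose local rings are all regular, j : Spec O_{X,η}
⟶ X the canonical morphism from the spectrum of the function field (the local ring at the generic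
point η), and i_x : Spec κ(x) ⟶ X the canonical morphism at a point x. Then, as abelian sheaves on
the small étale site of X, the canonical map G_{m,X} ⟶ j_* G_{m,η} is a monomorphism and its
cokernel is isomorphic to the coproduct of the sheaves (i_x)_* ℤ over the points x of codimension
one (local ring of Krull dimension one); existence of an isomorphism only, the divisor map being
left unnamed, and the coproduct is given as any colimit cofan. (The published statement takes X
connected and Noetherian, and it also asserts, for X normal but not necessarily regular, that 0 →
G_{m,X} → j_* G_{m,η} → ⊕ (i_x)_* ℤ is exact without the surjectivity on the right; that normal case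
is not included here. A connected locally Noetherian normal scheme is integral and quasi-compactness
plays no role, so this row assumes X integral and locally Noetherian.) -/
theorem result (X : Scheme.{u})
    [IsIntegral X] [IsLocallyNoetherian X] (hreg : ∀ x : ↥X, IsRegularLocalRing (X.presheaf.stalk x))
    (c : Cofan fun x : {x : ↥X // ringKrullDim (X.presheaf.stalk x) = 1} =>
      (EtCoh.push (X.fromSpecResidueField x.1)).obj (EtCoh.const (Spec (X.residueField x.1)) ℤ))
    (hc : IsColimit c) :
    Mono (EtLim.GmPush (X.fromSpecStalk (genericPoint ↥X))) ∧
      Nonempty (cokernel (EtLim.GmPush (X.fromSpecStalk (genericPoint ↥X))) ≅ c.pt) := by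
  have hE := elf X hreg
  have hS := K301.GmDivRFinal.shortExact_divSeq X
  have e : EtLim.GmPush (X.fromSpecStalk (genericPoint ↥X)) = K301.GmDivRK.gmK X := rfl
  rw [e]
  have : Epi (K301.GmDivRFinal.divSeq X).g := hS.epi_g
  have h1 : cokernel (K301.GmDivRFinal.divSeq X).f ≅ (K301.GmDivRFinal.divSeq X).X₃ :=
    (cokernelIsCokernel _).coconePointUniqueUpToIso hS.exact.gIsCokernel
  exact ⟨hS.mono_f, ⟨h1 ≪≫ K301.GmDivRSum.sumIso X hc⟩⟩

end Groth.Agent.S14450
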