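import Groth.Statements.S11085
import Groth.Agent.FunFld.K660.Places
import Groth.Agent.Ega4B.DimFT

set_option autoImplicit false
universe u
open CAlg

namespace Groth.Agent.S11085

open Cardinal in
theorem exists_isGen (k A F : Type u) [Field k]
    [CommRing A] [IsDomain A] [Algebra k A] [Algebra.FiniteType k A] (hA : ringKrullDim A = 1)
    [Field F] [Algebra A F] [IsFractionRing A F] [Algebra k F] [IsScalarTower k A F] :
    ∃ t : F, K660.Places.IsGen k F t := by
  obtain ⟨n, h1, h2⟩ := Agent.Ega4B.DimFT.exists_dim k A
  have hn : n = 1 := by
    rw [hA] at h2
    exact_mod_cast h2.symm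
  subst hn
  have : Algebra.IsAlgebraic A F := IsLocalization.isAlgebraic _ (nonZeroDivisors A)
  have : FaithfulSMul A F := inferInstance
  have h3 := trdeg_add_eq k A (A := F)
  rw [trdeg_eq_zero (R := A) (A := F), h1] at h3
  obtain ⟨s, hs⟩ := exists_isTranscendenceBasis k F
  have hcard := hs.cardinalMk_eq_trdeg
  rw [← h3] at hcard
  simp only [Nat.cast_one, add_zero] at hcard
  obtain ⟨t, rfl⟩ := Cardinal.mk_set_eq_one_iff.mp hcard
  refine ⟨t, ?_, ?_⟩
  · have := hs.1
    rw [algebraicIndependent_unique_type_iff] at this
    exact this
  · have halg := hs.isAlgebraic_field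
    rw [Subtype.range_coe] at halg
    have : Algebra.EssFiniteType A F := Algebra.EssFiniteType.of_isLocalization F (nonZeroDivisors A)
    have : Algebra.EssFiniteType k F := Algebra.EssFiniteType.comp k A F
    have : Algebra.EssFiniteType (IntermediateField.adjoin k {t}) F :=
      Algebra.EssFiniteType.of_comp k _ F
    exact Algebra.finite_of_essFiniteType_of_isAlgebraic

/-- Let k be a field, A a finitely generated k-algebra which is an integral domain of Krull dimension
one (the coordinate ring of an affine curve), and F its field of fractions. Then the set of
valuation subrings of F which contain k but do not contain A is finite. (The published statement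
speaks of all valuation rings of F different from F and not containing A, over an algebraically
closed k; valuation rings not containing k must be excluded — for k an algebraic closure of a
rational function field in one variable t over a finite field and F = k(x), the t-adic valuation of
k has infinitely many extensions to F, none of whose rings contains A — and the published proof,
through the valuation at infinity of k(x), treats valuation rings containing k; it does not use that
k is algebraically closed.) -/
theorem result (k A F : Type u) [Field k]
    [CommRing A] [IsDomain A] [Algebra k A] [Algebra.FiniteType k A] (hA : ringKrullDim A = 1)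
    [Field F] [Algebra A F] [IsFractionRing A F] [Algebra k F] [IsScalarTower k A F] :
    {O : ValuationSubring F | (algebraMap k F).range ≤ O.toSubring ∧
        ¬ (algebraMap A F).range ≤ O.toSubring}.Finite := by
  classical
  obtain ⟨t, ht⟩ := exists_isGen k A F hA
  obtain ⟨S, hS⟩ := (inferInstance : Algebra.FiniteType k A).out
  have hfin : ∀ f : F, {O : ValuationSubring F | (algebraMap k F).range ≤ O.toSubring ∧ f ∉ O}.Finite := by
    intro f
    refine ((ht.finite_pole f).image fun P => P.O).subset ?_
    rintro O ⟨hO1, hO2⟩
    have hO : O ≠ ⊤ := by
      rintro rfl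
      exact hO2 trivial
    obtain ⟨P, rfl⟩ := ht.exists_place O hO (fun c => hO1 ⟨c, rfl⟩)
    exact ⟨P, hO2, rfl⟩
  refine (S.finite_toSet.biUnion fun a _ => hfin (algebraMap A F a)).subset ?_
  rintro O ⟨hO1, hO2⟩
  by_contra hcon
  apply hO2
  simp only [Set.mem_iUnion, Set.mem_ofPred_eq, not_exists, not_and, not_not] at hcon
  rintro _ ⟨a, rfl⟩
  have ha : a ∈ Algebra.adjoin k (S : Set A) := by
    rw [hS]
    trivial
  induction ha using Algebra.adjoin_induction with
  | mem x hx => exact hcon x hx hO1
  | algebraMap r =>
    rw [← IsScalarTower.algebraMap_apply k A F]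
    exact hO1 ⟨r, rfl⟩
  | add x y _ _ hx hy => rw [map_add]; exact add_mem hx hy
  | mul x y _ _ hx hy => rw [map_mul]; exact mul_mem hx hy

end Groth.Agent.S11085
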