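import Groth.Statements.S5715
import Groth.Agent.Dix.K281.ClosedPush
import Groth.Agent.Dix.K281.HensGm

set_option autoImplicit false
universe u
open CategoryTheory AlgebraicGeometry
open Dix

namespace Groth.Agent.S5715

/-- The case of the multiplicative group and the étale topology. Let R be a henselian local ring and I a
proper ideal of R, so that Spec R/I is a nonempty closed subscheme of the henselian local scheme
Spec R. Then for every i ≥ 1 the restriction map H^i((Spec R)_et, G_m) → H^i((Spec R/I)_et, G_m) is
bijective. The restriction map is EtLim.HGmPull along Spec R/I → Spec R, with the exactness of the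
inverse image carried as an instance binder. -/
theorem result (R : Type u) [CommRing R] [HenselianLocalRing R] (I : Ideal R) (hI : I ≠ ⊤) [Limits.PreservesFiniteLimits (EtCoh.pull (Spec.map (CommRingCat.ofHom (Ideal.Quotient.mk I))))] (i : ℕ) (hi : 1 ≤ i) : Function.Bijective (EtLim.HGmPull (Spec.map (CommRingCat.ofHom (Ideal.Quotient.mk I))) i) := by
  have hj : IsClosedImmersion (Spec.map (CommRingCat.ofHom (Ideal.Quotient.mk I))) :=
    IsClosedImmersion.spec_of_surjective _ Ideal.Quotient.mk_surjective
  have h : ∀ n : ℕ, Subsingleton (EtCoh.H (Spec (CommRingCat.of R))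
      (Limits.kernel (EtLim.GmPush (Spec.map (CommRingCat.ofHom (Ideal.Quotient.mk I))))) (n + 1)) :=
    fun n => Groth.Agent.Sga4A.HensClosed.H_subsingleton R _
      (K281.HensGm.cechAcyc_ker I hI) n
  obtain ⟨n, rfl⟩ := Nat.exists_eq_add_of_le' hi
  exact K281.ClosedPush.HGmPull_bijective _ (n + 1) (h n) (h (n + 1))

end Groth.Agent.S5715
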