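import Groth.Statements.S14451
import Groth.Agent.Etrest.HpullAcyc

set_option autoImplicit false
universe u
open CategoryTheory CategoryTheory.Limits AlgebraicGeometry
open EtCore

namespace Groth.Agent.S14451

open Abelian in
/-- `HofPush` is the comparison map attached to the counit, followed by `Z_X ≅ f⁻¹ Z_Y`. -/
theorem HofPush_eq_cmp {X Y : Scheme.{u}} (f : X ⟶ Y)
    [PreservesFiniteLimits (EtCoh.pull f)] (F : EtCoh.Ab X) (p : ℕ)
    (x : Ext (EtCoh.const Y ℤ) ((EtCoh.push f).obj F) p) :
    @Eq (Ext (EtCoh.const X ℤ) F p) (EtLim.HofPush f F p x)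
      ((Ext.mk₀ (EtCore.pullConst f ℤ).inv).comp
        (Etbase.ExtCompare.cmp (EtCoh.pull f) (EtCoh.const Y ℤ)
          ((EtCoh.pullPushAdj f).counit.app F) p x) (zero_add p)) := by
  have h : @Eq (Ext (EtCoh.const X ℤ) F p) (EtLim.HofPush f F p x)
      (((Ext.mk₀ (EtCore.pullConst f ℤ).inv).comp
        (x.mapExactFunctor (EtCoh.pull f)) (zero_add p)).comp
        (Ext.mk₀ ((EtCoh.pullPushAdj f).counit.app F)) (add_zero p)) := rfl
  rw [h, Etbase.ExtCompare.cmp_apply]
  exact Ext.comp_assoc_of_third_deg_zero _ _ _ _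

open Abelian in
/-- Let f : X ⟶ Y be a morphism of schemes and F an abelian sheaf on the small étale site of X whose
higher direct images R^q f_* F vanish for all q > 0. Then for every p the canonical map H^p(Y, f_*
F) → H^p(X, F) (pull back along f, then apply the counit f⁻¹ f_* F ⟶ F) is bijective. (Exactness of
f⁻¹, which always holds, is carried as an instance hypothesis.) -/
theorem result {X Y : Scheme.{u}} (f : X ⟶ Y)
    [PreservesFiniteLimits (EtCoh.pull f)] (F : EtCoh.Ab X)
    (hR : ∀ q : ℕ, 0 < q → IsZero ((EtCoh.Rpush f q).obj F)) (p : ℕ) :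
    Function.Bijective (EtLim.HofPush f F p) := by
  have h2 : Function.Bijective (Etbase.ExtCompare.cmp (EtCoh.pull f) (EtCoh.const Y ℤ)
      ((EtCoh.pullPushAdj f).counit.app F) p) :=
    Etrest.HpullAcyc.cmp_counit_bijective (EtCoh.pull f) (EtCoh.pullPushAdj f)
      (EtCoh.const Y ℤ) p F hR
  have h3 : Function.Bijective (fun e : Ext ((EtCoh.pull f).obj (EtCoh.const Y ℤ)) F p =>
      (Ext.mk₀ (EtCore.pullConst f ℤ).inv).comp e (zero_add p)) := by
    constructor
    · intro a b h
      have := congrArg (fun e => (Ext.mk₀ (EtCore.pullConst f ℤ).hom).comp e (zero_add p)) h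
      simpa only [Ext.mk₀_comp_mk₀_assoc, Iso.hom_inv_id, Ext.mk₀_id_comp] using this
    · intro a
      refine ⟨(Ext.mk₀ (EtCore.pullConst f ℤ).hom).comp a (zero_add p), ?_⟩
      simp only [Ext.mk₀_comp_mk₀_assoc, Iso.inv_hom_id]
      exact Ext.mk₀_id_comp _
  have h4 := h3.comp h2
  convert h4 using 1
  funext x
  exact HofPush_eq_cmp f F p x

end Groth.Agent.S14451
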