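import Groth.Statements.S5062
import Groth.Agent.S0502
import Groth.Agent.S0523
import Groth.Agent.Hensel.ResEtale
import Groth.Agent.Hensel.FiniteEtaleLift
import Mathlib.AlgebraicGeometry.Morphisms.Etale
import Mathlib.FieldTheory.IsSepClosed

set_option autoImplicit false
open CategoryTheory AlgebraicGeometry
universe u
open Hensel

namespace Groth.Agent.S5062

open scoped TensorProduct in
open IsLocalRing in
/-- an étale algebra over a strictly henselian local ring has an augmentation through every prime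
over the maximal ideal. -/
theorem exists_augmentation (A : Type u) [CommRing A] [HenselianLocalRing A]
    [IsSepClosed (ResidueField A)] (B : Type u) [CommRing B] [Algebra A B] [Algebra.Etale A B]
    (q : Ideal B) [q.IsPrime] (hq : q.comap (algebraMap A B) = maximalIdeal A) :
    ∃ τ : B →ₐ[A] A, (maximalIdeal A).comap τ.toRingHom = q := by
  let L := B ⧸ q
  let i₀ : ResidueField A →+* L := Ideal.Quotient.lift (maximalIdeal A) (algebraMap A L) (by
    intro a ha
    rw [← hq] at ha
    exact Ideal.Quotient.eq_zero_iff_mem.mpr ha)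
  let _ : Algebra (ResidueField A) L := i₀.toAlgebra
  have _ : IsScalarTower A (ResidueField A) L := IsScalarTower.of_algebraMap_eq (fun a => rfl)
  let h : (ResidueField A) ⊗[A] B →ₐ[ResidueField A] L :=
    Algebra.TensorProduct.lift (Algebra.ofId (ResidueField A) L) (Ideal.Quotient.mkₐ A q)
      (fun _ _ => .all _ _)
  have hb : ∀ b : B, h (1 ⊗ₜ b) = Ideal.Quotient.mk q b := fun b => by
    simp [h]
    rfl
  have hc : ∀ b : B, ∃ a : A, b - algebraMap A B a ∈ q := by
    intro b
    obtain ⟨c, hc⟩ := Groth.Agent.Hensel.ResEtale.mem_range_of_etale_of_isSepClosed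
      (ResidueField A) ((ResidueField A) ⊗[A] B) L h (1 ⊗ₜ b)
    obtain ⟨a, rfl⟩ := residue_surjective c
    refine ⟨a, ?_⟩
    rw [← Ideal.Quotient.eq, ← hb, hc]
    rfl
  have hbij : Function.Bijective (i₀ : (A ⧸ maximalIdeal A) →+* L) := by
    constructor
    · exact (i₀ : ResidueField A →+* L).injective
    · intro x
      obtain ⟨b, rfl⟩ := Ideal.Quotient.mk_surjective x
      obtain ⟨a, ha⟩ := hc b
      refine ⟨Ideal.Quotient.mk _ a, ?_⟩
      exact (Ideal.Quotient.eq.mpr ha).symm
  let ε : (A ⧸ maximalIdeal A) ≃ₐ[A] L := AlgEquiv.ofBijective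
    { (i₀ : (A ⧸ maximalIdeal A) →+* L) with commutes' := fun a => rfl } hbij
  obtain ⟨τ, hτ⟩ := (Groth.Agent.S0523.result A (maximalIdeal A)).mp inferInstance B
    (ε.symm.toAlgHom.comp (Ideal.Quotient.mkₐ A q))
  refine ⟨τ, ?_⟩
  ext b
  rw [Ideal.mem_comap]
  change τ b ∈ _ ↔ _
  rw [← Ideal.Quotient.eq_zero_iff_mem, ← Ideal.Quotient.eq_zero_iff_mem (I := q)]
  have h1 : Ideal.Quotient.mk (maximalIdeal A) (τ b) = ε.symm (Ideal.Quotient.mk q b) :=
    DFunLike.congr_fun hτ b
  rw [h1]
  exact map_eq_zero_iff _ ε.symm.injective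

theorem forward (A : Type u) [CommRing A] [HenselianLocalRing A]
    [IsSepClosed (IsLocalRing.ResidueField A)]
    (X : Scheme.{u}) (f : X ⟶ Spec (CommRingCat.of A)) [Etale f]
    (x : X) (hx : f.base x = IsLocalRing.closedPoint A) :
    ∃ u : Spec (CommRingCat.of A) ⟶ X, u ≫ f = 𝟙 _ ∧ u.base (IsLocalRing.closedPoint A) = x := by
  obtain ⟨B, j, hj, ⟨y, hy⟩, _⟩ :=
    X.exists_affine_mem_range_and_range_subset (U := ⊤) (x := x) trivial
  obtain ⟨φ, hφ⟩ := Spec.map_surjective (j ≫ f)
  have hE : Etale (Spec.map φ) := by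
    rw [hφ]; infer_instance
  have hφ' : φ.hom.Etale := (HasRingHomProperty.Spec_iff (P := @Etale)).mp hE
  algebraize [φ.hom]
  have hy1 : (Spec.map φ).base y = IsLocalRing.closedPoint A := by
    rw [hφ]
    change f.base (j.base y) = _
    rw [← hx, ← hy]
  have hq : y.asIdeal.comap (algebraMap A B) = IsLocalRing.maximalIdeal A :=
    congrArg PrimeSpectrum.asIdeal hy1
  obtain ⟨τ, hτ⟩ := exists_augmentation A B y.asIdeal hq
  refine ⟨Spec.map (CommRingCat.ofHom τ.toRingHom) ≫ j, ?_, ?_⟩
  · rw [Category.assoc, ← hφ, ← Spec.map_comp, ← Spec.map_id]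
    congr 1
    ext a
    exact τ.commutes a
  · have h2 : (Spec.map (CommRingCat.ofHom τ.toRingHom)).base (IsLocalRing.closedPoint A) = y :=
      PrimeSpectrum.ext hτ
    change j.base ((Spec.map (CommRingCat.ofHom τ.toRingHom)).base (IsLocalRing.closedPoint A)) = x
    rw [h2]
    exact hy

theorem backward (A : Type u) [CommRing A] [IsLocalRing A]
    (h : ∀ (X : Scheme.{u}) (f : X ⟶ Spec (CommRingCat.of A)), Etale f →
        ∀ x : X, f.base x = IsLocalRing.closedPoint A →
          ∃ u : Spec (CommRingCat.of A) ⟶ X, u ≫ f = 𝟙 _ ∧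
            u.base (IsLocalRing.closedPoint A) = x) (B : Type u) [CommRing B] [Algebra A B]
    [Algebra.Etale A B] (q : Ideal B) [q.IsPrime]
    (hq : q.comap (algebraMap A B) = IsLocalRing.maximalIdeal A) :
    Nonempty (B →ₐ[A] A) := by
  let φ : CommRingCat.of A ⟶ CommRingCat.of B := CommRingCat.ofHom (algebraMap A B)
  have hE : Etale (Spec.map φ) := by
    apply (HasRingHomProperty.Spec_iff (P := @Etale)).mpr
    change (algebraMap A B).Etale
    rwa [RingHom.etale_algebraMap]
  obtain ⟨u, hu, _⟩ := h (Spec (CommRingCat.of B)) (Spec.map φ) hE ⟨q, ‹_›⟩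
    (PrimeSpectrum.ext hq)
  obtain ⟨ψ, rfl⟩ := Spec.map_surjective u
  rw [← Spec.map_comp, ← Spec.map_id] at hu
  have hu' := Spec.map_injective hu
  exact ⟨{ ψ.hom with commutes' := fun a => congrArg (fun t => t.hom a) hu' }⟩

open Polynomial in
theorem isSepClosed (A : Type u) [CommRing A] [IsLocalRing A]
    (h : ∀ (B : Type u) [CommRing B] [Algebra A B] [Algebra.Etale A B] (q : Ideal B) [q.IsPrime],
      q.comap (algebraMap A B) = IsLocalRing.maximalIdeal A → Nonempty (B →ₐ[A] A)) :
    IsSepClosed (IsLocalRing.ResidueField A) := by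
  refine IsSepClosed.of_exists_root _ fun p hp hirr hsep => ?_
  obtain ⟨P, hPmap, hPdeg, hPm⟩ := Polynomial.lifts_and_natDegree_eq_and_monic
    ((Polynomial.mem_lifts p).mpr (Polynomial.map_surjective _ IsLocalRing.residue_surjective p)) hp
  have hPsep : P.Separable := by
    apply Groth.Agent.Hensel.FiniteEtaleLift.isCoprime_of_isCoprime_residue P _ hPm
    rw [← Polynomial.derivative_map, hPmap]
    exact hsep
  have hEt : Algebra.Etale A (AdjoinRoot P) :=
    Groth.Agent.Hensel.FiniteEtaleLift.etale_adjoinRoot P hPm hPsep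
  have hfin : Module.Finite A (AdjoinRoot P) := hPm.finite_adjoinRoot
  have hnt : Nontrivial (AdjoinRoot P) := by
    have hnt' : Nontrivial (AdjoinRoot p) :=
      AdjoinRoot.nontrivial p (Polynomial.degree_pos_of_irreducible hirr).ne'
    exact (AdjoinRoot.lift ((AdjoinRoot.of p).comp (IsLocalRing.residue A)) (AdjoinRoot.root p)
      (by rw [← Polynomial.eval₂_map, hPmap, AdjoinRoot.eval₂_root])).domain_nontrivial
  obtain ⟨q, hq⟩ := Ideal.exists_maximal (AdjoinRoot P)
  have hqm : (q.comap (algebraMap A (AdjoinRoot P))).IsMaximal :=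
    Ideal.isMaximal_comap_of_isIntegral_of_isMaximal q
  obtain ⟨τ⟩ := h (AdjoinRoot P) q (IsLocalRing.eq_maximalIdeal hqm)
  refine ⟨IsLocalRing.residue A (τ (AdjoinRoot.root P)), ?_⟩
  rw [← hPmap, Polynomial.eval_map, Polynomial.eval₂_at_apply]
  have : P.eval (τ (AdjoinRoot.root P)) = 0 := by
    rw [← Polynomial.coe_aeval_eq_eval, Polynomial.aeval_algHom_apply, AdjoinRoot.aeval_eq,
      AdjoinRoot.mk_self, map_zero]
  rw [this, map_zero]

/-- a) iff c): a local ring A is henselian with separably closed residue field if and only if, for every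
étale morphism f : X ⟶ Spec A and every point x of X lying over the closed point s, there is a
section u of f with u s = x. -/
theorem result (A : Type u) [CommRing A] [IsLocalRing A] :
    (HenselianLocalRing A ∧ IsSepClosed (IsLocalRing.ResidueField A)) ↔
      ∀ (X : Scheme.{u}) (f : X ⟶ Spec (CommRingCat.of A)), Etale f →
        ∀ x : X, f.base x = IsLocalRing.closedPoint A →
          ∃ u : Spec (CommRingCat.of A) ⟶ X, u ≫ f = 𝟙 _ ∧ u.base (IsLocalRing.closedPoint A) = x := by
  constructor
  · rintro ⟨h1, h2⟩ X f hf x hx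
    exact forward A X f x hx
  · intro h
    refine ⟨Groth.Agent.S0502.result A ?_, isSepClosed A ?_⟩
    · intro S _ _ _ q _ hq _
      exact backward A h S q hq.over.symm
    · intro S _ _ _ q _ hq
      exact backward A h S q hq

end Groth.Agent.S5062
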