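import Groth.Statements.S5706
import Groth.Agent.Dix.K280.EdgeEt
import Groth.Agent.Dix.K280.PointHilb
import Groth.Agent.Dix.K280.GmPullComp
import Groth.Agent.CohtopA.GmDivH1

set_option autoImplicit false
universe u
open CategoryTheory AlgebraicGeometry
open Dix

namespace Groth.Agent.S5706

/-- Let X be a noetherian scheme such that for every scheme U étale over X all local rings of U are
factorial domains. Then the restriction map from H²(X_et, G_m) to the product of the groups H²(Spec
O_{X,x}, G_m), x running over the maximal points of X (generic points of the irreducible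
components), is injective. The restriction maps are the pullbacks EtLim.HGmPull along Spec O_{X,x} →
X, whose exactness hypothesis is carried as an instance binder. -/
theorem result (X : Scheme.{u}) [IsNoetherian X] (hfact : ∀ (U : X.Etale) (v : U.left), IsDomain (U.left.presheaf.stalk v) ∧ UniqueFactorizationMonoid (U.left.presheaf.stalk v)) [∀ x : X, Limits.PreservesFiniteLimits (EtCoh.pull (X.fromSpecStalk x))] (ξ : EtCoh.H X (EtCoh.Gm X) 2) (hξ : ∀ x : X, (∀ y : X, y ⤳ x → y = x) → EtLim.HGmPull (X.fromSpecStalk x) 2 ξ = 0) : ξ = 0 := by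
  open Groth.Agent.CohtopA in
  have hE : Groth.Agent.CohtopA.GmDivGen.ELF X := by
    refine ⟨fun U => ⟨?_, fun u => (hfact U u).1, fun u => (hfact U u).2⟩⟩
    have hU : Etale (X := U.left) (Y := X) U.hom := U.prop
    exact LocallyOfFiniteType.isLocallyNoetherian (X := U.left) (Y := X) U.hom
  have key : ∀ η : GmDivK.Gen X, Abelian.Ext.comp ξ (Abelian.Ext.mk₀
      (GmDivEval.gmPush (X.fromSpecResidueField η.1))) (add_zero 2) = 0 := by
    intro η
    have hp : Limits.PreservesFiniteLimits (EtCoh.pull (X.fromSpecResidueField η.1)) :=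
      Groth.Agent.S0101.result _
    have hp2 : Limits.PreservesFiniteLimits (EtCoh.pull (Spec.map (X.residue η.1))) :=
      Groth.Agent.S0101.result _
    have h1 : Limits.IsZero ((EtCoh.Rpush (X.fromSpecResidueField η.1) 1).obj
        (EtCoh.Gm (Spec (X.residueField η.1)))) :=
      K280.PointHilb.isZero_Rpush_one (K := X.residueField η.1) (X.fromSpecResidueField η.1)
    have h2 := K280.EdgeEt.HofPush_two_injective (X.fromSpecResidueField η.1)
      (EtCoh.Gm (Spec (X.residueField η.1))) h1
    apply h2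
    rw [map_zero]
    have h3 := K280.GmPullComp.HGmPull_comp (Spec.map (X.residue η.1)) (X.fromSpecStalk η.1)
      (X.fromSpecResidueField η.1) rfl 2 ξ
    rw [hξ η.1 (fun y hy => GmDivGen.IsGen.eq_of_specializes η.2 hy), map_zero] at h3
    exact h3.symm
  apply Groth.Agent.CohtopA.GmDivH1.H2_gmK_injective X
  rw [map_zero]
  change Abelian.Ext.comp ξ (Abelian.Ext.mk₀ (Groth.Agent.CohtopA.GmDivK.gmK X)) (add_zero 2) = 0
  have := Fintype.ofFinite (Groth.Agent.CohtopA.GmDivK.Gen X)
  rw [← Category.comp_id (Groth.Agent.CohtopA.GmDivK.gmK X),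
    ← Groth.Agent.CohtopA.GmDivK.K_total X, Preadditive.comp_sum,
    Groth.Agent.CohtopA.GmDivH.ext_mk₀_sum, Groth.Agent.CohtopA.GmDivH.ext_comp_sum]
  refine Finset.sum_eq_zero (fun η _ => ?_)
  rw [← Category.assoc, Groth.Agent.CohtopA.GmDivK.gmK_Kπ, ← Abelian.Ext.mk₀_comp_mk₀,
    ← Abelian.Ext.comp_assoc_of_third_deg_zero]
  refine (congrArg (fun t => Abelian.Ext.comp t
    (Abelian.Ext.mk₀ (Groth.Agent.CohtopA.GmDivK.Kι X η)) (add_zero 2)) (key η)).trans ?_
  change Abelian.Ext.comp (0 : Abelian.Ext (EtCoh.const X ℤ)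
    (Groth.Agent.CohtopA.GmDivK.KF X η.1) 2)
    (Abelian.Ext.mk₀ (Groth.Agent.CohtopA.GmDivK.Kι X η)) (add_zero 2) = 0
  rw [Abelian.Ext.zero_comp]

end Groth.Agent.S5706
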