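import Groth.Statements.S19379
import Mathlib.RingTheory.Flat.Localization
import Groth.Agent.CalgB.RegHom6
import Groth.Agent.CalgB.AdicGeomReg
import Groth.Agent.CalgB.AdicFSFlat

set_option autoImplicit false
universe u
open CAlg

namespace Groth.Agent.S19379

open TensorProduct IsLocalRing

/-- Discrete formal smoothness implies adic formal smoothness. -/
theorem adic_of_formallySmooth {R S : Type u} [CommRing R] [CommRing S] [Algebra R S]
    [Algebra.FormallySmooth R S] (n : Ideal S) : CAlgX.IsAdicFormallySmooth R S n := by
  intro C _ _ J hJ ψ _
  exact Algebra.FormallySmooth.exists_lift (R := R) (A := S) J ⟨2, hJ⟩ ψ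

theorem isRegularRing_of_formallySmooth_field (k S : Type u) [Field k] [CommRing S]
    [Algebra k S] [IsNoetherianRing S] [Algebra.FormallySmooth k S] : IsRegularRing S := by
  refine Groth.Agent.CalgB.AdicGeomReg.isRegularRing_of_isMaximal fun M _ => ?_
  have h1 : Algebra.FormallySmooth S (Localization.AtPrime M) :=
    Algebra.FormallySmooth.of_isLocalization M.primeCompl
  have h2 : Algebra.FormallySmooth k (Localization.AtPrime M) :=
    Algebra.FormallySmooth.comp k S _
  exact Groth.Agent.CalgB.AdicRegField.isRegularLocalRing_of_isAdicFormallySmooth
    (adic_of_formallySmooth (R := k) (maximalIdeal (Localization.AtPrime M)))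

theorem flat_of_formallySmooth_of_local (A B : Type u) [CommRing A] [CommRing B] [Algebra A B]
    [IsLocalRing A] [IsLocalRing B] [IsLocalHom (algebraMap A B)]
    [IsNoetherianRing A] [IsNoetherianRing B] [Algebra.FormallySmooth A B] :
    Module.Flat A B :=
  Groth.Agent.CalgB.AdicFSFlat.flat_of_adicFS
    (adic_of_formallySmooth (R := A) (maximalIdeal B))

/-- Let A and B be Noetherian rings and let B be an A-algebra which is formally smooth for the discrete
topologies. Then A → B is a regular homomorphism, that is, flat with (Noetherian) geometrically
regular fibres. -/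
theorem result
    (A B : Type u) [CommRing A] [CommRing B] [Algebra A B]
    [IsNoetherianRing A] [IsNoetherianRing B] [Algebra.FormallySmooth A B] :
    CAlg.IsRegularHom A B := by
  rw [Groth.Agent.CalgB.RegHom6.isRegularHom_iff]
  constructor
  · refine Module.flat_of_isLocalized_maximal (S := B) (R := A) B
      (fun P [P.IsMaximal] => Localization.AtPrime P)
      (fun P [P.IsMaximal] => Algebra.linearMap B (Localization.AtPrime P)) ?_
    intro P hP
    let p : Ideal A := P.comap (algebraMap A B)
    letI : Algebra (Localization.AtPrime p) (Localization.AtPrime P) :=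
      (Localization.localRingHom p P (algebraMap A B) rfl).toAlgebra
    haveI : IsScalarTower A (Localization.AtPrime p) (Localization.AtPrime P) :=
      IsScalarTower.of_algebraMap_eq fun x => by
        rw [RingHom.algebraMap_toAlgebra, Localization.localRingHom_to_map]
        rfl
    haveI : IsLocalHom (algebraMap (Localization.AtPrime p) (Localization.AtPrime P)) :=
      Localization.isLocalHom_localRingHom p P (algebraMap A B) rfl
    have h1 : Algebra.FormallySmooth B (Localization.AtPrime P) :=
      Algebra.FormallySmooth.of_isLocalization P.primeCompl
    have h2 : Algebra.FormallySmooth A (Localization.AtPrime P) :=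
      Algebra.FormallySmooth.comp A B _
    have h3 : Algebra.FormallySmooth (Localization.AtPrime p) (Localization.AtPrime P) :=
      Algebra.FormallySmooth.localization_base p.primeCompl
    have h4 : Module.Flat (Localization.AtPrime p) (Localization.AtPrime P) :=
      flat_of_formallySmooth_of_local _ _
    exact Module.Flat.trans A (Localization.AtPrime p) (Localization.AtPrime P)
  · intro K _ _ hK
    have : IsNoetherianRing (K ⊗[A] B) := Groth.Agent.CalgB.RegHom6.isNoetherianRing_tensor A K B
    exact isRegularRing_of_formallySmooth_field K (K ⊗[A] B)

end Groth.Agent.S19379
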