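import Groth.Statements.S12482
import Groth.Agent.Sga67.SymAlg
import Groth.Agent.Ega4late.H521.QRegCot

set_option autoImplicit false
universe u
open Dual

namespace Groth.Agent.S12482

/-- Let `A` be a commutative ring, `x_1, …, x_p` a sequence of elements of `A` such that each `x_i` is a
non-zero-divisor on `A/(x_1, …, x_{i-1})`, and `J` the ideal generated by the `x_i`. Then `J/J²` is
a free `(A/J)`-module with basis the classes of the `x_i`: there is a basis of `J/J²` over `A/J`,
indexed by `1, …, p`, whose `i`-th vector is the class of `x_i`. (The other assertions of the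
published statement, on the Koszul complex and on Ext and Tor against `A/J`, are stated separately.) -/
theorem result (A : Type u) [CommRing A] (p : ℕ) (x : Fin p → A)
    (hreg : RingTheory.Sequence.IsWeaklyRegular A (List.ofFn x)) :
    ∃ b : Module.Basis (Fin p) (A ⧸ Ideal.span (Set.range x)) (Ideal.span (Set.range x)).Cotangent,
      ∀ i, b i = (Ideal.span (Set.range x)).toCotangent ⟨x i, Ideal.subset_span (Set.mem_range_self i)⟩ := by
  have hq := Groth.Agent.Sga67.SymAlg.isQuasiRegular_of_isWeaklyRegular x hreg
  let f : Fin p → (Ideal.span (Set.range x) : Ideal A) :=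
    fun i => ⟨x i, Ideal.subset_span (Set.mem_range_self i)⟩
  have hli := Groth.Agent.Ega4late.H521.QRegCot.linearIndependent_of_isQuasiRegular
    (Ideal.span (Set.range x)) f hq rfl
  have hsp := Groth.Agent.Ega4late.H521.QRegCot.span_eq_top_of_span_eq
    (Ideal.span (Set.range x)) f rfl
  exact ⟨Module.Basis.mk hli hsp.ge, fun i => by rw [Module.Basis.mk_apply]⟩

end Groth.Agent.S12482
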