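import Groth.Statements.S9725
import Groth.Agent.FlatMor.K257.SmoothDivSch

set_option autoImplicit false
universe u
open FlatMor

namespace Groth.Agent.S9725

open AlgebraicGeometry CategoryTheory Limits in
/-- Let f : X ⟶ S be a morphism and x a point such that f is smooth on an open neighbourhood of x, and
let h be an element of the maximal ideal of the local ring O_{X,x} such that the image of dh in
Ω_{O_{X,x}/O_{S,f x}} ⊗ κ(x) (the fibre at x of the sheaf of differentials of X over S) is nonzero.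
Then there are an affine open U ∋ x and a nonzerodivisor h' of Γ(X, U) with germ h at x such that
the closed subscheme V(h') of U, an effective Cartier divisor through x, is smooth over S. -/
theorem result {X S : Scheme.{u}} (f : X ⟶ S) (x : X)
    (W : X.Opens) (hxW : x ∈ W) (hW : Smooth (W.ι ≫ f))
    (h : ↑(X.presheaf.stalk x)) (hm : h ∈ IsLocalRing.maximalIdeal ↑(X.presheaf.stalk x))
    (hd : letI := (f.stalkMap x).hom.toAlgebra
      (1 : IsLocalRing.ResidueField ↑(X.presheaf.stalk x)) ⊗ₜ[↑(X.presheaf.stalk x)]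
          (KaehlerDifferential.D ↑(S.presheaf.stalk (f x)) ↑(X.presheaf.stalk x) h) ≠ 0) :
    ∃ (U : X.Opens) (hU : IsAffineOpen U) (hx : x ∈ U) (h' : Γ(X, U)), X.presheaf.germ U x hx h' = h ∧
      h' ∈ nonZeroDivisors Γ(X, U) ∧
      Smooth (Spec.map (CommRingCat.ofHom (Ideal.Quotient.mk (Ideal.span {h'}))) ≫ hU.fromSpec ≫ f) := by
  obtain ⟨U', hxU', s, hs⟩ := X.presheaf.exists_germ_eq h
  obtain ⟨V, hV, hxV, -⟩ := TopologicalSpace.Opens.isBasis_iff_nbhd.mp S.isBasis_affineOpens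
    (show f x ∈ (⊤ : S.Opens) from trivial)
  obtain ⟨U₀, hU₀, hxU₀, hle⟩ := TopologicalSpace.Opens.isBasis_iff_nbhd.mp X.isBasis_affineOpens
    (show x ∈ U' ⊓ W ⊓ f ⁻¹ᵁ V from ⟨⟨hxU', hxW⟩, hxV⟩)
  have h1 : U₀ ≤ U' := hle.trans (inf_le_left.trans inf_le_left)
  have h2 : U₀ ≤ W := hle.trans (inf_le_left.trans inf_le_right)
  have h3 : U₀ ≤ f ⁻¹ᵁ V := hle.trans inf_le_right
  have h4 : X.presheaf.germ U₀ x hxU₀ (X.presheaf.map (homOfLE h1).op s) = h := by
    rw [TopCat.Presheaf.germ_res_apply]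
    exact hs
  obtain ⟨U, hU, hx, i, hnz, hsm⟩ := K257.SmoothDivSch.exists_div f x U₀ hU₀ V hV h3 hxU₀
    (K257.SmoothDivSch.appLE_smooth f W hW U₀ hU₀ h2 V hV h3) (X.presheaf.map (homOfLE h1).op s)
    (by rw [h4]; exact hd)
  refine ⟨U, hU, hx, _, ?_, hnz, hsm⟩
  rw [TopCat.Presheaf.germ_res_apply]
  exact h4

end Groth.Agent.S9725
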