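import Groth.Statements.S9724
import Groth.Agent.FlatMor.K257.SmoothDivSch
import Groth.Agent.FlatMor.K257.ResSep
import Groth.Agent.CycB.FiberStalk
import Groth.Agent.S9725

set_option autoImplicit false
universe u
open FlatMor

namespace Groth.Agent.S9724

open AlgebraicGeometry CategoryTheory Limits

theorem nonempty_equiv {X Y : Scheme.{u}} (f : X ⟶ Y) (y : Y) (z : f.fiber y) (x : X) (hx : f.fiberι y z = x) :
    Nonempty ((X.presheaf.stalk x ⧸ Groth.Agent.CycB.FiberStalk.fibIdeal f x) ≃+* (f.fiber y).presheaf.stalk z) := by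
  subst hx
  exact ⟨Groth.Agent.CycB.FiberStalk.stalkEquiv f y z⟩

/-- A nonzero maximal ideal of the local ring of the fibre gives a nonunit not in the extended ideal. -/
theorem exists_nonunit {X Y : Scheme.{u}} (f : X ⟶ Y) (x : X)
    (hgen : IsLocalRing.maximalIdeal ↑((f.fiber (f x)).presheaf.stalk (f.asFiber x)) ≠ ⊥) :
    ∃ h₀ ∈ IsLocalRing.maximalIdeal (X.presheaf.stalk x), h₀ ∉ Groth.Agent.CycB.FiberStalk.fibIdeal f x := by
  obtain ⟨e⟩ := nonempty_equiv f (f x) (f.asFiber x) x (f.fiberι_asFiber x)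
  obtain ⟨z, hz, hz0⟩ := Submodule.exists_mem_ne_zero_of_ne_bot hgen
  obtain ⟨h₀, hh₀⟩ := Ideal.Quotient.mk_surjective (e.symm z)
  refine ⟨h₀, ?_, ?_⟩
  · intro hu
    have h1 : IsUnit (e.symm z) := by rw [← hh₀]; exact hu.map _
    have h2 : IsUnit z := by
      have := h1.map e
      rwa [RingEquiv.apply_symm_apply] at this
    exact hz h2
  · intro hmem
    have h1 : e.symm z = 0 := by rw [← hh₀]; exact Ideal.Quotient.eq_zero_iff_mem.mpr hmem
    exact hz0 ((map_eq_zero_iff e.symm e.symm.injective).mp h1)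

/-- Local rings of a morphism smooth near a point. -/
theorem stalk_smooth {X S : Scheme.{u}} (f : X ⟶ S) (x : X) (U₀ : X.Opens) (hU₀ : IsAffineOpen U₀) (V : S.Opens)
    (hV : IsAffineOpen V) (e : U₀ ≤ f ⁻¹ᵁ V) (hx : x ∈ U₀) (hsm : (f.appLE V U₀ e).hom.Smooth) :
    letI := (f.stalkMap x).hom.toAlgebra
    Algebra.FormallySmooth (S.presheaf.stalk (f x)) (X.presheaf.stalk x) ∧
      Algebra.EssFiniteType (S.presheaf.stalk (f x)) (X.presheaf.stalk x) := by
  let _ := (f.stalkMap x).hom.toAlgebra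
  let _ := (f.appLE V U₀ e).hom.toAlgebra
  let _ := X.presheaf.algebra_section_stalk ⟨x, hx⟩
  have hloc := hU₀.isLocalization_stalk ⟨x, hx⟩
  let _ : Algebra Γ(S, V) (X.presheaf.stalk x) :=
    ((algebraMap Γ(X, U₀) (X.presheaf.stalk x)).comp (algebraMap Γ(S, V) Γ(X, U₀))).toAlgebra
  have hst : IsScalarTower Γ(S, V) Γ(X, U₀) (X.presheaf.stalk x) := .of_algebraMap_eq' rfl
  have hsm' : Algebra.Smooth Γ(S, V) Γ(X, U₀) := hsm
  let _ := S.presheaf.algebra_section_stalk ⟨f x, e hx⟩
  have hloc' := hV.isLocalization_stalk ⟨f x, e hx⟩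
  have hst' : IsScalarTower Γ(S, V) (S.presheaf.stalk (f x)) (X.presheaf.stalk x) := by
    refine .of_algebraMap_eq fun a => ?_
    change X.presheaf.germ U₀ x hx (f.appLE V U₀ e a) = f.stalkMap x (S.presheaf.germ V (f x) (e hx) a)
    exact K257.SmoothDivSch.germ_appLE f x U₀ V e hx a
  have h1 : Algebra.FormallyEtale Γ(X, U₀) (X.presheaf.stalk x) :=
    Algebra.FormallyEtale.of_isLocalization (hU₀.primeIdealOf ⟨x, hx⟩).asIdeal.primeCompl
  have h2 : Algebra.FormallySmooth Γ(S, V) (X.presheaf.stalk x) :=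
    Algebra.FormallySmooth.comp Γ(S, V) Γ(X, U₀) (X.presheaf.stalk x)
  refine ⟨Algebra.FormallySmooth.localization_base (hV.primeIdealOf ⟨f x, e hx⟩).asIdeal.primeCompl, ?_⟩
  have h3 : Algebra.EssFiniteType Γ(X, U₀) (X.presheaf.stalk x) :=
    Algebra.EssFiniteType.of_isLocalization _ (hU₀.primeIdealOf ⟨x, hx⟩).asIdeal.primeCompl
  have h4 : Algebra.EssFiniteType Γ(S, V) (X.presheaf.stalk x) :=
    Algebra.EssFiniteType.comp Γ(S, V) Γ(X, U₀) (X.presheaf.stalk x)
  exact Algebra.EssFiniteType.of_comp Γ(S, V) (S.presheaf.stalk (f x)) (X.presheaf.stalk x)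

open AlgebraicGeometry CategoryTheory Limits in
/-- Let f : X ⟶ S be a morphism and x a point such that f is smooth on an open neighbourhood of x, the
residue field extension κ(x)/κ(f x) is separable (formally smooth), and x is not the generic point
of any irreducible component of the fibre over f x, i.e. (the fibre being smooth over a field near
x) the maximal ideal of the local ring of the fibre at x is nonzero. Then there are an affine open U
∋ x and a nonzerodivisor h' of Γ(X, U) vanishing at x such that the closed subscheme V(h') of U, an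
effective Cartier divisor through x, is smooth over S. -/
theorem result {X S : Scheme.{u}} (f : X ⟶ S) (x : X)
    (W : X.Opens) (hxW : x ∈ W) (hW : Smooth (W.ι ≫ f))
    (hsep : letI := (f.residueFieldMap x).hom.toAlgebra
      Algebra.FormallySmooth (S.residueField (f x)) (X.residueField x))
    (hgen : IsLocalRing.maximalIdeal ↑((f.fiber (f x)).presheaf.stalk (f.asFiber x)) ≠ ⊥) :
    ∃ (U : X.Opens) (hU : IsAffineOpen U) (hx : x ∈ U) (h' : Γ(X, U)), h' ∈ nonZeroDivisors Γ(X, U) ∧
      X.presheaf.germ U x hx h' ∈ IsLocalRing.maximalIdeal ↑(X.presheaf.stalk x) ∧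
      Smooth (Spec.map (CommRingCat.ofHom (Ideal.Quotient.mk (Ideal.span {h'}))) ≫ hU.fromSpec ≫ f) := by
  obtain ⟨V, hV, hxV, -⟩ := TopologicalSpace.Opens.isBasis_iff_nbhd.mp S.isBasis_affineOpens
    (show f x ∈ (⊤ : S.Opens) from trivial)
  obtain ⟨U₀, hU₀, hxU₀, hle⟩ := TopologicalSpace.Opens.isBasis_iff_nbhd.mp X.isBasis_affineOpens
    (show x ∈ W ⊓ f ⁻¹ᵁ V from ⟨hxW, hxV⟩)
  have h2 : U₀ ≤ W := hle.trans inf_le_left
  have h3 : U₀ ≤ f ⁻¹ᵁ V := hle.trans inf_le_right
  let _ := (f.stalkMap x).hom.toAlgebra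
  obtain ⟨hFS, hEFT⟩ := stalk_smooth f x U₀ hU₀ V hV h3 hxU₀
    (K257.SmoothDivSch.appLE_smooth f W hW U₀ hU₀ h2 V hV h3)
  obtain ⟨h₀, hm₀, hn₀⟩ := exists_nonunit f x hgen
  let _ : Algebra (S.presheaf.stalk (f x)) (S.residueField (f x)) := (S.residue (f x)).hom.toAlgebra
  let _ : Algebra (S.residueField (f x)) (X.residueField x) := (f.residueFieldMap x).hom.toAlgebra
  let _ : Algebra (X.presheaf.stalk x) (X.residueField x) := (IsLocalRing.residue (X.presheaf.stalk x)).toAlgebra
  let _ : Algebra (S.presheaf.stalk (f x)) (X.residueField x) :=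
    ((f.residueFieldMap x).hom.comp (S.residue (f x)).hom).toAlgebra
  have _ : IsScalarTower (S.presheaf.stalk (f x)) (S.residueField (f x)) (X.residueField x) := .of_algebraMap_eq' rfl
  have _ : IsScalarTower (S.presheaf.stalk (f x)) (X.presheaf.stalk x) (X.residueField x) := .of_algebraMap_eq fun a => by
    rfl
  have hsep' : Algebra.FormallySmooth (S.residueField (f x)) (X.residueField x) := hsep
  obtain ⟨h, hm, hd⟩ := K257.ResSep.exists_D_ne_zero (S.presheaf.stalk (f x)) (X.presheaf.stalk x)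
    (S.residueField (f x)) (X.residueField x) (S.residue_surjective (f x)) (X.residue_surjective x) h₀ hm₀ hn₀
  obtain ⟨U, hU, hx, h', h5, h6, h7⟩ := Groth.Agent.S9725.result f x W hxW hW h hm hd
  exact ⟨U, hU, hx, h', h6, by rw [h5]; exact hm, h7⟩

end Groth.Agent.S9724
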