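import Groth.Statements.S5073
import Mathlib.RingTheory.Ideal.MinimalPrime.Noetherian

set_option autoImplicit false
universe u
open EGA418

namespace Groth.Agent.S5073

/-- Coset prime avoidance for pairwise incomparable primes. -/
theorem exists_add_notMem {A : Type*} [CommRing A] (I : Ideal A) (x : A) (T : Finset (Ideal A))
    (hp : ∀ q ∈ T, q.IsPrime) (hI : ∀ q ∈ T, ¬ I ≤ q) (hinc : ∀ q ∈ T, ∀ q' ∈ T, q ≤ q' → q = q') :
    ∃ a ∈ I, ∀ q ∈ T, x + a ∉ q := by
  classical
  induction T using Finset.induction_on with
  | empty => exact ⟨0, I.zero_mem, by simp⟩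
  | insert q T hq ih =>
    obtain ⟨a, haI, ha⟩ := ih (fun q' h => hp q' (Finset.mem_insert_of_mem h))
      (fun q' h => hI q' (Finset.mem_insert_of_mem h))
      (fun q' h q'' h' => hinc q' (Finset.mem_insert_of_mem h) q'' (Finset.mem_insert_of_mem h'))
    by_cases hxq : x + a ∈ q
    · have hqp : q.IsPrime := hp q (Finset.mem_insert_self _ _)
      have h1 : ¬ (I * ∏ q' ∈ T, q') ≤ q := by
        intro h
        rcases hqp.mul_le.mp h with h | h
        · exact hI q (Finset.mem_insert_self _ _) h
        · obtain ⟨q', hq', hle⟩ := (Ideal.IsPrime.prod_le hqp).mp h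
          have he : q' = q := hinc q' (Finset.mem_insert_of_mem hq') q (Finset.mem_insert_self _ _) hle
          rw [he] at hq'
          exact hq hq'
      obtain ⟨b, hb, hbq⟩ := Set.not_subset.mp h1
      have hbI : b ∈ I := Ideal.mul_le_left hb
      have hbT : ∀ q' ∈ T, b ∈ q' := fun q' hq' =>
        (Ideal.mul_le_right.trans (Ideal.prod_le_inf.trans (Finset.inf_le hq'))) hb
      refine ⟨a + b, I.add_mem haI hbI, fun q' hq' => ?_⟩
      rcases Finset.mem_insert.mp hq' with rfl | hq'
      · intro h
        rw [← add_assoc] at h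
        exact hbq ((q'.add_mem_iff_right hxq).mp h)
      · intro h
        rw [← add_assoc] at h
        exact ha q' hq' ((q'.add_mem_iff_left (hbT q' hq')).mp h)
    · refine ⟨a, haI, fun q' hq' => ?_⟩
      rcases Finset.mem_insert.mp hq' with rfl | hq'
      · exact hxq
      · exact ha q' hq'

/-- Let A be a Noetherian local ring, p a prime ideal and x an element of A. Then there is an element x'
of A whose image in A_p equals that of x and which belongs to no minimal prime ideal of A not
contained in p. -/
theorem result (A : Type u) [CommRing A] [IsNoetherianRing A] [IsLocalRing A]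
    (p : Ideal A) [p.IsPrime] (x : A) :
    ∃ x' : A, algebraMap A (Localization.AtPrime p) x' = algebraMap A (Localization.AtPrime p) x ∧
      ∀ q ∈ minimalPrimes A, ¬ q ≤ p → x' ∉ q := by
  classical
  have hfin : {q : Ideal A | q ∈ minimalPrimes A ∧ ¬ q ≤ p}.Finite :=
    (minimalPrimes.finite_of_isNoetherianRing A).subset fun q hq => hq.1
  obtain ⟨a, ha, haq⟩ := exists_add_notMem (RingHom.ker (algebraMap A (Localization.AtPrime p))) x
    hfin.toFinset (fun q hq => (hfin.mem_toFinset.mp hq).1.1.1) (fun q hq hle => by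
      obtain ⟨hqm, hqp⟩ := hfin.mem_toFinset.mp hq
      have hqprime : q.IsPrime := hqm.1.1
      obtain ⟨s, hsq, hsp⟩ := Set.not_subset.mp hqp
      -- `s` is nilpotent in `A_q`
      obtain ⟨t, htq, n, hn⟩ : ∃ t ∉ q, ∃ n : ℕ, t * s ^ n = 0 := by
        have hnil : IsNilpotent (algebraMap A (Localization.AtPrime q) s) := by
          rw [← mem_nilradical, nilradical, Ideal.radical_eq_sInf, Ideal.mem_sInf]
          intro J hJ
          have hJp : J.IsPrime := hJ.2
          have h1 : J.comap (algebraMap A (Localization.AtPrime q)) ≤ q := by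
            have := IsLocalRing.le_maximalIdeal hJp.ne_top
            have h2 := Ideal.comap_mono (f := algebraMap A (Localization.AtPrime q)) this
            exact h2.trans (Localization.AtPrime.under_maximalIdeal (I := q)).le
          have h3 : q ≤ J.comap (algebraMap A (Localization.AtPrime q)) :=
            hqm.2 ⟨Ideal.comap_isPrime _ _, bot_le⟩ h1
          exact h3 hsq
        obtain ⟨n, hn⟩ := hnil
        rw [← map_pow, IsLocalization.map_eq_zero_iff q.primeCompl] at hn
        obtain ⟨t, ht⟩ := hn
        exact ⟨t, t.2, n, ht⟩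
      refine htq (hle ?_)
      rw [RingHom.mem_ker, IsLocalization.map_eq_zero_iff p.primeCompl]
      exact ⟨⟨s ^ n, fun h => hsp (Ideal.IsPrime.mem_of_pow_mem inferInstance n h)⟩, by
        rw [mul_comm]; exact hn⟩)
    (fun q hq q' hq' hle => by
      have h1 := (hfin.mem_toFinset.mp hq).1
      have h2 := (hfin.mem_toFinset.mp hq').1
      exact le_antisymm hle (h2.2 ⟨h1.1.1, bot_le⟩ hle))
  refine ⟨x + a, ?_, fun q hq hqp => haq q (hfin.mem_toFinset.mpr ⟨hq, hqp⟩)⟩
  rw [map_add, RingHom.mem_ker.mp ha, add_zero]

end Groth.Agent.S5073
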