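import Groth.Statements.S5061
import Groth.Agent.EGA418.K148.PerfArt

set_option autoImplicit false
open scoped TensorProduct
universe u
open EGA418

namespace Groth.Agent.S5061

/-- a) iff c): let k be a field of characteristic p > 0, P a perfect closure of k (a perfect field
purely inseparable over k) and K an extension field of k. Then the ring K ⊗_k P is Artinian if and
only if there exists a finite purely inseparable extension k' of k such that (k' ⊗_k K) modulo its
nilradical is geometrically reduced over k'. -/
theorem result (p : ℕ) [Fact p.Prime]
    (k K : Type u) [Field k] [CharP k p] [Field K] [Algebra k K]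
    (P : Type u) [Field P] [Algebra k P] [PerfectRing P p] [IsPRadical (algebraMap k P) p] :
    IsArtinianRing (K ⊗[k] P) ↔
      ∃ (k' : Type u) (_ : Field k') (_ : Algebra k k'), Module.Finite k k' ∧ IsPurelyInseparable k k' ∧
        Algebra.IsGeometricallyReduced k' ((k' ⊗[k] K) ⧸ nilradical (k' ⊗[k] K)) := by
  have hP : CharP P p := charP_of_injective_algebraMap (algebraMap k P).injective p
  have hpi : IsPurelyInseparable k P := IsPRadical.isPurelyInseparable k P p
  have hperf : PerfectField P := PerfectRing.toPerfectField P p
  have hsub : Subsingleton (PrimeSpectrum (K ⊗[k] P)) := K148.PerfArt.subsingleton_spec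
  constructor
  · intro hart
    have hN : IsNoetherianRing (K ⊗[k] P) := inferInstance
    have hfg : (nilradical (P ⊗[k] K)).FG :=
      K148.PerfArt.nilradical_map_equiv (Algebra.TensorProduct.comm k K P).toRingEquiv
        (IsNoetherian.noetherian (nilradical (K ⊗[k] P)))
    obtain ⟨s, hs⟩ := hfg
    obtain ⟨K', hK', hK's⟩ :=
      Groth.Agent.Fdesc.GeomRed.exists_finiteDimensional_forall_mem_range (k := k) (K := P) s
    exact ⟨K', inferInstance, inferInstance, hK', inferInstance,
      Groth.Agent.Fdesc.GeomRed.isGeometricallyReduced_quotient_nilradical_of_span K' P K s hs hK's⟩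
  · rintro ⟨k', _, _, hfin, hpi', hred⟩
    have hprad : IsPRadical (algebraMap k k') p := inferInstance
    have hk' : CharP k' p := charP_of_injective_algebraMap (algebraMap k k').injective p
    let φ : k' →+* P := PerfectRing.lift (algebraMap k k') (algebraMap k P) p
    let _ : Algebra k' P := φ.toAlgebra
    have htow : IsScalarTower k k' P := IsScalarTower.of_algebraMap_eq fun x =>
      (PerfectRing.lift_comp_apply (algebraMap k k') (algebraMap k P) p x).symm
    have halg : Algebra.IsAlgebraic k' P := Algebra.IsAlgebraic.tower_top (K := k) k'
    exact K148.PerfArt.isArtinianRing_of_subsingleton_spec _ (K148.PerfArt.nilradical_fg k' P K hred)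

end Groth.Agent.S5061
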