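import Groth.Statements.S9827
import Groth.Agent.PerfC.FPSections
import Groth.Agent.Desc.FPSections

set_option autoImplicit false
universe u
open CategoryTheory CategoryTheory.Limits AlgebraicGeometry TopologicalSpace Opposite
open Props

namespace Groth.Agent.S9827

/-- The sheaf associated to a module over a ring is of finite presentation on the spectrum if and only
if the module is finitely presented. -/
theorem result (R : CommRingCat.{u}) (M : ModuleCat.{u} R) :
    CohB1.IsFP (tilde M) ↔ Module.FinitePresentation R M := by
  constructor
  · intro h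
    have hqc : Coh.IsQCoh (tilde M) := (inferInstance : (tilde M).IsQuasicoherent)
    have h1 : Module.FinitePresentation Γ(Spec R, ⊤) Γ(tilde M, ⊤) :=
      Groth.Agent.Desc.FPSections.finitePresentation_sections (isAffineOpen_top (Spec R)) hqc h
    have h2 := (Groth.Agent.CohqA.AffSec.gfp_iff (isAffineOpen_top (Spec R)) hqc).2 h1
    have h3 := Groth.Agent.PerfC.FPSections.gfp_restrict_of_fac _ h2
      (Scheme.topIso (Spec R)).inv (𝟙 (Spec R)) (Scheme.topIso (Spec R)).inv_hom_id
    have h4 : Groth.Agent.CohqA.FinLocal.GFP (tilde M) :=
      h3.of_iso (Scheme.Modules.restrictFunctorId.app _)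
    obtain ⟨P, hP⟩ := h4
    exact Groth.Agent.CohqA.FinAffine.finitePresentation_of_presentation P
  · intro h
    exact Groth.Agent.PerfC.FPSections.isFP_tilde (R := R) M

end Groth.Agent.S9827
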