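import Groth.Statements.S4983
import Groth.Agent.EGA43.K130.EmbAss
import Groth.Agent.EGA43.K130.FibSk
import Groth.Agent.EGA43.K130.FibSch
import Groth.Agent.FormalA.PullbackQC
import Groth.Agent.Models2.FPCoh
import Groth.Agent.Ega4B.SkLocal

set_option autoImplicit false
open CategoryTheory AlgebraicGeometry
universe u v w
open EGA43

namespace Groth.Agent.S4983

/-- Let f : X ⟶ Y be a morphism locally of finite presentation and F a finitely presented O_X-module
which is f-flat; for x in X write F_{f x} for the restriction of F to the fibre of f through x. Then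
the set of points x which lie on no embedded associated cycle of F_{f x} — every associated point of
F_{f x} specializing to x is not a specialization of another associated point — is open in X. -/
theorem result {X Y : Scheme.{u}} (f : X ⟶ Y) [LocallyOfFinitePresentation f]
    (F : X.Modules) (hF : CohB1.IsFP F) (hflat : FlatMod.IsFlatOver f F) :
    IsOpen {x : X | ∀ z ∈ AssSch.Ass ((Scheme.Modules.pullback (f.fiberι (f.base x))).obj F), f.asFiber x ∈ closure {z} →
      ∀ z' ∈ AssSch.Ass ((Scheme.Modules.pullback (f.fiberι (f.base x))).obj F), z ∈ closure {z'} → z' = z} := by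
  have hset : {x : X | ∀ z ∈ AssSch.Ass ((Scheme.Modules.pullback (f.fiberι (f.base x))).obj F), f.asFiber x ∈ closure {z} →
      ∀ z' ∈ AssSch.Ass ((Scheme.Modules.pullback (f.fiberι (f.base x))).obj F), z ∈ closure {z'} → z' = z} =
      {x : X | LocCoh.HasSk 1 ((f.fiber (f.base x)).presheaf.stalk (f.asFiber x))
        (((Scheme.Modules.pullback (f.fiberι (f.base x))).obj F).presheaf.stalk (f.asFiber x))} := by
    ext x
    have i1 : LocallyOfFiniteType (f.fiberToSpecResidueField (f.base x)) :=
      MorphismProperty.pullback_snd _ _ inferInstance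
    have : IsLocallyNoetherian (f.fiber (f.base x)) :=
      LocallyOfFiniteType.isLocallyNoetherian (f.fiberToSpecResidueField (f.base x))
    exact K130.EmbAss.forall_ass_iff_hasSk_one _
      (Groth.Agent.FormalA.PullbackQC.isCoh_pullback _ _ (Groth.Agent.Models2.FPCoh.isCoh_of_isFP hF)) (f.asFiber x)
  rw [hset]
  refine K130.FibSch.isOpen_of_affine
    (fun R _ M _ _ => LocCoh.HasSk 1 R M) ?_ ?_ f F hF hflat
  · intro R R' _ _ M M' _ _ _ _ σ e he h
    exact Groth.Agent.Ega4B.SkLocal.hasSk_of_semilinearEquiv 1 σ.toRingHom σ.bijective e he h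
  · intro A B M _ _ _ _ _ _ _ _ _ _
    exact K130.FibSk.isOpen_hasSk_mod M 1

end Groth.Agent.S4983
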