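import Groth.Statements.S4964
import Groth.Agent.EGA43.K128.FibDim
import Groth.Agent.EGA43.K128.ProperOpen

set_option autoImplicit false
open CategoryTheory AlgebraicGeometry
universe u v w
open EGA43

namespace Groth.Agent.S4964

/-- Let f : X ⟶ Y be a proper morphism of finite presentation and F a finitely presented O_X-module
which is f-flat; for y in Y write F_y for the restriction of F to the fibre X_y. Let Φ be a finite
set of natural numbers. Then the set of points y of Y such that the closure in X_y of every
associated point of F_y has dimension in Φ is open in Y. In particular (Φ = {k}), the set of y such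
that every associated point of F_y has closure of dimension k is open. -/
theorem result {X Y : Scheme.{u}} (f : X ⟶ Y) [IsProper f]
    [LocallyOfFinitePresentation f] (F : X.Modules) (hF : CohB1.IsFP F) (hflat : FlatMod.IsFlatOver f F) (Φ : Finset ℕ) :
    IsOpen {y : Y | ∀ z ∈ AssSch.Ass ((Scheme.Modules.pullback (f.fiberι y)).obj F), ∃ n ∈ Φ,
      topologicalKrullDim ↥(closure ({z} : Set ↥(f.fiber y))) = (n : WithBot ℕ∞)} := by
  have h := K128.ProperOpen.isOpen_forall_fiber f f.isClosedMap _
    (K128.FibAssSch.isOpen_forall_mem f F hF hflat (Φ : Set ℕ))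
  convert h using 1
  ext y
  constructor
  · intro H x z hzx hfz hz
    rw [K128.FibDim.fiberι_base f y x] at hfz
    obtain ⟨z, rfl⟩ := K128.FibDim.exists_fiberι_eq f y z hfz
    obtain ⟨n, hn, hn'⟩ := H z ((K128.FibAssSch.mem_ass_fiber_iff f F y z).mpr hz)
    exact ⟨n, hn, (K128.FibDim.dim_closure_eq_iff f y z n).mp hn'⟩
  · intro H z hz
    obtain ⟨n, hn, hn'⟩ := H z (f.fiberι y z) (specializes_refl _) rfl
      ((K128.FibAssSch.mem_ass_fiber_iff f F y z).mp hz)
    exact ⟨n, hn, (K128.FibDim.dim_closure_eq_iff f y z n).mpr hn'⟩

end Groth.Agent.S4964
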