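import Groth.Statements.S4886
import Groth.Agent.UnramA.MonoEndo
import Groth.Agent.CycB.AffinePt
import Mathlib.AlgebraicGeometry.Morphisms.Finite

set_option autoImplicit false
universe u
open CategoryTheory AlgebraicGeometry
open EGA43

namespace Groth.Agent.S4886

theorem jacobson_of_surj (R : Type u) [CommRing R] (f : ℤ →+* R) (hf : Function.Surjective f) :
    IsJacobsonRing R :=
  have := Groth.Agent.UnramA.MonoEndo.isJacobsonRing_int
  isJacobsonRing_of_surjective ⟨f, hf⟩

theorem surj_ulift : Function.Surjective (Int.castRingHom (ULift.{u} ℤ)) := by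
  rintro ⟨n⟩
  exact ⟨n, by ext; simp⟩

theorem lft_Spec_iff (K : CommRingCat.{u}) :
    LocallyOfFiniteType (Limits.IsTerminal.from specULiftZIsTerminal (Spec K)) ↔
      Algebra.FiniteType ℤ K := by
  obtain ⟨φ, hφ⟩ := Spec.map_surjective (Limits.IsTerminal.from specULiftZIsTerminal (Spec K))
  rw [← hφ, HasRingHomProperty.Spec_iff (P := @LocallyOfFiniteType)]
  constructor
  · intro h
    have h1 : (φ.hom.comp (Int.castRingHom (ULift.{u} ℤ))).FiniteType :=
      h.comp (RingHom.FiniteType.of_surjective _ surj_ulift)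
    have h2 : φ.hom.comp (Int.castRingHom (ULift.{u} ℤ)) = algebraMap ℤ K := RingHom.ext_int _ _
    rw [h2] at h1
    exact RingHom.finiteType_algebraMap.mp h1
  · intro h
    have h1 : (φ.hom.comp (Int.castRingHom (ULift.{u} ℤ))).FiniteType := by
      have h2 : φ.hom.comp (Int.castRingHom (ULift.{u} ℤ)) = algebraMap ℤ K := RingHom.ext_int _ _
      rw [h2]
      exact RingHom.finiteType_algebraMap.mpr h
    exact RingHom.FiniteType.of_comp_finiteType h1

theorem lft_comp {X Y : Scheme.{u}} (f : X ⟶ Y)
    [LocallyOfFiniteType (Limits.IsTerminal.from specULiftZIsTerminal Y)] :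
    LocallyOfFiniteType f ↔ LocallyOfFiniteType (Limits.IsTerminal.from specULiftZIsTerminal X) := by
  have h : Limits.IsTerminal.from specULiftZIsTerminal X =
      f ≫ Limits.IsTerminal.from specULiftZIsTerminal Y := specULiftZIsTerminal.hom_ext _ _
  rw [h]
  constructor
  · intro _; infer_instance
  · intro _
    exact locallyOfFiniteType_of_comp f (Limits.IsTerminal.from specULiftZIsTerminal Y)

theorem jacobsonSpace (Y : Scheme.{u})
    [LocallyOfFiniteType (Limits.IsTerminal.from specULiftZIsTerminal Y)] : JacobsonSpace Y := by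
  have : IsJacobsonRing (ULift.{u} ℤ) := jacobson_of_surj _ _ surj_ulift
  have : JacobsonSpace (Spec (CommRingCat.of (ULift.{u} ℤ))) :=
    PrimeSpectrum.isJacobsonRing_iff_jacobsonSpace.mp this
  exact LocallyOfFiniteType.jacobsonSpace (Limits.IsTerminal.from specULiftZIsTerminal Y)

theorem ker_evaluation_eq {X : Scheme.{u}} {U : X.Opens} (hU : IsAffineOpen U) {x : X} (hx : x ∈ U) :
    RingHom.ker (X.evaluation U x hx).hom = (hU.primeIdealOf ⟨x, hx⟩).asIdeal :=
  Groth.Agent.CycB.AffinePt.evK_eq_primeIdealOf hU hx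

theorem finite_hom (A F : Type*) [CommRing A] [Algebra.FiniteType ℤ A] [CommRing F] [Finite F] :
    Finite (A →+* F) := by
  obtain ⟨n, f, hf⟩ := Algebra.FiniteType.iff_quotient_mvPolynomial''.mp
    (inferInstance : Algebra.FiniteType ℤ A)
  refine Finite.of_injective (β := Fin n → F) (fun φ i => φ (f (MvPolynomial.X i))) ?_
  intro φ ψ h
  have h1 : φ.comp f.toRingHom = ψ.comp f.toRingHom := by
    refine MvPolynomial.ringHom_ext ?_ ?_
    · intro r
      simp
    · intro i
      exact congrFun h i
  refine RingHom.ext fun a => ?_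
  obtain ⟨b, rfl⟩ := hf a
  exact RingHom.congr_fun h1 b

/-- Let Y be a scheme of finite type over ℤ. (i) A point y of Y is closed if and only if the residue
field k(y) is finite. (ii) For every prime number p and every integer d ≥ 1, the set of points y of
Y such that k(y) is an extension of 𝔽_p of degree dividing d, i.e. admits a ring homomorphism into
the field with p^d elements, is finite. -/
theorem result (Y : Scheme.{u}) [CompactSpace Y]
    [LocallyOfFiniteType (Limits.IsTerminal.from specULiftZIsTerminal Y)] :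
    (∀ y : Y, IsClosed ({y} : Set Y) ↔ Finite ↑(Y.residueField y)) ∧
    ∀ (p d : ℕ) [Fact p.Prime], 0 < d →
      {y : Y | Nonempty (↑(Y.residueField y) →+* GaloisField p d)}.Finite := by
  have hJ := jacobsonSpace Y
  constructor
  · intro y
    rw [isClosed_singleton_iff_locallyOfFiniteType, lft_comp, lft_Spec_iff]
    constructor
    · intro h
      exact Groth.Agent.UnramA.MonoEndo.finite_of_finiteType_int _
    · intro h
      have : Module.Finite ℤ (Y.residueField y) := Module.Finite.of_finite
      infer_instance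
  · intro p d _ hd
    have hcov : ∀ y : Y, ∃ U : Y.Opens, IsAffineOpen U ∧ y ∈ U := by
      intro y
      obtain ⟨U, hU, hyU, -⟩ := exists_isAffineOpen_mem_and_subset (X := Y) (x := y) (U := ⊤) trivial
      exact ⟨U, hU, hyU⟩
    choose U hU hyU using hcov
    obtain ⟨t, ht⟩ := isCompact_univ.elim_finite_subcover (fun y : Y => (U y : Set Y))
      (fun y => (U y).2) (fun y _ => Set.mem_iUnion.mpr ⟨y, hyU y⟩)
    have hfin : Finite (GaloisField p d) := inferInstance
    refine (t.finite_toSet.biUnion (t := fun y => {z : Y | z ∈ U y ∧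
      Nonempty (↑(Y.residueField z) →+* GaloisField p d)}) ?_).subset ?_
    · intro y _
      have hft : Algebra.FiniteType ℤ Γ(Y, U y) := by
        rw [← lft_Spec_iff, ← lft_comp (hU y).fromSpec]
        infer_instance
      have := finite_hom Γ(Y, U y) (GaloisField p d)
      refine (Set.finite_range (fun φ : Γ(Y, U y) →+* GaloisField p d =>
        (hU y).fromSpec (PrimeSpectrum.comap φ ⊥))).subset ?_
      rintro z ⟨hz, ⟨ψ⟩⟩
      refine ⟨ψ.comp (Y.evaluation (U y) z hz).hom, ?_⟩
      have h1 : PrimeSpectrum.comap (ψ.comp (Y.evaluation (U y) z hz).hom) ⊥ =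
          (hU y).primeIdealOf ⟨z, hz⟩ := by
        ext a
        rw [PrimeSpectrum.comap_asIdeal, Ideal.mem_comap, ← ker_evaluation_eq (hU y) hz,
          RingHom.mem_ker]
        change ψ ((Y.evaluation (U y) z hz).hom a) = 0 ↔ _
        rw [map_eq_zero_iff ψ ψ.injective]
      change (hU y).fromSpec (PrimeSpectrum.comap (ψ.comp (Y.evaluation (U y) z hz).hom) ⊥) = z
      rw [h1, (hU y).fromSpec_primeIdealOf]
    · intro z hz
      obtain ⟨y, hy, hzy⟩ := Set.mem_iUnion₂.mp (ht (Set.mem_univ z))
      exact Set.mem_iUnion₂.mpr ⟨y, hy, hzy, hz⟩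

end Groth.Agent.S4886
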