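import Groth.Statements.S9812
-- import your own Groth.Agent.* helpers here
import Groth.Agent.Flat2G.EtUnibranch

set_option autoImplicit false
universe u
open CAlg2

namespace Groth.Agent.S9812

/-- At the level of the local ring: an integrally closed local domain is geometrically unibranch.
Consequently a normal scheme is geometrically unibranch. -/
theorem result (A : Type u) [CommRing A] [IsLocalRing A]
    [IsDomain A] [IsIntegrallyClosed A] : CAlg2.IsGeomUnibranch A := by
  open Groth.Agent.Flat2G.EtUnibranch in
  have hK : IsFracRed A (FractionRing A) := by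
    refine ⟨Field.toIsField _, ?_, ?_⟩
    · rw [nilradical_eq_zero]
      exact (RingHom.injective_iff_ker_eq_bot _).mp (IsFractionRing.injective A (FractionRing A))
    · intro z
      obtain ⟨a, b, hb, rfl⟩ := IsFractionRing.div_surjective (A := A) z
      have hb' : algebraMap A (FractionRing A) b ≠ 0 := by
        simpa using nonZeroDivisors.ne_zero hb
      exact ⟨a, b, hb', by field_simp⟩
  rw [hK.isGeomUnibranch_iff]
  have hsurj : Function.Surjective (algebraMap A (integralClosure A (FractionRing A))) := by
    rintro ⟨x, hx⟩
    obtain ⟨y, hy⟩ := (IsIntegrallyClosed.isIntegral_iff (R := A) (K := FractionRing A)).mp hx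
    exact ⟨y, Subtype.ext hy⟩
  constructor
  · exact IsLocalRing.of_surjective' (algebraMap A (integralClosure A (FractionRing A))) hsurj
  · intro M hM x
    obtain ⟨a, rfl⟩ := hsurj x
    refine ⟨0, a, ?_⟩
    simp

end Groth.Agent.S9812
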