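import Groth.Statements.S4664
import Groth.Agent.FBase.K107.GeomPt
import Mathlib.AlgebraicGeometry.Geometrically.Irreducible

set_option autoImplicit false
open CategoryTheory AlgebraicGeometry
universe u
open FBase

namespace Groth.Agent.S4664

open CategoryTheory.Limits in
/-- Let f : X → Y and g : Y' → Y be morphisms of schemes with g surjective, and let f' : X ×_Y Y' → Y'
be the base change of f. If every fibre of f' is geometrically irreducible, then every fibre of f is
geometrically irreducible. -/
theorem result {X Y Y' : Scheme.{u}} (f : X ⟶ Y)
    (g : Y' ⟶ Y) [Surjective g] [GeometricallyIrreducible (pullback.snd f g)] : GeometricallyIrreducible f := by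
  refine ⟨?_⟩
  rw [geometrically_iff_of_isClosedUnderIsomorphisms]
  intro K _ y
  obtain ⟨L, _, _, i, τ, hτ⟩ := K107.GeomPt.exists_lift g y
  have h1 : IrreducibleSpace ↑(pullback (pullback.snd f g) τ) :=
    pullback_of_geometrically (P := (IrreducibleSpace ·))
      (GeometricallyIrreducible.geometrically_irreducibleSpace (f := pullback.snd f g)) L τ
  have hp := (IsPullback.of_hasPullback (pullback.snd f g) τ).paste_horiz
    (IsPullback.of_hasPullback f g)
  obtain ⟨q, hq⟩ := K107.GeomPt.exists_surjective hτ.symm hp
  have h2 := (irreducibleSpace_def _).1 h1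
  have h3 := h2.image q.base q.continuous.continuousOn
  rw [Set.top_eq_univ, Set.image_univ, Set.range_eq_univ.2 q.surjective] at h3
  exact (irreducibleSpace_def _).2 h3

end Groth.Agent.S4664
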