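import Groth.Statements.S10215
import Groth.Agent.AlgSp.K611.GeomPt
import Groth.Agent.AlgSp.K618.Sch

set_option autoImplicit false
universe u
open CategoryTheory CategoryTheory.Limits AlgebraicGeometry Topology TopologicalSpace
open AlgSp

namespace Groth.Agent.S10215

/-- Let X be an algebraic space over a scheme S and p : Spec K ⟶ X, q : Spec L ⟶ X morphisms from
spectra of fields over S which determine the same point of |X|, with p a monomorphism. Then q
factors uniquely through p. -/
theorem result {S : Scheme.{u}} (X : AlgSp.Space S) (p q : AlgSp.FieldPt X.obj)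
    (h : AlgSp.Points.mk p = AlgSp.Points.mk q) [Mono p.toHom] :
    ∃! c : q.pt ⟶ p.pt, (AlgSp.yon S).map c ≫ p.toHom = q.toHom := by
  obtain ⟨W, f, g, sq⟩ := K611.exists_pullback p.toHom q.toHom (X.property.representable_from_yon _)
  have h1 : Mono ((AlgSp.yon S).map g) :=
    ⟨fun a b hab => sq.hom_ext ((cancel_mono p.toHom).1 (by
      rw [Category.assoc, Category.assoc, sq.w, ← Category.assoc, ← Category.assoc, hab])) hab⟩
  have h2 : Mono g := (AlgSp.yon S).mono_of_mono_map h1
  have h3 : Mono g.left := inferInstance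
  obtain ⟨w, -, -⟩ := K611.exists_point_of_isPullback sq (IsLocalRing.closedPoint p.K)
    (IsLocalRing.closedPoint q.K) (by
      rw [AlgSp.Points.ofPt_toHom, AlgSp.Points.ofPt_toHom, h])
  have h4 : Nonempty ↥W.left := ⟨w⟩
  have h5 : IsIso g.left := K618.Sch.isIso_of_mono_to_field (k := q.K) g.left
  have h6 : IsIso g := by
    have : IsIso ((Over.forget S).map g) := h5
    exact isIso_of_reflects_iso g (Over.forget S)
  refine ⟨inv g ≫ f, ?_, fun c hc => ?_⟩
  · change (AlgSp.yon S).map (inv g ≫ f) ≫ p.toHom = q.toHom
    rw [Functor.map_comp, Category.assoc, sq.w, ← Category.assoc, ← Functor.map_comp,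
      IsIso.inv_hom_id, (AlgSp.yon S).map_id, Category.id_comp]
  · apply (AlgSp.yon S).map_injective
    rw [← cancel_mono p.toHom, hc]
    rw [Functor.map_comp, Category.assoc, sq.w, ← Category.assoc, ← Functor.map_comp,
      IsIso.inv_hom_id, (AlgSp.yon S).map_id, Category.id_comp]

end Groth.Agent.S10215
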