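import Groth.Statements.S14895
import Groth.Agent.FlatMor.K263.FibGenVal
import Groth.Agent.CurvesC.SpreadIso
import Groth.Agent.Ega1.GenPts
import Groth.Agent.Sga4h.GeoFinite
import Groth.Agent.FlatA.FiniteExtend

set_option autoImplicit false
universe u
open CategoryTheory CategoryTheory.Limits AlgebraicGeometry
open FlatMor

namespace Groth.Agent.S14895

open TopologicalSpace Groth.Agent.CycB.RelDim in
theorem noetherianSpace_preimage {X Y : Scheme.{u}} (f : X ⟶ Y) [LocallyOfFiniteType f] [QuasiCompact f] (s : Y) :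
    NoetherianSpace (f ⁻¹' {s}) := by
  have : LocallyOfFiniteType (f.fiberToSpecResidueField s) :=
    inferInstanceAs (LocallyOfFiniteType (pullback.snd f (Y.fromSpecResidueField s)))
  have : IsLocallyNoetherian (f.fiber s) :=
    LocallyOfFiniteType.isLocallyNoetherian (f.fiberToSpecResidueField s)
  have h2 : QuasiCompact (f.fiberToSpecResidueField s) :=
    inferInstanceAs (QuasiCompact (Limits.pullback.snd f _))
  have h4 : CompactSpace (f.fiber s) := HasAffineProperty.iff_of_isAffine (P := @QuasiCompact).mp h2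
  have : IsNoetherian (f.fiber s) := {}
  have h5 : NoetherianSpace (f.fiber s) := inferInstance
  exact (f.fiberHomeo s).symm.isInducing.noetherianSpace

open TopologicalSpace in
theorem noetherianSpace_of_finite {X Y : Scheme.{u}} (f : X ⟶ Y) [LocallyOfFiniteType f] [QuasiCompact f]
    [Finite Y] : NoetherianSpace X := by
  have h := fun s : Y => noetherianSpace_preimage f s
  have h2 : NoetherianSpace (⋃ s : Y, f ⁻¹' {s} : Set X) := NoetherianSpace.iUnion _
  have h3 : (⋃ s : Y, f ⁻¹' {s} : Set X) = Set.univ := by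
    ext x
    simp
  rw [h3, noetherian_univ_iff] at h2
  exact h2

open TopologicalSpace in
theorem quasiCompact_of_noetherianSpace {X Y : Scheme.{u}} [NoetherianSpace X] (f : X ⟶ Y) : QuasiCompact f :=
  ⟨fun _ _ _ => NoetherianSpace.isCompact _⟩

theorem isIntegral_of_dominant {X Y : Scheme.{u}} (g : Y ⟶ X) [IsSchemeTheoreticallyDominant g] [QuasiCompact g]
    [IsIntegral Y] : IsIntegral X := by
  have hred : IsReduced X := IsSchemeTheoreticallyDominant.isReduced g
  have hd : closure (Set.range g) = Set.univ := (Scheme.Hom.denseRange g).closure_range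
  have hi : IsIrreducible (Set.univ : Set X) := by
    rw [← hd, ← Set.image_univ]
    exact ((IrreducibleSpace.isIrreducible_univ Y).image g g.continuous.continuousOn).closure
  have hirr : IrreducibleSpace X := (irreducibleSpace_def _).mpr hi
  exact isIntegral_of_irreducibleSpace_of_isReduced _

open TopologicalSpace in
theorem isIntegral_of_normal {X : Scheme.{u}} [NoetherianSpace X] [ConnectedSpace X] [IsReduced X]
    (hN : Pi1.IsNormalScheme X) : IsIntegral X := by
  have hirr : IrreducibleSpace X := by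
    refine Groth.Agent.Ega1.GenPts.irreducibleSpace_of_pairwiseDisjoint
      (fun x => ⟨Set.univ, Filter.univ_mem, noetherian_univ_iff.2 inferInstance⟩)
      ((Groth.Agent.Ega1.GenPts.pairwiseDisjoint_iff X).2 fun x => ?_)
    have := (hN x).1
    rw [nilradical_eq_zero]
    exact Ideal.isPrime_bot
  exact isIntegral_of_irreducibleSpace_of_isReduced _

/-- A morphism restricting to an isomorphism over a nonempty open is birational. -/
theorem isBir_of_isIso_restrict {X' X : Scheme.{u}} [IsIntegral X] [IsIntegral X'] (f : X' ⟶ X) (U : X.Opens)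
    (hU : genericPoint X ∈ U) (hfU : IsIso (f ∣_ U)) : Groth.Agent.CurvesC.SpreadIso.IsBir f := by
  obtain ⟨z, hz⟩ := (f ∣_ U).surjective ⟨genericPoint X, hU⟩
  have hz' : f z.1 = genericPoint X := by
    have := congrArg (fun w : U => w.1) hz
    simpa using! this
  have hne : Nonempty (f ⁻¹ᵁ U : Set X') := ⟨⟨z.1, z.2⟩⟩
  have hgen : f (genericPoint X') = genericPoint X := by
    have h1 : f (genericPoint X') ⤳ f z.1 := (genericPoint_specializes z.1).map f.continuous
    rw [hz'] at h1
    exact (h1.antisymm (genericPoint_specializes _)).eq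
  have hmem : genericPoint X' ∈ f ⁻¹ᵁ U := by
    change f (genericPoint X') ∈ U
    rw [hgen]
    exact hU
  refine ⟨hgen, ?_⟩
  have h3 : IsIso ((f ∣_ U).stalkMap ⟨genericPoint X', hmem⟩) := inferInstance
  exact ((MorphismProperty.isomorphisms CommRingCat).arrow_mk_iso_iff
      (morphismRestrictStalkMap f U ⟨genericPoint X', hmem⟩)).mp h3

open Groth.Agent.CycB.RelDim TopologicalSpace in
theorem finite_compl {X Y : Scheme.{u}} (f : X ⟶ Y) [LocallyOfFiniteType f] [QuasiCompact f] [Finite Y]
    (hr : Cyc.HasRelDim f 1) (W : X.Opens) (hW : ∀ x, FibGeneric f x → x ∈ W) : ((W : Set X)ᶜ).Finite := by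
  have hN := noetherianSpace_of_finite f
  have hcov : ((W : Set X)ᶜ) = ⋃ s : Y, ((W : Set X)ᶜ ∩ f ⁻¹' {s}) := by
    rw [← Set.inter_iUnion]
    ext x
    simp
  rw [hcov]
  refine Set.finite_iUnion fun s => ?_
  -- work in the fibre
  let Z : Set (f.fiber s) := f.fiberι s ⁻¹' ((W : Set X)ᶜ)
  have hZ : IsClosed Z := W.isOpen.isClosed_compl.preimage (f.fiberι s).continuous
  have hNf : NoetherianSpace (f.fiber s) := by
    have := noetherianSpace_preimage f s
    exact (f.fiberHomeo s).isInducing.noetherianSpace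
  have hNZ : NoetherianSpace Z := (Topology.IsInducing.subtypeVal).noetherianSpace
  have hQ : QuasiSober Z := hZ.isClosedEmbedding_subtypeVal.quasiSober
  have hfin : Finite Z := by
    refine Groth.Agent.Sga4h.GeoFinite.finite_of_no_specializes Z fun x y hxy => ?_
    by_contra hne
    have hι : ∀ w : f.fiber s, f (f.fiberι s w) = s := by
      intro w
      have : f.fiberι s w ∈ Set.range (f.fiberι s) := ⟨w, rfl⟩
      rw [Scheme.Hom.range_fiberι] at this
      exact this
    have h1 : f.fiberι s x.1 ⤳ f.fiberι s y.1 :=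
      (hxy.map continuous_subtype_val).map (f.fiberι s).continuous
    have h2 : f.fiberι s x.1 ≠ f.fiberι s y.1 := fun h =>
      hne (Subtype.ext ((f.fiberι s).isEmbedding.injective h))
    have h3 := rtd_lt_of_specializes f h1 h2 (by rw [hι, hι])
    have h4 : ¬ FibGeneric f (f.fiberι s x.1) := fun h => x.2 (hW _ h)
    have h5 : rtd f (f.fiberι s x.1) ≤ (1 : ℕ) := rtd_le hr _
    have h6 : rtd f (f.fiberι s x.1) ≠ (1 : ℕ) := fun h => h4 ((fibGeneric_iff hr _).2 h)
    have h7 : rtd f (f.fiberι s x.1) < (1 : ℕ) := lt_of_le_of_ne h5 h6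
    have h8 : rtd f (f.fiberι s x.1) = 0 := by
      rw [Nat.cast_one] at h7
      exact Cardinal.lt_one_iff.1 h7
    rw [h8] at h3
    exact not_lt_zero h3
  have himg : ((W : Set X)ᶜ ∩ f ⁻¹' {s}) ⊆ Set.range (fun z : Z => f.fiberι s z.1) := by
    rintro x ⟨hx, hxs⟩
    have : x ∈ Set.range (f.fiberι s) := by rw [Scheme.Hom.range_fiberι]; exact hxs
    obtain ⟨z, rfl⟩ := this
    exact ⟨⟨z, hx⟩, rfl⟩
  exact (Set.finite_range _).subset himg

/-- Let R be a valuation ring with finite spectrum and separably closed fraction field K, and let φ : C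
→ Spec R be a connected, reduced and normal relative curve — flat, locally of finite presentation,
quasi-compact, quasi-separated, every fibre of pure dimension one — with smooth generic fibre C ×_R
K. Let x ∈ C be a generic point of an irreducible component of its fibre (no other point of the same
fibre specializes to x), and let f : C' → C be proper and restrict to an isomorphism over an open U
⊆ C which is schematically dense in C and whose preimage is schematically dense in C'. Then f⁻¹(x)
is a single point x', the stalk map O_{C,x} → O_{C',x'} is an isomorphism, and f restricts to an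
isomorphism over an open of C with finite complement (the modification locus is finite). -/
theorem result
    (R : Type u) [CommRing R] [IsDomain R] [ValuationRing R] [Finite (PrimeSpectrum R)]
    [IsSepClosed (FractionRing R)]
    {C C' : Scheme.{u}} (φ : C ⟶ Spec (CommRingCat.of R)) [Flat φ] [LocallyOfFinitePresentation φ]
    [QuasiCompact φ] [QuasiSeparated φ] [ConnectedSpace C] [IsReduced C] (hN : Pi1.IsNormalScheme C)
    (hdim : ∀ s : Spec (CommRingCat.of R), ∀ Z ∈ irreducibleComponents (φ.fiber s : Type u),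
      topologicalKrullDim Z = 1)
    (hη : Smooth (pullback.snd φ (Spec.map (CommRingCat.ofHom (algebraMap R (FractionRing R))))))
    (x : C) (hx : ∀ y : C, y ⤳ x → φ y = φ x → y = x)
    (f : C' ⟶ C) [IsProper f] (U : C.Opens) (hU : IsSchemeTheoreticallyDominant U.ι)
    (hU' : IsSchemeTheoreticallyDominant (f ⁻¹ᵁ U).ι) (hfU : IsIso (f ∣_ U)) :
    ((∃ x' : C', f x' = x) ∧ (∀ x₁ x₂ : C', f x₁ = x → f x₂ = x → x₁ = x₂) ∧
      (∀ x' : C', f x' = x → IsIso (f.stalkMap x'))) ∧
    ∃ W : C.Opens, ((W : Set C)ᶜ).Finite ∧ IsIso (f ∣_ W) := by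
  have hfinS : Finite (Spec (CommRingCat.of R)) := inferInstanceAs (Finite (PrimeSpectrum R))
  have hNS : TopologicalSpace.NoetherianSpace C := noetherianSpace_of_finite φ
  have hInt : IsIntegral C := isIntegral_of_normal hN
  have hqU : QuasiCompact U.ι :=
    have : TopologicalSpace.NoetherianSpace U := U.ι.isOpenEmbedding.isInducing.noetherianSpace
    quasiCompact_of_noetherianSpace _
  have hdom : IsDominant U.ι := inferInstance
  have hgenU : genericPoint C ∈ U := by
    have hne : (U : Set C).Nonempty := by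
      obtain ⟨_, y, rfl⟩ := (show Dense (Set.range U.ι) from Scheme.Hom.denseRange U.ι).nonempty
      exact ⟨U.ι y, y.2⟩
    exact ((genericPoint_spec C).mem_open_set_iff U.isOpen).mpr (by simpa using hne)
  have hU'int : IsIntegral (f ⁻¹ᵁ U).toScheme := by
    have : Nonempty U.toScheme := ⟨⟨_, hgenU⟩⟩
    have h1 : IsIntegral U.toScheme := inferInstance
    obtain ⟨z, -⟩ := (f ∣_ U).surjective ⟨_, hgenU⟩
    have : Nonempty (f ⁻¹ᵁ U).toScheme := ⟨z⟩
    exact isIntegral_of_isOpenImmersion (f ∣_ U)
  have hqU' : QuasiCompact (f ⁻¹ᵁ U).ι :=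
    MorphismProperty.of_isPullback (P := @QuasiCompact) (isPullback_morphismRestrict f U) hqU
  have hInt' : IsIntegral C' := isIntegral_of_dominant (f ⁻¹ᵁ U).ι
  have hbir := isBir_of_isIso_restrict f U hgenU hfU
  have hr : Cyc.HasRelDim φ 1 := fun y T hT => by
    rw [hdim y T hT]
    rfl
  have hval : ∀ x : C, Groth.Agent.CycB.RelDim.FibGeneric φ x → ValuationRing (C.presheaf.stalk x) :=
    fun x hx => K263.FibGenVal.valuationRing_stalk φ hr x hx (hN x).2
  have hnear : ∀ x : C, Groth.Agent.CycB.RelDim.FibGeneric φ x → ∃ V : C.Opens, x ∈ V ∧ IsIso (f ∣_ V) :=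
    fun x hx => Groth.Agent.CurvesC.SpreadIso.exists_isIso hbir (fun w => (hN w).2) x (hval x hx)
  have hxg : Groth.Agent.CycB.RelDim.FibGeneric φ x := fun y h1 h2 => hx y h2 h1
  refine ⟨?_, ?_⟩
  · obtain ⟨V, hxV, hV⟩ := hnear x hxg
    refine ⟨?_, ?_, ?_⟩
    · obtain ⟨z, hz⟩ := (f ∣_ V).surjective ⟨x, hxV⟩
      refine ⟨z.1, ?_⟩
      have := congrArg (fun w : V => w.1) hz
      simpa using! this
    · intro x₁ x₂ h1 h2
      have hm1 : x₁ ∈ f ⁻¹ᵁ V := by change f x₁ ∈ V; rw [h1]; exact hxV
      have hm2 : x₂ ∈ f ⁻¹ᵁ V := by change f x₂ ∈ V; rw [h2]; exact hxV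
      have hinj : Function.Injective (f ∣_ V) := (f ∣_ V).homeomorph.injective
      have h3 : (⟨x₁, hm1⟩ : (f ⁻¹ᵁ V).toScheme) = ⟨x₂, hm2⟩ := by
        apply hinj
        apply V.ι.isOpenEmbedding.injective
        have e1 := congrArg (fun g => g ⟨x₁, hm1⟩) (congrArg (fun g : (f ⁻¹ᵁ V).toScheme ⟶ C => (g : _ → C))
          (morphismRestrict_ι f V))
        have e2 := congrArg (fun g => g ⟨x₂, hm2⟩) (congrArg (fun g : (f ⁻¹ᵁ V).toScheme ⟶ C => (g : _ → C))
          (morphismRestrict_ι f V))
        have e3 : f x₁ = f x₂ := by rw [h1, h2]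
        exact e1.trans (e3.trans e2.symm)
      exact congrArg (fun w : (f ⁻¹ᵁ V).toScheme => w.1) h3
    · rintro x' rfl
      exact (ConcreteCategory.isIso_iff_bijective _).mpr
        (Groth.Agent.CurvesC.SpreadIso.bijective_stalkMap hbir x' (hval _ hxg))
  · choose V hxV hV using hnear
    let ι : Type u := {x : C // Groth.Agent.CycB.RelDim.FibGeneric φ x}
    refine ⟨⨆ i : ι, V i.1 i.2, ?_, ?_⟩
    · refine finite_compl φ hr _ fun x hx => ?_
      exact TopologicalSpace.Opens.mem_iSup.mpr ⟨⟨x, hx⟩, hxV x hx⟩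
    · exact Groth.Agent.FlatA.FiniteExtend.isIso_morphismRestrict_iSup f (fun i : ι => V i.1 i.2)
        fun i => hV i.1 i.2

end Groth.Agent.S14895
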