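import Groth.Statements.S10862
-- import your own Groth.Agent.* helpers here
import Groth.Agent.S0570
import Groth.Agent.Ega4B.NagBasic
import Mathlib.RingTheory.NoetherNormalization

set_option autoImplicit false
universe u
open CAlg

namespace Groth.Agent.S10862

/-- For a field k, an integral domain A of finite type over k with fraction field K, and a finite field
extension L of K, the integral closure of A in L is a finitely generated A-module. -/
theorem result (k A K L : Type u) [Field k] [CommRing A] [IsDomain A]
    [Algebra k A] [Algebra.FiniteType k A] [Field K] [Field L] [Algebra A K] [IsFractionRing A K] [Algebra K L]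
    [FiniteDimensional K L] [Algebra A L] [IsScalarTower A K L] : Module.Finite A (integralClosure A L) := by
  -- polynomial rings over a field are N-2
  have hpoly : ∀ n : ℕ, CAlg.IsN2 (MvPolynomial (Fin n) k) := by
    intro n
    induction n with
    | zero =>
      refine Groth.Agent.Ega4B.NagBasic.isN2_of_ringEquiv
        (MvPolynomial.isEmptyRingEquiv k (Fin 0)).symm ?_
      intro L _ _ _ _ hL
      have hsurj : Function.Surjective (algebraMap k (FractionRing k)) :=
        IsField.localization_map_bijective (M := nonZeroDivisors k) zero_notMem_nonZeroDivisors
          (Field.toIsField k) |>.2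
      have h1 : Module.Finite k (FractionRing k) :=
        Module.Finite.of_surjective (Algebra.linearMap k (FractionRing k)) hsurj
      have h2 : Module.Finite k L := Module.Finite.trans (FractionRing k) L
      exact Module.Finite.of_injective (Subalgebra.val (integralClosure k L)).toLinearMap
        Subtype.val_injective
    | succ n ih =>
      have h1 : CAlg.IsN2 (Polynomial (MvPolynomial (Fin n) k)) :=
        (Groth.Agent.S0570.result (MvPolynomial (Fin n) k)).2 ih
      exact Groth.Agent.Ega4B.NagBasic.isN2_of_ringEquiv
        (MvPolynomial.finSuccEquiv k n).symm.toRingEquiv h1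
  obtain ⟨s, g, hg, hgf⟩ := exists_finite_inj_algHom_of_fg k A
  let P := MvPolynomial (Fin s) k
  let _ : Algebra P A := g.toRingHom.toAlgebra
  have hPA : Module.Finite P A := hgf
  have hPAi : Function.Injective (algebraMap P A) := hg
  have hint : Algebra.IsIntegral P A := inferInstance
  let _ : Algebra P K := ((algebraMap A K).comp (algebraMap P A)).toAlgebra
  have hPAK : IsScalarTower P A K := IsScalarTower.of_algebraMap_eq' rfl
  have hPK : Function.Injective (algebraMap P K) := (IsFractionRing.injective A K).comp hPAi
  let _ : Algebra P L := ((algebraMap A L).comp (algebraMap P A)).toAlgebra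
  have hPAL : IsScalarTower P A L := IsScalarTower.of_algebraMap_eq' rfl
  have hPKL : IsScalarTower P K L := IsScalarTower.of_algebraMap_eq' (by
    change (algebraMap A L).comp (algebraMap P A) = (algebraMap K L).comp ((algebraMap A K).comp (algebraMap P A))
    rw [← RingHom.comp_assoc, ← IsScalarTower.algebraMap_eq A K L])
  let F := FractionRing P
  let _ : Algebra F K := (IsFractionRing.lift hPK).toAlgebra
  have hPFK : IsScalarTower P F K := IsScalarTower.of_algebraMap_eq fun x => (IsFractionRing.lift_algebraMap hPK x).symm
  let _ : Algebra F L := ((algebraMap K L).comp (algebraMap F K)).toAlgebra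
  have hFKL : IsScalarTower F K L := IsScalarTower.of_algebraMap_eq' rfl
  have hPFL : IsScalarTower P F L := IsScalarTower.of_algebraMap_eq' (by
    change _ = ((algebraMap K L).comp (algebraMap F K)).comp (algebraMap P F)
    rw [RingHom.comp_assoc, ← IsScalarTower.algebraMap_eq P F K, ← IsScalarTower.algebraMap_eq P K L])
  have hFK : Module.Finite F K := by
    have : FaithfulSMul P A := (faithfulSMul_iff_algebraMap_injective P A).mpr hPAi
    have : Algebra.IsAlgebraic P A := inferInstance
    exact Module.Finite.of_isLocalization P A (nonZeroDivisors P)
  have hFL : FiniteDimensional F L := Module.Finite.trans K L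
  have h2 := Groth.Agent.Ega4B.NagBasic.n2For P (hpoly s) F L
  exact Groth.Agent.Ega4B.NagBasic.finite_integralClosure_of_isIntegral P A L h2

end Groth.Agent.S10862
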