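import Groth.Statements.S17212
import Groth.Agent.Pi1.K157.DescAll
import Groth.Agent.S0240

set_option autoImplicit false
universe u
open CategoryTheory CategoryTheory.Limits AlgebraicGeometry
open Pi1

namespace Groth.Agent.S17212

/-- Let k → K be a homomorphism of separably closed fields, X a k-scheme of finite type and G a finite
group whose order is invertible in k. Then every principal G-cover P' of X_K = X ×_k Spec K (a
finite etale cover with an action of G by automorphisms that is simply transitive on geometric
fibres) is G-equivariantly isomorphic to the base change of a principal G-cover P of X. With k and K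
algebraically closed this is the surjectivity, on first cohomology sets with values in G, behind the
invariance of the maximal prime-to-p quotient of the fundamental group under extension of
algebraically closed field. -/
theorem result (k K : Type u) [Field k] [Field K]
    [IsSepClosed k] [IsSepClosed K] [Algebra k K] {X : Scheme.{u}} (f : X ⟶ Spec (CommRingCat.of k))
    [LocallyOfFiniteType f] [QuasiCompact f]
    (G : Type) [Group G] [Finite G] (hG : IsUnit ((Nat.card G : ℕ) : k))
    (P' : FEt.Cat (pullback f (Spec.map (CommRingCat.ofHom (algebraMap k K))))) (ρ' : G →* Aut P')
    (hP' : SGA1t.IsPrincipal G P' ρ') :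
    ∃ (P : FEt.Cat X) (ρ : G →* Aut P), SGA1t.IsPrincipal G P ρ ∧
      ∃ e : (FEt.restrict (pullback.fst f (Spec.map (CommRingCat.ofHom (algebraMap k K))))).obj P ≅ P',
        ∀ g : G, (FEt.restrict (pullback.fst f (Spec.map (CommRingCat.ofHom (algebraMap k K))))).map (ρ g).hom ≫
          e.hom = e.hom ≫ (ρ' g).hom := by
  exact K157.DescAll.main (fun A _ _ _ f _ => Groth.Agent.S0240.result A f) k K f G hG P' ρ' hP'

end Groth.Agent.S17212
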