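import Groth.Statements.S12073
import Groth.Agent.Pi1A.FEtLimit

set_option autoImplicit false
universe u
open CategoryTheory CategoryTheory.Limits AlgebraicGeometry
open Pi1

namespace Groth.Agent.S12073

open Ega43.LimitDescend Ega43.LimitDescendIso

theorem fst_comp_left {X Y : Scheme.{u}} (f : X ⟶ Y) {V W : FEt.Cat Y} (φ : V ⟶ W) :
    ((FEt.restrict f).map φ).left ≫ pullback.fst W.hom f = pullback.fst V.hom f ≫ φ.left :=
  pullback.lift_fst _ _ _

theorem map_eq_iff {X Y : Scheme.{u}} (f : X ⟶ Y) {V W : FEt.Cat Y} (φ ψ : V ⟶ W) :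
    (FEt.restrict f).map φ = (FEt.restrict f).map ψ ↔
      pullback.fst V.hom f ≫ φ.left = pullback.fst V.hom f ≫ ψ.left := by
  constructor
  · intro h
    rw [← fst_comp_left, ← fst_comp_left, h]
  · intro h
    apply MorphismProperty.Over.Hom.ext
    apply pullback.hom_ext
    · exact (fst_comp_left f φ).trans (h.trans (fst_comp_left f ψ).symm)
    · exact (Over.w ((FEt.restrict f).map φ).hom).trans (Over.w ((FEt.restrict f).map ψ).hom).symm

/-- Let X = lim X_i be the limit of a cofiltered system of quasi-compact quasi-separated schemes with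
affine transition morphisms, given by a limit cone. Then: (1) every finite étale cover of X is
isomorphic, over X, to the base change of a finite étale cover of some X_i; (2) if two morphisms
between finite étale covers of some X_i have the same base change to X, then they have the same base
change to some X_j with j → i. (Fullness — every morphism over X between base changes comes from
some stage — is part of the published statement and is not stated here; nor is the consequence on
fundamental groups.) -/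
theorem result {I : Type u} [SmallCategory I] [IsCofiltered I]
    (D : I ⥤ Scheme.{u}) (c : Limits.Cone D) (hc : Limits.IsLimit c)
    [∀ (i j : I) (f : i ⟶ j), IsAffineHom (D.map f)] [∀ i, CompactSpace (D.obj i)]
    [∀ i, QuasiSeparatedSpace (D.obj i)] :
    (∀ V : FEt.Cat c.pt, ∃ (i : I) (Vi : FEt.Cat (D.obj i)), Nonempty ((FEt.restrict (c.π.app i)).obj Vi ≅ V)) ∧
    (∀ (i : I) (Vi Wi : FEt.Cat (D.obj i)) (φ ψ : Vi ⟶ Wi),
      (FEt.restrict (c.π.app i)).map φ = (FEt.restrict (c.π.app i)).map ψ →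
      ∃ (j : I) (a : j ⟶ i), (FEt.restrict (D.map a)).map φ = (FEt.restrict (D.map a)).map ψ) := by
  refine ⟨Pi1A.FEtLimit.exists_obj hc, ?_⟩
  intro i Vi Wi φ ψ h
  have iV₁ : IsFinite Vi.hom := Vi.prop.1
  have iV₂ : Etale Vi.hom := Vi.prop.2
  have iW₁ : IsFinite Wi.hom := Wi.prop.1
  have iW₂ : Etale Wi.hom := Wi.prop.2
  have ht' : ∀ {j k : Over i} (φ : j ⟶ k), (Over.forget i ⋙ D).map φ ≫ D.map k.hom =
      D.map j.hom := fun φ => by
    change D.map φ.left ≫ D.map _ = D.map _
    rw [← D.map_comp, Over.w φ]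
  have i₃ : ∀ {j k : Over i} (φ : j ⟶ k), IsAffineHom ((Over.forget i ⋙ D).map φ) :=
    fun φ => inferInstanceAs (IsAffineHom (D.map φ.left))
  have i₄ : ∀ k : Over i, CompactSpace ((Over.forget i ⋙ D).obj k) :=
    fun k => inferInstanceAs (CompactSpace (D.obj k.left))
  have i₅ : ∀ k : Over i, QuasiSeparatedSpace ((Over.forget i ⋙ D).obj k) :=
    fun k => inferInstanceAs (QuasiSeparatedSpace (D.obj k.left))
  let t' : ∀ k : Over i, (Over.forget i ⋙ D).obj k ⟶ D.obj i := fun k => D.map k.hom
  have hX : IsPullback (pullback.fst Vi.hom (c.π.app i)) (pullback.snd Vi.hom (c.π.app i)) Vi.hom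
    (c.π.app i) := IsPullback.of_hasPullback _ _
  have hp : ∀ k : Over i, (overCone c i).π.app k ≫ t' k = c.π.app i := fun k => c.w k.hom
  have ht'' : ∀ {j k : Over i} (χ : j ⟶ k), (pbDiagram t' ht' Vi.hom).map χ ≫
      (pullback.fst Vi.hom (t' k) ≫ Vi.hom) = pullback.fst Vi.hom (t' j) ≫ Vi.hom := fun χ ↦ by
    rw [← Category.assoc]
    congr 1
    exact pbDiagram_map_fst t' ht' Vi.hom χ
  have h' := (map_eq_iff (c.π.app i) φ ψ).mp h
  obtain ⟨k, hk, hk'⟩ := Scheme.exists_hom_comp_eq_comp_of_locallyOfFiniteType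
    (pbDiagram t' ht' Vi.hom) (toConst (fun j ↦ pullback.fst Vi.hom (t' j) ≫ Vi.hom) ht'') Wi.hom
    (pbCone t' ht' Vi.hom (overCone c i) (c.π.app i) hp _ _ hX)
    (isLimitPbCone t' ht' Vi.hom (overCone c i) (c.π.app i) hp _ _ hX (isLimitOverCone c hc i))
    (i := Over.mk (𝟙 i)) (pullback.fst Vi.hom (t' (Over.mk (𝟙 i))) ≫ φ.left)
    (pullback.fst Vi.hom (t' (Over.mk (𝟙 i))) ≫ ψ.left)
    (by
      rw [Category.assoc, show φ.left ≫ Wi.hom = Vi.hom from Over.w φ.hom]
      rfl)
    (by
      rw [Category.assoc, show ψ.left ≫ Wi.hom = Vi.hom from Over.w ψ.hom]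
      rfl)
    (by
      rw [← Category.assoc, ← Category.assoc, pbCone_π_fst]
      exact h')
  refine ⟨k.left, k.hom, (map_eq_iff (D.map k.hom) φ ψ).mpr ?_⟩
  have e1 := pbDiagram_map_fst t' ht' Vi.hom hk
  rw [← Category.assoc, ← Category.assoc, e1] at hk'
  exact hk'

end Groth.Agent.S12073
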