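import Groth.Statements.S16637
import Groth.Agent.Red.K216.Inner

set_option autoImplicit false
open CategoryTheory MonoidalCategory CartesianMonoidalCategory MonObj GrpObj AlgebraicGeometry
universe u
open Red

namespace Groth.Agent.S16637

lemma act_mul {S : Scheme.{u}} {G H : Over S} [GrpObj H] (a : AlgGrp.Action H G) {X : Over S}
    (g h : X ⟶ H) (x : X ⟶ G) : lift (g * h) x ≫ a.act = lift g (lift h x ≫ a.act) ≫ a.act := by
  have := congrArg (fun t => lift (lift g h) x ≫ t) a.mul_act
  rw [← Category.assoc, lift_whiskerRight, ← Category.assoc, lift_lift_associator_hom, ← Category.assoc,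
    lift_whiskerLeft] at this
  exact this

lemma act_one {S : Scheme.{u}} {G H : Over S} [GrpObj H] (a : AlgGrp.Action H G) {X : Over S}
    (x : X ⟶ G) : lift (1 : X ⟶ H) x ≫ a.act = x := by
  have := congrArg (fun t => lift (toUnit X) x ≫ t) a.one_act
  rw [← Category.assoc, lift_whiskerRight, lift_leftUnitor_hom] at this
  exact this

/-- An action of an S-group scheme H with connected fibres on a reductive S-group G by group
automorphisms is through inner automorphisms. Stated in local form: for every point h of H with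
values in an S-scheme X there are an fppf covering X' → X (flat, surjective, locally of finite
presentation) and a point g of G over X' such that h acts on all points of G over X' as conjugation
by g. (The source phrases this as a unique factorisation through the adjoint quotient G/Z_G; only
the resulting local description is stated here.) -/
theorem result {S : Scheme.{u}} {G H : Over S} [GrpObj G] [GrpObj H]
    (hG : Red.IsReductive G) (hH : RedSub.HasConnectedFibres H) (a : AlgGrp.Action H G)
    (hmul : ∀ (X : Over S) (h : X ⟶ H) (g g' : X ⟶ G),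
      lift h (g * g') ≫ a.act = (lift h g ≫ a.act) * (lift h g' ≫ a.act))
    (X : Over S) (h : X ⟶ H) :
    ∃ (X' : Over S) (c : X' ⟶ X) (g : X' ⟶ G), Flat c.left ∧ Surjective c.left ∧ LocallyOfFinitePresentation c.left ∧
      ∀ (X'' : Over S) (x : X'' ⟶ X') (y : X'' ⟶ G),
        lift (x ≫ c ≫ h) y ≫ a.act = (x ≫ g) * y * (x ≫ g)⁻¹ := by
  -- the universal family
  let φ : G ⊗ H ⟶ G := lift (snd G H) (fst G H) ≫ a.act
  have hφ : ∀ (Y : Over S) (y : Y ⟶ G) (t : Y ⟶ H), lift y t ≫ φ = lift t y ≫ a.act := by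
    intro Y y t
    rw [← Category.assoc, comp_lift, lift_fst, lift_snd]
  let ψ : G ⊗ H ⟶ G := lift (snd G H)⁻¹ (fst G H) ≫ a.act
  have hψ : ∀ (Y : Over S) (y : Y ⟶ G) (t : Y ⟶ H), lift y t ≫ ψ = lift t⁻¹ y ≫ a.act := by
    intro Y y t
    rw [← Category.assoc, comp_lift, GrpObj.comp_inv, lift_fst, lift_snd]
  have hiso : AutFam.IsIsoFamily G G φ := by
    refine ⟨fun Y g₁ g₂ t => ?_, ψ, fun Y g t => ?_, fun Y g t => ?_⟩
    · rw [hφ, hφ, hφ, hmul]
    · rw [hφ, hψ, ← act_mul, inv_mul_cancel, act_one]
    · rw [hψ, hφ, ← act_mul, mul_inv_cancel, act_one]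
  have h1 : (G ◁ η[H]) ≫ φ = fst G _ := by
    have h2 : G ◁ η[H] = lift (fst G _) (snd G _ ≫ η[H]) := by
      apply CartesianMonoidalCategory.hom_ext <;> simp
    rw [h2, hφ]
    have h3 : snd G (𝟙_ (Over S)) ≫ η[H] = 1 := by
      rw [MonObj.one_eq_one, MonObj.comp_one]
    rw [h3, act_one]
  have h2 : ∀ x : X.left, K216.Inner.Rel (𝟙 G) ((G ◁ h) ≫ φ) x := fun x =>
    (K216.Inner.rel_of_section (K216.Inner.locPin_of_isReductive hG) hH hiso η[H] h1 (h.left x)).pull h x
  obtain ⟨W, c, g, hc1, hc2, hc3, hg⟩ := K216.Inner.exists_cover h2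
  refine ⟨W, c, g, hc1, hc2, hc3, fun Y x y => ?_⟩
  have := hg Y x y
  rw [K216.Inner.pull_lift, hφ, Category.comp_id, Category.assoc] at this
  exact this

end Groth.Agent.S16637
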