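import Groth.Statements.S14762
import Groth.Agent.Red.K215.RedImg
import Groth.Agent.Localalg.GrpSchComp2
import Groth.Agent.Sga3B.RG.BrHc
import Groth.Agent.Sga3B.RG.BrRed2
import Groth.Agent.Agf.H608.ImgGlue
import Groth.Agent.Sga3.H821.AffProper

set_option autoImplicit false
universe u
open CategoryTheory CategoryTheory.Limits MonoidalCategory CartesianMonoidalCategory MonObj GrpObj AlgebraicGeometry
open Red

namespace Groth.Agent.S14762

open Groth.Agent.Books.AffBridge Groth.Agent.Books.AffBridge2
open Groth.Agent.Sga3B.RG Groth.Agent.Sga3B.RG.BrPts Groth.Agent.Sga3B.RG.BrRed2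

/-- Over an algebraically closed field k, every quotient of a reductive group variety is reductive: if G
is a reductive k-group (affine, smooth, connected, with trivial unipotent radical) and π : G → H is
a flat surjective homomorphism onto a k-group scheme of finite type H, then H is reductive. (The
published lemma also covers the properties complete, semisimple and solvable.) -/
theorem result (k : Type u) [Field k] [IsAlgClosed k]
    (G H : Over (Spec (CommRingCat.of k))) [GrpObj G] [GrpObj H] (hG : Red.IsReductiveOver k G)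
    [QuasiCompact H.hom] [LocallyOfFiniteType H.hom]
    (π : G ⟶ H) [IsMonHom π] [Flat π.left] [Surjective π.left] :
    Red.IsReductiveOver k H := by
  have hGaff : IsAffine G.left := hG.1
  have hGsm : Smooth G.hom := hG.2.1
  have hsep : IsSeparated H.hom := Groth.Agent.Localalg.GrpSchComp2.isSeparated_hom H
  have hHaff : IsAffine H.left :=
    Groth.Agent.Sga3.H821.AffProper.isAffine_of_flat_surjective k G H π
  obtain ⟨A, _, _, e, he, hft, hdom, hred⟩ := BrHc.exists_hopf_of_isReductiveOver G hG
  obtain ⟨C, _, _, e', he', hft'⟩ := BrHc.exists_hopf_ft H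
  have hei2 : IsIso e.inv.left := (Over.forget _).map_isIso e.inv
  have hei3 : IsIso e'.hom.left := (Over.forget _).map_isIso e'.hom
  obtain ⟨φ, hφ⟩ := exists_bialgHom_of_isMonHom k (e.inv ≫ π ≫ e'.hom)
  have hsurj : Surjective (specMap k (φ : C →ₐ[k] A)).left := by
    rw [hφ, Over.comp_left, Over.comp_left]
    infer_instance
  have hflat : Flat (specMap k (φ : C →ₐ[k] A)).left := by
    rw [hφ, Over.comp_left, Over.comp_left]
    infer_instance
  have hs : Function.Surjective (Pt.map φ) :=
    Groth.Agent.Agf.H608.ImgGlue.surjective_pt_map φ hsurj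
  have hinj : Function.Injective φ := by
    have h1 : Flat (Spec.map (CommRingCat.ofHom ((φ : C →ₐ[k] A) : C →+* A))) := hflat
    have h2 : Surjective (Spec.map (CommRingCat.ofHom ((φ : C →ₐ[k] A) : C →+* A))) := hsurj
    have h3 : ((φ : C →ₐ[k] A) : C →+* A).Flat := Flat.SpecMap_iff.mp h1
    have h4 : ((φ : C →ₐ[k] A) : C →+* A).FaithfullyFlat :=
      (RingHom.FaithfullyFlat.iff_flat_and_comap_surjective).mpr ⟨h3, h2.surj⟩
    exact h4.injective
  have hdomC : IsDomain C := hinj.isDomain ((φ : C →ₐ[k] A) : C →+* A)
  have hredC : IsRedPt k C := K215.RedImg.isRedPt_of_surjective φ hs hred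
  have hC : Red.IsReductiveOver k (SpecOver k C) := isReductiveOver_iff.2 ⟨hdomC, hredC⟩
  have he'' : IsMonHom e'.symm.hom := inferInstanceAs (IsMonHom e'.inv)
  exact isReductiveOver_of_iso e'.symm hC

end Groth.Agent.S14762
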