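import Groth.Statements.S5259
import Groth.Agent.S3040
import Groth.Agent.Sga3B.CentRep

set_option autoImplicit false
open CategoryTheory MonoidalCategory CartesianMonoidalCategory MonObj GrpObj AlgebraicGeometry
universe u
open SGA3x

namespace Groth.Agent.S5259

/-- Connectedness of the scheme-theoretic fibre is connectedness of the set-theoretic fibre. -/
theorem isConnected_fibre {X S : Scheme.{u}} (f : X ⟶ S) (s : S)
    (h : ConnectedSpace ↥(Limits.pullback f (S.fromSpecResidueField s))) :
    _root_.IsConnected (f.base ⁻¹' {s}) := by
  have h1 : ConnectedSpace ↥(f.fiber s) := h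
  exact isConnected_iff_connectedSpace.mpr
    ((f.fiberHomeo s).surjective.connectedSpace (f.fiberHomeo s).continuous)

/-- Centralizer: Let G be an S-group locally of finite type and quasi-separated over S, H an S-group
which is smooth and of finite presentation over S with connected fibres, and i : H ⟶ G a
homomorphism which is a monomorphism. Then the centralizer of H in G is representable by a closed
subgroup scheme of G whose immersion into G is of finite presentation. -/
theorem result {S : Scheme.{u}} (G H : Over S) [GrpObj G] [GrpObj H]
    [LocallyOfFiniteType G.hom] [QuasiSeparated G.hom] [Smooth H.hom] [QuasiCompact H.hom] [QuasiSeparated H.hom]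
    (hconn : ∀ s : S, ConnectedSpace ↥(Limits.pullback H.hom (S.fromSpecResidueField s)))
    (i : H ⟶ G) [IsMonHom i] [Mono i] :
    ∃ (Z : Over S) (_ : GrpObj Z) (j : Z ⟶ G), Red.IsCentralizerOf i j ∧ IsClosedImmersion j.left ∧
      LocallyOfFinitePresentation j.left := by
  obtain ⟨-, Z, z, hz1, hz2, hz3⟩ :=
    Groth.Agent.S3040.result S G H (fun s => isConnected_fibre H.hom s (hconn s)) i
  have hz' : Mono z := Over.mono_of_mono_left z
  obtain ⟨i1, i2⟩ := Sga3B.CentRep.exists_grpObj z (Sga3B.CentRep.centPts i) hz3
  exact ⟨Z, i1, z, ⟨i2, hz', hz3⟩, hz1, hz2⟩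

end Groth.Agent.S5259
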