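import Groth.Statements.S14625
import Groth.Agent.Sga4h.MuLocal
import Mathlib.RingTheory.Polynomial.Cyclotomic.Basic
-- import your own Groth.Agent.* helpers here

set_option autoImplicit false
open CategoryTheory AlgebraicGeometry
universe u
open EtBase

namespace Groth.Agent.S14625

open Polynomial IsLocalRing in
/-- In a strictly henselian local ring with `n` invertible, the `n`-th cyclotomic polynomial has a
root. -/
theorem exists_root (A : Type u) [CommRing A]
    (hA : EtCoh.IsStrictlyHenselianLocalRing A) (n : ℕ) (hn : 1 ≤ n) (hu : IsUnit (n : A)) :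
    ∃ z : A, (cyclotomic n A).IsRoot z := by
  obtain ⟨_, hsep⟩ := hA
  have hnk : (n : ResidueField A) ≠ 0 := by
    have := (hu.map (residue A)).ne_zero
    rwa [map_natCast] at this
  have : NeZero (n : ResidueField A) := ⟨hnk⟩
  have : NeZero n := ⟨by omega⟩
  obtain ⟨ζ, hζ⟩ := HasEnoughRootsOfUnity.exists_primitiveRoot (ResidueField A) n
  have hroot : (cyclotomic n (ResidueField A)).IsRoot ζ := (isRoot_cyclotomic_iff).2 hζ
  have hs : (cyclotomic n (ResidueField A)).Separable := separable_cyclotomic n _
  have h : ∀ f : A[X], f.Monic → ∀ a₀ : ResidueField A, aeval a₀ f = 0 →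
      aeval a₀ (derivative f) ≠ 0 → ∃ a : A, f.IsRoot a ∧ residue A a = a₀ :=
    ((HenselianLocalRing.TFAE A).out 0 1).1 ‹HenselianLocalRing A›
  have h1 : aeval ζ (cyclotomic n A) = 0 := by
    rw [aeval_def, ← eval_map, IsLocalRing.ResidueField.algebraMap_eq, map_cyclotomic]
    exact hroot
  have h2 : aeval ζ (derivative (cyclotomic n A)) ≠ 0 := by
    rw [aeval_def, ← eval_map, ← derivative_map, IsLocalRing.ResidueField.algebraMap_eq,
      map_cyclotomic]
    exact hs.eval₂_derivative_ne_zero (RingHom.id _) (by simpa [eval₂_id] using hroot)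
  obtain ⟨a, ha, -⟩ := h _ (cyclotomic.monic n A) ζ h1 h2
  exact ⟨a, ha⟩

/-- Let A be a strictly henselian local ring, n ≥ 1 an integer invertible in A, and X a scheme over Spec
A. Then the étale sheaf μ_n of n-th roots of unity on X is isomorphic to the constant sheaf with
value ℤ/n. Only the existence of an isomorphism is asserted; it depends on the choice of a primitive
n-th root of unity in A. -/
theorem result (A : Type u) [CommRing A]
    (hA : EtCoh.IsStrictlyHenselianLocalRing A) (n : ℕ) (hn : 1 ≤ n) (hu : IsUnit (n : A))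
    (X : Scheme.{u}) (f : X ⟶ Spec (CommRingCat.of A)) :
    Nonempty (EtCoh.mu X n ≅ EtCoh.const X (ZMod n)) := by
  obtain ⟨z, hz⟩ := exists_root A hA n hn hu
  let φ : A →+* Γ(X, ⊤) := (f.appTop.hom).comp (Scheme.ΓSpecIso (CommRingCat.of A)).inv.hom
  have h1 : IsUnit (n : Γ(X, ⊤)) := by
    have := hu.map φ
    rwa [map_natCast] at this
  have h2 : (Polynomial.cyclotomic n Γ(X, ⊤)).IsRoot (φ z) := by
    have := hz.map (f := φ)
    rwa [Polynomial.map_cyclotomic] at this
  obtain ⟨e⟩ := Groth.Agent.Sga4h.MuLocal.nonempty_iso_const_mu n (by omega) h1 (φ z) h2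
  exact ⟨e.symm⟩

end Groth.Agent.S14625
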