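import Groth.Statements.S7150
import Groth.Agent.CalgC.SepDiff
import Groth.Agent.CalgC.SepField
import Mathlib.RingTheory.Smooth.Basic
import Mathlib.FieldTheory.Perfect

set_option autoImplicit false
universe u
open EtAlg

namespace Groth.Agent.S7150

/-- Lifting a section of a surjection with nilpotent kernel along a formally smooth field extension. -/
theorem exists_section {k κ R : Type*} [Field k] [Field κ] [CommRing R] [Algebra k κ]
    [Algebra.FormallySmooth k κ] (r : R →+* κ) (hr : Function.Surjective r)
    (hn : IsNilpotent (RingHom.ker r)) (s : k →+* R) (hs : r.comp s = algebraMap k κ) :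
    ∃ σ : κ →+* R, r.comp σ = RingHom.id _ ∧ σ.comp (algebraMap k κ) = s := by
  letI : Algebra k R := s.toAlgebra
  let g : R →ₐ[k] κ := { r with commutes' := fun x => RingHom.congr_fun hs x }
  have hg : Function.Surjective g := hr
  have hg' : IsNilpotent (RingHom.ker (g : R →+* κ)) := hn
  refine ⟨(Algebra.FormallySmooth.liftOfSurjective (AlgHom.id k κ) g hg hg' : κ →ₐ[k] R), ?_, ?_⟩
  · ext x
    exact Algebra.FormallySmooth.liftOfSurjective_apply (AlgHom.id k κ) g hg hg' x
  · ext x
    exact (Algebra.FormallySmooth.liftOfSurjective (AlgHom.id k κ) g hg hg').commutes x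

theorem isNilpotent_ker_residue {R : Type*} [CommRing R] [IsLocalRing R]
    (h : ∃ n : ℕ, IsLocalRing.maximalIdeal R ^ n = ⊥) : IsNilpotent (RingHom.ker (IsLocalRing.residue R)) := by
  obtain ⟨n, hn⟩ := h
  exact ⟨n, by rw [IsLocalRing.ker_residue]; exact hn⟩

/-- Suppose p is a prime with p·1 = 0 in the local ring A and some power of the maximal ideal of A is
zero. Then the residue map A → κ_A has a section σ : κ_A → A that is a ring map. If moreover A → A'
is a local homomorphism to another local ring whose maximal ideal has a vanishing power, and the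
residue field extension κ_{A'}/κ_A is separable (possibly transcendental, i.e. geometrically
reduced), then for any such σ there is a section σ' : κ_{A'} → A' compatible with σ. -/
theorem result (p : ℕ) (hp : p.Prime) (A : Type u) [CommRing A]
    [IsLocalRing A] [CharP A p] (hnil : ∃ n : ℕ, IsLocalRing.maximalIdeal A ^ n = ⊥) :
    (∃ σ : IsLocalRing.ResidueField A →+* A, (IsLocalRing.residue A).comp σ = RingHom.id _) ∧
    ∀ (A' : Type u) [CommRing A'] [IsLocalRing A'] [Algebra A A'] [IsLocalHom (algebraMap A A')],
      (∃ n : ℕ, IsLocalRing.maximalIdeal A' ^ n = ⊥) →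
      Algebra.IsGeometricallyReduced (IsLocalRing.ResidueField A) (IsLocalRing.ResidueField A') →
      ∀ σ : IsLocalRing.ResidueField A →+* A, (IsLocalRing.residue A).comp σ = RingHom.id _ →
        ∃ σ' : IsLocalRing.ResidueField A' →+* A', (IsLocalRing.residue A').comp σ' = RingHom.id _ ∧
          σ'.comp (IsLocalRing.ResidueField.map (algebraMap A A')) = (algebraMap A A').comp σ := by
  haveI : Fact p.Prime := ⟨hp⟩
  refine ⟨?_, ?_⟩
  · letI : Algebra (ZMod p) A := ZMod.algebra A p
    haveI : CharP (IsLocalRing.ResidueField A) p := by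
      have h := charP_of_injective_ringHom (R := ZMod p) (A := IsLocalRing.ResidueField A)
        (f := (IsLocalRing.residue A).comp (algebraMap (ZMod p) A)) (RingHom.injective _) p
      exact h
    letI : Algebra (ZMod p) (IsLocalRing.ResidueField A) :=
      ((IsLocalRing.residue A).comp (algebraMap (ZMod p) A)).toAlgebra
    haveI : Algebra.FormallySmooth (ZMod p) (IsLocalRing.ResidueField A) :=
      Groth.Agent.CalgC.SepField.formallySmooth_of_perfectField (ZMod p) (IsLocalRing.ResidueField A)
    obtain ⟨σ, hσ, -⟩ := exists_section (k := ZMod p) (IsLocalRing.residue A) IsLocalRing.residue_surjective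
      (isNilpotent_ker_residue hnil) (algebraMap (ZMod p) A) rfl
    exact ⟨σ, hσ⟩
  · intro A' _ _ _ _ hnil' hgeo σ hσ
    haveI : Algebra.FormallySmooth (IsLocalRing.ResidueField A) (IsLocalRing.ResidueField A') :=
      (Groth.Agent.CalgC.SepDiff.formallySmooth_iff_isGeometricallyReduced _ _).mpr hgeo
    refine exists_section (IsLocalRing.residue A') IsLocalRing.residue_surjective
      (isNilpotent_ker_residue hnil') ((algebraMap A A').comp σ) ?_
    ext x
    obtain ⟨a, rfl⟩ := IsLocalRing.residue_surjective x
    have h1 : IsLocalRing.residue A (σ (IsLocalRing.residue A a)) = IsLocalRing.residue A a :=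
      RingHom.congr_fun hσ _
    have h2 := congrArg (algebraMap (IsLocalRing.ResidueField A) (IsLocalRing.ResidueField A')) h1
    exact h2

end Groth.Agent.S7150
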