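import Groth.Statements.S18104
import Groth.Agent.EtCoh.K611.Om
import Groth.Agent.S0002
import Groth.Agent.Dual.H339.OmegaRank
import Groth.Agent.PerfA.CohSerre
import Groth.Agent.Fdesc.StructMod
import Groth.Agent.Ega2.QCohLocal

set_option autoImplicit false
universe u
open CategoryTheory CategoryTheory.Limits AlgebraicGeometry
open EtCoh

namespace Groth.Agent.S18104

open K611.Sh K611.Seq K611.Om K611.Zar K611.Exact K611.Charts

/-- The cohomology of a coherent module on a proper scheme over a finite field is finite. -/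
theorem finite_HH (k : Type u) [Field k] [Finite k] (X : Scheme.{u}) (f : X ⟶ Spec (.of k)) [IsProper f]
    (M : X.Modules) (hM : Coh.IsCoh M) (i : ℕ) : Finite (Coh.HH X M i) := by
  let : X.Over (Spec (CommRingCat.of k)) := ⟨f⟩
  have : IsProper (X ↘ Spec (CommRingCat.of k)) := ‹IsProper f›
  have h := Groth.Agent.S0002.result k X M hM i
  exact Module.finite_of_finite k

theorem cast_p_eq_zero (k : Type u) [Field k] (p : ℕ) [CharP k p]
    (X : Scheme.{u}) (f : X ⟶ Spec (.of k)) : (p : Γ(X, ⊤)) = 0 := by
  have h1 := congrArg ((Scheme.ΓSpecIso (CommRingCat.of k)).inv ≫ f.appTop).hom (CharP.cast_eq_zero k p)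
  rwa [map_natCast, map_zero] at h1

theorem finite_ga (k : Type u) [Field k] [Finite k] (p : ℕ) [Fact p.Prime] [CharP k p]
    (X : Scheme.{u}) (f : X ⟶ Spec (.of k)) [IsProper f] (i : ℕ) : Finite (EtCoh.H X (EtCoh.Ga X) i) := by
  have : IsLocallyNoetherian X := LocallyOfFiniteType.isLocallyNoetherian f
  exact (Groth.Agent.Etbase.GaZar.gaEquiv X i).toEquiv.finite_iff.1
    (finite_HH k X f _ (Groth.Agent.Fdesc.StructMod.isCoh_structureModule X) i)

theorem finite_om (k : Type u) [Field k] [Finite k] (p : ℕ) [Fact p.Prime] [CharP k p]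
    (X : Scheme.{u}) (f : X ⟶ Spec (.of k)) [IsProper f] (m : ℕ) [SmoothOfRelativeDimension m f] (i : ℕ) :
    Finite (EtCoh.H X (sh OmF X) i) := by
  have hcoh : Coh.IsCoh (Omega.sheaf f) := Groth.Agent.PerfA.CohSerre.isCoh_of_isFinLocFree
    (Groth.Agent.Ega2.QCohLocal.isFinLocFree_of_rank
      (Groth.Agent.Dual.H339.OmegaRank.isFinLocFreeOfRank_omega m f))
  exact ((omMod p f).cmp (omBC p) (cast_p_eq_zero k p X f) i).toEquiv.finite_iff.1
    (finite_HH k X f _ hcoh i)

/-- Let k be a finite field of characteristic p and X an integral scheme, proper and smooth of relative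
dimension m over k. Then for every i the étale cohomology groups H^i(X_et, Z/pZ) and H^i(X_et,
G_m/G_m^p) are finite, where G_m/G_m^p is the cokernel of the p-th power map on the multiplicative
group over the small étale site of X. (The source asserts finiteness of H^i(X_et, ν(r)) for every r,
ν(r) being the sheaf of closed r-forms fixed by the Cartier operator; ν(0) is the constant sheaf
Z/pZ, and ν(1) is identified with G_m/G_m^p by the logarithmic derivative.) -/
theorem result
    (k : Type u) [Field k] [Finite k] (p : ℕ) [Fact p.Prime] [CharP k p]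
    (X : Scheme.{u}) (f : X ⟶ Spec (.of k)) [AlgebraicGeometry.IsIntegral X] [IsProper f]
    (m : ℕ) [SmoothOfRelativeDimension m f] (i : ℕ) :
    Finite (EtCoh.H X (EtCoh.const X (ZMod p)) i) ∧
      Finite (EtCoh.H X (cokernel (EtCoh.powMap X p)) i) := by
  have h0 := cast_p_eq_zero k p X f
  exact ⟨finite_const h0 (finite_ga k p X f) i,
    finite_nu h0 (hasCharts p k X f m) (finite_ga k p X f) (finite_om k p X f m) i⟩


end Groth.Agent.S18104
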