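import Groth.Statements.S15764
import Groth.Agent.EtCoh.K23.FGMain
import Groth.Agent.EtCoh.K23.FGLaurentAlg

set_option autoImplicit false
universe u
open CategoryTheory CategoryTheory.Limits AlgebraicGeometry Opposite Polynomial
open EtCoh

namespace Groth.Agent.S15764

/-- The instance R{t}[1/t] → R((t)): for any ring R and any torsion abelian étale sheaf F on Spec
R{t}[1/t] (R{t} a henselization of R[t] along (t), χ : R{t}[1/t] → R((t)) the canonical map),
pullback along Spec χ induces bijections on étale cohomology in every degree. (The published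
statement is RΓ(B, F) ≅ RΓ(B̂, F) for any topological ring B with a Henselian open nonunital subring
whose induced topology has a neighbourhood base of zero consisting of ideals; this row is the
degreewise statement for R{t}[1/t] → R((t)).) Exactness of χ⁻¹ is carried as an instance binder. -/
theorem result (R : Type u) [CommRing R]
    (B : Type u) [CommRing B] [Algebra R[X] B] (hB : Hens2.IsPairHenselization R[X] (Ideal.span {(X : R[X])}) B)
    (ψ : B →ₐ[R[X]] PowerSeries R)
    (χ : Localization.Away (algebraMap R[X] B X) →+* LaurentSeries R)
    (hχ : χ.comp (algebraMap B (Localization.Away (algebraMap R[X] B X))) =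
      (HahnSeries.ofPowerSeries ℤ R).comp ψ.toRingHom)
    [PreservesFiniteLimits (EtCoh.pull (Spec.map (CommRingCat.ofHom χ)))]
    (F : EtCoh.Ab (Spec (CommRingCat.of (Localization.Away (algebraMap R[X] B X))))) (hF : EtCoh.IsTorsion F)
    (i : ℕ) :
    Function.Bijective (EtCore.Hpull (Spec.map (CommRingCat.ofHom χ)) F i) := by
  have := K23.FGLaurentAlg.henselianRing R B hB
  have := K23.FGLaurentAlg.henselianRing_powerSeries R
  exact K23.FGMain.Hpull_bijective_away (algebraMap R[X] B X) (PowerSeries.X : PowerSeries R) ψ.toRingHom
    (K23.FGLaurentAlg.psi_X R B ψ) (K23.FGLaurentAlg.inj R B hB ψ) (K23.FGLaurentAlg.surj R B ψ) χ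
    (fun a => RingHom.congr_fun hχ a) F hF i

end Groth.Agent.S15764
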