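import Groth.Statements.S18315
import Groth.Agent.CGrpSh.K731.SmCA
import Groth.Agent.Etrest.FppfExact

set_option autoImplicit false
universe u
open CategoryTheory AlgebraicGeometry
open CGrpSh

namespace Groth.Agent.S18315

/-- Let S be a scheme and G a commutative group scheme over S whose structure morphism G → S is smooth.
Then for every n the étale cohomology group H^n(S_ét, a_* G) of the restriction to the small étale
site of the abelian fppf sheaf of points of G is isomorphic to the fppf cohomology group H^n(S_fppf,
G). Only the existence of an additive isomorphism is asserted here (the source's identification is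
the canonical comparison map); the source allows commutative smooth group algebraic spaces, the
group-scheme case is stated. -/
theorem result (S : Scheme.{u}) (G : Over S) [GrpObj G] [IsCommMonObj G]
    [Smooth G.hom] (n : ℕ) :
    Nonempty (EtCoh.H S ((EtFppf.aPush S).obj (CGrpSh.pts Scheme.fppfPrecoverage G)) n ≃+
      EtFppf.HF S (CGrpSh.pts Scheme.fppfPrecoverage G) n) := by
  have hR : ∀ q : ℕ, 0 < q → Limits.IsZero ((EtFppf.RaPush S q).obj (CGrpSh.pts Scheme.fppfPrecoverage G)) :=
    fun q hq => Groth.Agent.Etrest.FppfMain.isZero_rightDerived_of_CA (EtFppf.aPush S)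
      (fun α h => Groth.Agent.Etrest.FppfMain.epi_aPush α h) (G := CGrpSh.pts Scheme.fppfPrecoverage G)
      (K731.SmAlg.ca_pts G) q hq
  obtain ⟨e⟩ := Groth.Agent.Etrest.RAcyc.nonempty_extAddEquiv (EtFppf.aAdj S)
    (Groth.Agent.Etrest.FppfExact.aPush_injective S) (G := CGrpSh.pts Scheme.fppfPrecoverage G) hR
    ((constantSheaf S.smallEtaleTopology AddCommGrpCat.{u + 1}).obj (AddCommGrpCat.of (ULift ℤ))) n
  have e2 : Abelian.Ext ((EtFppf.aPull S).obj ((constantSheaf S.smallEtaleTopology AddCommGrpCat.{u + 1}).obj
      (AddCommGrpCat.of (ULift ℤ)))) (CGrpSh.pts Scheme.fppfPrecoverage G) n ≃+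
        EtFppf.HF S (CGrpSh.pts Scheme.fppfPrecoverage G) n :=
    (((Abelian.extFunctor n).mapIso
      (Groth.Agent.Etrest.FppfExact.constIso S (AddCommGrpCat.of (ULift ℤ))).symm.op).app
        (CGrpSh.pts Scheme.fppfPrecoverage G)).addCommGroupIsoToAddEquiv
  exact ⟨e.trans e2⟩

end Groth.Agent.S18315
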