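import Groth.Statements.S18106
import Groth.Agent.EtCoh.K611.Fin
import Groth.Agent.EtCoh.K611.Surf
import Groth.Agent.Krr.H495.ExtExist

set_option autoImplicit false
universe u
open CategoryTheory CategoryTheory.Limits AlgebraicGeometry
open EtCoh

namespace Groth.Agent.S18106

open K611.Sh K611.Seq K611.Seq2 K611.Om K611.Zar K611.Glue K611.Exact K611.Cart K611.Dict K611.Dual K611.VanEt
  K611.Pair K611.Calc K611.Count K611.Curve K611.NodeT K611.Charts2 K611.Fin K611.Surf Opposite

theorem prod_four (g : ℕ → ℚ) : ∏ i ∈ Finset.range 4, g i ^ ((-1) ^ i : ℤ) = g 0 * (g 1)⁻¹ * g 2 * (g 3)⁻¹ := by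
  rw [Finset.prod_range_succ, Finset.prod_range_succ, Finset.prod_range_succ, Finset.prod_range_succ,
    Finset.prod_range_zero]
  norm_num

theorem nat_four (a b c d : ℕ) (ha : a ≠ 0) (hb : b ≠ 0) (had : a = d)
    (h : (a : ℚ) * (b : ℚ)⁻¹ * (c : ℚ) * (d : ℚ)⁻¹ = 1) : c = b := by
  subst had
  have h1 : (b : ℚ) ≠ 0 := Nat.cast_ne_zero.2 hb
  have h3 : (a : ℚ) ≠ 0 := Nat.cast_ne_zero.2 ha
  have h2 : (c : ℚ) = b := by
    field_simp at h
    exact h
  exact_mod_cast h2

theorem chi_four {X : Scheme.{u}} (F : EtCoh.Ab X) (h : K611.chi 4 F = 1) (h0 : ∀ i, Finite (EtCoh.H X F i))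
    (h3 : Nat.card (EtCoh.H X F 0) = Nat.card (EtCoh.H X F 3)) :
    Nat.card (EtCoh.H X F 2) = Nat.card (EtCoh.H X F 1) := by
  have e1 := prod_four (fun i => (Nat.card (EtCoh.H X F i) : ℚ))
  have := h0 1
  have := h0 0
  exact nat_four _ _ _ _ Nat.card_pos.ne' Nat.card_pos.ne' h3 (e1.symm.trans h)

/-- Let k be a finite field of characteristic p and X an integral scheme, proper and smooth of relative
dimension 2 over k. For i ≤ 3 the étale cohomology group H^i(X_et, G_m/G_m^p), with G_m/G_m^p the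
cokernel of the p-th power map on the multiplicative group over the small étale site of X, is
isomorphic to H^{3-i}(X_et, G_m/G_m^p). (Existence of an isomorphism of abelian groups only: the
source gives a perfect pairing of finite groups H^i(X_et, ν(1)) × H^{3-i}(X_et, ν(1)) → Z/pZ built
from the cup product and a trace map, ν(1) being identified with G_m/G_m^p by the logarithmic
derivative; both groups being finite-dimensional over Z/pZ, the pairing yields such an isomorphism.) -/
theorem result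
    (k : Type u) [Field k] [Finite k] (p : ℕ) [Fact p.Prime] [CharP k p]
    (X : Scheme.{u}) (f : X ⟶ Spec (.of k)) [AlgebraicGeometry.IsIntegral X] [IsProper f]
    [SmoothOfRelativeDimension 2 f] (i : ℕ) (hi : i ≤ 3) :
    Nonempty (EtCoh.H X (cokernel (EtCoh.powMap X p)) i ≃+
      EtCoh.H X (cokernel (EtCoh.powMap X p)) (3 - i)) := by
  have h := cast_p_eq_zero k p X f
  have hX := hasChartsN p k X f 2
  have hXg := charts_good hX
  have h𝓑 := base k p X f 2
  have hga := van_ga k p X f 2 h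
  have hom := van_om k p X f 2 h
  have hs : Function.Surjective (Sheaf.H.map ((TD2 p).cl.sh (X := X) h) 2) := surj_cl2' h hX 2 hga hom
  obtain ⟨L, hLf, hL⟩ := Groth.Agent.Krr.H495.ExtExist.exists_isExtPow 2 (Omega.sheaf f)
    (Groth.Agent.Ega2.QCohLocal.isFinLocFree_of_rank
      (Groth.Agent.Dual.H339.OmegaRank.isFinLocFreeOfRank_omega 2 f))
  have hLc : Coh.IsCoh L := Groth.Agent.PerfA.CohSerre.isCoh_of_isFinLocFree hLf
  obtain ⟨T⟩ := K611.Om2L.exists_om2L (p := p) f hL h
  obtain ⟨t, ht, hd⟩ := main_t k p X f 2 (Or.inr rfl) (TD2 p) h L hLc hL T hs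
  have hb := bij_w h T t h𝓑 (omL p f) (hd _ (coh_omega k X f 2).1)
  have hbr := bij_r h T t h𝓑 (hd _ (coh_str k X f).1)
  -- the counts
  have hkν : ∀ (i : ℕ) (x : EtCoh.H X (nuSeq (X := X) h).X₁ i), p • x = 0 := by
    intro i x
    obtain ⟨y, rfl⟩ := (Hcongr (nuIso (X := X) h) i).surjective x
    rw [← map_nsmul, nsmul_H (nsmul_id_nu X p) i y, map_zero]
  have c3 := card_H_succ (nuSeq_shortExact h hXg) 2 (hom 3 (by norm_num)) (hkν 3) (fin_nu k p X f 2 h 3)
  have c0 := card_H_zero (nuSeq_shortExact h hXg)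
  have a1 := card_surf h hX T t ht (K611.VanEt.surj_cl h hXg 2 hga) hb hbr
  have k3 : Nat.card (EtCoh.H X (nuSeq (X := X) h).X₁ 0) = Nat.card (EtCoh.H X (nuSeq (X := X) h).X₁ 3) :=
    (c3.trans (a1.trans c0.symm)).symm
  have k1 : Nat.card (EtCoh.H X (nuSeq (X := X) h).X₁ 2) = Nat.card (EtCoh.H X (nuSeq (X := X) h).X₁ 1) :=
    chi_four _ (chi_nu k p X f 2 h 4 (by norm_num)) (fin_nu k p X f 2 h) k3
  have hcard : Nat.card (EtCoh.H X (nuSeq (X := X) h).X₁ i) =
      Nat.card (EtCoh.H X (nuSeq (X := X) h).X₁ (3 - i)) := by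
    interval_cases i
    · exact k3
    · exact k1.symm
    · exact k1
    · exact k3.symm
  have := fin_nu k p X f 2 h i
  have := fin_nu k p X f 2 h (3 - i)
  obtain ⟨e⟩ := K611.nonempty_addEquiv_of_card p _ _ (hkν i) (hkν (3 - i)) hcard
  exact ⟨(Hcongr (nuIso (X := X) h) i).trans (e.trans (Hcongr (nuIso (X := X) h) (3 - i)).symm)⟩

end Groth.Agent.S18106
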