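import Groth.Statements.S10882
import Groth.Agent.FlatMor.K260.EquidimDim
import Groth.Agent.S3440
import Groth.Agent.S0386
-- import your own Groth.Agent.* helpers here

set_option autoImplicit false
universe u
open CategoryTheory AlgebraicGeometry
open FlatMor

namespace Groth.Agent.S10882

/-- Let X and Y be schemes locally of finite type over a field k and f : X → Y a k-morphism, with Y
regular (all local rings regular), X Cohen–Macaulay (all local rings Cohen–Macaulay), X
equidimensional of dimension e, Y equidimensional of dimension d ≤ e, and all fibres of f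
equidimensional of dimension e − d (every irreducible component of every fibre has dimension e − d).
Then f is flat. -/
theorem result (k : Type u) [Field k] {X Y : Scheme.{u}}
    (q : Y ⟶ Spec (CommRingCat.of k)) [LocallyOfFiniteType q] (f : X ⟶ Y) [LocallyOfFiniteType (f ≫ q)]
    (hY : ∀ y : Y, IsRegularLocalRing (Y.presheaf.stalk y))
    (hX : ∀ x : X, LocCoh.IsCohenMacaulayLocalRing (X.presheaf.stalk x))
    (e d : ℕ) (hde : d ≤ e)
    (hXe : ∀ Z ∈ irreducibleComponents (X : Type u), topologicalKrullDim Z = e)
    (hYd : ∀ Z ∈ irreducibleComponents (Y : Type u), topologicalKrullDim Z = d)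
    (hfib : ∀ y : Y, ∀ Z ∈ irreducibleComponents (f.base ⁻¹' {y}), topologicalKrullDim Z = (e - d : ℕ)) :
    Flat f := by
  have hX' : IsLocallyNoetherian X := LocallyOfFiniteType.isLocallyNoetherian (f ≫ q)
  have hY' : IsLocallyNoetherian Y := LocallyOfFiniteType.isLocallyNoetherian q
  have hf : LocallyOfFiniteType f := locallyOfFiniteType_of_comp f q
  have hfp : LocallyOfFinitePresentation f :=
    { finitePresentation_appLE := fun {U} hU {V} hV e => by
        have : IsNoetherianRing Γ(Y, U) := IsLocallyNoetherian.component_noetherian ⟨U, hU⟩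
        exact RingHom.FinitePresentation.of_finiteType.1 (f.finiteType_appLE hU hV e) }
  have hJX : JacobsonSpace X := LocallyOfFiniteType.jacobsonSpace (f ≫ q)
  have hJY : JacobsonSpace Y := LocallyOfFiniteType.jacobsonSpace q
  -- flatness at closed points
  have key : ∀ x : X, IsClosed ({x} : Set X) → (f.stalkMap x).hom.Flat := by
    intro x hx
    have hy : IsClosed ({f x} : Set Y) := f.closePoints_subset_preimage_closedPoints hx
    have hxf : IsClosed ({f.asFiber x} : Set (f.fiber (f x))) := by
      have h1 : ({f.asFiber x} : Set (f.fiber (f x))) = (f.fiberι (f x)) ⁻¹' {x} := by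
        ext z
        simp only [Set.mem_singleton_iff, Set.mem_preimage]
        constructor
        · rintro rfl; exact f.fiberι_asFiber x
        · intro hz
          apply (f.fiberι (f x)).isEmbedding.injective
          rw [hz, f.fiberι_asFiber]
      rw [h1]
      exact hx.preimage (f.fiberι (f x)).continuous
    have d1 := K260.EquidimDim.ringKrullDim_stalk_eq (f ≫ q) e hXe x hx
    have d2 := K260.EquidimDim.ringKrullDim_stalk_eq q d hYd (f x) hy
    have hlf : LocallyOfFiniteType (f.fiberToSpecResidueField (f x)) :=
      MorphismProperty.pullback_snd _ _ inferInstance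
    have hcomp : ∀ C ∈ irreducibleComponents (f.fiber (f x) : Type u), topologicalKrullDim C = (e - d : ℕ) :=
      K260.EquidimDim.forall_dim_of_homeomorph (f.fiberHomeo (f x)).symm _ (hfib (f x))
    have d3 := K260.EquidimDim.ringKrullDim_stalk_eq (k := Y.residueField (f x))
      (f.fiberToSpecResidueField (f x)) (e - d) hcomp (f.asFiber x) hxf
    have htfae := Groth.Agent.S3440.result f x (hY _) (hX x)
    have h51 := htfae.out 4 1
    apply h51.1
    change ringKrullDim (X.presheaf.stalk x) =
        ringKrullDim (Y.presheaf.stalk (f x)) + ringKrullDim ((f.fiber (f x)).presheaf.stalk (f.asFiber x))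
    rw [d1, d2, d3]
    norm_cast
    omega
  rw [Flat.iff_flat_stalkMap]
  intro x
  obtain ⟨x₀, hx₀, hx₀c⟩ := nonempty_inter_closedPoints (Z := closure {x}) ⟨x, subset_closure rfl⟩
    isClosed_closure.isLocallyClosed
  have h1 : x ⤳ x₀ := by rwa [specializes_iff_mem_closure]
  exact h1.mem_open (Groth.Agent.S0386.result f) (key x₀ hx₀c)

end Groth.Agent.S10882
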