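import Groth.Statements.S13062
import Groth.Agent.Zeta.K656.Cover

set_option autoImplicit false
universe u
open CategoryTheory AlgebraicGeometry
open Zeta

namespace Groth.Agent.S13062

/-- If X is a variety of dimension r over a finite field k with q elements, there is a constant c_X > 0
with #X(F_{q^e}) ≤ c_X q^{re} for every e ≥ 1. Stated for any scheme of finite type over k of
dimension at most r, with a natural-number constant. -/
theorem result {k : Type u} [Field k] [Finite k] {X : Scheme.{u}}
    (f : X ⟶ Spec (CommRingCat.of k)) [LocallyOfFiniteType f] [QuasiCompact f] (r : ℕ)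
    (hr : topologicalKrullDim X ≤ r) :
    ∃ c : ℕ, ∀ (k' : Type u) [Field k'] [Algebra k k'] [Finite k'],
      SgaExt.pointCount f k' ≤ c * Nat.card k ^ (r * Module.finrank k k') := by
  classical
  have hcpt : CompactSpace X := QuasiCompact.compactSpace_of_compactSpace f
  obtain ⟨n, A, _, _, hft, hdim, hcard⟩ := K656.Cover.card_points_le f
  have hb : ∀ i, ∃ C : ℕ, ∀ (k' : Type u) [Field k'] [Finite k'] (φ : k →+* k'),
      K468.Cnt.N (A i) φ ≤ C * Nat.card k' ^ r := by
    intro i
    have hd : ringKrullDim (TensorProduct k k (A i)) ≤ r := by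
      rw [ringKrullDim_eq_of_ringEquiv (Algebra.TensorProduct.lid k (A i)).toRingEquiv]
      exact (hdim i).trans hr
    obtain ⟨h, hh, C, hC⟩ := K468.Cnt.upper_bound (R := k) (A := A i) k r hd
    exact ⟨C, fun k' _ _ φ => hC k' φ (by simpa using hh)⟩
  choose C hC using hb
  refine ⟨∑ i, C i, ?_⟩
  intro k' _ _ _
  have h1 := hcard k' (algebraMap k k')
  refine h1.trans ?_
  rw [Finset.sum_mul]
  refine Finset.sum_le_sum fun i _ => (hC i k' _).trans (le_of_eq ?_)
  rw [Module.natCard_eq_pow_finrank (K := k) (V := k'), ← pow_mul, mul_comm r]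

end Groth.Agent.S13062
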