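import Groth.Statements.S16268

set_option autoImplicit false
universe u w v v₁
open CategoryTheory CategoryTheory.Limits AlgebraicGeometry Opposite
open EtCore

namespace Groth.Agent.S16268

section General

variable {C : Type v₁} [Category.{v} C] {T Y : C} [HasBinaryProduct Y Y]

/-- The sheaf condition for a single morphism onto a terminal object, when the self-product of the source is
"covered" by the graphs of a group action. -/
theorem isSheafFor_iff (hT : IsTerminal T) {G : Type u} [Group G] (σ : G →* Aut Y)
    (P : Cᵒᵖ ⥤ Type w)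
    (hP : Function.Injective
      (fun s : P.obj (op (Y ⨯ Y)) => fun g : G => P.map (prod.lift (𝟙 Y) (σ g).hom).op s)) :
    Presieve.IsSheafFor P (Presieve.singleton (hT.from Y)) ↔
      (Function.Injective (P.map (hT.from Y).op) ∧
        Set.range (P.map (hT.from Y).op) = {s | ∀ g : G, P.map (σ g).hom.op s = s}) := by
  have key : ∀ x : P.obj (op Y),
      (∀ {Z : C} (p₁ p₂ : Z ⟶ Y), p₁ ≫ hT.from Y = p₂ ≫ hT.from Y →
        P.map p₁.op x = P.map p₂.op x) ↔ ∀ g : G, P.map (σ g).hom.op x = x := by
    intro x
    constructor
    · intro h g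
      have h1 := h (σ g).hom (𝟙 Y) (hT.hom_ext _ _)
      simpa using h1
    · intro h Z p₁ p₂ _
      have h1 : P.map (prod.fst : Y ⨯ Y ⟶ Y).op x = P.map (prod.snd : Y ⨯ Y ⟶ Y).op x := by
        apply hP
        funext g
        have e1 : P.map (prod.lift (𝟙 Y) (σ g).hom).op (P.map (prod.fst : Y ⨯ Y ⟶ Y).op x) = x := by
          rw [← FunctorToTypes.map_comp_apply, ← op_comp, prod.lift_fst]
          simp
        have e2 : P.map (prod.lift (𝟙 Y) (σ g).hom).op (P.map (prod.snd : Y ⨯ Y ⟶ Y).op x) = x := by
          rw [← FunctorToTypes.map_comp_apply, ← op_comp, prod.lift_snd]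
          exact h g
        exact e1.trans e2.symm
      have h2 := congrArg (P.map (prod.lift p₁ p₂).op) h1
      rw [← FunctorToTypes.map_comp_apply, ← FunctorToTypes.map_comp_apply, ← op_comp, ← op_comp,
        prod.lift_fst, prod.lift_snd] at h2
      exact h2
  rw [Presieve.isSheafFor_singleton]
  constructor
  · intro h
    refine ⟨fun a b hab => ?_, ?_⟩
    · obtain ⟨y, -, hy⟩ := h (P.map (hT.from Y).op a) (fun p₁ p₂ hp => by
        rw [← FunctorToTypes.map_comp_apply, ← FunctorToTypes.map_comp_apply, ← op_comp, ← op_comp,
          hp])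
      exact (hy a rfl).trans (hy b hab.symm).symm
    · ext s
      constructor
      · rintro ⟨a, rfl⟩ g
        rw [← FunctorToTypes.map_comp_apply, ← op_comp]
        exact congrArg (fun k => P.map (Quiver.Hom.op k) a) (hT.hom_ext _ _)
      · intro hs
        obtain ⟨y, hy, -⟩ := h s ((key s).2 hs)
        exact ⟨y, hy⟩
  · rintro ⟨hi, hr⟩ x hx
    have hx' : x ∈ {s | ∀ g : G, P.map (σ g).hom.op s = s} := (key x).1 hx
    rw [← hr] at hx'
    obtain ⟨y, hy⟩ := hx'
    exact ⟨y, hy, fun z hz => hi (hz.trans hy.symm)⟩

end General

/-- Let X be a scheme, Y an etale X-scheme with Y -> X surjective, and G a finite group acting on Y by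
X-automorphisms such that the morphisms (id, g) : Y -> Y x_X Y exhibit Y x_X Y as the coproduct of
copies of Y indexed by G (Y -> X is a Galois covering with group G). Let P be a presheaf of sets on
the small etale site of X which takes this coproduct to a product: s |-> (g |-> (id, g)^* s) is a
bijection from P(Y x_X Y) onto the G-indexed families in P(Y). Then P satisfies the sheaf condition
for the covering consisting of the single morphism Y -> X if and only if the restriction P(X) ->
P(Y) is injective and its image is the set of G-invariant elements of P(Y). -/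
theorem result (X : Scheme.{u})
    (Y : X.Etale) (hY : Function.Surjective Y.hom.base)
    {G : Type u} [Group G] [Finite G] (σ : G →* Aut Y)
    (hgal : Nonempty (IsColimit (Cofan.mk (Y ⨯ Y) (fun g : G => prod.lift (𝟙 Y) (σ g).hom))))
    (P : X.Etaleᵒᵖ ⥤ Type w)
    (hP : Function.Bijective (fun s : P.obj (op (Y ⨯ Y)) => fun g : G => P.map (prod.lift (𝟙 Y) (σ g).hom).op s)) :
    Presieve.IsSheafFor P (Presieve.singleton ((EtCore.topIsTerminal X).from Y)) ↔
      (Function.Injective (P.map ((EtCore.topIsTerminal X).from Y).op) ∧
        Set.range (P.map ((EtCore.topIsTerminal X).from Y).op) = {s | ∀ g : G, P.map (σ g).hom.op s = s}) :=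
  isSheafFor_iff (EtCore.topIsTerminal X) σ P hP.1

end Groth.Agent.S16268
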