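import Groth.Statements.S8538
import Groth.Agent.EtCd.K549.ClosDim

set_option autoImplicit false
universe u
open CategoryTheory CategoryTheory.Limits AlgebraicGeometry Opposite
open EtCd

namespace Groth.Agent.S8538

open Groth.Agent.CycB.RelDim in
/-- Let A be a Noetherian universally catenary local ring, f : X → Spec A a morphism of finite type, x a
point of X with image y, and X₀ the closed fibre of f. Put δ(x) = dim closure(y) + trdeg(κ(x)/κ(y))
= dim(A/p_y) + trdeg(κ(x)/κ(y)) and d(x) = dim closure(x) (topological Krull dimension of the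
closure of x in X). Then d(x) = δ(x) when the closure of x meets X₀, and d(x) + 1 = δ(x) when it
does not. -/
theorem result (A : Type u) [CommRing A] [IsNoetherianRing A] [IsLocalRing A]
    (hA : CAlg.IsUniversallyCatenary A) {X : Scheme.{u}} (f : X ⟶ Spec (CommRingCat.of A)) [LocallyOfFiniteType f]
    [QuasiCompact f] (x : X) (a b d : ℕ) (ha : ringKrullDim (A ⧸ (f.base x).asIdeal) = a)
    (hb : letI := (f.residueFieldMap x).hom.toAlgebra;
      Algebra.trdeg ((Spec (CommRingCat.of A)).residueField (f.base x)) (X.residueField x) = b)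
    (hd : topologicalKrullDim ↥(closure ({x} : Set X)) = d) :
    ((closure ({x} : Set X) ∩ f.base ⁻¹' {((IsLocalRing.closedPoint A : PrimeSpectrum A) : ↥(Spec (CommRingCat.of A)))}).Nonempty →
        d = a + b) ∧
    (closure ({x} : Set X) ∩ f.base ⁻¹' {((IsLocalRing.closedPoint A : PrimeSpectrum A) : ↥(Spec (CommRingCat.of A)))} = ∅ →
        d + 1 = a + b) := by
  obtain ⟨Z, i, hi, hZ, hη, hr⟩ := CycA.ClosurePt.exists_closure_subscheme x
  have hg : (i ≫ f) (genericPoint Z) = f x := by rw [Scheme.Hom.comp_apply, hη]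
  have hb' : rtd (i ≫ f) (genericPoint Z) = b := by
    rw [rtd_comp, rtd_eq_zero_of_isPreimmersion i, add_zero, hη]
    exact hb
  have ha' : ringKrullDim (A ⧸ ((i ≫ f) (genericPoint Z)).asIdeal) = a := by
    rw [hg]; exact ha
  have hdim : topologicalKrullDim Z = d := by
    rw [← hd, ← hr]
    exact IsHomeomorph.topologicalKrullDim_eq _ i.isEmbedding.toHomeomorph.isHomeomorph
  obtain ⟨h1, h2⟩ := K549.ClosDim.main hA (i ≫ f) a b ha' hb'
  constructor
  · rintro ⟨z, hz, hz'⟩
    rw [← hr] at hz
    obtain ⟨z, rfl⟩ := hz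
    have h3 := h1 ⟨z, hz'⟩
    rw [hdim] at h3
    exact_mod_cast h3
  · intro hem
    obtain ⟨d', hd', e⟩ := h2 (fun z hz => by
      have : i z ∈ (∅ : Set X) := by
        rw [← hem]
        refine ⟨?_, hz⟩
        rw [← hr]
        exact ⟨z, rfl⟩
      exact this)
    rw [hdim] at hd'
    have : d = d' := by exact_mod_cast hd'
    omega

end Groth.Agent.S8538
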