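import Groth.Statements.S12460
import Groth.Agent.Models.RMOpen

set_option autoImplicit false
universe u
open CategoryTheory AlgebraicGeometry
open Props

namespace Groth.Agent.S12460

/-- (1) ⇔ (3) ⇔ (4): let X be a locally Noetherian scheme. Then X is J-2 — for every morphism Y → X
locally of finite type the set of points y with O_{Y,y} a regular local ring is open in Y — if and
only if for every affine open U of X the ring Γ(X, U) is J-2 (every finite type algebra over it has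
open regular locus), if and only if every point of X lies in such an affine open. (Schemes Y over X
are taken in the universe of X.) -/
theorem result (X : Scheme.{u}) [IsLocallyNoetherian X] :
    ((∀ (Y : Scheme.{u}) (g : Y ⟶ X), LocallyOfFiniteType g →
        IsOpen {y : Y | IsRegularLocalRing (Y.presheaf.stalk y)}) ↔
      ∀ U : X.affineOpens, EGA4.IsJ2 Γ(X, U)) ∧
    ((∀ (Y : Scheme.{u}) (g : Y ⟶ X), LocallyOfFiniteType g →
        IsOpen {y : Y | IsRegularLocalRing (Y.presheaf.stalk y)}) ↔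
      ∀ x : X, ∃ U : X.affineOpens, x ∈ (U : X.Opens) ∧ EGA4.IsJ2 Γ(X, U)) := by
  have h1 : (∀ (Y : Scheme.{u}) (g : Y ⟶ X), LocallyOfFiniteType g →
        IsOpen {y : Y | IsRegularLocalRing (Y.presheaf.stalk y)}) →
      ∀ U : X.affineOpens, EGA4.IsJ2 Γ(X, U) := by
    rintro h ⟨U, hU⟩ B _ _ hB
    have hft : LocallyOfFiniteType (Spec.map (CommRingCat.ofHom (algebraMap Γ(X, U) B))) := by
      rw [HasRingHomProperty.Spec_iff (P := @LocallyOfFiniteType)]
      exact RingHom.finiteType_algebraMap.mpr hB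
    have ho := h (Spec (CommRingCat.of B))
      (Spec.map (CommRingCat.ofHom (algebraMap Γ(X, U) B)) ≫ hU.fromSpec) inferInstance
    have he : {y : Spec (CommRingCat.of B) |
        IsRegularLocalRing ((Spec (CommRingCat.of B)).presheaf.stalk y)} = EGA4.regLocus B := by
      ext w
      exact Groth.Agent.Models.RMOpen.stalk_iff w
    rw [he] at ho
    exact ho
  have h2 : (∀ U : X.affineOpens, EGA4.IsJ2 Γ(X, U)) →
      ∀ x : X, ∃ U : X.affineOpens, x ∈ (U : X.Opens) ∧ EGA4.IsJ2 Γ(X, U) := by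
    intro h s
    obtain ⟨U, hU, hs, -⟩ := exists_isAffineOpen_mem_and_subset (X := X) (x := s) (U := ⊤) trivial
    exact ⟨⟨U, hU⟩, hs, h _⟩
  have h3 : (∀ x : X, ∃ U : X.affineOpens, x ∈ (U : X.Opens) ∧ EGA4.IsJ2 Γ(X, U)) →
      ∀ (Y : Scheme.{u}) (g : Y ⟶ X), LocallyOfFiniteType g →
        IsOpen {y : Y | IsRegularLocalRing (Y.presheaf.stalk y)} := by
    intro h Y g hg
    rw [isOpen_iff_forall_mem_open]
    intro y hy
    obtain ⟨⟨U, hU⟩, hyU, hJ⟩ := h (g y)
    have ho := Groth.Agent.Models.RMOpen.isOpen_reg_of_isJ2 hJ ((g ∣_ U) ≫ hU.isoSpec.hom)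
    refine ⟨(g ⁻¹ᵁ U).ι '' {x : (g ⁻¹ᵁ U : Y.Opens) | IsRegularLocalRing
      ((g ⁻¹ᵁ U : Y.Opens).toScheme.presheaf.stalk x)}, ?_,
      (g ⁻¹ᵁ U).ι.isOpenEmbedding.isOpenMap _ ho, ⟨⟨y, hyU⟩, ?_, rfl⟩⟩
    · rintro _ ⟨w, hw, rfl⟩
      exact (Groth.Agent.Models.RMOpen.stalk_openImmersion_iff (g ⁻¹ᵁ U).ι w).2 hw
    · exact (Groth.Agent.Models.RMOpen.stalk_openImmersion_iff (g ⁻¹ᵁ U).ι ⟨y, hyU⟩).1 hy
  exact ⟨⟨h1, fun h => h3 (h2 h)⟩, ⟨fun h => h2 (h1 h), h3⟩⟩

end Groth.Agent.S12460
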