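import Groth.Statements.S6179
import Groth.Agent.Etbase.StrictHensPoint
import Groth.Agent.Sga4A.EtStalk

set_option autoImplicit false
open CategoryTheory CategoryTheory.Limits AlgebraicGeometry Opposite
universe u
open EtDesc

namespace Groth.Agent.S6179

/-- Let R be a strictly henselian local ring, X = Spec R and x̄ : Spec κ(R) -> X the closed geometric
point. For every etale sheaf of sets F on X the canonical map Γ(X, F) -> F_x̄ into the stalk (the
colimit of F(X') over the x̄-pointed etale X-schemes X', taken at X' = X) is bijective; in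
particular the global-sections functor is isomorphic to the fibre functor at x̄ and commutes with
all colimits. -/
theorem result (R : Type u) [CommRing R]
    [HenselianLocalRing R] [IsSepClosed (IsLocalRing.ResidueField R)]
    (F : EtDesc.Sh (Spec (CommRingCat.of R))) :
    Function.Bijective ((Scheme.pointSmallEtale
      (Spec.map (CommRingCat.ofHom (IsLocalRing.residue R)))).toPresheafFiber (A := Type (u + 1))
        (EtCoh.top (Spec (CommRingCat.of R)))
        (Over.homMk (Spec.map (CommRingCat.ofHom (IsLocalRing.residue R))) (Category.comp_id _)) F.obj) := by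
  open Groth.Agent.Etbase Groth.Agent.Sga4A.EtStalk in
  constructor
  · intro z₁ z₂ h
    obtain ⟨Y, f, m, hm, hyz⟩ := (Groth.Agent.Sga4A.EtStalk.germ_eq_iff F
      (U := EtCoh.top (Spec (CommRingCat.of R)))
      (Spec.map (CommRingCat.ofHom (IsLocalRing.residue R))) (Category.comp_id _) z₁ z₂).1 h
    have hm' : m ≫ Y.hom = Spec.map (CommRingCat.ofHom (IsLocalRing.residue R)) := by
      have w : f.left ≫ (EtCoh.top (Spec (CommRingCat.of R))).hom = Y.hom := Over.w f.hom
      rw [← w, ← Category.assoc, hm]
      exact Category.comp_id _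
    obtain ⟨s, hs⟩ := Groth.Agent.Etbase.StrictHensPoint.exists_section R Y (Over.homMk m hm')
    have hsf : s ≫ f = 𝟙 _ := Groth.Agent.Etbase.StrictHensPoint.hom_top_unique _ _
    have := congrArg (F.obj.map s.op) hyz
    simp only [← ConcreteCategory.comp_apply, ← F.obj.map_comp, ← op_comp, hsf] at this
    simpa using this
  · intro p
    obtain ⟨X, l, hl, z, hz⟩ := Groth.Agent.Sga4A.EtStalk.exists_germ F p
    obtain ⟨s, hs⟩ := Groth.Agent.Etbase.StrictHensPoint.exists_section R X (Over.homMk l hl)
    refine ⟨F.obj.map s.op z, ?_⟩
    have h1 : Spec.map (CommRingCat.ofHom (IsLocalRing.residue R)) ≫ s.left = l :=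
      congrArg (fun t => t.left) hs
    refine Eq.trans (Groth.Agent.Sga4A.EtStalk.germ_res' F s
      (Spec.map (CommRingCat.ofHom (IsLocalRing.residue R))) (Category.comp_id _) l hl h1 z) hz

end Groth.Agent.S6179
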