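import Groth.Statements.S5807
import Mathlib.RingTheory.RegularLocalRing.Polynomial
import Mathlib.RingTheory.Localization.BaseChange
import Mathlib.RingTheory.Localization.Submodule
import Mathlib.RingTheory.FiniteType

set_option autoImplicit false
universe u
open EGA41

namespace Groth.Agent.S5807

/-- A localization of a regular ring is regular. -/
theorem isRegularRing_of_isLocalization (R S : Type*) [CommRing R] [CommRing S] [Algebra R S]
    (M : Submonoid R) [IsLocalization M S] [IsRegularRing R] : IsRegularRing S := by
  have : IsNoetherianRing S := IsLocalization.isNoetherianRing M S inferInstance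
  refine isRegularRing_iff.2 fun q _ => ?_
  have : IsLocalization.AtPrime (Localization.AtPrime q) (q.under R) :=
    IsLocalization.isLocalization_isLocalization_atPrime_isLocalization M (Localization.AtPrime q) q
  exact IsRegularLocalRing.of_ringEquiv (IsLocalization.algEquiv (q.under R).primeCompl
    (Localization.AtPrime (q.under R)) (Localization.AtPrime q)).toRingEquiv

/-- Let A be a Noetherian ring which is a quotient of a regular ring B, and C an A-algebra of finite
type. Then every ring of fractions of C is a quotient of a regular ring. -/
theorem result (B A C : Type u) [CommRing B]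
    [IsRegularRing B] [CommRing A] (π : B →+* A) (hπ : Function.Surjective π) [CommRing C] [Algebra A C]
    [Algebra.FiniteType A C] (S : Submonoid C) :
    ∃ (R : Type u) (_ : CommRing R) (_ : IsRegularRing R) (f : R →+* Localization S),
      Function.Surjective f := by
  obtain ⟨n, f, hf⟩ := Algebra.FiniteType.iff_quotient_mvPolynomial''.1
    (inferInstance : Algebra.FiniteType A C)
  let φ : MvPolynomial (Fin n) B →+* C := f.toRingHom.comp (MvPolynomial.map π)
  have hφ : Function.Surjective φ := hf.comp (MvPolynomial.map_surjective π hπ)
  let T : Submonoid (MvPolynomial (Fin n) B) := S.comap φ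
  refine ⟨Localization T, inferInstance,
    isRegularRing_of_isLocalization (MvPolynomial (Fin n) B) (Localization T) T,
    IsLocalization.map (Localization S) φ (le_refl T), ?_⟩
  intro y
  obtain ⟨⟨c, s⟩, rfl⟩ := IsLocalization.mk'_surjective S y
  obtain ⟨p, hp⟩ := hφ c
  obtain ⟨t, ht⟩ := hφ s
  have htT : t ∈ T := by
    change φ t ∈ S
    rw [ht]
    exact s.2
  refine ⟨IsLocalization.mk' (Localization T) p ⟨t, htT⟩, ?_⟩
  rw [IsLocalization.map_mk']
  simp only [hp, ht]
end Groth.Agent.S5807
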