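import Groth.Statements.S8546
import Groth.Agent.S0135
import Groth.Agent.S0127
import Groth.Agent.EtpbcA.StrataGlob
import Groth.Agent.EtpbcA.ConstrTop

set_option autoImplicit false
universe u
open CategoryTheory CategoryTheory.Limits AlgebraicGeometry Opposite
open EtPBC

namespace Groth.Agent.S8546

theorem aux {X Y : Scheme.{u}} [IsAffine Y] (f : X ⟶ Y) [Surjective f]
    [LocallyOfFinitePresentation f] (F : EtCoh.Ab Y)
    (h : EtPBC.IsConstructible ((EtCoh.pull f).obj F)) : EtPBC.IsConstructible F := by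
  let g : ∀ i, X.affineCover.X i ⟶ Y := fun i => X.affineCover.f i ≫ f
  have hqc : ∀ i, QuasiCompact (g i) := fun i => by
    rw [quasiCompact_iff_compactSpace]
    infer_instance
  have hc : ∀ i, Topology.IsConstructible (Set.range (g i)) := fun i => by
    have := hqc i
    rw [← Set.image_univ]
    exact (Scheme.Hom.isLocallyConstructible_image (g i) .univ).isConstructible
  obtain ⟨t, ht⟩ := Groth.Agent.EtpbcA.ConstrTop.finite_subcover _ hc (by
    rw [Set.eq_univ_iff_forall]
    intro y
    obtain ⟨x, rfl⟩ := f.surjective y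
    obtain ⟨i, z, rfl⟩ := X.affineCover.exists_eq x
    exact Set.mem_iUnion.2 ⟨i, z, by simp [g]⟩)
  let p : (∐ fun i : t => X.affineCover.X i) ⟶ X := Sigma.desc fun i => X.affineCover.f i
  have hsurj : Surjective (p ≫ f) := by
    constructor
    intro y
    obtain ⟨i, hi⟩ := Set.mem_iUnion.1 (ht.symm ▸ Set.mem_univ y)
    obtain ⟨hit, z, hz⟩ := Set.mem_iUnion.1 hi
    refine ⟨(Sigma.ι (fun i : t => X.affineCover.X i) ⟨i, hit⟩) z, ?_⟩
    rw [← hz, ← Scheme.Hom.comp_apply]
    simp [p, g]
  rw [Groth.Agent.S0135.result (p ≫ f) F]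
  exact Groth.Agent.EtpbcA.StrataGlob.isConstructible_of_iso
    ((Groth.Agent.EtpbcA.PullFLC.pullComp p f).symm.app F |>.symm)
    (Groth.Agent.S0127.result p _ h)

/-- Let f : X → Y be a surjective morphism locally of finite presentation and F an abelian sheaf on the
small etale site of Y. Then F is constructible if and only if f⁻¹F is constructible. (No
quasi-compactness hypothesis on X or Y.) -/
theorem result {X Y : Scheme.{u}} (f : X ⟶ Y) [Surjective f]
    [LocallyOfFinitePresentation f] (F : EtCoh.Ab Y) :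
    EtPBC.IsConstructible F ↔ EtPBC.IsConstructible ((EtCoh.pull f).obj F) := by
  refine ⟨fun h => Groth.Agent.S0127.result f F h, fun h => ?_⟩
  refine Groth.Agent.EtpbcA.StrataGlob.isConstructible_of_openImmersions F
    Y.affineCover.X Y.affineCover.f (fun y => ?_) (fun i => ?_)
  · obtain ⟨i, z, rfl⟩ := Y.affineCover.exists_eq y
    exact ⟨i, z, rfl⟩
  · refine aux (pullback.snd f (Y.affineCover.f i)) _ ?_
    have e : (EtCoh.pull (pullback.snd f (Y.affineCover.f i))).obj
        ((EtCoh.pull (Y.affineCover.f i)).obj F) ≅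
        (EtCoh.pull (pullback.fst f (Y.affineCover.f i))).obj ((EtCoh.pull f).obj F) :=
      (Groth.Agent.EtpbcA.PullFLC.pullComp _ _).app F ≪≫
        eqToIso (by rw [pullback.condition]) ≪≫
        ((Groth.Agent.EtpbcA.PullFLC.pullComp _ _).app F).symm
    exact Groth.Agent.EtpbcA.StrataGlob.isConstructible_of_iso e.symm
      (Groth.Agent.S0127.result _ _ h)

end Groth.Agent.S8546
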