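import Groth.Statements.S18140
import Groth.Agent.EtDual.K152.DvrPure
import Groth.Agent.S0598
import Groth.Agent.S2704
import Groth.Agent.S5784
import Groth.Agent.CalgB.PowSer
import Groth.Agent.CalgB.PowSerMap

set_option autoImplicit false
universe u
open CategoryTheory CategoryTheory.Limits AlgebraicGeometry Opposite
open EtDual

namespace Groth.Agent.S18140

open IsLocalRing Groth.Agent in
theorem isSepClosed_of_ringEquiv {k k' : Type*} [Field k] [Field k'] [IsSepClosed k] (φ : k ≃+* k') :
    IsSepClosed k' := by
  refine IsSepClosed.of_exists_root _ fun p _ hirr hsep => ?_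
  obtain ⟨x, hx⟩ := IsSepClosed.exists_root (p.map (φ.symm : k' →+* k))
    (by rw [Polynomial.degree_map]; exact hirr.degree_pos.ne') (hsep.map)
  refine ⟨φ x, ?_⟩
  have h1 : (φ.symm : k' →+* k) (p.eval (φ x)) = 0 := by
    rw [← Polynomial.eval_map_apply]
    simpa using hx
  exact (map_eq_zero_iff _ φ.symm.injective).mp h1

open IsLocalRing in
theorem isLocalHom_algebraMap (V : Type u) [CommRing V] [IsLocalRing V] (m : ℕ) :
    IsLocalHom (algebraMap V (MvPowerSeries (Fin m) V)) := by
  refine ⟨fun a ha => ?_⟩
  rw [MvPowerSeries.algebraMap_apply, Algebra.algebraMap_self, RingHom.id_apply] at ha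
  have h1 := ha.map (MvPowerSeries.constantCoeff (σ := Fin m) (R := V))
  rwa [MvPowerSeries.constantCoeff_C] at h1

open IsLocalRing in
/-- The power series ring over a complete local ring with separably closed residue field is strictly
henselian. -/
theorem isStrictlyHenselian (V : Type u) [CommRing V] [IsLocalRing V]
    [IsAdicComplete (maximalIdeal V) V] (hV : IsSepClosed (ResidueField V)) (m : ℕ) :
    EtCoh.IsStrictlyHenselianLocalRing (MvPowerSeries (Fin m) V) := by
  have hc : IsAdicComplete (maximalIdeal (MvPowerSeries (Fin m) V)) (MvPowerSeries (Fin m) V) :=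
    Groth.Agent.CalgB.PowSer.isAdicComplete_mvPowerSeries m
  have hh : HenselianRing (MvPowerSeries (Fin m) V) (maximalIdeal (MvPowerSeries (Fin m) V)) := inferInstance
  have hl := isLocalHom_algebraMap V m
  have hH : HenselianLocalRing (MvPowerSeries (Fin m) V) := by
    constructor
    intro f hf a₀ h1 h2
    refine hh.is_henselian f hf a₀ h1 ?_
    exact h2.map _
  refine ⟨hH, ?_⟩
  let e : ResidueField V →+* ResidueField (MvPowerSeries (Fin m) V) :=
    ResidueField.map (algebraMap V (MvPowerSeries (Fin m) V))
  have he : Function.Bijective e := by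
    refine ⟨e.injective, fun y => ?_⟩
    obtain ⟨b, rfl⟩ := residue_surjective y
    refine ⟨residue V (MvPowerSeries.constantCoeff b), ?_⟩
    rw [ResidueField.map_residue, ← sub_eq_zero, ← map_sub, residue_eq_zero_iff,
      Groth.Agent.CalgB.PowSerMap.mem_maximalIdeal_iff, map_sub, MvPowerSeries.algebraMap_apply,
      Algebra.algebraMap_self, RingHom.id_apply, MvPowerSeries.constantCoeff_C, sub_self]
    exact zero_mem _
  exact isSepClosed_of_ringEquiv (RingEquiv.ofBijective e he)


/-- Let V be a complete discrete valuation ring with separably closed residue field (a strict complete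
discrete valuation ring), A = V[[X_1, …, X_m]] the formal power series ring in m variables, X = Spec
A with closed point x, j : U → X the open immersion with image X - {x}, i the inclusion of the
closed point Spec of the residue field of A, and n ≥ 1 an integer invertible in V. Then X is
punctually pure at x: the local cohomology sheaves H^q_x(X, Z/n) (right derived functors of F ↦
ker(F → j_* j^* F)) vanish for q ≠ 2(m + 1), and H^{2(m+1)}_x(X, Z/n(m+1)) is isomorphic to i_* of
the constant sheaf Z/n. (Only the existence of the last isomorphism is asserted; the canonical one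
is induced by the cycle class of x.) -/
theorem result (V : Type u) [CommRing V] [IsDomain V]
    [IsDiscreteValuationRing V] [IsAdicComplete (IsLocalRing.maximalIdeal V) V]
    (hV : IsSepClosed (IsLocalRing.ResidueField V)) (m : ℕ)
    {U : Scheme.{u}} (j : U ⟶ Spec (CommRingCat.of (MvPowerSeries (Fin m) V))) [IsOpenImmersion j] [EtCoh.BCCont j]
    (hU : ∀ x : PrimeSpectrum (MvPowerSeries (Fin m) V), x ∈ Set.range j.base ↔ x ≠ IsLocalRing.closedPoint (MvPowerSeries (Fin m) V))
    [EtCoh.BCCont (Spec.map (CommRingCat.ofHom (IsLocalRing.residue (MvPowerSeries (Fin m) V))))]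
    (n : ℕ) (hn0 : 0 < n) (hn : IsUnit (n : V)) :
    (∀ q : ℕ, q ≠ 2 * (m + 1) → IsZero ((EtDual.locCoh j q).obj (EtCoh.const (Spec (CommRingCat.of (MvPowerSeries (Fin m) V))) (ZMod n)))) ∧
      Nonempty ((EtDual.locCoh j (2 * (m + 1))).obj (EtDual.tate (Spec (CommRingCat.of (MvPowerSeries (Fin m) V))) n (m + 1)) ≅
        (EtCoh.push (Spec.map (CommRingCat.ofHom (IsLocalRing.residue (MvPowerSeries (Fin m) V))))).obj
          (EtCoh.const (Spec (CommRingCat.of (IsLocalRing.ResidueField (MvPowerSeries (Fin m) V)))) (ZMod n))) := by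
  have hG : CAlg.IsGRing V := Groth.Agent.S0598.result V
  have hreg : CAlg.IsRegularHom V (MvPowerSeries (Fin m) V) := Groth.Agent.S2704.result V hG m
  have hB : IsRegularRing (MvPowerSeries (Fin m) V) := Groth.Agent.S5784.result V m
  have hB' : IsRegularLocalRing (MvPowerSeries (Fin m) V) :=
    IsRegularLocalRing.of_isRegularRing_of_isLocalRing _
  have hl := isLocalHom_algebraMap V m
  have hd : ringKrullDim (MvPowerSeries (Fin m) V) = ((m + 1 : ℕ) : WithBot ℕ∞) := by
    rw [Groth.Agent.CalgB.PowSerMap.ringKrullDim_mvPowerSeries,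
      IsPrincipalIdealRing.ringKrullDim_eq_one V (IsDiscreteValuationRing.not_isField V), add_comm]
    norm_cast
  exact K152.DvrPure.main V (MvPowerSeries (Fin m) V) (isStrictlyHenselian V hV m) hreg n hn0 hn hd j hU

end Groth.Agent.S18140
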