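import Groth.Statements.S18156
import Groth.Agent.CalgB.DerCompl
import Mathlib.RingTheory.AdicCompletion.Completeness
import Mathlib.RingTheory.AdicCompletion.LocalRing

set_option autoImplicit false
universe u v
open CAlg

namespace Groth.Agent.S18156

lemma mem_map_pow_iff {A : Type v} [CommRing A] (I : Ideal A) (hI : I.FG) (n : ℕ)
    (x : AdicCompletion I A) :
    x ∈ (I.map (algebraMap A (AdicCompletion I A))) ^ n ↔ AdicCompletion.eval I A n x = 0 := by
  rw [← Ideal.map_pow, ← LinearMap.mem_ker, ← AdicCompletion.pow_smul_top_eq_ker_eval hI,
    Ideal.smul_top_eq_map]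
  rfl

/-- Let k be a field and A a regular local ring that is a k-algebra, with maximal ideal m and m-adic
completion Â. Then every k-derivation D of A into itself extends to a k-derivation D̂ of Â into
itself along the canonical map ρ : A → Â, in the sense that D̂(ρ(a)) = ρ(D(a)) for every a ∈ A. (The
source works throughout over an algebraically closed field of characteristic p; neither assumption
enters this statement.) -/
theorem result
    (k : Type u) [Field k] (A : Type v) [CommRing A] [Algebra k A] [IsRegularLocalRing A]
    (D : Derivation k A A) :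
    ∃ Dhat : Derivation k (AdicCompletion (IsLocalRing.maximalIdeal A) A)
        (AdicCompletion (IsLocalRing.maximalIdeal A) A),
      ∀ a : A, Dhat (algebraMap A (AdicCompletion (IsLocalRing.maximalIdeal A) A) a) =
        algebraMap A (AdicCompletion (IsLocalRing.maximalIdeal A) A) (D a) := by
  have hI : (IsLocalRing.maximalIdeal A).FG := IsNoetherian.noetherian _
  set I := IsLocalRing.maximalIdeal A with hIdef
  have h1 : ∀ (n : ℕ) (x : AdicCompletion I A), ∃ s : A,
      x - algebraMap A (AdicCompletion I A) s ∈ (I.map (algebraMap A (AdicCompletion I A))) ^ n := by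
    intro n x
    obtain ⟨s, hs⟩ := Submodule.mkQ_surjective _ (AdicCompletion.eval I A n x)
    refine ⟨s, ?_⟩
    rw [mem_map_pow_iff I hI, map_sub, ← hs]
    exact sub_self _
  have h2 : ∀ (n : ℕ) (s : A),
      algebraMap A (AdicCompletion I A) s ∈ (I.map (algebraMap A (AdicCompletion I A))) ^ n →
        s ∈ I ^ n := by
    intro n s hs
    rw [mem_map_pow_iff I hI] at hs
    have h3 : (Submodule.mkQ (I ^ n • (⊤ : Submodule A A))) s = 0 := hs
    rw [← LinearMap.mem_ker, Submodule.ker_mkQ, smul_eq_mul, Ideal.mul_top] at h3
    exact h3
  obtain ⟨D', hD'⟩ := Groth.Agent.CalgB.DerCompl.exists_derivation_completion I h1 h2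
    (AdicCompletion.isAdicComplete_self I hI) (D.restrictScalars ℤ)
  have hk : ∀ c : k, D' (algebraMap k (AdicCompletion I A) c) = 0 := by
    intro c
    rw [IsScalarTower.algebraMap_apply k A (AdicCompletion I A), hD']
    change algebraMap A (AdicCompletion I A) (D (algebraMap k A c)) = 0
    rw [Derivation.map_algebraMap, map_zero]
  refine ⟨{ toFun := D'
            map_add' := map_add D'
            map_smul' := ?_
            map_one_eq_zero' := ?_
            leibniz' := ?_ }, ?_⟩
  · intro c x
    rw [Algebra.smul_def, Derivation.leibniz, hk, smul_zero, add_zero, smul_eq_mul,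
      RingHom.id_apply, Algebra.smul_def]
  · exact D'.map_one_eq_zero
  · intro a b
    exact D'.leibniz a b
  · intro a
    exact hD' a

end Groth.Agent.S18156
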