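import Groth.Statements.S15762
import Groth.Agent.EtCoh.K141.HMain

set_option autoImplicit false
universe u
open CategoryTheory CategoryTheory.Limits AlgebraicGeometry Opposite
open EtCoh

namespace Groth.Agent.S15762

/-- Let A → A' be a homomorphism of Noetherian rings and J ⊂ A an ideal with (A, J) and (A', JA')
Henselian pairs such that A/J^n → A'/J^nA' is bijective for all n, and let U ⊂ Spec A be an open
containing Spec A ∖ V(J), with g : U ×_A A' → U the projection. For every torsion abelian sheaf F on
the small étale site of U and every i, pullback H^i(U, F) → H^i(U ×_A A', g⁻¹F) is bijective.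
(Exactness of g⁻¹ is carried as an instance binder, as for every pullback map on étale cohomology in
this library.) -/
theorem result (A A' : Type u) [CommRing A]
    [CommRing A'] [IsNoetherianRing A] [IsNoetherianRing A'] (φ : A →+* A') (J : Ideal A)
    [HenselianRing A J] [HenselianRing A' (J.map φ)]
    (hq : ∀ n : ℕ, Function.Bijective (Ideal.quotientMap (Ideal.map φ (J ^ n)) φ Ideal.le_comap_map))
    (U : (Spec (CommRingCat.of A)).Opens)
    (hU : ∀ p : PrimeSpectrum A, ¬ J ≤ p.asIdeal → p ∈ U)
    [PreservesFiniteLimits (EtCoh.pull ((Spec.map (CommRingCat.ofHom φ)) ∣_ U))]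
    (F : EtCoh.Ab (U : Scheme.{u})) (hF : EtCoh.IsTorsion F) (i : ℕ) :
    Function.Bijective (EtCore.Hpull ((Spec.map (CommRingCat.ofHom φ)) ∣_ U) F i) := by
  have h := K141.HEq.quotients A A' φ J (IsNoetherian.noetherian J) hq U (fun x hx => by
    by_contra h
    exact hx (hU x h))
  exact (Groth.Agent.Sga4h.UlaGood.hi_iff_Hpull _ F).1 (h F hF) i

end Groth.Agent.S15762
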