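import Groth.Statements.S19474
import Groth.Agent.CAlg.K95.FlatUnram
import Groth.Agent.S0543
import Mathlib.RingTheory.AdicCompletion.LocalRing
import Mathlib.RingTheory.AdicCompletion.AsTensorProduct

set_option autoImplicit false
universe u
open CAlg

namespace Groth.Agent.S19474


/-- Let A be a Noetherian local ring and I an ideal of A different from A. Then the I-adic completion of
A has the same Krull dimension as A, and A is a regular local ring if and only if the I-adic
completion of A is a regular local ring (in particular the completion is then local and Noetherian).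
The case where I is the maximal ideal is the classical one; here I is any proper ideal. -/
theorem result (A : Type u) [CommRing A]
    [IsLocalRing A] [IsNoetherianRing A] (I : Ideal A) (hI : I ≠ ⊤) :
    ringKrullDim (AdicCompletion I A) = ringKrullDim A ∧
      (IsRegularLocalRing A ↔ IsRegularLocalRing (AdicCompletion I A)) := by
  have hIm : I ≤ IsLocalRing.maximalIdeal A := IsLocalRing.le_maximalIdeal hI
  have hfg : I.FG := IsNoetherian.noetherian I
  have hN : IsNoetherianRing (AdicCompletion I A) := Groth.Agent.S0543.result A I
  have hmax := AdicCompletion.isMaximal_map_of_le I (IsLocalRing.maximalIdeal A) hIm hfg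
  have hcomp := AdicCompletion.isAdicComplete_self I hfg
  have : Nontrivial (A ⧸ I) := Ideal.Quotient.nontrivial_iff.2 hI
  have : IsLocalRing (A ⧸ I) := IsLocalRing.of_surjective' (Ideal.Quotient.mk I) Ideal.Quotient.mk_surjective
  have hloc : IsLocalRing (AdicCompletion I A) := by
    refine IsLocalRing.of_unique_max_ideal ⟨_, hmax, ?_⟩
    have key : ∀ N : Ideal (AdicCompletion I A), N.IsMaximal →
        N = Ideal.comap (AdicCompletion.evalOneₐ I).toRingHom (IsLocalRing.maximalIdeal (A ⧸ I)) := by
      intro N hNmax
      have h1 : Ideal.map (algebraMap A (AdicCompletion I A)) I ≤ N :=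
        (IsAdicComplete.le_jacobson_bot _).trans (sInf_le (a := N) ⟨bot_le, hNmax⟩)
      have h2 : RingHom.ker (AdicCompletion.evalOneₐ I).toRingHom ≤ N := by
        have := AdicCompletion.ker_evalOneₐ_eq_map I hfg
        exact (this.le).trans h1
      have h3 : (Ideal.map (AdicCompletion.evalOneₐ I).toRingHom N).IsMaximal :=
        Ideal.IsMaximal.map_of_surjective_of_ker_le (AdicCompletion.evalOneₐ_surjective I) h2
      rw [← IsLocalRing.eq_maximalIdeal h3]
      have h4 := Ideal.comap_map_of_surjective' (AdicCompletion.evalOneₐ I).toRingHom
        (AdicCompletion.evalOneₐ_surjective I) N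
      rw [h4, sup_eq_left.2 h2]
    intro N hNmax
    rw [key N hNmax, key _ hmax]
  have hmaxeq : Ideal.map (algebraMap A (AdicCompletion I A)) (IsLocalRing.maximalIdeal A) =
      IsLocalRing.maximalIdeal (AdicCompletion I A) := IsLocalRing.eq_maximalIdeal hmax
  have hlh : IsLocalHom (algebraMap A (AdicCompletion I A)) := by
    apply ((IsLocalRing.local_hom_TFAE _).out 0 2).mpr
    exact hmaxeq.le
  have hflat : Module.Flat A (AdicCompletion I A) := AdicCompletion.flat_of_isNoetherian I
  exact ⟨K95.FlatUnram.ringKrullDim_eq A _ hmaxeq, K95.FlatUnram.isRegularLocalRing_iff A _ hmaxeq⟩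

end Groth.Agent.S19474
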