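import Groth.Statements.S13621
import Groth.Agent.Sga5.MLAR

set_option autoImplicit false
open CategoryTheory CategoryTheory.Limits Opposite
universe v u
open ARSys

namespace Groth.Agent.S13621

open Groth.Agent.Sga5.ARBasic Groth.Agent.Sga5.MLAR

/-- The inverse limit is a well-defined functor on projective systems up to translation. Concretely: in
an abelian category with limits of shape ℕᵒᵖ, a morphism u : X ⟶ Y of projective systems indexed by
the natural numbers whose kernel and cokernel are null up to translation induces an isomorphism lim
X ⟶ lim Y. (The published statement is the functoriality of lim on the category of systems up to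
translation; combined with the description of isomorphisms there as the morphisms with null kernel
and cokernel, this is the form stated.) -/
theorem result {C : Type u} [Category.{v} C] [Abelian C] [HasLimitsOfShape ℕᵒᵖ C]
    {X Y : ARSys.PS C} (u : X ⟶ Y) (hu : ARSys.IsARIso u) : IsIso (limMap u) := by
  obtain ⟨r, ⟨q⟩⟩ := (isARIso_iff_qinv u).1 hu
  let c : Cone X :=
    { pt := limit Y
      π :=
        { app := fun n => limit.π Y (op (n.unop + r)) ≫ q.v n.unop
          naturality := by
            rintro ⟨m⟩ ⟨n⟩ φ
            have h : n ≤ m := leOfHom φ.unop
            have h1 := q.nat n m h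
            have h2 : limit.π Y (op (m + r)) ≫ tr Y (Nat.add_le_add_right h r) =
              limit.π Y (op (n + r)) := limit.w Y _
            change 𝟙 _ ≫ limit.π Y (op (n + r)) ≫ q.v n =
              (limit.π Y (op (m + r)) ≫ q.v m) ≫ tr X h
            rw [Category.id_comp, Category.assoc, ← h1, reassoc_of% h2] } }
  have hc : ∀ n : ℕ, limit.lift X c ≫ limit.π X (op n) = limit.π Y (op (n + r)) ≫ q.v n :=
    fun n => limit.lift_π c (op n)
  refine ⟨limit.lift X c, ?_, ?_⟩
  · apply limit.hom_ext
    rintro ⟨n⟩
    rw [Category.assoc, hc n, limMap_π_assoc, q.right n, Category.id_comp]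
    exact limit.w X _
  · apply limit.hom_ext
    rintro ⟨n⟩
    rw [Category.assoc, limMap_π, reassoc_of% (hc n), q.left n, Category.id_comp]
    exact limit.w Y _

end Groth.Agent.S13621
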