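import Groth.Statements.S14014
import Groth.Agent.S14009
import Groth.Agent.S3190
import Groth.Agent.EtModW.K336.NoethCons
import Groth.Agent.EtModW.K337.AdicKer
import Groth.Agent.EtModW.K337.FFNoeth

set_option autoImplicit false
open CategoryTheory CategoryTheory.Limits AlgebraicGeometry Opposite
universe u
open EtModW

namespace Groth.Agent.S14014

/-- Let X be a Noetherian scheme, Λ a Noetherian commutative ring, I an ideal of Λ and F an I-adic
pro-étale sheaf of Λ-modules on X: F has a compatible tower of quotient maps F ⟶ Q_n modulo I^(n+1),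
every Q_n isomorphic to the pro-étale pullback of a constructible étale sheaf of Λ-modules, and the
canonical map F ⟶ lim_n Q_n is an isomorphism. Then every increasing chain Z_0 ≤ Z_1 ≤ ⋯ of
subobjects of F (subsheaves of Λ-modules on the small pro-étale site) all of whose underlying
sheaves are I-adic pro-étale sheaves becomes constant: Z_k = Z_(k₀) for all k ≥ k₀. (Continuity of
the inclusion of the étale site into the pro-étale site is carried as a binder.) -/
theorem result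
    (Λ : Type (u + 1)) [CommRing Λ] [IsNoetherianRing Λ] (I : Ideal Λ)
    (X : Scheme.{u}) [IsNoetherian X] [ProEtS.EpsCont X]
    (F : EtModW.ModP Λ X)
    (hF : (∃ (Q : ℕᵒᵖ ⥤ EtModW.ModP Λ X) (p : (Functor.const ℕᵒᵖ).obj F ⟶ Q),
        (∀ n : ℕ, ARSys.IsQuot (I ^ (n + 1)) (p.app (op n))) ∧
        (∀ n : ℕ, ∃ E : EtModW.Mod Λ X, EtModW.IsConstructible Λ E ∧
          Nonempty ((EtModW.epsPullMod Λ X).obj E ≅ Q.obj (op n))) ∧
        IsIso (limit.lift Q (Cone.mk F p))))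
    (Z : ℕ →o Subobject F)
    (hZ : ∀ k : ℕ, (∃ (Q : ℕᵒᵖ ⥤ EtModW.ModP Λ X) (p : (Functor.const ℕᵒᵖ).obj (Subobject.underlying.obj (Z k)) ⟶ Q),
        (∀ n : ℕ, ARSys.IsQuot (I ^ (n + 1)) (p.app (op n))) ∧
        (∀ n : ℕ, ∃ E : EtModW.Mod Λ X, EtModW.IsConstructible Λ E ∧
          Nonempty ((EtModW.epsPullMod Λ X).obj E ≅ Q.obj (op n))) ∧
        IsIso (limit.lift Q (Cone.mk (Subobject.underlying.obj (Z k)) p)))) :
    ∃ k₀ : ℕ, ∀ k : ℕ, k₀ ≤ k → Z k = Z k₀ := by
  have h9 : K337.AdicP.ProjQuot Λ I X := fun G hG n =>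
    Groth.Agent.S14009.result Λ I (IsNoetherian.noetherian I) X G hG n
  let Ψ := ObjectProperty.ι (fun G : ARSys.PS (EtModW.Mod Λ X) => ARSys.IsAdicNoeth I G) ⋙
    K337.AdicKer.Phi Λ X
  have hfull : Ψ.Full := ⟨fun {G H} w => by
    obtain ⟨u, hu⟩ := K337.AdicLim.map_surjective (EtModW.epsPullMod Λ X) h9 G.2.1 H.2.1.1 w
    exact ⟨ObjectProperty.homMk u, hu⟩⟩
  have hfaith : Ψ.Faithful := ⟨fun {G H} u v h => by
    apply ObjectProperty.hom_ext
    exact K337.AdicLim.map_injective (EtModW.epsPullMod Λ X) h9 G.2.1 h⟩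
  have key : ∀ {F : EtModW.ModP Λ X}, K337.AdicP.IsAdicP Λ I F → ∃ H, Nonempty (Ψ.obj H ≅ F) := by
    intro F hF
    obtain ⟨G, hG, hc, e⟩ := K337.AdicP.exists_adic hF
    exact ⟨⟨G, hG, fun n => (K336.NoethCons.isNoetherianObject_iff _).2 (hc n)⟩, e⟩
  obtain ⟨Y, ⟨e⟩⟩ := key hF
  have := (Groth.Agent.S3190.result (C := EtModW.Mod Λ X) I).2 Y
  exact K337.FFNoeth.chain_stable Ψ e Z fun k => key (hZ k)

end Groth.Agent.S14014
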