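import Groth.Statements.S11525
import Groth.Agent.S11527
import Groth.Agent.AdicRing.K26.RPowB

set_option autoImplicit false
universe u
open AdicRing

namespace Groth.Agent.S11525

theorem fg_of_saturated
    (R : Type u) [CommRing R] (I : Ideal R) (hR : AdicRing.IsBase R I)
    (A : Type u) [CommRing A] [Algebra R A] (hA : AdicRing.TopFiniteType R I A)
    (M : Type u) [AddCommGroup M] [Module A M] [Module R M] [IsScalarTower R A M]
    [Module.Finite A M] (N : Submodule A M)
    (hsat : ∀ (x : M) (n : ℕ), (∀ a ∈ I ^ n, a • x ∈ N) → x ∈ N) :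
    N.FG :=
  Groth.Agent.S11527.result R I hR A hA M N hsat

/-- Let R be a base ring of class (N) or (V) for the ideal I and A an R-algebra topologically of finite
type without I-power torsion. Then A is topologically of finite presentation. -/
theorem result
    (R : Type u) [CommRing R] (I : Ideal R) (hR : AdicRing.IsBase R I)
    (A : Type u) [CommRing A] [Algebra R A] (hA : AdicRing.TopFiniteType R I A)
    (hT : AdicRing.NoPowTorsion I A) :
    AdicRing.TopFinitePresentation R I A := by
  obtain ⟨n, φ, hφ⟩ := hA
  refine ⟨n, φ, hφ, ?_⟩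
  refine fg_of_saturated R I hR (RPow R I n) ⟨n, AlgHom.id R _, Function.surjective_id⟩
    (RPow R I n) (RingHom.ker φ.toRingHom) ?_
  intro x k hx
  rw [RingHom.mem_ker]
  refine hT _ k (fun a ha => ?_)
  have h1 : φ (a • x) = 0 := hx a ha
  rw [map_smul] at h1
  exact h1

end Groth.Agent.S11525
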