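import Groth.Statements.S11530
import Groth.Agent.S11527
import Groth.Agent.S8800
import Groth.Agent.AdicRing.K26.TruncFP
import Groth.Agent.AdicRing.K26.CLocQ

set_option autoImplicit false
universe u
open AdicRing

namespace Groth.Agent.S11530

/-- Let R be a base ring of class (N) or (V) for the ideal I and A an R-algebra which is complete and
separated for the I-adic topology. Then A is topologically of finite presentation over R if and only
if, for every n, the truncation A/I^(n+1)A is an algebra of finite presentation over R/I^(n+1). -/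
theorem result
    (R : Type u) [CommRing R] (I : Ideal R) (hR : AdicRing.IsBase R I)
    (A : Type u) [CommRing A] [Algebra R A] [IsAdicComplete (I.map (algebraMap R A)) A] :
    AdicRing.TopFinitePresentation R I A ↔
      ∀ n : ℕ, (Ideal.quotientMap ((I ^ (n + 1)).map (algebraMap R A)) (algebraMap R A)
        Ideal.le_comap_map).FinitePresentation := by
  have hI : I.FG := by
    obtain ⟨-, ⟨hN, -⟩ | ⟨-, -, -, t, -, rfl⟩⟩ := hR
    · exact IsNoetherian.noetherian I
    · exact ⟨{t}, by simp⟩
  have hiff : ∀ m : ℕ, (Ideal.quotientMap ((I ^ m).map (algebraMap R A)) (algebraMap R A)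
      Ideal.le_comap_map : R ⧸ I ^ m →+* A ⧸ (I ^ m).map (algebraMap R A)).FinitePresentation ↔
      Algebra.FinitePresentation R (A ⧸ (I ^ m).map (algebraMap R A)) :=
    K26.TruncFP.quotientMap_finitePresentation_iff I hI A
  constructor
  · intro h n
    rw [hiff]
    exact K26.TruncFP.finitePresentation_trunc I hI A h (n + 1)
  · intro h
    have h1 : ∀ n : ℕ, Algebra.FinitePresentation R (A ⧸ (I ^ (n + 1)).map (algebraMap R A)) :=
      fun n => (hiff (n + 1)).mp (h n)
    have h2 : Algebra.FiniteType R (A ⧸ I.map (algebraMap R A)) := by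
      have := h1 0
      rw [zero_add, pow_one] at this
      infer_instance
    obtain ⟨n, φ, hφ⟩ := (K26.CLocQ.topFiniteType_iff R I hI A).mpr h2
    refine ⟨n, φ, hφ, ?_⟩
    have hD : IsAdicComplete (I.map (algebraMap R (RPow R I n))) (RPow R I n) :=
      K26.RPowB.isAdicComplete_map R I n hI
    obtain ⟨hRI, ⟨hN, -⟩ | ⟨hdom, hval, hdim, t, ht, rfl⟩⟩ := id hR
    · have : IsNoetherianRing (RPow R I n) :=
        Groth.Agent.S8800.result R I (RPow R I n) (K26.RPowB.finiteType_quot (AlgHom.id R _)
          Function.surjective_id hI)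
      exact IsNoetherian.noetherian _
    · have : IsAdicComplete (Ideal.span {t}) (RPow R (Ideal.span {t}) n) :=
        K26.RPowB.isAdicComplete R _ n hI
      refine K26.TruncFP.ker_fg t φ hφ
        (fun m => K26.TruncFP.finitePresentation_rPow _ hI n m) h1 ?_
      intro J hJ
      refine Groth.Agent.S11527.result R _ hR (RPow R (Ideal.span {t}) n)
        ⟨n, AlgHom.id R _, Function.surjective_id⟩ (RPow R (Ideal.span {t}) n) J ?_
      intro x k hx
      refine hJ x k ?_
      have h3 := hx (t ^ k) (Ideal.pow_mem_pow (Ideal.mem_span_singleton_self t) k)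
      rwa [Algebra.smul_def, map_pow] at h3

end Groth.Agent.S11530
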