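import Groth.Statements.S15749
import Groth.Agent.CAlg.K88.LaurentBasic
import Mathlib.RingTheory.Idempotents

set_option autoImplicit false
universe u
open CAlg

namespace Groth.Agent.S15749

/-- For an arbitrary commutative ring R, every idempotent of the ring of formal Laurent series R((t)) is
the constant series attached to a unique idempotent of R. Equivalently, the structure map R → R((t))
induces a bijection on idempotents, so that the spectrum of R((t)) is connected if and only if the
spectrum of R is. No reducedness is assumed. -/
theorem result (R : Type u) [CommRing R]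
    (e : LaurentSeries R) (he : IsIdempotentElem e) :
    ∃! r : R, IsIdempotentElem r ∧ HahnSeries.C r = e := by
  obtain ⟨h1, h2⟩ := K88.LaurentBasic.isNilpotent_coeff_of_isIdempotentElem he
  -- lift `e₀` modulo the nilradical
  have hker : ∀ x ∈ RingHom.ker (Ideal.Quotient.mk (nilradical R)), IsNilpotent x := by
    intro x hx
    rwa [Ideal.mk_ker] at hx
  have hid : IsIdempotentElem (Ideal.Quotient.mk (nilradical R) (e.coeff 0)) := by
    unfold IsIdempotentElem
    rw [← map_mul, Ideal.Quotient.eq]
    exact h2
  obtain ⟨r, hr, hre⟩ := exists_isIdempotentElem_eq_of_ker_isNilpotent _ hker _ ⟨_, rfl⟩ hid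
  have hr0 : IsNilpotent (r - e.coeff 0) := by
    rw [Ideal.Quotient.eq] at hre
    exact hre
  have hCe : (HahnSeries.C r : LaurentSeries R) = e := by
    -- the difference of the two idempotents has nilpotent coefficients
    have hC : IsIdempotentElem (HahnSeries.C r : LaurentSeries R) := hr.map _
    have hnil : ∀ n : ℤ, (HahnSeries.C r - e).coeff n ∈ nilradical R := by
      intro n
      rw [HahnSeries.coeff_sub]
      by_cases hn : n = 0
      · subst hn
        rw [HahnSeries.C_apply, HahnSeries.coeff_single_same]
        exact hr0
      · rw [HahnSeries.C_apply, HahnSeries.coeff_single_of_ne hn, zero_sub]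
        exact (h1 n hn).neg
    have hu : IsUnit (1 + -((HahnSeries.C r - e) * (HahnSeries.C r - e))) := by
      apply K88.LaurentBasic.isUnit_one_add_of_nilpotent_coeff
      intro n
      rw [HahnSeries.coeff_neg, HahnSeries.coeff_mul]
      apply IsNilpotent.neg
      rw [← mem_nilradical]
      exact Ideal.sum_mem _ fun i _ => Ideal.mul_mem_left _ _ (hnil _)
    have h3 : ∀ c : LaurentSeries R, c * c = c → e * e = e →
        (1 + -((c - e) * (c - e))) * (c - e) = 0 := by
      intro c hc he
      have h5 : (c - e) * (c - e) * (c - e) =
        (c * c) * c - 3 * (c * c) * e + 3 * c * (e * e) - (e * e) * e := by ring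
      have h6 : (1 + -((c - e) * (c - e))) * (c - e) =
        (c - e) - (c - e) * (c - e) * (c - e) := by ring
      rw [h6, h5, hc, he, hc, he]
      ring
    have h4 := (IsUnit.mul_right_eq_zero hu).mp (h3 _ hC he)
    exact sub_eq_zero.mp h4
  refine ⟨r, ⟨hr, hCe⟩, ?_⟩
  rintro s ⟨-, hse⟩
  apply HahnSeries.C_injective (Γ := ℤ)
  rw [hse, hCe]

end Groth.Agent.S15749
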