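import Groth.Statements.S5749
import Groth.Agent.Ega3B.SerreTwist
import Groth.Agent.Ega3B.PullTensor
import Groth.Agent.Ega3B.ProjFrame
import Groth.Agent.VarietyA.AmpleField
import Groth.Agent.Sga5.AmpleFib

set_option autoImplicit false
universe u
open Coherent

namespace Groth.Agent.S5749

open AlgebraicGeometry CategoryTheory in
/-- Serre vanishing on a closed subscheme of `P^r_A`, `A` Noetherian. -/
theorem exists_vanishing (A : Type u) [CommRing A] [IsNoetherianRing A] (r : ℕ) (X : Scheme.{u})
    (i : X ⟶ CohB1.ProjSpace r A) [IsClosedImmersion i] (F : X.Modules) (hF : Coh.IsCoh F) :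
    ∃ N : ℕ, ∀ n : ℤ, (N : ℤ) ≤ n → ∀ j : ℕ, 0 < j → Subsingleton (Coh.HH X (CohB1.tensorMod F
      ((Scheme.Modules.pullback i).obj (Twist.twistProjSpace r A n))) j) := by
  have hproper : IsProper (i ≫ CohB1.ProjSpace.toSpec r A) := by
    have := Groth.Agent.Ega3B.ProjProper.isProper_toSpec r A
    infer_instance
  have hL : CohB1.IsAmple ((Scheme.Modules.pullback i).obj (Twist.twistProjSpace r A 1)) :=
    Sga5.AmpleFib.isAmple_pullback i (VarietyA.AmpleField.isAmple_twistProjSpace r A)
  obtain ⟨N, hN⟩ := Ega3B.SerreTwist.exists_serre (i ≫ CohB1.ProjSpace.toSpec r A) hL hF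
  refine ⟨N, fun n hn j hj => ?_⟩
  obtain ⟨m, rfl⟩ := Int.eq_ofNat_of_zero_le (show 0 ≤ n by omega)
  obtain ⟨e1⟩ := Ega3B.ProjFrame.nonempty_twistProjSpace_iso (r := r) A m
  obtain ⟨e2⟩ := Ega3B.PullTensor.nonempty_pullPowIso i (VarietyA.AmpleField.isAmple_twistProjSpace r A).1 m
  have e := Ega2.Tens.mapTIso (Iso.refl F) ((Scheme.Modules.pullback i).mapIso e1 ≪≫ e2)
  have h := (hN m (by omega)).1 j hj
  exact (Groth.Agent.VarietyA.EulerLES.equivΓ e j).toEquiv.subsingleton

open AlgebraicGeometry CategoryTheory in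
/-- Let A be an Artinian local ring, i : X → P^r_A a closed immersion compatible with the structure
morphisms to Spec A (X projective over A with the very ample module i^* O(1)), F a coherent
O_X-module and F(n) = F ⊗ i^* O(n). Then for all sufficiently large n the Euler characteristic
χ_A(F(n)) = Σ_{j ≤ r} (-1)^j length_A H^j(X, F(n)) equals the length of H^0(X, F(n)), the A-module
of global sections of F(n). -/
theorem result (A : Type u) [CommRing A]
    [IsArtinianRing A] [IsLocalRing A] (r : ℕ) (X : Scheme.{u}) [X.Over (Spec (CommRingCat.of A))]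
    (i : X ⟶ CohB1.ProjSpace r A) [IsClosedImmersion i]
    (hi : i ≫ CohB1.ProjSpace.toSpec r A = X ↘ Spec (CommRingCat.of A)) (F : X.Modules) (hF : Coh.IsCoh F) :
    ∃ N : ℤ, ∀ n : ℤ, N ≤ n →
      ((Finset.range (r + 1)).sum fun j => (-1 : ℤ) ^ j *
        ((Module.length A (Coh.HH X (CohB1.tensorMod F
          ((Scheme.Modules.pullback i).obj (Twist.twistProjSpace r A n))) j)).toNat : ℤ)) =
      ((Module.length A (Coh.HH X (CohB1.tensorMod F
          ((Scheme.Modules.pullback i).obj (Twist.twistProjSpace r A n))) 0)).toNat : ℤ) := by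
  have hA : IsNoetherianRing A := inferInstance
  obtain ⟨N, hN⟩ := exists_vanishing A r X i F hF
  refine ⟨N, fun n hn => ?_⟩
  rw [Finset.sum_eq_single 0]
  · rw [pow_zero, one_mul]
  · intro j _ hj
    have := hN n hn j (Nat.pos_of_ne_zero hj)
    rw [Module.length_eq_zero, ENat.toNat_zero, Nat.cast_zero, mul_zero]
  · intro h
    exact absurd (Finset.mem_range.mpr (Nat.succ_pos r)) h

end Groth.Agent.S5749
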