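import Groth.Statements.S11223
import Mathlib.RingTheory.MvPolynomial.Homogeneous
import Mathlib.RingTheory.GradedAlgebra.Basic
import Mathlib.RingTheory.IntegralClosure.IsIntegralClosure.Basic

set_option autoImplicit false
universe u
open CAlg

namespace Groth.Agent.S11223

open MvPolynomial in
theorem exists_homog_rep (k : Type u) [Field k] (n m : ℕ)
    (z : Fin m → MvPolynomial (Fin n) k) (d : Fin m → ℕ)
    (hz : ∀ i, (z i).IsHomogeneous (d i)) (p : MvPolynomial (Fin n) k) (D : ℕ)
    (hp : p.IsHomogeneous D) (h : p ∈ Ideal.span (Set.range z)) :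
    ∃ e : Fin m → MvPolynomial (Fin n) k, (∀ j, (e j).IsHomogeneous (D - d j)) ∧
      (∀ j, D < d j → e j = 0) ∧ p = ∑ j, e j * z j := by
  classical
  let _ : GradedAlgebra (homogeneousSubmodule (Fin n) k) := MvPolynomial.gradedAlgebra
  obtain ⟨c, hc⟩ := Ideal.mem_span_range_iff_exists_fun.mp h
  refine ⟨fun j => if d j ≤ D then
      (DirectSum.decompose (homogeneousSubmodule (Fin n) k) (c j) (D - d j) :
        MvPolynomial (Fin n) k) else 0, ?_, ?_, ?_⟩
  · intro j
    dsimp only
    split_ifs
    · exact (DirectSum.decompose (homogeneousSubmodule (Fin n) k) (c j) (D - d j)).2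
    · exact isHomogeneous_zero _ _ _
  · intro j hj
    dsimp only
    rw [if_neg (by omega)]
  · have h1 : GradedRing.proj (homogeneousSubmodule (Fin n) k) D p = p := by
      rw [GradedRing.proj_apply]
      exact DirectSum.decompose_of_mem_same _ hp
    rw [← h1, ← hc, map_sum]
    refine Finset.sum_congr rfl fun j _ => ?_
    rw [GradedRing.proj_apply,
      DirectSum.coe_decompose_mul_of_right_mem (homogeneousSubmodule (Fin n) k) D (hz j)]
    dsimp only
    split_ifs <;> simp

open MvPolynomial in
theorem finite_aux (k : Type u) [Field k] (n m : ℕ)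
    (z : Fin m → MvPolynomial (Fin n) k) (d : Fin m → ℕ) (hd : ∀ i, 0 < d i)
    (hz : ∀ i, (z i).IsHomogeneous (d i)) (D : ℕ)
    (hD : ∀ i : Fin n, (X i : MvPolynomial (Fin n) k) ^ D ∈ Ideal.span (Set.range z)) :
    Module.Finite (Algebra.adjoin k (Set.range z)) (MvPolynomial (Fin n) k) := by
  classical
  let S := Algebra.adjoin k (Set.range z)
  let N : Submodule S (MvPolynomial (Fin n) k) :=
    Submodule.span S (Set.range fun f : Fin n → Fin D => ∏ i, (X i : MvPolynomial (Fin n) k) ^ (f i : ℕ))
  have hNk : ∀ (c : k) (p : MvPolynomial (Fin n) k), p ∈ N → C c * p ∈ N := by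
    intro c p hp
    have : C c * p = (algebraMap k S c) • p := by
      rw [Algebra.smul_def]
      rfl
    rw [this]
    exact N.smul_mem _ hp
  have key : ∀ (r : ℕ) (a : Fin n →₀ ℕ), a.degree = r → monomial a (1 : k) ∈ N := by
    intro r
    induction r using Nat.strong_induction_on with
    | _ r IH =>
    intro a ha
    by_cases hlt : ∀ i, a i < D
    · refine Submodule.subset_span ⟨fun i => ⟨a i, hlt i⟩, ?_⟩
      rw [monomial_eq, map_one, one_mul, Finsupp.prod_fintype _ _ (fun i => pow_zero _)]
    · push Not at hlt
      obtain ⟨i, hi⟩ := hlt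
      let b : Fin n →₀ ℕ := a - Finsupp.single i D
      have hab : a = Finsupp.single i D + b := by
        rw [add_comm]
        refine (tsub_add_cancel_of_le ?_).symm
        intro j
        rcases eq_or_ne j i with rfl | hji
        · simpa using hi
        · simp [hji.symm]
      have hbdeg : b.degree = r - D := by
        have := ha
        rw [hab, map_add, Finsupp.degree_single] at this
        omega
      have hDr : D ≤ r := by
        have := ha
        rw [hab, map_add, Finsupp.degree_single] at this
        omega
      obtain ⟨e, he1, he2, he3⟩ := exists_homog_rep k n m z d hz (X i ^ D) D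
        (by simpa using (isHomogeneous_X k i).pow D) (hD i)
      have h1 : monomial a (1 : k) = ∑ j, (⟨z j, Algebra.subset_adjoin ⟨j, rfl⟩⟩ : S) •
          (e j * monomial b 1) := by
        have h2 : monomial a (1 : k) = X i ^ D * monomial b 1 := by
          rw [X_pow_eq_monomial, monomial_mul, one_mul, ← hab]
        rw [h2, he3, Finset.sum_mul]
        refine Finset.sum_congr rfl fun j _ => ?_
        rw [Algebra.smul_def]
        change e j * z j * monomial b 1 = z j * (e j * monomial b 1)
        ring
      rw [h1]
      refine sum_mem fun j _ => N.smul_mem _ ?_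
      by_cases hj : D < d j
      · rw [he2 j hj, zero_mul]
        exact N.zero_mem
      · have hh : (e j * monomial b (1 : k)).IsHomogeneous (D - d j + (r - D)) :=
          (he1 j).mul (isHomogeneous_monomial _ hbdeg)
        rw [(e j * monomial b (1 : k)).as_sum]
        refine sum_mem fun v hv => ?_
        have hv' : v.degree = D - d j + (r - D) := by
          rw [Finsupp.degree_eq_weight_one]
          exact hh (mem_support_iff.mp hv)
        have h3 : monomial v (coeff v (e j * monomial b (1 : k))) =
            C (coeff v (e j * monomial b (1 : k))) * monomial v 1 := by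
          rw [C_mul_monomial, mul_one]
        rw [h3]
        refine hNk _ _ (IH _ ?_ v hv')
        have := hd j
        omega
  have htop : N = ⊤ := by
    rw [eq_top_iff]
    intro p _
    rw [p.as_sum]
    refine sum_mem fun v _ => ?_
    have h3 : monomial v (coeff v p) = C (coeff v p) * monomial v 1 := by
      rw [C_mul_monomial, mul_one]
    rw [h3]
    exact hNk _ _ (key _ v rfl)
  exact ⟨⟨(Set.finite_range _).toFinset, by rw [Set.Finite.coe_toFinset]; exact htop⟩⟩

/-- Let k be a field, let z_1, ..., z_m be homogeneous polynomials of positive degree in the polynomial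
ring k[x_1, ..., x_n], and suppose the radical of the ideal (z_1, ..., z_m) is the ideal (x_1, ...,
x_n) generated by the variables. Then the polynomial ring is integral over the subalgebra generated
by z_1, ..., z_m. (The published statement is over an algebraically closed field; this row takes any
field, which its proof allows.) -/
theorem result (k : Type u) [Field k] (n m : ℕ)
    (z : Fin m → MvPolynomial (Fin n) k) (d : Fin m → ℕ) (hd : ∀ i, 0 < d i)
    (hz : ∀ i, (z i).IsHomogeneous (d i))
    (hrad : (Ideal.span (Set.range z)).radical =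
      Ideal.span (Set.range (MvPolynomial.X : Fin n → MvPolynomial (Fin n) k))) :
    Algebra.IsIntegral (Algebra.adjoin k (Set.range z)) (MvPolynomial (Fin n) k) := by
  classical
  have h1 : ∀ i : Fin n, ∃ N : ℕ, (MvPolynomial.X i : MvPolynomial (Fin n) k) ^ N ∈
      Ideal.span (Set.range z) := by
    intro i
    have : (MvPolynomial.X i : MvPolynomial (Fin n) k) ∈ (Ideal.span (Set.range z)).radical := by
      rw [hrad]
      exact Ideal.subset_span ⟨i, rfl⟩
    exact this
  choose N hN using h1
  have := finite_aux k n m z d hd hz (∑ i, N i) (fun i =>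
    Ideal.pow_mem_of_pow_mem _ (hN i) (Finset.single_le_sum (fun _ _ => Nat.zero_le _)
      (Finset.mem_univ i)))
  exact Algebra.IsIntegral.of_finite _ _

end Groth.Agent.S11223
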