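import Groth.Statements.S17258
import Groth.Agent.Curves.K417.TreeCount
import Groth.Agent.Curves.K326.SemiStab
import Groth.Agent.CurvesC.DualPair
import Groth.Agent.CurvesC.DualNodal
import Groth.Agent.S1752

set_option autoImplicit false
universe u
open Curves

namespace Groth.Agent.S17258

open CategoryTheory AlgebraicGeometry in
/-- Let Ω be an algebraically closed field of characteristic zero and let C be a scheme proper over Ω
which is connected, of dimension one and has at-worst-nodal singularities. Then the first cohomology
of the structure sheaf of C vanishes if and only if C is a rational tree: every irreducible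
component of C is the image of a closed immersion of the projective line over Ω, and the number of
nodes of C plus one equals the number of irreducible components. (The source phrases the second
condition as the absence of closed chains of components; for a connected nodal curve whose
components are projective lines the two conditions agree, a connected graph being a tree exactly
when it has one more vertex than edges. The source takes Ω an algebraically closed extension of the
complex numbers.) -/
theorem result (Ω : Type u) [Field Ω] [IsAlgClosed Ω] [CharZero Ω]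
    (C : Scheme.{u}) [C.Over (Spec (CommRingCat.of Ω))] [IsProper (C ↘ Spec (CommRingCat.of Ω))]
    [ConnectedSpace ↥C] (hdim : topologicalKrullDim ↥C = 1) (hnod : Curv2.AtWorstNodal Ω C) :
    Curv2.genus Ω C = 0 ↔
      ((∀ E ∈ irreducibleComponents (↥C : Type u), CurvSt.IsSmRatComp Ω C (C ↘ Spec (CommRingCat.of Ω)) E) ∧
        {x : ↥C | Curv2.IsNode Ω C x}.encard + 1 = (irreducibleComponents (↥C : Type u)).encard) := by
  have hred : IsReduced C := Groth.Agent.CurvesC.GenusOne512.isReduced_of_atWorstNodal Ω C hnod
  have hN : IsNoetherian C := Groth.Agent.VarietyB.DegFin.isNoetherian_of_isProper Ω C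
  have hfin := TopologicalSpace.NoetherianSpace.finite_irreducibleComponents (α := (C : Type u))
  obtain ⟨w, t, hwc, huniv⟩ := Groth.Agent.S1752.result Ω C 1 (by exact_mod_cast hdim)
  have hdual := Groth.Agent.CurvesC.isDual_of_raw (k := Ω) (X := C) huniv
  have h0 := K326.DegPts.finrank_zero Ω C
  have hw : PicF.IsInvertible w :=
    Groth.Agent.CurvesC.DualNodal.isInvertible_of_isDual Ω hdim h0 hnod hdual hwc.1
  have hpair : Groth.Agent.CurvesC.DualCount.IsPair Ω t := huniv
  constructor
  · intro hg
    have hP1 : ∀ E ∈ irreducibleComponents (↥C : Type u),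
        CurvSt.IsSmRatComp Ω C (C ↘ Spec (CommRingCat.of Ω)) E := by
      intro E hE
      let _ := Groth.Agent.CurvesC.TailNum.subOver Ω C (Groth.Agent.CurvesC.CompGeom.IC C E hE)
      have h3 := K326.SemiStab.genus_sub_le Ω C hdim.le (Groth.Agent.CurvesC.CompGeom.IC C E hE)
      rw [hg] at h3
      have h4 : Module.finrank Ω (Coh.HH (Groth.Agent.CurvesC.CompGeom.IC C E hE).subscheme
          (Coh.structureModule (Groth.Agent.CurvesC.CompGeom.IC C E hE).subscheme) 1) = 0 := Nat.le_zero.mp h3
      have hP : IsProper ((Groth.Agent.CurvesC.CompGeom.IC C E hE).subscheme ↘ (Spec (CommRingCat.of Ω))) :=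
        inferInstanceAs (IsProper ((Groth.Agent.CurvesC.CompGeom.IC C E hE).subschemeι ≫ (C ↘ (Spec (CommRingCat.of Ω)))))
      have h5 := Groth.Agent.VarietyA.CurveFin.finite_HH_structure Ω (Groth.Agent.CurvesC.CompGeom.IC C E hE).subscheme 1
      exact K896.TailBridge.isSmRatComp_of_h1 Ω C E hE
        (Groth.Agent.CurvesC.TailMain.pure_of_connected C hdim E hE) (Module.finrank_zero_iff.mp h4)
    refine ⟨hP1, ?_⟩
    obtain ⟨h1, h2⟩ := K417.TreeCount.genus_add Ω C hdim hnod hP1 w hw hpair
    rw [hg, zero_add] at h2
    rw [← h1.cast_ncard_eq, ← hfin.cast_ncard_eq, h2]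
    push_cast
    rfl
  · rintro ⟨hP1, hcard⟩
    obtain ⟨h1, h2⟩ := K417.TreeCount.genus_add Ω C hdim hnod hP1 w hw hpair
    rw [← h1.cast_ncard_eq, ← hfin.cast_ncard_eq] at hcard
    have h3 : {x : ↥C | Curv2.IsNode Ω C x}.ncard + 1 = (irreducibleComponents (↥C : Type u)).ncard := by
      exact_mod_cast hcard
    omega

end Groth.Agent.S17258
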