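import Groth.Statements.S19962
import Groth.Agent.S2065
import Mathlib.RingTheory.Regular.Flat
import Mathlib.RingTheory.Localization.Integer

set_option autoImplicit false
universe u
open CAlg

namespace Groth.Agent.S19962


open Groth.Agent.CalgB.Minors

/-- If a minor ideal of the size of the rank contains a nonzerodivisor, rank and determinantal ideal
commute with localization at a prime. -/
theorem rank_map {R : Type u} [CommRing R] {m n : ℕ} (A : Matrix (Fin m) (Fin n) R) (p : Ideal R) [p.IsPrime]
    (r : R) (hr : r ∈ CAlgX.detIdeal A) (hr' : r ∈ nonZeroDivisors R) :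
    CAlgX.matrixRank (A.map (algebraMap R (Localization.AtPrime p))) = CAlgX.matrixRank A := by
  apply matrixRank_eq
  · rw [minorIdeal_map]
    intro h
    have h1 : algebraMap R (Localization.AtPrime p) r ∈ (⊥ : Ideal (Localization.AtPrime p)) := by
      rw [← h]
      exact Ideal.mem_map_of_mem _ hr
    rw [Ideal.mem_bot, IsLocalization.map_eq_zero_iff p.primeCompl] at h1
    obtain ⟨c, hc⟩ := h1
    have h2 : (c : R) = 0 := (mem_nonZeroDivisors_iff.1 hr').2 _ hc
    exact c.2 (by rw [h2]; exact p.zero_mem)
  · rw [minorIdeal_map, minorIdeal_matrixRank_succ, Ideal.map_bot]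

theorem detIdeal_map {R : Type u} [CommRing R] {m n : ℕ} (A : Matrix (Fin m) (Fin n) R) (p : Ideal R) [p.IsPrime]
    (r : R) (hr : r ∈ CAlgX.detIdeal A) (hr' : r ∈ nonZeroDivisors R) :
    CAlgX.detIdeal (A.map (algebraMap R (Localization.AtPrime p))) =
      (CAlgX.detIdeal A).map (algebraMap R (Localization.AtPrime p)) := by
  unfold CAlgX.detIdeal
  rw [rank_map A p r hr hr', minorIdeal_map]

/-- clearing denominators for matrix equations. -/
theorem exists_smul_eq_mulVec {R : Type u} [CommRing R] {m n : ℕ} (B : Matrix (Fin m) (Fin n) R) (p : Ideal R) [p.IsPrime]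
    (x : Fin m → R) (y : Fin n → Localization.AtPrime p)
    (h : (fun k => algebraMap R (Localization.AtPrime p) (x k)) =
      (B.map (algebraMap R (Localization.AtPrime p))).mulVec y) :
    ∃ c : R, c ∉ p ∧ ∃ z : Fin n → R, c • x = B.mulVec z := by
  obtain ⟨b, hb⟩ := IsLocalization.exist_integer_multiples_of_finite p.primeCompl y
  choose z hz using hb
  have h1 : ∀ k, algebraMap R (Localization.AtPrime p) ((b : R) * x k) =
      algebraMap R (Localization.AtPrime p) (B.mulVec z k) := by
    intro k
    have := congrFun h k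
    rw [map_mul, this]
    simp only [Matrix.mulVec, dotProduct, map_sum, map_mul, Matrix.map_apply, Finset.mul_sum]
    refine Finset.sum_congr rfl fun j _ => ?_
    rw [hz j, Algebra.smul_def]
    ring
  have h2 : ∀ k, ∃ c : p.primeCompl, (c : R) * ((b : R) * x k) = (c : R) * (B.mulVec z k) := by
    intro k
    exact (IsLocalization.eq_iff_exists p.primeCompl _).1 (h1 k)
  choose c hc using h2
  let C : R := ∏ k, (c k : R)
  have hC : C ∉ p := by
    have : C = ((∏ k, c k : p.primeCompl) : R) := by simp [C]
    rw [this]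
    exact (∏ k, c k : p.primeCompl).2
  refine ⟨C * b, ?_, C • z, ?_⟩
  · intro hm
    rcases (inferInstance : p.IsPrime).mem_or_mem hm with h | h
    · exact hC h
    · exact b.2 h
  · rw [Matrix.mulVec_smul]
    funext k
    simp only [Pi.smul_apply, smul_eq_mul]
    obtain ⟨d, hd⟩ : (c k : R) ∣ C := Finset.dvd_prod_of_mem _ (Finset.mem_univ k)
    rw [hd]
    linear_combination d * hc k

/-- The local exactness statement at a prime. -/
theorem exact_at {R : Type u} [CommRing R] [IsNoetherianRing R]
    (e : ℕ) (he : 1 ≤ e) (n : ℕ → ℕ) (A : (i : ℕ) → Matrix (Fin (n i)) (Fin (n (i + 1))) R)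
    (hA : ∀ i, i + 2 ≤ e → A i * A (i + 1) = 0)
    (hrank : ∀ j, 1 ≤ j → j ≤ e →
      (CAlgX.matrixRank (A (j - 1)) : ℤ) = ∑ t ∈ Finset.Icc j e, (-1 : ℤ) ^ (t - j) * (n t : ℤ))
    (hdet : ∀ j, 1 ≤ j → j ≤ e →
      CAlgX.detIdeal (A (j - 1)) = ⊤ ∨
        ∃ rs : List R, rs.length = j ∧ (∀ r ∈ rs, r ∈ CAlgX.detIdeal (A (j - 1))) ∧
          RingTheory.Sequence.IsRegular R rs) (p : Ideal R) [p.IsPrime] :
    LinearMap.ker ((A (e - 1)).map (algebraMap R (Localization.AtPrime p))).mulVecLin = ⊥ ∧
      ∀ i, i + 2 ≤ e → LinearMap.ker ((A i).map (algebraMap R (Localization.AtPrime p))).mulVecLin =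
        LinearMap.range ((A (i + 1)).map (algebraMap R (Localization.AtPrime p))).mulVecLin := by
  have hnzd : ∀ j, 1 ≤ j → j ≤ e → ∃ r ∈ CAlgX.detIdeal (A (j - 1)), r ∈ nonZeroDivisors R := by
    intro j h1 h2
    rcases hdet j h1 h2 with h | ⟨rs, hlen, hmem, hreg⟩
    · exact ⟨1, by rw [h]; trivial, one_mem _⟩
    · match rs, hlen, hmem, hreg with
      | [], hlen, _, _ => simp at hlen; omega
      | r :: rs', _, hmem, hreg =>
        refine ⟨r, hmem r (by simp), ?_⟩
        have h3 := hreg.toIsWeaklyRegular
        rw [RingTheory.Sequence.isWeaklyRegular_cons_iff] at h3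
        refine mem_nonZeroDivisors_iff_right.2 fun x hx => ?_
        have h4 : r • x = r • (0 : R) := by rw [smul_eq_mul, mul_comm, hx, smul_zero]
        exact h3.1 h4
  refine (Groth.Agent.S2065.result (R := Localization.AtPrime p) e he n
    (fun i => (A i).map (algebraMap R (Localization.AtPrime p))) ?_).2 ?_
  · intro i hi
    show (A i).map _ * (A (i + 1)).map _ = 0
    rw [← Matrix.map_mul, hA i hi]
    simp
  · intro j h1 h2
    obtain ⟨r, hr, hr'⟩ := hnzd j h1 h2
    refine ⟨?_, ?_⟩
    · show (CAlgX.matrixRank ((A (j - 1)).map (algebraMap R (Localization.AtPrime p))) : ℤ) = _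
      rw [rank_map _ p r hr hr']
      exact hrank j h1 h2
    · show CAlgX.detIdeal ((A (j - 1)).map (algebraMap R (Localization.AtPrime p))) = ⊤ ∨ _
      rw [detIdeal_map _ p r hr hr']
      rcases hdet j h1 h2 with h | ⟨rs, hlen, hmem, hreg⟩
      · left; rw [h, Ideal.map_top]
      · by_cases hp : ∀ r ∈ rs, r ∈ p
        · right
          refine ⟨rs.map (algebraMap R (Localization.AtPrime p)), by simpa using hlen, ?_, ?_⟩
          · intro s hs
            obtain ⟨r', hr', rfl⟩ := List.mem_map.1 hs
            exact Ideal.mem_map_of_mem _ (hmem r' hr')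
          · exact hreg.toIsWeaklyRegular.isRegular_of_isLocalization_of_mem (Localization.AtPrime p) p hp
        · left
          push Not at hp
          obtain ⟨r', hr', hrp⟩ := hp
          apply Ideal.eq_top_of_isUnit_mem _ (Ideal.mem_map_of_mem _ (hmem r' hr'))
          exact IsLocalization.map_units (Localization.AtPrime p) (⟨r', hrp⟩ : p.primeCompl)

/-- Let R be a Noetherian commutative ring, not assumed local, and 0 → R^(n_e) → ⋯ → R^(n_1) → R^(n_0) a
complex of finite free modules with 1 ≤ e, the map R^(n_(i+1)) → R^(n_i) being given by the matrix A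
i. Suppose that for every 1 ≤ j ≤ e the matrix of R^(n_j) → R^(n_(j-1)) has rank n_j - n_(j+1) + ⋯ ±
n_e, the rank of a matrix being the largest size of a nonzero minor, and that its ideal of minors of
that size is either the unit ideal or contains an R-regular sequence of length j. Then the complex
is exact at R^(n_e), …, R^(n_1). -/
theorem result {R : Type u} [CommRing R] [IsNoetherianRing R]
    (e : ℕ) (he : 1 ≤ e) (n : ℕ → ℕ) (A : (i : ℕ) → Matrix (Fin (n i)) (Fin (n (i + 1))) R)
    (hA : ∀ i, i + 2 ≤ e → A i * A (i + 1) = 0)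
    (hrank : ∀ j, 1 ≤ j → j ≤ e →
      (CAlgX.matrixRank (A (j - 1)) : ℤ) = ∑ t ∈ Finset.Icc j e, (-1 : ℤ) ^ (t - j) * (n t : ℤ))
    (hdet : ∀ j, 1 ≤ j → j ≤ e →
      CAlgX.detIdeal (A (j - 1)) = ⊤ ∨
        ∃ rs : List R, rs.length = j ∧ (∀ r ∈ rs, r ∈ CAlgX.detIdeal (A (j - 1))) ∧
          RingTheory.Sequence.IsRegular R rs) :
    LinearMap.ker (A (e - 1)).mulVecLin = ⊥ ∧
      ∀ i, i + 2 ≤ e → LinearMap.ker (A i).mulVecLin = LinearMap.range (A (i + 1)).mulVecLin := by
  have hloc := fun (p : Ideal R) (hp : p.IsPrime) => exact_at e he n A hA hrank hdet p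
  have hmapvec : ∀ (p : Ideal R) (hp : p.IsPrime) (i : ℕ) (x : Fin (n (i + 1)) → R), (A i).mulVec x = 0 →
      ((A i).map (algebraMap R (Localization.AtPrime p))).mulVec (fun k => algebraMap R (Localization.AtPrime p) (x k)) = 0 := by
    intro p hp i x hx
    funext k
    have := congrFun hx k
    simp only [Matrix.mulVec, dotProduct, Matrix.map_apply, Pi.zero_apply] at this ⊢
    rw [← map_zero (algebraMap R (Localization.AtPrime p)), ← this, map_sum]
    simp only [map_mul]
  constructor
  · rw [eq_bot_iff]
    intro x hx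
    rw [Submodule.mem_bot]
    have hann : Ideal.span {r : R | r • x = 0} = ⊤ := by
      by_contra hc
      obtain ⟨m, hm, hle⟩ := Ideal.exists_le_maximal _ hc
      have hmp := hm.isPrime
      obtain ⟨h1, -⟩ := hloc m hmp
      have h2 := hmapvec m hmp (e - 1) x (by simpa using hx)
      have h3 : (fun k => algebraMap R (Localization.AtPrime m) (x k)) = 0 := by
        have : (fun k => algebraMap R (Localization.AtPrime m) (x k)) ∈
            LinearMap.ker ((A (e - 1)).map (algebraMap R (Localization.AtPrime m))).mulVecLin := by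
          rw [LinearMap.mem_ker, Matrix.mulVecLin_apply]
          exact h2
        rw [h1] at this
        simpa using this
      obtain ⟨c, hc, z, hz⟩ := exists_smul_eq_mulVec (n := 0) (Matrix.of (fun _ k => k.elim0)) m x Fin.elim0 (by
        rw [h3]
        funext k
        simp [Matrix.mulVec, dotProduct])
      apply hc
      apply hle
      apply Ideal.subset_span
      show c • x = 0
      rw [hz]
      funext k
      simp [Matrix.mulVec, dotProduct]
    have h1 : ∀ r ∈ Ideal.span {r : R | r • x = 0}, r • x = 0 := by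
      intro r hr
      induction hr using Submodule.span_induction with
      | mem r hr => exact hr
      | zero => simp
      | add a b _ _ ha hb => rw [add_smul, ha, hb, add_zero]
      | smul a b _ hb => rw [smul_eq_mul, mul_smul, hb, smul_zero]
    have := h1 1 (by rw [hann]; trivial)
    rwa [one_smul] at this
  · intro i hi
    apply le_antisymm
    · intro x hx
      have hann : Submodule.colon (LinearMap.range (A (i + 1)).mulVecLin) {x} = ⊤ := by
        by_contra hc
        obtain ⟨m, hm, hle⟩ := Ideal.exists_le_maximal _ hc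
        have hmp := hm.isPrime
        obtain ⟨-, h1⟩ := hloc m hmp
        have h2 := hmapvec m hmp i x (by simpa using hx)
        have h3 : (fun k => algebraMap R (Localization.AtPrime m) (x k)) ∈
            LinearMap.ker ((A i).map (algebraMap R (Localization.AtPrime m))).mulVecLin := by
          rw [LinearMap.mem_ker, Matrix.mulVecLin_apply]
          exact h2
        rw [h1 i hi] at h3
        obtain ⟨y, hy⟩ := h3
        obtain ⟨c, hc, z, hz⟩ := exists_smul_eq_mulVec (A (i + 1)) m x y (by
          rw [← hy, Matrix.mulVecLin_apply])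
        apply hc
        apply hle
        rw [Submodule.mem_colon_singleton, hz]
        exact ⟨z, by rw [Matrix.mulVecLin_apply]⟩
      have h1 : (1 : R) ∈ Submodule.colon (LinearMap.range (A (i + 1)).mulVecLin) {x} := by
        rw [hann]; trivial
      rw [Submodule.mem_colon_singleton, one_smul] at h1
      exact h1
    · rintro _ ⟨y, rfl⟩
      rw [LinearMap.mem_ker, Matrix.mulVecLin_apply, Matrix.mulVecLin_apply, Matrix.mulVec_mulVec, hA i hi,
        Matrix.zero_mulVec]

end Groth.Agent.S19962
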