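import Groth.Statements.S7621
import Groth.Agent.Variety.K419.ChartBC
import Mathlib.FieldTheory.Galois.Basic

set_option autoImplicit false
universe u
open CategoryTheory CategoryTheory.Limits AlgebraicGeometry
open Variety

namespace Groth.Agent.S7621

open TensorProduct

theorem galAct_fst (k : Type u) [Field k] (K : Type u) [Field K] [Algebra k K]
    (X : Scheme.{u}) [X.Over (Spec (CommRingCat.of k))] (σ : K ≃ₐ[k] K) :
    Curv2.galAct k X K σ ≫ pullback.fst _ _ = pullback.fst _ _ :=
  (pullback.lift_fst _ _ _).trans (Category.comp_id _)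

theorem galAct_snd (k : Type u) [Field k] (K : Type u) [Field K] [Algebra k K]
    (X : Scheme.{u}) [X.Over (Spec (CommRingCat.of k))] (σ : K ≃ₐ[k] K) :
    Curv2.galAct k X K σ ≫ pullback.snd _ _ =
      pullback.snd _ _ ≫ Spec.map (CommRingCat.ofHom (σ : K →ₐ[k] K).toRingHom) :=
  pullback.lift_snd _ _ _

theorem galAct_comp (k : Type u) [Field k] (K : Type u) [Field K] [Algebra k K]
    (X : Scheme.{u}) [X.Over (Spec (CommRingCat.of k))] (σ : K ≃ₐ[k] K) :
    Curv2.galAct k X K σ ≫ Curv2.galAct k X K σ.symm = 𝟙 _ := by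
  apply pullback.hom_ext
  · rw [Category.assoc, galAct_fst, galAct_fst, Category.id_comp]
  · rw [Category.assoc, galAct_snd, ← Category.assoc, galAct_snd, Category.assoc, ← Spec.map_comp,
      ← CommRingCat.ofHom_comp, Category.id_comp]
    have h : (σ : K →ₐ[k] K).toRingHom.comp (σ.symm : K →ₐ[k] K).toRingHom = RingHom.id K := by
      ext x
      simp
    rw [h]
    exact (congrArg (fun t => pullback.snd _ _ ≫ t) (Spec.map_id _)).trans (Category.comp_id _)


/-- Let K be a (possibly infinite) Galois extension of a field k, X a scheme over k and V a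
quasi-compact open subset of X_K. Then there is a subextension k'/k of K, finite over k, such that
every k-automorphism of K fixing k' pointwise maps V onto itself under its action on X_K (an open
subgroup of the Galois group stabilises V). -/
theorem result (k : Type u) [Field k] (K : Type u) [Field K] [Algebra k K] [IsGalois k K]
    (X : Scheme.{u}) [X.Over (Spec (CommRingCat.of k))] (V : Set ↥(Curv2.bc k X K)) (hV : IsOpen V) (hVc : IsCompact V) :
    ∃ E : IntermediateField k K, FiniteDimensional k ↥E ∧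
      ∀ σ : K ≃ₐ[k] K, (∀ a : K, a ∈ E → σ a = a) → (Curv2.galAct k X K σ).base '' V = V := by
  classical
  obtain ⟨T, hT, hVT⟩ := K419.ChartBC.exists_finite_cover (f := (X ↘ (Spec (CommRingCat.of k)))) K V hV hVc
  have h1 : ∀ t : Σ c : K419.ChartBC.Ch (X ↘ (Spec (CommRingCat.of k))), TensorProduct k c.S K,
      ∃ F : Finset K, ∀ (B' : Type u) [CommRing B'] [Algebra k B'] (φ : B' →ₐ[k] K),
      (∀ b ∈ F, b ∈ φ.range) →
      t.2 ∈ (Algebra.TensorProduct.map (AlgHom.id k t.1.S) φ).range := fun t =>
    K419.ChartBC.exists_finset_range t.1.S K t.2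
  choose F hF using h1
  let G : Finset K := hT.toFinset.biUnion F
  let E : IntermediateField k K := IntermediateField.adjoin k (G : Set K)
  have hG : ∀ t ∈ T, t.2 ∈ (Algebra.TensorProduct.map (AlgHom.id k t.1.S) E.val).range := by
    intro t ht
    refine hF t E E.val fun b hb => ?_
    refine ⟨⟨b, IntermediateField.subset_adjoin k _ ?_⟩, rfl⟩
    exact Finset.mem_coe.2 (Finset.mem_biUnion.2 ⟨t, hT.mem_toFinset.2 ht, hb⟩)
  have hfix : ∀ (σ : K ≃ₐ[k] K), (∀ a : K, a ∈ E → σ a = a) →
      (Curv2.galAct k X K σ).base ⁻¹' V = V := by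
    intro σ hσ
    have h3 : ∀ t ∈ T, (Curv2.galAct k X K σ).base ⁻¹' (K419.ChartBC.bo t.1 K t.2) =
        K419.ChartBC.bo t.1 K t.2 := by
      intro t ht
      have h4 := K419.ChartBC.preimage_bo t.1 (σ : K →ₐ[k] K) (Curv2.galAct k X K σ)
        (galAct_fst k K X σ) (galAct_snd k K X σ) t.2
      have h5 : Algebra.TensorProduct.map (AlgHom.id k t.1.S) (σ : K →ₐ[k] K) t.2 = t.2 := by
        obtain ⟨g, hg⟩ := hG t ht
        rw [← hg]
        change ((Algebra.TensorProduct.map (AlgHom.id k t.1.S) (σ : K →ₐ[k] K)).comp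
          (Algebra.TensorProduct.map (AlgHom.id k t.1.S) E.val)) g = _
        congr 1
        ext a
        · simp
        · change _ = (Algebra.TensorProduct.map (AlgHom.id k t.1.S) E.val) (1 ⊗ₜ a)
          simp [hσ a.1 a.2]
      rw [h5] at h4
      exact h4
    rw [hVT, Set.preimage_iUnion₂]
    exact Set.iUnion₂_congr h3
  refine ⟨E, IntermediateField.finiteDimensional_adjoin fun x _ => ?_, fun σ hσ => ?_⟩
  · exact (Algebra.IsIntegral.isIntegral (R := k) x)
  · have h2 : ∀ a : K, a ∈ E → σ.symm a = a := fun a ha => by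
      rw [AlgEquiv.symm_apply_eq, hσ a ha]
    have h3 := hfix σ.symm h2
    have h5 : ∀ x, (Curv2.galAct k X K σ) ((Curv2.galAct k X K σ.symm) x) = x := by
      intro x
      have h4 := galAct_comp k K X σ.symm
      rw [AlgEquiv.symm_symm] at h4
      rw [← Scheme.Hom.comp_apply, h4]
      rfl
    have h6 := hfix σ hσ
    apply subset_antisymm
    · rintro _ ⟨v, hv, rfl⟩
      rw [← h6] at hv
      exact hv
    · intro v hv
      refine ⟨(Curv2.galAct k X K σ.symm) v, ?_, h5 v⟩
      rw [← h3] at hv
      exact hv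

end Groth.Agent.S7621
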