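import Groth.Statements.S8598
import Groth.Agent.Etrest.Supp
import Mathlib.CategoryTheory.Adjunction.FullyFaithful

set_option autoImplicit false
universe u
open CategoryTheory CategoryTheory.Limits AlgebraicGeometry Opposite
open EtDl

namespace Groth.Agent.S8598

set_option backward.isDefEq.respectTransparency.types false in
/-- The object `V ×_Y X` of the small étale site of `Y`. -/
noncomputable def cov {X Y : Scheme.{u}} (u : X ⟶ Y) [Etale u] (V : Y.Etale) :
    (EtShriek.compEtale u).obj ((EtCoh.bc u).obj V) ⟶ V :=
  MorphismProperty.Over.homMk (pullback.fst V.hom u)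
    (pullback.condition (f := V.hom) (g := u))

theorem faithful_restrAlong {X Y : Scheme.{u}} (u : X ⟶ Y) [Etale u] [Surjective u]
    [EtShriek.JCont u] : (EtShriek.restrAlong u).Faithful where
  map_injective {F G φ ψ} h := by
    apply Sheaf.hom_ext
    ext V s
    apply Groth.Agent.Etrest.Supp.eq_of_locally_eq
    intro v
    obtain ⟨x, hx⟩ := u.surjective (V.unop.hom v)
    obtain ⟨z, hz, -⟩ := Scheme.Pullback.exists_preimage_pullback (f := V.unop.hom) (g := u) v x hx.symm
    refine ⟨(EtShriek.compEtale u).obj ((EtCoh.bc u).obj V.unop), cov u V.unop, z, hz, ?_⟩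
    have h1 : φ.hom.app (op ((EtShriek.compEtale u).obj ((EtCoh.bc u).obj V.unop))) =
        ψ.hom.app (op ((EtShriek.compEtale u).obj ((EtCoh.bc u).obj V.unop))) :=
      congrArg (fun k => k.hom.app (op ((EtCoh.bc u).obj V.unop))) h
    have h2 := congrArg (fun k => k s) (congrArg AddCommGrpCat.Hom.hom (φ.hom.naturality (cov u V.unop).op))
    have h3 := congrArg (fun k => k s) (congrArg AddCommGrpCat.Hom.hom (ψ.hom.naturality (cov u V.unop).op))
    simp only [AddCommGrpCat.hom_comp, AddMonoidHom.coe_comp, Function.comp_apply] at h2 h3
    refine h2.symm.trans (Eq.trans ?_ h3)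
    rw [h1]

/-- Let u : X -> Y be an etale, separated morphism of finite type that is surjective, and F an abelian
sheaf on Y_et. The sheaves F_n = (u_n)_! u_n^* F built from the iterated fibre powers of X over Y
form a left resolution of F; in particular (the part stated here) the augmentation u_! u^* F -> F,
which is the counit of the adjunction between extension by zero u_! and restriction u^*, is an
epimorphism. (The continuity of V ↦ (V -> X -> Y) between the small etale sites is carried as an
instance hypothesis, the prelude's convention for extension by zero along an etale morphism.) -/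
theorem result {X Y : Scheme.{u}} (u : X ⟶ Y) [Etale u] [IsSeparated u]
    [LocallyOfFiniteType u] [QuasiCompact u] [Surjective u] [EtShriek.JCont u] (F : EtCoh.Ab Y) :
    Epi ((EtShriek.extZeroAdj u).counit.app F) := by
  have := faithful_restrAlong u
  infer_instance

end Groth.Agent.S8598
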