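import Groth.Statements.S9218
import Groth.Agent.Smoothlim.LimDescend

set_option autoImplicit false
universe u
open CategoryTheory CategoryTheory.Limits AlgebraicGeometry
open Lim

namespace Groth.Agent.S9218

set_option backward.isDefEq.respectTransparency false in
/-- Let S = lim S_i be a cofiltered limit of schemes with affine transition morphisms (the S_i are not
assumed quasi-compact or quasi-separated), i an index, and X_i → S_i, Y_i → S_i morphisms locally of
finite presentation with X_i, Y_i quasi-compact and quasi-separated; let X, Y be their base changes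
to S (pullback squares). Then every S-morphism f : X → Y comes from some stage: for some index j
over i there is an S_j-morphism f_j : X_i ×_{S_i} S_j → Y_i ×_{S_i} S_j whose base change to S is f,
in the sense that the canonical morphisms X → X_i ×_{S_i} S_j and Y → Y_i ×_{S_i} S_j intertwine f
and f_j. This is the fullness part of the equivalence between the colimit of the categories of
quasi-compact quasi-separated schemes locally of finite presentation over the S_i and the
corresponding category over S. -/
theorem result {I : Type u} [SmallCategory I] [IsCofiltered I]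
    (D : I ⥤ Scheme.{u}) (c : Limits.Cone D) (hc : Limits.IsLimit c)
    [∀ (i j : I) (f : i ⟶ j), IsAffineHom (D.map f)] (i : I)
    {Xi Yi : Scheme.{u}} (xi : Xi ⟶ D.obj i) (yi : Yi ⟶ D.obj i)
    [CompactSpace Xi] [QuasiSeparatedSpace Xi] [LocallyOfFinitePresentation xi]
    [CompactSpace Yi] [QuasiSeparatedSpace Yi] [LocallyOfFinitePresentation yi]
    {X Y : Scheme.{u}} (qX : X ⟶ Xi) (pX : X ⟶ c.pt) (hX : IsPullback qX pX xi (c.π.app i))
    (qY : Y ⟶ Yi) (pY : Y ⟶ c.pt) (hY : IsPullback qY pY yi (c.π.app i))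
    (f : X ⟶ Y) (hf : f ≫ pY = pX) :
    ∃ (j : I) (φ : j ⟶ i) (fj : pullback xi (D.map φ) ⟶ pullback yi (D.map φ))
      (sX : X ⟶ pullback xi (D.map φ)) (sY : Y ⟶ pullback yi (D.map φ)),
      fj ≫ pullback.snd yi (D.map φ) = pullback.snd xi (D.map φ) ∧
      sX ≫ pullback.fst xi (D.map φ) = qX ∧ sX ≫ pullback.snd xi (D.map φ) = pX ≫ c.π.app j ∧
      sY ≫ pullback.fst yi (D.map φ) = qY ∧ sY ≫ pullback.snd yi (D.map φ) = pY ≫ c.π.app j ∧
      sX ≫ fj = f ≫ sY := by
  have : ∀ {i j : I} (φ : i ⟶ j), IsAffineHom (D.map φ) := fun {i j} φ ↦ inferInstance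
  let E : Over i ⥤ Scheme.{u} := Smoothlim.LimBase.pbDiag D i xi
  let cE : Cone E := Smoothlim.LimBase.pbCone i xi c qX pX hX.toCommSq
  have hcE : IsLimit cE := Smoothlim.LimBase.isLimitPbCone i xi c hc qX pX hX
  have hE' : ∀ {φ ψ : Over i} (h : φ ⟶ ψ), IsAffineHom (E.map h) :=
    fun h ↦ Smoothlim.LimBase.isAffineHom_pbDiag_map D i xi h
  have hfst (φ : Over i) : IsAffineHom (pullback.fst xi (D.map φ.hom)) :=
    MorphismProperty.pullback_fst _ _ inferInstance
  have hc1 (φ : Over i) : CompactSpace (E.obj φ) :=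
    QuasiCompact.compactSpace_of_compactSpace (pullback.fst xi (D.map φ.hom))
  have hc2 (φ : Over i) : QuasiSeparatedSpace (E.obj φ) :=
    quasiSeparatedSpace_of_quasiSeparated (pullback.fst xi (D.map φ.hom))
  let t : E ⟶ (Functor.const (Over i)).obj (D.obj i) :=
    { app φ := pullback.fst xi (D.map φ.hom) ≫ xi
      naturality φ ψ h := by simp [E] }
  have hcp (φ : Over i) : cE.π.app φ ≫ pullback.fst xi (D.map φ.hom) = qX := by
    simp [cE]
  obtain ⟨k, g, hg, hg'⟩ := Scheme.exists_π_app_comp_eq_of_locallyOfFinitePresentation E t yi cE hcE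
    (f ≫ qY) (by
      ext φ : 2
      simp only [NatTrans.comp_app, Functor.const_map_app, Category.assoc, t]
      rw [reassoc_of% (hcp φ), hY.w, reassoc_of% hf, hX.w])
  have hg'' : g ≫ yi = pullback.snd xi (D.map k.hom) ≫ D.map k.hom := by
    rw [hg', ← pullback.condition]
  refine ⟨k.left, k.hom, pullback.lift g (pullback.snd _ _) hg'', cE.π.app k,
    pullback.lift qY (pY ≫ c.π.app k.left) (by rw [Category.assoc, c.w, hY.w]),
    pullback.lift_snd _ _ _, hcp k, by simp [cE], pullback.lift_fst _ _ _, pullback.lift_snd _ _ _, ?_⟩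
  apply pullback.hom_ext
  · simp [hg]
  · simp [cE, reassoc_of% hf]

end Groth.Agent.S9218
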