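import Groth.Statements.S7229
import Groth.Agent.FlatMor.K254.ChartPush
import Groth.Agent.Dual.H349.Chart

set_option autoImplicit false
universe u
open CategoryTheory CategoryTheory.Limits AlgebraicGeometry Opposite TopologicalSpace
attribute [local instance] HasDerivedCategory.standard
open FlatMor

namespace Groth.Agent.S7229

open Groth.Agent.Cohder Groth.Agent.Cohder.RelPCGraph

/-- The pseudo-coherence of the direct image on an affine space, after an isomorphism of the affine base. -/
theorem aux {A B : Type u} [CommRing A] [CommRing B] {X : Scheme.{u}}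
    (π : X ⟶ Spec (CommRingCat.of A)) [IsSeparated π] [QuasiCompact π] [LocallyOfFinitePresentation π]
    [DCoh.HasRpush π] (K : CochainComplex X.Modules ℤ) [DCoh.HasLTensorCx K]
    (hK : DCoh.IsQCohD (DCoh.toD X K))
    (h : ∀ E : DCoh.D X, DCoh.IsPerfect E →
      ∀ m : ℤ, DCoh.IsPseudoCoherentD m ((DCoh.Rpush π).obj ((DCoh.LTensorCx K).obj E)))
    (e : Spec (CommRingCat.of A) ≅ Spec (CommRingCat.of B)) {U : X.Opens} (hU : IsAffineOpen U)
    {n : ℕ} (φ : MvPolynomial (Fin n) B →+* Γ(X, U)) (hφ : Function.Surjective φ)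
    (hk : hU.fromSpec ≫ π ≫ e.hom = sp (ψ φ)) (m : ℤ) (G : CochainComplex X.Modules ℤ)
    (hG : Nonempty (DCoh.toD X G ≅ DCoh.toD X K)) :
    DCoh.IsPseudoCoherentD m (DCoh.toD _
        ((DerSch.pushCx (DerSch.chartImm U φ)).obj ((DCoh.restrictCx U).obj G))) := by
  have hr : DCoh.HasRpush (π ≫ e.hom) := Groth.Agent.Dcoh.DerSch.hasRpush _
  have hre : DCoh.HasRpush e.hom := Groth.Agent.Dcoh.DerSch.hasRpush _
  obtain ⟨c⟩ := Groth.Agent.Dcoh.DerPull.exists_rpushCompIso π e.hom
  have hE' : ∀ E : DCoh.D X, DCoh.IsPerfect E → ∀ m : ℤ,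
      DCoh.IsPseudoCoherentD m ((DCoh.Rpush (π ≫ e.hom)).obj ((DCoh.LTensorCx K).obj E)) :=
    fun E hE m => Groth.Agent.PerfC.PcLocal.pc_of_iso
      (((K254.ChartPush.rpushOfIso e).app _).symm ≪≫ c.app _)
      (Groth.Agent.PerfC.PcLocal.pc_restrict e.inv (h E hE m))
  have hs : DCoh.HasRpush (sp φ) := Groth.Agent.Dcoh.DerSch.hasRpush _
  exact (K254.ChartPush.test_iff hU φ hφ m _).2
    (RelPC.pc_main (π ≫ e.hom) φ hU.fromSpec hk K hK hE' hφ m) G hG

/-- Let A be a ring and X a scheme separated and of finite presentation over A, with structure morphism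
π : X ⟶ Spec A. Let K be a cochain complex of O_X-modules whose class in D(O_X) has quasi-coherent
cohomology sheaves. Assume, the functors Rπ_* and - ⊗^L K being taken to exist, that for every
perfect object E of D(O_X) the object Rπ_*(E ⊗^L K) is pseudo-coherent on Spec A (m-pseudo-coherent
for every m). Then the class of K is pseudo-coherent relative to π: m-pseudo-coherent relative to π
for every integer m, in chart form. (The published statement asks RΓ(X, E ⊗^L K) to be
pseudo-coherent in D(A); on the affine scheme Spec A the two formulations correspond under the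
equivalence of D(A) with the quasi-coherent derived category.) -/
theorem result (A : Type u) [CommRing A] {X : Scheme.{u}}
    (π : X ⟶ Spec (CommRingCat.of A)) [IsSeparated π] [QuasiCompact π] [LocallyOfFinitePresentation π]
    [DCoh.HasRpush π] (K : CochainComplex X.Modules ℤ) [DCoh.HasLTensorCx K]
    (hK : DCoh.IsQCohD (DCoh.toD X K))
    (h : ∀ E : DCoh.D X, DCoh.IsPerfect E →
      ∀ m : ℤ, DCoh.IsPseudoCoherentD m ((DCoh.Rpush π).obj ((DCoh.LTensorCx K).obj E))) :
    DerSch.IsPseudoCoherentRelAll π (DCoh.toD X K) := by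
  intro m
  refine ⟨inferInstance, {⟨⊤, isAffineOpen_top _⟩}, by simp, ?_⟩
  rintro V rfl
  refine ⟨Set.univ, ?_, ?_⟩
  · simp only [Set.mem_univ, iSup_pos]
    exact iSup_affineOpens_eq_top X
  rintro U - hUV
  have hU : IsAffineOpen (U : X.Opens) := U.2
  let B : CommRingCat.{u} := Γ(Spec (CommRingCat.of A), ⊤)
  let e : Spec (CommRingCat.of A) ≅ Spec B := (Spec (CommRingCat.of A)).isoSpec
  have hft : (π.appLE ⊤ (U : X.Opens) hUV).hom.FiniteType :=
    HasRingHomProperty.appLE @LocallyOfFiniteType π inferInstance ⟨⊤, isAffineOpen_top _⟩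
      ⟨(U : X.Opens), hU⟩ hUV
  obtain ⟨n, φ₀, hφ₀⟩ := Groth.Agent.Dual.H349.Chart.exists_presentation
    (π.appLE ⊤ (U : X.Opens) hUV) hft
  let _ : Algebra B Γ(X, (U : X.Opens)) := (π.appLE ⊤ (U : X.Opens) hUV).hom.toAlgebra
  let φ : MvPolynomial (Fin n) B →+* Γ(X, (U : X.Opens)) := φ₀.toRingHom
  have hφ : Function.Surjective φ := hφ₀
  have hφC : ψ φ = (π.appLE ⊤ (U : X.Opens) hUV).hom := RingHom.ext fun r => φ₀.commutes r
  refine ⟨n, φ, ⟨hφ, hφC⟩, ?_⟩
  have hk : hU.fromSpec ≫ π ≫ e.hom = sp (ψ φ) := by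
    have h1 := IsAffineOpen.SpecMap_appLE_fromSpec π
      (isAffineOpen_top (Spec (CommRingCat.of A))) hU hUV
    have h2 : sp (ψ φ) = Spec.map (π.appLE ⊤ (U : X.Opens) hUV) := by
      rw [hφC]; rfl
    rw [h2, ← Category.assoc, ← h1, Category.assoc, IsAffineOpen.fromSpec_top]
    exact (congrArg _ (Iso.inv_hom_id _)).trans (Category.comp_id _)
  exact aux (B := B) π K hK h e hU φ hφ hk m

end Groth.Agent.S7229
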