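import Groth.Statements.S15604
import Groth.Agent.S3024
import Groth.Agent.AlgGrp.K405.RedClosed
import Groth.Agent.Etcore.SmoothRed
import Mathlib.AlgebraicGeometry.Group.Smooth
-- import your own Groth.Agent.* helpers here

set_option autoImplicit false
universe u
open CategoryTheory MonoidalCategory CartesianMonoidalCategory MonObj GrpObj AlgebraicGeometry
open AlgGrp

namespace Groth.Agent.S15604

/-- The target of a quasi-compact schematically dominant morphism over a field is geometrically
reduced if the source is. -/
theorem geometricallyReduced_of_dominant {k : Type u} [Field k] {G H : Over (Spec (CommRingCat.of k))}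
    (f : G ⟶ H) [QuasiCompact f.left] [IsSchemeTheoreticallyDominant f.left]
    [GeometricallyReduced G.hom] : GeometricallyReduced H.hom := by
  refine ⟨fun K _ y Z p q h => ?_⟩
  let T : Over (Spec (CommRingCat.of k)) := Over.mk y
  have hT : Flat T.hom := by change Flat y; infer_instance
  have h1 : QuasiCompact (f ▷ T).left := Groth.Agent.Sga3C.SchemImage.quasiCompact_whiskerRight f T
  have h2 : IsSchemeTheoreticallyDominant (f ▷ T).left :=
    Groth.Agent.Sga3C.SchemImage.dominant_whiskerRight f T
  have h3 : AlgebraicGeometry.IsReduced (G ⊗ T).left :=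
    GeometricallyReduced.geometrically_isReduced (f := G.hom) y (Limits.pullback.fst G.hom y)
      (Limits.pullback.snd G.hom y) (IsPullback.of_hasPullback _ _)
  have h4 : AlgebraicGeometry.IsReduced (H ⊗ T).left :=
    IsSchemeTheoreticallyDominant.isReduced (f ▷ T).left
  have h5 : AlgebraicGeometry.IsReduced (Limits.pullback H.hom y) := h4
  exact isReduced_of_isOpenImmersion h.isoPullback.hom


/-- Let k be a field and f : G ⟶ G' a homomorphism of k-group schemes of finite type, with G smooth over
k. The image of f is closed (not asserted here); with its reduced induced structure it is smooth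
over k: every reduced closed subscheme H of G' whose underlying set is the set-theoretic image of f
is smooth over k. -/
theorem result (k : Type u) [Field k]
    (G G' : Over (Spec (CommRingCat.of k))) [GrpObj G] [GrpObj G'] [Smooth G.hom] [QuasiCompact G.hom]
    [LocallyOfFiniteType G'.hom] [QuasiCompact G'.hom] (f : G ⟶ G') [IsMonHom f]
    (H : Scheme.{u}) (i : H ⟶ G'.left) [IsClosedImmersion i] [IsReduced H]
    (hH : Set.range i.base = Set.range f.left.base) : Smooth (i ≫ G'.hom) := by
  have hqc : QuasiCompact f.left := by
    have : IsLocallyNoetherian G'.left := LocallyOfFiniteType.isLocallyNoetherian G'.hom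
    have : QuasiCompact (f.left ≫ G'.hom) := by rw [Over.w]; infer_instance
    exact QuasiCompact.of_comp f.left G'.hom
  obtain ⟨H', _, i', f', hi', hf', hcomp, hci, hker, hqc', hsurj⟩ := Groth.Agent.S3024.result k G G' f
  have hdom : IsSchemeTheoreticallyDominant f'.left := ⟨hker⟩
  have hGred : GeometricallyReduced G.hom := by
    refine ⟨fun K _ y Z p q h => ?_⟩
    have : Smooth q := MorphismProperty.of_isPullback h ‹Smooth G.hom›
    exact Groth.Agent.Etcore.SmoothRed.isReduced_of_smooth q
  have hHred : GeometricallyReduced H'.hom := geometricallyReduced_of_dominant f'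
  have hHft : LocallyOfFiniteType H'.hom := by
    rw [← Over.w i']; infer_instance
  have hsm : Smooth H'.hom := by
    have : GrpObj (Over.mk H'.hom) := ‹GrpObj H'›
    exact smooth_of_grpObj H'.hom
  have hH'red : AlgebraicGeometry.IsReduced H'.left :=
    Groth.Agent.Etcore.SmoothRed.isReduced_of_smooth H'.hom
  have hr : Set.range i'.left.base = Set.range f.left.base := by
    rw [← hcomp]
    ext y
    constructor
    · rintro ⟨z, rfl⟩
      obtain ⟨x, rfl⟩ := f'.left.surjective z
      exact ⟨x, rfl⟩
    · rintro ⟨x, rfl⟩
      exact ⟨f'.left.base x, rfl⟩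
  -- the two reduced closed subschemes with the same support agree
  obtain ⟨e, he, he'⟩ := K405.RedClosed.exists_isIso i i'.left (hH.trans hr.symm)
  have : i ≫ G'.hom = e ≫ H'.hom := by
    rw [← he', Category.assoc, Over.w]
  rw [this]
  infer_instance

end Groth.Agent.S15604
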