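import Groth.Statements.S4715
import Groth.Agent.EGA4.K111.DimSpec

set_option autoImplicit false
universe u
open EGA4

namespace Groth.Agent.S4715

open AlgebraicGeometry CategoryTheory Topology in
theorem eq_of_specializes {X Y : Scheme.{u}} (f : X ⟶ Y) [LocallyQuasiFinite f] (x x' : X)
    (h : x ⤳ x') (he : f x = f x') : x = x' := by
  have hd := f.isDiscrete_preimage_singleton (f x')
  have hdt := hd.to_subtype
  have ho : IsOpen ({⟨x', rfl⟩} : Set (f ⁻¹' {f x'})) := isOpen_discrete _
  obtain ⟨U, hU, hUx⟩ := isOpen_induced_iff.mp ho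
  have hx' : x' ∈ U := by
    have : (⟨x', rfl⟩ : f ⁻¹' {f x'}) ∈ Subtype.val ⁻¹' U := by rw [hUx]; rfl
    exact this
  have hx : x ∈ U := h.mem_open hU hx'
  have h1 : (⟨x, he⟩ : f ⁻¹' {f x'}) ∈ Subtype.val ⁻¹' U := hx
  rw [hUx] at h1
  exact congrArg Subtype.val h1

open AlgebraicGeometry CategoryTheory in
/-- Let f : X → Y be a quasi-finite morphism (of finite type with discrete fibres) of locally Noetherian
schemes. Then dim X is at most the dimension of the closure of f(X), which is at most dim Y. -/
theorem result {X Y : Scheme.{u}} (f : X ⟶ Y) [IsLocallyNoetherian X] [IsLocallyNoetherian Y]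
    [LocallyQuasiFinite f] [LocallyOfFiniteType f] [QuasiCompact f] :
    topologicalKrullDim X ≤ topologicalKrullDim (closure (Set.range f.base)) ∧
      topologicalKrullDim (closure (Set.range f.base)) ≤ topologicalKrullDim Y := by
  refine ⟨?_, topologicalKrullDim_subspace_le Y _⟩
  have hq : QuasiSober (closure (Set.range f.base)) :=
    isClosed_closure.isClosedEmbedding_subtypeVal.quasiSober
  refine K111.DimSpec.topologicalKrullDim_le_of_discreteFibres
    (fun x => (⟨f.base x, subset_closure ⟨x, rfl⟩⟩ : closure (Set.range f.base)))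
    (f.continuous.subtype_mk _) fun x x' h he => ?_
  exact eq_of_specializes f x x' h (congrArg Subtype.val he)

end Groth.Agent.S4715
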