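import Groth.Statements.S9000
import Groth.Agent.Flat2A.ImpurityBC
import Groth.Agent.S0506
import Groth.Agent.Hensel.Lazard
import Mathlib.RingTheory.Unramified.Finite
import Mathlib.RingTheory.Ideal.GoingDown
-- import your own Groth.Agent.* helpers here

set_option autoImplicit false
universe u
open FlatMor

namespace Groth.Agent.S9000

open TensorProduct in
attribute [local instance] Algebra.TensorProduct.rightAlgebra in

open IsLocalRing in
/-- For Spec B → Spec A of finite type, a finite B-module N and a prime p of A, an impurity of N above p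
over an elementary etale neighbourhood of (A, p) yields an impurity of N above p over the
henselization of the local ring of A at p, based at its closed point. (The other implications of the
published equivalence are separate results: from the henselization to an elementary etale
neighbourhood, and between elementary etale neighbourhoods and base rings quasi-finite at the
point.) -/
theorem result {A B : Type u} [CommRing A] [CommRing B] [Algebra A B] [Algebra.FiniteType A B] (N : Type u) [AddCommGroup N] [Module B N] [Module.Finite B N] (p : Ideal A) [p.IsPrime] (h : FlatCA.HasImpurity A B N p (fun A' _ _ t => ∃ _ : t.IsPrime, FlatCA.IsEtaleNhd A A' p t)) : FlatCA.HasImpurity A B N p (fun A' _ _ t => ∃ (_ : IsLocalRing A') (_ : Algebra (Localization.AtPrime p) A') (_ : IsScalarTower A (Localization.AtPrime p) A') (_ : IsLocalHom (algebraMap (Localization.AtPrime p) A')), Hensel.IsHenselization (Localization.AtPrime p) A' ∧ t = maximalIdeal A') := by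
  rw [Flat2A.ImpurityBC.hasImpurity_iff] at h ⊢
  obtain ⟨A₁, _, _, t', t, _, _, hover, ⟨_, hetR, hov, hbij⟩, himp⟩ := h
  obtain ⟨S, _, _, _, _, hS⟩ := S0506.result (Localization.AtPrime p)
  let _ : Algebra A S := ((algebraMap (Localization.AtPrime p) S).comp (algebraMap A (Localization.AtPrime p))).toAlgebra
  have _ : IsScalarTower A (Localization.AtPrime p) S := .of_algebraMap_eq' rfl
  -- the residue field map
  let e : p.ResidueField ≃ₐ[A] t.ResidueField :=
    AlgEquiv.ofBijective (Ideal.ResidueField.mapₐ p t (Algebra.ofId A A₁) hov.over) hbij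
  let τ : p.ResidueField →ₐ[A] ResidueField S :=
    { toRingHom := ResidueField.map (algebraMap (Localization.AtPrime p) S)
      commutes' := fun a => by
        rw [IsScalarTower.algebraMap_apply A S (ResidueField S),
          IsScalarTower.algebraMap_apply A (Localization.AtPrime p) S]
        exact ResidueField.map_residue (algebraMap (Localization.AtPrime p) S) _ }
  let σ₀ : A₁ →ₐ[A] ResidueField S :=
    τ.comp (e.symm.toAlgHom.comp (IsScalarTower.toAlgHom A A₁ t.ResidueField))
  have hker : ∀ a : A₁, σ₀ a = 0 ↔ a ∈ t := by
    intro a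
    have h1 : σ₀ a = (τ : p.ResidueField →+* ResidueField S) (e.symm (algebraMap A₁ t.ResidueField a)) := rfl
    rw [h1, map_eq_zero, EmbeddingLike.map_eq_zero_iff, Ideal.algebraMap_residueField_eq_zero]
  let σ : (Localization.AtPrime p) ⊗[A] A₁ →ₐ[Localization.AtPrime p] ResidueField S :=
    Algebra.TensorProduct.lift (Algebra.ofId _ _) σ₀ (fun _ _ => Commute.all _ _)
  obtain ⟨φ, hφ, -⟩ := Hensel.Lazard.existsUnique_of_isHenselization (Localization.AtPrime p) S _ σ
  let ψ : A₁ →ₐ[A] S := (φ.restrictScalars A).comp Algebra.TensorProduct.includeRight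
  have hψ : ∀ a : A₁, residue S (ψ a) = σ₀ a := by
    intro a
    refine (hφ (1 ⊗ₜ a)).trans ?_
    change Algebra.TensorProduct.lift (Algebra.ofId _ _) σ₀ (fun _ _ => Commute.all _ _) ((1 : Localization.AtPrime p) ⊗ₜ[A] a) = _
    rw [Algebra.TensorProduct.lift_tmul, map_one, one_mul]
  let _ : Algebra A₁ S := ψ.toRingHom.toAlgebra
  have _ : IsScalarTower A A₁ S := IsScalarTower.of_algebraMap_eq fun x => (ψ.commutes x).symm
  have hmt : (maximalIdeal S).LiesOver t := by
    refine ⟨?_⟩
    ext a
    rw [Ideal.mem_comap, ← hker, ← hψ, residue_eq_zero_iff]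
    rfl
  have hff : Module.FaithfullyFlat (Localization.AtPrime p) S :=
    Hensel.Lazard.faithfullyFlat_of_isHenselization _ _
  have hfl : Module.Flat A S := Module.Flat.trans A (Localization.AtPrime p) S
  have hfl1 : Module.Flat A₁ S := Algebra.FormallyUnramified.flat_of_restrictScalars A A₁ S
  have hle : t' ≤ t := himp.1
  obtain ⟨q, hqle, hqp, hqt⟩ := Ideal.exists_ideal_le_liesOver_of_le (maximalIdeal S) hle
  have hmp : (maximalIdeal S).LiesOver p := Ideal.LiesOver.trans (maximalIdeal S) t p
  exact ⟨S, inferInstance, inferInstance, q, maximalIdeal S, inferInstance, inferInstance, hmp,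
    ⟨inferInstance, inferInstance, inferInstance, inferInstance, hS, rfl⟩, himp.lift hqle⟩

end Groth.Agent.S9000
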