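import Groth.Statements.S8886
import Groth.Agent.S2516
import Mathlib.AlgebraicGeometry.Morphisms.SchemeTheoreticallyDominant

set_option autoImplicit false
universe u
open CategoryTheory CategoryTheory.Limits AlgebraicGeometry TopologicalSpace
open SDiv

namespace Groth.Agent.S8886

/-- Let f : X ⟶ Y be a flat morphism of schemes with Y integral. If the scheme-theoretic fibre of f over
the generic point of Y is integral, then X is integral. -/
theorem result {X Y : Scheme.{u}} (f : X ⟶ Y) [Flat f] [IsIntegral Y]
    (h : IsIntegral (f.fiber (genericPoint ↥Y))) : IsIntegral X := by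
  have hqc : QuasiCompact (Y.fromSpecResidueField (genericPoint Y)) :=
    Groth.Agent.S2516.quasiCompact_of_field _
  have hdom : IsSchemeTheoreticallyDominant (Y.fromSpecResidueField (genericPoint Y)) :=
    Groth.Agent.S2516.dominant_fromSpecResidueField
  have hqc' : QuasiCompact (f.fiberι (genericPoint Y)) := Groth.Agent.S2516.quasiCompact_fiberι f _
  have h1 : IsPullback (f.fiberι (genericPoint Y)) (f.fiberToSpecResidueField (genericPoint Y)) f
      (Y.fromSpecResidueField (genericPoint Y)) := IsPullback.of_hasPullback _ _
  have hd : IsSchemeTheoreticallyDominant (f.fiberι (genericPoint Y)) := .of_isPullback h1.flip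
  have hinj : ∀ U : X.Opens, Function.Injective ((f.fiberι (genericPoint Y)).app U) :=
    fun U => (f.fiberι (genericPoint Y)).app_injective U
  have hne : Nonempty ↥(f.fiber (genericPoint Y)) := inferInstance
  refine ⟨⟨f.fiberι (genericPoint Y) hne.some⟩, fun U hU => ?_⟩
  have hU' : Nonempty ↥((f.fiberι (genericPoint Y)) ⁻¹ᵁ U) := by
    have hdm : IsDominant (f.fiberι (genericPoint Y)) := inferInstance
    obtain ⟨z, hz⟩ := hdm.denseRange.exists_mem_open U.isOpen ⟨hU.some.1, hU.some.2⟩
    exact ⟨⟨z, hz⟩⟩
  have hdom' := @IsIntegral.component_integral _ h ((f.fiberι (genericPoint Y)) ⁻¹ᵁ U) hU'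
  exact (hinj U).isDomain ((f.fiberι (genericPoint Y)).app U).hom

end Groth.Agent.S8886
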