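import Groth.Statements.S13104
import Mathlib.AlgebraicGeometry.Morphisms.SchemeTheoreticallyDominant
import Mathlib.Algebra.DualNumber

set_option autoImplicit false
universe u
open GrpSch

namespace Groth.Agent.S13104

open CategoryTheory AlgebraicGeometry

/-- A surjective quasi-compact scheme-theoretically dominant morphism is an epimorphism. -/
theorem epi_of_dominant_surjective {X Y : Scheme.{u}} (f : X ⟶ Y) [Surjective f] [QuasiCompact f]
    [IsSchemeTheoreticallyDominant f] : Epi f := by
  constructor
  intro Z u v h
  have hb : ∀ y : Y, u y = v y := by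
    intro y
    obtain ⟨x, rfl⟩ := f.surjective y
    rw [← Scheme.Hom.comp_apply, ← Scheme.Hom.comp_apply, h]
  have hbase : u.base = v.base := by
    ext y
    exact hb y
  refine Scheme.Hom.ext hbase ?_
  intro W
  have hinj : Mono (f.app (v ⁻¹ᵁ W)) := ConcreteCategory.mono_of_injective _ (f.app_injective _)
  rw [← cancel_mono (f.app (v ⁻¹ᵁ W))]
  have h1 := Scheme.Hom.congr_app h W
  simp only [Scheme.Hom.comp_app] at h1
  have key : ∀ (U V : X.Opens) (a : Γ(Z, W) ⟶ Γ(X, U)) (i : V ⟶ U) (j : U ⟶ V),
      (a ≫ X.presheaf.map i.op) ≫ X.presheaf.map j.op = a := by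
    intro U V a i j
    rw [Category.assoc, ← Functor.map_comp, ← op_comp]
    have : j ≫ i = 𝟙 _ := Subsingleton.elim _ _
    rw [this]
    simp
  simp only [Category.assoc, Scheme.Hom.naturality]
  rw [← Category.assoc, h1]
  exact key _ _ _ _ _

theorem isSchemeTheoreticallyDominant_specMap {R S : CommRingCat.{u}} (φ : R ⟶ S)
    (h : Function.Injective φ.hom) : IsSchemeTheoreticallyDominant (Spec.map φ) := by
  refine ⟨?_⟩
  rw [Scheme.ker_of_isAffine]
  have h1 : RingHom.ker (Spec.map φ).appTop.hom = ⊥ := by
    rw [← RingHom.injective_iff_ker_eq_bot]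
    have h2 := Scheme.ΓSpecIso_naturality φ
    have h3 : (Spec.map φ).appTop = (Scheme.ΓSpecIso R).hom ≫ φ ≫ (Scheme.ΓSpecIso S).inv := by
      rw [← Category.assoc, ← h2, Category.assoc, Iso.hom_inv_id, Category.comp_id]
    rw [h3]
    simp only [CommRingCat.hom_comp, RingHom.coe_comp]
    refine (Function.Injective.comp ?_ h).comp ?_
    · exact (ConcreteCategory.bijective_of_isIso (Scheme.ΓSpecIso S).inv).1
    · exact (ConcreteCategory.bijective_of_isIso (Scheme.ΓSpecIso R).hom).1
  rw [h1]
  exact Scheme.IdealSheafData.ext_of_isAffine (by simp)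

/-- Let B be a commutative ring, B[ε] the ring of dual numbers (ε² = 0) and B[α, β]/(α², β²) the double
dual numbers, realised as dual numbers over the dual numbers with α the inner and β the outer
generator, and let ψ : B[ε] → B[α, β]/(α², β²) be the B-algebra homomorphism with ψ(ε) = αβ. Then
for every scheme G the map u ↦ Spec(ψ) ≫ u from morphisms Spec B[ε] → G to morphisms Spec
B[α,β]/(α²,β²) → G is injective. (The printed statement is its consequence for a group scheme G: the
map Lie(G)(B) → G(B[α,β]/(α²,β²)), x ↦ exp(αβ x), is injective; the injectivity on all B[ε]-points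
stated here is what the printed argument establishes.) -/
theorem result (B : Type u) [CommRing B]
    (ψ : DualNumber B →+* DualNumber (DualNumber B))
    (hψB : ∀ b : B, ψ (algebraMap B (DualNumber B) b) = algebraMap B (DualNumber (DualNumber B)) b)
    (hψ : ψ DualNumber.eps = algebraMap (DualNumber B) (DualNumber (DualNumber B)) DualNumber.eps * DualNumber.eps)
    (G : Scheme.{u}) :
    Function.Injective (fun u : Spec (CommRingCat.of (DualNumber B)) ⟶ G =>
      Spec.map (CommRingCat.ofHom (R := DualNumber B) (S := DualNumber (DualNumber B)) ψ) ≫ u) := by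
  have hx : ∀ x : DualNumber B, x = algebraMap B (DualNumber B) x.fst +
      algebraMap B (DualNumber B) x.snd * DualNumber.eps := by
    intro x
    ext <;> simp [TrivSqZeroExt.algebraMap_eq_inl]
  have hψx : ∀ x : DualNumber B, ψ x = algebraMap B (DualNumber (DualNumber B)) x.fst +
      algebraMap B (DualNumber (DualNumber B)) x.snd *
        (algebraMap (DualNumber B) (DualNumber (DualNumber B)) DualNumber.eps * DualNumber.eps) := by
    intro x
    conv_lhs => rw [hx x]
    rw [map_add, map_mul, hψB, hψB, hψ]
  have hfst : ∀ x : DualNumber B, (ψ x).fst.fst = x.fst := by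
    intro x
    rw [hψx]
    simp [Algebra.algebraMap_eq_smul_one]
  have hsnd : ∀ x : DualNumber B, (ψ x).snd.snd = x.snd := by
    intro x
    rw [hψx]
    simp [Algebra.algebraMap_eq_smul_one]
  have hinj : Function.Injective ψ := by
    intro x y h
    refine TrivSqZeroExt.ext ?_ ?_
    · rw [← hfst, h, hfst]
    · rw [← hsnd, h, hsnd]
  let F : CommRingCat.of (DualNumber B) ⟶ CommRingCat.of (DualNumber (DualNumber B)) :=
    CommRingCat.ofHom (R := DualNumber B) (S := DualNumber (DualNumber B)) ψ
  have hdom : IsSchemeTheoreticallyDominant (Spec.map F) := isSchemeTheoreticallyDominant_specMap F hinj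
  have hsurj : Surjective (Spec.map F) := by
    let π1 : DualNumber B →+* B := (TrivSqZeroExt.fstHom B B B).toRingHom
    let π2 : DualNumber (DualNumber B) →+* DualNumber B :=
      (TrivSqZeroExt.fstHom (DualNumber B) (DualNumber B) (DualNumber B)).toRingHom
    have hc : (π1.comp π2).comp ψ = π1 := by
      exact RingHom.ext hfst
    have h0 : Function.Surjective (PrimeSpectrum.comap π1) := by
      intro p
      have h1 : Function.Surjective π1 := fun b => ⟨algebraMap B (DualNumber B) b, by
        simp [π1, TrivSqZeroExt.algebraMap_eq_inl]⟩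
      have h2 := range_comap_of_surjective _ π1 h1
      have h3 : p ∈ PrimeSpectrum.zeroLocus (RingHom.ker π1 : Set (DualNumber B)) := by
        rw [PrimeSpectrum.mem_zeroLocus]
        intro x hx
        have hx0 : x.fst = 0 := hx
        have : x * x = 0 := by
          ext <;> simp [hx0]
        have h4 : x * x ∈ p.asIdeal := by rw [this]; exact Ideal.zero_mem _
        exact (p.isPrime.mem_or_mem h4).elim id id
      rw [← h2] at h3
      exact h3
    have hs : Surjective (Spec.map (CommRingCat.ofHom π1)) := ⟨h0⟩
    have h5 : Spec.map (CommRingCat.ofHom (π1.comp π2)) ≫ Spec.map F = Spec.map (CommRingCat.ofHom π1) := by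
      rw [← Spec.map_comp, ← CommRingCat.ofHom_comp, hc]
    rw [← h5] at hs
    exact Surjective.of_comp (Spec.map (CommRingCat.ofHom (π1.comp π2))) (Spec.map F)
  have hepi : Epi (Spec.map F) := epi_of_dominant_surjective _
  intro u v huv
  exact (cancel_epi (Spec.map F)).1 huv

end Groth.Agent.S13104
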