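import Groth.Statements.S14900
import Groth.Agent.FlatMor.K263.RFTop

set_option autoImplicit false
universe u
open scoped TensorProduct
open FlatMor

namespace Groth.Agent.S14900

/-- Let R be a valuation ring with finite spectrum (finite height) and separably closed fraction field
K, and let A be a flat finitely presented R-algebra such that E ⊗_R A is reduced for every field E
into which R embeds (geometrically reduced generic fibre). Let A° denote the integral closure of A
in A ⊗_R K (the η-normalization). Then A° is finitely generated as an R-algebra and its closed fibre
A° ⊗_R (R/m_R) is reduced. -/
theorem result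
    (R : Type u) [CommRing R] [IsDomain R] [ValuationRing R] [Finite (PrimeSpectrum R)]
    [IsSepClosed (FractionRing R)]
    (A : Type u) [CommRing A] [Algebra R A] [Module.Flat R A] [Algebra.FinitePresentation R A]
    (hred : ∀ (E : Type u) [Field E] [Algebra R E], Function.Injective (algebraMap R E) →
      IsReduced (E ⊗[R] A)) :
    Algebra.FiniteType R ↥(integralClosure A (A ⊗[R] FractionRing R)) ∧
      IsReduced ((R ⧸ IsLocalRing.maximalIdeal R) ⊗[R]
        ↥(integralClosure A (A ⊗[R] FractionRing R))) := by

  exact (K263.RFTop.main R A hred).2

end Groth.Agent.S14900
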