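import Groth.Statements.S14898
import Groth.Agent.S0384
import Groth.Agent.FlatMor.K263.ToImage
import Groth.Agent.FlatMor.K263.FinProd

set_option autoImplicit false
universe u
open CategoryTheory CategoryTheory.Limits AlgebraicGeometry
open FlatMor

namespace Groth.Agent.S14898

/-- Let S be integral, quasi-compact and quasi-separated and η̄ : Spec K̄ → S dominant, K̄ a field.
Suppose given finitely many K̄-quasi-modifications of S: schematically dominant t_i : Spec K̄ → T_i
followed by separated, quasi-compact, locally finite type p_i : T_i → S with t_i ≫ p_i = η̄. Then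
there is a K̄-modification of S — a schematically dominant s : Spec K̄ → S' followed by a proper q :
S' → S with s ≫ q = η̄ — and opens V_i ⊆ S' through which s factors, together with proper
S-morphisms r_i : V_i → T_i sending the K̄-point to t_i; that is, each V_i is a K̄-modification of
T_i sitting inside S' as an open subscheme over S. -/
theorem result
    {S : Scheme.{u}} [IsIntegral S] [CompactSpace S] [QuasiSeparatedSpace S]
    (Kb : Type u) [Field Kb] (ηb : Spec (CommRingCat.of Kb) ⟶ S) [IsDominant ηb]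
    {ι : Type u} [Finite ι] (T : ι → Scheme.{u}) (t : ∀ i, Spec (CommRingCat.of Kb) ⟶ T i)
    (p : ∀ i, T i ⟶ S) [∀ i, IsSchemeTheoreticallyDominant (t i)] [∀ i, IsSeparated (p i)]
    [∀ i, LocallyOfFiniteType (p i)] [∀ i, QuasiCompact (p i)] (hp : ∀ i, t i ≫ p i = ηb) :
    ∃ (S' : Scheme.{u}) (s : Spec (CommRingCat.of Kb) ⟶ S') (q : S' ⟶ S),
      IsSchemeTheoreticallyDominant s ∧ IsProper q ∧ s ≫ q = ηb ∧
      ∀ i, ∃ (V : S'.Opens) (v : Spec (CommRingCat.of Kb) ⟶ (V : Scheme.{u}))
        (r : (V : Scheme.{u}) ⟶ T i),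
        v ≫ V.ι = s ∧ IsProper r ∧ v ≫ r = t i ∧ r ≫ p i = V.ι ≫ q := by
  -- compactify every `T i`
  choose P j g hj hjq hg hjg using fun i => Groth.Agent.S0384.result (p i)
  obtain ⟨Q, q, π, hq, hπ, hlift⟩ := K263.FinProd.exists_proper_prod ι P g hg
  obtain ⟨m, hm, hm'⟩ := hlift _ ηb (fun i => t i ≫ j i) (fun i => by rw [Category.assoc, hjg, hp])
  refine ⟨m.image, m.toImage, m.imageι ≫ q, K263.ToImage.isSchemeTheoreticallyDominant_toImage m,
    inferInstance, by rw [← Category.assoc, m.toImage_imageι, hm], fun i => ?_⟩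
  have := hj i
  have := hg i
  let φ : m.image ⟶ P i := m.imageι ≫ π i
  have hφg : φ ≫ g i = m.imageι ≫ q := by rw [Category.assoc, hπ]
  have hφ : IsProper φ := by
    have : IsProper (φ ≫ g i) := by rw [hφg]; infer_instance
    exact IsProper.of_comp φ (g i)
  let W : (P i).Opens := (j i).opensRange
  let V : m.image.Opens := φ ⁻¹ᵁ W
  have hmφ : m.toImage ≫ φ = t i ≫ j i := by
    rw [← Category.assoc, m.toImage_imageι, hm']
  have hrange : Set.range m.toImage ⊆ Set.range V.ι := by
    rintro _ ⟨x, rfl⟩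
    rw [Scheme.Opens.range_ι]
    change φ (m.toImage x) ∈ Set.range (j i)
    exact ⟨t i x, (congrArg (fun k : Spec (CommRingCat.of Kb) ⟶ P i => k x) hmφ).symm⟩
  let v : Spec (CommRingCat.of Kb) ⟶ (V : Scheme.{u}) := IsOpenImmersion.lift V.ι m.toImage hrange
  have hv : v ≫ V.ι = m.toImage := IsOpenImmersion.lift_fac _ _ _
  let r : (V : Scheme.{u}) ⟶ T i := (φ ∣_ W) ≫ (j i).isoOpensRange.inv
  have hr : r ≫ j i = V.ι ≫ φ := by
    rw [← morphismRestrict_ι, Category.assoc]
    congr 1
    rw [Iso.inv_comp_eq]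
    exact ((j i).isoOpensRange_hom_ι).symm
  refine ⟨V, v, r, hv, inferInstance, ?_, ?_⟩
  · rw [← cancel_mono (j i), Category.assoc, hr, ← Category.assoc, hv, hmφ]
  · rw [← hjg i, ← Category.assoc, hr, Category.assoc, hφg]

end Groth.Agent.S14898
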