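import Groth.Statements.S17894
-- import your own Groth.Agent.* helpers here
import Groth.Agent.FlatMor.K361.YExtend

set_option autoImplicit false
universe u
open CategoryTheory AlgebraicGeometry
open FlatMor

namespace Groth.Agent.S17894

/-- Here f : Y → X is an affine morphism with X and Y quasi-compact and quasi-separated; a
Y-modification of X is a factorization f = fᵢ ≫ gᵢ with fᵢ : Y → Xᵢ schematically dominant and gᵢ :
Xᵢ → X proper, and it is a Y-blow-up of X when Xᵢ carries a gᵢ-ample module L with a section ε : O →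
L whose pullback along fᵢ is an isomorphism (a Y-trivialization). Let V ⊆ X be a quasi-compact open
with preimage f⁻¹(V) ⊆ Y. Every f⁻¹(V)-blow-up (X'₁, f'₁, g'₁) of V (for the restriction f ∣_ V)
extends to a Y-blow-up (X₁, f₁, g₁) of X: there is an open immersion r : X'₁ → X₁ whose image is
g₁⁻¹(V), with r ≫ g₁ = g'₁ followed by the inclusion of V, and f'₁ ≫ r equal to the inclusion of
f⁻¹(V) followed by f₁. -/
theorem result {X Y : Scheme.{u}} (f : Y ⟶ X)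
    [CompactSpace X] [QuasiSeparatedSpace X] [CompactSpace Y] [QuasiSeparatedSpace Y] [IsAffineHom f]
    (V : X.Opens) (hV : IsCompact (V : Set X))
    {X'₁ : Scheme.{u}} (f'₁ : ↑(f ⁻¹ᵁ V) ⟶ X'₁) (g'₁ : X'₁ ⟶ ↑V)
    (h' : IsSchemeTheoreticallyDominant f'₁ ∧ IsProper g'₁ ∧ f'₁ ≫ g'₁ = (f ∣_ V) ∧
        ∃ (L : X'₁.Modules) (ε : Coh.structureModule X'₁ ⟶ L),
          RelAmple.IsRelAmple g'₁ L ∧ IsIso ((Scheme.Modules.pullback f'₁).map ε)) :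
    ∃ (X₁ : Scheme.{u}) (f₁ : Y ⟶ X₁) (g₁ : X₁ ⟶ X) (r : X'₁ ⟶ X₁),
      (IsSchemeTheoreticallyDominant f₁ ∧ IsProper g₁ ∧ f₁ ≫ g₁ = f ∧
        ∃ (L : X₁.Modules) (ε : Coh.structureModule X₁ ⟶ L),
          RelAmple.IsRelAmple g₁ L ∧ IsIso ((Scheme.Modules.pullback f₁).map ε)) ∧ IsOpenImmersion r ∧
      Set.range (fun x => r x) = (g₁ ⁻¹ᵁ V : Set X₁) ∧ r ≫ g₁ = g'₁ ≫ V.ι ∧ f'₁ ≫ r = (f ⁻¹ᵁ V).ι ≫ f₁ := by
  obtain ⟨hd, hp, hfac, L, ε, hL, hε⟩ := h'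
  have hYB : K361.ExtPn.IsYB (f ∣_ V) f'₁ g'₁ L (Groth.Agent.Fdesc.LocGen.sec ε ⊤) :=
    ⟨hd, hp, hfac, hL, (K265.YTriv.isIso_map_iff_isGen f'₁ ε).mp hε⟩
  have h := K361.YExtend.extTo_of_isCompact f hV f'₁ g'₁ hYB ⊤ isCompact_univ
  rw [sup_top_eq] at h
  obtain ⟨X₁, f₁, g₁, r, L₁, s, hYB₁, sq, hr⟩ := h le_top
  have hiX : IsIso (⊤ : X.Opens).ι := inferInstanceAs (IsIso X.topIso.hom)
  have hiY : IsIso (f ⁻¹ᵁ ⊤).ι := inferInstanceAs (IsIso Y.topIso.hom)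
  have h1 := hYB₁.dom
  have h2 := hYB₁.proper
  have hro : IsOpenImmersion r := MorphismProperty.of_isPullback (P := @IsOpenImmersion) sq.flip inferInstance
  refine ⟨X₁, inv (f ⁻¹ᵁ ⊤).ι ≫ f₁, g₁ ≫ (⊤ : X.Opens).ι, r, ⟨inferInstance, inferInstance, ?_, L₁,
    Groth.Agent.Fdesc.LocGen.homOf s, ?_, ?_⟩, hro, ?_, ?_, ?_⟩
  · rw [Category.assoc, ← Category.assoc f₁, hYB₁.fac, morphismRestrict_ι, IsIso.inv_hom_id_assoc]
  · have h3 := Groth.Agent.Ega2.RelAmp.isRelAmple_iff.mp hYB₁.ample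
    refine Groth.Agent.Ega2.RelAmp.isRelAmple_iff.mpr ⟨inferInstance, fun O => ?_⟩
    exact h3.2 ⟨(⊤ : X.Opens).ι ⁻¹ᵁ O.1, O.2.preimage_of_isIso _⟩
  · rw [K265.YTriv.isIso_map_iff_isGen, Groth.Agent.Fdesc.LocGen.sec_homOf, Groth.Agent.Fdesc.LocGen.res_refl]
    exact (Groth.Agent.Fdesc.LocGen.isGen_pullSec_comp_iff _ f₁ s).mpr (hYB₁.gen.pullTop _)
  · ext x
    constructor
    · rintro ⟨x', rfl⟩
      have h4 : (g₁ ≫ (⊤ : X.Opens).ι) (r x') = V.ι (g'₁ x') := by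
        have h5 : r ≫ g₁ ≫ (⊤ : X.Opens).ι = g'₁ ≫ V.ι := by
          rw [← Category.assoc, sq.w, Category.assoc, Scheme.homOfLE_ι]
        exact congr($h5 x')
      change (g₁ ≫ (⊤ : X.Opens).ι) (r x') ∈ V
      rw [h4]
      exact (g'₁ x').2
    · intro hx
      have hx' : ((⊤ : X.Opens).ι (g₁ x) : X) ∈ V := hx
      obtain ⟨x', hx', -⟩ := Scheme.exists_preimage_of_isPullback sq x (⟨_, hx'⟩ : V) (by
        apply (⊤ : X.Opens).ι.isOpenEmbedding.injective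
        have h6 : (X.homOfLE (le_top : V ≤ ⊤) ≫ (⊤ : X.Opens).ι) (⟨_, hx'⟩ : V) = V.ι (⟨_, hx'⟩ : V) := by
          rw [Scheme.homOfLE_ι]
        exact h6.symm)
      exact ⟨x', hx'⟩
  · rw [← Category.assoc, sq.w, Category.assoc, Scheme.homOfLE_ι]
  · rw [hr, ← Category.assoc]
    congr 1
    rw [IsIso.eq_comp_inv, Scheme.homOfLE_ι]

end Groth.Agent.S17894
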