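import Groth.Statements.S13835
import Groth.Agent.FlatA.UnivHomeo

set_option autoImplicit false
universe u
open AlgebraicGeometry CategoryTheory
open ChowMon

namespace Groth.Agent.S13835

/-- Let p : T' → T be a universal homeomorphism of separated schemes with T reduced and f' : T' → Y a
morphism (Y separated); if T has an open cover by affine opens U_i such that each restriction of f'
to p⁻¹(U_i) factors through p⁻¹(U_i) → U_i, then f' factors through p. -/
theorem result {T' T Y : Scheme.{u}} (p : T' ⟶ T) (hp : FlatMor.IsUnivHomeo p) [IsReduced T]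
    [T.IsSeparated] [T'.IsSeparated] [Y.IsSeparated] (f' : T' ⟶ Y)
    {ι : Type u} (U : ι → T.affineOpens) (hU : ⨆ i, (U i : T.Opens) = ⊤)
    (hloc : ∀ i, ∃ fi : ((U i : T.Opens) : Scheme.{u}) ⟶ Y, (p ⁻¹ᵁ (U i : T.Opens)).ι ≫ f' = (p ∣_ (U i : T.Opens)) ≫ fi) :
    ∃ f : T ⟶ Y, p ≫ f = f' := by
  have hsurj : Surjective p := (Groth.Agent.FlatA.UnivHomeo.isUnivHomeo_iff p).mp hp |>.2.2
  choose g hg using hloc
  let 𝒰 : T.OpenCover := T.openCoverOfIsOpenCover (fun i => (U i : T.Opens)) hU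
  have hglue : ∀ i j : ι, Limits.pullback.fst (U i : T.Opens).ι (U j : T.Opens).ι ≫ g i =
      Limits.pullback.snd (U i : T.Opens).ι (U j : T.Opens).ι ≫ g j := by
    intro i j
    let r : Limits.pullback (U i : T.Opens).ι (U j : T.Opens).ι ⟶ T :=
      Limits.pullback.fst (U i : T.Opens).ι (U j : T.Opens).ι ≫ (U i : T.Opens).ι
    have hr : r = Limits.pullback.snd (U i : T.Opens).ι (U j : T.Opens).ι ≫ (U j : T.Opens).ι :=
      Limits.pullback.condition
    have hred : IsReduced (Limits.pullback (U i : T.Opens).ι (U j : T.Opens).ι) :=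
      isReduced_of_isOpenImmersion r
    apply ext_of_isDominant (Limits.pullback.fst r p)
    have key : ∀ (l : ι) (q : Limits.pullback (U i : T.Opens).ι (U j : T.Opens).ι ⟶ ((U l : T.Opens) : Scheme.{u}))
        (hq : q ≫ (U l : T.Opens).ι = r), Limits.pullback.fst r p ≫ q ≫ g l =
          Limits.pullback.snd r p ≫ f' := by
      intro l q hq
      have hpb := isPullback_morphismRestrict p (U l : T.Opens)
      have hc : (Limits.pullback.fst r p ≫ q) ≫ (U l : T.Opens).ι = Limits.pullback.snd r p ≫ p := by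
        rw [Category.assoc, hq, Limits.pullback.condition]
      have h1 := hpb.lift_fst _ _ hc
      have h2 := hpb.lift_snd _ _ hc
      rw [← Category.assoc, ← h1, Category.assoc, ← hg l, ← Category.assoc, h2]
    rw [key i _ rfl, key j _ hr.symm]
  let f : T ⟶ Y := 𝒰.glueMorphisms g hglue
  have hf : ∀ i, (U i : T.Opens).ι ≫ f = g i := fun i => 𝒰.ι_glueMorphisms g hglue i
  refine ⟨f, ?_⟩
  have hU' : ⨆ i, (p ⁻¹ᵁ (U i : T.Opens)) = ⊤ := by
    rw [← Scheme.Hom.preimage_iSup, hU]
    rfl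
  let 𝒱 : T'.OpenCover := T'.openCoverOfIsOpenCover (fun i => p ⁻¹ᵁ (U i : T.Opens)) hU'
  refine 𝒱.hom_ext _ _ fun i => ?_
  change (p ⁻¹ᵁ (U i : T.Opens)).ι ≫ p ≫ f = (p ⁻¹ᵁ (U i : T.Opens)).ι ≫ f'
  rw [hg i, ← hf i, ← Category.assoc, ← Category.assoc, morphismRestrict_ι]

end Groth.Agent.S13835
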