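import Groth.Statements.S7646
import Groth.Agent.S0021
import Groth.Agent.S1529
import Groth.Agent.S1627
import Groth.Agent.Variety.K420.Comp

set_option autoImplicit false
universe u
open CategoryTheory CategoryTheory.Limits AlgebraicGeometry
open Variety

namespace Groth.Agent.S7646

open K420.Comp

theorem dim_le_zero_or_eq_one {T : Type*} [TopologicalSpace T] (h : topologicalKrullDim T ≤ 1) :
    topologicalKrullDim T ≤ 0 ∨ topologicalKrullDim T = 1 := by
  by_cases h0 : topologicalKrullDim T ≤ 0
  · exact Or.inl h0
  · exact Or.inr (le_antisymm h ((WithBot.one_le_iff_pos _).mpr (not_le.mp h0)))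

/-- Let X be separated and of finite type over a field k with dim X ≤ 1, and assume that no irreducible
component of X of dimension one, given its reduced induced structure, is proper over k. Then X is
affine. -/
theorem result (k : Type u) [Field k] (X : Scheme.{u}) [X.Over (Spec (CommRingCat.of k))]
    [IsSeparated (X ↘ (Spec (CommRingCat.of k)))] [LocallyOfFiniteType (X ↘ (Spec (CommRingCat.of k)))]
    [IsNoetherian X] (hdim : topologicalKrullDim X ≤ 1)
    (h : ∀ (C : Set X) (hC : C ∈ irreducibleComponents (X : Type u)), topologicalKrullDim C = 1 →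
      ¬ IsProper ((X.irreducibleComponentIdeal C hC).radical.subschemeι ≫ (X ↘ (Spec (CommRingCat.of k))))) :
    IsAffine X := by
  have hqc : QuasiCompact (X ↘ (Spec (CommRingCat.of k))) :=
    (quasiCompact_iff_compactSpace (X ↘ (Spec (CommRingCat.of k)))).mpr inferInstance
  have haff : ∀ C : irreducibleComponents (X : Type u), IsAffine (compSub X C) := by
    intro C
    letI : (compSub X C).Over (Spec (CommRingCat.of k)) :=
      ⟨compι X C ≫ (X ↘ (Spec (CommRingCat.of k)))⟩
    have h1 : IsSeparated ((compSub X C) ↘ (Spec (CommRingCat.of k))) :=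
      inferInstanceAs (IsSeparated (compι X C ≫ (X ↘ (Spec (CommRingCat.of k)))))
    have h2 : LocallyOfFiniteType ((compSub X C) ↘ (Spec (CommRingCat.of k))) :=
      inferInstanceAs (LocallyOfFiniteType (compι X C ≫ (X ↘ (Spec (CommRingCat.of k)))))
    have h3 : QuasiCompact ((compSub X C) ↘ (Spec (CommRingCat.of k))) :=
      inferInstanceAs (QuasiCompact (compι X C ≫ (X ↘ (Spec (CommRingCat.of k)))))
    have hd : topologicalKrullDim (compSub X C) ≤ 1 := by
      rw [dim_compSub]
      exact (topologicalKrullDim_subspace_le X _).trans hdim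
    rcases dim_le_zero_or_eq_one hd with h0 | h0
    · exact (Groth.Agent.S1529.result k (compSub X C) h0).1
    · rcases Groth.Agent.S1627.result k (compSub X C) h0 with h4 | ⟨d, c, hc, hcs⟩
      · exact h4
      · exfalso
        refine h C.1 C.2 (by rw [← dim_compSub X C]; exact h0) ?_
        have h5 : IsProper (c ≫ CohB1.ProjSpace.toSpec d k) := inferInstance
        rw [hcs] at h5
        exact h5
  exact Groth.Agent.S0021.result (sigmaComp X)

end Groth.Agent.S7646
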