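import Groth.Statements.S12597
import Groth.Agent.FunFld.K668.Orders

set_option autoImplicit false
open FunFld

namespace Groth.Agent.S12597

/-- Over an algebraically closed constant field, multiplying a projective map `φ = (φ₀, …, φₙ)` by a
nonzero function `y` does not change its `τ`-order sequence `J`, and multiplies the Wronskian `det
[τ(φ) | D^(j₁) φ | ⋯ | D^(jₙ) φ]` taken at that sequence by `τ(y) yⁿ`. -/
theorem result
    (k K : Type*) [Field k] [IsAlgClosed k] [Field K] [Algebra k K]
    (hK : FunFld.IsFunctionField k K) {n : ℕ} (φ : Fin (n + 1) → K) (hφ : LinearIndependent k φ)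
    (τ : K →ₐ[k] K) (s : K) (H : K →ₐ[k] PowerSeries K) (hH : LocRes.IsHasseFamily s H) (y : K) (hy : y ≠ 0) :
    (∀ J : Fin n → ℕ, FunFld.IsOrders K (FunFld.hcol τ H (y • φ)) J ↔ FunFld.IsOrders K (FunFld.hcol τ H φ) J) ∧
    ∀ J : Fin n → ℕ, FunFld.IsOrders K (FunFld.hcol τ H φ) J →
      (FunFld.wrMat τ H (y • φ) J).det = τ y * y ^ n * (FunFld.wrMat τ H φ J).det := by
  classical
  have hcol : ∀ j, ∃ a : K, a ≠ 0 ∧ a = (if j = 0 then τ y else y) ∧
      FunFld.hcol τ H (y • φ) j - a • FunFld.hcol τ H φ j ∈
        (K668.Orders.V (FunFld.hcol τ H φ) j : Submodule K (Fin (n + 1) → K)) := by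
    intro j
    cases j with
    | zero =>
      refine ⟨τ y, by rw [Ne, map_eq_zero]; exact hy, by simp, ?_⟩
      have : FunFld.hcol τ H (y • φ) 0 - τ y • FunFld.hcol τ H φ 0 = 0 := by
        funext i
        change τ (y * φ i) - τ y * τ (φ i) = 0
        rw [map_mul, sub_self]
      rw [this]
      exact zero_mem _
    | succ j =>
      refine ⟨y, hy, by simp, ?_⟩
      have : FunFld.hcol τ H (y • φ) (j + 1) - y • FunFld.hcol τ H φ (j + 1) =
          ∑ b ∈ Finset.range j, PowerSeries.coeff (j - b) (H y) • FunFld.hcol τ H φ (b + 1) := by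
        funext i
        rw [Finset.sum_apply]
        change PowerSeries.coeff j (H (y * φ i)) - y * PowerSeries.coeff j (H (φ i)) =
          ∑ b ∈ Finset.range j, PowerSeries.coeff (j - b) (H y) * PowerSeries.coeff b (H (φ i))
        rw [map_mul, PowerSeries.coeff_mul, Finset.Nat.sum_antidiagonal_eq_sum_range_succ_mk]
        rw [← Finset.sum_range_reflect, Finset.sum_range_succ]
        have h0 : PowerSeries.coeff 0 (H y) = y := by
          rw [PowerSeries.coeff_zero_eq_constantCoeff_apply]; exact hH.2 y
        simp only [Nat.succ_eq_add_one, Nat.add_sub_cancel, Nat.sub_self]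
        rw [Nat.sub_zero, h0, add_sub_cancel_right]
        refine Finset.sum_congr rfl fun b hb => ?_
        rw [Finset.mem_range] at hb
        congr 3
        omega
      rw [this]
      refine sum_mem fun b hb => Submodule.smul_mem _ _ (K668.Orders.mem_V _ ?_)
      rw [Finset.mem_range] at hb
      omega
  have hV := K668.Orders.V_eq_of_triangular (c := FunFld.hcol τ H φ) (c' := FunFld.hcol τ H (y • φ))
    fun j => by
      obtain ⟨a, ha, -, h⟩ := hcol j
      exact ⟨a, ha, h⟩
  have hord := fun J : Fin n → ℕ => K668.Orders.isOrders_congr hV J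
  refine ⟨hord, fun J hJ => ?_⟩
  have h0 : FunFld.hcol τ H φ 0 ≠ 0 := fun h => by
    have : τ (φ 0) = 0 := congrFun h 0
    rw [map_eq_zero] at this
    exact hφ.ne_zero 0 this
  have hE := (K668.Orders.enum_jmp_iff h0 J).2 hJ
  rw [K668.Orders.wrMat_eq, K668.Orders.wrMat_eq,
    hE.det_of_triangular (FunFld.hcol τ H (y • φ)) (Fin.cons (τ y) fun _ => y)]
  · rw [Fin.prod_univ_succ]
    simp
  · intro l
    obtain ⟨a, -, ha, h⟩ := hcol (K668.Orders.jmp J l)
    convert h using 3
    rw [ha]
    induction l using Fin.cases with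
    | zero => simp
    | succ l => simp

end Groth.Agent.S12597
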