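import Groth.Statements.S12598
import Groth.Agent.FunFld.K668.Change

set_option autoImplicit false
open FunFld

namespace Groth.Agent.S12598

/-- Over an algebraically closed constant field, the `τ`-order sequence `J = (j₁, …, jₙ)` of a
projective map `φ` does not depend on the separating variable used for the Hasse derivatives, and
the Wronskians with respect to `t` and to `s` differ by the factor `(ds/dt)^(j₁ + ⋯ + jₙ)`, where
`ds/dt` is the first Hasse derivative of `s` with respect to `t`. -/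
theorem result
    (k K : Type*) [Field k] [IsAlgClosed k] [Field K] [Algebra k K]
    (hK : FunFld.IsFunctionField k K) {n : ℕ} (φ : Fin (n + 1) → K) (hφ : LinearIndependent k φ)
    (τ : K →ₐ[k] K) (s : K) (Hs : K →ₐ[k] PowerSeries K) (hHs : LocRes.IsHasseFamily s Hs)
    (t : K) (Ht : K →ₐ[k] PowerSeries K) (hHt : LocRes.IsHasseFamily t Ht) :
    (∀ J : Fin n → ℕ, FunFld.IsOrders K (FunFld.hcol τ Ht φ) J ↔ FunFld.IsOrders K (FunFld.hcol τ Hs φ) J) ∧
    ∀ J : Fin n → ℕ, FunFld.IsOrders K (FunFld.hcol τ Hs φ) J →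
      (FunFld.wrMat τ Ht φ J).det =
        LocRes.hasseD Ht 1 s ^ (∑ l, J l) * (FunFld.wrMat τ Hs φ J).det := by
  have hsep := K668.Hasse.isSeparable hK hHs
  refine ⟨fun J => K668.Orders.isOrders_congr (K668.Hasse.V_hcol_change hHs hHt φ τ) J, fun J hJ => ?_⟩
  have h0 : FunFld.hcol τ Hs φ 0 ≠ 0 := fun h => by
    have : τ (φ 0) = 0 := congrFun h 0
    rw [map_eq_zero] at this
    exact hφ.ne_zero 0 this
  have hE := (K668.Orders.enum_jmp_iff h0 J).2 hJ
  rw [K668.Orders.wrMat_eq, K668.Orders.wrMat_eq,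
    hE.det_of_triangular (FunFld.hcol τ Ht φ) _ (fun l => K668.Hasse.hcol_change hHs hHt φ τ _)]
  rw [Fin.prod_univ_succ]
  congr 1
  simp only [K668.Orders.jmp_zero, if_true, one_mul, K668.Orders.jmp_succ, Nat.succ_ne_zero,
    if_false, Nat.add_sub_cancel]
  rw [Finset.prod_pow_eq_pow_sum]

end Groth.Agent.S12598
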