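import Groth.Statements.S12606
import Groth.Agent.FunFld.K668.WrStrong

set_option autoImplicit false
open FunFld

namespace Groth.Agent.S12606

/-- Over an algebraically closed constant field, let `P` be a strong fixed point of the `k`-endomorphism
`τ`, `φ = (φ₀, …, φₙ)` (`n ≥ 1`) an effective projective map normalized at `P` with `τ(φ)` not a
`K`-multiple of `φ`, `t` a local parameter at `P`, `j₁, …, jₙ` the `τ`-orders of `φ` and `j'₁, …,
j'ₙ` the orders of `φ` at `P`. Then `jₗ ≤ j'ₗ - j'₁` for `1 ≤ l ≤ n`. -/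
theorem result
    (k K : Type*) [Field k] [IsAlgClosed k] [Field K] [Algebra k K]
    (hK : FunFld.IsFunctionField k K) (τ : K →ₐ[k] K) (P : FunFld.Place k K) (hP : FunFld.IsStrongFixedPt τ P)
    {n : ℕ} (hn : 0 < n) (φ : Fin (n + 1) → K) (hφ : LinearIndependent k φ)
    (heff : (1 : K) ∈ Submodule.span k (Set.range φ)) (hnorm : ∀ i, P.1 (φ i) ≤ 1)
    (hτφ : ¬ ∃ y : K, ∀ i, τ (φ i) = y * φ i)
    (t : K) (ht : P.1 t = WithZero.exp (-1))
    (Ht : K →ₐ[k] PowerSeries K) (hHt : LocRes.IsHasseFamily t Ht)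
    (J : Fin n → ℕ) (hJ : FunFld.IsOrders K (FunFld.hcol τ Ht φ) J)
    (J' : Fin n → ℕ) (hJ' : FunFld.IsOrders (IsLocalRing.ResidueField P.O) (FunFld.hcolAt P Ht φ) J') :
    ∀ l, J l + J' ⟨0, hn⟩ ≤ J' l := by
  classical
  have hsep := K668.Hasse.isSeparable hK hHt
  obtain ⟨ψ, h⟩ := K668.Loc.exists_isExp hK P t ht
  obtain ⟨hpos, hE⟩ := h.enum_of_isOrders hHt hnorm (K668.Loc.coeff_zero_ne_zero heff) hJ'
  obtain ⟨B, hB, hφ'⟩ := h.exists_adapted hnorm hE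
  set φ' : Fin (n + 1) → K := fun r => ∑ s, B r s • φ s with hφ'def
  have hli : LinearIndependent k φ' := K668.Loc.linearIndependent_matrix hφ hB
  have hlow : ∀ r, ∀ i < (K668.Orders.cz J' r : ℤ), (ψ (φ' r)).coeff i = 0 := fun r => (hφ' r).1
  have hlead : ∀ r, (ψ (φ' r)).coeff (K668.Orders.cz J' r) = 1 := fun r => (hφ' r).2
  have ht0 : t ≠ 0 := K660.Ord.ne_zero_of_val P ht
  have hy : t ^ (-(J' ⟨0, hn⟩ : ℤ)) ≠ 0 := zpow_ne_zero _ ht0
  have hJφ' := ((Groth.Agent.S12596.result k K hK φ hφ τ t Ht hHt B hB φ' (fun _ => rfl)).1 J).2 hJ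
  have hJy := ((Groth.Agent.S12597.result k K hK φ' hli τ t Ht hHt _ hy).1 J).2 hJφ'
  have hliy : LinearIndependent k (t ^ (-(J' ⟨0, hn⟩ : ℤ)) • φ') := by
    have hinj : Function.Injective (LinearMap.mulLeft k (t ^ (-(J' ⟨0, hn⟩ : ℤ)))) :=
      fun a b hab => mul_left_cancel₀ hy hab
    have := hli.map' (LinearMap.mulLeft k (t ^ (-(J' ⟨0, hn⟩ : ℤ)))) (LinearMap.ker_eq_bot.2 hinj)
    exact this
  have hmle : ∀ l, J' ⟨0, hn⟩ ≤ J' l := fun l =>
    hJ'.1.monotone (Fin.mk_le_of_le_val (Nat.zero_le _))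
  have hI : StrictMono fun l => J' l - J' ⟨0, hn⟩ := fun a b hab => by
    have h1 := hJ'.1 hab
    have h2 := hmle a
    change J' a - J' ⟨0, hn⟩ < J' b - J' ⟨0, hn⟩
    omega
  have hdet := h.det_wrMat_ne_zero hK hHt hn hP φ' J' hJ'.1 hpos hlow hlead
  intro l
  have := Groth.Agent.S12601.result k K hK _ hliy τ t Ht hHt J hJy _ hI hdet l
  have h2 := hmle l
  change J l ≤ J' l - J' ⟨0, hn⟩ at this
  omega

end Groth.Agent.S12606
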