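import Groth.Statements.S11015
import Groth.Agent.S10970

set_option autoImplicit false
open FunFld

namespace Groth.Agent.S11015

/-- For `x ≠ 0`, multiplication by `x` identifies `L(D + (x))` with `L(D)`; in particular `L(D₁) ≅
L(D₂)` for linearly equivalent divisors. -/
theorem result (k K : Type*) [Field k] [Field K] [Algebra k K]
    (hK : FunFld.IsFunctionField k K) (D : FunFld.Divisor k K) (x y : K) (hx : x ≠ 0) :
    x * y ∈ FunFld.L D ↔ y ∈ FunFld.L (D + FunFld.div k x) := by
  have hfin := Groth.Agent.S10970.result k K hK x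
  have hdiv : ∀ P : Place k K, FunFld.div k x P = P.ord x := by
    intro P
    unfold FunFld.div
    rw [dif_pos hfin]
    rfl
  have hx' : ∀ P : Place k K, P.1 x = WithZero.exp (-P.ord x) := by
    intro P
    have h0 : P.1 x ≠ 0 := (Valuation.ne_zero_iff _).2 hx
    rw [Place.ord, neg_neg, WithZero.exp_log h0]
  refine forall_congr' fun P => ?_
  rw [Finsupp.add_apply, hdiv P, map_mul, hx' P, WithZero.exp_add, WithZero.exp_neg]
  rw [inv_mul_le_iff₀ (WithZero.exp_pos (a := P.ord x)), mul_comm (WithZero.exp (D P))]

end Groth.Agent.S11015
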