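import Groth.Statements.S11016
import Groth.Agent.S10970

set_option autoImplicit false
open FunFld

namespace Groth.Agent.S11016

/-- `L(D) ≠ 0` iff there is an effective divisor linearly equivalent to `D`. -/
theorem result (k K : Type*) [Field k] [Field K] [Algebra k K]
    (hK : FunFld.IsFunctionField k K) (D : FunFld.Divisor k K) :
    FunFld.L D ≠ ⊥ ↔ ∃ x : K, x ≠ 0 ∧ 0 ≤ D + FunFld.div k x := by
  have hdiv : ∀ (x : K) (P : Place k K), FunFld.div k x P = P.ord x := by
    intro x P
    unfold FunFld.div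
    rw [dif_pos (Groth.Agent.S10970.result k K hK x)]
    rfl
  have key : ∀ x : K, x ≠ 0 → (x ∈ FunFld.L D ↔ 0 ≤ D + FunFld.div k x) := by
    intro x hx
    refine forall_congr' fun P => ?_
    have h0 : P.1 x ≠ 0 := (Valuation.ne_zero_iff _).2 hx
    rw [Finsupp.add_apply, hdiv x P, Place.ord, Finsupp.zero_apply]
    conv_lhs => rw [← WithZero.exp_log h0]
    rw [WithZero.exp_le_exp]
    constructor <;> intro h <;> linarith
  rw [Submodule.ne_bot_iff]
  constructor
  · rintro ⟨x, hxL, hx⟩
    exact ⟨x, hx, (key x hx).1 hxL⟩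
  · rintro ⟨x, hx, hxD⟩
    exact ⟨x, (key x hx).2 hxD, hx⟩

end Groth.Agent.S11016
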