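import Groth.Statements.S12596
import Groth.Agent.FunFld.K668.Orders

set_option autoImplicit false
open FunFld

namespace Groth.Agent.S12596

/-- Over an algebraically closed constant field, replacing a projective map `φ` by `Aφ` for an
invertible matrix `A` over `k` does not change the `τ`-order sequence, and multiplies every
generalized Wronskian determinant `det [τ(φ) | D^(I₁) φ | ⋯ | D^(Iₙ) φ]` (Hasse derivatives taken
with `H`) by `det A`. -/
theorem result
    (k K : Type*) [Field k] [IsAlgClosed k] [Field K] [Algebra k K]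
    (hK : FunFld.IsFunctionField k K) {n : ℕ} (φ : Fin (n + 1) → K) (hφ : LinearIndependent k φ)
    (τ : K →ₐ[k] K) (s : K) (H : K →ₐ[k] PowerSeries K) (hH : LocRes.IsHasseFamily s H)
    (A : Matrix (Fin (n + 1)) (Fin (n + 1)) k) (hA : A.det ≠ 0)
    (φ' : Fin (n + 1) → K) (hφ' : ∀ i, φ' i = ∑ j, A i j • φ j) :
    (∀ J : Fin n → ℕ, FunFld.IsOrders K (FunFld.hcol τ H φ') J ↔ FunFld.IsOrders K (FunFld.hcol τ H φ) J) ∧
    ∀ I : Fin n → ℕ, (FunFld.wrMat τ H φ' I).det = algebraMap k K A.det * (FunFld.wrMat τ H φ I).det := by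
  classical
  let A' : Matrix (Fin (n + 1)) (Fin (n + 1)) K := (algebraMap k K).mapMatrix A
  have hA' : A'.det = algebraMap k K A.det := (RingHom.map_det _ _).symm
  have hA'0 : A'.det ≠ 0 := by rw [hA']; simpa using hA
  have hcol : ∀ j, FunFld.hcol τ H φ' j = Matrix.mulVecLin A' (FunFld.hcol τ H φ j) := by
    intro j
    funext i
    rw [Matrix.mulVecLin_apply]
    change _ = ∑ l, A' i l * FunFld.hcol τ H φ j l
    cases j with
    | zero =>
      change τ (φ' i) = ∑ l, algebraMap k K (A i l) * τ (φ l)
      rw [hφ' i, map_sum]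
      exact Finset.sum_congr rfl fun l _ => by rw [map_smul, Algebra.smul_def]
    | succ j =>
      change PowerSeries.coeff j (H (φ' i)) = ∑ l, algebraMap k K (A i l) * PowerSeries.coeff j (H (φ l))
      rw [hφ' i, map_sum, map_sum]
      exact Finset.sum_congr rfl fun l _ => by
        rw [map_smul, ← Algebra.smul_def]
        exact PowerSeries.coeff_smul _ _ _
  have hinj : Function.Injective (Matrix.mulVecLin A') := by
    have := Matrix.mulVec_injective_iff_isUnit.2 ((Matrix.isUnit_iff_isUnit_det A').2 (isUnit_iff_ne_zero.2 hA'0))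
    exact this
  constructor
  · intro J
    have : FunFld.hcol τ H φ' = fun j => Matrix.mulVecLin A' (FunFld.hcol τ H φ j) := funext hcol
    rw [this]
    exact K668.Orders.isOrders_comp _ hinj _ J
  · intro I
    rw [← hA', ← Matrix.det_mul]
    congr 1
    rw [K668.Orders.wrMat_eq, K668.Orders.wrMat_eq]
    ext i l
    rw [Matrix.mul_apply]
    simp only [K668.Orders.colMat, Matrix.of_apply]
    rw [hcol]
    rfl

end Groth.Agent.S12596
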