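import Groth.Statements.S12590
import Groth.Agent.FunFld.K667.Nondeg
import Groth.Agent.FunFld.K660.Sep

set_option autoImplicit false
universe u v w
open FunFld

namespace Groth.Agent.S12590

theorem finrankOmega (k : Type u) (K : Type v) [Field k] [Field K] [Algebra k K]
    (hK : FunFld.IsFunctionField k K) (hg : FunFld.IsGeometric k K) :
    Module.finrank K (KaehlerDifferential k K) = 1 := by
  obtain ⟨t, ht, hsep⟩ := K660.Sep.exists_isSeparable hK hg
  exact K660.Sep.finrank_kaehler ht hsep

/-- At a place `P` of a geometric function field of one variable `K/k` and for a separating variable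
`x`, the local residue `Res_P(y dx)` is nonzero for some `y`; stated at a separable place through a
Laurent expansion over `k`, with `y` found in `K` itself. (The companion assertion on the largest
finite extension of `k` inside the completion is not stated.) -/
theorem result (k : Type u) (K : Type v) [Field k] [Field K] [Algebra k K] (hK : FunFld.IsFunctionField k K) (hg : FunFld.IsGeometric k K)
    (P : FunFld.Place k K) (F : Type w) [Field F] [Algebra k F] [FiniteDimensional k F]
    (φ : K →ₐ[k] LaurentSeries F) (hφ : LocRes.IsExpansionAt P.1 φ)
    (x : K) (hx : KaehlerDifferential.D k K x ≠ 0) :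
    ∃ y : K, LocRes.locRes φ y x ≠ 0 := by
  have h1 := finrankOmega k K hK hg
  have h2 := K667.DiffOrd.vDiff_ne_zero h1 hφ one_ne_zero hx
  have := K667.ResField.isSeparable_coeff h1 hφ
  obtain ⟨y, -, hy⟩ := K667.Nondeg.exists_locRes_ne_zero hφ (WithZero.exp_log h2).symm
  exact ⟨y, hy⟩

end Groth.Agent.S12590
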