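import Groth.Statements.S12519
import Groth.Agent.FunFld.K666.QuadPl
import Groth.Agent.FunFld.K666.RatPl
import Groth.Agent.FunFld.K664.Basic
import Mathlib.Algebra.CharP.Two

set_option autoImplicit false
open FunFld

namespace Groth.Agent.S12519

/-- Let `k` be perfect of characteristic `2`, `K` separable of degree `2` over `k(x)`, and `y ∈ K \
k(x)` with `y² + y = f(x)`. At a place `p` of `k(x)/k` where `f` has a pole of odd order there is a
unique place `P` of `K` above `p`, with `e(P|p) = 2` and `deg P = deg p` (residue degree `1`); at a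
place where `f` has no pole, every place of `K` above it is unramified. The different is not stated. -/
theorem result (k K : Type*) [Field k] [Field K] [PerfectField k] (h2 : ringChar k = 2)
    [Algebra k K] [Algebra (RatFunc k) K] [IsScalarTower k (RatFunc k) K]
    (hdeg : Module.finrank (RatFunc k) K = 2) [Algebra.IsSeparable (RatFunc k) K]
    (y : K) (hy : y ∉ Set.range (algebraMap (RatFunc k) K))
    (f : RatFunc k) (heq : y ^ 2 + y = algebraMap (RatFunc k) K f)
    (P₀ : FunFld.Place k (RatFunc k)) :
    ((P₀.ord f < 0 ∧ Odd (P₀.ord f)) → (∃! P : FunFld.Place k K, FunFld.IsOver P P₀) ∧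
      ∀ P : FunFld.Place k K, FunFld.IsOver P P₀ → FunFld.IsOverWith P P₀ 2 ∧ P.deg = P₀.deg) ∧
    (0 ≤ P₀.ord f → ∀ P : FunFld.Place k K, FunFld.IsOver P P₀ → FunFld.IsOverWith P P₀ 1) := by
  have hch : CharP k 2 := by rw [← h2]; exact ringChar.charP k
  have hchK : CharP K 2 :=
    charP_of_injective_ringHom ((algebraMap (RatFunc k) K).comp (algebraMap k (RatFunc k))).injective 2
  have hK : FunFld.IsFunctionField k (RatFunc k) := K666.RatPl.isFunctionField
  have hfin : FiniteDimensional (RatFunc k) K := Module.finite_of_finrank_eq_succ hdeg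
  constructor
  · rintro ⟨hneg, hodd⟩
    have key : ∀ P : FunFld.Place k K, FunFld.IsOver P P₀ →
        Even (P.ord (algebraMap (RatFunc k) K f)) := by
      intro P hP
      have h1 : 1 < P.1 (algebraMap (RatFunc k) K f) := by
        rw [← not_le, K661.Place.val_algebraMap_le_one_iff hP, not_le,
          K664.one_lt_val_iff_ord_neg]
        exact hneg
      rw [← heq] at h1
      have h2 : 1 < P.1 y := by
        by_contra hcon
        rw [not_lt] at hcon
        apply absurd h1
        rw [not_lt]
        refine (P.1.map_add _ _).trans (max_le ?_ hcon)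
        rw [map_pow]; exact pow_le_one' hcon 2
      have h3 : P.1 (y + 1) = P.1 y := by
        apply Valuation.map_add_eq_of_lt_left
        rwa [map_one]
      have h4 : P.ord (algebraMap (RatFunc k) K f) = P.ord y + P.ord y := by
        have hy0 : P.1 y ≠ 0 := (zero_lt_one.trans h2).ne'
        rw [← heq, FunFld.Place.ord, FunFld.Place.ord,
          show y ^ 2 + y = y * (y + 1) by ring, map_mul, h3, WithZero.log_mul hy0 hy0]
        ring
      exact ⟨_, h4⟩
    have main := fun P hP => K666.QuadPl.ramIdx_eq_two hK hdeg P P₀ hP f hodd (key P hP)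
    obtain ⟨P, hP⟩ := K666.Ext.exists_over (K' := K) hK P₀
    refine ⟨⟨P, hP, fun P' hP' => (main P hP).2.2 P' hP'⟩, fun P' hP' => ⟨?_, (main P' hP').2.1⟩⟩
    have := K661.Place.isOverWith_ramIdx hP'
    rwa [(main P' hP').1] at this
  · intro hnn P hP
    obtain ⟨σ, hσ⟩ := K666.QuadPl.exists_aut hdeg y hy
    have hσy : σ y - y = 1 := by
      have e1 : (σ y) ^ 2 + σ y = y ^ 2 + y := by
        rw [← map_pow, ← map_add, heq, AlgEquiv.commutes]
      have e2 : (σ y - y) * (σ y + y + 1) = 0 := by linear_combination e1
      rcases mul_eq_zero.mp e2 with h | h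
      · exact absurd (sub_eq_zero.mp h) hσ
      · have h2 : (2 : K) = 0 := CharTwo.two_eq_zero
        linear_combination h - (y + 1) * h2
    have hyi : P.1 y ≤ 1 := by
      by_contra hcon
      rw [not_le] at hcon
      have h3 : P.1 (y + 1) = P.1 y := by
        apply Valuation.map_add_eq_of_lt_left
        rwa [map_one]
      have h4 : P.1 (algebraMap (RatFunc k) K f) ≤ 1 := by
        rw [K661.Place.val_algebraMap_le_one_iff hP, K664.val_le_one_iff_ord_nonneg]
        exact hnn
      rw [← heq, show y ^ 2 + y = y * (y + 1) by ring, map_mul, h3] at h4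
      exact absurd h4 (not_le.mpr (one_lt_mul_of_lt_of_le hcon hcon.le))
    have := K666.QuadPl.ramIdx_eq_one hK hdeg P P₀ hP σ y hyi (by rw [hσy, map_one])
    have h5 := K661.Place.isOverWith_ramIdx hP
    rwa [this] at h5

end Groth.Agent.S12519
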