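import Groth.Statements.S16695
import Groth.Agent.AlgSt.K608.KMGeom
import Groth.Agent.S16692

set_option autoImplicit false
universe u
open AlgSt

namespace Groth.Agent.S16695

open CategoryTheory AlgebraicGeometry in
/-- For an algebraic stack `𝒳` with finite inertia and `π : 𝒳 → M` a categorical moduli space (the
Keel–Mori moduli space), if `𝒳` is separated over the base `S` then so is `M`. (Stated over an
arbitrary base scheme `S`; for `S = Spec ℤ` these are the absolute notions of the published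
statement.) -/
theorem result (S : Scheme.{u}) (𝒳 : AlgSt.Cat S)
    (h𝒳 : AlgSt.IsAlgStack Scheme.fppfPrecoverage 𝒳)
    (hI : AlgSt.RepByAlgSpWith AlgSp.IsFiniteMor (FibCat.inertiaToBase (FibCat.toSelf 𝒳)))
    (M : AlgSp.Sp S) (π : 𝒳 ⥤ᵇ AlgSt.ofSp M) (hπ : AlgSt.IsCatModuli π)
    (hs : AlgSt.IsSeparatedOver 𝒳) :
    AlgSp.IsSeparatedSp M := by
  exact K608.KMGeom.main16695 (fun 𝒳 a b => Groth.Agent.S16692.result S 𝒳 a b) 𝒳 h𝒳 hI M π hπ hs

end Groth.Agent.S16695
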