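import Groth.Statements.S18976
import Groth.Agent.GIT.K690.AssocBundle
import Groth.Agent.Etbase.FpqcDescent
import Mathlib.AlgebraicGeometry.Morphisms.LocalFlatDescent

set_option autoImplicit false
universe u
open CategoryTheory MonoidalCategory CartesianMonoidalCategory MonObj AlgebraicGeometry
open GIT

namespace Groth.Agent.S18976

theorem flat_codescends : RingHom.CodescendsAlong.{u} RingHom.Flat RingHom.FaithfullyFlat := by
  refine RingHom.CodescendsAlong.mk _ RingHom.Flat.respectsIso fun R S T _ _ _ _ _ h h' ↦ ?_
  rw [RingHom.flat_algebraMap_iff] at h' ⊢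
  rw [RingHom.faithfullyFlat_algebraMap_iff] at h
  exact Module.Flat.of_flat_tensorProduct R T S

theorem flat_descends : MorphismProperty.DescendsAlong @Flat
    (@Surjective ⊓ @Flat ⊓ @QuasiCompact : MorphismProperty Scheme.{u}) :=
  HasRingHomProperty.descendsAlong_flat flat_codescends

/-- The associated fibre bundle exists. Over an algebraically closed field k of characteristic zero, let
G be an affine group scheme of finite type over k acting on a k-scheme X, let φ : X → Y be a
G-torsor over Y (the square formed by the action, the second projection and φ twice is cartesian,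
and φ acquires sections on the members of some fpqc covering family of Y), and let G act on an
affine k-scheme F. Give X ×_k F the diagonal action. Then there are a k-scheme Q with a morphism to
Y and a morphism q : X ×_k F → Q compatible with the projection to Y such that q is a G-torsor over
Q in the same sense; moreover q is affine and a geometric quotient. (The source writes the torsor
with a right action and lets g act on X × F by (x g⁻¹, g f); with the left action g x := x g⁻¹ this
is the diagonal action used here. The last assertion of the source, on the case where F is a larger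
affine group containing G, is not part of this row.) -/
theorem result
    (k : Type u) [Field k] [IsAlgClosed k] [CharZero k]
    (G X Y F : Over (Spec (CommRingCat.of k))) [GrpObj G] [IsAffine G.left] [LocallyOfFiniteType G.hom]
    (a : AlgGrp.Action G X) (φ : X ⟶ Y)
    (hcart : IsPullback a.act (snd G X) φ φ)
    (hloc : NonAbH1.IsLocallyTrivialFor Scheme.fpqcPrecoverage (Over.mk φ.left : Over Y.left))
    [IsAffine F.left] (b : AlgGrp.Action G F) :
    ∃ (Q : Over (Spec (CommRingCat.of k))) (q : X ⊗ F ⟶ Q) (r : Q ⟶ Y),
      q ≫ r = fst X F ≫ φ ∧
      IsPullback (a.prod b).act (snd G (X ⊗ F)) q q ∧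
      NonAbH1.IsLocallyTrivialFor Scheme.fpqcPrecoverage (Over.mk q.left : Over Q.left) ∧
      IsAffineHom q.left ∧ GIT.IsGeomQuot (a.prod b) q := by
  have hG : IsAffineHom G.hom := inferInstance
  have hGf : Flat G.hom := inferInstance
  have hF : IsAffineHom F.hom := inferInstance
  have hφ1 : IsAffineHom φ.left := K690.GeomQuot.prop_of_torsor @IsAffineHom hcart hloc hG
  have := flat_descends
  have hφ2 : Flat φ.left := K690.GeomQuot.prop_of_torsor @Flat hcart hloc hGf
  have hfst : IsAffineHom (fst X F).left :=
    MorphismProperty.of_isPullback (P := @IsAffineHom) (IsPullback.of_hasPullback X.hom F.hom).flip hF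
  have hπ : (a.prod b).act ≫ fst X F = (G ◁ fst X F) ≫ a.act := by
    apply AlgGrp.Action.hom_ext_lift₂
    intro T g z
    obtain ⟨x, y, rfl⟩ : ∃ x y, z = lift x y := ⟨z ≫ fst _ _, z ≫ snd _ _, by
      rw [← comp_lift, lift_fst_snd, Category.comp_id]⟩
    rw [AlgGrp.Action.lift_prod_act_assoc, lift_fst, lift_whiskerLeft_assoc, lift_fst]
  obtain ⟨Q, q, r, hqr, hpb, hcart', hloc'⟩ :=
    K690.AssocBundle.exists_quotient hcart (a.prod b) (fst X F) hπ hloc
  exact ⟨Q, q, r, hqr, hcart', hloc',
    MorphismProperty.of_isPullback (P := @IsAffineHom) hpb hφ1,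
    K690.GeomQuot.isGeomQuot_of_torsor hcart' hloc'⟩

end Groth.Agent.S18976
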