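import Groth.Statements.S14713
import Groth.Agent.GIT.K688.SsAmple
import Groth.Agent.GIT.K686.RedQuot
import Groth.Agent.S8082

set_option autoImplicit false
universe u
open CategoryTheory MonoidalCategory CartesianMonoidalCategory MonObj GrpObj AlgebraicGeometry Topology
open GIT

namespace Groth.Agent.S14713

open K688.SsQuot K688.SsMain K688.SsMain.QD


/-- Let k be a field of characteristic zero, G a connected reductive algebraic group over k (affine,
smooth, with connected reductive geometric fibre) acting by σ on a finite-type k-scheme X (not
necessarily separated), and L a G-linearised line bundle on X, taken in total-space form (a line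
bundle V → X with a linear atlas and a fibrewise-linear lifting of the action; sections of L^n are
the weight-n functions on V, invariant sections those fixed by the lifted action, X_s the locus over
which s does not vanish identically on the fibre). Let U = X^ss(L) be the open set of semi-stable
points (those x admitting an invariant section s of some L^n, n ≥ 1, with s(x) ≠ 0 and X_s affine),
with the action restricted to U. Then a uniform categorical quotient (Y, φ) of U by G exists; φ is
affine and universally submersive; and Y is separated, of finite type over k and carries an ample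
invertible sheaf, so that Y is a quasi-projective scheme. (The published statement also identifies
the pull-back of that ample sheaf with a power of L; this identification is not expressed here. The
published statement is for any reductive G in any characteristic; this row is the
characteristic-zero case with G connected. L is taken in total-space form.) -/
theorem result (k : Type u) [Field k] [CharZero k]
    (G X : Over (Spec (CommRingCat.of k))) [GrpObj G] (hG : Red.IsReductive G)
    [LocallyOfFiniteType X.hom] [QuasiCompact X.hom]
    (a : AlgGrp.Action G X) (B : GLinSh.LinBun G a)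
    (U : X.left.Opens) (hU : (U : Set X.left) = B.ssLocus)
    (aU : AlgGrp.Action G (Over.mk (U.ι ≫ X.hom)))
    (jU : Over.mk (U.ι ≫ X.hom) ⟶ X) (hjU : jU.left = U.ι)
    (haU : aU.act ≫ jU = (G ◁ jU) ≫ a.act) :
    ∃ (Y : Over (Spec (CommRingCat.of k))) (φ : Over.mk (U.ι ≫ X.hom) ⟶ Y),
      GIT.IsUnifCatQuot aU φ ∧ IsAffineHom φ.left ∧ GIT.IsUnivSubmersive φ.left ∧
      IsSeparated Y.hom ∧ LocallyOfFiniteType Y.hom ∧
      ∃ M : Y.left.Modules, CohB1.IsAmple M := by
  have hQ : HasAffQuot G := by
    intro P _ b
    obtain ⟨Y, φ, hY, -, hr, hu, hs, -, hl⟩ := K686.RedQuot.exists_univCatQuot (fun A _ _ _ _ h => (Groth.Agent.S8082.result k A).mp h) hG b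
    exact ⟨Y, φ, hY, hr, hu, hs, hl⟩
  have hj : jU = K688.ActRes.inc X U := by ext1; exact hjU
  subst hj
  obtain ⟨D⟩ := nonempty_QD hQ B U hU aU haU
  have hN : IsLocallyNoetherian X.left := LocallyOfFiniteType.isLocallyNoetherian X.hom
  have hc : CompactSpace X.left := by
    have := (quasiCompact_iff_compactSpace X.hom).1 inferInstance
    exact this
  have hNo : IsNoetherian X.left := {}
  have hcU : CompactSpace (K688.ActRes.op X U).left := by
    have : TopologicalSpace.NoetherianSpace X.left := inferInstance
    exact isCompact_iff_compactSpace.mp (TopologicalSpace.NoetherianSpace.isCompact (U : Set X.left))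
  have hcZ : CompactSpace D.Z.left := D.compactSpace
  obtain ⟨hsep, hamp⟩ := D.separated_and_ample haU
  have haff : ∀ i : J B, IsAffine (K688.ActRes.op (K688.ActRes.op X U) (VV U i)).left := fun i =>
    isAffineOpen_VV U i (fun x hx => by
      have : x ∈ (U : Set X.left) := by
        rw [hU]
        exact i.mem_ss hx
      exact this)
  exact ⟨D.Z, D.ψ, D.uqψ.isUnifCatQuot, D.isAffineHom haff, D.isUnivSubmersive, hsep,
    D.locallyOfFiniteType, hamp⟩

end Groth.Agent.S14713
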