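import Groth.Statements.S13380
import Groth.Agent.GaDual.K770.Split
import Mathlib.RingTheory.Noetherian.Nilpotent

set_option autoImplicit false
universe u
open GaDual

namespace Groth.Agent.S13380

/-- Over a commutative ring R of prime characteristic p whose Frobenius is surjective, every commutative
extension of the additive group by the multiplicative group that has a scheme-theoretic section
splits. In the coordinates given by such a section the extension is the product G_m × G_a with law
(t,x)(t',x') = (tt'h(x,x'), x+x') for an invertible polynomial h with h(X,0) = 1, h symmetric and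
h(Y,Z)h(X,Y+Z) = h(X+Y,Z)h(X,Y), and a group-theoretic section is an invertible polynomial f with
f(X+Y) = f(X)f(Y)h(X,Y); the row states the existence of such f for every such h. -/
theorem result (p : ℕ) [Fact p.Prime] (R : Type u)
    [CommRing R] [CharP R p] (hF : Function.Surjective (frobenius R p))
    (h : MvPolynomial (Fin 2) R) (hu : IsUnit h)
    (h0 : MvPolynomial.aeval ![(MvPolynomial.X 0 : MvPolynomial (Fin 2) R), 0] h = 1)
    (hsymm : MvPolynomial.aeval ![(MvPolynomial.X 1 : MvPolynomial (Fin 2) R), MvPolynomial.X 0] h = h)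
    (hcoc : MvPolynomial.aeval ![(MvPolynomial.X 1 : MvPolynomial (Fin 3) R), MvPolynomial.X 2] h *
        MvPolynomial.aeval ![MvPolynomial.X 0, MvPolynomial.X 1 + MvPolynomial.X 2] h =
      MvPolynomial.aeval ![MvPolynomial.X 0 + MvPolynomial.X 1, MvPolynomial.X 2] h *
        MvPolynomial.aeval ![MvPolynomial.X 0, MvPolynomial.X 1] h) :
    ∃ f : Polynomial R, IsUnit f ∧
      Polynomial.aeval (MvPolynomial.X 0 + MvPolynomial.X 1 : MvPolynomial (Fin 2) R) f =
        Polynomial.aeval (MvPolynomial.X 0 : MvPolynomial (Fin 2) R) f *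
          Polynomial.aeval (MvPolynomial.X 1 : MvPolynomial (Fin 2) R) f * h := by
  classical
  have hp : p.Prime := Fact.out
  -- the coefficients of `h - 1` are nilpotent
  have hc0 : MvPolynomial.coeff 0 h = 1 := by
    have h1 := congrArg (MvPolynomial.constantCoeff (R := R) (σ := Fin 2)) h0
    rw [map_one] at h1
    have h2 : (MvPolynomial.constantCoeff (R := R) (σ := Fin 2)).comp
        (MvPolynomial.aeval ![(MvPolynomial.X 0 : MvPolynomial (Fin 2) R), 0] :
          MvPolynomial (Fin 2) R →ₐ[R] _).toRingHom = MvPolynomial.constantCoeff := by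
      apply MvPolynomial.ringHom_ext
      · intro r
        simp
      · intro i
        fin_cases i <;> simp
    have h3 := RingHom.congr_fun h2 h
    rw [RingHom.comp_apply] at h3
    rw [← MvPolynomial.constantCoeff_eq, ← h3]
    exact h1
  have hnil : ∀ m, IsNilpotent (MvPolynomial.coeff m (h - 1)) := by
    intro m
    rw [MvPolynomial.coeff_sub]
    by_cases hm : m = 0
    · rw [hm, hc0, MvPolynomial.coeff_zero_one, sub_self]
      exact IsNilpotent.zero
    · rw [MvPolynomial.coeff_one, if_neg (Ne.symm hm), sub_zero]
      exact (MvPolynomial.isUnit_iff.1 hu).2 m hm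
  let I : Ideal R := Ideal.span ((h - 1).support.image (fun m => MvPolynomial.coeff m (h - 1)) : Finset R)
  have hI : IsNilpotent I := by
    rw [Ideal.FG.isNilpotent_iff_le_nilradical ⟨_, rfl⟩]
    rw [Ideal.span_le]
    intro x hx
    rw [Finset.mem_coe, Finset.mem_image] at hx
    obtain ⟨m, -, rfl⟩ := hx
    exact hnil m
  obtain ⟨n, hn⟩ := hI
  have hn' : I ^ 2 ^ n = ⊥ := by
    rw [eq_bot_iff, ← Ideal.zero_eq_bot, ← hn]
    exact Ideal.pow_le_pow_right Nat.lt_two_pow_self.le
  refine K770.Split.exists_split (p := p) hF n I hn' h ?_ hsymm hcoc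
  rw [MvPolynomial.mem_map_C_iff]
  intro m
  by_cases hm : m ∈ (h - 1).support
  · exact Ideal.subset_span (Finset.mem_coe.2 (Finset.mem_image_of_mem _ hm))
  · rw [MvPolynomial.notMem_support_iff.1 hm]
    exact I.zero_mem

end Groth.Agent.S13380
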