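import Groth.Statements.S16869
import Groth.Agent.Gerb.K894.Ifc
import Groth.Agent.Gerb.K894.Iff
import Groth.Agent.S13008
import Groth.Agent.S12820

set_option autoImplicit false
universe u
open CategoryTheory AlgebraicGeometry
open Gerb

namespace Groth.Agent.S16869

/-- A morphism of algebraic stacks making its source a gerbe over its target is a universal
homeomorphism. -/
theorem result
    (S : Scheme.{u}) (𝒳 𝒴 : AlgSt.Cat S)
    (h𝒳 : AlgSt.IsAlgStack Scheme.fppfPrecoverage 𝒳) (h𝒴 : AlgSt.IsAlgStack Scheme.fppfPrecoverage 𝒴)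
    (f : 𝒳 ⥤ᵇ 𝒴) (hf : Gerb.IsGerbeOver (QuotSh.J Scheme.fppfPrecoverage S) f) :
    AlgSt.IsUnivHomeo Scheme.fppfPrecoverage f := by
  intro 𝒵 h𝒵 g
  have i1 := h𝒳.isStack.1
  have i2 := h𝒴.isStack.1
  have i3 := h𝒵.isStack.1
  have hW := K894.Ifc.isAlgStack_fp h𝒵 h𝒳 h𝒴 g f
  have hπ := K894.Formal.isGerbeOver_fpFst g hf
  have h1 := K894.Diag.flat_diag hW h𝒵 _ hπ
  have h2 := K894.Diag.lfp_diag hW h𝒵 _ hπ
  have h3 := K894.Diag.surjective_diag_pts hW h𝒵 _ hπ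
  exact { continuous := Groth.Agent.S12820.result hW h𝒵 _
          isOpenMap := Groth.Agent.S13008.result S _ _ hW h𝒵 _ (K894.Iff.locQ_flat_of hW h𝒵 _ hπ.1 h1 h2 h3)
            (K894.Iff.locQ_lfp_of hW h𝒵 _ hπ.1 h1 h2 h3)
          bijective := ⟨K735.Pts.injective_fpFst_of_surjective_diag i1 i3 i2 g f
            (K894.Diag.surjective_diag_pts h𝒳 h𝒴 f hf), K894.Surj.isSurjective_of_locSurjObj _ hπ.1⟩ }

end Groth.Agent.S16869
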