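import Groth.Statements.S10561
import Groth.Agent.AlgSp.K629.EtLocally
import Groth.Agent.Etcore.SmoothRed
import Groth.Agent.FlatB.GeomRed

set_option autoImplicit false
universe u
open CategoryTheory CategoryTheory.Limits AlgebraicGeometry
open AlgSp

namespace Groth.Agent.S10561

/-- Let f : X ⟶ Y be a flat and surjective morphism of algebraic spaces over S. If X is reduced then Y
is reduced. -/
theorem result {S : Scheme.{u}} {X Y : AlgSp.Space S} (f : X ⟶ Y)
    (hfl : AlgSp.LocP @Flat f.hom) (hs : AlgSp.IsSurjectiveMor f.hom) (hX : AlgSp.IsReducedSp X.obj) :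
    AlgSp.IsReducedSp Y.obj := by
  refine K629.EtLocally.of_surjective (R := @Flat) Y.property f.hom hs hfl hX ?_ ?_
  · intro T U g hg hU
    exact Groth.Agent.Etcore.SmoothRed.isReduced_of_smooth g
  · intro T U g hg hg' hT
    exact Groth.Agent.FlatB.GeomRed.isReduced_of_flat_of_surjective g


end Groth.Agent.S10561
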