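import Groth.Statements.S5168
import Mathlib.RingTheory.Filtration

set_option autoImplicit false
universe u
open InjHull

namespace Groth.Agent.S5168

/-- Let A be a Noetherian ring, J an ideal and H a J-power torsion A-module. Then H is injective if and
only if Hom_A(−, H) is exact on finite A-modules killed by a power of J, i.e. every linear map to H
from a submodule of such a module M extends to M. -/
theorem result (A : Type u) [CommRing A] [IsNoetherianRing A] (J : Ideal A) (H : Type u) [AddCommGroup H] [Module A H] (hH : LocCoh.IsPowerTorsion J H) : Module.Injective A H ↔ ∀ (M : Type u) [AddCommGroup M] [Module A M], Module.Finite A M → (∃ k : ℕ, (J ^ k) • (⊤ : Submodule A M) = ⊥) → ∀ (N : Submodule A M) (g : N →ₗ[A] H), ∃ g' : M →ₗ[A] H, g'.comp N.subtype = g := by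
  constructor
  · intro hi M _ _ _ _ N g
    exact Module.Injective.extension_property A H N M N.subtype N.injective_subtype g
  · intro h
    apply Module.Baer.injective
    intro I g
    -- a power of `J` kills the image of `g`
    have h1 : ∃ n : ℕ, ∀ x : I, ∀ a ∈ J ^ n, a • g x = 0 := by
      obtain ⟨s, hs⟩ := (inferInstance : Module.Finite A I)
      choose n hn using fun x : I => hH (g x)
      refine ⟨s.sup n, fun x a ha => ?_⟩
      have hx : x ∈ Submodule.span A (s : Set I) := by rw [hs]; trivial
      induction hx using Submodule.span_induction with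
      | mem y hy => exact hn y a (Ideal.pow_le_pow_right (Finset.le_sup hy) ha)
      | zero => rw [map_zero, smul_zero]
      | add y z _ _ hy hz => rw [map_add, smul_add, hy, hz, add_zero]
      | smul c y _ hy => rw [map_smul, smul_comm, hy, smul_zero]
    obtain ⟨n, hn⟩ := h1
    -- Artin–Rees
    obtain ⟨k, hk⟩ := Ideal.exists_pow_inf_eq_pow_smul J (I : Submodule A A)
    have hAR : (J ^ (n + k) • ⊤ ⊓ I : Submodule A A) ≤ J ^ n • I := by
      rw [hk (n + k) (Nat.le_add_left k n), Nat.add_sub_cancel]
      exact Submodule.smul_mono le_rfl inf_le_right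
    let π : A →ₗ[A] (A ⧸ J ^ (n + k)) := Submodule.mkQ _
    let N : Submodule A (A ⧸ J ^ (n + k)) := Submodule.map π I
    let p : I →ₗ[A] N := π.restrict (fun x hx => Submodule.mem_map_of_mem hx)
    have hp : Function.Surjective p := by
      rintro ⟨y, x, hx, rfl⟩
      exact ⟨⟨x, hx⟩, rfl⟩
    have hker : LinearMap.ker p ≤ LinearMap.ker g := by
      rintro ⟨x, hx⟩ hx0
      rw [LinearMap.mem_ker] at hx0 ⊢
      have h2 : π x = 0 := congrArg Subtype.val hx0
      rw [Submodule.mkQ_apply, Submodule.Quotient.mk_eq_zero] at h2
      have h3 : x ∈ (J ^ n • I : Submodule A A) := hAR ⟨by simpa using h2, hx⟩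
      have h4 : ∀ y (hy : y ∈ (J ^ n • I : Submodule A A)) (hyI : y ∈ I), g ⟨y, hyI⟩ = 0 := by
        intro y hy
        induction hy using Submodule.smul_induction_on' with
        | smul r hr z hz =>
          intro hyI
          have : (⟨r • z, hyI⟩ : I) = r • ⟨z, hz⟩ := rfl
          rw [this, map_smul]
          exact hn _ r hr
        | add a ha b hb h1 h2 =>
          intro hyI
          have ha' : a ∈ I := Submodule.smul_le_right ha
          have hb' : b ∈ I := Submodule.smul_le_right hb
          have : (⟨a + b, hyI⟩ : I) = ⟨a, ha'⟩ + ⟨b, hb'⟩ := rfl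
          rw [this, map_add, h1 ha', h2 hb', add_zero]
      exact h4 x h3 hx
    let e := p.quotKerEquivOfSurjective hp
    obtain ⟨g', hg'⟩ := h (A ⧸ J ^ (n + k)) inferInstance ⟨n + k, by
      rw [eq_bot_iff, Submodule.smul_le]
      intro r hr m _
      induction m using Submodule.Quotient.induction_on with
      | H m =>
        rw [← Submodule.Quotient.mk_smul, Submodule.mem_bot, Submodule.Quotient.mk_eq_zero]
        exact Ideal.mul_mem_right _ _ hr⟩ N (((LinearMap.ker p).liftQ g hker).comp e.symm.toLinearMap)
    refine ⟨g'.comp π, fun x hx => ?_⟩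
    have h5 := LinearMap.congr_fun hg' (p ⟨x, hx⟩)
    have h6 : e.symm (p ⟨x, hx⟩) = Submodule.Quotient.mk (⟨x, hx⟩ : I) := by
      rw [LinearEquiv.symm_apply_eq]; rfl
    simp only [LinearMap.coe_comp, LinearEquiv.coe_coe, Function.comp_apply, h6] at h5
    refine h5.trans ?_
    rfl

end Groth.Agent.S5168
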