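import Groth.Statements.S11175
import Groth.Agent.S0299
import Groth.Agent.S0340
import Groth.Agent.Goren.K710.TopHull
import Groth.Agent.Goren.K710.LcInj

set_option autoImplicit false
universe u
open CategoryTheory
open Goren

namespace Groth.Agent.S11175

/-- The Krull dimension of a Noetherian local ring is a natural number. -/
lemma exists_ringKrullDim_eq (A : Type u) [CommRing A] [IsLocalRing A] [IsNoetherianRing A] :
    ∃ k : ℕ, ringKrullDim A = k := by
  have hlt : ringKrullDim A < ⊤ := ringKrullDim_lt_top
  have h0 : (0 : WithBot ℕ∞) ≤ ringKrullDim A := ringKrullDim_nonneg_of_nontrivial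
  generalize ringKrullDim A = x at h0 hlt
  induction x with
  | bot => simp at h0
  | coe a =>
    induction a with
    | top => exact absurd hlt (lt_irrefl _)
    | coe k => exact ⟨k, rfl⟩

/-- A Noetherian local ring A with maximal ideal m is Gorenstein (A has finite injective dimension as a
module over itself) if and only if there is a natural number d such that the local cohomology
modules H^i_m(A) (direct limits of Ext^i(A/m^n, A)) vanish for all i ≠ d and H^d_m(A) is an
injective A-module. -/
theorem result (A : Type u) [CommRing A] [IsLocalRing A] [IsNoetherianRing A] : LocCoh.IsGorensteinLocalRing A ↔ ∃ d : ℕ, (∀ i : ℕ, i ≠ d → Subsingleton (LocCoh.H (IsLocalRing.maximalIdeal A) i A)) ∧ Module.Injective A (LocCoh.H (IsLocalRing.maximalIdeal A) d A) := by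
  constructor
  · intro hG
    obtain ⟨n, hn⟩ := exists_ringKrullDim_eq A
    obtain ⟨E, _, _, f, hf⟩ := Groth.Agent.S0299.result A (IsLocalRing.ResidueField A)
    obtain ⟨e⟩ := K710.TopHull.nonempty_equiv A E f hf n hn
    exact ⟨n, fun i hi => K710.TopHull.subsingleton_H A n hn i hi E f hf,
      Groth.Agent.Localalg.InjHull.injective_of_equiv hf.isInjective e⟩
  · rintro ⟨d, h1, h2⟩
    rw [Groth.Agent.S0340.result A]
    have hT : LocCoh.IsPowerTorsion (IsLocalRing.maximalIdeal A) (IsLocalRing.ResidueField A) := by
      intro x
      refine ⟨1, fun a ha => ?_⟩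
      rw [pow_one] at ha
      rw [Algebra.smul_def, IsLocalRing.ResidueField.algebraMap_eq,
        (IsLocalRing.residue_eq_zero_iff a).2 ha, zero_mul]
    exact ⟨d + 1, fun i hi => K710.LcInj.subsingleton_ext (IsLocalRing.maximalIdeal A) A d h1 h2
      (IsLocalRing.ResidueField A) hT i (by omega)⟩

end Groth.Agent.S11175
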