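import Groth.Statements.S5163
import Mathlib.RingTheory.Regular.LinearMap
import Mathlib.RingTheory.Spectrum.Prime.Topology
import Mathlib.RingTheory.Support

set_option autoImplicit false
universe u
open LocCoh

namespace Groth.Agent.S5163

/-- For modules over a Noetherian ring. Let P be a finite A-module and H any A-module with Supp H ⊆ Supp
P. If Hom_A(P, H) = 0 then H = 0. (The published lemma is stated over an arbitrary prescheme; its
proof uses that a nonzero module has an associated prime, so the ring is taken Noetherian here.) -/
theorem result (A : Type u) [CommRing A] [IsNoetherianRing A] (P H : Type u) [AddCommGroup P] [Module A P] [Module.Finite A P] [AddCommGroup H] [Module A H] (hsupp : Module.support A H ⊆ Module.support A P) (hhom : Subsingleton (P →ₗ[A] H)) : Subsingleton H := by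
  by_contra hne
  rw [not_subsingleton_iff_nontrivial] at hne
  obtain ⟨y, hy⟩ := exists_ne (0 : H)
  let K : Submodule A H := Submodule.span A {y}
  have hK : Subsingleton (P →ₗ[A] K) := by
    refine ⟨fun f g => ?_⟩
    have h1 : K.subtype ∘ₗ f = K.subtype ∘ₗ g := Subsingleton.elim _ _
    ext x
    exact LinearMap.congr_fun h1 x
  have : Module.Finite A K := Module.Finite.span_singleton A y
  obtain ⟨r, hr, hreg⟩ := IsSMulRegular.subsingleton_linearMap_iff.mp hK
  have h2 : Module.support A K ⊆ Module.support A P :=
    (Module.support_subset_of_injective K.subtype K.subtype_injective).trans hsupp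
  rw [Module.support_eq_zeroLocus, Module.support_eq_zeroLocus,
    PrimeSpectrum.zeroLocus_subset_zeroLocus_iff] at h2
  obtain ⟨n, hn⟩ := h2 hr
  have h3 : r ^ n • (⟨y, Submodule.mem_span_singleton_self y⟩ : K) = 0 :=
    Module.mem_annihilator.mp hn _
  have h4 : (⟨y, Submodule.mem_span_singleton_self y⟩ : K) = 0 :=
    (hreg.pow n) (h3.trans (smul_zero _).symm)
  exact hy (congrArg Subtype.val h4)

end Groth.Agent.S5163
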