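import Groth.Statements.S7038

set_option autoImplicit false
universe u
open LocCoh

namespace Groth.Agent.S7038

/-- For an ideal I of a commutative ring R and an R-module M, if every element of M is killed by a power
of I then the support of M is contained in the closed set V(I); conversely, when I is finitely
generated and the support of M is contained in V(I), every element of M is killed by a power of I.
(Finite generation is used only for the converse.) -/
theorem result {R : Type u} [CommRing R] (I : Ideal R)
    (M : Type u) [AddCommGroup M] [Module R M] :
    (LocCoh.IsPowerTorsion I M → Module.support R M ⊆ PrimeSpectrum.zeroLocus (I : Set R)) ∧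
    (I.FG → Module.support R M ⊆ PrimeSpectrum.zeroLocus (I : Set R) → LocCoh.IsPowerTorsion I M) := by
  constructor
  · intro h p hp
    rw [Module.mem_support_iff_exists_annihilator] at hp
    obtain ⟨m, hm⟩ := hp
    rw [PrimeSpectrum.mem_zeroLocus]
    intro a ha
    obtain ⟨n, hn⟩ := h m
    have h1 : a ^ n ∈ p.asIdeal := by
      apply hm
      rw [Submodule.mem_annihilator_span_singleton]
      exact hn _ (Ideal.pow_mem_pow ha n)
    exact p.2.mem_of_pow_mem n h1
  · intro hI h m
    have h1 : I ≤ (Submodule.span R {m}).annihilator.radical := by
      rw [← PrimeSpectrum.zeroLocus_subset_zeroLocus_iff]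
      intro p hp
      apply h
      rw [Module.mem_support_iff_exists_annihilator]
      exact ⟨m, hp⟩
    obtain ⟨n, hn⟩ := Ideal.exists_pow_le_of_le_radical_of_fg h1 hI
    refine ⟨n, fun a ha => ?_⟩
    have h2 := hn ha
    rwa [Submodule.mem_annihilator_span_singleton] at h2

end Groth.Agent.S7038
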