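import Groth.Statements.S17456
import Groth.Agent.AlgGrp.K409.TorsTorus
import Groth.Agent.Sga3C.GrpIrr
import Groth.Agent.Flat2B.SmoothGeom
import Groth.Agent.S1842

set_option autoImplicit false
universe u
open CategoryTheory MonoidalCategory CartesianMonoidalCategory MonObj GrpObj AlgebraicGeometry CategoryTheory.Limits
open AlgGrp

namespace Groth.Agent.S17456

open Groth.Agent Groth.Agent.Sga3.H739.Fpqc

/-- Let k be a field and G a smooth connected commutative k-group scheme of finite type which is an
extension of an abelian variety B of dimension a by a torus T of dimension t: T → G is a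
homomorphism and a closed immersion with T a torus, G → B is a flat surjective homomorphism onto a
proper smooth connected k-group scheme, and T is its kernel. Then for every integer N ≥ 1, the
characteristic of k being allowed to divide N, the N-torsion subgroup scheme G[N] (the kernel of
multiplication by N on G) is finite locally free over Spec k of degree N^(t + 2a). (In the source G
is the identity component of the special fibre of the Néron model of an abelian variety with
semistable reduction, which is such an extension.) -/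
theorem result (k : Type u) [Field k]
    (G T B : Over (Spec (CommRingCat.of k))) [GrpObj G] [IsCommMonObj G] [GrpObj T] [GrpObj B]
    [Smooth G.hom] [QuasiCompact G.hom] [ConnectedSpace ↥G.left]
    (i : T ⟶ G) [IsMonHom i] [IsClosedImmersion i.left] (hT : Red.IsTorus T)
    (q : G ⟶ B) [IsMonHom q] [Surjective q.left] [Flat q.left] (hk : AlgGrp.IsKernel i q)
    [IsProper B.hom] [Smooth B.hom] [ConnectedSpace ↥B.left]
    (t a : ℕ) (ht : topologicalKrullDim ↥T.left = t) (ha : topologicalKrullDim ↥B.left = a)
    (N : ℕ) (hN : 0 < N)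
    (K : Over (Spec (CommRingCat.of k))) [GrpObj K] (κ : K ⟶ G) [IsMonHom κ]
    (hK : AlgGrp.IsKernel κ ((𝟙 G) ^ N)) :
    Mor2.IsFinLocFreeOfDeg (N ^ (t + 2 * a)) K.hom := by
  have hBi : GeometricallyIntegral B.hom := by
    have : GrpObj (Over.mk B.hom) := inferInstanceAs (GrpObj B)
    have := Sga3C.GrpIrr.geometricallyIrreducible_of_connectedSpace B.hom
    exact Flat2B.SmoothGeom.geometricallyIntegral_of_smooth B.hom
  have hTa := Sga3B.TorusAlgClosed.isAffineHom_of_isTorus hT
  have hTs := Sga3B.TorusAlgClosed.smooth_of_isTorus hT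
  have hq : Cov q := by
    refine ⟨inferInstance, inferInstance, ?_⟩
    have : QuasiCompact (q.left ≫ B.hom) := by rw [Over.w]; infer_instance
    exact QuasiCompact.of_comp q.left B.hom
  have hTk : Cov (toUnit T) := by
    have h1 : (toUnit T).left = T.hom := rfl
    have h2 := Sga3B.TorusAlgClosed.surjective_of_grpObj T
    exact ⟨by rw [h1]; infer_instance, by rw [h1]; infer_instance, by rw [h1]; infer_instance⟩
  have hm : Mor2.IsFinLocFreeOfDeg (N ^ t) (Sga3B.KerGrp.kerObj ((𝟙 T) ^ N)).hom :=
    K409.TorsTorus.deg_torus hT N hN t ht (Sga3B.KerGrp.isPullback_ker ((𝟙 T) ^ N : T ⟶ T))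
  have hn : Mor2.IsFinLocFreeOfDeg (N ^ (2 * a)) (Sga3B.KerGrp.kerObj ((𝟙 B) ^ N)).hom := by
    obtain ⟨h1, h2, h3⟩ := S1842.pos_case k B a ha N hN
    have h4 : IsLocallyNoetherian B.left := LocallyOfFiniteType.isLocallyNoetherian B.hom
    have h5 : LocallyOfFinitePresentation ((𝟙 B : B ⟶ B) ^ N).left := inferInstance
    exact Picfga.HilbPull.isFinLocFreeOfDeg_of_isPullback
      ((Sga3B.KerGrp.isPullback_ker ((𝟙 B) ^ N : B ⟶ B)).map (Over.forget _)) ⟨⟨h1, h2, h5⟩, h3⟩
  rw [pow_add]
  exact K409.TorsSeq.deg_torsion i q hk hq κ N hK (K409.TorsTorus.cov_pow hT N hN) hTk hm hn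

end Groth.Agent.S17456
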