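import Groth.Statements.S14330
import Groth.Agent.S1575
import Groth.Agent.S3844
import Groth.Agent.Pi1B.FlowSmooth
import Groth.Agent.CycB.ModStalk
import Groth.Agent.Models.TrivGeom
import Groth.Agent.CalgA.DepthSmall

set_option autoImplicit false
universe u
open CategoryTheory CategoryTheory.Limits AlgebraicGeometry Opposite
open GrpSch

namespace Groth.Agent.S14330

/-- Sections of an invertible module restrict injectively to a schematically dense open. -/
theorem injective_of_isSchematicallyDense {A : Scheme.{u}} (L : A.Modules) (hL : PicF.IsInvertible L)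
    (D : A.Opens) (hD : CInt.IsSchematicallyDense D) (W : A.Opens) :
    Function.Injective (L.presheaf.map (homOfLE (inf_le_left : W ⊓ D ≤ W)).op) := by
  rw [injective_iff_map_eq_zero]
  intro s hs
  have key : ∀ x : W, ∃ (U : A.Opens) (i : U ⟶ W) (_ : x.1 ∈ U), L.presheaf.map i.op s = 0 := by
    rintro ⟨x, hx⟩
    obtain ⟨U, hxU, t, ht⟩ := CycB.ModStalk.exists_isGenOn hL x
    refine ⟨U ⊓ W, homOfLE inf_le_right, ⟨hxU, hx⟩, ?_⟩
    obtain ⟨r, hr⟩ := (ht (U ⊓ W) inf_le_left).2 (L.presheaf.map (homOfLE inf_le_right).op s)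
    have hr0 : r = 0 := by
      apply hD (U ⊓ W)
      rw [map_zero]
      apply (ht ((U ⊓ W) ⊓ D) (inf_le_left.trans inf_le_left)).1
      dsimp only at hr ⊢
      rw [zero_smul]
      have h1 := congrArg (L.presheaf.map (homOfLE (inf_le_left : (U ⊓ W) ⊓ D ≤ U ⊓ W)).op) hr
      rw [Scheme.Modules.map_smul] at h1
      have e1 : L.presheaf.map (homOfLE (inf_le_left : (U ⊓ W) ⊓ D ≤ U ⊓ W)).op
          (L.presheaf.map (homOfLE (inf_le_left : U ⊓ W ≤ U)).op t) =
          L.presheaf.map (homOfLE ((inf_le_left : (U ⊓ W) ⊓ D ≤ U ⊓ W).trans inf_le_left)).op t := by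
        rw [← ConcreteCategory.comp_apply, ← Functor.map_comp]; rfl
      have e2 : L.presheaf.map (homOfLE (inf_le_left : (U ⊓ W) ⊓ D ≤ U ⊓ W)).op
          (L.presheaf.map (homOfLE (inf_le_right : U ⊓ W ≤ W)).op s) =
          L.presheaf.map (homOfLE (le_inf (inf_le_left.trans inf_le_right) inf_le_right :
            (U ⊓ W) ⊓ D ≤ W ⊓ D)).op (L.presheaf.map (homOfLE (inf_le_left : W ⊓ D ≤ W)).op s) := by
        rw [← ConcreteCategory.comp_apply, ← ConcreteCategory.comp_apply, ← Functor.map_comp,
          ← Functor.map_comp]; rfl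
      rw [e1, e2, hs, map_zero] at h1
      exact h1
    rw [← hr, hr0]
    exact zero_smul _ _
  choose U i hxU hU using key
  refine TopCat.Sheaf.eq_of_locally_eq' ⟨L.presheaf, L.isSheaf⟩ U W i ?_ s 0 ?_
  · intro x hx
    rw [TopologicalSpace.Opens.mem_iSup]
    exact ⟨⟨x, hx⟩, hxU ⟨x, hx⟩⟩
  · intro x
    rw [map_zero]
    exact hU x

/-- Let S be a locally Noetherian scheme, f : A → S a smooth morphism, L an invertible O_A-module and V
an open subscheme of S; for an open W of S consider the restriction of sections of L from f⁻¹(W) to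
f⁻¹(W) ∩ f⁻¹(V), that is the component over W of the natural map f_*L → j_*j^*(f_*L), j : V → S the
inclusion. If V is schematically dense in S, all these restrictions are injective. If V is a big
open of S, meaning that the local ring of S at every point outside V has depth at least 2, all these
restrictions are bijective. (The published statement is for a semi-stable group scheme A; its proof
uses only the smoothness of A over S and the local freeness of L, which are the hypotheses kept
here.) -/
theorem result {S A : Scheme.{u}} [IsLocallyNoetherian S]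
    (f : A ⟶ S) [Smooth f] (L : A.Modules) (hL : PicF.IsInvertible L) (V : S.Opens) :
    (CInt.IsSchematicallyDense V →
      ∀ W : S.Opens, Function.Injective (L.val.map (homOfLE (inf_le_left : f ⁻¹ᵁ W ⊓ f ⁻¹ᵁ V ≤ f ⁻¹ᵁ W)).op)) ∧
    ((∀ x : S, x ∉ V → 2 ≤ LocCoh.depth (S.presheaf.stalk x) (S.presheaf.stalk x)) →
      ∀ W : S.Opens, Function.Bijective (L.val.map (homOfLE (inf_le_left : f ⁻¹ᵁ W ⊓ f ⁻¹ᵁ V ≤ f ⁻¹ᵁ W)).op)) := by
  constructor
  · intro hV W
    exact injective_of_isSchematicallyDense L hL _ (S3844.result f V hV) _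
  · intro hV W
    have : IsLocallyNoetherian A := LocallyOfFiniteType.isLocallyNoetherian f
    refine S1575.result A L (Models.TrivGeom.isCoh_of_isInvertible hL) (f ⁻¹ᵁ V) (fun x hx => ?_) (f ⁻¹ᵁ W)
    obtain ⟨t, ht⟩ := CycB.ModStalk.exists_isGen hL x
    let e : A.presheaf.stalk x ≃ₗ[A.presheaf.stalk x] L.presheaf.stalk x :=
      LinearEquiv.ofBijective (LinearMap.toSpanSingleton _ _ t) ht
    rw [← CalgA.DepthSmall.depth_congr e]
    exact Pi1B.FlowSmooth.two_le_depth_stalk f x (hV (f x) hx)

end Groth.Agent.S14330
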