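import Groth.Statements.S9361
import Groth.Agent.Sga3C.SchemImage

set_option autoImplicit false
universe u
open SchImage

namespace Groth.Agent.S9361

section

open CategoryTheory CategoryTheory.Limits AlgebraicGeometry Groth.Agent.Sga3C.SchemImage

/-- A closed subscheme of the base change of `Y` along a flat quasi-compact monomorphism `g` is the base
change of its schematic closure in `Y`. -/
theorem isPullback_image {S T X Y : Scheme.{u}} (g : T ⟶ S) [Flat g] [Mono g] [QuasiCompact g]
    (y : Y ⟶ S) (p : X ⟶ T) (j : X ⟶ Y) (hj : j ≫ y = p ≫ g)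
    [IsClosedImmersion (pullback.lift j p hj)] :
    IsPullback j.toImage p (j.imageι ≫ y) g := by
  have hqc : QuasiCompact j := by
    rw [← pullback.lift_fst j p hj]
    infer_instance
  have hw : j.toImage ≫ j.imageι ≫ y = p ≫ g := by
    rw [Scheme.Hom.toImage_imageι_assoc, hj]
  have hdom : IsSchemeTheoreticallyDominant j.toImage := dominant_toImage j
  let c : X ⟶ pullback (j.imageι ≫ y) g := pullback.lift j.toImage p hw
  have hc1 : c ≫ pullback.fst (j.imageι ≫ y) g = j.toImage := pullback.lift_fst _ _ _
  have hc2 : c ≫ pullback.snd (j.imageι ≫ y) g = p := pullback.lift_snd _ _ _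
  have hmono : Mono (pullback.fst (j.imageι ≫ y) g) := inferInstance
  -- the square with the identity of `X`
  have hsq : IsPullback (𝟙 X) c j.toImage (pullback.fst (j.imageι ≫ y) g) := by
    refine ⟨⟨by rw [Category.id_comp, hc1]⟩, ⟨PullbackCone.IsLimit.mk _ (fun s => s.fst) ?_ ?_ ?_⟩⟩
    · intro s; simp
    · intro s
      rw [← cancel_mono (pullback.fst (j.imageι ≫ y) g), Category.assoc, hc1, s.condition]
    · intro s m h1 h2
      simpa using h1
  have hcdom : IsSchemeTheoreticallyDominant c := .of_isPullback hsq
  -- closed immersion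
  let d : pullback (j.imageι ≫ y) g ⟶ pullback y g :=
    pullback.lift (pullback.fst _ _ ≫ j.imageι) (pullback.snd _ _) (by
      rw [Category.assoc, pullback.condition])
  have hd1 : d ≫ pullback.fst y g = pullback.fst _ _ ≫ j.imageι := pullback.lift_fst _ _ _
  have hd2 : d ≫ pullback.snd y g = pullback.snd _ _ := pullback.lift_snd _ _ _
  have hdsq : IsPullback (pullback.fst (j.imageι ≫ y) g) d j.imageι (pullback.fst y g) := by
    refine IsPullback.of_bot ?_ hd1.symm (IsPullback.of_hasPullback y g)
    rw [hd2]
    exact IsPullback.of_hasPullback (j.imageι ≫ y) g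
  have hdci : IsClosedImmersion d := MorphismProperty.of_isPullback hdsq inferInstance
  have hcd : c ≫ d = pullback.lift j p hj := by
    apply pullback.hom_ext
    · rw [Category.assoc, hd1, reassoc_of% hc1, Scheme.Hom.toImage_imageι, pullback.lift_fst]
    · rw [Category.assoc, hd2, hc2, pullback.lift_snd]
  have hcci : IsClosedImmersion c := by
    have : IsClosedImmersion (c ≫ d) := by rw [hcd]; infer_instance
    exact IsClosedImmersion.of_comp_isClosedImmersion c d
  have hciso : IsIso c := IsClosedImmersion.isIso_iff_ker_eq_bot.mpr hcdom.ker_eq_bot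
  exact IsPullback.of_iso_pullback ⟨hw⟩ (asIso c) hc1 hc2

end

open AlgebraicGeometry CategoryTheory in
/-- Let f : X → Y be separated, V ⊆ Y a retrocompact open and s : V → X a section of f over V. If Y' ⊆ X
is the scheme-theoretic image of s, then Y' → Y is an isomorphism over V. -/
theorem result {X Y : Scheme.{u}} (f : X ⟶ Y) [IsSeparated f] (V : Y.Opens) [QuasiCompact V.ι]
    (s : (↑V : Scheme.{u}) ⟶ X) (hs : s ≫ f = V.ι) :
    IsIso ((s.imageι ≫ f) ∣_ V) := by
  have hj : s ≫ f = 𝟙 _ ≫ V.ι := by rw [hs, Category.id_comp]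
  have hcl : IsClosedImmersion (Limits.pullback.lift s (𝟙 _) hj) := by
    have h1 : Limits.pullback.lift s (𝟙 _) hj ≫ Limits.pullback.snd f V.ι = 𝟙 _ :=
      Limits.pullback.lift_snd _ _ _
    have h2 : IsClosedImmersion
        (Limits.pullback.lift s (𝟙 _) hj ≫ Limits.pullback.snd f V.ι) := by
      rw [h1]; infer_instance
    exact IsClosedImmersion.of_comp _ (Limits.pullback.snd f V.ι)
  have h := isPullback_image V.ι f (𝟙 _) s hj
  have h' := (isPullback_morphismRestrict (s.imageι ≫ f) V).flip
  have e := h.isoIsPullback_hom_snd _ _ h'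
  exact IsIso.of_isIso_fac_left e

end Groth.Agent.S9361
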