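import Groth.Statements.S9850
import Groth.Agent.Desc.K389.SynDesc

set_option autoImplicit false
open CategoryTheory CategoryTheory.Limits AlgebraicGeometry Opposite
universe u
open Desc

namespace Groth.Agent.S9850

/-- Let f : X ⟶ Y be surjective, flat and locally of finite presentation and q : Y ⟶ S a morphism such
that f ≫ q is syntomic. Then q is syntomic, and so is f. -/
theorem result {X Y S : Scheme.{u}} (f : X ⟶ Y) (q : Y ⟶ S)
    [Surjective f] [Flat f] [LocallyOfFinitePresentation f] (h : Synt.IsSyntomicMor (f ≫ q)) :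
    Synt.IsSyntomicMor q ∧ Synt.IsSyntomicMor f := by
  rw [K563.SchDict.isSyntomicMor_iff] at h
  simp only [K563.SchDict.isSyntomicMor_iff]
  obtain ⟨h1, h2, h3⟩ := h
  have hq1 : Flat q := Groth.Agent.S1163.result f q f (𝟙 X) (Category.id_comp f)
  have hq2 : LocallyOfFinitePresentation q := Groth.Agent.S0114.result f q
  refine ⟨⟨hq1, hq2, fun y => ?_⟩, inferInstance, inferInstance, fun x => ?_⟩
  · obtain ⟨x, rfl⟩ := f.surjective y
    exact ((K389.SynDesc.isCI_fiberStalk_comp_iff f q x).mp (h3 x)).1
  · exact ((K389.SynDesc.isCI_fiberStalk_comp_iff f q x).mp (h3 x)).2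

end Groth.Agent.S9850
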