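import Groth.Statements.S8978
import Groth.Agent.HTop.K346.Descend
import Groth.Agent.HTop.K346.PhLfp
import Groth.Agent.S2079

set_option autoImplicit false
universe w u
open HTop

namespace Groth.Agent.S8978

open CategoryTheory CategoryTheory.Limits AlgebraicGeometry in
theorem aux {Z X : Scheme.{u}} [IsAffine X] (f : Z ⟶ X) (h : IsProper f) :
    CompactSpace Z ∧ QuasiSeparatedSpace Z :=
  ⟨QuasiCompact.compactSpace_of_compactSpace f, quasiSeparatedSpace_of_quasiSeparated f⟩

open CategoryTheory CategoryTheory.Limits AlgebraicGeometry in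
/-- Given an h covering of an affine scheme X, one can find a proper surjective Y → X that is of finite
presentation, together with finitely many affine opens covering Y, such that each of these opens,
composed into X, factors through some member of the given family. -/
theorem result {X : Scheme.{u}} [IsAffine X] (E : PreZeroHypercover.{w} X) (hE : HTop.IsHCover E) : ∃ (Y : Scheme.{u}) (g : Y ⟶ X) (n : ℕ) (V : Fin n → Y.Opens), IsProper g ∧ Surjective g ∧ LocallyOfFinitePresentation g ∧ (∀ j, IsAffineOpen (V j)) ∧ ⨆ j, V j = ⊤ ∧ ∀ j, ∃ (i : E.I₀) (h : ((V j : Y.Opens) : Scheme.{u}) ⟶ E.X i), h ≫ E.f i = (V j).ι ≫ g := by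
  have hph := K346.PhLfp.isPhCover_of_isVCover E hE.1 hE.2
  obtain ⟨Y₀, f₀, _, _, hloc⟩ := K345.PhStd.isPhRef_of_isPhCover ((K345.PhStd.isPhCover_iff _).1 hph).2 (𝟙 X)
  rw [Category.comp_id] at hloc
  have : CompactSpace Y₀ := QuasiCompact.compactSpace_of_compactSpace f₀
  obtain ⟨I, _, _, D, c, hc, e, hD1, hD2⟩ := Groth.Agent.S2079.result f₀
  have hfac : ∀ i, e.inv.left ≫ (c.π.app i).left ≫ (D.obj i).hom = f₀ := fun i ↦ by
    rw [Over.w (c.π.app i)]
    exact Over.w e.inv
  let P : Y₀.Opens → Prop := fun V ↦ ∃ (i : E.I₀) (q : (V : Scheme.{u}) ⟶ E.X i), q ≫ E.f i = V.ι ≫ f₀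
  obtain ⟨n, a, ha, haP, hcov⟩ := K346.PhCrit.exists_fin_affineOpen_cover_of Y₀ P (by
      rintro V W hVW ⟨i, q, hq⟩
      refine ⟨i, Y₀.homOfLE hVW ≫ q, ?_⟩
      rw [Category.assoc, hq, Scheme.homOfLE_ι_assoc]) (by
      intro y
      obtain ⟨V, i, q, hy, hq⟩ := hloc y trivial
      exact ⟨V, hy, i, q, hq⟩)
  choose m q hq using haP
  let D' : I ⥤ Scheme.{u} := D ⋙ Over.forget X
  let t : D' ⟶ (Functor.const I).obj X :=
    { app := fun i ↦ (D.obj i).hom
      naturality := fun i j b ↦ (Over.w (D.map b)).trans (Category.comp_id _).symm }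
  let c' : Cone D' := (Over.forget X).mapCone c
  have hc' : IsLimit c' := isLimitOfPreserves (Over.forget X) hc
  have h1 : ∀ {i j : I} (b : i ⟶ j), IsAffineHom (D'.map b) := fun {i j} b ↦ by
    have := hD1 i j b
    exact inferInstanceAs (IsAffineHom (D.map b).left)
  have h2 : ∀ i, CompactSpace (D'.obj i) := fun i ↦ (aux (D.obj i).hom (hD2 i).2.1).1
  have h3 : ∀ i, QuasiSeparatedSpace (D'.obj i) := fun i ↦ (aux (D.obj i).hom (hD2 i).2.1).2
  let el : c'.pt ⟶ Y₀ := e.hom.left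
  have hel : IsIso el := inferInstanceAs (IsIso e.hom.left)
  obtain ⟨i, V, hV1, hV2, hV3⟩ := K346.Descend.exists_descend D' t c' hc' E hE.1
    (fun k : Fin n ↦ el ⁻¹ᵁ a k) (by
      have h4 : ⨆ k, el ⁻¹ᵁ a k = ⊤ := by
        rw [← Scheme.Hom.preimage_iSup, ← Scheme.Hom.preimage_top (f := el)]
        congr 1
        rw [eq_top_iff]
        intro y _
        obtain ⟨k, hk⟩ := hcov y
        exact TopologicalSpace.Opens.mem_iSup.2 ⟨k, hk⟩
      exact h4) (fun k ↦ (ha k).preimage _) (el ≫ f₀) (fun i ↦ by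
      change (c.π.app i).left ≫ (D.obj i).hom = e.hom.left ≫ f₀
      rw [Over.w (c.π.app i)]
      exact (Over.w e.hom).symm) m (fun k ↦ (el ∣_ a k) ≫ q k) (fun k ↦ by
      rw [Category.assoc, hq, morphismRestrict_ι_assoc])
  obtain ⟨h4, h5, h6⟩ := hD2 i
  refine ⟨(D.obj i).left, (D.obj i).hom, n, V, h5, ?_, h6, hV2, hV1, fun k ↦ ?_⟩
  · have h7 : Surjective ((e.inv.left ≫ (c.π.app i).left) ≫ (D.obj i).hom) := by
      rw [Category.assoc, hfac]
      infer_instance
    exact Surjective.of_comp (e.inv.left ≫ (c.π.app i).left) _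
  · obtain ⟨h', hh'⟩ := hV3 k
    exact ⟨m k, h', hh'⟩

end Groth.Agent.S8978
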