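import Groth.Statements.S15941
import Mathlib.RingTheory.IntegralClosure.IntegrallyClosed

set_option autoImplicit false
universe u
open HTop

namespace Groth.Agent.S15941

/-- An integrally closed integral domain is a seminormal ring, that is, whenever x^3 = y^2 there is
exactly one element a with x = a^2 and y = a^3. (The published statement is for a normal Noetherian
scheme and reduces at once to this affine integral case; the Noetherian hypothesis plays no role.) -/
theorem result (A : Type u) [CommRing A] [IsDomain A]
    [IsIntegrallyClosed A] : HTop.IsSeminormalRing A := by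
  intro x y h
  by_cases hx : x = 0
  · subst hx
    have hy : y = 0 := by
      have : y ^ 2 = 0 := by rw [← h]; ring
      exact pow_eq_zero_iff (two_ne_zero) |>.mp this
    subst hy
    refine ⟨0, ⟨by ring, by ring⟩, ?_⟩
    rintro a ⟨ha, -⟩
    exact pow_eq_zero_iff (two_ne_zero) |>.mp ha.symm
  · let K := FractionRing A
    let ι := algebraMap A K
    have hι : Function.Injective ι := IsFractionRing.injective A K
    have hx' : ι x ≠ 0 := fun h0 => hx (hι (by rw [h0, map_zero]))
    have h' : ι x ^ 3 = ι y ^ 2 := by rw [← map_pow, h, map_pow]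
    set b : K := ι y / ι x with hb
    have hb2 : b ^ 2 = ι x := by
      rw [hb, div_pow, div_eq_iff (pow_ne_zero _ hx'), ← h']; ring
    have hb3 : b ^ 3 = ι y := by
      rw [pow_succ, hb2, hb, mul_div_cancel₀ _ hx']
    have hint : IsIntegral A b := by
      refine IsIntegral.of_pow (n := 2) (by norm_num) ?_
      rw [hb2]; exact isIntegral_algebraMap
    obtain ⟨a, ha⟩ := IsIntegrallyClosed.isIntegral_iff.mp hint
    refine ⟨a, ⟨hι ?_, hι ?_⟩, ?_⟩
    · rw [map_pow, ← hb2, ← ha]
    · rw [map_pow, ← hb3, ← ha]
    · rintro c ⟨hc2, hc3⟩
      apply hι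
      rw [show ι a = b from ha]
      have : ι y = ι c * ι x := by rw [hc3, hc2]; simp only [map_pow]; ring
      rw [hb, this, mul_div_assoc, div_self hx', mul_one]

end Groth.Agent.S15941
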