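import Groth.Statements.S13598
import Groth.Agent.Etbase.QuotHens

set_option autoImplicit false
universe u
open Hensel

namespace Groth.Agent.S13598

/-- For a local ring A, a henselization A ⟶ S of A (S a henselian local ring, the structure map local,
and initial among local homomorphisms from A to henselian local rings) and an ideal I of A inside
the maximal ideal, the quotient S/IS with its induced algebra structure over A/I is a henselization
of A/I. (The local-ring and local-homomorphism instances on the quotients hold automatically; they
are taken as hypotheses only so that the conclusion can be stated.) -/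
theorem result {A S : Type u} [CommRing A] [IsLocalRing A] [CommRing S]
    [IsLocalRing S] [Algebra A S] [IsLocalHom (algebraMap A S)] [Hensel.IsHenselization A S]
    (I : Ideal A) (hI : I ≤ IsLocalRing.maximalIdeal A)
    [IsLocalRing (A ⧸ I)] [IsLocalRing (S ⧸ I.map (algebraMap A S))]
    [IsLocalHom (algebraMap (A ⧸ I) (S ⧸ I.map (algebraMap A S)))] :
    Hensel.IsHenselization (A ⧸ I) (S ⧸ I.map (algebraMap A S)) := by
  have hS : HenselianLocalRing S := Hensel.IsHenselization.henselian A
  refine ⟨Groth.Agent.Etbase.QuotHens.henselianLocalRing_of_surjective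
    (Ideal.Quotient.mk (I.map (algebraMap A S))) Ideal.Quotient.mk_surjective, ?_⟩
  intro T _ _ f hf
  have hmk : IsLocalHom (Ideal.Quotient.mk I) := by
    constructor
    intro a ha
    by_contra hcon
    have h1 : a ∈ IsLocalRing.maximalIdeal A := hcon
    have h2 : Ideal.Quotient.mk I a ∈ IsLocalRing.maximalIdeal (A ⧸ I) := by
      have h3 : (IsLocalRing.maximalIdeal A).map (Ideal.Quotient.mk I) ≠ ⊤ := by
        intro h4
        have h5 := congrArg (Ideal.comap (Ideal.Quotient.mk I)) h4
        rw [Ideal.comap_map_of_surjective _ Ideal.Quotient.mk_surjective, ← RingHom.ker_eq_comap_bot,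
          Ideal.mk_ker, sup_eq_left.mpr hI, Ideal.comap_top] at h5
        exact Ideal.IsPrime.ne_top inferInstance h5
      exact IsLocalRing.le_maximalIdeal h3 (Ideal.mem_map_of_mem _ h1)
    exact h2 ha
  obtain ⟨g, hg, hguniq⟩ := Hensel.IsHenselization.universal (R := A) (S := S) T
    (f.comp (Ideal.Quotient.mk I)) inferInstance
  have hker : ∀ x ∈ I.map (algebraMap A S), g x = 0 := by
    intro x hx
    have : I.map (algebraMap A S) ≤ RingHom.ker g := by
      rw [Ideal.map_le_iff_le_comap]
      intro a ha
      rw [Ideal.mem_comap, RingHom.mem_ker]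
      have := congrArg (fun φ : A →+* T => φ a) hg
      simp only [RingHom.comp_apply] at this
      rw [this, Ideal.Quotient.eq_zero_iff_mem.mpr ha, map_zero]
    exact this hx
  refine ⟨Ideal.Quotient.lift _ g hker, ?_, ?_⟩
  · apply Ideal.Quotient.ringHom_ext
    ext a
    have := congrArg (fun φ : A →+* T => φ a) hg
    simp only [RingHom.comp_apply] at this ⊢
    rw [← this]
    rfl
  · intro g' hg'
    apply Ideal.Quotient.ringHom_ext
    have h1 : g'.comp (Ideal.Quotient.mk (I.map (algebraMap A S))) = g := by
      apply hguniq
      ext a
      have := congrArg (fun φ : (A ⧸ I) →+* T => φ (Ideal.Quotient.mk I a)) hg'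
      simp only [RingHom.comp_apply] at this ⊢
      rw [← this]
      rfl
    rw [h1]
    ext x
    rfl

end Groth.Agent.S13598
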