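import Groth.Statements.S5043
import Groth.Agent.Hensel.K140.AssFibre
import Groth.Agent.S2736
import Groth.Agent.S0509
import Groth.Agent.S0511

set_option autoImplicit false
universe u
open Hensel

namespace Groth.Agent.S5043

/-- Let R be a Noetherian local ring with henselization S. A prime ideal P of S is an associated prime
of S if and only if its inverse image in R is an associated prime of R. -/
theorem result (R S : Type u) [CommRing R] [IsLocalRing R] [IsNoetherianRing R]
    [CommRing S] [IsLocalRing S] [Algebra R S] [IsLocalHom (algebraMap R S)] [Hensel.IsHenselization R S]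
    (P : Ideal S) [P.IsPrime] :
    P ∈ associatedPrimes S S ↔ P.comap (algebraMap R S) ∈ associatedPrimes R R := by
  have : IsNoetherianRing S := (Groth.Agent.S0511.result R S).mp inferInstance
  have : Module.FaithfullyFlat R S := Groth.Agent.S0509.result R S
  have H : Groth.Agent.UnramA.FieldFibre.FieldFibres R S := by
    refine Groth.Agent.UnramA.FieldFibre.fieldFibres_of_pi fun p hp => ?_
    obtain ⟨n, K, hK, hK', -, ⟨e⟩⟩ := Groth.Agent.S2736.result R S p
    exact ⟨n, K, hK, ⟨e.toRingEquiv⟩⟩
  exact K140.AssFibre.mem_associatedPrimes_iff_comap H P

end Groth.Agent.S5043
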