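import Groth.Statements.S16574
import Groth.Agent.S0385
import Mathlib.AlgebraicGeometry.Morphisms.Immersion

set_option autoImplicit false
universe u
open CategoryTheory AlgebraicGeometry
open AffSch

namespace Groth.Agent.S16574

open Limits in
/-- A finite cover of an open subscheme extends to a finite cover. -/
theorem exists_compactification {U P V : Scheme.{u}} (j : U ⟶ P) [IsOpenImmersion j] [QuasiCompact j]
    [CompactSpace P] [QuasiSeparatedSpace P] (π : V ⟶ U) [IsFinite π] :
    ∃ (P' : Scheme.{u}) (j' : V ⟶ P') (q : P' ⟶ P), IsOpenImmersion j' ∧ IsFinite q ∧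
      IsPullback j' π q j := by
  obtain ⟨T, j₀, ρ, h1, h2, h3, h4⟩ := Groth.Agent.S0385.result (π ≫ j)
  have hj' : IsOpenImmersion j₀.toImage := inferInstance
  let q : j₀.image ⟶ P := j₀.imageι ≫ ρ
  have hq : IsFinite q := inferInstance
  have hw : j₀.toImage ≫ q = π ≫ j := by
    rw [← h4, ← Category.assoc, j₀.toImage_imageι]
  refine ⟨j₀.image, j₀.toImage, q, hj', hq, ?_⟩
  let h : V ⟶ pullback q j := pullback.lift j₀.toImage π hw
  have e1 : h ≫ pullback.fst q j = j₀.toImage := pullback.lift_fst _ _ _
  have e2 : h ≫ pullback.snd q j = π := pullback.lift_snd _ _ _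
  have ho : IsOpenImmersion h := by
    have : IsOpenImmersion (h ≫ pullback.fst q j) := by rw [e1]; exact hj'
    exact IsOpenImmersion.of_comp h (pullback.fst q j)
  have hf : IsFinite h := by
    have : IsFinite (h ≫ pullback.snd q j) := by rw [e2]; infer_instance
    exact IsFinite.of_comp h (pullback.snd q j)
  have hclosed : IsClosed (Set.range h) := h.isClosedMap.isClosed_range
  have hdense : Dense (Set.range h) := by
    have hd : Dense (Set.range j₀.toImage) := j₀.toImage.denseRange
    have h5 : (Set.range h) = (pullback.fst q j) ⁻¹' (Set.range j₀.toImage) := by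
      rw [← e1]
      ext x
      constructor
      · rintro ⟨y, rfl⟩
        exact ⟨y, by simp⟩
      · rintro ⟨y, hy⟩
        refine ⟨y, (pullback.fst q j).isOpenEmbedding.injective ?_⟩
        rw [← hy]
        simp
    rw [h5]
    exact hd.preimage (pullback.fst q j).isOpenEmbedding.isOpenMap
  have hsurj : Surjective h := by
    constructor
    rw [← Set.range_eq_univ]
    exact hclosed.closure_eq ▸ hdense.closure_eq
  have hiso : IsIso h := by
    have : Epi h.base := by
      rw [TopCat.epi_iff_surjective]
      exact hsurj.1
    exact IsOpenImmersion.isIso h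
  exact IsPullback.of_iso_pullback ⟨hw⟩ (asIso h) e1 e2


/-- Let A be a commutative ring, U a quasi-compact open subscheme of Spec A and U' → U a finite
morphism. Then there exist a finite A-algebra B and a morphism U' → Spec B such that the square
formed by U' → U, U' → Spec B, Spec B → Spec A and the inclusion of U is cartesian; in particular U'
→ Spec B is the open immersion of the preimage of U. (If U contains the complement of the closed set
of an ideal I then this preimage contains the complement of the closed set of IB; that clause is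
automatic and omitted.) -/
theorem result
    (A : Type u) [CommRing A] (U : (Spec (CommRingCat.of A)).Opens) (hU : IsCompact (U : Set (Spec (CommRingCat.of A))))
    (U' : Scheme.{u}) (g : U' ⟶ (U : Scheme.{u})) [IsFinite g] :
    ∃ (B : Type u) (_ : CommRing B) (_ : Algebra A B) (i : U' ⟶ Spec (CommRingCat.of B)),
      Module.Finite A B ∧ IsPullback i g (Spec.map (CommRingCat.ofHom (algebraMap A B))) U.ι := by
  have hcU : CompactSpace (U : Scheme.{u}) := isCompact_iff_compactSpace.mp hU
  have hqc : QuasiCompact U.ι := inferInstance
  obtain ⟨P', j', q, hj', hq, hpb⟩ := exists_compactification (P := Spec (CommRingCat.of A)) U.ι g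
  have hP' : IsAffine P' := isAffine_of_isAffineHom q
  let B : CommRingCat.{u} := Γ(P', ⊤)
  let q' : Spec B ⟶ Spec (CommRingCat.of A) := P'.isoSpec.inv ≫ q
  let φ : CommRingCat.of A ⟶ B := Spec.preimage q'
  have hφ : Spec.map φ = q' := Spec.map_preimage q'
  have hfin : IsFinite (Spec.map φ) := by rw [hφ]; infer_instance
  have hfin' : φ.hom.Finite := (IsFinite.SpecMap_iff φ).1 hfin
  letI : Algebra A B := φ.hom.toAlgebra
  refine ⟨B, inferInstance, inferInstance, j' ≫ P'.isoSpec.hom, hfin', ?_⟩
  have e1 : Spec.map (CommRingCat.ofHom (algebraMap A B)) = P'.isoSpec.inv ≫ q := hφ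
  rw [e1]
  refine IsPullback.of_iso hpb (Iso.refl _) P'.isoSpec (Iso.refl _) (Iso.refl _) ?_ ?_ ?_ ?_
  · simp
  · simp
  · simp
  · simp

end Groth.Agent.S16574
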