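import Groth.Statements.S12187
import Groth.Agent.EtAlg.K363.GlueAlg
import Mathlib.RingTheory.RingHom.Finite

set_option autoImplicit false
universe u
open TensorProduct
open EtAlg

namespace Groth.Agent.S12187

attribute [local instance] Algebra.TensorProduct.rightAlgebra

theorem finite_aux (R : Type u) [CommRing R] (R' : Type u) [CommRing R'] [Algebra R R'] (f : R)
    (hq : EtGlue.QuotPowBijective R R' f) (A B : Type u) [CommRing A] [Algebra R A] [CommRing B] [Algebra R B]
    [Algebra A B] [IsScalarTower R A B]
    (h1 : (Localization.awayMap (algebraMap A B) (algebraMap R A f)).Finite)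
    (h2 : (Algebra.TensorProduct.map (AlgHom.id R R') (IsScalarTower.toAlgHom R A B)).toRingHom.Finite) :
    (algebraMap A B).Finite := by
  rw [RingHom.finite_algebraMap,
    Groth.Agent.S2006.result A (R' ⊗[R] A) (algebraMap R A f) (K363.GlueAlg.quotPow_baseChange A hq) B]
  constructor
  · rw [← RingHom.finite_algebraMap]
    exact (K363.GlueAlg.respectsIso_iff A B RingHom.finite_respectsIso).2 h2
  · let _ : Algebra (Localization.Away (algebraMap R A f))
      (Localization.Away (algebraMap A B (algebraMap R A f))) :=
      (Localization.awayMap (algebraMap A B) (algebraMap R A f)).toAlgebra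
    obtain ⟨e⟩ := K363.GlueAlg.exists_locEquiv A B (algebraMap R A f)
    have : Module.Finite (Localization.Away (algebraMap R A f))
      (Localization.Away (algebraMap A B (algebraMap R A f))) := h1
    exact Module.Finite.equiv e.symm

/-- Glueing along a glueing pair detects finite morphisms of affine schemes, stated for coordinate
rings. Let (R → R', f) be a glueing pair and φ : A → B a homomorphism of R-algebras with A and B
glueable as R-modules. Then φ is finite exactly when both induced maps A_f → B_f and R' ⊗_R A → R'
⊗_R B are finite. -/
theorem result (R : Type u) [CommRing R] (R' : Type u) [CommRing R'] [Algebra R R'] (f : R)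
    (hRR' : EtGlue.IsGlueingPair R R' f) (A B : Type u) [CommRing A] [Algebra R A] [CommRing B] [Algebra R B]
    (hA : EtGlue.IsGlueable R R' f A) (hB : EtGlue.IsGlueable R R' f B) (φ : A →ₐ[R] B) :
    φ.toRingHom.Finite ↔ (Localization.awayMap φ.toRingHom (algebraMap R A f)).Finite ∧
      (Algebra.TensorProduct.map (AlgHom.id R R') φ).toRingHom.Finite := by
  let _ : Algebra A B := φ.toRingHom.toAlgebra
  have : IsScalarTower R A B := IsScalarTower.of_algebraMap_eq' φ.comp_algebraMap.symm
  constructor
  · exact K363.GlueAlg.forward (f := f) (R' := R') A B RingHom.finite_respectsIso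
      RingHom.finite_isStableUnderBaseChange
  · rintro ⟨h1, h2⟩
    exact finite_aux R R' f hRR'.1 A B h1 h2

end Groth.Agent.S12187
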