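import Groth.Statements.S17968
import Groth.Agent.Hensel.PairIdem
import Mathlib.RingTheory.Idempotents

set_option autoImplicit false
universe u
open Hensel

namespace Groth.Agent.S17968

/-- Let A be a commutative ring and I an ideal contained in the Jacobson radical of A. Suppose that for
every natural number m and every monic polynomial p over A whose reduction modulo I is the reduction
of (T^2 - T)^m, every idempotent of B/IB is the image of an idempotent of B, where B = A[T]/(p).
Then (A, I) is a henselian pair. -/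
theorem result (A : Type u) [CommRing A]
    (I : Ideal A) (hI : I ≤ Ideal.jacobson ⊥)
    (h : ∀ (m : ℕ) (p : Polynomial A), p.Monic →
      Polynomial.map (Ideal.Quotient.mk I) p =
        Polynomial.map (Ideal.Quotient.mk I) ((Polynomial.X ^ 2 - Polynomial.X) ^ m) →
      Set.SurjOn (Ideal.Quotient.mk (Ideal.map (algebraMap A (AdjoinRoot p)) I))
        {e : AdjoinRoot p | IsIdempotentElem e} {e | IsIdempotentElem e}) :
    HenselianRing A I := by
  refine Hensel.PairIdem.henselianRing_of_idempotents_surjOn I hI fun B _ _ hB b hb => ?_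
  rcases subsingleton_or_nontrivial B with hs | hn
  · exact ⟨b, Subsingleton.elim _ _, by simp⟩
  have hnA : Nontrivial A := (algebraMap A B).domain_nontrivial
  obtain ⟨p, hp1, hp2, hp3⟩ := Polynomial.exists_monic_aeval_eq_zero_forall_mem_of_mem_map hb
  set d := p.natDegree with hd
  have hpmap : p.map (Ideal.Quotient.mk I) = Polynomial.X ^ d := by
    ext i
    rw [Polynomial.coeff_map, Polynomial.coeff_X_pow]
    split_ifs with hi
    · rw [hi, hd, hp1.coeff_natDegree, map_one]
    · exact Ideal.Quotient.eq_zero_iff_mem.mpr (hp3 i hi)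
  have hqdeg : (Polynomial.X ^ 2 - Polynomial.X : Polynomial A).natDegree = 2 := by
    rw [Polynomial.natDegree_sub_eq_left_of_natDegree_lt, Polynomial.natDegree_X_pow]
    rw [Polynomial.natDegree_X_pow, Polynomial.natDegree_X]
    norm_num
  have hq : (Polynomial.X ^ 2 - Polynomial.X : Polynomial A).Monic := by
    apply Polynomial.monic_X_pow_sub
    rw [Polynomial.degree_X]
    norm_num
  set P := p.comp (Polynomial.X ^ 2 - Polynomial.X) with hP
  have hPm : P.Monic := hp1.comp hq (by rw [hqdeg]; norm_num)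
  have hPmap : P.map (Ideal.Quotient.mk I) =
      Polynomial.map (Ideal.Quotient.mk I) ((Polynomial.X ^ 2 - Polynomial.X) ^ d) := by
    rw [hP, Polynomial.map_comp, hpmap]
    simp
  have hPb : Polynomial.aeval b P = 0 := by
    rw [hP, Polynomial.aeval_comp]
    have : Polynomial.aeval b (Polynomial.X ^ 2 - Polynomial.X : Polynomial A) = b * b - b := by
      simp [pow_two]
    rw [this, hp2]
  set J := Ideal.map (algebraMap A (AdjoinRoot P)) I with hJ
  set T := AdjoinRoot.root P with hT
  have hmod : Ideal.Quotient.mk J ((T ^ 2 - T) ^ d) = 0 := by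
    rw [Ideal.Quotient.eq_zero_iff_mem]
    have h1 : (T ^ 2 - T) ^ d = Polynomial.aeval T ((Polynomial.X ^ 2 - Polynomial.X) ^ d - P) := by
      rw [map_sub, hT, AdjoinRoot.aeval_eq P, AdjoinRoot.mk_self, sub_zero]
      simp
    have hc : ∀ i, ((Polynomial.X ^ 2 - Polynomial.X) ^ d - P).coeff i ∈ I := by
      intro i
      rw [← Ideal.Quotient.eq_zero_iff_mem, ← Polynomial.coeff_map, Polynomial.map_sub, hPmap,
        sub_self, Polynomial.coeff_zero]
    rw [h1, Polynomial.aeval_eq_sum_range]
    refine Ideal.sum_mem _ fun i _ => ?_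
    rw [Algebra.smul_def]
    exact Ideal.mul_mem_right _ _ (Ideal.mem_map_of_mem _ (hc i))
  let N : Ideal (AdjoinRoot P ⧸ J) := Ideal.span {Ideal.Quotient.mk J (T ^ 2 - T)}
  obtain ⟨e₀, he₀, he₀T⟩ := exists_isIdempotentElem_eq_of_ker_isNilpotent (Ideal.Quotient.mk N)
    (by
      intro x hx
      rw [Ideal.mk_ker, Ideal.mem_span_singleton'] at hx
      obtain ⟨c, rfl⟩ := hx
      refine ⟨d, ?_⟩
      rw [mul_pow, ← map_pow, hmod, mul_zero])
    (Ideal.Quotient.mk N (Ideal.Quotient.mk J T)) ⟨_, rfl⟩ (by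
      change Ideal.Quotient.mk N (Ideal.Quotient.mk J T) * Ideal.Quotient.mk N (Ideal.Quotient.mk J T)
        = Ideal.Quotient.mk N (Ideal.Quotient.mk J T)
      rw [← map_mul, Ideal.Quotient.eq, ← map_mul, ← map_sub, ← pow_two]
      exact Ideal.mem_span_singleton_self _)
  obtain ⟨e₁, he₁, rfl⟩ := h d P hPm hPmap he₀
  rw [Ideal.Quotient.eq, Ideal.mem_span_singleton'] at he₀T
  obtain ⟨c, hc⟩ := he₀T
  obtain ⟨c, rfl⟩ := Ideal.Quotient.mk_surjective c
  rw [← map_mul, ← map_sub, Ideal.Quotient.eq] at hc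
  let φ : AdjoinRoot P →ₐ[A] B := AdjoinRoot.liftAlgHom P (Algebra.ofId A B) b hPb
  have hφT : φ T = b := AdjoinRoot.liftAlgHom_root _ _ _ _
  have hφJ : ∀ x ∈ J, φ x ∈ I.map (algebraMap A B) := by
    intro x hx
    have h1 : J ≤ (I.map (algebraMap A B)).comap φ.toRingHom := by
      rw [hJ, Ideal.map_le_iff_le_comap]
      intro a ha
      rw [Ideal.mem_comap, Ideal.mem_comap]
      change φ (algebraMap A _ a) ∈ _
      rw [φ.commutes]
      exact Ideal.mem_map_of_mem _ ha
    exact h1 hx
  refine ⟨φ e₁, IsIdempotentElem.map he₁ φ, ?_⟩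
  have h1 := hφJ _ hc
  rw [map_sub, map_mul, map_sub, map_sub, map_pow, hφT] at h1
  have h2 : φ e₁ - b = φ c * (b * b - b) - (φ c * (b ^ 2 - b) - (φ e₁ - b)) := by ring
  rw [h2]
  exact Ideal.sub_mem _ (Ideal.mul_mem_left _ _ hb) h1


end Groth.Agent.S17968
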