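import Groth.Statements.S12524
import Groth.Agent.Ega41.PowEval
import Mathlib.RingTheory.PowerSeries.Inverse
import Mathlib.RingTheory.PowerSeries.Order

set_option autoImplicit false
universe u v
open CAlg

namespace Groth.Agent.S12524

open IsLocalRing in
/-- Let `A` be a complete discrete valuation ring with maximal ideal `m`, containing a field `K` such
that `K → A → A/m` is bijective (a coefficient field), and let `x` be any generator of `m`. Then the
`K`-algebra map `K[X] → A`, `X ↦ x`, extends to a bijective `K`-algebra map `φ : K⟦X⟧ → A`,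
characterised by `φ(∑ aᵢ Xⁱ) ≡ ∑_{i<n} aᵢ xⁱ (mod mⁿ)` for every `n`. -/
theorem result (K : Type u) (A : Type v) [Field K]
    [CommRing A] [IsDomain A] [IsDiscreteValuationRing A] [Algebra K A]
    [IsAdicComplete (maximalIdeal A) A]
    (hK : Function.Bijective ((residue A).comp (algebraMap K A)))
    (x : A) (hx : maximalIdeal A = Ideal.span {x}) :
    ∃ φ : PowerSeries K →ₐ[K] A, φ PowerSeries.X = x ∧ Function.Bijective φ ∧
      ∀ (f : PowerSeries K) (n : ℕ),
        φ f - (Finset.range n).sum (fun i => algebraMap K A (PowerSeries.coeff i f) * x ^ i) ∈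
          maximalIdeal A ^ n := by
  have hxm : x ∈ maximalIdeal A := by rw [hx]; exact Ideal.mem_span_singleton_self x
  let φ : PowerSeries K →ₐ[K] A :=
    Groth.Agent.Ega41.PowEval.powEval (R := K) (σ := Unit) (maximalIdeal A) (fun _ => x)
      (fun _ => hxm)
  have hX : φ PowerSeries.X = x :=
    Groth.Agent.Ega41.PowEval.powEval_X (R := K) (σ := Unit) (maximalIdeal A) (fun _ => x)
      (fun _ => hxm) ()
  have hφ : ∀ (f : PowerSeries K) (n : ℕ),
      φ f - (Finset.range n).sum (fun i => algebraMap K A (PowerSeries.coeff i f) * x ^ i) ∈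
        maximalIdeal A ^ n := by
    intro f n
    have h1 := Groth.Agent.Ega41.PowEval.mk_powEval (R := K) (σ := Unit) (maximalIdeal A)
      (fun _ => x) (fun _ => hxm) n f
    rw [← Ideal.Quotient.eq]
    refine h1.trans (congrArg _ ?_)
    have h2 : MvPowerSeries.truncTotal n f = ∑ i ∈ Finset.range n,
        MvPolynomial.monomial (Finsupp.single () i) (PowerSeries.coeff i f) := by
      ext d
      rw [MvPowerSeries.coeff_truncTotal_eq_ite, MvPolynomial.coeff_sum]
      simp only [MvPolynomial.coeff_monomial]
      obtain ⟨k, rfl⟩ : ∃ k, d = Finsupp.single () k := ⟨d (), by ext; simp⟩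
      have hinj : ∀ i, (Finsupp.single () i = Finsupp.single () k) ↔ i = k := fun i =>
        ⟨fun h => by simpa using DFunLike.congr_fun h (), fun h => by rw [h]⟩
      simp only [hinj, Finset.sum_ite_eq', Finset.mem_range]
      rw [Finsupp.degree_single]
      rfl
    rw [h2, map_sum]
    refine Finset.sum_congr rfl fun i _ => ?_
    rw [MvPolynomial.aeval_monomial, Finsupp.prod_single_index]
    exact pow_zero _
  have hx0 : x ≠ 0 := by
    rintro rfl
    exact IsDiscreteValuationRing.not_a_field A (by rw [hx]; simp)
  refine ⟨φ, hX, ⟨?_, ?_⟩, hφ⟩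
  · rw [injective_iff_map_eq_zero]
    intro f hf
    by_contra hne
    have h1 := (PowerSeries.isUnit_divided_by_X_pow_order hne).map φ
    have h2 : φ (PowerSeries.X ^ f.order.toNat * PowerSeries.divXPowOrder f) = 0 := by
      rw [PowerSeries.X_pow_order_mul_divXPowOrder, hf]
    rw [map_mul, map_pow, hX] at h2
    rcases mul_eq_zero.mp h2 with h3 | h3
    · exact pow_ne_zero _ hx0 h3
    · rw [h3] at h1; exact not_isUnit_zero h1
  · intro a
    -- successive approximation
    have step : ∀ a : A, ∃ (c : K) (a' : A), a = algebraMap K A c + x * a' := by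
      intro a
      obtain ⟨c, hc⟩ := hK.surjective (residue A a)
      have h1 : a - algebraMap K A c ∈ maximalIdeal A := by
        rw [← residue_eq_zero_iff, map_sub, sub_eq_zero, ← hc]; rfl
      rw [hx, Ideal.mem_span_singleton'] at h1
      obtain ⟨a', ha'⟩ := h1
      exact ⟨c, a', by rw [mul_comm x, ha']; ring⟩
    choose c r hcr using step
    let s : ℕ → A := fun n => r^[n] a
    let f : PowerSeries K := PowerSeries.mk fun n => c (s n)
    have hs : ∀ n, a = (Finset.range n).sum (fun i => algebraMap K A (PowerSeries.coeff i f) * x ^ i)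
        + x ^ n * s n := by
      intro n
      induction n with
      | zero => simp [s]
      | succ n ih =>
        rw [Finset.sum_range_succ]
        have h1 : s (n + 1) = r (s n) := Function.iterate_succ_apply' r n a
        have h2 := hcr (s n)
        conv_lhs => rw [ih, h2, ← h1]
        simp only [f, PowerSeries.coeff_mk]
        ring
    refine ⟨f, ?_⟩
    rw [IsHausdorff.eq_iff_smodEq (I := maximalIdeal A)]
    intro n
    rw [SModEq.sub_mem, smul_eq_mul, Ideal.mul_top]
    have h1 := hφ f n
    have h2 : a - (Finset.range n).sum (fun i => algebraMap K A (PowerSeries.coeff i f) * x ^ i) ∈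
        maximalIdeal A ^ n := by
      have : a - (Finset.range n).sum (fun i => algebraMap K A (PowerSeries.coeff i f) * x ^ i) =
        x ^ n * s n := by rw [sub_eq_iff_eq_add']; exact hs n
      rw [this]
      exact Ideal.mul_mem_right _ _ (Ideal.pow_mem_pow hxm n)
    have h3 := sub_mem h1 h2
    rwa [sub_sub_sub_cancel_right] at h3

end Groth.Agent.S12524
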