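import Groth.Statements.S15636
import Groth.Agent.HilbZeta.K537.Glue

set_option autoImplicit false
universe u
open CategoryTheory CategoryTheory.Limits AlgebraicGeometry
open HilbZeta

namespace Groth.Agent.S15636

/-- Let k be an algebraically closed field, X a reduced separated k-scheme of finite type and x₀ a
closed point of X whose local ring has Krull dimension one; let s be the number of branches of X at
x₀. For every d let H_d be a k-scheme of finite type carrying a universal family Z_d ⊆ X ×_k H_d of
closed subschemes that are finite locally free of degree d over H_d (so H_d is the Hilbert scheme of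
d points of X), and write [–] for classes in the Grothendieck ring of k-schemes of finite type; for
each d let HP_d ⊆ H_d be a closed subscheme whose points are exactly those h such that every point
of Z_d lying over h projects to x₀ in X (the punctual Hilbert scheme of d points of X at x₀; its
class does not depend on the chosen subscheme structure). Then (Σ_d [HP_d] t^d) · (1 − t)^s is a
polynomial: the punctual Hilbert zeta function of X at x₀ is rational, with (1 − t)^s as
denominator. (The published statement is for a singular point of a reduced curve; this row asks only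
that the local ring at the chosen closed point be one-dimensional and also allows a nonsingular
point, where s = 1.) -/
theorem result (k : Type u) [Field k] [IsAlgClosed k]
    (X : Scheme.{u}) (f : X ⟶ Spec (CommRingCat.of k)) [LocallyOfFiniteType f] [QuasiCompact f] [IsSeparated f] [IsReduced X]
    (x₀ : X) (hx₀ : IsClosed ({x₀} : Set X)) (hdim : ringKrullDim (X.presheaf.stalk x₀) = 1)
    (s : ℕ) (hs : Brnch.numBranchesAt X x₀ = s)
    (H : ℕ → Over (Spec (CommRingCat.of k)))
    (Z : ∀ d, HilbD.Obj f d (H d)) (hZ : ∀ d, HilbD.IsUniversal f d (H d) (Z d))
    [∀ d, LocallyOfFiniteType (H d).hom] [∀ d, QuasiCompact (H d).hom]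
    (HP : ℕ → Scheme.{u}) (ι : ∀ d, HP d ⟶ (H d).left) [∀ d, IsClosedImmersion (ι d)]
    (hι : ∀ d, Set.range (ι d) = {h | ∀ z : (Z d).1.subscheme,
      ((Z d).1.subschemeι ≫ pullback.snd f (H d).hom) z = h →
        ((Z d).1.subschemeι ≫ pullback.fst f (H d).hom) z = x₀}) :
    ∃ P : Polynomial (K0Var.K (Spec (CommRingCat.of k))),
      PowerSeries.mk (fun d => K0Var.cl (ι d ≫ (H d).hom)) * (1 - PowerSeries.X) ^ s =
        (P : PowerSeries (K0Var.K (Spec (CommRingCat.of k)))) := by
  obtain ⟨P, hP⟩ := K537.HZ.exists_polynomial_punctual k X f x₀ hx₀ hdim s hs H Z hZ HP ι hι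
  exact ⟨P, hP⟩

end Groth.Agent.S15636
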