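import Groth.Statements.S17178
import Groth.Agent.CurvesC.DualInvSec
import Groth.Agent.CohqB.FinEngine
import Groth.Agent.CurvesB.DimPts
import Groth.Agent.CurvesB.CurveRR
import Groth.Agent.VarietyB.DimTop
import Groth.Agent.CurvesB.SepPoints
import Groth.Agent.CycB.StalkExact
import Mathlib.RingTheory.KrullDimension.Zero

set_option autoImplicit false
universe u
open CategoryTheory CategoryTheory.Limits AlgebraicGeometry Opposite
open Curves

namespace Groth.Agent.S17178

open TopologicalSpace Groth.Agent.CohqB.QC2

/-- A reduced local ring of dimension zero: elements of the maximal ideal are zero. -/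
theorem eq_zero_of_mem {R : Type*} [CommRing R] [IsLocalRing R] [IsReduced R] (h : ringKrullDim R = 0)
    (a : R) (ha : a ∈ IsLocalRing.maximalIdeal R) : a = 0 := by
  have h1 : Ring.KrullDimLE 0 R := by
    rw [Ring.krullDimLE_iff]
    exact_mod_cast h.le
  rw [← Ring.KrullDimLE.nilradical_eq_maximalIdeal] at ha
  exact IsNilpotent.eq_zero ha

variable {X : Scheme.{u}}

/-- At a point whose local ring is a field: a function vanishing on the support kills the stalk. -/
theorem smul_eq_zero_of_dim_zero [IsReduced X] (J : X.Modules) {U : X.Opens} (f : X.presheaf.obj (op U))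
    (hf : ∀ x : X, x ∈ U → x ∈ CohB1.support J → x ∉ X.basicOpen f) (x : X) (hx : x ∈ U)
    (hdim : ringKrullDim (X.presheaf.stalk x) = 0) (t : J.presheaf.stalk x) :
    (X.presheaf.germ U x hx f) • t = 0 := by
  by_cases h : x ∈ CohB1.support J
  · have h1 : X.presheaf.germ U x hx f = 0 := by
      refine eq_zero_of_mem hdim _ ?_
      have h2 := hf x hx h
      rw [Scheme.mem_basicOpen _ _ _ hx] at h2
      exact (IsLocalRing.mem_maximalIdeal _).2 h2
    rw [h1, zero_smul]
  · have : Subsingleton (J.presheaf.stalk x) := not_not.1 h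
    exact Subsingleton.elim _ _

/-- A closed subset of an open subset of a Noetherian scheme, all of whose points are closed in the scheme, is
finite. -/
theorem finite_of_closedPoints {T : Type*} [TopologicalSpace T] [NoetherianSpace T] [QuasiSober T]
    (S : Set T) (hS : IsClosed S) (h : ∀ x ∈ S, IsClosed ({x} : Set T)) : S.Finite := by
  have : NoetherianSpace S := (Topology.IsInducing.subtypeVal).noetherianSpace
  have : QuasiSober S := hS.isClosedEmbedding_subtypeVal.quasiSober
  have hfin := NoetherianSpace.finite_irreducibleComponents (α := S)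
  have hsub : Finite S := by
    have hc : ∀ Z ∈ irreducibleComponents S, Z.Finite := by
      intro Z hZ
      have hirr : IsIrreducible Z := hZ.1
      obtain ⟨z, hz⟩ := QuasiSober.sober hirr (isClosed_of_mem_irreducibleComponents Z hZ)
      have hz1 : IsClosed ({z} : Set S) := by
        have : ({z} : Set S) = Subtype.val ⁻¹' {(z : T)} := by
          ext w; simp [Subtype.ext_iff]
        rw [this]
        exact (h z z.2).preimage continuous_subtype_val
      have : Z = {z} := by
        rw [← hz.def, hz1.closure_eq]
      rw [this]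
      exact Set.finite_singleton z
    have hcov : (Set.univ : Set S) ⊆ ⋃₀ irreducibleComponents S := fun z _ =>
      ⟨irreducibleComponent z, irreducibleComponent_mem_irreducibleComponents z, mem_irreducibleComponent⟩
    exact Set.finite_univ_iff.1 ((hfin.sUnion hc).subset hcov)
  exact Set.toFinite S

/-- Let k be an algebraically closed field and X a nodal curve over k: proper over k, reduced,
connected, every irreducible component of dimension one, with at-worst-nodal singularities. Let J be
a coherent O_X-module which is pure of dimension one (every nonzero coherent submodule has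
one-dimensional support), for instance a pure quotient with one-dimensional support of a rank-one
torsion-free sheaf. Let U be an open subset and f a function on U vanishing at every point of U
lying in the support Y of J. Then f acts as zero on J over U: for every x ∈ U the germ of f at x
annihilates the stalk J_x. In other words the ideal sheaf of the reduced subcurve Y annihilates J,
so J is an O_Y-module; this is the first assertion in the proof that every such quotient q : I → J
of a rank-one torsion-free I factors through the torsion-free restriction of I to Y, the remaining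
assertion (that the induced map is an isomorphism) not being part of this row. -/
theorem result
    (k : Type u) [Field k] [IsAlgClosed k] (X : Scheme.{u}) [X.Over (Spec (CommRingCat.of k))]
    [IsProper (X ↘ Spec (CommRingCat.of k))] [IsReduced X] [ConnectedSpace X]
    (hequi : ∀ Z ∈ irreducibleComponents (X : Type u), topologicalKrullDim Z = 1)
    (hX : Curv2.AtWorstNodal k X)
    (J : X.Modules) (hJc : Coh.IsCoh J) (hJp : ShStab.IsPure X J 1)
    (U : X.Opens) (f : X.presheaf.obj (Opposite.op U))
    (hf : ∀ x : X, x ∈ U → x ∈ CohB1.support J → x ∉ X.basicOpen f)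
    (x : X) (hx : x ∈ U) (t : J.presheaf.stalk x) :
    (X.presheaf.germ U x hx f) • t = 0 := by
  have hN := Groth.Agent.CurvesB.CurveRR.isNoetherian_of_proper k X
  have hdim : topologicalKrullDim X ≤ 1 := by
    rw [Groth.Agent.VarietyB.DimTop.topologicalKrullDim_eq_iSup_irreducibleComponents]
    exact iSup_le fun Z => (hequi Z.1 Z.2).le
  by_cases hxc : IsClosed ({x} : Set X)
  swap
  · exact smul_eq_zero_of_dim_zero J f hf x hx
      (Groth.Agent.CurvesB.DimPts.ringKrullDim_stalk_eq_zero_of_not_isClosed hdim x hxc) t
  obtain ⟨V₀, hxV₀, s₀, hs₀⟩ := TopCat.Presheaf.exists_germ_eq J.presheaf t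
  -- shrink into `U`
  let V : X.Opens := V₀ ⊓ U
  have hxV : x ∈ V := ⟨hxV₀, hx⟩
  let s₁ : Γ(J, V) := res J (inf_le_left : V ≤ V₀) s₀
  let f₁ : Γ(X, V) := resR (inf_le_right : V ≤ U) f
  have hs₁ : J.presheaf.germ V x hxV s₁ = t := by
    rw [← hs₀]
    exact TopCat.Presheaf.germ_res_apply J.presheaf _ _ _ _
  have hf₁ : ∀ (z : X) (hz : z ∈ V), X.presheaf.germ V z hz f₁ = X.presheaf.germ U z hz.2 f := by
    intro z hz
    exact TopCat.Presheaf.germ_res_apply X.presheaf _ _ _ _
  let s : Γ(J, V) := f₁ • s₁
  have hgs : ∀ (z : X) (hz : z ∈ V), J.presheaf.germ V z hz s =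
      X.presheaf.germ U z hz.2 f • J.presheaf.germ V z hz s₁ := by
    intro z hz
    rw [← hf₁ z hz]
    exact Groth.Agent.CycB.StalkExact.germ_smul z hz f₁ s₁
  -- the support of `s`
  let S : Set X := {z | ∃ hz : z ∈ V, J.presheaf.germ V z hz s ≠ 0}
  have hSV : S ⊆ V := fun z hz => hz.1
  have hclosed : ∀ z ∈ S, IsClosed ({z} : Set X) := by
    rintro z ⟨hz, hne⟩
    by_contra hzc
    apply hne
    rw [hgs z hz]
    exact smul_eq_zero_of_dim_zero J f hf z hz.2
      (Groth.Agent.CurvesB.DimPts.ringKrullDim_stalk_eq_zero_of_not_isClosed hdim z hzc) _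
  -- it is closed in `V`
  have hSopen : IsOpen ((V : Set X) \ S) := by
    rw [isOpen_iff_forall_mem_open]
    rintro z ⟨hzV, hzS⟩
    have h0 : J.presheaf.germ V z hzV s = 0 := by
      by_contra hne
      exact hzS ⟨hzV, hne⟩
    obtain ⟨W, hzW, iW, jW, hW⟩ := TopCat.Presheaf.germ_eq (F := J.presheaf) z hzV hzV s 0
      (h0.trans (map_zero _).symm)
    refine ⟨W, fun w hw => ⟨iW.le hw, ?_⟩, W.isOpen, hzW⟩
    rintro ⟨hwV, hne⟩
    apply hne
    rw [← TopCat.Presheaf.germ_res_apply J.presheaf iW w hw s, hW, map_zero, map_zero]
  have hfin : S.Finite := by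
    have hN' : NoetherianSpace (V : Set X) := (Topology.IsInducing.subtypeVal).noetherianSpace
    have hqs : QuasiSober (V : Set X) := (V.isOpen.isOpenEmbedding_subtypeVal).quasiSober
    have h1 : ((Subtype.val : ↥(V : Set X) → X) ⁻¹' S).Finite := by
      refine finite_of_closedPoints _ ?_ ?_
      · rw [← isOpen_compl_iff]
        have : ((Subtype.val : ↥(V : Set X) → X) ⁻¹' S)ᶜ = Subtype.val ⁻¹' ((V : Set X) \ S) := by
          ext z
          constructor
          · intro hz
            exact ⟨z.2, hz⟩
          · intro hz
            exact hz.2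
        rw [this]
        exact hSopen.preimage continuous_subtype_val
      · intro z hz
        have : ({z} : Set ↥(V : Set X)) = Subtype.val ⁻¹' {(z : X)} := by
          ext w
          exact ⟨fun h => congrArg Subtype.val h, fun h => Subtype.ext h⟩
        rw [this]
        exact (hclosed z hz).preimage continuous_subtype_val
    refine (h1.image Subtype.val).subset fun z hz => ⟨⟨z, hSV hz⟩, hz, rfl⟩
  have hgoal : J.presheaf.germ V x hxV s = 0 := by
    have hTc : IsClosed (S \ {x}) := by
      rw [← Set.biUnion_of_singleton (S \ {x})]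
      exact (hfin.subset Set.sdiff_subset).isClosed_biUnion fun z hz => hclosed z hz.1
    let V' : X.Opens := V ⊓ ⟨(S \ {x})ᶜ, hTc.isOpen_compl⟩
    have hxV' : x ∈ V' := ⟨hxV, fun h => h.2 rfl⟩
    have hV' : V' ≤ V := inf_le_left
    obtain ⟨σ, hσ, hσ0⟩ := Groth.Agent.CurvesC.DualInvSec.exists_extension J hxc
      (Set.singleton_subset_iff.2 hxV' : ({x} : Set X) ⊆ V') (res J hV' s) (by
        intro W hW hdis
        refine TopCat.Presheaf.section_ext (F := ⟨J.presheaf, J.isSheaf⟩) W _ _ fun w hw => ?_
        have hwV' := hW hw
        have hwx : w ≠ x := fun h => Set.disjoint_left.1 hdis hw (by simp [h])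
        have hwS : w ∉ S := fun h => hwV'.2 ⟨h, hwx⟩
        have h0 : J.presheaf.germ V w hwV'.1 s = 0 := by
          by_contra hne
          exact hwS ⟨hwV'.1, hne⟩
        have h1 : J.presheaf.germ W w hw (res J hW (res J hV' s)) = J.presheaf.germ V w hwV'.1 s := by
          rw [res_res]
          exact TopCat.Presheaf.germ_res_apply J.presheaf _ _ _ _
        refine (h1.trans h0).trans (map_zero _).symm)
    let φ : Coh.structureModule X ⟶ J := Groth.Agent.CurvesC.Gen.ofSec σ
    have hφ : ∀ W : X.Opens, Disjoint (W : Set X) {x} → ∀ a : Γ(Coh.structureModule X, W), φ.app W a = 0 := by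
      intro W hW a
      rw [Groth.Agent.CurvesC.Gen.app_eq_smul φ W a, Groth.Agent.CurvesC.Gen.sec_ofSec]
      have := hσ0 W hW
      exact (congrArg (fun t : Γ(J, W) => (show Γ(X, W) from a) • t) this).trans (smul_zero _)
    have hF : Coh.IsCoh (Abelian.image φ) :=
      Groth.Agent.CohqB.FinEngine.isCoh_image φ (Groth.Agent.CurvesC.UnitCoh.isCoh_unit X) hJc.1
    have hzero : IsZero (Abelian.image φ) := by
      by_contra hne
      have h1 := hJp (Abelian.image φ) (Abelian.image.ι φ) inferInstance hF hne
      have hsub : CohB1.support (Abelian.image φ) ⊆ {x} := by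
        intro y hy
        by_contra hyx
        apply hy
        refine ⟨fun a b => ?_⟩
        suffices H : ∀ a : (Abelian.image φ).presheaf.stalk y, a = 0 by rw [H a, H b]
        intro a
        obtain ⟨W, hyW, a', rfl⟩ := TopCat.Presheaf.exists_germ_eq (Abelian.image φ).presheaf a
        let W' : X.Opens := W ⊓ ⟨{x}ᶜ, hxc.isOpen_compl⟩
        have hyW' : y ∈ W' := ⟨hyW, hyx⟩
        rw [← TopCat.Presheaf.germ_res_apply (Abelian.image φ).presheaf (homOfLE (inf_le_left : W' ≤ W)) y hyW']
        rw [show ((Abelian.image φ).presheaf.map (homOfLE (inf_le_left : W' ≤ W)).op a') = 0 from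
          Groth.Agent.CurvesC.DualInvSec.image_sections φ {x} hφ W'
            (Set.disjoint_left.2 fun w hw hwx => hw.2 hwx) _, map_zero]
      have h2 : topologicalKrullDim (CohB1.support (Abelian.image φ)) ≤ 0 :=
        Groth.Agent.CurvesB.SepPoints.topologicalKrullDim_le_zero
          ((Set.finite_singleton x).subset hsub) fun y hy => by
            have := hsub hy
            rw [Set.mem_singleton_iff] at this
            rw [this]; exact hxc
      rw [h1] at h2
      exact absurd h2 (by norm_num)
    have hφ0 : φ = 0 := by
      rw [← Abelian.image.fac φ, hzero.eq_of_src (Abelian.image.ι φ) 0, comp_zero]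
    have hσ00 : σ = 0 := by
      have := Groth.Agent.CurvesC.Gen.sec_ofSec_top σ
      rw [← this]
      change Groth.Agent.CurvesC.Gen.sec φ ⊤ = 0
      rw [hφ0]
      rfl
    have h3 : res J hV' s = 0 := by
      rw [← hσ, hσ00, map_zero]
    rw [← TopCat.Presheaf.germ_res_apply J.presheaf (homOfLE hV') x hxV']
    rw [show J.presheaf.map (homOfLE hV').op s = 0 from h3, map_zero]
  rw [← hs₁, ← hgs x hxV, hgoal]

end Groth.Agent.S17178
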