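import Groth.Statements.S19463
import Groth.Agent.S1535
import Groth.Agent.S1561
import Groth.Agent.S1618
import Groth.Agent.S1626

set_option autoImplicit false
universe u
open CategoryTheory CategoryTheory.Limits AlgebraicGeometry
open Curves

namespace Groth.Agent.S19463

/-- Let k be an algebraically closed field and X a smooth curve over k (integral, separated, of finite
type and smooth over k, of dimension one). Then there are a smooth projective curve Y over k
(integral, smooth over k, of dimension one, admitting a closed immersion over k into some P^n_k) and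
an open immersion X → Y over k. -/
theorem result (k : Type u) [Field k] [IsAlgClosed k]
    (X : Scheme.{u}) [X.Over (Spec (CommRingCat.of k))] [IsIntegral X] [IsSeparated (X ↘ (Spec (CommRingCat.of k)))]
    [LocallyOfFiniteType (X ↘ (Spec (CommRingCat.of k)))] [QuasiCompact (X ↘ (Spec (CommRingCat.of k)))] [Smooth (X ↘ (Spec (CommRingCat.of k)))]
    (hdimX : topologicalKrullDim X = 1) :
    ∃ (Y : Scheme.{u}) (_ : Y.Over (Spec (CommRingCat.of k))) (j : X ⟶ Y), IsOpenImmersion j ∧
      j ≫ (Y ↘ (Spec (CommRingCat.of k))) = X ↘ (Spec (CommRingCat.of k)) ∧ IsIntegral Y ∧ Smooth (Y ↘ (Spec (CommRingCat.of k))) ∧ topologicalKrullDim Y = 1 ∧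
      ∃ (n : ℕ) (i : Y ⟶ CohB1.ProjSpace n k), IsClosedImmersion i ∧ i ≫ CohB1.ProjSpace.toSpec n k = Y ↘ (Spec (CommRingCat.of k)) := by
  obtain ⟨d, Y, c, j, hc, hj, hjc, hdense, hdom, -, hdvr⟩ :=
    Groth.Agent.S1626.result k X hdimX.le
  have hprop : IsProper (CohB1.ProjSpace.toSpec d k) :=
    Groth.Agent.VarietyB.ProjSpaceProper.isProper_toSpec d k
  let : Y.Over (Spec (CommRingCat.of k)) := ⟨c ≫ CohB1.ProjSpace.toSpec d k⟩
  have hYf : LocallyOfFiniteType (Y ↘ (Spec (CommRingCat.of k))) :=
    inferInstanceAs (LocallyOfFiniteType (c ≫ CohB1.ProjSpace.toSpec d k))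
  have hYN : IsLocallyNoetherian Y :=
    LocallyOfFiniteType.isLocallyNoetherian (c ≫ CohB1.ProjSpace.toSpec d k)
  have hYp : LocallyOfFinitePresentation (Y ↘ (Spec (CommRingCat.of k))) :=
    inferInstance
  have hqc : QuasiCompact j := inferInstance
  have hred : IsReduced Y := IsSchemeTheoreticallyDominant.isReduced j
  have hirr : IrreducibleSpace Y := by
    have h1 : IsIrreducible (Set.range j) := by
      rw [← Set.image_univ]
      exact (irreducibleSpace_def X).1 inferInstance |>.image j j.continuous.continuousOn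
    have h2 := h1.closure
    rw [show closure (Set.range j) = Set.univ from hdense.closure_eq] at h2
    exact (irreducibleSpace_def Y).2 h2
  have hint : IsIntegral Y := isIntegral_of_irreducibleSpace_of_isReduced Y
  refine ⟨Y, ⟨c ≫ CohB1.ProjSpace.toSpec d k⟩, j, hj, hjc, hint, ?_, ?_, d, c, hc, rfl⟩
  · have hall : ∀ y : Y, y ∈ (Y ↘ (Spec (CommRingCat.of k))).smoothLocus := by
      intro y
      rw [(Groth.Agent.S1561.result k Y).1 y]
      by_cases hy : y ∈ Set.range j
      · obtain ⟨x, rfl⟩ := hy
        have := Groth.Agent.S1535.result k X x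
        exact IsRegularLocalRing.of_ringEquiv (asIso (j.stalkMap x)).commRingCatIsoToRingEquiv.symm
      · obtain ⟨-, hD, hV⟩ := hdvr y hy
        infer_instance
    exact Scheme.Hom.smoothLocus_eq_top_iff.1 (by ext y; simpa using hall y)
  · have h1 := Groth.Agent.S1618.result k Y j.opensRange
      ⟨j (Classical.arbitrary X), ⟨_, rfl⟩⟩
    rw [← h1, ← hdimX]
    exact (IsHomeomorph.topologicalKrullDim_eq _ (Scheme.homeoOfIso j.isoOpensRange).isHomeomorph).symm

end Groth.Agent.S19463
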