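import Groth.Statements.S12129
import Mathlib.AlgebraicGeometry.Properties
import Mathlib.AlgebraicGeometry.Stalk
import Mathlib.AlgebraicGeometry.Morphisms.QuasiCompact
import Mathlib.Topology.Sober

set_option autoImplicit false
universe u
open EGA2

namespace Groth.Agent.S12129

open AlgebraicGeometry CategoryTheory

theorem le_of_specializes {X : Scheme.{u}} {a b : X} (h : a ⤳ b) : b ≤ a := h

theorem specializes_of_le {X : Scheme.{u}} {a b : X} (h : b ≤ a) : a ⤳ b := h

theorem lt_of_specializes {X : Scheme.{u}} {a b : X} (h : a ⤳ b) (hne : a ≠ b) : b < a :=
  ⟨h, fun h' => hne (h.antisymm h').eq⟩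

/-- chain of three distinct points specialising one to the other, the last one having local ring of
dimension `≤ 1`: impossible. -/
theorem eq_or_eq_of_specializes (X : Scheme.{u}) (a b c : X) (h1 : a ⤳ b) (h2 : b ⤳ c)
    (hc : Order.coheight c ≤ 1) : a = b ∨ b = c := by
  by_contra hne
  push Not at hne
  obtain ⟨hab, hbc⟩ := hne
  have e1 := Order.coheight_add_one_le (lt_of_specializes h1 hab)
  have e2 := Order.coheight_add_one_le (lt_of_specializes h2 hbc)
  have e3 : (2 : ℕ∞) ≤ Order.coheight c :=
    calc (2 : ℕ∞) = 0 + 1 + 1 := by norm_num
      _ ≤ Order.coheight a + 1 + 1 := by gcongr; exact zero_le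
      _ ≤ Order.coheight b + 1 := by gcongr
      _ ≤ Order.coheight c := e2
  exact absurd (e3.trans hc) (by decide)

/-- the closure of a point is an irreducible component iff the point is maximal. -/
theorem closure_mem_irreducibleComponents_iff {X : Scheme.{u}} (y : X) :
    closure ({y} : Set X) ∈ irreducibleComponents (X : Type u) ↔ IsMax y := by
  constructor
  · intro h a ha
    have h1 : closure ({y} : Set X) ⊆ closure ({a} : Set X) :=
      (specializes_of_le ha).closure_subset
    have h2 := h.2 (y := closure ({a} : Set X)) isIrreducible_singleton.closure h1
    exact le_of_specializes (specializes_iff_closure_subset.mpr h2)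
  · intro h
    refine ⟨isIrreducible_singleton.closure, fun s hs hle => ?_⟩
    have hs' : IsIrreducible (closure s) := hs.closure
    obtain ⟨a, ha⟩ := QuasiSober.sober hs' isClosed_closure
    have h1 : a ⤳ y := by
      rw [specializes_iff_mem_closure, ha.def]
      exact subset_closure (hle (subset_closure rfl))
    have h2 := h (le_of_specializes h1)
    have h3 : closure ({a} : Set X) ⊆ closure {y} := (specializes_of_le h2).closure_subset
    rw [ha.def] at h3
    exact subset_closure.trans h3

/-- Let X be a scheme of finite type over a field k. Then the local ring of X at every closed point has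
dimension one if and only if the irreducible closed subsets of X other than its irreducible
components are exactly the (singletons of) closed points of X — that is, every irreducible closed
subset which is not an irreducible component is a closed point, and no closed point is by itself an
irreducible component. -/
theorem result (k : Type u) [Field k] (X : Scheme.{u})
    [X.Over (Spec (CommRingCat.of k))] [LocallyOfFiniteType (X ↘ (Spec (CommRingCat.of k)))]
    [QuasiCompact (X ↘ (Spec (CommRingCat.of k)))] :
    (∀ x : X, IsClosed ({x} : Set X) → ringKrullDim (X.presheaf.stalk x) = 1) ↔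
      ((∀ F : Set X, IsClosed F → IsIrreducible F → F ∉ irreducibleComponents (X : Type u) →
          ∃ x : X, IsClosed ({x} : Set X) ∧ F = {x}) ∧
        ∀ x : X, IsClosed ({x} : Set X) → ({x} : Set X) ∉ irreducibleComponents (X : Type u)) := by
  have hX : CompactSpace X := by
    have := QuasiCompact.compactSpace_of_compactSpace (X ↘ (Spec (CommRingCat.of k)))
    exact this
  have key : ∀ x : X, ringKrullDim (X.presheaf.stalk x) = 1 ↔ Order.coheight x = 1 := by
    intro x
    rw [ringKrullDim_stalk_eq_coheight]
    exact_mod_cast Iff.rfl
  simp only [key]
  constructor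
  · intro h
    refine ⟨fun F hF hFi hFc => ?_, fun x hx hxc => ?_⟩
    · obtain ⟨b, hb⟩ := QuasiSober.sober hFi hF
      obtain ⟨c, hc, hcl⟩ := hF.exists_closed_singleton hFi.nonempty
      have hbc : b ⤳ c := by rw [specializes_iff_mem_closure, hb.def]; exact hc
      have hnm : ¬ IsMax b := by
        rw [← closure_mem_irreducibleComponents_iff, hb.def]
        exact hFc
      obtain ⟨a, ha⟩ := not_isMax_iff.mp hnm
      rcases eq_or_eq_of_specializes X a b c (specializes_of_le ha.le) hbc (h c hcl).le with h' | h'
      · exact absurd h' ha.ne'
      · refine ⟨c, hcl, ?_⟩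
        rw [← hb.def, h', hcl.closure_eq]
    · have h1 : IsMax x := by
        rw [← closure_mem_irreducibleComponents_iff, hx.closure_eq]
        exact hxc
      have h2 := h x hx
      rw [Order.coheight_eq_zero.mpr h1] at h2
      exact absurd h2 (by decide)
  · rintro ⟨h1, h2⟩ x hx
    have hnm : ¬ IsMax x := by
      rw [← closure_mem_irreducibleComponents_iff, hx.closure_eq]
      exact h2 x hx
    apply le_antisymm
    · have h3 : Order.coheight x ≤ ((1 : ℕ) : ℕ∞) := by
        rw [Order.coheight_le_coe_iff]
        intro y hy
        have h4 : IsMax y := by
          rw [← closure_mem_irreducibleComponents_iff]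
          by_contra h5
          obtain ⟨x', hx', hy'⟩ := h1 _ isClosed_closure isIrreducible_singleton.closure h5
          have h6 : x ∈ closure ({y} : Set X) :=
            specializes_iff_mem_closure.mp (specializes_of_le hy.le)
          have h7 : y ∈ closure ({y} : Set X) := subset_closure rfl
          rw [hy'] at h6 h7
          have e1 : x = x' := h6
          have e2 : y = x' := h7
          exact hy.ne (e1.trans e2.symm)
        rw [Order.coheight_eq_zero.mpr h4]
        simp
      simpa using h3
    · rw [Order.one_le_iff_pos, pos_iff_ne_zero, Ne, Order.coheight_eq_zero]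
      exact hnm

end Groth.Agent.S12129
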