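import Groth.Statements.S15554
import Groth.Agent.SmVar.K658.SecSmooth
import Mathlib.Algebra.MvPolynomial.Funext

set_option autoImplicit false
universe u
open CategoryTheory CategoryTheory.Limits AlgebraicGeometry
open SmVar

namespace Groth.Agent.S15554

/-- Let k be an infinite field and X ⊆ P^n_k a smooth projective variety, given as an integral scheme X
with a closed immersion ι into projective n-space over k through which X is smooth over k. Then X
has a smooth hyperplane section defined over k: there is a global section s of the twisting sheaf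
O(1) on P^n_k whose zero scheme H, a hyperplane defined over k, does not contain X and for which the
scheme-theoretic intersection X ∩ H = X ×_{P^n_k} H is smooth over k. (The published statement also
records that X ∩ H has dimension dim X − 1; that is automatic once X is integral and not contained
in H, so this row states smoothness together with X ⊄ H.) -/
theorem result (k : Type u) [Field k] [Infinite k] (n : ℕ)
    (X : Scheme.{u}) [IsIntegral X] (ι : X ⟶ CohB1.ProjSpace n k) [IsClosedImmersion ι]
    [Smooth (ι ≫ CohB1.ProjSpace.toSpec n k)] :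
    ∃ s : Coh.structureModule (CohB1.ProjSpace n k) ⟶ Twist.twistProjSpace n k 1,
      (∃ x : ↥X, ι.base x ∉ (PicF2.zeroScheme (Twist.twistProjSpace n k 1) s).support) ∧
      Smooth (pullback.fst ι (PicF2.zeroScheme (Twist.twistProjSpace n k 1) s).subschemeι ≫ ι ≫
        CohB1.ProjSpace.toSpec n k) := by
  let ι' : X ⟶ Proj (CohB1.polyGrading n k) := ι
  have hι : IsClosedImmersion ι' := ‹IsClosedImmersion ι›
  have hsm0 : Smooth (ι' ≫ CohB1.ProjSpace.toSpec n k) := ‹Smooth (ι ≫ CohB1.ProjSpace.toSpec n k)›
  have hsm : ∀ j, letI := K658.ProjSec.alg ι' j; Algebra.Smooth k Γ(X, K658.ProjSec.W ι' j) := by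
    intro j
    let _ := K658.ProjSec.alg ι' j
    have h1 := K658.SecSmooth.smooth_baseHom (ι' ≫ CohB1.ProjSpace.toSpec n k) (K658.ProjSec.isAffineOpen_W ι' j)
    rw [← K658.ProjSec.algebraMap_alg, RingHom.smooth_algebraMap] at h1
    exact h1
  obtain ⟨G, hG0, hG⟩ := K658.ProjSec.exists_good ι' hsm
  obtain ⟨a, ha⟩ : ∃ a : Fin (n + 1) → k, MvPolynomial.eval a G ≠ 0 := by
    by_contra hcon
    push Not at hcon
    exact hG0 (MvPolynomial.funext fun a => by rw [hcon a, map_zero])
  have ha' : MvPolynomial.eval (fun i => MvPolynomial.coeff (Finsupp.single i 1)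
      (K658.ProjSec.lin a : MvPolynomial (Fin (n + 1)) k)) G ≠ 0 := by
    simp only [K658.ProjSec.coeff_lin]
    exact ha
  have ht := hG (K658.ProjSec.lin a) ha'
  refine ⟨K658.SecSmooth.secOf (K658.ProjSec.lin a), ?_, ?_⟩
  · obtain ⟨x, hx⟩ := K658.ProjSec.exists_notMem ι' (K658.ProjSec.lin a) ht
    exact ⟨x, fun h => hx ((K658.SecSmooth.mem_support_iff (K658.ProjSec.lin a) (ι' x)).1 h)⟩
  · exact K658.SecSmooth.smooth_section ι' hsm (K658.ProjSec.lin a) ht

end Groth.Agent.S15554
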