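import Groth.Statements.S17325
import Mathlib
-- import your own Groth.Agent.* helpers here

set_option autoImplicit false
universe u v
open LieAlg

namespace Groth.Agent.S17325

open Polynomial in
/-- The polynomials expressing the coefficients of a fixed vector in terms of the last one. -/
noncomputable def coefPoly {k : Type u} [Field k] (p : ℕ) (a : ℕ → k) : ℕ → k[X]
  | 0 => C (a 0) * X ^ p
  | (i + 1) => (coefPoly p a i) ^ p + C (a (i + 1)) * X ^ p

open Polynomial in
theorem X_pow_dvd_coefPoly {k : Type u} [Field k] (p : ℕ) (hp : 1 ≤ p) (a : ℕ → k) (i : ℕ) :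
    X ^ p ∣ coefPoly p a i := by
  induction i with
  | zero => exact Dvd.intro_left _ rfl
  | succ i ih =>
    refine dvd_add (ih.trans (dvd_pow_self _ (by omega))) (Dvd.intro_left _ rfl)

open Polynomial in
theorem coefPoly_ne_zero {k : Type u} [Field k] (p : ℕ) (hp : 2 ≤ p) (a : ℕ → k) (i : ℕ)
    (h : ∃ j ≤ i, a j ≠ 0) : coefPoly p a i ≠ 0 := by
  induction i with
  | zero =>
    obtain ⟨j, hj, haj⟩ := h
    obtain rfl : j = 0 := by omega
    exact mul_ne_zero (C_ne_zero.mpr haj) (pow_ne_zero _ X_ne_zero)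
  | succ i ih =>
    by_cases h0 : coefPoly p a i = 0
    · have hall : ∀ j ≤ i, a j = 0 := by
        intro j hj
        by_contra hne
        exact ih ⟨j, hj, hne⟩ h0
      obtain ⟨j, hj, haj⟩ := h
      have hj' : j = i + 1 := by
        by_contra hne
        exact haj (hall j (by omega))
      subst hj'
      show (coefPoly p a i) ^ p + C (a (i + 1)) * X ^ p ≠ 0
      rw [h0, zero_pow (by omega), zero_add]
      exact mul_ne_zero (C_ne_zero.mpr haj) (pow_ne_zero _ X_ne_zero)
    · show (coefPoly p a i) ^ p + C (a (i + 1)) * X ^ p ≠ 0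
      intro hzero
      have h1 : (coefPoly p a i) ^ p = - (C (a (i + 1)) * X ^ p) := by
        rw [eq_neg_iff_add_eq_zero, hzero]
      have h2 := congrArg natDegree h1
      rw [natDegree_pow, natDegree_neg] at h2
      have h3 : (C (a (i + 1)) * X ^ p).natDegree ≤ p := natDegree_C_mul_X_pow_le _ _
      have h4 : p ≤ (coefPoly p a i).natDegree := by
        have := natDegree_le_of_dvd (X_pow_dvd_coefPoly p (by omega) a i) h0
        rwa [natDegree_X_pow] at this
      have h5 : p * p ≤ p * (coefPoly p a i).natDegree := Nat.mul_le_mul_left _ h4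
      nlinarith

open Polynomial in
theorem exists_root {k : Type u} [Field k] [IsAlgClosed k] (p : ℕ) (hp : 2 ≤ p) (a : ℕ → k) (i : ℕ)
    (h : ∃ j ≤ i, a j ≠ 0) : ∃ t : k, t ≠ 0 ∧ (coefPoly p a i).eval t = t := by
  obtain ⟨Q, hQ⟩ := X_pow_dvd_coefPoly p (by omega) a i
  have hne := coefPoly_ne_zero p hp a i h
  have hQ0 : Q ≠ 0 := by
    rintro rfl
    exact hne (by rw [hQ, mul_zero])
  have hdeg : (X ^ (p - 1) * Q - 1 : k[X]).natDegree ≠ 0 := by
    have : (X ^ (p - 1) * Q - 1 : k[X]).natDegree = (X ^ (p - 1) * Q : k[X]).natDegree := by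
      rw [show (1 : k[X]) = C 1 from rfl, natDegree_sub_C]
    rw [this, natDegree_mul (pow_ne_zero _ X_ne_zero) hQ0, natDegree_X_pow]
    omega
  obtain ⟨t, ht⟩ := IsAlgClosed.exists_root (X ^ (p - 1) * Q - 1 : k[X])
    (fun h0 => hdeg (natDegree_eq_of_degree_eq_some h0))
  have ht' : t ^ (p - 1) * Q.eval t = 1 := by
    have := ht
    rw [IsRoot.def, eval_sub, eval_mul, eval_pow, eval_X, eval_one, sub_eq_zero] at this
    exact this
  refine ⟨t, ?_, ?_⟩
  · rintro rfl
    rw [zero_pow (by omega), zero_mul] at ht'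
    exact zero_ne_one ht'
  · rw [hQ, eval_mul, eval_pow, eval_X]
    obtain ⟨q, rfl⟩ : ∃ q, p = q + 1 := ⟨p - 1, by omega⟩
    rw [pow_succ', mul_assoc]
    rw [Nat.add_sub_cancel] at ht'
    rw [ht', mul_one]

open Polynomial in
theorem frob_sum {k : Type u} [Field k] (p : ℕ) [Fact p.Prime] [CharP k p]
    {A : Type v} [Ring A] [Algebra k A] (u : A) (l : ℕ → k) (n : ℕ) :
    (∑ i ∈ Finset.range n, l i • u ^ (p ^ i)) ^ p =
      ∑ i ∈ Finset.range n, (l i) ^ p • u ^ (p ^ (i + 1)) := by
  have h := sum_pow_char p (Finset.range n) (fun i => (C (l i) * X ^ (p ^ i) : k[X]))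
  have h2 := congrArg (aeval u) h
  simp only [map_pow, map_sum, map_mul, aeval_C, aeval_X, mul_pow] at h2
  simp only [← map_pow, ← Algebra.smul_def, ← pow_mul] at h2
  simpa only [pow_succ] using h2


/-- Let k be an algebraically closed field of characteristic p > 0, V a finite-dimensional k-vector
space and g a nonzero k-linear subspace of End_k(V) closed under the p-th power map u ↦ u^p. Then g
contains a nonzero u with u^p = c u for some c ∈ k, i.e. a line k u closed under p-th powers. (The
published lemma concerns an abstract nonzero finite-dimensional restricted Lie algebra; this row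
concerns subspaces of End_k(V) closed under p-th powers, a class that contains every restricted Lie
subalgebra of gl(V).) -/
theorem result (k : Type u) [Field k] [IsAlgClosed k]
    (p : ℕ) [Fact p.Prime] [CharP k p] (V : Type v) [AddCommGroup V] [Module k V] [FiniteDimensional k V]
    (g : Submodule k (Module.End k V)) (hg : ∀ u ∈ g, u ^ p ∈ g) (hne : g ≠ ⊥) :
    ∃ u ∈ g, u ≠ 0 ∧ ∃ c : k, u ^ p = c • u := by
  classical
  have hp := (Fact.out : p.Prime)
  obtain ⟨u, hu, hu0⟩ := g.ne_bot_iff.mp hne
  have hmem : ∀ i : ℕ, u ^ (p ^ i) ∈ g := by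
    intro i
    induction i with
    | zero => simpa using hu
    | succ i ih =>
      rw [pow_succ, pow_mul]
      exact hg _ ih
  -- the increasing chain of spans
  have hex : ∃ n : ℕ, u ^ (p ^ n) ∈
      Submodule.span k ((fun i => u ^ (p ^ i)) '' (Set.Iio n)) := by
    let f : ℕ →o Submodule k (Module.End k V) :=
      ⟨fun n => Submodule.span k ((fun i => u ^ (p ^ i)) '' (Set.Iio n)), fun a b hab =>
        Submodule.span_mono (Set.image_mono (Set.Iio_subset_Iio hab))⟩
    obtain ⟨n, hn⟩ := monotone_stabilizes_iff_noetherian.mpr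
      (inferInstance : IsNoetherian k (Module.End k V)) f
    refine ⟨n, ?_⟩
    have h1 := hn (n + 1) (Nat.le_succ n)
    show u ^ (p ^ n) ∈ f n
    rw [h1]
    exact Submodule.subset_span ⟨n, Nat.lt_succ_self n, rfl⟩
  have hmin := fun m (hm : m < Nat.find hex) => Nat.find_min hex hm
  have hspec := Nat.find_spec hex
  obtain ⟨n, hn⟩ : ∃ n, n = Nat.find hex := ⟨_, rfl⟩
  rw [← hn] at hspec hmin
  -- `n` is positive
  obtain ⟨m, rfl⟩ : ∃ m, n = m + 1 := by
    rcases n with _ | m
    · exfalso
      simp at hspec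
      exact hu0 hspec
    · exact ⟨m, rfl⟩
  have hexp : ∀ (n : ℕ) (y : Module.End k V),
      y ∈ Submodule.span k ((fun i => u ^ (p ^ i)) '' (Set.Iio n)) →
      ∃ a : ℕ → k, y = ∑ i ∈ Finset.range n, a i • u ^ (p ^ i) := by
    intro n y hy
    have h2 : ((fun i => u ^ (p ^ i)) '' (Set.Iio n)) =
        ((fun i => u ^ (p ^ i)) '' (Finset.range n : Set ℕ)) := by
      congr 1; ext x; simp
    rw [h2] at hy
    obtain ⟨a, ha⟩ := (Submodule.mem_span_image_finset_iff_exists_fun' k).mp hy
    exact ⟨a, ha.symm⟩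
  obtain ⟨a, ha⟩ := hexp _ _ hspec
  by_cases hall : ∃ j ≤ m, a j ≠ 0
  · obtain ⟨t, ht0, ht⟩ := exists_root p hp.two_le a m hall
    let l : ℕ → k := fun i => (coefPoly p a i).eval t
    have hl0 : l 0 = a 0 * t ^ p := by simp [l, coefPoly]
    have hls : ∀ i, l (i + 1) = (l i) ^ p + a (i + 1) * t ^ p := by
      intro i; simp [l, coefPoly]
    have hlm : l m = t := ht
    refine ⟨∑ i ∈ Finset.range (m + 1), l i • u ^ (p ^ i),
      Submodule.sum_mem _ fun i _ => Submodule.smul_mem _ _ (hmem i), ?_, 1, ?_⟩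
    · intro h0
      rw [Finset.sum_range_succ, hlm] at h0
      apply hmin m (Nat.lt_succ_self m)
      have h1 : u ^ (p ^ m) = - (t⁻¹ • ∑ i ∈ Finset.range m, l i • u ^ (p ^ i)) := by
        rw [eq_neg_iff_add_eq_zero]
        have := congrArg (fun z => t⁻¹ • z) h0
        simp only [smul_add, smul_zero, smul_smul, inv_mul_cancel₀ ht0, one_smul] at this
        rw [add_comm] at this
        rw [Finset.smul_sum] at this ⊢
        simpa [smul_smul] using this
      rw [h1]
      refine Submodule.neg_mem _ (Submodule.smul_mem _ _ (Submodule.sum_mem _ fun i hi => ?_))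
      exact Submodule.smul_mem _ _ (Submodule.subset_span ⟨i, by simpa using hi, rfl⟩)
    · rw [one_smul, frob_sum, Finset.sum_range_succ, ha, hlm, Finset.smul_sum]
      rw [Finset.sum_range_succ' (fun i => l i • u ^ (p ^ i)),
        Finset.sum_range_succ' (fun i => t ^ p • a i • u ^ (p ^ i)), ← add_assoc,
        ← Finset.sum_add_distrib]
      congr 1
      · refine Finset.sum_congr rfl fun i _ => ?_
        rw [hls, add_smul, smul_smul, mul_comm (t ^ p)]
      · rw [hl0, smul_smul, mul_comm (t ^ p)]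
  · push Not at hall
    refine ⟨u ^ (p ^ m), hmem m, ?_, 0, ?_⟩
    · intro h0
      apply hmin m (Nat.lt_succ_self m)
      rw [h0]; exact Submodule.zero_mem _
    · rw [← pow_mul, ← pow_succ, ha, zero_smul]
      refine Finset.sum_eq_zero fun i hi => ?_
      rw [hall i (by simpa [Nat.lt_succ_iff] using hi), zero_smul]

end Groth.Agent.S17325
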