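import Groth.Statements.S17231
import Groth.Agent.IntSh.K879.ProjB
import Groth.Agent.Krr.H495.Rank

set_option autoImplicit false
universe u
open IntSh

namespace Groth.Agent.S17231

open CategoryTheory CategoryTheory.Limits AlgebraicGeometry in
theorem one_le_rank {X Y : Scheme.{u}} (π : X ⟶ Y) {r : ℕ} {E : Y.Modules}
    (hE : FlatMod.IsFinLocFreeOfRank r E) {O1 : X.Modules}
    (q : (Scheme.Modules.pullback π).obj E ⟶ O1) [Epi q] (hO1 : FlatMod.IsFinLocFreeOfRank 1 O1)
    {KX : Type*} [CommRing KX] [LambdaRing.LambdaOps KX] {PX : LambdaRing.PosStructure KX}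
    {φX : SGA6.Kvb X →+ KX} (hKX : KRR.IsModel X KX PX φX) : 1 ≤ r := by
  rcases Nat.eq_zero_or_pos r with rfl | h
  · exfalso
    have h1 : IsZero ((Scheme.Modules.pullback π).obj E) :=
      Krr.H495.Rank.isZero_of_rank_zero
        (Krr.H482.PullLambda.isFinLocFreeOfRank_pullback π hE)
    have h2 : IsZero O1 := IsZero.of_epi q h1
    have h3 := hKX.aug_cl 1 O1 hO1
    have h4 : KRR.cl X O1 = 0 := Sga67.K0Basic.clSub_of_isZero (P := KRR.vbP X) h2
    rw [h4, map_zero, map_zero] at h3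
    norm_num at h3
  · exact h

open CategoryTheory CategoryTheory.Limits AlgebraicGeometry in
/-- Let Y be a connected Noetherian scheme, E a locally free O_Y-module of rank r and π : X → Y a
projective bundle of E, i.e. X = P(E) with universal invertible quotient π^*E → O(1) (X Noetherian
and connected, π projective and flat); let O(−1) be an inverse of O(1), D an r-th exterior power of
E (so D = det E) and D' an inverse of D. With λ-ring models of K^•(X), K^•(Y) and the push-forward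
π_* on bundle classes (twisted by O_X), writing δ(O(1)) = 1 − [O(−1)], one has π_*(δ(O(1))^l) = 1
for every 0 ≤ l < r and π_*(δ(O(1))^r) = δ(det E) = 1 − [D']. (The source's further Segre-class
relation is not stated. X is taken connected, which it is for r ≥ 1 and Y connected.) -/
theorem result
    {X Y : Scheme.{u}} [IsNoetherian X] [IsNoetherian Y] [ConnectedSpace X] [ConnectedSpace Y] (π : X ⟶ Y)
    (hπ : RelProj.IsProjective π) [Flat π] [HasInjectiveResolutions X.Modules]
    (r : ℕ) (E : Y.Modules) (hE : FlatMod.IsFinLocFreeOfRank r E)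
    (O1 : X.Modules) (q : (Scheme.Modules.pullback π).obj E ⟶ O1) (hP : KRR.IsProjBundle π E O1 q)
    (Om : X.Modules) (hOm : PicF.IsInvertible Om) (hOOm : ClSub.IsInverseOf O1 Om)
    (D D' : Y.Modules) (hD : ExtPow.IsExtPow r E D) (hDi : PicF.IsInvertible D) (hD'i : PicF.IsInvertible D')
    (hDD' : ClSub.IsInverseOf D D')
    (KX : Type u) [CommRing KX] [LambdaRing.LambdaOps KX] (PX : LambdaRing.PosStructure KX)
    (φX : SGA6.Kvb X →+ KX) (hKX : KRR.IsModel X KX PX φX)
    (KY : Type u) [CommRing KY] [LambdaRing.LambdaOps KY] (PY : LambdaRing.PosStructure KY)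
    (φY : SGA6.Kvb Y →+ KY) (hKY : KRR.IsModel Y KY PY φY)
    (g : KX →+ KY) (hg : KDet.IsPushF π (Coh.structureModule X) φX φY g) :
    (∀ l : ℕ, l < r → g ((1 - φX (KRR.cl X Om)) ^ l) = 1) ∧
      g ((1 - φX (KRR.cl X Om)) ^ r) = 1 - φY (KRR.cl Y D') := by
  have hO1 := hP.invertible
  have := hP.epi
  obtain ⟨r, rfl⟩ : ∃ r' : ℕ, r = r' + 1 :=
    ⟨r - 1, by have := one_le_rank π hE q hO1 hKX; omega⟩
  obtain ⟨p, hp⟩ := Krr.H482.PullLambda.exists_isPull π hKY.bijective φX
  have hOm' : FlatMod.IsFinLocFree Om := Krr.H482.PullLambda.isFinLocFree_of_rank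
    (Ega2.QCohLocal.isFinLocFreeOfRank_one_iff.2 hOm)
  have hpow := fun i hi => K879.ProjB.push_pow hE hP hOm' hOOm hKX hKY hp hg i hi
  have h0 : g (φX (KRR.cl X Om) ^ 0) = 1 := by rw [hpow 0 (Nat.zero_le _), if_pos rfl]
  have hsucc : ∀ i, i + 1 ≤ r → g (φX (KRR.cl X Om) ^ (i + 1)) = 0 := fun i hi => by
    rw [hpow (i + 1) hi, if_neg (Nat.succ_ne_zero i)]
  have hsum : ∀ l, l ≤ r → ∑ j ∈ Finset.range (l + 1), (-1 : KY) ^ j * (l.choose j : KY) *
      g (φX (KRR.cl X Om) ^ j) = 1 := by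
    intro l hl
    rw [Finset.sum_range_succ', Finset.sum_eq_zero, h0, pow_zero, Nat.choose_zero_right,
      Nat.cast_one, one_mul, one_mul, zero_add]
    intro i hi
    rw [Finset.mem_range] at hi
    rw [hsucc i (by omega), mul_zero]
  have hDe : LambdaRing.LambdaOps.lam (r + 1) (φY (KRR.cl Y E)) = φY (KRR.cl Y D) :=
    hKY.map_lam (r + 1) E D (Krr.H482.PullLambda.isFinLocFree_of_rank hE)
      (Krr.H482.PullLambda.isFinLocFree_of_rank
        (Ega2.QCohLocal.isFinLocFreeOfRank_one_iff.2 hDi)) hD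
  have hDD : φY (KRR.cl Y D) * φY (KRR.cl Y D') = 1 :=
    K879.ProjB.cl_mul_cl hKY (Krr.H482.PullLambda.isFinLocFree_of_rank
      (Ega2.QCohLocal.isFinLocFreeOfRank_one_iff.2 hDi))
      (Krr.H482.PullLambda.isFinLocFree_of_rank
      (Ega2.QCohLocal.isFinLocFreeOfRank_one_iff.2 hD'i)) hDD'
  have htop := K879.ProjB.push_pow_top hE hP hOm' hOOm hKX hKY hp hg
  rw [hDe] at htop
  refine ⟨fun l hl => ?_, ?_⟩
  · rw [K879.ProjB.map_sub_pow, hsum l (by omega)]
  · have h1 : (-1 : KY) ^ (r + 1) * g (φX (KRR.cl X Om) ^ (r + 1)) = - φY (KRR.cl Y D') := by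
      calc (-1 : KY) ^ (r + 1) * g (φX (KRR.cl X Om) ^ (r + 1))
          = (φY (KRR.cl Y D) * φY (KRR.cl Y D')) *
            ((-1 : KY) ^ (r + 1) * g (φX (KRR.cl X Om) ^ (r + 1))) := by rw [hDD, one_mul]
        _ = ((-1 : KY) ^ (r + 1) * φY (KRR.cl Y D) * g (φX (KRR.cl X Om) ^ (r + 1))) *
            φY (KRR.cl Y D') := by ring
        _ = _ := by rw [htop]; ring
    rw [K879.ProjB.map_sub_pow, Finset.sum_range_succ, Nat.choose_self, Nat.cast_one, mul_one, h1]
    have h2 : ∑ j ∈ Finset.range (r + 1), (-1 : KY) ^ j * ((r + 1).choose j : KY) *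
        g (φX (KRR.cl X Om) ^ j) = 1 := by
      rw [Finset.sum_range_succ', Finset.sum_eq_zero, h0, pow_zero, Nat.choose_zero_right,
        Nat.cast_one, one_mul, one_mul, zero_add]
      intro i hi
      rw [Finset.mem_range] at hi
      rw [hsucc i (by omega), mul_zero]
    rw [h2]
    ring

end Groth.Agent.S17231
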