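import Groth.Statements.S16085
import Groth.Agent.SDiv.K475.Rep

set_option autoImplicit false
universe u
open CategoryTheory CategoryTheory.Limits AlgebraicGeometry TopologicalSpace
open SDiv

namespace Groth.Agent.S16085

section aux

open K475.Rep

variable {X : Scheme.{u}} [IsIntegral X] [IsLocallyNoetherian X]

/-- The rank one reflexive classes. -/
abbrev T (X : Scheme.{u}) : Type (u + 1) :=
  {c : PicF.Cl X // ∃ F : X.Modules, PicF.cl F = c ∧ RefHull.IsRef1 F}

/-- A class has a representative with a rational section of divisor `D`. -/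
def RepCl (c : T X) (D : X → ℤ) : Prop := ∃ F : X.Modules, PicF.cl F = c.1 ∧ Rep F D

theorem exists_repCl (c : T X) : ∃ D, RepCl c D := by
  obtain ⟨c, F, hF, h⟩ := c
  obtain ⟨D, hD⟩ := exists_rep h
  exact ⟨D, F, hF, hD⟩

theorem RepCl.eq (hX : Pi1.IsNormalScheme X) {a b : T X} {D E : X → ℤ} (ha : RepCl a D)
    (hb : RepCl b E) (h : ∀ x, D x = E x) : a = b := by
  obtain ⟨F, hF, hFD⟩ := ha
  obtain ⟨G, hG, hGE⟩ := hb
  apply Subtype.ext
  rw [← hF, ← hG]
  exact Quot.sound (hFD.iso hX hGE fun x _ => h x)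

theorem RepCl.rep (hX : Pi1.IsNormalScheme X) {a : T X} {D : X → ℤ} (ha : RepCl a D)
    {F : X.Modules} (hF : PicF.cl F = a.1) (hFr : RefHull.IsRef1 F) : Rep F D := by
  obtain ⟨G, hG, hGD⟩ := ha
  obtain ⟨e⟩ := cl_eq_iff.mp (hG.trans hF.symm)
  exact hGD.of_iso hX hFr e

noncomputable def mul (a b : T X) : T X :=
  ⟨PicF.cl (RefHull.ddual (CohB1.tensorMod a.2.choose b.2.choose)), _, rfl,
    K476.Ref1.isRef1_refTensor a.2.choose_spec.2 b.2.choose_spec.2⟩

noncomputable def one : T X := ⟨PicF.cl (Coh.structureModule X), _, rfl,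
  K476.Ref1.isRef1_structureModule⟩

noncomputable def inv (a : T X) : T X :=
  ⟨PicF.cl (RefHull.dual a.2.choose), _, rfl,
    K476.Ref1.isRef1_dual a.2.choose_spec.2.1 a.2.choose_spec.2.2.2⟩

theorem repCl_mul (hX : Pi1.IsNormalScheme X) {a b : T X} {D E : X → ℤ} (ha : RepCl a D)
    (hb : RepCl b E) : RepCl (mul a b) (fun x => D x + E x) :=
  ⟨_, rfl, (ha.rep hX a.2.choose_spec.1 a.2.choose_spec.2).tensor hX
    (hb.rep hX b.2.choose_spec.1 b.2.choose_spec.2)⟩

theorem repCl_inv (hX : Pi1.IsNormalScheme X) {a : T X} {D : X → ℤ} (ha : RepCl a D) :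
    RepCl (inv a) (fun x => - D x) :=
  ⟨_, rfl, (ha.rep hX a.2.choose_spec.1 a.2.choose_spec.2).dual hX⟩

theorem repCl_one : RepCl (one (X := X)) (fun _ => 0) := ⟨_, rfl, rep_structureModule⟩

end aux


/-- Let X be an integral locally Noetherian normal scheme. Sending (F, G) to the reflexive hull (F
⊗_{O_X} G)^** makes the isomorphism classes of rank one coherent reflexive O_X-modules into an
abelian group: on that set there are a commutative and associative composition law, a neutral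
element and inverses, such that the product of the classes of F and G is the class of the reflexive
hull of F ⊗_{O_X} G, the neutral element is the class of O_X, and the inverse of the class of F is
the class of its dual 𝓗om_{O_X}(F, O_X). -/
theorem result (X : Scheme.{u}) [IsIntegral X] [IsLocallyNoetherian X] (hX : Pi1.IsNormalScheme X) :
    ∃ (mul : {c : PicF.Cl X // ∃ F : X.Modules, PicF.cl F = c ∧ RefHull.IsRef1 F} →
          {c : PicF.Cl X // ∃ F : X.Modules, PicF.cl F = c ∧ RefHull.IsRef1 F} →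
            {c : PicF.Cl X // ∃ F : X.Modules, PicF.cl F = c ∧ RefHull.IsRef1 F})
      (one : {c : PicF.Cl X // ∃ F : X.Modules, PicF.cl F = c ∧ RefHull.IsRef1 F})
      (inv : {c : PicF.Cl X // ∃ F : X.Modules, PicF.cl F = c ∧ RefHull.IsRef1 F} →
          {c : PicF.Cl X // ∃ F : X.Modules, PicF.cl F = c ∧ RefHull.IsRef1 F}),
      (∀ a b, mul a b = mul b a) ∧ (∀ a b c, mul (mul a b) c = mul a (mul b c)) ∧ (∀ a, mul one a = a) ∧
        (∀ a, mul (inv a) a = one) ∧
        (∀ (F G : X.Modules) (hF : RefHull.IsRef1 F) (hG : RefHull.IsRef1 G),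
          (mul ⟨PicF.cl F, F, rfl, hF⟩ ⟨PicF.cl G, G, rfl, hG⟩).1 = PicF.cl (RefHull.ddual (CohB1.tensorMod F G))) ∧
        one.1 = PicF.cl (Coh.structureModule X) ∧
        (∀ (F : X.Modules) (hF : RefHull.IsRef1 F), (inv ⟨PicF.cl F, F, rfl, hF⟩).1 = PicF.cl (RefHull.dual F)) := by
  refine ⟨mul, one, inv, ?_, ?_, ?_, ?_, ?_, rfl, ?_⟩
  · intro a b
    obtain ⟨D, hD⟩ := exists_repCl a
    obtain ⟨E, hE⟩ := exists_repCl b
    exact (repCl_mul hX hD hE).eq hX (repCl_mul hX hE hD) fun x => add_comm _ _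
  · intro a b c
    obtain ⟨D, hD⟩ := exists_repCl a
    obtain ⟨E, hE⟩ := exists_repCl b
    obtain ⟨C, hC⟩ := exists_repCl c
    exact (repCl_mul hX (repCl_mul hX hD hE) hC).eq hX (repCl_mul hX hD (repCl_mul hX hE hC))
      fun x => add_assoc _ _ _
  · intro a
    obtain ⟨D, hD⟩ := exists_repCl a
    exact (repCl_mul hX repCl_one hD).eq hX hD fun x => zero_add _
  · intro a
    obtain ⟨D, hD⟩ := exists_repCl a
    exact (repCl_mul hX (repCl_inv hX hD) hD).eq hX repCl_one fun x => neg_add_cancel _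
  · intro F G hF hG
    obtain ⟨D, hD⟩ := K475.Rep.exists_rep hF
    obtain ⟨E, hE⟩ := K475.Rep.exists_rep hG
    have h1 : RepCl (⟨PicF.cl F, F, rfl, hF⟩ : T X) D := ⟨F, rfl, hD⟩
    have h2 : RepCl (⟨PicF.cl G, G, rfl, hG⟩ : T X) E := ⟨G, rfl, hE⟩
    have h3 : RepCl (⟨PicF.cl (RefHull.ddual (CohB1.tensorMod F G)), _, rfl,
      K476.Ref1.isRef1_refTensor hF hG⟩ : T X) (fun x => D x + E x) := ⟨_, rfl, hD.tensor hX hE⟩
    exact congrArg Subtype.val ((repCl_mul hX h1 h2).eq hX h3 fun _ => rfl)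
  · intro F hF
    obtain ⟨D, hD⟩ := K475.Rep.exists_rep hF
    have h1 : RepCl (⟨PicF.cl F, F, rfl, hF⟩ : T X) D := ⟨F, rfl, hD⟩
    have h3 : RepCl (⟨PicF.cl (RefHull.dual F), _, rfl,
      K476.Ref1.isRef1_dual hF.1 hF.2.2⟩ : T X) (fun x => - D x) := ⟨_, rfl, hD.dual hX⟩
    exact congrArg Subtype.val ((repCl_inv hX h1).eq hX h3 fun _ => rfl)

end Groth.Agent.S16085
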