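import Groth.Statements.S4667
import Groth.Agent.FDesc.K108.IdealDesc

set_option autoImplicit false
open CategoryTheory AlgebraicGeometry
universe u
open FDesc

namespace Groth.Agent.S4667

open CategoryTheory.Limits in
/-- Let f : X → Y be a quasi-compact morphism of schemes and g : Y' → Y a flat morphism, and let f' : X
×_Y Y' → Y' be the base change of f. Then the scheme-theoretic image of f' is the inverse image
under g of the scheme-theoretic image of f: the quasi-coherent ideal sheaf cutting out the former is
the pull-back along g of the one cutting out the latter. (One published statement is phrased for a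
quasi-compact and quasi-separated S-morphism f and a flat base change S′ → S, which reduces to this
case; quasi-compactness of f suffices.) -/
theorem result {X Y Y' : Scheme.{u}} (f : X ⟶ Y) (g : Y' ⟶ Y)
    [QuasiCompact f] [Flat g] :
    (pullback.snd f g).ker = f.ker.comap g := by
  have hp : IsSchemeTheoreticallyDominant f.toImage := K108.IdealDesc.isSchemeTheoreticallyDominant_toImage f
  have hpi : f.toImage ≫ f.imageι = f := f.toImage_imageι
  have H := IsPullback.of_hasPullback f g
  have H' : IsPullback (pullback.fst f g) (pullback.snd f g) (f.toImage ≫ f.imageι) g := by
    rw [hpi]; exact H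
  have H1 := IsPullback.of_hasPullback f.imageι g
  have H2 := H'.flip.of_right' H1.flip
  have hlift := H1.flip.lift_fst (pullback.snd f g) (pullback.fst f g ≫ f.toImage) (by
    rw [Category.assoc, hpi, pullback.condition])
  have hdom := IsSchemeTheoreticallyDominant.of_isPullback H2.flip
  rw [← hlift, Scheme.Hom.ker_comp, hdom.ker_eq_bot, Scheme.IdealSheafData.map_bot]
  have h3 : pullback.snd f.imageι g = (pullbackSymmetry f.imageι g).hom ≫ pullback.fst g f.imageι := by
    simp
  rw [h3, Scheme.Hom.ker_comp_of_isIso, Scheme.IdealSheafData.ker_fst_of_isClosedImmersion]
  congr 1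
  exact f.ker.ker_subschemeι

end Groth.Agent.S4667
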