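import Groth.Statements.S4495
import Mathlib.Geometry.RingedSpace.LocallyRingedSpace

set_option autoImplicit false
universe u
open FlatCx

namespace Groth.Agent.S4495

open CategoryTheory AlgebraicGeometry Opposite in
/-- A locally ringed space Z is connected, in the sense that it is not the disjoint union of two
nonempty open subsets (the empty space being allowed), if and only if every idempotent of the ring
of global sections Γ(Z, O_Z) is 0 or 1 (equivalently, Γ(Z, O_Z) is not isomorphic to a product of
two nonzero rings). -/
theorem result (Z : LocallyRingedSpace.{u}) :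
    PreconnectedSpace Z ↔
      ∀ e : Z.presheaf.obj (op ⊤), IsIdempotentElem e → e = 0 ∨ e = 1 := by
  constructor
  · intro hconn e he
    let R := Z.toRingedSpace
    have he' : e * e = e := he
    have hstalk : ∀ x : Z, Z.presheaf.Γgerm x e = 0 ∨ Z.presheaf.Γgerm x e = 1 := by
      intro x
      have h1 : Z.presheaf.Γgerm x e * (1 - Z.presheaf.Γgerm x e) = 0 := by
        rw [mul_sub, mul_one, ← map_mul, he', sub_self]
      rcases IsLocalRing.isUnit_or_isUnit_one_sub_self (Z.presheaf.Γgerm x e) with h | h
      · right
        have := (h.mul_right_eq_zero).1 h1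
        exact (sub_eq_zero.1 this).symm
      · left
        exact (h.mul_left_eq_zero).1 h1
    let U : TopologicalSpace.Opens Z := R.basicOpen e
    let V : TopologicalSpace.Opens Z := R.basicOpen (1 - e)
    have hU : ∀ x : Z, x ∈ U ↔ Z.presheaf.Γgerm x e = 1 := by
      intro x
      have h1 : x ∈ U ↔ IsUnit (Z.presheaf.Γgerm x e) := R.mem_top_basicOpen e x
      rw [h1]
      rcases hstalk x with h | h
      · rw [h]
        constructor
        · intro h2
          exact absurd h2 not_isUnit_zero
        · intro h2
          exact absurd h2 zero_ne_one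
      · rw [h]
        simp
    have hV : ∀ x : Z, x ∈ V ↔ Z.presheaf.Γgerm x e = 0 := by
      intro x
      have h1 : x ∈ V ↔ IsUnit (Z.presheaf.Γgerm x (1 - e)) := R.mem_top_basicOpen (1 - e) x
      rw [h1, map_sub, map_one]
      rcases hstalk x with h | h
      · rw [h]
        simp
      · rw [h, sub_self]
        constructor
        · intro h2
          exact absurd h2 not_isUnit_zero
        · intro h2
          exact absurd h2 one_ne_zero
    have hcl : IsClopen (U : Set Z) := by
      refine ⟨⟨?_⟩, U.2⟩
      have : (U : Set Z)ᶜ = V := by
        ext x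
        rw [Set.mem_compl_iff, SetLike.mem_coe, SetLike.mem_coe, hU, hV]
        rcases hstalk x with h | h
        · rw [h]; simp
        · rw [h]; simp
      rw [this]
      exact V.2
    rcases isClopen_iff.1 hcl with h | h
    · left
      refine TopCat.Presheaf.section_ext Z.sheaf ⊤ e 0 fun x hx => ?_
      have hxU : x ∉ U := fun hx => by
        have : x ∈ (U : Set Z) := hx
        rw [h] at this
        exact this
      rcases hstalk x with h2 | h2
      · refine Eq.trans h2 ?_
        exact (map_zero _).symm
      · exact absurd ((hU x).2 h2) hxU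
    · right
      refine TopCat.Presheaf.section_ext Z.sheaf ⊤ e 1 fun x hx => ?_
      have hxU : x ∈ (U : Set Z) := by rw [h]; trivial
      refine Eq.trans ((hU x).1 hxU) ?_
      exact (map_one _).symm
  · intro hid
    rw [preconnectedSpace_iff_clopen]
    intro s hs
    let U : Bool → TopologicalSpace.Opens Z := fun b => if b then ⟨s, hs.2⟩ else ⟨sᶜ, hs.1.isOpen_compl⟩
    let sf : ∀ b, Z.presheaf.obj (op (U b)) := fun b => if b then 1 else 0
    have hempty : ∀ (W : TopologicalSpace.Opens Z) (hW : ∀ x, x ∉ W) (a b : Z.presheaf.obj (op W)), a = b :=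
      fun W hW a b => TopCat.Presheaf.section_ext Z.sheaf W a b fun x hx => absurd hx (hW x)
    have hcomp : TopCat.Presheaf.IsCompatible Z.sheaf.1 U sf := by
      intro i j
      by_cases hij : i = j
      · subst hij
        rfl
      · apply hempty
        intro x hx
        have h1 : x ∈ U i := hx.1
        have h2 : x ∈ U j := hx.2
        cases i <;> cases j
        · exact hij rfl
        · exact h1 h2
        · exact h2 h1
        · exact hij rfl
    obtain ⟨e, he, -⟩ := Z.sheaf.existsUnique_gluing' U ⊤ (fun i => TopologicalSpace.Opens.leTop _) (by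
      intro x _
      rw [TopologicalSpace.Opens.mem_iSup]
      by_cases hx : x ∈ s
      · exact ⟨true, hx⟩
      · exact ⟨false, hx⟩) sf hcomp
    have hgerm : ∀ b (x : Z) (hx : x ∈ U b), Z.presheaf.germ ⊤ x trivial e =
        Z.presheaf.germ (U b) x hx (sf b) := by
      intro b x hx
      rw [← he b]
      exact (TopCat.Presheaf.germ_res_apply Z.presheaf (TopologicalSpace.Opens.leTop (U b)) x hx e).symm
    have h1 : ∀ x ∈ s, Z.presheaf.germ ⊤ x trivial e = 1 := fun x hx => by
      rw [hgerm true x hx]
      exact map_one _
    have h0 : ∀ x, x ∉ s → Z.presheaf.germ ⊤ x trivial e = 0 := fun x hx => by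
      rw [hgerm false x hx]
      exact map_zero _
    have hidem : IsIdempotentElem e := by
      refine TopCat.Presheaf.section_ext Z.sheaf ⊤ (e * e) e fun x hx => ?_
      refine (map_mul (Z.presheaf.germ ⊤ x trivial).hom e e).trans ?_
      by_cases hxs : x ∈ s
      · have := h1 x hxs
        exact (congrArg₂ (· * ·) this this).trans ((mul_one _).trans this.symm)
      · have := h0 x hxs
        exact (congrArg₂ (· * ·) this this).trans ((mul_zero _).trans this.symm)
    rcases hid e hidem with h | h
    · left
      rw [Set.eq_empty_iff_forall_notMem]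
      intro x hx
      have h2 := h1 x hx
      rw [h] at h2
      exact zero_ne_one (α := Z.presheaf.stalk x) ((map_zero _).symm.trans h2)
    · right
      rw [Set.eq_univ_iff_forall]
      intro x
      by_contra hx
      have h2 := h0 x hx
      rw [h] at h2
      exact one_ne_zero (α := Z.presheaf.stalk x) ((map_one _).symm.trans h2)

end Groth.Agent.S4495
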