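import Groth.Statements.S6200
import Groth.Agent.KSix.K239.StalkAmp
import Groth.Agent.Dcoh.TorAmp

set_option autoImplicit false
universe u
open CategoryTheory CategoryTheory.Limits AlgebraicGeometry
attribute [local instance] HasDerivedCategory.standard
open KSix

namespace Groth.Agent.S6200

open K239.StalkAmp Groth.Agent.Dcoh HomologicalComplex

theorem isFlatOverAt_id_iff {X : Scheme.{u}} (M : X.Modules) (x : X) :
    FlatMod.IsFlatOverAt (𝟙 X) M x ↔ FlatMod.IsFlatAt M x := by
  have h : (𝟙 X : X ⟶ X).stalkMap x = 𝟙 (X.presheaf.stalk x) := Scheme.Hom.stalkMap_id X x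
  have h2 : FlatMod.moduleStalkOver (𝟙 X) M x = FlatMod.moduleStalk M x := by
    refine Module.ext' _ _ fun r m => ?_
    have h1 : ((𝟙 X : X ⟶ X).stalkMap x).hom r = r := by rw [h]; rfl
    exact congrArg (fun s : X.presheaf.stalk x => s • m) h1
  unfold FlatMod.IsFlatOverAt FlatMod.IsFlatAt
  rw [h2]
  rfl

/-- The homology sheaves vanish where all the stalk complexes are exact. -/
theorem isZero_HD_of_exactAt {X Y : Scheme.{u}} (f : X ⟶ Y) (F : CochainComplex X.Modules ℤ) (i : ℤ)
    (h : ∀ x, ((DerSch.stalkCxOver f x).obj F).ExactAt i) : IsZero (DCoh.HD (DCoh.toD X F) i) := by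
  refine IsZero.of_iso ?_ ((DerivedCategory.homologyFunctorFactors X.Modules i).app F)
  refine StalkMod.isZero_of_subsingleton _ fun x => ?_
  have h1 := (h x)
  rw [exactAt_iff_isZero_homology] at h1
  have e : ((DerSch.stalkCxOver f x).obj F).homology i ≅ (DerSch.stalkOver f x).obj (F.homology i) :=
    (F.sc i).mapHomologyIso (DerSch.stalkOver f x)
  have := ModuleCat.subsingleton_of_isZero (h1.of_iso e.symm)
  exact this

/-- For the identity morphism of a scheme: let X be a scheme and E ∈ D⁻(O_X) be given by a cochain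
complex F. Then E has tor amplitude in [a, b] in the absolute sense (it is isomorphic in D(O_X) to a
complex of flat O_X-modules placed in [a, b]) if and only if at every point x the complex of stalks
F_x has tor amplitude in [a, b] over the local ring of X at x (tor amplitude relative to the
identity of X, stalkwise form). (The published statement is for a morphism of ringed topoi with
enough points and tor amplitude over the inverse image of the structure sheaf of the base; this row
is the case of the identity of a scheme.) -/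
theorem result {X : Scheme.{u}} (F : CochainComplex X.Modules ℤ) (d : ℤ)
    [(DCoh.toD X F).IsLE d] (a b : ℤ) :
    DCoh.HasFlatAmplitudeIn a b (DCoh.toD X F) ↔ DerSch.HasTorAmplitude (𝟙 X) a b F := by
  constructor
  · rintro ⟨E, h1, h2, ⟨e⟩⟩ x
    exact at_of_iso (𝟙 X) e x (at_of_flat (𝟙 X) h1 x fun i => (isFlatOverAt_id_iff _ x).2 (h2 i x))
  · intro h
    have hz : ∀ i, i < a ∨ b < i → IsZero (DCoh.HD (DCoh.toD X F) i) := fun i hi =>
      isZero_HD_of_exactAt (𝟙 X) F i fun x => exactAt_stalk_of_at (𝟙 X) (h x) i hi
    obtain ⟨L, h1, h2, ⟨e⟩⟩ := TorAmp.exists_flat_rep (DCoh.toD X F) b (fun i hi => hz i (Or.inr hi))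
    have hL : ∀ x, DerSch.HasTorAmplitudeAt (𝟙 X) a b L x := fun x => at_of_iso (𝟙 X) e.symm x (h x)
    have h4 : FlatMod.IsFlat (L.opcycles a) := fun x => (isFlatOverAt_id_iff _ x).1
      (flat_opcycles_of_at (𝟙 X) b (fun i hi => L.isZero_of_isStrictlyLE b i hi)
        (fun i => (isFlatOverAt_id_iff _ x).2 (h2 i x)) (hL x))
    have hGE : L.IsGE a := by
      rw [CochainComplex.isGE_iff]
      intro i hi
      rw [exactAt_iff_isZero_homology]
      exact (hz i (Or.inl hi)).of_iso
        (((DerivedCategory.homologyFunctorFactors X.Modules i).app L).symm ≪≫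
          (DerivedCategory.homologyFunctor _ i).mapIso e)
    refine ⟨L.truncGE a, ?_, ?_, ⟨(asIso (DerivedCategory.Q.map (L.πTruncGE a))).symm ≪≫ e⟩⟩
    · intro i hi
      rcases lt_trichotomy i a with hia | rfl | hia
      · exact (L.truncGE a).isZero_of_isStrictlyGE a i hia
      · have h0 : IsZero (L.X i) := L.isZero_of_isStrictlyLE b i (by omega)
        have h5 : IsZero (L.opcycles i) := by
          rw [IsZero.iff_id_eq_zero, ← cancel_epi (L.pOpcycles i)]
          exact h0.eq_of_src _ _
        exact h5.of_iso (L.truncGEXIsoOpcycles i)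
      · exact (L.isZero_of_isStrictlyLE b i (by omega)).of_iso (L.truncGEXIso a i hia)
    · intro i
      rcases lt_trichotomy i a with hi | rfl | hi
      · exact FlatRes.isFlat_of_isZero ((L.truncGE a).isZero_of_isStrictlyGE a i hi)
      · exact FlatRes.isFlat_of_iso (L.truncGEXIsoOpcycles i).symm h4
      · exact FlatRes.isFlat_of_iso (L.truncGEXIso a i hi).symm (h2 i)

end Groth.Agent.S6200
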