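import Groth.Statements.S6235
import Groth.Agent.KSix.K241.Chart
import Groth.Agent.PerfA.PCohQCoh
import Groth.Agent.Dual.H336.ReflectQC

set_option autoImplicit false
universe u
open CategoryTheory CategoryTheory.Limits AlgebraicGeometry
attribute [local instance] HasDerivedCategory.standard
open KSix

namespace Groth.Agent.S6235

open Groth.Agent.PerfA.Restrict Groth.Agent.PerfC.ClosedPush Groth.Agent.PerfC.ClosedImmPc
  Groth.Agent.PerfC.PcLocal K241.Chart

/-- Let f : X ⟶ Y be a morphism of schemes and E an object of D(O_X) which is pseudo-coherent relative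
to f (chart form, every degree; in particular f is locally of finite type). Then the cohomology
sheaves of E are quasi-coherent. -/
theorem result {X Y : Scheme.{u}} (f : X ⟶ Y) (E : DCoh.D X)
    (hE : DerSch.IsPseudoCoherentRelAll f E) : DCoh.IsQCohD E := by
  intro k
  refine Groth.Agent.PerfA.QCohSerre.isQCoh_of_restrict_opens _ fun x => ?_
  obtain ⟨U, P, i, hi, hP, hxU, hU, h⟩ := exists_local f (k - 1) E (hE (k - 1)) x
  refine ⟨U, hxU, ?_⟩
  have h1 := Groth.Agent.PerfA.PCohQCoh.isQCoh_HD_of_isPseudoCoherentD h k (by omega)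
  have h2 : Coh.IsQCoh ((Scheme.Modules.pushforward i).obj
      (DCoh.HD ((restrictD U.ι).obj E) k)) :=
    Groth.Agent.PerfA.QCohSerre.isQCoh_of_iso (pushHD i _ k) h1
  exact Groth.Agent.PerfA.QCohSerre.isQCoh_of_iso (HDrestrict U.ι E k)
    (Groth.Agent.Dual.H336.ReflectQC.isQCoh_of_pushforward i h2)

end Groth.Agent.S6235
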