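import Groth.Statements.S6236
import Groth.Agent.KSix.K241.Chart

set_option autoImplicit false
universe u
open CategoryTheory CategoryTheory.Limits AlgebraicGeometry
attribute [local instance] HasDerivedCategory.standard
open KSix

namespace Groth.Agent.S6236

open Groth.Agent.PerfA.Restrict Groth.Agent.PerfC.ClosedPush Groth.Agent.PerfC.ClosedImmPc
  Groth.Agent.PerfC.PcLocal K241.Chart

/-- Local boundedness above of a relatively pseudo-coherent object. -/
theorem exists_local_isLE {X Y : Scheme.{u}} (f : X ⟶ Y) (n : ℤ) (E : DCoh.D X)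
    (hE : DerSch.IsPseudoCoherentRel f n E) (x : X) :
    ∃ (W : Scheme.{u}) (j : W ⟶ X) (_ : IsOpenImmersion j) (y : W) (b : ℤ), j y = x ∧
      ((restrictD j).obj E).IsLE b := by
  obtain ⟨U, P, i, hi, hP, hxU, hU, h⟩ := exists_local f n E hE x
  obtain ⟨V, hz, hV⟩ := (pc_iff n _).1 h (i ⟨x, hxU⟩)
  obtain ⟨k, hk⟩ := exists_isLE_of_hasApprox (hV.of_iso ((pushDRestrict i V).app _))
  have h2 := isLE_of_isLE_pushD (i ∣_ V) _ _ hk
  refine ⟨(i ⁻¹ᵁ V : (U : Scheme.{u}).Opens), (i ⁻¹ᵁ V).ι ≫ U.ι, inferInstance, ⟨⟨x, hxU⟩, hz⟩,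
    n - 1 + k, rfl, ?_⟩
  have h3 : DerivedCategory.TStructure.t.IsLE
      ((restrictD U.ι ⋙ restrictD (i ⁻¹ᵁ V).ι).obj E) (n - 1 + k) := h2
  exact DerivedCategory.TStructure.t.isLE_of_iso ((restrictDComp (i ⁻¹ᵁ V).ι U.ι).app E) _

/-- Let f : X ⟶ Y be a morphism of schemes with X quasi-compact, n an integer, and E an object of D(O_X)
which is n-pseudo-coherent relative to f (chart form; in particular f is locally of finite type).
Then the cohomology of E is bounded above. (Without quasi-compactness of X the cohomology is only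
locally bounded above.) -/
theorem result {X Y : Scheme.{u}} [CompactSpace X] (f : X ⟶ Y) (n : ℤ)
    (E : DCoh.D X) (hE : DerSch.IsPseudoCoherentRel f n E) : ∃ b : ℤ, E.IsLE b := by
  choose W j hj y b hy hb using exists_local_isLE f n E hE
  obtain ⟨t, ht⟩ := CompactSpace.elim_nhds_subcover (fun x => ((j x).opensRange : Set X))
    (fun x => (j x).opensRange.isOpen.mem_nhds ⟨y x, hy x⟩)
  obtain ⟨B, hB⟩ : ∃ B : ℤ, ∀ x ∈ t, b x ≤ B := by
    obtain ⟨B, hB⟩ := (t.finite_toSet.image b).bddAbove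
    exact ⟨B, fun x hx => hB ⟨x, hx, rfl⟩⟩
  have hcov : ∀ z : X, ∃ x ∈ t, z ∈ (j x).opensRange := fun z => by
    have : z ∈ (⊤ : Set X) := trivial
    rw [← ht] at this
    simpa using this
  refine ⟨B, ?_⟩
  rw [DerivedCategory.isLE_iff]
  intro i hi
  refine isZero_of_restrict _ fun z => ?_
  obtain ⟨x, hx, w, hw⟩ := hcov z
  have hLE : ((restrictD (j x)).obj E).IsLE B :=
    DerivedCategory.TStructure.t.isLE_of_le _ _ _ (hB x hx)
  exact ⟨W x, j x, hj x, w, hw,
    (((restrictD (j x)).obj E).isZero_of_isLE B i hi).of_iso (HDrestrict (j x) E i).symm⟩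

end Groth.Agent.S6236
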