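import Groth.Statements.S14433
import Groth.Agent.Ega3A.Koszul

set_option autoImplicit false
universe u
open Koszul3

namespace Groth.Agent.S14433

open CategoryTheory CategoryTheory.Limits CochainComplex HomComplex in
/-- A null-homotopy of multiplication by `a` on `K` induces one on every cone of a multiplication. -/
lemma cone_of {R : Type u} [CommRing R] (K : CochainComplex (ModuleCat.{u} R) ℤ) (a f : R)
    (h : Homotopy (a • 𝟙 K) 0) : Nonempty (Homotopy (a • 𝟙 (mappingCone (f • 𝟙 K))) 0) := by
  obtain ⟨z, hz⟩ := Cochain.equivHomotopy _ _ h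
  have hz' : δ (-1) 0 z = Cochain.ofHom (a • 𝟙 K) := by rw [hz]; simp
  refine ⟨(Cochain.equivHomotopy _ _).symm
    ⟨-((mappingCone.fst (f • 𝟙 K)).1.comp (z.comp (mappingCone.inl (f • 𝟙 K)) (show (-1 : ℤ) + -1 = -2 by norm_num))
        (show (1 : ℤ) + -2 = -1 by norm_num)) +
      (mappingCone.snd (f • 𝟙 K)).comp (z.comp (Cochain.ofHom (mappingCone.inr (f • 𝟙 K))) (add_zero (-1)))
        (zero_add (-1)), ?_⟩⟩
  rw [δ_add, δ_neg, δ_comp _ _ _ 2 (-1) 0 (by norm_num) (by norm_num) (by norm_num),
    δ_comp _ _ _ 0 0 (-1) (by norm_num) (by norm_num) (by norm_num), δ_zero_cochain_comp _ _ _ (neg_add_cancel 1),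
    δ_comp_ofHom, hz', mappingCone.δ_inl, mappingCone.δ_snd, Cocycle.δ_eq_zero]
  have hid := mappingCone.id (f • 𝟙 K)
  have e1 : Cochain.ofHom (a • 𝟙 (mappingCone (f • 𝟙 K))) = a • Cochain.ofHom (𝟙 (mappingCone (f • 𝟙 K))) := by
    ext p; simp
  rw [e1, ← hid]
  simp only [mappingCone.ext_cochain_from_iff (f • 𝟙 K) (-1) 0 (neg_add_cancel 1)]
  constructor
  · ext p q hpq
    simp
  · ext p
    simp

open CategoryTheory CategoryTheory.Limits in
/-- The scalars acting null-homotopically on a complex are closed under sums and multiples. -/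
lemma nullHomotopic_of_mem_span {R : Type u} [CommRing R] (K : CochainComplex (ModuleCat.{u} R) ℤ) (s : Set R)
    (hs : ∀ x ∈ s, Nonempty (Homotopy (x • 𝟙 K) 0)) (a : R) (ha : a ∈ Ideal.span s) :
    Nonempty (Homotopy (a • 𝟙 K) 0) := by
  induction ha using Submodule.span_induction with
  | mem x hx => exact hs x hx
  | zero => exact ⟨Homotopy.ofEq (zero_smul _ _)⟩
  | add x y _ _ hx hy =>
    obtain ⟨hx⟩ := hx
    obtain ⟨hy⟩ := hy
    exact ⟨(Homotopy.ofEq (add_smul _ _ _)).trans ((hx.add hy).trans (Homotopy.ofEq (add_zero _)))⟩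
  | smul r x _ hx =>
    obtain ⟨hx⟩ := hx
    refine ⟨(Homotopy.ofEq ?_).trans ((hx.compRight (r • 𝟙 K)).trans (Homotopy.ofEq zero_comp))⟩
    rw [Linear.comp_smul, Category.comp_id, smul_eq_mul, mul_smul]

open CategoryTheory CategoryTheory.Limits in
/-- Let R be a commutative ring, M an R-module, x = (x_1, …, x_n) elements of R and a an element of the
ideal (x_1, …, x_n). Then multiplication by a on the Koszul complex K(x; M) is homotopic to the zero
map (so a annihilates every Koszul cohomology module, and K(x; M) is exact when the x_i generate the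
unit ideal). (The published statement is for the Koszul complex of a linear form φ : E → R and a ∈
φ(E); stated here for E free of finite rank, with the Koszul complex realised by iterated mapping
cones as in the prelude, which is isomorphic to the exterior-algebra complex.) -/
theorem result {R : Type u} [CommRing R] (M : Type u) [AddCommGroup M] [Module R M]
    (xs : List R) (a : R) (ha : a ∈ Ideal.span {x | x ∈ xs}) :
    Nonempty (Homotopy (a • 𝟙 (CohIII.koszulCx (ModuleCat.of R M) xs)) 0) := by
  refine nullHomotopic_of_mem_span _ _ ?_ a ha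
  clear ha a
  induction xs with
  | nil => intro x hx; simp at hx
  | cons f fs ih =>
    intro x hx
    rcases List.mem_cons.1 hx with rfl | hx
    · exact ⟨Groth.Agent.Ega3A.Koszul.coneSmulHomotopy (CohIII.koszulCx (ModuleCat.of R M) fs) x⟩
    · obtain ⟨h⟩ := ih x hx
      exact cone_of _ x f h

end Groth.Agent.S14433
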