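import Groth.Statements.S12459
import Groth.Agent.Props.K593.CatScheme
import Groth.Agent.CycB.SetupLft

set_option autoImplicit false
universe u
open CategoryTheory AlgebraicGeometry
open Props

namespace Groth.Agent.S12459

/-- For a locally Noetherian scheme S, the scheme S is universally catenary — every scheme X locally of
finite type over S has catenary underlying topological space — if and only if all local rings
O_{S,s} are universally catenary rings. (Schemes X over S are taken in the universe of S.) -/
theorem result (S : Scheme.{u}) [IsLocallyNoetherian S] :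
    (∀ (X : Scheme.{u}) (f : X ⟶ S), LocallyOfFiniteType f → PtTop.IsCatenarySpace X) ↔
      ∀ s : S, CAlg.IsUniversallyCatenary (S.presheaf.stalk s) := by
  constructor
  · intro h s
    obtain ⟨V, hV, hs, -⟩ := exists_isAffineOpen_mem_and_subset (X := S) (x := s) (U := ⊤) trivial
    have hVc : CAlg.IsUniversallyCatenary Γ(S, V) := by
      refine ⟨IsLocallyNoetherian.component_noetherian ⟨V, hV⟩, fun B _ _ hB => ?_⟩
      rw [Groth.Agent.Props.K593.CatScheme.isCatenary_iff_isCatenarySpace]
      have hft : LocallyOfFiniteType (Spec.map (CommRingCat.ofHom (algebraMap Γ(S, V) B))) := by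
        rw [HasRingHomProperty.Spec_iff (P := @LocallyOfFiniteType)]
        exact RingHom.finiteType_algebraMap.mpr hB
      exact h (Spec (CommRingCat.of B))
        (Spec.map (CommRingCat.ofHom (algebraMap Γ(S, V) B)) ≫ hV.fromSpec) inferInstance
    let : Algebra Γ(S, V) (S.presheaf.stalk s) := (S.presheaf.germ V s hs).hom.toAlgebra
    have h3 : IsLocalization.AtPrime (S.presheaf.stalk s) (hV.primeIdealOf ⟨s, hs⟩).asIdeal :=
      hV.isLocalization_stalk ⟨s, hs⟩
    exact Groth.Agent.CalgA.UnivCat.isUniversallyCatenary_of_isLocalization
      (hV.primeIdealOf ⟨s, hs⟩).asIdeal.primeCompl hVc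
  · intro h X f hf
    rw [Groth.Agent.Props.K593.CatScheme.isCatenarySpace_iff_stalk]
    intro x
    exact Groth.Agent.CalgA.UnivCat.isCatenary_of_isUniversallyCatenary
      (Groth.Agent.CycB.SetupLft.isUniversallyCatenary_stalk f h x)

end Groth.Agent.S12459
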