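import Groth.Statements.S5572
-- import your own Groth.Agent.* helpers here
import Groth.Agent.RedSub.K197.SplitChar
import Groth.Agent.RedSub.K197.SecKer

set_option autoImplicit false
open CategoryTheory MonoidalCategory CartesianMonoidalCategory MonObj GrpObj AlgebraicGeometry
universe u
open RedSub

namespace Groth.Agent.S5572

/-- Let G be a split reductive S-group (splitting D, T ≅ D_S(M)) and N = {m | (α*, m) = 0 for all
coroots}, so that T/T' = D_S(N). Then there is a homomorphism f : G ⟶ D_S(N) inducing on T the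
canonical projection; any kernel of f is smooth over S with connected fibres and is killed by every
homomorphism from G to a commutative S-group scheme. -/
theorem result {S : Scheme.{u}} {G : Over S} [GrpObj G] (D : Red.SplitRed G)
    (N : AddSubgroup D.M) (hN : ∀ m : D.M, m ∈ N ↔ ∀ a : D.idx, D.P.coroot a m = 0) :
    ∃ f : G ⟶ Red.DS S ↥N, IsMonHom f ∧ D.i ≫ f = D.split.hom.hom.hom ≫ Red.DSmap S N.subtype ∧
      ∀ (K : Over S) [GrpObj K] (k : K ⟶ G) [IsMonHom k], AlgGrp.IsKernel k f →
        Smooth K.hom ∧ RedSub.HasConnectedFibres K ∧ RedSub.KilledByCommutative k := by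
  obtain ⟨f, hf⟩ := K197.SplitChar.exists_char D N hN
  have hmon := hf.hom
  refine ⟨f, hf.hom, hf.torus, fun K _ k _ hk => ?_⟩
  obtain ⟨τ, hτ, hτf⟩ := hf.sec
  have hi : IsMonHom D.i := D.maximalTorus.1
  have h := K197.SecKer.main f (τ ≫ D.i) (by rw [Category.assoc, hτf]) hk D.reductive
    (Groth.Agent.RedSub.H654.LocChart.isAffineHom_DS S N)
  exact ⟨h.1, h.2, fun A _ g _ hA => hf.kill A hA g K k hk.w⟩

end Groth.Agent.S5572
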