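import Groth.Statements.S16782
import Groth.Agent.SGA3x.K983.ProperFib
import Groth.Agent.RedSub.H672.NormQuot
import Groth.Agent.SGA3x.K16.PreimMain
import Groth.Agent.Sga3C.QuotProps

set_option autoImplicit false
open CategoryTheory MonoidalCategory CartesianMonoidalCategory MonObj GrpObj AlgebraicGeometry
universe u
open SGA3x

namespace Groth.Agent.S16782

open Limits in
/-- Geometric connectedness passes to the target of a surjective morphism. -/
theorem geometricallyConnected_of_surjective {X Y S : Scheme.{u}} (q : X ⟶ Y) (g : Y ⟶ S) [Surjective q]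
    [h : GeometricallyConnected (q ≫ g)] : GeometricallyConnected g := by
  refine ⟨?_⟩
  intro K _ y Z fst snd hp
  have h1 : IsPullback (pullback.fst q fst) (pullback.snd q fst ≫ snd) (q ≫ g) y :=
    ((IsPullback.of_hasPullback q fst).flip.paste_horiz hp.flip).flip
  have h2 : ConnectedSpace ↥(pullback q fst) := h.geometrically_connectedSpace _ _ _ h1
  exact (pullback.snd q fst).surjective.connectedSpace (pullback.snd q fst).continuous

/-- A flat group scheme, locally of finite type with connected fibres, is geometrically connected. -/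
theorem geometricallyConnected_group {S : Scheme.{u}} {X : Over S} [GrpObj X] [LocallyOfFiniteType X.hom]
    (h : ∀ s : S, _root_.IsConnected (X.hom.base ⁻¹' {s})) : GeometricallyConnected X.hom := by
  have : GrpObj (Over.mk X.hom) := inferInstanceAs (GrpObj X)
  have h1 : GeometricallyIrreducible X.hom := Sga3C.GrpIrr.geometricallyIrreducible_of_connected_fibres X.hom h
  refine ⟨?_⟩
  intro K _ y Z fst snd hp
  have : IrreducibleSpace Z := h1.geometrically_irreducibleSpace _ _ _ hp
  change ConnectedSpace Z
  infer_instance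

theorem comp_eq_iff {S : Scheme.{u}} {G H Q : Over S} [GrpObj G] (i : H ⟶ G) {q : G ⟶ Q}
    (hq : RedSub.IsQuotient i q) {T : Over S} (x y : T ⟶ G) :
    x ≫ q = y ≫ q ↔ ∃ h : T ⟶ H, y = x * (h ≫ i) := by
  have hμ : (G ◁ i) ≫ μ[G] = fst G H * (snd G H ≫ i) := by
    rw [Hom.mul_def]
    congr 1
  have hp := hq.2.2.2
  rw [hμ] at hp
  constructor
  · intro h
    refine ⟨hp.lift x y h ≫ snd G H, ?_⟩
    have h1 := hp.lift_snd x y h
    rw [comp_mul, hp.lift_fst] at h1
    rw [Category.assoc]
    exact h1.symm
  · rintro ⟨h, rfl⟩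
    have h1 := congrArg (fun z => lift x h ≫ z) hp.w
    simp only [← Category.assoc] at h1
    rw [lift_fst, comp_mul, lift_fst, lift_snd_assoc] at h1
    exact h1

/-- Uniqueness of the quotient. -/
theorem nonempty_iso {S : Scheme.{u}} {G H Q Q' : Over S} [GrpObj G] (i : H ⟶ G) {q : G ⟶ Q}
    (hq : RedSub.IsQuotient i q) {q' : G ⟶ Q'} (hq' : RedSub.IsQuotient i q') : Nonempty (Q ≅ Q') := by
  have hqs := hq.1
  have hqf := hq.2.1
  have hqp := hq.2.2.1
  have hqs' := hq'.1
  have hqf' := hq'.2.1
  have hqp' := hq'.2.2.1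
  obtain ⟨a, ha⟩ := Groth.Agent.Sga3C.QuotProps.exists_desc q q' fun T x y h =>
    (comp_eq_iff i hq' x y).2 ((comp_eq_iff i hq x y).1 h)
  obtain ⟨b, hb⟩ := Groth.Agent.Sga3C.QuotProps.exists_desc q' q fun T x y h =>
    (comp_eq_iff i hq x y).2 ((comp_eq_iff i hq' x y).1 h)
  have := Groth.Agent.Sga3C.QuotProps.epi_of_flat_surjective q
  have := Groth.Agent.Sga3C.QuotProps.epi_of_flat_surjective q'
  refine ⟨⟨a, b, ?_, ?_⟩⟩
  · rw [← cancel_epi q, ← Category.assoc, ha, hb, Category.comp_id]
  · rw [← cancel_epi q', ← Category.assoc, hb, ha, Category.comp_id]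

/-- A proper locally quasi-projective scheme is locally projective. -/
theorem isLocallyProjective {S : Scheme.{u}} {Q Q' : Over S} (e : Q ≅ Q') [IsProper Q.hom]
    (h : RedSub.IsLocallyQuasiProjective Q') : RedSub.IsLocallyProjective Q := by
  intro s
  obtain ⟨V, hsV, n, j, hj, hjw⟩ := h s
  have e' : Red.bc V.ι Q ≅ Red.bc V.ι Q' := (Over.pullback V.ι).mapIso e
  have hw : (e'.hom.left ≫ j) ≫ CohB1.ProjSpaceOver.toBase n (V : Scheme.{u}) = (Red.bc V.ι Q).hom := by
    rw [Category.assoc, hjw, Over.w]
  have hP : IsProper (CohB1.ProjSpaceOver.toBase n (V : Scheme.{u})) := Ega3B.ProjProper.isProper_toBase _ _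
  have h1 : IsProper ((e'.hom.left ≫ j) ≫ CohB1.ProjSpaceOver.toBase n (V : Scheme.{u})) := by
    rw [hw]
    exact inferInstanceAs (IsProper (Limits.pullback.snd Q.hom V.ι))
  have h2 : IsProper (e'.hom.left ≫ j) := IsProper.of_comp _ (CohB1.ProjSpaceOver.toBase n (V : Scheme.{u}))
  have h3 : IsImmersion (e'.hom.left ≫ j) := inferInstance
  refine ⟨V, hsV, n, e'.hom.left ≫ j, ?_, hw⟩
  exact IsClosedImmersion.of_isPreimmersion _ (Scheme.Hom.isClosedMap _).isClosed_range

/-- Let G be a smooth affine group scheme with connected fibres over a scheme S, H ⊆ G a smooth closed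
subgroup scheme with connected fibres which is its own normalizer, and G → Q = G/H the quotient. If
the fibres of Q over the points of S are proper, then Q is proper over S and locally on S a closed
subscheme of a projective space. (The published statement assumes the geometric fibres projective,
which is equivalent here, and also exhibits a canonical S-ample line bundle, the dual of the
determinant of the Lie algebra of the universal conjugate of H; that clause is not stated.) -/
theorem result {S : Scheme.{u}} (G H Q : Over S) [GrpObj G] [GrpObj H]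
    (hG : Smooth G.hom) (hGa : IsAffineHom G.hom) (hGc : ∀ s : S, _root_.IsConnected (G.hom.base ⁻¹' {s}))
    (i : H ⟶ G) [IsMonHom i] (hi : IsClosedImmersion i.left) (hH : Smooth H.hom)
    (hHc : ∀ s : S, _root_.IsConnected (H.hom.base ⁻¹' {s})) (hN : Red.IsNormalizerOf i i)
    (q : G ⟶ Q) (hq : RedSub.IsQuotient i q) (hprop : ∀ s : S, IsProper (Q.hom.fiberToSpecResidueField s)) :
    IsProper Q.hom ∧ RedSub.IsLocallyProjective Q := by
  have hm : Mono i := Over.mono_of_mono_left i
  have hHa : IsAffineHom H.hom := by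
    rw [← Over.w i]
    infer_instance
  obtain ⟨Q', q', hq', h1, h2, h3, h4⟩ := Groth.Agent.RedSub.H672.NormQuot.exists_quotient i i hHc hN
  obtain ⟨e⟩ := nonempty_iso i hq hq'
  have he : Q.hom = e.hom.left ≫ Q'.hom := (Over.w e.hom).symm
  have a1 : Smooth Q.hom := by
    rw [he]
    infer_instance
  have a2 : QuasiCompact Q.hom := by
    rw [he]
    infer_instance
  have a3 : IsSeparated Q.hom := by
    rw [he]
    infer_instance
  have hqs := hq.1
  have hgc : GeometricallyConnected G.hom := geometricallyConnected_group hGc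
  have a4 : GeometricallyConnected Q.hom := by
    have : GeometricallyConnected (q.left ≫ Q.hom) := by
      rw [Over.w]
      exact hgc
    exact geometricallyConnected_of_surjective q.left Q.hom
  have a5 : Surjective Q.hom := by
    refine ⟨fun s => ?_⟩
    obtain ⟨x, hx⟩ := (hGc s).nonempty
    refine ⟨q.left x, ?_⟩
    rw [← Scheme.Hom.comp_apply, Over.w]
    exact hx
  have a6 : IsProper Q.hom := K983.ProperFib.isProper Q.hom hprop
  exact ⟨a6, isLocallyProjective e h4⟩

end Groth.Agent.S16782
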