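import Groth.Statements.S5015
import Groth.Agent.OmegaSh.K583.ExistsUniv
import Groth.Agent.Nrm16.K137.Basic
import Groth.Agent.Unram17.K134.OmegaZero

set_option autoImplicit false
universe u
open CategoryTheory CategoryTheory.Limits AlgebraicGeometry TopologicalSpace
open Unram17

namespace Groth.Agent.S5015

open K137.Basic K583.DerAffine OmegaSh

/-- Let g : Y ⟶ S and h : X ⟶ S be morphisms and f : X ⟶ Y with f ≫ g = h. Given sheaves of
differentials of Y over S and of X over S (universal derivations dY, dX) and the canonical map c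
from the pullback of the former to the latter (the O_X-linear map carrying the pullback of dY s to
dX of the pullback of s), f is formally unramified if and only if c is an epimorphism of
O_X-modules. -/
theorem result {X Y S : Scheme.{u}} (g : Y ⟶ S) (h : X ⟶ S)
    (f : X ⟶ Y) (w : f ≫ g = h)
    (ΩY : Y.Modules) (dY : OmegaSh.Der g ΩY) (hY : OmegaSh.IsUniversal dY)
    (ΩX : X.Modules) (dX : OmegaSh.Der h ΩX) (hX : OmegaSh.IsUniversal dX)
    (c : (Scheme.Modules.pullback f).obj ΩY ⟶ ΩX) (hc : OmegaSh.IsDiffCompat f dY dX c) :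
    FormallyUnramified f ↔ Epi c := by
  subst w
  obtain ⟨ΩXY, dXY, hXY⟩ := K583.ExistsUniv.exists_isUniversal (f := f)
  rw [K134.OmegaZero.formallyUnramified_iff hXY]
  -- uniqueness of maps out of `ΩX` and `ΩXY`
  have extX : ∀ {N : X.Modules} {a b : ΩX ⟶ N},
      (∀ (U : X.Opens) (s : Γ(X, U)), a.app U (dX.app U s) = b.app U (dX.app U s)) → a = b := by
    intro N a b h
    refine (hX N (dX.postcomp a.val)).unique rfl ?_
    exact ext_of_app (D := dX.postcomp b.val) (D' := dX.postcomp a.val) (fun U s => (h U s).symm)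
  have extXY : ∀ {N : X.Modules} {a b : ΩXY ⟶ N},
      (∀ (U : X.Opens) (s : Γ(X, U)), a.app U (dXY.app U s) = b.app U (dXY.app U s)) → a = b := by
    intro N a b h
    refine (hXY N (dXY.postcomp a.val)).unique rfl ?_
    exact ext_of_app (D := dXY.postcomp b.val) (D' := dXY.postcomp a.val) (fun U s => (h U s).symm)
  constructor
  · intro hz
    refine Preadditive.epi_of_cancel_zero _ fun {N} k hk => ?_
    -- `k ∘ dX` kills the functions on `Y`
    have h0 : ∀ (V : Y.Opens) (a : Γ(Y, V)), k.app (f ⁻¹ᵁ V) (dX.app (f ⁻¹ᵁ V) (f.app V a)) = 0 := by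
      intro V a
      rw [← hc]
      exact congr(($(hk).app (f ⁻¹ᵁ V)) (pullSect f ΩY V (dY.app V a)))
    let D : Der f N := mkDer f N (fun U => (k.app U).hom.comp (dX.app U))
      (fun U a b => by
        change k.app U (dX.app U (a * b)) = a • k.app U (dX.app U b) + b • k.app U (dX.app U a)
        rw [app_mul, map_add, Scheme.Modules.Hom.app_smul, Scheme.Modules.Hom.app_smul])
      (fun U V h a => by
        change k.app V (dX.app V (X.presheaf.map (homOfLE h).op a)) = _
        rw [app_map]
        exact congr($((Scheme.Modules.Hom.mapPresheaf k).naturality (homOfLE h).op) (dX.app U a)))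
      h0
    obtain ⟨l, hl, -⟩ := hXY N D
    have hl0 : l = 0 := hz.eq_of_src _ _
    refine extX fun U s => ?_
    have h1 : l.app U (dXY.app U s) = k.app U (dX.app U s) := congrArg (fun D => Der.app (F := N) D U s) hl
    rw [← h1, hl0]
    rfl
  · intro hepi
    let D : Der (f ≫ g) ΩXY := mkDer (f ≫ g) ΩXY (fun U => dXY.app U) (fun U a b => app_mul dXY U a b)
      (fun U V h a => app_map dXY h a) (fun V a => app_base dXY (g ⁻¹ᵁ V) (g.app V a))
    obtain ⟨l, hl, -⟩ := hX ΩXY D
    have h1 : ∀ (U : X.Opens) (s : Γ(X, U)), l.app U (dX.app U s) = dXY.app U s := fun U s =>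
      congrArg (fun D => Der.app (F := ΩXY) D U s) hl
    have hcl : adj f (c ≫ l) = 0 := by
      refine (hY _ (dY.postcomp (adj f (c ≫ l)).val)).unique rfl ?_
      refine ext_of_app (D := dY.postcomp (0 : ΩY ⟶ (Scheme.Modules.pushforward f).obj ΩXY).val)
        (D' := dY.postcomp (adj f (c ≫ l)).val) (fun U s => ?_)
      change (0 : Γ((Scheme.Modules.pushforward f).obj ΩXY, U)) = (adj f (c ≫ l)).app U (dY.app U s)
      rw [adj_app]
      change _ = l.app (f ⁻¹ᵁ U) (c.app (f ⁻¹ᵁ U) (pullSect f ΩY U (dY.app U s)))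
      rw [hc, h1]
      exact (app_base dXY U s).symm
    have hcl' : c ≫ l = 0 := by
      apply pull_hom_ext
      intro U s
      rw [← adj_app, hcl]
      rfl
    have hl0 : l = 0 := by
      rw [← cancel_epi c, hcl', comp_zero]
    rw [IsZero.iff_id_eq_zero]
    refine extXY fun U s => ?_
    rw [← h1, hl0]
    rfl

end Groth.Agent.S5015
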