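import Groth.Statements.S18158
import Groth.Agent.S0118
import Mathlib.RingTheory.WittVector.Teichmuller
import Mathlib.RingTheory.WittVector.Domain

set_option autoImplicit false
universe u
open CategoryTheory CategoryTheory.Limits AlgebraicGeometry
open Lift

namespace Groth.Agent.S18158

/-- The residue map `W₂(k) → k` is surjective. -/
theorem res_surjective (p : ℕ) [Fact p.Prime] (k : Type u) [CommRing k] :
    Function.Surjective (FrobAlg.res p k) := by
  intro a
  exact ⟨WittVector.truncate 2 (WittVector.teichmuller p a), by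
    rw [FrobAlg.res_truncate, WittVector.teichmuller_coeff_zero]⟩

/-- The kernel of the residue map `W₂(k) → k` has square zero. -/
theorem mul_eq_zero_of_res_eq_zero (p : ℕ) [Fact p.Prime] (k : Type u) [CommRing k] [CharP k p]
    (x y : FrobAlg.W2 p k) (hx : FrobAlg.res p k x = 0) (hy : FrobAlg.res p k y = 0) :
    x * y = 0 := by
  obtain ⟨X, rfl⟩ := WittVector.truncate_surjective p 2 k x
  obtain ⟨Y, rfl⟩ := WittVector.truncate_surjective p 2 k y
  rw [FrobAlg.res_truncate] at hx hy
  have hX := WittVector.eq_iterate_verschiebung (n := 1) (x := X) (by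
    intro i hi
    obtain rfl : i = 0 := by omega
    exact hx)
  have hY := WittVector.eq_iterate_verschiebung (n := 1) (x := Y) (by
    intro i hi
    obtain rfl : i = 0 := by omega
    exact hy)
  rw [← map_mul, ← RingHom.mem_ker, WittVector.mem_ker_truncate]
  intro i hi
  rw [hX, hY, WittVector.iterate_verschiebung_mul]
  exact WittVector.iterate_verschiebung_coeff_eq_zero _ hi

theorem isNilpotent_of_res_eq_zero (p : ℕ) [Fact p.Prime] (k : Type u) [CommRing k] [CharP k p]
    (x : FrobAlg.W2 p k) (hx : FrobAlg.res p k x = 0) : IsNilpotent x :=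
  ⟨2, by rw [pow_two]; exact mul_eq_zero_of_res_eq_zero p k x x hx hx⟩

/-- `Spec k → Spec W₂(k)` is surjective. -/
theorem surjective_SpecMap_res (p : ℕ) [Fact p.Prime] (k : Type u) [CommRing k] [CharP k p] :
    Surjective (Spec.map (CommRingCat.ofHom (FrobAlg.res p k))) := by
  refine ⟨fun x => ?_⟩
  have h := range_comap_of_surjective _ (FrobAlg.res p k) (res_surjective p k)
  have hx : x ∈ Set.range (PrimeSpectrum.comap (FrobAlg.res p k)) := by
    rw [h]
    intro y hy
    exact (x : PrimeSpectrum _).isPrime.mem_of_pow_mem 2 (by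
      have := mul_eq_zero_of_res_eq_zero p k y y hy hy
      rw [pow_two, this]; exact Ideal.zero_mem _)
  obtain ⟨y, hy⟩ := hx
  exact ⟨y, hy⟩

/-- Let k be an algebraically closed field of characteristic p and q : Y → X an étale morphism to a
smooth k-scheme X. Suppose X has a W_2-lifting of its Frobenius: a scheme X~ flat over Spec W_2(k),
a morphism i : X → X~ making X the base change of X~ along Spec k → Spec W_2(k) (the residue map),
and an endomorphism F~ of X~ with i ∘ F_X = F~ ∘ i, F_X the absolute Frobenius. Then Y has one as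
well: there are a scheme Y~ flat over Spec W_2(k), a morphism j : Y → Y~ making Y the base change of
Y~ along the same map, and an endomorphism G~ of Y~ with j ∘ F_Y = G~ ∘ j. (The source speaks of an
étale cover Y → X of smooth varieties; its argument uses only that Y is étale over X and that X
lifts, so X is taken smooth over k and Y étale over X, with no integrality, separatedness or
quasi-compactness assumed.) -/
theorem result
    (p : ℕ) [Fact p.Prime] (k : Type u) [Field k] [IsAlgClosed k] [CharP k p]
    (X Y : Scheme.{u}) (f : X ⟶ Spec (CommRingCat.of k)) [Smooth f]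
    (q : Y ⟶ X) [AlgebraicGeometry.Etale q]
    [FrobSch.IsCharP X p] [FrobSch.IsCharP Y p]
    (Xl : Scheme.{u}) (g : Xl ⟶ Spec (CommRingCat.of (FrobAlg.W2 p k))) [Flat g]
    (i : X ⟶ Xl) (hsq : IsPullback i f g (Spec.map (CommRingCat.ofHom (FrobAlg.res p k))))
    (Fl : Xl ⟶ Xl) (hF : i ≫ Fl = FrobSch.frob X p ≫ i) :
    ∃ (Yl : Scheme.{u}) (gY : Yl ⟶ Spec (CommRingCat.of (FrobAlg.W2 p k))) (j : Y ⟶ Yl) (Gl : Yl ⟶ Yl),
      Flat gY ∧ IsPullback j (q ≫ f) gY (Spec.map (CommRingCat.ofHom (FrobAlg.res p k))) ∧
        j ≫ Gl = FrobSch.frob Y p ≫ j := by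
  have hcl : IsClosedImmersion (Spec.map (CommRingCat.ofHom (FrobAlg.res p k))) :=
    IsClosedImmersion.spec_of_surjective _ (res_surjective p k)
  have hsu := surjective_SpecMap_res p k
  have hi1 : IsClosedImmersion i := MorphismProperty.of_isPullback hsq.flip hcl
  have hi2 : Surjective i := MorphismProperty.of_isPullback hsq.flip hsu
  have he := Groth.Agent.S0118.result i
  obtain ⟨V, ⟨e⟩⟩ := he.essSurj.mem_essImage (Scheme.Etale.mk q)
  let e' : pullback V.hom i ≅ Y := (Over.forget X).mapIso ((Scheme.Etale.forget X).mapIso e)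
  have he' : e'.hom ≫ q = pullback.snd V.hom i := Over.w ((Scheme.Etale.forget X).map e.hom)
  let j : Y ⟶ V.left := e'.inv ≫ pullback.fst V.hom i
  have hj : IsPullback j q V.hom i := by
    refine IsPullback.of_iso (IsPullback.of_hasPullback V.hom i) e' (Iso.refl _) (Iso.refl _) (Iso.refl _) ?_ ?_ ?_ ?_
    · simp [j]
    · simp [he']
    · simp
    · simp
  have hV : AlgebraicGeometry.Etale V.hom := V.prop
  obtain ⟨Gl, hG1, hG2⟩ := Groth.Agent.Etbase.TopInv.exists_lift_of_univHomeo V.hom (V.hom ≫ Fl) j
    (FrobSch.frob Y p ≫ j) (by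
      rw [Category.assoc, hj.w, ← Category.assoc, ← Category.assoc, hj.w, FrobSch.frob_comp,
        Category.assoc, Category.assoc, hF])
  refine ⟨V.left, V.hom ≫ g, j, Gl, inferInstance, hj.paste_vert hsq, hG2⟩

end Groth.Agent.S18158
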