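import Groth.Statements.S16276
import Groth.Agent.HodgeNum.K882.KunnethNum
import Groth.Agent.S7635
import Groth.Agent.Ega3B.ProjProper

set_option autoImplicit false
universe u
open CategoryTheory CategoryTheory.Limits AlgebraicGeometry
open HodgeNum

namespace Groth.Agent.S16276

/-- Let k be an algebraically closed field of characteristic p > 0 and X₁, X₂ smooth projective
k-varieties (integral k-schemes, smooth over k, each with a closed immersion into some projective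
space over k), and let X = X₁ ×_k X₂ with its k-structure through the first projection. Then
h^{p,q}(X) = Σ_{p₁+p₂=p, q₁+q₂=q} h^{p₁,q₁}(X₁) · h^{p₂,q₂}(X₂) for all p, q: if E₁ i and E₂ i are
i-th exterior powers of Ω_{X₁/k} and Ω_{X₂/k} for every i and E is a p-th exterior power of Ω_{X/k},
the dimension of H^q(X, E) over k is the double sum over 0 ≤ i ≤ p and 0 ≤ j ≤ q of dim_k H^j(X₁, E₁
i) · dim_k H^{q-j}(X₂, E₂ (p-i)). -/
theorem result (k : Type u) [Field k] [IsAlgClosed k]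
    (pc : ℕ) [Fact pc.Prime] [CharP k pc] (N₁ N₂ : ℕ)
    (X₁ X₂ : Scheme.{u}) [X₁.Over (Spec (CommRingCat.of k))] [X₂.Over (Spec (CommRingCat.of k))] [IsIntegral X₁] [IsIntegral X₂]
    [AlgebraicGeometry.Smooth (X₁ ↘ Spec (CommRingCat.of k))] [AlgebraicGeometry.Smooth (X₂ ↘ Spec (CommRingCat.of k))]
    (ι₁ : X₁ ⟶ CohB1.ProjSpace N₁ k) [IsClosedImmersion ι₁] (hι₁ : ι₁ ≫ CohB1.ProjSpace.toSpec N₁ k = X₁ ↘ Spec (CommRingCat.of k))
    (ι₂ : X₂ ⟶ CohB1.ProjSpace N₂ k) [IsClosedImmersion ι₂] (hι₂ : ι₂ ≫ CohB1.ProjSpace.toSpec N₂ k = X₂ ↘ Spec (CommRingCat.of k))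
    [(pullback (X₁ ↘ Spec (CommRingCat.of k)) (X₂ ↘ Spec (CommRingCat.of k))).Over (Spec (CommRingCat.of k))]
    (hover : pullback (X₁ ↘ Spec (CommRingCat.of k)) (X₂ ↘ Spec (CommRingCat.of k)) ↘ Spec (CommRingCat.of k) = pullback.fst (X₁ ↘ Spec (CommRingCat.of k)) (X₂ ↘ Spec (CommRingCat.of k)) ≫ (X₁ ↘ Spec (CommRingCat.of k)))
    (E₁ : ℕ → X₁.Modules) (hE₁ : ∀ i, ExtPow.IsExtPow i (Omega.sheaf (X₁ ↘ Spec (CommRingCat.of k))) (E₁ i))
    (E₂ : ℕ → X₂.Modules) (hE₂ : ∀ i, ExtPow.IsExtPow i (Omega.sheaf (X₂ ↘ Spec (CommRingCat.of k))) (E₂ i))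
    (p q : ℕ) (E : (pullback (X₁ ↘ Spec (CommRingCat.of k)) (X₂ ↘ Spec (CommRingCat.of k))).Modules)
    (hE : ExtPow.IsExtPow p (Omega.sheaf (pullback (X₁ ↘ Spec (CommRingCat.of k)) (X₂ ↘ Spec (CommRingCat.of k)) ↘ Spec (CommRingCat.of k))) E) :
    Module.finrank k (Coh.HH (pullback (X₁ ↘ Spec (CommRingCat.of k)) (X₂ ↘ Spec (CommRingCat.of k))) E q) =
      ∑ i ∈ Finset.range (p + 1), ∑ j ∈ Finset.range (q + 1),
        Module.finrank k (Coh.HH X₁ (E₁ i) j) * Module.finrank k (Coh.HH X₂ (E₂ (p - i)) (q - j)) := by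
  have hp1 : IsProper (X₁ ↘ Spec (CommRingCat.of k)) := by
    have := Groth.Agent.Ega3B.ProjProper.isProper_toSpec N₁ k
    rw [← hι₁]; infer_instance
  have hp2 : IsProper (X₂ ↘ Spec (CommRingCat.of k)) := by
    have := Groth.Agent.Ega3B.ProjProper.isProper_toSpec N₂ k
    rw [← hι₂]; infer_instance
  refine (K882.ProdHodge.hd_prod k X₁ X₂ _ _ hover E₁ hE₁ E₂ hE₂ p q E hE).trans ?_
  refine Finset.sum_congr rfl fun i _ => ?_
  exact K882.KunnethNum.hd_kunneth k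
    (fun X _ _ _ Y _ _ _ F hF G hG n => Groth.Agent.S7635.result k X Y F hF G hG n) X₁ X₂ hover
    (E₁ i) (Groth.Agent.Sga67.LocBasis.isFinLocFree_of_isExtPow
      (Groth.Agent.Vancyc.H878.OmegaRank.isFinLocFree_omega (X₁ ↘ Spec (CommRingCat.of k))) (hE₁ i))
    (E₂ (p - i)) (Groth.Agent.Sga67.LocBasis.isFinLocFree_of_isExtPow
      (Groth.Agent.Vancyc.H878.OmegaRank.isFinLocFree_omega (X₂ ↘ Spec (CommRingCat.of k))) (hE₂ (p - i))) q

end Groth.Agent.S16276
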