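import Groth.Statements.S4608
import Mathlib.AlgebraicGeometry.Limits
import Mathlib.AlgebraicGeometry.Morphisms.Finite
import Mathlib.AlgebraicGeometry.Morphisms.ClosedImmersion
import Mathlib.AlgebraicGeometry.Morphisms.Separated

set_option autoImplicit false
universe u
open AlgebraicGeometry CategoryTheory CategoryTheory.Limits
open EGA41

namespace Groth.Agent.S4608

lemma isClosed_range_inl (X Y : Scheme.{u}) :
    IsClosed (Set.range (coprod.inl : X ⟶ X ⨿ Y)) := by
  have h := (isCompl_range_inl_inr X Y).compl_eq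
  rw [← isOpen_compl_iff, h]
  exact (coprod.inr : Y ⟶ X ⨿ Y).isOpenEmbedding.isOpen_range

lemma isClosed_range_inr (X Y : Scheme.{u}) :
    IsClosed (Set.range (coprod.inr : Y ⟶ X ⨿ Y)) := by
  have h := (isCompl_range_inl_inr X Y).symm.compl_eq
  rw [← isOpen_compl_iff, h]
  exact (coprod.inl : X ⟶ X ⨿ Y).isOpenEmbedding.isOpen_range

lemma isClosedImmersion_inl (X Y : Scheme.{u}) :
    IsClosedImmersion (coprod.inl : X ⟶ X ⨿ Y) :=
  .of_isPreimmersion _ (isClosed_range_inl X Y)

lemma isClosedImmersion_inr (X Y : Scheme.{u}) :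
    IsClosedImmersion (coprod.inr : Y ⟶ X ⨿ Y) :=
  .of_isPreimmersion _ (isClosed_range_inr X Y)

lemma coprod_desc_eq {S U V : Scheme.{u}} (f : U ⟶ S) (g : V ⟶ S) :
    coprod.desc f g = coprod.map f g ≫ coprod.desc (𝟙 S) (𝟙 S) := by
  simp


/-- A morphism from a disjoint union X' ⨿ X'' → Y is quasi-compact if and only if its two components
are. -/
theorem result {X' X'' Y : Scheme.{u}} (f' : X' ⟶ Y) (f'' : X'' ⟶ Y) :
    QuasiCompact (coprod.desc f' f'') ↔ QuasiCompact f' ∧ QuasiCompact f'' := by
  constructor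
  · intro h
    have h1 := isClosedImmersion_inl X' X''
    have h2 := isClosedImmersion_inr X' X''
    constructor
    · rw [← coprod.inl_desc f' f'']
      infer_instance
    · rw [← coprod.inr_desc f' f'']
      infer_instance
  · rintro ⟨h1, h2⟩
    rw [coprod_desc_eq]
    have h1 : QuasiCompact (coprod.map f' f'') := IsZariskiLocalAtTarget.coprodMap f' f'' ‹_› ‹_›
    infer_instance

end Groth.Agent.S4608
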