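import Groth.Statements.S13624
import Groth.Agent.S3617

set_option autoImplicit false
universe u
open CategoryTheory CategoryTheory.Limits AlgebraicGeometry Opposite
open Goren

namespace Groth.Agent.S13624

theorem gor_fiber {X Y : Scheme.{u}} (f : X ⟶ Y) (x : X) (y : Y) (hy : f x = y) (x' : f.fiber y)
    (hx' : f.fiberι y x' = x)
    (h : LocCoh.IsGorensteinLocalRing ((f.fiber (f x)).presheaf.stalk (f.asFiber x))) :
    LocCoh.IsGorensteinLocalRing ((f.fiber y).presheaf.stalk x') := by
  subst hy
  have h1 : x' = f.asFiber x := by
    apply (f.fiberι (f x)).isEmbedding.injective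
    rw [hx', f.fiberι_asFiber]
  subst h1
  exact h

/-- Let f : X → Y be a proper, flat morphism of schemes which is locally of finite presentation. Then
the set of points y of Y whose scheme-theoretic fibre X_y = X ×_Y Spec κ(y) is a Gorenstein scheme
(every local ring of X_y is a Gorenstein local ring) is open in Y. -/
theorem result (X Y : Scheme.{u}) (f : X ⟶ Y)
    [IsProper f] [Flat f] [LocallyOfFinitePresentation f] :
    IsOpen {y : Y | ∀ x : ↥(f.fiber y), LocCoh.IsGorensteinLocalRing ((f.fiber y).presheaf.stalk x)} := by
  have hopen := Groth.Agent.S3617.result X Y f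
  have hclosed : IsClosed (f '' {x : X | Dual3.IsGorensteinAt f x}ᶜ) :=
    f.isClosedMap _ hopen.isClosed_compl
  convert hclosed.isOpen_compl using 1
  ext y
  simp only [Set.mem_compl_iff, Set.mem_image, not_exists, not_and]
  constructor
  · rintro h x hx rfl
    exact hx ⟨Flat.stalkMap f x, h (f.asFiber x)⟩
  · intro h x'
    by_contra hcon
    have hfx : f (f.fiberι y x') = y := by
      have h1 : f.fiberι y x' ∈ Set.range (f.fiberι y) := ⟨x', rfl⟩
      rw [f.range_fiberι] at h1
      exact h1
    refine h (f.fiberι y x') ?_ hfx
    intro hg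
    exact hcon (gor_fiber f _ y hfx x' rfl hg.2)

end Groth.Agent.S13624
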