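import Groth.Statements.S14413
import Groth.Agent.CycA.DerShift
import Mathlib.CategoryTheory.Abelian.Projective.Ext
import Mathlib.CategoryTheory.Abelian.Projective.Dimension
import Mathlib.Algebra.Category.ModuleCat.Projective
import Mathlib.Algebra.Category.ModuleCat.EnoughInjectives

set_option autoImplicit false
universe u
open CategoryTheory CategoryTheory.Limits
open CAlg

namespace Groth.Agent.S14413

open Groth.Agent.CycA.DerShift

theorem exists_res (R : Type u) [CommRing R] (d : ℕ) : ∀ (M : ModuleCat.{u} R),
    HasProjectiveDimensionLE M d → ∃ P : ProjectiveResolution M, ∀ i : ℕ, d < i → IsZero (P.complex.X i) := by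
  induction d with
  | zero =>
    intro M hM
    have : Projective M := (projective_iff_hasProjectiveDimensionLE_zero M).2 hM
    refine ⟨ProjectiveResolution.self M, fun i hi => ?_⟩
    exact HomologicalComplex.isZero_single_obj_X _ _ _ _ (by omega)
  | succ d ih =>
    intro M hM
    -- a short exact sequence `0 → K → P → M → 0`
    let S : ShortComplex (ModuleCat.{u} R) := ShortComplex.mk (kernel.ι (Projective.π M)) (Projective.π M)
      (kernel.condition _)
    have hS : S.ShortExact :=
      { exact := ShortComplex.exact_kernel (Projective.π M)
        mono_f := inferInstanceAs (Mono (kernel.ι _))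
        epi_g := inferInstanceAs (Epi (Projective.π M)) }
    have hP : Projective S.X₂ := inferInstanceAs (Projective (Projective.over M))
    have h1 : HasProjectiveDimensionLT S.X₁ (d + 1) :=
      (hS.hasProjectiveDimensionLT_X₃_iff d hP).1 hM
    obtain ⟨Q, hQ⟩ := ih S.X₁ h1
    refine ⟨splice hS Q, fun i hi => ?_⟩
    obtain ⟨i, rfl⟩ : ∃ j, i = j + 1 := ⟨i - 1, by omega⟩
    exact hQ i (by omega)

/-- Let R be a commutative ring, M an R-module and d ≥ 0. Then M has projective dimension at most d in
the sense that Ext^i_R(M, N) = 0 for every i > d and every R-module N (Mathlib's Ext-vanishing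
definition) if and only if M has a projective resolution of length at most d, i.e. a projective
resolution P whose terms P_i are zero for all i > d (the definition of pd_R(M) ≤ d by resolutions). -/
theorem result (R : Type u) [CommRing R]
    (M : ModuleCat.{u} R) (d : ℕ) :
    HasProjectiveDimensionLE M d ↔
      ∃ P : ProjectiveResolution M, ∀ i : ℕ, d < i → IsZero (P.complex.X i) := by
  refine ⟨exists_res R d M, ?_⟩
  rintro ⟨P, hP⟩
  refine HasProjectiveDimensionLT.mk fun i hi Y e => ?_
  obtain ⟨f, hf, rfl⟩ := P.extMk_surjective e (i + 1) rfl
  have hf0 : f = 0 := (hP i (by omega)).eq_of_src _ _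
  subst hf0
  exact P.extMk_zero _ _

end Groth.Agent.S14413
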