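import Groth.Statements.S6347
import Groth.Agent.CAlg.K61.ML4
import Groth.Agent.S2163

set_option autoImplicit false
universe u
open CAlg

namespace Groth.Agent.S6347

/-- Over a Noetherian ring R, the product module R^A (functions from any set A to R) is flat and
Mittag-Leffler. -/
theorem result (R : Type u) [CommRing R] [IsNoetherianRing R]
    (A : Type u) : Module.Flat R (A → R) ∧ CAlg.IsMittagLeffler R (A → R) := by
  refine ⟨?_, K61.ML4.isML_pi_of_isNoetherianRing R A⟩
  refine Groth.Agent.S2163.result.mp (fun I _ => ?_) A
  exact Module.finitePresentation_of_finite R I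

end Groth.Agent.S6347
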