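import Groth.Statements.S12451
import Groth.Agent.PerfC.TildeFLF
import Groth.Agent.PerfC.TildeProj

set_option autoImplicit false
universe u
open CategoryTheory AlgebraicGeometry
open Props

namespace Groth.Agent.S12451

/-- For a commutative ring R and an R-module M, the associated quasi-coherent module M~ on Spec R is a
finite locally free O-module exactly when M is finitely generated and projective over R
(equivalently, a finite locally free R-module). -/
theorem result {R : CommRingCat.{u}} (M : ModuleCat.{u} R) :
    FlatMod.IsFinLocFree (tilde M) ↔ Module.Finite R M ∧ Module.Projective R M := by
  constructor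
  · intro h
    exact Groth.Agent.PerfC.TildeFLF.finProj_of_isFinLocFree R M h
  · rintro ⟨h1, h2⟩
    exact Groth.Agent.PerfC.TildeProj.isFinLocFree_tilde R M

end Groth.Agent.S12451
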