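import Groth.Statements.S6036
import Groth.Agent.S0925

set_option autoImplicit false
universe u
open CategoryTheory CategoryTheory.Limits TopologicalSpace
open LocCohZ

namespace Groth.Agent.S6036

open Groth.Agent.CohtopB.TopPull Groth.Agent.CohtopB.TopStalk

section

variable {X : TopCat.{u}} (U : Opens X)

/-- The inclusion `Γ_Z(F) ⟶ F`. -/
noncomputable abbrev ι (F : CohTop.Ab X) : (LocCohZ.sectSuppF U).obj F ⟶ F :=
  kernel.ι ((adj (CohCx.incl U)).unit.app F)

theorem map_ι {F G : CohTop.Ab X} (φ : F ⟶ G) : (LocCohZ.sectSuppF U).map φ ≫ ι U G = ι U F ≫ φ :=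
  kernel.lift_ι _ _ _

/-- The lift of a map `i_* G ⟶ F` to `Γ_Z(F)`. -/
noncomputable def lift {G : CohTop.Ab (TopCat.of ((U : Set X)ᶜ : Set X))} {F : CohTop.Ab X}
    (f : (CohTop.push (CohCx.inclCompl U)).obj G ⟶ F) :
    (CohTop.push (CohCx.inclCompl U)).obj G ⟶ (LocCohZ.sectSuppF U).obj F :=
  kernel.lift _ f (by
    apply ((adj (CohCx.incl U)).homEquiv _ _).symm.injective
    exact (S0925.isZero_pull_push U G).eq_of_src _ _)

@[reassoc (attr := simp)]
theorem lift_ι {G : CohTop.Ab (TopCat.of ((U : Set X)ᶜ : Set X))} {F : CohTop.Ab X}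
    (f : (CohTop.push (CohCx.inclCompl U)).obj G ⟶ F) : lift U f ≫ ι U F = f :=
  kernel.lift_ι _ _ _

theorem isIso_ε (G : CohTop.Ab (TopCat.of ((U : Set X)ᶜ : Set X))) :
    IsIso ((adj (CohCx.inclCompl U)).counit.app G) :=
  isIso_counit_of_isInducing _ (S0925.isClosedEmbedding_inclCompl U).isInducing G

theorem isIso_η (F : CohTop.Ab X) :
    IsIso ((adj (CohCx.inclCompl U)).unit.app ((LocCohZ.sectSuppF U).obj F)) :=
  S0925.isIso_unit U F

attribute [local instance] isIso_ε isIso_η

section general

universe v₁ v₂ u₁ u₂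

variable {A : Type u₁} [Category.{v₁} A] {B : Type u₂} [Category.{v₂} B] {L : A ⥤ B} {R : B ⥤ A}
  (ad : L ⊣ R)

theorem map_inv_counit (G : B) [IsIso (ad.counit.app G)] :
    R.map (inv (ad.counit.app G)) = ad.unit.app (R.obj G) := by
  rw [Functor.map_inv]
  exact IsIso.inv_eq_of_inv_hom_id (ad.right_triangle_components G)

theorem map_inv_unit (F : A) [IsIso (ad.unit.app F)] :
    L.map (inv (ad.unit.app F)) = ad.counit.app (L.obj F) := by
  rw [Functor.map_inv]
  exact IsIso.inv_eq_of_hom_inv_id (ad.left_triangle_components F)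

theorem left_inv_aux {G : B} {S F : A} [IsIso (ad.counit.app G)] [IsIso (ad.unit.app S)]
    (l : R.obj G ⟶ S) (ι : S ⟶ F) :
    R.map (inv (ad.counit.app G) ≫ L.map l) ≫ inv (ad.unit.app S) ≫ ι = l ≫ ι := by
  rw [Functor.map_comp, map_inv_counit, Category.assoc]
  have h2 := ad.unit.naturality l
  dsimp at h2
  rw [← reassoc_of% h2, IsIso.hom_inv_id_assoc]

theorem right_inv_aux {G : B} {S : A} [IsIso (ad.counit.app G)] [IsIso (ad.unit.app S)]
    (g : G ⟶ L.obj S) :
    inv (ad.counit.app G) ≫ L.map (R.map g ≫ inv (ad.unit.app S)) = g := by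
  rw [Functor.map_comp, map_inv_unit]
  have h2 := ad.counit.naturality g
  dsimp at h2
  rw [h2, IsIso.inv_hom_id_assoc]

end general

variable {U} in
theorem hom_ext_ι {T F : CohTop.Ab X} {f g : T ⟶ (LocCohZ.sectSuppF U).obj F}
    (h : f ≫ ι U F = g ≫ ι U F) : f = g :=
  equalizer.hom_ext h

/-- The adjunction. -/
noncomputable def adjZ :
    CohTop.push (CohCx.inclCompl U) ⊣ LocCohZ.sectSuppF U ⋙ CohTop.pull (CohCx.inclCompl U) :=
  Adjunction.mkOfHomEquiv
    { homEquiv := fun G F =>
        { toFun := fun f => inv ((adj (CohCx.inclCompl U)).counit.app G) ≫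
            (CohTop.pull (CohCx.inclCompl U)).map (lift U f)
          invFun := fun g => (CohTop.push (CohCx.inclCompl U)).map g ≫
            inv ((adj (CohCx.inclCompl U)).unit.app ((LocCohZ.sectSuppF U).obj F)) ≫ ι U F
          left_inv := fun f => (left_inv_aux (adj (CohCx.inclCompl U)) (lift U f) (ι U F)).trans (lift_ι U f)
          right_inv := fun g => by
            have h : lift U ((CohTop.push (CohCx.inclCompl U)).map g ≫
                inv ((adj (CohCx.inclCompl U)).unit.app ((LocCohZ.sectSuppF U).obj F)) ≫ ι U F) =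
                (CohTop.push (CohCx.inclCompl U)).map g ≫
                  inv ((adj (CohCx.inclCompl U)).unit.app ((LocCohZ.sectSuppF U).obj F)) := by
              apply hom_ext_ι
              rw [lift_ι, Category.assoc]
            refine Eq.trans ?_ (right_inv_aux (adj (CohCx.inclCompl U)) g)
            exact congrArg (fun t => inv ((adj (CohCx.inclCompl U)).counit.app G) ≫
              (CohTop.pull (CohCx.inclCompl U)).map t) h }
      homEquiv_naturality_left_symm := fun {G' G F} f g => by
        change (CohTop.push (CohCx.inclCompl U)).map (f ≫ g) ≫ _ =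
          (CohTop.push (CohCx.inclCompl U)).map f ≫ (CohTop.push (CohCx.inclCompl U)).map g ≫ _
        rw [Functor.map_comp, Category.assoc]
      homEquiv_naturality_right := fun {G F F'} f g => by
        change inv ((adj (CohCx.inclCompl U)).counit.app G) ≫
            (CohTop.pull (CohCx.inclCompl U)).map (lift U (f ≫ g)) =
          (inv ((adj (CohCx.inclCompl U)).counit.app G) ≫
            (CohTop.pull (CohCx.inclCompl U)).map (lift U f)) ≫
              (CohTop.pull (CohCx.inclCompl U)).map ((LocCohZ.sectSuppF U).map g)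
        rw [Category.assoc, ← Functor.map_comp]
        have h : lift U (f ≫ g) = lift U f ≫ (LocCohZ.sectSuppF U).map g := by
          apply hom_ext_ι
          rw [lift_ι, Category.assoc, map_ι, lift_ι_assoc]
        rw [h] }

end

/-- For a closed subset. Let X be a topological space and Z a closed subset with open complement U and
inclusion i : Z → X. Then i_* : (abelian sheaves on Z) → (abelian sheaves on X) is left adjoint to F
↦ i⁻¹ Γ_Z(F), the sheaf on Z of sections of F supported in Z: Hom(i_* G, F) ≅ Hom(G, i⁻¹ Γ_Z(F))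
naturally in G and F. (Existence of an adjunction; for Z closed the extension by zero i_! is i_*.) -/
theorem result {X : TopCat.{u}} (U : Opens X) :
    Nonempty (CohTop.push (CohCx.inclCompl U) ⊣ LocCohZ.sectSuppF U ⋙ CohTop.pull (CohCx.inclCompl U)) := by
  exact ⟨adjZ U⟩

end Groth.Agent.S6036
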