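import Groth.Statements.S18204
import Groth.Agent.LocImm.K947.Immersion
import Mathlib.AlgebraicGeometry.Morphisms.FlatMono
import Mathlib.AlgebraicGeometry.Morphisms.SurjectiveOnStalks

set_option autoImplicit false
universe u
open LocImm

namespace Groth.Agent.S18204

open CategoryTheory AlgebraicGeometry in
/-- A localizing immersion (localizing and injective on points) of Noetherian schemes which is locally
of finite type is an open immersion. -/
theorem result {X Y : Scheme.{u}} [IsNoetherian X] [IsNoetherian Y]
    (f : X ⟶ Y) (hf : LocImm.IsLocImmersion f) [LocallyOfFiniteType f] : IsOpenImmersion f := by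
  have h3 := fun x => K947.Localizing.IsLocalizing.isIso_stalkMap hf.1 x
  have : SurjectiveOnStalks f := ⟨fun x => by
    have := h3 x
    exact (ConcreteCategory.bijective_of_isIso (f.stalkMap x)).2⟩
  have : Mono f := SurjectiveOnStalks.mono_of_injective hf.2
  have : Flat f := by
    rw [Flat.iff_flat_stalkMap]
    intro x
    have := h3 x
    exact RingHom.Flat.of_bijective (ConcreteCategory.bijective_of_isIso (f.stalkMap x))
  have : LocallyOfFinitePresentation f :=
    LocallyOfFinitePresentation.iff_locallyOfFiniteType.mpr inferInstance
  exact IsOpenImmersion.of_flat_of_mono f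

end Groth.Agent.S18204
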