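import Groth.Statements.S18289
import Groth.Agent.Magnet.K950.Descend
import Groth.Agent.Magnet.K949.Eval
-- import your own Groth.Agent.* helpers here

set_option autoImplicit false
universe u
open CategoryTheory MonoidalCategory CartesianMonoidalCategory MonObj AlgebraicGeometry Opposite
open Magnet

namespace Groth.Agent.S18289

/-- Let M be a finitely generated commutative group, Z a subgroup of M and X an S-scheme with an action
of the diagonalizable group scheme D(M)_S. Then the attractor X^Z, for Z regarded as a magnet of M,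
is identified with the fixed-point functor of X under the subgroup D(M/Z)_S (acting through D(M/Z)_S
→ D(M)_S): there is an isomorphism of functors on S-schemes from X^Z to the fixed points whose
composite with the inclusion of the fixed points into X is the canonical map X^Z → X. (The published
statement allows X to be an algebraic space; here X is a scheme.) -/
theorem result (S : Scheme.{u}) (M : Type) [AddCommGroup M] [AddGroup.FG M]
    (Z : AddSubgroup M) (X : Over S) (a : AlgGrp.Action (Red.DS S M) X) :
    ∃ e : Magnet.attr (Magnet.MonAct.ofAction a) Z.toAddSubmonoid ≅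
        Magnet.MonAct.fixedPsh ((Magnet.MonAct.ofAction a).restrict (Magnet.AMonS.map S (QuotientAddGroup.mk' Z))),
      e.hom ≫ Magnet.MonAct.fixedPshι _ = Magnet.attrToX (Magnet.MonAct.ofAction a) Z.toAddSubmonoid := by
  let G : Over S := Magnet.AMonS S M
  let b : Magnet.MonAct (Magnet.AMonS S M) X := Magnet.MonAct.ofAction a
  let q : Magnet.AMonS S (M ⧸ Z) ⟶ Magnet.AMonS S M := Magnet.AMonS.map S (QuotientAddGroup.mk' Z)
  let π : Magnet.AMonS S M ⟶ Magnet.AMonS S Z.toAddSubmonoid :=
    Magnet.AMonS.map S Z.toAddSubmonoid.subtype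
  have hqπ : ∀ {W : Over S} (h : W ⟶ Magnet.AMonS S (M ⧸ Z)), (h ≫ q) ≫ π = 1 := by
    intro W h
    apply K951.Pts.chi_injective
    refine MonoidHom.ext fun z => ?_
    rw [K951.Pts.chi_one]
    have h1 := K951.Pts.chi_map_apply (h ≫ q) Z.toAddSubmonoid.subtype (Multiplicative.toAdd z)
    have h2 := K951.Pts.chi_map_apply h (QuotientAddGroup.mk' Z) ((Multiplicative.toAdd z : Z.toAddSubmonoid) : M)
    refine h1.trans (h2.trans ?_)
    have h3 : (QuotientAddGroup.mk' Z) ((Multiplicative.toAdd z : Z.toAddSubmonoid) : M) = 0 :=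
      (QuotientAddGroup.eq_zero_iff _).2 (Multiplicative.toAdd z).2
    rw [h3, ofAdd_zero, map_one]
    rfl
  have hfix : ∀ (T : Over S) (φ : (Magnet.attr b Z.toAddSubmonoid).obj (op T)) (T' : Over S) (t : T' ⟶ T)
      (h : T' ⟶ Magnet.AMonS S (M ⧸ Z)),
      lift h (t ≫ (Magnet.attrToX b Z.toAddSubmonoid).app (op T) φ) ≫ (b.restrict q).act =
        t ≫ (Magnet.attrToX b Z.toAddSubmonoid).app (op T) φ := by
    intro T φ T' t h
    rw [Magnet.MonAct.lift_restrict_act, Magnet.MonAct.eqvHom.evalAt_app]
    have e : t ≫ lift (toUnit T ≫ η[Magnet.AMonS S Z.toAddSubmonoid]) (𝟙 T) ≫ φ.1 = lift 1 t ≫ φ.1 := by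
      rw [comp_lift_assoc, Category.comp_id, ← Category.assoc, toUnit_unique (t ≫ toUnit T) (toUnit T'), Hom.one_def]
    change lift (h ≫ q) (t ≫ lift (toUnit T ≫ η[Magnet.AMonS S Z.toAddSubmonoid]) (𝟙 T) ≫ φ.1) ≫ b.act =
      t ≫ lift (toUnit T ≫ η[Magnet.AMonS S Z.toAddSubmonoid]) (𝟙 T) ≫ φ.1
    rw [e, ← (Magnet.MonAct.mem_eqvHom_iff φ.1).1 φ.2]
    change lift (lift (h ≫ q) 1 ≫ ((Magnet.MonAct.regular _).restrict π).act) t ≫ φ.1 = _
    rw [Magnet.MonAct.lift_restrict_act, Magnet.MonAct.lift_regular_act, _root_.mul_one, hqπ h]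
  have hffl : ∀ T : Over S, Flat (π ▷ T).left ∧ Surjective (π ▷ T).left := fun T =>
    K950.FlatMap.flat_surjective_subgroup T Z
  have hqc : ∀ T : Over S, QuasiCompact (π ▷ T).left := fun T =>
    K950.FlatMap.quasiCompact_map_whiskerRight _ T
  have hevl : ∀ (T : Over S) (φ : (Magnet.attr b Z.toAddSubmonoid).obj (op T)),
      (π ▷ T) ≫ φ.1 = (Magnet.AMonS S M ◁ (Magnet.attrToX b Z.toAddSubmonoid).app (op T) φ) ≫ b.act := fun T φ =>
    K949.Eval.whiskerRight_comp π b φ.1 φ.2
  let F : Magnet.attr b Z.toAddSubmonoid ⟶ Magnet.MonAct.fixedPsh (b.restrict q) :=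
    { app := fun T => TypeCat.ofHom fun φ => ⟨(Magnet.attrToX b Z.toAddSubmonoid).app T φ, hfix (unop T) φ⟩
      naturality := fun T T' t => ConcreteCategory.hom_ext _ _ fun φ => Subtype.ext
        (NatTrans.naturality_apply (Magnet.attrToX b Z.toAddSubmonoid) t φ) }
  have hF : ∀ T, IsIso (F.app T) := by
    intro T
    rw [isIso_iff_bijective]
    constructor
    · intro φ ψ h
      have h' : (Magnet.attrToX b Z.toAddSubmonoid).app T φ = (Magnet.attrToX b Z.toAddSubmonoid).app T ψ :=
        congrArg Subtype.val h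
      apply Subtype.ext
      have := hffl (unop T)
      have h1 := this.1
      have h2 := this.2
      have h3 := hqc (unop T)
      have : Epi (π ▷ unop T) := K950.FlatMap.epi_of_fpqc _
      rw [← cancel_epi (π ▷ unop T), hevl (unop T) φ, hevl (unop T) ψ]
      congr 2
    · rintro ⟨x, hx⟩
      have := hffl (unop T)
      have h1 := this.1
      have h2 := this.2
      have h3 := hqc (unop T)
      obtain ⟨Ψ, hΨ, hΨ'⟩ := K950.Descend.exists_equivariant_desc
        (aP := (Magnet.MonAct.regular (Magnet.AMonS S M)).prod (Magnet.MonAct.trivial _ (unop T)))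
        (aQ := (Magnet.subAct S M Z.toAddSubmonoid).prod (Magnet.MonAct.trivial _ (unop T)))
        (p := π ▷ unop T) (by
          rw [Magnet.MonAct.isEquivariant_iff]
          intro W g z
          rw [← lift_comp_fst_snd z, Magnet.MonAct.lift_prod_act_assoc, Magnet.MonAct.lift_trivial_act,
            lift_whiskerRight, lift_whiskerRight, Magnet.MonAct.lift_prod_act, Magnet.MonAct.lift_trivial_act,
            Magnet.MonAct.lift_regular_act]
          change _ = lift (lift g (_ ≫ π) ≫ ((Magnet.MonAct.regular _).restrict π).act) _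
          rw [Magnet.MonAct.lift_restrict_act, Magnet.MonAct.lift_regular_act]
          congr 1
          exact MonObj.mul_comp _ _ _)
        (K950.Descend.isEquivariant_orbit b x) (by
          intro W u v huv
          have e1 : u ≫ snd _ _ = v ≫ snd _ _ := by
            have := congrArg (fun w => w ≫ snd _ _) huv
            simpa using this
          have e2 : (u ≫ fst _ _) ≫ π = (v ≫ fst _ _) ≫ π := by
            have := congrArg (fun w => w ≫ fst _ _) huv
            simpa using this
          obtain ⟨k, hk⟩ := K950.Descend.exists_eq_mul (QuotientAddGroup.mk'_surjective Z)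
            (u ≫ fst _ _) (v ≫ fst _ _) (by
              intro m hm
              have hm' : m ∈ Z := (QuotientAddGroup.eq_zero_iff _).1 hm
              have h4 : K951.Pts.chi ((u ≫ fst _ _) ≫ π) (Multiplicative.ofAdd (⟨m, hm'⟩ : Z.toAddSubmonoid)) =
                  K951.Pts.chi ((v ≫ fst _ _) ≫ π) (Multiplicative.ofAdd (⟨m, hm'⟩ : Z.toAddSubmonoid)) := by
                rw [e2]
              have h5 := K951.Pts.chi_map_apply (u ≫ fst _ _) Z.toAddSubmonoid.subtype ⟨m, hm'⟩
              have h6 := K951.Pts.chi_map_apply (v ≫ fst _ _) Z.toAddSubmonoid.subtype ⟨m, hm'⟩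
              exact h5.symm.trans (h4.trans h6))
          rw [← lift_comp_fst_snd u, ← lift_comp_fst_snd v, lift_whiskerLeft_assoc, lift_whiskerLeft_assoc, hk,
            b.lift_mul_act, ← e1]
          congr 2
          have := hx W (u ≫ snd _ _) k
          rw [Magnet.MonAct.lift_restrict_act] at this
          exact this.symm)
      refine ⟨⟨Ψ, hΨ⟩, ?_⟩
      apply Subtype.ext
      change lift (toUnit (unop T) ≫ η[Magnet.AMonS S Z.toAddSubmonoid]) (𝟙 (unop T)) ≫ Ψ = x
      have e : lift (toUnit (unop T) ≫ η[Magnet.AMonS S Z.toAddSubmonoid]) (𝟙 (unop T)) =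
          lift (1 : unop T ⟶ Magnet.AMonS S M) (𝟙 (unop T)) ≫ (π ▷ unop T) := by
        rw [lift_whiskerRight]
        congr 1
        rw [← Hom.one_def]
        exact (MonObj.one_comp π).symm
      rw [e, Category.assoc, hΨ', lift_whiskerLeft_assoc, Category.id_comp, b.lift_one_act]
  have : IsIso F := (NatTrans.isIso_iff_isIso_app F).2 hF
  refine ⟨asIso F, ?_⟩
  ext T φ
  rfl

end Groth.Agent.S18289
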