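import Groth.Statements.S9199
import Groth.Agent.CalgA.LimSep

set_option autoImplicit false
universe u
open CategoryTheory AlgebraicGeometry
open Lim

namespace Groth.Agent.S9199

/-- Let S be a scheme and X = lim X_i a cofiltered limit of S-schemes X_i (a diagram with a compatible
family of structure maps to S) with affine transition morphisms, every X_i quasi-compact and
quasi-separated; the structure map X → S is the composite X → X_{i₀} → S for any index i₀. Assume S
is quasi-separated. If X → S is separated, then X_i → S is separated for all i beyond some index i₁. -/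
theorem result {I : Type u} [SmallCategory I] [IsCofiltered I] (S : Scheme.{u}) [QuasiSeparatedSpace S]
    (D : I ⥤ Scheme.{u}) (t : D ⟶ (Functor.const I).obj S) (c : Limits.Cone D) (hc : Limits.IsLimit c)
    [∀ (i j : I) (a : i ⟶ j), IsAffineHom (D.map a)]
    [∀ i, CompactSpace (D.obj i)] [∀ i, QuasiSeparatedSpace (D.obj i)] (i₀ : I)
    [IsSeparated (c.π.app i₀ ≫ t.app i₀)] :
    ∃ i₁ : I, ∀ (i : I) (_ : i ⟶ i₁), IsSeparated (t.app i) := by
  let Y : I ⥤ Scheme.{u} := (Functor.const I).obj S
  let cY : Limits.Cone Y := ⟨S, { app i := 𝟙 S }⟩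
  have : IsConnected I := IsCofiltered.isConnected I
  have hcY : Limits.IsLimit cY := Limits.isLimitConstCone I S
  have : ∀ i, QuasiSeparatedSpace (Y.obj i) := fun i ↦ inferInstanceAs (QuasiSeparatedSpace S)
  have : ∀ {i j : I} (φ : i ⟶ j), IsSeparated (Y.map φ) := fun {i j} φ ↦
    inferInstanceAs (IsSeparated (𝟙 S))
  have : ∀ {i j : I} (φ : i ⟶ j), IsAffineHom (D.map φ) := fun {i j} φ ↦ inferInstance
  refine CalgA.LimSep.exists_forall_isSeparated_of_isLimit t c cY
    (c.π.app i₀ ≫ t.app i₀) hc hcY (fun i ↦ ?_)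
  have key (k : I) (a : k ⟶ i) : c.π.app i ≫ t.app i = c.π.app k ≫ t.app k := by
    rw [← c.w a, Category.assoc, t.naturality]
    exact congr(c.π.app k ≫ $(Category.comp_id _))
  have key' (k : I) (a : k ⟶ i₀) : c.π.app i₀ ≫ t.app i₀ = c.π.app k ≫ t.app k := by
    rw [← c.w a, Category.assoc, t.naturality]
    exact congr(c.π.app k ≫ $(Category.comp_id _))
  rw [key _ (IsCofiltered.minToLeft i i₀), key' _ (IsCofiltered.minToRight i i₀)]
  exact Category.comp_id _

end Groth.Agent.S9199
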