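import Groth.Statements.S5134
import Groth.Agent.Desc.FinLocFreeSections
import Groth.Agent.FormalA.PullbackQC
import Groth.Agent.PerfC.FPSections
open Groth.Agent CategoryTheory.Limits Opposite
open scoped TensorProduct

set_option autoImplicit false
open CategoryTheory AlgebraicGeometry
universe u
open SGA1

namespace Groth.Agent.S5134

/-- For g : S' ⟶ S flat, surjective and quasi-compact and F a quasi-coherent module on S, if the
pullback of F to S' is of finite presentation then F is of finite presentation. -/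
theorem result {S S' : Scheme.{u}} (g : S' ⟶ S) [Flat g] [Surjective g] [QuasiCompact g]
    (F : S.Modules) (hF : Coh.IsQCoh F)
    (h : CohB1.IsFP ((Scheme.Modules.pullback g).obj F)) : CohB1.IsFP F := by
  rw [Desc.FPSections.isFP_iff_sections hF]
  intro U hU
  obtain ⟨Z, hZ, q, k, hq, hq', hk⟩ := Desc.FinLocFreeSections.exists_affine_cover g hU
  have : IsAffine U := hU
  have e : (⊤ : Z.Opens) ≤ (q ≫ U.ι) ⁻¹ᵁ U := by
    intro z _
    exact (q z).2
  -- the pulled back module is of finite presentation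
  have h1 : CohB1.IsFP ((Scheme.Modules.pullback (q ≫ U.ι)).obj F) :=
    PerfC.FPSections.isFP_of_iso ((Scheme.Modules.pullbackComp k g).app F ≪≫
      (Scheme.Modules.pullbackCongr hk.symm).app F) (FormalA.PullbackQC.isFP_pullback k _ h)
  have hq1 : Coh.IsQCoh ((Scheme.Modules.pullback (q ≫ U.ι)).obj F) :=
    VarietyB.PullSec.isQCoh_pullback _ _ hF
  have h2 := (Desc.FPSections.isFP_iff_sections hq1).mp h1 ⊤ (isAffineOpen_top Z)
  let : Algebra Γ(S, U) Γ(Z, ⊤) := ((q ≫ U.ι).appLE U ⊤ e).hom.toAlgebra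
  have hff : Module.FaithfullyFlat Γ(S, U) Γ(Z, ⊤) := by
    have hfl : Module.Flat Γ(S, U) Γ(Z, ⊤) :=
      HasRingHomProperty.appLE (P := @Flat) (q ≫ U.ι) inferInstance ⟨U, hU⟩
        ⟨⊤, isAffineOpen_top Z⟩ e
    apply Module.FaithfullyFlat.of_comap_surjective
    intro p
    have hp : hU.fromSpec p ∈ U := by
      have : hU.fromSpec p ∈ Set.range hU.fromSpec := ⟨p, rfl⟩
      rwa [hU.range_fromSpec] at this
    obtain ⟨z, hz⟩ := q.surjective ⟨_, hp⟩
    have hz2 : z ∈ Set.range (isAffineOpen_top Z).fromSpec := by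
      rw [(isAffineOpen_top Z).range_fromSpec]
      trivial
    obtain ⟨z', rfl⟩ := hz2
    refine ⟨z', ?_⟩
    apply hU.fromSpec.isOpenEmbedding.injective
    have h6 := IsAffineOpen.SpecMap_appLE_fromSpec (q ≫ U.ι) hU (isAffineOpen_top Z) e
    have h7 : hU.fromSpec (Spec.map ((q ≫ U.ι).appLE U ⊤ e) z') =
        U.ι (q ((isAffineOpen_top Z).fromSpec z')) := by
      rw [← Scheme.Hom.comp_apply, h6, Scheme.Hom.comp_apply, Scheme.Hom.comp_apply]
    rw [hz] at h7
    exact h7
  let := VarietyB.PullSec.secModule (q ≫ U.ι) F e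
  have : IsScalarTower Γ(S, U) Γ(Z, ⊤) Γ((Scheme.Modules.pullback (q ≫ U.ι)).obj F, ⊤) :=
      ⟨fun a b c => by rw [Algebra.smul_def, mul_smul]; rfl⟩
  have hbc : IsBaseChange Γ(Z, ⊤) (VarietyB.PullSec.secₗ (q ≫ U.ι) F e) :=
    VarietyB.PullSec.isBaseChange_secₗ (q ≫ U.ι) F e hF hU (isAffineOpen_top Z)
  have h4 : Module.FinitePresentation Γ(Z, ⊤) (Γ(Z, ⊤) ⊗[Γ(S, U)] Γ(F, U)) :=
    Module.FinitePresentation.of_equiv hbc.equiv.symm
  exact Desc.FinLocFreeSections.finitePresentation_of_tensorProduct Γ(S, U) Γ(Z, ⊤) Γ(F, U)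

end Groth.Agent.S5134
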