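import Groth.Statements.S7502
import Groth.Agent.Sga67.CohBasic
import Groth.Agent.Sga67.FlatPre
import Groth.Agent.FormalA.PullbackQC
import Groth.Agent.PerfA.QCohSerre
import Groth.Agent.Ega1.QcqsPush
import Groth.Agent.Fdesc.FTDescent

set_option autoImplicit false
universe u
open CategoryTheory CategoryTheory.Limits AlgebraicGeometry
open Coh

namespace Groth.Agent.S7502

theorem isQCoh_fibreProduct {X : Scheme.{u}} {A B C : X.Modules} (f : A ⟶ C) (g : B ⟶ C)
    (hA : Coh.IsQCoh A) (hB : Coh.IsQCoh B) (hC : Coh.IsQCoh C) : Coh.IsQCoh (Limits.pullback f g) := by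
  have e : Limits.pullback f g ≅ kernel (biprod.desc f (-g)) :=
    IsLimit.conePointUniqueUpToIso
      (CategoryTheory.Abelian.PullbackToBiproductIsKernel.isLimitPullbackToBiproduct f g)
      (limit.isLimit _)
  exact Groth.Agent.PerfA.QCohSerre.isQCoh_of_iso e.symm
    (Groth.Agent.PerfA.QCohSerre.isQCoh_kernel _ (Groth.Agent.Sga67.CohBasic.isQCoh_biprod hA hB) hC)

/-- Let f : Y -> X be a morphism of schemes which is quasi-compact, quasi-separated, flat and
surjective, with X and Y locally Noetherian. Let F be a quasi-coherent O_X-module, G a coherent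
O_Y-module and φ : G -> f^*F an injective map of O_Y-modules. Then the O_X-module F ∩ f_*G, defined
as the fibre product of the adjunction unit F -> f_*f^*F with f_*φ : f_*G -> f_*f^*F, is coherent.
('Coherent' is quasi-coherent of finite type, the usual notion on locally Noetherian schemes.) -/
theorem result {X Y : Scheme.{u}} (f : Y ⟶ X) [QuasiCompact f] [QuasiSeparated f] [Flat f] [Surjective f] [IsLocallyNoetherian X] [IsLocallyNoetherian Y] (F : X.Modules) (hF : Coh.IsQCoh F) (G : Y.Modules) (hG : Coh.IsCoh G) (φ : G ⟶ (Scheme.Modules.pullback f).obj F) [Mono φ] : Coh.IsCoh (Limits.pullback ((Scheme.Modules.pullbackPushforwardAdjunction f).unit.app F) ((Scheme.Modules.pushforward f).map φ)) := by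
  let adj := Scheme.Modules.pullbackPushforwardAdjunction f
  let α := adj.unit.app F
  let β := (Scheme.Modules.pushforward f).map φ
  have hfF : Coh.IsQCoh ((Scheme.Modules.pullback f).obj F) :=
    Groth.Agent.FormalA.PullbackQC.isQCoh_pullback f F hF
  have hH : Coh.IsQCoh (Limits.pullback α β) := isQCoh_fibreProduct α β hF
    (Groth.Agent.Ega1.QcqsPush.isQCoh_pushforward f G hG.1)
    (Groth.Agent.Ega1.QcqsPush.isQCoh_pushforward f _ hfF)
  have := Groth.Agent.Sga67.FlatPre.preservesFiniteLimits_pullback f
  have hβ : Mono β := inferInstance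
  have hfst : Mono (pullback.fst α β) := inferInstance
  let ψ : (Scheme.Modules.pullback f).obj (Limits.pullback α β) ⟶ G :=
    (Scheme.Modules.pullback f).map (pullback.snd α β) ≫ adj.counit.app G
  have hψ : ψ ≫ φ = (Scheme.Modules.pullback f).map (pullback.fst α β) := by
    have h1 : adj.counit.app G ≫ φ = (Scheme.Modules.pullback f).map β ≫ adj.counit.app _ :=
      (adj.counit.naturality φ).symm
    have h2 : (Scheme.Modules.pullback f).map α ≫ adj.counit.app _ = 𝟙 _ :=
      adj.left_triangle_components F
    calc ψ ≫ φ = (Scheme.Modules.pullback f).map (pullback.snd α β) ≫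
        (Scheme.Modules.pullback f).map β ≫ adj.counit.app _ := by
          rw [Category.assoc, h1]
      _ = (Scheme.Modules.pullback f).map (pullback.fst α β) ≫
        (Scheme.Modules.pullback f).map α ≫ adj.counit.app _ := by
          rw [← Functor.map_comp_assoc, ← pullback.condition, Functor.map_comp_assoc]
      _ = _ := by rw [h2, Category.comp_id]
  have hmono : Mono ψ := by
    have : Mono (ψ ≫ φ) := by rw [hψ]; infer_instance
    exact mono_of_mono ψ φ
  exact Groth.Agent.Fdesc.FTDescent.isCoh_of_pullback f _ hH
    (Groth.Agent.Sga67.CohBasic.isCoh_of_mono ψ hG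
      (Groth.Agent.FormalA.PullbackQC.isQCoh_pullback f _ hH))

end Groth.Agent.S7502
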