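import Groth.Statements.S7307
import Groth.Agent.Resolve.K372.Contr

set_option autoImplicit false
universe u
open CategoryTheory CategoryTheory.Limits AlgebraicGeometry
open Resolve

namespace Groth.Agent.S7307

/-- Let X be a Noetherian scheme, ι : E → X a closed immersion which is an exceptional curve of the
first kind, and b : X → X' a contraction of E. Then b has the following universal property: every
morphism φ : X → Y which maps E to a single point of Y factors uniquely as b followed by a morphism
X' → Y. -/
theorem result {E X X' : Scheme.{u}} [IsNoetherian X] (ι : E ⟶ X) [IsClosedImmersion ι]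
    (hE : Models.IsExcCurve ι) (b : X ⟶ X') (hb : Models.IsContractionOf ι b)
    {Y : Scheme.{u}} (φ : X ⟶ Y) (y : Y) (hφ : Set.range ((ι ≫ φ).base : E → Y) = {y}) :
    ∃! ψ : X' ⟶ Y, b ≫ ψ = φ := by
  refine K372.Contr.existsUnique_desc ι hE b hb φ (fun e e' => ?_)
  have h1 : φ (ι e) = y := by
    have : (ι ≫ φ).base e ∈ Set.range ((ι ≫ φ).base : E → Y) := ⟨e, rfl⟩
    rw [hφ] at this
    exact this
  have h2 : φ (ι e') = y := by
    have : (ι ≫ φ).base e' ∈ Set.range ((ι ≫ φ).base : E → Y) := ⟨e', rfl⟩
    rw [hφ] at this
    exact this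
  exact h1.trans h2.symm

end Groth.Agent.S7307
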