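import Groth.Statements.S16553
import Groth.Agent.Models.K954.ExtAlg
import Groth.Agent.Models.K382.LocExt
import Groth.Agent.Models.K381.Cover

set_option autoImplicit false
universe u
open CategoryTheory CategoryTheory.Limits AlgebraicGeometry
open Models

namespace Groth.Agent.S16553

/-- Let R be a discrete valuation ring with fraction field K, X and Y smooth proper curves over K with
H^0(X, O_X) = K = H^0(Y, O_Y) and dim_K H^1(Y, O_Y) ≥ 2, and f : X -> Y a finite K-morphism. Let XR
and YR be stable models of X and Y over R: proper over Spec R with structure morphisms that are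
at-worst-nodal families of curves, such that no geometric fibre has an irreducible component which
is (the image of a closed immersion of) a projective line carrying at most two non-smooth points of
the fibre, and with generic fibres identified with X and Y through iX and iY. Then f extends to an
R-morphism XR -> YR, not necessarily finite, compatible with iX and iY. -/
theorem result
    (R : Type u) [CommRing R] [IsDomain R] [IsDiscreteValuationRing R]
    (X Y : Scheme.{u}) (fX : X ⟶ Spec (CommRingCat.of (FractionRing R))) (fY : Y ⟶ Spec (CommRingCat.of (FractionRing R)))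
    (hX : Curve.IsSmoothProperCurve (FractionRing R) X fX) (hX0 : IsIso fX.appTop)
    (hY : Curve.IsSmoothProperCurve (FractionRing R) Y fY) (hY0 : IsIso fY.appTop)
    (hg : 2 ≤ Models.curveGenus (FractionRing R) Y fY)
    (f : X ⟶ Y) [IsFinite f] (hf : f ≫ fY = fX)
    (XR : Scheme.{u}) (p : XR ⟶ Spec (CommRingCat.of R)) [IsProper p] (hp : Curv2.IsNodalFamily p)
    (hps : SSMod.NoExcComp (𝟙 (Spec (CommRingCat.of R))) (Scheme.emptyTo XR) p)
    (iX : X ⟶ XR) (hiX : IsPullback iX fX p (Spec.map (CommRingCat.ofHom (algebraMap R (FractionRing R)))))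
    (YR : Scheme.{u}) (q : YR ⟶ Spec (CommRingCat.of R)) [IsProper q] (hq : Curv2.IsNodalFamily q)
    (hqs : SSMod.NoExcComp (𝟙 (Spec (CommRingCat.of R))) (Scheme.emptyTo YR) q)
    (iY : Y ⟶ YR) (hiY : IsPullback iY fY q (Spec.map (CommRingCat.ofHom (algebraMap R (FractionRing R))))) :
    ∃ φ : XR ⟶ YR, φ ≫ q = p ∧ iX ≫ φ = f ≫ iY := by
  refine Groth.Agent.K954.ExtAlg.main R X Y fX fY hX hX0 hY hY0 hg f hf XR p hp iX hiX YR q hq hqs iY hiY ?_ ?_
  · intro R _ _ _ ϖ h X p _ hp hsm x hx hxc
    exact Groth.Agent.K381.Cover.exists_cover h p hp hsm x hx hxc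
  · intro R _ _ _ ϖ hϖ X Y p q _ _ _ _ hXn U hUx h hh hgen x _ Z f z _ _ _ _ _ hZn hz hfz hNC H
    exact Groth.Agent.K382.LocExt.main hϖ p q hXn U hUx h hh hgen x f z hZn hz hfz hNC H

end Groth.Agent.S16553
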