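import Groth.Statements.S13044
import Groth.Agent.MaxMod.K722.FlatRel

set_option autoImplicit false
universe u
open MaxMod

namespace Groth.Agent.S13044

open CategoryTheory Limits AlgebraicGeometry in
/-- Let R be a discrete valuation ring with fraction field K, let Y be a flat separated R-scheme and let
Γ → Y ×_R Y be a closed subscheme, with projections p₁, p₂ : Γ → Y, such that Γ is flat over R
(equivalently, Γ is the schematic closure of its generic fibre) and p₁, p₂ are flat. If for every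
scheme T over Spec K the relation on the T-valued points of Y defined by the T-valued points of Γ is
an equivalence relation, then for every scheme T over Spec R that relation is an equivalence
relation: Γ is a flat equivalence relation on Y. -/
theorem result
    (R K : Type u) [CommRing R] [IsDomain R] [IsDiscreteValuationRing R]
    [Field K] [Algebra R K] [IsFractionRing R K]
    (Y Γ : Scheme.{u}) (f : Y ⟶ Spec (CommRingCat.of R)) [IsSeparated f] [Flat f]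
    (p₁ p₂ : Γ ⟶ Y) (h : p₁ ≫ f = p₂ ≫ f)
    (hΓ : IsClosedImmersion (pullback.lift p₁ p₂ h))
    [Flat (p₁ ≫ f)] [Flat p₁] [Flat p₂]
    (hK : ∀ (T : Scheme.{u}) (t : T ⟶ Spec (CommRingCat.of R)),
      (∃ s : T ⟶ Spec (CommRingCat.of K), t = s ≫ Spec.map (CommRingCat.ofHom (algebraMap R K))) →
      _root_.Equivalence fun a b : {a : T ⟶ Y // a ≫ f = t} =>
        ∃ c : T ⟶ Γ, c ≫ p₁ = a.1 ∧ c ≫ p₂ = b.1) :
    ∀ (T : Scheme.{u}) (t : T ⟶ Spec (CommRingCat.of R)),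
      _root_.Equivalence fun a b : {a : T ⟶ Y // a ≫ f = t} =>
        ∃ c : T ⟶ Γ, c ≫ p₁ = a.1 ∧ c ≫ p₂ = b.1 := by
  let η := Spec.map (CommRingCat.ofHom (algebraMap R K))
  have hη : IsSchemeTheoreticallyDominant η := K722.FlatRel.dominant_generic R K
  set j := pullback.lift p₁ p₂ h with hj
  have hj1 : j ≫ pullback.fst f f = p₁ := pullback.lift_fst _ _ _
  have hj2 : j ≫ pullback.snd f f = p₂ := pullback.lift_snd _ _ _
  -- the general principle
  have key : ∀ (Z : Scheme.{u}) (z : Z ⟶ Spec (CommRingCat.of R)) [Flat z] (a b : Z ⟶ Y)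
      (ha : a ≫ f = z) (hb : b ≫ f = z),
      (∃ c : pullback z η ⟶ Γ, c ≫ p₁ = pullback.fst z η ≫ a ∧ c ≫ p₂ = pullback.fst z η ≫ b) →
        ∃ l : Z ⟶ Γ, l ≫ p₁ = a ∧ l ≫ p₂ = b := by
    intro Z z _ a b ha hb ⟨c, hc1, hc2⟩
    have hdom : IsSchemeTheoreticallyDominant (pullback.fst z η) := inferInstance
    obtain ⟨l, hl⟩ := K722.FlatRel.factors (pullback.fst z η) j
      (pullback.lift a b (ha.trans hb.symm)) c (by
        apply pullback.hom_ext
        · rw [Category.assoc, Category.assoc, pullback.lift_fst, hj1, hc1]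
        · rw [Category.assoc, Category.assoc, pullback.lift_snd, hj2, hc2])
    refine ⟨l, ?_, ?_⟩
    · rw [← hj1, ← Category.assoc, hl, pullback.lift_fst]
    · rw [← hj2, ← Category.assoc, hl, pullback.lift_snd]
  have hK' : ∀ (Z : Scheme.{u}) (z : Z ⟶ Spec (CommRingCat.of R)),
      _root_.Equivalence fun a b : {a : pullback z η ⟶ Y // a ≫ f = pullback.fst z η ≫ z} =>
        ∃ c : pullback z η ⟶ Γ, c ≫ p₁ = a.1 ∧ c ≫ p₂ = b.1 := fun Z z =>
    hK _ _ ⟨pullback.snd z η, pullback.condition⟩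
  -- reflexivity
  obtain ⟨δ, hδ1, hδ2⟩ : ∃ l : Y ⟶ Γ, l ≫ p₁ = 𝟙 Y ∧ l ≫ p₂ = 𝟙 Y := by
    refine key Y f (𝟙 Y) (𝟙 Y) (Category.id_comp f) (Category.id_comp f) ?_
    obtain ⟨c, hc1, hc2⟩ := (hK' Y f).refl ⟨pullback.fst f η, rfl⟩
    exact ⟨c, by rw [hc1, Category.comp_id], by rw [hc2, Category.comp_id]⟩
  -- symmetry
  obtain ⟨σ, hσ1, hσ2⟩ : ∃ l : Γ ⟶ Γ, l ≫ p₁ = p₂ ∧ l ≫ p₂ = p₁ := by
    refine key Γ (p₁ ≫ f) p₂ p₁ h.symm rfl ?_
    obtain ⟨c, hc1, hc2⟩ := (hK' Γ (p₁ ≫ f)).symm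
      (x := ⟨pullback.fst (p₁ ≫ f) η ≫ p₁, Category.assoc _ _ _⟩)
      (y := ⟨pullback.fst (p₁ ≫ f) η ≫ p₂, by rw [Category.assoc, h]⟩)
      ⟨pullback.fst (p₁ ≫ f) η, rfl, rfl⟩
    exact ⟨c, hc1, hc2⟩
  -- transitivity
  obtain ⟨τ, hτ1, hτ2⟩ : ∃ l : pullback p₂ p₁ ⟶ Γ, l ≫ p₁ = pullback.fst p₂ p₁ ≫ p₁ ∧
      l ≫ p₂ = pullback.snd p₂ p₁ ≫ p₂ := by
    have hfl : Flat (pullback.fst p₂ p₁ ≫ p₁ ≫ f) := inferInstance
    have e2 : (pullback.snd p₂ p₁ ≫ p₂) ≫ f = pullback.fst p₂ p₁ ≫ p₁ ≫ f := by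
      rw [Category.assoc, ← h, ← Category.assoc (pullback.snd p₂ p₁), ← pullback.condition,
        Category.assoc, ← h]
    refine key (pullback p₂ p₁) (pullback.fst p₂ p₁ ≫ p₁ ≫ f) _ _ (Category.assoc _ _ _) e2 ?_
    set z := pullback.fst p₂ p₁ ≫ p₁ ≫ f
    obtain ⟨c, hc1, hc2⟩ := (hK' (pullback p₂ p₁) z).trans
      (x := ⟨pullback.fst z η ≫ pullback.fst p₂ p₁ ≫ p₁, by simp only [Category.assoc]; rfl⟩)
      (y := ⟨pullback.fst z η ≫ pullback.fst p₂ p₁ ≫ p₂, by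
        simp only [Category.assoc, ← h]; rfl⟩)
      (z := ⟨pullback.fst z η ≫ pullback.snd p₂ p₁ ≫ p₂, by
        rw [Category.assoc, e2]⟩)
      ⟨pullback.fst z η ≫ pullback.fst p₂ p₁, by simp only [Category.assoc], by
        simp only [Category.assoc]⟩
      ⟨pullback.fst z η ≫ pullback.snd p₂ p₁, by
        simp only [Category.assoc, pullback.condition], by simp only [Category.assoc]⟩
    exact ⟨c, hc1, hc2⟩
  intro T t
  refine ⟨fun a => ⟨a.1 ≫ δ, ?_, ?_⟩, ?_, ?_⟩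
  · rw [Category.assoc, hδ1, Category.comp_id]
  · rw [Category.assoc, hδ2, Category.comp_id]
  · rintro a b ⟨c, hc1, hc2⟩
    exact ⟨c ≫ σ, by rw [Category.assoc, hσ1, hc2], by rw [Category.assoc, hσ2, hc1]⟩
  · rintro a b d ⟨c, hc1, hc2⟩ ⟨c', hc1', hc2'⟩
    refine ⟨pullback.lift c c' (hc2.trans hc1'.symm) ≫ τ, ?_, ?_⟩
    · rw [Category.assoc, hτ1, pullback.lift_fst_assoc, hc1]
    · rw [Category.assoc, hτ2, pullback.lift_snd_assoc, hc2']

end Groth.Agent.S13044
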