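import Groth.Statements.S15948
import Groth.Agent.Curves.K577.SnSquare
import Groth.Agent.Curves.K577.DimComp
import Groth.Agent.HTop.K344.SemiScheme
import Mathlib.AlgebraicGeometry.Morphisms.FiniteType

set_option autoImplicit false
universe u
open Curves

namespace Groth.Agent.S15948

open CategoryTheory AlgebraicGeometry Limits in
/-- Let κ be a field, C a seminormal reduced scheme of finite type over κ whose irreducible components
all have dimension one, and ν : C̃ → C its normalisation (C̃ has integrally closed local domains, ν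
is finite over κ and restricts to an isomorphism over a dense open subset of C whose preimage is
dense in C̃). Let D → C be the reduced closed subscheme whose underlying set is the set of points at
which the local ring of C is not regular. Then the square with vertices C̃ ×_C D, C̃, D and C is a
push-out in the category of schemes, and moreover every fibre of ν is a reduced scheme. -/
theorem result {κ : Type u} [Field κ] {C Cn D : Scheme.{u}}
    (g : C ⟶ Spec (CommRingCat.of κ)) [LocallyOfFiniteType g] [QuasiCompact g] [IsReduced C]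
    (hdimC : ∀ W ∈ irreducibleComponents (C : Type u), topologicalKrullDim W = 1)
    (hsn : HTop.IsSeminormal C)
    (ν : Cn ⟶ C) [IsFinite ν] (hn : Pi1.IsNormalScheme Cn)
    (hbir : ∃ U : C.Opens, Dense (U : Set C) ∧ Dense ((ν ⁻¹ᵁ U : Cn.Opens) : Set Cn) ∧ IsIso (ν ∣_ U))
    (d : D ⟶ C) [IsClosedImmersion d] [IsReduced D]
    (hd : Set.range d.base = {x : C | ¬ IsRegularLocalRing (C.presheaf.stalk x)}) :
    IsPushout (pullback.fst ν d) (pullback.snd ν d) ν d ∧ ∀ x : C, IsReduced (ν.fiber x) := by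
  have hN : IsLocallyNoetherian C := LocallyOfFiniteType.isLocallyNoetherian g
  have hredn : IsReduced Cn := by
    have : ∀ x : Cn, _root_.IsReduced (Cn.presheaf.stalk x) := fun x => by
      have := (hn x).1
      infer_instance
    exact isReduced_of_isReduced_stalk Cn
  obtain ⟨V, hV, hV', hVi⟩ := hbir
  have hA : ∀ U : C.Opens, IsAffineOpen U → ringKrullDim Γ(C, U) ≤ 1 := fun U hU =>
    K577.DimComp.ringKrullDim_le C 1 (fun W hW => (hdimC W hW).le) (A := Γ(C, U)) hU.fromSpec
  have hnoeth : ∀ U : C.Opens, IsAffineOpen U → IsNoetherianRing Γ(C, U) := fun U hU =>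
    IsLocallyNoetherian.component_noetherian ⟨U, hU⟩
  have hseminormal : ∀ U : C.Opens, IsAffineOpen U → HTop.IsSeminormalRing Γ(C, U) := fun U hU =>
    (K344.SemiScheme.isSeminormal_iff C).1 hsn ⟨U, hU⟩
  have hnoeth' : ∀ U : C.Opens, IsAffineOpen U → IsNoetherianRing Γ(Cn, ν ⁻¹ᵁ U) := fun U hU => by
    have h1 := ν.finite_app U hU
    have h2 := hnoeth U hU
    let _ := (ν.app U).hom.toAlgebra
    have h3 : Module.Finite Γ(C, U) Γ(Cn, ν ⁻¹ᵁ U) := h1
    exact IsNoetherianRing.of_finite Γ(C, U) Γ(Cn, ν ⁻¹ᵁ U)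
  refine ⟨K838.Ferr.isPushout_of_cover pullback.condition fun x => ?_, fun x => ?_⟩
  · obtain ⟨U, hU, hxU, -⟩ := exists_isAffineOpen_mem_and_subset (U := ⊤) (x := x) trivial
    refine ⟨U, hxU, hU, ?_⟩
    have i1 := hnoeth U hU
    have i2 := hnoeth' U hU
    have hbir := K577.BirSch.bir_app ν hU V hV hV'
    refine K577.SnSquare.secSq ν d hU
      (@K577.SemiRing.Bir.inj _ _ _ _ (ν.app U).hom.toAlgebra hbir) ?_
    let i3 := (ν.app U).hom.toAlgebra
    have i4 : Module.Finite Γ(C, U) Γ(Cn, ν ⁻¹ᵁ U) := ν.finite_app U hU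
    have hB : ∀ (q : Ideal Γ(Cn, ν ⁻¹ᵁ U)) [q.IsPrime], IsDomain (Localization.AtPrime q) ∧
        IsIntegrallyClosed (Localization.AtPrime q) := by
      intro q hq
      obtain ⟨e⟩ := K577.SnSquare.exists_stalk_equiv (hU.preimage ν) q
      obtain ⟨h1, h2⟩ := hn ((hU.preimage ν).fromSpec ⟨q, hq⟩)
      exact ⟨MulEquiv.isDomain _ e.toMulEquiv, IsIntegrallyClosed.of_equiv e.symm⟩
    refine K577.SemiRing.eq_cond hbir (hA U hU) (hseminormal U hU) hB ?_ ?_
    · have h1 : _root_.IsReduced Γ(D, d ⁻¹ᵁ U) := inferInstance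
      rw [← RingHom.ker_isRadical_iff_reduced_of_surjective (f := (d.app U).hom)
        (d.app_surjective U hU)] at h1
      exact h1
    · intro p hp
      have h1 := K577.SnSquare.fromSpec_apply_of_ker_le d hU ⟨p, hp⟩
      refine h1.trans ?_
      have h2 : (hU.fromSpec ⟨p, hp⟩ ∈ Set.range d) ↔
        ¬ IsRegularLocalRing (C.presheaf.stalk (hU.fromSpec ⟨p, hp⟩)) := by
        have := Set.ext_iff.1 hd (hU.fromSpec ⟨p, hp⟩)
        exact this
      rw [h2, not_iff_not]
      obtain ⟨e⟩ := K577.SnSquare.exists_stalk_equiv hU p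
      exact ⟨fun h => IsRegularLocalRing.of_ringEquiv e.symm, fun h => IsRegularLocalRing.of_ringEquiv e⟩
  · obtain ⟨U, hU, hxU, -⟩ := exists_isAffineOpen_mem_and_subset (U := ⊤) (x := x) trivial
    have i1 := hnoeth U hU
    have i2 := hnoeth' U hU
    have hbir := K577.BirSch.bir_app ν hU V hV hV'
    refine K577.SnSquare.isReduced_fiber ν hU x hxU ?_
    intro p hp w n hw
    let i3 := (ν.app U).hom.toAlgebra
    have i4 : Module.Finite Γ(C, U) Γ(Cn, ν ⁻¹ᵁ U) := ν.finite_app U hU
    exact K577.SemiRing.exists_smul_mem_map' hbir (hA U hU) (hseminormal U hU) hw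

end Groth.Agent.S15948
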