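import Groth.Statements.S8723
import Groth.Agent.ArSurf.K481.CohFlatMain

set_option autoImplicit false
universe u
open CategoryTheory CategoryTheory.Limits AlgebraicGeometry
open ArSurf

namespace Groth.Agent.S8723

open IsLocalRing Groth.Agent

/-- Let R be a discrete valuation ring with residue field k and X an integral regular scheme of Krull
dimension 2, proper and flat over Spec R by f (a regular proper flat model whose fibres are curves).
Write X_s for the special fibre and X_sbar for its base change to an algebraic closure of k. Assume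
that X_s is geometrically connected (its base change to every field extension of k is connected) and
that the multiplicities of the irreducible components of X_sbar, i.e. the lengths of the local rings
of X_sbar at its maximal points, have greatest common divisor 1 (no prime divides all of them). Then
the canonical map k -> H^0(X_s, O_{X_s}) is bijective (X is cohomologically flat over R in degree
0). -/
theorem result (R : Type u) [CommRing R] [IsDomain R]
    [IsDiscreteValuationRing R] {X : Scheme.{u}} (f : X ⟶ Spec (CommRingCat.of R)) [IsProper f] [Flat f]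
    [IsIntegral X] (hreg : ∀ x : X, IsRegularLocalRing (X.presheaf.stalk x))
    (hdim : topologicalKrullDim X = 2)
    (hconn : ∀ (K : Type u) [Field K] [Algebra (IsLocalRing.ResidueField R) K],
      ConnectedSpace ↥(pullback f (Spec.map (CommRingCat.ofHom
        ((algebraMap (IsLocalRing.ResidueField R) K).comp (IsLocalRing.residue R))))))
    (hd : letI Xb := pullback f (Spec.map (CommRingCat.ofHom
        ((algebraMap (IsLocalRing.ResidueField R) (AlgebraicClosure (IsLocalRing.ResidueField R))).comp
          (IsLocalRing.residue R))))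
      ∀ ℓ : ℕ, ℓ.Prime → ∃ x : ↥Xb, (∀ y : ↥Xb, y ⤳ x → y = x) ∧
        ¬ (ℓ ∣ (Module.length (Xb.presheaf.stalk x) (Xb.presheaf.stalk x)).toNat)) :
    Function.Bijective
      (pullback.snd f (Spec.map (CommRingCat.ofHom (IsLocalRing.residue R)))).appTop.hom := by
  let X' : Over (Spec (CommRingCat.of R)) := Over.mk f
  have hp : IsProper X'.hom := ‹IsProper f›
  have hfl : Flat X'.hom := ‹Flat f›
  have hi : IsIntegral X'.left := ‹IsIntegral X›
  have hN : IsLocallyNoetherian X'.left := LocallyOfFiniteType.isLocallyNoetherian X'.hom
  have hregS : Dix.MinusCurve.IsRegSurf R X' := ⟨hreg, hi, hdim, hfl, hp⟩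
  have hreg' : Models.IsRegularScheme X'.left := hreg
  -- the components
  have h2 : ∀ x : X'.left, IsClosed ({x} : Set X'.left) → ringKrullDim (X'.left.presheaf.stalk x) = 2 := by
    intro x hx
    refine Dix.RegSurfLoc979.ringKrullDim_stalk_eq_two hregS x hx ?_
    have h3 : IsClosed ({X'.hom x} : Set (PrimeSpectrum R)) := by
      have h4 := X'.hom.isClosedMap _ hx
      rwa [Set.image_singleton] at h4
    have h5 := (PrimeSpectrum.isClosed_singleton_iff_isMaximal (X'.hom x : PrimeSpectrum R)).1 h3
    rw [IsLocalRing.eq_maximalIdeal h5]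
    exact IsDiscreteValuationRing.not_a_field R
  have hgen : X'.hom (genericPoint X'.left) ≠ closedPoint R :=
    Models.H65.ContrInter.genericPoint_notMem (R := R) (X := X')
  obtain ⟨n, Γ, hΓ⟩ := Models.H55.CompGeom.exists_componentList h2 hgen
  -- connectedness of the closed fibre
  have hc0 : ConnectedSpace ↥(pullback X'.hom (K481.CohFlat.ρ R)) := by
    have hc0' := hconn (ResidueField R)
    rw [Algebra.algebraMap_self, RingHom.id_comp] at hc0'
    exact hc0'
  have hc1 : _root_.IsConnected (Models.specialFibreSet R X') :=
    K481.CohFlat.isConnected_specialFibreSet (X := X')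
  -- the geometric fibre
  have hcb : ConnectedSpace ↥(pullback X'.hom (Spec.map (CommRingCat.ofHom
        ((algebraMap (IsLocalRing.ResidueField R) (AlgebraicClosure (IsLocalRing.ResidueField R))).comp
          (IsLocalRing.residue R))))) := hconn (AlgebraicClosure (ResidueField R))
  have hg : ∀ z, (Spec.map (CommRingCat.ofHom
        ((algebraMap (IsLocalRing.ResidueField R) (AlgebraicClosure (IsLocalRing.ResidueField R))).comp
          (IsLocalRing.residue R)))) z = closedPoint R := by
    intro z
    rw [CommRingCat.ofHom_comp, Spec.map_comp, Scheme.Hom.comp_apply]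
    exact K481.CohFlat.ρ_apply _
  have hgcd : Models.multGcd R X' Γ = 1 := by
    by_contra hne
    obtain ⟨ℓ, hℓ, hdvd⟩ := Nat.exists_prime_and_dvd hne
    obtain ⟨x, -, hx⟩ := hd ℓ hℓ
    refine hx (K481.CohFlat.dvd_length hΓ (IsPullback.of_hasPullback X'.hom _) hg ℓ (fun i => ?_) x)
    exact hdvd.trans (Finset.gcd_dvd (Finset.mem_univ i))
  have hF := K481.FibreField.isField_fibre hreg' hΓ hc1 hgcd
  obtain ⟨e⟩ := K481.CohFlat.nonempty_iso (R := R) (X := X')
  have hF' : IsField Γ(pullback X'.hom (K481.CohFlat.ρ R), ⊤) :=
    MulEquiv.isField hF (Scheme.Γ.mapIso e.op).commRingCatIsoToRingEquiv.symm.toMulEquiv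
  obtain ⟨fst, hpb⟩ := K481.CohFlatMain.isPullback_geom (X := X') (AlgebraicClosure (ResidueField R))
  exact K481.CohFlatMain.bijective_of_primes (pullback.snd X'.hom (K481.CohFlat.ρ R)) hF' fst _ hpb
    (fun ℓ hℓ => by
      obtain ⟨x, -, hx⟩ := hd ℓ hℓ
      exact ⟨x, hx⟩)

end Groth.Agent.S8723
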