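import Groth.Statements.S15544
import Groth.Agent.S2422
import Groth.Agent.S2431
-- import your own Groth.Agent.* helpers here

set_option autoImplicit false
open CategoryTheory AlgebraicGeometry
universe u
open Coherent

namespace Groth.Agent.S15544

/-- Let X and Y be integral schemes, Y locally Noetherian with all local rings integrally closed, and f
: X ⟶ Y a proper birational morphism (the generic point of X maps to that of Y and the stalk map
there is an isomorphism). Then every fibre of f is connected and nonempty. (The published statement
takes X and Y Noetherian; over a locally Noetherian Y this is the same assertion fibre by fibre.) -/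
theorem result {X Y : Scheme.{u}} [IsIntegral X]
    [IsIntegral Y] [IsLocallyNoetherian Y] (hY : Pi1.IsNormalScheme Y) (f : X ⟶ Y) [IsProper f]
    (hgen : f.base (genericPoint X) = genericPoint Y) (hbir : IsIso (f.stalkMap (genericPoint X)))
    (y : Y) : ConnectedSpace ↥(f.fiber y) := by
  have : IsLocallyNoetherian X := LocallyOfFiniteType.isLocallyNoetherian f
  have hdom : f.base (genericPoint X) ⤳ genericPoint Y := specializes_of_eq hgen
  have hiso : ∀ V : Y.Opens, IsIso (f.app V) := by
    refine Groth.Agent.S2422.result hY f hdom fun x _ => ?_
    have h1 : Function.Surjective (f.stalkMap (genericPoint X)).hom :=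
      ((ConcreteCategory.isIso_iff_bijective (f.stalkMap (genericPoint X))).mp hbir).2
    have : IsIso (Y.presheaf.stalkSpecializes hdom) := by
      have : IsIso ((Y.presheaf.stalkCongr (Inseparable.of_eq hgen)).inv) := inferInstance
      exact this
    have h2 : Function.Surjective (Y.presheaf.stalkSpecializes hdom).hom :=
      ((ConcreteCategory.isIso_iff_bijective (Y.presheaf.stalkSpecializes hdom)).mp this).2
    obtain ⟨a, rfl⟩ := h1 x
    obtain ⟨b, rfl⟩ := h2 a
    exact ⟨b, rfl⟩
  exact (Groth.Agent.S2431.result f hiso).1 y

end Groth.Agent.S15544
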