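import Groth.Statements.S17018
import Groth.Agent.Sga7.H543.SpecFib

set_option autoImplicit false
universe u
open CategoryTheory CategoryTheory.Limits AlgebraicGeometry
open scoped TensorProduct
open Models

namespace Groth.Agent.S17018

open IsLocalRing

/-- At the generic point of a component of a reduced special fibre the maximal ideal of the local ring of
`X` is generated by a uniformizer of `R`. -/
theorem maximalIdeal_stalk
    (R : Type u) [CommRing R] [IsDomain R] [IsDiscreteValuationRing R]
    (X : Scheme.{u}) (f : X ⟶ Spec (CommRingCat.of R))
    (Xs : Scheme.{u}) (gs : Xs ⟶ X) (fs : Xs ⟶ Spec (CommRingCat.of (IsLocalRing.ResidueField R)))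
    (hs : IsPullback gs fs f (Spec.map (CommRingCat.ofHom (IsLocalRing.residue R))))
    [IsReduced Xs] (ξ : Xs) (hξ : closure ({ξ} : Set Xs) ∈ irreducibleComponents Xs) :
    IsLocalRing.maximalIdeal (X.presheaf.stalk (gs ξ)) =
      Ideal.map ((X.presheaf.germ ⊤ (gs ξ) trivial).hom.comp (Coh.toGlobal f))
        (IsLocalRing.maximalIdeal R) := by
  obtain ⟨ϖ, hϖ⟩ := IsDiscreteValuationRing.exists_irreducible R
  have hci : IsClosedImmersion gs := Sga7.H543.SpecFib.isClosedImmersion_of_isPullback hs
  have h1 := Sga7.H543.SpecFib.stalkIdeal_ker hs hϖ.maximalIdeal_eq (gs ξ)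
  have h2 := Divis.CartierStalk.ker_stalkMap gs ξ
  have h3 : IsField (Xs.presheaf.stalk ξ) :=
    isField_stalk_of_closure_mem_irreducibleComponents Xs ξ hξ
  have h4 : Function.Surjective (gs.stalkMap ξ).hom := gs.stalkMap_surjective ξ
  have h5 : (RingHom.ker (gs.stalkMap ξ).hom).IsMaximal := by
    let _ := h3.toField
    exact RingHom.ker_isMaximal_of_surjective _ h4
  rw [← IsLocalRing.eq_maximalIdeal h5, h2, h1, hϖ.maximalIdeal_eq, Ideal.map_span,
    Set.image_singleton]
  rfl

/-- Let R be a discrete valuation ring with algebraically closed residue field and f : X → Spec R a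
proper flat morphism whose generic fibre (base change to the fraction field of R) is smooth of
relative dimension 1 and connected and whose special fibre (base change to the residue field) is
connected and reduced; let ξ be the generic point of an irreducible component of the special fibre
and B a discrete valuation ring given with an isomorphism from the local ring of X at ξ under which
R → B is the map induced by f. Then the maximal ideal of B is the extension of the maximal ideal of
R: a uniformizer of R maps to a uniformizer of B. (The published setting takes everything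
essentially of finite type over a field of characteristic zero; the printed argument does not use
this and it is not imposed here.) -/
theorem result
    (R : Type u) [CommRing R] [IsDomain R] [IsDiscreteValuationRing R]
    [IsAlgClosed (IsLocalRing.ResidueField R)]
    (X : Scheme.{u}) (f : X ⟶ Spec (CommRingCat.of R)) [IsProper f] [Flat f]
    (XK : Scheme.{u}) (gK : XK ⟶ X) (fK : XK ⟶ Spec (CommRingCat.of (FractionRing R)))
    (hK : IsPullback gK fK f (Spec.map (CommRingCat.ofHom (algebraMap R (FractionRing R)))))
    [SmoothOfRelativeDimension 1 fK] [ConnectedSpace XK]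
    (Xs : Scheme.{u}) (gs : Xs ⟶ X) (fs : Xs ⟶ Spec (CommRingCat.of (IsLocalRing.ResidueField R)))
    (hs : IsPullback gs fs f (Spec.map (CommRingCat.ofHom (IsLocalRing.residue R))))
    [ConnectedSpace Xs] [IsReduced Xs]
    (ξ : Xs) (hξ : closure ({ξ} : Set Xs) ∈ irreducibleComponents Xs)
    (B : Type u) [CommRing B] [IsDomain B] [IsDiscreteValuationRing B] [Algebra R B]
    (e : X.presheaf.stalk (gs.base ξ) ≅ CommRingCat.of B)
    (he : e.hom.hom.comp ((X.presheaf.germ ⊤ (gs.base ξ) trivial).hom.comp (Coh.toGlobal f)) =
      algebraMap R B) :
    IsLocalRing.maximalIdeal B = Ideal.map (algebraMap R B) (IsLocalRing.maximalIdeal R) := by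
  have h1 := maximalIdeal_stalk R X f Xs gs fs hs ξ hξ
  rw [← he, ← Ideal.map_map]
  have h2 : IsLocalRing.maximalIdeal B =
      (IsLocalRing.maximalIdeal (X.presheaf.stalk (gs ξ))).map e.hom.hom := by
    have h3 : Function.Surjective e.hom.hom := e.commRingCatIsoToRingEquiv.surjective
    exact (IsLocalRing.map_maximalIdeal_of_surjective _ h3).symm
  rw [h2, h1]

end Groth.Agent.S17018
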