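import Groth.Statements.S7410
import Groth.Agent.S7395
import Groth.Agent.Lim.K339.SepModel
import Groth.Agent.Lim.K339.ChowStep
import Groth.Agent.Lim.K339.LimTop

set_option autoImplicit false
universe u
open CategoryTheory AlgebraicGeometry
open Lim

namespace Groth.Agent.S7410

open Groth.Agent.Smoothlim.LimBase K339.LimTop in
/-- Chow's lemma, version with a dense open: let `S` be quasi-compact and quasi-separated and `f : X →
S` separated of finite type, with `X` having finitely many irreducible components. Then for some `n`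
there are a scheme `X'`, a proper surjective `π : X' → X`, an immersion `X' → P^n_S` compatible with
the maps to `S`, and a dense open `U ⊆ X` such that `π⁻¹(U) → U` is an isomorphism. -/
theorem result {X S : Scheme.{u}} (f : X ⟶ S) [CompactSpace S]
    [QuasiSeparatedSpace S] [IsSeparated f] [LocallyOfFiniteType f] [QuasiCompact f]
    (hirr : (irreducibleComponents (X : Type u)).Finite) :
    ∃ (n : ℕ) (X' : Scheme.{u}) (π : X' ⟶ X) (j : X' ⟶ CohB1.ProjSpaceOver n S),
      IsImmersion j ∧ j ≫ CohB1.ProjSpaceOver.toBase n S = π ≫ f ∧ IsProper π ∧ Surjective π ∧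
      ∃ U : X.Opens, Dense (U : Set X) ∧ IsIso (π ∣_ U) := by
  obtain ⟨Y, g, i, h1, h2, h3, h4, h5⟩ := Groth.Agent.S7395.result f
  obtain ⟨I, _, _, D, c, hc, e, k, Y₀, g₀, q, sq, h6, h7, h8, hD, hN⟩ := K339.SepModel.exists_model g
  have hXc : CompactSpace X := QuasiCompact.compactSpace_of_compactSpace f
  -- the diagram with limit `Y`
  let E : Over k ⥤ Scheme.{u} := pbDiag D k g₀
  let cE : Limits.Cone E := pbCone k g₀ c q (g ≫ e.inv) sq.toCommSq
  have hcE : Limits.IsLimit cE := isLimitPbCone k g₀ c hc q (g ≫ e.inv) sq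
  have hE : ∀ {φ ψ : Over k} (m : φ ⟶ ψ), IsAffineHom (E.map m) := fun m => isAffineHom_pbDiag_map D k g₀ m
  -- the generic points
  have hκ : Finite (irreducibleComponents (X : Type u)) := hirr
  obtain ⟨η, hη, hηs⟩ := exists_generic (X := (X : Type u))
  let κ := {ab : irreducibleComponents (X : Type u) × irreducibleComponents (X : Type u) // ab.1 ≠ ab.2}
  have hκ' : Finite κ := inferInstance
  obtain ⟨φ, hφ⟩ := exists_stage E cE hcE (fun a : κ => (i (η a.1.1) : Y)) (fun a : κ => (i (η a.1.2) : Y))
    (fun a hs => hηs _ _ a.2 (i.isClosedEmbedding.isInducing.specializes_iff.mp hs))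
  -- the stage
  let Z := Limits.pullback g₀ (D.map φ.hom)
  let gZ : Z ⟶ D.obj φ.left := Limits.pullback.snd g₀ (D.map φ.hom)
  let qZ : Y ⟶ Z := cE.π.app φ
  have hqZ : qZ ≫ Limits.pullback.fst g₀ (D.map φ.hom) = q := Limits.pullback.lift_fst _ _ _
  have hqZ' : qZ ≫ gZ = (g ≫ e.inv) ≫ c.π.app φ.left := Limits.pullback.lift_snd _ _ _
  let p : S ⟶ D.obj φ.left := e.inv ≫ c.π.app φ.left
  have sqZ : IsPullback qZ g gZ p := by
    have sqa : IsPullback qZ (g ≫ e.inv) gZ (c.π.app φ.left) := by
      refine IsPullback.of_right (h₁₂ := Limits.pullback.fst g₀ (D.map φ.hom)) (h₂₂ := D.map φ.hom)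
        (v₁₃ := g₀) ?_ hqZ' (IsPullback.of_hasPullback _ _)
      rw [hqZ, c.w]
      exact sq
    exact sqa.of_iso (Iso.refl _) (Iso.refl _) e (Iso.refl _) (by simp) (by simp) (by simp) (by simp [p])
  -- the scheme theoretic image
  let h : X ⟶ Z := i ≫ qZ
  have hqcq : QuasiSeparated gZ := inferInstance
  have hNφ := hN φ.left
  have hqZs : QuasiSeparatedSpace Z := quasiSeparatedSpace_of_quasiSeparated gZ
  have hqc : QuasiCompact h := inferInstance
  let W := h.image
  let gW : W ⟶ D.obj φ.left := h.imageι ≫ gZ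
  have w : h.toImage ≫ gW = f ≫ p := by
    rw [← Category.assoc, Scheme.Hom.toImage_imageι, Category.assoc, sqZ.w, reassoc_of% h5]
  have w' : h ≫ gZ = f ≫ p := by
    rw [Category.assoc, sqZ.w, reassoc_of% h5]
  have himm' : IsImmersion (Limits.pullback.lift h f w') := by
    have hl : Limits.pullback.lift h f w' = i ≫ sqZ.isoPullback.hom := by
      apply Limits.pullback.hom_ext
      · rw [Limits.pullback.lift_fst, Category.assoc, sqZ.isoPullback_hom_fst]
      · rw [Limits.pullback.lift_snd, Category.assoc, sqZ.isoPullback_hom_snd, h5]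
    rw [hl]
    infer_instance
  have himm : IsImmersion (Limits.pullback.lift h.toImage f w) := by
    let r : Limits.pullback gW p ⟶ Limits.pullback gZ p :=
      Limits.pullback.lift (Limits.pullback.fst gW p ≫ h.imageι) (Limits.pullback.snd gW p) (by
        rw [Category.assoc]
        exact Limits.pullback.condition)
    have hr : Limits.pullback.lift h.toImage f w ≫ r = Limits.pullback.lift h f w' := by
      apply Limits.pullback.hom_ext
      · rw [Category.assoc, Limits.pullback.lift_fst, Limits.pullback.lift_fst_assoc,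
          Scheme.Hom.toImage_imageι, Limits.pullback.lift_fst]
      · rw [Category.assoc, Limits.pullback.lift_snd, Limits.pullback.lift_snd, Limits.pullback.lift_snd]
    have : IsImmersion (Limits.pullback.lift h.toImage f w ≫ r) := by rw [hr]; exact himm'
    exact IsImmersion.of_comp _ r
  obtain ⟨n, X', π, j, a1, a2, a3, a4, U, hU, hiso⟩ :=
    K339.ChowStep.chow_step f h.toImage gW p w himm
  refine ⟨n, X', π, j, a1, a2, a3, a4, h.toImage ⁻¹ᵁ U, ?_, hiso⟩
  refine dense_preimage η hη h.toImage.continuous (Scheme.Hom.denseRange h.toImage) ?_ (U : Set W) U.2 hU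
  intro a b hab hs
  refine hφ ⟨(a, b), hab⟩ ?_
  have h9 := hs.map h.imageι.continuous
  rw [← Scheme.Hom.comp_apply, ← Scheme.Hom.comp_apply, Scheme.Hom.toImage_imageι] at h9
  exact h9

end Groth.Agent.S7410
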