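import Groth.Statements.S18485
import Groth.Agent.FlatB.QFDense
import Groth.Agent.Dix.GenFibre
import Groth.Agent.Dix.FlatMonoStalk

set_option autoImplicit false
universe u
open CategoryTheory CategoryTheory.Limits AlgebraicGeometry MonObj
open Neron

namespace Groth.Agent.S18485

/-- Let R be a Dedekind domain with fraction field K and H a Spec R-scheme which is flat and locally of
finite type over Spec R. If the generic fibre H_K is locally quasi-finite over K, then H is locally
quasi-finite over Spec R. (The published statement is about the schematic closure, in an S-group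
algebraic space of finite type over a connected Dedekind scheme S, of a finite subgroup of the
generic fibre, which it asserts to be a quasi-finite S-group; this row is the statement about flat
schemes locally of finite type over an affine Dedekind base on which that rests. Locally
quasi-finite is meant here without a finite type clause, which is assumed separately.) -/
theorem result (R : Type u) [CommRing R]
    [IsDedekindDomain R] (H : Over (Spec (CommRingCat.of R))) [Flat H.hom] [LocallyOfFiniteType H.hom]
    [LocallyQuasiFinite ((Neron.genericFibre R).obj H).hom] : LocallyQuasiFinite H.hom := by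
  have hft : LocallyOfFinitePresentation H.hom := inferInstance
  refine Groth.Agent.FlatB.QFDense.locallyQuasiFinite_of_dense H.hom {s | s.asIdeal = ⊥} ?_ ?_
  · have h1 : DenseRange (Neron.genPt R) := (inferInstance : IsDominant (Neron.genPt R)).denseRange
    refine Dense.mono ?_ h1
    rintro _ ⟨z, rfl⟩
    exact Groth.Agent.Dix.GenFibre.asIdeal_genPt R z
  · intro x hx
    obtain ⟨z, rfl⟩ := Groth.Agent.Dix.GenFibre.exists_genι_eq H x hx
    have hq : LocallyQuasiFinite (Neron.genPt R) := by
      rw [HasRingHomProperty.Spec_iff (P := @LocallyQuasiFinite)]
      change (algebraMap R (FractionRing R)).QuasiFinite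
      rw [RingHom.quasiFinite_algebraMap]
      exact Algebra.QuasiFinite.of_isLocalization (nonZeroDivisors R)
    have h2 : LocallyQuasiFinite (Groth.Agent.Dix.GenFibre.genι H ≫ H.hom) := by
      rw [(Groth.Agent.Dix.GenFibre.isPullback_genι H).w]
      infer_instance
    have h3 := (Groth.Agent.Dix.GenFibre.genι H ≫ H.hom).quasiFiniteAt z
    have h4 := Groth.Agent.Dix.FlatMonoStalk.isIso_stalkMap_of_flat_of_mono
      (Groth.Agent.Dix.GenFibre.genι H) z
    unfold Scheme.Hom.QuasiFiniteAt at h3 ⊢
    rw [Scheme.Hom.stalkMap_comp] at h3
    have h5 : (H.hom.stalkMap (Groth.Agent.Dix.GenFibre.genι H z)).hom =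
        (inv ((Groth.Agent.Dix.GenFibre.genι H).stalkMap z)).hom.comp
          (H.hom.stalkMap (Groth.Agent.Dix.GenFibre.genι H z) ≫
            (Groth.Agent.Dix.GenFibre.genι H).stalkMap z).hom := by
      rw [← CommRingCat.hom_comp, Category.assoc, IsIso.hom_inv_id, Category.comp_id]
    rw [h5]
    refine RingHom.QuasiFinite.comp (RingHom.QuasiFinite.of_finite (RingHom.Finite.of_surjective _ ?_)) h3
    exact (ConcreteCategory.bijective_of_isIso (inv ((Groth.Agent.Dix.GenFibre.genι H).stalkMap z))).2

end Groth.Agent.S18485
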