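import Groth.Statements.S9256
import Groth.Agent.CalgB.RegHom6
import Groth.Agent.S2654
import Groth.Agent.S2615

set_option autoImplicit false
universe u
open CAlg

namespace Groth.Agent.S9256

/-- For a field extension K of k, the ring map k → K is regular exactly when K is separable over k, that
is, geometrically reduced over k. -/
theorem result (k K : Type u) [Field k] [Field K]
    [Algebra k K] : CAlg.IsRegularHom k K ↔ Algebra.IsGeometricallyReduced k K := by
  constructor
  · intro h
    apply Groth.Agent.S2654.isGeometricallyReduced_of_isGeometricallyRegular
    intro k' _ _ hk'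
    exact Groth.Agent.CalgB.RegHom6.FieldFib.of_isRegularHom h k' inferInstance
  · intro h
    rw [Groth.Agent.CalgB.RegHom6.isRegularHom_iff]
    refine ⟨inferInstance, fun F _ _ hF ↦ ?_⟩
    have := Groth.Agent.CalgB.RegHom6.isNoetherianRing_tensor k F K
    exact Groth.Agent.S2615.result k F K (Or.inl hF)

end Groth.Agent.S9256
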