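import Groth.Statements.S7397
import Mathlib.Tactic.Ring
import Mathlib.Tactic.Push

set_option autoImplicit false
universe u
open Mor

namespace Groth.Agent.S7397

/-- Let `A ⊆ B` be a ring extension and `b ∈ B`, `b ∉ A`, with `b^n, b^(n+1) ∈ A` for some `n ≥ 2`. Then
some `b' ∈ B` with `b' ∉ A` has `b'^2 ∈ A` and `b'^3 ∈ A`. -/
theorem result {B : Type u} [CommRing B] (A : Subring B) (b : B) (hb : b ∉ A)
    (n : ℕ) (hn : 2 ≤ n) (h1 : b ^ n ∈ A) (h2 : b ^ (n + 1) ∈ A) :
    ∃ b' : B, b' ∉ A ∧ b' ^ 2 ∈ A ∧ b' ^ 3 ∈ A := by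
  classical
  have hall : ∀ m, n * n ≤ m → b ^ m ∈ A := by
    intro m hm
    have hn0 : 0 < n := by omega
    have hr : m % n < n := Nat.mod_lt _ hn0
    have hq : n ≤ m / n := (Nat.le_div_iff_mul_le hn0).2 hm
    have hm' : m = n * (m / n - m % n) + (n + 1) * (m % n) := by
      obtain ⟨q, hq'⟩ : ∃ q, m / n = q + m % n := ⟨m / n - m % n, by omega⟩
      have h3 := Nat.div_add_mod m n
      rw [hq'] at h3 ⊢
      rw [Nat.add_sub_cancel]
      calc m = n * (q + m % n) + m % n := h3.symm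
        _ = _ := by ring
    rw [hm', pow_add, pow_mul, pow_mul]
    exact A.mul_mem (A.pow_mem h1 _) (A.pow_mem h2 _)
  have hex : ∃ N, ∀ m, N ≤ m → b ^ m ∈ A := ⟨_, hall⟩
  have hspec := Nat.find_spec hex
  have hN : 2 ≤ Nat.find hex := by
    by_contra hlt
    exact hb (by simpa using hspec 1 (by omega))
  have hmin := Nat.find_min hex (m := Nat.find hex - 1) (by omega)
  push Not at hmin
  obtain ⟨m, hm, hmA⟩ := hmin
  have hm2 : m < Nat.find hex := by
    by_contra hge
    exact hmA (hspec m (by omega))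
  refine ⟨b ^ m, hmA, ?_, ?_⟩
  · rw [← pow_mul]
    exact hspec _ (by omega)
  · rw [← pow_mul]
    exact hspec _ (by omega)

end Groth.Agent.S7397
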