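import Groth.Statements.S7402
import Groth.Agent.Mor.K383.Tower

set_option autoImplicit false
universe u
open CategoryTheory AlgebraicGeometry
open Polynomial
open Mor

namespace Groth.Agent.S7402

/-- Let `A` be a ring and `x, y ∈ A` with `x^3 = y^2`. Then `A → B = A[t]/(t^2 - x, t^3 - y)` induces a
universal homeomorphism on spectra and isomorphisms on residue fields. -/
theorem result (A : Type u) [CommRing A] (x y : A) (h : x ^ 3 = y ^ 2) :
    FlatMor.IsUnivHomeo (Spec.map (CommRingCat.ofHom (algebraMap A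
      (A[X] ⧸ Ideal.span ({X ^ 2 - C x, X ^ 3 - C y} : Set A[X]))))) ∧
    ∀ q : Spec (CommRingCat.of (A[X] ⧸ Ideal.span ({X ^ 2 - C x, X ^ 3 - C y} : Set A[X]))),
      Function.Surjective ((Spec.map (CommRingCat.ofHom (algebraMap A
        (A[X] ⧸ Ideal.span ({X ^ 2 - C x, X ^ 3 - C y} : Set A[X]))))).residueFieldMap q) := by

  set I : Ideal A[X] := Ideal.span ({X ^ 2 - C x, X ^ 3 - C y} : Set A[X]) with hI
  have h2 : (Ideal.Quotient.mk I X) ^ 2 = algebraMap A (A[X] ⧸ I) x := by
    rw [← map_pow, show algebraMap A (A[X] ⧸ I) x = Ideal.Quotient.mk I (C x) from rfl,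
      Ideal.Quotient.eq]
    exact Ideal.subset_span (by simp)
  have h3 : (Ideal.Quotient.mk I X) ^ 3 = algebraMap A (A[X] ⧸ I) y := by
    rw [← map_pow, show algebraMap A (A[X] ⧸ I) y = Ideal.Quotient.mk I (C y) from rfl,
      Ideal.Quotient.eq]
    exact Ideal.subset_span (by simp)
  have hT : ∀ b : A[X] ⧸ I, ∃ l : List (A[X] ⧸ I), K383.UH.Tower (K383.UH.SqCube (A := A)) l ∧
      b ∈ Algebra.adjoin A {b : A[X] ⧸ I | b ∈ l} := by
    intro b
    refine ⟨[Ideal.Quotient.mk I X], K383.UH.tower_nil.concat (l := []) ⟨?_, ?_⟩, ?_⟩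
    · rw [h2]; exact Subalgebra.algebraMap_mem _ _
    · rw [h3]; exact Subalgebra.algebraMap_mem _ _
    · obtain ⟨f, rfl⟩ := Ideal.Quotient.mk_surjective b
      have : Ideal.Quotient.mk I f = aeval (Ideal.Quotient.mk I X) f := by
        have := Polynomial.aeval_algHom_apply (Ideal.Quotient.mkₐ A I) X f
        rw [aeval_X_left_apply] at this
        exact this.symm
      rw [this]
      refine Algebra.adjoin_mono ?_ (aeval_mem_adjoin_singleton A _)
      simp
  refine ⟨K383.UH.isUnivHomeo_of_towers ?_ ?_, K383.UH.residue_of_towers hT⟩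
  · intro a ha
    rw [nilradical_eq_sInf, Ideal.mem_sInf]
    intro P (hP : P.IsPrime)
    obtain ⟨t, ht2, ht3⟩ : ∃ t : P.ResidueField, t ^ 2 = algebraMap A _ x ∧ t ^ 3 = algebraMap A _ y := by
      have h' : (algebraMap A P.ResidueField x) ^ 3 = (algebraMap A P.ResidueField y) ^ 2 := by
        rw [← map_pow, ← map_pow, h]
      generalize algebraMap A P.ResidueField x = x' at h' ⊢
      generalize algebraMap A P.ResidueField y = y' at h' ⊢
      by_cases hx : x' = 0
      · subst hx
        rw [zero_pow three_ne_zero] at h'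
        have hy : y' = 0 := pow_eq_zero_iff two_ne_zero |>.1 h'.symm
        subst hy
        exact ⟨0, by simp, by simp⟩
      · refine ⟨y' / x', ?_, ?_⟩
        · rw [div_pow, ← h', pow_succ, mul_div_cancel_left₀ _ (pow_ne_zero 2 hx)]
        · have hy : y' ≠ 0 := by
            rintro rfl
            rw [zero_pow two_ne_zero] at h'
            exact hx (pow_eq_zero_iff three_ne_zero |>.1 h')
          rw [div_pow, h', pow_succ, mul_div_cancel_left₀ _ (pow_ne_zero 2 hy)]
    let g : A[X] ⧸ I →+* P.ResidueField := Ideal.Quotient.lift I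
      (eval₂RingHom (algebraMap A P.ResidueField) t) (by
        intro f hf
        have : I ≤ RingHom.ker (eval₂RingHom (algebraMap A P.ResidueField) t) := by
          rw [hI, Ideal.span_le]
          rintro f (rfl | rfl)
          · simp [RingHom.mem_ker, ht2]
          · simp [RingHom.mem_ker, ht3]
        exact this hf)
    have hg : ∀ a : A, g (algebraMap A (A[X] ⧸ I) a) = algebraMap A P.ResidueField a := by
      intro a
      show eval₂RingHom (algebraMap A P.ResidueField) t (C a) = _
      simp
    rw [← Ideal.algebraMap_residueField_eq_zero, ← hg, (RingHom.mem_ker).1 ha, map_zero]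
  · intro b
    obtain ⟨l, hl, hb⟩ := hT b
    exact ⟨l, hl.mono' fun C b h => h.or, hb⟩

end Groth.Agent.S7402
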