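import Groth.Statements.S7403
import Groth.Agent.Mor.K383.Tower
import Mathlib.FieldTheory.IsAlgClosed.AlgebraicClosure

set_option autoImplicit false
universe u
open CategoryTheory AlgebraicGeometry
open Polynomial
open Mor

namespace Groth.Agent.S7403

/-- Let `A` be a ring, `p` a prime number and `x, y ∈ A` with `p^p x = y^p`. Then `A → B = A[t]/(t^p -
x, p t - y)` induces a universal homeomorphism on spectra. -/
theorem result (A : Type u) [CommRing A] (p : ℕ) (hp : p.Prime) (x y : A)
    (h : (p : A) ^ p * x = y ^ p) :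
    FlatMor.IsUnivHomeo (Spec.map (CommRingCat.ofHom (algebraMap A
      (A[X] ⧸ Ideal.span ({X ^ p - C x, C (p : A) * X - C y} : Set A[X]))))) := by

  set I : Ideal A[X] := Ideal.span ({X ^ p - C x, C (p : A) * X - C y} : Set A[X]) with hI
  have h2 : (Ideal.Quotient.mk I X) ^ p = algebraMap A (A[X] ⧸ I) x := by
    rw [← map_pow, show algebraMap A (A[X] ⧸ I) x = Ideal.Quotient.mk I (C x) from rfl,
      Ideal.Quotient.eq]
    exact Ideal.subset_span (by simp)
  have h3 : ((p : ℕ) : A[X] ⧸ I) * (Ideal.Quotient.mk I X) = algebraMap A (A[X] ⧸ I) y := by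
    rw [← map_natCast (algebraMap A (A[X] ⧸ I)),
      show algebraMap A (A[X] ⧸ I) y = Ideal.Quotient.mk I (C y) from rfl,
      show algebraMap A (A[X] ⧸ I) p = Ideal.Quotient.mk I (C p) from rfl, ← map_mul,
      Ideal.Quotient.eq]
    exact Ideal.subset_span (by simp)
  have hT : ∀ b : A[X] ⧸ I, ∃ l : List (A[X] ⧸ I), K383.UH.Tower (K383.UH.SqCubeOr (A := A)) l ∧
      b ∈ Algebra.adjoin A {b : A[X] ⧸ I | b ∈ l} := by
    intro b
    refine ⟨[Ideal.Quotient.mk I X], K383.UH.tower_nil.concat (l := []) (Or.inr ⟨p, hp, ?_, ?_⟩), ?_⟩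
    · rw [h3]; exact Subalgebra.algebraMap_mem _ _
    · rw [h2]; exact Subalgebra.algebraMap_mem _ _
    · obtain ⟨f, rfl⟩ := Ideal.Quotient.mk_surjective b
      have : Ideal.Quotient.mk I f = aeval (Ideal.Quotient.mk I X) f := by
        have := Polynomial.aeval_algHom_apply (Ideal.Quotient.mkₐ A I) X f
        rw [aeval_X_left_apply] at this
        exact this.symm
      rw [this]
      refine Algebra.adjoin_mono ?_ (aeval_mem_adjoin_singleton A _)
      simp
  refine K383.UH.isUnivHomeo_of_towers ?_ hT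
  intro a ha
  rw [nilradical_eq_sInf, Ideal.mem_sInf]
  intro P (hP : P.IsPrime)
  let K := AlgebraicClosure P.ResidueField
  let φ : A →+* K := (algebraMap P.ResidueField K).comp (algebraMap A P.ResidueField)
  obtain ⟨t, ht2, ht3⟩ : ∃ t : K, t ^ p = φ x ∧ (p : K) * t = φ y := by
    have h' : (p : K) ^ p * φ x = φ y ^ p := by
      rw [← map_pow, ← h, map_mul, map_pow, map_natCast]
    by_cases hx : (p : K) = 0
    · obtain ⟨t, ht⟩ := IsAlgClosed.exists_pow_nat_eq (φ x) hp.pos
      refine ⟨t, ht, ?_⟩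
      rw [hx, zero_pow hp.ne_zero, zero_mul] at h'
      rw [hx, zero_mul]
      exact (pow_eq_zero_iff hp.ne_zero |>.1 h'.symm).symm
    · refine ⟨φ y / p, ?_, ?_⟩
      · rw [div_pow, ← h', mul_div_cancel_left₀ _ (pow_ne_zero p hx)]
      · rw [mul_div_cancel₀ _ hx]
  let g : A[X] ⧸ I →+* K := Ideal.Quotient.lift I
    (eval₂RingHom φ t) (by
      intro f hf
      have : I ≤ RingHom.ker (eval₂RingHom φ t) := by
        rw [hI, Ideal.span_le]
        rintro f (rfl | rfl)
        · simp [RingHom.mem_ker, ht2]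
        · simp only [SetLike.mem_coe, RingHom.mem_ker, coe_eval₂RingHom, eval₂_sub, eval₂_mul,
            eval₂_C, eval₂_X, map_natCast, eval₂_natCast]
          rw [ht3, sub_self]
      exact this hf)
  have hg : ∀ a : A, g (algebraMap A (A[X] ⧸ I) a) = φ a := by
    intro a
    show eval₂RingHom φ t (C a) = _
    simp
  have h4 : φ a = 0 := by rw [← hg, (RingHom.mem_ker).1 ha, map_zero]
  rw [← Ideal.algebraMap_residueField_eq_zero]
  exact (map_eq_zero (algebraMap P.ResidueField K)).1 h4

end Groth.Agent.S7403
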