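import Groth.Statements.S17941
import Groth.Agent.MultCrv.K940.Duality
import Mathlib.LinearAlgebra.Dual.Lemmas
import Mathlib.Algebra.Module.Projective

set_option autoImplicit false
universe u
open MultCrv

namespace Groth.Agent.S17941

/-- Let R be a discrete valuation ring, n ≥ 1, A = R[X]/(X^n), and 0 → M' → M → M'' → 0 a short exact
sequence of finitely generated A-modules with M and M'' torsion-free as R-modules (so M' is as
well). Then the A-dual sequence 0 → Hom_A(M'', A) → Hom_A(M, A) → Hom_A(M', A) → 0 is exact; the
content is that every A-linear form on M' extends to M, i.e. restriction of forms along M' → M is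
surjective. (Statement at a closed point of the sheaf statement on a primitive multiple curve of
multiplicity n, whose local rings are of the form R[X]/(X^n) with R the local ring of the reduced
smooth curve; stated for every discrete valuation ring R.) -/
theorem result (R : Type u) [CommRing R] [IsDomain R] [IsDiscreteValuationRing R] (n : ℕ) (hn : 1 ≤ n) (M' M M'' : Type u) [AddCommGroup M'] [Module (MultCrv.Rn R n) M'] [AddCommGroup M] [Module (MultCrv.Rn R n) M] [Module R M] [IsScalarTower R (MultCrv.Rn R n) M] [Module.Finite (MultCrv.Rn R n) M] [Module.IsTorsionFree R M] [AddCommGroup M''] [Module (MultCrv.Rn R n) M''] [Module R M''] [IsScalarTower R (MultCrv.Rn R n) M''] [Module.Finite (MultCrv.Rn R n) M''] [Module.IsTorsionFree R M''] (f : M' →ₗ[MultCrv.Rn R n] M) (g : M →ₗ[MultCrv.Rn R n] M'') (hf : Function.Injective f) (hg : Function.Surjective g) (hfg : LinearMap.range f = LinearMap.ker g) : Function.Surjective (f.dualMap : Module.Dual (MultCrv.Rn R n) M →ₗ[MultCrv.Rn R n] Module.Dual (MultCrv.Rn R n) M') := by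
  have hfin := K940.MultCrvBasic.finite_of_finite R n M''
  have hfree : Module.Free R M'' := Module.free_of_finite_type_torsion_free'
  let _ : Module R M' := Module.compHom M' (algebraMap R (MultCrv.Rn R n))
  have _ : IsScalarTower R (MultCrv.Rn R n) M' := ⟨fun r a m => by
    change (r • a) • m = algebraMap R (MultCrv.Rn R n) r • a • m
    rw [smul_smul]
    exact congrArg (· • m) (Algebra.smul_def r a)⟩
  let f' : M' →ₗ[R] M := f.restrictScalars R
  let g' : M →ₗ[R] M'' := g.restrictScalars R
  obtain ⟨s, hs⟩ := Module.projective_lifting_property g' LinearMap.id hg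
  -- retraction
  have hker : ∀ m : M, m - s (g' m) ∈ LinearMap.range f' := by
    intro m
    have h1 : m - s (g' m) ∈ LinearMap.ker g := by
      rw [LinearMap.mem_ker]
      change g' (m - s (g' m)) = 0
      rw [map_sub]
      have := DFunLike.congr_fun hs (g' m)
      change g' (s (g' m)) = g' m at this
      rw [this, sub_self]
    rw [← hfg] at h1
    exact h1
  let e : M' ≃ₗ[R] LinearMap.range f' := LinearEquiv.ofInjective f' hf
  let p : M →ₗ[R] M' := e.symm.toLinearMap ∘ₗ
    ((LinearMap.id - s ∘ₗ g').codRestrict (LinearMap.range f') hker)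
  have hp : ∀ m' : M', p (f m') = m' := by
    intro m'
    have h1 : g' (f' m') = 0 := by
      change g (f m') = 0
      rw [← LinearMap.mem_ker, ← hfg]
      exact ⟨m', rfl⟩
    change e.symm _ = m'
    rw [LinearEquiv.symm_apply_eq]
    apply Subtype.ext
    change f' m' - s (g' (f' m')) = f' m'
    rw [h1, map_zero, sub_zero]
  intro φ
  refine ⟨K940.MultCrvDuality.up ((K940.MultCrvDuality.top hn φ) ∘ₗ p), ?_⟩
  ext m'
  change K940.MultCrvDuality.up ((K940.MultCrvDuality.top hn φ) ∘ₗ p) (f m') = φ m'
  apply K940.MultCrvDuality.ext_co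
  intro j hj
  rw [K940.MultCrvDuality.coAdd_up, ← map_smul, LinearMap.comp_apply, hp,
    K940.MultCrvDuality.top_zpow]

end Groth.Agent.S17941
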