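import Groth.Statements.S5976
import Groth.Agent.Nrm16.K137.Imm
import Groth.Agent.Nrm16.K137.Ideal
-- import your own Groth.Agent.* helpers here

set_option autoImplicit false
universe u
open CategoryTheory CategoryTheory.Limits AlgebraicGeometry TopologicalSpace Opposite
open Nrm16

namespace Groth.Agent.S5976

open K137.Basic K583.DerAffine OmegaSh

/-- The underlying presheaf of abelian groups of the structure sheaf. -/
abbrev abO (X : Scheme.{u}) : TopCat.Presheaf Ab.{u} X :=
  X.presheaf ⋙ forget₂ CommRingCat RingCat ⋙ forget₂ RingCat AddCommGrpCat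

/-- Let f : Y ⟶ Z be a morphism and j : X ⟶ Y a quasi-compact immersion. Let (Ω_{Y/Z}, d) and (Ω_{X/Z},
d') be sheaves of differentials (universal derivations), φ : N_{X/Y} ⟶ j^*Ω_{Y/Z} the canonical map
from the conormal sheaf of j (class of a local section s of the ideal ↦ pullback of d s) and c :
j^*Ω_{Y/Z} ⟶ Ω_{X/Z} the canonical map compatible with the derivations. Then c is an epimorphism and
the image of φ is the kernel of c: the sequence N_{X/Y} ⟶ j^*Ω_{Y/Z} ⟶ Ω_{X/Z} ⟶ 0 is exact. (The
published statement allows any immersion j; this row assumes j quasi-compact, the case in which the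
conormal sheaf used here is that of j.) -/
theorem result {X Y Z : Scheme.{u}} (f : Y ⟶ Z) (j : X ⟶ Y)
    [IsImmersion j] [QuasiCompact j]
    (ΩY : Y.Modules) (dY : OmegaSh.Der f ΩY) (hY : OmegaSh.IsUniversal dY)
    (ΩX : X.Modules) (dX : OmegaSh.Der (j ≫ f) ΩX) (hX : OmegaSh.IsUniversal dX)
    (φ : Omega.conormal j ⟶ (Scheme.Modules.pullback j).obj ΩY) (hφ : OmegaSh.IsConormalDiff j dY φ)
    (c : (Scheme.Modules.pullback j).obj ΩY ⟶ ΩX) (hc : OmegaSh.IsDiffCompat j dY dX c) :
    Epi c ∧ imageSubobject φ = kernelSubobject c := by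
  -- uniqueness of maps out of `ΩX` and `ΩY`
  have extX : ∀ {N : X.Modules} {a b : ΩX ⟶ N},
      (∀ (U : X.Opens) (s : Γ(X, U)), a.app U (dX.app U s) = b.app U (dX.app U s)) → a = b := by
    intro N a b h
    refine (hX N (dX.postcomp a.val)).unique rfl ?_
    exact ext_of_app (D := dX.postcomp b.val) (D' := dX.postcomp a.val) (fun U s => (h U s).symm)
  have extY : ∀ {N : Y.Modules} {a b : ΩY ⟶ N},
      (∀ (U : Y.Opens) (s : Γ(Y, U)), a.app U (dY.app U s) = b.app U (dY.app U s)) → a = b := by
    intro N a b h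
    refine (hY N (dY.postcomp a.val)).unique rfl ?_
    exact ext_of_app (D := dY.postcomp b.val) (D' := dY.postcomp a.val) (fun U s => (h U s).symm)
  have hepi : Epi c := by
    refine ⟨fun {N} a b hab => ?_⟩
    have h1 : dX.postcomp a.val = dX.postcomp b.val := by
      refine ext_of_locally fun x U hx => ?_
      obtain ⟨k, hk, hkU⟩ := K137.Imm.exists_ch (i := j) x U hx
      refine ⟨j ⁻¹ᵁ k.V, hkU, hk, fun t => ?_⟩
      obtain ⟨s, rfl⟩ := K137.Imm.app_surjective k t
      change a.app _ (dX.app _ (j.app k.V s)) = b.app _ (dX.app _ (j.app k.V s))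
      rw [← hc]
      exact congr(($(hab).app _) (pullSect j ΩY k.V (dY.app k.V s)))
    exact (hX N (dX.postcomp a.val)).unique rfl h1.symm
  refine ⟨hepi, ?_⟩
  refine image_eq_kernel _ _ ?_ ?_
  · -- the composite is zero
    apply pull_hom_ext
    intro U s
    change c.app (j ⁻¹ᵁ U) (φ.app (j ⁻¹ᵁ U) (conormalSect j U s)) = 0
    rw [hφ, hc, K137.Ideal.app_idealSect, map_zero]
  · intro N k hk
    obtain ⟨β, hβ⟩ := K137.Imm.exists_desc_presheaf (i := j) (fun c : K137.Imm.Ch j => c.V) K137.Imm.isBasis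
      (abO Y) (abO X) N.presheaf N.isSheaf (fun U => (j.app U).hom.toAddMonoidHom)
      (fun U V h q => congr($(j.naturality (homOfLE h).op) q))
      (fun U => (k.app (j ⁻¹ᵁ U)).hom.comp ((pullSect j ΩY U).hom.comp (dY.app U)))
      (fun U V h q => by
        change k.app (j ⁻¹ᵁ V) (pullSect j ΩY V (dY.app V (Y.presheaf.map (homOfLE h).op q))) =
          N.presheaf.map (homOfLE (j.preimage_mono h)).op (k.app (j ⁻¹ᵁ U) (pullSect j ΩY U (dY.app U q)))
        rw [app_map, pullSect_map]
        exact congr($((Scheme.Modules.Hom.mapPresheaf k).naturality (homOfLE (j.preimage_mono h)).op)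
          (pullSect j ΩY U (dY.app U q))))
      (fun k => K137.Imm.app_surjective k)
      (fun U q hq => by
        change k.app (j ⁻¹ᵁ U) (pullSect j ΩY U (dY.app U q)) = 0
        obtain ⟨t, rfl⟩ := (K137.Ideal.app_eq_zero_iff j U q).mp hq
        rw [← hφ]
        exact congr(($(hk).app (j ⁻¹ᵁ U)) (conormalSect j U t)))
    have hβ' : ∀ (U : Y.Opens) (s : Γ(Y, U)), β.app (op (j ⁻¹ᵁ U)) (j.app U s) =
      k.app (j ⁻¹ᵁ U) (pullSect j ΩY U (dY.app U s)) := hβ
    have hβn : ∀ (U V : X.Opens) (h : V ≤ U) (s : Γ(X, U)),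
        β.app (op V) (X.presheaf.map (homOfLE h).op s) = N.presheaf.map (homOfLE h).op (β.app (op U) s) := by
      intro U V h s
      exact NatTrans.naturality_apply β _ _
    let D : Der (j ≫ f) N := mkDer (j ≫ f) N (fun U => (β.app (op U)).hom)
      (fun U a b => by
        apply eq_of_locally
        intro x hx
        obtain ⟨k', hk', hkU⟩ := K137.Imm.exists_ch (i := j) x U hx
        refine ⟨j ⁻¹ᵁ k'.V, hkU, hk', ?_⟩
        obtain ⟨s, hs⟩ := K137.Imm.app_surjective k' (X.presheaf.map (homOfLE hkU).op a)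
        obtain ⟨t, ht⟩ := K137.Imm.app_surjective k' (X.presheaf.map (homOfLE hkU).op b)
        change N.presheaf.map (homOfLE hkU).op (β.app (op U) (a * b)) =
          N.presheaf.map (homOfLE hkU).op (a • β.app (op U) b + b • β.app (op U) a)
        rw [map_add, Scheme.Modules.map_smul, Scheme.Modules.map_smul, ← hβn, ← hβn, ← hβn, map_mul, ← hs, ← ht,
          ← map_mul, hβ', hβ', hβ', app_mul, map_add, pullSect_smul, pullSect_smul, map_add,
          Scheme.Modules.Hom.app_smul, Scheme.Modules.Hom.app_smul])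
      (fun U V h a => hβn U V h a)
      (fun V c => by
        change β.app (op (j ⁻¹ᵁ (f ⁻¹ᵁ V))) (j.app (f ⁻¹ᵁ V) (f.app V c)) = 0
        rw [hβ', app_base, map_zero, map_zero])
    obtain ⟨l, hl, -⟩ := hX N D
    refine ⟨l, ?_⟩
    have h2 : adj j (c ≫ l) = adj j k := by
      refine extY fun U s => ?_
      rw [adj_app, adj_app]
      change l.app (j ⁻¹ᵁ U) (c.app (j ⁻¹ᵁ U) (pullSect j ΩY U (dY.app U s))) = _
      rw [hc, ← hβ']
      exact congrArg (fun D => Der.app (F := N) D (j ⁻¹ᵁ U) (j.app U s)) hl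
    apply pull_hom_ext
    intro U s
    rw [← adj_app, ← adj_app, h2]

end Groth.Agent.S5976
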