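import Groth.Statements.S7615
import Groth.Agent.S1540
import Groth.Agent.S1544
import Groth.Agent.Etalg.SepSol2
import Mathlib.AlgebraicGeometry.Morphisms.Proper

set_option autoImplicit false
universe u
open CategoryTheory CategoryTheory.Limits AlgebraicGeometry
open Variety

namespace Groth.Agent.S7615

/-- Let X be a proper variety over a field k (integral, separated, of finite type and proper over k) and
K = H^0(X, O_X), a k-algebra via the structure morphism. Then K is a field, finite over k; K/k is
separable when X is geometrically reduced over k, and purely inseparable when X is geometrically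
irreducible over k. -/
theorem result (k : Type u) [Field k] (X : Scheme.{u}) [X.Over (Spec (CommRingCat.of k))] [IsIntegral X] [IsProper (X ↘ (Spec (CommRingCat.of k)))] :
    letI := ((X ↘ (Spec (CommRingCat.of k))).appTop.hom.comp (Scheme.ΓSpecIso (CommRingCat.of k)).inv.hom : k →+* Γ(X, ⊤)).toAlgebra
    IsField ↑Γ(X, ⊤) ∧ Module.Finite k ↑Γ(X, ⊤) ∧
      (GeometricallyReduced (X ↘ (Spec (CommRingCat.of k))) → Algebra.IsSeparable k ↑Γ(X, ⊤)) ∧
      (GeometricallyIrreducible (X ↘ (Spec (CommRingCat.of k))) → IsPurelyInseparable k ↑Γ(X, ⊤)) := by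
  letI alg : Algebra k Γ(X, ⊤) := ((X ↘ (Spec (CommRingCat.of k))).appTop.hom.comp
    (Scheme.ΓSpecIso (CommRingCat.of k)).inv.hom : k →+* Γ(X, ⊤)).toAlgebra
  have hfield : IsField Γ(X, ⊤) := isField_of_universallyClosed k (X ↘ (Spec (CommRingCat.of k)))
  have hfin : Module.Finite k Γ(X, ⊤) := by
    have h1 : ((X ↘ (Spec (CommRingCat.of k))).appTop).hom.Finite :=
      finite_appTop_of_universallyClosed k (X ↘ (Spec (CommRingCat.of k)))
    have h2 : (Scheme.ΓSpecIso (CommRingCat.of k)).inv.hom.Finite :=
      RingHom.Finite.of_surjective _ (Scheme.ΓSpecIso (CommRingCat.of k)).symm.commRingCatIsoToRingEquiv.surjective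
    exact RingHom.Finite.comp h1 h2
  refine ⟨hfield, hfin, ?_, ?_⟩
  · intro hgr
    letI : Field Γ(X, ⊤) := hfield.toField
    letI algF : Algebra k X.functionField := Curv2.stalkAlgebra k X (genericPoint X)
    have hF : Algebra.IsGeometricallyReduced k X.functionField := (Groth.Agent.S1544.result k X).mp hgr
    let φ : Γ(X, ⊤) →ₐ[k] X.functionField :=
      { (X.presheaf.germ ⊤ (genericPoint X) trivial).hom with
        commutes' := fun r => rfl }
    have hφ : Function.Injective φ := RingHom.injective (φ : Γ(X, ⊤) →+* X.functionField)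
    have := Algebra.IsGeometricallyReduced.of_injective φ hφ
    have : Algebra.IsAlgebraic k Γ(X, ⊤) := inferInstance
    exact Groth.Agent.Etalg.SepSol2.isSeparable_of_isGeometricallyReduced k Γ(X, ⊤)
  · intro hgi
    letI : Field Γ(X, ⊤) := hfield.toField
    letI algF : Algebra k (X.residueField (genericPoint X)) := Curv2.resAlgebra k X (genericPoint X)
    have hF := (Groth.Agent.S1540.result k X).mp hgi
    let φ : Γ(X, ⊤) →ₐ[k] X.residueField (genericPoint X) :=
      { (X.presheaf.germ ⊤ (genericPoint X) trivial ≫ X.residue (genericPoint X)).hom with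
        commutes' := fun r => rfl }
    have hφ : Function.Injective φ := RingHom.injective (φ : Γ(X, ⊤) →+* X.residueField (genericPoint X))
    rw [isPurelyInseparable_iff]
    intro a
    refine ⟨Algebra.IsIntegral.isIntegral a, fun ha => ?_⟩
    have h1 : IsSeparable k (φ a) := by
      rw [IsSeparable, minpoly.algHom_eq φ hφ]
      exact ha
    obtain ⟨c, hc⟩ := hF (φ a) h1
    refine ⟨c, hφ ?_⟩
    rw [← hc]
    exact φ.commutes c

end Groth.Agent.S7615
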