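import Groth.Statements.S12130
import Groth.Agent.Unram17.K653.NormSch
import Groth.Agent.FlatMor.K265.GenIso
import Groth.Agent.AbVar.K509.Rigid
import Groth.Agent.FBase.K106.PurInsep

set_option autoImplicit false
universe u
open Unram17

namespace Groth.Agent.S12130

open CategoryTheory AlgebraicGeometry

theorem main (k : Type u) [Field k]
    (X : Scheme.{u}) [X.Over (Spec (CommRingCat.of k))] [IsIntegral X]
    [LocallyOfFiniteType (X ↘ Spec (CommRingCat.of k))] [QuasiCompact (X ↘ Spec (CommRingCat.of k))]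
    (hdim : topologicalKrullDim X ≤ 1) :
    ∃ (k' : Type u) (_ : Field k') (_ : Algebra k k'), FiniteDimensional k k' ∧ IsPurelyInseparable k k' ∧
      ∃ (_ : IsIntegral (Curv2.bc k X k').nilradical.subscheme)
        (_ : QuasiCompact ((Curv2.bc k X k').nilradical.subscheme.fromSpecStalk
              (genericPoint (Curv2.bc k X k').nilradical.subscheme)))
        (_ : QuasiSeparated ((Curv2.bc k X k').nilradical.subscheme.fromSpecStalk
              (genericPoint (Curv2.bc k X k').nilradical.subscheme))),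
        Smooth (Curv2.normalizationι (Curv2.bc k X k').nilradical.subscheme ≫
          (Curv2.bc k X k').nilradical.subschemeι ≫ Curv2.bcSnd k X k') := by
  classical
  let q := X ↘ Spec (CommRingCat.of k)
  have hX : CompactSpace X := by
    have h1 : IsCompact ((q ⁻¹ᵁ ⊤ : X.Opens) : Set X) :=
      (quasiCompact_iff_forall_isAffineOpen.1 (inferInstance : QuasiCompact q)) ⊤ (isAffineOpen_top _)
    exact isCompact_univ_iff.1 h1
  have hcov : ∀ x : X, ∃ U : X.Opens, IsAffineOpen U ∧ x ∈ U := fun x => by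
    obtain ⟨U, hU, hxU, -⟩ := exists_isAffineOpen_mem_and_subset (X := X) (x := x)
      (U := ⊤) trivial
    exact ⟨U, hU, hxU⟩
  choose U hU hxU using hcov
  obtain ⟨t, ht⟩ : ∃ t : Finset X, (⋃ x ∈ t, (U x : Set X)) = Set.univ := by
    obtain ⟨t, ht⟩ := isCompact_univ.elim_finite_subcover (fun x : X => (U x : Set X))
      (fun x => (U x).2) (fun x _ => Set.mem_iUnion.2 ⟨x, hxU x⟩)
    exact ⟨t, Set.univ_subset_iff.1 ht⟩
  let P := perfectClosure k (AlgebraicClosure k)
  let alg : ∀ x : X, Algebra k Γ(X, U x) := fun x => (K653.NormSch.cf q (U x)).toAlgebra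
  have hft : ∀ x : X, Algebra.FiniteType k Γ(X, U x) := by
    intro x
    have h1 : (q.appLE ⊤ (U x) le_top).hom.FiniteType :=
      q.finiteType_appLE (isAffineOpen_top _) (hU x) le_top
    exact h1.comp (RingHom.FiniteType.of_surjective _
        (Scheme.ΓSpecIso (CommRingCat.of k)).symm.commRingCatIsoToRingEquiv.surjective)
  have hdimx : ∀ x : X, ringKrullDim Γ(X, U x) ≤ 1 := by
    intro x
    rw [← PrimeSpectrum.topologicalKrullDim_eq_ringKrullDim]
    exact ((hU x).fromSpec.isOpenEmbedding.isInducing.topologicalKrullDim_le).trans hdim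
  have hne : ∀ x : X, Nonempty (U x) := fun x => ⟨⟨x, hxU x⟩⟩
  choose s hs using fun x : X => K653.NormMain.exists_finset k P Γ(X, U x) (hdimx x)
  let S : Finset P := t.biUnion s
  let k' := IntermediateField.adjoin k (S : Set P)
  have hfin : FiniteDimensional k k' :=
    IntermediateField.finiteDimensional_adjoin (fun x _ => Algebra.IsIntegral.isIntegral x)
  have hpi : IsPurelyInseparable k k' := inferInstance
  let Y := Curv2.bc k X k'
  let Z := Y.nilradical.subscheme
  let i : Z ⟶ Y := Y.nilradical.subschemeι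
  let h : Y ⟶ X := Curv2.bcFst k X k'
  let q' : Y ⟶ Spec (CommRingCat.of k') := Curv2.bcSnd k X k'
  have H : IsPullback h q' q (Spec.map (CommRingCat.ofHom (algebraMap k k'))) :=
    IsPullback.of_hasPullback _ _
  have hh : IsHomeomorph h := K106.PurInsep.isHomeomorph_pullback_fst k' q
  have hirr : IrreducibleSpace Y := (hh.homeomorph _).symm.surjective.irreducibleSpace
    (hh.homeomorph _).symm.continuous
  have hZ : IsIntegral Z := K509.Rigid.isIntegral_nilradical Y
  have hisurj : Surjective i := K509.Rigid.surjective_nilradical Y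
  have hqc : QuasiCompact (Z.fromSpecStalk (genericPoint Z)) :=
    K265.GenIso.quasiCompact_fromSpecStalk
  have hqs : QuasiSeparated (Z.fromSpecStalk (genericPoint Z)) := inferInstance
  refine ⟨k', inferInstance, inferInstance, hfin, hpi, hZ, hqc, hqs, ?_⟩
  have hhaff : IsAffineHom h := MorphismProperty.of_isPullback H.flip inferInstance
  let ν := Curv2.normalizationι Z
  have hνint : IsIntegralHom ν := K424.NormDimOne.isIntegralHom_normalizationι Z
  let V : t → (Curv2.normalization Z).affineOpens := fun x =>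
    ⟨ν ⁻¹ᵁ (i ⁻¹ᵁ (h ⁻¹ᵁ (U x.1))), (((hU x.1).preimage h).preimage i).preimage ν⟩
  have hV : ⨆ x, (V x : (Curv2.normalization Z).Opens) = ⊤ := by
    rw [eq_top_iff]
    intro z _
    have h1 : h (i (ν z)) ∈ (⋃ x ∈ t, (U x : Set X)) := by rw [ht]; trivial
    rw [Set.mem_iUnion₂] at h1
    obtain ⟨x, hx, hz⟩ := h1
    exact TopologicalSpace.Opens.mem_iSup.2 ⟨⟨x, hx⟩, hz⟩
  change Smooth (ν ≫ i ≫ q')
  rw [HasRingHomProperty.iff_of_iSup_eq_top (P := @Smooth) V hV]
  intro x
  let W : Z.Opens := i ⁻¹ᵁ (h ⁻¹ᵁ (U x.1))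
  have hW : IsAffineOpen W := ((hU x.1).preimage h).preimage i
  have hWne : Nonempty W := by
    obtain ⟨y, hy⟩ := hh.surjective x.1
    obtain ⟨z, hz⟩ := i.surjective y
    refine ⟨⟨z, ?_⟩⟩
    change h (i z) ∈ U x.1
    rw [hz, hy]
    exact hxU x.1
  have hη : genericPoint Z ∈ W :=
    ((genericPoint_spec Z).mem_open_set_iff W.2).2 (by
      obtain ⟨z⟩ := hWne
      exact ⟨z.1, trivial, z.2⟩)
  let algT : Algebra k' Γ(Z, W) := (K653.NormSch.cf (i ≫ q') W).toAlgebra
  let algTC : Algebra Γ(Z, W) Γ(Curv2.normalization Z, ν ⁻¹ᵁ W) := (ν.app W).hom.toAlgebra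
  let algC : Algebra k' Γ(Curv2.normalization Z, ν ⁻¹ᵁ W) :=
    (K653.NormSch.cf (ν ≫ i ≫ q') (ν ⁻¹ᵁ W)).toAlgebra
  have htow : IsScalarTower k' Γ(Z, W) Γ(Curv2.normalization Z, ν ⁻¹ᵁ W) := by
    apply IsScalarTower.of_algebraMap_eq
    intro c
    have h1 : CommRingCat.ofHom (K653.NormSch.cf (i ≫ q') W) ≫ ν.app W =
        CommRingCat.ofHom (K653.NormSch.cf (ν ≫ i ≫ q') (ν ⁻¹ᵁ W)) := by
      rw [K653.NormSch.ofHom_cf, K653.NormSch.ofHom_cf, Category.assoc,
        Scheme.Hom.app_eq_appLE, Scheme.Hom.appLE_comp_appLE]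
    exact congr(($h1).hom c).symm
  obtain ⟨F, fldF, algTF, hfr, algCF, htow2, hIC⟩ := K653.NormSch.normalization_data Z W hW hη
  obtain ⟨π, hπ, hker⟩ := K653.NormSch.exists_pi q q' h H i (hU x.1) rfl rfl
  have hk' : ∀ y ∈ s x.1, y ∈ Set.range (algebraMap k' P) := fun y hy =>
    ⟨⟨y, IntermediateField.subset_adjoin k _ (Finset.mem_biUnion.2 ⟨x.1, x.2, hy⟩)⟩, rfl⟩
  have hsm : Algebra.Smooth k' Γ(Curv2.normalization Z, ν ⁻¹ᵁ W) :=
    hs x.1 k' hk' Γ(Z, W) π hπ hker Γ(Curv2.normalization Z, ν ⁻¹ᵁ W) F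
  have h2 : RingHom.Smooth (K653.NormSch.cf (ν ≫ i ≫ q') (ν ⁻¹ᵁ W)) := hsm
  have h3 : ((ν ≫ i ≫ q').appLE ⊤ (ν ⁻¹ᵁ W) le_top).hom =
      (K653.NormSch.cf (ν ≫ i ≫ q') (ν ⁻¹ᵁ W)).comp
        (Scheme.ΓSpecIso (CommRingCat.of k')).commRingCatIsoToRingEquiv.toRingHom := by
    have h4 : (ν ≫ i ≫ q').appLE ⊤ (ν ⁻¹ᵁ W) le_top =
        (Scheme.ΓSpecIso (CommRingCat.of k')).hom ≫
          ((Scheme.ΓSpecIso (CommRingCat.of k')).inv ≫
            (ν ≫ i ≫ q').appLE ⊤ (ν ⁻¹ᵁ W) le_top) := by
      rw [Iso.hom_inv_id_assoc]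
    exact congrArg CommRingCat.Hom.hom h4
  change RingHom.Smooth ((ν ≫ i ≫ q').appLE ⊤ (ν ⁻¹ᵁ W) le_top).hom
  rw [h3]
  exact RingHom.Smooth.respectsIso.2 _ _ h2

open CategoryTheory AlgebraicGeometry in
/-- Let k be a field and X an integral k-scheme of finite type of dimension ≤ 1. Then there is a finite
purely inseparable field extension k' of k such that the reduced closed subscheme Z = (X_{k'})_red
of the base change X_{k'} is integral and the normalization of Z is smooth over k'. (The published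
statement is for an arbitrary k-scheme of finite type of dimension ≤ 1, with the normalization of a
reduced scheme with finitely many irreducible components; this row states the case X integral, where
Z is integral because X_{k'} → X is a homeomorphism. The instance hypotheses on the morphism from
the generic point inside the existential always hold and only serve to form the normalization.) -/
theorem result (k : Type u) [Field k]
    (X : Scheme.{u}) [X.Over (Spec (CommRingCat.of k))] [IsIntegral X]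
    [LocallyOfFiniteType (X ↘ Spec (CommRingCat.of k))] [QuasiCompact (X ↘ Spec (CommRingCat.of k))]
    (hdim : topologicalKrullDim X ≤ 1) :
    ∃ (k' : Type u) (_ : Field k') (_ : Algebra k k'), FiniteDimensional k k' ∧ IsPurelyInseparable k k' ∧
      ∃ (_ : IsIntegral (Curv2.bc k X k').nilradical.subscheme)
        (_ : QuasiCompact ((Curv2.bc k X k').nilradical.subscheme.fromSpecStalk
              (genericPoint (Curv2.bc k X k').nilradical.subscheme)))
        (_ : QuasiSeparated ((Curv2.bc k X k').nilradical.subscheme.fromSpecStalk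
              (genericPoint (Curv2.bc k X k').nilradical.subscheme))),
        Smooth (Curv2.normalizationι (Curv2.bc k X k').nilradical.subscheme ≫
          (Curv2.bc k X k').nilradical.subschemeι ≫ Curv2.bcSnd k X k') := by
  exact main k X hdim

end Groth.Agent.S12130
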