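import Groth.Statements.S14276
import Groth.Agent.NonAbH1.K551.Tors
import Groth.Agent.FlatA.EtaleSections

set_option autoImplicit false
universe u
open CategoryTheory AlgebraicGeometry
open NonAbH1

namespace Groth.Agent.S14276

/-- Let X be a scheme and G a group scheme over X which is smooth over X. Then every G-torsor for the
fppf topology is locally trivial for the étale topology on X. Here a torsor is an X-scheme with an
action of G which is a pseudo-torsor and acquires sections on the members of some fppf covering
family of X, and the conclusion says that it acquires sections on the members of some étale covering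
family of X. (The published statement is about torsors in the sense of fppf sheaves; this row states
it for torsors that are schemes.) -/
theorem result {X : Scheme.{u}}
    (G : Over X) [GrpObj G] [Smooth G.hom] (P : Over X) (a : AlgGrp.Action G P)
    (h : NonAbH1.IsTorsorFor Scheme.fppfPrecoverage a) :
    NonAbH1.IsLocallyTrivialFor Scheme.etalePrecoverage P := by
  have h1 : Smooth P.hom := K551.Tors.smooth_of_torsor h
  have h2 : Surjective P.hom := K551.Tors.surjective_of_torsor h
  choose V v v' hv hv' σ hσ using fun s : X =>
    Groth.Agent.FlatA.EtaleSections.exists_section P.hom s (Surjective.surj (f := P.hom) s)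
  refine ⟨Presieve.ofArrows V v, ?_, ?_⟩
  · refine (Scheme.ofArrows_mem_precoverage_iff _).2 ⟨fun x => ⟨x, ⟨v' x, hv' x⟩⟩, hv⟩
  · rintro _ _ ⟨x⟩
    exact ⟨σ x, hσ x⟩

end Groth.Agent.S14276
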