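import Groth.Statements.S9495
import Mathlib.AlgebraicGeometry.PullbackCarrier

set_option autoImplicit false
universe u
open SchMor

namespace Groth.Agent.S9495

open AlgebraicGeometry CategoryTheory in
/-- The range of a quasi-compact morphism is closed if it is stable under specialization. -/
lemma isClosed_range_of_stable {X Y : Scheme.{u}} (f : X ⟶ Y) [QuasiCompact f]
    (h : StableUnderSpecialization (Set.range f)) : IsClosed (Set.range f) := by
  wlog hY : ∃ R, Y = Spec R
  · refine isClosed_of_closure_subset fun y hy => ?_
    obtain ⟨i, v, rfl⟩ := Y.affineCover.exists_eq y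
    let j := Y.affineCover.f i
    have h1 : Set.range (Limits.pullback.snd f j) = j ⁻¹' (Set.range f) :=
      Scheme.Pullback.range_snd _ _
    have h2 : IsClosed (Set.range (Limits.pullback.snd f j)) := by
      refine this _ ?_ ⟨_, rfl⟩
      rw [h1]
      exact h.preimage j.continuous
    have h3 : v ∈ closure (j ⁻¹' (Set.range f)) :=
      j.isOpenEmbedding.isOpenMap.preimage_closure_subset_closure_preimage hy
    rw [← h1, h2.closure_eq, h1] at h3
    exact h3
  obtain ⟨R, rfl⟩ := hY
  obtain ⟨S, g, hg⟩ := compactSpace_iff_exists.mp (QuasiCompact.compactSpace_of_compactSpace f)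
  have h4 : Set.range (g ≫ f) = Set.range f := by
    rw [Scheme.Hom.comp_base, TopCat.coe_comp, Set.range_comp, hg.range_eq, Set.image_univ]
  rw [← h4] at h ⊢
  obtain ⟨φ, hφ⟩ := Spec.homEquiv.symm.surjective (g ≫ f)
  rw [← hφ] at h ⊢
  exact PrimeSpectrum.isClosed_range_of_stableUnderSpecialization φ.hom h


open AlgebraicGeometry in
open CategoryTheory in
/-- For a quasi-compact morphism of schemes f : X → S, the image f(X) is closed in S if and only if it
is stable under specialization. -/
theorem result
    {X S : Scheme.{u}} (f : X ⟶ S) [QuasiCompact f] :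
    IsClosed (Set.range f) ↔ StableUnderSpecialization (Set.range f) := by
  exact ⟨fun h => h.stableUnderSpecialization, fun h => isClosed_range_of_stable f h⟩

end Groth.Agent.S9495
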