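import Groth.Statements.S13749
import Groth.Agent.Neron.K486.FlatDesc

set_option autoImplicit false
universe u
open CategoryTheory AlgebraicGeometry
open Neron

namespace Groth.Agent.S13749

open K486.NMP

/-- Let S be a locally Noetherian scheme, U ⊆ S a schematically dense open subscheme, N → S a smooth
separated morphism of finite type and g : S' → S a flat surjective morphism, and put U' = g⁻¹(U).
Suppose the base change N ×_S S' → S' has the Néron mapping property with respect to U': for every
smooth S'-scheme Y', sending an S'-morphism Y' → N ×_S S' to its restriction over U' is a bijection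
onto the U'-morphisms Y' ×_{S'} U' → (N ×_S S') ×_{S'} U'. Then N → S has the Néron mapping property
with respect to U: for every smooth S-scheme Y, restriction to U is a bijection from S-morphisms Y →
N onto U-morphisms Y ×_S U → N ×_S U. (The published statement is for an arbitrary base S and open
U, with N an algebraic space which is a model of an abelian scheme over U, tested against smooth
schemes; this row takes N a scheme, drops the abelian-scheme hypothesis, and assumes S locally
Noetherian with U schematically dense, the setting in which schematic closures of U-sections commute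
with flat base change and fill S'.) -/
theorem result
    {S S' : Scheme.{u}} [IsLocallyNoetherian S] (g : S' ⟶ S) [Flat g] [Surjective g]
    (U : S.Opens) (hU : CInt.IsSchematicallyDense U)
    (N : Over S) [Smooth N.hom] [IsSeparated N.hom] [QuasiCompact N.hom]
    (hN' : ∀ Y' : Over S', Smooth Y'.hom →
      Function.Bijective (fun f : Y' ⟶ (Over.pullback g).obj N => (Over.pullback (g ⁻¹ᵁ U).ι).map f))
    (Y : Over S) [Smooth Y.hom] :
    Function.Bijective (fun f : Y ⟶ N => (Over.pullback U.ι).map f) := by
  rw [bijective_iff_extU, extU_iff]
  refine ⟨uniqU_of_flat U hU _ _, fun h hh => ?_⟩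
  have hsq : IsPullback (Limits.pullback.fst N.hom g) (Limits.pullback.snd N.hom g) N.hom g :=
    IsPullback.of_hasPullback _ _
  have h1 : ExtU U (Limits.pullback.snd Y.hom g ≫ g) N.hom := by
    refine (extU_iff_of_isPullback U hsq).1 ?_
    exact (bijective_iff_extU (g ⁻¹ᵁ U) (Over.mk (Limits.pullback.snd Y.hom g))
      ((Over.pullback g).obj N)).1 (hN' _ (by change Smooth (Limits.pullback.snd Y.hom g); infer_instance))
  rw [← Limits.pullback.condition] at h1
  obtain ⟨g', ⟨hg'1, hg'2⟩, -⟩ := h1 (res U (Limits.pullback.fst Y.hom g) rfl ≫ h) (by
    rw [Category.assoc, hh, res_ι_assoc])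
  exact exU_of_flat_surjective U hU Y.hom N.hom (Limits.pullback.fst Y.hom g) h hh g' hg'1 hg'2

end Groth.Agent.S13749
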