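import Groth.Statements.S13207
import Groth.Agent.Neron.K486.Glue

set_option autoImplicit false
universe u
open CategoryTheory CategoryTheory.Limits AlgebraicGeometry
open Neron

namespace Groth.Agent.S13207

open K486.NMP

lemma isOpenImmersion_ι {I : Type u} (N : I → Scheme.{u}) (i : I) :
    IsOpenImmersion (Sigma.ι N i) :=
  inferInstanceAs (IsOpenImmersion ((sigmaOpenCover N).f i))

lemma isPullback_sigma {I : Type u} (B N : I → Scheme.{u}) (f : ∀ i, N i ⟶ B i) (i : I) :
    IsPullback (Sigma.ι N i) (f i) (Limits.Sigma.map f) (Sigma.ι B i) := by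
  have := isOpenImmersion_ι N i
  have := isOpenImmersion_ι B i
  refine ⟨⟨by simp⟩, ⟨PullbackCone.isLimitAux' _ fun s => ?_⟩⟩
  have hr : Set.range s.fst ⊆ Set.range (Sigma.ι N i) := by
    rintro _ ⟨x, rfl⟩
    obtain ⟨k, y, hy⟩ := (sigmaOpenCover N).exists_eq (s.fst x)
    change N k at y
    change Sigma.ι N k y = _ at hy
    have h1 : Sigma.ι B k (f k y) = Sigma.ι B i (s.snd x) := by
      rw [← Scheme.Hom.comp_apply, ← Scheme.Hom.comp_apply, ← s.condition,
        Scheme.Hom.comp_apply s.fst, ← hy, ← Scheme.Hom.comp_apply]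
      congr 1
      simp
    obtain ⟨rfl, -⟩ := Sigma.mk.inj_iff.1 ((sigmaι_eq_iff B k i _ _).1 h1)
    exact ⟨y, hy⟩
  let l := IsOpenImmersion.lift (Sigma.ι N i) s.fst hr
  have hl : l ≫ Sigma.ι N i = s.fst := IsOpenImmersion.lift_fac (Sigma.ι N i) s.fst hr
  refine ⟨l, hl, ?_, ?_⟩
  · have h2 : (l ≫ f i) ≫ Sigma.ι B i = s.snd ≫ Sigma.ι B i := by
      rw [← s.condition, Category.assoc, ← hl, Category.assoc]
      simp
    exact (cancel_mono (Sigma.ι B i)).1 h2
  · intro m h1 _
    exact (cancel_mono (Sigma.ι N i)).1 (h1.trans hl.symm)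

/-- Let (S_i)_{i ∈ I} be a family of schemes, (N_i → S_i)_{i ∈ I} morphisms of schemes, S = ∐ S_i and N
= ∐ N_i with the induced morphism N → S, and U ⊆ S a schematically dense open subscheme with
preimages U_i ⊆ S_i. Then N → S is smooth with the Néron mapping property with respect to U — for
every smooth S-scheme Y, restriction to U is a bijection from S-morphisms Y → N onto U-morphisms Y
×_S U → N ×_S U — if and only if every N_i → S_i is smooth with the Néron mapping property with
respect to U_i. (The published statement is for algebraic spaces N_i tested against smooth algebraic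
spaces, and has the same form for separated models; this row is the not-necessarily-separated case
for schemes tested against smooth schemes.) -/
theorem result
    {I : Type u} (B N : I → Scheme.{u}) (f : ∀ i, N i ⟶ B i)
    (U : (∐ B).Opens) (hU : CInt.IsSchematicallyDense U) :
    (Smooth (Limits.Sigma.map f) ∧ ∀ Y : Over (∐ B), Smooth Y.hom →
        Function.Bijective (fun g : Y ⟶ Over.mk (Limits.Sigma.map f) => (Over.pullback U.ι).map g)) ↔
    ∀ i, Smooth (f i) ∧ ∀ Y : Over (B i), Smooth Y.hom →
        Function.Bijective (fun g : Y ⟶ Over.mk (f i) => (Over.pullback ((Limits.Sigma.ι B i) ⁻¹ᵁ U).ι).map g) := by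
  constructor
  · rintro ⟨h1, h2⟩ i
    refine ⟨MorphismProperty.of_isPullback (P := @Smooth) (isPullback_sigma B N f i) h1,
      fun Y hY => ?_⟩
    rw [bijective_iff_extU]
    change ExtU _ Y.hom (f i)
    rw [extU_iff_of_isPullback U (isPullback_sigma B N f i)]
    have := (bijective_iff_extU U (Over.mk (Y.hom ≫ Sigma.ι B i))
      (Over.mk (Limits.Sigma.map f))).1 (h2 _ (by
        change Smooth (Y.hom ≫ Sigma.ι B i)
        infer_instance))
    exact this
  · intro H
    have hsm := fun i => (H i).1
    refine ⟨?_, fun Y hY => ?_⟩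
    · refine (IsZariskiLocalAtSource.iff_of_openCover (P := @Smooth) (sigmaOpenCover N)).2
        fun i => ?_
      change Smooth (Sigma.ι N i ≫ Limits.Sigma.map f)
      rw [Limits.Sigma.ι_map]
      infer_instance
    · rw [bijective_iff_extU]
      refine extU_of_cover U _ _ ((sigmaOpenCover B).pullback₁ Y.hom) ?_ ?_
      · intro i
        change I at i
        change ExtU U (pullback.fst Y.hom (Sigma.ι B i) ≫ Y.hom) (Limits.Sigma.map f)
        rw [pullback.condition, ← extU_iff_of_isPullback U (isPullback_sigma B N f i)]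
        have := (H i).2 (Over.mk (pullback.snd Y.hom (Sigma.ι B i))) (by
          change Smooth (pullback.snd Y.hom (Sigma.ι B i))
          infer_instance)
        exact (bijective_iff_extU _ _ _).1 this
      · intro i k
        change I at i k
        change UniqU U (pullback.fst (pullback.fst Y.hom (Sigma.ι B i))
          (pullback.fst Y.hom (Sigma.ι B k)) ≫ pullback.fst Y.hom (Sigma.ι B i) ≫ Y.hom) _
        rw [pullback.condition, ← Category.assoc]
        have := isOpenImmersion_ι B k
        have hsm2 : Smooth (pullback.fst (pullback.fst Y.hom (Sigma.ι B i))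
          (pullback.fst Y.hom (Sigma.ι B k)) ≫ pullback.snd Y.hom (Sigma.ι B i)) := inferInstance
        have h3 := (bijective_iff_extU _ _ _).1 ((H i).2 (Over.mk (pullback.fst (pullback.fst
          Y.hom (Sigma.ι B i)) (pullback.fst Y.hom (Sigma.ι B k)) ≫
            pullback.snd Y.hom (Sigma.ι B i))) hsm2)
        exact ((extU_iff _ _ _).1
          ((extU_iff_of_isPullback U (isPullback_sigma B N f i)).1 h3)).1

end Groth.Agent.S13207
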