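import Groth.Statements.S5038
import Groth.Agent.S0536
import Mathlib.AlgebraicGeometry.Morphisms.Smooth

set_option autoImplicit false
open CategoryTheory AlgebraicGeometry
universe u
open Hensel

namespace Groth.Agent.S5038

theorem lift_affine (A : Type u) [CommRing A] (I : Ideal A) [HenselianRing A I] (B : CommRingCat.{u})
    (g : Spec B ⟶ Spec (CommRingCat.of A)) [Smooth g]
    (v : Spec (CommRingCat.of (A ⧸ I)) ⟶ Spec B)
    (hv : v ≫ g = Spec.map (CommRingCat.ofHom (Ideal.Quotient.mk I))) :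
    ∃ w : Spec (CommRingCat.of A) ⟶ Spec B, w ≫ g = 𝟙 _ ∧
      Spec.map (CommRingCat.ofHom (Ideal.Quotient.mk I)) ≫ w = v := by
  obtain ⟨φ, rfl⟩ := Spec.map_surjective g
  obtain ⟨ψ, rfl⟩ := Spec.map_surjective v
  have hφ : φ.hom.Smooth := (HasRingHomProperty.Spec_iff (P := @Smooth)).mp ‹_›
  algebraize [φ.hom]
  rw [← Spec.map_comp] at hv
  have hv' := Spec.map_injective hv
  let σ : B →ₐ[A] A ⧸ I := { ψ.hom with
    commutes' := fun a => by
      have := congrArg (fun t => t.hom a) hv'
      exact this }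
  obtain ⟨τ, hτ⟩ := Groth.Agent.S0536.result A B A I σ
  refine ⟨Spec.map (CommRingCat.ofHom τ.toRingHom), ?_, ?_⟩
  · rw [← Spec.map_comp, ← Spec.map_id]
    congr 1
    ext a
    exact τ.commutes a
  · rw [← Spec.map_comp]
    congr 1
    ext b
    exact DFunLike.congr_fun hτ b

/-- Let A be a henselian local ring with residue field k, S = Spec A, and f : X ⟶ S a smooth morphism.
Then the map from sections of f to k-points of the closed fibre is surjective: every u₀ : Spec k ⟶ X
lying over the closed point extends to a section u of f. -/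
theorem result (A : Type u) [CommRing A] [HenselianLocalRing A]
    {X : Scheme.{u}} (f : X ⟶ Spec (CommRingCat.of A)) [Smooth f]
    (u₀ : Spec (CommRingCat.of (IsLocalRing.ResidueField A)) ⟶ X)
    (h₀ : u₀ ≫ f = Spec.map (CommRingCat.ofHom (IsLocalRing.residue A))) :
    ∃ u : Spec (CommRingCat.of A) ⟶ X, u ≫ f = 𝟙 _ ∧
      Spec.map (CommRingCat.ofHom (IsLocalRing.residue A)) ≫ u = u₀ := by
  have hHR : HenselianRing A (IsLocalRing.maximalIdeal A) := inferInstance
  let k := IsLocalRing.ResidueField A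
  let x : X := u₀.base (IsLocalRing.closedPoint k)
  obtain ⟨B, j, hj, hx⟩ : ∃ (B : CommRingCat.{u}) (j : Spec B ⟶ X), IsOpenImmersion j ∧
      x ∈ Set.range j.base :=
    by
      obtain ⟨B, j, hj, h1, _⟩ := X.exists_affine_mem_range_and_range_subset (U := ⊤) (x := x) trivial
      exact ⟨B, j, hj, h1⟩
  have hrange : Set.range u₀.base ⊆ Set.range j.base := by
    rintro _ ⟨y, rfl⟩
    have hy : y = IsLocalRing.closedPoint k := Subsingleton.elim _ _
    rw [hy]
    exact hx
  let v : Spec (CommRingCat.of k) ⟶ Spec B := IsOpenImmersion.lift j u₀ hrange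
  have hv : v ≫ j = u₀ := IsOpenImmersion.lift_fac j u₀ hrange
  obtain ⟨w, hw1, hw2⟩ := lift_affine A (IsLocalRing.maximalIdeal A) _ (j ≫ f) v
    (by
      have : (v ≫ j) ≫ f = u₀ ≫ f := by rw [hv]
      rw [Category.assoc] at this
      exact this.trans h₀)
  refine ⟨w ≫ j, by rw [Category.assoc, hw1], ?_⟩
  rw [← hv]
  exact congrArg (· ≫ j) hw2

end Groth.Agent.S5038
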