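import Groth.Statements.S17692
import Groth.Agent.WeilRes.K933.WRFinite
set_option autoImplicit false
universe u
open CategoryTheory CategoryTheory.Limits AlgebraicGeometry
open WeilRes

namespace Groth.Agent.S17692

/-- Suppose f : S' → S is a finite, locally free morphism of schemes (i.e. finite, flat and locally of
finite presentation) that is also a universal homeomorphism, and let X' be an arbitrary scheme over
S' (no condition on finite sets of points lying in a common affine open). Then the Weil restriction
of X' along f is representable by an S-scheme: there exist an S-scheme R and an S'-morphism q from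
the base change R ×_S S' to X' such that, for every S-scheme T, sending an S-morphism g : T → R to
(g ×_S S') followed by q is a bijection onto the S'-morphisms T ×_S S' → X'. (The published
statement writes X' as a scheme over S; the proof treats an S'-scheme, as here.) -/
theorem result
    {S S' : Scheme.{u}} (f : S' ⟶ S) [IsFinite f] [Flat f] [LocallyOfFinitePresentation f]
    (hf : FlatMor.IsUnivHomeo f) (X' : Over S') :
    ∃ (R : Over S) (q : Red.bc f R ⟶ X'), WeilRes.IsWeilRes f X' R q := by
  obtain ⟨R, ⟨r⟩⟩ := K933.WRFinite.exists_representableBy_of_finite f X' (by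
    intro V V' v v' f' hpb _ T y t
    have h2 : IsHomeomorph (pullback.fst T.hom f') :=
      hf _ _ _ (K933.WRBase.isPullback_paste hpb T)
    obtain ⟨z₀, hz₀⟩ := h2.surjective t
    obtain ⟨_, ⟨U, hU, rfl⟩, hsU, -⟩ :=
      ((Over.pullback v').obj X').left.isBasis_affineOpens.exists_subset_of_mem_open
        (Set.mem_univ (y.left z₀)) isOpen_univ
    refine ⟨U, hU, fun z hz => ?_⟩
    rw [h2.injective (hz.trans hz₀.symm)]
    exact hsU)
  exact ⟨R, r.homEquiv (𝟙 R), WeilRes.IsWeilRes.of_representableBy r⟩

end Groth.Agent.S17692
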