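import Groth.Statements.S17703
import Groth.Agent.S2653
import Groth.Agent.S2654
import Groth.Agent.S2620
import Groth.Agent.CalgB.GRing2

set_option autoImplicit false
universe u
open Neron

namespace Groth.Agent.S17703

open IsLocalRing TensorProduct in
/-- A geometrically reduced algebra over a field `k` which is itself a field is geometrically regular. -/
theorem isGeometricallyRegular_of_isField (k F : Type u) [Field k] [CommRing F] [Algebra k F]
    [Algebra.IsGeometricallyReduced k F] (hF : IsField F) : CAlg.IsGeometricallyRegular k F := by
  let _ := hF.toField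
  intro k' _ _ _
  have h1 : IsReduced (k' ⊗[k] F) := inferInstance
  have h2 : IsReduced (F ⊗[k] k') := isReduced_of_injective (Algebra.TensorProduct.comm k F k')
    (Algebra.TensorProduct.comm k F k').injective
  have h3 : Module.Finite F (F ⊗[k] k') := inferInstance
  have h4 : IsArtinianRing (F ⊗[k] k') := IsArtinianRing.of_finite F _
  have h5 := Groth.Agent.S2653.isRegularRing_of_isArtinianRing (F ⊗[k] k')
  exact IsRegularRing.of_ringEquiv (Algebra.TensorProduct.comm k F k').toRingEquiv

open IsLocalRing in
/-- The completion map of a discrete valuation ring is regular if the generic formal fibre is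
geometrically reduced. -/
theorem isRegularHom_cpl (R : Type u) [CommRing R] [IsDomain R] [IsDiscreteValuationRing R]
    (h : Algebra.IsGeometricallyReduced (⊥ : Ideal R).ResidueField (EGA4.formalFibre R (⊥ : Ideal R))) :
    CAlg.IsRegularHom R (AdicCompletion (maximalIdeal R) R) := by
  refine ⟨inferInstance, fun p hp => ?_⟩
  by_cases hpm : p = maximalIdeal R
  · subst hpm
    have hb := Groth.Agent.S2653.closedFibre_bijective R
    have he : IsField ((maximalIdeal R).Fiber (AdicCompletion (maximalIdeal R) R)) :=
      (RingEquiv.ofBijective _ hb).symm.toMulEquiv.isField (Field.toIsField _)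
    refine ⟨?_, Groth.Agent.S2653.isGeometricallyRegular_of_bijective _ _ hb⟩
    let _ := he.toField
    infer_instance
  · have hpb : p = ⊥ := by
      by_contra hne
      exact hpm (IsLocalRing.eq_maximalIdeal (hp.isMaximal hne))
    subst hpb
    have hF := Groth.Agent.S2653.genericFibre_isField R
    refine ⟨?_, isGeometricallyRegular_of_isField _ _ hF⟩
    let _ := hF.toField
    infer_instance

/-- Let R be a discrete valuation ring with fraction field K, R̂ its completion and K̂ = Frac R̂. Then R
is excellent (Noetherian, universally catenary, G-ring and J-2) if and only if K̂ is geometrically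
reduced over K, i.e. K ⊆ K̂ is separable; here K̂ is written as the generic formal fibre κ(0) ⊗_R R̂
of R, which is R̂ with the uniformizer inverted. -/
theorem result
    (R : Type u) [CommRing R] [IsDomain R] [IsDiscreteValuationRing R] :
    EGA4.IsExcellent R ↔
      Algebra.IsGeometricallyReduced (⊥ : Ideal R).ResidueField (EGA4.formalFibre R (⊥ : Ideal R)) := by
  constructor
  · intro hR
    have h1 : CAlg.IsRegularHom R (AdicCompletion (IsLocalRing.maximalIdeal R) R) :=
      (Groth.Agent.CalgB.GRing2.isGRing_iff_of_isLocalRing R).mp hR.2.2.1
    exact Groth.Agent.S2654.isGeometricallyReduced_of_isGeometricallyRegular _ _ (h1.2 ⊥).2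
  · intro h
    have h0 := Groth.Agent.S2653.isCohenMacaulayRing_of_isDedekindDomain R
    have h1 : {I : Ideal R | I.IsMaximal}.Finite := by
      refine Set.Finite.subset (Set.finite_singleton (IsLocalRing.maximalIdeal R)) fun I hI => ?_
      exact IsLocalRing.eq_maximalIdeal hI
    have h2 : ringKrullDim R ≤ 1 := Ring.krullDimLE_iff.mp inferInstance
    exact ⟨inferInstance, Groth.Agent.S0603.result R,
      (Groth.Agent.CalgB.GRing2.isGRing_iff_of_isLocalRing R).mpr (isRegularHom_cpl R h),
      Groth.Agent.S2620.result R h1 h2⟩

end Groth.Agent.S17703
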