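import Groth.Statements.S9314
import Groth.Agent.Pi1.H395.RegCpl
import Groth.Agent.CalgB.RegHom6
import Groth.Agent.CalgB.RegHom7

set_option autoImplicit false
universe u
open CAlg

namespace Groth.Agent.S9314

open Groth.Agent.UnramA.GRingCpl Groth.Agent.Pi1.H395.RegCpl

/-- Let `A` and `B` be Noetherian local rings and `A → B` a local ring map, and suppose that the map
from `A` to its completion along the maximal ideal is a regular ring map. If `A → B` is formally
smooth for the adic topology of the maximal ideal of `B`, then `A → B` is a regular ring map: flat,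
with Noetherian fibres that are geometrically regular over the residue fields of `A`. -/
theorem result {A B : Type u}
    [CommRing A] [CommRing B] [IsLocalRing A] [IsLocalRing B] [IsNoetherianRing A]
    [IsNoetherianRing B] [Algebra A B] [IsLocalHom (algebraMap A B)]
    (hA : CAlg.IsRegularHom A (AdicCompletion (IsLocalRing.maximalIdeal A) A))
    (h : CAlgX.IsAdicFormallySmooth A B (IsLocalRing.maximalIdeal B)) :
    CAlg.IsRegularHom A B := by
  have hloc : IsLocalHom (algebraMap A B) := inferInstance
  let _ : Algebra (Cpl A) (Cpl B) := (cplMap A B).toAlgebra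
  have hlc : IsLocalHom (algebraMap (Cpl A) (Cpl B)) := inferInstanceAs (IsLocalHom (cplMap A B))
  have h2 : IsNoetherianRing (Cpl A) := Groth.Agent.S0543.result _ _
  have h3 : IsNoetherianRing (Cpl B) := Groth.Agent.S0543.result _ _
  have h4 : IsAdicComplete (IsLocalRing.maximalIdeal (Cpl A)) (Cpl A) := inferInstance
  have h5 : IsAdicComplete (IsLocalRing.maximalIdeal (Cpl B)) (Cpl B) := inferInstance
  have hreg : CAlg.IsRegularHom (Cpl A) (Cpl B) :=
    Groth.Agent.S2039.result.2 (isAdicFormallySmooth_cpl A B h rfl)
  have hst : IsScalarTower A B (Cpl B) := inferInstance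
  have hst' : IsScalarTower A (Cpl A) (Cpl B) := IsScalarTower.of_algebraMap_eq fun a => by
    rw [IsScalarTower.algebraMap_apply A B (Cpl B)]
    exact (cplMap_algebraMap A B a).symm
  have hcomp : CAlg.IsRegularHom A (Cpl B) :=
    Groth.Agent.CalgB.RegHom6.isRegularHom_comp (S := Cpl A) hA hreg
  have hff : Module.FaithfullyFlat B (Cpl B) := by
    have h6 : Module.Flat B (Cpl B) := AdicCompletion.flat_of_isNoetherian _
    have h7 : IsLocalHom (algebraMap B (Cpl B)) := inferInstance
    exact Module.FaithfullyFlat.of_flat_of_isLocalHom
  exact Groth.Agent.CalgB.RegHom7.isRegularHom_of_faithfullyFlat (S := B) (T := Cpl B) hcomp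

end Groth.Agent.S9314
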