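import Groth.Statements.S12540
import Groth.Agent.S0021
import Groth.Agent.S0415
import Groth.Agent.Sga3.H962.Fpqc
import Groth.Agent.Sga3C.ArtinBase
import Groth.Agent.Books.AntiAffine

set_option autoImplicit false
universe u
open CategoryTheory MonoidalCategory CartesianMonoidalCategory MonObj GrpObj AlgebraicGeometry
open AlgGrp

namespace Groth.Agent.S12540

open Limits

/-- The fibres of the quotient map are cosets. -/
theorem rel {S : Scheme.{u}} {G H X : Over S} [GrpObj G] [GrpObj H] (h : H ⟶ G) (a : AlgGrp.Action G X)
    (o : 𝟙_ (Over S) ⟶ X) (hX : AGF.IsQuotient h X a o) {T : Over S} (x y : T ⟶ G) :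
    x ≫ a.orbitMap o = y ≫ a.orbitMap o ↔ ∃ c : T ⟶ H, y = x * (c ≫ h) := by
  have e : ∀ c : T ⟶ H, lift x c ≫ (G ◁ h) ≫ μ[G] = x * (c ≫ h) := by
    intro c
    rw [← Category.assoc, lift_whiskerLeft]
    rfl
  constructor
  · intro hxy
    refine ⟨hX.2.2.2.lift x y hxy ≫ snd G H, ?_⟩
    have h1 := hX.2.2.2.lift_fst x y hxy
    have h2 := hX.2.2.2.lift_snd x y hxy
    rw [← e]
    conv_lhs => rw [← h2]
    congr 1
    ext <;> simp [h1]
  · rintro ⟨c, rfl⟩
    have h1 := congrArg (fun f => lift x c ≫ f) hX.2.2.2.w
    simp only [← Category.assoc] at h1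
    rw [lift_fst] at h1
    rw [h1]
    congr 1
    rw [Category.assoc, e]

/-- Over an algebraically closed field k, let G be an algebraic group (a smooth k-group scheme of finite
type), h : H → G a closed subgroup scheme, and h' : H' → H a closed subgroup scheme of H which is
reduced with the same underlying space as H (the reduced subgroup scheme H_red; it is a subgroup of
G through h' ≫ h). Let X, with its G-action and base point, be the quotient G/H, and X' the quotient
G/H' (each locally of finite type over k, with flat surjective orbit map identifying G × H with G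
×_X G, respectively G × H' with G ×_{X'} G). Then X is affine if and only if X' is affine. (The
published statement adds the same equivalence with the identity component of H_red; that clause is
not stated here.) -/
theorem result (k : Type u) [Field k] [IsAlgClosed k]
    (G : Over (Spec (CommRingCat.of k))) [GrpObj G] [Smooth G.hom] [QuasiCompact G.hom]
    (H : Over (Spec (CommRingCat.of k))) [GrpObj H] (h : H ⟶ G) [IsMonHom h] [IsClosedImmersion h.left]
    (H' : Over (Spec (CommRingCat.of k))) [GrpObj H'] (h' : H' ⟶ H) [IsMonHom h'] [IsClosedImmersion h'.left]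
    [Surjective h'.left] [IsReduced H'.left]
    (X : Over (Spec (CommRingCat.of k))) (a : AlgGrp.Action G X) (o : 𝟙_ (Over (Spec (CommRingCat.of k))) ⟶ X)
    (hX : AGF.IsQuotient h X a o)
    (X' : Over (Spec (CommRingCat.of k))) (a' : AlgGrp.Action G X') (o' : 𝟙_ (Over (Spec (CommRingCat.of k))) ⟶ X')
    (hX' : AGF.IsQuotient (h' ≫ h) X' a' o') :
    IsAffine X.left ↔ IsAffine X'.left := by
  let p := a.orbitMap o
  let p' := a'.orbitMap o'
  have hp1 : Flat p.left := hX.2.1
  have hp2 : Surjective p.left := hX.2.2.1
  have hp1' : Flat p'.left := hX'.2.1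
  have hp2' : Surjective p'.left := hX'.2.2.1
  have hlft : LocallyOfFiniteType X.hom := hX.1
  have hlft' : LocallyOfFiniteType X'.hom := hX'.1
  have hcG : CompactSpace G.left := QuasiCompact.compactSpace_of_compactSpace G.hom
  have hnG : IsLocallyNoetherian G.left := LocallyOfFiniteType.isLocallyNoetherian G.hom
  have hnG' : IsNoetherian G.left := { }
  have hlX : IsLocallyNoetherian X.left := LocallyOfFiniteType.isLocallyNoetherian X.hom
  have hlX' : IsLocallyNoetherian X'.left := LocallyOfFiniteType.isLocallyNoetherian X'.hom
  have hcX : CompactSpace X.left := by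
    constructor
    rw [← Set.range_eq_univ.2 p.left.surjective]
    exact isCompact_range p.left.continuous
  have hnX : IsNoetherian X.left := { }
  have hqp : QuasiCompact p.left := inferInstance
  have hqp' : QuasiCompact p'.left := inferInstance
  have hftp : LocallyOfFiniteType p.left := by
    have : LocallyOfFiniteType (p.left ≫ X.hom) := by rw [Over.w]; infer_instance
    exact locallyOfFiniteType_of_comp p.left X.hom
  have hpp : LocallyOfFinitePresentation p.left := LocallyOfFinitePresentation.iff_locallyOfFiniteType.2 hftp
  obtain ⟨π, hπ⟩ := Groth.Agent.Sga3.H962.Fpqc.exists_desc p' p (fun T x y hxy => by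
    obtain ⟨c, hc⟩ := (rel (h' ≫ h) a' o' hX' x y).1 hxy
    exact (rel h a o hX x y).2 ⟨c ≫ h', by rw [hc, Category.assoc]⟩)
  have hπl : p'.left ≫ π.left = p.left := by rw [← Over.comp_left, hπ]
  have hπs : Surjective π.left := by
    have : Surjective (p'.left ≫ π.left) := by rw [hπl]; infer_instance
    exact Surjective.of_comp p'.left π.left
  have hπo : UniversallyOpen π.left := by
    have : UniversallyOpen (p'.left ≫ π.left) := by rw [hπl]; infer_instance
    exact Groth.Agent.Sga3C.ArtinBase.universallyOpen_of_comp_surjective p'.left π.left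
  have hπi : UniversallyInjective π.left := by
    rw [UniversallyInjective.iff_diagonal]
    have hpb : IsPullback (fst G H).left ((G ◁ h) ≫ μ[G]).left p.left p.left := hX.2.2.2.map (Over.forget _)
    have e1 : p.left = p'.left ≫ π.left := hπl.symm
    have hΨ1 : Surjective (pullback.map p.left p.left π.left π.left p'.left p'.left (𝟙 _)
        (by rw [Category.comp_id, hπl]) (by rw [Category.comp_id, hπl])) :=
      MorphismProperty.pullbackMap (P := (@Surjective : MorphismProperty Scheme.{u})) hp2' hp2' e1 e1
    let Ψ : (G ⊗ H).left ⟶ pullback π.left π.left := hpb.isoPullback.hom ≫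
      pullback.map p.left p.left π.left π.left p'.left p'.left (𝟙 _)
        (by rw [Category.comp_id, hπl]) (by rw [Category.comp_id, hπl])
    have hΨ0 : Surjective hpb.isoPullback.hom := inferInstance
    have hΨ : Surjective Ψ := ⟨(hΨ1.surj.comp hΨ0.surj :)⟩
    have hw : Surjective (G ◁ h').left :=
      Groth.Agent.Books.AntiAffine.whiskerLeft_left_mem @Surjective h' G inferInstance
    have hcomp : (fst G H' ≫ p').left ≫ pullback.diagonal π.left = (G ◁ h').left ≫ Ψ := by
      have e2 : Ψ ≫ pullback.fst _ _ = (fst G H ≫ p').left := by
        have e5 : pullback.map p.left p.left π.left π.left p'.left p'.left (𝟙 _)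
            (by rw [Category.comp_id, hπl]) (by rw [Category.comp_id, hπl]) ≫ pullback.fst _ _ =
            pullback.fst _ _ ≫ p'.left := pullback.lift_fst _ _ _
        dsimp only [Ψ]
        rw [Category.assoc, e5, ← Category.assoc, hpb.isoPullback_hom_fst]
        rfl
      have e3 : Ψ ≫ pullback.snd _ _ = (((G ◁ h) ≫ μ[G]) ≫ p').left := by
        have e5 : pullback.map p.left p.left π.left π.left p'.left p'.left (𝟙 _)
            (by rw [Category.comp_id, hπl]) (by rw [Category.comp_id, hπl]) ≫ pullback.snd _ _ =
            pullback.snd _ _ ≫ p'.left := pullback.lift_snd _ _ _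
        dsimp only [Ψ]
        rw [Category.assoc, e5, ← Category.assoc, hpb.isoPullback_hom_snd]
        rfl
      apply pullback.hom_ext
      · rw [Category.assoc, pullback.diagonal_fst, Category.comp_id, Category.assoc, e2, ← Over.comp_left]
        congr 1
        rw [← Category.assoc, whiskerLeft_fst]
      · rw [Category.assoc, pullback.diagonal_snd, Category.comp_id, Category.assoc, e3, ← Over.comp_left]
        congr 1
        have e4 := hX'.2.2.2.w
        rw [MonoidalCategory.whiskerLeft_comp] at e4
        simp only [Category.assoc] at e4 ⊢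
        exact e4
    have hs : Surjective ((fst G H' ≫ p').left ≫ pullback.diagonal π.left) := by
      rw [hcomp]; infer_instance
    exact Surjective.of_comp (fst G H' ≫ p').left (pullback.diagonal π.left)
  have hπh : FlatMor.IsUnivHomeo π.left := by
    intro Z Y i₁ i₂ f' hf'
    have h1 : UniversallyOpen f' := MorphismProperty.of_isPullback (P := @UniversallyOpen) hf'.flip hπo
    have h2 : Surjective f' := MorphismProperty.of_isPullback (P := @Surjective) hf'.flip hπs
    have h3 : UniversallyInjective f' := MorphismProperty.of_isPullback (P := @UniversallyInjective) hf'.flip hπi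
    exact ⟨f'.continuous, f'.isOpenMap, f'.injective, f'.surjective⟩
  obtain ⟨hint, -, -⟩ := (Groth.Agent.S0415.result π.left).1 hπh
  have hlftπ : LocallyOfFiniteType π.left := by
    have : LocallyOfFiniteType (π.left ≫ X.hom) := by rw [Over.w]; infer_instance
    exact locallyOfFiniteType_of_comp π.left X.hom
  have hfin : IsFinite π.left := (IsFinite.iff_isIntegralHom_and_locallyOfFiniteType _).2 ⟨hint, hlftπ⟩
  constructor
  · intro hXa
    exact isAffine_of_isAffineHom π.left
  · intro hXa
    exact Groth.Agent.S0021.result π.left

end Groth.Agent.S12540
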