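import Groth.Statements.S16173
import Groth.Agent.Sga3A.MTNormal737

set_option autoImplicit false
universe u
open TensorProduct
open SGA3b

namespace Groth.Agent.S16173

/-- Let R be an integrally closed domain, with no Noetherian hypothesis, and H = Spec A an R-group of
multiplicative type and of finite type (affine groups over an affine base in Hopf-algebra form, base
change by tensor product). Then H is isotrivial: diagonalisable after some finite etale faithfully
flat base change of R. (The published statement has no finite-type hypothesis, and without one it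
fails: an infinite product of pairwise non-isomorphic one-dimensional anisotropic tori over the
rationals is of multiplicative type and split by no finite etale algebra. The finite-type case
stated here is the one the limit argument of the proof establishes.) -/
theorem result (R : Type u) [CommRing R] [IsDomain R]
    [IsIntegrallyClosed R] (A : Type u) [CommRing A] [HopfAlgebra R A]
    (hft : Algebra.FiniteType R A) (h : SGA3b.IsMultType R A) : SGA3b.IsIsotrivial R A := by
  obtain ⟨S, _, _, _, M, _, _, ⟨g⟩⟩ :=
    Groth.Agent.Sga3A.MTConst.exists_gbasis (Groth.Agent.Sga3A.MTNormal737.const_of_isDomain h)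
  have hA : Module.Flat R A := Groth.Agent.Sga3A.MTKey.flat_of_gbasis g
  obtain ⟨T, _, _, _, _, _, hT⟩ := Groth.Agent.Sga3A.MTKey.exists_etale_cover g
  have : Nontrivial T := (FaithfulSMul.algebraMap_injective R T).nontrivial
  obtain ⟨T', _, _, _, _, hdom, hfin, het, hff⟩ :=
    Groth.Agent.Sga3A.MTNormal737.exists_domain_cover (R := R) T
  obtain ⟨g'⟩ := Groth.Agent.Sga3A.MTNormal737.exists_gbasis_of_local (T := T') (B := T' ⊗[R] A) (M := M) (by
    intro T₁ _ _ _
    let _ : Algebra R T₁ := ((algebraMap T' T₁).comp (algebraMap R T')).toAlgebra
    have : IsScalarTower R T' T₁ := .of_algebraMap_eq' rfl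
    let _ : Algebra T T₁ := ((algebraMap T' T₁).comp (algebraMap T T')).toAlgebra
    have : IsScalarTower R T T₁ := .of_algebraMap_eq fun r => by
      rw [IsScalarTower.algebraMap_apply R T' T₁, IsScalarTower.algebraMap_apply R T T']
      rfl
    obtain ⟨g₁⟩ := hT T₁
    exact ⟨g₁.map (Groth.Agent.Sga3A.MTBasis.cancelBC R T' T₁ A).symm⟩)
  exact ⟨T', inferInstance, inferInstance, het, hfin, hff, Groth.Agent.Sga3A.MTConst.isDiag_of_gbasis g'⟩

end Groth.Agent.S16173
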