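import Groth.Statements.S14141
import Groth.Agent.S0980
import Groth.Agent.S3844
import Groth.Agent.Ega4dB.SchDense
import Groth.Agent.Ega1.ReducedSub
import Mathlib.AlgebraicGeometry.Sites.Fpqc

set_option autoImplicit false
universe u
open CategoryTheory CategoryTheory.Limits AlgebraicGeometry
open AbSch

namespace Groth.Agent.S14141

/-- A dense open of a reduced scheme is schematically dense. -/
theorem isSchematicallyDense_of_dense {X : Scheme.{u}} [IsReduced X] (U : X.Opens) (hU : Dense (U : Set X)) :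
    CInt.IsSchematicallyDense U := by
  intro V
  refine (injective_iff_map_eq_zero (X.presheaf.map (homOfLE (inf_le_left : V ⊓ U ≤ V)).op).hom).mpr ?_
  intro a ha
  have h1 : X.basicOpen a ⊓ U = ⊥ := by
    have h2 : X.basicOpen ((X.presheaf.map (homOfLE (inf_le_left : V ⊓ U ≤ V)).op).hom a) = ⊥ := by
      rw [ha]
      exact Scheme.basicOpen_zero _ _
    have h3 := Scheme.basicOpen_res X a (homOfLE (inf_le_left : V ⊓ U ≤ V)).op
    rw [eq_bot_iff]
    rintro x ⟨hx1, hx2⟩
    rw [← h2]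
    refine h3.symm ▸ ?_
    exact ⟨⟨X.basicOpen_le a hx1, hx2⟩, hx1⟩
  rw [← basicOpen_eq_bot_iff]
  by_contra hne
  obtain ⟨x, hx⟩ : (X.basicOpen a : Set X).Nonempty := by
    rw [Set.nonempty_iff_ne_empty]
    intro h
    exact hne (TopologicalSpace.Opens.ext h)
  obtain ⟨y, hy1, hy2⟩ := hU.inter_open_nonempty _ (X.basicOpen a).2 ⟨x, hx⟩
  have : y ∈ X.basicOpen a ⊓ U := ⟨hy1, hy2⟩
  rw [h1] at this
  exact this

section

variable {X Y S : Scheme.{u}} (f : X ⟶ S) [IsProper f] (hiso : ∀ V : S.Opens, IsIso (f.app V))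
  (π : X ⟶ Y)

include hiso in
/-- If `π` is set-theoretically constant on the fibre at `t`, then the two composites `X ×_S X ⟶ Y` agree over
a neighbourhood of `t`. -/
theorem exists_nhd (t : S) (x₀ : X) (ht : ∀ x : X, f x = t → π x = π x₀) :
    ∃ U : S.Opens, t ∈ U ∧ ((pullback.fst f f ≫ f) ⁻¹ᵁ U).ι ≫ pullback.fst f f ≫ π =
      ((pullback.fst f f ≫ f) ⁻¹ᵁ U).ι ≫ pullback.snd f f ≫ π := by
  obtain ⟨_, ⟨V', hV, rfl⟩, hyV, -⟩ := Y.isBasis_affineOpens.exists_subset_of_mem_open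
    (Set.mem_univ (π x₀)) isOpen_univ
  let V : Y.Opens := V'
  have hcl : IsClosed (f '' (π ⁻¹' (V : Set Y)ᶜ)) :=
    f.isClosedMap _ (V.isOpen.isClosed_compl.preimage π.continuous)
  let U : S.Opens := ⟨(f '' (π ⁻¹' (V : Set Y)ᶜ))ᶜ, hcl.isOpen_compl⟩
  have htU : t ∈ U := by
    rintro ⟨x, hx, hxt⟩
    exact hx (by rw [ht x hxt]; exact hyV)
  have hUV : f ⁻¹ᵁ U ≤ π ⁻¹ᵁ V := by
    intro x hx
    by_contra h
    exact hx ⟨x, h, rfl⟩
  refine ⟨U, htU, ?_⟩
  have : IsAffine V := hV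
  let Q := (pullback.fst f f ≫ f) ⁻¹ᵁ U
  let W := f ⁻¹ᵁ U
  have hπW : Set.range (W.ι ≫ π) ⊆ Set.range V.ι := by
    rintro _ ⟨w, rfl⟩
    rw [Scheme.Opens.range_ι]
    exact hUV w.2
  let πW : (W : Scheme.{u}) ⟶ V := IsOpenImmersion.lift V.ι (W.ι ≫ π) hπW
  have hπW' : πW ≫ V.ι = W.ι ≫ π := IsOpenImmersion.lift_fac _ _ _
  have h1 : Set.range (Q.ι ≫ pullback.fst f f) ⊆ Set.range W.ι := by
    rintro _ ⟨w, rfl⟩
    rw [Scheme.Opens.range_ι]
    exact w.2
  have h2 : Set.range (Q.ι ≫ pullback.snd f f) ⊆ Set.range W.ι := by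
    rintro _ ⟨w, rfl⟩
    have : (pullback.fst f f ≫ f) (Q.ι w) = (pullback.snd f f ≫ f) (Q.ι w) := by rw [pullback.condition]
    have hw : (pullback.fst f f ≫ f) (Q.ι w) ∈ U := w.2
    rw [this] at hw
    rw [Scheme.Opens.range_ι]
    exact hw
  let a : (Q : Scheme.{u}) ⟶ W := IsOpenImmersion.lift W.ι (Q.ι ≫ pullback.fst f f) h1
  let b : (Q : Scheme.{u}) ⟶ W := IsOpenImmersion.lift W.ι (Q.ι ≫ pullback.snd f f) h2
  have ha : a ≫ W.ι = Q.ι ≫ pullback.fst f f := IsOpenImmersion.lift_fac _ _ _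
  have hb : b ≫ W.ι = Q.ι ≫ pullback.snd f f := IsOpenImmersion.lift_fac _ _ _
  have hab : a ≫ (f ∣_ U) = b ≫ (f ∣_ U) := by
    rw [← cancel_mono U.ι]
    simp only [Category.assoc, morphismRestrict_ι]
    rw [← Category.assoc, ← Category.assoc, ha, hb, Category.assoc, Category.assoc, pullback.condition]
  have hfU : IsIso (f ∣_ U).appTop := by
    rw [morphismRestrict_appTop]
    have h0 : IsIso (X.presheaf.map (eqToHom (image_morphismRestrict_preimage f U ⊤)).op) :=
      Functor.map_isIso _ _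
    exact @IsIso.comp_isIso _ _ _ _ _ _ _ (hiso (U.ι ''ᵁ ⊤)) h0
  have h3 : a.appTop = b.appTop := by
    rw [← cancel_epi (f ∣_ U).appTop, ← Scheme.Hom.comp_appTop, ← Scheme.Hom.comp_appTop, hab]
  have h4 : a ≫ πW = b ≫ πW := by
    apply ext_of_isAffine
    rw [Scheme.Hom.comp_appTop, Scheme.Hom.comp_appTop, h3]
  have h5 := congrArg (· ≫ V.ι) h4
  simp only [Category.assoc, hπW'] at h5
  rw [← Category.assoc, ← Category.assoc, ha, hb, Category.assoc, Category.assoc] at h5
  exact h5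

/-- If the two composites agree over an open `U`, then they agree over the closure of `U`, set-theoretically. -/
theorem eq_of_mem_closure [IsLocallyNoetherian S] [Flat f] (g : Y ⟶ S) [IsSeparated g] (hπ : π ≫ g = f)
    (U : S.Opens) (hU : ((pullback.fst f f ≫ f) ⁻¹ᵁ U).ι ≫ pullback.fst f f ≫ π =
      ((pullback.fst f f ≫ f) ⁻¹ᵁ U).ι ≫ pullback.snd f f ≫ π) (x x' : X) (hx : f x = f x')
    (hxU : f x ∈ closure (U : Set S)) : π x = π x' := by
  let p : pullback f f ⟶ S := pullback.fst f f ≫ f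
  let I := Scheme.IdealSheafData.vanishingIdeal (⟨closure (U : Set S), isClosed_closure⟩ : TopologicalSpace.Closeds S)
  let D := I.subscheme
  let i : D ⟶ S := I.subschemeι
  have hr : Set.range i = closure (U : Set S) := by
    rw [I.range_subschemeι]
    exact Scheme.IdealSheafData.coe_support_vanishingIdeal _
  have hred : IsReduced D := Groth.Agent.Ega1.ReducedSub.isReduced_subscheme_vanishingIdeal _
  have hnoeth : IsLocallyNoetherian D := LocallyOfFiniteType.isLocallyNoetherian i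
  have hdense : Dense ((i ⁻¹ᵁ U : D.Opens) : Set D) := by
    rw [dense_iff_closure_eq, Set.eq_univ_iff_forall]
    intro d
    have hd : i d ∈ closure (U : Set S) := by rw [← hr]; exact ⟨d, rfl⟩
    rw [mem_closure_iff_nhds]
    intro N hN
    obtain ⟨N', hN', hN'2⟩ := (i.isClosedEmbedding.isEmbedding.isInducing.nhds_eq_comap d ▸ hN :)
    obtain ⟨y, hy1, hy2⟩ := mem_closure_iff_nhds.mp hd N' hN'
    have hy3 : y ∈ closure (U : Set S) := subset_closure hy2
    rw [← hr] at hy3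
    obtain ⟨e, rfl⟩ := hy3
    exact ⟨e, hN'2 hy1, hy2⟩
  have h1 := isSchematicallyDense_of_dense (i ⁻¹ᵁ U) hdense
  have h2 := Groth.Agent.S3844.result (pullback.snd p i) (i ⁻¹ᵁ U) h1
  have h3 : pullback.fst p i ≫ pullback.fst f f ≫ π = pullback.fst p i ≫ pullback.snd f f ≫ π := by
    refine Groth.Agent.Ega4dB.SchDense.ext_of_isSchematicallyDense g ?_ _ h2 ?_
    · simp only [Category.assoc, hπ, pullback.condition]
    · let V' := pullback.snd p i ⁻¹ᵁ (i ⁻¹ᵁ U)
      have h4 : Set.range (V'.ι ≫ pullback.fst p i) ⊆ Set.range (p ⁻¹ᵁ U).ι := by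
        rintro _ ⟨w, rfl⟩
        rw [Scheme.Opens.range_ι]
        have hw : (pullback.snd p i ≫ i) (V'.ι w) ∈ U := w.2
        rw [← pullback.condition] at hw
        exact hw
      let a : (V' : Scheme.{u}) ⟶ (p ⁻¹ᵁ U : Scheme.{u}) := IsOpenImmersion.lift (p ⁻¹ᵁ U).ι (V'.ι ≫ pullback.fst p i) h4
      have ha : a ≫ (p ⁻¹ᵁ U).ι = V'.ι ≫ pullback.fst p i := IsOpenImmersion.lift_fac _ _ _
      have h5 := congrArg (a ≫ ·) hU
      simp only [← Category.assoc] at h5
      rw [ha] at h5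
      simpa only [Category.assoc] using h5
  obtain ⟨z, hz1, hz2⟩ := Scheme.Pullback.exists_preimage_pullback (f := f) (g := f) x x' hx
  rw [← hr] at hxU
  obtain ⟨d, hd⟩ := hxU
  have hzd : p z = i d := by
    rw [hd, ← hz1]
    rfl
  obtain ⟨w, hw1, hw2⟩ := Scheme.Pullback.exists_preimage_pullback (f := p) (g := i) z d hzd
  have h4 := congr($h3 w)
  simp only [Scheme.Hom.comp_apply] at h4
  rw [hw1, hz1, hz2] at h4
  exact h4

end

/-- Let S be a connected Noetherian scheme, f : X → S a proper flat morphism such that for every point s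
of S the natural map κ(s) → H^0(X_s, O_{X_s}) on global sections of the fibre is bijective, g : Y →
S a separated morphism and π : X → Y a morphism over S. If for some point s of S the restriction of
π to the fibre X_s is constant, i.e. factors through the projection X_s → Spec κ(s), then π is
constant over all of S: it factors as f followed by a section S → Y of g. (The published statement
is for arbitrary Noetherian S with the conclusion over the connected component of s; this row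
assumes S connected, the reduction made in the first line of the printed proof.) -/
theorem result {X Y S : Scheme.{u}} [IsNoetherian S] [ConnectedSpace ↥S]
    (f : X ⟶ S) [IsProper f] [Flat f]
    (hfib : ∀ s : ↥S, Function.Bijective (algebraMap (S.residueField s) Γ(f.fiber s, ⊤)))
    (g : Y ⟶ S) [IsSeparated g] (π : X ⟶ Y) (hπ : π ≫ g = f) (s : ↥S)
    (hs : ∃ y : Spec (S.residueField s) ⟶ Y, f.fiberι s ≫ π = f.fiberToSpecResidueField s ≫ y) :
    ∃ σ : S ⟶ Y, σ ≫ g = 𝟙 S ∧ π = f ≫ σ := by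
  have hlofp : LocallyOfFinitePresentation f := inferInstance
  have hb : ∀ s : S, Function.Bijective (f.fiberToSpecResidueField s).appTop.hom := by
    intro s
    have h1 := hfib s
    have h2 : (algebraMap (S.residueField s) Γ(f.fiber s, ⊤) : _ → _) =
      (f.fiberToSpecResidueField s).appTop.hom ∘ (Scheme.ΓSpecIso (S.residueField s)).inv.hom := by
      ext a
      rfl
    rw [h2] at h1
    exact (Function.Bijective.of_comp_iff _
      (ConcreteCategory.bijective_of_isIso (Scheme.ΓSpecIso (S.residueField s)).inv)).mp h1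
  have hiso : ∀ V : S.Opens, IsIso (f.app V) := Groth.Agent.S0980.result f (fun s =>
    (ConcreteCategory.isIso_iff_bijective _).mpr (hb s))
  have hsurj : Surjective f := by
    refine ⟨fun s => ?_⟩
    have : Nontrivial Γ(f.fiber s, ⊤) := by
      have : Nontrivial (S.residueField s) := inferInstance
      exact (hfib s).1.nontrivial
    have hne : Nonempty (f.fiber s) := by
      by_contra hemp
      rw [not_nonempty_iff] at hemp
      exact not_subsingleton Γ(f.fiber s, ⊤) inferInstance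
    obtain ⟨z⟩ := hne
    have hz : f.fiberι s z ∈ f ⁻¹' {s} := by rw [← f.range_fiberι s]; exact ⟨z, rfl⟩
    exact ⟨_, hz⟩
  let p : pullback f f ⟶ S := pullback.fst f f ≫ f
  -- the locus where `π` is set-theoretically constant on the fibres
  let T : Set S := {t | ∀ x x' : X, f x = t → f x' = t → π x = π x'}
  have hTnhd : ∀ t ∈ T, ∃ U : S.Opens, t ∈ U ∧ (p ⁻¹ᵁ U).ι ≫ pullback.fst f f ≫ π =
      (p ⁻¹ᵁ U).ι ≫ pullback.snd f f ≫ π := by
    intro t ht
    obtain ⟨x₀, hx₀⟩ := hsurj.surj t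
    exact exists_nhd f hiso π t x₀ (fun x hx => ht x x₀ hx hx₀)
  have hTopen : IsOpen T := by
    rw [isOpen_iff_forall_mem_open]
    intro t ht
    obtain ⟨U, htU, hU⟩ := hTnhd t ht
    refine ⟨U, ?_, U.2, htU⟩
    intro u hu x x' hx hx'
    obtain ⟨z, hz1, hz2⟩ := Scheme.Pullback.exists_preimage_pullback (f := f) (g := f) x x' (hx.trans hx'.symm)
    have hz : z ∈ p ⁻¹ᵁ U := by
      change (pullback.fst f f ≫ f) z ∈ U
      rw [Scheme.Hom.comp_apply, hz1, hx]
      exact hu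
    have h4 := congr($hU ⟨z, hz⟩)
    simp only [Scheme.Hom.comp_apply] at h4
    change π (pullback.fst f f z) = π (pullback.snd f f z) at h4
    rw [hz1, hz2] at h4
    exact h4
  let T' : S.Opens := ⟨T, hTopen⟩
  have hagree : (p ⁻¹ᵁ T').ι ≫ pullback.fst f f ≫ π = (p ⁻¹ᵁ T').ι ≫ pullback.snd f f ≫ π := by
    refine Scheme.hom_ext_of_forall _ _ (fun w => ?_)
    obtain ⟨U, htU, hU⟩ := hTnhd (p ((p ⁻¹ᵁ T').ι w)) w.2
    refine ⟨(p ⁻¹ᵁ T').ι ⁻¹ᵁ (p ⁻¹ᵁ U), htU, ?_⟩
    have h4 : Set.range (((p ⁻¹ᵁ T').ι ⁻¹ᵁ (p ⁻¹ᵁ U)).ι ≫ (p ⁻¹ᵁ T').ι) ⊆ Set.range (p ⁻¹ᵁ U).ι := by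
      rintro _ ⟨w, rfl⟩
      rw [Scheme.Opens.range_ι]
      exact w.2
    let a := IsOpenImmersion.lift (p ⁻¹ᵁ U).ι (((p ⁻¹ᵁ T').ι ⁻¹ᵁ (p ⁻¹ᵁ U)).ι ≫ (p ⁻¹ᵁ T').ι) h4
    have ha : a ≫ (p ⁻¹ᵁ U).ι = ((p ⁻¹ᵁ T').ι ⁻¹ᵁ (p ⁻¹ᵁ U)).ι ≫ (p ⁻¹ᵁ T').ι :=
      IsOpenImmersion.lift_fac _ _ _
    have h5 := congrArg (a ≫ ·) hU
    simp only [← Category.assoc] at h5
    rw [ha] at h5
    simpa only [Category.assoc] using h5
  have hTclosed : IsClosed T := by
    rw [← closure_subset_iff_isClosed]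
    intro t ht x x' hx hx'
    exact eq_of_mem_closure f π g hπ T' hagree x x' (hx.trans hx'.symm) (by rw [hx]; exact ht)
  have hsT : s ∈ T := by
    obtain ⟨y, hy⟩ := hs
    intro x x' hx hx'
    have key : ∀ x : X, f x = s → π x = y (IsLocalRing.closedPoint (S.residueField s)) := by
      intro x hx
      obtain ⟨z, rfl⟩ : x ∈ Set.range (f.fiberι s) := by rw [f.range_fiberι s]; exact hx
      rw [← Scheme.Hom.comp_apply, hy, Scheme.Hom.comp_apply]
      congr 1
      have hsub : Subsingleton (Spec (S.residueField s)) := inferInstanceAs (Subsingleton (PrimeSpectrum _))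
      exact hsub.elim _ _
    rw [key x hx, key x' hx']
  have hTuniv : T = Set.univ := IsClopen.eq_univ ⟨hTclosed, hTopen⟩ ⟨s, hsT⟩
  have hall : pullback.fst f f ≫ π = pullback.snd f f ≫ π := by
    refine Scheme.hom_ext_of_forall _ _ (fun w => ?_)
    obtain ⟨U, htU, hU⟩ := hTnhd (p w) (by rw [hTuniv]; trivial)
    exact ⟨p ⁻¹ᵁ U, htU, hU⟩
  -- descent
  have heff : EffectiveEpi f := inferInstance
  let σ : S ⟶ Y := EffectiveEpi.desc f π (fun {Z} g₁ g₂ hg => by
    have h1 := congrArg (pullback.lift g₁ g₂ hg ≫ ·) hall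
    simp only [← Category.assoc, pullback.lift_fst, pullback.lift_snd] at h1
    exact h1)
  have hσ : f ≫ σ = π := EffectiveEpi.fac f π _
  refine ⟨σ, ?_, hσ.symm⟩
  rw [← cancel_epi f, ← Category.assoc, hσ, hπ, Category.comp_id]

end Groth.Agent.S14141
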