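import Groth.Statements.S15750
import Groth.Agent.CAlg.K88.LaurentBasic
import Mathlib.Topology.LocallyConstant.Basic

set_option autoImplicit false
universe u
open CAlg

namespace Groth.Agent.S15750

/-- Let R be a nonzero reduced commutative ring with no idempotents other than 0 and 1. Then every unit
of the Laurent series ring R((t)) is t^n · u for a unique integer n and a unique unit u of the power
series ring R[[t]]. (The published statement is for an arbitrary torus T over a reduced ring R, with
n replaced by a locally constant integer-valued function on Spec R, i.e. a point of the cocharacter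
lattice; this row is the case where T is the multiplicative group and Spec R is connected, to which
the published proof reduces.) -/
theorem result (R : Type u) [CommRing R]
    [IsReduced R] [Nontrivial R] (hconn : ∀ e : R, IsIdempotentElem e → e = 0 ∨ e = 1)
    (f : (LaurentSeries R)ˣ) :
    ∃! p : ℤ × (PowerSeries R)ˣ,
      (f : LaurentSeries R) = HahnSeries.single p.1 (1 : R) * HahnSeries.ofPowerSeries ℤ R (p.2 : PowerSeries R) := by
  classical
  -- orders at the points of `Spec R`
  let φ : ∀ p : PrimeSpectrum R, LaurentSeries R →+* LaurentSeries p.asIdeal.ResidueField :=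
    fun p => K88.LaurentBasic.mapHom (algebraMap R p.asIdeal.ResidueField)
  have hφ : ∀ (p : PrimeSpectrum R) (x : LaurentSeries R) (n : ℤ),
      (φ p x).coeff n = 0 ↔ x.coeff n ∈ p.asIdeal := by
    intro p x n
    change algebraMap R p.asIdeal.ResidueField (x.coeff n) = 0 ↔ _
    simp
  let v : (LaurentSeries R)ˣ → PrimeSpectrum R → ℤ := fun x p => (φ p x).order
  have hne : ∀ (x : (LaurentSeries R)ˣ) (p : PrimeSpectrum R), φ p x ≠ 0 := by
    intro x p
    exact (x.isUnit.map (φ p)).ne_zero
  have hv1 : ∀ (x : (LaurentSeries R)ˣ) (p : PrimeSpectrum R),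
      (x : LaurentSeries R).coeff (v x p) ∉ p.asIdeal := by
    intro x p hx
    rw [← hφ] at hx
    exact (HahnSeries.coeff_order_eq_zero.not.mpr (hne x p)) hx
  have hv2 : ∀ (x : (LaurentSeries R)ˣ) (p : PrimeSpectrum R) (i : ℤ), i < v x p →
      (x : LaurentSeries R).coeff i ∈ p.asIdeal := by
    intro x p i hi
    rw [← hφ]
    exact HahnSeries.coeff_eq_zero_of_lt_order hi
  have hv3 : ∀ (p : PrimeSpectrum R), v f p + v f⁻¹ p = 0 := by
    intro p
    change (φ p _).order + (φ p _).order = 0
    rw [← HahnSeries.order_mul (hne f p) (hne f⁻¹ p), ← map_mul, Units.mul_inv, map_one,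
      HahnSeries.order_one]
  -- upper semicontinuity
  have hopen : ∀ (x : (LaurentSeries R)ˣ) (n : ℤ), IsOpen {p | v x p ≤ n} := by
    intro x n
    have : {p | v x p ≤ n} = ⋃ i : Set.Iic n,
        (PrimeSpectrum.basicOpen ((x : LaurentSeries R).coeff i) : Set (PrimeSpectrum R)) := by
      ext p
      simp only [Set.mem_ofPred_eq, Set.mem_iUnion, SetLike.mem_coe, PrimeSpectrum.mem_basicOpen,
        Subtype.exists, Set.mem_Iic, exists_prop]
      constructor
      · intro h
        exact ⟨_, h, hv1 x p⟩
      · rintro ⟨i, hi, hip⟩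
        by_contra hlt
        exact hip (hv2 x p i (by omega))
    rw [this]
    exact isOpen_iUnion fun i => PrimeSpectrum.isOpen_basicOpen
  have hopen' : ∀ n : ℤ, IsOpen {p | v f p = n} := by
    intro n
    have : {p | v f p = n} = {p | v f p ≤ n} ∩ {p | v f⁻¹ p ≤ -n} := by
      ext p
      have := hv3 p
      simp only [Set.mem_ofPred_eq, Set.mem_inter_iff]
      omega
    rw [this]
    exact (hopen f n).inter (hopen f⁻¹ (-n))
  -- `v f` is constant
  obtain ⟨p₀⟩ : Nonempty (PrimeSpectrum R) := inferInstance
  have hconst : ∀ p, v f p = v f p₀ := by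
    have hclopen : IsClopen {p | v f p = v f p₀} := by
      refine ⟨⟨?_⟩, hopen' _⟩
      have : {p | v f p = v f p₀}ᶜ = ⋃ n : {n : ℤ // n ≠ v f p₀}, {p | v f p = n} := by
        ext p
        simp [eq_comm]
      rw [this]
      exact isOpen_iUnion fun n => hopen' n
    obtain ⟨e, he, hset⟩ := PrimeSpectrum.exists_idempotent_basicOpen_eq_of_isClopen hclopen
    intro p
    have hp₀ : p₀ ∈ (PrimeSpectrum.basicOpen e : Set (PrimeSpectrum R)) := by
      rw [← hset]; rfl
    rcases hconn e he with rfl | rfl
    · simp at hp₀
    · have : p ∈ {p | v f p = v f p₀} := by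
        rw [hset]; simp
      exact this
  set n : ℤ := v f p₀ with hn
  have hnil : ∀ a : R, (∀ p : PrimeSpectrum R, a ∈ p.asIdeal) → a = 0 := by
    intro a ha
    have : a ∈ nilradical R := by
      rw [nilradical_eq_sInf, Submodule.mem_sInf]
      exact fun p hp => ha ⟨p, hp⟩
    exact (mem_nilradical.mp this).eq_zero
  have hlow : ∀ i : ℤ, i < n → (f : LaurentSeries R).coeff i = 0 := by
    intro i hi
    exact hnil _ fun p => hv2 f p i (by rw [hconst p]; exact hi)
  have hunit : IsUnit ((f : LaurentSeries R).coeff n) := by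
    by_contra hnu
    obtain ⟨m, hm, hmem⟩ := exists_max_ideal_of_mem_nonunits hnu
    have := hv1 f ⟨m, hm.isPrime⟩
    rw [hconst] at this
    exact this hmem
  -- the factorization
  let g : PowerSeries R := PowerSeries.mk fun i => (f : LaurentSeries R).coeff (n + i)
  have hg : IsUnit g := by
    apply PowerSeries.isUnit_iff_constantCoeff.mpr
    rw [← PowerSeries.coeff_zero_eq_constantCoeff_apply, PowerSeries.coeff_mk]
    simpa using hunit
  have hfg : (f : LaurentSeries R) = HahnSeries.single n (1 : R) * HahnSeries.ofPowerSeries ℤ R g := by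
    ext i
    rw [HahnSeries.coeff_single_mul, one_mul]
    rcases lt_or_ge i n with hi | hi
    · rw [hlow i hi, K88.LaurentBasic.coeff_ofPowerSeries_neg _ _ (by omega)]
    · obtain ⟨k, hk⟩ := Int.eq_ofNat_of_zero_le (show 0 ≤ i - n by omega)
      rw [hk, HahnSeries.ofPowerSeries_apply_coeff, PowerSeries.coeff_mk]
      congr 1
      omega
  refine ⟨(n, hg.unit), hfg, ?_⟩
  -- uniqueness
  rintro ⟨m, w⟩ hw
  have hw' : (f : LaurentSeries R) = HahnSeries.single m (1 : R) *
      HahnSeries.ofPowerSeries ℤ R (w : PowerSeries R) := hw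
  have hcoeff : ∀ i : ℤ, (f : LaurentSeries R).coeff i =
      (HahnSeries.ofPowerSeries ℤ R (w : PowerSeries R)).coeff (i - m) := by
    intro i
    rw [hw', HahnSeries.coeff_single_mul, one_mul]
  have hmn : m = n := by
    rcases lt_trichotomy m n with h | h | h
    · exfalso
      have h1 := hcoeff m
      rw [hlow m h, sub_self] at h1
      have h2 : (HahnSeries.ofPowerSeries ℤ R (w : PowerSeries R)).coeff 0 =
          PowerSeries.constantCoeff (w : PowerSeries R) := by
        have := HahnSeries.ofPowerSeries_apply_coeff (Γ := ℤ) (w : PowerSeries R) 0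
        simpa using this
      rw [h2] at h1
      exact not_isUnit_zero (h1 ▸ PowerSeries.isUnit_iff_constantCoeff.mp w.isUnit)
    · exact h
    · exfalso
      have h1 := hcoeff n
      rw [K88.LaurentBasic.coeff_ofPowerSeries_neg _ _ (by omega)] at h1
      exact not_isUnit_zero (h1 ▸ hunit)
  rw [hmn] at hw'
  refine Prod.ext hmn ?_
  apply Units.ext
  change (w : PowerSeries R) = g
  apply HahnSeries.ofPowerSeries_injective (Γ := ℤ)
  apply (K88.LaurentBasic.isUnit_single (R := R) n).mul_left_cancel
  rw [← hw', ← hfg]

end Groth.Agent.S15750
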