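import Groth.Statements.S19050
import Groth.Agent.Coherent.K57.DVRHom
import Groth.Agent.Dix.ProjProper
import Mathlib.RingTheory.DiscreteValuationRing.Basic

set_option autoImplicit false
open CategoryTheory CategoryTheory.Limits AlgebraicGeometry
universe u
open Coherent K57.DVRHom

namespace Groth.Agent.S19050

section alg

theorem isLocalization_powers (R K : Type u) [CommRing R] [IsDomain R] [IsDiscreteValuationRing R]
    [CommRing K] [Algebra R K] [IsFractionRing R K] {t : R} (ht : Irreducible t) :
    IsLocalization (Submonoid.powers t) K := by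
  have hle : Submonoid.powers t ≤ nonZeroDivisors R := by
    rintro _ ⟨n, rfl⟩
    exact pow_mem (mem_nonZeroDivisors_of_ne_zero ht.ne_zero) n
  refine ⟨fun s => IsLocalization.map_units K (⟨s.1, hle s.2⟩ : nonZeroDivisors R), fun z => ?_, ?_⟩
  · obtain ⟨⟨a, b⟩, hab⟩ := IsLocalization.surj (nonZeroDivisors R) z
    obtain ⟨n, v, hv⟩ := IsDiscreteValuationRing.eq_unit_mul_pow_irreducible
      (nonZeroDivisors.ne_zero b.2) ht
    refine ⟨⟨((v⁻¹ : Rˣ) : R) * a, ⟨t ^ n, n, rfl⟩⟩, ?_⟩
    have h1 : t ^ n = ((v⁻¹ : Rˣ) : R) * b := by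
      rw [hv, ← mul_assoc, Units.inv_mul, one_mul]
    have h2 : z * algebraMap R K (t ^ n) = algebraMap R K (((v⁻¹ : Rˣ) : R) * a) := by
      rw [h1, map_mul, map_mul, ← hab]
      ring
    exact h2
  · intro a b h
    exact ⟨1, by rw [IsFractionRing.injective R K h]⟩

end alg

section fib

variable (R : Type u) [CommRing R]

/-- The residue field of `Spec R` at `y` as an `R`-algebra. -/
@[reducible] noncomputable def algR (y : ↥(Spec (CommRingCat.of R))) :
    Algebra R ((Spec (CommRingCat.of R)).residueField y) :=
  ((Scheme.Spec.residueFieldIso (CommRingCat.of R) y).inv.hom.comp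
    (algebraMap R y.asIdeal.ResidueField)).toAlgebra

variable {X : Scheme.{u}} [X.Over (Spec (CommRingCat.of R))]

theorem isPullback_fiber (y : ↥(Spec (CommRingCat.of R))) :
    letI := algR R y
    IsPullback ((X ↘ Spec (CommRingCat.of R)).fiberι y) ((X ↘ Spec (CommRingCat.of R)).fiberToSpecResidueField y)
      (X ↘ Spec (CommRingCat.of R)) (Spec.map (CommRingCat.ofHom
        (algebraMap R ((Spec (CommRingCat.of R)).residueField y)))) := by
  have h : Spec.map (CommRingCat.ofHom ((algR R y).algebraMap)) = (Spec (CommRingCat.of R)).fromSpecResidueField y := by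
    rw [← Scheme.Spec.map_residueFieldIso_inv_eq_fromSpecResidueField, ← Spec.map_comp]
    rfl
  have h2 : IsPullback ((X ↘ Spec (CommRingCat.of R)).fiberι y)
      ((X ↘ Spec (CommRingCat.of R)).fiberToSpecResidueField y)
      (X ↘ Spec (CommRingCat.of R)) ((Spec (CommRingCat.of R)).fromSpecResidueField y) :=
    IsPullback.of_hasPullback _ _
  rw [← h] at h2
  exact h2

theorem algR_injective_of_bot [IsDomain R] [IsDiscreteValuationRing R] {t : R} (ht : Irreducible t)
    (y : ↥(Spec (CommRingCat.of R))) (hy : y.asIdeal = ⊥) :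
    letI := algR R y
    IsLocalization (Submonoid.powers t) ((Spec (CommRingCat.of R)).residueField y) := by
  obtain rfl : y = ⟨⊥, Ideal.isPrime_bot⟩ := PrimeSpectrum.ext hy
  have h1 : IsLocalization (Submonoid.powers t) (⊥ : Ideal R).ResidueField :=
    isLocalization_powers R _ ht
  let _ := algR R ⟨⊥, Ideal.isPrime_bot⟩
  let e : (⊥ : Ideal R).ResidueField ≃ₐ[R]
      (Spec (CommRingCat.of R)).residueField ⟨⊥, Ideal.isPrime_bot⟩ :=
    { (Scheme.Spec.residueFieldIso (CommRingCat.of R) ⟨⊥, Ideal.isPrime_bot⟩).symm.commRingCatIsoToRingEquiv with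
      commutes' := fun r => rfl }
  exact IsLocalization.isLocalization_of_algEquiv _ e

theorem algR_surjective (y : ↥(Spec (CommRingCat.of R))) [hy : y.asIdeal.IsMaximal] :
    letI := algR R y
    Function.Surjective (algebraMap R ((Spec (CommRingCat.of R)).residueField y)) := by
  have h1 := Ideal.algebraMap_residueField_surjective y.asIdeal
  exact (ConcreteCategory.bijective_of_isIso
    (Scheme.Spec.residueFieldIso (CommRingCat.of R) y).inv).2.comp h1

theorem ker_algR (y : ↥(Spec (CommRingCat.of R))) :
    letI := algR R y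
    RingHom.ker (algebraMap R ((Spec (CommRingCat.of R)).residueField y)) = y.asIdeal := by
  have h1 := Ideal.ker_algebraMap_residueField y.asIdeal
  have h2 := (ConcreteCategory.bijective_of_isIso
    (Scheme.Spec.residueFieldIso (CommRingCat.of R) y).inv).1
  refine Eq.trans ?_ h1
  ext r
  change (Scheme.Spec.residueFieldIso (CommRingCat.of R) y).inv (algebraMap R y.asIdeal.ResidueField r) = 0 ↔
    algebraMap R y.asIdeal.ResidueField r = 0
  rw [map_eq_zero_iff _ h2]

end fib

/-- Let R be a discrete valuation ring, X a projective R-scheme and I, F coherent O_X-modules flat over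
R. Suppose that for each point y of Spec R the κ(y)-vector space of morphisms I_y → F_y between the
restrictions to the fibre X_y = X ×_R Spec κ(y) has the same dimension n. Then the R-module
Hom_{O_X}(I, F) is free of rank n (finitely generated, free, of rank n), and if n ≥ 1 there is a
morphism I → F whose restriction to each fibre is nonzero. (The published statement is for the base
change to R of a smooth projective variety over a field; it is stated here for any projective
R-scheme, to which the printed argument applies unchanged. The identification of the two fibres of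
Hom(I, F) with the Hom spaces on the fibres is not restated; its consequence for n ≥ 1 is.) -/
theorem result
    (R : Type u) [CommRing R] [IsDomain R] [IsDiscreteValuationRing R]
    (X : Scheme.{u}) [X.Over (Spec (CommRingCat.of R))]
    (hproj : ∃ (m : ℕ) (ι : X ⟶ CohB1.ProjSpace m R), IsClosedImmersion ι ∧
      ι ≫ CohB1.ProjSpace.toSpec m R = X ↘ Spec (CommRingCat.of R))
    (I F : X.Modules) (hI : Coh.IsCoh I) (hF : Coh.IsCoh F)
    (hIfl : FlatMod.IsFlatOver (X ↘ Spec (CommRingCat.of R)) I)
    (hFfl : FlatMod.IsFlatOver (X ↘ Spec (CommRingCat.of R)) F)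
    (n : ℕ)
    (hfib : ∀ y : ↥(Spec (CommRingCat.of R)),
      letI : ((X ↘ Spec (CommRingCat.of R)).fiber y).Over
          (Spec (CommRingCat.of ((Spec (CommRingCat.of R)).residueField y))) :=
        ⟨(X ↘ Spec (CommRingCat.of R)).fiberToSpecResidueField y⟩
      Module.finrank ((Spec (CommRingCat.of R)).residueField y)
        ((Scheme.Modules.pullback ((X ↘ Spec (CommRingCat.of R)).fiberι y)).obj I ⟶
          (Scheme.Modules.pullback ((X ↘ Spec (CommRingCat.of R)).fiberι y)).obj F) = n) :
    Module.Finite R (I ⟶ F) ∧ Module.Free R (I ⟶ F) ∧ Module.finrank R (I ⟶ F) = n ∧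
      (0 < n → ∃ φ : I ⟶ F, ∀ y : ↥(Spec (CommRingCat.of R)),
        (Scheme.Modules.pullback ((X ↘ Spec (CommRingCat.of R)).fiberι y)).map φ ≠ 0) := by
  obtain ⟨m, ι, hι, hι'⟩ := hproj
  have hpr : IsProper (X ↘ Spec (CommRingCat.of R)) := by
    have := Groth.Agent.Dix.ProjProper.isProper_toSpec m R
    rw [← hι']
    infer_instance
  have hcomp : CompactSpace X := by
    have := (quasiCompact_iff_compactSpace (f := X ↘ Spec (CommRingCat.of R)))
    exact this.mp inferInstance
  obtain ⟨t, ht⟩ := IsDiscreteValuationRing.exists_irreducible R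
  have hTF : ∀ r : R, r ≠ 0 → TF r F := fun r hr => tf_of_flat hF.1 hFfl hr
  have hfin : Module.Finite R (I ⟶ F) := K703.HomFin.finite_hom R I F hI hF
  have htors : Module.IsTorsionFree R (I ⟶ F) := by
    refine ⟨fun r hr a b hab => ?_⟩
    have hr0 : r ≠ 0 := hr.ne_zero
    have h1 : r • (a - b) = 0 := by
      rw [smul_sub]
      exact sub_eq_zero.mpr hab
    exact sub_eq_zero.mp (eq_zero_of_smul (hTF r hr0) _ h1)
  have hfree : Module.Free R (I ⟶ F) := inferInstance
  have hbot : ∀ y : ↥(Spec (CommRingCat.of R)), y.asIdeal = ⊥ →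
      (∀ φ : I ⟶ F, (Scheme.Modules.pullback ((X ↘ Spec (CommRingCat.of R)).fiberι y)).map φ = 0 → φ = 0) := by
    intro y hy φ hφ
    let _ := algR R y
    let _ : ((X ↘ Spec (CommRingCat.of R)).fiber y).Over
          (Spec (CommRingCat.of ((Spec (CommRingCat.of R)).residueField y))) :=
        ⟨(X ↘ Spec (CommRingCat.of R)).fiberToSpecResidueField y⟩
    have := algR_injective_of_bot R ht y hy
    refine map_injective (B := (Spec (CommRingCat.of R)).residueField y) _ (isPullback_fiber R y) t hF.1
      (hTF t ht.ne_zero) ?_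
    rw [hφ, Functor.map_zero]
  have hrank : Module.finrank R (I ⟶ F) = n := by
    let y : ↥(Spec (CommRingCat.of R)) := ⟨⊥, Ideal.isPrime_bot⟩
    rw [← hfib y]
    let _ := algR R y
    let _ : ((X ↘ Spec (CommRingCat.of R)).fiber y).Over
          (Spec (CommRingCat.of ((Spec (CommRingCat.of R)).residueField y))) :=
        ⟨(X ↘ Spec (CommRingCat.of R)).fiberToSpecResidueField y⟩
    have := algR_injective_of_bot R ht y rfl
    exact (finrank_eq (B := (Spec (CommRingCat.of R)).residueField y) _ (isPullback_fiber R y) t hI hF.1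
      (hTF t ht.ne_zero)).symm
  refine ⟨hfin, hfree, hrank, fun hn => ?_⟩
  let b := Module.Free.chooseBasis R (I ⟶ F)
  have hne : Nonempty (Module.Free.ChooseBasisIndex R (I ⟶ F)) := by
    rw [← Fintype.card_pos_iff, ← Module.finrank_eq_card_chooseBasisIndex, hrank]
    exact hn
  obtain ⟨i⟩ := hne
  refine ⟨b i, fun y hy => ?_⟩
  by_cases h0 : y.asIdeal = ⊥
  · exact b.ne_zero i (hbot y h0 _ hy)
  · have hmax : y.asIdeal.IsMaximal := y.isPrime.isMaximal h0
    let _ := algR R y
    let _ : ((X ↘ Spec (CommRingCat.of R)).fiber y).Over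
          (Spec (CommRingCat.of ((Spec (CommRingCat.of R)).residueField y))) :=
        ⟨(X ↘ Spec (CommRingCat.of R)).fiberToSpecResidueField y⟩
    have hker : RingHom.ker (algebraMap R ((Spec (CommRingCat.of R)).residueField y)) = Ideal.span {t} := by
      rw [ker_algR, IsLocalRing.eq_maximalIdeal hmax]
      exact (IsDiscreteValuationRing.irreducible_iff_uniformizer t).mp ht
    obtain ⟨φ', hφ'⟩ := exists_div (B := (Spec (CommRingCat.of R)).residueField y) _ (isPullback_fiber R y)
      (algR_surjective R y) hker hF.1 (hTF t ht.ne_zero) (b i) hy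
    have h1 := congrArg (fun z => b.repr z i) hφ'
    simp only [map_smul, Finsupp.smul_apply, Module.Basis.repr_self, Finsupp.single_eq_same, smul_eq_mul] at h1
    exact ht.not_isUnit (IsUnit.of_mul_eq_one _ h1.symm)

end Groth.Agent.S19050
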