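import Groth.Statements.S14541
import Groth.Agent.PrincBund.K826.Tors
import Groth.Agent.PrincBund.K826.Descend

set_option autoImplicit false
universe u
open CategoryTheory MonoidalCategory CartesianMonoidalCategory MonObj GrpObj AlgebraicGeometry
open PrincBund

namespace Groth.Agent.S14541

/-- Let X be a scheme, J, J' and J'' group schemes affine over X, with no flatness or finiteness
condition, u : J → J' and v : J' → J'' homomorphisms, P a J-torsor, P' a J'-torsor and P'' a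
J''-torsor, all for the fpqc topology, q' : P → P' an X-morphism compatible with u and q'' : P → P''
an X-morphism compatible with the composite homomorphism J → J' → J''. Then there is exactly one
X-morphism r : P' → P'' compatible with v whose composite with q' is q''. Taking v to be the
identity, the push forward of a torsor along u is unique up to unique isomorphism. -/
theorem result {X : Scheme.{u}}
    {J J' J'' : Over X} [GrpObj J] [GrpObj J'] [GrpObj J''] [IsAffineHom J.hom] [IsAffineHom J'.hom]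
    [IsAffineHom J''.hom] (u : J ⟶ J') [IsMonHom u] (v : J' ⟶ J'') [IsMonHom v] {P P' P'' : Over X}
    (a : AlgGrp.Action J P) (a' : AlgGrp.Action J' P') (a'' : AlgGrp.Action J'' P'')
    (hP : NonAbH1.IsTorsorFor Scheme.fpqcPrecoverage a)
    (hP' : NonAbH1.IsTorsorFor Scheme.fpqcPrecoverage a')
    (hP'' : NonAbH1.IsTorsorFor Scheme.fpqcPrecoverage a'')
    (q' : P ⟶ P') (hq' : a.act ≫ q' = lift (fst J P ≫ u) (snd J P ≫ q') ≫ a'.act)
    (q'' : P ⟶ P'') (hq'' : a.act ≫ q'' = lift (fst J P ≫ u ≫ v) (snd J P ≫ q'') ≫ a''.act) :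
    ∃! r : P' ⟶ P'', a'.act ≫ r = lift (fst J' P' ≫ v) (snd J' P' ≫ r) ≫ a''.act ∧ q' ≫ r = q'' := by
  have hpt : ∀ (T : Over X) (x : T ⟶ P') (y : T ⟶ P), ∃! g : T ⟶ J', lift g (y ≫ q') ≫ a'.act = x :=
    fun T x y => K826.Tors.existsUnique_of_pseudo hP'.1 _ _
  have hPP : ∀ (T : Over X) (x y : T ⟶ P), ∃! g : T ⟶ J, lift g x ≫ a.act = y :=
    fun T x y => K826.Tors.existsUnique_of_pseudo hP.1 _ _
  have hq'p : ∀ (T : Over X) (g : T ⟶ J) (x : T ⟶ P),
      (lift g x ≫ a.act) ≫ q' = lift (g ≫ u) (x ≫ q') ≫ a'.act := by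
    intro T g x
    rw [Category.assoc, hq', comp_lift_assoc, lift_fst_assoc, lift_snd_assoc]
  have hq''p : ∀ (T : Over X) (g : T ⟶ J) (x : T ⟶ P),
      (lift g x ≫ a.act) ≫ q'' = lift (g ≫ u ≫ v) (x ≫ q'') ≫ a''.act := by
    intro T g x
    rw [Category.assoc, hq'', comp_lift_assoc, lift_fst_assoc, lift_snd_assoc]
  choose d hd hdu using hpt
  replace hd : ∀ (T : Over X) (x : T ⟶ P') (y : T ⟶ P), lift (d T x y) (y ≫ q') ≫ a'.act = x := hd
  replace hdu : ∀ (T : Over X) (x : T ⟶ P') (y : T ⟶ P) (g : T ⟶ J'),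
    lift g (y ≫ q') ≫ a'.act = x → g = d T x y := hdu
  have hdn : ∀ (T T' : Over X) (t : T' ⟶ T) (x : T ⟶ P') (y : T ⟶ P),
      t ≫ d T x y = d T' (t ≫ x) (t ≫ y) := by
    intro T T' t x y
    apply hdu
    have := congrArg (t ≫ ·) (hd T x y)
    simpa [comp_lift_assoc] using this
  let f : ∀ (T : Over X) (_ : T ⟶ P') (_ : T ⟶ P), T ⟶ P'' :=
    fun T x y => lift (d T x y ≫ v) (y ≫ q'') ≫ a''.act
  have hf : ∀ (T : Over X) (x : T ⟶ P') (y : T ⟶ P), f T x y = lift (d T x y ≫ v) (y ≫ q'') ≫ a''.act :=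
    fun _ _ _ => rfl
  obtain ⟨r, hr, hru⟩ := K826.Descend.existsUnique_glue le_rfl hP.2 f (by
    intro T T' t x y
    rw [hf, hf, comp_lift_assoc, ← Category.assoc, hdn, Category.assoc]) (by
    intro T x y y'
    obtain ⟨g, hg, -⟩ := hPP T y y'
    replace hg : lift g y ≫ a.act = y' := hg
    have h1 : d T x y = d T x y' * (g ≫ u) := by
      refine (hdu T x y _ ?_).symm
      rw [a'.lift_mul_act, ← hq'p, hg, hd]
    rw [hf, hf, h1, MonObj.mul_comp, a''.lift_mul_act, ← hg, hq''p, Category.assoc])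
  refine ⟨r, ⟨?_, ?_⟩, ?_⟩
  · refine K826.Descend.hom_ext_of_locTriv le_rfl hP.2 fun T t y => ?_
    obtain ⟨g, x, rfl⟩ : ∃ (g : T ⟶ J') (x : T ⟶ P'), t = lift g x :=
      ⟨t ≫ fst _ _, t ≫ snd _ _, by rw [← comp_lift, lift_fst_snd, Category.comp_id]⟩
    rw [← Category.assoc, hr T _ y, comp_lift_assoc, lift_fst_assoc, lift_snd_assoc, hr T _ y, hf, hf]
    have h1 : d T (lift g x ≫ a'.act) y = g * d T x y := by
      refine (hdu T _ y _ ?_).symm
      rw [a'.lift_mul_act, hd]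
    rw [h1, MonObj.mul_comp, a''.lift_mul_act]
  · have h1 : d P q' (𝟙 P) = 1 := by
      refine (hdu P _ _ _ ?_).symm
      rw [a'.lift_one_act, Category.id_comp]
    have h2 := hr P q' (𝟙 P)
    rw [h2, hf, h1, MonObj.one_comp, a''.lift_one_act, Category.id_comp]
  · rintro r' ⟨hr1, hr2⟩
    apply hru
    intro T x y
    rw [hf]
    have h1 : (lift (d T x y) (y ≫ q') ≫ a'.act) ≫ r' = lift (d T x y ≫ v) (y ≫ q' ≫ r') ≫ a''.act := by
      rw [Category.assoc, hr1, comp_lift_assoc, lift_fst_assoc, lift_snd_assoc, Category.assoc]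
    rw [hd, hr2] at h1
    exact h1

end Groth.Agent.S14541
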