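import Groth.Statements.S5969
import Groth.Agent.Nrm16.K137.Nbhd
-- import your own Groth.Agent.* helpers here

set_option autoImplicit false
universe u
open CategoryTheory CategoryTheory.Limits AlgebraicGeometry TopologicalSpace Opposite
open Nrm16

namespace Groth.Agent.S5969

/-- Let f : X ⟶ S be a morphism of schemes and n a natural number. On the order-n infinitesimal
thickening of the diagonal of f there is an endomorphism σ which is compatible, under the immersion
into X ×_S X, with the symmetry exchanging the two factors; σ is an involution, it exchanges the two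
projections to X (so it exchanges the two O_X-algebra structures of P^n_{X/S}) and it fixes the
diagonal section. -/
theorem result {X S : Scheme.{u}} (f : X ⟶ S) (n : ℕ) :
    ∃ σ : PrinPart.nbhd f n ⟶ PrinPart.nbhd f n,
      σ ≫ PrinPart.nbhdι f n = PrinPart.nbhdι f n ≫ (pullbackSymmetry f f).hom ∧
      σ ≫ σ = 𝟙 (PrinPart.nbhd f n) ∧
      σ ≫ PrinPart.pr1 f n = PrinPart.pr2 f n ∧ σ ≫ PrinPart.pr2 f n = PrinPart.pr1 f n ∧
      PrinPart.toNbhd f n ≫ σ = PrinPart.toNbhd f n := by
  have h0 : pullback.diagonal f ≫ (pullbackSymmetry f f).hom = pullback.diagonal f := by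
    apply pullback.hom_ext <;> simp
  obtain ⟨σ, hσ⟩ := K137.Nbhd.exists_map f n f (PrinPart.nbhdι f n ≫ (pullbackSymmetry f f).hom) (𝟙 X) (by
    rw [PrinPart.toNbhd_ι_assoc, h0, Category.id_comp])
  have h1 : σ ≫ PrinPart.pr1 f n = PrinPart.pr2 f n := by
    rw [PrinPart.pr1, PrinPart.pr2, reassoc_of% hσ, pullbackSymmetry_hom_comp_fst]
  have h2 : σ ≫ PrinPart.pr2 f n = PrinPart.pr1 f n := by
    rw [PrinPart.pr1, PrinPart.pr2, reassoc_of% hσ, pullbackSymmetry_hom_comp_snd]
  refine ⟨σ, hσ, ?_, h1, h2, ?_⟩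
  · rw [← cancel_mono (PrinPart.nbhdι f n), Category.assoc, hσ, reassoc_of% hσ, Category.id_comp]
    have h3 : (pullbackSymmetry f f).hom ≫ (pullbackSymmetry f f).hom = 𝟙 _ := by
      apply pullback.hom_ext <;> simp
    rw [h3, Category.comp_id]
  · rw [← cancel_mono (PrinPart.nbhdι f n), Category.assoc, hσ, PrinPart.toNbhd_ι_assoc, h0,
      PrinPart.toNbhd_ι]

end Groth.Agent.S5969
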