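import Groth.Statements.S4526
import Groth.Agent.S4525
import Mathlib.LinearAlgebra.Dimension.Constructions
import Mathlib.LinearAlgebra.Dimension.RankNullity

set_option autoImplicit false
universe u
open EGA41

namespace Groth.Agent.S4526

/-- Let k ⊆ K ⊆ L be three fields with L an extension of finite type of k. Then Ω_{L/k} and Ω_{K/k} are
finite-dimensional and rank_L Ω_{L/k} − rank_K Ω_{K/k} ≥ trdeg_K L. (The published statement also
gives the exact value trdeg_K L + d(L/K, k) and an equality criterion; this row states only the
inequality.) -/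
theorem result {k K L : Type u} [Field k] [Field K] [Field L]
    [Algebra k K] [Algebra K L] [Algebra k L] [IsScalarTower k K L] [Algebra.EssFiniteType k L] :
    Module.Finite L (Ω[L⁄k]) ∧ Module.Finite K (Ω[K⁄k]) ∧
      (Cardinal.toNat (Algebra.trdeg K L) : ℤ) ≤ (Module.finrank L (Ω[L⁄k]) : ℤ) - Module.finrank K (Ω[K⁄k]) := by
  have hKL : Algebra.EssFiniteType K L := Algebra.EssFiniteType.of_comp k K L
  obtain ⟨h1, h2, h3⟩ := Groth.Agent.S4525.result (k := k) (K := K) (L := L)
  have hkL : Module.Finite L (Ω[L⁄k]) := inferInstance
  set f := KaehlerDifferential.mapBaseChange k K L with hf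
  have hker : Module.Finite L (LinearMap.ker f) := h2
  have hfin : Module.Finite L (TensorProduct K L (Ω[K⁄k])) := by
    have h4 : Module.Finite L (TensorProduct K L (Ω[K⁄k]) ⧸ LinearMap.ker f) :=
      Module.Finite.equiv f.quotKerEquivRange.symm
    exact Module.Finite.of_submodule_quotient (LinearMap.ker f)
  have hfinK : Module.Finite K (Ω[K⁄k]) := by
    obtain ⟨ι, b⟩ := Module.Free.exists_basis (R := K) (M := Ω[K⁄k])
    have h5 := b.baseChange L
    have h6 : Finite ι := Module.Finite.finite_basis h5
    exact Module.Finite.of_basis b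
  refine ⟨hkL, hfinK, ?_⟩
  have e1 : Module.finrank L (LinearMap.range f) + Module.finrank L (LinearMap.ker f) =
      Module.finrank L (TensorProduct K L (Ω[K⁄k])) := LinearMap.finrank_range_add_finrank_ker f
  have e2 := LinearMap.finrank_range_add_finrank_ker (KaehlerDifferential.map k K L L)
  rw [LinearMap.range_eq_top.mpr (KaehlerDifferential.map_surjective k K L), finrank_top,
    ← KaehlerDifferential.range_mapBaseChange, ← hf] at e2
  rw [Module.finrank_baseChange] at e1
  have e3 : Module.finrank L (EGA41.imperfection k K L) = Module.finrank L (LinearMap.ker f) := rfl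
  rw [e3] at h3
  omega
end Groth.Agent.S4526
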