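import Groth.Statements.S16791
import Groth.Agent.Sga3.H665.TorBcNA

set_option autoImplicit false
open CategoryTheory MonoidalCategory CartesianMonoidalCategory MonObj GrpObj AlgebraicGeometry
universe u
open Red

namespace Groth.Agent.S16791

open Groth.Agent.Sga3B Groth.Agent.Sga3B.RedIso Groth.Agent.Sga3B.BcNat Groth.Agent.Sga3B.AlgBc
  Groth.Agent.Sga3B.MaxTorBc636

/-- For a smooth affine group scheme G over a scheme S, a subtorus T ⊆ G and a surjective morphism S' →
S, T is a maximal torus of G (geometric fibres maximal) if and only if T_{S'} is a maximal torus of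
G_{S'}. -/
theorem result {S S' : Scheme.{u}} {G T : Over S} [GrpObj G] [GrpObj T]
    (hG : Smooth G.hom) (hGa : IsAffineHom G.hom) (i : T ⟶ G) [IsMonHom i] [Mono i] (hT : Red.IsTorus T)
    (f : S' ⟶ S) (hf : Surjective f) :
    Red.IsMaximalTorus i ↔ Red.IsMaximalTorus ((Over.pullback f).map i) := by
  refine ⟨fun h => Groth.Agent.Sga3.H665.TorBcNA.isMaximalTorus_bc f h, fun h => ?_⟩
  refine ⟨inferInstance, inferInstance, hT, fun s => ?_⟩
  obtain ⟨s', rfl⟩ := hf.surj s
  obtain ⟨θ, hθ⟩ := exists_geomPt f s'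
  have h1 : IsMaxTorOver ((Over.pullback (Red.geomPt s')).map ((Over.pullback f).map i)) := h.2.2.2 s'
  have h2 : IsMaxTorOver ((Over.pullback θ).map ((Over.pullback (Red.geomPt (f s'))).map i)) :=
    isMaxTorOver_of_arrow (fibIso hθ T) (fibIso hθ G) (fib_nat hθ i) h1
  have h0 : LocallyOfFiniteType G.hom := inferInstance
  have h3 : LocallyOfFiniteType ((Over.pullback (Red.geomPt (f s'))).obj G).hom :=
    MorphismProperty.pullback_snd (P := @LocallyOfFiniteType) _ _ h0
  have hT' : Red.IsTorus ((Over.pullback (Red.geomPt (f s'))).obj T) := TorusBc.isTorus_bc _ hT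
  have h4 : Red.IsMaximalTorus ((Over.pullback θ).map ((Over.pullback (Red.geomPt (f s'))).map i)) :=
    isMaximalTorus_iff.2 ⟨inferInstance, inferInstance, TorusBc.isTorus_bc _ hT', h2⟩
  have h5 := (Groth.Agent.Sga3.H784.NAMain.isMaximalTorus_pullback_iff θ _ inferInstance hT').1 h4
  exact (isMaximalTorus_iff.1 h5).2.2.2

end Groth.Agent.S16791
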