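import Groth.Statements.S8504
import Groth.Agent.Par.K545.Tools
import Groth.Agent.RedSub.H635.Uniq
import Groth.Agent.Sga3B.Par.CanDef
import Groth.Agent.Redsub.H656.LocLam

set_option autoImplicit false
open CategoryTheory MonoidalCategory CartesianMonoidalCategory MonObj GrpObj AlgebraicGeometry
universe u
open Par

namespace Groth.Agent.S8504

open Groth.Agent.Sga3B Groth.Agent.Sga3B.Parab Groth.Agent.Sga3B.DSPts Groth.Agent.Sga3B.GaPts

lemma geomPt_apply {S : Scheme.{u}} (σ : S)
    (q : Spec (CommRingCat.of (AlgebraicClosure (S.residueField σ)))) : Red.geomPt σ q = σ := by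
  change (Spec.map _ ≫ S.fromSpecResidueField σ) q = σ
  rw [Scheme.Hom.comp_apply]
  exact Scheme.fromSpecResidueField_apply _ _

/-- The roots contained in a parabolic subgroup containing the torus of a splitting. -/
theorem key {S : Scheme.{u}} [ConnectedSpace S]
    {G P : Over S} [GrpObj G] [GrpObj P] (D : Red.SplitRed G) (p : P ⟶ G)
    (hP : Red.IsParabolic p) (tP : D.T ⟶ P) (htP : tP ≫ p = D.i) :
    ∃ x : Module.Dual ℤ D.M, ∀ a : D.idx, (∃ v : Red.Ga S ⟶ P, v ≫ p = D.u a) ↔
      0 ≤ x (D.P.root a) := by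
  have hpm := hP.1
  have hpc := hP.2.1
  have hps := hP.2.2.1
  have hpo := K545.Tools.mono_of_isParabolic hP
  have hiT : IsMonHom D.i := D.maximalTorus.1
  have htm : IsMonHom tP := K545.Tools.isMonHom_of_comp htP
  have hT : Red.IsMaximalTorus (tP ≫ p) := by rw [htP]; exact D.maximalTorus
  have hTP : Red.IsMaximalTorus tP :=
    Redsub.H656.LocLam.isMaximalTorus_of_comp hP.1 hP.2.1 htm hT
  obtain ⟨σ⟩ : Nonempty S := inferInstance
  obtain ⟨x, hx⟩ := exists_cochar_geom Uncond688.dynK2 D.reductive hP hTP D.split σ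
  let y : Module.Dual ℤ D.M := x.toIntLinearMap
  have hxy : Red.DSmap S x ≫ D.split.inv.hom.hom ≫ tP ≫ p = Par.coch D y := by
    rw [htP]
    exact (Category.assoc _ _ _).symm
  rw [hxy] at hx
  refine ⟨y, fun a => ?_⟩
  constructor
  · rintro ⟨v, hv⟩
    let X : Over (Spec (CommRingCat.of (AlgebraicClosure (S.residueField σ)))) := Over.mk (𝟙 _)
    let g : (Over.map (Red.geomPt σ)).obj X ⟶ G :=
      gaPt (aff (AlgebraicClosure (S.residueField σ)) (𝟙 _ ≫ Red.geomPt σ)) 1 ≫ D.u a
    have h1 : ∃ z : X ⟶ Red.bc (Red.geomPt σ) P, z ≫ (Over.pullback (Red.geomPt σ)).map p =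
        DSPts.bcEquiv (Red.geomPt σ) X G g := by
      rw [DynBc998.exists_bc_iff]
      refine ⟨gaPt (aff (AlgebraicClosure (S.residueField σ)) (𝟙 _ ≫ Red.geomPt σ)) 1 ≫ v, ?_⟩
      rw [MulEquiv.symm_apply_apply, Category.assoc, hv]
    have h2 := (hx.iff_ptP _ _).1 h1
    rw [DynBc998.ptP_bc_iff, MulEquiv.symm_apply_apply] at h2
    have h3 : LimEx (C := AlgebraicClosure (S.residueField σ)) (c := 𝟙 _ ≫ Red.geomPt σ)
        (Par.coch D y) (𝟙 ((Over.map (Red.geomPt σ)).obj X) ≫ g) :=
      h2 (AlgebraicClosure (S.residueField σ)) (𝟙 _ ≫ Red.geomPt σ) (𝟙 _)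
    rw [Category.id_comp g] at h3
    exact (Par.limEx_root_iff D y a).1 h3
  · intro ha
    rw [RedSub.H635.Uniq.exists_lift_iff D p tP htP a σ]
    refine ⟨AlgebraicClosure (S.residueField σ), inferInstance, Red.geomPt σ,
      ⟨(⊥ : PrimeSpectrum _), geomPt_apply σ _⟩, ?_⟩
    let X : Over (Spec (CommRingCat.of (AlgebraicClosure (S.residueField σ)))) :=
      Over.mk (Spec.map (CommRingCat.ofHom (algebraMap (AlgebraicClosure (S.residueField σ))
        (TrivSqZeroExt (AlgebraicClosure (S.residueField σ))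
          (AlgebraicClosure (S.residueField σ))))))
    have h4 : ∀ (Y : Over S) (f : Γ(Y.left, ⊤)), PtP (Par.coch D y) (gaPt Y f ≫ D.u a) := by
      intro Y f C _ c z
      rw [← Category.assoc, comp_gaPt]
      exact Par.limEx_root D y a _ ha
    have h5 : ∀ (g : (Over.map (Red.geomPt σ)).obj X ⟶ G), PtP (Par.coch D y) g →
        ∃ v : (Over.map (Red.geomPt σ)).obj X ⟶ P, v ≫ p = g := by
      intro g hg
      have h6 := (hx.iff_ptP X (DSPts.bcEquiv (Red.geomPt σ) X G g)).2 (by
        rw [DynBc998.ptP_bc_iff, MulEquiv.symm_apply_apply]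
        exact hg)
      rw [DynBc998.exists_bc_iff, MulEquiv.symm_apply_apply] at h6
      exact h6
    exact h5 _ (h4 _ _)

/-- (i) ⟹ (iii): Let S be a connected scheme, G a split reductive S-group with splitting D (maximal
torus T, roots indexed by D.idx, root homomorphisms u_a) and R' a set of roots. Suppose there is a
parabolic subgroup P of G containing T such that, for every root a, the root homomorphism u_a
factors through P exactly when a ∈ R'. Then R' is a closed set of roots and every root lies in R' or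
in −R'. (The published statement assumes S non-empty and phrases the hypothesis through the Lie
algebra of P; here S is taken connected and the hypothesis is phrased through the root subgroups
contained in P.) -/
theorem result {S : Scheme.{u}} [ConnectedSpace S]
    {G P : Over S} [GrpObj G] [GrpObj P] (D : Red.SplitRed G) (R' : Set D.idx) (p : P ⟶ G)
    (hP : Red.IsParabolic p) (tP : D.T ⟶ P) (htP : tP ≫ p = D.i)
    (hR' : ∀ a : D.idx, (∃ v : Red.Ga S ⟶ P, v ≫ p = D.u a) ↔ a ∈ R') :
    (∀ a b c : D.idx, a ∈ R' → b ∈ R' → D.P.root a + D.P.root b = D.P.root c → c ∈ R') ∧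
    (∀ a b : D.idx, D.P.root b = -D.P.root a → a ∈ R' ∨ b ∈ R') := by
  obtain ⟨x, hx⟩ := key D p hP tP htP
  have h : ∀ a, a ∈ R' ↔ 0 ≤ x (D.P.root a) := fun a => (hR' a).symm.trans (hx a)
  constructor
  · intro a b c ha hb hc
    rw [h] at *
    rw [← hc, map_add]
    exact add_nonneg ha hb
  · intro a b hab
    rw [h, h, hab, map_neg]
    rcases le_total 0 (x (D.P.root a)) with h1 | h1
    · exact Or.inl h1
    · exact Or.inr (neg_nonneg.2 h1)

end Groth.Agent.S8504
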