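import Groth.Statements.S8498
import Groth.Agent.Par.K546.OscGlob
import Groth.Agent.S2995
import Groth.Agent.S3982
-- import your own Groth.Agent.* helpers here

set_option autoImplicit false
open CategoryTheory MonoidalCategory CartesianMonoidalCategory MonObj GrpObj AlgebraicGeometry
universe u
open Par

namespace Groth.Agent.S8498

/-- Let A be a semi-local ring, S = Spec A, G a reductive S-group and P, Q two parabolic subgroups of G.
Then there is g ∈ G(S) such that int(g)P and Q are in osculating position: the intersection int(g)P
∩ Q (a fibre product over G of the conjugate of P by g and of Q, with its induced group structure)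
is a parabolic subgroup of G. -/
theorem result {A : Type u} [CommRing A] (hA : {m : Ideal A | m.IsMaximal}.Finite)
    {G P Q : Over (Spec (CommRingCat.of A))} [GrpObj G] [GrpObj P] [GrpObj Q] (hG : Red.IsReductive G)
    (p : P ⟶ G) (q : Q ⟶ G) (hP : Red.IsParabolic p) (hQ : Red.IsParabolic q) :
    ∃ (g : 𝟙_ (Over (Spec (CommRingCat.of A))) ⟶ G) (I : Over (Spec (CommRingCat.of A))) (_ : GrpObj I)
      (m : I ⟶ P) (m' : I ⟶ Q), IsMonHom m' ∧ IsPullback m m' (AGF.conjBy g p) q ∧ Red.IsParabolic (m' ≫ q) := by
  exact K546.OscGlob.exists_osculating hG p q hP hQ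
    (fun P' _ p' hP' => S2995.result hA G P' hG p' hP')
    (fun P' _ p' hP' => by
      obtain ⟨g, hg, -⟩ := S3982.result hA hG p' p' q hP' hP' hQ
      exact ⟨g, hg⟩)

end Groth.Agent.S8498
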