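import Groth.Statements.S5378
import Groth.Agent.SGA3.K207.AffTarget

set_option autoImplicit false
universe u
open CategoryTheory CategoryTheory.Limits MonoidalCategory CartesianMonoidalCategory MonObj GrpObj AlgebraicGeometry
open SGA3

namespace Groth.Agent.S5378

/-- Let k be a field, G a k-group scheme of finite type, G' an affine k-group scheme (not necessarily of
finite type) and u : G → G' a homomorphism. Then u factors as a homomorphism p : G → C which is
surjective and flat (C is the quotient of G by the kernel of u) followed by a homomorphism i : C →
G' which is a closed immersion; in particular C is affine. If moreover u induces an injective map on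
global sections, then i is an isomorphism (so G' is of finite type and u is faithfully flat). -/
theorem result (k : Type u) [Field k] (G G' : Over (Spec (CommRingCat.of k))) [GrpObj G] [GrpObj G']
    [LocallyOfFiniteType G.hom] [QuasiCompact G.hom] [IsAffine G'.left] (u : G ⟶ G') [IsMonHom u] :
    ∃ (C : Over (Spec (CommRingCat.of k))) (_ : GrpObj C) (p : G ⟶ C) (i : C ⟶ G'), IsMonHom p ∧ IsMonHom i ∧
      p ≫ i = u ∧ Surjective p.left ∧ Flat p.left ∧ IsClosedImmersion i.left ∧ IsAffine C.left ∧
      (Function.Injective u.left.appTop.hom → IsIso i) := by
  obtain ⟨C, gC, p, i, hp, hi, hpi, hps, hfl, hpq, hic, hC, hinj⟩ :=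
    K207.AffTarget.exists_factorisation k G G' u
  refine ⟨C, gC, p, i, hp, hi, hpi, hps, hfl, hic, hC, fun h => ?_⟩
  have h1 : Function.Injective i.left.appTop.hom := by
    have h2 : u.left.appTop = i.left.appTop ≫ p.left.appTop := by
      rw [← hpi]
      exact Scheme.Hom.comp_appTop p.left i.left
    rw [h2] at h
    have h3 : Function.Injective (p.left.appTop.hom ∘ i.left.appTop.hom) := h
    exact h3.of_comp
  have h2 : Function.Surjective i.left.appTop.hom :=
    (IsClosedImmersion.isAffine_surjective_of_isAffine i.left).2
  have h3 : IsIso i.left.appTop := by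
    rw [ConcreteCategory.isIso_iff_bijective]
    exact ⟨h1, h2⟩
  have h4 : IsIso i.left :=
    (MorphismProperty.arrow_mk_iso_iff (MorphismProperty.isomorphisms _)
      (arrowIsoSpecΓOfIsAffine i.left)).mpr (inferInstanceAs (IsIso (Spec.map (i.left.appTop))))
  exact (isIso_iff_of_reflects_iso i (Over.forget _)).1 h4

end Groth.Agent.S5378
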