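import Groth.Statements.S5529
import Groth.Agent.RedSub.K194.RedSym
import Groth.Agent.S4125

set_option autoImplicit false
open CategoryTheory MonoidalCategory CartesianMonoidalCategory MonObj GrpObj AlgebraicGeometry
universe u
open RedSub

namespace Groth.Agent.S5529

open CategoryTheory.Limits Groth.Agent.Sga3B Groth.Agent.Sga3B.SplitBc264

/-- a subgroup immersed in an affine group has affine fibres -/
theorem isAffine_fibre {S : Scheme.{u}} {G H : Over S} [GrpObj G] [GrpObj H] [IsAffineHom G.hom]
    (h : H ⟶ G) [IsMonHom h] [IsImmersion h.left] {K : Type u} [Field K] (x : Spec (CommRingCat.of K) ⟶ S) :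
    IsAffine (pullback H.hom x) := by
  have hsub := Groth.Agent.RedSub.H641.TypeRBc.isSubgrp_bc x (i := h) ⟨inferInstance, inferInstance⟩
  have := hsub.1
  have := hsub.2
  have h1 : IsClosedImmersion ((Over.pullback x).map h).left :=
    Groth.Agent.S0351.result K (Red.bc x H) (Red.bc x G) ((Over.pullback x).map h)
  have h2 : IsAffineHom (Red.bc x G).hom := inferInstanceAs (IsAffineHom (pullback.snd G.hom x))
  have h3 : IsAffine (Red.bc x G).left := isAffine_of_isAffineHom (Red.bc x G).hom
  exact isAffine_of_isAffineHom ((Over.pullback x).map h).left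

/-- (i) ⟺ (ii): Let S be connected, G a split reductive S-group (splitting D), H a subgroup of type (R)
containing the torus T, with root set R'. Then the geometric fibres of H are reductive if and only
if R' is symmetric (R' = -R'); and when R' is symmetric H is a reductive S-group. -/
theorem result {S : Scheme.{u}} [ConnectedSpace S] {G H : Over S} [GrpObj G] [GrpObj H]
    (D : Red.SplitRed G) (h : H ⟶ G) (hH : RedSub.IsTypeR h) (t : D.T ⟶ H) (ht : t ≫ h = D.i) (R' : Set D.idx)
    (hR' : ∀ a : D.idx, (∃ v : Red.Ga S ⟶ H, v ≫ h = D.u a) ↔ a ∈ R') :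
    ((∀ s : S, Red.IsReductiveOver (AlgebraicClosure (S.residueField s)) (Red.geomFibre s H)) ↔
        ∀ a ∈ R', D.P.reflectionPerm a a ∈ R') ∧
      ((∀ a ∈ R', D.P.reflectionPerm a a ∈ R') → Red.IsReductive H) := by
  have hne : Nonempty S := inferInstance
  have hm := hH.1.1
  have himm := hH.1.2
  have hsm := hH.2.1
  have hqc := hH.2.2.1
  have fib : (∀ a ∈ R', D.P.reflectionPerm a a ∈ R') →
      ∀ s : S, Red.IsReductiveOver (AlgebraicClosure (S.residueField s)) (Red.geomFibre s H) := by
    intro hs s
    refine K194.RedSym.isReductiveOver_of_symm (splitBc (Red.geomPt s) D) ((Over.pullback (Red.geomPt s)).map h)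
      (K194.Main1.isTypeR_fibre D h hH t ht (Red.geomPt s)) ((Over.pullback (Red.geomPt s)).map t)
      (K194.Main1.bc_torus D h t ht (Red.geomPt s)) fun a ha => ?_
    have h1 := (hR' a).1 ((K194.Main1.roots_fibre D h hH t ht (Red.geomPt s) a).1 ha)
    exact (K194.Main1.roots_fibre D h hH t ht (Red.geomPt s) _).2 ((hR' _).2 (hs a h1))
  refine ⟨⟨fun hr a ha => ?_, fib⟩, fun hs => ?_⟩
  · obtain ⟨s⟩ := hne
    have hT := K194.Main1.isTypeR_fibre D h hH t ht (Red.geomPt s)
    have := hT.1.1
    have := hT.1.2
    have hcl : IsClosedImmersion ((Over.pullback (Red.geomPt s)).map h).left :=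
      Groth.Agent.S0351.result _ _ _ ((Over.pullback (Red.geomPt s)).map h)
    have h1 := (K194.Main1.roots_fibre D h hH t ht (Red.geomPt s) a).2 ((hR' a).2 ha)
    have h2 := K194.SymRed.symm_of_reductive (splitBc (Red.geomPt s) D) ((Over.pullback (Red.geomPt s)).map h)
      ((Over.pullback (Red.geomPt s)).map t) (K194.Main1.bc_torus D h t ht (Red.geomPt s)) (hr s) a h1
    exact (hR' _).1 ((K194.Main1.roots_fibre D h hH t ht (Red.geomPt s) _).1 h2)
  · refine ⟨?_, hsm, fib hs⟩
    have hGa : IsAffineHom G.hom := D.reductive.1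
    have hqs : QuasiSeparated H.hom := by
      rw [← Over.w h]
      infer_instance
    have key := fun s => Groth.Agent.S4125.result S H (fun s => isAffine_fibre h (S.fromSpecResidueField s))
      hH.2.2.2.1 s (fib hs s)
    choose U hU hred using key
    have hcov : TopologicalSpace.IsOpenCover U := by
      rw [TopologicalSpace.IsOpenCover, eq_top_iff]
      intro s _
      exact TopologicalSpace.Opens.mem_iSup.2 ⟨s, hU s⟩
    refine (IsZariskiLocalAtTarget.iff_of_openCover (P := @IsAffineHom) (S.openCoverOfIsOpenCover U hcov)).2 ?_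
    intro s
    exact (hred s).1

end Groth.Agent.S5529
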