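import Groth.Statements.S6283
import Mathlib.LinearAlgebra.TensorProduct.Pi

set_option autoImplicit false
universe u
open scoped TensorProduct
open CAlg

namespace Groth.Agent.S6283

theorem key {R S : Type u} [CommRing R] [CommRing S] [Algebra R S] [Module.Flat R S] {N : Type u} [AddCommGroup N] [Module R N] (n : N) (s : S) : s ⊗ₜ[R] n = 0 ↔ s ∈ ((Submodule.span R {n}).annihilator).map (algebraMap R S) := by
  let I := (Submodule.span R {n}).annihilator
  constructor
  · intro h
    have hex : Function.Exact I.subtype (LinearMap.toSpanSingleton R N n) := by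
      intro r
      rw [LinearMap.toSpanSingleton_apply]
      constructor
      · intro hr
        exact ⟨⟨r, (Submodule.mem_annihilator_span_singleton n r).2 hr⟩, rfl⟩
      · rintro ⟨⟨r, hr⟩, rfl⟩
        exact (Submodule.mem_annihilator_span_singleton n r).1 hr
    have hex' := Module.Flat.lTensor_exact S hex
    have h0 : (LinearMap.toSpanSingleton R N n).lTensor S (s ⊗ₜ[R] (1 : R)) = 0 := by
      rw [LinearMap.lTensor_tmul, LinearMap.toSpanSingleton_apply, one_smul, h]
    obtain ⟨z, hz⟩ := (hex' _).1 h0
    have hz' : TensorProduct.rid R S (I.subtype.lTensor S z) = s := by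
      rw [hz, TensorProduct.rid_tmul, one_smul]
    rw [← hz']
    clear hz hz' h0 h
    induction z with
    | zero => rw [map_zero, map_zero]; exact Ideal.zero_mem _
    | add x y hx hy => rw [map_add, map_add]; exact Ideal.add_mem _ hx hy
    | tmul x y =>
      rw [LinearMap.lTensor_tmul, TensorProduct.rid_tmul, Algebra.smul_def]
      exact Ideal.mul_mem_right _ _ (Ideal.mem_map_of_mem _ y.2)
  · intro h
    have : I.map (algebraMap R S) ≤ LinearMap.ker (LinearMap.toSpanSingleton S (S ⊗[R] N) ((1 : S) ⊗ₜ n)) := by
      rw [Ideal.map_le_iff_le_comap]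
      intro r hr
      rw [Ideal.mem_comap, LinearMap.mem_ker, LinearMap.toSpanSingleton_apply, algebraMap_smul, ← TensorProduct.tmul_smul,
        (Submodule.mem_annihilator_span_singleton n r).1 hr, TensorProduct.tmul_zero]
    have h1 := this h
    rw [LinearMap.mem_ker, LinearMap.toSpanSingleton_apply, TensorProduct.smul_tmul', smul_eq_mul, mul_one] at h1
    exact h1

/-- Let R → S be a flat ring map, M an R-module and m ∈ M. Then Ann_R(m)S = Ann_S(1 ⊗ m), the
annihilator in S of the element 1 ⊗ m of S ⊗_R M. If moreover M is a finite R-module then Ann_R(M)S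
= Ann_S(S ⊗_R M). -/
theorem result {R S : Type u} [CommRing R] [CommRing S] [Algebra R S] [Module.Flat R S] (M : Type u) [AddCommGroup M] [Module R M] : (∀ m : M, ((Submodule.span R {m}).annihilator).map (algebraMap R S) = (Submodule.span S {(1 : S) ⊗ₜ[R] m}).annihilator) ∧ (Module.Finite R M → (Module.annihilator R M).map (algebraMap R S) = Module.annihilator S (S ⊗[R] M)) := by
  constructor
  · intro m
    ext s
    rw [Submodule.mem_annihilator_span_singleton, TensorProduct.smul_tmul', smul_eq_mul, mul_one, key]
  · intro hM
    obtain ⟨n, m, hm⟩ := Module.Finite.exists_fin (R := R) (M := M)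
    have h1 : Module.annihilator R M = (Submodule.span R {m}).annihilator := by
      ext r
      rw [Submodule.mem_annihilator_span_singleton, Module.mem_annihilator]
      constructor
      · intro h; ext i; exact h (m i)
      · intro h x
        have hx : x ∈ Submodule.span R (Set.range m) := by rw [hm]; trivial
        obtain ⟨c, rfl⟩ := (Submodule.mem_span_range_iff_exists_fun R).1 hx
        rw [Finset.smul_sum]
        refine Finset.sum_eq_zero fun i _ => ?_
        rw [smul_comm, show r • m i = 0 from congrFun h i, smul_zero]
    ext s
    rw [h1, ← key, Module.mem_annihilator]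
    constructor
    · intro h x
      have hi : ∀ i, s ⊗ₜ[R] m i = 0 := by
        intro i
        have := congrArg ((LinearMap.proj (R := R) i : (Fin n → M) →ₗ[R] M).lTensor S) h
        rwa [LinearMap.lTensor_tmul, map_zero] at this
      induction x with
      | zero => exact smul_zero _
      | add x y hx hy => rw [smul_add, hx, hy, add_zero]
      | tmul t x =>
        have hx : x ∈ Submodule.span R (Set.range m) := by rw [hm]; trivial
        obtain ⟨c, rfl⟩ := (Submodule.mem_span_range_iff_exists_fun R).1 hx
        rw [TensorProduct.smul_tmul', TensorProduct.tmul_sum]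
        refine Finset.sum_eq_zero fun i _ => ?_
        rw [TensorProduct.tmul_smul]
        have : (s • t) ⊗ₜ[R] m i = t • (s ⊗ₜ[R] m i) := by
          rw [TensorProduct.smul_tmul', smul_eq_mul, smul_eq_mul, mul_comm]
        rw [this, hi, smul_zero, smul_zero]
    · intro h
      apply (TensorProduct.piRight R R S (fun _ : Fin n => M)).injective
      rw [map_zero]
      ext i
      rw [TensorProduct.piRight_apply, TensorProduct.piRightHom_tmul]
      have := h ((1 : S) ⊗ₜ m i)
      rwa [TensorProduct.smul_tmul', smul_eq_mul, mul_one] at this

end Groth.Agent.S6283
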