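import Groth.Statements.S17216
import Groth.Agent.EtAcyc.K548.EssClaim
import Groth.Agent.EtAcyc.K168.Induct

set_option autoImplicit false
open CategoryTheory CategoryTheory.Limits AlgebraicGeometry
universe u
open Pi1

namespace Groth.Agent.S17216

/-- Let S be a Noetherian scheme and a : X → S a morphism of finite type. There is a dense open U of S
with the following property. Let c : Z → S have image in U, let G be a finite group whose order is
invertible in the residue fields of Z, let g : Y → Z be quasi-compact and quasi-separated, let p :
Z' → Z, q : Z' → X exhibit Z' as Z ×_S X, let z' be a point of Z' and R, R' strict henselizations of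
the local rings of Z at p z' and of Z' at z' with a compatible local homomorphism R → R'; write Y_R
= Y ×_Z Spec R and Y_{R'} = Y_R ×_{Spec R} Spec R' (their sets of isomorphism classes of principal
G-covers are the stalks of R^1 g_* G at the geometric point of Z given by R and of R^1 g'_* G at the
geometric point of Z' given by R', g' : Y ×_Z Z' → Z' the base change). Then every principal G-cover
of Y_{R'} is G-equivariantly isomorphic to the pullback of a principal G-cover of Y_R. (Stalkwise
surjectivity, on isomorphism classes, in the statement that the base change 1-morphism p^* g_*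
Tors(G) → g'_* p'^* Tors(G) for the stack of G-torsors is an equivalence.) -/
theorem result {X S : Scheme.{u}} (a : X ⟶ S) [IsNoetherian S]
    [LocallyOfFiniteType a] [QuasiCompact a] :
    ∃ U : S.Opens, Dense (U : Set S) ∧
      ∀ ⦃Y Z Z' : Scheme.{u}⦄ (c : Z ⟶ S), Set.range c.base ⊆ (U : Set S) →
      ∀ (G : Type) [Group G] [Finite G], (∀ z : Z, IsUnit ((Nat.card G : ℕ) : Z.residueField z)) →
      ∀ (g : Y ⟶ Z) [QuasiCompact g] [QuasiSeparated g] (p : Z' ⟶ Z) (q : Z' ⟶ X), IsPullback p q c a →
      ∀ (z' : Z') (R : Type u) [CommRing R] [IsLocalRing R] [Algebra (Z.presheaf.stalk (p.base z')) R]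
        [IsLocalHom (algebraMap (Z.presheaf.stalk (p.base z')) R)]
        [Hensel.IsStrictHenselization (Z.presheaf.stalk (p.base z')) R]
        (R' : Type u) [CommRing R'] [IsLocalRing R'] [Algebra (Z'.presheaf.stalk z') R']
        [IsLocalHom (algebraMap (Z'.presheaf.stalk z') R')] [Hensel.IsStrictHenselization (Z'.presheaf.stalk z') R']
        [Algebra R R'],
        (algebraMap R R').comp (algebraMap (Z.presheaf.stalk (p.base z')) R) =
          (algebraMap (Z'.presheaf.stalk z') R').comp (p.stalkMap z').hom →
      letI σ := Hens2.specOf Z (p.base z') R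
      letI m : Spec (CommRingCat.of R') ⟶ Spec (CommRingCat.of R) := Spec.map (CommRingCat.ofHom (algebraMap R R'))
      letI gR := pullback.snd g σ
      letI kb := pullback.fst gR m
      ∀ (P' : FEt.Cat (pullback gR m)) (ρ' : G →* Aut P'), SGA1t.IsPrincipal G P' ρ' →
        ∃ (P : FEt.Cat (pullback g σ)) (ρ : G →* Aut P), SGA1t.IsPrincipal G P ρ ∧
          ∃ e : (FEt.restrict kb).obj P ≅ P', ∀ x : G, (FEt.restrict kb).map (ρ x).hom ≫ e.hom = e.hom ≫ (ρ' x).hom := by
  exact K548.EssClaim.main K168.Induct.claim a

end Groth.Agent.S17216
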