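import Groth.Statements.S17906
import Groth.Agent.Ega2.LimPic
-- import your own Groth.Agent.* helpers here

set_option autoImplicit false
universe u
open CategoryTheory CategoryTheory.Limits AlgebraicGeometry
open PicRel

namespace Groth.Agent.S17906

open Groth.Agent.Ega2.LimPic

variable {X S S' : Scheme.{u}} (f : X ⟶ S) (g : S' ⟶ S)

/-- `T` over `S'` regarded over `S`. -/
abbrev ob (T : Over S') : Over S := Over.mk (T.hom ≫ g)

abbrev obMap {T T' : Over S'} (h : T' ⟶ T) : ob g T' ⟶ ob g T :=
  Over.homMk h.left (by simp)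

lemma XTmap_fst {T T' : Over S} (g : T' ⟶ T) :
    PicF.XTmap f g ≫ pullback.fst f T.hom = pullback.fst f T'.hom :=
  (pullback.lift_fst _ _ _).trans (Category.comp_id _)

lemma XTmap_snd {T T' : Over S} (g : T' ⟶ T) :
    PicF.XTmap f g ≫ pullback.snd f T.hom = pullback.snd f T'.hom ≫ g.left :=
  pullback.lift_snd _ _ _

noncomputable abbrev eT (T : Over S') : PicF.XT (pullback.snd f g) T ≅ PicF.XT f (ob g T) :=
  pullbackLeftPullbackSndIso f g T.hom

lemma eT_fst (T : Over S') : (eT f g T).hom ≫ pullback.fst f (ob g T).hom =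
    pullback.fst (pullback.snd f g) T.hom ≫ pullback.fst f g :=
  pullbackLeftPullbackSndIso_hom_fst f g T.hom

lemma eT_snd (T : Over S') : (eT f g T).hom ≫ pullback.snd f (ob g T).hom =
    pullback.snd (pullback.snd f g) T.hom :=
  pullbackLeftPullbackSndIso_hom_snd f g T.hom

lemma eT_comp {T T' : Over S'} (h : T' ⟶ T) :
    PicF.XTmap (pullback.snd f g) h ≫ (eT f g T).hom =
      (eT f g T').hom ≫ PicF.XTmap f (obMap g h) := by
  apply pullback.hom_ext
  · rw [Category.assoc, Category.assoc]
    refine (congrArg _ (eT_fst f g T)).trans ?_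
    refine Eq.trans ?_ (congrArg _ (XTmap_fst f (obMap g h))).symm
    rw [eT_fst, ← Category.assoc, XTmap_fst]
  · rw [Category.assoc, Category.assoc]
    refine (congrArg _ (eT_snd f g T)).trans ?_
    refine Eq.trans ?_ (congrArg _ (XTmap_snd f (obMap g h))).symm
    rw [← Category.assoc, eT_snd, XTmap_snd]
    rfl

lemma eT_inv_comp {T T' : Over S'} (h : T' ⟶ T) :
    (eT f g T').inv ≫ PicF.XTmap (pullback.snd f g) h =
      PicF.XTmap f (obMap g h) ≫ (eT f g T).inv := by
  rw [Iso.inv_comp_eq, ← Category.assoc, Iso.eq_comp_inv, eT_comp]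

lemma pull_eT {T T' : Over S'} (h : T' ⟶ T) (c : PicF.Cl (PicF.XT (pullback.snd f g) T)) :
    PicF.pullCl (eT f g T').inv (PicF.pullCl (PicF.XTmap (pullback.snd f g) h) c) =
      PicF.pullCl (PicF.XTmap f (obMap g h)) (PicF.pullCl (eT f g T).inv c) := by
  rw [← pullCl_comp, ← pullCl_comp, eT_inv_comp]

lemma pull_inv_hom {Y Z : Scheme.{u}} (e : Y ≅ Z) (c : PicF.Cl Z) :
    PicF.pullCl e.inv (PicF.pullCl e.hom c) = c := by
  rw [← pullCl_comp, e.inv_hom_id, pullCl_id]

lemma pull_hom_inv {Y Z : Scheme.{u}} (e : Y ≅ Z) (c : PicF.Cl Y) :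
    PicF.pullCl e.hom (PicF.pullCl e.inv c) = c := by
  rw [← pullCl_comp, e.hom_inv_id, pullCl_id]

lemma XTmap_comp {T T' T'' : Over S} (h : T'' ⟶ T') (g : T' ⟶ T) :
    PicF.XTmap f (h ≫ g) = PicF.XTmap f h ≫ PicF.XTmap f g := by
  apply pullback.hom_ext
  · rw [Category.assoc, XTmap_fst, XTmap_fst, XTmap_fst]
  · rw [Category.assoc, XTmap_snd, XTmap_snd, ← Category.assoc, XTmap_snd, Category.assoc]
    rfl

/-- Let f : X → S be a morphism of schemes, g : S' → S a morphism and X' = X ×_S S'. If the relative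
Picard functor of X over S, sheafified and described through a representing S-scheme P with maps φ_T
from classes of modules on X ×_S T to S-morphisms T → P, is represented by P, then the relative
Picard functor of X' over S' is represented by P ×_S S': a class c on (X ×_S S') ×_{S'} T is sent,
after transport along the canonical isomorphism of this scheme with X ×_S T, to the S'-morphism T →
P ×_S S' whose components are φ(c) and the structure morphism of T. (The published statement is for
the fppf sheafification, asserts the isomorphism of functors Pic_{X/S} ×_S S' ≅ Pic_{X'/S'} in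
general, and adds the compatibility of universal bundles and rigidifications; stated here is the
representability consequence for the étale sheafification, to which the same argument applies.) -/
theorem result {X S S' : Scheme.{u}} (f : X ⟶ S) (g : S' ⟶ S)
    (P : Over S) (φ : ∀ T : Over S, PicF.Cl (PicF.XT f T) → (T ⟶ P)) (hP : PicRel.IsRelPic f P φ) :
    PicRel.IsRelPic (pullback.snd f g) (Over.mk (pullback.snd P.hom g))
      (fun T c => Over.homMk
        (pullback.lift (φ (Over.mk (T.hom ≫ g)) (PicF.pullCl (pullbackLeftPullbackSndIso f g T.hom).inv c)).left T.hom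
          (Over.w (φ (Over.mk (T.hom ≫ g)) (PicF.pullCl (pullbackLeftPullbackSndIso f g T.hom).inv c))))
        (pullback.lift_snd _ _ _)) := by
  refine ⟨?_, ?_, ?_⟩
  · intro T T' h c hc
    apply Over.OverMorphism.ext
    have hn := hP.natural (ob g T) (ob g T') (obMap g h) (PicF.pullCl (eT f g T).inv c)
      (isInvertibleCl_pullCl _ hc)
    rw [← pull_eT] at hn
    have h1 := congrArg (fun k => k.left) hn
    apply pullback.hom_ext
    · refine (pullback.lift_fst _ _ _).trans ?_
      refine Eq.trans ?_ (Category.assoc _ _ _).symm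
      refine Eq.trans ?_ (congrArg _ (pullback.lift_fst _ _ _)).symm
      exact h1
    · refine (pullback.lift_snd _ _ _).trans ?_
      refine Eq.trans ?_ (Category.assoc _ _ _).symm
      refine Eq.trans ?_ (congrArg _ (pullback.lift_snd _ _ _)).symm
      exact (Over.w h).symm
  · intro T a
    let b : ob g T ⟶ P := Over.homMk (a.left ≫ pullback.fst P.hom g) (by
      have h1 := Over.w a
      have h2 : a.left ≫ pullback.snd P.hom g = T.hom := h1
      rw [Category.assoc, pullback.condition, ← Category.assoc, h2]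
      rfl)
    obtain ⟨ι, U, hU, hc⟩ := hP.locallySurjective (ob g T) b
    refine ⟨ι, U, hU, fun i => ?_⟩
    obtain ⟨c, hc1, hc2⟩ := hc i
    let V : T.left.Etale := U i
    let κ : ob g (ovr T V) ⟶ ovr (ob g T) V := Over.homMk (𝟙 _) (by
      show 𝟙 _ ≫ V.hom ≫ T.hom ≫ g = (V.hom ≫ T.hom) ≫ g
      rw [Category.id_comp, Category.assoc])
    refine ⟨PicF.pullCl (eT f g (ovr T V)).hom (PicF.pullCl (PicF.XTmap f κ) c),
      isInvertibleCl_pullCl _ (isInvertibleCl_pullCl _ hc1), ?_⟩
    have hn := hP.natural _ _ κ c hc1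
    have hc2' : φ (ovr (ob g T) V) c = ovrHom (ob g T) V ≫ b := hc2
    rw [hc2'] at hn
    have h1 := congrArg (fun k => k.left) hn
    have h1' : (φ (ob g (ovr T V)) (PicF.pullCl (PicF.XTmap f κ) c)).left =
        V.hom ≫ a.left ≫ pullback.fst P.hom g := by
      refine h1.trans ?_
      show 𝟙 _ ≫ V.hom ≫ a.left ≫ pullback.fst P.hom g = _
      rw [Category.id_comp]
    apply Over.OverMorphism.ext
    apply pullback.hom_ext
    · refine (pullback.lift_fst _ _ _).trans ?_
      refine Eq.trans ?_ (Category.assoc _ _ _).symm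
      refine Eq.trans ?_ h1'
      exact congrArg (fun z => (φ (ob g (ovr T V)) z).left)
        (pull_inv_hom (eT f g (ovr T V)) (PicF.pullCl (PicF.XTmap f κ) c))
    · refine (pullback.lift_snd _ _ _).trans ?_
      refine Eq.trans ?_ (Category.assoc _ _ _).symm
      exact (congrArg (fun z => V.hom ≫ z) (Over.w a)).symm
  · intro T c c' hc hc' heq
    have h1 : φ (ob g T) (PicF.pullCl (eT f g T).inv c) =
        φ (ob g T) (PicF.pullCl (eT f g T).inv c') := by
      apply Over.OverMorphism.ext
      have h2 := congrArg (fun k => k.left ≫ pullback.fst P.hom g) heq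
      exact ((pullback.lift_fst _ _ _).symm.trans h2).trans (pullback.lift_fst _ _ _)
    obtain ⟨ι, U, hU, hu⟩ := hP.locallyInjective (ob g T) _ _ (isInvertibleCl_pullCl _ hc)
      (isInvertibleCl_pullCl _ hc') h1
    refine ⟨ι, U, hU, fun i => ?_⟩
    let V : T.left.Etale := U i
    let κ : ob g (ovr T V) ⟶ ovr (ob g T) V := Over.homMk (𝟙 _) (by
      show 𝟙 _ ≫ V.hom ≫ T.hom ≫ g = (V.hom ≫ T.hom) ≫ g
      rw [Category.id_comp, Category.assoc])
    have hκ : obMap g (ovrHom T V) = κ ≫ ovrHom (ob g T) V := by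
      apply Over.OverMorphism.ext
      show V.hom = 𝟙 _ ≫ V.hom
      rw [Category.id_comp]
    have key : ∀ d : PicF.Cl (PicF.XT (pullback.snd f g) T),
        PicF.pullCl (PicF.XTmap (pullback.snd f g) (ovrHom T V)) d =
          PicF.pullCl (eT f g (ovr T V)).hom (PicF.pullCl (PicF.XTmap f κ)
            (PicF.pullCl (PicF.XTmap f (ovrHom (ob g T) V)) (PicF.pullCl (eT f g T).inv d))) := by
      intro d
      rw [← pull_hom_inv (eT f g (ovr T V)) (PicF.pullCl (PicF.XTmap (pullback.snd f g) _) d),
        pull_eT, hκ, XTmap_comp, pullCl_comp (PicF.XTmap f κ)]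
    rw [key c, key c']
    exact congrArg (fun z => PicF.pullCl (eT f g (ovr T V)).hom (PicF.pullCl (PicF.XTmap f κ) z))
      (hu i)

end Groth.Agent.S17906
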