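import Groth.Statements.S7520
import Groth.Agent.Localalg.GrpSchComp2
import Groth.Agent.S3023

set_option autoImplicit false
universe u
open CategoryTheory MonoidalCategory CartesianMonoidalCategory MonObj GrpObj AlgebraicGeometry
open GrpSch

namespace Groth.Agent.S7520

/-- Let G be a group scheme over a field k. Then there is a closed subgroup scheme G^0 of G, that is a
group scheme G^0 over k with a homomorphism G^0 -> G which is a closed immersion, such that (1) G^0
-> G is moreover flat, (2) its image is the connected component of the identity point, (3) G^0 is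
geometrically irreducible over k, and (4) G^0 is quasi-compact. -/
theorem result (K : Type u) [Field K] (G : Over (Spec (CommRingCat.of K))) [GrpObj G] : ∃ (G₀ : Over (Spec (CommRingCat.of K))) (_ : GrpObj G₀) (incl : G₀ ⟶ G) (_ : IsMonHom incl), IsClosedImmersion incl.left ∧ Flat incl.left ∧ Set.range ⇑incl.left = connectedComponent (η[G].left (IsLocalRing.closedPoint K)) ∧ GeometricallyIrreducible G₀.hom ∧ CompactSpace ↥G₀.left := by
  obtain ⟨G0, hG0, i, hi, hcl, hfl, hr⟩ := Groth.Agent.S3023.result K G
  have hr' : Set.range ⇑i.left = connectedComponent (η[G].left (IsLocalRing.closedPoint K)) :=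
    hr (IsLocalRing.closedPoint K)
  have hN : Set.range ⇑i.left = Groth.Agent.Localalg.GrpSchComp2.N G := by
    rw [hr']
    exact Groth.Agent.Localalg.GrpSchComp2.connectedComponent_one
  refine ⟨G0, hG0, i, hi, hcl, hfl, hr', ?_, ?_⟩
  · rw [← Over.w i]
    exact Groth.Agent.Localalg.GrpSchComp2.geometricallyIrreducible_N G i.left hN
  · have h := Groth.Agent.Localalg.GrpSchComp2.isCompact_N G
    rw [← hN, ← Set.image_univ] at h
    exact ⟨i.left.isEmbedding.isInducing.isCompact_iff.mpr h⟩

end Groth.Agent.S7520
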