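import Groth.Statements.S11136
import Mathlib.RingTheory.Invariant.Basic
import Mathlib.RingTheory.Spectrum.Prime.Noetherian
import Mathlib.RingTheory.Spectrum.Prime.Topology
import Mathlib.Topology.Connected.LocallyConnected
import Mathlib.Tactic

set_option autoImplicit false
universe u v
open InvTh

namespace Groth.Agent.S11136

/-- In a Noetherian space connected components are open. -/
theorem isOpen_cc {α : Type*} [TopologicalSpace α] [TopologicalSpace.NoetherianSpace α]
    (x : α) : IsOpen (connectedComponent x) := by
  have h := TopologicalSpace.NoetherianSpace.finite_irreducibleComponents (α := α)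
  have : (connectedComponent x)ᶜ =
      ⋃ Z ∈ {Z ∈ irreducibleComponents α | Z ⊆ (connectedComponent x)ᶜ}, Z := by
    apply Set.Subset.antisymm
    · intro y hy
      simp only [Set.mem_iUnion]
      refine ⟨irreducibleComponent y, ⟨irreducibleComponent_mem_irreducibleComponents y, ?_⟩,
        mem_irreducibleComponent⟩
      intro z hz hzx
      apply hy
      have h1 : connectedComponent x = connectedComponent z := connectedComponent_eq hzx
      rw [h1]
      exact (isIrreducible_irreducibleComponent.isPreirreducible.isPreconnected).subset_connectedComponent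
        hz mem_irreducibleComponent
    · exact Set.iUnion₂_subset fun Z hZ ↦ hZ.2
  rw [← isClosed_compl_iff, this]
  exact (h.subset (Set.sep_subset _ _)).isClosed_biUnion
    fun Z hZ ↦ isClosed_of_mem_irreducibleComponents Z hZ.1

open scoped Pointwise in
/-- Let a finite group G act on a Noetherian commutative ring R by ring automorphisms, with ring of
invariants A (A → R injective with image the fixed elements). When the prime spectrum of A is
connected, any two connected components of Spec R are exchanged by some element of G: for all points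
x, y of Spec R there is g in G whose induced self-map of Spec R carries the connected component of x
onto the connected component of y. -/
theorem result
    (A : Type u) (R : Type v) [CommRing A] [CommRing R] [Algebra A R] [IsNoetherianRing R]
    (G : Type u) [Group G] [Finite G] [MulSemiringAction G R] [SMulCommClass G A R]
    [Algebra.IsInvariant A R G] [FaithfulSMul A R]
    [ConnectedSpace (PrimeSpectrum A)] (x y : PrimeSpectrum R) :
    ∃ g : G, PrimeSpectrum.comap (MulSemiringAction.toRingHom G R g) '' connectedComponent x =
      connectedComponent y := by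
  let φ : G → PrimeSpectrum R → PrimeSpectrum R :=
    fun g => PrimeSpectrum.comap (MulSemiringAction.toRingHom G R g)
  have hφc : ∀ g, Continuous (φ g) := fun g => PrimeSpectrum.continuous_comap _
  have hφmem : ∀ g (z : PrimeSpectrum R) (r : R), r ∈ (φ g z).asIdeal ↔ g • r ∈ z.asIdeal :=
    fun g z r => Iff.rfl
  have hφφ : ∀ g h z, φ g (φ h z) = φ (h * g) z := by
    intro g h z
    ext r
    rw [hφmem, hφmem, hφmem, mul_smul]
  have hφ1 : ∀ z, φ 1 z = z := by
    intro z
    ext r
    rw [hφmem, one_smul]
  have himg : ∀ g z, φ g '' connectedComponent z = connectedComponent (φ g z) := by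
    intro g z
    apply Set.Subset.antisymm
    · exact (hφc g).image_connectedComponent_subset z
    · intro w hw
      refine ⟨φ g⁻¹ w, ?_, ?_⟩
      · have := (hφc g⁻¹).image_connectedComponent_subset (φ g z) ⟨w, hw, rfl⟩
        rwa [hφφ, mul_inv_cancel, hφ1] at this
      · rw [hφφ, inv_mul_cancel, hφ1]
  let U : Set (PrimeSpectrum R) := ⋃ g, connectedComponent (φ g x)
  have hUo : IsOpen U := isOpen_iUnion fun g => isOpen_cc _
  have hUc : IsClosed U := isClosed_iUnion_of_finite fun g => isClosed_connectedComponent
  have hUst : ∀ g z, z ∈ U → φ g z ∈ U := by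
    intro g z hz
    obtain ⟨h, hh⟩ := Set.mem_iUnion.1 hz
    refine Set.mem_iUnion.2 ⟨h * g, ?_⟩
    rw [← hφφ, ← himg]
    exact ⟨z, hh, rfl⟩
  have : Algebra.IsIntegral A R := Algebra.IsInvariant.isIntegral A R G
  have hint : (algebraMap A R).IsIntegral := algebraMap_isIntegral_iff.2 this
  let π := PrimeSpectrum.comap (algebraMap A R)
  have hπcl : IsClosedMap π := PrimeSpectrum.isClosedMap_comap_of_isIntegral _ hint
  have hπs : Function.Surjective π :=
    hint.comap_surjective (FaithfulSMul.algebraMap_injective A R)
  have hfib : ∀ z w, π z = π w → ∃ g, w = φ g z := by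
    intro z w h
    obtain ⟨g, hg⟩ := Algebra.IsInvariant.exists_smul_of_under_eq A R G z.asIdeal w.asIdeal
      (congrArg PrimeSpectrum.asIdeal h)
    refine ⟨g⁻¹, ?_⟩
    ext r
    rw [hφmem, hg, Ideal.mem_pointwise_smul_iff_inv_smul_mem]
  have hdisj : π '' U = (π '' Uᶜ)ᶜ := by
    apply Set.Subset.antisymm
    · rintro _ ⟨z, hz, rfl⟩ ⟨w, hw, hwz⟩
      obtain ⟨g, rfl⟩ := hfib z w hwz.symm
      exact hw (hUst g z hz)
    · intro t ht
      obtain ⟨z, rfl⟩ := hπs t
      by_cases hz : z ∈ U
      · exact ⟨z, hz, rfl⟩
      · exact absurd ⟨z, hz, rfl⟩ ht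
  have hclopen : IsClopen (π '' U) := by
    refine ⟨hπcl _ hUc, ?_⟩
    rw [hdisj]
    exact (hπcl _ hUo.isClosed_compl).isOpen_compl
  have huniv : π '' U = Set.univ := by
    refine hclopen.eq_univ ⟨π x, x, Set.mem_iUnion.2 ⟨1, ?_⟩, rfl⟩
    rw [hφ1]
    exact mem_connectedComponent
  have hy : π y ∈ π '' U := by rw [huniv]; trivial
  obtain ⟨z, hz, hzy⟩ := hy
  obtain ⟨g, rfl⟩ := hfib z y hzy
  obtain ⟨h, hh⟩ := Set.mem_iUnion.1 (hUst g z hz)
  refine ⟨h, ?_⟩
  change φ h '' _ = _
  rw [himg]
  exact connectedComponent_eq hh

end Groth.Agent.S11136
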