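import Groth.Statements.S7681
import Groth.Agent.Sga2lef.H102.Final
import Groth.Agent.Sga2.LefClopen
import Groth.Agent.CurvesB.HZero

set_option autoImplicit false
universe u
open CategoryTheory CategoryTheory.Limits AlgebraicGeometry
open Variety

namespace Groth.Agent.S7681

/-- `H⁰(X, O_X) ≃ Γ(X, O_X)`. -/
noncomputable def eO (X : Scheme.{u}) : Coh.HH X (Coh.structureModule X) 0 ≃+ Γ(X, ⊤) :=
  Groth.Agent.CurvesB.HZero.equivO X

/-- `H⁰(X, O_X/I) ≃ Γ(V(I), O)`. -/
noncomputable def eQ {X : Scheme.{u}} (I : X.IdealSheafData) : Coh.HH X (ClSub.quotMod I) 0 ≃+ Γ(I.subscheme, ⊤) :=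
  Groth.Agent.CurvesB.HZero.equivAdd (ClSub.quotMod I)

theorem eQ_toSub {X : Scheme.{u}} (I : X.IdealSheafData) (x : Coh.HH X (Coh.structureModule X) 0) :
    eQ I (Groth.Agent.VarietyA.EulerLES.mapΓ (ClSub.toSubscheme I) 0 x) = I.subschemeι.appTop (eO X x) :=
  (Groth.Agent.CurvesB.HZero.equivAdd_map (ClSub.toSubscheme I) x)

theorem eQ_quot {X : Scheme.{u}} {I J : X.IdealSheafData} (h : I ≤ J) (y : Coh.HH X (ClSub.quotMod I) 0) :
    eQ J (Groth.Agent.VarietyA.EulerLES.mapΓ (Lef.quotMap h) 0 y) =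
      (Scheme.IdealSheafData.inclusion h).appTop (eQ I y) :=
  (Groth.Agent.CurvesB.HZero.equivAdd_map (Lef.quotMap h) y).trans
    (Groth.Agent.Sga2.LefBasic.quotMap_app_top h (eQ I y))

/-- Let X be proper over a field k, L ample invertible and s ∈ Γ(X, L) a regular section; assume
depth(O_{X,x}) ≥ 2 for every closed point x and X connected. Then the zero scheme Z(s) is connected. -/
theorem result (k : Type u) [Field k] (X : Scheme.{u}) [X.Over (Spec (CommRingCat.of k))] [IsProper (X ↘ (Spec (CommRingCat.of k)))]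
    [ConnectedSpace X] (L : X.Modules) (hL : CohB1.IsAmple L)
    (s : Coh.structureModule X ⟶ L) (hs : Mono s)
    (hdepth : ∀ x : X, IsClosed ({x} : Set X) → 2 ≤ LocCoh.depth (X.presheaf.stalk x) (X.presheaf.stalk x)) :
    ConnectedSpace ↥(PicF2.zeroScheme L s).subscheme := by
  set 𝓘 := PicF2.zeroScheme L s with h𝓘
  have hXn : IsLocallyNoetherian X := LocallyOfFiniteType.isLocallyNoetherian (X ↘ (Spec (CommRingCat.of k)))
  have hpz := Groth.Agent.Sga2lef.H102.Final.prozero k X (X ↘ (Spec (CommRingCat.of k))) L hL s 1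
    (fun p _ hpc => by
      have h := hdepth p hpc
      refine lt_of_lt_of_le ?_ h
      exact_mod_cast Nat.one_lt_two)
  obtain ⟨hinj, hsurj⟩ := Groth.Agent.Sga2lef.H102.ProZero.bijective_of_prozero 𝓘 1
    (fun i hi l => hpz i hi l) 0 Nat.zero_lt_one
  have hG : Groth.Agent.Sga2.LefBasic.GammaComplete 𝓘 := by
    constructor
    · intro a b hab
      have h1 : (eO X).symm (a - b) = 0 := by
        apply hinj
        intro m
        apply (eQ (𝓘 ^ (m + 1))).injective
        rw [map_zero, eQ_toSub, AddEquiv.apply_symm_apply, map_sub, hab m, sub_self]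
      have h2 := congrArg (eO X) h1
      rw [AddEquiv.apply_symm_apply, map_zero] at h2
      exact sub_eq_zero.mp h2
    · intro y hy
      obtain ⟨x, hx⟩ := hsurj (fun m => (eQ (𝓘 ^ (m + 1))).symm (y m))
        (fun m => by
          apply (eQ (𝓘 ^ (m + 1))).injective
          rw [eQ_quot, AddEquiv.apply_symm_apply, AddEquiv.apply_symm_apply]
          exact hy m)
      refine ⟨eO X x, fun m => ?_⟩
      rw [← eQ_toSub, hx m, AddEquiv.apply_symm_apply]
  have hXc := (connectedSpace_iff_clopen (α := X)).mp inferInstance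
  have hsc : ConnectedSpace (𝓘.support : Set X) := by
    rw [connectedSpace_iff_clopen]
    obtain ⟨⟨x⟩, hUc⟩ := hXc
    constructor
    · by_contra hne
      have := Groth.Agent.Sga2.LefClopen.clopen_eq_empty_of_gammaComplete _ hG Set.univ isClopen_univ
        (fun x _ hx' => hne ⟨⟨x, hx'⟩⟩)
      exact (Set.eq_empty_iff_forall_notMem.mp this) x trivial
    · intro t ht
      obtain ⟨T, hT, hTs⟩ := Groth.Agent.Sga2.LefClopen.exists_clopen_of_gammaComplete _ hG _ ht
      rcases hUc T hT with h0 | h1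
      · left
        rw [← hTs, h0]
        rfl
      · right
        rw [← hTs, h1]
        rfl
  have hemb := 𝓘.subschemeι.isClosedEmbedding
  let e : 𝓘.subscheme ≃ₜ (𝓘.support : Set X) :=
    hemb.isEmbedding.toHomeomorph.trans (Homeomorph.setCongr 𝓘.range_subschemeι)
  exact e.symm.surjective.connectedSpace e.symm.continuous

end Groth.Agent.S7681
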