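import Groth.Statements.S12734
import Groth.Agent.ArtFun.K725.Prorep

set_option autoImplicit false
universe u v
open CategoryTheory
open ArtFun

namespace Groth.Agent.S12734

/-- A functor F on Artinian local Λ-algebras with residue field k is prorepresentable if and only if (a)
F(k) is a point and F satisfies (RS): F(A₁ ×_A A₂) → F(A₁) ×_{F(A)} F(A₂) is bijective whenever A₂ →
A is surjective; (b) its tangent space is finite-dimensional; and (c) the map from morphisms k →
k[ε] of the category (the Λ-derivations of k) to the tangent space, σ ↦ F(σ)(x₀), is injective.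
Condition (c) is empty when k is separable over the image of Λ in k. -/
theorem result {Λ : Type u} {k : Type u} [CommRing Λ] [Field k] [Algebra Λ k]
    [IsNoetherianRing Λ] [Module.Finite Λ k]
    (F : ArtFun.Art Λ k ⥤ Type v) [ArtFun.TangentStr F] :
    ArtFun.IsProrepresentable F ↔
      ((ArtFun.H0 F ∧ (∀ ⦃B A A' A'' : ArtFun.Art Λ k⦄ (p' : B ⟶ A') (p'' : B ⟶ A'') (f' : A' ⟶ A) (f'' : A'' ⟶ A)
        (h : ArtFun.Art.IsFibreProd p' p'' f' f''), Function.Surjective f'' → Function.Bijective (ArtFun.cmp F h))) ∧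
        ArtFun.Hfin F ∧
        ∀ x₀ : F.obj (ArtFun.Art.base Λ k),
          Function.Injective (fun σ : ArtFun.Art.base Λ k ⟶ ArtFun.Art.dual Λ k => F.map σ x₀)) := by
  constructor
  · rintro ⟨V⟩
    refine ⟨⟨K725.Prorep.h0_of_isUniversal V.family V.universal, fun B A A' A'' p' p'' f' f'' h _ =>
      K725.Prorep.hasRS_of_isUniversal V.family V.universal p' p'' f' f'' h⟩,
      K724.HullConds.hfin_of_surjective V.ring V.family (V.universal _).2, fun x₀ =>
      K725.Prorep.injective_of_isUniversal V.ring.res_surjective V.family V.universal x₀⟩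
  · rintro ⟨⟨h0, hRS⟩, hfin, hinj⟩
    obtain ⟨R, ξ, hv, ht⟩ := K725.HullGen.exists_versal h0
      (fun B A A' A'' p' p'' f' f'' h hs => (hRS p' p'' f' f'' h hs).2) (K725.TangentLift.heps_of_rs hRS) hfin
    refine ⟨⟨R, ξ, fun A => ⟨K725.Prorep.injective_app_of_tangent hRS ξ (ht hinj).1 A,
      K724.Smooth.surjective_app_of_isVersal h0 ξ hv A⟩⟩⟩

end Groth.Agent.S12734
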