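import Groth.Statements.S4533
import Groth.Agent.Ega41.MvPS
import Groth.Agent.Ega41.PowEval

set_option autoImplicit false
universe u
open EGA41

namespace Groth.Agent.S4533

/-- Let A carry the 𝔞-adic topology and let B = A[[T_1, …, T_n]] carry the product topology, i.e. the
adic topology of the ideal 𝔞B + (T_1, …, T_n) (the kernel of the constant-coefficient map added to
the extension of 𝔞). Then B is a formally smooth A-algebra for these topologies. (The published
statement allows any linearly topologized base ring and any set of indeterminates with the product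
topology; this row takes an adic base and finitely many indeterminates, where the product topology
is adic.) -/
theorem result (A : Type u) [CommRing A] (𝔞 : Ideal A) (n : ℕ) :
    EGA41.IsFormallySmoothAdic A 𝔞 (MvPowerSeries (Fin n) A)
      (𝔞.map (MvPowerSeries.C : A →+* MvPowerSeries (Fin n) A) ⊔
        RingHom.ker (MvPowerSeries.constantCoeff : MvPowerSeries (Fin n) A →+* A)) := by
  intro C _ _ J hJ hk u hu
  obtain ⟨l, hl⟩ := hu
  obtain ⟨N, hN⟩ := hJ
  set 𝔟 : Ideal (MvPowerSeries (Fin n) A) := 𝔞.map (MvPowerSeries.C : A →+* MvPowerSeries (Fin n) A) ⊔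
        RingHom.ker (MvPowerSeries.constantCoeff : MvPowerSeries (Fin n) A →+* A) with h𝔟
  have hvar : Groth.Agent.Ega41.MvPS.varIdeal (Fin n) A ≤ 𝔟 := by
    rw [Groth.Agent.Ega41.MvPS.varIdeal_eq_ker]
    exact le_sup_right
  choose c hc using fun i : Fin n => Ideal.Quotient.mk_surjective (I := J) (u (MvPowerSeries.X i))
  let I : Ideal C := Ideal.span (Set.range c)
  have hcI : ∀ i, c i ∈ I := fun i => Ideal.subset_span ⟨i, rfl⟩
  -- the map `C → C / J` sends `I` to `u (X)`
  have hI1 : I.map (Ideal.Quotient.mk J) ≤ (Groth.Agent.Ega41.MvPS.varIdeal (Fin n) A).map u.toRingHom := by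
    rw [Ideal.map_span, Ideal.span_le]
    rintro _ ⟨_, ⟨i, rfl⟩, rfl⟩
    rw [hc]
    exact Ideal.mem_map_of_mem u.toRingHom (Ideal.subset_span ⟨i, rfl⟩)
  have hI2 : I ^ l ≤ J := by
    intro x hx
    rw [← Ideal.Quotient.eq_zero_iff_mem]
    have h1 : Ideal.Quotient.mk J x ∈ ((Groth.Agent.Ega41.MvPS.varIdeal (Fin n) A) ^ l).map u.toRingHom := by
      have h2 : Ideal.Quotient.mk J x ∈ (I.map (Ideal.Quotient.mk J)) ^ l := by
        rw [← Ideal.map_pow]
        exact Ideal.mem_map_of_mem _ hx
      rw [Ideal.map_pow]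
      exact Ideal.pow_right_mono hI1 l h2
    have h3 : ((Groth.Agent.Ega41.MvPS.varIdeal (Fin n) A) ^ l).map u.toRingHom ≤ ⊥ := by
      rw [Ideal.map_le_iff_le_comap]
      intro y hy
      exact hl y (Ideal.pow_right_mono hvar l hy)
    exact h3 h1
  have hI3 : I ^ (l * N) = ⊥ := by
    rw [eq_bot_iff, pow_mul]
    exact (Ideal.pow_right_mono hI2 N).trans hN.le
  let e : (C ⧸ I ^ (l * N)) ≃ₐ[A] C := (Ideal.quotientEquivAlgOfEq A hI3).trans (AlgEquiv.quotientBot A C)
  have he : ∀ x : C, e (Ideal.Quotient.mk _ x) = x := fun x => rfl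
  let v : MvPowerSeries (Fin n) A →ₐ[A] C :=
    e.toAlgHom.comp (Groth.Agent.Ega41.PowEval.evalLevel I c hcI (l * N))
  have hv : ∀ f, v f = MvPolynomial.aeval c (MvPowerSeries.truncTotal (l * N) f) := fun f => he _
  refine ⟨v, ?_⟩
  ext f
  have h1 : u (f - ((MvPowerSeries.truncTotal (l * N) f : MvPolynomial (Fin n) A) : MvPowerSeries (Fin n) A)) = 0 := by
    have h2 := Groth.Agent.Ega41.MvPS.sub_truncTotal_mem (l * N) f
    rcases Nat.eq_zero_or_pos N with h0 | h0
    · have h3 : J ^ 0 = ⊥ := by rw [← h0]; exact hN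
      have h4 : (1 : C) = 0 := by
        have : (1 : C) ∈ J ^ 0 := by simp
        rw [h3] at this
        exact this
      have h5 : Subsingleton (C ⧸ J) := by
        refine subsingleton_of_zero_eq_one ?_
        rw [← map_one (Ideal.Quotient.mk J), h4, map_zero]
      exact Subsingleton.elim _ _
    · exact hl _ (Ideal.pow_right_mono hvar l (Ideal.pow_le_pow_right (Nat.le_mul_of_pos_right l h0) h2))
  rw [map_sub, sub_eq_zero] at h1
  rw [h1, AlgHom.comp_apply, hv]
  have h2 : ((Ideal.Quotient.mkₐ A J).comp (MvPolynomial.aeval c)) =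
      u.comp (MvPolynomial.coeToMvPowerSeries.algHom A) := by
    ext i
    rw [AlgHom.comp_apply, AlgHom.comp_apply, MvPolynomial.aeval_X, MvPolynomial.coeToMvPowerSeries.algHom_apply]
    simp only [Algebra.algebraMap_self, MvPowerSeries.map_id, RingHom.id_apply, MvPolynomial.coe_X]
    exact hc i
  have h3 := DFunLike.congr_fun h2 (MvPowerSeries.truncTotal (l * N) f)
  rw [AlgHom.comp_apply, AlgHom.comp_apply, MvPolynomial.coeToMvPowerSeries.algHom_apply] at h3
  simpa using h3
end Groth.Agent.S4533
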