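import Groth.Statements.S11268
-- import your own Groth.Agent.* helpers here

set_option autoImplicit false
open W4bk4grassmannian

namespace Groth.Agent.S11268

lemma le_val {d n : ℕ} (w : Idx d n) (t : Fin d) : t.val ≤ (w.1 t).val := by
  obtain ⟨t, ht⟩ := t
  induction t with
  | zero => simp
  | succ k ih =>
    have h1 := ih (by omega)
    have h2 : w.1 ⟨k, by omega⟩ < w.1 ⟨k+1, ht⟩ := w.2 (by simp [Fin.lt_def])
    have h3 : (w.1 ⟨k, by omega⟩).val < (w.1 ⟨k+1, ht⟩).val := h2
    simp only at h1 ⊢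
    omega

open W4bk4grassmannian in
/-- Let τ < w in I(d,n), the strictly increasing maps Fin d → Fin n ordered entrywise. Then there is a
Schubert divisor φ of w, i.e. φ < w with Σ_t (φ_t - t) + 1 = Σ_t (w_t - t), such that τ ≤ φ: every
proper Schubert subvariety of X(w) lies in a Schubert divisor of X(w). -/
theorem result (d n : ℕ) (τ w : Idx d n) (h : τ < w) :
    ∃ φ ∈ divisors w, τ ≤ φ := by
  classical
  have hle : ∀ t, τ.1 t ≤ w.1 t := fun t => h.le t
  have hex : ∃ k : ℕ, ∃ hk : k < d, τ.1 ⟨k, hk⟩ < w.1 ⟨k, hk⟩ := by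
    by_contra hcon
    push Not at hcon
    apply h.not_ge
    intro t
    exact hcon t.1 t.2
  obtain ⟨hk, hlt⟩ := Nat.find_spec hex
  have hmin := fun (m : ℕ) (hm : m < Nat.find hex) => Nat.find_min hex hm
  set k := Nat.find hex with hkdef
  have hmin' : ∀ (m : ℕ) (hm : m < k), w.1 ⟨m, hm.trans hk⟩ = τ.1 ⟨m, hm.trans hk⟩ := by
    intro m hm
    have := hmin m hm
    push Not at this
    exact le_antisymm (this (hm.trans hk)) (hle _)
  have hltv : (τ.1 ⟨k, hk⟩).val < (w.1 ⟨k, hk⟩).val := hlt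
  -- the new index
  let f : Fin d → Fin n := fun t => if t.val = k then ⟨(w.1 ⟨k, hk⟩).val - 1, by have := (w.1 ⟨k, hk⟩).2; omega⟩ else w.1 t
  have hfk : ∀ t : Fin d, t.val = k → (f t).val = (w.1 ⟨k, hk⟩).val - 1 := by
    intro t ht; simp [f, ht]
  have hfne : ∀ t : Fin d, t.val ≠ k → f t = w.1 t := by
    intro t ht; simp [f, ht]
  have hf : StrictMono f := by
    intro s t hst
    have hst' : s.val < t.val := hst
    have hw : (w.1 s).val < (w.1 t).val := w.2 hst
    rw [Fin.lt_def]
    by_cases hs : s.val = k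
    · have ht : t.val ≠ k := by omega
      rw [hfk s hs, hfne t ht]
      have : s = ⟨k, hk⟩ := Fin.ext hs
      subst this
      omega
    · by_cases ht : t.val = k
      · rw [hfk t ht, hfne s hs]
        have hsk : s.val < k := by omega
        have h1 := hmin' s.val hsk
        have h2 : (τ.1 s).val < (τ.1 t).val := τ.2 hst
        have ht' : t = ⟨k, hk⟩ := Fin.ext ht
        subst ht'
        have h3 : (w.1 s).val = (τ.1 s).val := by
          have := congrArg Fin.val h1
          simpa using this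
        omega
      · rw [hfne s hs, hfne t ht]; exact hw
  have hφw : (⟨f, hf⟩ : Idx d n) ≤ w := by
    intro t
    show f t ≤ w.1 t
    by_cases ht : t.val = k
    · rw [Fin.le_def, hfk t ht]
      have ht' : t = ⟨k, hk⟩ := Fin.ext ht
      subst ht'; omega
    · rw [hfne t ht]
  refine ⟨⟨f, hf⟩, ⟨lt_of_le_of_ne hφw ?_, ?_⟩, ?_⟩
  · intro heq
    have := congrArg (fun x : Idx d n => (x.1 ⟨k, hk⟩).val) heq
    simp only at this
    rw [hfk _ rfl] at this
    omega
  · unfold codeg
    rw [← Finset.sum_erase_add Finset.univ (fun t : Fin d => (f t).val - t.val) (Finset.mem_univ (⟨k, hk⟩ : Fin d)),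
      ← Finset.sum_erase_add Finset.univ (fun t : Fin d => (w.1 t).val - t.val) (Finset.mem_univ (⟨k, hk⟩ : Fin d))]
    have h1 : ∑ x ∈ Finset.univ.erase (⟨k, hk⟩ : Fin d), ((f x).val - x.val) =
        ∑ x ∈ Finset.univ.erase (⟨k, hk⟩ : Fin d), ((w.1 x).val - x.val) := by
      apply Finset.sum_congr rfl
      intro x hx
      rw [Finset.mem_erase] at hx
      rw [hfne x (fun hxk => hx.1 (Fin.ext hxk))]
    have h2 := le_val τ ⟨k, hk⟩
    simp only at h2
    show ∑ x ∈ Finset.univ.erase (⟨k, hk⟩ : Fin d), ((f x).val - x.val) + ((f ⟨k, hk⟩).val - k) + 1 = _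
    rw [h1, hfk _ rfl]
    simp only
    omega
  · intro t
    show τ.1 t ≤ f t
    by_cases ht : t.val = k
    · rw [Fin.le_def, hfk t ht]
      have ht' : t = ⟨k, hk⟩ := Fin.ext ht
      subst ht'; omega
    · rw [hfne t ht]; exact hle t

end Groth.Agent.S11268
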