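import Groth.Statements.S13987
import Groth.Agent.FormalA.ExtendHomMain
import Groth.Agent.Sga67.CohLoc
import Groth.Agent.CohGab.K806.LocCrit
import Groth.Agent.Dcoh.Restrict
import Groth.Agent.CohqB.DevSupport

set_option autoImplicit false
universe u
open CategoryTheory CategoryTheory.Limits AlgebraicGeometry
open CohGab

namespace Groth.Agent.S13987

theorem isZero_restrict_iff {X : Scheme.{u}} (U : X.Opens) (M : X.Modules) :
    IsZero ((Scheme.Modules.restrictFunctor U.ι).obj M) ↔ CohB1.support M ⊆ (↑U : Set X)ᶜ := by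
  constructor
  · intro h0 x hx hxU
    have key : ∀ s : M.presheaf.stalk x, s = 0 := by
      intro s
      obtain ⟨V, hV, t, rfl⟩ := TopCat.Presheaf.exists_germ_eq M.presheaf s
      have hle : U.ι ''ᵁ (U.ι ⁻¹ᵁ V) ≤ V := Scheme.Hom.image_preimage_le _ _
      have hy : x ∈ U.ι ''ᵁ (U.ι ⁻¹ᵁ V) := ⟨⟨x, hxU⟩, hV, rfl⟩
      have hsub : Subsingleton Γ(M, U.ι ''ᵁ (U.ι ⁻¹ᵁ V)) :=
        Groth.Agent.Sga67.CohLoc.subsingleton_of_isZero h0 (U.ι ⁻¹ᵁ V)
      rw [← TopCat.Presheaf.germ_res_apply M.presheaf (homOfLE hle) x hy t]
      have h1 : M.presheaf.map (homOfLE hle).op t = 0 := hsub.elim _ _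
      rw [h1, map_zero]
    exact hx ⟨fun a b => (key a).trans (key b).symm⟩
  · intro h
    exact Groth.Agent.CohqB.LocalQC.isZero_restrict_of_subsingleton U fun V hV =>
      Groth.Agent.CohqB.DevSupport.subsingleton_sections_of_support M V fun x hx hx' => h hx' (hV hx)

theorem isIso_restrict_iff {X : Scheme.{u}} (U : X.Opens) {M N : X.Modules} (f : M ⟶ N) :
    IsIso ((Scheme.Modules.restrictFunctor U.ι).map f) ↔
      (CohB1.support (kernel f) ⊆ (↑U : Set X)ᶜ ∧ CohB1.support (cokernel f) ⊆ (↑U : Set X)ᶜ) := by
  rw [← isZero_restrict_iff, ← isZero_restrict_iff,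
    (PreservesKernel.iso (Scheme.Modules.restrictFunctor U.ι) f).isZero_iff,
    (PreservesCokernel.iso (Scheme.Modules.restrictFunctor U.ι) f).isZero_iff]
  constructor
  · intro h
    exact ⟨isZero_kernel_of_mono _, isZero_cokernel_of_epi _⟩
  · rintro ⟨h1, h2⟩
    have : Mono ((Scheme.Modules.restrictFunctor U.ι).map f) :=
      Preadditive.mono_of_isZero_kernel _ h1
    have : Epi ((Scheme.Modules.restrictFunctor U.ι).map f) :=
      Preadditive.epi_of_isZero_cokernel _ h2
    exact isIso_of_mono_of_epi _



/-- Let X be a Noetherian scheme, Z ⊆ X a closed subset and U = X ∖ Z. Then restriction to U induces an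
equivalence between the quotient abelian category Coh(X)/Coh_Z(X) (coherent modules modulo those
supported in Z) and Coh(U): the restriction functor Coh(X) ⥤ Coh(U) is a localization functor for
the class of morphisms of coherent O_X-modules whose kernel and cokernel (taken in O_X-modules) have
support contained in Z. The hypothesis that restriction to U preserves coherence always holds and is
carried only to form the functor between the full subcategories. (The published statement is about
coherent sheaves twisted by a class in the second etale cohomology group of the units of the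
structure sheaf; this row is its case of the trivial class, ordinary coherent sheaves.) -/
theorem result (X : Scheme.{u}) [IsNoetherian X]
    (U : X.Opens)
    (hres : ∀ M : X.Modules, Coh.IsCoh M → Coh.IsCoh ((Scheme.Modules.restrictFunctor U.ι).obj M)) :
    (ObjectProperty.lift (fun N : (↑U : Scheme.{u}).Modules => Coh.IsCoh N)
        (ObjectProperty.ι (fun M : X.Modules => Coh.IsCoh M) ⋙ Scheme.Modules.restrictFunctor U.ι)
        (fun M => hres M.obj M.property)).IsLocalization
      (fun (A B : ObjectProperty.FullSubcategory (fun M : X.Modules => Coh.IsCoh M)) (f : A ⟶ B) =>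
        CohB1.support (kernel f.hom) ⊆ (↑U : Set X)ᶜ ∧
          CohB1.support (cokernel f.hom) ⊆ (↑U : Set X)ᶜ) := by
  let F := ObjectProperty.lift (fun N : (↑U : Scheme.{u}).Modules => Coh.IsCoh N)
        (ObjectProperty.ι (fun M : X.Modules => Coh.IsCoh M) ⋙ Scheme.Modules.restrictFunctor U.ι)
        (fun M => hres M.obj M.property)
  have hF : ∀ {A B : ObjectProperty.FullSubcategory (fun M : X.Modules => Coh.IsCoh M)} (f : A ⟶ B),
      IsIso (F.map f) ↔ IsIso ((Scheme.Modules.restrictFunctor U.ι).map f.hom) := fun f => by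
    constructor
    · intro h
      exact (inferInstance : IsIso ((ObjectProperty.ι _).map (F.map f)))
    · intro h
      have : IsIso ((ObjectProperty.ι (fun N : (↑U : Scheme.{u}).Modules => Coh.IsCoh N)).map
        (F.map f)) := h
      exact isIso_of_reflects_iso (F.map f)
        (ObjectProperty.ι (fun N : (↑U : Scheme.{u}).Modules => Coh.IsCoh N))
  have hess : F.EssSurj := ⟨fun N => by
    obtain ⟨M, hM, ⟨e⟩⟩ := Groth.Agent.Sga67.CohLoc.exists_extension U.ι N.obj N.property
    exact ⟨⟨M, hM⟩, ⟨ObjectProperty.isoMk _ e⟩⟩⟩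
  have key := K806.LocCrit.isLocalization F ?_ ?_
  · have hW : (MorphismProperty.isomorphisms _).inverseImage F =
      (fun (A B : ObjectProperty.FullSubcategory (fun M : X.Modules => Coh.IsCoh M)) (f : A ⟶ B) =>
        CohB1.support (kernel f.hom) ⊆ (↑U : Set X)ᶜ ∧
          CohB1.support (cokernel f.hom) ⊆ (↑U : Set X)ᶜ) := by
      ext A B f
      exact (hF f).trans (isIso_restrict_iff U f.hom)
    rw [hW] at key
    exact key
  · intro A B f g hfg
    have h1 : (Scheme.Modules.restrictFunctor U.ι).map f.hom =
      (Scheme.Modules.restrictFunctor U.ι).map g.hom := congrArg (fun h => h.hom) hfg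
    have hk : Coh.IsCoh (kernel (f.hom - g.hom)) :=
      Groth.Agent.Sga67.CohBasic.isCoh_kernel _ A.property B.property.1
    refine ⟨⟨_, hk⟩, ObjectProperty.homMk (kernel.ι (f.hom - g.hom)), ?_, ?_⟩
    · rw [hF]
      have hz : (Scheme.Modules.restrictFunctor U.ι).map (f.hom - g.hom) = 0 := by
        rw [Functor.map_sub, h1, sub_self]
      have h0 : ∀ {P Q : (↑U : Scheme.{u}).Modules} (h : P ⟶ Q), h = 0 → IsIso (kernel.ι h) := by
        rintro P Q _ rfl
        infer_instance
      have h2 : IsIso (kernel.ι ((Scheme.Modules.restrictFunctor U.ι).map (f.hom - g.hom))) :=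
        h0 _ hz
      have h3 : (Scheme.Modules.restrictFunctor U.ι).map (kernel.ι (f.hom - g.hom)) =
        (PreservesKernel.iso (Scheme.Modules.restrictFunctor U.ι) (f.hom - g.hom)).hom ≫
          kernel.ι ((Scheme.Modules.restrictFunctor U.ι).map (f.hom - g.hom)) := by
        rw [← PreservesKernel.iso_inv_ι, Iso.hom_inv_id_assoc]
      change IsIso ((Scheme.Modules.restrictFunctor U.ι).map (kernel.ι (f.hom - g.hom)))
      rw [h3]
      infer_instance
    · ext1
      have := kernel.condition (f.hom - g.hom)
      rw [Preadditive.comp_sub, sub_eq_zero] at this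
      exact this
  · intro A B φ
    obtain ⟨I, ι, ψ, hι, hI, hiso, hψ⟩ := Groth.Agent.FormalA.ExtendHomMain.extend_hom X
      A.obj B.obj A.property B.property U φ.hom
    refine ⟨⟨I, hI⟩, ObjectProperty.homMk ι, ObjectProperty.homMk ψ, (hF _).mpr hiso, ?_⟩
    ext1
    exact hψ.symm

end Groth.Agent.S13987
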