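import Groth.Statements.S4961
import Groth.Agent.S1341
import Groth.Agent.EGA43.K127.FlatLocus

set_option autoImplicit false
open CategoryTheory AlgebraicGeometry
universe u v w
open EGA43

namespace Groth.Agent.S4961

/-- Let f : X ⟶ Y be a morphism locally of finite presentation. The set of points x of X at which f is
Cohen–Macaulay (f flat at x and the local ring at x of the fibre through x Cohen–Macaulay) is open
in X. -/
theorem result {X Y : Scheme.{u}} (f : X ⟶ Y)
    [LocallyOfFinitePresentation f] : IsOpen {x : X | MoreMor.IsCMAt f x} := by
  have h := K127.FlatLocus.isOpen_flat_and (Y := Y) (fun R _ => LocCoh.IsCohenMacaulayLocalRing R)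
    (fun R S _ _ e h => (Groth.Agent.Flat2D.FiberStalk.isCohenMacaulayLocalRing_iff_of_ringEquiv e).mp h)
    (fun g _ _ => by
      have h1 := (Groth.Agent.S1341.result g).1
      convert h1 using 1
      ext x
      refine ⟨fun h => ⟨Flat.stalkMap g x, h⟩, fun h => h.2⟩) f
  exact h

end Groth.Agent.S4961
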