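import Groth.Statements.S12226
import Groth.Agent.Divis.PushDepth
import Groth.Agent.Divis.StalkMod
import Groth.Agent.Dual.H375.Hartogs

set_option autoImplicit false
universe u
open CategoryTheory CategoryTheory.Limits AlgebraicGeometry TopologicalSpace
open LocCoh

namespace Groth.Agent.S12226

/-- Let j : U → X be the inclusion of an open subscheme of a Noetherian scheme X and F a coherent
O_X-module such that F' = j_*(F|_U) is coherent. Then (a) for every point x of X outside U the stalk
F'_x has depth at least 2 over O_{X,x}, and (b) F → F' is the unique map with these properties: for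
every coherent O_X-module G and every map φ : F → G whose restriction to U is an isomorphism and
such that depth(G_x) ≥ 2 for all x outside U, there is exactly one map ψ : G → F' whose composite
with φ is the canonical map F → j_*(F|_U), and this ψ is an isomorphism. (The compatibility of this
construction with flat base change is not part of this statement.) -/
theorem result (X : Scheme.{u}) [IsNoetherian X] (U : X.Opens)
    (F : X.Modules) (hF : Coh.IsCoh F) (hF' : Coh.IsCoh ((Coh.push U.ι).obj (F.restrict U.ι))) :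
    (∀ x : ↥X, x ∉ U → (2 : ℕ∞) ≤ LocCoh.depth (X.presheaf.stalk x)
        (((Coh.push U.ι).obj (F.restrict U.ι)).presheaf.stalk x)) ∧
    ∀ (G : X.Modules) (hG : Coh.IsCoh G) (φ : F ⟶ G),
      IsIso ((Scheme.Modules.restrictFunctor U.ι).map φ) →
      (∀ x : ↥X, x ∉ U → (2 : ℕ∞) ≤ LocCoh.depth (X.presheaf.stalk x) (G.presheaf.stalk x)) →
        (∃! ψ : G ⟶ (Coh.push U.ι).obj (F.restrict U.ι),
            φ ≫ ψ = (Scheme.Modules.restrictAdjunction U.ι).unit.app F) ∧
          ∀ ψ : G ⟶ (Coh.push U.ι).obj (F.restrict U.ι),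
            φ ≫ ψ = (Scheme.Modules.restrictAdjunction U.ι).unit.app F → IsIso ψ := by
  have hq : QuasiCompact U.ι := inferInstance
  refine ⟨fun x hx => ?_, fun G hG φ hφ hdG => ?_⟩
  · have h1 := Groth.Agent.Divis.StalkMod.finite_stalk hF' x
    have h2 : Module.Finite (X.presheaf.stalk x)
      ((Groth.Agent.Divis.PushDepth.push U.ι (F.restrict U.ι)).presheaf.stalk x) := h1
    exact Groth.Agent.Divis.PushDepth.depth_of_notMem U.ι (F.restrict U.ι) x
      (by rintro ⟨y, rfl⟩; exact hx y.2)
  · have hu := Groth.Agent.Dual.H375.Hartogs.isIso_unit hG U hdG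
    let adj := Scheme.Modules.restrictAdjunction U.ι
    have hnat : φ ≫ adj.unit.app G = adj.unit.app F ≫
        (Scheme.Modules.pushforward U.ι).map ((Scheme.Modules.restrictFunctor U.ι).map φ) :=
      adj.unit.naturality φ
    have hinj : ∀ ψ ψ' : G ⟶ (Coh.push U.ι).obj (F.restrict U.ι), φ ≫ ψ = φ ≫ ψ' → ψ = ψ' := by
      intro ψ ψ' h
      apply (adj.homEquiv G (F.restrict U.ι)).symm.injective
      have h2 := congrArg (Scheme.Modules.restrictFunctor U.ι).map h
      rw [Functor.map_comp, Functor.map_comp, cancel_epi] at h2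
      rw [Adjunction.homEquiv_counit, Adjunction.homEquiv_counit]
      exact congrArg (· ≫ adj.counit.app (F.restrict U.ι)) h2
    let ψ₀ : G ⟶ (Coh.push U.ι).obj (F.restrict U.ι) := adj.unit.app G ≫
      inv ((Scheme.Modules.pushforward U.ι).map ((Scheme.Modules.restrictFunctor U.ι).map φ))
    have hψ₀ : φ ≫ ψ₀ = adj.unit.app F := by
      change φ ≫ adj.unit.app G ≫ _ = _
      rw [← Category.assoc, hnat, Category.assoc, IsIso.hom_inv_id, Category.comp_id]
    have hiso : IsIso ψ₀ := IsIso.comp_isIso' hu inferInstance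
    refine ⟨⟨ψ₀, hψ₀, fun ψ hψ => hinj _ _ (hψ.trans hψ₀.symm)⟩, fun ψ hψ => ?_⟩
    rw [hinj _ _ (hψ.trans hψ₀.symm)]
    exact hiso

end Groth.Agent.S12226
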