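import Groth.Statements.S8465
import Groth.Agent.Red.K213.PtKit
import Groth.Agent.Red.K213.Rk2G

set_option autoImplicit false
universe u
open CategoryTheory MonoidalCategory CartesianMonoidalCategory MonObj GrpObj AlgebraicGeometry CategoryTheory.Limits
open Red

namespace Groth.Agent.S8465

/-- Let G be a pinned reductive S-group: a splitting D (maximal torus T ≅ D_S(M), root datum with root
homomorphisms u_c : 𝔾_a ⟶ G for all roots c, system of simple roots Δ) such that for every simple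
root a the root homomorphisms of a and -a are dual to each other: u_a(x) u_{-a}(y) =
u_{-a}(y/(1+xy)) · a^∨(1+xy) · u_a(x/(1+xy)) whenever 1 + xy is invertible, where a^∨ : 𝔾_m ⟶ T is
the coroot of a read through the splitting. For a root a put w_a = u_a(1) u_{-a}(-1) u_a(1) (an
S-point of G). Let a ≠ b be simple roots with ⟨b, a^∨⟩ = -3 and ⟨a, b^∨⟩ = -1 (type G₂, a the short
root); put u_{a+b}(x) = w_b u_a(x) w_b⁻¹, u_{2a+b}(x) = (w_a w_b) u_a(x) (w_a w_b)⁻¹, u_{3a+b}(x) =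
w_a u_b(-x) w_a⁻¹ and u_{3a+2b}(x) = (w_b w_a) u_b(-x) (w_b w_a)⁻¹. Then for all points x, y of 𝔾_a:
u_b(y) u_a(x) = u_a(x) u_b(y) u_{a+b}(xy) u_{2a+b}(x²y) u_{3a+b}(x³y) u_{3a+2b}(x³y²); u_{a+b}(y)
u_a(x) = u_a(x) u_{a+b}(y) u_{2a+b}(2xy) u_{3a+b}(3x²y) u_{3a+2b}(3xy²); u_{2a+b}(y) u_a(x) = u_a(x)
u_{2a+b}(y) u_{3a+b}(3xy); u_{3a+b}(y) u_b(x) = u_b(x) u_{3a+b}(y) u_{3a+2b}(-xy); u_{2a+b}(y)
u_{a+b}(x) = u_{a+b}(x) u_{2a+b}(y) u_{3a+2b}(3xy). (The published statement is for a pinned group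
whose simple roots are exactly a and b; this row states it for two simple roots a ≠ b of any pinned
group.) -/
theorem result (S : Scheme.{u}) (e₁ : 𝟙_ (Over S) ⟶ Red.Ga S) (he₁ : Red.gaFn e₁ = 1)
    (G : Over S) [GrpObj G] (D : Red.Pinning G)
    (avc : D.idx → (Red.Gm S ⟶ D.T))
    (havc : ∀ a, avc a = Red.DSmap S (D.P.coroot a).toAddMonoidHom ≫ D.split.inv.hom.hom)
    (hpair : ∀ a ∈ D.base.support, ∀ (X : Over S) (x y : X ⟶ Red.Ga S), IsUnit (1 + Red.gaFn x * Red.gaFn y) →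
        ∃ (x' y' : X ⟶ Red.Ga S) (z : X ⟶ Red.Gm S), Red.gmFn z = 1 + Red.gaFn x * Red.gaFn y ∧
          Red.gaFn x' * Red.gmFn z = Red.gaFn x ∧ Red.gaFn y' * Red.gmFn z = Red.gaFn y ∧
          (x ≫ D.u a) * (y ≫ D.u (D.P.reflectionPerm a a)) = (y' ≫ D.u (D.P.reflectionPerm a a)) * (z ≫ avc a ≫ D.i) * (x' ≫ D.u a))
    (w : D.idx → (𝟙_ (Over S) ⟶ G))
    (hw : ∀ a, w a = (e₁ ≫ D.u a) * (e₁ ≫ D.u (D.P.reflectionPerm a a))⁻¹ * (e₁ ≫ D.u a))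
    (a b : D.idx) (ha : a ∈ D.base.support) (hb : b ∈ D.base.support) (hne : a ≠ b)
    (hba : D.P.pairing b a = -3) (hab : D.P.pairing a b = -1)
    (u11 : ∀ X : Over S, (X ⟶ Red.Ga S) → (X ⟶ G))
    (hu11 : ∀ (X : Over S) (x : X ⟶ Red.Ga S), u11 X x = (toUnit X ≫ w b) * (x ≫ D.u a) * (toUnit X ≫ w b)⁻¹)
    (u21 : ∀ X : Over S, (X ⟶ Red.Ga S) → (X ⟶ G))
    (hu21 : ∀ (X : Over S) (x : X ⟶ Red.Ga S), u21 X x = (toUnit X ≫ (w a * w b)) * (x ≫ D.u a) * (toUnit X ≫ (w a * w b))⁻¹)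
    (u31 : ∀ X : Over S, (X ⟶ Red.Ga S) → (X ⟶ G))
    (hu31 : ∀ (X : Over S) (x : X ⟶ Red.Ga S), u31 X x = (toUnit X ≫ w a) * (x ≫ D.u b)⁻¹ * (toUnit X ≫ w a)⁻¹)
    (u32 : ∀ X : Over S, (X ⟶ Red.Ga S) → (X ⟶ G))
    (hu32 : ∀ (X : Over S) (x : X ⟶ Red.Ga S), u32 X x = (toUnit X ≫ (w b * w a)) * (x ≫ D.u b)⁻¹ * (toUnit X ≫ (w b * w a))⁻¹)
    (X : Over S) (x y c11 c21 c31 c32 d21 d31 d32 f31 g32 k32 : X ⟶ Red.Ga S)
    (h11 : Red.gaFn c11 = Red.gaFn x * Red.gaFn y) (h21 : Red.gaFn c21 = Red.gaFn x ^ 2 * Red.gaFn y)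
    (h31 : Red.gaFn c31 = Red.gaFn x ^ 3 * Red.gaFn y) (h32 : Red.gaFn c32 = Red.gaFn x ^ 3 * Red.gaFn y ^ 2)
    (hd21 : Red.gaFn d21 = 2 * Red.gaFn x * Red.gaFn y) (hd31 : Red.gaFn d31 = 3 * Red.gaFn x ^ 2 * Red.gaFn y)
    (hd32 : Red.gaFn d32 = 3 * Red.gaFn x * Red.gaFn y ^ 2) (hf31 : Red.gaFn f31 = 3 * Red.gaFn x * Red.gaFn y)
    (hg32 : Red.gaFn g32 = - (Red.gaFn x * Red.gaFn y)) (hk32 : Red.gaFn k32 = 3 * Red.gaFn x * Red.gaFn y) :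
    (y ≫ D.u b) * (x ≫ D.u a) = (x ≫ D.u a) * (y ≫ D.u b) * u11 X c11 * u21 X c21 * u31 X c31 * u32 X c32 ∧
      u11 X y * (x ≫ D.u a) = (x ≫ D.u a) * u11 X y * u21 X d21 * u31 X d31 * u32 X d32 ∧
      u21 X y * (x ≫ D.u a) = (x ≫ D.u a) * u21 X y * u31 X f31 ∧
      u31 X y * (x ≫ D.u b) = (x ≫ D.u b) * u31 X y * u32 X g32 ∧
      u21 X y * u11 X x = u11 X x * u21 X y * u32 X k32 := by
  obtain rfl : avc = _ := funext havc
  have hgen : ∀ (R : Type u) [CommRing R] (s : Spec (CommRingCat.of R) ⟶ S)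
      (g : Groth.Agent.Sga3B.PinMod.tB s R ⟶ X),
      g ≫ ((y ≫ D.u b) * (x ≫ D.u a)) = g ≫ ((x ≫ D.u a) * (y ≫ D.u b) * u11 X c11 *
        u21 X c21 * u31 X c31 * u32 X c32) ∧
      g ≫ (u11 X y * (x ≫ D.u a)) =
        g ≫ ((x ≫ D.u a) * u11 X y * u21 X d21 * u31 X d31 * u32 X d32) ∧
      g ≫ (u21 X y * (x ≫ D.u a)) = g ≫ ((x ≫ D.u a) * u21 X y * u31 X f31) ∧
      g ≫ (u31 X y * (x ≫ D.u b)) = g ≫ ((x ≫ D.u b) * u31 X y * u32 X g32) ∧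
      g ≫ (u21 X y * u11 X x) = g ≫ (u11 X x * u21 X y * u32 X k32) := by
    intro R _ s g
    obtain ⟨c⟩ := K213.PtKit.exists_chart' D.toSplitRed R s
    have key := K213.Rk2.g2 (D := c.datum D.toSplitRed) D.P (fun _ => rfl) D.pairing_eq D.base
      (Groth.Agent.Sga3B.PinModelOf.good D.toSplitRed c) ha hb hne
      (K213.PtKit.rank1_of_hpair D.toSplitRed c a (hpair a ha))
      (K213.PtKit.rank1_of_hpair D.toSplitRed c b (hpair b hb)) hba hab (B := R)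
      _ _ _ _ (fun _ => rfl) (fun _ => rfl) (fun _ => rfl) (fun _ => rfl)
    obtain ⟨⟨h1, h2, h3, h4, h5⟩, -⟩ := key
    replace h1 := h1 (K213.PtKit.gaR s (g ≫ x)) (K213.PtKit.gaR s (g ≫ y))
    replace h2 := h2 (K213.PtKit.gaR s (g ≫ x)) (K213.PtKit.gaR s (g ≫ y))
    replace h3 := h3 (K213.PtKit.gaR s (g ≫ x)) (K213.PtKit.gaR s (g ≫ y))
    replace h4 := h4 (K213.PtKit.gaR s (g ≫ x)) (K213.PtKit.gaR s (g ≫ y))
    replace h5 := h5 (K213.PtKit.gaR s (g ≫ x)) (K213.PtKit.gaR s (g ≫ y))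
    have ec11 : K213.PtKit.gaR s (g ≫ c11) =
        K213.PtKit.gaR s (g ≫ x) * K213.PtKit.gaR s (g ≫ y) :=
      K213.PtKit.gaR_comp s g (by simp only [h11, map_mul, K213.PtKit.app_gaFn])
    have ec21 : K213.PtKit.gaR s (g ≫ c21) =
        K213.PtKit.gaR s (g ≫ x) ^ 2 * K213.PtKit.gaR s (g ≫ y) :=
      K213.PtKit.gaR_comp s g (by simp only [h21, map_mul, map_pow, K213.PtKit.app_gaFn])
    have ec31 : K213.PtKit.gaR s (g ≫ c31) =
        K213.PtKit.gaR s (g ≫ x) ^ 3 * K213.PtKit.gaR s (g ≫ y) :=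
      K213.PtKit.gaR_comp s g (by simp only [h31, map_mul, map_pow, K213.PtKit.app_gaFn])
    have ec32 : K213.PtKit.gaR s (g ≫ c32) =
        K213.PtKit.gaR s (g ≫ x) ^ 3 * K213.PtKit.gaR s (g ≫ y) ^ 2 :=
      K213.PtKit.gaR_comp s g (by simp only [h32, map_mul, map_pow, K213.PtKit.app_gaFn])
    have ed21 : K213.PtKit.gaR s (g ≫ d21) =
        2 * K213.PtKit.gaR s (g ≫ x) * K213.PtKit.gaR s (g ≫ y) :=
      K213.PtKit.gaR_comp s g (by simp only [hd21, map_mul, map_pow, map_ofNat, K213.PtKit.app_gaFn])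
    have ed31 : K213.PtKit.gaR s (g ≫ d31) =
        3 * K213.PtKit.gaR s (g ≫ x) ^ 2 * K213.PtKit.gaR s (g ≫ y) :=
      K213.PtKit.gaR_comp s g (by simp only [hd31, map_mul, map_pow, map_ofNat, K213.PtKit.app_gaFn])
    have ed32 : K213.PtKit.gaR s (g ≫ d32) =
        3 * K213.PtKit.gaR s (g ≫ x) * K213.PtKit.gaR s (g ≫ y) ^ 2 :=
      K213.PtKit.gaR_comp s g (by simp only [hd32, map_mul, map_pow, map_ofNat, K213.PtKit.app_gaFn])
    have ef31 : K213.PtKit.gaR s (g ≫ f31) =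
        3 * K213.PtKit.gaR s (g ≫ x) * K213.PtKit.gaR s (g ≫ y) :=
      K213.PtKit.gaR_comp s g (by simp only [hf31, map_mul, map_pow, map_ofNat, K213.PtKit.app_gaFn])
    have eg32 : K213.PtKit.gaR s (g ≫ g32) =
        -(K213.PtKit.gaR s (g ≫ x) * K213.PtKit.gaR s (g ≫ y)) :=
      K213.PtKit.gaR_comp s g (by simp only [hg32, map_mul, map_neg, K213.PtKit.app_gaFn])
    have ek32 : K213.PtKit.gaR s (g ≫ k32) =
        3 * K213.PtKit.gaR s (g ≫ x) * K213.PtKit.gaR s (g ≫ y) :=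
      K213.PtKit.gaR_comp s g (by simp only [hk32, map_mul, map_pow, map_ofNat, K213.PtKit.app_gaFn])
    have hWa := K213.PtKit.pt_w' D.toSplitRed c e₁ he₁ hw g a
    have hWb := K213.PtKit.pt_w' D.toSplitRed c e₁ he₁ hw g b
    have hU := K213.PtKit.pt_u' D.toSplitRed c g
    simp only [hu11, hu21, hu31, hu32, MonObj.comp_mul, GrpObj.comp_inv, hWa, hWb, hU, ec11, ec21,
      ec31, ec32, ed21, ed31, ed32, ef31, eg32, ek32, ← map_mul, ← map_inv, _root_.mul_inv_rev,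
      Groth.Agent.Sga3B.Cell.Datum.uu_neg, _root_.inv_inv] at h1 h2 h3 h4 h5 ⊢
    simp only [_root_.mul_assoc] at h1 h2 h3 h4 h5 ⊢
    exact ⟨by rw [h1], by rw [h2], by rw [h3], by rw [h4], by rw [h5]⟩
  exact ⟨K213.PtKit.hom_ext_tB fun R _ s g => (hgen R s g).1,
    K213.PtKit.hom_ext_tB fun R _ s g => (hgen R s g).2.1,
    K213.PtKit.hom_ext_tB fun R _ s g => (hgen R s g).2.2.1,
    K213.PtKit.hom_ext_tB fun R _ s g => (hgen R s g).2.2.2.1,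
    K213.PtKit.hom_ext_tB fun R _ s g => (hgen R s g).2.2.2.2⟩

end Groth.Agent.S8465
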