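import Groth.Statements.S5256
import Groth.Agent.SGA3x.K5.ActTriv

set_option autoImplicit false
open CategoryTheory MonoidalCategory CartesianMonoidalCategory MonObj GrpObj AlgebraicGeometry
universe u
open SGA3x

namespace Groth.Agent.S5256

open Groth.Agent.SGA3x.K5 Groth.Agent.Sga3B

/-- the inner action of `H` on `G` -/
theorem central_of_fields {S : Scheme.{u}} (H G : Over S) [GrpObj H] [GrpObj G]
    (hH : SGA3x.IsMultTypeFT H) [LocallyOfFiniteType G.hom] (u : H ⟶ G) [IsMonHom u]
    (hf : ∀ (K : Type u) [Field K] (t : Spec (CommRingCat.of K) ⟶ S) (X : Over S) (_ : X ⟶ Over.mk t)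
      (g : X ⟶ G) (h : X ⟶ H), g * (h ≫ u) = (h ≫ u) * g) :
    ∀ (X : Over S) (g : X ⟶ G) (h : X ⟶ H), g * (h ≫ u) = (h ≫ u) * g := by
  let α : G ⊗ H ⟶ G := (snd _ _ ≫ u)⁻¹ * fst _ _ * (snd _ _ ≫ u)
  have hpt : ∀ {X : Over S} (g : X ⟶ G) (h : X ⟶ H), lift g h ≫ α = (h ≫ u)⁻¹ * g * (h ≫ u) := by
    intro X g h
    simp only [α]
    rw [MonObj.comp_mul, MonObj.comp_mul, GrpObj.comp_inv, ← Category.assoc, lift_fst, lift_snd]
  have hα : ActTriv.IsAct α :=
    { one := fun {T} x => by
        rw [hpt, MonObj.one_comp]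
        group
      mul := fun {T} x h h' => by
        rw [hpt, hpt, hpt, MonObj.mul_comp]
        group }
  have h1 := ActTriv.act_eq_fst_of_fibres hH hα fun K _ t T' b q => by
    have h2 := hf K t T' b (q ≫ fst _ _) (q ≫ snd _ _)
    have h3 : q = lift (q ≫ fst _ _) (q ≫ snd _ _) := by
      rw [← comp_lift, lift_fst_snd, Category.comp_id]
    rw [h3, hpt, lift_fst, _root_.mul_assoc, h2]
    group
  intro X g h
  have h2 := hpt g h
  rw [h1, lift_fst] at h2
  calc g * (h ≫ u) = (h ≫ u) * ((h ≫ u)⁻¹ * g * (h ≫ u)) := by group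
    _ = (h ≫ u) * g := by rw [← h2]

/-- Let u : H ⟶ G be a homomorphism of S-groups, with H of multiplicative type and of finite type and G
of finite presentation over S (locally of finite presentation, quasi-compact and quasi-separated).
If for every s ∈ S the homomorphism u_s : H_s ⟶ G_s induced on the fibres at s is central (every
point of G_s commutes with the image of every point of H_s), then u is central. -/
theorem result {S : Scheme.{u}} (H G : Over S) [GrpObj H] [GrpObj G]
    (hH : SGA3x.IsMultTypeFT H) [LocallyOfFinitePresentation G.hom] [QuasiCompact G.hom] [QuasiSeparated G.hom]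
    (u : H ⟶ G) [IsMonHom u]
    (hfib : ∀ (s : S) (X : Over (Spec (S.residueField s))) (g : X ⟶ Red.bc (S.fromSpecResidueField s) G)
      (h : X ⟶ Red.bc (S.fromSpecResidueField s) H),
      g * (h ≫ (Over.pullback (S.fromSpecResidueField s)).map u) = (h ≫ (Over.pullback (S.fromSpecResidueField s)).map u) * g) :
    ∀ (X : Over S) (g : X ⟶ G) (h : X ⟶ H), g * (h ≫ u) = (h ≫ u) * g := by
  refine central_of_fields H G hH u fun K _ t X b g h => ?_
  obtain ⟨⟨s, φ⟩, rfl⟩ := (Scheme.SpecToEquivOfField K S).symm.surjective t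
  let v := S.fromSpecResidueField s
  let b' : X ⟶ Over.mk v := Over.homMk (b.left ≫ Spec.map φ) (by
    have h1 := Over.w b
    change b.left ≫ Spec.map φ ≫ v = X.hom at h1
    rw [← h1, Category.assoc]
    rfl)
  have h1 := hfib s (Over.mk b'.left) (BcPts.bcEquiv v _ G ((BcPts.overIso b').hom ≫ g))
    (BcPts.bcEquiv v _ H ((BcPts.overIso b').hom ≫ h))
  rw [← BcPts.bcEquiv_comp, ← BcPts.bcEquiv_mul, ← BcPts.bcEquiv_mul] at h1
  have h2 := (BcPts.bcEquiv v _ G).injective h1
  rw [Category.assoc, ← MonObj.comp_mul, ← MonObj.comp_mul] at h2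
  exact (cancel_epi _).mp h2

end Groth.Agent.S5256
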