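import Groth.Statements.S5543
import Groth.Agent.Sga3B.SplitFin885
import Groth.Agent.Sga3B.TorusEtLoc920

set_option autoImplicit false
open CategoryTheory MonoidalCategory CartesianMonoidalCategory MonObj GrpObj AlgebraicGeometry
universe u
open RedSub

namespace Groth.Agent.S5543

open Groth.Agent.Sga3B Groth.Agent.Sga3B.BcIso Groth.Agent.Sga3B.RedIso Groth.Agent.Sga3B.SplitIso848

/-- The version relative to a given maximal torus. Let G be a reductive S-group and i : T ⟶ G a maximal
torus. Then locally for the etale topology on S, G is splittable relative to T: every point of S is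
in the image of an etale morphism f : U ⟶ S such that G_U has a splitting whose maximal torus is T_U
with inclusion i_U. -/
theorem result {S : Scheme.{u}} {G T : Over S} [GrpObj G] [GrpObj T]
    (hG : Red.IsReductive G) (i : T ⟶ G) (hT : Red.IsMaximalTorus i) (s : S) :
    ∃ (U : Scheme.{u}) (f : U ⟶ S) (_ : Etale f), s ∈ Set.range f.base ∧
      ∃ (D : Red.SplitRed (Red.bc f G)) (e : D.T ≅ Red.bc f T), D.i = e.hom ≫ (Over.pullback f).map i := by
  obtain ⟨B, _, v, r, hv, ⟨b, hb⟩, ⟨e⟩⟩ := TorusEtLoc920.exists_etale_split T hT.2.2.1 s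
  obtain ⟨R, g, hg, ⟨y, hy⟩, D, τ, -, hτ⟩ := SplitFin885.splitTRed (AlgBc.isReductive_bc v hG)
    ((Over.pullback v).map i) (AlgBc.isMaximalTorus_bc v hT) e b
  refine ⟨Spec R, g ≫ v, inferInstance, ⟨y, ?_⟩, splitOfIso (bcCompIso g v G).symm D,
    (und (bcCompIso g v T ≪≫ τ)).symm, ?_⟩
  · have h1 : (g ≫ v) y = v (g y) := Scheme.Hom.comp_apply _ _ _
    exact h1.trans ((congrArg v hy).trans hb)
  · have h1 := SplitGlue904.bcCompIso_naturality g v i
    rw [hτ] at h1
    change D.i ≫ (und (bcCompIso g v G)).inv = (und (bcCompIso g v T ≪≫ τ)).inv ≫ (Over.pullback (g ≫ v)).map i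
    rw [Iso.eq_inv_comp, ← Category.assoc, Iso.comp_inv_eq]
    refine Eq.trans ?_ h1.symm
    exact Category.assoc _ _ _

end Groth.Agent.S5543
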