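import Groth.Statements.S5531
import Groth.Agent.RedSub.K194.SemiRad

set_option autoImplicit false
open CategoryTheory MonoidalCategory CartesianMonoidalCategory MonObj GrpObj AlgebraicGeometry
universe u
open RedSub

namespace Groth.Agent.S5531

/-- Let G be a reductive S-group, H ⟶ G a subgroup of type (R) with solvable geometric fibres, and T a
maximal torus of G contained in H. Then H has a unipotent radical U = H^u (a largest normal closed
subgroup scheme, smooth and finitely presented over S, with connected geometric fibres containing no
non-trivial subtorus); U is killed by every homomorphism from H to a commutative S-group scheme; and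
the multiplication T x_S U ⟶ H is an isomorphism of S-schemes (H = T ⋉ U). -/
theorem result {S : Scheme.{u}} {G H T : Over S} [GrpObj G] [GrpObj H]
    [GrpObj T] (hG : Red.IsReductive G) (i : H ⟶ G) (hH : RedSub.IsTypeR i)
    (hsolv : ∀ s : S, Red.IsSolvableGrp (Red.geomFibre s H)) (t : T ⟶ H) [IsMonHom t]
    (hT : Red.IsMaximalTorus (t ≫ i)) :
    ∃ (U : Over S) (_ : GrpObj U) (u : U ⟶ H), Par.IsUnipotentRadical u ∧ RedSub.KilledByCommutative u ∧
      IsIso ((t ⊗ₘ u) ≫ μ[H]) := by
  exact K194.SemiRad.exists_all (Groth.Agent.Redsub.H673.Hyp.of_typeR hG hH hsolv hT) hH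

end Groth.Agent.S5531
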