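import Groth.Statements.S5236
import Groth.Agent.RedSub.H650.QuotPts
import Groth.Agent.Sga3C.QuotProps

set_option autoImplicit false
open CategoryTheory CategoryTheory.Limits AlgebraicGeometry MonoidalCategory
universe u
open RedSub

namespace Groth.Agent.S5236

open CartesianMonoidalCategory MonObj GrpObj in
/-- the kernel pair of the quotient, in terms of left translations -/
theorem isPullback_left {S : Scheme.{u}} {H G Q : Over S} [GrpObj H] [GrpObj G]
    (i : H ⟶ G) [IsMonHom i] [Mono i] (hn : AlgGrp.IsNormalHom i) (q : G ⟶ Q)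
    (h : Groth.Agent.RedSub.H650.QuotPts.PtQuot i q) :
    IsPullback ((i ▷ G) ≫ μ[G]) (snd H G) q q := by
  have hl : ∀ {T : Over S} (y : T ⟶ H) (b : T ⟶ G), lift y b ≫ ((i ▷ G) ≫ μ[G]) = (y ≫ i) * b := by
    intro T y b
    rw [Hom.mul_def, ← Category.assoc]
    simp
  have hrel : ∀ {T : Over S} (y : T ⟶ H) (b : T ⟶ G), b ≫ q = ((y ≫ i) * b) ≫ q := by
    intro T y b
    obtain ⟨n, hn'⟩ := hn T b⁻¹ y
    refine (h T _ _).2 ⟨n, ?_⟩
    rw [← hn', _root_.inv_inv]
    group
  have hw : ((i ▷ G) ≫ μ[G]) ≫ q = snd H G ≫ q := by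
    have h1 := (hrel (fst H G) (snd H G)).symm
    rw [← hl] at h1
    simpa using h1
  have hex : ∀ {T : Over S} (a b : T ⟶ G), a ≫ q = b ≫ q → ∃ y : T ⟶ H, a = (y ≫ i) * b := by
    intro T a b hab
    obtain ⟨y, hy⟩ := (h T b a).1 hab.symm
    obtain ⟨n, hn'⟩ := hn T b y
    refine ⟨n, ?_⟩
    rw [← hn', hy]
    group
  refine ⟨⟨hw⟩, ⟨PullbackCone.IsLimit.mk hw
    (fun c => lift (hex _ _ c.condition).choose c.snd) (fun c => ?_) (fun c => lift_snd _ _) ?_⟩⟩
  · rw [hl]
    exact (hex _ _ c.condition).choose_spec.symm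
  · intro c m h1 h2
    apply CartesianMonoidalCategory.hom_ext
    · rw [lift_fst, ← cancel_mono i]
      have h3 := (hex _ _ c.condition).choose_spec
      have h4 : m = lift (m ≫ fst H G) (m ≫ snd H G) := by
        apply CartesianMonoidalCategory.hom_ext <;> simp
      rw [h4, hl, h2] at h1
      rw [h3] at h1
      exact mul_right_cancel h1
    · rw [lift_snd, h2]

open CartesianMonoidalCategory in
theorem grpObj_unique {S : Scheme.{u}} {G Q : Over S} [hG : GrpObj G]
    (q : G ⟶ Q) [Epi q] [Epi (q ⊗ₘ q)] (s s' : GrpObj Q)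
    (h : @IsMonHom (Over S) _ _ G Q hG.toMonObj s.toMonObj q)
    (h' : @IsMonHom (Over S) _ _ G Q hG.toMonObj s'.toMonObj q) : s = s' := by
  have e0 : s.toMonObj = s'.toMonObj := by
    have m1 := @IsMonHom.mul_hom (Over S) _ _ G Q hG.toMonObj s.toMonObj q h
    have m2 := @IsMonHom.mul_hom (Over S) _ _ G Q hG.toMonObj s'.toMonObj q h'
    exact MonObj.ext _ _ (by rw [← cancel_epi (q ⊗ₘ q), ← m1, m2])
  exact GrpObj.toMonObj_injective e0

/-- For group schemes and the fppf topology: if `i : H ⟶ G` is a normal monomorphism of `S`-group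
schemes and `q : G ⟶ Q` exhibits `Q` as the fppf quotient `G/H`, then there is exactly one
group-scheme structure on `Q` over `S` making `q` a homomorphism. -/
theorem result {S : Scheme.{u}} {H G Q : Over S} [GrpObj H] [hG : GrpObj G]
    (i : H ⟶ G) [IsMonHom i] [Mono i] (hn : AlgGrp.IsNormalHom i)
    (q : G ⟶ Q) (hq : RedSub.IsQuotient i q) :
    ∃! s : GrpObj Q, @IsMonHom (Over S) _ _ G Q hG.toMonObj s.toMonObj q := by
  have hepi := Groth.Agent.RedSub.H650.QuotPts.epi_of_isQuotient hq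
  have h1 := hq.1
  have h2 := hq.2.1
  have h3 := hq.2.2.1
  have f2 : Flat (q ⊗ₘ q).left :=
    Groth.Agent.Sga3C.QuotProps.tensorHom_left_of (@Flat) q q ‹_› ‹_›
  have s2 : Surjective (q ⊗ₘ q).left :=
    Groth.Agent.Sga3C.QuotProps.tensorHom_left_of (@Surjective) q q ‹_› ‹_›
  have hepi2 : Epi (q ⊗ₘ q) := Groth.Agent.Sga3C.QuotProps.epi_of_flat_surjective _
  obtain ⟨s, hs⟩ := Groth.Agent.Sga3C.QuotProps.exists_grpObj_quotient i q
    (isPullback_left i hn q (Groth.Agent.RedSub.H650.QuotPts.ptQuot_of_isPullback hq.2.2.2)) hn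
  exact ⟨s, hs, fun s' hs' => grpObj_unique q s' s hs' hs⟩

end Groth.Agent.S5236
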