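import Groth.Statements.S13731
import Groth.Agent.S14770
import Groth.Agent.Subtr.K835.Basic

set_option autoImplicit false
universe u
open HTop

namespace Groth.Agent.S13731

open CategoryTheory CategoryTheory.Limits AlgebraicGeometry

theorem exists_sigmaι {ι : Type u} (Z : ι → Scheme.{u}) (a : ↑(∐ Z)) :
    ∃ (i : ι) (b : Z i), Sigma.ι Z i b = a := by
  obtain ⟨i, v, h⟩ := (sigmaOpenCover Z).exists_eq a
  exact ⟨i, v, h⟩

theorem quasiCompact_sigmaDesc {ι : Type u} [Finite ι] {Z : ι → Scheme.{u}} {X : Scheme.{u}}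
    (f : ∀ i, Z i ⟶ X) [∀ i, QuasiCompact (f i)] : QuasiCompact (Sigma.desc f) := by
  refine ⟨fun U hU hU' => ?_⟩
  have h : (Sigma.desc f) ⁻¹' U = ⋃ i, (Sigma.ι Z i) '' ((f i) ⁻¹' U) := by
    ext a
    rw [Set.mem_iUnion]
    constructor
    · intro ha
      obtain ⟨i, b, rfl⟩ := exists_sigmaι Z a
      refine ⟨i, b, ?_, rfl⟩
      change f i b ∈ U
      have h1 : (Sigma.ι Z i ≫ Sigma.desc f) b ∈ U := ha
      rwa [Sigma.ι_desc] at h1
    · rintro ⟨i, b, hb, rfl⟩
      change (Sigma.ι Z i ≫ Sigma.desc f) b ∈ U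
      rw [Sigma.ι_desc]
      exact hb
  rw [h]
  exact isCompact_iUnion fun i => (QuasiCompact.isCompact_preimage (f := f i) U hU hU').image (Sigma.ι Z i).continuous

/-- A pair of points of a coproduct of schemes related by specialization lies in one of the terms. -/
theorem exists_pair {ι : Type u} (Z : ι → Scheme.{u}) {a' a : ↑(∐ Z)} (h : a' ⤳ a) :
    ∃ (i : ι) (b' b : Z i), b' ⤳ b ∧ Sigma.ι Z i b' = a' ∧ Sigma.ι Z i b = a := by
  obtain ⟨i, b, hb⟩ := exists_sigmaι Z a
  have h1 : a' ∈ (Sigma.ι Z i).opensRange := h.mem_open (Sigma.ι Z i).opensRange.2 ⟨b, hb⟩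
  obtain ⟨b', hb'⟩ := h1
  refine ⟨i, b', b, ?_, hb', hb⟩
  rw [← (Sigma.ι Z i).isOpenEmbedding.isInducing.specializes_iff]
  rw [hb', hb]
  exact h

/-- Lifting of specializations along the members of a finite universally submersive family over a locally
Noetherian scheme. -/
theorem exists_lift {X : Scheme.{u}} [IsLocallyNoetherian X] (E : PreZeroHypercover.{u} X)
    [Finite E.I₀] [∀ i, QuasiCompact (E.f i)] (hE : SGA1.UnivSubmersive (Sigma.desc E.f)) {x' x : X}
    (h : x' ⤳ x) : ∃ (i : E.I₀) (ξ u : E.X i), ξ ⤳ u ∧ E.f i ξ = x' ∧ E.f i u = x := by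
  have hqc : QuasiCompact (Sigma.desc E.f) := quasiCompact_sigmaDesc E.f
  have h1 := (Groth.Agent.S14770.result (Sigma.desc E.f)).1 hE
  obtain ⟨a, a', haa, ha, ha'⟩ := K835.Basic.isSS h1 h
  obtain ⟨i, ξ, u, hξ, h2, h3⟩ := exists_pair E.X haa
  refine ⟨i, ξ, u, hξ, ?_, ?_⟩
  · rw [← ha', ← h2, ← Scheme.Hom.comp_apply, Sigma.ι_desc]
  · rw [← ha, ← h3, ← Scheme.Hom.comp_apply, Sigma.ι_desc]

open CategoryTheory CategoryTheory.Limits AlgebraicGeometry in
/-- Let X be a separated Noetherian scheme and {p_i : U_i → X} a finite family of separated morphisms of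
finite type whose induced morphism from the disjoint union of the U_i to X is universally submersive
(an h-covering). Then every point x of X is p_i(u) for some i and some point u of U_i admitting a
generization ξ in U_i whose image p_i(ξ) is a generic point of an irreducible component of X.
Equivalently, the irreducible components of the U_i dominating an irreducible component of X jointly
cover X. -/
theorem result {X : Scheme.{u}} [IsNoetherian X] [X.IsSeparated] (E : PreZeroHypercover.{u} X) [Finite E.I₀] [∀ i, LocallyOfFiniteType (E.f i)] [∀ i, QuasiCompact (E.f i)] [∀ i, IsSeparated (E.f i)] (hE : SGA1.UnivSubmersive (Sigma.desc E.f)) (x : X) : ∃ (i : E.I₀) (ξ u : E.X i), ξ ⤳ u ∧ E.f i u = x ∧ closure {E.f i ξ} ∈ irreducibleComponents ↥X := by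
  let C := irreducibleComponent x
  have hC : C ∈ irreducibleComponents X := irreducibleComponent_mem_irreducibleComponents x
  obtain ⟨η, hη⟩ := QuasiSober.sober hC.1 (isClosed_of_mem_irreducibleComponents C hC)
  have hηx : η ⤳ x := by
    rw [specializes_iff_mem_closure, hη]
    exact mem_irreducibleComponent
  obtain ⟨i, ξ, u, h1, h2, h3⟩ := exists_lift E hE hηx
  refine ⟨i, ξ, u, h1, h3, ?_⟩
  rw [h2, hη]
  exact hC

end Groth.Agent.S13731
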