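import Groth.Statements.S5515
import Groth.Agent.S3963
import Groth.Agent.S4116
import Groth.Agent.Sga3.H799.Transp
import Groth.Agent.Redsub.H673.SolvBor
import Groth.Agent.RedSub.H645.ConjEqIff

set_option autoImplicit false
open CategoryTheory MonoidalCategory CartesianMonoidalCategory MonObj GrpObj AlgebraicGeometry
universe u
open RedSub

namespace Groth.Agent.S5515

open Groth.Agent Groth.Agent.Sga3B Groth.Agent.RedSub.H645.ConjEqIff

/-- A factor of a homomorphism through a monomorphism of groups is a homomorphism. -/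
lemma isMonHom_of_mono {S : Scheme.{u}} {G H T : Over S} [GrpObj G] [GrpObj H] [GrpObj T] (τ : T ⟶ H)
    (i : H ⟶ G) [IsMonHom i] [Mono i] (h : IsMonHom (τ ≫ i)) : IsMonHom τ where
  one_hom := by
    rw [← cancel_mono i, Category.assoc, IsMonHom.one_hom (τ ≫ i), IsMonHom.one_hom i]
  mul_hom := by
    rw [← cancel_mono i, Category.assoc, IsMonHom.mul_hom (τ ≫ i), Category.assoc, IsMonHom.mul_hom i,
      tensorHom_comp_tensorHom_assoc]

/-- `RedSub.ConjEq` is stable under restriction. -/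
lemma conjEq_comp {S : Scheme.{u}} {G P Q : Over S} [GrpObj G] {p : P ⟶ G} {q : Q ⟶ G} {X Y : Over S}
    (y : Y ⟶ X) {g : X ⟶ G} (h : RedSub.ConjEq p q g) : RedSub.ConjEq p q (y ≫ g) := by
  intro X' x
  have := h X' (x ≫ y)
  simpa only [Category.assoc] using this

/-- Conjugation by a product. -/
lemma conjEq_mul {S : Scheme.{u}} {G P Q R : Over S} [GrpObj G] {p : P ⟶ G} {q : Q ⟶ G} {r : R ⟶ G}
    {X : Over S} {g g' : X ⟶ G} (h : RedSub.ConjEq p q g) (h' : RedSub.ConjEq q r g') :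
    RedSub.ConjEq p r (g' * g) := by
  intro X' x
  constructor
  · intro w
    obtain ⟨w₁, hw₁⟩ := (h X' x).1 w
    obtain ⟨w₂, hw₂⟩ := (h' X' x).1 w₁
    refine ⟨w₂, ?_⟩
    rw [← hw₂, ← hw₁, MonObj.comp_mul]
    group
  · intro w
    obtain ⟨w₁, hw₁⟩ := (h' X' x).2 w
    obtain ⟨w₂, hw₂⟩ := (h X' x).2 w₁
    refine ⟨w₂, ?_⟩
    rw [← hw₂, ← hw₁, MonObj.comp_mul]
    group

/-- Conjugacy in a subgroup. -/
lemma conjEq_sub {S : Scheme.{u}} {G B P Q : Over S} [GrpObj G] [GrpObj B] (i : B ⟶ G) [IsMonHom i]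
    {p : P ⟶ B} {q : Q ⟶ B} {X : Over S} {g : X ⟶ B} (h : RedSub.ConjEq p q g) :
    RedSub.ConjEq (p ≫ i) (q ≫ i) (g ≫ i) := by
  intro X' x
  constructor
  · intro w
    obtain ⟨w₁, hw₁⟩ := (h X' x).1 w
    refine ⟨w₁, ?_⟩
    rw [← Category.assoc, ← Category.assoc, ← GrpObj.inv_comp, ← MonObj.mul_comp, ← MonObj.mul_comp, hw₁,
      Category.assoc]
  · intro w
    obtain ⟨w₁, hw₁⟩ := (h X' x).2 w
    refine ⟨w₁, ?_⟩
    rw [← Category.assoc, ← Category.assoc, ← GrpObj.inv_comp, ← MonObj.mul_comp, ← MonObj.mul_comp, hw₁,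
      Category.assoc]

/-- A point of a subgroup normalises it. -/
lemma conjEq_self {S : Scheme.{u}} {G B : Over S} [GrpObj G] [GrpObj B] (i : B ⟶ G) [IsMonHom i]
    {X : Over S} (g : X ⟶ B) : RedSub.ConjEq i i (g ≫ i) := by
  have h1 : RedSub.ConjEq (𝟙 B) (𝟙 B) g := by
    intro X' x
    exact ⟨fun w => ⟨(x ≫ g) * w * (x ≫ g)⁻¹, by rw [Category.comp_id, Category.comp_id]⟩,
      fun w => ⟨(x ≫ g)⁻¹ * w * (x ≫ g), by rw [Category.comp_id, Category.comp_id]⟩⟩
  have h2 := conjEq_sub i h1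
  rwa [Category.id_comp] at h2

/-- `SGA3x.ConjBy` implies `RedSub.ConjEq`. -/
lemma conjEq_of_conjBy {S : Scheme.{u}} {G P Q : Over S} [GrpObj G] {p : P ⟶ G} {q : Q ⟶ G}
    {g : 𝟙_ (Over S) ⟶ G} (h : SGA3x.ConjBy p q g) : RedSub.ConjEq p q g := by
  obtain ⟨φ, hφ⟩ := h
  intro X' x
  have hx : x = toUnit X' := toUnit_unique _ _
  subst hx
  constructor
  · intro w
    refine ⟨w ≫ φ.hom, ?_⟩
    have h1 := congrArg (fun k => w ≫ k) hφ
    simp only [MonObj.comp_mul, GrpObj.comp_inv, ← Category.assoc] at h1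
    rw [comp_toUnit] at h1
    exact h1
  · intro w
    refine ⟨w ≫ φ.inv, ?_⟩
    have h1 := congrArg (fun k => (w ≫ φ.inv) ≫ k) hφ
    simp only [MonObj.comp_mul, GrpObj.comp_inv, ← Category.assoc] at h1
    rw [comp_toUnit, Category.assoc w φ.inv φ.hom, Iso.inv_hom_id, Category.comp_id] at h1
    rw [← h1]
    group

/-- For a reductive S-group G. Two Killing pairs T ⊆ B and T' ⊆ B' of G (B, B' Borel subgroups in the
sense of the source, T, T' maximal tori of G contained in them) are conjugate locally for the etale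
topology on S: every point of S lies in the image of an etale morphism U ⟶ S over which one U-point
of G conjugates B_U onto B'_U and T_U onto T'_U. -/
theorem result {S : Scheme.{u}} {G B B' T T' : Over S} [GrpObj G] [GrpObj B] [GrpObj B']
    [GrpObj T] [GrpObj T'] (hG : Red.IsReductive G) (i : B ⟶ G) (i' : B' ⟶ G) (hB : RedSub.IsBorelSub i)
    (hB' : RedSub.IsBorelSub i') (t : T ⟶ B) (t' : T' ⟶ B') [IsMonHom t] [IsMonHom t']
    (hT : Red.IsMaximalTorus (t ≫ i)) (hT' : Red.IsMaximalTorus (t' ≫ i')) (s : S) :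
    ∃ (U : Scheme.{u}) (f : U ⟶ S) (_ : Etale f), s ∈ Set.range f.base ∧
      ∃ g : 𝟙_ _ ⟶ Red.bc f G, RedSub.ConjEq ((Over.pullback f).map i) ((Over.pullback f).map i') g ∧
        RedSub.ConjEq ((Over.pullback f).map (t ≫ i)) ((Over.pullback f).map (t' ≫ i')) g := by
  obtain ⟨U, f, hf, ⟨u, hu⟩, g₁, hg₁⟩ := S3963.result hG i i' hB hB' s
  have hi : IsMonHom i := hB.1.1.1
  have hi' : IsMonHom i' := hB'.1.1.1
  have himm : IsImmersion i'.left := hB'.1.1.2
  have hm' : Mono i'.left := inferInstance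
  have hm : Mono i' := Over.mono_of_mono_left i'
  obtain ⟨τ, hτ⟩ := (hg₁ (Red.bc f T) (toUnit _)).1 ((Over.pullback f).map t)
  -- the conjugate of `T` is a maximal torus of `B'`
  have h1 : τ ≫ (Over.pullback f).map i' = (Over.pullback f).map (t ≫ i) ≫ Sga3.H799.Ev.conj g₁ := by
    rw [Sga3.H799.Ev.comp_conj, (Over.pullback f).map_comp, hτ]
  have hτT : Red.IsMaximalTorus (τ ≫ (Over.pullback f).map i') := by
    rw [h1]
    exact Sga3.H799.Transp.isMaximalTorus_conj (AlgBc.isMaximalTorus_bc f hT) g₁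
  have hmb : Mono ((Over.pullback f).map i') := inferInstance
  have hτm : IsMonHom τ := isMonHom_of_mono τ ((Over.pullback f).map i') hτT.1
  have hτ' : Red.IsMaximalTorus τ := Redsub.H673.SolvBor.isMaximalTorus_of_comp τ _ hτT
  have ht' : Red.IsMaximalTorus ((Over.pullback f).map t') :=
    AlgBc.isMaximalTorus_bc f (Redsub.H673.SolvBor.isMaximalTorus_of_comp t' i' hT')
  have e1 : Smooth B'.hom := hB'.1.2.1
  have e2 : QuasiCompact B'.hom := hB'.1.2.2.1
  have e3 : IsSeparated B'.hom := by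
    have := hG.1
    rw [← Over.w i']
    infer_instance
  have e1' : Smooth (Red.bc f B').hom := inferInstanceAs (Smooth (Limits.pullback.snd _ _))
  have e2' : QuasiCompact (Red.bc f B').hom := inferInstanceAs (QuasiCompact (Limits.pullback.snd _ _))
  have e3' : IsSeparated (Red.bc f B').hom := inferInstanceAs (IsSeparated (Limits.pullback.snd _ _))
  obtain ⟨U', f', hf', hs', g₂, hg₂⟩ := S4116.result U (Red.bc f B') (Red.bc f T) (Red.bc f T') τ
    ((Over.pullback f).map t') hτ' ht'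
  obtain ⟨u', hu'⟩ := hs'.surj u
  have h2 := (conjEq_bc_iff f' g₂).1 (conjEq_of_conjBy hg₂)
  let Z : Over U := (Over.map f').obj (𝟙_ (Over U'))
  let b : Z ⟶ Red.bc f B' := (DSPts.bcEquiv f' (𝟙_ (Over U')) (Red.bc f B')).symm g₂
  let g : Z ⟶ Red.bc f G := (b ≫ (Over.pullback f).map i') * (toUnit Z ≫ g₁)
  have h3 : RedSub.ConjEq ((Over.pullback f).map i) ((Over.pullback f).map i') g :=
    conjEq_mul (conjEq_comp _ hg₁) (conjEq_self _ b)
  have h4 : RedSub.ConjEq ((Over.pullback f).map (t ≫ i)) ((Over.pullback f).map (t' ≫ i')) g := by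
    have h5 : RedSub.ConjEq ((Over.pullback f).map (t ≫ i)) (τ ≫ (Over.pullback f).map i') g₁ := by
      intro X' x
      have hx : x = toUnit X' := toUnit_unique _ _
      subst hx
      have h6 : ∀ w : X' ⟶ Red.bc f T, (toUnit X' ≫ g₁) * (w ≫ (Over.pullback f).map (t ≫ i)) *
          (toUnit X' ≫ g₁)⁻¹ = w ≫ τ ≫ (Over.pullback f).map i' := by
        intro w
        rw [h1, ← Category.assoc, Sga3.H799.Ev.comp_conj]
      exact ⟨fun w => ⟨w, h6 w⟩, fun w => ⟨w, by rw [← h6 w]; group⟩⟩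
    rw [(Over.pullback f).map_comp t' i']
    exact conjEq_mul (conjEq_comp _ h5) (conjEq_sub _ h2)
  let c : (Over.map (f' ≫ f)).obj (𝟙_ (Over U')) ⟶ (Over.map f).obj Z := Over.homMk (𝟙 U') (by
    change 𝟙 _ ≫ (𝟙 _ ≫ f') ≫ f = 𝟙 _ ≫ f' ≫ f
    simp)
  refine ⟨U', f' ≫ f, inferInstance, ⟨u', ?_⟩, DSPts.bcEquiv (f' ≫ f) _ G (c ≫ (DSPts.bcEquiv f Z G).symm g),
    ?_, ?_⟩
  · rw [← hu, ← hu']
    rfl
  · rw [conjEq_bc_iff, MulEquiv.symm_apply_apply]
    exact conjEq_comp _ ((conjEq_bc_iff f g).1 h3)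
  · rw [conjEq_bc_iff, MulEquiv.symm_apply_apply]
    exact conjEq_comp _ ((conjEq_bc_iff f g).1 h4)

end Groth.Agent.S5515
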