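import Groth.Statements.S5517
import Groth.Agent.Sga3B.SplitFin885

set_option autoImplicit false
open CategoryTheory MonoidalCategory CartesianMonoidalCategory MonObj GrpObj AlgebraicGeometry
universe u
open RedSub

namespace Groth.Agent.S5517

open Groth.Agent.Sga3B Groth.Agent.Sga3B.BcIso Groth.Agent.Sga3B.RedIso Groth.Agent.Sga3B.ResAlg
  Groth.Agent.Sga3B.SplitIso848

/-- Base change of a splitting with prescribed torus. -/
theorem transfer {S U V : Scheme.{u}} (v : U ⟶ S) (w : V ⟶ U) [AlgRes w] (r : V ⟶ S) (hr : w ≫ v = r)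
    {G T : Over S} [GrpObj G] [GrpObj T] (i : T ⟶ G) (D : Red.SplitRed (Red.bc v G)) (e : D.T ≅ Red.bc v T)
    (he : D.i = e.hom ≫ (Over.pullback v).map i) :
    ∃ (D' : Red.SplitRed (Red.bc r G)) (e' : D'.T ≅ Red.bc r T), D'.i = e'.hom ≫ (Over.pullback r).map i := by
  subst hr
  refine ⟨splitOfIso (bcCompIso w v G).symm (SplitBc.bcSplit w D),
    (Over.pullback w).mapIso e ≪≫ und (bcCompIso w v T).symm, ?_⟩
  have h1 := SplitGlue904.bcCompIso_naturality w v i
  have h3 : (bcCompIso w v G).hom.hom.hom ≫ (bcCompIso w v G).inv.hom.hom = 𝟙 _ :=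
    congrArg (fun z => z.hom.hom) (bcCompIso w v G).hom_inv_id
  have h4 : (bcCompIso w v T).inv.hom.hom ≫ (bcCompIso w v T).hom.hom.hom = 𝟙 _ :=
    congrArg (fun z => z.hom.hom) (bcCompIso w v T).inv_hom_id
  change (Over.pullback w).map D.i ≫ (bcCompIso w v G).inv.hom.hom =
    ((Over.pullback w).map e.hom ≫ (bcCompIso w v T).inv.hom.hom) ≫ (Over.pullback (w ≫ v)).map i
  have h5 : (Over.pullback w).map ((Over.pullback v).map i) ≫ (bcCompIso w v G).inv.hom.hom =
      (bcCompIso w v T).inv.hom.hom ≫ (Over.pullback (w ≫ v)).map i := by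
    have h6 : (bcCompIso w v T).inv.hom.hom ≫ (Over.pullback (w ≫ v)).map i ≫
        (bcCompIso w v G).hom.hom.hom ≫ (bcCompIso w v G).inv.hom.hom =
        (bcCompIso w v T).inv.hom.hom ≫ (Over.pullback (w ≫ v)).map i := by
      rw [h3, Category.comp_id]
    rw [← h6, reassoc_of% h1, ← Category.assoc, h4, Category.id_comp]
  rw [he, Functor.map_comp, Category.assoc, Category.assoc, h5]

/-- Let G be a reductive S-group and i : T ⟶ G a maximal torus which is split (T ≅ D_S(M) as groups, M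
finitely generated free). Then G is splittable relative to T Zariski-locally on S: every point s of
S has an open neighbourhood U such that G_U admits a splitting whose maximal torus is T_U with
inclusion i_U. -/
theorem result {S : Scheme.{u}} {G T : Over S} [GrpObj G] [GrpObj T]
    (hG : Red.IsReductive G) (i : T ⟶ G) (hT : Red.IsMaximalTorus i) (M : Type) [AddCommGroup M] [Module.Finite ℤ M]
    [Module.Free ℤ M] (hsplit : Red.IsSplitTorusWith M T) (s : S) :
    ∃ U : S.Opens, s ∈ U ∧ ∃ (D : Red.SplitRed (Red.bc U.ι G)) (e : D.T ≅ Red.bc U.ι T),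
      D.i = e.hom ≫ (Over.pullback U.ι).map i := by
  obtain ⟨e₀⟩ := hsplit
  obtain ⟨R, v, hv, hs, D, τ, hτ⟩ := SplitFin885.splitT hG i hT e₀ s
  refine ⟨v.opensRange, hs, ?_⟩
  refine transfer v v.isoOpensRange.inv _ (by simp) i D (und τ.symm) ?_
  have h3 : τ.inv.hom.hom ≫ τ.hom.hom.hom = 𝟙 _ := congrArg (fun z => z.hom.hom) τ.inv_hom_id
  rw [hτ]
  change D.i = τ.inv.hom.hom ≫ τ.hom.hom.hom ≫ D.i
  rw [← Category.assoc, h3, Category.id_comp]

end Groth.Agent.S5517
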