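import Groth.Statements.S8480
import Groth.Agent.Red.K214.ChevComm
import Groth.Agent.Red.K214.ChainComb
import Groth.Agent.Red.K214.EmptyBase
import Groth.Agent.Sga3B.SplitRedField415
import Groth.Agent.Sga3B.BaseZ

set_option autoImplicit false
universe u
open CategoryTheory MonoidalCategory CartesianMonoidalCategory MonObj GrpObj AlgebraicGeometry CategoryTheory.Limits
open Red

namespace Groth.Agent.S8480

/-- The case (p, q) = (1,2) of the table. Let G be a split reductive S-group with splitting D (torus T ≅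
D_S(M), root datum) and a Chevalley system at the level of root groups: for every root c a root
homomorphism v_c : 𝔾_a ⟶ G (normalised by T through the character of c) with a dual root
homomorphism v_c⁻ (v_c(x) v_c⁻(y) = v_c⁻(y/(1+xy)) c^∨(1+xy) v_c(x/(1+xy)) for 1 + xy invertible),
such that with n_c = v_c(1) v_c⁻(1)⁻¹ v_c(1) one has, for all roots c, b, n_c v_b(x) n_c⁻¹ =
v_{s_c(b)}(± x) for a sign depending on (c, b). Let a, b be two linearly independent roots with |⟨a,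
b^∨⟩| ≤ |⟨b, a^∨⟩| (a is not longer than b). Suppose b - a is not a root, a + b and 2a + b are roots
with indices c₁, c₂, and 3a + b is not a root. Then there are signs ε₁, ε₂ ∈ {1, -1} with v_b(y)
v_a(x) v_b(y)⁻¹ v_a(x)⁻¹ = v_{c₁}(ε₁ x y) v_{c₂}(ε₂ x² y) for all points x, y of 𝔾_a. -/
theorem result (S : Scheme.{u}) (e₁ : 𝟙_ (Over S) ⟶ Red.Ga S) (he₁ : Red.gaFn e₁ = 1)
    (G : Over S) [GrpObj G] (D : Red.SplitRed G)
    (avc : D.idx → (Red.Gm S ⟶ D.T))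
    (havc : ∀ a, avc a = Red.DSmap S (D.P.coroot a).toAddMonoidHom ≫ D.split.inv.hom.hom)
    (v vd : D.idx → (Red.Ga S ⟶ G)) (hv : ∀ c, Red.IsRootHom D.i (D.split.hom.hom.hom ≫ Red.chi S (D.P.root c)) (v c))
    (hvd : ∀ c, IsMonHom (vd c) ∧ ∀ (X : Over S) (x y : X ⟶ Red.Ga S), IsUnit (1 + Red.gaFn x * Red.gaFn y) →
        ∃ (x' y' : X ⟶ Red.Ga S) (z : X ⟶ Red.Gm S), Red.gmFn z = 1 + Red.gaFn x * Red.gaFn y ∧
          Red.gaFn x' * Red.gmFn z = Red.gaFn x ∧ Red.gaFn y' * Red.gmFn z = Red.gaFn y ∧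
          (x ≫ v c) * (y ≫ vd c) = (y' ≫ vd c) * (z ≫ avc c ≫ D.i) * (x' ≫ v c))
    (n : D.idx → (𝟙_ (Over S) ⟶ G)) (hn : ∀ c, n c = (e₁ ≫ v c) * (e₁ ≫ vd c)⁻¹ * (e₁ ≫ v c))
    (hSC : ∀ c b, ∃ ε : ℤ, (ε = 1 ∨ ε = -1) ∧ ∀ (X : Over S) (x y : X ⟶ Red.Ga S),
      Red.gaFn y = (ε : Γ(X.left, ⊤)) * Red.gaFn x →
        (toUnit X ≫ n c) * (x ≫ v b) * (toUnit X ≫ n c)⁻¹ = y ≫ v (D.P.reflectionPerm c b))
    (a b : D.idx) (hind : ∀ r s : ℤ, r • D.P.root a + s • D.P.root b = 0 → r = 0 ∧ s = 0)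
    (hlen : |D.P.pairing a b| ≤ |D.P.pairing b a|)
    (hm : D.P.root b - D.P.root a ∉ Set.range D.P.root) (c₁ c₂ : D.idx) (hc₁ : D.P.root c₁ = D.P.root a + D.P.root b)
    (hc₂ : D.P.root c₂ = (2 : ℤ) • D.P.root a + D.P.root b) (hq : D.P.root b + (3 : ℤ) • D.P.root a ∉ Set.range D.P.root) :
    ∃ ε₁ ε₂ : ℤ, (ε₁ = 1 ∨ ε₁ = -1) ∧ (ε₂ = 1 ∨ ε₂ = -1) ∧ ∀ (X : Over S) (x y z₁ z₂ : X ⟶ Red.Ga S),
      Red.gaFn z₁ = (ε₁ : Γ(X.left, ⊤)) * Red.gaFn x * Red.gaFn y →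
      Red.gaFn z₂ = (ε₂ : Γ(X.left, ⊤)) * Red.gaFn x ^ 2 * Red.gaFn y → (y ≫ v b) * (x ≫ v a) * (y ≫ v b)⁻¹ * (x ≫ v a)⁻¹ = (z₁ ≫ v c₁) * (z₂ ≫ v c₂) := by
  rcases isEmpty_or_nonempty S with hS | hS
  · exact ⟨1, 1, Or.inl rfl, Or.inl rfl, fun X _ _ _ _ _ _ =>
      (K214.EmptyBase.subsingleton_hom X G).elim _ _⟩
  obtain ⟨σ, H⟩ := K214.ChevDual.exists_chv e₁ he₁ D avc havc v vd hv hvd n hn hSC
  have hred := Groth.Agent.Sga3B.SplitReduced415.isReduced D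
  obtain ⟨Δ⟩ := Groth.Agent.Sga3B.BaseZ.nonempty_base D.P
  obtain ⟨p, q, hpq, hch⟩ := K214.ChainComb.chain (P := D.P) (a := a) (b := b) hind
  have k1 := (hch (-1)).not.mp (fun h => hm (by
    rw [show D.P.root b - D.P.root a = D.P.root b + (-1 : ℤ) • D.P.root a by module]; exact h))
  have k2 := (hch 2).mp ⟨c₂, by rw [hc₂, add_comm]⟩
  have k3 := (hch 3).not.mp hq
  have pba : D.P.pairing b a = -2 := by omega
  obtain ⟨-, -, hp2, -⟩ := K214.ChainComb.pair_cases (P := D.P) (a := a) (b := b) hind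
  have pab := hp2 pba
  have e1 : D.P.reflectionPerm b a = c₁ := by
    apply D.P.root.injective
    rw [D.P.root_reflectionPerm, D.P.reflection_apply_root, pab, hc₁]; module
  have e2 : D.P.reflectionPerm a b = c₂ := by
    apply D.P.root.injective
    rw [D.P.root_reflectionPerm, D.P.reflection_apply_root, pba, hc₂]; module
  refine ⟨σ b a, -σ a b, H.sgn b a, by have := H.sgn a b; omega, fun X x y z₁ z₂ h₁ h₂ => ?_⟩
  have key := (K214.ChevComm.b2_pts H Δ ⟨hind, hm⟩ pba pab X (Red.gaFn x) (Red.gaFn y)).1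
  rw [e1, e2, K214.FnForm.V_gaFn, K214.FnForm.V_gaFn] at key
  rw [K214.FnForm.V_of_eq (v c₁) h₁, K214.FnForm.V_of_eq (v c₂) h₂, key]
  push_cast
  congr 2 <;> ring

end Groth.Agent.S8480
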