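import Groth.Statements.S5532
import Groth.Agent.RedSub.K194.TUAll

set_option autoImplicit false
open CategoryTheory MonoidalCategory CartesianMonoidalCategory MonObj GrpObj AlgebraicGeometry
universe u
open RedSub

namespace Groth.Agent.S5532

/-- Let G be a reductive S-group, T a maximal torus and U a sub-group-scheme of G, smooth over S, whose
geometric fibres are connected and contain no non-trivial subtorus, and which is normalised by T.
Then there is a subgroup H of type (R) of G with solvable geometric fibres, containing T and U, such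
that U is the unipotent radical of H and multiplication T x_S U ⟶ H is an isomorphism. -/
theorem result {S : Scheme.{u}} {G T U : Over S} [GrpObj G]
    [GrpObj T] [GrpObj U] (hG : Red.IsReductive G) (i : T ⟶ G) (hT : Red.IsMaximalTorus i) (j : U ⟶ G)
    (hU : RedSub.IsSubgrp j) [Smooth U.hom]
    (hfib : ∀ s : S, ConnectedSpace ↥(Red.geomFibre s U).left ∧
      Red.HasNoSubtorus (AlgebraicClosure (S.residueField s)) (Red.geomFibre s U))
    (hnorm : ∀ (X : Over S) (x : X ⟶ T) (y : X ⟶ U), ∃ y' : X ⟶ U, (x ≫ i) * (y ≫ j) * (x ≫ i)⁻¹ = y' ≫ j) :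
    ∃ (H : Over S) (_ : GrpObj H) (h : H ⟶ G) (t : T ⟶ H) (u : U ⟶ H), RedSub.IsTypeR h ∧
      (∀ s : S, Red.IsSolvableGrp (Red.geomFibre s H)) ∧ t ≫ h = i ∧ u ≫ h = j ∧ IsMonHom t ∧ IsMonHom u ∧
      Par.IsUnipotentRadical u ∧ IsIso ((t ⊗ₘ u) ≫ μ[H]) := by
  exact K194.TUAll.exists_all hG i hT j hU hfib hnorm

end Groth.Agent.S5532
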