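import Groth.Statements.S5237
import Groth.Agent.RedSub.H650.QuotPts
import Groth.Agent.Sga3C.QuotProps

set_option autoImplicit false
open CategoryTheory CategoryTheory.Limits AlgebraicGeometry MonoidalCategory
universe u
open RedSub

namespace Groth.Agent.S5237

open MonObj GrpObj CartesianMonoidalCategory in
/-- For group schemes and the fppf topology: if `q : G ⟶ Q = G/H` is the fppf quotient of `G` by a
normal subgroup `H`, with its group structure, then a homomorphism `G ⟶ K` that kills `H` factors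
uniquely through `q`, and the factorisation is a homomorphism. -/
theorem result {S : Scheme.{u}} {H G Q K : Over S}
    [GrpObj H] [GrpObj G] [GrpObj Q] [GrpObj K]
    (i : H ⟶ G) [IsMonHom i] [Mono i] (hn : AlgGrp.IsNormalHom i)
    (q : G ⟶ Q) [IsMonHom q] (hq : RedSub.IsQuotient i q)
    (f : G ⟶ K) [IsMonHom f] (hf : i ≫ f = 1) :
    ∃! g : Q ⟶ K, q ≫ g = f ∧ IsMonHom g := by
  have hepi := Groth.Agent.RedSub.H650.QuotPts.epi_of_isQuotient hq
  obtain ⟨g, hg⟩ := Groth.Agent.RedSub.H650.QuotPts.exists_desc hq f (fun T a y => by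
    rw [MonObj.mul_comp, Category.assoc, hf, MonObj.comp_one]; exact _root_.mul_one _)
  have h1 := hq.1
  have h2 := hq.2.1
  have f2 : Flat (q ⊗ₘ q).left :=
    Groth.Agent.Sga3C.QuotProps.tensorHom_left_of (@Flat) q q ‹_› ‹_›
  have s2 : Surjective (q ⊗ₘ q).left :=
    Groth.Agent.Sga3C.QuotProps.tensorHom_left_of (@Surjective) q q ‹_› ‹_›
  have hepi2 : Epi (q ⊗ₘ q) := Groth.Agent.Sga3C.QuotProps.epi_of_flat_surjective _
  refine ⟨g, ⟨hg, ⟨?_, ?_⟩⟩, fun g' hg' => ?_⟩
  · have e1 : η[Q] = η[G] ≫ q := (IsMonHom.one_hom q).symm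
    rw [e1, Category.assoc, hg, IsMonHom.one_hom]
  · rw [← cancel_epi (q ⊗ₘ q), ← Category.assoc, ← IsMonHom.mul_hom q, Category.assoc, hg,
      IsMonHom.mul_hom f, ← Category.assoc, MonoidalCategory.tensorHom_comp_tensorHom, hg]
  · rw [← cancel_epi q, hg'.1, hg]

end Groth.Agent.S5237
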