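import Groth.Statements.S8431
import Groth.Agent.SGA3x.K17.Bihom
import Groth.Agent.SGA3x.K17.Lift
import Groth.Agent.Books.AntiAffine
import Groth.Agent.Sga3B.MaxTorNear900
-- import your own Groth.Agent.* helpers here

set_option autoImplicit false
universe u
open CategoryTheory MonoidalCategory CartesianMonoidalCategory MonObj GrpObj AlgebraicGeometry
open SGA3x

namespace Groth.Agent.S8431

/-- Let G be an algebraic group over a field k and Z a central algebraic subgroup such that G′ = G/Z is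
a torus. Then G is commutative. Here q : G → G′ is a homomorphism representing the fppf quotient of
G by Z, and G′ is a k-torus. -/
theorem result (k : Type u) [Field k]
    (G : Over (Spec (CommRingCat.of k))) [GrpObj G] [QuasiCompact G.hom] [LocallyOfFiniteType G.hom]
    (Z : Over (Spec (CommRingCat.of k))) [GrpObj Z] (z : Z ⟶ G) [IsMonHom z] [Mono z]
    (hz : ∀ (X : Over (Spec (CommRingCat.of k))) (x : X ⟶ Z) (g : X ⟶ G), (x ≫ z) * g = g * (x ≫ z))
    (G' : Over (Spec (CommRingCat.of k))) [GrpObj G'] (q : G ⟶ G') [IsMonHom q] (hq : RedSub.IsQuotient z q) (hT : Red.IsTorus G') :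
    ∀ (X : Over (Spec (CommRingCat.of k))) (g h : X ⟶ G), g * h = h * g := by
  obtain ⟨hs, hf, hl, hpb⟩ := hq
  have hsep : IsSeparated G.hom := Groth.Agent.Books.AntiAffine.isSeparated_hom G
  have hcomm' := Groth.Agent.Sga3B.MaxTorNear900.mul_comm_of_isTorus hT
  have comp_lift_assoc' : ∀ {X Y A B C : Over (Spec (CommRingCat.of k))} (h : Y ⟶ X) (a : X ⟶ A) (b : X ⟶ B)
      (m : A ⊗ B ⟶ C), lift (h ≫ a) (h ≫ b) ≫ m = h ≫ lift a b ≫ m := by
    intro X Y A B C h a b m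
    rw [← Category.assoc, comp_lift]
  -- the kernel of `q` is central
  have hker : ∀ {X : Over (Spec (CommRingCat.of k))} (a g : X ⟶ G), a ≫ q = 1 → a * g = g * a := by
    intro X a g ha
    obtain ⟨n, hn⟩ := K17.Lift.exists_mul hpb (1 : X ⟶ G) a (by rw [MonObj.one_comp, ha])
    rw [hn, _root_.one_mul]
    exact hz X n g
  -- the commutator
  let cm : ∀ {X : Over (Spec (CommRingCat.of k))} (a b : X ⟶ G), X ⟶ G := fun a b => a * b * a⁻¹ * b⁻¹
  have comp_cm : ∀ {X Y : Over (Spec (CommRingCat.of k))} (h : Y ⟶ X) (a b : X ⟶ G),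
      h ≫ cm a b = cm (h ≫ a) (h ≫ b) := by
    intro X Y h a b
    simp only [cm, MonObj.comp_mul, GrpObj.comp_inv]
  have cm_q : ∀ {X : Over (Spec (CommRingCat.of k))} (a b : X ⟶ G), cm a b ≫ q = 1 := by
    intro X a b
    simp only [cm, MonObj.mul_comp, GrpObj.inv_comp]
    rw [hcomm' X (a ≫ q) (b ≫ q)]
    group
  have cm_inv : ∀ {X : Over (Spec (CommRingCat.of k))} (a b a' b' : X ⟶ G), a ≫ q = a' ≫ q → b ≫ q = b' ≫ q →
      cm a b = cm a' b' := by
    intro X a b a' b' ha hb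
    obtain ⟨m, rfl⟩ := K17.Lift.exists_mul hpb a a' ha
    obtain ⟨n, rfl⟩ := K17.Lift.exists_mul hpb b b' hb
    have h1 := hz X m a
    have h2 := hz X m b
    have h3 := hz X n a
    have h4 := hz X n b
    have h5 := hz X m (n ≫ z)
    simp only [cm]
    generalize m ≫ z = x at *
    generalize n ≫ z = y at *
    have e1 : a * x * (b * y) * (a * x)⁻¹ * (b * y)⁻¹ = a * b * (x * y * x⁻¹) * a⁻¹ * y⁻¹ * b⁻¹ := by
      rw [_root_.mul_inv_rev, _root_.mul_inv_rev]
      have : a * x * (b * y) = a * b * (x * y) := by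
        rw [_root_.mul_assoc, ← _root_.mul_assoc x b y, h2, _root_.mul_assoc b x y, ← _root_.mul_assoc]
      rw [this]
      group
    rw [e1]
    have e2 : x * y * x⁻¹ = y := by rw [h5]; group
    rw [e2]
    have e3 : a * b * y * a⁻¹ * y⁻¹ * b⁻¹ = a * b * a⁻¹ * (a * y * a⁻¹ * y⁻¹) * b⁻¹ := by group
    have e4 : a * y * a⁻¹ * y⁻¹ = 1 := by rw [← h3]; group
    rw [e3, e4]
    group
  have f2 : Flat (q ⊗ₘ q).left := Groth.Agent.Sga3C.QuotProps.tensorHom_left_of (@Flat) q q ‹_› ‹_›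
  have hsc : MorphismProperty.IsStableUnderComposition (@Surjective.{u}) :=
    (inferInstance : MorphismProperty.IsMultiplicative (@Surjective.{u})).toIsStableUnderComposition
  have s2 : Surjective (q ⊗ₘ q).left := Groth.Agent.Sga3C.QuotProps.tensorHom_left_of (@Surjective.{u}) q q ‹_› ‹_›
  have l2 : LocallyOfFinitePresentation (q ⊗ₘ q).left :=
    Groth.Agent.Sga3C.QuotProps.tensorHom_left_of (@LocallyOfFinitePresentation) q q ‹_› ‹_›
  obtain ⟨c, hc⟩ := Groth.Agent.Sga3C.QuotProps.exists_desc (q ⊗ₘ q) (cm (fst G G) (snd G G)) (by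
    intro X x y hxy
    rw [comp_cm, comp_cm]
    have h1 := congrArg (fun k => k ≫ fst _ _) hxy
    have h2 := congrArg (fun k => k ≫ snd _ _) hxy
    simp only [Category.assoc, tensorHom_fst, tensorHom_snd] at h1 h2
    exact cm_inv _ _ _ _ (by simpa using h1) (by simpa using h2))
  have hc' : ∀ {X : Over (Spec (CommRingCat.of k))} (a b : X ⟶ G), lift (a ≫ q) (b ≫ q) ≫ c = cm a b := by
    intro X a b
    have h1 : lift (a ≫ q) (b ≫ q) = lift a b ≫ (q ⊗ₘ q) := by
      ext1 <;> simp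
    rw [h1, Category.assoc, hc, comp_cm, lift_fst, lift_snd]
  have cm_mul : ∀ {X : Over (Spec (CommRingCat.of k))} (a b g : X ⟶ G), cm (a * b) g = cm a g * cm b g := by
    intro X a b g
    have h1 := hker _ a (cm_q b g)
    have h2 := hker _ (cm a g) (cm_q b g)
    simp only [cm] at *
    calc a * b * g * (a * b)⁻¹ * g⁻¹ = a * (b * g * b⁻¹ * g⁻¹) * g * a⁻¹ * g⁻¹ := by group
      _ = (b * g * b⁻¹ * g⁻¹) * a * g * a⁻¹ * g⁻¹ := by rw [← h1]
      _ = (b * g * b⁻¹ * g⁻¹) * (a * g * a⁻¹ * g⁻¹) := by group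
      _ = (a * g * a⁻¹ * g⁻¹) * (b * g * b⁻¹ * g⁻¹) := h2
  have key := K17.Bihom.eq_one_of_bihom hT hT c (by
    intro X t t' r
    obtain ⟨X₁, p₁, a, -, -, he₁, ha, -⟩ := K17.Lift.exists_lift q t
    obtain ⟨X₂, p₂, b, -, -, he₂, hb, -⟩ := K17.Lift.exists_lift q (p₁ ≫ t')
    obtain ⟨X₃, p₃, g, -, -, he₃, hg, -⟩ := K17.Lift.exists_lift q (p₂ ≫ p₁ ≫ r)
    have he : Epi (p₃ ≫ p₂ ≫ p₁) := inferInstance
    rw [← cancel_epi (p₃ ≫ p₂ ≫ p₁), MonObj.comp_mul, ← comp_lift_assoc', ← comp_lift_assoc',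
      ← comp_lift_assoc', MonObj.comp_mul]
    have e1 : (p₃ ≫ p₂ ≫ p₁) ≫ t = (p₃ ≫ p₂ ≫ a) ≫ q := by
      simp only [Category.assoc, ha]
    have e2 : (p₃ ≫ p₂ ≫ p₁) ≫ t' = (p₃ ≫ b) ≫ q := by
      simp only [Category.assoc, hb]
    have e3 : (p₃ ≫ p₂ ≫ p₁) ≫ r = g ≫ q := by
      simp only [Category.assoc, hg]
    rw [e1, e2, e3, ← MonObj.mul_comp, hc', hc', hc', cm_mul]) (by
    intro X t
    obtain ⟨X₁, p₁, a, -, -, he₁, ha, -⟩ := K17.Lift.exists_lift q t
    rw [← cancel_epi p₁, ← comp_lift_assoc', ← ha, MonObj.comp_one, MonObj.comp_one]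
    have e1 : (1 : X₁ ⟶ G') = (1 : X₁ ⟶ G) ≫ q := by rw [MonObj.one_comp]
    rw [e1, hc']
    simp only [cm]
    group)
  intro X g h
  have h1 := key X (g ≫ q) (h ≫ q)
  rw [hc'] at h1
  simp only [cm] at h1
  rwa [mul_inv_eq_one, mul_inv_eq_iff_eq_mul] at h1

end Groth.Agent.S8431
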