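import Groth.Statements.S19152
import Groth.Agent.S3978
import Groth.Agent.S3968
import Groth.Agent.Par.K547.Fam
import Groth.Agent.Par.K547.GenFib
import Mathlib.AlgebraicGeometry.ValuativeCriterion

set_option autoImplicit false
open CategoryTheory MonoidalCategory CartesianMonoidalCategory MonObj GrpObj AlgebraicGeometry
universe u
open Par

namespace Groth.Agent.S19152

open Groth.Agent.K547

/-- Let O be a valuation ring with fraction field K and generic point j : Spec K ⟶ S = Spec O, G a
reductive S-group and P₁ a parabolic subgroup of the generic fibre G_K. Then there is a parabolic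
subgroup P of G with generic fibre P₁ (P ×_S Spec K ≅ P₁ over G_K), and any two parabolic subgroups
of G with this property are isomorphic over G. -/
theorem result (O : Type u) [CommRing O] [IsDomain O] [ValuationRing O]
    (G : Over (Spec (CommRingCat.of O))) [GrpObj G] (hG : Red.IsReductive G)
    (P₁ : Over (Spec (CommRingCat.of (FractionRing O)))) [GrpObj P₁]
    (p₁ : P₁ ⟶ Red.bc (Spec.map (CommRingCat.ofHom (algebraMap O (FractionRing O)))) G) (hp₁ : Red.IsParabolic p₁) :
    (∃ (P : Over (Spec (CommRingCat.of O))) (_ : GrpObj P) (p : P ⟶ G), Red.IsParabolic p ∧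
      ∃ e : Red.bc (Spec.map (CommRingCat.ofHom (algebraMap O (FractionRing O)))) P ≅ P₁,
        e.hom ≫ p₁ = (Over.pullback (Spec.map (CommRingCat.ofHom (algebraMap O (FractionRing O))))).map p) ∧
    (∀ (P P' : Over (Spec (CommRingCat.of O))) [GrpObj P] [GrpObj P'] (p : P ⟶ G) (p' : P' ⟶ G),
      Red.IsParabolic p → Red.IsParabolic p' →
      (∃ e : Red.bc (Spec.map (CommRingCat.ofHom (algebraMap O (FractionRing O)))) P ≅ P₁,
        e.hom ≫ p₁ = (Over.pullback (Spec.map (CommRingCat.ofHom (algebraMap O (FractionRing O))))).map p) →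
      (∃ e' : Red.bc (Spec.map (CommRingCat.ofHom (algebraMap O (FractionRing O)))) P' ≅ P₁,
        e'.hom ≫ p₁ = (Over.pullback (Spec.map (CommRingCat.ofHom (algebraMap O (FractionRing O))))).map p') →
      ∃ f : P ≅ P', f.hom ≫ p' = p) := by
  constructor
  · obtain ⟨M, H, _, h, ⟨hh, hrep⟩, -, hproper, -⟩ := Groth.Agent.S3978.result G hG
    have hcl : IsClosedImmersion h.left :=
      (Groth.Agent.S3968.result (Groth.Agent.Sga3B.RedBcAny636.isReductive_bc M.hom hG) h hh).1
    obtain ⟨g₁, ⟨hg₁, hs⟩, -⟩ := hrep _ (GenFib.gen O) P₁ p₁ (Fam.isParabolicSub_of_isParabolic hp₁)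
    have hval : ValuativeCriterion M.hom := by
      have := IsProper.eq_valuativeCriterion
      have h1 : (@IsProper) M.hom := hproper
      rw [this] at h1
      exact h1.1.1.1
    obtain ⟨⟨l⟩⟩ := hval.existence ⟨O, FractionRing O, g₁, 𝟙 _, ⟨by rw [hg₁, Category.comp_id]⟩⟩
    obtain ⟨P, _, p, hp, hpt⟩ := Fam.exists_sub hG h hh hcl l.l l.fac_right
    refine ⟨P, inferInstance, p, hp, Fam.exists_iso_of_samePoints hp hpt _ hp₁ ?_⟩
    have e : (GenFib.gen O) ≫ l.l = g₁ := l.fac_left
    rw [e]
    exact hs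
  · rintro P P' _ _ p p' hp hp' ⟨e, he⟩ ⟨e', he'⟩
    have h1 := hp.2.1
    have h1' := hp'.2.1
    have h2 : Smooth P.hom := hp.2.2.1
    have h2' : Smooth P'.hom := hp'.2.2.1
    have : Mono p := Groth.Agent.Sga3C.ClosedSub.mono_of_left _
    have : Mono p' := Groth.Agent.Sga3C.ClosedSub.mono_of_left _
    obtain ⟨f, hf⟩ := GenFib.exists_fac p p' (e.hom ≫ e'.inv) (by
      rw [Category.assoc, ← he', Iso.inv_hom_id_assoc, he])
    obtain ⟨f', hf'⟩ := GenFib.exists_fac p' p (e'.hom ≫ e.inv) (by
      rw [Category.assoc, ← he, Iso.inv_hom_id_assoc, he'])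
    exact ⟨⟨f, f', by rw [← cancel_mono p, Category.assoc, hf', hf, Category.id_comp],
      by rw [← cancel_mono p', Category.assoc, hf, hf', Category.id_comp]⟩, hf⟩

end Groth.Agent.S19152
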