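import Groth.Statements.S5545
import Groth.Agent.RedSub.K195.SplitSub
import Groth.Agent.S5529

set_option autoImplicit false
open CategoryTheory MonoidalCategory CartesianMonoidalCategory MonObj GrpObj AlgebraicGeometry
universe u
open RedSub

namespace Groth.Agent.S5545

/-- Let S be connected, G a split reductive S-group (splitting D), H a subgroup of type (R) containing
the torus T with symmetric root set R'. Then (H, T, M, R') is a splitting of H: H admits a splitting
D' whose torus maps isomorphically to T over H and G compatibly with the identifications with D_S(M)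
(through an isomorphism of character groups carrying the roots of D' to the roots of D indexed by
R'), and whose root homomorphisms are the u_a, a ∈ R'. -/
theorem result {S : Scheme.{u}} [ConnectedSpace S] {G H : Over S} [GrpObj G] [GrpObj H]
    (D : Red.SplitRed G) (h : H ⟶ G) (hH : RedSub.IsTypeR h) (t : D.T ⟶ H) (ht : t ≫ h = D.i) (R' : Set D.idx)
    (hR' : ∀ a : D.idx, (∃ v : Red.Ga S ⟶ H, v ≫ h = D.u a) ↔ a ∈ R') (hsymm : ∀ a ∈ R', D.P.reflectionPerm a a ∈ R') :
    ∃ (D' : Red.SplitRed H) (e : D'.T ≅ D.T) (eidx : D'.idx ≃ ↥R') (em : D'.M ≃+ D.M),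
      D'.i = e.hom ≫ t ∧
      e.hom ≫ D.split.hom.hom.hom = D'.split.hom.hom.hom ≫ Red.DSmap S em.symm.toAddMonoidHom ∧
      (∀ a' : D'.idx, em (D'.P.root a') = D.P.root (eidx a' : D.idx)) ∧
      (∀ a' : D'.idx, D'.u a' ≫ h = D.u (eidx a' : D.idx)) := by
  exact K195.SplitSub.exists_splitting D h hH t ht R' hR' hsymm
    ((Groth.Agent.S5529.result D h hH t ht R' hR').2 hsymm)

end Groth.Agent.S5545
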