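import Groth.Statements.S5550
import Groth.Agent.RedSub.K195.CentTor

set_option autoImplicit false
open CategoryTheory MonoidalCategory CartesianMonoidalCategory MonObj GrpObj AlgebraicGeometry
universe u
open RedSub

namespace Groth.Agent.S5550

/-- First assertion. Let G be a reductive S-group and q : Q ⟶ G a subtorus. Then the centraliser of Q in
G is representable by a subgroup of type (R) of G which is itself a reductive S-group. -/
theorem result {S : Scheme.{u}} {G Q : Over S} [GrpObj G] [GrpObj Q]
    (hG : Red.IsReductive G) (q : Q ⟶ G) [IsMonHom q] [Mono q] (hQ : Red.IsTorus Q) :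
    ∃ (Z : Over S) (_ : GrpObj Z) (z : Z ⟶ G), Red.IsCentralizerOf q z ∧ RedSub.IsTypeR z ∧ Red.IsReductive Z := by
  have h1 : IsAffineHom G.hom := hG.1
  have h2 : Smooth G.hom := hG.2.1
  obtain ⟨⟨Z, _, z, hz, -, -⟩, -⟩ := Groth.Agent.Sga3B.CentNorm900.exists_centralizer_normalizer_torus hQ q
  exact ⟨Z, inferInstance, z, hz, K195.CentTor.isTypeR_centralizer hG q hQ z hz,
    Groth.Agent.Agf.H600.CentRedK.isReductive_of_isCentralizerOf hG q hQ z hz⟩

end Groth.Agent.S5550
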