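import Groth.Statements.S8511
import Groth.Agent.RedSub.K861.Main

set_option autoImplicit false
open CategoryTheory MonoidalCategory CartesianMonoidalCategory MonObj GrpObj AlgebraicGeometry
universe u
open RedSub

namespace Groth.Agent.S8511

/-- Let A be a semi-local ring, S = Spec A, and X ⟶ S a surjective smooth morphism with X a closed
subscheme of some projective space P^n_S over S. Then X ⟶ S has a section after a finite etale
surjective base change: there are a finite etale surjective S' ⟶ S and an S-morphism S' ⟶ X. -/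
theorem result {A : Type u} [CommRing A]
    (hA : {m : Ideal A | m.IsMaximal}.Finite) {X : Scheme.{u}} (g : X ⟶ Spec (CommRingCat.of A)) [Smooth g]
    [Surjective g] (n : ℕ) (e : X ⟶ CohB1.ProjSpaceOver n (Spec (CommRingCat.of A))) [IsClosedImmersion e]
    (he : e ≫ CohB1.ProjSpaceOver.toBase n (Spec (CommRingCat.of A)) = g) :
    ∃ (S' : Scheme.{u}) (f : S' ⟶ Spec (CommRingCat.of A)) (σ : S' ⟶ X), IsFinite f ∧ Etale f ∧ Surjective f ∧
      σ ≫ g = f := by
  let i₀ : X ⟶ CohB1.ProjSpace n A := e ≫ (Groth.Agent.CohqB.ProjBC.projSpaceOverIso n A).hom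
  have hi₀ : i₀ ≫ CohB1.ProjSpace.toSpec n A = g := by
    rw [← he, Category.assoc, Groth.Agent.CohqB.ProjBC.projSpaceOverIso_hom_toSpec]
  have hc : IsClosedImmersion i₀ := inferInstance
  have hp := K861.Sect.isProper_comp i₀
  rw [hi₀] at hp
  have hX : CompactSpace X := QuasiCompact.compactSpace_of_compactSpace g
  obtain ⟨D, hD⟩ := K861.Rel.exists_RD g
  rw [← hi₀] at hD
  obtain ⟨S', f, σ, h1, h2, h3, h4⟩ := K861.Main.exists_multisection D hA i₀ hD
  rw [hi₀] at h3 h4
  refine ⟨S', f, σ, h1, h2, ⟨fun s => ?_⟩, h3⟩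
  obtain ⟨x, hx⟩ := g.surjective s
  exact h4 ⟨x, hx⟩

end Groth.Agent.S8511
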