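import Groth.Statements.S5521
import Groth.Agent.RedSub.K193.Comm
import Groth.Agent.RedSub.H633.PosRoots

set_option autoImplicit false
open CategoryTheory MonoidalCategory CartesianMonoidalCategory MonObj GrpObj AlgebraicGeometry
universe u
open RedSub

namespace Groth.Agent.S5521

open Groth.Agent.RedSub.K193.Comm Groth.Agent.Sga3B Groth.Agent.Sga3B.GaPts

/-- The exponents of the roots `i α + j β` are determined, for positive roots `α`, `β`. -/
theorem exps {S : Scheme.{u}} {G : Over S} [GrpObj G] (D : Red.SplitRed G) (b : D.P.Base)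
    (α β : D.idx) (hα : α ∈ RedSub.posRoots D.P b) (hβ : β ∈ RedSub.posRoots D.P b)
    {n : ℕ} (e : Fin n → D.idx) (i j : Fin n → ℕ) (he : Function.Injective e)
    (hij : ∀ k, 1 ≤ i k ∧ 1 ≤ j k ∧ D.P.root (e k) = (i k : ℤ) • D.P.root α + (j k : ℤ) • D.P.root β)
    (hall : ∀ (c : D.idx) (p q : ℕ), 1 ≤ p → 1 ≤ q → D.P.root c = (p : ℤ) • D.P.root α + (q : ℤ) • D.P.root β →
      c ∈ Set.range e) : Exps D e i j α β := by
  have hred : D.P.IsReduced := PinComb.isReduced b
  have hht : 0 < b.height α := Groth.Agent.RedSub.H633.PosRoots.height_pos_of_mem b hα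
  have hht' : 0 < b.height β := Groth.Agent.RedSub.H633.PosRoots.height_pos_of_mem b hβ
  refine ⟨fun k => ⟨(hij k).1, (hij k).2.1⟩, he, fun k p q hp hq h => ?_, fun c p q hp hq h => ?_⟩
  · obtain ⟨h1, h2, h3⟩ := hij k
    by_cases hαβ : α = β
    · exfalso
      subst hαβ
      have h4 : D.P.root (e k) = ((i k + j k : ℕ) : ℤ) • D.P.root α := by
        rw [h3, Nat.cast_add, add_smul]
      have := PinComb.eq_one_of_root_eq_nsmul b h4
      omega
    · have hli : LinearIndependent ℤ ![D.P.root α, D.P.root β] := by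
        refine RootPairing.IsReduced.linearIndependent D.P hαβ fun h4 => ?_
        have h5 : α = D.P.reflectionPerm β β := D.P.root.injective (by simpa using h4)
        have h6 : b.height (D.P.reflectionPerm β β) = - b.height β := b.height_reflectionPerm_self β
        rw [← h5] at h6
        omega
      rw [h3, ← natCast_zsmul, ← natCast_zsmul] at h
      have h4 := LinearIndependent.pair_iff.1 hli ((p : ℤ) - i k) ((q : ℤ) - j k) (by
        rw [sub_smul, sub_smul, ← sub_eq_zero.2 h]; abel)
      omega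
  · exact hall c p q (by omega) (by omega) (by rw [← h, natCast_zsmul, natCast_zsmul])

/-- Let G be a split reductive S-group (splitting D, root homomorphisms u_c : G_a ⟶ G), b a system of
simple roots and α, β two roots positive for b. Let e be an injective enumeration of the roots of
the form i α + j β with i, j ≥ 1, with exponents (i_k, j_k). Then there is a unique family (C_k) of
global functions on S such that, for all points x, y of G_a (with values in any X over S), u_α(x)
u_β(y) u_α(x)⁻¹ = u_β(y) · ∏_k u_{e k}(C_k x^{i_k} y^{j_k}), the product taken in the order of e;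
here a point z of G_a with coordinate C_k x^{i_k} y^{j_k} is any point whose coordinate function is
that product. -/
theorem result {S : Scheme.{u}} {G : Over S} [GrpObj G] (D : Red.SplitRed G) (b : D.P.Base)
    (α β : D.idx) (hα : α ∈ RedSub.posRoots D.P b) (hβ : β ∈ RedSub.posRoots D.P b)
    {n : ℕ} (e : Fin n → D.idx) (i j : Fin n → ℕ) (he : Function.Injective e)
    (hij : ∀ k, 1 ≤ i k ∧ 1 ≤ j k ∧ D.P.root (e k) = (i k : ℤ) • D.P.root α + (j k : ℤ) • D.P.root β)
    (hall : ∀ (c : D.idx) (p q : ℕ), 1 ≤ p → 1 ≤ q → D.P.root c = (p : ℤ) • D.P.root α + (q : ℤ) • D.P.root β →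
      c ∈ Set.range e) :
    ∃! C : Fin n → Γ(S, ⊤), ∀ (X : Over S) (x y : X ⟶ Red.Ga S) (z : Fin n → (X ⟶ Red.Ga S)),
      (∀ k, Red.gaFn (z k) = X.hom.appTop (C k) * Red.gaFn x ^ (i k) * Red.gaFn y ^ (j k)) →
        (x ≫ D.u α) * (y ≫ D.u β) * (x ≫ D.u α)⁻¹ =
          (y ≫ D.u β) * (List.ofFn (fun k => z k ≫ D.u (e k))).prod := by
  obtain ⟨lam, N, hN, hlam⟩ := PinComb.exists_height_functional b
  have hE := exps D b α β hα hβ e i j he hij hall
  have hht : 0 < b.height α := Groth.Agent.RedSub.H633.PosRoots.height_pos_of_mem b hα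
  have hht' : 0 < b.height β := Groth.Agent.RedSub.H633.PosRoots.height_pos_of_mem b hβ
  have h1 : 0 < lam (D.P.root α) := by rw [hlam]; positivity
  have h2 : 0 < lam (D.P.root β) := by rw [hlam]; positivity
  have h3 : ∀ k, 0 < lam (D.P.root (e k)) := by
    intro k
    obtain ⟨h4, h5, h6⟩ := hij k
    rw [h6, map_add, map_zsmul, map_zsmul, smul_eq_mul, smul_eq_mul]
    positivity
  obtain ⟨C, hC⟩ := exists_comm D hE lam h1 h2 h3
  refine ⟨C, hC, fun C' hC' => ?_⟩
  apply comm_unique D hE lam h3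
  have h7 : ∀ (E : Fin n → Γ(S, ⊤)) (k : Fin n), Red.gaFn (cPt (𝟙_ (Over S)) (E k)) =
      (𝟙_ (Over S)).hom.appTop (E k) * Red.gaFn (onePt (𝟙_ (Over S))) ^ i k *
        Red.gaFn (onePt (𝟙_ (Over S))) ^ j k := by
    intro E k
    rw [gaFn_gaPt, gaFn_gaPt, one_pow, one_pow, _root_.mul_one, _root_.mul_one]
  have h8 := hC' (𝟙_ (Over S)) (onePt _) (onePt _) _ (h7 C')
  rw [hC (𝟙_ (Over S)) (onePt _) (onePt _) _ (h7 C)] at h8
  exact (mul_left_cancel h8).symm

end Groth.Agent.S5521
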