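import Groth.Statements.S14812
import Groth.Agent.Pic13.K244.TauKb
import Groth.Agent.S4276
import Groth.Agent.CohqB.PullTwist471
import Groth.Agent.FormalA.PullbackQC
import Groth.Agent.VarietyB.TensCoh

set_option autoImplicit false
universe u
open CategoryTheory CategoryTheory.Limits AlgebraicGeometry
open Pic13

namespace Groth.Agent.S14812

/-- Take any field k, a proper k-scheme X and an invertible O_X-module L. Then L is numerically trivial
(degree 0 on every closed subscheme of X which is integral of dimension one) if and only if χ(F ⊗ L)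
= χ(F) for every coherent O_X-module F; here χ is the alternating sum of the dimensions dim_k H^i(X,
·) over 0 ≤ i ≤ d, for any natural number d bounding the dimension of X. The field k is not assumed
algebraically closed. -/
theorem result (k : Type u) [Field k] (X : Scheme.{u})
    [X.Over (Spec (CommRingCat.of k))] [IsProper (X ↘ Spec (CommRingCat.of k))] (L : X.Modules) (hL : PicF.IsInvertible L) :
    Pic13.IsNumEquivZero k X L ↔
      ∀ (F : X.Modules), Coh.IsCoh F → ∀ d : ℕ, topologicalKrullDim X ≤ d →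
        FGA.eulerCharLE k X (CohB1.tensorMod F L) d = FGA.eulerCharLE k X F d := by
  refine ⟨fun hnum F hF d hd => ?_, fun h Y i _ hY hdim => ?_⟩
  · let s : Spec (CommRingCat.of (AlgebraicClosure k)) ⟶ Spec (CommRingCat.of k) :=
      Spec.map (CommRingCat.ofHom (algebraMap k (AlgebraicClosure k)))
    let X₁ : Scheme.{u} := pullback (X ↘ Spec (CommRingCat.of k)) s
    let _ : X₁.Over (Spec (CommRingCat.of (AlgebraicClosure k))) := ⟨pullback.snd (X ↘ Spec (CommRingCat.of k)) s⟩
    let g : X₁ ⟶ X := pullback.fst (X ↘ Spec (CommRingCat.of k)) s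
    have hpb : IsPullback g (X₁ ↘ Spec (CommRingCat.of (AlgebraicClosure k))) (X ↘ Spec (CommRingCat.of k)) s :=
      IsPullback.of_hasPullback _ _
    have hX₁ : IsProper (X₁ ↘ Spec (CommRingCat.of (AlgebraicClosure k))) :=
      MorphismProperty.of_isPullback hpb inferInstance
    have hτ := K244.TauKb.isTauEquivZero_pullback k hpb hL hnum
    have hc : CompactSpace X := (quasiCompact_iff_compactSpace (X ↘ (Spec (CommRingCat.of k)))).mp inferInstance
    have hqs : QuasiSeparatedSpace X :=
      (quasiSeparated_iff_quasiSeparatedSpace (X ↘ (Spec (CommRingCat.of k)))).mp inferInstance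
    have hdim : topologicalKrullDim X₁ ≤ d := by
      rw [Groth.Agent.Etcore.DimBaseChange.topologicalKrullDim_eq (K := CommRingCat.of k)
        (L := CommRingCat.of (AlgebraicClosure k)) (Field.toIsField k) (Field.toIsField (AlgebraicClosure k))
        (X ↘ Spec (CommRingCat.of k)) _ _ s hpb]
      exact hd
    have h1 := Groth.Agent.S4276.result (AlgebraicClosure k) X₁ d hdim _
      (Groth.Agent.Fdesc.LocGen.isInvertible_pullback g hL) hτ ((Scheme.Modules.pullback g).obj F)
      (Groth.Agent.FormalA.PullbackQC.isCoh_pullback g F hF)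
    have h2 := Groth.Agent.Picfga.ChiBC.eulerCharLE_pullback k X (AlgebraicClosure k) X₁ g s hpb F hF.1 d
    have h3 := Groth.Agent.Picfga.ChiBC.eulerCharLE_pullback k X (AlgebraicClosure k) X₁ g s hpb
      (CohB1.tensorMod F L) (Groth.Agent.Ega2.TensGen.isQCoh_tensor hF.1 hL) d
    have h4 := Groth.Agent.Fga.PicMon.euler_iso (AlgebraicClosure k) X₁
      (Groth.Agent.CohqB.PullTwist471.pullTensorIsoRight g (Groth.Agent.Fga.MultInt.hasBases hL) F) d
    rw [← h3, h4, h1, h2]
  · obtain ⟨d₀, hd₀⟩ := Groth.Agent.Pic13.H960.NumDescent.exists_dim_le k (X ↘ Spec (CommRingCat.of k))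
    have hd : topologicalKrullDim X ≤ (d₀ : ℕ) := hd₀
    have hN : IsLocallyNoetherian X := LocallyOfFiniteType.isLocallyNoetherian (X ↘ (Spec (CommRingCat.of k)))
    let _ : Y.Over (Spec (CommRingCat.of k)) := ⟨i ≫ (X ↘ Spec (CommRingCat.of k))⟩
    have hiY : i ≫ (X ↘ Spec (CommRingCat.of k)) = Y ↘ Spec (CommRingCat.of k) := rfl
    have hYp : IsProper (Y ↘ Spec (CommRingCat.of k)) := by rw [← hiY]; infer_instance
    have hNY : IsLocallyNoetherian Y := LocallyOfFiniteType.isLocallyNoetherian (Y ↘ (Spec (CommRingCat.of k)))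
    have hcY : CompactSpace Y := (quasiCompact_iff_compactSpace (Y ↘ (Spec (CommRingCat.of k)))).mp inferInstance
    have hNoeY : AlgebraicGeometry.IsNoetherian Y := {}
    have hdY : topologicalKrullDim Y ≤ (d₀ : ℕ) :=
      (i.isClosedEmbedding.isInducing.topologicalKrullDim_le).trans hd
    have hLY : PicF.IsInvertible ((Scheme.Modules.pullback i).obj L) := Groth.Agent.Fdesc.LocGen.isInvertible_pullback i hL
    have h1 := h ((Coh.push i).obj (Coh.structureModule Y)) (Groth.Agent.CycB.ClosSheaf.isCoh_push_structureModule i) d₀ hd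
    have e0 := Groth.Agent.Fga.PicMon.euler_iso k X (Groth.Agent.Ega2.Tens.swap ((Coh.push i).obj (Coh.structureModule Y)) L) d₀
    have e1 := Groth.Agent.Fga.PicMon.euler_iso k X
      (Groth.Agent.VarietyB.ProjForm.projIso i (Groth.Agent.Fga.MultInt.hasBases hL) (Coh.structureModule Y)) d₀
    have e2 := Groth.Agent.Fga.MultInt.euler_push k i hiY (Coh.structureModule Y) d₀
    have e3 := Groth.Agent.Fga.MultInt.euler_push k i hiY
      (CohB1.tensorMod ((Scheme.Modules.pullback i).obj L) (Coh.structureModule Y)) d₀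
    have e4 := Groth.Agent.Fga.PicMon.euler_iso k Y (Groth.Agent.Ega2.Tens.runit ((Scheme.Modules.pullback i).obj L)) d₀
    have e5 : FGA.eulerCharLE k X (CohB1.tensorMod L ((Coh.push i).obj (Coh.structureModule Y))) d₀ =
        FGA.eulerCharLE k Y ((Scheme.Modules.pullback i).obj L) d₀ := by
      refine Eq.trans ?_ (e3.trans e4)
      first | exact e1 | exact e1.symm
    have e6 : FGA.eulerCharLE k Y ((Scheme.Modules.pullback i).obj L) d₀ =
        FGA.eulerCharLE k Y (Coh.structureModule Y) d₀ := by
      rw [← e5, ← e0, h1, e2]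
    have h1d : topologicalKrullDim Y ≤ (1 : ℕ) := by rw [hdim]; rfl
    rw [Groth.Agent.Fga.EulerLEAdd.eulerCharLE_eq_euler k Y d₀ hdY, Groth.Agent.Fga.EulerLEAdd.eulerCharLE_eq_euler k Y d₀ hdY,
      ← Groth.Agent.Fga.EulerLEAdd.eulerCharLE_eq_euler k Y 1 h1d, ← Groth.Agent.Fga.EulerLEAdd.eulerCharLE_eq_euler k Y 1 h1d] at e6
    exact sub_eq_zero.mpr e6

end Groth.Agent.S14812
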