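import Groth.Statements.S6868
import Groth.Agent.S2054
import Groth.Agent.CAlg.K63.TorsionFree

set_option autoImplicit false
universe u
open CAlg

namespace Groth.Agent.S6868

/-- (1) ⇔ (3) ⇔ (4): for a Noetherian domain `R` and a nonzero finite `R`-module `M`, torsion-freeness
of `M` is equivalent to `(0)` being the unique associated prime of `M`, and also to the conjunction:
`(0)` belongs to the support of `M` and `M` satisfies Serre's condition `(S_1)`. (The published
statement also lists embedding into a finite free module and the absence of embedded associated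
primes; this row states the other three conditions.) -/
theorem result (R : Type u) [CommRing R]
    [IsDomain R] [IsNoetherianRing R] (M : Type u) [AddCommGroup M] [Module R M] [Module.Finite R M] [Nontrivial M] :
    (Module.IsTorsionFree R M ↔ associatedPrimes R M = {⊥}) ∧
    (Module.IsTorsionFree R M ↔
      (⟨⊥, Ideal.isPrime_bot⟩ : PrimeSpectrum R) ∈ Module.support R M ∧ LocCoh.HasSk 1 R M) := by
  have key : ∀ (p : Ideal R), p ∈ associatedPrimes R M ↔ p.IsPrime ∧ ∃ x : M, ∀ r : R, r ∈ p ↔ r • x = 0 := by
    intro p
    rw [AssociatedPrimes.mem_iff, isAssociatedPrime_iff]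
    constructor
    · rintro ⟨h1, x, h2⟩
      refine ⟨h1, x, fun r => ?_⟩
      rw [h2, Submodule.mem_colon_singleton, Submodule.mem_bot]
    · rintro ⟨h1, x, h2⟩
      refine ⟨h1, x, ?_⟩
      ext r
      rw [h2, Submodule.mem_colon_singleton, Submodule.mem_bot]
  have hA : Module.IsTorsionFree R M ↔ associatedPrimes R M = {⊥} := by
    constructor
    · intro h
      apply Set.eq_singleton_iff_nonempty_unique_mem.mpr
      refine ⟨associatedPrimes.nonempty R M, fun p hp => ?_⟩
      obtain ⟨hp1, x, hx⟩ := (key p).mp hp
      have hx0 : x ≠ 0 := by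
        rintro rfl
        exact hp1.ne_top ((Ideal.eq_top_iff_one p).mpr ((hx 1).mpr (smul_zero _)))
      rw [eq_bot_iff]
      intro r hr
      have h1 := (hx r).mp hr
      by_contra hr0
      exact hx0 (K63.TorsionFree.smul_eq_zero_of (R := R) hr0 h1)
    · intro h
      apply K63.TorsionFree.isTorsionFree_of
      intro c x hc hcx
      by_contra hx0
      obtain ⟨p, hp, hle⟩ := exists_le_isAssociatedPrime_of_isNoetherianRing R x hx0
      have hp' : p ∈ associatedPrimes R M := hp
      rw [h, Set.mem_singleton_iff] at hp'
      subst hp'
      exact hc (hle (by simpa [Submodule.mem_colon_singleton] using hcx))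
  refine ⟨hA, ?_⟩
  constructor
  · intro h
    refine ⟨?_, ?_⟩
    · obtain ⟨x, hx⟩ := exists_ne (0 : M)
      rw [Module.mem_support_iff']
      refine ⟨x, fun r hr h0 => hr ?_⟩
      by_contra hr0
      exact hx (K63.TorsionFree.smul_eq_zero_of (R := R) (fun h1 => hr0 (by rw [h1]; exact Ideal.zero_mem _)) h0)
    · intro p hp
      have hnz : NoZeroSMulDivisors R M := ⟨fun {r m} hrm => by
        rw [or_iff_not_imp_left]
        exact fun hr => K63.TorsionFree.smul_eq_zero_of hr hrm⟩
      have h5 : NoZeroSMulDivisors (Localization.AtPrime p) (LocalizedModule p.primeCompl M) :=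
        Groth.Agent.S2054.noZero_localized p
      have h2 : IsNoetherianRing (Localization.AtPrime p) :=
        IsLocalization.isNoetherianRing p.primeCompl _ inferInstance
      have h3 : IsDomain (Localization.AtPrime p) := inferInstance
      by_cases hm : IsLocalRing.maximalIdeal (Localization.AtPrime p) = ⊥
      · have hf := (IsLocalRing.isField_iff_maximalIdeal_eq (R := Localization.AtPrime p)).mpr hm
        refine (min_le_right _ _).trans ((Module.supportDim_le_ringKrullDim _ _).trans ?_)
        rw [ringKrullDim_eq_zero_of_isField hf]
        exact WithBot.coe_le_coe.mpr bot_le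
      · refine (min_le_left _ _).trans ?_
        have h5 : (1 : ℕ∞) ≤ LocCoh.depth (Localization.AtPrime p) (LocalizedModule p.primeCompl M) := by
          rw [Groth.Agent.CalgB.DepthLite.one_le_depth_iff]
          intro x hx
          obtain ⟨a, ha, ha0⟩ := Submodule.exists_mem_ne_zero_of_ne_bot hm
          exact (smul_eq_zero.mp (hx a ha)).resolve_left ha0
        exact WithBot.coe_le_coe.mpr h5
  · rintro ⟨hsupp, hS⟩
    rw [hA]
    apply Set.eq_singleton_iff_nonempty_unique_mem.mpr
    refine ⟨associatedPrimes.nonempty R M, fun p hp => ?_⟩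
    obtain ⟨hp1, x, hx⟩ := (key p).mp hp
    have h2 : IsNoetherianRing (Localization.AtPrime p) :=
      IsLocalization.isNoetherianRing p.primeCompl _ inferInstance
    have h3 : IsDomain (Localization.AtPrime p) := inferInstance
    -- the depth of `M_p` is zero
    have hdepth : ¬ (1 : ℕ∞) ≤ LocCoh.depth (Localization.AtPrime p) (LocalizedModule p.primeCompl M) := by
      rw [Groth.Agent.CalgB.DepthLite.one_le_depth_iff]
      intro h
      have h4 : LocalizedModule.mkLinearMap p.primeCompl M x = 0 := by
        apply h
        intro a ha
        obtain ⟨r, s, rfl⟩ := IsLocalization.exists_mk'_eq p.primeCompl a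
        have hr : r ∈ p := by
          rwa [IsLocalization.AtPrime.mk'_mem_maximal_iff _ p] at ha
        rw [LocalizedModule.mkLinearMap_apply, ← Localization.mk_eq_mk', LocalizedModule.mk_smul_mk,
          (hx r).mp hr, LocalizedModule.zero_mk]
      rw [LocalizedModule.mkLinearMap_apply, ← LocalizedModule.zero_mk 1, LocalizedModule.mk_eq] at h4
      obtain ⟨u, hu⟩ := h4
      simp only [smul_zero, Submonoid.smul_def, smul_smul] at hu
      exact u.2 ((hx _).mpr (by simpa using hu))
    have h6 := hS p
    have h7 : Module.supportDim (Localization.AtPrime p) (LocalizedModule p.primeCompl M) =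
        ringKrullDim (Localization.AtPrime p) := by
      rw [Module.supportDim_eq_ringKrullDim_quotient_annihilator]
      have h9 : Module.annihilator (Localization.AtPrime p) (LocalizedModule p.primeCompl M) = ⊥ := by
        rw [eq_bot_iff]
        intro a ha
        rw [Module.mem_support_iff'] at hsupp
        obtain ⟨y, hy⟩ := hsupp
        rw [Module.mem_annihilator] at ha
        have ha' := ha (LocalizedModule.mk y 1)
        obtain ⟨r, s, rfl⟩ := IsLocalization.exists_mk'_eq p.primeCompl a
        rw [← Localization.mk_eq_mk', LocalizedModule.mk_smul_mk, ← LocalizedModule.zero_mk 1,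
          LocalizedModule.mk_eq] at ha'
        obtain ⟨u, hu⟩ := ha'
        simp only [smul_zero, Submonoid.smul_def, smul_smul] at hu
        by_contra hne
        have hr : r ≠ 0 := by
          rintro rfl
          exact hne (by rw [IsLocalization.mk'_zero]; exact Submodule.zero_mem _)
        have hu0 : (u : R) ≠ 0 := fun h => u.2 (h ▸ p.zero_mem)
        refine hy ((u : R) * r) ?_ (by simpa using hu)
        intro h0
        rcases mul_eq_zero.mp (show (u : R) * r = 0 from h0) with h | h
        · exact hu0 h
        · exact hr h
      rw [h9]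
      exact ringKrullDim_eq_of_ringEquiv (RingEquiv.quotientBot _)
    rw [h7] at h6
    have h8 : ¬ (1 : WithBot ℕ∞) ≤ ringKrullDim (Localization.AtPrime p) := by
      intro h
      apply hdepth
      have : (1 : WithBot ℕ∞) ≤ min ((1 : ℕ) : WithBot ℕ∞) (ringKrullDim (Localization.AtPrime p)) :=
        le_min le_rfl h
      exact WithBot.coe_le_coe.mp (this.trans h6)
    by_contra hne
    apply h8
    rw [IsLocalization.AtPrime.ringKrullDim_eq_height p (Localization.AtPrime p)]
    have h10 : (1 : ℕ∞) ≤ p.height := by
      rw [Order.one_le_iff_ne_zero]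
      intro h0
      exact hne (Ideal.height_eq_zero_iff_eq_bot.mp h0)
    exact_mod_cast h10

end Groth.Agent.S6868
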