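import Groth.Statements.S9690
import Groth.Agent.Mor.K385.NormLift

set_option autoImplicit false
universe u
open CategoryTheory CategoryTheory.Limits AlgebraicGeometry
open Mor

namespace Groth.Agent.S9690

theorem exists_generic {Z : Scheme.{u}} (z : Z) : ∃ ζ : Z, ζ ⤳ z ∧ closure {ζ} ∈ irreducibleComponents ↥Z := by
  obtain ⟨ζ, hζ⟩ := QuasiSober.sober (isIrreducible_irreducibleComponent (x := z)) isClosed_irreducibleComponent
  refine ⟨ζ, ?_, ?_⟩
  · rw [specializes_iff_mem_closure, hζ.def]
    exact mem_irreducibleComponent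
  · rw [hζ.def]
    exact irreducibleComponent_mem_irreducibleComponents z

theorem stalkMap_injective {X Z : Scheme.{u}} [IsIntegral X] (g : Z ⟶ X) 
    (hdom : ∀ z : Z, closure {z} ∈ irreducibleComponents ↥Z → g.base z = genericPoint ↥X) (z : Z) :
    Function.Injective (g.stalkMap z).hom := by
  rw [injective_iff_map_eq_zero]
  intro a ha
  obtain ⟨ζ, hζz, hζ⟩ := exists_generic z
  obtain ⟨U, hU, a, rfl⟩ := X.presheaf.exists_germ_eq a
  by_contra h0
  have ha0 : a ≠ 0 := by
    rintro rfl
    exact h0 (map_zero _)
  have h1 : genericPoint X ∈ X.basicOpen a := by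
    have h2 : (X.basicOpen a : Set X).Nonempty := by
      rw [Set.nonempty_iff_ne_empty]
      intro h3
      exact ha0 ((basicOpen_eq_bot_iff a).mp (TopologicalSpace.Opens.ext h3))
    exact (genericPoint_spec X).mem_open_set_iff (X.basicOpen a).2 |>.mpr (by simpa using h2)
  have h2 : ζ ∈ Z.basicOpen (g.app U a) := by
    rw [← Scheme.preimage_basicOpen]
    change g.base ζ ∈ X.basicOpen a
    rw [hdom ζ hζ]
    exact h1
  have h3 : Z.presheaf.germ (g ⁻¹ᵁ U) z hU (g.app U a) = 0 := by
    rw [← ha]
    exact (Scheme.Hom.germ_stalkMap_apply g U z hU a).symm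
  have hζU : ζ ∈ g ⁻¹ᵁ U := Z.basicOpen_le _ h2
  have h4 : Z.presheaf.germ (g ⁻¹ᵁ U) ζ hζU (g.app U a) = 0 := by
    have h5 := TopCat.Presheaf.germ_stalkSpecializes Z.presheaf (U := g ⁻¹ᵁ U) hU hζz
    have h6 := congrArg (fun k => k.hom (g.app U a)) h5
    change (Z.presheaf.stalkSpecializes hζz).hom (Z.presheaf.germ (g ⁻¹ᵁ U) z hU (g.app U a)) = 
      Z.presheaf.germ (g ⁻¹ᵁ U) ζ _ (g.app U a) at h6
    rw [← h6, h3, map_zero]
  rw [Scheme.mem_basicOpen _ _ _ hζU, h4] at h2
  exact not_isUnit_zero h2

/-- Part (4): for an integral scheme X: let g : Z ⟶ X be a morphism from a normal scheme Z such that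
every irreducible component of Z dominates X, i.e. every generic point of an irreducible component
of Z maps to the generic point of X. Then g factors uniquely through the normalization X^ν ⟶ X. (The
published statement allows X with locally finitely many irreducible components; this row takes X
integral.) (The quasi-compactness and quasi-separatedness binders on Spec K(X) ⟶ X always hold; they
are only needed to form the normalization.) -/
theorem result (X : Scheme.{u}) [IsIntegral X] [QuasiCompact (X.fromSpecStalk (genericPoint ↥X))] [QuasiSeparated (X.fromSpecStalk (genericPoint ↥X))]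
    {Z : Scheme.{u}} (g : Z ⟶ X) (hZ : Pi1.IsNormalScheme Z)
    (hdom : ∀ z : Z, closure {z} ∈ irreducibleComponents ↥Z → g.base z = genericPoint ↥X) :
    ∃! h : Z ⟶ Curv2.normalization X, h ≫ Curv2.normalizationι X = g := by
  exact K385.NormLift.existsUnique_lift X g hZ (stalkMap_injective g hdom)

end Groth.Agent.S9690
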