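import Groth.Statements.S8851
import Groth.Agent.Divis.BlowUpFormal
import Mathlib.RingTheory.LocalProperties.Reduced

set_option autoImplicit false
universe u
open CategoryTheory CategoryTheory.Limits AlgebraicGeometry TopologicalSpace
open SDiv

namespace Groth.Agent.S8851

/-- Let X be a reduced scheme, 𝓘 a quasi-coherent ideal sheaf on X and b : X' ⟶ X a blowing up of X in
𝓘. Then X' is reduced. -/
theorem result {X X' : Scheme.{u}} [IsReduced X] (𝓘 : X.IdealSheafData) (b : X' ⟶ X)
    (hb : BlowUp.IsBlowUp b 𝓘) : IsReduced X' := by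
  obtain ⟨hE, -⟩ := id hb
  let W : X.Opens := 𝓘.support.compl
  have hiso : IsIso (b ∣_ W) :=
    Groth.Agent.Divis.BlowUpFormal.isIso_morphismRestrict_compl_support hb W disjoint_compl_left
  have hred : IsReduced (b ⁻¹ᵁ W : Scheme.{u}) := isReduced_of_isOpenImmersion (b ∣_ W)
  -- affine opens with a generator have reduced section rings
  have key : ∀ x : ↥X', _root_.IsReduced (X'.presheaf.stalk x) := by
    intro x
    obtain ⟨V, hxV, k, hk, hIk⟩ := hE x
    have hle : X'.basicOpen k ≤ b ⁻¹ᵁ W := by
      intro y hy hy'
      have hyV := X'.basicOpen_le k hy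
      have hy'' : y ∈ (𝓘.comap b).support := by
        rw [Scheme.IdealSheafData.support_comap]
        exact hy'
      rw [Scheme.IdealSheafData.mem_support_iff_of_mem hyV, hIk, Scheme.zeroLocus_span,
        Scheme.zeroLocus_singleton] at hy''
      exact hy'' hy
    have hr1 : _root_.IsReduced Γ(X', X'.basicOpen k) := by
      have h1 : IsReduced (X'.basicOpen k : Scheme.{u}) :=
        isReduced_of_isOpenImmersion (X'.homOfLE hle)
      exact isReduced_of_injective (X'.basicOpen k).topIso.inv.hom
        (ConcreteCategory.bijective_of_isIso (X'.basicOpen k).topIso.inv).1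
    have hr2 : _root_.IsReduced Γ(X', V.1) := by
      refine isReduced_of_injective (X'.presheaf.map (homOfLE (X'.basicOpen_le k)).op).hom ?_
      rw [injective_iff_map_eq_zero]
      intro a ha
      have := V.2.isLocalization_basicOpen k
      have h2 := (IsLocalization.map_eq_zero_iff (Submonoid.powers k) Γ(X', X'.basicOpen k) a).mp ha
      obtain ⟨⟨_, n, rfl⟩, hn⟩ := h2
      exact (mul_left_mem_nonZeroDivisors_eq_zero_iff (pow_mem hk n)).mp hn
    let := X'.presheaf.algebra_section_stalk (⟨x, hxV⟩ : V.1)
    have := V.2.isLocalization_stalk ⟨x, hxV⟩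
    exact isReduced_localizationPreserves (V.2.primeIdealOf ⟨x, hxV⟩).asIdeal.primeCompl (X'.presheaf.stalk x) hr2
  exact isReduced_of_isReduced_stalk X'

end Groth.Agent.S8851
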