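import Groth.Statements.S14351
import Mathlib.RingTheory.Flat.FaithfullyFlat.Algebra
-- import your own Groth.Agent.* helpers here

set_option autoImplicit false
universe u
open CAlg

namespace Groth.Agent.S14351

theorem flat_of_comp (R S T : Type u) [CommRing R] [CommRing S] [CommRing T]
    [Algebra R S] [Algebra S T] [Algebra R T] [IsScalarTower R S T] [Module.FaithfullyFlat S T]
    [Module.Flat R T] : Module.Flat R S := by
  rw [Module.Flat.iff_lTensor_preserves_injective_linearMap]
  intro M N _ _ _ _ l hl
  have h1 : Function.Injective (l.baseChange S) ↔ Function.Injective (l.lTensor S) := Iff.rfl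
  rw [← h1, ← Module.FaithfullyFlat.lTensor_injective_iff_injective S T]
  have h2 : Function.Injective (l.lTensor T) :=
    Module.Flat.lTensor_preserves_injective_linearMap l hl
  let eM := TensorProduct.AlgebraTensorModule.cancelBaseChange R S T T M
  let eN := TensorProduct.AlgebraTensorModule.cancelBaseChange R S T T N
  have h3 : (l.baseChange T) ∘ₗ eM.toLinearMap =
      eN.toLinearMap ∘ₗ ((l.baseChange S).baseChange T) := by
    ext m
    simp [eM, eN]
  have h4 : Function.Injective ((l.baseChange T) ∘ₗ eM.toLinearMap) := by
    rw [LinearMap.coe_comp]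
    exact Function.Injective.comp h2 eM.injective
  rw [h3, LinearMap.coe_comp] at h4
  exact Function.Injective.of_comp h4

/-- For ring maps A → B → C with C faithfully flat over B and C faithfully flat over A, the ring B is
faithfully flat over A. -/
theorem result (A B C : Type u) [CommRing A] [CommRing B]
    [CommRing C] [Algebra A B] [Algebra B C] [Algebra A C] [IsScalarTower A B C]
    [Module.FaithfullyFlat B C] [Module.FaithfullyFlat A C] : Module.FaithfullyFlat A B := by
  haveI := flat_of_comp A B C
  refine Module.FaithfullyFlat.of_comap_surjective fun p => ?_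
  obtain ⟨q, hq⟩ := PrimeSpectrum.comap_surjective_of_faithfullyFlat (A := A) (B := C) p
  refine ⟨PrimeSpectrum.comap (algebraMap B C) q, ?_⟩
  rw [← hq, ← PrimeSpectrum.comap_comp_apply, ← IsScalarTower.algebraMap_eq]

end Groth.Agent.S14351
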