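import Groth.Statements.S10005
import Groth.Agent.AlgSp.K604.LimSepY

set_option autoImplicit false
universe u
open CategoryTheory CategoryTheory.Limits AlgebraicGeometry
open AlgSp

namespace Groth.Agent.S10005

/-- Let `S` be a quasi-separated scheme and `X` the limit, in fppf sheaves over `S`, of a cofiltered
system `(X_i)` of quasi-compact algebraic spaces over `S`, each quasi-separated over `S`, whose
transition maps are affine. If `X` is separated over `S`, then `X_i` is separated over `S` for some
`i`. (The published statement uses absolute separatedness and quasi-separatedness and puts no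
condition on `S`; this row assumes `S` quasi-separated and takes both notions over `S`, which gives
the same quasi-separatedness and, when `S` is separated, the same separatedness.) -/
theorem result (S : Scheme.{u}) [QuasiSeparatedSpace S] {I : Type u} [SmallCategory I] [IsCofiltered I]
    (D : I ⥤ AlgSp.Sp S) (hD : ∀ i, AlgSp.IsAlgSpace (D.obj i))
    (hDa : ∀ (i j : I) (φ : i ⟶ j), AlgSp.IsAffineMor (D.map φ))
    (hqc : ∀ i, AlgSp.IsQuasiCompactSp (D.obj i)) (hqs : ∀ i, AlgSp.IsQuasiSeparatedSp (D.obj i))
    (c : Cone D) (hc : IsLimit c)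
    (hX : AlgSp.IsSeparatedSp c.pt) : ∃ i, AlgSp.IsSeparatedSp (D.obj i) := by
  let hT := K596.QC2.isTerminalYon S
  have h1 : AlgSp.IsQuasiSeparatedSp ((AlgSp.yon S).obj (Over.mk (𝟙 S))) := by
    refine (K613.Chart.repWith_diag_iff _).2 fun T a b => ?_
    refine ⟨T, 𝟙 T, ⟨?_, fun R r _ => ⟨r, Category.comp_id r, fun y hy => ?_⟩⟩, ?_⟩
    · exact hT.hom_ext _ _
    · rw [← hy]; exact (Category.comp_id y).symm
    · change QuasiCompact (𝟙 T.left)
      infer_instance
  obtain ⟨i, hi⟩ := K604.LimSepY.exists_isSeparatedMor (IsAlgSpace.yon_obj (Over.mk (𝟙 S))) h1 hD hDa hqc hqs hc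
    (fun i => hT.from (D.obj i)) (fun {i j} φ => hT.hom_ext _ _) (hT.from c.pt) (fun i => hT.hom_ext _ _)
    (K613.Diag.repWith_diagonal_of_diag hX _)
  refine ⟨i, ?_⟩
  have h2 := hi i (𝟙 i)
  refine (K613.Chart.repWith_diag_iff _).2 fun T a b => ?_
  exact (K613.Diag.repWith_diagonal_iff _ _).1 h2 T a b (hT.hom_ext _ _)

end Groth.Agent.S10005
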