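import Groth.Statements.S10042
import Groth.Agent.S10195
import Groth.Agent.AlgSp.K603.ImmAff
import Groth.Agent.AlgSp.K609.Sep
import Groth.Agent.AlgSp.K609.SepAff
import Groth.Agent.AlgSp.K609.QC
import Groth.Agent.AlgSp.K609.Loc
import Groth.Agent.AlgSp.K597.EtLoc
import Groth.Agent.AlgSp.K597.LocP
import Groth.Agent.AlgSp.K610.Factor
import Groth.Agent.AlgSp.K610.OpenImm
import Groth.Agent.AlgSp.K606.LqfDesc
import Groth.Agent.Desc.ImmersionDescent
import Mathlib.AlgebraicGeometry.AffineSpace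

set_option autoImplicit false
universe u
open CategoryTheory CategoryTheory.Limits AlgebraicGeometry
open AlgSp

namespace Groth.Agent.S10042

open K603.ImmAff

variable {S : Scheme.{u}}

/-- An immersion into `U ×_S W`, `U` and `W` affine, is an immersion into `Spec (Γ(U) ⊗ Γ(W))`. -/
theorem isImmersion_toTens {U V W : Scheme.{u}} [IsAffine U] [IsAffine V] (f : U ⟶ S) (g : V ⟶ S)
    (p : W ⟶ U) (q : W ⟶ V) (h : p ≫ f = q ≫ g) [IsImmersion (pullback.lift p q h)] :
    IsImmersion (K609.SepAff.toTens p q) := by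
  open K609.SepAff in
  let ι := equalizer.ι (r₁ U V ≫ f) (r₂ U V ≫ g)
  let d : W ⟶ equalizer (r₁ U V ≫ f) (r₂ U V ≫ g) := equalizer.lift (toTens p q) (by
    rw [← Category.assoc, ← Category.assoc, toTens_r₁, toTens_r₂, h])
  have hd : d ≫ ι = toTens p q := equalizer.lift_ι _ _
  let e : equalizer (r₁ U V ≫ f) (r₂ U V ≫ g) ⟶ pullback f g := pullback.lift (ι ≫ r₁ U V) (ι ≫ r₂ U V) (by
    rw [Category.assoc, Category.assoc]; exact equalizer.condition _ _)
  have he1 : e ≫ pullback.fst f g = ι ≫ r₁ U V := pullback.lift_fst _ _ _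
  have he2 : e ≫ pullback.snd f g = ι ≫ r₂ U V := pullback.lift_snd _ _ _
  have hde : d ≫ e = pullback.lift p q h := by
    apply pullback.hom_ext
    · rw [Category.assoc, he1, ← Category.assoc, hd, toTens_r₁, pullback.lift_fst]
    · rw [Category.assoc, he2, ← Category.assoc, hd, toTens_r₂, pullback.lift_snd]
  have h1 : IsImmersion (d ≫ e) := by rw [hde]; infer_instance
  have h2 : IsImmersion d := IsImmersion.of_comp d e
  rw [← hd]
  infer_instance

theorem good_mono {V : Scheme.{u}} {I J : Subring Γ(V, ⊤)} (hIJ : I ≤ J) (h : Good I) : Good J := by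
  intro v
  obtain ⟨r, hr, O, hO, hv, haff, hc⟩ := h v
  refine ⟨r, hIJ hr, O, hO, hv, haff, fun c => ?_⟩
  obtain ⟨N, x, hx, hxc⟩ := hc c
  exact ⟨N, x, hIJ hx, hxc⟩

theorem range_mul_le {U V W : Scheme.{u}} (p : W ⟶ U) (q : W ⟶ V) :
    (K609.SepAff.mul p q).hom.range ≤ p.appTop.hom.range ⊔ q.appTop.hom.range := by
  rintro _ ⟨x, rfl⟩
  induction x using TensorProduct.induction_on with
  | zero => rw [map_zero]; exact zero_mem _
  | tmul a b =>
    have : (K609.SepAff.mul p q).hom (a ⊗ₜ b) = p.appTop.hom a * q.appTop.hom b := by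
      simp [K609.SepAff.mul]
    rw [this]
    exact mul_mem ((le_sup_left : p.appTop.hom.range ≤ _) ⟨a, rfl⟩)
      ((le_sup_right : q.appTop.hom.range ≤ p.appTop.hom.range ⊔ _) ⟨b, rfl⟩)
  | add x y hx hy => rw [map_add]; exact add_mem hx hy

/-- the pullback square -/
theorem isPullback_prod {C : Type*} [Category C] [HasBinaryProducts C] {P U W X A : C} {p : P ⟶ U} {q : P ⟶ W}
    {f : U ⟶ X} {a : W ⟶ X} (sq : IsPullback p q f a) (g : U ⟶ A) :
    IsPullback p (prod.lift q (p ≫ g)) (prod.lift f g) (prod.map a (𝟙 A)) := by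
  refine ⟨⟨by
    apply prod.hom_ext
    · rw [Category.assoc, Category.assoc, prod.lift_fst, prod.map_fst, prod.lift_fst_assoc, sq.w]
    · rw [Category.assoc, Category.assoc, prod.lift_snd, prod.map_snd, prod.lift_snd_assoc, Category.comp_id]⟩,
    ⟨PullbackCone.IsLimit.mk _ (fun s => sq.lift s.fst (s.snd ≫ prod.fst) ?_)
    (fun s => sq.lift_fst _ _ _) (fun s => ?_) (fun s m h1 h2 => ?_)⟩⟩
  · have := congrArg (· ≫ prod.fst) s.condition
    simp only [Category.assoc, prod.lift_fst, prod.map_fst] at this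
    rw [this, Category.assoc]
  · have := congrArg (· ≫ prod.snd) s.condition
    simp only [Category.assoc, prod.lift_snd, prod.map_snd, Category.comp_id] at this
    apply prod.hom_ext
    · exact (Category.assoc _ _ _).trans ((congrArg (_ ≫ ·) (prod.lift_fst _ _)).trans (sq.lift_snd _ _ _))
    · rw [Category.assoc, prod.lift_snd, sq.lift_fst_assoc, this]
  · apply sq.hom_ext
    · rw [h1, sq.lift_fst]
    · rw [sq.lift_snd, ← h2, Category.assoc, prod.lift_fst]

theorem isPullback_comp_mono {C : Type*} [Category C] {P U W X Y : C} {p : P ⟶ U} {q : P ⟶ W}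
    {f : U ⟶ X} {a : W ⟶ X} (sq : IsPullback p q f a) (j : X ⟶ Y) [Mono j] : IsPullback p q (f ≫ j) (a ≫ j) :=
  ⟨⟨by rw [← Category.assoc, sq.w, Category.assoc]⟩, ⟨PullbackCone.IsLimit.mk _
    (fun s => sq.lift s.fst s.snd (by rw [← cancel_mono j, Category.assoc, Category.assoc, s.condition]))
    (fun s => sq.lift_fst _ _ _) (fun s => sq.lift_snd _ _ _)
    (fun s m h1 h2 => sq.hom_ext (by rw [h1, sq.lift_fst]) (by rw [h2, sq.lift_snd]))⟩⟩

/-- `Spec (Γ(U)[x])` or any ring mapping to the global functions. -/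
theorem isImmersion_of_factor {V Z : Scheme.{u}} {R : CommRingCat.{u}} (m : V ⟶ Z) (ρ : R ⟶ Γ(Z, ⊤))
    (h : IsImmersion (V.toSpecΓ ≫ Spec.map (ρ ≫ m.appTop))) : IsImmersion m := by
  have e : V.toSpecΓ ≫ Spec.map (ρ ≫ m.appTop) = m ≫ (Z.toSpecΓ ≫ Spec.map ρ) := by
    rw [Spec.map_comp, ← Scheme.toSpecΓ_naturality_assoc]
  rw [e] at h
  exact IsImmersion.of_comp m (Z.toSpecΓ ≫ Spec.map ρ)

noncomputable abbrev AS (S : Scheme.{u}) (n : ℕ) : Over S := Over.mk (𝔸(ULift.{u} (Fin n); S) ↘ S)

noncomputable abbrev vec {U : Over S} {n : ℕ} (a : ULift.{u} (Fin n) → Γ(U.left, ⊤)) : U ⟶ AS S n :=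
  Over.homMk (AffineSpace.homOfVector U.hom a) (AffineSpace.homOfVector_over _ _)

/-- The key statement over an affine chart. -/
theorem isImmersion_chart {X : Sp S} (hls : IsLocallySeparatedSp X) {U W V : Over S} [IsAffine U.left]
    [IsAffine W.left] [CompactSpace V.left] {f : (yon S).obj U ⟶ X} {a : (yon S).obj W ⟶ X} {p : V ⟶ U} {q : V ⟶ W}
    (sq : IsPullback ((yon S).map p) ((yon S).map q) f a) [LocallyOfFiniteType q.left] :
    ∃ (n : ℕ) (v : ULift.{u} (Fin n) → Γ(U.left, ⊤)),
      RepWith @IsImmersion (prod.lift ((yon S).map q) ((yon S).map p ≫ (yon S).map (vec v))) := by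
  have h1 : IsImmersion (pullback.lift p.left q.left ((Over.w p).trans (Over.w q).symm)) :=
    K609.Diag.prop_of_repWith_diag @IsImmersion hls sq
  have h2 := isImmersion_toTens U.hom W.hom p.left q.left ((Over.w p).trans (Over.w q).symm)
  have h3 := @good _ _ (K609.SepAff.mul p.left q.left) h2
  obtain ⟨s, hs⟩ := exists_finset q.left p.left.appTop.hom (good_mono (range_mul_le _ _) h3)
  refine ⟨s.card, fun i => (s.equivFin.symm i.down : Γ(U.left, ⊤)), ?_⟩
  set v : ULift.{u} (Fin s.card) → Γ(U.left, ⊤) := fun i => (s.equivFin.symm i.down : Γ(U.left, ⊤)) with hv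
  have e1 : prod.lift ((yon S).map q) ((yon S).map p ≫ (yon S).map (vec v)) =
      (yon S).map (prod.lift q (p ≫ vec v)) ≫ prodComparison (yon S) W (AS S s.card) := by
    apply prod.hom_ext
    · rw [prod.lift_fst, Category.assoc, prodComparison_fst, ← Functor.map_comp, prod.lift_fst]
    · rw [prod.lift_snd, Category.assoc, prodComparison_snd, ← Functor.map_comp, ← Functor.map_comp, prod.lift_snd]
  rw [e1, MorphismProperty.cancel_right_of_respectsIso (P := RepWith @IsImmersion), repWith_yon_map_iff]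
  let R : CommRingCat.{u} := CommRingCat.of (MvPolynomial (ULift.{u} (Fin s.card)) Γ(W.left, ⊤))
  let Z : Over S := W ⨯ AS S s.card
  let π₁ : Z ⟶ W := prod.fst
  let π₂ : Z ⟶ AS S s.card := prod.snd
  let ρ : R ⟶ Γ(Z.left, ⊤) := CommRingCat.ofHom (MvPolynomial.eval₂Hom π₁.left.appTop.hom
    (fun i => π₂.left.appTop (AffineSpace.coord S i)))
  refine isImmersion_of_factor (prod.lift q (p ≫ vec v)).left ρ (hs _ _ ?_ ?_)
  · rintro _ ⟨b, rfl⟩
    refine ⟨MvPolynomial.C b, ?_⟩
    change (prod.lift q (p ≫ vec v)).left.appTop (ρ (MvPolynomial.C b)) = q.left.appTop b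
    have h4 : ρ (MvPolynomial.C b) = π₁.left.appTop b := MvPolynomial.eval₂Hom_C _ _ _
    rw [h4, ← CommRingCat.comp_apply, ← Scheme.Hom.comp_appTop, ← Over.comp_left, prod.lift_fst]
  · intro a ha
    refine ⟨MvPolynomial.X ⟨s.equivFin ⟨a, ha⟩⟩, ?_⟩
    change (prod.lift q (p ≫ vec v)).left.appTop (ρ (MvPolynomial.X _)) = p.left.appTop a
    have h4 : ρ (MvPolynomial.X ⟨s.equivFin ⟨a, ha⟩⟩) =
      π₂.left.appTop (AffineSpace.coord S ⟨s.equivFin ⟨a, ha⟩⟩) := MvPolynomial.eval₂Hom_X' _ _ _
    rw [h4, ← CommRingCat.comp_apply, ← Scheme.Hom.comp_appTop, ← Over.comp_left, prod.lift_snd, Over.comp_left,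
      Scheme.Hom.comp_appTop, CommRingCat.comp_apply]
    congr 1
    have h5 := AffineSpace.homOfVector_appTop_coord U.hom v ⟨s.equivFin ⟨a, ha⟩⟩
    refine h5.trans ?_
    simp [hv]

/-- A quasi-compact open of `|X|` containing the image of an affine scheme. -/
theorem exists_open {X : Sp S} (hX : IsAlgSpace X) {U : Over S} [CompactSpace U.left] (f : (yon S).obj U ⟶ X) :
    ∃ O : Set (Points X), IsOpen O ∧ IsCompact O ∧ Set.range (Points.ofPt f) ⊆ O := by
  choose O hO hOc hxO _ using fun x : Points X => K609.QC.exists_isOpen_isCompact_nhd hX x Set.univ isOpen_univ trivial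
  have hc : IsCompact (Set.range (Points.ofPt f)) := isCompact_range (Points.continuous_ofPt f)
  obtain ⟨t, ht⟩ := hc.elim_finite_subcover O hO (fun x _ => Set.mem_iUnion.2 ⟨x, hxO x⟩)
  exact ⟨⋃ x ∈ t, O x, isOpen_biUnion fun x _ => hO x, t.finite_toSet.isCompact_biUnion fun x _ => hOc x, ht⟩

/-- Let `X` be a quasi-separated and locally separated algebraic space over `S`, `U` an affine scheme
over `S` and `f : U ⟶ X` locally of finite type. Then there are an `n` and an immersion `U ⟶ 𝐀^n_X =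
X ×_S 𝐀^n_S` over `X`. (The published statement allows any base scheme and uses absolute
quasi-separatedness; this row assumes the base quasi-separated, over which quasi-separatedness
relative to the base is the absolute notion.) -/
theorem result (S : Scheme.{u}) [QuasiSeparatedSpace S]
    (X : AlgSp.Space S) (hqs : AlgSp.IsQuasiSeparatedSp X.obj) (hls : AlgSp.IsLocallySeparatedSp X.obj)
    (U : Over S) (hU : IsAffine U.left) (f : (AlgSp.yon S).obj U ⟶ X.obj) (hf : AlgSp.LocP @LocallyOfFiniteType f) :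
    ∃ (n : ℕ) (i : (AlgSp.yon S).obj U ⟶ X.obj ⨯ (AlgSp.yon S).obj (Over.mk (𝔸(ULift.{u} (Fin n); S) ↘ S))),
      i ≫ prod.fst = f ∧ AlgSp.RepWith @IsImmersion i := by
  have hX : IsAlgSpace X.obj := X.property
  have hff : RepWith @LocallyOfFiniteType f :=
    K597.repWith_of_locP K597.etLoc_lft hX.hasAtlas (hX.representable_from_yon f) hf
  obtain ⟨O, hO, hOc, hfO⟩ := exists_open hX f
  obtain ⟨X', j, hj, hrange⟩ := Groth.Agent.S10195.result X O hO
  have hjm := K610.Factor.mono_of_isOpenImmersion hj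
  obtain ⟨f', hf'⟩ := K610.Factor.exists_lift_open hj f (by rw [hrange]; exact hfO)
  have hX' : IsAlgSpace X'.obj := X'.property
  have : CompactSpace (Points X'.obj) := by
    have h := K610.OpenImm.isOpenEmbedding_points hX hj
    rw [← isCompact_univ_iff, h.isInducing.isCompact_iff, Set.image_univ, hrange]
    exact hOc
  obtain ⟨W, a, hW, ha, has⟩ := K609.QC.exists_affine_chart (K609.QC.isQuasiCompactSp_of_compactSpace hX')
  obtain ⟨V, p, q, sq⟩ := K609.Sep.exists_isPullback_yon hX'.diag f' a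
  have sq' : IsPullback ((yon S).map p) ((yon S).map q) f (a ≫ j.hom) := by
    rw [← hf']
    exact isPullback_comp_mono sq j.hom
  have : CompactSpace V.left := K609.Sep.compactSpace_pullback hqs sq'
  have : LocallyOfFiniteType q.left := hff.2 _ _ _ sq'
  obtain ⟨n, v, hv⟩ := isImmersion_chart hls sq'
  have sqn := isPullback_prod sq ((yon S).map (vec v))
  have ha' : RepWith @Etale (prod.map a (𝟙 ((yon S).obj (AS S n)))) :=
    K609.Sep.repWith_prod_map _ ha (MorphismProperty.id_mem _ _)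
  have has' : RepWith @Surjective (prod.map a (𝟙 ((yon S).obj (AS S n)))) :=
    K609.Sep.repWith_prod_map _ has (MorphismProperty.id_mem _ _)
  have hi : RepWith @IsImmersion (prod.lift f' ((yon S).map (vec v))) := by
    have := Groth.Agent.Desc.ImmersionDescent.descendsAlong_isImmersion_fppf.{u}
    refine K609.Loc.repWith_of_desc @IsImmersion K609.Sep.Fppf ?_ (K609.Sep.repWith_fppf_of_etale ha' has') sqn hv
    exact K606.LqfDesc.representable_of_fSurj sqn (K613.Cover.ESurj.of_repWith ha' has').fSurj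
      (K610.Base.repWith_mono (fun _ _ g (_ : IsImmersion g) =>
        ⟨(inferInstance : IsSeparated g), (inferInstance : LocallyQuasiFinite g), (inferInstance : LocallyOfFiniteType g)⟩) hv)
  refine ⟨n, prod.lift f ((yon S).map (vec v)), prod.lift_fst _ _, ?_⟩
  have e : prod.lift f ((yon S).map (vec v)) = prod.lift f' ((yon S).map (vec v)) ≫ prod.map j.hom (𝟙 _) := by
    rw [prod.lift_map, hf', Category.comp_id]
  rw [e]
  have hji : RepWith @IsImmersion j.hom :=
    K610.Base.repWith_mono (fun _ _ g (_ : IsOpenImmersion g) => (inferInstance : IsImmersion g)) hj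
  exact MorphismProperty.comp_mem _ _ _ hi (K609.Sep.repWith_prod_map _ hji (MorphismProperty.id_mem _ _))

end Groth.Agent.S10042
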