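import Groth.Statements.S10044
import Groth.Agent.AlgSp.K603.UCAff

set_option autoImplicit false
universe u
open CategoryTheory CategoryTheory.Limits AlgebraicGeometry
open AlgSp

namespace Groth.Agent.S10044

/-- Let `f : X ⟶ Y` be a surjective and universally closed morphism of algebraic spaces over `S` with
`X` an affine scheme. Then `Y` is an affine scheme. -/
theorem result (S : Scheme.{u}) {X Y : AlgSp.Space S} (f : X ⟶ Y)
    (hsurj : AlgSp.IsSurjectiveMor f.hom) (huc : AlgSp.IsUnivClosedMor f.hom) (hX : ∃ (T : Over S), IsAffine T.left ∧ Nonempty ((AlgSp.yon S).obj T ≅ X.obj)) :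
    ∃ (T : Over S), IsAffine T.left ∧ Nonempty ((AlgSp.yon S).obj T ≅ Y.obj) := by
  obtain ⟨T, hT, ⟨e⟩⟩ := hX
  have hY := Y.property
  have hrep : Representable (e.hom ≫ f.hom) := fun U g => by
    obtain ⟨W, p, q, sq⟩ := K609.Sep.exists_isPullback_yon hY.diag (e.hom ≫ f.hom) g
    exact ⟨W, q, _, sq⟩
  have hrep' : Representable f.hom := by
    have := MorphismProperty.RespectsIso.precomp Representable e.inv (e.hom ≫ f.hom) hrep
    rwa [Iso.inv_hom_id_assoc] at this
  have h1 : RepWith @UniversallyClosed f.hom := (K596.Univ.repWith_universallyClosed_iff hrep').2 huc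
  have h2 : RepWith @Surjective f.hom := (K609.Points.repWith_surjective_iff hrep').2 hsurj
  have h1' : RepWith @UniversallyClosed (e.hom ≫ f.hom) := MorphismProperty.RespectsIso.precomp _ _ _ h1
  have h2' : RepWith @Surjective (e.hom ≫ f.hom) := MorphismProperty.RespectsIso.precomp _ _ _ h2
  exact K603.UCAff.aff_of_univClosed hY hT (e.hom ≫ f.hom)
    (K609.Points.surjective_map_of_repWith_surjective h2')
    ((K596.Univ.repWith_universallyClosed_iff h1'.1).1 h1')

end Groth.Agent.S10044
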