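import Groth.Statements.S10045
import Groth.Agent.AlgSp.K632.ThickSch
import Groth.Agent.AlgSp.K610.ZarGlue
import Groth.Agent.AlgSp.K609.Points

set_option autoImplicit false
universe u
open CategoryTheory CategoryTheory.Limits AlgebraicGeometry
open AlgSp

namespace Groth.Agent.S10045

/-- Let `X` be an algebraic space over `S` and `X_red ⟶ X` its reduction (the reduced closed subspace
with the same points). If `X_red` is a scheme, then `X` is a scheme. -/
theorem result (S : Scheme.{u}) (X Z : AlgSp.Space S) (i : Z ⟶ X)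
    (hi : AlgSp.IsRedInduced Set.univ i.hom) (hZ : Z.obj.obj.IsRepresentable) : X.obj.obj.IsRepresentable := by
  have h1 : RepWith @Surjective i.hom := (K609.Points.repWith_surjective_iff hi.1.1).2
    (Set.range_eq_univ.1 hi.2.1)
  obtain ⟨P, ⟨e⟩⟩ := K610.ZarGlue.isRepresentable_iff.1 hZ
  exact K610.ZarGlue.isRepresentable_iff.2
    (K632.ThickSch.exists_rep i ⟨hi.1.1, fun _ _ g fst snd sq => ⟨hi.1.2 _ _ _ sq, h1.2 _ _ _ sq⟩⟩ ⟨P, ⟨e⟩⟩)

end Groth.Agent.S10045
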