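import Groth.Statements.S10046
import Groth.Agent.AlgSp.K631.IntSch
import Groth.Agent.S10044
-- import your own Groth.Agent.* helpers here

set_option autoImplicit false
universe u
open CategoryTheory CategoryTheory.Limits AlgebraicGeometry
open AlgSp

namespace Groth.Agent.S10046

/-- Let `f : X ⟶ Y`, a morphism of algebraic spaces over `S`, be integral and induce a bijection on
points. Then `X` is representable by a scheme over `S` exactly when `Y` is. -/
theorem result (S : Scheme.{u}) {X Y : AlgSp.Space S} (f : X ⟶ Y)
    (hint : AlgSp.IsIntegralMor f.hom) (hbij : Function.Bijective (AlgSp.Points.map f.hom)) :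
    X.obj.obj.IsRepresentable ↔ Y.obj.obj.IsRepresentable := by
  exact K631.IntSch.isRepresentable_iff (fun f h1 h2 h3 => Groth.Agent.S10044.result S f h1 h2 h3) f hint hbij

end Groth.Agent.S10046
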