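import Groth.Statements.S10047
import Groth.Agent.AlgSp.K632.ClosedBij
import Groth.Agent.AlgSp.K632.GlobalIff

set_option autoImplicit false
universe u
open CategoryTheory CategoryTheory.Limits AlgebraicGeometry
open AlgSp

namespace Groth.Agent.S10047

/-- Let `f : X ⟶ B` and `g : B' ⟶ B` be morphisms of algebraic spaces over `S` with `g` a closed
immersion inducing a bijection on points, and suppose the base change `X ×_B B' ⟶ B'` is a closed
immersion. If `f` is of finite type or `g` is of finite presentation, then `f` is a closed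
immersion. -/
theorem result (S : Scheme.{u}) {X B B' : AlgSp.Space S}
    (f : X ⟶ B) (g : B' ⟶ B) (hg : AlgSp.RepWith @IsClosedImmersion g.hom)
    (hbij : Function.Bijective (AlgSp.Points.map g.hom))
    (X' : AlgSp.Sp S) (fst : X' ⟶ X.obj) (snd : X' ⟶ B'.obj) (hX' : IsPullback fst snd f.hom g.hom)
    (hsnd : AlgSp.RepWith @IsClosedImmersion snd)
    (hor : AlgSp.IsFiniteTypeMor f.hom ∨ AlgSp.IsFinitePresentationMor g.hom) :
    AlgSp.RepWith @IsClosedImmersion f.hom := by
  have hj : AlgSp.IsThickMor g.hom :=
    ⟨hg.1, fun _ _ b fst snd sq => ⟨hg.2 _ _ _ sq,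
      ((K609.Points.repWith_surjective_iff hg.1).2 hbij.2).2 _ _ _ sq⟩⟩
  have h1 : AlgSp.LocP @LocallyOfFiniteType f.hom := by
    rcases hor with h | h
    · exact h.1
    · refine K632.ClosedBij.locP_lft hX' hj
        (K597.repWith_of_locP K597.etLoc_lfp B.property.hasAtlas hg.1 h.1) ?_
      exact K632.GlobalIff.locP_lft_of_repWith (fun X Y f h => by
        have : IsClosedImmersion f := h
        infer_instance) hsnd
  exact K632.Global.repWith_isClosedImmersion X.property B.property hX' hj h1 hsnd

end Groth.Agent.S10047
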