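import Groth.Statements.S10049
import Groth.Agent.S10007
import Groth.Agent.AlgSp.K603.ClChain
import Groth.Agent.AlgSp.K601.RelAff
import Groth.Agent.AlgSp.K604.LimFin
import Groth.Agent.AlgSp.K618.OpenSurj
import Groth.Agent.AlgSp.K609.QC

set_option autoImplicit false
universe u
open CategoryTheory CategoryTheory.Limits AlgebraicGeometry
open AlgSp

namespace Groth.Agent.S10049

/-- Let `X` be an algebraic space, quasi-compact and quasi-separated over the scheme `S`, which is not a
scheme. Then there is a closed subspace `Z ⊂ X` which is not a scheme such that every proper closed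
subspace `Z' ⊊ Z` is a scheme. (The published statement allows any base scheme and uses absolute
quasi-separatedness; this row assumes the base quasi-separated, over which quasi-separatedness
relative to the base is the absolute notion.) -/
theorem result (S : Scheme.{u}) [QuasiSeparatedSpace S]
    (X : AlgSp.Space S) (hXqc : AlgSp.IsQuasiCompactSp X.obj) (hXqs : AlgSp.IsQuasiSeparatedSp X.obj) (hX : ¬ X.obj.obj.IsRepresentable) :
    ∃ (Z : AlgSp.Space S) (i : Z ⟶ X), AlgSp.RepWith @IsClosedImmersion i.hom ∧ ¬ Z.obj.obj.IsRepresentable ∧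
      ∀ (Z' : AlgSp.Space S) (i' : Z' ⟶ Z), AlgSp.RepWith @IsClosedImmersion i'.hom → ¬ IsIso i' → Z'.obj.obj.IsRepresentable := by
  obtain ⟨W, p, -, hp, hps⟩ := K609.QC.exists_affine_chart hXqc
  obtain ⟨A, hA, hmin⟩ := K603.ClChain.exists_maximal hp hps (fun F => F.obj.IsRepresentable)
    (fun e h => K618.OpenSurj.isRepresentable_of_iso e h) (by
      intro I _ _ D hD hDc c hc hcr
      have hDa : ∀ i, ∃ k : D.obj i ⟶ X.obj, AlgSp.IsAffineMor k := fun i =>
        (hD i).imp fun k hk => K604.LimFin.isAffineMor_of_closed hk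
      exact Groth.Agent.S10007.result S D
        (fun i => (hD i).elim fun k hk => K598.RepKit.isAlgSpace_of_repWith_isClosedImmersion hk X.property)
        (fun i j φ => K604.LimFin.isAffineMor_of_closed (hDc i j φ))
        (fun i => (hDa i).elim fun k hk => K601.RelAff.isQuasiCompactSp_of_affine hk hXqc)
        (fun i => (hDa i).elim fun k hk => K601.RelAff.isQuasiSeparatedSp_of_affine hk hXqs) c hc hcr) hX
  refine ⟨⟨A.sheaf, A.isAlgSpace_sheaf X.property⟩, ⟨A.ι⟩, A.repWith_ι, hA, ?_⟩
  intro Z' i' hi' hni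
  let k : Z'.obj ⟶ A.sheaf := i'.hom
  have hk : RepWith @IsClosedImmersion k := hi'
  have hcomp : RepWith @IsClosedImmersion (k ≫ A.ι) := MorphismProperty.comp_mem _ _ _ hk A.repWith_ι
  let B := K598.ClFam.ofClosed (k ≫ A.ι) hcomp
  have hAB : A ≤ B := by
    have := (K598.ClFam.exists_hom_iff_le hcomp A.repWith_ι).1 ⟨k, rfl⟩
    rwa [K598.ClFam.ofClosed_ι] at this
  obtain ⟨e, he1, he2⟩ := K598.ClFam.exists_iso_of_eq hcomp B.repWith_ι (K598.ClFam.ofClosed_ι B).symm
  have hne : A ≠ B := by
    intro hAB'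
    apply hni
    obtain ⟨e', he1', he2'⟩ := K598.ClFam.exists_iso_of_eq hcomp A.repWith_ι
      ((K598.ClFam.ofClosed_ι A).trans hAB').symm
    have h3 : e'.hom = k := by rw [← cancel_mono A.ι, he1']
    have h4 : IsIso k := h3 ▸ (inferInstance : IsIso e'.hom)
    have h5 : IsIso ((ObjectProperty.ι (IsAlgSpace (S := S))).map i') := h4
    exact isIso_of_reflects_iso i' (ObjectProperty.ι (IsAlgSpace (S := S)))
  exact K618.OpenSurj.isRepresentable_of_iso e.symm (hmin B hAB hne)

end Groth.Agent.S10049
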