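import Groth.Statements.S10050
import Groth.Agent.S10045
import Groth.Agent.AlgSp.K603.UnionSch

set_option autoImplicit false
universe u
open CategoryTheory CategoryTheory.Limits AlgebraicGeometry
open AlgSp

namespace Groth.Agent.S10050

/-- Let `X` be an algebraic space, quasi-compact and quasi-separated over the scheme `S`, which is not a
scheme although every proper closed subspace of `X` is one. Then `X` is reduced and irreducible.
(The published statement allows any base scheme and uses absolute quasi-separatedness; this row
assumes the base quasi-separated, over which quasi-separatedness relative to the base is the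
absolute notion.) -/
theorem result (S : Scheme.{u}) [QuasiSeparatedSpace S]
    (X : AlgSp.Space S) (hXqc : AlgSp.IsQuasiCompactSp X.obj) (hXqs : AlgSp.IsQuasiSeparatedSp X.obj) (hX : ¬ X.obj.obj.IsRepresentable)
    (hmin : ∀ (Z : AlgSp.Space S) (i : Z ⟶ X), AlgSp.RepWith @IsClosedImmersion i.hom → ¬ IsIso i → Z.obj.obj.IsRepresentable) :
    AlgSp.IsReducedSp X.obj ∧ IrreducibleSpace (AlgSp.Points X.obj) := by
  refine ⟨?_, K603.UnionSch.irreducibleSpace hX hmin⟩
  obtain ⟨Z, i, hZ, hi⟩ := K598.Red.exists_isRedInduced X.property Set.univ isClosed_univ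
  let Z' : Space S := ⟨Z, hZ⟩
  let i' : Z' ⟶ X := ⟨i⟩
  have h1 : IsIso i' := by
    by_contra h
    exact hX (Groth.Agent.S10045.result S X Z' i' hi (hmin Z' i' hi.1 h))
  have h2 : IsIso i := (inferInstance : IsIso ((ObjectProperty.ι _).map i'))
  obtain ⟨-, -, U, p, h3, h4, h5⟩ := hi
  exact ⟨U, p ≫ i, MorphismProperty.RespectsIso.postcomp _ _ _ h3, MorphismProperty.RespectsIso.postcomp _ _ _ h4, h5⟩

end Groth.Agent.S10050
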