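import Groth.Statements.S10051
import Groth.Agent.AlgSp.K624.LocRep
import Groth.Agent.AlgSp.K610.SchLocus
import Groth.Agent.AlgSp.K610.Base

set_option autoImplicit false
universe u
open CategoryTheory CategoryTheory.Limits AlgebraicGeometry
open AlgSp

namespace Groth.Agent.S10051

/-- Let `X` be an algebraic space whose structure morphism to the scheme `S` is quasi-compact and
quasi-separated. If for every `x ∈ |X|` with image `s ∈ S` the base change `X ×_S Spec(O_{S,s})` is
a scheme, then `X` is a scheme. -/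
theorem result (S : Scheme.{u}) (X : AlgSp.Space S)
    (q : X.obj ⟶ (AlgSp.yon S).obj (Over.mk (𝟙 S))) (hqc : AlgSp.IsQuasiCompactMor q) (hqs : AlgSp.IsQuasiSeparatedMor q)
    (h : ∀ x : AlgSp.Points X.obj, ∀ (P : AlgSp.Sp S) (fst : P ⟶ X.obj)
      (snd : P ⟶ (AlgSp.yon S).obj (Over.mk (S.fromSpecStalk ((AlgSp.Points.schemeHomeo (Over.mk (𝟙 S))).symm (AlgSp.Points.map q x))))),
      IsPullback fst snd q ((AlgSp.yon S).map (Over.homMk (S.fromSpecStalk _))) → P.obj.IsRepresentable) :
    X.obj.obj.IsRepresentable := by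
  rw [K610.SchLocus.isRepresentable_iff_forall]
  intro x
  obtain ⟨T, Q, fst, snd, t, hT, ⟨t₀, ht₀⟩, sq, hQ⟩ := K624.LocRep.exists_open (S' := S)
    ((AlgSp.Points.schemeHomeo (Over.mk (𝟙 S))).symm (AlgSp.Points.map q x)) X.property q hqc hqs (by
      intro P fst snd t sq
      refine h x P fst snd ?_
      have : t = (yon S).map (Over.homMk (S.fromSpecStalk _)) := K624.LimBase.hom_ext_id _ _
      rw [← this]
      exact sq)
  obtain ⟨φ, hφ⟩ : ∃ φ : T ⟶ Over.mk (𝟙 S), t = (yon S).map φ := ⟨Over.mkIdTerminal.from _, K624.LimBase.hom_ext_id _ _⟩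
  have hφl : φ.left = T.hom := by
    have := Over.w φ
    exact (Category.comp_id _).symm.trans this
  subst hφ
  have hfst : RepWith @IsOpenImmersion fst := by
    have h1 : RepWith @IsOpenImmersion ((yon S).map φ) := (repWith_yon_map_iff _ _).2 (hφl ▸ hT)
    exact MorphismProperty.of_isPullback (P := RepWith @IsOpenImmersion) sq.flip h1
  refine ⟨Set.range (Points.map fst), (K610.SchLocus.isSch_iff hfst).2 hQ, ?_⟩
  obtain ⟨z, hz, -⟩ := K610.Base.exists_of_isPullback sq x (Points.schemeHomeo T t₀) (by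
    refine Eq.trans ?_ (Points.map_yon_map_apply φ t₀).symm
    rw [hφl, ht₀, Homeomorph.apply_symm_apply])
  exact ⟨z, hz⟩

end Groth.Agent.S10051
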