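import Groth.Statements.S10052
import Groth.Agent.AlgSp.K624.LimBase

set_option autoImplicit false
universe u
open CategoryTheory CategoryTheory.Limits AlgebraicGeometry
open AlgSp

namespace Groth.Agent.S10052

/-- Let `X` be an algebraic space over `Spec A` with quasi-compact and quasi-separated structure
morphism. If `X` is not a scheme, there is an ideal `I ⊂ A` such that `X_{A/I}` is not a scheme but
`X_{A/I'}` is a scheme for every ideal `I'` strictly containing `I`. -/
theorem result (A : CommRingCat.{u}) (X : AlgSp.Space (Spec A))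
    (q : X.obj ⟶ (AlgSp.yon (Spec A)).obj (Over.mk (𝟙 (Spec A))))
    (hqc : AlgSp.IsQuasiCompactMor q) (hqs : AlgSp.IsQuasiSeparatedMor q) (hX : ¬ X.obj.obj.IsRepresentable) :
    ∃ I : Ideal A,
      (∀ (P : AlgSp.Sp (Spec A)) (fst : P ⟶ X.obj)
        (snd : P ⟶ (AlgSp.yon (Spec A)).obj (Over.mk (Spec.map (CommRingCat.ofHom (Ideal.Quotient.mk I))))),
        IsPullback fst snd q ((AlgSp.yon (Spec A)).map (Over.homMk (Spec.map (CommRingCat.ofHom (Ideal.Quotient.mk I))))) →
          ¬ P.obj.IsRepresentable) ∧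
      ∀ I' : Ideal A, I < I' →
        ∀ (P : AlgSp.Sp (Spec A)) (fst : P ⟶ X.obj)
          (snd : P ⟶ (AlgSp.yon (Spec A)).obj (Over.mk (Spec.map (CommRingCat.ofHom (Ideal.Quotient.mk I'))))),
          IsPullback fst snd q ((AlgSp.yon (Spec A)).map (Over.homMk (Spec.map (CommRingCat.ofHom (Ideal.Quotient.mk I'))))) →
            P.obj.IsRepresentable := by
  classical
  have hXa := X.property
  let NR : Ideal A → Prop := fun I => ∀ (P : AlgSp.Sp (Spec A)) (fst : P ⟶ X.obj)
    (snd : P ⟶ (AlgSp.yon (Spec A)).obj (K624.LimBase.cl A I))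
    (t : (AlgSp.yon (Spec A)).obj (K624.LimBase.cl A I) ⟶ (AlgSp.yon (Spec A)).obj (Over.mk (𝟙 (Spec A)))),
      IsPullback fst snd q t → ¬ P.obj.IsRepresentable
  have hNR : ∀ I, ¬ NR I → ∀ (P : AlgSp.Sp (Spec A)) (fst : P ⟶ X.obj)
      (snd : P ⟶ (AlgSp.yon (Spec A)).obj (K624.LimBase.cl A I))
      (t : (AlgSp.yon (Spec A)).obj (K624.LimBase.cl A I) ⟶ (AlgSp.yon (Spec A)).obj (Over.mk (𝟙 (Spec A)))),
      IsPullback fst snd q t → P.obj.IsRepresentable := by
    intro I hI P fst snd t sq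
    by_contra hP
    refine hI fun P' fst' snd' t' sq' hP' => hP ?_
    have ht : t' = t := K624.LimBase.hom_ext_id _ _
    subst ht
    exact K618.OpenSurj.isRepresentable_of_iso (sq'.isoIsPullback _ _ sq) hP'
  have hbot : NR ⊥ := by
    intro P fst snd t sq hP
    have h1 : Function.Bijective (Ideal.Quotient.mk (⊥ : Ideal A)) :=
      (RingEquiv.quotientBot A).symm.bijective
    have h2 : IsIso (CommRingCat.ofHom (Ideal.Quotient.mk (⊥ : Ideal A))) :=
      (ConcreteCategory.isIso_iff_bijective _).2 h1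
    let m : K624.LimBase.cl A ⊥ ⟶ Over.mk (𝟙 (Spec A)) := Over.homMk
      (Spec.map (CommRingCat.ofHom (Ideal.Quotient.mk (⊥ : Ideal A))))
    have h3 : IsIso m := by
      have : IsIso ((Over.forget (Spec A)).map m) :=
        inferInstanceAs (IsIso (Spec.map (CommRingCat.ofHom (Ideal.Quotient.mk (⊥ : Ideal A)))))
      exact isIso_of_reflects_iso m (Over.forget _)
    have ht : t = (AlgSp.yon _).map m := K624.LimBase.hom_ext_id _ _
    have h4 : IsIso t := by
      rw [ht]
      infer_instance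
    have h5 : IsIso fst := sq.flip.isIso_snd_of_isIso
    exact hX (K618.OpenSurj.isRepresentable_of_iso (asIso fst) hP)
  obtain ⟨I, -, hI⟩ := zorn_le_nonempty₀ {I : Ideal A | NR I} (fun C hC hch J hJ => by
    refine ⟨sSup C, ?_, fun I hI => le_sSup hI⟩
    intro P fst snd t sq hP
    have : Nonempty ↥C := ⟨⟨J, hJ⟩⟩
    have : IsDirectedOrder ↥C := by
      refine ⟨fun a b => ?_⟩
      rcases hch.total a.2 b.2 with h | h
      · exact ⟨b, h, le_rfl⟩
      · exact ⟨a, le_rfl, h⟩
    have : IsFiltered ↥C := isFiltered_of_directed_le_nonempty _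
    obtain ⟨j, hj⟩ := K624.LimBase.exists_stage_rep (K624.LimBase.sys C)
      (fun j => inferInstanceAs (IsAffine (K624.LimBase.cl A j.unop.1).left))
      (K624.LimBase.isLimitCone C) hXa q hqc hqs sq hP
    have sq' := IsPullback.of_hasPullback q ((AlgSp.yon (Spec A)).map
      (Over.mkIdTerminal.from (K624.LimBase.cl A j.unop.1)))
    exact hC j.unop.2 _ _ _ _ sq' (hj _ _ _ _ sq')) ⊥ hbot
  refine ⟨I, fun P fst snd sq => hI.1 P fst snd _ sq, fun I' hI' P fst snd sq => ?_⟩
  refine hNR I' (fun h => ?_) P fst snd _ sq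
  exact absurd (hI.2 h hI'.le) (not_le_of_gt hI')

end Groth.Agent.S10052
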