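import Groth.Statements.S10054
import Groth.Agent.AlgSp.K603.Points
import Groth.Agent.AlgSp.K603.DvrSch

set_option autoImplicit false
universe u
open CategoryTheory CategoryTheory.Limits AlgebraicGeometry
open AlgSp

namespace Groth.Agent.S10054

open K603.Points

theorem exists_affine_nhd (X : Scheme.{u}) (x : X) :
    ∃ (R : CommRingCat.{u}) (ι : Spec R ⟶ X), IsOpenImmersion ι ∧ x ∈ Set.range ι := by
  have h : IsOpenImmersion (X.affineCover.f (X.affineCover.idx x)) := inferInstance
  exact ⟨_, X.affineCover.f (X.affineCover.idx x), h, X.affineCover.covers x⟩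

/-- Let `f : X ⟶ Y` be a morphism of finite type of algebraic spaces over `S` with `Y` locally
Noetherian, and `y ∈ |Y|` a point lying in the closure of `f`'s image on points. Then one can find a
discrete valuation ring `A` with fraction field `K` and a commutative square `Spec K ⟶ X`, `Spec A ⟶
Y` (over `f` and `Spec K ⟶ Spec A`) sending the closed point of `Spec A` to `y`. (The refinement
that the `K`-point may be taken at a codimension-0 point with `K` a residue field of an etale chart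
is not included.) -/
theorem result (S : Scheme.{u}) {X Y : AlgSp.Space S} (f : X ⟶ Y)
    (hft : AlgSp.IsFiniteTypeMor f.hom) (hY : AlgSp.IsLocNoethSp Y.obj) (y : AlgSp.Points Y.obj)
    (hy : y ∈ closure (Set.range (AlgSp.Points.map f.hom))) :
    ∃ (A : Type u) (_ : CommRing A) (_ : IsDomain A) (_ : IsDiscreteValuationRing A)
      (a : Spec (CommRingCat.of A) ⟶ S)
      (α : (AlgSp.yon S).obj (Over.mk a) ⟶ Y.obj)
      (κ : (AlgSp.yon S).obj (Over.mk (Spec.map (CommRingCat.ofHom (algebraMap A (FractionRing A))) ≫ a)) ⟶ X.obj),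
      κ ≫ f.hom = (AlgSp.yon S).map (Over.homMk (Spec.map (CommRingCat.ofHom (algebraMap A (FractionRing A))))) ≫ α ∧
      AlgSp.Points.map α (AlgSp.Points.schemeEquiv (Over.mk a) (IsLocalRing.closedPoint A)) = y := by
  obtain ⟨V, p, hpe, hps, hV⟩ := hY
  have : IsLocallyNoetherian V.left := hV
  obtain ⟨v, rfl⟩ := surjective_ofPt_of_repWith p hps y
  obtain ⟨R, ι, hι, w, rfl⟩ := exists_affine_nhd V.left v
  let W₀ : Over S := Over.mk (ι ≫ V.hom)
  let ιo : W₀ ⟶ V := Over.homMk ι
  have hW₀ : IsLocallyNoetherian W₀.left := isLocallyNoetherian_of_isOpenImmersion ι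
  have hbe : RepWith @Etale ((yon S).map ιo ≫ p) := by
    refine (repWith_isMultiplicative (S := S) @Etale).comp_mem _ _ ((repWith_yon_map_iff _ _).2 ?_) hpe
    change Etale ι
    infer_instance
  have sq₀ := IsPullback.of_hasPullback f.hom ((yon S).map ιo ≫ p)
  obtain ⟨U, u, hu, hus, hU⟩ := hft.2 (IsAlgSpace.yon_obj W₀)
      ⟨_, 𝟙 _, repWith_id @Etale _, repWith_id @Surjective _, inferInstanceAs (CompactSpace (Spec R))⟩
      _ _ _ sq₀
  have : CompactSpace U.left := hU
  obtain ⟨gU, hgU⟩ := (yon S).map_surjective (u ≫ pullback.snd f.hom ((yon S).map ιo ≫ p))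
  have hfst : RepWith @Etale (pullback.fst f.hom ((yon S).map ιo ≫ p)) :=
    (repWith_isStableUnderBaseChange (S := S) @Etale).of_isPullback sq₀.flip hbe
  have hlft : LocallyOfFiniteType gU.left := by
    refine hft.1 (u ≫ pullback.fst f.hom ((yon S).map ιo ≫ p)) ((yon S).map ιo ≫ p) gU
      ((repWith_isMultiplicative (S := S) @Etale).comp_mem _ _ hu hfst) hbe ?_
    rw [hgU, Category.assoc, Category.assoc, sq₀.w]
  have hQ : QuasiSeparatedSpace W₀.left := inferInstanceAs (QuasiSeparatedSpace (Spec R))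
  have hqc : QuasiCompact gU.left := inferInstance
  have hcl : w ∈ closure (Set.range gU.left) := by
    rw [mem_closure_iff]
    intro O hO hwO
    have h1 := isOpenMap_ofPt_of_etale ((yon S).map ιo ≫ p) hbe O hO
    obtain ⟨_, ⟨o, ho, e⟩, ⟨x, rfl⟩⟩ := mem_closure_iff.1 hy _ h1 ⟨w, hwO, ofPt_comp ιo p w⟩
    obtain ⟨q, hq1, hq2⟩ := exists_of_isPullback sq₀ x (AlgSp.Points.schemeEquiv W₀ o)
      (e.symm.trans (ofPt_eq_map _ o))
    obtain ⟨u', hu'⟩ := surjective_ofPt_of_repWith u hus q
    refine ⟨o, ho, u', ?_⟩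
    apply (AlgSp.Points.schemeEquiv W₀).injective
    rw [← hq2, ← hu', ← map_yon, hgU, AlgSp.Points.map_comp, ← ofPt_eq_map]
  obtain ⟨A, _, _, _, α, κ, h1, h2⟩ := K603.DvrSch.exists_dvr_of_mem_closure gU.left w hcl
  let TA : Over S := Over.mk (α ≫ W₀.hom)
  let TK : Over S := Over.mk (Spec.map (CommRingCat.ofHom (algebraMap A (FractionRing A))) ≫ α ≫ W₀.hom)
  let αo : TA ⟶ W₀ := Over.homMk α
  let κo : TK ⟶ U := Over.homMk κ (by
    change κ ≫ U.hom = Spec.map _ ≫ α ≫ W₀.hom
    rw [← Over.w gU, ← Category.assoc, h1, Category.assoc])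
  have hκα : κo ≫ gU = (Over.homMk (Spec.map (CommRingCat.ofHom (algebraMap A (FractionRing A)))) : TK ⟶ TA) ≫ αo :=
    Over.OverMorphism.ext h1
  refine ⟨A, inferInstance, inferInstance, inferInstance, α ≫ W₀.hom,
    (yon S).map αo ≫ (yon S).map ιo ≫ p,
    (yon S).map κo ≫ u ≫ pullback.fst f.hom ((yon S).map ιo ≫ p), ?_, ?_⟩
  · have e1 : (yon S).map κo ≫ u ≫ pullback.snd f.hom ((yon S).map ιo ≫ p) =
        (yon S).map (Over.homMk (Spec.map (CommRingCat.ofHom (algebraMap A (FractionRing A)))) : TK ⟶ TA) ≫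
          (yon S).map αo := by
      rw [← hgU, ← Functor.map_comp, hκα, Functor.map_comp]
    calc ((yon S).map κo ≫ u ≫ pullback.fst f.hom ((yon S).map ιo ≫ p)) ≫ f.hom
        = (yon S).map κo ≫ u ≫ (pullback.fst f.hom ((yon S).map ιo ≫ p) ≫ f.hom) := by
          simp only [Category.assoc]
      _ = ((yon S).map κo ≫ u ≫ pullback.snd f.hom ((yon S).map ιo ≫ p)) ≫ (yon S).map ιo ≫ p := by
          rw [sq₀.w]; simp only [Category.assoc]
      _ = _ := by rw [e1]; simp only [Category.assoc]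
  · rw [← ofPt_eq_map]
    erw [ofPt_comp αo ((yon S).map ιo ≫ p)]
    rw [ofPt_comp]
    congr 1
    exact congrArg ι h2

end Groth.Agent.S10054
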