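-- Proof of S10055 (AlgSp.closedImmersion_limMap_of_closedImmersions).
import Groth.Statements.S10055
import Groth.Agent.AlgSp.K613.Basic

set_option autoImplicit false
universe u
open CategoryTheory CategoryTheory.Limits AlgebraicGeometry
open AlgSp

namespace Groth.Agent.S10055

/-- maps from a scheme into a sheaf whose composite with a representable monomorphism agree are equal -/
theorem eq_of_comp_eq {S : Scheme.{u}} {F G : AlgSp.Sp S} {f : F ⟶ G}
    (hf : AlgSp.RepWith @IsClosedImmersion f) {T : Over S} {a b : (AlgSp.yon S).obj T ⟶ F}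
    (hab : a ≫ f = b ≫ f) : a = b := by
  obtain ⟨V, snd, fst, sq⟩ := hf.1 (a ≫ f)
  have hci : IsClosedImmersion snd.left := hf.2 _ _ _ sq
  have hm : Mono snd.left := inferInstance
  have hm' : Mono snd := Over.mono_of_mono_left snd
  have h1 : sq.lift a (𝟙 _) (by rw [Category.id_comp]) =
      sq.lift b (𝟙 _) (by rw [Category.id_comp, hab]) := by
    have : Mono ((AlgSp.yon S).map snd) := inferInstance
    rw [← cancel_mono ((AlgSp.yon S).map snd), sq.lift_snd, sq.lift_snd]
  have h2 := congrArg (· ≫ fst) h1
  simpa using h2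

/-- Let `(X_i) ⟶ (Y_i)` be a morphism of cofiltered systems of algebraic spaces over `S`, both with
affine transition morphisms, with every `X_i ⟶ Y_i` a closed immersion. Then the induced morphism of
limits (in fppf sheaves) `lim X_i ⟶ lim Y_i` is a closed immersion. -/
theorem result (S : Scheme.{u}) {I : Type u} [SmallCategory I] [IsCofiltered I]
    (DX DY : I ⥤ AlgSp.Sp S) (hDX : ∀ i, AlgSp.IsAlgSpace (DX.obj i)) (hDY : ∀ i, AlgSp.IsAlgSpace (DY.obj i))
    (hXa : ∀ (i j : I) (φ : i ⟶ j), AlgSp.IsAffineMor (DX.map φ)) (hYa : ∀ (i j : I) (φ : i ⟶ j), AlgSp.IsAffineMor (DY.map φ))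
    (τ : DX ⟶ DY) (hτ : ∀ i, AlgSp.RepWith @IsClosedImmersion (τ.app i))
    (cX : Cone DX) (hcX : IsLimit cX) (cY : Cone DY) (hcY : IsLimit cY)
    (g : cX.pt ⟶ cY.pt) (hg : ∀ i, g ≫ cY.π.app i = cX.π.app i ≫ τ.app i) :
    AlgSp.RepWith @IsClosedImmersion g := by
  refine MorphismProperty.relative.of_exists ?_
  intro U y
  -- the pullbacks at the finite levels
  choose V v fst sq using fun i => (hτ i).1 (y ≫ cY.π.app i)
  have hv : ∀ i, IsClosedImmersion (v i).left := fun i => (hτ i).2 _ _ _ (sq i)
  -- the intersection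
  let K : U.left.IdealSheafData := ⨆ i, (v i).left.ker
  let W : Over S := Over.mk (K.subschemeι ≫ U.hom)
  let w : W ⟶ U := Over.homMk K.subschemeι rfl
  have hK : K.subschemeι.ker = K := K.ker_subschemeι
  have hwi : ∀ i, ∃ k : W ⟶ V i, k ≫ v i = w := by
    intro i
    refine ⟨Over.homMk (IsClosedImmersion.lift (v i).left K.subschemeι
      (by rw [hK]; exact le_iSup (fun i => (v i).left.ker) i)) ?_, ?_⟩
    · rw [← Over.w (v i), IsClosedImmersion.lift_fac_assoc]; rfl
    · ext : 1
      exact IsClosedImmersion.lift_fac _ _ _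
  choose k hk using hwi
  have hwmono : Mono w := by
    have : Mono w.left := inferInstanceAs (Mono K.subschemeι)
    exact Over.mono_of_mono_left w
  have hmem : ∀ i, ((AlgSp.yon S).map (k i) ≫ fst i) ≫ τ.app i =
      (AlgSp.yon S).map w ≫ y ≫ cY.π.app i := by
    intro i
    rw [Category.assoc, (sq i).w, ← Category.assoc, ← Functor.map_comp, hk]
  -- the map to the limit
  let cW : Cone DX :=
    { pt := (AlgSp.yon S).obj W
      π := 
        { app := fun i => (AlgSp.yon S).map (k i) ≫ fst i
          naturality := by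
            intro i j φ
            refine eq_of_comp_eq (hτ j) ?_
            have h1 : (((AlgSp.yon S).map (k i) ≫ fst i) ≫ DX.map φ) ≫ τ.app j =
                (AlgSp.yon S).map w ≫ y ≫ cY.π.app j := by
              rw [Category.assoc, τ.naturality, ← Category.assoc, hmem, Category.assoc,
                Category.assoc, cY.w]
            rw [h1, ← hmem j]
            exact congrArg (· ≫ τ.app j) (Category.id_comp ((AlgSp.yon S).map (k j) ≫ fst j)) } }
  refine ⟨W, hcX.lift cW, w, ?_, ?_⟩
  · refine K613.Basic.isPullback_of_yon ?_ ?_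
    · refine hcY.hom_ext fun i => ?_
      rw [Category.assoc, hg, ← Category.assoc, hcX.fac, Category.assoc]
      exact hmem i
    · intro T a b hab
      obtain ⟨b, rfl⟩ := (AlgSp.yon S).map_surjective b
      -- `b` factors through `W`
      have hb : K ≤ b.left.ker := by
        refine iSup_le fun i => ?_
        obtain ⟨t, ht⟩ := (AlgSp.yon S).map_surjective ((sq i).lift (a ≫ cX.π.app i) ((AlgSp.yon S).map b) (by
          rw [Category.assoc, ← hg, ← Category.assoc, hab, Category.assoc]))
        have ht' : t ≫ v i = b := by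
          apply (AlgSp.yon S).map_injective
          rw [Functor.map_comp, ht, (sq i).lift_snd]
        have : b.left = t.left ≫ (v i).left := by rw [← ht', Over.comp_left]
        rw [this]
        exact Scheme.Hom.le_ker_comp _ _
      let r : T ⟶ W := Over.homMk (IsClosedImmersion.lift K.subschemeι b.left (by rw [hK]; exact hb)) (by
        rw [← Over.w b]
        change IsClosedImmersion.lift K.subschemeι b.left _ ≫ K.subschemeι ≫ U.hom = _
        rw [IsClosedImmersion.lift_fac_assoc])
      have hr : r ≫ w = b := by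
        ext : 1
        exact IsClosedImmersion.lift_fac _ _ _
      refine ⟨(AlgSp.yon S).map r, ⟨?_, ?_⟩, ?_⟩
      · refine hcX.hom_ext fun i => ?_
        refine eq_of_comp_eq (hτ i) ?_
        have e : ((AlgSp.yon S).map r ≫ hcX.lift cW) ≫ cX.π.app i =
            (AlgSp.yon S).map r ≫ ((AlgSp.yon S).map (k i) ≫ fst i) := by
          rw [Category.assoc, hcX.fac]
        rw [e, Category.assoc, hmem, ← Category.assoc, ← Functor.map_comp, hr, ← Category.assoc,
          ← hab, Category.assoc, Category.assoc, hg]
      · rw [← Functor.map_comp, hr]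
      · rintro z ⟨-, hz⟩
        obtain ⟨z, rfl⟩ := (AlgSp.yon S).map_surjective z
        congr 1
        rw [← Functor.map_comp] at hz
        rw [← cancel_mono w, hr]
        exact (AlgSp.yon S).map_injective hz
  · exact inferInstanceAs (IsClosedImmersion K.subschemeι)

end Groth.Agent.S10055
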