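import Groth.Statements.S10056
import Groth.Agent.AlgSp.K604.LimRed

set_option autoImplicit false
universe u
open CategoryTheory CategoryTheory.Limits AlgebraicGeometry
open AlgSp

namespace Groth.Agent.S10056

/-- Let `X` be the limit, in fppf sheaves over `S`, of a cofiltered system `(X_i)` of algebraic spaces
over `S` whose transition maps are affine. If each `X_i` is reduced, then `X` is reduced. (The
published statement does not restate that the transition morphisms are affine; the limit it refers
to is formed under that assumption, which this row states.) -/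
theorem result (S : Scheme.{u}) {I : Type u} [SmallCategory I] [IsCofiltered I]
    (D : I ⥤ AlgSp.Sp S) (hD : ∀ i, AlgSp.IsAlgSpace (D.obj i))
    (hDa : ∀ (i j : I) (φ : i ⟶ j), AlgSp.IsAffineMor (D.map φ))
    (c : Cone D) (hc : IsLimit c)
    (hred : ∀ i, AlgSp.IsReducedSp (D.obj i)) : AlgSp.IsReducedSp c.pt := by
  obtain ⟨i⟩ := IsCofiltered.nonempty (C := I)
  obtain ⟨U, p, hp, hps⟩ := (hD i).atlas
  obtain ⟨s, V, a, b, hs, sq⟩ := K604.LimRed.exists_sys hDa hc p
  refine ⟨V, a, K600.LimAff.repWith_of_isPullback hp sq, K600.LimAff.repWith_of_isPullback hps sq, ?_⟩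
  have h1 := s.isLimitConeLeft sq hc
  have hAff : ∀ {j k : Over i} (f : j ⟶ k), IsAffineHom ((s.W ⋙ Over.forget S).map f) := hs
  exact K604.LimRed.isReduced_limit _ _ h1 fun j =>
    K638.RedSp.isReduced_of_etaleLocally (hred j.left) (K600.LimAff.repWith_fst s hp j)

end Groth.Agent.S10056
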