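import Groth.Statements.S10058
import Groth.Agent.AlgSp.K604.LimTop

set_option autoImplicit false
universe u
open CategoryTheory CategoryTheory.Limits AlgebraicGeometry
open AlgSp

namespace Groth.Agent.S10058

/-- Let `X` be the limit, in fppf sheaves over `S`, of a cofiltered system `(X_i)` of decent algebraic
spaces over `S` with affine transition morphisms. Then `|X| = lim |X_i|` as topological spaces: the
topology of `|X|` is the one induced by the projections `|X| → |X_i|`. -/
theorem result (S : Scheme.{u}) {I : Type u} [SmallCategory I] [IsCofiltered I]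
    (D : I ⥤ AlgSp.Sp S) (hD : ∀ i, AlgSp.IsAlgSpace (D.obj i))
    (hDa : ∀ (i j : I) (φ : i ⟶ j), AlgSp.IsAffineMor (D.map φ))
    (c : Cone D) (hc : IsLimit c)
    (hdec : ∀ i, AlgSp.IsDecent (D.obj i)) :
    AlgSp.Points.topologicalSpace c.pt =
      ⨅ i, TopologicalSpace.induced (AlgSp.Points.map (c.π.app i)) (AlgSp.Points.topologicalSpace (D.obj i)) := by
  apply le_antisymm
  · refine le_iInf fun i => ?_
    exact continuous_iff_le_induced.1 (AlgSp.Points.continuous_map (c.π.app i))
  · intro W hW
    have hW' : @IsOpen _ (AlgSp.Points.topologicalSpace c.pt) W := hW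
    rw [@isOpen_iff_forall_mem_open _ (⨅ i, TopologicalSpace.induced (AlgSp.Points.map (c.π.app i)) (AlgSp.Points.topologicalSpace (D.obj i)))]
    intro x hx
    obtain ⟨j, O, hO, hxO, hOW⟩ := K604.LimTop.exists_stage_nhd hD hDa hc W hW' x hx
    refine ⟨AlgSp.Points.map (c.π.app j) ⁻¹' O, hOW, ?_, hxO⟩
    have h1 : (⨅ i, TopologicalSpace.induced (AlgSp.Points.map (c.π.app i)) (AlgSp.Points.topologicalSpace (D.obj i))) ≤
        TopologicalSpace.induced (AlgSp.Points.map (c.π.app j)) (AlgSp.Points.topologicalSpace (D.obj j)) :=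
      iInf_le _ j
    exact h1 _ (isOpen_induced hO)

end Groth.Agent.S10058
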