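-- Proof of S10064 (AlgSp.isSeparatedMor_iff_dvr_valuative_of_locNoeth).
import Groth.Statements.S10064
import Groth.Agent.AlgSp.K604.SepDvr

set_option autoImplicit false
universe u
open CategoryTheory CategoryTheory.Limits AlgebraicGeometry
open AlgSp

namespace Groth.Agent.S10064

/-- Let `f : X ⟶ Y` be quasi-separated and locally of finite type with `Y` locally Noetherian. Then `f`
is separated if and only if every valuative test square for `f` whose valuation ring is a discrete
valuation ring admits at most one dotted arrow. (The published statement also lists the uniqueness
part of the valuative criterion, over arbitrary valuation rings, as an equivalent condition, and a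
refinement to squares hitting a codimension-0 point; neither is included in this row.) -/
theorem result (S : Scheme.{u}) {X Y : AlgSp.Space S} (f : X ⟶ Y)
    (hqs : AlgSp.IsQuasiSeparatedMor f.hom) (hft : AlgSp.LocP @LocallyOfFiniteType f.hom) (hY : AlgSp.IsLocNoethSp Y.obj) :
    AlgSp.IsSeparatedMor f.hom ↔ ∀ sq : AlgSp.ValSq f.hom, IsDiscreteValuationRing sq.A → sq.HasUniq := by
  constructor
  · intro h sq _
    exact K604.SepDvr.hasUniq_of_isSeparatedMor h sq
  · intro H
    exact K604.SepDvr.isSeparatedMor_of_dvrUniq X.property f.hom hqs hft hY
      (K604.SepDvr.dvrUniq_of_valSq H)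

end Groth.Agent.S10064
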