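-- Proof of S10067 (AlgSp.isRelLimitPreserving_iff_isPullback_colimit).
import Groth.Statements.S10067

set_option autoImplicit false
universe u
open CategoryTheory CategoryTheory.Limits AlgebraicGeometry
open AlgSp

namespace Groth.Agent.S10067

open Opposite

/-- the elementwise form of "the square of colimits is cartesian", for one system -/
def El {S : Scheme.{u}} {F G : AlgSp.PSp S} (a : F ⟶ G) {I : Type u} [SmallCategory I]
    (D : I ⥤ Over S) (c : Cone D) : Prop :=
  (∀ (i : I) (x x' : F.obj (op (D.obj i))), a.app _ x = a.app _ x' →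
      F.map (c.π.app i).op x = F.map (c.π.app i).op x' →
      ∃ (j : I) (φ : j ⟶ i), F.map (D.map φ).op x = F.map (D.map φ).op x') ∧
  (∀ (i : I) (y : G.obj (op (D.obj i))) (t : F.obj (op c.pt)), a.app _ t = G.map (c.π.app i).op y →
      ∃ (j : I) (φ : j ⟶ i) (x : F.obj (op (D.obj j))),
        F.map (c.π.app j).op x = t ∧ a.app _ x = G.map (D.map φ).op y)

theorem map_comp_op {S : Scheme.{u}} (F : AlgSp.PSp S) {X Y Z : Over S} (f : X ⟶ Y) (g : Y ⟶ Z)
    (x : F.obj (op Z)) : F.map f.op (F.map g.op x) = F.map (f ≫ g).op x := by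
  rw [op_comp, Functor.map_comp_apply]

theorem nat {S : Scheme.{u}} {F G : AlgSp.PSp S} (a : F ⟶ G) {X Y : Over S} (f : X ⟶ Y)
    (x : F.obj (op Y)) : a.app _ (F.map f.op x) = G.map f.op (a.app _ x) := by
  rw [NatTrans.naturality_apply]

theorem isPullback_iff_el {S : Scheme.{u}} {F G : AlgSp.PSp S} (a : F ⟶ G) {I : Type u} [SmallCategory I]
    [IsCofiltered I] (D : I ⥤ Over S) (c : Cone D) :
    IsPullback (colimMap (Functor.whiskerLeft D.op a)) (colimit.desc (D.op ⋙ F) (F.mapCocone c.op))
            (colimit.desc (D.op ⋙ G) (G.mapCocone c.op)) (a.app (Opposite.op c.pt)) ↔ El a D c := by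
  have e1 : ∀ (i : I) (x : F.obj (op (D.obj i))),
      colimMap (Functor.whiskerLeft D.op a) (colimit.ι (D.op ⋙ F) (op i) x) =
        colimit.ι (D.op ⋙ G) (op i) (a.app (op (D.obj i)) x) := by
    intro i x
    have := ι_colimMap (Functor.whiskerLeft D.op a) (op i)
    exact ConcreteCategory.congr_hom this x
  have e2 : ∀ (i : I) (x : F.obj (op (D.obj i))),
      colimit.desc (D.op ⋙ F) (F.mapCocone c.op) (colimit.ι (D.op ⋙ F) (op i) x) =
        F.map (c.π.app i).op x := by
    intro i x
    have := colimit.ι_desc (F := D.op ⋙ F) (F.mapCocone c.op) (op i)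
    exact ConcreteCategory.congr_hom this x
  have e3 : ∀ (i : I) (x : G.obj (op (D.obj i))),
      colimit.desc (D.op ⋙ G) (G.mapCocone c.op) (colimit.ι (D.op ⋙ G) (op i) x) =
        G.map (c.π.app i).op x := by
    intro i x
    have := colimit.ι_desc (F := D.op ⋙ G) (G.mapCocone c.op) (op i)
    exact ConcreteCategory.congr_hom this x
  rw [Types.isPullback_iff]
  constructor
  · rintro ⟨-, hinj, hsurj⟩
    refine ⟨?_, ?_⟩
    · intro i x x' hx ht
      have := hinj (colimit.ι (D.op ⋙ F) (op i) x) (colimit.ι (D.op ⋙ F) (op i) x')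
        ⟨by rw [e1, e1, hx], by rw [e2, e2, ht]⟩
      obtain ⟨j, f, hf⟩ := (Types.FilteredColimit.isColimit_eq_iff'
        (colimit.isColimit (D.op ⋙ F)) _ _).1 this
      exact ⟨j.unop, f.unop, hf⟩
    · intro i y t hy
      obtain ⟨z, hz1, hz2⟩ := hsurj (colimit.ι (D.op ⋙ G) (op i) y) t (by rw [e3]; exact hy.symm)
      obtain ⟨⟨j⟩, x, rfl⟩ := Types.jointly_surjective' z
      erw [e1] at hz1
      erw [e2] at hz2
      erw [Types.FilteredColimit.colimit_eq_iff] at hz1
      obtain ⟨k, f, g, h⟩ := hz1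
      refine ⟨k.unop, g.unop, F.map (D.map f.unop).op x, ?_, ?_⟩
      · rw [map_comp_op, Cone.w]; exact hz2
      · rw [nat]; exact h
  · rintro ⟨h1, h2⟩
    refine ⟨?_, ?_, ?_⟩
    · apply colimit.hom_ext
      rintro ⟨j⟩
      ext x
      change colimit.desc (D.op ⋙ G) (G.mapCocone c.op) (colimMap (Functor.whiskerLeft D.op a)
        (colimit.ι (D.op ⋙ F) (op j) x)) = a.app _ (colimit.desc (D.op ⋙ F) (F.mapCocone c.op)
          (colimit.ι (D.op ⋙ F) (op j) x))
      rw [e1, e3, e2]
      exact (nat a _ _).symm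
    · rintro x x' ⟨hx, ht⟩
      obtain ⟨⟨i⟩, x, rfl⟩ := Types.jointly_surjective' x
      obtain ⟨⟨i'⟩, x', rfl⟩ := Types.jointly_surjective' x'
      erw [e1, e1] at hx
      erw [e2, e2] at ht
      erw [Types.FilteredColimit.colimit_eq_iff] at hx
      obtain ⟨⟨k⟩, f, g, h⟩ := hx
      obtain ⟨j, φ, hφ⟩ := h1 k (F.map (D.map f.unop).op x) (F.map (D.map g.unop).op x')
        (by rw [nat, nat]; exact h) (by rw [map_comp_op, map_comp_op, Cone.w, Cone.w]; exact ht)
      erw [Types.FilteredColimit.colimit_eq_iff]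
      refine ⟨op j, f ≫ φ.op, g ≫ φ.op, ?_⟩
      simp only [Functor.map_comp_apply]
      exact hφ
    · intro x t hx
      obtain ⟨⟨i⟩, y, rfl⟩ := Types.jointly_surjective' x
      erw [e3] at hx
      obtain ⟨j, φ, x, hx1, hx2⟩ := h2 i y t hx.symm
      refine ⟨colimit.ι (D.op ⋙ F) (op j) x, ?_, ?_⟩
      · rw [e1, hx2]
        exact (ConcreteCategory.congr_hom (colimit.w (D.op ⋙ G) φ.op) y)
      · rw [e2, hx1]

/-- elements of the fibre presheaf over an object of the form `Over.map` -/
theorem relLimitPreserving_of_el {S : Scheme.{u}} {F G : AlgSp.PSp S} (a : F ⟶ G)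
    (h : ∀ ⦃I : Type u⦄ [SmallCategory I] [IsCofiltered I] (D : I ⥤ Over S) (c : Cone D),
        IsLimit ((Over.forget S).mapCone c) → (∀ i, IsAffine (D.obj i).left) → IsAffine c.pt.left →
          El a D c) : AlgSp.IsRelLimitPreserving a := by
  intro T y I _ _ D c hc hD hT
  obtain ⟨h1, h2⟩ := h (D ⋙ Over.map T.hom) ((Over.map T.hom).mapCone c) hc hD hT
  refine ⟨Types.FilteredColimit.isColimitOf _ _ ?_ ?_⟩
  · intro t
    obtain ⟨i⟩ : Nonempty I := IsCofiltered.nonempty
    obtain ⟨j, φ, x, hx1, hx2⟩ := h2 i (G.map (overHom T (D.obj i)).op y) t.1 (by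
      rw [map_comp_op]
      refine t.2.trans ?_
      exact congrArg (fun f => G.map (Quiver.Hom.op f) y) (map_comp_overHom T (c.π.app i)).symm)
    refine ⟨op j, ⟨x, ?_⟩, ?_⟩
    · refine hx2.trans ?_
      rw [map_comp_op]
      exact congrArg (fun f => G.map (Quiver.Hom.op f) y) (map_comp_overHom T (D.map φ))
    · apply Subtype.ext
      exact hx1.symm
  · rintro ⟨i⟩ ⟨i'⟩ x x' hxx'
    obtain ⟨k, f, g, -⟩ := IsCofilteredOrEmpty.cone_objs (C := I) i i'
    have hxx'' : F.map ((Over.map T.hom).map (c.π.app i)).op x.1 =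
      F.map ((Over.map T.hom).map (c.π.app i')).op x'.1 := congrArg Subtype.val hxx'
    obtain ⟨j, φ, hφ⟩ := h1 k (F.map ((Over.map T.hom).map (D.map f)).op x.1)
      (F.map ((Over.map T.hom).map (D.map g)).op x'.1) (by
        rw [nat, nat]
        erw [x.2, x'.2]
        rw [map_comp_op, map_comp_op]
        exact congrArg (fun f => G.map (Quiver.Hom.op f) y)
          ((map_comp_overHom T (D.map f)).trans (map_comp_overHom T (D.map g)).symm)) (by
        rw [map_comp_op, map_comp_op]
        refine Eq.trans ?_ (hxx''.trans ?_)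
        · congr 3
          rw [Functor.mapCone_π_app, ← Functor.map_comp, Cone.w]
        · congr 3
          rw [Functor.mapCone_π_app, ← Functor.map_comp, Cone.w])
    refine ⟨op j, (φ ≫ f).op, (φ ≫ g).op, ?_⟩
    apply Subtype.ext
    change F.map ((Over.map T.hom).map (D.map (φ ≫ f))).op x.1 =
      F.map ((Over.map T.hom).map (D.map (φ ≫ g))).op x'.1
    rw [map_comp_op, map_comp_op] at hφ
    rw [D.map_comp, D.map_comp, Functor.map_comp, Functor.map_comp]
    exact hφ

/-- the comparison `(T_k → T_i → S) = T_k` -/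
def cmp {S : Scheme.{u}} {X T : Over S} (f : X ⟶ T) : (Over.map T.hom).obj (Over.mk f.left) ⟶ X :=
  Over.homMk (𝟙 _) (by simp)

def cmpInv {S : Scheme.{u}} {X T : Over S} (f : X ⟶ T) : X ⟶ (Over.map T.hom).obj (Over.mk f.left) :=
  Over.homMk (𝟙 _) (by simp)

@[simp]
theorem cmpInv_cmp {S : Scheme.{u}} {X T : Over S} (f : X ⟶ T) : cmpInv f ≫ cmp f = 𝟙 _ := by
  ext : 1; simp [cmp, cmpInv]

@[simp]
theorem cmp_cmpInv {S : Scheme.{u}} {X T : Over S} (f : X ⟶ T) : cmp f ≫ cmpInv f = 𝟙 _ := by
  ext : 1; simp [cmp, cmpInv]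

theorem overHom_eq {S : Scheme.{u}} {X T : Over S} (f : X ⟶ T) :
    overHom T (Over.mk f.left) = cmp f ≫ f := by
  ext : 1; simp [cmp]

theorem cmpInv_overHom {S : Scheme.{u}} {X T : Over S} (f : X ⟶ T) :
    cmpInv f ≫ overHom T (Over.mk f.left) = f := by
  rw [overHom_eq, ← Category.assoc, cmpInv_cmp, Category.id_comp]

/-- the diagram over `T_i` -/
@[simps]
def dia {S : Scheme.{u}} {I : Type u} [SmallCategory I] (D : I ⥤ Over S) (i : I) :
    Over i ⥤ Over (D.obj i).left where
  obj k := Over.mk (D.map k.hom).left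
  map {k l} g := Over.homMk (D.map g.left).left (by
    change (D.map g.left).left ≫ (D.map l.hom).left = (D.map k.hom).left
    rw [← Over.comp_left, ← D.map_comp, Over.w])

@[simps]
def diaCone {S : Scheme.{u}} {I : Type u} [SmallCategory I] (D : I ⥤ Over S) (c : Cone D) (i : I) :
    Cone (dia D i) where
  pt := Over.mk (c.π.app i).left
  π := 
    { app := fun k => Over.homMk (c.π.app k.left).left (by
        change (c.π.app k.left).left ≫ (D.map k.hom).left = (c.π.app i).left
        rw [← Over.comp_left, c.w])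
      naturality := by
        intro k l g
        ext : 1
        change 𝟙 _ ≫ (c.π.app l.left).left = (c.π.app k.left).left ≫ (D.map g.left).left
        rw [← Over.comp_left, c.w, Category.id_comp] }

noncomputable def diaConeIsLimit {S : Scheme.{u}} {I : Type u} [SmallCategory I] [IsCofiltered I]
    (D : I ⥤ Over S) (c : Cone D) (hc : IsLimit ((Over.forget S).mapCone c)) (i : I) :
    IsLimit ((Over.forget (D.obj i).left).mapCone (diaCone D c i)) := by
  have := Over.initial_forget (C := I) i
  exact (Functor.Initial.isLimitWhiskerEquiv (Over.forget i) ((Over.forget S).mapCone c)).symm hc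

/-- the restriction maps between the sections over `T_i` -/
def res {S : Scheme.{u}} {X X' T : Over S} (f : X ⟶ T) (g : X' ⟶ X) :
    (Over.map T.hom).obj (Over.mk (g ≫ f).left) ⟶ (Over.map T.hom).obj (Over.mk f.left) :=
  (Over.map T.hom).map (Over.homMk g.left)

theorem res_cmp {S : Scheme.{u}} {X X' T : Over S} (f : X ⟶ T) (g : X' ⟶ X) :
    res f g ≫ cmp f = cmp (g ≫ f) ≫ g := by
  ext : 1
  simp [res, cmp]

theorem el_of_relLimitPreserving {S : Scheme.{u}} {F G : AlgSp.PSp S} (a : F ⟶ G)
    (h : AlgSp.IsRelLimitPreserving a) ⦃I : Type u⦄ [SmallCategory I] [IsCofiltered I]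
    (D : I ⥤ Over S) (c : Cone D)
    (hc : IsLimit ((Over.forget S).mapCone c)) (hD : ∀ i, IsAffine (D.obj i).left)
    (hT : IsAffine c.pt.left) : El a D c := by
  have key : ∀ (i : I) (y : G.obj (op (D.obj i))),
      Nonempty (IsColimit ((fiberFun a (D.obj i) y).mapCocone (diaCone D c i).op)) := fun i y => by
    have := IsCofiltered.over (C := I) i
    exact h (D.obj i) y (dia D i) (diaCone D c i) (diaConeIsLimit D c hc i)
      (fun k => hD k.left) hT
  -- an element of `F(T_k)` over `y`
  let mk' : ∀ (i : I) (y : G.obj (op (D.obj i))) (X : Over S) (f : X ⟶ D.obj i) (x : F.obj (op X)),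
      a.app _ x = G.map f.op y → (fiberFun a (D.obj i) y).obj (op (Over.mk f.left)) :=
    fun i y X f x hx => ⟨F.map (cmp f).op x, by rw [nat, hx, map_comp_op, overHom_eq]⟩
  refine ⟨?_, ?_⟩
  · intro i x x' hx ht
    obtain ⟨hcol⟩ := key i (a.app _ x)
    have h1 : a.app _ x = G.map (D.map (𝟙 i)).op (a.app _ x) := by simp
    have h1' : a.app _ x' = G.map (D.map (𝟙 i)).op (a.app _ x) := by simp [hx]
    have e0 : ∀ (X' : Over S) (w : X' ⟶ D.obj i) (w' : (Over.map (D.obj i).hom).obj (Over.mk w.left) ⟶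
        (Over.map (D.obj i).hom).obj (Over.mk (D.map (𝟙 i)).left)) (hw : w'.left = w.left)
        (z : F.obj (op (D.obj i))),
        F.map w'.op (F.map (cmp (D.map (𝟙 i))).op z) = F.map (cmp w).op (F.map w.op z) := by
      intro X' w w' hw z
      rw [map_comp_op, map_comp_op]
      refine congrArg (fun f => F.map (Quiver.Hom.op f) z) ?_
      ext : 1
      simp [cmp, hw]
    have h2 := (Types.FilteredColimit.isColimit_eq_iff' hcol (i := op (Over.mk (𝟙 i)))
      (mk' i _ _ (D.map (𝟙 i)) x h1) (mk' i _ _ (D.map (𝟙 i)) x' h1')).1 (by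
        apply Subtype.ext
        exact (e0 c.pt (c.π.app i) _ rfl x).trans
          ((congrArg _ ht).trans (e0 c.pt (c.π.app i) _ rfl x').symm))
    obtain ⟨⟨k⟩, f, hf⟩ := h2
    refine ⟨k.left, k.hom, ?_⟩
    have hfw : (D.map f.unop.left).left = (D.map k.hom).left := by
      have hw := Over.w f.unop
      have hw' : f.unop.left = k.hom := by
        simpa using hw
      rw [hw']
    have hf' : F.map (cmp (D.map k.hom)).op (F.map (D.map k.hom).op x) =
        F.map (cmp (D.map k.hom)).op (F.map (D.map k.hom).op x') :=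
      (e0 (D.obj k.left) (D.map k.hom) _ hfw x).symm.trans
        ((congrArg Subtype.val hf).trans (e0 (D.obj k.left) (D.map k.hom) _ hfw x'))
    have hf'' := congrArg (F.map (cmpInv (D.map k.hom)).op) hf'
    rw [map_comp_op, map_comp_op, map_comp_op, map_comp_op] at hf''
    simpa using hf''
  · intro i y t hy
    obtain ⟨hcol⟩ := key i y
    obtain ⟨⟨k⟩, z, hz⟩ := Types.jointly_surjective _ hcol (mk' i y c.pt (c.π.app i) t hy)
    refine ⟨k.left, k.hom, F.map (cmpInv (D.map k.hom)).op z.1, ?_, ?_⟩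
    · have hz' := congrArg (F.map (cmpInv (c.π.app i)).op) (congrArg Subtype.val hz)
      have e1 : F.map (cmpInv (c.π.app i)).op (F.map (cmp (c.π.app i)).op t) = t := by
        rw [map_comp_op]; simp
      refine Eq.trans ?_ (hz'.trans e1)
      refine (map_comp_op F _ _ z.1).trans (Eq.trans ?_ (map_comp_op F _ _ z.1).symm)
      refine congrArg (fun f => F.map (Quiver.Hom.op f) z.1) ?_
      ext : 1
      change (c.π.app k.left).left ≫ 𝟙 _ = 𝟙 _ ≫ (c.π.app k.left).left
      rw [Category.comp_id, Category.id_comp]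
    · have hz2 := congrArg (G.map (cmpInv (D.map k.hom)).op) z.2
      refine (nat a _ _).trans (hz2.trans ?_)
      refine (map_comp_op G _ _ y).trans ?_
      exact congrArg (fun f => G.map (Quiver.Hom.op f) y) (cmpInv_overHom (D.map k.hom))

/-- A transformation `a : F ⟶ G` of presheaves of sets on schemes over `S` is relatively limit
preserving if and only if, for every directed limit `T = lim T_i` of affine schemes over `S` (with
`T` affine), the square formed by `colim F(T_i) → F(T)`, `colim G(T_i) → G(T)` and the two maps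
induced by `a` is cartesian in sets. -/
theorem result (S : Scheme.{u}) {F G : AlgSp.PSp S} (a : F ⟶ G) :
    AlgSp.IsRelLimitPreserving a ↔
      ∀ ⦃I : Type u⦄ [SmallCategory I] [IsCofiltered I] (D : I ⥤ Over S) (c : Cone D),
        IsLimit ((Over.forget S).mapCone c) → (∀ i, IsAffine (D.obj i).left) → IsAffine c.pt.left →
          IsPullback (colimMap (Functor.whiskerLeft D.op a)) (colimit.desc (D.op ⋙ F) (F.mapCocone c.op))
            (colimit.desc (D.op ⋙ G) (G.mapCocone c.op)) (a.app (Opposite.op c.pt)) := by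
  constructor
  · intro h I _ _ D c hc hD hT
    exact (isPullback_iff_el a D c).2 (el_of_relLimitPreserving a h D c hc hD hT)
  · intro h
    refine relLimitPreserving_of_el a ?_
    intro I _ _ D c hc hD hT
    exact (isPullback_iff_el a D c).1 (h D c hc hD hT)

end Groth.Agent.S10067
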