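import Groth.Statements.S10081
import Groth.Agent.AlgSp.K605.InvMain

set_option autoImplicit false
universe u
open CategoryTheory CategoryTheory.Limits AlgebraicGeometry Opposite
open AlgSp

namespace Groth.Agent.S10081

/-- Let `S` be a quasi-separated scheme and `X` the limit, in fppf sheaves over `S`, of a cofiltered
system `(X_i)` of algebraic spaces over `S`, each quasi-compact and quasi-separated over `S`, whose
transition maps are affine; the projections `X ⟶ X_i` are taken representable, so that pullback of
modules along them is defined. Then every invertible `O_X`-module `L` on the small etale site of `X`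
is, for some index `i`, isomorphic to the module pullback along `X ⟶ X_i` of some invertible module
on `X_i`. (The companion assertion on finite locally free modules is not included.) (The published
statement allows any base scheme and uses absolute quasi-separatedness; this row assumes the base
quasi-separated, over which quasi-separatedness relative to the base is the absolute notion.) -/
theorem result (S : Scheme.{u}) [QuasiSeparatedSpace ↥S] {I : Type u} [SmallCategory I] [IsCofiltered I]
    (D : I ⥤ AlgSp.Sp S) (hD : ∀ i, AlgSp.IsAlgSpace (D.obj i))
    (hDa : ∀ (i j : I) (φ : i ⟶ j), AlgSp.IsAffineMor (D.map φ))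
    (hqc : ∀ i, AlgSp.IsQuasiCompactSp (D.obj i)) (hqs : ∀ i, AlgSp.IsQuasiSeparatedSp (D.obj i))
    (c : Cone D) (hc : IsLimit c)
    (hrep : ∀ i, AlgSp.Representable (c.π.app i))
    [∀ i, (SheafOfModules.pushforward.{u + 1} (AlgSp.bcRingHom (hrep i))).IsRightAdjoint]
    (L : AlgSp.ModEt c.pt) (hL : AlgSp.IsInvertibleEt L) :
    ∃ (i : I) (Li : AlgSp.ModEt (D.obj i)),
      AlgSp.IsInvertibleEt Li ∧ Nonempty ((AlgSp.pullModEt (hrep i)).obj Li ≅ L) := by
  exact K605.InvMain.main (fun i j φ => (K597.Affine.repWith_of_isAffineMor (hDa i j φ)).1) hrep hDa hc hqc hqs L hL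

end Groth.Agent.S10081
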