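import Groth.Statements.S10113
import Groth.Agent.AlgSp.K607.QuotSp

set_option autoImplicit false
universe u
open CategoryTheory CategoryTheory.Limits AlgebraicGeometry
open AlgSp

namespace Groth.Agent.S10113

/-- Let `s, t : R ⟶ U` be a pre-relation of algebraic spaces, `M` an algebraic space and `U ⟶ M` a
morphism which coequalizes `s, t`, is a surjection of sheaves, and for which `(t, s) : R ⟶ U ×_M U`
is a surjection of sheaves. Then the induced map `U/R ⟶ M` is an isomorphism: `M` represents the
quotient sheaf. -/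
theorem result (S : Scheme.{u}) (R U M : AlgSp.Sp S)
    (hR : AlgSp.IsAlgSpace R) (hU : AlgSp.IsAlgSpace U) (hM : AlgSp.IsAlgSpace M) (s t : R ⟶ U)
    (q : U ⟶ M) (w : s ≫ q = t ≫ q) [Epi q] [Epi (pullback.lift t s w.symm : R ⟶ pullback q q)] :
    IsIso (AlgSp.quotSpDesc q w) := by
  have : IsRegularEpi q := IsRegularEpiCategory.regularEpiOfEpi q
  have hq := K607.QuotSp.isColimitOfEpi w
  let e := (AlgSp.quotSpIsCoequalizer s t).coconePointUniqueUpToIso hq
  have he : AlgSp.quotSpDesc q w = e.hom := by
    apply Cofork.IsColimit.hom_ext (AlgSp.quotSpIsCoequalizer s t)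
    exact (AlgSp.quotSpπ_desc (s := s) (t := t) q w).trans
      ((AlgSp.quotSpIsCoequalizer s t).comp_coconePointUniqueUpToIso_hom hq WalkingParallelPair.one).symm
  rw [he]
  infer_instance

end Groth.Agent.S10113
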