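import Groth.Statements.S10114
import Groth.Agent.AlgSp.K607.QuotSp

set_option autoImplicit false
universe u
open CategoryTheory CategoryTheory.Limits AlgebraicGeometry
open AlgSp

namespace Groth.Agent.S10114

/-- Let `s, t : R ⟶ U` be a pre-equivalence relation of algebraic spaces, `g : U' ⟶ U` a morphism of
algebraic spaces and `s', t' : R' ⟶ U'` the restriction of the pre-relation along `g` (so `R' = (U'
× U') ×_{U × U} R`). Then the induced map of quotient sheaves `U'/R' ⟶ U/R` is injective, and it is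
an isomorphism when `g` is a surjection of sheaves. -/
theorem result (S : Scheme.{u}) (R U R' U' : AlgSp.Sp S)
    (hR : AlgSp.IsAlgSpace R) (hU : AlgSp.IsAlgSpace U) (hR' : AlgSp.IsAlgSpace R') (hU' : AlgSp.IsAlgSpace U')
    (s t : R ⟶ U) (hpre : AlgSp.IsPreEqvRelSp s t) (g : U' ⟶ U) (s' t' : R' ⟶ U') (r : R' ⟶ R)
    (hsq : IsPullback (prod.lift t' s') r (prod.map g g) (prod.lift t s))
    (ψ : AlgSp.quotSp s' t' ⟶ AlgSp.quotSp s t) (hψ : AlgSp.quotSpπ s' t' ≫ ψ = g ≫ AlgSp.quotSpπ s t) :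
    Mono ψ ∧ (Epi g → IsIso ψ) := by
  have hm : Mono ψ := by
    refine K607.QuotSp.mono_of_rel (K607.QuotSp.equivalence_of_isPreEqvRelSp s t hpre)
      (AlgSp.quotSpIsCoequalizer s t) g ψ hψ fun X a b hab => ?_
    obtain ⟨T⟩ := X
    have hrel : K607.QuotSp.Rel s' t' a b := by
      rw [K607.QuotSp.rel_iff_yon] at hab ⊢
      obtain ⟨x, hx, hx'⟩ := hab
      rw [← K607.pt_comp] at hx hx'
      have hw : prod.lift (K607.pt a) (K607.pt b) ≫ prod.map g g = x ≫ prod.lift t s := by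
        rw [prod.lift_map, prod.comp_lift, hx, hx']
      obtain ⟨y, hy⟩ : ∃ y : (AlgSp.yon S).obj T ⟶ R',
          y ≫ prod.lift t' s' = prod.lift (K607.pt a) (K607.pt b) := ⟨hsq.lift _ x hw, hsq.lift_fst _ x hw⟩
      refine ⟨y, ?_, ?_⟩
      · rw [← prod.lift_fst t' s', ← Category.assoc, hy, prod.lift_fst]
      · rw [← prod.lift_snd t' s', ← Category.assoc, hy, prod.lift_snd]
    obtain ⟨y, rfl, rfl⟩ := hrel
    exact (congrArg (fun k : R' ⟶ AlgSp.quotSp s' t' => k.hom.app (Opposite.op T) y)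
      (AlgSp.quotSp_condition s' t')).symm
  refine ⟨hm, fun hg => ?_⟩
  have : Epi ψ := by
    have h1 : Epi (AlgSp.quotSpπ s' t' ≫ ψ) := by rw [hψ]; infer_instance
    exact epi_of_epi (AlgSp.quotSpπ s' t') ψ
  exact isIso_of_mono_of_epi ψ

end Groth.Agent.S10114
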