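import Groth.Statements.S10115
import Groth.Agent.AlgSp.K607.QuotSp

set_option autoImplicit false
universe u
open CategoryTheory CategoryTheory.Limits AlgebraicGeometry
open AlgSp AlgSp.GroupoidSp

namespace Groth.Agent.S10115

/-- For a groupoid `(U, R, s, t, c)` in algebraic spaces over `B`, let `(U', R', s', t', c')` be its
restriction along a morphism `g : U' ⟶ U` over `B`. Then `U'/R' ⟶ U/R` is injective; if the
composite `h : U' ×_{g, U, t} R ⟶ R ⟶ U` of the projection with `s` is a surjection of fppf sheaves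
(for instance if `g` is), then it is bijective. -/
theorem result (S : Scheme.{u}) (B : AlgSp.Sp S) (hB : AlgSp.IsAlgSpace B)
    (G G' : AlgSp.GroupoidSp B) (hU : AlgSp.IsAlgSpace G.U) (hR : AlgSp.IsAlgSpace G.R)
    (hU' : AlgSp.IsAlgSpace G'.U) (hR' : AlgSp.IsAlgSpace G'.R) (φ : AlgSp.GroupoidSp.Hom G' G)
    (hφ : φ.IsRestriction) (ψ : G'.quot ⟶ G.quot) (hψ : G'.quotπ ≫ ψ = φ.fU ≫ G.quotπ) :
    Mono ψ ∧ (Epi (pullback.snd φ.fU G.t ≫ G.s) → IsIso ψ) := by
  have hpre := K607.QuotSp.isPreEqvRelSp_of_groupoid G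
  have : Epi G.quotπ := K607.QuotSp.epi_quotSpπ _ _
  have : Epi G'.quotπ := K607.QuotSp.epi_quotSpπ _ _
  have hcond : G.s ≫ G.quotπ = G.t ≫ G.quotπ := AlgSp.quotSp_condition G.s G.t
  have hcond' : G'.s ≫ G'.quotπ = G'.t ≫ G'.quotπ := AlgSp.quotSp_condition G'.s G'.t
  have hm : Mono ψ := by
    refine K607.QuotSp.mono_of_rel (K607.QuotSp.equivalence_of_isPreEqvRelSp G.s G.t hpre)
      (AlgSp.quotSpIsCoequalizer G.s G.t) φ.fU ψ hψ fun X a b hab => ?_
    obtain ⟨T⟩ := X
    have hrel : K607.QuotSp.Rel G'.s G'.t a b := by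
      rw [K607.QuotSp.rel_iff_yon] at hab ⊢
      obtain ⟨x, hx, hx'⟩ := hab
      rw [← K607.pt_comp] at hx hx'
      have hB : K607.pt a ≫ G'.pU = K607.pt b ≫ G'.pU := by
        rw [← φ.fU_over, ← Category.assoc, ← Category.assoc, ← hx, ← hx', Category.assoc, Category.assoc,
          G.s_over, G.t_over]
      have hw : x ≫ G.j = pullback.lift (K607.pt a) (K607.pt b) hB ≫ φ.prodMap := by
        apply pullback.hom_ext
        · rw [Category.assoc, G.j_fst, hx, AlgSp.GroupoidSp.Hom.prodMap, Category.assoc, pullback.lift_fst,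
            pullback.lift_fst_assoc]
        · rw [Category.assoc, G.j_snd, hx', AlgSp.GroupoidSp.Hom.prodMap, Category.assoc, pullback.lift_snd,
            pullback.lift_snd_assoc]
      obtain ⟨y, hy⟩ : ∃ y : (AlgSp.yon S).obj T ⟶ G'.R,
          y ≫ G'.j = pullback.lift (K607.pt a) (K607.pt b) hB := ⟨hφ.lift x _ hw, hφ.lift_snd x _ hw⟩
      refine ⟨y, ?_, ?_⟩
      · rw [← G'.j_fst, ← Category.assoc, hy, pullback.lift_fst]
      · rw [← G'.j_snd, ← Category.assoc, hy, pullback.lift_snd]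
    obtain ⟨y, rfl, rfl⟩ := hrel
    exact (congrArg (fun k : G'.R ⟶ G'.quot => k.hom.app (Opposite.op T) y) hcond').symm
  refine ⟨hm, fun hg => ?_⟩
  have : Epi ψ := by
    have h1 : (pullback.snd φ.fU G.t ≫ G.s) ≫ G.quotπ = (pullback.fst φ.fU G.t ≫ G'.quotπ) ≫ ψ := by
      rw [Category.assoc, hcond, ← Category.assoc, ← pullback.condition, Category.assoc, Category.assoc, hψ]
    have h2 : Epi ((pullback.fst φ.fU G.t ≫ G'.quotπ) ≫ ψ) := by rw [← h1]; exact epi_comp _ _
    exact epi_of_epi (pullback.fst φ.fU G.t ≫ G'.quotπ) ψ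
  exact isIso_of_mono_of_epi ψ

end Groth.Agent.S10115
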