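import Groth.Statements.S9911
import Groth.Agent.AlgSp.K596.Univ

set_option autoImplicit false
universe u
open CategoryTheory CategoryTheory.Limits AlgebraicGeometry
open AlgSp

namespace Groth.Agent.S9911

/-- A morphism from an algebraic space to the spectrum of a field is universally open. -/
theorem result {S : Scheme.{u}} (X : AlgSp.Space S) {k : Type u} [Field k]
    (str : Spec (CommRingCat.of k) ⟶ S) (p : X ⟶ (AlgSp.ofScheme S).obj (Over.mk str)) :
    AlgSp.IsUnivOpenMor p.hom := by
  obtain ⟨U, a, ha, has⟩ := X.property.atlas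
  refine K596.Univ.isUnivOpenMor_of_precomp has ?_
  obtain ⟨b, hb⟩ := (AlgSp.yon S).map_surjective (a ≫ p.hom)
  have hf : ∀ {Y : Scheme.{u}} (f : Y ⟶ Spec (CommRingCat.of k)), UniversallyOpen f := by
    intro Y f
    have : Subsingleton (Spec (CommRingCat.of k)) := inferInstanceAs (Subsingleton (PrimeSpectrum k))
    infer_instance
  have h : AlgSp.IsUnivOpenMor ((AlgSp.yon S).map b) :=
    (K596.Univ.repWith_universallyOpen_iff (AlgSp.representable_yon_map b)).1
      ((AlgSp.repWith_yon_map_iff _ b).2 (hf b.left))
  exact hb ▸ h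

end Groth.Agent.S9911
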