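import Groth.Statements.S10118
import Groth.Agent.AlgSp.K608.Comp
import Groth.Agent.AlgSp.K608.Field2
import Groth.Agent.AlgSp.K608.Grp
import Groth.Agent.AlgSp.K608.OpenEmb
import Groth.Agent.AlgSp.K595.DiagRel
import Groth.Agent.S9911
import Groth.Agent.S9984
import Groth.Agent.S9955
import Groth.Agent.S10262

set_option autoImplicit false
universe u
open CategoryTheory CategoryTheory.Limits AlgebraicGeometry MonoidalCategory MonObj
open AlgSp AlgSp.GAction

namespace Groth.Agent.S10118

alias i9955 := Groth.Agent.S9955.result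
alias i10262 := Groth.Agent.S10262.result

open CartesianMonoidalCategory in
/-- For a pseudo-torsor, `(act, snd)` identifies `G ×_B X` with `X ×_B X`. -/
theorem isPullback_act {S : Scheme.{u}} {B : AlgSp.Sp S} {G X : Over B} [GrpObj G]
    (a : AlgSp.GAction G X) (ha : a.IsPseudoTorsor) :
    IsPullback a.act.left (snd G X).left X.hom X.hom := by
  have hi : IsIso (lift a.act (snd G X)) := ha
  have hi' : IsIso (lift a.act (snd G X)).left :=
    inferInstanceAs (IsIso ((Over.forget B).map (lift a.act (snd G X))))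
  have h := K608.Grp.isPullback_tensor X X
  refine h.of_iso (asIso (lift a.act (snd G X)).left).symm (Iso.refl _) (Iso.refl _) (Iso.refl _)
    ?_ ?_ ?_ ?_
  · simp only [Iso.symm_hom, asIso_inv, Iso.refl_hom, Category.comp_id]
    rw [IsIso.eq_inv_comp]
    exact congrArg (fun f => f.left) (lift_fst a.act (snd G X))
  · simp only [Iso.symm_hom, asIso_inv, Iso.refl_hom, Category.comp_id]
    rw [IsIso.eq_inv_comp]
    exact congrArg (fun f => f.left) (lift_snd a.act (snd G X))
  · simp
  · simp

open CartesianMonoidalCategory in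
/-- Let `X` be a pseudo-torsor under a group algebraic space `G` over an algebraic space `B`, where both
`G` and `X` are locally of finite type over `B`. Whenever `G ⟶ B` is unramified, `X ⟶ B` is
unramified too; likewise, local quasi-finiteness passes from `G ⟶ B` to `X ⟶ B`. -/
theorem result (S : Scheme.{u}) (B : AlgSp.Sp S) (hB : AlgSp.IsAlgSpace B)
    (G X : Over B) [GrpObj G] (hG : AlgSp.IsAlgSpace G.left) (hX : AlgSp.IsAlgSpace X.left)
    (a : AlgSp.GAction G X) (ha : a.IsPseudoTorsor)
    (hGt : AlgSp.LocP @LocallyOfFiniteType G.hom) (hXt : AlgSp.LocP @LocallyOfFiniteType X.hom) :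
    (AlgSp.LocP (@LocallyOfFiniteType ⊓ @FormallyUnramified) G.hom →
        AlgSp.LocP (@LocallyOfFiniteType ⊓ @FormallyUnramified) X.hom) ∧
      (AlgSp.LocP (@LocallyQuasiFinite ⊓ @LocallyOfFiniteType) G.hom →
        AlgSp.LocP (@LocallyQuasiFinite ⊓ @LocallyOfFiniteType) X.hom) := by
  have hact := isPullback_act a ha
  have hten := K608.Grp.isPullback_tensor G X
  have hGX : AlgSp.IsAlgSpace (G ⊗ X).left := K608.Comp.isAlgSpace_of_isPullback hten hG hX hB
  constructor
  · intro h
    -- `G ×_B X ⟶ X` is unramified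
    have h1 : AlgSp.LocP (@LocallyOfFiniteType ⊓ @FormallyUnramified) (snd G X).left :=
      Groth.Agent.S9984.result (@LocallyOfFiniteType ⊓ @FormallyUnramified)
        (by right; right; right; right; right; right; exact fun A B g => Iff.rfl)
        (X := ⟨G.left, hG⟩) (Y := ⟨B, hB⟩) (Y' := ⟨X.left, hX⟩) (X' := ⟨_, hGX⟩)
        (ObjectProperty.homMk G.hom) (ObjectProperty.homMk X.hom)
        (ObjectProperty.homMk (fst G X).left) (ObjectProperty.homMk (snd G X).left) hten h
    have h2 : AlgSp.RepWith @IsOpenImmersion (pullback.diagonal (snd G X).left) :=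
      ((i10262 (X := ⟨_, hGX⟩) (Y := ⟨X.left, hX⟩) (ObjectProperty.homMk (snd G X).left)).1 h1)
    -- the section of `(G ⊗ X) ≅ X ×_B X ⟶ X` corresponding to the diagonal
    have w : (𝟙 X.left) ≫ X.hom = (𝟙 X.left) ≫ X.hom := rfl
    let σ : X.left ⟶ (G ⊗ X).left := hact.lift (𝟙 _) (𝟙 _) w
    have hσ : σ ≫ (snd G X).left = 𝟙 _ := hact.lift_snd _ _ _
    have hσ1 : σ ≫ a.act.left = 𝟙 _ := hact.lift_fst _ _ _
    have h3 : AlgSp.RepWith @IsOpenImmersion σ :=
      K595.DiagRel.repWith_section (snd G X).left σ hσ h2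
    have h4 : AlgSp.RepWith @IsOpenImmersion (pullback.diagonal X.hom) := by
      have e : pullback.diagonal X.hom =
          σ ≫ (hact.isoPullback).hom := by
        apply pullback.hom_ext
        · rw [pullback.diagonal_fst, Category.assoc, hact.isoPullback_hom_fst, hσ1]
        · rw [pullback.diagonal_snd, Category.assoc, hact.isoPullback_hom_snd, hσ]
      rw [e]
      exact MorphismProperty.RespectsIso.postcomp _ _ _ h3
    exact (i10262 (X := ⟨X.left, hX⟩) (Y := ⟨B, hB⟩) (ObjectProperty.homMk X.hom)).2 hXt h4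
  · intro h
    have hGd := (i9955 (X := ⟨G.left, hG⟩) (Y := ⟨B, hB⟩) (ObjectProperty.homMk G.hom) hGt).1 h
    refine (i9955 (X := ⟨X.left, hX⟩) (Y := ⟨B, hB⟩) (ObjectProperty.homMk X.hom) hXt).2 ?_
    intro k _ str y P fst snd sq
    change (yon S).obj (Over.mk str) ⟶ B at y
    change P ⟶ X.left at fst
    change IsPullback fst snd X.hom y at sq
    have hP : AlgSp.IsAlgSpace P := K608.Comp.isAlgSpace_of_isPullback sq hX (AlgSp.IsAlgSpace.yon_obj _) hB
    rw [discreteTopology_iff_isOpen_singleton]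
    intro p
    obtain ⟨L, _, w, g, rfl⟩ := K608.Pts.exists_pt p
    obtain ⟨x, hx⟩ : ∃ x, x = g ≫ fst := ⟨_, rfl⟩
    obtain ⟨t, ht⟩ : ∃ t, t = g ≫ snd := ⟨_, rfl⟩
    have hxy : x ≫ X.hom = t ≫ y := by rw [hx, ht, Category.assoc, Category.assoc, sq.w]
    have sqQ := IsPullback.of_hasPullback (CartesianMonoidalCategory.snd G X).left x
    generalize pullback.fst (CartesianMonoidalCategory.snd G X).left x = q1 at sqQ
    generalize pullback.snd (CartesianMonoidalCategory.snd G X).left x = q2 at sqQ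
    have sqX := sqQ.paste_horiz hact
    have sqG := sqQ.paste_horiz hten
    have hd := hGd L w (x ≫ X.hom) _ _ _ sqG
    have hm : (q1 ≫ a.act.left) ≫ X.hom = (q2 ≫ t) ≫ y := by
      rw [sqX.w, hxy, Category.assoc]
    have sqm : IsPullback (sq.lift _ _ hm) q2 snd t := by
      refine IsPullback.of_right (h₁₂ := fst) (v₁₃ := X.hom) (h₂₂ := y) ?_ (sq.lift_snd _ _ _) sq
      rw [sq.lift_fst, ← hxy]
      exact sqX
    have ht1 : IsUnivOpenMor t :=
      Groth.Agent.S9911.result ⟨_, AlgSp.IsAlgSpace.yon_obj (Over.mk w)⟩ str (ObjectProperty.homMk t)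
    have ht2 : IsSurjectiveMor t := K608.Field.isSurjectiveMor_of_nonempty_to_field t
      ⟨K608.Pts.pt (𝟙 _)⟩
    have hmo : IsOpenMor (sq.lift _ _ hm) :=
      K608.Field.isOpenMor_of_isUnivOpenMor hP
        (K608.Field.isUnivOpenMor_of_isPullback sqm.flip ht1)
    have hms : IsSurjectiveMor (sq.lift _ _ hm) :=
      K608.Field.isSurjectiveMor_of_isPullback sqm.flip ht2
    obtain ⟨q, hq⟩ := hms (K608.Pts.pt g)
    rw [← hq, ← Set.image_singleton]
    exact hmo _ (isOpen_discrete _)

end Groth.Agent.S10118
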