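import Groth.Statements.S10121
import Groth.Agent.AlgSp.K608.Pts

set_option autoImplicit false
universe u
open CategoryTheory CategoryTheory.Limits AlgebraicGeometry
open AlgSp

namespace Groth.Agent.S10121

open K608.Pts in
/-- For a pre-equivalence relation `s, t : R ⟶ U` of algebraic spaces, the relation on points of `U`
given by `x ∼ y` when some point `r` of `R` has `t(r) = x` and `s(r) = y` is an equivalence relation
on `|U|`. -/
theorem result (S : Scheme.{u}) (R U : AlgSp.Sp S)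
    (hR : AlgSp.IsAlgSpace R) (hU : AlgSp.IsAlgSpace U) (s t : R ⟶ U) (h : AlgSp.IsPreEqvRelSp s t) :
    _root_.Equivalence (fun x y : AlgSp.Points U =>
      ∃ r : AlgSp.Points R, AlgSp.Points.map t r = x ∧ AlgSp.Points.map s r = y) := by
  refine ⟨?_, ?_, ?_⟩
  · intro x
    obtain ⟨K, _, w, g, rfl⟩ := exists_pt x
    obtain ⟨r, hr1, hr2⟩ := (h (Over.mk w)).refl g
    exact ⟨pt r, by rw [map_pt, hr1], by rw [map_pt, hr2]⟩
  · rintro x y ⟨r, rfl, rfl⟩
    obtain ⟨K, _, w, g, rfl⟩ := exists_pt r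
    obtain ⟨r', hr1, hr2⟩ := (h (Over.mk w)).symm (x := g ≫ t) (y := g ≫ s) ⟨g, rfl, rfl⟩
    exact ⟨pt r', by rw [map_pt, map_pt, hr1], by rw [map_pt, map_pt, hr2]⟩
  · rintro x y z ⟨r, rfl, h1⟩ ⟨r', h2, rfl⟩
    obtain ⟨K, _, w, g, rfl⟩ := exists_pt r
    obtain ⟨L, _, w', g', rfl⟩ := exists_pt r'
    rw [map_pt] at h1 h2
    rw [← h2, pt_eq_pt_iff] at h1
    obtain ⟨Ω, _, v, a, b, hab⟩ := h1
    obtain ⟨r'', hr1, hr2⟩ := (h (Over.mk v)).trans (x := (yon S).map a ≫ g ≫ t)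
      (y := (yon S).map a ≫ g ≫ s) (z := (yon S).map b ≫ g' ≫ s)
      ⟨(yon S).map a ≫ g, by rw [Category.assoc], by rw [Category.assoc]⟩
      ⟨(yon S).map b ≫ g', by rw [Category.assoc, ← hab], by rw [Category.assoc]⟩
    refine ⟨pt r'', ?_, ?_⟩
    · rw [map_pt, map_pt, hr1, pt_map_comp]
    · rw [map_pt, map_pt, hr2, pt_map_comp]

end Groth.Agent.S10121
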