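import Groth.Statements.S10123
import Groth.Agent.AlgSp.K608.GpdSq
import Groth.Agent.AlgSp.K608.Comp
import Groth.Agent.S9984
import Groth.Agent.S9985

set_option autoImplicit false
universe u
open CategoryTheory CategoryTheory.Limits AlgebraicGeometry
open AlgSp AlgSp.GroupoidSp

namespace Groth.Agent.S10123

open K608.Gpd in
theorem aux_s (S : Scheme.{u}) (B : AlgSp.Sp S)
    (G G' : AlgSp.GroupoidSp B) (hU : AlgSp.IsAlgSpace G.U) (hR : AlgSp.IsAlgSpace G.R)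
    (hU' : AlgSp.IsAlgSpace G'.U) (hR' : AlgSp.IsAlgSpace G'.R) (φ : AlgSp.GroupoidSp.Hom G' G)
    (hφ : φ.IsRestriction) (P : MorphismProperty Scheme.{u})
    (hP : P = @LocallyOfFiniteType ∨ P = @LocallyOfFinitePresentation ∨ P = @Flat)
    (hs : AlgSp.LocP P G.s) (hg : AlgSp.LocP P φ.fU) : AlgSp.LocP P G'.s := by
  have hP' : P = @LocallyOfFiniteType ∨ P = @LocallyOfFinitePresentation ∨ P = @Flat ∨ P = @Smooth ∨ P = @Etale ∨
      (∀ ⦃A B : Scheme.{u}⦄ (g : A ⟶ B), P g ↔ (LocallyQuasiFinite g ∧ LocallyOfFiniteType g)) ∨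
      (∀ ⦃A B : Scheme.{u}⦄ (g : A ⟶ B), P g ↔ (LocallyOfFiniteType g ∧ FormallyUnramified g)) := by
    tauto
  have hQ := K608.Comp.isAlgSpace_pullback G.s φ.fU hR hU' hU
  have h1 : AlgSp.LocP P (toSrc φ) :=
    Groth.Agent.S9984.result P hP' (X := ⟨G'.U, hU'⟩) (Y := ⟨G.U, hU⟩) (Y' := ⟨_, hQ⟩)
      (X' := ⟨G'.R, hR'⟩) (ObjectProperty.homMk φ.fU)
      (ObjectProperty.homMk (pullback.fst G.s φ.fU ≫ G.t)) (ObjectProperty.homMk G'.t)
      (ObjectProperty.homMk (toSrc φ)) (isPullback_toSrc φ hφ).flip hg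
  have h2 : AlgSp.LocP P (pullback.snd G.s φ.fU) :=
    Groth.Agent.S9984.result P hP' (X := ⟨G.R, hR⟩) (Y := ⟨G.U, hU⟩) (Y' := ⟨G'.U, hU'⟩)
      (X' := ⟨_, hQ⟩) (ObjectProperty.homMk G.s)
      (ObjectProperty.homMk φ.fU) (ObjectProperty.homMk (pullback.fst G.s φ.fU))
      (ObjectProperty.homMk (pullback.snd G.s φ.fU)) (IsPullback.of_hasPullback G.s φ.fU) hs
  have h3 := Groth.Agent.S9985.result P hP' (X := ⟨G'.R, hR'⟩) (Y := ⟨_, hQ⟩) (Z := ⟨G'.U, hU'⟩)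
    (ObjectProperty.homMk (toSrc φ)) (ObjectProperty.homMk (pullback.snd G.s φ.fU)) h1 h2
  have h4 : G'.s = toSrc φ ≫ pullback.snd G.s φ.fU := (toSrc_snd φ).symm
  rw [h4]
  exact h3

theorem aux_t {S : Scheme.{u}} {B : AlgSp.Sp S} (G : AlgSp.GroupoidSp B)
    (P : MorphismProperty Scheme.{u}) (h : AlgSp.LocP P G.s) : AlgSp.LocP P G.t := by
  have := K608.Field.LocP.comp_iso_left (K608.Gpd.iIso G) h
  change AlgSp.LocP P (G.i ≫ G.s) at this
  rwa [G.i_s] at this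

/-- Let `(U', R', s', t', c')` be the restriction of a groupoid in algebraic spaces `(U, R, s, t, c)`
over `B` along `g : U' ⟶ U`. If `s, t, g` are locally of finite type (resp. locally of finite
presentation, resp. flat) then so are `s', t'`. -/
theorem result (S : Scheme.{u}) (B : AlgSp.Sp S) (hB : AlgSp.IsAlgSpace B)
    (G G' : AlgSp.GroupoidSp B) (hU : AlgSp.IsAlgSpace G.U) (hR : AlgSp.IsAlgSpace G.R)
    (hU' : AlgSp.IsAlgSpace G'.U) (hR' : AlgSp.IsAlgSpace G'.R) (φ : AlgSp.GroupoidSp.Hom G' G)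
    (hφ : φ.IsRestriction) :
    (AlgSp.LocP @LocallyOfFiniteType G.s → AlgSp.LocP @LocallyOfFiniteType G.t →
        AlgSp.LocP @LocallyOfFiniteType φ.fU →
        AlgSp.LocP @LocallyOfFiniteType G'.s ∧ AlgSp.LocP @LocallyOfFiniteType G'.t) ∧
      (AlgSp.LocP @LocallyOfFinitePresentation G.s → AlgSp.LocP @LocallyOfFinitePresentation G.t →
        AlgSp.LocP @LocallyOfFinitePresentation φ.fU →
        AlgSp.LocP @LocallyOfFinitePresentation G'.s ∧ AlgSp.LocP @LocallyOfFinitePresentation G'.t) ∧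
      (AlgSp.LocP @Flat G.s → AlgSp.LocP @Flat G.t → AlgSp.LocP @Flat φ.fU →
        AlgSp.LocP @Flat G'.s ∧ AlgSp.LocP @Flat G'.t) := by
  refine ⟨fun hs _ hg => ?_, fun hs _ hg => ?_, fun hs _ hg => ?_⟩
  · have := aux_s S B G G' hU hR hU' hR' φ hφ _ (Or.inl rfl) hs hg
    exact ⟨this, aux_t G' _ this⟩
  · have := aux_s S B G G' hU hR hU' hR' φ hφ _ (Or.inr (Or.inl rfl)) hs hg
    exact ⟨this, aux_t G' _ this⟩
  · have := aux_s S B G G' hU hR hU' hR' φ hφ _ (Or.inr (Or.inr rfl)) hs hg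
    exact ⟨this, aux_t G' _ this⟩

end Groth.Agent.S10123
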