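import Groth.Statements.S10124
import Groth.Agent.AlgSp.K608.Gpd

set_option autoImplicit false
universe u
open CategoryTheory CategoryTheory.Limits AlgebraicGeometry
open AlgSp AlgSp.GroupoidSp

namespace Groth.Agent.S10124

open K608.Gpd in
/-- The map `(k, α) ↦ (k, α ∘ (r⁻¹ ∘ r'))`. -/
theorem aux {S : Scheme.{u}} {B X : AlgSp.Sp S} (G : AlgSp.GroupoidSp B)
    (r r' : X ⟶ G.R) (h : r ≫ G.t = r' ≫ G.t) :
    ∃ φ : pullback (r ≫ G.s) G.s ⟶ pullback (r' ≫ G.s) G.s,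
      φ ≫ pullback.fst (r' ≫ G.s) G.s = pullback.fst (r ≫ G.s) G.s ∧
      ∀ {T : AlgSp.Sp S} (k : T ⟶ X) (α : T ⟶ G.R) (hk : k ≫ r ≫ G.s = α ≫ G.s)
        (h1 : inv G (k ≫ r) ≫ G.s = (k ≫ r') ≫ G.t)
        (h2 : α ≫ G.s = mul G (inv G (k ≫ r)) (k ≫ r') h1 ≫ G.t),
        pullback.lift k α hk ≫ φ ≫ pullback.snd (r' ≫ G.s) G.s =
          mul G α (mul G (inv G (k ≫ r)) (k ≫ r') h1) h2 := by
  let p1 := pullback.fst (r ≫ G.s) G.s
  let p2 := pullback.snd (r ≫ G.s) G.s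
  have e0 : p1 ≫ r ≫ G.s = p2 ≫ G.s := pullback.condition
  have e1 : inv G (p1 ≫ r) ≫ G.s = (p1 ≫ r') ≫ G.t := by
    rw [inv_s, Category.assoc, Category.assoc, h]
  have e2 : p2 ≫ G.s = mul G (inv G (p1 ≫ r)) (p1 ≫ r') e1 ≫ G.t := by
    rw [mul_t, inv_t, Category.assoc, e0]
  let φ2 := mul G p2 (mul G (inv G (p1 ≫ r)) (p1 ≫ r') e1) e2
  have e3 : p1 ≫ r' ≫ G.s = φ2 ≫ G.s := by
    rw [mul_s, mul_s, Category.assoc]
  refine ⟨pullback.lift p1 φ2 e3, pullback.lift_fst _ _ _, ?_⟩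
  intro T k α hk h1 h2
  rw [pullback.lift_snd]
  have a1 : pullback.lift k α hk ≫ p1 = k := pullback.lift_fst _ _ _
  have a2 : pullback.lift k α hk ≫ p2 = α := pullback.lift_snd _ _ _
  change pullback.lift k α hk ≫ mul G p2 (mul G (inv G (p1 ≫ r)) (p1 ≫ r') e1) e2 = _
  rw [comp_mul G (pullback.lift k α hk) p2 _ e2]
  refine mul_congr G _ a2 ?_
  rw [comp_mul G (pullback.lift k α hk) _ _ e1]
  refine mul_congr G _ ?_ ?_
  · rw [comp_inv, ← Category.assoc, a1]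
  · rw [← Category.assoc, a1]

open K608.Gpd in
/-- Let `(U, R, s, t, c)` be a groupoid in algebraic spaces over `B`, `K` a field and `r, r' : Spec K ⟶
R` with `t ∘ r = t ∘ r'`; put `u = s ∘ r`, `u' = s ∘ r'`. Then the fibres `Spec K ×_{u, U, s} R` and
`Spec K ×_{u', U, s} R` are isomorphic as spaces over `Spec K` (existence of an isomorphism over
`Spec K`). -/
theorem result (S : Scheme.{u}) (B : AlgSp.Sp S) (hB : AlgSp.IsAlgSpace B)
    (G : AlgSp.GroupoidSp B) (hU : AlgSp.IsAlgSpace G.U) (hR : AlgSp.IsAlgSpace G.R)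
    (K : Type u) [Field K] (σ : Spec (CommRingCat.of K) ⟶ S)
    (r r' : (AlgSp.yon S).obj (Over.mk σ) ⟶ G.R) (h : r ≫ G.t = r' ≫ G.t) :
    Nonempty (Over.mk (pullback.fst (r ≫ G.s) G.s) ≅ Over.mk (pullback.fst (r' ≫ G.s) G.s)) := by
  obtain ⟨φ, hφ1, hφ2⟩ := aux G r r' h
  obtain ⟨ψ, hψ1, hψ2⟩ := aux G r' r h.symm
  -- the composite of two such maps is the identity
  have key : ∀ (r r' : (AlgSp.yon S).obj (Over.mk σ) ⟶ G.R) (h : r ≫ G.t = r' ≫ G.t)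
      (φ : pullback (r ≫ G.s) G.s ⟶ pullback (r' ≫ G.s) G.s)
      (ψ : pullback (r' ≫ G.s) G.s ⟶ pullback (r ≫ G.s) G.s)
      (hφ1 : φ ≫ pullback.fst (r' ≫ G.s) G.s = pullback.fst (r ≫ G.s) G.s)
      (hψ1 : ψ ≫ pullback.fst (r ≫ G.s) G.s = pullback.fst (r' ≫ G.s) G.s)
      (hφ2 : ∀ {T : AlgSp.Sp S} (k : T ⟶ _) (α : T ⟶ G.R) (hk : k ≫ r ≫ G.s = α ≫ G.s)
        (h1 : inv G (k ≫ r) ≫ G.s = (k ≫ r') ≫ G.t)
        (h2 : α ≫ G.s = mul G (inv G (k ≫ r)) (k ≫ r') h1 ≫ G.t),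
        pullback.lift k α hk ≫ φ ≫ pullback.snd (r' ≫ G.s) G.s =
          mul G α (mul G (inv G (k ≫ r)) (k ≫ r') h1) h2)
      (hψ2 : ∀ {T : AlgSp.Sp S} (k : T ⟶ _) (α : T ⟶ G.R) (hk : k ≫ r' ≫ G.s = α ≫ G.s)
        (h1 : inv G (k ≫ r') ≫ G.s = (k ≫ r) ≫ G.t)
        (h2 : α ≫ G.s = mul G (inv G (k ≫ r')) (k ≫ r) h1 ≫ G.t),
        pullback.lift k α hk ≫ ψ ≫ pullback.snd (r ≫ G.s) G.s =
          mul G α (mul G (inv G (k ≫ r')) (k ≫ r) h1) h2), φ ≫ ψ = 𝟙 _ := by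
    intro r r' h φ ψ hφ1 hψ1 hφ2 hψ2
    apply pullback.hom_ext
    · rw [Category.assoc, hψ1, hφ1, Category.id_comp]
    · rw [Category.id_comp, Category.assoc]
      have e0 : pullback.fst (r ≫ G.s) G.s ≫ r ≫ G.s = pullback.snd (r ≫ G.s) G.s ≫ G.s :=
        pullback.condition
      generalize hp1 : pullback.fst (r ≫ G.s) G.s = p1 at *
      generalize hp2 : pullback.snd (r ≫ G.s) G.s = p2 at *
      have e1 : inv G (p1 ≫ r) ≫ G.s = (p1 ≫ r') ≫ G.t := by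
        rw [inv_s, Category.assoc, Category.assoc, h]
      have e1' : inv G (p1 ≫ r') ≫ G.s = (p1 ≫ r) ≫ G.t := by
        rw [inv_s, Category.assoc, Category.assoc, h]
      have e2 : p2 ≫ G.s = mul G (inv G (p1 ≫ r)) (p1 ≫ r') e1 ≫ G.t := by
        rw [mul_t, inv_t, Category.assoc, e0]
      have hid : pullback.lift p1 p2 e0 = 𝟙 _ := by
        apply pullback.hom_ext
        · rw [pullback.lift_fst, Category.id_comp, hp1]
        · rw [pullback.lift_snd, Category.id_comp, hp2]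
      have hA := hφ2 p1 p2 e0 e1 e2
      rw [hid, Category.id_comp] at hA
      -- φ = lift p1 (mul ...)
      have e3 : p1 ≫ r' ≫ G.s = mul G p2 (mul G (inv G (p1 ≫ r)) (p1 ≫ r') e1) e2 ≫ G.s := by
        rw [mul_s, mul_s, Category.assoc]
      have hφ : φ = pullback.lift p1 (mul G p2 (mul G (inv G (p1 ≫ r)) (p1 ≫ r') e1) e2) e3 := by
        apply pullback.hom_ext
        · rw [pullback.lift_fst, hφ1]
        · rw [pullback.lift_snd, hA]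
      rw [hφ, hψ2 p1 _ e3 e1' (by rw [mul_s, mul_s, mul_t, inv_t])]
      rw [mul_assoc G p2 _ _ e2 (by rw [mul_s, mul_t, inv_t])]
      have e4 : mul G (mul G (inv G (p1 ≫ r)) (p1 ≫ r') e1) (mul G (inv G (p1 ≫ r')) (p1 ≫ r) e1')
          (by rw [mul_s, mul_t, inv_t]) = one G (p2 ≫ G.s) := by
        rw [mul_assoc G (inv G (p1 ≫ r)) (p1 ≫ r') _ e1 (by rw [mul_t, inv_t])]
        rw [mul_congr G _ rfl (mul_inv_cancel_left G (p1 ≫ r') (p1 ≫ r) e1' (by rw [mul_t, inv_t]))]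
        rw [inv_mul, Category.assoc, e0]
      rw [mul_congr G _ rfl e4, mul_one]
  refine ⟨Over.isoMk ⟨φ, ψ, ?_, ?_⟩ hφ1⟩
  · exact key r r' h φ ψ hφ1 hψ1 hφ2 hψ2
  · exact key r' r h.symm ψ φ hψ1 hφ1 hψ2 hφ2

end Groth.Agent.S10124
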