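import Groth.Statements.S10125
import Groth.Agent.AlgSp.K608.Comp
import Groth.Agent.AlgSp.K608.Grp
import Groth.Agent.S9984
import Groth.Agent.S9911

set_option autoImplicit false
universe u
open CategoryTheory CategoryTheory.Limits AlgebraicGeometry MonoidalCategory MonObj
open AlgSp

namespace Groth.Agent.S10125

/-- For a group algebraic space `G` over a field `k`, the multiplication `m` of `G`, a morphism `G ×_k G
⟶ G`, is both flat and universally open. (The published situation allows any base scheme `S` with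
`k` a field over `S`; this row takes `S = Spec k`.) -/
theorem result (k : Type u) [Field k]
    (G : Over ((AlgSp.yon (Spec (CommRingCat.of k))).obj (Over.mk (𝟙 _)))) [GrpObj G]
    (hG : AlgSp.IsAlgSpace G.left) :
    AlgSp.LocP @Flat (μ[G]).left ∧ AlgSp.IsUnivOpenMor (μ[G]).left := by
  have hB : AlgSp.IsAlgSpace ((AlgSp.yon (Spec (CommRingCat.of k))).obj (Over.mk (𝟙 _))) :=
    AlgSp.IsAlgSpace.yon_obj _
  have hGG : AlgSp.IsAlgSpace (G ⊗ G).left := K608.Comp.isAlgSpace_pullback G.hom G.hom hG hG hB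
  have h1 : AlgSp.LocP @Flat G.hom := K608.Field.locP_flat_to_field G.hom
  have h2 : AlgSp.IsUnivOpenMor G.hom :=
    Groth.Agent.S9911.result ⟨G.left, hG⟩ _ (ObjectProperty.homMk G.hom)
  refine ⟨?_, K608.Field.isUnivOpenMor_of_isPullback (K608.Grp.isPullback_mul_fst G).flip h2⟩
  exact Groth.Agent.S9984.result @Flat (by tauto) (X := ⟨G.left, hG⟩) (Y := ⟨_, hB⟩)
    (Y' := ⟨G.left, hG⟩) (X' := ⟨_, hGG⟩) (ObjectProperty.homMk G.hom)
    (ObjectProperty.homMk G.hom) (ObjectProperty.homMk _)
    (ObjectProperty.homMk (μ[G]).left) (K608.Grp.isPullback_mul_fst G).flip h1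

end Groth.Agent.S10125
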