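import Groth.Statements.S10126
import Groth.Agent.AlgSp.K608.GpdSq
import Groth.Agent.AlgSp.K608.Comp
import Groth.Agent.S9984
import Groth.Agent.S9911

set_option autoImplicit false
universe u
open CategoryTheory CategoryTheory.Limits AlgebraicGeometry
open AlgSp AlgSp.GroupoidSp

namespace Groth.Agent.S10126

open K608.Gpd in
/-- Let `(U, R, s, t, c)` be a groupoid in algebraic spaces over `B` whose object space is `U = Spec k`,
with `k` a field. Then the composition `c : R ×_{s, U, t} R ⟶ R` is flat and universally open. -/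
theorem result (S : Scheme.{u}) (B : AlgSp.Sp S) (hB : AlgSp.IsAlgSpace B)
    (G : AlgSp.GroupoidSp B) (hR : AlgSp.IsAlgSpace G.R) (k : Type u) [Field k]
    (σ : Spec (CommRingCat.of k) ⟶ S) (eU : G.U ≅ (AlgSp.yon S).obj (Over.mk σ)) :
    AlgSp.LocP @Flat G.c ∧ AlgSp.IsUnivOpenMor G.c := by
  have hU : AlgSp.IsAlgSpace G.U := (AlgSp.IsAlgSpace.yon_obj (Over.mk σ)).of_iso eU.symm
  have hQ := K608.Comp.isAlgSpace_pullback G.s G.t hR hR hU
  have h1 : AlgSp.LocP @Flat G.s := by
    have h := K608.Field.LocP.comp_iso_right eU.symm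
      (K608.Field.locP_flat_to_field (G.s ≫ eU.hom))
    simpa using h
  have h2 : AlgSp.IsUnivOpenMor G.s := by
    have h := Groth.Agent.S9911.result ⟨G.R, hR⟩ σ (ObjectProperty.homMk (G.s ≫ eU.hom))
    exact K608.Field.isUnivOpenMor_of_isPullback (fst := 𝟙 _) (g := eU.hom)
      (IsPullback.of_horiz_isIso ⟨Category.id_comp _⟩) h
  refine ⟨?_, K608.Field.isUnivOpenMor_of_isPullback (isPullback_c_snd G).flip h2⟩
  exact Groth.Agent.S9984.result @Flat (by tauto) (X := ⟨G.R, hR⟩) (Y := ⟨G.U, hU⟩)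
    (Y' := ⟨G.R, hR⟩) (X' := ⟨_, hQ⟩) (ObjectProperty.homMk G.s)
    (ObjectProperty.homMk G.s) (ObjectProperty.homMk (pullback.snd G.s G.t))
    (ObjectProperty.homMk G.c) (isPullback_c_snd G).flip h1

end Groth.Agent.S10126
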