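import Groth.Statements.S9972
import Groth.Agent.AlgSp.K598.RepKit

set_option autoImplicit false
universe u
open CategoryTheory CategoryTheory.Limits AlgebraicGeometry
open AlgSp

namespace Groth.Agent.S9972

/-- Two morphisms to an algebraic space separated over B that agree on an open subspace whose scheme
theoretic closure is everything are equal. -/
theorem result {S : Scheme.{u}} {U X Y B : AlgSp.Space S} (q : Y ⟶ B)
    (hq : AlgSp.IsSeparatedMor q.hom) (f g : X ⟶ Y) (hfg : f ≫ q = g ≫ q) (j : U ⟶ X)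
    (hj : AlgSp.RepWith @IsOpenImmersion j.hom) (hcl : AlgSp.IsSchImage j.hom (𝟙 X.obj)) (heq : j ≫ f = j ≫ g) :
    f = g := by
  have hq' : RepWith @IsClosedImmersion (pullback.diagonal q.hom) := hq
  have hw : f.hom ≫ q.hom = g.hom ≫ q.hom := congrArg (fun k => k.hom) hfg
  have hj' : j.hom ≫ f.hom = j.hom ≫ g.hom := congrArg (fun k => k.hom) heq
  obtain ⟨l, hl1, hl2⟩ : ∃ l : X.obj ⟶ pullback q.hom q.hom, l ≫ pullback.fst _ _ = f.hom ∧
      l ≫ pullback.snd _ _ = g.hom := ⟨pullback.lift f.hom g.hom hw, pullback.lift_fst _ _ _, pullback.lift_snd _ _ _⟩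
  obtain ⟨E, a, e, sq⟩ : ∃ (E : AlgSp.Sp S) (a : E ⟶ Y.obj) (e : E ⟶ X.obj),
      IsPullback a e (pullback.diagonal q.hom) l := ⟨_, _, _, IsPullback.of_hasPullback _ _⟩
  have he : RepWith @IsClosedImmersion e := K598.RepKit.repWith_of_isPullback sq hq'
  obtain ⟨k, hk⟩ := hcl.2.2 e (K598.RepKit.isAlgSpace_of_repWith_isClosedImmersion he X.property) he
    ⟨sq.lift (j.hom ≫ f.hom) j.hom (by
      apply pullback.hom_ext
      · rw [Category.assoc, Category.assoc, pullback.diagonal_fst, Category.comp_id, Category.assoc, hl1]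
      · rw [Category.assoc, Category.assoc, pullback.diagonal_snd, Category.comp_id, Category.assoc, hl2, hj']),
      sq.lift_snd _ _ _⟩
  have h1 : e ≫ f.hom = e ≫ g.hom := by
    have h2 := congrArg (fun t => t ≫ pullback.fst _ _) sq.w
    have h3 := congrArg (fun t => t ≫ pullback.snd _ _) sq.w
    simp only [Category.assoc, pullback.diagonal_fst, pullback.diagonal_snd, Category.comp_id, hl1, hl2] at h2 h3
    rw [← h2, ← h3]
  ext : 1
  rw [← Category.id_comp f.hom, ← Category.id_comp g.hom, ← hk, Category.assoc, Category.assoc, h1]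

end Groth.Agent.S9972
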