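import Groth.Statements.S9974
import Groth.Agent.AlgSp.K598.SchImg
import Groth.Agent.AlgSp.K597.LocP
import Groth.Agent.AlgSp.K597.EtLoc

set_option autoImplicit false
universe u
open CategoryTheory CategoryTheory.Limits AlgebraicGeometry
open AlgSp

namespace Groth.Agent.S9974

/-- For a flat morphism of algebraic spaces, the scheme theoretic image of a quasi-compact morphism
pulls back to the scheme theoretic image of the pulled-back morphism. -/
theorem result {S : Scheme.{u}} {X Y V Z VX ZX : AlgSp.Space S} (f : X ⟶ Y)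
    (hf : AlgSp.LocP @Flat f.hom) (g : V ⟶ Y) (hg : AlgSp.IsQuasiCompactMor g.hom) (i : Z ⟶ Y)
    (hZ : AlgSp.IsSchImage g.hom i.hom) (g₁ : VX ⟶ V) (gX : VX ⟶ X) (sqV : IsPullback g₁.hom gX.hom g.hom f.hom)
    (i₁ : ZX ⟶ Z) (iX : ZX ⟶ X) (sqZ : IsPullback i₁.hom iX.hom i.hom f.hom) :
    AlgSp.IsSchImage gX.hom iX.hom := by
  have hi : RepWith @IsClosedImmersion i.hom := hZ.1
  have hiX : RepWith @IsClosedImmersion iX.hom := K598.RepKit.repWith_of_isPullback sqZ hi
  obtain ⟨ι, U, x, h1, h2, h3⟩ := K598.Charts.exists_affine_charts X.property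
  refine K598.SchImg.isSchImage_of_K X.property hiX (K598.Charts.ChartFam.of_etale h1 h3) fun j => ?_
  have hfl : RepWith @Flat (x j ≫ f.hom) := K597.repWith_of_locP K597.etLoc_flat Y.property.hasAtlas
    (Y.property.representable_from_yon _) (K597.locP_precomp (h1 j) hf)
  rw [K598.ClFam.ofClosed_of_isPullback hi sqZ hiX,
    K598.SchImg.image_eq_K Y.property hg hi hZ _ (h2 j) hfl, K598.SchImg.K_of_isPullback sqV]

end Groth.Agent.S9974
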