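import Groth.Statements.S9973
import Groth.Agent.AlgSp.K598.Dens
import Groth.Agent.S9974

set_option autoImplicit false
universe u
open CategoryTheory CategoryTheory.Limits AlgebraicGeometry
open AlgSp

namespace Groth.Agent.S9973

/-- The inverse image of a quasi-compact scheme theoretically dense open under a flat morphism of
algebraic spaces is scheme theoretically dense. -/
theorem result {S : Scheme.{u}} {X Y V V' : AlgSp.Space S} (f : X ⟶ Y)
    (hf : AlgSp.LocP @Flat f.hom) (j : V ⟶ Y) (hj : AlgSp.IsSchDense j.hom) (hjq : AlgSp.IsQuasiCompactMor j.hom)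
    (fst : V' ⟶ V) (jX : V' ⟶ X) (sq : IsPullback fst.hom jX.hom j.hom f.hom) : AlgSp.IsSchDense jX.hom := by
  have hjX : RepWith @IsOpenImmersion jX.hom := K598.RepKit.repWith_of_isPullback sq hj.1
  have h1 : IsSchImage j.hom (𝟙 Y.obj) := K598.Dens.isSchImage_id_of_isSchDense Y.property hj
  have h2 : IsSchImage jX.hom (𝟙 X.obj) :=
    Groth.Agent.S9974.result f hf j hjq (𝟙 Y) h1 fst jX sq f (𝟙 X)
      (by exact (IsPullback.of_vert_isIso ⟨by simp⟩ : IsPullback f.hom (𝟙 X.obj) (𝟙 Y.obj) f.hom))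
  refine K598.Dens.isSchDense_of_isSchImage_id X.property hjX ?_ h2
  intro Z Z' hZ hZq g a b sqZ
  exact hjq hZ hZq (g ≫ f.hom) (a ≫ fst.hom) b (sqZ.paste_horiz sq)

end Groth.Agent.S9973
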