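import Groth.Statements.S10129
import Groth.Agent.AlgSp.K608.Comp
import Groth.Agent.AlgSp.K629.EtLocInst
import Groth.Agent.AlgSp.K613.Cover
import Groth.Agent.AlgSp.K609.Points
import Groth.Agent.AlgSp.K610.Factor
import Groth.Agent.S9984
import Groth.Agent.S9985
import Groth.Agent.S9969
import Groth.Agent.S9972
import Groth.Agent.S9973

set_option autoImplicit false
universe u
open CategoryTheory CategoryTheory.Limits AlgebraicGeometry
open AlgSp

namespace Groth.Agent.S10129

alias i9969 := Groth.Agent.S9969.result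
alias i9972 := Groth.Agent.S9972.result
alias i9973 := Groth.Agent.S9973.result

/-- A surjective flat morphism locally of finite presentation is fppf locally surjective. -/
theorem fSurj_of_fppf {S : Scheme.{u}} {X Z : AlgSp.Sp S} (hX : IsAlgSpace X) (hZ : IsAlgSpace Z)
    (g : X ⟶ Z)
    (hgs : AlgSp.IsSurjectiveMor g) (hgf : AlgSp.LocP @Flat g)
    (hgp : AlgSp.LocP @LocallyOfFinitePresentation g) : K613.Cover.FSurj g := by
  obtain ⟨U, a, ha, has⟩ := hX.atlas
  have h1 : RepWith @Flat (a ≫ g) := K629.EtLocInst.flat.repWith hZ hgf a ha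
  have h2 : RepWith @LocallyOfFinitePresentation (a ≫ g) := K629.EtLocInst.lfp.repWith hZ hgp a ha
  have h3 : RepWith @Surjective (a ≫ g) := by
    rw [K609.Points.repWith_surjective_iff h1.1]
    have h4 : IsSurjectiveMor a := (K609.Points.repWith_surjective_iff has.1).1 has
    exact K608.Field.isSurjectiveMor_comp h4 hgs
  exact (K613.Cover.FSurj.of_repWith h1 h2 h3).of_comp

theorem isQuasiCompactMor_of_isPullback {S : Scheme.{u}} {P X Y Z : Sp S} {fst : P ⟶ X}
    {snd : P ⟶ Y} {f : X ⟶ Z} {g : Y ⟶ Z} (h : IsPullback fst snd f g)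
    (hf : IsQuasiCompactMor f) : IsQuasiCompactMor snd := by
  intro T T' hT hTq t a b sq
  exact hf hT hTq (t ≫ g) (a ≫ fst) b (sq.paste_horiz h)

/-- Consider morphisms `g : X ⟶ Z` and `f : X ⟶ Y` of algebraic spaces over `B`, with `Y ⟶ B` separated
and `g` surjective, flat and locally of finite presentation, and let `V ⊂ Z` be a scheme
theoretically dense open subspace with `V ⟶ Z` quasi-compact such that `f` restricted to `g⁻¹(V)`
factors through `g⁻¹(V) ⟶ V`. Then `f` factors through `g`. (The published statement does not ask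
the open immersion `V ⟶ Z` to be quasi-compact; the published proof pulls the scheme theoretic
density of `V` back along a flat morphism by a lemma that requires it, so this row assumes it.) -/
theorem result (S : Scheme.{u}) (B : AlgSp.Sp S) (hB : AlgSp.IsAlgSpace B)
    (X Y Z : AlgSp.Space S) (pX : X.obj ⟶ B) (pY : Y.obj ⟶ B) (pZ : Z.obj ⟶ B)
    (f : X.obj ⟶ Y.obj) (g : X.obj ⟶ Z.obj) (hf : f ≫ pY = pX) (hg : g ≫ pZ = pX)
    (hY : AlgSp.IsSeparatedMor pY)
    (hgs : AlgSp.IsSurjectiveMor g) (hgf : AlgSp.LocP @Flat g) (hgp : AlgSp.LocP @LocallyOfFinitePresentation g)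
    (V : AlgSp.Sp S) (v : V ⟶ Z.obj) (hv : AlgSp.IsSchDense v) (hvq : AlgSp.IsQuasiCompactMor v)
    (hfac : ∃ φ : V ⟶ Y.obj, pullback.fst g v ≫ f = pullback.snd g v ≫ φ) :
    ∃ h : Z.obj ⟶ Y.obj, g ≫ h = f := by
  obtain ⟨φ, hφ⟩ := hfac
  -- the algebraic spaces involved
  have hXX : IsAlgSpace (pullback g g) := K608.Comp.isAlgSpace_pullback g g X.property X.property Z.property
  have hV : IsAlgSpace V := by
    have : Mono v := K610.Factor.mono_of_isOpenImmersion hv.1
    exact K610.Sub.isAlgSpace_of_mono hv.1.1 Z.property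
  have sqX := IsPullback.of_hasPullback g g
  -- the flat projection `X ×_Z X ⟶ Z`
  have hpf : LocP @Flat (pullback.fst g g ≫ g) := by
    have h1 : LocP @Flat (pullback.snd g g) :=
      Groth.Agent.S9984.result @Flat (by tauto) (X := X) (Y := Z) (Y' := X) (X' := ⟨_, hXX⟩)
        (ObjectProperty.homMk g) (ObjectProperty.homMk g) (ObjectProperty.homMk (pullback.fst g g))
        (ObjectProperty.homMk (pullback.snd g g)) sqX hgf
    rw [sqX.w]
    exact Groth.Agent.S9985.result @Flat (by tauto) (X := ⟨_, hXX⟩) (Y := X) (Z := Z)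
      (ObjectProperty.homMk (pullback.snd g g)) (ObjectProperty.homMk g) h1 hgf
  have sqV := IsPullback.of_hasPullback v (pullback.fst g g ≫ g)
  have hV' : IsAlgSpace (pullback v (pullback.fst g g ≫ g)) :=
    K608.Comp.isAlgSpace_of_isPullback sqV hV hXX Z.property
  generalize pullback.fst v (pullback.fst g g ≫ g) = r at sqV
  generalize pullback.snd v (pullback.fst g g ≫ g) = j at sqV
  have hj : IsSchDense j :=
    i9973 (X := ⟨_, hXX⟩) (Y := Z) (V := ⟨V, hV⟩) (V' := ⟨_, hV'⟩)
      (ObjectProperty.homMk (pullback.fst g g ≫ g)) hpf (ObjectProperty.homMk v) hv hvq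
      (ObjectProperty.homMk r) (ObjectProperty.homMk j) sqV
  have hjq : IsQuasiCompactMor j := isQuasiCompactMor_of_isPullback sqV hvq
  have hjs := (i9969 (U := ⟨_, hV'⟩) (X := ⟨_, hXX⟩) (ObjectProperty.homMk j) hj.1 hjq).1 hj
  -- the two composites agree on the preimage of `V`
  have hagree : j ≫ pullback.fst g g ≫ f = j ≫ pullback.snd g g ≫ f := by
    have hl : ∀ (l : _ ⟶ X.obj) (hl : l ≫ g = r ≫ v), l ≫ f = r ≫ φ := by
      intro l hl
      have e1 : pullback.lift l r hl ≫ pullback.fst g v = l := pullback.lift_fst _ _ _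
      have e2 : pullback.lift l r hl ≫ pullback.snd g v = r := pullback.lift_snd _ _ _
      rw [← e1, Category.assoc, hφ, ← Category.assoc, e2]
    rw [← Category.assoc, ← Category.assoc, hl (j ≫ pullback.fst g g), hl (j ≫ pullback.snd g g)]
    · rw [Category.assoc, ← sqX.w, sqV.w]
    · rw [Category.assoc, sqV.w]
  have hpq : (pullback.fst g g ≫ f) ≫ pY = (pullback.snd g g ≫ f) ≫ pY := by
    rw [Category.assoc, Category.assoc, hf, ← hg, ← Category.assoc, ← Category.assoc, sqX.w]
  have heq : (ObjectProperty.homMk (pullback.fst g g ≫ f) : (⟨_, hXX⟩ : AlgSp.Space S) ⟶ Y) =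
      ObjectProperty.homMk (pullback.snd g g ≫ f) :=
    i9972 (U := ⟨_, hV'⟩) (X := ⟨_, hXX⟩) (Y := Y) (B := ⟨B, hB⟩) (ObjectProperty.homMk pY) hY
      (ObjectProperty.homMk (pullback.fst g g ≫ f)) (ObjectProperty.homMk (pullback.snd g g ≫ f))
      (by ext : 1; exact hpq) (ObjectProperty.homMk j) hj.1 hjs (by ext : 1; exact hagree)
  have heq' : pullback.fst g g ≫ f = pullback.snd g g ≫ f := congrArg (fun m => m.hom) heq
  obtain ⟨y, hy, -⟩ := (fSurj_of_fppf X.property Z.property g hgs hgf hgp).desc f (by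
    intro R a b hab
    have := congrArg (pullback.lift a b hab ≫ ·) heq'
    simpa only [← Category.assoc, pullback.lift_fst, pullback.lift_snd] using this)
  exact ⟨y, hy⟩

end Groth.Agent.S10129
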