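import Groth.Statements.S10130
import Groth.Agent.AlgSp.K608.Pts2
import Groth.Agent.S10121

set_option autoImplicit false
universe u
open CategoryTheory CategoryTheory.Limits AlgebraicGeometry
open AlgSp AlgSp.GroupoidSp

namespace Groth.Agent.S10130

open K608.Pts in
/-- Let `(U, R, s, t, c)` be a groupoid in algebraic spaces over `B` with `s, t` open. For every open
subspace `W ⊂ U`, the open subspace `s(t⁻¹(W))` of `U` is `R`-invariant. -/
theorem result (S : Scheme.{u}) (B : AlgSp.Sp S) (hB : AlgSp.IsAlgSpace B)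
    (G : AlgSp.GroupoidSp B) (hU : AlgSp.IsAlgSpace G.U) (hR : AlgSp.IsAlgSpace G.R)
    (hs : AlgSp.IsOpenMor G.s) (ht : AlgSp.IsOpenMor G.t)
    (W W' : AlgSp.Sp S) (w : W ⟶ G.U) (w' : W' ⟶ G.U)
    (hw : AlgSp.RepWith @IsOpenImmersion w) (hw' : AlgSp.RepWith @IsOpenImmersion w')
    (himg : Set.range (AlgSp.Points.map w') =
      AlgSp.Points.map G.s '' (AlgSp.Points.map G.t ⁻¹' Set.range (AlgSp.Points.map w))) :
    G.IsInvariant w' := by
  have heq := Groth.Agent.S10121.result S G.R G.U hR hU G.s G.t (K608.Gpd.isPreEqvRelSp G)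
  -- points in the image are stable under the relation
  have hmem : ∀ y : AlgSp.Points G.U, y ∈ Set.range (AlgSp.Points.map w') ↔
      ∃ x ∈ Set.range (AlgSp.Points.map w), ∃ r : AlgSp.Points G.R,
        AlgSp.Points.map G.t r = x ∧ AlgSp.Points.map G.s r = y := by
    intro y
    rw [himg]
    constructor
    · rintro ⟨r, hr, rfl⟩
      exact ⟨_, hr, r, rfl, rfl⟩
    · rintro ⟨x, hx, r, rfl, rfl⟩
      exact ⟨r, hx, rfl⟩
  have hrel : ∀ r : AlgSp.Points G.R, AlgSp.Points.map G.t r ∈ Set.range (AlgSp.Points.map w') ↔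
      AlgSp.Points.map G.s r ∈ Set.range (AlgSp.Points.map w') := by
    intro r
    rw [hmem, hmem]
    constructor
    · rintro ⟨x, hx, hr⟩
      exact ⟨x, hx, heq.trans hr ⟨r, rfl, rfl⟩⟩
    · rintro ⟨x, hx, hr⟩
      exact ⟨x, hx, heq.trans hr (heq.symm ⟨r, rfl, rfl⟩)⟩
  intro T r
  rw [factors_iff_of_isOpenImmersion hw', factors_iff_of_isOpenImmersion hw']
  refine forall_congr' fun t => ?_
  rw [← AlgSp.Points.map_ofPt, ← AlgSp.Points.map_ofPt]
  exact hrel _

end Groth.Agent.S10130
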