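import Groth.Statements.S10131
import Groth.Agent.AlgSp.K608.OpenEmb
import Groth.Agent.S10130
import Groth.Agent.S10174
import Groth.Agent.S10179
import Groth.Agent.S10195
import Groth.Agent.S9913

set_option autoImplicit false
universe u
open CategoryTheory CategoryTheory.Limits AlgebraicGeometry
open AlgSp AlgSp.GroupoidSp

namespace Groth.Agent.S10131

alias i10174 := Groth.Agent.S10174.result
alias i10179 := Groth.Agent.S10179.result
alias i10195 := Groth.Agent.S10195.result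
alias i9913 := Groth.Agent.S9913.result

open K608.Pts in
/-- Let `(U, R, s, t, c)` be a groupoid in algebraic spaces over `B` with `s, t` open and quasi-compact.
Then `U` has an open covering by `R`-invariant quasi-compact open subspaces. -/
theorem result (S : Scheme.{u}) (B : AlgSp.Sp S) (hB : AlgSp.IsAlgSpace B)
    (G : AlgSp.GroupoidSp B) (hU : AlgSp.IsAlgSpace G.U) (hR : AlgSp.IsAlgSpace G.R)
    (hs : AlgSp.IsOpenMor G.s ∧ AlgSp.IsQuasiCompactMor G.s) (ht : AlgSp.IsOpenMor G.t ∧ AlgSp.IsQuasiCompactMor G.t)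
    (x : AlgSp.Points G.U) :
    ∃ (W : AlgSp.Sp S) (w : W ⟶ G.U), AlgSp.RepWith @IsOpenImmersion w ∧ G.IsInvariant w ∧
      AlgSp.IsQuasiCompactSp W ∧ x ∈ Set.range (AlgSp.Points.map w) := by
  obtain ⟨V, hVo, hVc, hxV, -⟩ := i10179 ⟨G.U, hU⟩ x Set.univ isOpen_univ trivial
  obtain ⟨W₀, w₀, hw₀, hr₀⟩ := i10195 ⟨G.U, hU⟩ V hVo
  have hc : IsCompact (AlgSp.Points.map G.t ⁻¹' V) :=
    i9913 (X := ⟨G.R, hR⟩) (Y := ⟨G.U, hU⟩) (ObjectProperty.homMk G.t) ht.2 V hVo hVc
  have ho : IsOpen (AlgSp.Points.map G.t ⁻¹' V) := hVo.preimage (Points.continuous_map _)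
  obtain ⟨W, w, hw, hr⟩ := i10195 ⟨G.U, hU⟩ (AlgSp.Points.map G.s '' (AlgSp.Points.map G.t ⁻¹' V))
    (hs.1 _ ho)
  refine ⟨W.obj, w.hom, hw, ?_, ?_, ?_⟩
  · refine Groth.Agent.S10130.result S B hB G hU hR hs.1 ht.1 _ _ w₀.hom w.hom hw₀ hw ?_
    rw [hr, hr₀]
  · rw [i10174 W]
    have he := K608.OpenEmb.isOpenEmbedding_of_repWith_isOpenImmersion hw
    rw [← isCompact_univ_iff, he.isInducing.isCompact_iff, Set.image_univ, hr]
    exact hc.image (Points.continuous_map _)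
  · rw [hr]
    refine ⟨AlgSp.Points.map G.e x, ?_, ?_⟩
    · rw [Set.mem_preimage, ← Points.map_comp, G.e_t, Points.map_id]
      exact hxV
    · rw [← Points.map_comp, G.e_s, Points.map_id]

end Groth.Agent.S10131
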