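import Groth.Statements.S10132
import Groth.Agent.AlgSp.K608.GpdSq
import Groth.Agent.AlgSp.K608.Comp
import Groth.Agent.S9984
import Groth.Agent.S9985
import Groth.Agent.S9911

set_option autoImplicit false
universe u
open CategoryTheory CategoryTheory.Limits AlgebraicGeometry
open AlgSp AlgSp.GroupoidSp

namespace Groth.Agent.S10132

/-- A morphism from an algebraic space to `Spec k` is flat and universally open. -/
theorem to_field {S : Scheme.{u}} {X Y : AlgSp.Sp S} (hX : AlgSp.IsAlgSpace X) {k : Type u} [Field k]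
    {σ : Spec (CommRingCat.of k) ⟶ S} (e : Y ≅ (AlgSp.yon S).obj (Over.mk σ)) (f : X ⟶ Y) :
    AlgSp.LocP @Flat f ∧ AlgSp.IsUnivOpenMor f := by
  constructor
  · have h := K608.Field.LocP.comp_iso_right e.symm
      (K608.Field.locP_flat_to_field (f ≫ e.hom))
    simpa using h
  · have h := Groth.Agent.S9911.result ⟨X, hX⟩ σ (ObjectProperty.homMk (f ≫ e.hom))
    exact K608.Field.isUnivOpenMor_of_isPullback (fst := 𝟙 _) (g := e.hom)
      (IsPullback.of_horiz_isIso ⟨Category.id_comp _⟩) h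

/-- An isomorphism composed with an affine morphism composed with an isomorphism is affine. -/
theorem isAffineMor_arrow_iso {S : Scheme.{u}} {X X' Y Y' : AlgSp.Sp S} (e : X' ≅ X) (e' : Y ≅ Y')
    {f : X ⟶ Y} (hf : AlgSp.IsAffineMor f) : AlgSp.IsAffineMor (e.hom ≫ f ≫ e'.hom) := by
  refine K608.Field.isAffineMor_of_isPullback (fst := e.hom) (g := e'.inv) (f := f) ?_ hf
  exact IsPullback.of_horiz_isIso ⟨by rw [Category.assoc, Category.assoc, e'.hom_inv_id, Category.comp_id]⟩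

theorem isAffineMor_yon_map {S : Scheme.{u}} {U V : Over S} (f : U ⟶ V) (hf : IsAffineHom f.left) :
    AlgSp.IsAffineMor ((AlgSp.yon S).map f) := by
  intro Z hZ g
  obtain ⟨g, rfl⟩ := (AlgSp.yon S).map_surjective g
  refine ⟨pullback f g, pullback.snd f g, (AlgSp.yon S).map (pullback.fst f g),
    (IsPullback.of_hasPullback f g).map (AlgSp.yon S), ?_⟩
  have sq := (IsPullback.of_hasPullback f g).map (Over.forget S)
  have h1 : IsAffineHom (pullback.snd f g).left :=
    MorphismProperty.of_isPullback (P := @IsAffineHom) sq hf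
  have h2 : IsAffine Z.left := hZ
  exact isAffine_of_isAffineHom (pullback.snd f g).left

open K608.Gpd in
/-- Let `(U, R, s, t, c)` be a groupoid in algebraic spaces over `B` whose object space is `U = Spec k`,
let `k ⊂ k'` be a field extension and `(U', R', s', t', c')` the restriction along `Spec k' ⟶ Spec
k`. Then `s, t, s', t'`, `Spec k' ⟶ Spec k` and `R' ⟶ R` are surjective, flat and universally open,
and `R' ⟶ R` is moreover affine. (The published statement lists every arrow of the restriction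
diagram; this row omits the six arrows through `R ×_{s,U} U'` and `U' ×_{U,t} R`, each a base change
of `s`, `t` or `Spec k' ⟶ Spec k`.) -/
theorem result (S : Scheme.{u}) (B : AlgSp.Sp S) (hB : AlgSp.IsAlgSpace B)
    (G G' : AlgSp.GroupoidSp B) (hR : AlgSp.IsAlgSpace G.R) (hR' : AlgSp.IsAlgSpace G'.R)
    (k k' : Type u) [Field k] [Field k'] [Algebra k k'] (σ : Spec (CommRingCat.of k) ⟶ S)
    (eU : G.U ≅ ((AlgSp.yon S).obj (Over.mk σ)))
    (eU' : G'.U ≅ ((AlgSp.yon S).obj (Over.mk (Spec.map (CommRingCat.ofHom (algebraMap k k')) ≫ σ))))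
    (φ : AlgSp.GroupoidSp.Hom G' G) (hφ : φ.IsRestriction)
    (hfU : φ.fU = eU'.hom ≫ (AlgSp.yon S).map (Over.homMk (Spec.map (CommRingCat.ofHom (algebraMap k k'))) rfl :
      Over.mk (Spec.map (CommRingCat.ofHom (algebraMap k k')) ≫ σ) ⟶ Over.mk σ) ≫ eU.inv) :
    (∀ f ∈ [G.s, G.t], AlgSp.IsSurjectiveMor f ∧ AlgSp.LocP @Flat f ∧ AlgSp.IsUnivOpenMor f) ∧
      (∀ f ∈ [G'.s, G'.t], AlgSp.IsSurjectiveMor f ∧ AlgSp.LocP @Flat f ∧ AlgSp.IsUnivOpenMor f) ∧
      (AlgSp.IsSurjectiveMor φ.fU ∧ AlgSp.LocP @Flat φ.fU ∧ AlgSp.IsUnivOpenMor φ.fU) ∧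
      (AlgSp.IsSurjectiveMor φ.fR ∧ AlgSp.LocP @Flat φ.fR ∧ AlgSp.IsUnivOpenMor φ.fR ∧ AlgSp.IsAffineMor φ.fR) := by
  have hU : AlgSp.IsAlgSpace G.U := (AlgSp.IsAlgSpace.yon_obj _).of_iso eU.symm
  have hU' : AlgSp.IsAlgSpace G'.U := (AlgSp.IsAlgSpace.yon_obj _).of_iso eU'.symm
  have hQ := K608.Comp.isAlgSpace_pullback G.s φ.fU hR hU' hU
  have hfs : AlgSp.IsSurjectiveMor φ.fU := by
    -- the target has one point, the source is nonempty
    intro x
    obtain ⟨x', rfl⟩ : ∃ x', AlgSp.Points.map eU.inv x' = x :=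
      ⟨AlgSp.Points.map eU.hom x, by rw [← Points.map_comp, eU.hom_inv_id, Points.map_id]⟩
    obtain ⟨p, rfl⟩ := K608.Pts.ofPt_surjective_yon x'
    let q : ↥(Spec (CommRingCat.of k')) := IsLocalRing.closedPoint k'
    refine ⟨AlgSp.Points.map eU'.inv (AlgSp.Points.ofPt (𝟙 _) q), ?_⟩
    rw [← Points.map_comp, hfU, eU'.inv_hom_id_assoc, Points.map_comp]
    congr 1
    rw [Points.map_ofPt, Category.id_comp, ← Category.comp_id ((yon S).map _),
      K608.Pts.ofPt_yon_map_comp]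
    congr 1
    exact Subsingleton.elim (α := ↥(Spec (CommRingCat.of k))) _ _
  have hfU' := to_field hU' eU φ.fU
  have hsurj : ∀ (H : AlgSp.GroupoidSp B), AlgSp.IsSurjectiveMor H.s ∧ AlgSp.IsSurjectiveMor H.t :=
    fun H => ⟨K608.Field.isSurjectiveMor_of_section H.e_s,
      K608.Field.isSurjectiveMor_of_section H.e_t⟩
  have haff : AlgSp.IsAffineMor φ.fU := by
    rw [hfU]
    refine isAffineMor_arrow_iso eU' eU.symm (isAffineMor_yon_map _ ?_)
    change IsAffineHom (Spec.map (CommRingCat.ofHom (algebraMap k k')))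
    infer_instance
  have e : φ.fR = toSrc φ ≫ pullback.fst G.s φ.fU := (toSrc_fst φ).symm
  have sq1 := isPullback_toSrc φ hφ
  have sq2 := IsPullback.of_hasPullback G.s φ.fU
  refine ⟨?_, ?_, ⟨hfs, hfU'⟩, ?_, ?_, ?_, ?_⟩
  · intro f hf
    simp only [List.mem_cons, List.not_mem_nil, or_false] at hf
    rcases hf with rfl | rfl
    · exact ⟨(hsurj G).1, to_field hR eU _⟩
    · exact ⟨(hsurj G).2, to_field hR eU _⟩
  · intro f hf
    simp only [List.mem_cons, List.not_mem_nil, or_false] at hf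
    rcases hf with rfl | rfl
    · exact ⟨(hsurj G').1, to_field hR' eU' _⟩
    · exact ⟨(hsurj G').2, to_field hR' eU' _⟩
  · rw [e]
    exact K608.Field.isSurjectiveMor_comp
      (K608.Field.isSurjectiveMor_of_isPullback sq1.flip hfs)
      (K608.Field.isSurjectiveMor_of_isPullback sq2.flip hfs)
  · rw [e]
    have h1 : AlgSp.LocP @Flat (toSrc φ) :=
      Groth.Agent.S9984.result @Flat (by tauto) (X := ⟨G'.U, hU'⟩) (Y := ⟨G.U, hU⟩) (Y' := ⟨_, hQ⟩)
        (X' := ⟨G'.R, hR'⟩) (ObjectProperty.homMk φ.fU)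
        (ObjectProperty.homMk (pullback.fst G.s φ.fU ≫ G.t)) (ObjectProperty.homMk G'.t)
        (ObjectProperty.homMk (toSrc φ)) sq1.flip hfU'.1
    have h2 : AlgSp.LocP @Flat (pullback.fst G.s φ.fU) :=
      Groth.Agent.S9984.result @Flat (by tauto) (X := ⟨G'.U, hU'⟩) (Y := ⟨G.U, hU⟩) (Y' := ⟨G.R, hR⟩)
        (X' := ⟨_, hQ⟩) (ObjectProperty.homMk φ.fU)
        (ObjectProperty.homMk G.s) (ObjectProperty.homMk (pullback.snd G.s φ.fU))
        (ObjectProperty.homMk (pullback.fst G.s φ.fU)) sq2.flip hfU'.1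
    exact Groth.Agent.S9985.result @Flat (by tauto) (X := ⟨G'.R, hR'⟩) (Y := ⟨_, hQ⟩) (Z := ⟨G.R, hR⟩)
      (ObjectProperty.homMk (toSrc φ)) (ObjectProperty.homMk (pullback.fst G.s φ.fU)) h1 h2
  · rw [e]
    exact K608.Comp.isUnivOpenMor_comp hQ hR
      (K608.Field.isUnivOpenMor_of_isPullback sq1.flip hfU'.2)
      (K608.Field.isUnivOpenMor_of_isPullback sq2.flip hfU'.2)
  · rw [e]
    exact K608.Field.isAffineMor_comp
      (K608.Field.isAffineMor_of_isPullback sq1.flip haff)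
      (K608.Field.isAffineMor_of_isPullback sq2.flip haff)

end Groth.Agent.S10132
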