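import Groth.Statements.S10141
import Groth.Agent.AlgSp.K609.QuotOpen

set_option autoImplicit false
universe u
open CategoryTheory CategoryTheory.Limits AlgebraicGeometry
open AlgSp

namespace Groth.Agent.S10141

/-- Let `(U, R, s, t, c)` be a groupoid scheme over `S` and `g : U' ⟶ U` a morphism such that the
composite `h : U' ×_{g, U, t} R ⟶ R ⟶ U` of the projection with `s` has open image `W ⊂ U` and `h :
U' ×_{g, U, t} R ⟶ W` is a surjection of fppf sheaves. Then for the restriction `R' = R|_{U'}` the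
map of fppf quotient sheaves `U'/R' ⟶ U/R` is representable and an open immersion. -/
theorem result (S : Scheme.{u}) (G : Grpd.GroupoidScheme S)
    (U' : Scheme.{u}) (g : U' ⟶ G.U) (W : G.U.Opens)
    (hW : (W : Set ↥G.U) = Set.range ⇑(pullback.snd g G.t ≫ G.s))
    (hlift : pullback g G.t ⟶ ↑W) (hh : hlift ≫ W.ι = pullback.snd g G.t ≫ G.s)
    (hsurj : Sheaf.IsLocallySurjective ((AlgSp.yon S).map
      (Over.homMk hlift ((Category.assoc _ _ _).symm.trans (congrArg (· ≫ G.pU) hh)) :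
        Over.mk ((pullback.snd g G.t ≫ G.s) ≫ G.pU) ⟶ Over.mk (W.ι ≫ G.pU))))
    (R' : Over S) (s' t' : R' ⟶ Over.mk (g ≫ G.pU)) (r : R' ⟶ Over.mk G.pR)
    (hsq : IsPullback (prod.lift t' s') r
      (prod.map (Over.homMk g rfl : Over.mk (g ≫ G.pU) ⟶ Over.mk G.pU) (Over.homMk g rfl : Over.mk (g ≫ G.pU) ⟶ Over.mk G.pU))
      (prod.lift (Over.homMk G.t G.t_over : Over.mk G.pR ⟶ Over.mk G.pU) (Over.homMk G.s G.s_over : Over.mk G.pR ⟶ Over.mk G.pU)))
    (ψ : QuotSh.quot Scheme.fppfPrecoverage s' t' ⟶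
      QuotSh.quot Scheme.fppfPrecoverage (Over.homMk G.s G.s_over : Over.mk G.pR ⟶ Over.mk G.pU) (Over.homMk G.t G.t_over : Over.mk G.pR ⟶ Over.mk G.pU))
    (hψ : QuotSh.quotπ Scheme.fppfPrecoverage s' t' ≫ ψ =
      QuotSh.repMap Scheme.fppfPrecoverage (Over.homMk g rfl : Over.mk (g ≫ G.pU) ⟶ Over.mk G.pU) ≫ QuotSh.quotπ Scheme.fppfPrecoverage _ _) :
    AlgSp.RepWith @IsOpenImmersion ψ := by
  have hψ' : K609.QuotOpen.qmap s' t' ≫ ψ =
      (yon S).map (Over.homMk g rfl : Over.mk (g ≫ G.pU) ⟶ Over.mk G.pU) ≫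
        K609.QuotOpen.qmap (Over.homMk G.s G.s_over : Over.mk G.pR ⟶ Over.mk G.pU)
          (Over.homMk G.t G.t_over : Over.mk G.pR ⟶ Over.mk G.pU) := by
    unfold K609.QuotOpen.qmap
    rw [Category.assoc, hψ, ← Category.assoc, ← K609.QuotOpen.repIso_naturality, Category.assoc]
  refine K609.QuotOpen.repWith_isOpenImmersion (K609.QuotOpen.equivalence_groupoidScheme G)
    (K609.QuotOpen.isColimit_qmap _ _) (K609.QuotOpen.qmap_condition s' t') hψ' ?_ W ?_ ?_
  · intro T a b ρ h1 h2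
    have e := (prod.lift_map a b _ _).trans ((congrArg₂ prod.lift h1.symm h2.symm).trans (prod.comp_lift ρ _ _).symm)
    have e' := hsq.lift_fst (prod.lift a b) ρ e
    rw [prod.comp_lift] at e'
    refine ⟨hsq.lift (prod.lift a b) ρ e, ?_, ?_⟩
    · have := congrArg (· ≫ prod.fst) e'
      change prod.lift _ _ ≫ prod.fst = prod.lift _ _ ≫ prod.fst at this
      rwa [prod.lift_fst, prod.lift_fst] at this
    · have := congrArg (· ≫ prod.snd) e'
      change prod.lift _ _ ≫ prod.snd = prod.lift _ _ ≫ prod.snd at this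
      rwa [prod.lift_snd, prod.lift_snd] at this
  · intro T x hx
    have hx' : Set.range x.left ⊆ Set.range W.ι := by
      rw [Scheme.Opens.range_ι]
      exact hx
    have key : ∃ (T' : Over S) (c : T' ⟶ T) (w : T'.left ⟶ pullback g G.t), K594.Cover.Cov c ∧
        w ≫ hlift = c.left ≫ IsOpenImmersion.lift W.ι x.left hx' ∧
        w ≫ (pullback.snd g G.t ≫ G.s) ≫ G.pU = T'.hom := by
      let x' : T ⟶ Over.mk (W.ι ≫ G.pU) := Over.homMk (IsOpenImmersion.lift W.ι x.left hx') (by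
        change IsOpenImmersion.lift W.ι x.left hx' ≫ W.ι ≫ G.pU = T.hom
        rw [IsOpenImmersion.lift_fac_assoc]
        exact Over.w x)
      obtain ⟨T', c, ⟨w⟩, hc, hw⟩ := (K594.Cover.isLocallySurjective_iff _).1 hsurj T ⟨x'⟩
      exact ⟨T', c, w.left, hc, congrArg Over.Hom.left (congrArg ULift.down hw), Over.w w⟩
    obtain ⟨T', c, w, hc, hw2, hT2⟩ := key
    have hw3 : w ≫ pullback.snd g G.t ≫ G.s = c.left ≫ x.left := by
      rw [← hh, ← Category.assoc, hw2, Category.assoc, IsOpenImmersion.lift_fac]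
    refine ⟨T', c, Over.homMk (w ≫ pullback.fst g G.t) ?_, Over.homMk (w ≫ pullback.snd g G.t) ?_, hc, ?_, ?_⟩
    · change (w ≫ pullback.fst g G.t) ≫ g ≫ G.pU = T'.hom
      rw [← hT2, Category.assoc, pullback.condition_assoc, G.t_over, Category.assoc, G.s_over]
    · change (w ≫ pullback.snd g G.t) ≫ G.pR = T'.hom
      rw [← hT2, Category.assoc, Category.assoc, G.s_over]
    · ext1
      change (w ≫ pullback.snd g G.t) ≫ G.t = (w ≫ pullback.fst g G.t) ≫ g
      rw [Category.assoc, Category.assoc, pullback.condition]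
    · ext1
      change (w ≫ pullback.snd g G.t) ≫ G.s = c.left ≫ x.left
      rw [Category.assoc, hw3]
  · rintro T a ρ h _ ⟨p, rfl⟩
    have h' : a.left ≫ g = ρ.left ≫ G.t := (congrArg Over.Hom.left h).symm
    rw [hW]
    refine ⟨pullback.lift a.left ρ.left h' p, ?_⟩
    have e : pullback.lift a.left ρ.left h' ≫ pullback.snd g G.t ≫ G.s = ρ.left ≫ G.s := by
      rw [pullback.lift_snd_assoc]
    exact congrArg (fun k => k p) e

end Groth.Agent.S10141
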