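import Groth.Statements.S10147


set_option autoImplicit false
universe u v w
open LinTop

namespace Groth.Agent.S10147

open Filter Topology

/-- Let M be a topological module over a ring R whose additive group is a topological group, and let
(M_i) be a family of submodules of M forming a fundamental system of neighbourhoods of 0. For every
submodule N of M, the closure of N is the intersection over i of the submodules N + M_i. -/
theorem result
    {R : Type u} [Ring R] {M : Type v} [AddCommGroup M] [Module R M] [TopologicalSpace M]
    [IsTopologicalAddGroup M] {ι : Type w} (B : ι → Submodule R M)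
    (hB : (nhds (0 : M)).HasBasis (fun _ => True) (fun i => (B i : Set M)))
    (N : Submodule R M) :
    closure (N : Set M) = ⋂ i, ((N ⊔ B i : Submodule R M) : Set M) := by
  ext x
  simp only [Set.mem_iInter, SetLike.mem_coe]
  constructor
  · intro hx i
    have hn : (fun y => x - y) ⁻¹' (B i : Set M) ∈ 𝓝 x := by
      apply (continuous_const.sub continuous_id).continuousAt.preimage_mem_nhds
      simpa using hB.mem_of_mem (i := i) trivial
    obtain ⟨y, hy, hyN⟩ := mem_closure_iff_nhds.1 hx _ hn
    have : x = y + (x - y) := by abel
    rw [this]
    exact Submodule.add_mem_sup hyN hy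
  · intro h
    rw [mem_closure_iff_nhds]
    intro U hU
    have hU' : (fun y => x - y) ⁻¹' U ∈ 𝓝 (0 : M) := by
      apply (continuous_const.sub continuous_id).continuousAt.preimage_mem_nhds
      simpa using hU
    obtain ⟨i, -, hi⟩ := hB.mem_iff.1 hU'
    obtain ⟨y, hy, z, hz, hyz⟩ := Submodule.mem_sup.1 (h i)
    refine ⟨y, ?_, hy⟩
    have h1 := hi hz
    have e : x - z = y := by rw [← hyz]; abel
    simpa [e] using h1

end Groth.Agent.S10147
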