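import Groth.Statements.S10148
import Groth.Agent.LinTop.K22.Basic
import Mathlib.RingTheory.Henselian
import Mathlib.Topology.Algebra.Polynomial
import Mathlib.Algebra.Ring.GeomSum

set_option autoImplicit false
universe u
open LinTop

namespace Groth.Agent.S10148

open Filter Topology

theorem isUnit_one_add (A : Type u) [CommRing A] [UniformSpace A] [IsUniformAddGroup A]
    [IsTopologicalRing A] [NonarchimedeanAddGroup A] [T2Space A] [CompleteSpace A] (x : A)
    (hx : IsTopologicallyNilpotent (-x)) : IsUnit (1 + x) := by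
  have hx' : Tendsto (fun n => (-x) ^ n) atTop (𝓝 0) := hx
  have hcs : CauchySeq (fun n => ∑ i ∈ Finset.range n, (-x) ^ i) := by
    refine NonarchimedeanAddGroup.cauchySeq_of_tendsto_sub_nhds_zero ?_
    simp only [Finset.sum_range_succ, add_sub_cancel_left]
    exact hx'
  obtain ⟨y, hy⟩ := cauchySeq_tendsto_of_complete hcs
  refine IsUnit.of_mul_eq_one y ?_
  have h1 : Filter.Tendsto (fun n => (1 + x) * ∑ i ∈ Finset.range n, (-x) ^ i) Filter.atTop
      (nhds ((1 + x) * y)) := hy.const_mul _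
  have h2 : (fun n => (1 + x) * ∑ i ∈ Finset.range n, (-x) ^ i) = fun n => 1 - (-x) ^ n := by
    funext n
    rw [← mul_neg_geom_sum (-x) n, sub_neg_eq_add]
  rw [h2] at h1
  have h3 : Filter.Tendsto (fun n => 1 - (-x) ^ n) Filter.atTop (nhds (1 - 0)) :=
    hx'.const_sub 1
  rw [sub_zero] at h3
  exact tendsto_nhds_unique h1 h3

/-- One step of Newton's method. -/
theorem newton (A : Type u) [CommRing A] (I : Ideal A) (f : Polynomial A) (a₀ b : A)
    (hb : b ∈ I) (hunit : ∀ a, a - a₀ ∈ I → IsUnit (f.derivative.eval a)) (n : ℕ) (a : A)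
    (ha : a - a₀ ∈ I) (hf : b ^ (n + 1) ∣ f.eval a) :
    ∃ y : A, b ^ (n + 1) ∣ y ∧ (a + y) - a₀ ∈ I ∧ b ^ (n + 1 + 1) ∣ f.eval (a + y) := by
  obtain ⟨g, hg⟩ := (hunit a ha).exists_right_inv
  have h1 : b ^ (n + 1) ∣ -(f.eval a) * g := Dvd.dvd.mul_right (by rwa [dvd_neg]) g
  refine ⟨-(f.eval a) * g, h1, ?_, ?_⟩
  · have h2 : -(f.eval a) * g ∈ I := by
      obtain ⟨c, hc⟩ := h1
      rw [hc, pow_succ, mul_assoc]
      exact I.mul_mem_left _ (I.mul_mem_right _ hb)
    have h3 : a + -(f.eval a) * g - a₀ = (a - a₀) + -(f.eval a) * g := by ring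
    rw [h3]
    exact I.add_mem ha h2
  · obtain ⟨k, hk⟩ := f.binomExpansion a (-(f.eval a) * g)
    have h4 : f.eval (a + -(f.eval a) * g) = k * (-(f.eval a) * g) ^ 2 := by
      rw [hk]
      have : f.derivative.eval a * (-(f.eval a) * g) =
        -(f.eval a) * (f.derivative.eval a * g) := by ring
      rw [this, hg]
      ring
    rw [h4]
    refine Dvd.dvd.mul_left ?_ k
    have h5 : b ^ (n + 1 + 1) ∣ (b ^ (n + 1)) ^ 2 := by
      rw [← pow_mul]
      exact pow_dvd_pow b (by omega)
    exact h5.trans (pow_dvd_pow_of_dvd h1 2)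

/-- Let A be a weakly admissible topological ring (linearly topologized, Hausdorff and complete, having
a weak ideal of definition) and let I be a weak ideal of definition of A, that is, an open ideal
consisting of topologically nilpotent elements. Then (A, I) is a henselian pair. -/
theorem result
    (A : Type u) [CommRing A] [UniformSpace A] [IsUniformAddGroup A] [IsTopologicalRing A]
    (hA : LinTop.IsWeaklyAdmissible A) (I : Ideal A) (hI : LinTop.IsWeakIdealOfDefinition A I) :
    HenselianRing A I := by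
  obtain ⟨⟨hlin, -⟩, hT2, hcomp⟩ := hA
  have hna : NonarchimedeanAddGroup A := K22.Basic.nonarchimedeanAddGroup
  have key : ∀ x ∈ I, IsUnit (1 + x) := fun x hx =>
    isUnit_one_add A x (hI.2 _ (I.neg_mem hx))
  have hunit_of : ∀ x : A, IsUnit (Ideal.Quotient.mk I x) → IsUnit x := by
    intro x h
    obtain ⟨g, hg⟩ := h.exists_right_inv
    obtain ⟨g, rfl⟩ := Ideal.Quotient.mk_surjective g
    rw [← map_mul, ← map_one (Ideal.Quotient.mk I), Ideal.Quotient.eq] at hg
    have h1 : IsUnit (1 + (x * g - 1)) := key _ hg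
    rw [add_sub_cancel] at h1
    exact isUnit_of_mul_isUnit_left h1
  refine ⟨fun x hx => ?_, fun f _ a₀ hfa hfd => ?_⟩
  · rw [Ideal.mem_jacobson_bot]
    intro y
    rw [add_comm]
    exact key _ (I.mul_mem_right _ hx)
  · set b := f.eval a₀ with hb
    have hunit : ∀ a, a - a₀ ∈ I → IsUnit (f.derivative.eval a) := by
      intro a ha
      apply hunit_of
      have h1 : f.derivative.eval a - f.derivative.eval a₀ ∈ I := by
        obtain ⟨c, hc⟩ := Polynomial.sub_dvd_eval_sub a a₀ f.derivative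
        rw [hc]
        exact I.mul_mem_right _ ha
      have h2 : Ideal.Quotient.mk I (f.derivative.eval a) =
          Ideal.Quotient.mk I (f.derivative.eval a₀) := Ideal.Quotient.eq.2 h1
      rw [h2]
      exact hfd
    have hstep := newton A I f a₀ b hfa hunit
    choose y hy1 hy2 hy3 using hstep
    let s : (n : ℕ) → {a : A // a - a₀ ∈ I ∧ b ^ (n + 1) ∣ f.eval a} := fun n =>
      Nat.rec (motive := fun n => {a : A // a - a₀ ∈ I ∧ b ^ (n + 1) ∣ f.eval a})
        ⟨a₀, by simp, by simp [hb]⟩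
        (fun n a => ⟨a.1 + y n a.1 a.2.1 a.2.2, hy2 n a.1 a.2.1 a.2.2,
          hy3 n a.1 a.2.1 a.2.2⟩) n
    have hs : ∀ n, b ^ (n + 1) ∣ (s (n + 1)).1 - (s n).1 := fun n => by
      change _ ∣ (s n).1 + _ - (s n).1
      rw [add_sub_cancel_left]
      exact hy1 n _ _ _
    have htend : ∀ z : ℕ → A, (∀ n, b ^ (n + 1) ∣ z n) → Tendsto z atTop (𝓝 0) := by
      intro z hz
      rw [tendsto_def]
      intro U hU
      obtain ⟨J, hJ, hJU⟩ := K22.Basic.exists_open_ideal hU
      have hbn : Tendsto (fun n => b ^ n) atTop (𝓝 0) := hI.2 b hfa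
      obtain ⟨n, hn⟩ := (hbn.eventually_mem (K22.Basic.mem_nhds hJ)).exists
      rw [mem_atTop_sets]
      refine ⟨n, fun m hm => hJU ?_⟩
      obtain ⟨c, hc⟩ := hz m
      rw [hc]
      refine J.mul_mem_right _ ?_
      have : b ^ (m + 1) = b ^ (m + 1 - n) * b ^ n := by rw [← pow_add]; congr 1; omega
      rw [this]
      exact J.mul_mem_left _ hn
    have hcs : CauchySeq (fun n => (s n).1) :=
      NonarchimedeanAddGroup.cauchySeq_of_tendsto_sub_nhds_zero (htend _ hs)
    obtain ⟨a, ha⟩ := cauchySeq_tendsto_of_complete hcs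
    refine ⟨a, ?_, ?_⟩
    · have h1 : Tendsto (fun n => f.eval (s n).1) atTop (𝓝 (f.eval a)) :=
        (f.continuous.tendsto a).comp ha
      exact tendsto_nhds_unique h1 (htend _ fun n => (s n).2.2)
    · have h1 : Tendsto (fun n => (s n).1 - a₀) atTop (𝓝 (a - a₀)) := ha.sub_const a₀
      exact (K22.Basic.isClosed_of_isOpen hI.1).mem_of_tendsto h1
        (Eventually.of_forall fun n => (s n).2.1)

end Groth.Agent.S10148
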