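import Groth.Statements.S10149
import Groth.Agent.LinTop.K22.Basic

set_option autoImplicit false
universe u v
open LinTop

namespace Groth.Agent.S10149

open Filter Topology

theorem isClosed_nilrad (B : Type v) [CommRing B] [TopologicalSpace B] [IsTopologicalRing B]
    [IsLinearTopology B B] : IsClosed ((topologicalNilradical B : Ideal B) : Set B) := by
  refine isClosed_of_closure_subset fun x hx => ?_
  change x ∈ (topologicalNilradical B).closure at hx
  rw [K22.Basic.mem_closure_iff] at hx
  change Tendsto (x ^ ·) atTop (𝓝 0)
  rw [tendsto_def]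
  intro U hU
  obtain ⟨J, hJ, hJU⟩ := K22.Basic.exists_open_ideal hU
  obtain ⟨y, hy, z, hz, hyz⟩ := Submodule.mem_sup.1 (hx J hJ)
  have hy' : Tendsto (y ^ ·) atTop (𝓝 0) := hy
  have h1 := tendsto_def.1 hy' _ (K22.Basic.mem_nhds hJ)
  filter_upwards [h1] with n hn
  apply hJU
  rw [← hyz]
  have h2 : (Ideal.Quotient.mk J) ((y + z) ^ n) = 0 := by
    rw [map_pow, map_add, Ideal.Quotient.eq_zero_iff_mem.2 hz, add_zero, ← map_pow]
    exact Ideal.Quotient.eq_zero_iff_mem.2 hn
  exact Ideal.Quotient.eq_zero_iff_mem.1 h2

theorem nilp_of_mem_closure (A : Type u) [CommRing A] [TopologicalSpace A]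
    (B : Type v) [CommRing B] [TopologicalSpace B] [IsTopologicalRing B] [IsLinearTopology B B]
    (φ : A →+* B) (hφ : Continuous φ) (I : Ideal A) (hI : ∀ f ∈ I, IsTopologicallyNilpotent f)
    (g : B) (hg : g ∈ (I.map φ).closure) : IsTopologicallyNilpotent g := by
  have h : (I.map φ).closure ≤ topologicalNilradical B :=
    K22.Basic.closure_le (isClosed_nilrad B) (Ideal.map_le_iff_le_comap.2 fun f hf =>
      (hI f hf).map hφ)
  exact h hg

/-- In a linearly topologized ring B the ideal of topologically nilpotent elements is closed. Moreover,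
if φ : A → B is a continuous homomorphism of linearly topologized rings and I is an ideal of A
consisting of topologically nilpotent elements, then every element of the closure of the ideal φ(I)B
is topologically nilpotent. -/
theorem result
    (A : Type u) [CommRing A] [TopologicalSpace A] [IsTopologicalRing A] [IsLinearTopology A A]
    (B : Type v) [CommRing B] [TopologicalSpace B] [IsTopologicalRing B] [IsLinearTopology B B] :
    IsClosed ((topologicalNilradical B : Ideal B) : Set B) ∧
      ∀ (φ : A →+* B), Continuous φ → ∀ I : Ideal A, (∀ f ∈ I, IsTopologicallyNilpotent f) →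
        ∀ g ∈ (I.map φ).closure, IsTopologicallyNilpotent g := by
  exact ⟨isClosed_nilrad B, fun φ hφ I hI g hg => nilp_of_mem_closure A B φ hφ I hI g hg⟩

end Groth.Agent.S10149
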