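import Groth.Statements.S10151
import Groth.Agent.LinTop.K22.Basic

set_option autoImplicit false
universe u v w
open LinTop

namespace Groth.Agent.S10151

/-- Given linearly topologized rings A, B, C and continuous ring maps ψ : B → C and φ : A → B, tautness
of the composite A → C implies that ψ is taut. -/
theorem result
    (A : Type u) [CommRing A] [TopologicalSpace A] [IsTopologicalRing A] [IsLinearTopology A A]
    (B : Type v) [CommRing B] [TopologicalSpace B] [IsTopologicalRing B] [IsLinearTopology B B]
    (C : Type w) [CommRing C] [TopologicalSpace C] [IsTopologicalRing C] [IsLinearTopology C C]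
    (φ : A →+* B) (ψ : B →+* C) (hφ : Continuous φ) (hψ : Continuous ψ)
    (h : LinTop.IsTaut (ψ.comp φ)) : LinTop.IsTaut ψ := by
  refine ⟨hψ, fun J hJ => ?_, fun U hU => ?_⟩
  · have h1 : IsOpen ((J.comap φ : Ideal A) : Set A) := hJ.preimage hφ
    have h2 := h.2.1 _ h1
    refine K22.Basic.isOpen_of_le (I := ((J.comap φ).map (ψ.comp φ)).closure)
      (J := (J.map ψ).closure) h2 (K22.Basic.closure_mono ?_)
    rw [← Ideal.map_map]
    exact Ideal.map_mono Ideal.map_comap_le
  · obtain ⟨I, hI, hIU⟩ := h.2.2 U hU
    let K : Ideal C := (I.map (ψ.comp φ)).closure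
    have hK : IsOpen (K : Set C) := h.2.1 I hI
    refine ⟨K.comap ψ, hK.preimage hψ, ?_⟩
    refine Set.Subset.trans ?_ hIU
    exact closure_minimal (s := (((K.comap ψ).map ψ : Ideal C) : Set C)) Ideal.map_comap_le
      (K22.Basic.isClosed_closure _)

end Groth.Agent.S10151
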