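import Groth.Statements.S10152
import Groth.Agent.LinTop.K22.Basic

set_option autoImplicit false
universe u v
open LinTop

namespace Groth.Agent.S10152

open Filter Topology

/-- Let φ : A → B be a taut homomorphism of linearly topologized rings. If A has a countable fundamental
system of open ideals, then so does B (equivalently, the neighbourhood filters of 0 are countably
generated). -/
theorem result
    (A : Type u) [CommRing A] [TopologicalSpace A] [IsTopologicalRing A] [IsLinearTopology A A]
    (B : Type v) [CommRing B] [TopologicalSpace B] [IsTopologicalRing B] [IsLinearTopology B B]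
    (φ : A →+* B) (hφ : LinTop.IsTaut φ) (hA : (nhds (0 : A)).IsCountablyGenerated) :
    (nhds (0 : B)).IsCountablyGenerated := by
  obtain ⟨I, hI, hI'⟩ := (IsLinearTopology.hasBasis_open_ideal (R := A)).exists_antitone_subbasis
  have hb : (nhds (0 : B)).HasBasis (fun _ : ℕ => True)
      (fun n => (((I n).map φ).closure : Set B)) := by
    refine ⟨fun s => ⟨fun hs => ?_, fun ⟨n, _, hn⟩ => ?_⟩⟩
    · obtain ⟨J, hJ, hJs⟩ := hφ.2.2 s hs
      obtain ⟨n, hn⟩ := hI'.mem_iff.1 (K22.Basic.mem_nhds hJ)
      exact ⟨n, trivial, (closure_mono (Ideal.map_mono hn)).trans hJs⟩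
    · exact mem_of_superset (K22.Basic.mem_nhds (K22.Basic.taut_isOpen hφ (hI n))) hn
  exact hb.isCountablyGenerated

end Groth.Agent.S10152
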