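import Groth.Statements.S10154
import Groth.Agent.LinTop.K22.Basic

set_option autoImplicit false
universe u v
open LinTop

namespace Groth.Agent.S10154

/-- The closure of the extension of an ideal of definition along a taut map is an ideal of
definition. -/
theorem isIdealOfDefinition_closure_map
    (A : Type u) [CommRing A] [TopologicalSpace A]
    (B : Type v) [CommRing B] [TopologicalSpace B] [IsTopologicalRing B]
    (φ : A →+* B) (hφ : LinTop.IsTaut φ) (I : Ideal A) (hI : LinTop.IsIdealOfDefinition A I) :
    LinTop.IsIdealOfDefinition B (I.map φ).closure := by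
  refine ⟨K22.Basic.taut_isOpen hφ hI.1, fun U hU => ?_⟩
  obtain ⟨J, hJ, hJU⟩ := hφ.2.2 U hU
  obtain ⟨n, hn, hnJ⟩ := hI.2 _ (K22.Basic.mem_nhds hJ)
  refine ⟨n, hn, Set.Subset.trans ?_ hJU⟩
  refine (show (I.map φ).closure ^ n ≤ (J.map φ).closure from
    (K22.Basic.closure_pow_le _ n).trans ?_)
  rw [← Ideal.map_pow]
  exact K22.Basic.closure_mono (Ideal.map_mono hnJ)

/-- Let φ : A → B be a taut homomorphism of linearly topologized rings. If A is pre-admissible, then B
is pre-admissible. -/
theorem result
    (A : Type u) [CommRing A] [TopologicalSpace A] [IsTopologicalRing A] [IsLinearTopology A A]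
    (B : Type v) [CommRing B] [TopologicalSpace B] [IsTopologicalRing B] [IsLinearTopology B B]
    (φ : A →+* B) (hφ : LinTop.IsTaut φ) (hA : LinTop.IsPreadmissible A) :
    LinTop.IsPreadmissible B := by
  obtain ⟨-, I, hI⟩ := hA
  exact ⟨inferInstance, _, isIdealOfDefinition_closure_map A B φ hφ I hI⟩

end Groth.Agent.S10154
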