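import Groth.Statements.S10155
import Groth.Agent.LinTop.K22.Taut
import Groth.Agent.LinTop.K22.Compl
import Mathlib.Topology.Algebra.Group.Quotient

set_option autoImplicit false
universe u v
open LinTop

namespace Groth.Agent.S10155

open Filter Topology UniformSpace

/-- Let φ : A → B be a taut homomorphism of linearly topologized rings with dense image. Assume A is
Hausdorff and complete with a countable fundamental system of open ideals and B is Hausdorff. Then φ
is surjective and open, so that B is the quotient of A by the closed ideal ker φ with the quotient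
topology, and B is complete. -/
theorem result
    (A : Type u) [CommRing A] [UniformSpace A] [IsUniformAddGroup A] [IsTopologicalRing A]
    [IsLinearTopology A A] [T2Space A] [CompleteSpace A] (hA : (nhds (0 : A)).IsCountablyGenerated)
    (B : Type v) [CommRing B] [UniformSpace B] [IsUniformAddGroup B] [IsTopologicalRing B]
    [IsLinearTopology B B] [T2Space B]
    (φ : A →+* B) (hφ : LinTop.IsTaut φ) (hd : DenseRange φ) :
    Function.Surjective φ ∧ IsOpenQuotientMap φ ∧ CompleteSpace B := by
  obtain ⟨V, hV, hV'⟩ := (IsLinearTopology.hasBasis_open_ideal (R := A)).exists_antitone_subbasis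
  have hU : (𝓝 (0 : A)).HasAntitoneBasis (fun n => ((V n).toAddSubgroup : Set A)) := hV'
  have hc : ∀ n, IsOpen (closure ((φ : A →+ B) '' ((V n).toAddSubgroup : Set A))) := by
    intro n
    have := K22.Basic.taut_isOpen hφ (hV n)
    rw [Ideal.coe_closure, K22.Taut.closure_map_eq hd] at this
    exact this
  have hop : IsOpenMap φ :=
    K22.Basic.isOpenMap_of_isOpen_closure (φ : A →+ B) hφ.1 _ hU hc
  have hsurj : Function.Surjective φ :=
    K22.Basic.surjective_of_isOpen_closure (φ : A →+ B) hφ.1 _ hU hc hd
  refine ⟨hsurj, ⟨hsurj, hφ.1, hop⟩, ?_⟩
  -- the composite `A → B → B^` is surjective, hence `B` is complete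
  have hcB : Continuous ((Completion.toCompl : B →+ Completion B).comp (φ : A →+ B)) :=
    (Completion.continuous_coe B).comp hφ.1
  have hs' : Function.Surjective ((Completion.toCompl : B →+ Completion B).comp (φ : A →+ B)) := by
    refine K22.Basic.surjective_of_isOpen_closure _ hcB _ hU (fun n => ?_) ?_
    · have h1 : ((Completion.toCompl : B →+ Completion B).comp (φ : A →+ B)) ''
          ((V n).toAddSubgroup : Set A) =
          ((↑) : B → Completion B) '' (((V n).toAddSubgroup.map (φ : A →+ B) : AddSubgroup B) :
            Set B) := by
        rw [AddSubgroup.coe_map, ← Set.image_comp]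
        rfl
      rw [h1, ← K22.Compl.coe_hat]
      refine K22.Compl.isOpen_hat ?_
      rw [AddSubgroup.coe_map]
      exact hop _ (hV n)
    · exact (Completion.denseRange_coe (α := B)).comp hd (Completion.continuous_coe B)
  have hs'' : Function.Surjective ((↑) : B → Completion B) := fun y => by
    obtain ⟨a, ha⟩ := hs' y
    exact ⟨φ a, ha⟩
  exact ((Completion.isUniformInducing_coe B).completeSpace_congr hs'').2 inferInstance

end Groth.Agent.S10155
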