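import Groth.Statements.S10156
import Groth.Agent.LinTop.K22.Basic

set_option autoImplicit false
universe u v w
open LinTop

namespace Groth.Agent.S10156

/-- Given pre-adic rings A, B, C and continuous ring maps ψ : B → C and φ : A → B, adicness of the
composite A → C implies that ψ is adic. -/
theorem result
    (A : Type u) [CommRing A] [TopologicalSpace A] [IsTopologicalRing A] (hA : LinTop.IsPreadic A)
    (B : Type v) [CommRing B] [TopologicalSpace B] [IsTopologicalRing B] (hB : LinTop.IsPreadic B)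
    (C : Type w) [CommRing C] [TopologicalSpace C] [IsTopologicalRing C] (hC : LinTop.IsPreadic C)
    (φ : A →+* B) (ψ : B →+* C) (hφ : Continuous φ) (hψ : Continuous ψ)
    (h : LinTop.IsAdicHom (ψ.comp φ)) : LinTop.IsAdicHom ψ := by
  obtain ⟨I, hI, hIC⟩ := h
  obtain ⟨K, hK⟩ := hB
  refine ⟨K, K22.Basic.isIdealOfDefinition_of_isAdic hK, ?_⟩
  have hKo : IsOpen (K : Set B) := (K22.Basic.isIdealOfDefinition_of_isAdic hK).1
  have hIC' := isAdic_iff.1 hIC
  -- some power of `I C` is contained in `K C`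
  obtain ⟨m, hm0, hm⟩ := hI.2 _ (K22.Basic.mem_nhds (I := K.comap φ) (hKo.preimage hφ))
  have h1 : (I.map (ψ.comp φ)) ^ m ≤ K.map ψ := by
    rw [← Ideal.map_pow, ← Ideal.map_map]
    exact Ideal.map_mono (Ideal.map_le_iff_le_comap.2 hm)
  -- some power of `K C` is contained in `I C`
  have h2 : IsOpen ((I.map (ψ.comp φ)).comap ψ : Set B) := by
    have := hIC'.1 1
    rw [pow_one] at this
    exact this.preimage hψ
  obtain ⟨n, hn0, hn⟩ := (K22.Basic.isIdealOfDefinition_of_isAdic hK).2 _ (K22.Basic.mem_nhds h2)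
  have h3 : (K.map ψ) ^ n ≤ I.map (ψ.comp φ) := by
    rw [← Ideal.map_pow]
    exact Ideal.map_le_iff_le_comap.2 hn
  rw [isAdic_iff]
  refine ⟨fun k => ?_, fun U hU => ?_⟩
  · refine K22.Basic.isOpen_of_le (hIC'.1 (m * k)) ?_
    rw [pow_mul]
    exact Ideal.pow_right_mono h1 k
  · obtain ⟨k, hk⟩ := hIC'.2 U hU
    refine ⟨n * k, fun x hx => hk ?_⟩
    rw [pow_mul] at hx
    exact Ideal.pow_right_mono h3 k hx

end Groth.Agent.S10156
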