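import Groth.Statements.S10157
import Groth.Agent.LinTop.K22.Basic

set_option autoImplicit false
universe u v
open LinTop

namespace Groth.Agent.S10157

/-- A continuous adic homomorphism φ : A → B between pre-adic topological rings is taut. -/
theorem result
    (A : Type u) [CommRing A] [TopologicalSpace A] [IsTopologicalRing A] (hA : LinTop.IsPreadic A)
    (B : Type v) [CommRing B] [TopologicalSpace B] [IsTopologicalRing B] (hB : LinTop.IsPreadic B)
    (φ : A →+* B) (hφ : Continuous φ) (h : LinTop.IsAdicHom φ) : LinTop.IsTaut φ := by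
  obtain ⟨I, hI, hIB⟩ := h
  have hIB' := isAdic_iff.1 hIB
  refine ⟨hφ, fun J hJ => ?_, fun U hU => ?_⟩
  · obtain ⟨n, -, hn⟩ := hI.2 _ (K22.Basic.mem_nhds hJ)
    refine K22.Basic.isOpen_of_le (J := (J.map φ).closure) (hIB'.1 n) ?_
    refine le_trans ?_ (K22.Basic.le_closure _)
    rw [← Ideal.map_pow]
    exact Ideal.map_mono hn
  · obtain ⟨n, hn⟩ := hIB'.2 U hU
    obtain ⟨K, hK⟩ := hA
    have hIA : IsOpen ((I ^ n : Ideal A) : Set A) := by
      have hK' := isAdic_iff.1 hK
      obtain ⟨m, hm⟩ := hK'.2 _ (K22.Basic.mem_nhds hI.1)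
      refine K22.Basic.isOpen_of_le (hK'.1 (m * n)) ?_
      rw [pow_mul]
      exact Ideal.pow_right_mono hm n
    refine ⟨I ^ n, hIA, ?_⟩
    rw [Ideal.map_pow, (K22.Basic.isClosed_of_isOpen (hIB'.1 n)).closure_eq]
    exact hn

end Groth.Agent.S10157
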