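import Groth.Statements.S10159
import Groth.Agent.S10154

set_option autoImplicit false
universe u
open LinTop

namespace Groth.Agent.S10159

open Filter Topology

theorem isOpen_closure_pow
    (A : Type u) [CommRing A] [TopologicalSpace A] [IsTopologicalRing A] (I : Ideal A)
    (h : ∀ n : ℕ, 0 < n → IsOpen (closure ((I ^ n : Ideal A) : Set A))) (J : Ideal A)
    (hI : ∃ m : ℕ, 0 < m ∧ I ^ m ≤ J) (n : ℕ) (hn : 0 < n) :
    IsOpen (closure ((J ^ n : Ideal A) : Set A)) := by
  obtain ⟨m, hm, hmJ⟩ := hI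
  refine K22.Basic.isOpen_of_le (I := (I ^ (m * n)).closure) (J := (J ^ n).closure)
    (h (m * n) (Nat.mul_pos hm hn)) (K22.Basic.closure_mono ?_)
  rw [pow_mul]
  exact Ideal.pow_right_mono hmJ n

/-- A weakly preadic ring has an ideal of definition the closures of the powers of which are
open. -/
theorem of_isWeaklyPreadic
    (A : Type u) [CommRing A] [TopologicalSpace A] [IsTopologicalRing A]
    (h : LinTop.IsWeaklyPreadic A) :
    ∃ I : Ideal A, LinTop.IsIdealOfDefinition A I ∧
        ∀ n : ℕ, 0 < n → IsOpen (closure ((I ^ n : Ideal A) : Set A)) := by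
  obtain ⟨-, I, h1, h2⟩ := h
  have hopen : IsOpen (I.closure : Set A) := by
    have := h1 1
    rw [pow_one] at this
    exact this
  refine ⟨I.closure, ⟨hopen, fun U hU => ?_⟩, fun n _ => ?_⟩
  · obtain ⟨n, hn⟩ := h2 U hU
    refine ⟨n + 1, Nat.succ_pos n, Set.Subset.trans ?_ hn⟩
    exact (show I.closure ^ (n + 1) ≤ (I ^ n).closure from
      (Ideal.pow_le_pow_right (Nat.le_succ n)).trans (K22.Basic.closure_pow_le I n))
  · exact K22.Basic.isOpen_of_le (I := (I ^ n).closure) (J := (I.closure ^ n).closure) (h1 n)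
      (K22.Basic.closure_mono (Ideal.pow_right_mono (K22.Basic.le_closure I) n))

theorem isWeaklyPreadic_of
    (A : Type u) [CommRing A] [TopologicalSpace A] [IsTopologicalRing A] [IsLinearTopology A A]
    (I : Ideal A) (hI : LinTop.IsIdealOfDefinition A I)
    (h : ∀ n : ℕ, 0 < n → IsOpen (closure ((I ^ n : Ideal A) : Set A))) :
    LinTop.IsWeaklyPreadic A := by
  refine ⟨inferInstance, I, fun n => ?_, fun U hU => ?_⟩
  · rcases Nat.eq_zero_or_pos n with rfl | hn
    · rw [pow_zero, Ideal.one_eq_top]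
      simp
    · exact h n hn
  · obtain ⟨J, hJ, hJU⟩ := K22.Basic.exists_open_ideal hU
    obtain ⟨n, hn0, hn⟩ := hI.2 _ (K22.Basic.mem_nhds hJ)
    exact ⟨n, (closure_minimal hn (K22.Basic.isClosed_of_isOpen hJ)).trans hJU⟩

theorem isTaut_of_isAdic
    (A' : Type u) [CommRing A'] [TopologicalSpace A'] [IsTopologicalRing A']
    (A : Type u) [CommRing A] [TopologicalSpace A] [IsTopologicalRing A]
    (I : Ideal A') (hI : IsAdic I) (φ : A' →+* A)
    (h1 : ∀ n : ℕ, IsOpen (closure (((I.map φ) ^ n : Ideal A) : Set A)))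
    (h2 : ∀ U ∈ nhds (0 : A), ∃ n : ℕ, closure (((I.map φ) ^ n : Ideal A) : Set A) ⊆ U) :
    LinTop.IsTaut φ := by
  have hI' := isAdic_iff.1 hI
  refine ⟨?_, fun J hJ => ?_, fun U hU => ?_⟩
  · refine continuous_of_continuousAt_zero φ.toAddMonoidHom ?_
    change Tendsto φ (𝓝 0) (𝓝 (φ 0))
    rw [map_zero, tendsto_def]
    intro U hU
    obtain ⟨n, hn⟩ := h2 U hU
    refine mem_of_superset (K22.Basic.mem_nhds (hI'.1 n)) fun x hx => hn (subset_closure ?_)
    rw [← Ideal.map_pow]
    exact Ideal.mem_map_of_mem φ hx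
  · obtain ⟨n, hn⟩ := hI'.2 _ (K22.Basic.mem_nhds hJ)
    refine K22.Basic.isOpen_of_le (I := ((I.map φ) ^ n).closure) (J := (J.map φ).closure) (h1 n)
      (K22.Basic.closure_mono ?_)
    rw [← Ideal.map_pow]
    exact Ideal.map_mono hn
  · obtain ⟨n, hn⟩ := h2 U hU
    refine ⟨I ^ n, hI'.1 n, ?_⟩
    rw [Ideal.map_pow]
    exact hn

theorem one_two (A : Type u) [CommRing A] [τ : TopologicalSpace A] [IsTopologicalRing A]
    (h : LinTop.IsWeaklyPreadic A) :
      ∃ (A' : Type u) (_ : CommRing A') (_ : TopologicalSpace A') (_ : IsTopologicalRing A')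
        (φ : A' →+* A), LinTop.IsPreadic A' ∧ LinTop.IsTaut φ := by
  obtain ⟨-, I, h1, h2⟩ := h
  have hr : @IsTopologicalRing A I.adicTopology _ :=
    I.adic_basis.toRing_subgroups_basis.toRingFilterBasis.isTopologicalRing
  refine ⟨A, inferInstance, I.adicTopology, hr, RingHom.id A, ⟨I, rfl⟩, ?_⟩
  refine @isTaut_of_isAdic A _ I.adicTopology hr A _ τ _ I rfl (RingHom.id A) ?_ ?_
  · rw [Ideal.map_id]; exact h1
  · rw [Ideal.map_id]; exact h2

/-- For a ring A carrying a linear topology, the following four conditions are equivalent: (1) A is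
weakly pre-adic; (2) there exist a pre-adic topological ring A' and a taut continuous ring
homomorphism A' → A (A' is taken in the universe of A, which suffices since A with an adic topology
serves); (3) A has an ideal of definition, and for at least one ideal of definition I every closure
cl(I^n) with n ≥ 1 is open; (4) A has an ideal of definition, and for each of its ideals of
definition I every closure cl(I^n) with n ≥ 1 is open. -/
theorem result
    (A : Type u) [CommRing A] [TopologicalSpace A] [IsTopologicalRing A] [IsLinearTopology A A] :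
    List.TFAE [LinTop.IsWeaklyPreadic A,
      ∃ (A' : Type u) (_ : CommRing A') (_ : TopologicalSpace A') (_ : IsTopologicalRing A')
        (φ : A' →+* A), LinTop.IsPreadic A' ∧ LinTop.IsTaut φ,
      LinTop.IsPreadmissible A ∧ ∃ I : Ideal A, LinTop.IsIdealOfDefinition A I ∧
        ∀ n : ℕ, 0 < n → IsOpen (closure ((I ^ n : Ideal A) : Set A)),
      LinTop.IsPreadmissible A ∧ ∀ I : Ideal A, LinTop.IsIdealOfDefinition A I →
        ∀ n : ℕ, 0 < n → IsOpen (closure ((I ^ n : Ideal A) : Set A))] := by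
  tfae_have 1 → 2 := one_two A
  tfae_have 2 → 3 := by
    rintro ⟨A', i1, i2, i3, φ, ⟨I, hI⟩, hφ⟩
    have hI1 := K22.Basic.isIdealOfDefinition_of_isAdic hI
    have hI2 := Groth.Agent.S10154.isIdealOfDefinition_closure_map A' A φ hφ I hI1
    refine ⟨⟨inferInstance, _, hI2⟩, _, hI2, fun n hn => ?_⟩
    have h1 := K22.Basic.taut_isOpen hφ ((isAdic_iff.1 hI).1 n)
    refine K22.Basic.isOpen_of_le (J := ((I.map φ).closure ^ n).closure) h1
      (K22.Basic.closure_mono ?_)
    rw [Ideal.map_pow]
    exact Ideal.pow_right_mono (K22.Basic.le_closure _) n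
  tfae_have 3 → 4 := by
    rintro ⟨h1, I, hI, h2⟩
    refine ⟨h1, fun J hJ n hn => isOpen_closure_pow A I h2 J
      (hI.2 _ (K22.Basic.mem_nhds hJ.1)) n hn⟩
  tfae_have 4 → 1 := by
    rintro ⟨⟨h1, I, hI⟩, h2⟩
    exact isWeaklyPreadic_of A I hI (h2 I hI)
  tfae_finish

end Groth.Agent.S10159
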