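import Groth.Statements.S10160
import Groth.Agent.S10159

set_option autoImplicit false
universe u
open LinTop

namespace Groth.Agent.S10160

open Filter Topology

/-- A weakly adic topological ring is admissible and has a countable fundamental system of open ideals. -/
theorem result
    (A : Type u) [CommRing A] [UniformSpace A] [IsUniformAddGroup A] [IsTopologicalRing A] (hA : LinTop.IsWeaklyAdic A) :
    LinTop.IsAdmissible A ∧ (nhds (0 : A)).IsCountablyGenerated := by
  obtain ⟨hw, hT2, hc⟩ := hA
  have : IsLinearTopology A A := hw.1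
  obtain ⟨I, hI, -⟩ := Groth.Agent.S10159.of_isWeaklyPreadic A hw
  refine ⟨⟨⟨this, I, hI⟩, hT2, hc⟩, ?_⟩
  obtain ⟨-, I, h1, h2⟩ := hw
  have hb : (nhds (0 : A)).HasBasis (fun _ : ℕ => True)
      (fun n => closure ((I ^ n : Ideal A) : Set A)) := by
    refine ⟨fun s => ⟨fun hs => ?_, fun ⟨n, _, hn⟩ => ?_⟩⟩
    · obtain ⟨n, hn⟩ := h2 s hs
      exact ⟨n, trivial, hn⟩
    · exact mem_of_superset ((h1 n).mem_nhds (subset_closure (I ^ n).zero_mem)) hn
  exact hb.isCountablyGenerated

end Groth.Agent.S10160
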