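import Groth.Statements.S10165
import Groth.Agent.LinTop.K22.Basic

set_option autoImplicit false
universe u v
open LinTop

namespace Groth.Agent.S10165

theorem aux
    (A : Type u) [CommRing A] [TopologicalSpace A] [IsTopologicalRing A]
    (B : Type v) [CommRing B] [TopologicalSpace B] [IsTopologicalRing B] [IsLinearTopology B B]
    (φ : A →+* B) (hφ : LinTop.IsTaut φ) (hA : LinTop.IsWeaklyPreadic A) :
    LinTop.IsWeaklyPreadic B := by
  obtain ⟨-, I, h1, h2⟩ := hA
  refine ⟨inferInstance, I.map φ, fun n => ?_, fun U hU => ?_⟩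
  · have h3 : IsOpen ((((I ^ n).closure).map φ).closure : Set B) := K22.Basic.taut_isOpen hφ (h1 n)
    refine K22.Basic.isOpen_of_le (J := ((I.map φ) ^ n).closure) h3
      (K22.Basic.closure_le (K22.Basic.isClosed_closure _) ?_)
    rw [← Ideal.map_pow]
    exact K22.Basic.map_closure_le hφ.1 _
  · obtain ⟨J, hJ, hJU⟩ := hφ.2.2 U hU
    obtain ⟨n, hn⟩ := h2 _ (K22.Basic.mem_nhds hJ)
    refine ⟨n, Set.Subset.trans ?_ hJU⟩
    rw [← Ideal.map_pow]
    exact closure_mono (Ideal.map_mono (subset_closure.trans hn))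

/-- Let φ : A → B be a taut homomorphism of linearly topologized rings. If A is weakly pre-adic, then B
is weakly pre-adic. -/
theorem result
    (A : Type u) [CommRing A] [TopologicalSpace A] [IsTopologicalRing A] [IsLinearTopology A A]
    (B : Type v) [CommRing B] [TopologicalSpace B] [IsTopologicalRing B] [IsLinearTopology B B]
    (φ : A →+* B) (hφ : LinTop.IsTaut φ) (hA : LinTop.IsWeaklyPreadic A) :
    LinTop.IsWeaklyPreadic B := by
  exact aux A B φ hφ hA

end Groth.Agent.S10165
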