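import Groth.Statements.S10166
import Groth.Agent.LinTop.K22.Taut

set_option autoImplicit false
universe u v
open LinTop

namespace Groth.Agent.S10166

open Filter Topology

/-- Let φ : A → B be a taut homomorphism of linearly topologized rings such that for every open ideal I
of A, with J the closure of φ(I)B, the induced map A/I → B/J is faithfully flat. If B has a
countable fundamental system of open ideals, then so does A. -/
theorem result
    (A : Type u) [CommRing A] [TopologicalSpace A] [IsTopologicalRing A] [IsLinearTopology A A]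
    (B : Type v) [CommRing B] [TopologicalSpace B] [IsTopologicalRing B] [IsLinearTopology B B]
    (φ : A →+* B) (hφ : LinTop.IsTautFFlat φ) (hB : (nhds (0 : B)).IsCountablyGenerated) :
    (nhds (0 : A)).IsCountablyGenerated := by
  obtain ⟨V, hV, hV'⟩ := (IsLinearTopology.hasBasis_open_ideal (R := B)).exists_antitone_subbasis
  choose I hI hI' using fun n => K22.Basic.taut_exists hφ.1 (hV n)
  have hb : (nhds (0 : A)).HasBasis (fun _ : ℕ => True) (fun n => (I n : Set A)) := by
    refine ⟨fun s => ⟨fun hs => ?_, fun ⟨n, _, hn⟩ => ?_⟩⟩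
    · obtain ⟨J, hJ, hJs⟩ := K22.Basic.exists_open_ideal hs
      obtain ⟨n, hn⟩ := hV'.mem_iff.1 (K22.Basic.mem_nhds (K22.Basic.taut_isOpen hφ.1 hJ))
      refine ⟨n, trivial, Set.Subset.trans ?_ hJs⟩
      exact K22.Taut.le_of_map_le hφ hJ ((K22.Basic.le_closure _).trans ((hI' n).trans hn))
    · exact mem_of_superset (K22.Basic.mem_nhds (hI n)) hn
  exact hb.isCountablyGenerated

end Groth.Agent.S10166
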