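import Groth.Statements.S10167
import Groth.Agent.LinTop.K22.Taut

set_option autoImplicit false
universe u v
open LinTop

namespace Groth.Agent.S10167

open Filter Topology

/-- Let φ : A → B be a taut homomorphism of linearly topologized rings such that for every open ideal I
of A the induced ring map A/I → B/J, where J denotes the closure of φ(I)B, is faithfully flat. If B
has a weak ideal of definition (B is weakly pre-admissible), then so does A. -/
theorem result
    (A : Type u) [CommRing A] [TopologicalSpace A] [IsTopologicalRing A] [IsLinearTopology A A]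
    (B : Type v) [CommRing B] [TopologicalSpace B] [IsTopologicalRing B] [IsLinearTopology B B]
    (φ : A →+* B) (hφ : LinTop.IsTautFFlat φ) (hB : LinTop.IsWeaklyPreadmissible B) :
    LinTop.IsWeaklyPreadmissible A := by
  obtain ⟨-, J, hJ⟩ := hB
  obtain ⟨I, hI, hIJ⟩ := K22.Basic.taut_exists hφ.1 hJ.1
  refine ⟨inferInstance, I, hI, fun f hf => ?_⟩
  change Tendsto (f ^ ·) atTop (𝓝 0)
  rw [tendsto_def]
  intro U hU
  obtain ⟨K, hK, hKU⟩ := K22.Basic.exists_open_ideal hU
  have h1 : IsTopologicallyNilpotent (φ f) :=
    hJ.2 _ (hIJ (K22.Basic.le_closure _ (Ideal.mem_map_of_mem φ hf)))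
  have h2 : Tendsto ((φ f) ^ ·) atTop (𝓝 0) := h1
  filter_upwards [tendsto_def.1 h2 _ (K22.Basic.mem_nhds (K22.Basic.taut_isOpen hφ.1 hK))] with n hn
  apply hKU
  have h3 : f ^ n ∈ (K.map φ).closure.comap φ := by
    rw [Ideal.mem_comap, map_pow]
    exact hn
  rw [K22.Taut.comap_closure_map hφ hK] at h3
  exact h3

end Groth.Agent.S10167
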