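import Groth.Statements.S10168
import Groth.Agent.LinTop.K22.Taut

set_option autoImplicit false
universe u v
open LinTop

namespace Groth.Agent.S10168

/-- An open ideal the closure of the extension of which is contained in an ideal of definition
is an ideal of definition. -/
theorem isIdealOfDefinition_of_le
    (A : Type u) [CommRing A] [TopologicalSpace A] [IsTopologicalRing A] [IsLinearTopology A A]
    (B : Type v) [CommRing B] [TopologicalSpace B] [IsTopologicalRing B]
    (φ : A →+* B) (hφ : LinTop.IsTautFFlat φ) (I : Ideal A) (hI : IsOpen (I : Set A))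
    (J : Ideal B) (hJ : LinTop.IsIdealOfDefinition B J) (h : (I.map φ).closure ≤ J) :
    LinTop.IsIdealOfDefinition A I := by
  refine ⟨hI, fun U hU => ?_⟩
  obtain ⟨K, hK, hKU⟩ := K22.Basic.exists_open_ideal hU
  obtain ⟨n, hn, hn'⟩ := hJ.2 _ (K22.Basic.mem_nhds (K22.Basic.taut_isOpen hφ.1 hK))
  refine ⟨n, hn, Set.Subset.trans ?_ hKU⟩
  refine K22.Taut.le_of_map_le hφ hK ?_
  rw [Ideal.map_pow]
  exact (Ideal.pow_right_mono ((K22.Basic.le_closure _).trans h) n).trans hn'

/-- Let φ : A → B be a taut homomorphism of linearly topologized rings such that for every open ideal I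
of A, with J the closure of φ(I)B, the induced map A/I → B/J is faithfully flat. If B is
pre-admissible, then A is pre-admissible. -/
theorem result
    (A : Type u) [CommRing A] [TopologicalSpace A] [IsTopologicalRing A] [IsLinearTopology A A]
    (B : Type v) [CommRing B] [TopologicalSpace B] [IsTopologicalRing B] [IsLinearTopology B B]
    (φ : A →+* B) (hφ : LinTop.IsTautFFlat φ) (hB : LinTop.IsPreadmissible B) :
    LinTop.IsPreadmissible A := by
  obtain ⟨-, J, hJ⟩ := hB
  obtain ⟨I, hI, hIJ⟩ := K22.Basic.taut_exists hφ.1 hJ.1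
  exact ⟨inferInstance, I, isIdealOfDefinition_of_le A B φ hφ I hI J hJ hIJ⟩

end Groth.Agent.S10168
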