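import Groth.Statements.S10169
import Groth.Agent.S10168
import Groth.Agent.S10154
import Groth.Agent.S10159

set_option autoImplicit false
universe u v
open LinTop

namespace Groth.Agent.S10169

/-- Let φ : A → B be a taut homomorphism of linearly topologized rings such that for every open ideal I
of A the induced ring map A/I → B/J, where J denotes the closure of φ(I)B, is faithfully flat. Weak
pre-adicness then descends: when B is weakly pre-adic, A is as well. -/
theorem result
    (A : Type u) [CommRing A] [TopologicalSpace A] [IsTopologicalRing A] [IsLinearTopology A A]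
    (B : Type v) [CommRing B] [TopologicalSpace B] [IsTopologicalRing B] [IsLinearTopology B B]
    (φ : A →+* B) (hφ : LinTop.IsTautFFlat φ) (hB : LinTop.IsWeaklyPreadic B) :
    LinTop.IsWeaklyPreadic A := by
  obtain ⟨⟨-, J, hJ⟩, h4⟩ := ((Groth.Agent.S10159.result B).out 0 3).1 hB
  obtain ⟨I, hI, hIJ⟩ := K22.Basic.taut_exists hφ.1 hJ.1
  have hId := Groth.Agent.S10168.isIdealOfDefinition_of_le A B φ hφ I hI J hJ hIJ
  have hJd := Groth.Agent.S10154.isIdealOfDefinition_closure_map A B φ hφ.1 I hId
  refine Groth.Agent.S10159.isWeaklyPreadic_of A I hId fun n hn => ?_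
  refine K22.Taut.isOpen_closure_of (I := I ^ n) hφ ?_
  refine K22.Basic.isOpen_of_le (I := ((I.map φ).closure ^ n).closure) (h4 _ hJd n hn) ?_
  refine K22.Basic.closure_le (K22.Basic.isClosed_closure _) ?_
  rw [Ideal.map_pow]
  exact K22.Basic.closure_pow_le _ n

end Groth.Agent.S10169
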