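import Groth.Statements.S10170
import Groth.Agent.LinTop.K22.Taut
import Groth.Agent.S10163
import Groth.Agent.S2275
import Groth.Agent.S2276
import Mathlib.RingTheory.Nakayama

set_option autoImplicit false
universe u v
open LinTop

namespace Groth.Agent.S10170

open Filter Topology

/-- Let φ : A → B be a taut homomorphism of linearly topologized rings such that for every open ideal I
of A the induced ring map A/I → B/J, where J denotes the closure of φ(I)B, is faithfully flat.
Suppose A is Hausdorff and complete, and B is adic with some finitely generated ideal of definition.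
Then A is adic, and some finitely generated ideal of A is an ideal of definition. -/
theorem result
    (A : Type u) [CommRing A] [UniformSpace A] [IsUniformAddGroup A] [IsTopologicalRing A] [IsLinearTopology A A] [T2Space A] [CompleteSpace A]
    (B : Type v) [CommRing B] [UniformSpace B] [IsUniformAddGroup B] [IsTopologicalRing B] (hB : LinTop.IsAdicRing B)
    (hJ : ∃ J : Ideal B, LinTop.IsIdealOfDefinition B J ∧ J.FG)
    (φ : A →+* B) (hφ : LinTop.IsTautFFlat φ) :
    LinTop.IsAdicRing A ∧ ∃ I : Ideal A, LinTop.IsIdealOfDefinition A I ∧ I.FG := by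
  obtain ⟨J₀, hJ₀, hJfg⟩ := hJ
  have hJad : IsAdic J₀ := Groth.Agent.S2275.result B hB.1 J₀ hJ₀
  have hlinB : IsLinearTopology B B := K22.Basic.isLinearTopology_of_isAdic hJad
  have hJad' := isAdic_iff.1 hJad
  have hjac : J₀ ≤ (⊥ : Ideal B).jacobson :=
    (Groth.Agent.S2276.result B ⟨⟨hlinB, J₀, hJ₀⟩, hB.2.1, hB.2.2⟩ J₀ hJ₀).2
  obtain ⟨I, hI, hIJ⟩ := K22.Basic.taut_exists hφ.1 hJ₀.1
  obtain ⟨m, hm0, hm⟩ := hJ₀.2 _ (K22.Basic.mem_nhds (K22.Basic.taut_isOpen hφ.1 hI))
  have h1 : J₀ ^ m ≤ I.map φ ⊔ J₀ ^ (m + 1) :=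
    (show J₀ ^ m ≤ (I.map φ).closure from hm).trans (K22.Basic.closure_le_sup (hJad'.1 (m + 1)))
  obtain ⟨I', hI'I, hI'fg, h2⟩ := K22.Taut.exists_fg_of_le φ I _ _ (hJfg.pow (n := m)) h1
  have h3 : J₀ ^ m ≤ I'.map φ := by
    refine Submodule.le_of_le_smul_of_le_jacobson_bot (hJfg.pow (n := m)) hjac ?_
    rw [smul_eq_mul, ← pow_succ']
    exact h2
  have hI'J : I'.map φ ≤ J₀ := (Ideal.map_mono hI'I).trans ((K22.Basic.le_closure _).trans hIJ)
  have h4 : ∀ n : ℕ, IsOpen ((I' ^ n).closure : Set A) := by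
    intro n
    refine K22.Taut.isOpen_closure_of hφ ?_
    refine K22.Basic.isOpen_of_le (hJad'.1 (m * n)) (le_trans ?_ (K22.Basic.le_closure _))
    rw [pow_mul, Ideal.map_pow]
    exact Ideal.pow_right_mono h3 n
  have hfin : IsAdic I' := by
    refine Groth.Agent.S10163.result A I' hI'fg h4 (fun U hU => ?_)
    obtain ⟨K, hK, hKU⟩ := K22.Basic.exists_open_ideal hU
    obtain ⟨l, hl0, hl⟩ := hJ₀.2 _ (K22.Basic.mem_nhds (K22.Basic.taut_isOpen hφ.1 hK))
    refine ⟨l, (closure_minimal ?_ (K22.Basic.isClosed_of_isOpen hK)).trans hKU⟩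
    refine K22.Taut.le_of_map_le hφ hK ?_
    rw [Ideal.map_pow]
    exact (Ideal.pow_right_mono hI'J l).trans hl
  exact ⟨⟨⟨I', hfin⟩, inferInstance, inferInstance⟩, I',
    K22.Basic.isIdealOfDefinition_of_isAdic hfin, hI'fg⟩

end Groth.Agent.S10170
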