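import Groth.Statements.S10171
import Groth.Agent.LinTop.K22.Compl

set_option autoImplicit false
universe u v
open LinTop

namespace Groth.Agent.S10171

theorem nonarch (R : Type u) [Ring R] (M : Type v) [AddCommGroup M] [Module R M]
    [TopologicalSpace M] [IsTopologicalAddGroup M] [IsLinearTopology R M] :
    NonarchimedeanAddGroup M := by
  refine ⟨fun U hU => ?_⟩
  obtain ⟨J, hJ, hJU⟩ := (IsLinearTopology.hasBasis_open_submodule R (M := M)).mem_iff.1 hU
  exact ⟨⟨J.toAddSubgroup, hJ⟩, hJU⟩

/-- Let M be a linearly topologized module over a ring R and N a submodule. Write M^ for the separated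
completion of M and (M/N)^ for that of M/N (quotient topology, additive uniform structure). Then the
kernel of the induced map M^ → (M/N)^ is the closure of the image of N in M^; that closure is the
completion of N, so this is the exactness of 0 → N^ → M^ → (M/N)^ at M^. -/
theorem result
    {R : Type u} [Ring R] {M : Type v} [AddCommGroup M] [Module R M] [UniformSpace M]
    [IsUniformAddGroup M] [IsLinearTopology R M] (N : Submodule R M) :
    (@UniformSpace.Completion.map M _ (M ⧸ N.toAddSubgroup)
        (IsTopologicalAddGroup.rightUniformSpace (M ⧸ N.toAddSubgroup))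
        (QuotientAddGroup.mk' N.toAddSubgroup)) ⁻¹' {0} =
      closure (Set.range (fun n : N => ((n : M) : UniformSpace.Completion M))) := by
  let _ : UniformSpace (M ⧸ N.toAddSubgroup) :=
    IsTopologicalAddGroup.rightUniformSpace (M ⧸ N.toAddSubgroup)
  have : IsUniformAddGroup (M ⧸ N.toAddSubgroup) := isUniformAddGroup_of_addCommGroup
  have := nonarch R M
  have h := K22.Compl.preimage_zero (QuotientAddGroup.mk' N.toAddSubgroup)
    QuotientAddGroup.continuous_mk QuotientAddGroup.isOpenMap_coe
  rw [QuotientAddGroup.ker_mk'] at h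
  refine h.trans (congrArg _ ?_)
  ext x
  constructor
  · rintro ⟨m, hm, rfl⟩
    exact ⟨⟨m, hm⟩, rfl⟩
  · rintro ⟨n, rfl⟩
    exact ⟨n.1, n.2, rfl⟩

end Groth.Agent.S10171
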