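import Groth.Statements.S10172
import Groth.Agent.LinTop.K22.Compl

set_option autoImplicit false
universe u v
open LinTop

namespace Groth.Agent.S10172

theorem nonarch (R : Type u) [Ring R] (M : Type v) [AddCommGroup M] [Module R M]
    [TopologicalSpace M] [IsTopologicalAddGroup M] [IsLinearTopology R M] :
    NonarchimedeanAddGroup M := by
  refine ⟨fun U hU => ?_⟩
  obtain ⟨J, hJ, hJU⟩ := (IsLinearTopology.hasBasis_open_submodule R (M := M)).mem_iff.1 hU
  exact ⟨⟨J.toAddSubgroup, hJ⟩, hJU⟩

/-- Let M be a linearly topologized module over a ring R having a countable fundamental system of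
neighbourhoods of 0, and N a submodule. With M^ and (M/N)^ the separated completions of M and of M/N
(quotient topology, additive uniform structure), the induced map M^ → (M/N)^ is surjective and open
(so, its kernel being the completion of N, the sequence 0 → N^ → M^ → (M/N)^ → 0 is exact). -/
theorem result
    {R : Type u} [Ring R] {M : Type v} [AddCommGroup M] [Module R M] [UniformSpace M]
    [IsUniformAddGroup M] [IsLinearTopology R M] (hc : (nhds (0 : M)).IsCountablyGenerated)
    (N : Submodule R M) :
    Function.Surjective (@UniformSpace.Completion.map M _ (M ⧸ N.toAddSubgroup)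
        (IsTopologicalAddGroup.rightUniformSpace (M ⧸ N.toAddSubgroup))
        (QuotientAddGroup.mk' N.toAddSubgroup)) ∧
      IsOpenMap (@UniformSpace.Completion.map M _ (M ⧸ N.toAddSubgroup)
        (IsTopologicalAddGroup.rightUniformSpace (M ⧸ N.toAddSubgroup))
        (QuotientAddGroup.mk' N.toAddSubgroup)) := by
  let _ : UniformSpace (M ⧸ N.toAddSubgroup) :=
    IsTopologicalAddGroup.rightUniformSpace (M ⧸ N.toAddSubgroup)
  have : IsUniformAddGroup (M ⧸ N.toAddSubgroup) := isUniformAddGroup_of_addCommGroup
  have := nonarch R M
  exact K22.Compl.surjective_and_isOpenMap (QuotientAddGroup.mk' N.toAddSubgroup)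
    QuotientAddGroup.continuous_mk hc QuotientAddGroup.isOpenMap_coe
    (QuotientAddGroup.mk'_surjective _)

end Groth.Agent.S10172
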