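import Groth.Statements.S10173
import Groth.Agent.LinTop.K22.Compl
import Groth.Agent.LinTop.K22.FG

set_option autoImplicit false
universe u v
open LinTop

namespace Groth.Agent.S10173

open Filter Topology UniformSpace

theorem coe_mem_smul {R : Type u} [CommRing R] {M : Type v} [AddCommGroup M] [Module R M]
    [UniformSpace M] [IsUniformAddGroup M] [UniformContinuousConstSMul R M] (J : Ideal R)
    (S : Submodule R M) (T : Submodule R (Completion M)) (h : ∀ s ∈ S, (s : Completion M) ∈ T)
    (m : M) (hm : m ∈ J • S) : (m : Completion M) ∈ J • T := by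
  refine Submodule.smul_induction_on (p := fun m : M => (m : Completion M) ∈ J • T) hm ?_ ?_
  · intro r hr y hy
    rw [Completion.coe_smul]
    exact Submodule.smul_mem_smul hr (h y hy)
  · intro y z hy hz
    rw [Completion.coe_add]
    exact Submodule.add_mem _ hy hz

/-- Let R be a commutative ring, I a finitely generated ideal and M a topological R-module (additive
uniform structure, each scalar acting uniformly continuously) having an open submodule M' whose
topology is the I-adic one, i.e. the I^n M' are open in M and form a fundamental system of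
neighbourhoods of 0. Then the separated completion M^ has an open submodule whose topology is I-adic
in the same sense, and for every n ≥ 1 the map M → M^/I^n M^ is surjective with kernel I^n M,
identifying M^/I^n M^ with M/I^n M. -/
theorem result
    {R : Type u} [CommRing R] (I : Ideal R) (hI : I.FG)
    {M : Type v} [AddCommGroup M] [Module R M] [UniformSpace M] [IsUniformAddGroup M]
    [UniformContinuousConstSMul R M]
    (M' : Submodule R M) (hopen : ∀ n : ℕ, IsOpen ((I ^ n • M' : Submodule R M) : Set M))
    (hbasis : ∀ U ∈ nhds (0 : M), ∃ n : ℕ, ((I ^ n • M' : Submodule R M) : Set M) ⊆ U) :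
    (∃ M'' : Submodule R (UniformSpace.Completion M),
        (∀ n : ℕ, IsOpen ((I ^ n • M'' : Submodule R (UniformSpace.Completion M)) :
          Set (UniformSpace.Completion M))) ∧
        ∀ U ∈ nhds (0 : UniformSpace.Completion M), ∃ n : ℕ,
          ((I ^ n • M'' : Submodule R (UniformSpace.Completion M)) :
            Set (UniformSpace.Completion M)) ⊆ U) ∧
      ∀ n : ℕ, 0 < n →
        Function.Surjective ((QuotientAddGroup.mk' (I ^ n • ⊤ : Submodule R (UniformSpace.Completion M)).toAddSubgroup).comp
          (UniformSpace.Completion.toCompl : M →+ UniformSpace.Completion M)) ∧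
        ((QuotientAddGroup.mk' (I ^ n • ⊤ : Submodule R (UniformSpace.Completion M)).toAddSubgroup).comp
          (UniformSpace.Completion.toCompl : M →+ UniformSpace.Completion M)).ker = (I ^ n • ⊤ : Submodule R M).toAddSubgroup := by
  have hna : NonarchimedeanAddGroup M := by
    refine ⟨fun U hU => ?_⟩
    obtain ⟨n, hn⟩ := hbasis U hU
    exact ⟨⟨(I ^ n • M' : Submodule R M).toAddSubgroup, hopen n⟩, hn⟩
  let N : ℕ → AddSubgroup M := fun n => (I ^ n • M' : Submodule R M).toAddSubgroup
  -- the closure of `M'`
  let P : Submodule R (Completion M) :=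
    { K22.Compl.hat M'.toAddSubgroup with
      smul_mem' := fun r x hx => by
        have hx' : x ∈ (K22.Compl.hat M'.toAddSubgroup : Set (Completion M)) := hx
        change r • x ∈ (K22.Compl.hat M'.toAddSubgroup : Set (Completion M))
        rw [K22.Compl.coe_hat] at hx' ⊢
        refine map_mem_closure (continuous_const_smul r) hx' ?_
        rintro _ ⟨m, hm, rfl⟩
        exact ⟨r • m, M'.smul_mem r hm, Completion.coe_smul r m⟩ }
  have hPmem : ∀ x, x ∈ P ↔ x ∈ K22.Compl.hat M'.toAddSubgroup := fun x => Iff.rfl
  have hPc : IsClosed (P : Set (Completion M)) := K22.Compl.isClosed_hat _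
  -- the closure of `I ^ n • P` is the closure of the image of `I ^ n • M'`
  have hsub : ∀ n, ((I ^ n • P : Submodule R (Completion M)) : Set (Completion M)) ⊆
      K22.Compl.hat (N n) := by
    intro n x hx
    refine Submodule.smul_induction_on hx ?_ ?_
    · intro r hr y hy
      have hy' : y ∈ (K22.Compl.hat M'.toAddSubgroup : Set (Completion M)) := hy
      change r • y ∈ (K22.Compl.hat (N n) : Set (Completion M))
      rw [K22.Compl.coe_hat] at hy' ⊢
      refine map_mem_closure (continuous_const_smul r) hy' ?_
      rintro _ ⟨m, hm, rfl⟩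
      exact ⟨r • m, Submodule.smul_mem_smul hr hm, Completion.coe_smul r m⟩
    · intro y z hy hz
      exact (K22.Compl.hat (N n)).add_mem hy hz
  have himg : ∀ n, ((↑) : M → Completion M) '' (N n : Set M) ⊆
      ((I ^ n • P : Submodule R (Completion M)) : Set (Completion M)) := by
    rintro n _ ⟨m, hm, rfl⟩
    exact coe_mem_smul (I ^ n) M' P (fun y hy => K22.Compl.coe_mem_hat hy) m hm
  have hcl : ∀ n, closure ((I ^ n • P : Submodule R (Completion M)) : Set (Completion M)) =
      K22.Compl.hat (N n) := by
    intro n
    apply Set.Subset.antisymm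
    · exact closure_minimal (hsub n) (K22.Compl.isClosed_hat _)
    · rw [K22.Compl.coe_hat]
      exact closure_mono (himg n)
  have hop : ∀ n, IsOpen ((I ^ n • P : Submodule R (Completion M)) : Set (Completion M)) := by
    refine K22.FG.isOpen_pow_smul I hI P hPc (fun k => ?_) (fun U hU => ?_)
    · rw [hcl]
      exact K22.Compl.isOpen_hat (hopen k)
    · obtain ⟨V, hV, hVU⟩ := K22.Compl.exists_hat_subset hU
      obtain ⟨n, hn⟩ := hbasis _ (hV.mem_nhds V.zero_mem)
      refine ⟨n, ?_⟩
      rw [hcl]
      have h1 : N n ≤ V := hn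
      exact (show (K22.Compl.hat (N n) : Set (Completion M)) ⊆ K22.Compl.hat V from
        K22.Compl.hat_mono h1).trans hVU
  have hcl' : ∀ n, ((I ^ n • P : Submodule R (Completion M)) : Set (Completion M)) =
      K22.Compl.hat (N n) := fun n => by
    rw [← hcl]
    exact ((AddSubgroup.isClosed_of_isOpen
      (I ^ n • P : Submodule R (Completion M)).toAddSubgroup (hop n)).closure_eq).symm
  refine ⟨⟨P, hop, fun U hU => ?_⟩, fun n hn => ⟨?_, ?_⟩⟩
  · obtain ⟨V, hV, hVU⟩ := K22.Compl.exists_hat_subset hU
    obtain ⟨n, hn⟩ := hbasis _ (hV.mem_nhds V.zero_mem)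
    refine ⟨n, ?_⟩
    rw [hcl']
    have h1 : N n ≤ V := hn
    exact (show (K22.Compl.hat (N n) : Set (Completion M)) ⊆ K22.Compl.hat V from
      K22.Compl.hat_mono h1).trans hVU
  · intro y
    obtain ⟨x, rfl⟩ := QuotientAddGroup.mk'_surjective _ y
    obtain ⟨m, u, hu, hmu⟩ := K22.Compl.exists_coe_add (N n) (hopen n) x
    refine ⟨m, ?_⟩
    have hu' : u ∈ (I ^ n • P : Submodule R (Completion M)) := by
      have : u ∈ ((I ^ n • P : Submodule R (Completion M)) : Set (Completion M)) := by
        rw [hcl']; exact hu
      exact this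
    have hu'' : u ∈ (I ^ n • ⊤ : Submodule R (Completion M)) :=
      Submodule.smul_mono le_rfl le_top hu'
    change QuotientAddGroup.mk' _ (m : Completion M) = QuotientAddGroup.mk' _ x
    have h5 : QuotientAddGroup.mk' (I ^ n • ⊤ : Submodule R (Completion M)).toAddSubgroup u = 0 :=
      (QuotientAddGroup.eq_zero_iff u).2 hu''
    rw [hmu, map_add, h5, add_zero]
  · ext m
    rw [AddMonoidHom.mem_ker]
    change QuotientAddGroup.mk' _ (m : Completion M) = 0 ↔ m ∈ (I ^ n • ⊤ : Submodule R M)
    rw [QuotientAddGroup.mk'_apply, QuotientAddGroup.eq_zero_iff]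
    change (m : Completion M) ∈ (I ^ n • ⊤ : Submodule R (Completion M)) ↔ _
    constructor
    · intro hm
      -- decompose
      have key : ∀ z ∈ (I ^ n • ⊤ : Submodule R (Completion M)), ∃ a ∈ (I ^ n • ⊤ : Submodule R M),
          ∃ b ∈ K22.Compl.hat (N n), z = (a : Completion M) + b := by
        intro z hz
        refine Submodule.smul_induction_on hz ?_ ?_
        · intro r hr y _
          obtain ⟨m', u, hu, hmu⟩ := K22.Compl.exists_coe_add M'.toAddSubgroup
            (by have := hopen 0; simpa using this) y
          refine ⟨r • m', Submodule.smul_mem_smul hr trivial, -(r • u), ?_, ?_⟩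
          · refine (K22.Compl.hat (N n)).neg_mem ?_
            exact hsub n (Submodule.smul_mem_smul hr ((hPmem u).2 hu))
          · rw [Completion.coe_smul, hmu, smul_add]; abel
        · rintro y z ⟨a, ha, b, hb, rfl⟩ ⟨a', ha', b', hb', rfl⟩
          refine ⟨a + a', Submodule.add_mem _ ha ha', b + b', AddSubgroup.add_mem _ hb hb', ?_⟩
          rw [Completion.coe_add]; abel
      obtain ⟨a, ha, b, hb, hab⟩ := key _ hm
      have h1 : ((m - a : M) : Completion M) ∈ K22.Compl.hat (N n) := by
        rw [Completion.coe_sub, hab, add_sub_cancel_left]; exact hb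
      rw [K22.Compl.coe_mem_hat_iff ((N n).isClosed_of_isOpen (hopen n))] at h1
      have h2 : m - a ∈ (I ^ n • ⊤ : Submodule R M) := Submodule.smul_mono le_rfl le_top h1
      have h3 := Submodule.add_mem _ h2 ha
      rwa [sub_add_cancel] at h3
    · intro hm
      exact coe_mem_smul (I ^ n) ⊤ ⊤ (fun y hy => trivial) m hm

end Groth.Agent.S10173
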