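import Groth.Statements.S10190
import Groth.Agent.AlgSp.K610.Base
import Groth.Agent.AlgSp.K610.CodimZero

set_option autoImplicit false
universe u
open CategoryTheory CategoryTheory.Limits AlgebraicGeometry Topology TopologicalSpace
open AlgSp

namespace Groth.Agent.S10190

/-- For an algebraic space X over a scheme S, the set of codimension 0 points of X (points x of |X| such
that, for some representable etale h_U ⟶ X from a scheme U and some point u of U mapping to x, the
local ring of U at u has dimension 0) is dense in |X|. -/
theorem result {S : Scheme.{u}} (X : AlgSp.Space S) :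
    Dense {x : AlgSp.Points X.obj |
      AlgSp.HasAt (fun U u => ringKrullDim ↥(U.presheaf.stalk u) = 0) X.obj x} := by
  rw [dense_iff_inter_open]
  rintro W hW ⟨x, hx⟩
  obtain ⟨U, p, hp, hs⟩ := X.2.atlas
  obtain ⟨t, rfl⟩ := K610.Base.surjective_ofPt hs x
  obtain ⟨y, hy, hd⟩ := K610.CodimZero.exists_mem_open (Z := U.left) (AlgSp.Points.ofPt p ⁻¹' W)
    (hW.preimage (AlgSp.Points.continuous_ofPt p)) t hx
  exact ⟨AlgSp.Points.ofPt p y, hy, U, p, y, hp, rfl, hd⟩

end Groth.Agent.S10190
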