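import Groth.Statements.S10198
import Groth.Agent.AlgSp.K610.QcChart

set_option autoImplicit false
universe u
open CategoryTheory CategoryTheory.Limits AlgebraicGeometry Topology TopologicalSpace
open AlgSp

namespace Groth.Agent.S10198

/-- (1) if and only if (3): for an algebraic space X over a scheme S, X is Zariski locally
quasi-separated over S (it has a Zariski covering by open subspaces whose diagonals over S are
quasi-compact) if and only if X has a Zariski covering by open subspaces each of which admits a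
quasi-compact, etale, surjective map from an affine scheme. Since the second condition does not
mention S, being Zariski locally quasi-separated does not depend on the base. -/
theorem result {S : Scheme.{u}} (X : AlgSp.Space S) :
    (∃ (ι : Type u) (Xi : ι → AlgSp.Space S) (j : ∀ i, Xi i ⟶ X),
        AlgSp.IsZarCover (fun i => (Xi i).obj) (fun i => (j i).hom) ∧ ∀ i, AlgSp.IsQuasiSeparatedSp (Xi i).obj) ↔
      (∃ (ι : Type u) (Xi : ι → AlgSp.Space S) (j : ∀ i, Xi i ⟶ X),
        AlgSp.IsZarCover (fun i => (Xi i).obj) (fun i => (j i).hom) ∧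
          ∀ i, ∃ (U : Over S) (p : (AlgSp.yon S).obj U ⟶ (Xi i).obj), IsAffine U.left ∧
            AlgSp.RepWith @QuasiCompact p ∧ AlgSp.RepWith @Etale p ∧ AlgSp.RepWith @Surjective p) := by
  constructor
  · rintro ⟨ι, Xi, j, ⟨hj, hsurj⟩, hqs⟩
    choose U p hp hs using fun i => (Xi i).2.atlas
    let ι' : Type u := Σ i, {V : (U i).left.Opens // IsAffineOpen V ∧
      ∃ W : S.Opens, IsAffineOpen W ∧ Set.range (V.ι ≫ (U i).hom) ⊆ (W : Set S)}
    let V : ∀ k : ι', Over S := fun k => Over.mk (k.2.1.ι ≫ (U k.1).hom)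
    let a : ∀ k : ι', (AlgSp.yon S).obj (V k) ⟶ (Xi k.1).obj := fun k =>
      (AlgSp.yon S).map (Over.homMk k.2.1.ι : V k ⟶ U k.1) ≫ p k.1
    have hV : ∀ k : ι', K610.QsChart.Small (V k) := fun k => ⟨k.2.2.1, k.2.2.2⟩
    have ha : ∀ k : ι', AlgSp.RepWith @Etale (a k) := fun k =>
      MorphismProperty.comp_mem (AlgSp.RepWith @Etale) _ _
        ((AlgSp.repWith_yon_map_iff _ _).2 (inferInstance : Etale k.2.1.ι)) (hp k.1)
    choose X' j' a' h1 h2 h3 h4 h5 h6 using fun k : ι' => K610.QcChart.exists_qc_chart (hqs k.1) (hV k) (ha k)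
    refine ⟨ι', X', fun k => j' k ≫ j k.1, ⟨fun k => ?_, fun x => ?_⟩, fun k => ⟨V k, a' k, (hV k).1, h6 k, h4 k, h5 k⟩⟩
    · exact MorphismProperty.comp_mem (AlgSp.RepWith @IsOpenImmersion) _ _ (h1 k) (hj k.1)
    · obtain ⟨i, x, rfl⟩ := hsurj x
      obtain ⟨u, rfl⟩ := K610.Base.surjective_ofPt (hs i) x
      obtain ⟨W, huW, hW, hW'⟩ := K610.QsChart.exists_small u
      let k : ι' := ⟨i, W, hW, hW'⟩
      have h7 : AlgSp.Points.ofPt (p i) u ∈ Set.range (AlgSp.Points.map (j' k).hom) := by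
        rw [h2 k]
        exact ⟨⟨u, huW⟩, K610.Base.ofPt_map_comp _ _ _⟩
      obtain ⟨y, hy⟩ := h7
      refine ⟨k, y, ?_⟩
      rw [← hy]
      exact AlgSp.Points.map_comp _ _ _
  · rintro ⟨ι, Xi, j, hj, hqs⟩
    refine ⟨ι, Xi, j, hj, fun i => ?_⟩
    obtain ⟨U, p, hU, h1, h2, h3⟩ := hqs i
    exact K610.QcChart.isQuasiSeparatedSp_of_qc_chart h2 h3 h1

end Groth.Agent.S10198
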