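import Groth.Statements.S10206
import Groth.Agent.AlgSp.K610.EtField

set_option autoImplicit false
universe u
open CategoryTheory CategoryTheory.Limits AlgebraicGeometry Topology TopologicalSpace
open AlgSp

namespace Groth.Agent.S10206

/-- Let X be an algebraic space over a scheme S and X ⟶ h_{Spec k} an etale morphism of algebraic spaces
over S, where k is a field and Spec k is given a structure morphism to S. Then X is a scheme (its
underlying sheaf is representable by a scheme over S). -/
theorem result {S : Scheme.{u}} (X : AlgSp.Space S)
    (k : Type u) [Field k] (str : Spec (CommRingCat.of k) ⟶ S)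
    (f : X.obj ⟶ (AlgSp.yon S).obj (Over.mk str)) (hf : AlgSp.IsEtaleMor f) :
    X.obj.obj.IsRepresentable := by
  have h1 : IsLocallyArtinian (Over.mk str).left :=
    Scheme.isLocallyArtinianScheme_Spec.2 (inferInstance : IsArtinianRing k)
  have h2 : IsAffine (Over.mk str).left := (inferInstance : IsAffine (Spec (CommRingCat.of k)))
  exact K610.EtField.isRepresentable_of_etale X f hf

end Groth.Agent.S10206
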