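import Groth.Statements.S10212
import Groth.Agent.AlgSp.K629.SchDesc

set_option autoImplicit false
universe u
open CategoryTheory CategoryTheory.Limits AlgebraicGeometry Topology TopologicalSpace
open AlgSp

namespace Groth.Agent.S10212

/-- Let X be an algebraic space over a scheme S, χ : U ⟶ U' a surjective etale morphism of schemes over
S and φ' : h_{U'} ⟶ X a map such that the composite h_χ ≫ φ' : h_U ⟶ X is (representable and) etale.
Then φ' is etale. -/
theorem result {S : Scheme.{u}} (X : AlgSp.Space S) {U U' : Over S}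
    (χ : U ⟶ U') [Etale χ.left] [Surjective χ.left] (φ' : (AlgSp.yon S).obj U' ⟶ X.obj)
    (h : AlgSp.RepWith @Etale ((AlgSp.yon S).map χ ≫ φ')) :
    AlgSp.RepWith @Etale φ' := by
  refine (AlgSp.repWith_iff _ _).2 ⟨X.property.representable_from_yon φ', fun T W b fst snd sq => ?_⟩
  obtain ⟨f, rfl⟩ := (AlgSp.yon S).map_surjective fst
  have sq1 : IsPullback (pullback.fst χ f) (pullback.snd χ f) χ f := IsPullback.of_hasPullback χ f
  have sq2 : IsPullback ((AlgSp.yon S).map (pullback.fst χ f))
      ((AlgSp.yon S).map (pullback.snd χ f ≫ snd)) ((AlgSp.yon S).map χ ≫ φ') b := by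
    rw [Functor.map_comp]
    exact (sq1.map (AlgSp.yon S)).flip.paste_horiz sq.flip |>.flip
  have h1 : Etale ((pullback.snd χ f).left ≫ snd.left) := h.2 _ _ _ sq2
  have sq3 := sq1.map (Over.forget S)
  have h2 : Etale (pullback.snd χ f).left := MorphismProperty.of_isPullback sq3 (inferInstanceAs (Etale χ.left))
  have h3 : Surjective (pullback.snd χ f).left :=
    MorphismProperty.of_isPullback sq3 (inferInstanceAs (Surjective χ.left))
  exact K629.SchDesc.etale _ _ inferInstance inferInstance h3 h1

end Groth.Agent.S10212
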