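import Groth.Statements.S10213
import Groth.Agent.AlgSp.K611.AffAtlas

set_option autoImplicit false
universe u
open CategoryTheory CategoryTheory.Limits AlgebraicGeometry Topology TopologicalSpace
open AlgSp

namespace Groth.Agent.S10213

/-- For an algebraic space X over a scheme S there is a surjective etale map h_U ⟶ X where U is a
disjoint union of affine schemes, each of which maps into an affine open of S. -/
theorem result {S : Scheme.{u}} (X : AlgSp.Space S) :
    ∃ (ι : Type u) (V : ι → Scheme.{u}) (_ : ∀ i, IsAffine (V i)) (q : (∐ V) ⟶ S)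
      (p : (AlgSp.yon S).obj (Over.mk q) ⟶ X.obj),
      AlgSp.RepWith @Etale p ∧ AlgSp.RepWith @Surjective p ∧
        ∀ i, ∃ W : S.Opens, IsAffineOpen W ∧ ∀ v : ↥(V i), (Sigma.ι V i ≫ q) v ∈ W := by
  obtain ⟨U, a, ha, ha'⟩ := X.property.atlas
  choose V hV hu W hW hVW using K611.exists_affine_over U.hom
  let f : ∀ u : ↥U.left, (V u : Scheme.{u}) ⟶ U.left := fun u => (V u).ι
  let d : (∐ fun u => (V u : Scheme.{u})) ⟶ U.left := Sigma.desc f
  have hd : Etale d := K611.etale_sigmaDesc _ f fun u => inferInstanceAs (Etale (V u).ι)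
  have hd' : Surjective d := K611.surjective_sigmaDesc _ f fun u => ⟨u, ⟨u, hu u⟩, rfl⟩
  let q : (∐ fun u => (V u : Scheme.{u})) ⟶ S := d ≫ U.hom
  let g : Over.mk q ⟶ U := Over.homMk d rfl
  refine ⟨↥U.left, fun u => (V u : Scheme.{u}), fun u => hV u, q, (AlgSp.yon S).map g ≫ a,
    (AlgSp.repWith_isMultiplicative (S := S) @Etale).comp_mem _ _
      ((AlgSp.repWith_yon_map_iff _ _).2 hd) ha,
    (AlgSp.repWith_isMultiplicative (S := S) @Surjective).comp_mem _ _
      ((AlgSp.repWith_yon_map_iff _ _).2 hd') ha', fun u => ⟨W u, hW u, fun v => ?_⟩⟩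
  have h : Sigma.ι (fun u => (V u : Scheme.{u})) u ≫ q = (V u).ι ≫ U.hom := by
    rw [← Category.assoc, Sigma.ι_desc]
  rw [h]
  exact hVW u v.1 v.2

end Groth.Agent.S10213
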