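import Groth.Statements.S10214
import Groth.Agent.AlgSp.K611.ZarCover

set_option autoImplicit false
universe u
open CategoryTheory CategoryTheory.Limits AlgebraicGeometry Topology TopologicalSpace
open AlgSp

namespace Groth.Agent.S10214

/-- Every algebraic space X over a scheme S has a Zariski covering by open subspaces X_i such that each
X_i has a surjective etale map from an affine scheme; moreover the affine schemes may be taken to
map into affine opens of S. -/
theorem result {S : Scheme.{u}} (X : AlgSp.Space S) :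
    ∃ (ι : Type u) (Xi : ι → AlgSp.Space S) (j : ∀ i, Xi i ⟶ X),
      AlgSp.IsZarCover (fun i => (Xi i).obj) (fun i => (j i).hom) ∧
        ∀ i, ∃ (U : Over S) (p : (AlgSp.yon S).obj U ⟶ (Xi i).obj), IsAffine U.left ∧
          AlgSp.RepWith @Etale p ∧ AlgSp.RepWith @Surjective p ∧
          ∃ W : S.Opens, IsAffineOpen W ∧ ∀ v : ↥U.left, U.hom v ∈ W := by
  obtain ⟨U, a, ha, ha'⟩ := X.property.atlas
  choose V hV hu W hW hVW using K611.exists_affine_over U.hom
  let T : ∀ u : ↥U.left, Over S := fun u => Over.mk ((V u).ι ≫ U.hom)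
  let f : ∀ u : ↥U.left, T u ⟶ U := fun u => Over.homMk (V u).ι
  have hf : ∀ u : ↥U.left, AlgSp.RepWith @Etale ((AlgSp.yon S).map (f u) ≫ a) := fun u =>
    (AlgSp.repWith_isMultiplicative (S := S) @Etale).comp_mem _ _
      ((AlgSp.repWith_yon_map_iff _ _).2 (inferInstanceAs (Etale (V u).ι))) ha
  choose Xi j b hj hr hb he hs using fun u => K611.exists_image X _ (hf u)
  refine ⟨↥U.left, Xi, j, ⟨hj, fun x => ?_⟩, fun u => ⟨T u, b u, hV u, he u, hs u, W u, hW u,
    fun v => hVW u v.1 v.2⟩⟩
  obtain ⟨u, rfl⟩ := K611.ofPt_surjective ha' x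
  refine ⟨u, ?_⟩
  rw [hr u]
  exact ⟨⟨u, hu u⟩, K611.ofPt_yon_comp _ _ _⟩

end Groth.Agent.S10214
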