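import Groth.Statements.S10225
import Groth.Agent.AlgSp.K611.SHStalk
import Groth.Agent.S2747

set_option autoImplicit false
universe u
open CategoryTheory CategoryTheory.Limits AlgebraicGeometry Topology TopologicalSpace
open AlgSp

namespace Groth.Agent.S10225

/-- Let X be an algebraic space over a scheme S and x̄ a geometric point of X lying over x ∈ |X|. Then
the local ring of X at x is reduced (for some etale chart h_U ⟶ X and some point u of U over x, the
local ring of U at u is reduced) if and only if the etale local ring of X at x̄ is reduced; in
particular the latter does not depend on the choice of x̄ over x. -/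
theorem result {S : Scheme.{u}} (X : AlgSp.Space S) (p : AlgSp.FieldPt X.obj) (hp : p.IsGeometric) :
    AlgSp.HasAt (fun U u => _root_.IsReduced ↥(U.presheaf.stalk u)) X.obj (AlgSp.Points.mk p) ↔
      _root_.IsReduced ↥(AlgSp.OEtStalk p) := by
  have hp' : IsSepClosed p.K := K611.isSepClosed_of_isGeometric hp
  refine K611.hasAt_iff_of_forall X.property _ fun U a u ha hu => ?_
  obtain ⟨A, _, _, _, _, _, ⟨e⟩⟩ := K611.exists_strictHens p hp' a ha u hu
  rw [← Groth.Agent.S2747.result ↥(U.left.presheaf.stalk u) A]
  exact ⟨fun h => isReduced_of_injective e.toRingHom e.injective,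
    fun h => isReduced_of_injective e.symm.toRingHom e.symm.injective⟩

end Groth.Agent.S10225
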