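import Groth.Statements.S10226
import Groth.Agent.AlgSp.K611.SHStalk
import Groth.Agent.S0540

set_option autoImplicit false
universe u
open CategoryTheory CategoryTheory.Limits AlgebraicGeometry Topology TopologicalSpace
open AlgSp

namespace Groth.Agent.S10226

/-- Let X be a Noetherian algebraic space over a scheme S (quasi-compact, with quasi-compact diagonal
over S, and locally Noetherian) and x̄ a geometric point of X. Then the etale local ring of X at x̄
is a Noetherian local ring. -/
theorem result {S : Scheme.{u}} (X : AlgSp.Space S)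
    (hqc : AlgSp.IsQuasiCompactSp X.obj) (hqs : AlgSp.IsQuasiSeparatedSp X.obj) (hX : AlgSp.IsLocNoethSp X.obj)
    (p : AlgSp.FieldPt X.obj) (hp : p.IsGeometric) :
    IsNoetherianRing ↥(AlgSp.OEtStalk p) ∧ IsLocalRing ↥(AlgSp.OEtStalk p) := by
  have hp' : IsSepClosed p.K := K611.isSepClosed_of_isGeometric hp
  refine ⟨?_, K611.isLocalRing_OEtStalk X.property p hp'⟩
  obtain ⟨U, a, ha, ha', hU⟩ := hX
  obtain ⟨u, hu⟩ := K611.ofPt_surjective ha' (AlgSp.Points.mk p)
  have := hU
  obtain ⟨A, _, _, _, _, _, ⟨e⟩⟩ := K611.exists_strictHens p hp' a ha u hu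
  have h1 : IsNoetherianRing A :=
    (Groth.Agent.S0540.result ↥(U.left.presheaf.stalk u) A).1 inferInstance
  exact isNoetherianRing_of_ringEquiv A e.symm

end Groth.Agent.S10226
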