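import Groth.Statements.S10227
import Groth.Agent.AlgSp.K611.Unibranch

set_option autoImplicit false
universe u
open CategoryTheory CategoryTheory.Limits AlgebraicGeometry Topology TopologicalSpace
open AlgSp

namespace Groth.Agent.S10227

/-- (1) ⇔ (4) ⇔ (5): let X be an algebraic space over a scheme S and x ∈ |X|. The following are
equivalent: for every scheme U, every etale h_U ⟶ X and every point u of U over x, the local ring of
U at u has a unique minimal prime; for every such (U, u), the local ring of U at u is geometrically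
unibranch; for every geometric point x̄ over x, the etale local ring of X at x̄ has a unique minimal
prime. -/
theorem result {S : Scheme.{u}} (X : AlgSp.Space S) (x : AlgSp.Points X.obj) :
    ((∀ (U : Over S) (a : (AlgSp.yon S).obj U ⟶ X.obj) (u : ↥U.left),
        AlgSp.RepWith @Etale a → AlgSp.Points.ofPt a u = x → CAlgX.HasUniqueMinimalPrime ↥(U.left.presheaf.stalk u)) ↔
      (∀ (U : Over S) (a : (AlgSp.yon S).obj U ⟶ X.obj) (u : ↥U.left),
        AlgSp.RepWith @Etale a → AlgSp.Points.ofPt a u = x → CAlg2.IsGeomUnibranch ↥(U.left.presheaf.stalk u))) ∧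
    ((∀ (U : Over S) (a : (AlgSp.yon S).obj U ⟶ X.obj) (u : ↥U.left),
        AlgSp.RepWith @Etale a → AlgSp.Points.ofPt a u = x → CAlgX.HasUniqueMinimalPrime ↥(U.left.presheaf.stalk u)) ↔
      ∀ p : AlgSp.FieldPt X.obj, p.IsGeometric → AlgSp.Points.mk p = x →
        CAlgX.HasUniqueMinimalPrime ↥(AlgSp.OEtStalk p)) := by
  have h23 : (∀ (U : Over S) (a : (AlgSp.yon S).obj U ⟶ X.obj) (u : ↥U.left),
        AlgSp.RepWith @Etale a → AlgSp.Points.ofPt a u = x → CAlg2.IsGeomUnibranch ↥(U.left.presheaf.stalk u)) ↔
      ∀ p : AlgSp.FieldPt X.obj, p.IsGeometric → AlgSp.Points.mk p = x →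
        CAlgX.HasUniqueMinimalPrime ↥(AlgSp.OEtStalk p) := by
    constructor
    · intro h p hp hx
      obtain ⟨U, a, u, ha, hu⟩ := K611.exists_chart X.property x
      exact (K611.unibranch_chart_iff p (K611.isSepClosed_of_isGeometric hp) a ha u
        (hu.trans hx.symm)).1 (h U a u ha hu)
    · intro h U a u ha hu
      have hp := K611.isGeometric_geomPt (AlgSp.EtOver.mk a ha) u
      have hm := K611.mk_chartPt a ha u
      exact (K611.unibranch_chart_iff (K611.chartPt a ha u) (K611.isSepClosed_of_isGeometric hp) a ha u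
        hm.symm).2 (h _ hp (hm.trans hu))
  have h13 : (∀ (U : Over S) (a : (AlgSp.yon S).obj U ⟶ X.obj) (u : ↥U.left),
        AlgSp.RepWith @Etale a → AlgSp.Points.ofPt a u = x →
          CAlgX.HasUniqueMinimalPrime ↥(U.left.presheaf.stalk u)) ↔
      ∀ p : AlgSp.FieldPt X.obj, p.IsGeometric → AlgSp.Points.mk p = x →
        CAlgX.HasUniqueMinimalPrime ↥(AlgSp.OEtStalk p) := by
    constructor
    · intro h p hp hx
      subst hx
      exact K611.hasUniqueMinimalPrime_OEtStalk X.property p (K611.isSepClosed_of_isGeometric hp) h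
    · intro h U a u ha hu
      exact K611.hasUniqueMinimalPrime_of_isGeomUnibranch _ (h23.2 h U a u ha hu)
  exact ⟨h13.trans h23.symm, h13⟩

end Groth.Agent.S10227
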