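import Groth.Statements.S10228
import Groth.Agent.AlgSp.K611.ColimPts
import Groth.Agent.AlgSp.K609.QC

set_option autoImplicit false
universe u
open CategoryTheory CategoryTheory.Limits AlgebraicGeometry Topology TopologicalSpace
open AlgSp

namespace Groth.Agent.S10228

/-- An algebraic space that is the coproduct of finitely many quasi-compact algebraic spaces is
quasi-compact: if X_i (i in a finite type) are quasi-compact algebraic spaces over a scheme S and
the underlying sheaf of the algebraic space X is a coproduct of the underlying sheaves of the X_i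
(given by a colimit cofan of fppf sheaves whose cone point is the sheaf of X), then X is
quasi-compact. -/
theorem result {S : Scheme.{u}} {ι : Type u} [Finite ι] (Xi : ι → AlgSp.Space S)
    (X : AlgSp.Space S) (c : Cofan fun i => (Xi i).obj) (hc : IsColimit c) (hX : c.pt = X.obj)
    (hqc : ∀ i, AlgSp.IsQuasiCompactSp (Xi i).obj) :
    AlgSp.IsQuasiCompactSp X.obj := by
  obtain ⟨X, hXp⟩ := X
  change c.pt = X at hX
  subst hX
  have h : (Set.univ : Set (AlgSp.Points c.pt)) =
      ⋃ d : Discrete ι, Set.range (AlgSp.Points.map (c.ι.app d)) := by
    refine (Set.eq_univ_of_forall fun x => ?_).symm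
    obtain ⟨d, y, hy⟩ := K611.exists_point_of_isColimit hc x
    exact Set.mem_iUnion.2 ⟨d, y, hy⟩
  have hfin : Finite (Discrete ι) := Finite.of_equiv ι discreteEquiv.symm
  have hcomp : CompactSpace (AlgSp.Points c.pt) := by
    refine ⟨?_⟩
    rw [h]
    refine isCompact_iUnion fun d => ?_
    have : CompactSpace (AlgSp.Points ((Discrete.functor fun i => (Xi i).obj).obj d)) :=
      K609.QC.compactSpace_points (hqc d.as)
    exact isCompact_range (AlgSp.Points.continuous_map (c.ι.app d))
  exact K609.QC.isQuasiCompactSp_of_compactSpace hXp

end Groth.Agent.S10228
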