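import Groth.Statements.S10231
import Groth.Agent.AlgSp.K611.Reg

set_option autoImplicit false
universe u
open CategoryTheory CategoryTheory.Limits AlgebraicGeometry Topology TopologicalSpace
open AlgSp

namespace Groth.Agent.S10231

/-- Let X be a locally Noetherian algebraic space over a scheme S. Then X is regular (etale locally a
regular scheme: some surjective etale chart from a locally Noetherian scheme all of whose local
rings are regular) if and only if every etale local ring of X at a geometric point is a regular
local ring. -/
theorem result {S : Scheme.{u}} (X : AlgSp.Space S) (hX : AlgSp.IsLocNoethSp X.obj) :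
    AlgSp.EtaleLocally (fun U => IsLocallyNoetherian U ∧ ∀ u : ↥U, IsRegularLocalRing ↥(U.presheaf.stalk u)) X.obj ↔
      ∀ p : AlgSp.FieldPt X.obj, p.IsGeometric → IsRegularLocalRing ↥(AlgSp.OEtStalk p) := by
  constructor
  · rintro ⟨U, a, ha, ha', hU, hU'⟩ p hp
    obtain ⟨u, hu⟩ := K611.ofPt_surjective ha' (AlgSp.Points.mk p)
    exact (K611.regular_chart_iff p (K611.isSepClosed_of_isGeometric hp) a ha u hu).1 (hU' u)
  · intro h
    obtain ⟨U, a, ha, ha', hU⟩ := hX
    refine ⟨U, a, ha, ha', hU, fun u => ?_⟩
    have hp := K611.isGeometric_geomPt (AlgSp.EtOver.mk a ha) u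
    exact (K611.regular_chart_iff (K611.chartPt a ha u) (K611.isSepClosed_of_isGeometric hp) a ha u
      (K611.mk_chartPt a ha u).symm).2 (h _ hp)

end Groth.Agent.S10231
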