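import Groth.Statements.S10232
import Groth.Agent.AlgSp.K611.Reg

set_option autoImplicit false
universe u
open CategoryTheory CategoryTheory.Limits AlgebraicGeometry Topology TopologicalSpace
open AlgSp

namespace Groth.Agent.S10232

/-- Let X be an algebraic space over a scheme S and x ∈ |X|. Then X is regular at x (for some etale
chart h_U ⟶ X and some point u of U over x, the local ring of U at u is regular) if and only if the
etale local ring of X at x̄ is regular for every geometric point x̄ lying over x, if and only if it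
is regular for some geometric point x̄ lying over x. -/
theorem result {S : Scheme.{u}} (X : AlgSp.Space S) (x : AlgSp.Points X.obj) :
    (AlgSp.HasAt (fun U u => IsRegularLocalRing ↥(U.presheaf.stalk u)) X.obj x ↔
      ∀ p : AlgSp.FieldPt X.obj, p.IsGeometric → AlgSp.Points.mk p = x → IsRegularLocalRing ↥(AlgSp.OEtStalk p)) ∧
    (AlgSp.HasAt (fun U u => IsRegularLocalRing ↥(U.presheaf.stalk u)) X.obj x ↔
      ∃ p : AlgSp.FieldPt X.obj, p.IsGeometric ∧ AlgSp.Points.mk p = x ∧ IsRegularLocalRing ↥(AlgSp.OEtStalk p)) := by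
  have key : ∀ p : AlgSp.FieldPt X.obj, p.IsGeometric → AlgSp.Points.mk p = x →
      (AlgSp.HasAt (fun U u => IsRegularLocalRing ↥(U.presheaf.stalk u)) X.obj x ↔
        IsRegularLocalRing ↥(AlgSp.OEtStalk p)) := fun p hp hx =>
    K611.hasAt_iff_of_forall X.property _ fun U a u ha hu =>
      K611.regular_chart_iff p (K611.isSepClosed_of_isGeometric hp) a ha u (hu.trans hx.symm)
  obtain ⟨p, hp, hx⟩ := K611.exists_geometric X.property x
  exact ⟨⟨fun h q hq hqx => (key q hq hqx).1 h, fun h => (key p hp hx).2 (h p hp hx)⟩,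
    ⟨fun h => ⟨p, hp, hx, (key p hp hx).1 h⟩, fun ⟨q, hq, hqx, h⟩ => (key q hq hqx).2 h⟩⟩

end Groth.Agent.S10232
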