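import Groth.Statements.S10233
import Groth.Agent.AlgSp.K611.ImmDescent
import Groth.Agent.AlgSp.K596.ImmDesc

set_option autoImplicit false
universe u
open CategoryTheory CategoryTheory.Limits AlgebraicGeometry Topology TopologicalSpace
open AlgSp

namespace Groth.Agent.S10233

/-- Let X be an algebraic space over a scheme S with a presentation (U, R, s, t, p), and let i' : Z' ⟶ U
be an immersion of schemes that is R-invariant, meaning that one locally closed subscheme R' of R is
at the same time the inverse image of Z' under s and under t. Then Z' descends to a locally closed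
subspace of X: there is a morphism of algebraic spaces i : Z ⟶ X representable by immersions
together with a map h_{Z'} ⟶ Z making h_{Z'} the fibre product Z ×_X h_U; moreover i is a closed
(resp. open) immersion when i' is. -/
theorem result {S : Scheme.{u}} (X : AlgSp.Space S) {R U : Over S} (s t : R ⟶ U)
    (p : (AlgSp.yon S).obj U ⟶ X.obj) (hp : AlgSp.IsPresentation s t p)
    {Z' R' : Scheme.{u}} (i' : Z' ⟶ U.left) [IsImmersion i'] (k : R' ⟶ R.left) (s' t' : R' ⟶ Z')
    (hs : IsPullback k s' s.left i') (ht : IsPullback k t' t.left i') :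
    ∃ (Z : AlgSp.Space S) (i : Z ⟶ X) (q : (AlgSp.yon S).obj (Over.mk (i' ≫ U.hom)) ⟶ Z.obj),
      AlgSp.RepWith @IsImmersion i.hom ∧
      IsPullback q ((AlgSp.yon S).map (Over.homMk i' rfl : Over.mk (i' ≫ U.hom) ⟶ U)) i.hom p ∧
      (IsClosedImmersion i' → AlgSp.RepWith @IsClosedImmersion i.hom) ∧
      (IsOpenImmersion i' → AlgSp.RepWith @IsOpenImmersion i.hom) := by
  let T : Over S := Over.mk (i' ≫ U.hom)
  let i : T ⟶ U := Over.homMk i' rfl
  have hi : Mono i.left := inferInstanceAs (Mono i')
  have hi' : Mono i := Over.mono_of_mono_left i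
  obtain ⟨q, sq⟩ := K611.isPullback_invPred hp.isPullback i (fun V r z hz => by
    have h1 : r.left ≫ s.left = z.left ≫ i' := congrArg (fun m => m.left) hz.symm
    refine ⟨Over.homMk (hs.lift r.left z.left h1 ≫ t') ?_, ?_⟩
    · change (hs.lift r.left z.left h1 ≫ t') ≫ i' ≫ U.hom = V.hom
      rw [Category.assoc, ← Category.assoc t', ← ht.w, Category.assoc, ← Category.assoc, hs.lift_fst,
        Over.w t, Over.w r]
    · apply Over.OverMorphism.ext
      change (hs.lift r.left z.left h1 ≫ t') ≫ i' = r.left ≫ t.left
      rw [Category.assoc, ← ht.w, ← Category.assoc, hs.lift_fst])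
  have key : ∀ (P : MorphismProperty Scheme.{u}), P ≤ @IsImmersion → IsZariskiLocalAtTarget P →
      P.DescendsAlong K597.EffDesc.Fppf.{u} → P.IsStableUnderBaseChange → P i' →
      AlgSp.RepWith P (K611.invPred p i).ι := fun P h1 h2 h3 h4 h5 =>
    K596.ImmDesc.repWith_of_etale_cover h1 hp.etale hp.surjective sq
      ((AlgSp.repWith_yon_map_iff P i).2 h5)
  have himm : AlgSp.RepWith @IsImmersion (K611.invPred p i).ι :=
    key @IsImmersion le_rfl inferInstance K596.ImmDesc.immersion_descends inferInstance inferInstance
  have hZ : AlgSp.IsAlgSpace (K611.invPred p i).sub := K610.Sub.isAlgSpace_of_mono himm.1 X.property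
  refine ⟨⟨_, hZ⟩, ⟨(K611.invPred p i).ι⟩, q, himm, sq, fun h => ?_, fun h => ?_⟩
  · exact key @IsClosedImmersion K596.ImmDesc.closed_le inferInstance K596.ImmDesc.closed_descends inferInstance h
  · exact key @IsOpenImmersion K596.ImmDesc.open_le inferInstance inferInstance inferInstance h

end Groth.Agent.S10233
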