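import Groth.Statements.S10235
import Groth.Agent.S4085
import Groth.Agent.S4086
import Groth.Agent.S1881
import Groth.Agent.AlgSp.K612.QuotLem
import Mathlib.CategoryTheory.Limits.Constructions.Over.Connected

set_option autoImplicit false
universe u
open CategoryTheory CategoryTheory.Limits AlgebraicGeometry Topology TopologicalSpace
open AlgSp

namespace Groth.Agent.S10235


theorem mono_j {S : Scheme.{u}} (G : Grpd.GroupoidScheme S)
    (heq : AlgSp.IsEqvRel (Over.homMk G.s G.s_over : Over.mk G.pR ⟶ Over.mk G.pU) (Over.homMk G.t G.t_over : Over.mk G.pR ⟶ Over.mk G.pU)) :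
    Mono G.j := by
  constructor
  intro Z a b hab
  have h1 : a ≫ G.t = b ≫ G.t := by
    have := congrArg (· ≫ pullback.fst G.pU G.pU) hab
    simp only [Grpd.GroupoidScheme.j, Category.assoc] at this
    erw [pullback.lift_fst] at this
    exact this
  have h2 : a ≫ G.s = b ≫ G.s := by
    have := congrArg (· ≫ pullback.snd G.pU G.pU) hab
    simp only [Grpd.GroupoidScheme.j, Category.assoc] at this
    erw [pullback.lift_snd] at this
    exact this
  let a' : Over.mk (a ≫ G.pR) ⟶ Over.mk G.pR := Over.homMk a rfl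
  let b' : Over.mk (a ≫ G.pR) ⟶ Over.mk G.pR := Over.homMk b (by
    change b ≫ G.pR = a ≫ G.pR
    rw [← G.s_over, reassoc_of% h2])
  have := heq.injective _ a' b' (Over.OverMorphism.ext h1) (Over.OverMorphism.ext h2)
  exact congrArg CommaMorphism.left this

theorem exists_affine {S : Scheme.{u}} (G : Grpd.GroupoidScheme S)
    (hs : Mor2.IsFinLocFree G.s) (ht : Mor2.IsFinLocFree G.t)
    (h3 : ∀ Z : Set ↥G.U, IsClosed Z → Z.Nonempty →
      ∃ u ∈ Z, ∃ W : G.U.Opens, IsAffineOpen W ∧ ∀ r : ↥G.R, G.s r = u → G.t r ∈ W) (x : G.U) :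
    ∃ V : G.U.Opens, IsAffineOpen V ∧ G.t.base '' (G.s.base ⁻¹' {x}) ⊆ (V : Set G.U) := by
  obtain ⟨i1, i2, i3⟩ := hs
  obtain ⟨i4, i5, i6⟩ := ht
  let O : Set G.U := ⋃ (V : G.U.Opens) (_ : IsAffineOpen V ∧ G.s ⁻¹ᵁ V = G.t ⁻¹ᵁ V), (V : Set G.U)
  have hO : IsOpen O := isOpen_iUnion fun V => isOpen_iUnion fun _ => V.2
  have hOU : O = Set.univ := by
    by_contra hne
    have hne' : (Oᶜ).Nonempty := Set.nonempty_compl.2 hne
    obtain ⟨u, hu, W, hW, hr⟩ := h3 Oᶜ hO.isClosed_compl hne'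
    obtain ⟨V', hV', hxV', hinv⟩ := Groth.Agent.S1881.result S G u W hW hr
    exact hu (Set.mem_iUnion₂.2 ⟨V', ⟨hV', hinv⟩, hxV'⟩)
  have hx : x ∈ O := hOU ▸ trivial
  obtain ⟨V, ⟨hV, hinv⟩, hxV⟩ := Set.mem_iUnion₂.1 hx
  refine ⟨V, hV, ?_⟩
  rintro _ ⟨r, hr, rfl⟩
  have : r ∈ G.s ⁻¹ᵁ V := by
    change G.s r ∈ V
    rw [show G.s r = x from hr]
    exact hxV
  rw [hinv] at this
  exact this

theorem exists_quot {S : Scheme.{u}} (G : Grpd.GroupoidScheme S)
    (hs : Mor2.IsFinLocFree G.s) (ht : Mor2.IsFinLocFree G.t)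
    (heq : AlgSp.IsEqvRel (Over.homMk G.s G.s_over : Over.mk G.pR ⟶ Over.mk G.pU) (Over.homMk G.t G.t_over : Over.mk G.pR ⟶ Over.mk G.pU))
    (h3 : ∀ Z : Set ↥G.U, IsClosed Z → Z.Nonempty →
      ∃ u ∈ Z, ∃ W : G.U.Opens, IsAffineOpen W ∧ ∀ r : ↥G.R, G.s r = u → G.t r ∈ W) :
    ∃ (M : Over S) (m : Over.mk G.pU ⟶ M), Mor2.IsFinLocFree m.left ∧ IsPullback G.t G.s m.left m.left ∧
      QuotSh.IsQuotient Scheme.fppfPrecoverage (Over.homMk G.s G.s_over : Over.mk G.pR ⟶ Over.mk G.pU) (Over.homMk G.t G.t_over : Over.mk G.pR ⟶ Over.mk G.pU) m := by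
  have hb := exists_affine G hs ht h3
  have := mono_j G heq
  obtain ⟨Y, p, w, ⟨hc⟩, h1, h2, -⟩ := Groth.Agent.S4085.result S G hs hb
  obtain ⟨hp, hf⟩ := Groth.Agent.S4086.result S G hs hb Y p w hc
  let q : Y ⟶ S := Cofork.IsColimit.desc hc G.pU (G.t_over.trans G.s_over.symm)
  have hq : p ≫ q = G.pU := Cofork.IsColimit.π_desc' hc _ _
  let m : Over.mk G.pU ⟶ Over.mk q := Over.homMk p hq
  refine ⟨Over.mk q, m, hf, hp, ?_⟩
  have i1 : Flat m.left := hf.2.1
  have i2 : LocallyOfFinitePresentation m.left := hf.2.2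
  have i3 : Surjective m.left := h2
  have h4 : IsPullback (Over.homMk G.t G.t_over : Over.mk G.pR ⟶ Over.mk G.pU)
      (Over.homMk G.s G.s_over : Over.mk G.pR ⟶ Over.mk G.pU) m m :=
    IsPullback.of_map (Over.forget S) (Over.OverMorphism.ext w) hp
  exact K612.QuotLem.isQuotient h4

/-- Let (U, R, s, t, c) be a groupoid scheme over a scheme S whose source and target maps s, t : R ⟶ U
are finite locally free and whose map j = (t, s) is an equivalence relation, and suppose that in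
each nonempty closed subset of U one can find a point u such that some affine open of U contains the
whole equivalence class t(s⁻¹{u}) of u. Then there are a scheme M over S and a finite locally free
morphism U ⟶ M over S such that the square with the two maps t, s : R ⟶ U over U ⟶ M is cartesian (R
= U ×_M U) and U ⟶ M exhibits h_M as the quotient of h_U by the pair h_R ⇉ h_U in the category of
fppf sheaves. -/
theorem result {S : Scheme.{u}} (G : Grpd.GroupoidScheme S)
    (hs : Mor2.IsFinLocFree G.s) (ht : Mor2.IsFinLocFree G.t)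
    (heq : AlgSp.IsEqvRel (Over.homMk G.s G.s_over : Over.mk G.pR ⟶ Over.mk G.pU) (Over.homMk G.t G.t_over : Over.mk G.pR ⟶ Over.mk G.pU))
    (h3 : ∀ Z : Set ↥G.U, IsClosed Z → Z.Nonempty →
      ∃ u ∈ Z, ∃ W : G.U.Opens, IsAffineOpen W ∧ ∀ r : ↥G.R, G.s r = u → G.t r ∈ W) :
    ∃ (M : Over S) (m : Over.mk G.pU ⟶ M), Mor2.IsFinLocFree m.left ∧ IsPullback G.t G.s m.left m.left ∧
      QuotSh.IsQuotient Scheme.fppfPrecoverage (Over.homMk G.s G.s_over : Over.mk G.pR ⟶ Over.mk G.pU) (Over.homMk G.t G.t_over : Over.mk G.pR ⟶ Over.mk G.pU) m := by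
  exact exists_quot G hs ht heq h3


end Groth.Agent.S10235
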