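import Groth.Statements.S10242
import Groth.Agent.AlgSp.K612.Reduced

set_option autoImplicit false
universe u
open CategoryTheory CategoryTheory.Limits AlgebraicGeometry Topology TopologicalSpace
open AlgSp

namespace Groth.Agent.S10242

/-- Let X be a reduced algebraic space over a scheme S. Then the ring of global sections of the
structure sheaf of X (on the small etale site) is reduced, and if a global section f satisfies X =
V(f), meaning that its restriction to every scheme U etale over X has empty non-vanishing locus
D(f|_U), then f = 0. -/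
theorem result {S : Scheme.{u}} (X : AlgSp.Space S) (hX : AlgSp.IsReducedSp X.obj) :
    _root_.IsReduced ↥(AlgSp.gsectEt (AlgSp.OEt X.obj)) ∧
      ∀ f : ↥(AlgSp.gsectEt (AlgSp.OEt X.obj)),
        (∀ E : AlgSp.EtOver X.obj,
            E.obj.left.left.basicOpen ((limit.π (AlgSp.OEt X.obj).obj (Opposite.op E)) f).down = ⊥) →
          f = 0 := by
  have hred : ∀ E : AlgSp.EtOver X.obj, AlgebraicGeometry.IsReduced E.obj.left.left :=
    fun E => K612.Reduced.isReduced_of_isReducedSp hX E.obj.hom E.property
  have ext : ∀ f : ↥(AlgSp.gsectEt (AlgSp.OEt X.obj)),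
      (∀ E : AlgSp.EtOver X.obj, (limit.π (AlgSp.OEt X.obj).obj (Opposite.op E)) f = 0) → f = 0 := by
    intro f hf
    refine Concrete.limit_ext _ _ _ fun j => ?_
    rw [map_zero]
    exact hf j.unop
  refine ⟨⟨fun f hf => ext f fun E => ?_⟩, fun f hf => ext f fun E => ?_⟩
  · have h := hf.map (limit.π (AlgSp.OEt X.obj).obj (Opposite.op E)).hom
    have h2 := h.map (ULift.ringEquiv (R := Γ(E.obj.left.left, ⊤))).toRingHom
    have := hred E
    have h3 := h2.eq_zero
    exact ULift.ext _ _ h3
  · have := hred E
    have h1 := (AlgebraicGeometry.basicOpen_eq_bot_iff _).1 (hf E)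
    exact ULift.ext _ _ h1


end Groth.Agent.S10242
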