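import Groth.Statements.S10245
import Groth.Agent.S10235
import Groth.Agent.FlatA.FinsetAffine
import Groth.Agent.Sga3.H775.ActGrpd
import Mathlib.CategoryTheory.Limits.Constructions.Over.Connected

set_option autoImplicit false
universe u
open CategoryTheory CategoryTheory.Limits MonoidalCategory CartesianMonoidalCategory MonObj AlgebraicGeometry Topology TopologicalSpace
open AlgSp

namespace Groth.Agent.S10245

open Groth.Agent.Sga3.H775.ActGrpd

theorem snd_left_eq {S : Scheme.{u}} (G X : Over S) :
    (snd G X).left = pullback.snd G.hom X.hom := Over.snd_left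

theorem isFinLocFree_snd {S : Scheme.{u}} (G X : Over S) (hG : Mor2.IsFinLocFree G.hom) :
    Mor2.IsFinLocFree (snd G X).left := by
  obtain ⟨h1, h2, h3⟩ := hG
  exact ⟨inferInstanceAs (IsFinite (pullback.snd G.hom X.hom)), inferInstanceAs (Flat (pullback.snd G.hom X.hom)),
    inferInstanceAs (LocallyOfFinitePresentation (pullback.snd G.hom X.hom))⟩

theorem univInj_snd {S : Scheme.{u}} (G X : Over S) (h : UniversallyInjective G.hom) :
    UniversallyInjective (snd G X).left :=
  have : MorphismProperty.IsStableUnderBaseChange (@UniversallyInjective : MorphismProperty Scheme.{u}) :=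
    UniversallyInjective.isStableUnderBaseChange
  this.of_isPullback (IsPullback.of_hasPullback G.hom X.hom) h

theorem eq_of_comp_j {S : Scheme.{u}} (Γ : Grpd.GroupoidScheme S) {Z : Scheme.{u}} {α β : Z ⟶ Γ.R}
    (hab : α ≫ Γ.j = β ≫ Γ.j) : α ≫ Γ.t = β ≫ Γ.t ∧ α ≫ Γ.s = β ≫ Γ.s := by
  constructor
  · have := congrArg (· ≫ pullback.fst Γ.pU Γ.pU) hab
    simp only [Grpd.GroupoidScheme.j, Category.assoc] at this
    erw [pullback.lift_fst] at this
    exact this
  · have := congrArg (· ≫ pullback.snd Γ.pU Γ.pU) hab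
    simp only [Grpd.GroupoidScheme.j, Category.assoc] at this
    erw [pullback.lift_snd] at this
    exact this

theorem mono_j {S : Scheme.{u}} {G X : Over S} [GrpObj G] (a : AlgGrp.Action G X)
    (hfree : ∀ (T : Over S) (g : T ⟶ G) (x : T ⟶ X), lift g x ≫ a.act = x → g = toUnit T ≫ η[G]) :
    Mono (actGrpd a).j := by
  constructor
  intro Z (α : Z ⟶ (G ⊗ X).left) (β : Z ⟶ (G ⊗ X).left) hab
  have h1 : α ≫ a.act.left = β ≫ a.act.left := (eq_of_comp_j (actGrpd a) hab).1
  have h2 : α ≫ (snd G X).left = β ≫ (snd G X).left := (eq_of_comp_j (actGrpd a) hab).2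
  let α' : Over.mk (α ≫ (G ⊗ X).hom) ⟶ G ⊗ X := Over.homMk α rfl
  let β' : Over.mk (α ≫ (G ⊗ X).hom) ⟶ G ⊗ X := Over.homMk β (by
    change β ≫ (G ⊗ X).hom = α ≫ (G ⊗ X).hom
    rw [← Over.w (snd G X), reassoc_of% h2])
  have e1 : α' ≫ a.act = β' ≫ a.act := Over.OverMorphism.ext h1
  have e2 : α' ≫ snd G X = β' ≫ snd G X := Over.OverMorphism.ext h2
  have key : (β' ≫ fst G X)⁻¹ * (α' ≫ fst G X) = toUnit _ ≫ η[G] := by
    refine hfree _ _ (α' ≫ snd G X) ?_
    rw [lift_mul_act, ← act_eq, e1, act_eq a β', e2, ← lift_mul_act, inv_mul_cancel, lift_one_act]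
  have key2 : (β' ≫ fst G X)⁻¹ * (α' ≫ fst G X) = 1 := key
  have e3 : α' ≫ fst G X = β' ≫ fst G X := (inv_mul_eq_one.1 key2).symm
  have : α' = β' := CartesianMonoidalCategory.hom_ext _ _ e3 e2
  exact congrArg CommaMorphism.left this

/-- Let G ⟶ S be a finite locally free group scheme over a scheme S acting on a scheme X over S by a : G
×_S X ⟶ X, freely on T-valued points for every S-scheme T. Assume one of the following: the
structure morphism X ⟶ S is affine; X admits an open immersion into some affine scheme; G ⟶ S is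
radicial (universally injective). Then the fppf quotient sheaf X/G is a scheme M: there is q : X ⟶ M
over S exhibiting h_M as the quotient of h_X by the projection and the action G ×_S X ⇉ X in fppf
sheaves; moreover the square formed by the action, the projection and q is cartesian (G ×_S X ≅ X
×_M X) and X ⟶ M has sections fppf locally on M, so that X ⟶ X/G is an fppf G-torsor. (The published
statement also allows X ⟶ S quasi-affine, projective or quasi-projective, or X an open subscheme of
Proj of a graded ring; those cases are not covered by this row.) -/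
theorem result {S : Scheme.{u}} (G X : Over S) [GrpObj G]
    (a : AlgGrp.Action G X) (hG : Mor2.IsFinLocFree G.hom)
    (hfree : ∀ (T : Over S) (g : T ⟶ G) (x : T ⟶ X), lift g x ≫ a.act = x → g = toUnit T ≫ η[G])
    (h3 : IsAffineHom X.hom ∨ (∃ (R : CommRingCat.{u}) (i : X.left ⟶ Spec R), IsOpenImmersion i) ∨
      UniversallyInjective G.hom) :
    ∃ (M : Over S) (q : X ⟶ M), QuotSh.IsQuotient Scheme.fppfPrecoverage (snd G X) a.act q ∧
      IsPullback a.act.left (snd G X).left q.left q.left ∧
      NonAbH1.IsLocallyTrivialFor Scheme.fppfPrecoverage (Over.mk q.left) := by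
  have hsnd : Mor2.IsFinLocFree (snd G X).left := isFinLocFree_snd G X hG
  have i := hsnd
  obtain ⟨i1, i2, i3⟩ := i
  let Γ := actGrpd a
  have hmono : Mono Γ.j := mono_j a hfree
  have hb : ∀ x : Γ.U, ∃ V : Γ.U.Opens, IsAffineOpen V ∧ Γ.t.base '' (Γ.s.base ⁻¹' {x}) ⊆ (V : Set Γ.U) := by
    change ∀ x : X.left, ∃ V : X.left.Opens, IsAffineOpen V ∧ a.act.left.base '' ((snd G X).left.base ⁻¹' {x}) ⊆ (V : Set X.left)
    intro x
    rcases h3 with h | ⟨R, i, hi⟩ | h
    · obtain ⟨V, hV, hxV, -⟩ := exists_isAffineOpen_mem_and_subset (X := S) (U := ⊤) (x := X.hom x) trivial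
      refine ⟨X.hom ⁻¹ᵁ V, hV.preimage X.hom, ?_⟩
      rintro _ ⟨r, hr, rfl⟩
      change X.hom (a.act.left r) ∈ V
      rw [← Scheme.Hom.comp_apply, Over.w, ← Over.w (snd G X), Scheme.Hom.comp_apply]
      change (snd G X).left r = x at hr
      rw [hr]
      exact hxV
    · have hfin : (a.act.left.base '' ((snd G X).left.base ⁻¹' {x})).Finite :=
        (Scheme.Hom.finite_preimage_singleton (snd G X).left x).image _
      obtain ⟨V, hV, hxV⟩ := Groth.Agent.FlatA.FinsetAffine.exists_isAffineOpen i hfin.toFinset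
      exact ⟨V, hV, fun y hy => hxV y (hfin.mem_toFinset.2 hy)⟩
    · have hinj : UniversallyInjective (snd G X).left := univInj_snd G X h
      obtain ⟨V, hV, hxV, -⟩ := exists_isAffineOpen_mem_and_subset (X := X.left) (U := ⊤) (x := x) trivial
      refine ⟨V, hV, ?_⟩
      rintro _ ⟨r, hr, rfl⟩
      have es : (idn (G := G) (X := X)).left ≫ (snd G X).left = 𝟙 X.left := Γ.e_s
      have et : (idn (G := G) (X := X)).left ≫ a.act.left = 𝟙 X.left := Γ.e_t
      have h1 : r = (idn (G := G) (X := X)).left x := by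
        apply (snd G X).left.injective
        rw [← Scheme.Hom.comp_apply, es]
        exact hr
      subst h1
      change a.act.left ((idn (G := G) (X := X)).left x) ∈ V
      rw [← Scheme.Hom.comp_apply, et]
      exact hxV
  obtain ⟨Y, p, w, ⟨hc⟩, h1, h2, -⟩ := Groth.Agent.S4085.result S Γ hsnd hb
  obtain ⟨hp, hf⟩ := Groth.Agent.S4086.result S Γ hsnd hb Y p w hc
  let q : Y ⟶ S := Cofork.IsColimit.desc hc Γ.pU (Γ.t_over.trans Γ.s_over.symm)
  have hq : p ≫ q = Γ.pU := Cofork.IsColimit.π_desc' hc _ _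
  let m : X ⟶ Over.mk q := Over.homMk p hq
  have i1 : Flat m.left := hf.2.1
  have i2 : LocallyOfFinitePresentation m.left := hf.2.2
  have i3 : Surjective m.left := h2
  have h4 : IsPullback a.act (snd G X) m m :=
    IsPullback.of_map (Over.forget S) (Over.OverMorphism.ext w) hp
  refine ⟨Over.mk q, m, K612.QuotLem.isQuotient h4, hp, ?_⟩
  refine ⟨Presieve.singleton m.left, Scheme.Hom.singleton_mem_fppfPrecoverage m.left, ?_⟩
  rintro S' f ⟨⟩
  exact ⟨𝟙 _, Category.id_comp _⟩


end Groth.Agent.S10245
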