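import Groth.Statements.S10246
import Groth.Agent.AlgSp.K612.Chart

set_option autoImplicit false
universe u
open CategoryTheory CategoryTheory.Limits AlgebraicGeometry Topology TopologicalSpace
open AlgSp

namespace Groth.Agent.S10246

set_option backward.isDefEq.respectTransparency false

noncomputable def toAffine (T : Scheme.{u}) [IsAffine T] {Y : Scheme.{u}} (ψ : Γ(T, ⊤) ⟶ Γ(Y, ⊤)) : Y ⟶ T :=
  Y.toSpecΓ ≫ Spec.map ψ ≫ T.isoSpec.inv

theorem toAffine_appTop (T : Scheme.{u}) [IsAffine T] {Y : Scheme.{u}} (ψ : Γ(T, ⊤) ⟶ Γ(Y, ⊤)) :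
    (toAffine T ψ).appTop = ψ := by
  rw [toAffine, Scheme.Hom.comp_appTop, Scheme.Hom.comp_appTop, Scheme.toSpecΓ_appTop]
  have h : T.isoSpec.inv.appTop = (Scheme.ΓSpecIso Γ(T, ⊤)).inv := by
    rw [← cancel_mono (Scheme.ΓSpecIso Γ(T, ⊤)).hom, Iso.inv_hom_id]
    have := congrArg Scheme.Hom.appTop (Scheme.toSpecΓ_isoSpec_inv T)
    rw [Scheme.Hom.comp_appTop, Scheme.toSpecΓ_appTop] at this
    simpa using this
  rw [h, ← Scheme.ΓSpecIso_inv_naturality]
  simp

/-- Let X be an algebraic space over a terminal base scheme (so that morphisms over the base are all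
morphisms) and T an affine scheme. Then f ↦ f♯ is a bijection from morphisms X ⟶ T to ring maps Γ(T,
O_T) ⟶ Γ(X, O_X), where Γ(X, O_X) is the ring of global sections of the structure sheaf on the small
etale site and f♯ is characterised by: for every scheme U etale over X, following f♯ by the
restriction Γ(X, O_X) ⟶ Γ(U, O_U) gives the map on global sections of the induced morphism U ⟶ T. -/
theorem result {S : Scheme.{u}} (hS : IsTerminal S) (X : AlgSp.Space S)
    (T : Over S) [IsAffine T.left] (φ : Γ(T.left, ⊤) →+* ↥(AlgSp.gsectEt (AlgSp.OEt X.obj))) :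
    ∃! f : X.obj ⟶ (AlgSp.yon S).obj T,
      ∀ (E : AlgSp.EtOver X.obj) (r : Γ(T.left, ⊤)),
        ((limit.π (AlgSp.OEt X.obj).obj (Opposite.op E)) (φ r)).down =
          ((AlgSp.yon S).preimage (E.obj.hom ≫ f)).left.appTop r := by
  let ψ : ∀ E : AlgSp.EtOver X.obj, Γ(T.left, ⊤) →+* Γ(E.obj.left.left, ⊤) := fun E =>
    ((ULift.ringEquiv (R := Γ(E.obj.left.left, ⊤))).toRingHom.comp
      (limit.π (AlgSp.OEt X.obj).obj (Opposite.op E)).hom).comp φ
  have hψ : ∀ {E E' : AlgSp.EtOver X.obj} (g : E ⟶ E'),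
      g.hom.left.left.appTop.hom.comp (ψ E') = ψ E := by
    intro E E' g
    ext r
    have h := congrArg (fun k => k (φ r)) (limit.w (AlgSp.OEt X.obj).obj g.op)
    exact congrArg ULift.down h
  let b : ∀ E : AlgSp.EtOver X.obj, E.obj.left ⟶ T := fun E =>
    Over.homMk (toAffine T.left (CommRingCat.ofHom (ψ E))) (hS.hom_ext _ _)
  have hb : ∀ {E E' : AlgSp.EtOver X.obj} (g : E ⟶ E'), g.hom.left ≫ b E' = b E := by
    intro E E' g
    apply Over.OverMorphism.ext
    apply ext_of_isAffine
    change (g.hom.left.left ≫ toAffine T.left _).appTop = (toAffine T.left _).appTop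
    rw [Scheme.Hom.comp_appTop, toAffine_appTop, toAffine_appTop]
    exact CommRingCat.hom_ext (hψ g)
  obtain ⟨U, p, hp, hs⟩ := X.property.atlas
  obtain ⟨f, hf, hf'⟩ := K612.Chart.existsUnique_glue p hp hs (fun E => (AlgSp.yon S).map (b E)) (by
    intro E E' g
    change (AlgSp.yon S).map g.hom.left ≫ (AlgSp.yon S).map (b E') = (AlgSp.yon S).map (b E)
    rw [← Functor.map_comp, hb g])
  refine ⟨f, fun E r => ?_, fun f' h' => hf' f' fun E => ?_⟩
  · change ψ E r = _
    have h1 : (AlgSp.yon S).preimage (E.obj.hom ≫ f) = b E := by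
      apply (AlgSp.yon S).map_injective
      rw [Functor.map_preimage]
      exact hf E
    rw [h1]
    change ψ E r = (toAffine T.left (CommRingCat.ofHom (ψ E))).appTop r
    rw [toAffine_appTop]
    rfl
  · rw [← (AlgSp.yon S).map_preimage (E.obj.hom ≫ f')]
    congr 1
    apply Over.OverMorphism.ext
    apply ext_of_isAffine
    change _ = (toAffine T.left (CommRingCat.ofHom (ψ E))).appTop
    rw [toAffine_appTop]
    ext r
    exact (h' E r).symm


end Groth.Agent.S10246
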