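import Groth.Statements.S10247
import Groth.Agent.AlgSp.K612.Et

set_option autoImplicit false
universe u
open CategoryTheory CategoryTheory.Limits AlgebraicGeometry Topology TopologicalSpace
open AlgSp

namespace Groth.Agent.S10247

set_option backward.isDefEq.respectTransparency false

theorem isUnit_aux {S : Scheme.{u}} {X : Sp S} (U : AlgSp.EtOver X) (r : Γ(U.obj.left.left, ⊤))
    {V : AlgSp.EtOver X} (a : V ⟶ K612.Et.opn U (U.obj.left.left.basicOpen r)) :
    IsUnit ((a ≫ K612.Et.opnMap U (U.obj.left.left.basicOpen r)).hom.left.left.appTop.hom r) := by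
  have h : (a ≫ K612.Et.opnMap U (U.obj.left.left.basicOpen r)).hom.left.left =
    a.hom.left.left ≫ (U.obj.left.left.basicOpen r).ι := rfl
  rw [h, Scheme.Hom.comp_appTop]
  have h2 : IsUnit ((U.obj.left.left.basicOpen r).ι.appTop.hom r) := by
    refine RingedSpace.isUnit_of_isUnit_germ
      (↑(U.obj.left.left.basicOpen r) : Scheme.{u}).toRingedSpace ⊤ _ fun x hx => ?_
    refine (Scheme.mem_basicOpen_top _ _ x).1 ?_
    have h := Scheme.preimage_basicOpen_top (U.obj.left.left.basicOpen r).ι r
    refine h.le ?_
    exact x.2
  exact h2.map a.hom.left.left.appTop.hom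

/-- Let X be an algebraic space over a scheme S. Together with its structure sheaf O_X, the small etale
site of X is a locally ringed site: for every scheme U etale over X and every global function f on U
there is a covering sieve of U in the small etale site along each of whose arrows f or 1 - f pulls
back to a unit, and whenever 0 = 1 holds in the ring of global functions of U the empty sieve covers
U. -/
theorem result {S : Scheme.{u}} (X : AlgSp.Space S) :
    ModSite.IsLocallyRinged (AlgSp.etTop X.obj) (AlgSp.OEt X.obj) := by
  constructor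
  · intro U f
    let f₀ : Γ(U.obj.left.left, ⊤) := f.down
    let W : Bool → U.obj.left.left.Opens := fun b =>
      U.obj.left.left.basicOpen (if b then f₀ else 1 - f₀)
    refine ⟨_, K612.Et.sieve_opn_mem U W ?_, ?_⟩
    · refine TopologicalSpace.Opens.ext (Set.eq_univ_of_forall fun x => ?_)
      have h := IsLocalRing.isUnit_or_isUnit_one_sub_self
        (U.obj.left.left.presheaf.germ ⊤ x trivial f₀)
      refine TopologicalSpace.Opens.mem_iSup.2 ?_
      rcases h with h | h
      · exact ⟨true, (Scheme.mem_basicOpen_top _ _ _).2 h⟩
      · refine ⟨false, (Scheme.mem_basicOpen_top _ _ _).2 ?_⟩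
        simpa using h
    · rintro V g ⟨Z, a, b, ⟨i⟩, rfl⟩
      have key : IsUnit ((a ≫ K612.Et.opnMap U (W i)).hom.left.left.appTop.hom
          (if i then f₀ else 1 - f₀)) := isUnit_aux U _ a
      have key2 := key.map (ULift.ringEquiv (R := Γ(V.obj.left.left, ⊤))).symm.toRingHom
      cases i
      · exact Or.inr key2
      · exact Or.inl key2
  · intro U h
    have h' : (0 : Γ(U.obj.left.left, ⊤)) = 1 := congrArg ULift.down h
    have hU : IsEmpty U.obj.left.left := by
      refine ⟨fun x => ?_⟩
      have := congrArg (U.obj.left.left.presheaf.germ ⊤ x trivial).hom h'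
      rw [map_zero, map_one] at this
      exact zero_ne_one this
    have := ofArrows_mem_etTop (E := U) (ι := PEmpty.{1}) PEmpty.elim (fun i => i.elim) (fun x => hU.elim x)
    convert this
    ext V g
    simp only [Sieve.bot_apply, false_iff]
    rintro ⟨Z, a, b, ⟨i⟩, rfl⟩
    exact i.elim


end Groth.Agent.S10247
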