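import Groth.Statements.S10249
import Groth.Agent.AlgSp.K616.DimInv

set_option autoImplicit false
universe u
open CategoryTheory CategoryTheory.Limits AlgebraicGeometry Topology TopologicalSpace
open AlgSp

namespace Groth.Agent.S10249

/-- Let X and Y be algebraic spaces over a scheme S, f : X ⟶ Y an etale morphism and x ∈ |X| with image
y ∈ |Y|. Then (1) X at x and Y at y have the same dimension: for every d, some etale chart h_U ⟶ X
from a scheme U and some point u of U over x have local dimension d (of the topological space U at
u) if and only if the same holds for Y at y; and (2) the local rings of X at x and of Y at y have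
the same Krull dimension, in the same some-chart sense with the Krull dimension of the local ring of
U at u. -/
theorem result {S : Scheme.{u}} {X Y : AlgSp.Space S} (f : X ⟶ Y)
    (hf : AlgSp.IsEtaleMor f.hom) (x : AlgSp.Points X.obj) :
    (∀ d : WithBot ℕ∞,
        AlgSp.HasAt (fun U u => FlatMor.localDim ↥U u = d) X.obj x ↔
          AlgSp.HasAt (fun U u => FlatMor.localDim ↥U u = d) Y.obj (AlgSp.Points.map f.hom x)) ∧
    (∀ d : WithBot ℕ∞,
        AlgSp.HasAt (fun U u => ringKrullDim ↥(U.presheaf.stalk u) = d) X.obj x ↔
          AlgSp.HasAt (fun U u => ringKrullDim ↥(U.presheaf.stalk u) = d) Y.obj (AlgSp.Points.map f.hom x)) := by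
  obtain ⟨U, a, u, ha, hu⟩ := K616.Inv.exists_chart X.property x
  have hb := hf a ha
  have hv : Points.ofPt (a ≫ f.hom) u = Points.map f.hom x := by rw [← hu, Points.map_ofPt]
  constructor
  · intro d
    rw [K616.Inv.hasAt_iff' (K616.DimInv.etInvAt_localDim fun e => e = d) a ha u hu,
      K616.Inv.hasAt_iff' (K616.DimInv.etInvAt_localDim fun e => e = d) _ hb u hv]
  · intro d
    rw [K616.Inv.hasAt_iff' (K616.DimInv.etInvAt_stalkDim fun e => e = d) a ha u hu,
      K616.Inv.hasAt_iff' (K616.DimInv.etInvAt_stalkDim fun e => e = d) _ hb u hv]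

end Groth.Agent.S10249
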