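import Groth.Statements.S10254
import Groth.Agent.AlgSp.K611.AbStalk
import Groth.Agent.AlgSp.K612.Lift

set_option autoImplicit false
universe u
open CategoryTheory CategoryTheory.Limits AlgebraicGeometry Topology TopologicalSpace
open AlgSp

namespace Groth.Agent.S10254

/-- On the small etale site with scheme objects: let X be an algebraic space over a scheme S, F an
abelian sheaf on the small etale site of X, U an object of that site and σ ∈ F(U). Then there is an
open subset W of U such that: for every morphism φ : V ⟶ U of the site, σ|_V = 0 if and only if φ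
maps V into W (in particular W is the largest open subscheme of U on which σ restricts to zero); and
for every geometric point x̄ of X and every lift ū of x̄ to U, the image of σ in the stalk F_x̄
through the etale neighbourhood (U, ū) vanishes if and only if the point of U under ū lies in W.
(The published statement is for abelian sheaves on the site of algebraic spaces etale over X; this
row is its restriction to the site of schemes etale over X, where V ranges over schemes.) -/
theorem result {S : Scheme.{u}} (X : AlgSp.Space S) (F : AlgSp.AbEt X.obj)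
    (U : AlgSp.EtOver X.obj) (σ : ↥(F.obj.obj (Opposite.op U))) :
    ∃ W : TopologicalSpace.Opens ↥U.obj.left.left,
      (∀ (V : AlgSp.EtOver X.obj) (φ : V ⟶ U),
          (F.obj.map φ.op).hom σ = 0 ↔ Set.range (fun v => φ.hom.left.left v) ⊆ (W : Set ↥U.obj.left.left)) ∧
      (∀ p : AlgSp.FieldPt X.obj, p.IsGeometric → ∀ l : (AlgSp.FieldPt.liftsTo p).obj U,
          (AlgSp.stalkEtι p F ⟨U, l⟩).hom σ = 0 ↔ l.1.left (IsLocalRing.closedPoint p.K) ∈ W) := by
  have hc : ∀ (p : AlgSp.FieldPt X.obj) (hp : p.IsGeometric) (U : AlgSp.EtOver X.obj)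
      (σ : ↥(F.obj.obj (Opposite.op U))) (l : (AlgSp.FieldPt.liftsTo p).obj U),
      (K611.ptG X.property p hp).toPresheafFiber U l F.obj σ = 0 ↔
        ∃ (Y : EtOver X.obj) (f : Y ⟶ U)
        (y : (AlgSp.FieldPt.liftsTo p).obj Y), (AlgSp.FieldPt.liftsTo p).map f y = l ∧
          (F.obj.map f.op).hom σ = 0 := by
    intro p hp U σ l
    have := K611.pfc_ab.{u}
    have h1 := (K611.ptG X.property p hp).toPresheafFiber_eq_iff' (P := F.obj) U l σ 0
    refine Iff.trans ?_ (h1.trans ?_)
    · exact Eq.congr_right (map_zero ((K611.ptG X.property p hp).toPresheafFiber U l F.obj).hom).symm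
    · refine exists_congr fun Y => exists_congr fun f => exists_congr fun y =>
        and_congr Iff.rfl (Eq.congr_right (map_zero (F.obj.map f.op).hom))
  let R : Set (Σ V : EtOver X.obj, V ⟶ U) := {φ | (F.obj.map φ.2.op).hom σ = 0}
  let W : Set ↥U.obj.left.left := ⋃ φ ∈ R, Set.range (fun v => φ.2.hom.left.left v)
  have hW : IsOpen W := isOpen_biUnion fun φ _ => by
    have := EtOver.etale_left φ.2
    exact φ.2.hom.left.left.isOpenMap.isOpen_range
  have hmem : ∀ (V : AlgSp.EtOver X.obj) (φ : V ⟶ U), (F.obj.map φ.op).hom σ = 0 →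
      ∀ v, φ.hom.left.left v ∈ W := fun V φ h v =>
    Set.mem_iUnion₂.2 ⟨⟨V, φ⟩, h, v, rfl⟩
  have key : ∀ (p : AlgSp.FieldPt X.obj) (hp : p.IsGeometric) (l : (AlgSp.FieldPt.liftsTo p).obj U),
      (K611.ptG X.property p hp).toPresheafFiber U l F.obj σ = 0 ↔
        l.1.left (IsLocalRing.closedPoint p.K) ∈ W := by
    intro p hp l
    rw [hc]
    constructor
    · rintro ⟨Y, f, y, rfl, hf⟩
      exact hmem Y f hf _
    · intro h
      obtain ⟨⟨V, φ⟩, hφ, v, hv⟩ := Set.mem_iUnion₂.1 h
      have : IsAlgClosed p.K := hp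
      obtain ⟨m, hm⟩ := K612.Lift.exists_lift_of_point p inferInstance φ l v hv
      exact ⟨V, φ, m, hm, hφ⟩
  refine ⟨⟨W, hW⟩, fun V φ => ⟨?_, fun h => ?_⟩, fun p hp l => key p hp l⟩
  · rintro h _ ⟨v, rfl⟩
    exact hmem V φ h v
  · refine K611.section_ext_ab X.property F _ _ fun p hp x => ?_
    have h1 := (K611.ptG X.property p hp).toPresheafFiber_w_apply φ x F.obj σ
    refine h1.trans (Eq.trans ?_ (map_zero _).symm)
    exact (key p hp _).2 (h ⟨_, rfl⟩)

end Groth.Agent.S10254
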