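import Groth.Statements.S10263
import Groth.Agent.AlgSp.K613.Diag

set_option autoImplicit false
universe u
open CategoryTheory CategoryTheory.Limits AlgebraicGeometry
open AlgSp

namespace Groth.Agent.S10263

/-- If the composite X -> Y -> Z is unramified then X -> Y is unramified. -/
theorem result {S : Scheme.{u}} {X Y Z : AlgSp.Space S} (f : X ⟶ Y) (g : Y ⟶ Z)
    (h : AlgSp.LocP (@LocallyOfFiniteType ⊓ @FormallyUnramified) (f ≫ g).hom) :
    AlgSp.LocP (@LocallyOfFiniteType ⊓ @FormallyUnramified) f.hom := by
  intro U V a b h' ha hb w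
  obtain ⟨W, c, hc⟩ := K613.Chart.exists_ch Z.property
  -- `V' = V ×_Z W`
  obtain ⟨V', v, β, sqV⟩ := K613.Chart.exists_refine Z.property.diag g.hom b c
  have hv1 : Etale v.left := K613.Chart.prop_of_isPullback sqV hc.et
  have hv2 : Surjective v.left := K613.Chart.prop_of_isPullback sqV hc.surj
  have hvc : K613.Cover.EtC v := ⟨hv1, hv2⟩
  -- `U' = U ×_V V'`
  have sqU : IsPullback (pullback.fst h' v) (pullback.snd h' v) h' v := IsPullback.of_hasPullback _ _
  have hu : K613.Cover.EtC (pullback.fst h' v) := hvc.of_isPullback sqU.flip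
  have key := h ((AlgSp.yon S).map (pullback.fst h' v) ≫ a) c (pullback.snd h' v ≫ β)
    (MorphismProperty.comp_mem _ _ _ ((AlgSp.repWith_yon_map_iff _ _).2 hu.etale) ha) hc.et (by
      rw [ObjectProperty.FullSubcategory.comp_hom, Category.assoc, reassoc_of% w, ← Category.assoc,
        ← Functor.map_comp, sqU.w, Functor.map_comp, Functor.map_comp, Category.assoc, Category.assoc, sqV.w])
  have k1 : LocallyOfFiniteType ((pullback.snd h' v).left ≫ β.left) := key.1
  have k2 : FormallyUnramified ((pullback.snd h' v).left ≫ β.left) := key.2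
  have m1 : LocallyOfFiniteType (pullback.snd h' v).left := locallyOfFiniteType_of_comp _ β.left
  have m2 : FormallyUnramified (pullback.snd h' v).left := FormallyUnramified.of_comp _ β.left
  have sq' := sqU.map (Over.forget S)
  exact ⟨MorphismProperty.of_isPullback_of_descendsAlong (P := @LocallyOfFiniteType) (Q := K613.Cover.fppf) sq'.flip
      hvc.fpC.mem m1,
    MorphismProperty.of_isPullback_of_descendsAlong (P := @FormallyUnramified) (Q := K613.Cover.fppf) sq'.flip
      hvc.fpC.mem m2⟩

end Groth.Agent.S10263
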