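import Groth.Statements.S10266
import Groth.Agent.AlgSp.K613.Diag

set_option autoImplicit false
universe u
open CategoryTheory CategoryTheory.Limits AlgebraicGeometry
open AlgSp

namespace Groth.Agent.S10266

/-- A morphism of algebraic spaces that is locally of finite presentation, flat and unramified is etale. -/
theorem result {S : Scheme.{u}} {X Y : AlgSp.Space S} (f : X ⟶ Y)
    (h1 : AlgSp.LocP @LocallyOfFinitePresentation f.hom) (h2 : AlgSp.LocP @Flat f.hom)
    (h3 : AlgSp.LocP (@LocallyOfFiniteType ⊓ @FormallyUnramified) f.hom) :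
    AlgSp.IsEtaleMor f.hom := by
  intro U φ hφ
  obtain ⟨V, q, hq⟩ := K613.Chart.exists_ch Y.property
  obtain ⟨W, c, α, sq⟩ := K613.Chart.exists_refine Y.property.diag f.hom φ q
  have hc : Etale c.left := K613.Chart.prop_of_isPullback sq hq.et
  have hc' : AlgSp.RepWith @Etale ((AlgSp.yon S).map c ≫ φ) :=
    MorphismProperty.comp_mem _ _ _ ((AlgSp.repWith_yon_map_iff _ _).2 hc) hφ
  have hw : ((AlgSp.yon S).map c ≫ φ) ≫ f.hom = (AlgSp.yon S).map α ≫ q := by
    rw [Category.assoc]; exact sq.w
  have e1 : LocallyOfFinitePresentation α.left := h1 _ q α hc' hq.et hw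
  have e2 : Flat α.left := h2 _ q α hc' hq.et hw
  have e3 := h3 _ q α hc' hq.et hw
  have e4 : FormallyUnramified α.left := e3.2
  have e5 : Etale α.left := Etale.of_formallyUnramified_of_flat α.left
  exact hq.fSurj.repWith sq (Y.property.representable_from_yon _) ((AlgSp.repWith_yon_map_iff _ _).2 e5)

end Groth.Agent.S10266
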