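import Groth.Statements.S10269
import Groth.Agent.AlgSp.K597.Proper

set_option autoImplicit false
universe u
open CategoryTheory CategoryTheory.Limits AlgebraicGeometry
open AlgSp

namespace Groth.Agent.S10269

set_option backward.isDefEq.respectTransparency false
set_option backward.isDefEq.respectTransparency.types false

/-- A finite morphism of algebraic spaces is integral; an integral morphism locally of finite type is
finite. -/
theorem result {S : Scheme.{u}} {X Y : AlgSp.Space S} (f : X ⟶ Y) :
    (AlgSp.IsFiniteMor f.hom → AlgSp.IsIntegralMor f.hom) ∧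
    (AlgSp.IsIntegralMor f.hom → AlgSp.LocP @LocallyOfFiniteType f.hom → AlgSp.IsFiniteMor f.hom) := by
  rw [K617.FinLoc.isFiniteMor_iff, K617.FinLoc.isIntegralMor_iff]
  refine ⟨fun h => K597.repWith_mono (fun _ _ f (hf : IsFinite f) => (inferInstance : IsIntegralHom f)) h,
    fun h1 h2 => ?_⟩
  have h3 : RepWith @LocallyOfFiniteType f.hom :=
    K597.repWith_of_locP K597.etLoc_lft Y.property.hasAtlas h1.1 h2
  refine ⟨h1.1, fun U V g fst snd sq => ?_⟩
  have e1 : IsIntegralHom snd.left := h1.2 g fst snd sq
  have e2 : LocallyOfFiniteType snd.left := h3.2 g fst snd sq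
  exact (IsFinite.iff_isIntegralHom_and_locallyOfFiniteType _).2 ⟨e1, e2⟩

end Groth.Agent.S10269
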