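import Groth.Statements.S10281
import Groth.Agent.AlgSp.K597.ProperCancel

set_option autoImplicit false
universe u
open CategoryTheory CategoryTheory.Limits AlgebraicGeometry
open AlgSp

namespace Groth.Agent.S10281

/-- The scheme theoretic image of a space proper over B in a space separated and locally of finite type
over B is proper over B, and the source surjects onto it. -/
theorem result {S : Scheme.{u}} {X Y Z B : AlgSp.Space S} (h : X ⟶ Y) (f : X ⟶ B)
    (g : Y ⟶ B) (comm : h ≫ g = f) (hf : AlgSp.IsProperMor f.hom) (hg : AlgSp.IsSeparatedMor g.hom)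
    (hg' : AlgSp.LocP @LocallyOfFiniteType g.hom) (i : Z ⟶ Y) (hZ : AlgSp.IsSchImage h.hom i.hom)
    (h' : X ⟶ Z) (fac : h' ≫ i = h) :
    AlgSp.IsProperMor (i ≫ g).hom ∧ AlgSp.IsSurjectiveMor h'.hom := by
  have hs := K597.ProperCancel.surjective_onto_schImage h f g comm hf.2.2 hg i hZ h' fac
  refine ⟨?_, hs⟩
  have e : h' ≫ i ≫ g = f := by rw [← Category.assoc, fac, comm]
  have hig : AlgSp.IsSeparatedMor (i ≫ g).hom :=
    K595.DiagRel.isSeparatedMor_isMultiplicative.comp_mem _ _ (K597.ProperSub.isSeparatedMor_of_closed hZ.1) hg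
  have hp : AlgSp.IsProperMor (h' ≫ (i ≫ g)).hom := by rw [e]; exact hf
  refine K597.ProperSub.isProperMor_of_surjective h' (i ≫ g) hs ?_ ?_ hp
  · exact K597.ProperSub.isUnivClosedMor_of_comp (g := (i ≫ g).hom) X.property Z.property B.property hp.2.2 hig
  · exact K597.locP_comp K597.etLoc_lft Z.property.hasAtlas Y.property.hasAtlas B.property.hasAtlas
      (K597.ProperSub.locP_lft_of_closed hZ.1) hg'

end Groth.Agent.S10281
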