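import Groth.Statements.S10294
import Groth.Agent.AlgSp.K617.FinLoc
import Groth.Agent.AlgSp.K621.Charts
import Groth.Agent.AlgSp.K597.EtLoc
import Groth.Agent.AlgSp.K597.LocP
import Groth.Agent.LoccohB.RightAdj2

set_option autoImplicit false
universe u
open CategoryTheory CategoryTheory.Limits AlgebraicGeometry
open AlgSp

namespace Groth.Agent.S10294

/-- Finite locally free is the same as finite, flat and locally of finite presentation; over a locally
Noetherian target it is the same as finite and flat. -/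
theorem result {S : Scheme.{u}} {X Y : AlgSp.Space S} (f : X ⟶ Y) :
    (AlgSp.IsFinLocFreeMor f.hom ↔
      (AlgSp.IsFiniteMor f.hom ∧ AlgSp.LocP @Flat f.hom ∧ AlgSp.LocP @LocallyOfFinitePresentation f.hom)) ∧
    (AlgSp.IsLocNoethSp Y.obj →
      (AlgSp.IsFinLocFreeMor f.hom ↔ (AlgSp.IsFiniteMor f.hom ∧ AlgSp.LocP @Flat f.hom))) := by
  have key : AlgSp.IsFinLocFreeMor f.hom ↔
      (AlgSp.IsFiniteMor f.hom ∧ AlgSp.LocP @Flat f.hom ∧ AlgSp.LocP @LocallyOfFinitePresentation f.hom) := by
    constructor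
    · intro h
      have h1 : AlgSp.RepWith @IsFinite f.hom := K610.Base.repWith_mono inf_le_left h
      have h2 : AlgSp.RepWith @Flat f.hom := K610.Base.repWith_mono (inf_le_right.trans inf_le_left) h
      have h3 : AlgSp.RepWith @LocallyOfFinitePresentation f.hom :=
        K610.Base.repWith_mono (inf_le_right.trans inf_le_right) h
      exact ⟨K617.FinLoc.isFiniteMor_iff.2 h1, K597.locP_of_repWith K597.etLoc_flat.precomp h2,
        K597.locP_of_repWith K597.etLoc_lfp.precomp h3⟩
    · rintro ⟨h1, h2, h3⟩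
      have h1' := K617.FinLoc.isFiniteMor_iff.1 h1
      have h2' := K597.repWith_of_locP K597.etLoc_flat Y.property.atlas h1'.1 h2
      have h3' := K597.repWith_of_locP K597.etLoc_lfp Y.property.atlas h1'.1 h3
      exact ⟨h1'.1, fun _ _ g fst snd sq => ⟨h1'.2 g fst snd sq, h2'.2 g fst snd sq, h3'.2 g fst snd sq⟩⟩
  refine ⟨key, fun hY => ⟨fun h => ⟨(key.1 h).1, (key.1 h).2.1⟩, fun ⟨h1, h2⟩ => key.2 ⟨h1, h2, ?_⟩⟩⟩
  have h4 : AlgSp.RepWith @LocallyOfFiniteType f.hom := by
    refine K610.Base.repWith_mono ?_ (K617.FinLoc.isFiniteMor_iff.1 h1)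
    intro _ _ g hg
    have : IsFinite g := hg
    exact (inferInstance : LocallyOfFiniteType g)
  have h5 : AlgSp.LocP @LocallyOfFiniteType f.hom := K597.locP_of_repWith K597.etLoc_lft.precomp h4
  intro U V a b g ha hb comm
  have h6 : LocallyOfFiniteType g.left := h5 a b g ha hb comm
  have h7 : IsLocallyNoetherian V.left := K621.Charts.isLocallyNoetherian_chart hY hb
  exact LoccohB.RightAdj2.locallyOfFinitePresentation_of_isLocallyNoetherian g.left

end Groth.Agent.S10294
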