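import Groth.Statements.S10296
import Groth.Agent.AlgSp.K615.Int

set_option autoImplicit false
universe u
open CategoryTheory CategoryTheory.Limits AlgebraicGeometry
open AlgSp

namespace Groth.Agent.S10296

/-- The induced morphism from the normalization of X in Y to any integral Z -> X through which Y -> X
factors is the normalization of Z in Y. -/
theorem result {S : Scheme.{u}} {Y X X' Z : AlgSp.Space S} (f : Y ⟶ X)
    (hqc : AlgSp.IsQuasiCompactMor f.hom) (hqs : AlgSp.IsQuasiSeparatedMor f.hom) (ν : X' ⟶ X) (f' : Y ⟶ X')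
    (hn : AlgSp.IsRelNormalization f.hom ν.hom f'.hom) (π : Z ⟶ X) (hπ : AlgSp.IsIntegralMor π.hom) (g : Y ⟶ Z)
    (hg : g ≫ π = f) (h : X' ⟶ Z) (h1 : f' ≫ h = g) (h2 : h ≫ π = ν) :
    AlgSp.IsRelNormalization g.hom h.hom f'.hom := by
  have hg' : g.hom ≫ π.hom = f.hom := congrArg (fun k => k.hom) hg
  have h1' : f'.hom ≫ h.hom = g.hom := congrArg (fun k => k.hom) h1
  have h2' : h.hom ≫ π.hom = ν.hom := congrArg (fun k => k.hom) h2
  obtain ⟨hn1, hn2, hn3⟩ := hn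
  refine ⟨h1', K615.Int.of_comp _ π.hom (by rw [h2']; exact hn2) hπ, ?_⟩
  intro W hW p k hp hk
  obtain ⟨m, ⟨hm1, hm2⟩, hm3⟩ := hn3 hW (p ≫ π.hom) k (K615.Int.comp _ _ hp hπ) (by
    rw [← Category.assoc, hk, hg'])
  obtain ⟨m', -, hm'⟩ := hn3 Z.property π.hom g.hom hπ hg'
  refine ⟨m, ⟨hm1, ?_⟩, fun m₂ hm₂ => hm3 m₂ ⟨hm₂.1, ?_⟩⟩
  · rw [hm' h.hom ⟨h1', h2'⟩]
    refine hm' _ ⟨?_, ?_⟩
    · rw [← Category.assoc, hm1, hk]
    · rw [Category.assoc, hm2]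
  · rw [← Category.assoc, hm₂.2, h2']

end Groth.Agent.S10296
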