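import Groth.Statements.S10302
import Groth.Agent.AlgSp.K616.Inv
import Groth.Agent.AlgSp.K616.DimInv
import Groth.Agent.AlgSp.K610.CodimZero

set_option autoImplicit false
universe u
open CategoryTheory CategoryTheory.Limits AlgebraicGeometry
open AlgSp

namespace Groth.Agent.S10302

/-- A flat morphism of algebraic spaces maps points of codimension 0 to points of codimension 0. -/
theorem result {S : Scheme.{u}} {X Y : AlgSp.Space S} (f : X ⟶ Y) (hf : AlgSp.LocP @Flat f.hom)
    (x : AlgSp.Points X.obj) (hx : AlgSp.HasAt (fun U u => ringKrullDim ↥(U.presheaf.stalk u) = 0) X.obj x) :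
    AlgSp.HasAt (fun U u => ringKrullDim ↥(U.presheaf.stalk u) = 0) Y.obj (AlgSp.Points.map f.hom x) := by
  obtain ⟨U, V, a, b, h, u, ha, hb, w, rfl⟩ := K616.Inv.exists_diagram X.property Y.property f.hom x
  have h1 := (K616.Inv.hasAt_iff (K616.DimInv.etInvAt_stalkDim fun d => d = 0) a ha u).1 hx
  have h2 : Flat h.left := hf a b h ha hb w
  refine ⟨V, b, h.left u, hb, ?_, ?_⟩
  · rw [Points.map_ofPt, w, K616.Refine.ofPt_comp]
  · rw [K610.CodimZero.ringKrullDim_eq_zero_iff] at h1 ⊢
    intro y hy
    obtain ⟨x', hx', rfl⟩ := Flat.generalizingMap h.left hy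
    exact (h1 x' hx').map h.left.continuous

end Groth.Agent.S10302
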