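import Groth.Statements.S10304
import Groth.Agent.AlgSp.K616.LocFin
import Groth.Agent.AlgSp.K616.LocNoeth
import Groth.Agent.AlgSp.K616.DimInv
import Groth.Agent.AlgSp.K609.Points

set_option autoImplicit false
universe u
open CategoryTheory CategoryTheory.Limits AlgebraicGeometry
open AlgSp

namespace Groth.Agent.S10304

/-- Equivalent forms of the condition that the schemes etale over X have locally finitely many
irreducible components: one etale surjective chart, every etale chart, finiteness of codimension-0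
points of quasi-compact spaces etale over X, finiteness of irreducible components of such spaces. -/
theorem result {S : Scheme.{u}} (X : AlgSp.Space S) :
    (AlgSp.EtaleLocally (fun U => ∀ W : U.Opens, IsCompact (W : Set ↥U) → (irreducibleComponents ↥W).Finite) X.obj ↔
      ∀ (U : Over S) (a : (AlgSp.yon S).obj U ⟶ X.obj), AlgSp.RepWith @Etale a →
        ∀ W : U.left.Opens, IsCompact (W : Set ↥U.left) → (irreducibleComponents ↥W).Finite) ∧
    (AlgSp.EtaleLocally (fun U => ∀ W : U.Opens, IsCompact (W : Set ↥U) → (irreducibleComponents ↥W).Finite) X.obj ↔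
      ∀ (Y : AlgSp.Space S) (g : Y ⟶ X), AlgSp.IsEtaleMor g.hom → AlgSp.IsQuasiCompactSp Y.obj →
        {y : AlgSp.Points Y.obj |
          AlgSp.HasAt (fun U u => ringKrullDim ↥(U.presheaf.stalk u) = 0) Y.obj y}.Finite) ∧
    (AlgSp.EtaleLocally (fun U => ∀ W : U.Opens, IsCompact (W : Set ↥U) → (irreducibleComponents ↥W).Finite) X.obj ↔
      ∀ (Y : AlgSp.Space S) (g : Y ⟶ X), AlgSp.IsEtaleMor g.hom → AlgSp.IsQuasiCompactSp Y.obj →
        (irreducibleComponents (AlgSp.Points Y.obj)).Finite) := by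
  have h1 : EtaleLocally K616.LocFin.LFC X.obj → ∀ (U : Over S) (a : (AlgSp.yon S).obj U ⟶ X.obj),
      AlgSp.RepWith @Etale a → K616.LocFin.LFC U.left := fun hX U a ha =>
    K616.LocNoeth.chart_of_etaleLocally (P := K616.LocFin.LFC)
      (fun _ _ f _ h => K616.LocFin.lfc_of_flat_lft f h)
      (fun _ _ f _ _ h => K616.LocFin.lfc_of_etale_surjective f h) hX a ha
  have h1' : (∀ (U : Over S) (a : (AlgSp.yon S).obj U ⟶ X.obj),
      AlgSp.RepWith @Etale a → K616.LocFin.LFC U.left) → EtaleLocally K616.LocFin.LFC X.obj := by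
    intro H
    obtain ⟨U, a, ha, has⟩ := X.property.atlas
    exact ⟨U, a, ha, has, H U a ha⟩
  have hcomp : ∀ {Y : AlgSp.Space S} (g : Y ⟶ X), AlgSp.IsEtaleMor g.hom → AlgSp.IsQuasiCompactSp Y.obj →
      EtaleLocally K616.LocFin.LFC X.obj → ∃ (U : Over S) (a : (AlgSp.yon S).obj U ⟶ Y.obj),
        RepWith @Etale a ∧ Function.Surjective (Points.ofPt a) ∧ (irreducibleComponents ↥U.left).Finite := by
    intro Y g hg hY hX
    obtain ⟨U, a, ha, has, hU⟩ := hY
    refine ⟨U, a, ha, K616.Refine.ofPt_surjective a has, ?_⟩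
    have h2 := h1 hX U (a ≫ g.hom) (hg a ha) ⊤ isCompact_univ
    exact Groth.Agent.S13834.finite_of_isOpenEmbedding (fun u : U.left => (⟨u, trivial⟩ : (⊤ : U.left.Opens)))
      (Homeomorph.Set.univ U.left).symm.isOpenEmbedding h2
  have hdn : ∀ (U : Over S) (a : (AlgSp.yon S).obj U ⟶ X.obj) (ha : AlgSp.RepWith @Etale a)
      (W : U.left.Opens), IsCompact (W : Set ↥U.left) → ∃ (T : Over S) (hT : T.left = W.toScheme)
        (g : (AlgSp.ofScheme S).obj T ⟶ X), IsEtaleMor g.hom ∧
          IsQuasiCompactSp ((AlgSp.ofScheme S).obj T).obj := by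
    intro U a ha W hW
    let T : Over S := Over.mk (W.ι ≫ U.hom)
    let i : T ⟶ U := Over.homMk W.ι rfl
    have hi : Etale i.left := inferInstanceAs (Etale W.ι)
    have hia : RepWith @Etale ((yon S).map i ≫ a) :=
      (RepWith (S := S) @Etale).comp_mem _ _ ((repWith_yon_map_iff @Etale i).2 hi) ha
    refine ⟨T, rfl, ObjectProperty.homMk ((yon S).map i ≫ a), ?_, ?_⟩
    · intro R φ hφ
      exact (RepWith (S := S) @Etale).comp_mem _ _ hφ hia
    · exact ⟨T, 𝟙 _, repWith_id _ _, repWith_id _ _, isCompact_iff_compactSpace.1 hW⟩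
  refine ⟨⟨fun hX U a ha W hW => h1 hX U a ha W hW, fun H => h1' fun U a ha W hW => H U a ha W hW⟩,
    ⟨fun hX Y g hg hY => ?_, fun H => h1' fun U a ha W hW => ?_⟩,
    ⟨fun hX Y g hg hY => ?_, fun H => h1' fun U a ha W hW => ?_⟩⟩
  · obtain ⟨U, a, ha, hs, hfin⟩ := hcomp g hg hY hX
    rw [K616.LocFin.finite_irreducibleComponents_iff] at hfin
    refine (hfin.image (Points.ofPt a)).subset ?_
    intro y hy
    obtain ⟨u, rfl⟩ := hs y
    exact ⟨u, (K616.Inv.hasAt_iff (K616.DimInv.etInvAt_stalkDim fun d => d = 0) a ha u).1 hy, rfl⟩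
  · obtain ⟨T, hT, g, hg, hc⟩ := hdn U a ha W hW
    have h2 := H _ g hg hc
    have h3 : (irreducibleComponents ↥T.left).Finite := by
      rw [K616.LocFin.finite_irreducibleComponents_iff]
      refine Set.Finite.of_finite_image (f := Points.schemeHomeo T) (h2.subset ?_)
        (Points.schemeHomeo T).injective.injOn
      rintro _ ⟨t, ht, rfl⟩
      refine ⟨T, 𝟙 _, t, repWith_id _ _, ?_, ht⟩
      exact (Points.ofPt_eq_map_ofScheme (𝟙 ((yon S).obj T)) t).trans (Points.map_id (Points.ofScheme T t))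
    rw [hT] at h3
    exact h3
  · obtain ⟨U, a, ha, hs, hfin⟩ := hcomp g hg hY hX
    exact K616.LocFin.finite_of_images (ι := Unit) (V := fun _ => ↥U.left) (fun _ => Points.ofPt a)
      (fun _ => Points.continuous_ofPt a) (fun x => ⟨(), hs x⟩) (fun _ => hfin)
  · obtain ⟨T, hT, g, hg, hc⟩ := hdn U a ha W hW
    have h2 := H _ g hg hc
    have h3 : (irreducibleComponents ↥T.left).Finite :=
      Groth.Agent.S13834.finite_of_isOpenEmbedding _ (Points.schemeHomeo T).isOpenEmbedding h2
    rw [hT] at h3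
    exact h3

end Groth.Agent.S10304
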