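import Groth.Statements.S10307
import Groth.Agent.AlgSp.K617.IntBC
import Groth.Agent.AlgSp.K615.UnivInj
-- import your own Groth.Agent.* helpers here

set_option autoImplicit false
universe u
open CategoryTheory CategoryTheory.Limits AlgebraicGeometry
open AlgSp

namespace Groth.Agent.S10307

/-- For an integral universally injective morphism f of algebraic spaces, f_* on small etale sites is
fully faithful on sheaves of sets and on abelian sheaves, and the counit from the pullback of the
pushforward to the identity is an isomorphism. (The description of the essential image is not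
included here.) -/
theorem result {S : Scheme.{u}} {Y X : AlgSp.Space S} (f : Y ⟶ X)
    (hi : AlgSp.RepWith @IsIntegralHom f.hom) (hu : AlgSp.IsUnivInjectiveMor f.hom) :
    ((AlgSp.pushEt hi.1 (Type (u + 1))).Full ∧ (AlgSp.pushEt hi.1 (Type (u + 1))).Faithful) ∧
    ((AlgSp.pushEt hi.1 AddCommGrpCat.{u + 1}).Full ∧ (AlgSp.pushEt hi.1 AddCommGrpCat.{u + 1}).Faithful) ∧
    IsIso (AlgSp.pullPushAdjEt hi.1 (Type (u + 1))).counit := by
  have hu' := K615.UnivInj.repWith_universallyInjective hi.1 hu
  have h1 : (EtOver.bc hi.1).IsCoverDense (etTop Y.obj) := K617.IntBC.isCoverDense_bc hi hu' X.property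
  have h2 : (EtOver.bc hi.1).IsLocallyFull (etTop Y.obj) := K617.IntBC.isLocallyFull_bc hi hu'
  have h3 : (AlgSp.pushEt hi.1 (Type (u + 1))).Full := inferInstance
  have h4 : (AlgSp.pushEt hi.1 (Type (u + 1))).Faithful := inferInstance
  exact ⟨⟨h3, h4⟩, ⟨inferInstance, inferInstance⟩, inferInstance⟩

end Groth.Agent.S10307
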