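import Groth.Statements.S10309
import Groth.Agent.AlgSp.K616.Loci
import Groth.Agent.AlgSp.K616.DimInv
import Groth.Agent.S9355

set_option autoImplicit false
universe u
open CategoryTheory CategoryTheory.Limits AlgebraicGeometry
open AlgSp

namespace Groth.Agent.S10309

/-- For f locally of finite presentation, the locus where the relative dimension is at most n is
retrocompact in |X|. -/
theorem result {S : Scheme.{u}} {X Y : AlgSp.Space S} (f : X ⟶ Y)
    (hf : AlgSp.LocP @LocallyOfFinitePresentation f.hom) (n : ℕ) (V : Set (AlgSp.Points X.obj))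
    (hV : IsOpen V) (hVc : IsCompact V) :
    IsCompact (V ∩ {x : AlgSp.Points X.obj |
      AlgSp.HasAtMor (fun _ _ h u => FlatMor.fibreDimAt h u ≤ (n : WithBot ℕ∞)) f.hom x}) := by
  refine K616.Loci.isCompact_inter_hasAtMor (P := @LocallyOfFinitePresentation)
    (Q := fun _ _ h u => FlatMor.fibreDimAt h u ≤ (n : WithBot ℕ∞)) ?_ ?_ X.property Y.property hf V hV hVc
  · intro U V U' V' h h' p q _ _ hh hh' w u
    have h1 : LocallyOfFiniteType h := by
      have : LocallyOfFinitePresentation h := hh
      infer_instance
    have h2 : LocallyOfFiniteType h' := by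
      have : LocallyOfFinitePresentation h' := hh'
      infer_instance
    exact K616.DimInv.etInvOn_fibreDimAt (fun d => d ≤ (n : WithBot ℕ∞)) h h' p q h1 h2 w u
  · intro U V h hh
    have : LocallyOfFinitePresentation h := hh
    exact Groth.Agent.S9355.result h n

end Groth.Agent.S10309
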