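import Groth.Statements.S10311
import Groth.Agent.AlgSp.K616.DimInv
import Groth.Agent.AlgSp.K616.BaseChange

set_option autoImplicit false
universe u
open CategoryTheory CategoryTheory.Limits AlgebraicGeometry
open AlgSp

namespace Groth.Agent.S10311

/-- The relative dimension at a point of a morphism locally of finite type is preserved by base change. -/
theorem result {S : Scheme.{u}} {X Y Y' X' : AlgSp.Space S} (f : X ⟶ Y) (g : Y' ⟶ Y)
    (g' : X' ⟶ X) (f' : X' ⟶ Y') (sq : IsPullback g'.hom f'.hom f.hom g.hom)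
    (hf : AlgSp.LocP @LocallyOfFiniteType f.hom) (x' : AlgSp.Points X'.obj) (d : WithBot ℕ∞)
    (hd : AlgSp.HasAtMor (fun _ _ h u => FlatMor.fibreDimAt h u = d) f.hom (AlgSp.Points.map g'.hom x')) :
    AlgSp.HasAtMor (fun _ _ h u => FlatMor.fibreDimAt h u = d) f'.hom x' := by
  obtain ⟨U, V, U', V', h, k, p, q, a, b, a', b', u', sq', ha, hb, ha', hb', w, w', h1, h2, hu', hu⟩ :=
    K616.BaseChange.exists_cartesian_diagram X.property Y.property Y'.property X'.property sq x'
  rw [K616.Inv.hasAtMor_iff' (K616.DimInv.etInvOn_fibreDimAt fun e => e = d) hf a b h ha hb w _ hu] at hd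
  refine ⟨U', V', a', b', q, u', ha', hb', h2, hu', ?_⟩
  have h3 : LocallyOfFiniteType h.left := hf a b h ha hb w
  have h4 : IsPullback p.left q.left h.left k.left := sq'.map (Over.forget S)
  exact (Groth.Agent.Ega4fib.H172.FibDimBC.fibreDimAt_of_isPullback h4 u').trans hd

end Groth.Agent.S10311
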