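import Groth.Statements.S10314
import Groth.Agent.AlgSp.K616.FlatDim
import Groth.Agent.AlgSp.K616.LocNoeth
import Groth.Agent.AlgSp.K616.DimInv

set_option autoImplicit false
universe u
open CategoryTheory CategoryTheory.Limits AlgebraicGeometry
open AlgSp

namespace Groth.Agent.S10314

/-- For a flat morphism locally of finite type of relative dimension d between locally Noetherian
algebraic spaces, the dimension of X at a point equals the dimension of Y at the image point plus d. -/
theorem result {S : Scheme.{u}} {X Y : AlgSp.Space S} (f : X ⟶ Y)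
    (hX : AlgSp.IsLocNoethSp X.obj) (hY : AlgSp.IsLocNoethSp Y.obj) (hf : AlgSp.LocP @Flat f.hom)
    (hf' : AlgSp.LocP @LocallyOfFiniteType f.hom) (d : ℕ)
    (hd : ∀ x : AlgSp.Points X.obj, AlgSp.HasAtMor (fun _ _ h u => FlatMor.fibreDimAt h u = (d : WithBot ℕ∞)) f.hom x)
    (x : AlgSp.Points X.obj) (dX dY : WithBot ℕ∞) (hx : AlgSp.HasAt (fun U u => FlatMor.localDim ↥U u = dX) X.obj x)
    (hy : AlgSp.HasAt (fun U u => FlatMor.localDim ↥U u = dY) Y.obj (AlgSp.Points.map f.hom x)) :
    dX = dY + (d : WithBot ℕ∞) := by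
  obtain ⟨U, V, a, b, h, u, ha, hb, w, rfl⟩ := K616.Inv.exists_diagram X.property Y.property f.hom x
  have h1 : Flat h.left := hf a b h ha hb w
  have h2 : LocallyOfFiniteType h.left := hf' a b h ha hb w
  have hU : IsLocallyNoetherian U.left := K616.LocNoeth.isLocallyNoetherian_chart hX a ha
  have hV : IsLocallyNoetherian V.left := K616.LocNoeth.isLocallyNoetherian_chart hY b hb
  have hw : Points.map f.hom (Points.ofPt a u) = Points.ofPt b (h.left u) := by
    rw [Points.map_ofPt, w, K616.Refine.ofPt_comp]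
  rw [hw] at hy
  have h3 := (K616.Inv.hasAt_iff (K616.DimInv.etInvAt_localDim fun d => d = dX) a ha u).1 hx
  have h4 := (K616.Inv.hasAt_iff (K616.DimInv.etInvAt_localDim fun d => d = dY) b hb (h.left u)).1 hy
  have h5 := K616.FlatDim.localDim_eq_of_flat h.left d (fun u =>
    (K616.Inv.hasAtMor_iff (K616.DimInv.etInvOn_fibreDimAt fun e => e = (d : WithBot ℕ∞)) hf' a b h ha hb w u).1
      (hd _)) u
  rw [h3, h4] at h5
  exact h5

end Groth.Agent.S10314
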