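import Groth.Statements.S10315
import Groth.Agent.AlgSp.K616.SmoothDim
import Groth.Agent.AlgSp.K616.LocNoeth
import Groth.Agent.AlgSp.K616.DimInv

set_option autoImplicit false
universe u
open CategoryTheory CategoryTheory.Limits AlgebraicGeometry
open AlgSp

namespace Groth.Agent.S10315

/-- For a smooth morphism of locally Noetherian algebraic spaces, the dimension of X at x is the
dimension of Y at the image of x plus the relative dimension of f at x. -/
theorem result {S : Scheme.{u}} {X Y : AlgSp.Space S} (f : X ⟶ Y)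
    (hX : AlgSp.IsLocNoethSp X.obj) (hY : AlgSp.IsLocNoethSp Y.obj) (hf : AlgSp.LocP @Smooth f.hom)
    (x : AlgSp.Points X.obj) (d dX dY : WithBot ℕ∞)
    (hd : AlgSp.HasAtMor (fun _ _ h u => FlatMor.fibreDimAt h u = d) f.hom x)
    (hx : AlgSp.HasAt (fun U u => FlatMor.localDim ↥U u = dX) X.obj x)
    (hy : AlgSp.HasAt (fun U u => FlatMor.localDim ↥U u = dY) Y.obj (AlgSp.Points.map f.hom x)) :
    dX = dY + d := by
  obtain ⟨U, V, a, b, h, u, ha, hb, w, rfl, hd'⟩ := hd
  have h1 : Smooth h.left := hf a b h ha hb w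
  have hU : IsLocallyNoetherian U.left := K616.LocNoeth.isLocallyNoetherian_chart hX a ha
  have hV : IsLocallyNoetherian V.left := K616.LocNoeth.isLocallyNoetherian_chart hY b hb
  have hw : Points.map f.hom (Points.ofPt a u) = Points.ofPt b (h.left u) := by
    rw [Points.map_ofPt, w, K616.Refine.ofPt_comp]
  rw [hw] at hy
  have h2 := (K616.Inv.hasAt_iff (K616.DimInv.etInvAt_localDim fun d => d = dX) a ha u).1 hx
  have h3 := (K616.Inv.hasAt_iff (K616.DimInv.etInvAt_localDim fun d => d = dY) b hb (h.left u)).1 hy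
  have h4 := K616.SmoothDim.localDim_eq_of_smooth h.left u
  rw [h2, h3, hd'] at h4
  exact h4

end Groth.Agent.S10315
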