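import Groth.Statements.S10316
import Groth.Agent.AlgSp.K616.DimInv

set_option autoImplicit false
universe u
open CategoryTheory CategoryTheory.Limits AlgebraicGeometry
open AlgSp

namespace Groth.Agent.S10316

/-- For X -> Y locally quasi-finite and Y -> Z locally of finite type, the transcendence degree of x
over Z equals that of its image y over Z. -/
theorem result {S : Scheme.{u}} {X Y Z : AlgSp.Space S} (f : X ⟶ Y) (g : Y ⟶ Z)
    (hf : AlgSp.LocP (@LocallyQuasiFinite ⊓ @LocallyOfFiniteType) f.hom) (hg : AlgSp.LocP @LocallyOfFiniteType g.hom)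
    (x : AlgSp.Points X.obj) (r : Cardinal.{u}) :
    AlgSp.HasAtMor (fun _ _ h u => Dual3.resTrdeg h u = r) (f ≫ g).hom x ↔
      AlgSp.HasAtMor (fun _ _ h u => Dual3.resTrdeg h u = r) g.hom (AlgSp.Points.map f.hom x) := by
  obtain ⟨U, V, W, a, b, c, h, k, u, ha, hb, hc, w, w', hu, hv⟩ :=
    K616.Inv.exists_diagram_comp X.property Y.property Z.property f.hom g.hom x
  have h1 : LocallyQuasiFinite h.left := (hf a b h ha hb w).1
  have h2 : LocallyOfFiniteType h.left := (hf a b h ha hb w).2
  rw [K616.Inv.hasAtMor_iff' (K616.DimInv.etInvOn_resTrdeg fun s => s = r) (K616.Inv.locP_top g.hom)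
    b c k hb hc w' (h.left u) hv,
    K616.Inv.hasAtMor_iff' (K616.DimInv.etInvOn_resTrdeg fun s => s = r) (K616.Inv.locP_top (f ≫ g).hom)
    a c (h ≫ k) ha hc (K616.Inv.comp_diagram w w') u hu]
  have h3 : Dual3.resTrdeg (h ≫ k).left u = Dual3.resTrdeg k.left (h.left u) + Dual3.resTrdeg h.left u :=
    K616.DimInv.resTrdeg_comp h.left k.left u
  rw [h3, K616.DimInv.resTrdeg_of_lqf h.left u, add_zero]

end Groth.Agent.S10316
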