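import Groth.Statements.S10317
import Groth.Agent.AlgSp.K616.Norm

set_option autoImplicit false
universe u
open CategoryTheory CategoryTheory.Limits AlgebraicGeometry
open AlgSp

namespace Groth.Agent.S10317

/-- A codimension-0 point of the normalization X' of X in Y is the image of a codimension-0 point of Y.
(The published statement is phrased for a morphism of schemes; this row states it for a
quasi-compact quasi-separated morphism of algebraic spaces.) -/
theorem result {S : Scheme.{u}} {Y X X' : AlgSp.Space S} (f : Y ⟶ X)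
    (hqc : AlgSp.IsQuasiCompactMor f.hom) (hqs : AlgSp.IsQuasiSeparatedMor f.hom) (ν : X' ⟶ X) (f' : Y ⟶ X')
    (hn : AlgSp.IsRelNormalization f.hom ν.hom f'.hom) (x' : AlgSp.Points X'.obj) (hx' : AlgSp.HasAt (fun U u => ringKrullDim ↥(U.presheaf.stalk u) = 0) X'.obj x') :
    ∃ y : AlgSp.Points Y.obj, AlgSp.HasAt (fun U u => ringKrullDim ↥(U.presheaf.stalk u) = 0) Y.obj y ∧ AlgSp.Points.map f'.hom y = x' := by
  obtain ⟨Z, i, hi, hI⟩ := K616.Norm.exists_ideal_eq_bot f ν f' hn
  have hqc' : IsQuasiCompactMor f'.hom := K596.QC2.isQuasiCompactMor_of_comp Y.property X'.property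
    (f := f'.hom) (g := ν.hom) (by rw [hn.1]; exact hqc)
    (K616.Norm.isQuasiSeparatedMor_of_isIntegralMor hn.2.1)
  obtain ⟨T0, a0, t0, ha0, rfl, hdim⟩ := hx'
  obtain ⟨T, v, hT, hv, ⟨t, rfl⟩, -⟩ := K597.Affine.exists_affine_nhd T0 ⊤ t0 trivial
  have hve : Etale v.left := inferInstance
  have ha : RepWith @Etale ((yon S).map v ≫ a0) := (RepWith (S := S) @Etale).comp_mem _ _
    ((repWith_yon_map_iff @Etale v).2 hve) ha0
  have hdim' : ringKrullDim ↥(T.left.presheaf.stalk t) = 0 := by
    rw [← hdim]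
    exact ringKrullDim_eq_of_ringEquiv (asIso (v.left.stalkMap t)).commRingCatIsoToRingEquiv.symm
  obtain ⟨P, fst, snd, sq, U, u, q, hu, hus, hq, hqc2⟩ := K598.SchImg.exists_qc_chart hqc' ((yon S).map v ≫ a0)
  have hfl : RepWith @Flat ((yon S).map v ≫ a0) := MorphismProperty.relative_monotone (fun _ _ g hg => by
    have : Etale g.left := hg
    exact (inferInstance : Flat g.left)) _ ha
  have hker : q.left.ker = ⊥ := by
    rw [← K598.SchImg.K_eq_ker sq u hu hus q hq,
      ← K598.SchImg.image_eq_K X'.property hqc' hi.1 hi ((yon S).map v ≫ a0) hT hfl]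
    exact hI T _
  obtain ⟨u0, hu0, h0⟩ := K616.Norm.exists_generic_lift q.left hker t hdim'
  have hfst : RepWith @Etale fst := MorphismProperty.of_isPullback (P := RepWith (S := S) @Etale) sq.flip ha
  refine ⟨Points.ofPt (u ≫ fst) u0, ⟨U, u ≫ fst, u0, (RepWith (S := S) @Etale).comp_mem _ _ hu hfst, rfl, h0⟩, ?_⟩
  rw [Points.map_ofPt, Category.assoc, sq.w, ← Category.assoc, hq, K616.Refine.ofPt_comp,
    K616.Refine.ofPt_comp]
  rw [hu0]

end Groth.Agent.S10317
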