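import Groth.Statements.S10318
import Groth.Agent.AlgSp.K616.DimInv
import Groth.Agent.Ega4fib.H175.JacobsonDim

set_option autoImplicit false
universe u
open CategoryTheory CategoryTheory.Limits AlgebraicGeometry
open AlgSp

namespace Groth.Agent.S10318

/-- Over a Jacobson algebraic space, a finite type point of a space locally of finite type over it has
transcendence degree 0 over its image. -/
theorem result {S : Scheme.{u}} {X Y : AlgSp.Space S} (f : X ⟶ Y)
    (hf : AlgSp.LocP @LocallyOfFiniteType f.hom) (hY : AlgSp.EtaleLocally (fun U => JacobsonSpace ↥U) Y.obj)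
    (x : AlgSp.Points X.obj) (hx : AlgSp.HasAt (fun U u => IsClosed ({u} : Set ↥U)) X.obj x) :
    AlgSp.HasAtMor (fun _ _ h u => Dual3.resTrdeg h u = 0) f.hom x := by
  obtain ⟨U₀, a₀, u₀, ha₀, hu₀, hcl⟩ := hx
  obtain ⟨V, b, v, hb, hv⟩ := K616.Inv.exists_chart Y.property (AlgSp.Points.map f.hom x)
  -- the fibre product of the two charts over `Y`
  obtain ⟨W, snd, fst, sq⟩ := hb.rep (a₀ ≫ f.hom)
  obtain ⟨fst, rfl⟩ := (yon S).map_surjective fst
  have e : Etale snd.left := hb.property _ _ _ sq
  obtain ⟨z, h1, h2⟩ := K616.Refine.exists_pt_of_isPullback sq v u₀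
    (by rw [hv, ← AlgSp.Points.map_ofPt, hu₀])
  have ha : RepWith @Etale ((yon S).map snd ≫ a₀) :=
    MorphismProperty.comp_mem _ _ _ ((repWith_yon_map_iff _ _).2 e) ha₀
  have hw : ((yon S).map snd ≫ a₀) ≫ f.hom = (yon S).map fst ≫ b := by
    rw [Category.assoc, sq.w]
  refine ⟨W, V, (yon S).map snd ≫ a₀, b, fst, z, ha, hb, hw, ?_, ?_⟩
  · rw [K616.Refine.ofPt_comp, h2, hu₀]
  · have hlft : LocallyOfFiniteType fst.left := hf _ b fst ha hb hw
    refine Groth.Agent.Ega4fib.H175.JacobsonDim.rtd_eq_zero_of_isClosed fst.left (x := z) ?_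
    -- `z` is closed: its closure lies in the discrete fibre of an étale morphism over a closed point
    have := Groth.Agent.Desc.LQF.of_etale snd.left
    have hd := snd.left.isDiscrete_preimage_singleton (snd.left z)
    have hc : IsClosed (snd.left ⁻¹' {snd.left z}) := by
      rw [h2]
      exact hcl.preimage snd.left.continuous
    refine isClosed_of_closure_subset fun y hy => ?_
    have hzy : z ⤳ y := specializes_iff_mem_closure.2 hy
    have hy' : snd.left y = snd.left z := hc.closure_subset_iff.2 (Set.singleton_subset_iff.2 rfl) hy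
    exact (Groth.Agent.Flat2D.DimMap.eq_of_specializes_of_locallyQuasiFinite snd.left z y hzy
      hy'.symm).symm

end Groth.Agent.S10318
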