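import Groth.Statements.S10319
import Groth.Agent.AlgSp.K616.DimInv

set_option autoImplicit false
universe u
open CategoryTheory CategoryTheory.Limits AlgebraicGeometry
open AlgSp

namespace Groth.Agent.S10319

/-- Transcendence degrees at a point add up along a composition of morphisms locally of finite type. -/
theorem result {S : Scheme.{u}} {X Y Z : AlgSp.Space S} (f : X ⟶ Y) (g : Y ⟶ Z)
    (hf : AlgSp.LocP @LocallyOfFiniteType f.hom) (hg : AlgSp.LocP @LocallyOfFiniteType g.hom)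
    (x : AlgSp.Points X.obj) (r₁ r₂ : Cardinal.{u})
    (h1 : AlgSp.HasAtMor (fun _ _ h u => Dual3.resTrdeg h u = r₁) f.hom x)
    (h2 : AlgSp.HasAtMor (fun _ _ h u => Dual3.resTrdeg h u = r₂) g.hom (AlgSp.Points.map f.hom x)) :
    AlgSp.HasAtMor (fun _ _ h u => Dual3.resTrdeg h u = r₁ + r₂) (f ≫ g).hom x := by
  obtain ⟨U, V, W, a, b, c, h, k, u, ha, hb, hc, w, w', hu, hv⟩ :=
    K616.Inv.exists_diagram_comp X.property Y.property Z.property f.hom g.hom x
  rw [K616.Inv.hasAtMor_iff' (K616.DimInv.etInvOn_resTrdeg fun s => s = r₂) (K616.Inv.locP_top g.hom)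
    b c k hb hc w' (h.left u) hv] at h2
  rw [K616.Inv.hasAtMor_iff' (K616.DimInv.etInvOn_resTrdeg fun s => s = r₁) (K616.Inv.locP_top f.hom)
    a b h ha hb w u hu] at h1
  refine ⟨U, W, a, c, h ≫ k, u, ha, hc, K616.Inv.comp_diagram w w', hu, ?_⟩
  have h3 : Dual3.resTrdeg (h ≫ k).left u = Dual3.resTrdeg k.left (h.left u) + Dual3.resTrdeg h.left u :=
    K616.DimInv.resTrdeg_comp h.left k.left u
  change Dual3.resTrdeg (h ≫ k).left u = r₁ + r₂
  rw [h3, h1, h2, add_comm]

end Groth.Agent.S10319
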