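import Groth.Statements.S10323
import Groth.Agent.AlgSp.K616.DimIneq
import Groth.Agent.AlgSp.K616.LocNoeth
import Groth.Agent.AlgSp.K616.DimInv

set_option autoImplicit false
universe u
open CategoryTheory CategoryTheory.Limits AlgebraicGeometry
open AlgSp

namespace Groth.Agent.S10323

/-- For Y locally Noetherian and f locally of finite type, the dimension of the local ring of X at x is
at most the dimension of the local ring of Y at the image point plus E minus the transcendence
degree of x over its image, where E bounds the transcendence degrees of the codimension-0 points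
specializing to x. -/
theorem result {S : Scheme.{u}} {X Y : AlgSp.Space S} (f : X ⟶ Y)
    (hY : AlgSp.IsLocNoethSp Y.obj) (hf : AlgSp.LocP @LocallyOfFiniteType f.hom) (x : AlgSp.Points X.obj)
    (E : Cardinal.{u})
    (hE : ∀ ξ : AlgSp.Points X.obj, ξ ⤳ x → AlgSp.HasAt (fun U u => ringKrullDim ↥(U.presheaf.stalk u) = 0) X.obj ξ →
      ∀ s : Cardinal.{u}, AlgSp.HasAtMor (fun _ _ h u => Dual3.resTrdeg h u = s) f.hom ξ → s ≤ E)
    (a b : WithBot ℕ∞) (r : Cardinal.{u})
    (ha : AlgSp.HasAt (fun U u => ringKrullDim ↥(U.presheaf.stalk u) = a) X.obj x)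
    (hb : AlgSp.HasAt (fun U u => ringKrullDim ↥(U.presheaf.stalk u) = b) Y.obj (AlgSp.Points.map f.hom x))
    (hr : AlgSp.HasAtMor (fun _ _ h u => Dual3.resTrdeg h u = r) f.hom x) :
    a + ((Cardinal.toENat r : ℕ∞) : WithBot ℕ∞) ≤ b + ((Cardinal.toENat E : ℕ∞) : WithBot ℕ∞) := by
  obtain ⟨U, V, a', b', h, u, ha', hb', w, rfl⟩ := K616.Inv.exists_diagram X.property Y.property f.hom x
  have h1 : LocallyOfFiniteType h.left := hf a' b' h ha' hb' w
  have hV : IsLocallyNoetherian V.left := K616.LocNoeth.isLocallyNoetherian_chart hY b' hb'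
  have hw : Points.map f.hom (Points.ofPt a' u) = Points.ofPt b' (h.left u) := by
    rw [Points.map_ofPt, w, K616.Refine.ofPt_comp]
  rw [hw] at hb
  have h3 := (K616.Inv.hasAt_iff (K616.DimInv.etInvAt_stalkDim fun d => d = a) a' ha' u).1 ha
  have h4 := (K616.Inv.hasAt_iff (K616.DimInv.etInvAt_stalkDim fun d => d = b) b' hb' (h.left u)).1 hb
  have h5 := (K616.Inv.hasAtMor_iff (K616.DimInv.etInvOn_resTrdeg fun e => e = r) (K616.Inv.locP_top _) a' b' h ha' hb' w u).1 hr
  obtain ⟨ξ, hξ, h0, hle⟩ := K616.DimIneq.exists_generic_bound h.left u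
  have hEξ : Dual3.resTrdeg h.left ξ ≤ E :=
    hE (Points.ofPt a' ξ) (hξ.map (Points.continuous_ofPt a')) ⟨U, a', ξ, ha', rfl, h0⟩ _
      ⟨U, V, a', b', h, ξ, ha', hb', w, rfl, rfl⟩
  rw [h3, h4, h5] at hle
  refine hle.trans (add_le_add le_rfl ?_)
  exact WithBot.coe_le_coe.2 (Cardinal.toENat.monotone' hEξ)

end Groth.Agent.S10323
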