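import Groth.Statements.S10324
import Groth.Agent.AlgSp.K616.DimIneq
import Groth.Agent.AlgSp.K616.FlatDim
import Groth.Agent.AlgSp.K616.LocNoeth
import Groth.Agent.AlgSp.K616.DimInv

set_option autoImplicit false
universe u
open CategoryTheory CategoryTheory.Limits AlgebraicGeometry
open AlgSp

namespace Groth.Agent.S10324

/-- For Y locally Noetherian and f : X -> Y locally of finite type, dim X ≤ dim Y + E where E bounds the
transcendence degrees over Y of the codimension-0 points of X. -/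
theorem result {S : Scheme.{u}} {X Y : AlgSp.Space S} (f : X ⟶ Y)
    (hY : AlgSp.IsLocNoethSp Y.obj) (hf : AlgSp.LocP @LocallyOfFiniteType f.hom) (E : Cardinal.{u})
    (hE : ∀ ξ : AlgSp.Points X.obj, AlgSp.HasAt (fun U u => ringKrullDim ↥(U.presheaf.stalk u) = 0) X.obj ξ → ∀ s : Cardinal.{u}, AlgSp.HasAtMor (fun _ _ h u => Dual3.resTrdeg h u = s) f.hom ξ → s ≤ E) :
    AlgSp.dim X.obj ≤ AlgSp.dim Y.obj + ((Cardinal.toENat E : ℕ∞) : WithBot ℕ∞) := by
  refine iSup_le fun U => iSup_le fun a => iSup_le fun ha => ?_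
  have key : ∀ u : ↥U.left, ringKrullDim ↥(U.left.presheaf.stalk u) ≤
      AlgSp.dim Y.obj + ((Cardinal.toENat E : ℕ∞) : WithBot ℕ∞) := by
    intro u
    obtain ⟨U', V, a', b', h, u', ha', hb', w, hu⟩ :=
      K616.Inv.exists_diagram X.property Y.property f.hom (Points.ofPt a u)
    have h1 : LocallyOfFiniteType h.left := hf a' b' h ha' hb' w
    have hV : IsLocallyNoetherian V.left := K616.LocNoeth.isLocallyNoetherian_chart hY b' hb'
    have h2 : ringKrullDim ↥(U.left.presheaf.stalk u) = ringKrullDim ↥(U'.left.presheaf.stalk u') := by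
      refine (K616.Inv.hasAt_iff (K616.DimInv.etInvAt_stalkDim fun d => d =
        ringKrullDim ↥(U'.left.presheaf.stalk u')) a ha u).1 ?_
      exact ⟨U', a', u', ha', hu, rfl⟩
    obtain ⟨ξ, hξ, h0, hle⟩ := K616.DimIneq.exists_generic_bound h.left u'
    have hEξ : Dual3.resTrdeg h.left ξ ≤ E :=
      hE (Points.ofPt a' ξ) ⟨U', a', ξ, ha', rfl, h0⟩ _ ⟨U', V, a', b', h, ξ, ha', hb', w, rfl, rfl⟩
    rw [h2]
    have h3 : ringKrullDim ↥(U'.left.presheaf.stalk u') ≤ ringKrullDim ↥(U'.left.presheaf.stalk u') +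
        ((Cardinal.toENat (Dual3.resTrdeg h.left u') : ℕ∞) : WithBot ℕ∞) :=
      le_add_of_nonneg_right (by exact_mod_cast zero_le)
    refine (h3.trans hle).trans (add_le_add ?_ (WithBot.coe_le_coe.2 (Cardinal.toENat.monotone' hEξ)))
    have h4 : ringKrullDim ↥(V.left.presheaf.stalk (h.left u')) ≤ topologicalKrullDim ↥V.left := by
      rw [ringKrullDim_stalk_eq_coheight]
      exact (K616.FlatDim.coheight_le_localDim _).trans (Groth.Agent.VarietyB.DimTop.localDim_le_dim _)
    exact h4.trans (le_iSup_of_le V (le_iSup_of_le b' (le_iSup_of_le hb' le_rfl)))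
  have h1 : topologicalKrullDim ↥U.left = Order.krullDim ↥U.left :=
    Order.krullDim_eq_of_orderIso irreducibleSetEquivPoints
  rw [h1]
  refine iSup_le fun p => ?_
  have h2 := key p.head
  rw [ringKrullDim_stalk_eq_coheight] at h2
  refine le_trans ?_ h2
  exact WithBot.coe_le_coe.2 (Order.length_le_coheight_head)

end Groth.Agent.S10324
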