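import Groth.Statements.S10325
import Groth.Agent.AlgSp.K616.Sigma
import Groth.Agent.Sga1.SigmaFinite

set_option autoImplicit false
universe u
open CategoryTheory CategoryTheory.Limits AlgebraicGeometry
open AlgSp

namespace Groth.Agent.S10325

/-- A finite disjoint union of algebraic spaces finite over Y is finite over Y. -/
theorem result {S : Scheme.{u}} {n : ℕ} (X : Fin n → AlgSp.Space S) (Y : AlgSp.Space S)
    (g : ∀ i, X i ⟶ Y) (hg : ∀ i, AlgSp.IsFiniteMor (g i).hom) (c : Cofan fun i => (X i).obj) (hc : IsColimit c)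
    (d : c.pt ⟶ Y.obj) (hd : ∀ i, c.inj i ≫ d = (g i).hom) : AlgSp.IsFiniteMor d := by
  intro Z hZ t
  choose W p q sq hW hp using fun i => hg i hZ t
  let W' : ULift.{u} (Fin n) → Scheme.{u} := fun i => (W i.down).left
  let V : Over S := Over.mk (Sigma.desc (fun i : ULift.{u} (Fin n) => (W i.down).hom))
  let j : ∀ i, W i ⟶ V := fun i => Over.homMk (Sigma.ι W' ⟨i⟩) (Sigma.ι_desc _ _)
  let r₀ : V.left ⟶ Z.left := Sigma.desc (fun i : ULift.{u} (Fin n) => (p i.down).left)
  let r : V ⟶ Z := Over.homMk r₀ (by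
    change r₀ ≫ Z.hom = Sigma.desc _
    refine Sigma.hom_ext _ _ fun i => ?_
    rw [← Category.assoc, Sigma.ι_desc, Sigma.ι_desc, Over.w])
  have hr : ∀ i, j i ≫ r = p i := fun i => by
    ext1
    exact Sigma.ι_desc _ _
  have hd' : ∀ i k, i ≠ k → Disjoint (Set.range (j i).left) (Set.range (j k).left) := by
    intro i k hik
    have h1 := disjoint_opensRange_sigmaι W' ⟨i⟩ ⟨k⟩ (fun h => hik (congrArg ULift.down h))
    exact (TopologicalSpace.Opens.coe_disjoint).2 h1
  obtain ⟨fst, hfst⟩ := K616.Sigma.exists_isPullback_cofan hc d t p q (fun i => by rw [hd]; exact sq i) j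
    (fun i => inferInstanceAs (IsOpenImmersion (Sigma.ι W' ⟨i⟩)))
    (fun v => by
      obtain ⟨⟨i⟩, t, ht⟩ := (sigmaOpenCover W').exists_eq v
      exact ⟨i, t, ht⟩) hd' r hr
  refine ⟨V, r, fst, hfst, ?_, ?_⟩
  · have : ∀ i, IsAffine (W' i) := fun i => hW i.down
    exact inferInstanceAs (IsAffine (∐ W'))
  · have : ∀ i : ULift.{u} (Fin n), IsFinite (p i.down).left := fun i => hp i.down
    exact Groth.Agent.Sga1.SigmaFinite.isFinite_sigmaDesc (fun i : ULift.{u} (Fin n) => (p i.down).left)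

end Groth.Agent.S10325
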