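import Groth.Statements.S10328
import Groth.Agent.AlgSp.K616.DimInv
import Groth.Agent.S9354

set_option autoImplicit false
universe u
open CategoryTheory CategoryTheory.Limits AlgebraicGeometry
open AlgSp

namespace Groth.Agent.S10328

/-- The relative dimension of a composite at a point is at most the sum of the relative dimensions, with
equality when the first morphism is flat at the point. (The published part (2) allows more generally
flatness of a fibre of X -> Y over a field point of Z; only the case f flat at x is stated.) -/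
theorem result {S : Scheme.{u}} {X Y Z : AlgSp.Space S} (f : X ⟶ Y) (g : Y ⟶ Z)
    (hf : AlgSp.LocP @LocallyOfFiniteType f.hom) (hg : AlgSp.LocP @LocallyOfFiniteType g.hom)
    (x : AlgSp.Points X.obj) (a b : WithBot ℕ∞)
    (ha : AlgSp.HasAtMor (fun _ _ h u => FlatMor.fibreDimAt h u = a) f.hom x)
    (hb : AlgSp.HasAtMor (fun _ _ h u => FlatMor.fibreDimAt h u = b) g.hom (AlgSp.Points.map f.hom x)) :
    AlgSp.HasAtMor (fun _ _ h u => FlatMor.fibreDimAt h u ≤ a + b) (f ≫ g).hom x ∧
    (AlgSp.IsFlatAtMor f.hom x → AlgSp.HasAtMor (fun _ _ h u => FlatMor.fibreDimAt h u = a + b) (f ≫ g).hom x) := by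
  obtain ⟨U, V, W, a', b', c', h, k, u, ha', hb', hc', w, w', rfl, hv⟩ :=
    K616.Inv.exists_diagram_comp X.property Y.property Z.property f.hom g.hom x
  have h1 : LocallyOfFiniteType h.left := hf a' b' h ha' hb' w
  have h2 : LocallyOfFiniteType k.left := hg b' c' k hb' hc' w'
  rw [K616.Inv.hasAtMor_iff (K616.DimInv.etInvOn_fibreDimAt fun d => d = a) hf a' b' h ha' hb' w u] at ha
  rw [K616.Inv.hasAtMor_iff' (K616.DimInv.etInvOn_fibreDimAt fun d => d = b) hg b' c' k hb' hc' w' _ hv] at hb
  obtain ⟨h3, h4⟩ := Groth.Agent.S9354.result h.left k.left u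
  rw [ha] at h3 h4
  have hb2 : FlatMor.fibreDimAt k.left (h.left u) = b := hb
  have h3' : FlatMor.fibreDimAt (h.left ≫ k.left) u ≤ a + b := by rw [← hb2]; exact h3
  refine ⟨⟨U, W, a', c', h ≫ k, u, ha', hc', K616.Inv.comp_diagram w w', rfl, h3'⟩, fun hfl => ?_⟩
  have h5 : (h.left.stalkMap u).hom.Flat := hfl a' b' h u ha' hb' w rfl
  refine ⟨U, W, a', c', h ≫ k, u, ha', hc', K616.Inv.comp_diagram w w', rfl, ?_⟩
  have h6 := h4 h5
  change FlatMor.fibreDimAt (h.left ≫ k.left) u = a + b
  rw [← hb2]; exact h6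

end Groth.Agent.S10328
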