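import Groth.Statements.S10329
import Groth.Agent.S10313
import Groth.Agent.AlgSp.K616.FibField
import Groth.Agent.AlgSp.K616.DimInv

set_option autoImplicit false
universe u
open CategoryTheory CategoryTheory.Limits AlgebraicGeometry
open AlgSp

namespace Groth.Agent.S10329

/-- If the fibre of a morphism locally of finite type has dimension 0 at a point, then the morphism is
locally quasi-finite on some open subspace containing the image of that point. -/
theorem result {S : Scheme.{u}} {X Y F : AlgSp.Space S} (f : X ⟶ Y)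
    (hf : AlgSp.LocP @LocallyOfFiniteType f.hom) (k : Type u) [Field k] (str : Spec (.of k) ⟶ S)
    (y : (AlgSp.yon S).obj (Over.mk str) ⟶ Y.obj) (p : F ⟶ X) (q : F.obj ⟶ (AlgSp.yon S).obj (Over.mk str))
    (sq : IsPullback p.hom q f.hom y) (z : AlgSp.Points F.obj)
    (hz : AlgSp.HasAt (fun U u => FlatMor.localDim ↥U u = 0) F.obj z) :
    ∃ (X' : AlgSp.Space S) (j : X' ⟶ X), AlgSp.RepWith @IsOpenImmersion j.hom ∧
      AlgSp.Points.map p.hom z ∈ Set.range (AlgSp.Points.map j.hom) ∧
      AlgSp.LocP (@LocallyQuasiFinite ⊓ @LocallyOfFiniteType) (j ≫ f).hom := by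
  have hYk : IsAlgSpace ((AlgSp.yon S).obj (Over.mk str)) := IsAlgSpace.yon_obj _
  have hq : LocP @LocallyOfFiniteType q := K597.locP_bc K597.etLoc_lft sq X.property.hasAtlas
    Y.property.hasAtlas hYk.hasAtlas hf
  have hQ : K616.Inv.EtInvOn @LocallyOfFiniteType (fun _ _ h u => FlatMor.fibreDimAt h u = 0) :=
    K616.DimInv.etInvOn_fibreDimAt (fun d => d = 0)
  -- the fibre has dimension `0` at `z`
  have h1 : HasAtMor (fun _ _ h u => FlatMor.fibreDimAt h u = 0) q z := by
    obtain ⟨U, a, u, ha, hu, H⟩ := hz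
    obtain ⟨h, hh⟩ := (yon S).map_surjective (a ≫ q)
    refine ⟨U, Over.mk str, a, 𝟙 _, h, u, ha, (RepWith (S := S) @Etale).id_mem _, ?_, hu, ?_⟩
    · rw [hh, Category.comp_id]
    · exact (K616.FibField.fibreDimAt_field h.left u).trans H
  have h2 : HasAtMor (fun _ _ h u => FlatMor.fibreDimAt h u = 0) f.hom (Points.map p.hom z) := by
    refine (K616.Near.hasAtMor_baseChange hQ ?_ X.property Y.property hYk F.property sq hf hq z).2 h1
    intro U V U' V' h h' p' q' sq' hh u
    have : LocallyOfFiniteType h := hh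
    rw [Groth.Agent.Ega4fib.H172.FibDimBC.fibreDimAt_of_isPullback sq' u]
  obtain ⟨X', j, hj, h3, h4, -⟩ := Groth.Agent.S10313.result f hf
  refine ⟨X', j, hj, ?_, h3⟩
  by_contra hx
  obtain ⟨U, V, a, b, h, u, ha, hb, w, hu, H⟩ := h4 _ hx
  have h5 := (K616.Inv.hasAtMor_iff' hQ hf a b h ha hb w _ hu).1 h2
  rw [h5] at H
  exact absurd H (by simp)

end Groth.Agent.S10329
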