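import Groth.Statements.S10335
import Groth.Agent.AlgSp.K616.BaseChange2
import Groth.Agent.AlgSp.K597.EtLoc
import Groth.Agent.AlgSp.K597.LocP

set_option autoImplicit false
universe u
open CategoryTheory CategoryTheory.Limits AlgebraicGeometry
open AlgSp

namespace Groth.Agent.S10335

/-- In a base change square of algebraic spaces with f : X -> Y locally of finite type and f' : X' -> Y'
its base change along g : Y' -> Y, take a point x' of X' over x. The fibre of f' has a local ring at
x' whose dimension exceeds the corresponding dimension for the fibre of f at x by exactly the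
transcendence degree of x over f(x) minus that of x' over f'(x'), and this excess is never negative;
and for x in X and y' in Y' over the same point of Y some x' over both has excess zero. All four
quantities are read on some chart diagram through the point. -/
theorem result {S : Scheme.{u}} {X Y Y' X' : AlgSp.Space S} (f : X ⟶ Y) (g : Y' ⟶ Y)
    (g' : X' ⟶ X) (f' : X' ⟶ Y') (sq : IsPullback g'.hom f'.hom f.hom g.hom)
    (hf : AlgSp.LocP @LocallyOfFiniteType f.hom) :
    (∀ (x' : AlgSp.Points X'.obj) (e e' : WithBot ℕ∞) (r r' : Cardinal.{u}),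
      AlgSp.HasAtMor (fun _ _ h u => ringKrullDim ↥((h.fiber (h u)).presheaf.stalk (h.asFiber u)) = e) f.hom
          (AlgSp.Points.map g'.hom x') →
      AlgSp.HasAtMor (fun _ _ h u => Dual3.resTrdeg h u = r) f.hom (AlgSp.Points.map g'.hom x') →
      AlgSp.HasAtMor (fun _ _ h u => ringKrullDim ↥((h.fiber (h u)).presheaf.stalk (h.asFiber u)) = e') f'.hom x' →
      AlgSp.HasAtMor (fun _ _ h u => Dual3.resTrdeg h u = r') f'.hom x' →
        e' + ((Cardinal.toENat r' : ℕ∞) : WithBot ℕ∞) = e + ((Cardinal.toENat r : ℕ∞) : WithBot ℕ∞) ∧ e ≤ e') ∧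
    (∀ (x : AlgSp.Points X.obj) (y' : AlgSp.Points Y'.obj) (e : WithBot ℕ∞),
      AlgSp.Points.map f.hom x = AlgSp.Points.map g.hom y' →
      AlgSp.HasAtMor (fun _ _ h u => ringKrullDim ↥((h.fiber (h u)).presheaf.stalk (h.asFiber u)) = e) f.hom x →
        ∃ x' : AlgSp.Points X'.obj, AlgSp.Points.map g'.hom x' = x ∧ AlgSp.Points.map f'.hom x' = y' ∧
          AlgSp.HasAtMor (fun _ _ h u => ringKrullDim ↥((h.fiber (h u)).presheaf.stalk (h.asFiber u)) = e)
            f'.hom x') := by
  have hf' : LocP @LocallyOfFiniteType f'.hom := K597.locP_bc K597.etLoc_lft sq X.property.hasAtlas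
    Y.property.hasAtlas Y'.property.hasAtlas hf
  constructor
  · intro x' e e' r r' he hr he' hr'
    obtain ⟨U, V, U', V', h, k, p, q, a, b, a', b', u', sq', ha, hb, ha', hb', w, w', h1, h2, hu', hu⟩ :=
      K616.BaseChange.exists_cartesian_diagram X.property Y.property Y'.property X'.property sq x'
    rw [K616.Inv.hasAtMor_iff' (K616.DimInv.etInvOn_fibreStalkDim fun d => d = e) hf a b h ha hb w _ hu] at he
    rw [K616.Inv.hasAtMor_iff' (K616.DimInv.etInvOn_resTrdeg fun d => d = r) (K616.Inv.locP_top _) a b h ha hb w _ hu] at hr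
    rw [K616.Inv.hasAtMor_iff' (K616.DimInv.etInvOn_fibreStalkDim fun d => d = e') hf' a' b' q ha' hb' h2 _ hu'] at he'
    rw [K616.Inv.hasAtMor_iff' (K616.DimInv.etInvOn_resTrdeg fun d => d = r') (K616.Inv.locP_top _) a' b' q ha' hb' h2 _ hu'] at hr'
    have h3 : LocallyOfFiniteType h.left := hf a b h ha hb w
    have sq2 : IsPullback p.left q.left h.left k.left := sq'.map (Over.forget S)
    have h4 := K616.BaseChange2.fibreStalkDim_add_of_isPullback sq2 u'
    have h5 := K616.BaseChange2.fibreStalkDim_le_of_isPullback sq2 u'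
    rw [he, hr, he', hr'] at h4
    rw [he, he'] at h5
    exact ⟨h4, h5⟩
  · intro x y' e hxy he
    obtain ⟨U, V, U', V', h, k, p, q, a, b, a', b', u, v', sq', ha, hb, ha', hb', w, w', h1, h2, hu, hv', huv⟩ :=
      K616.BaseChange2.exists_cartesian_diagram_of_pts X.property Y.property Y'.property sq x y' hxy
    rw [K616.Inv.hasAtMor_iff' (K616.DimInv.etInvOn_fibreStalkDim fun d => d = e) hf a b h ha hb w _ hu] at he
    have h3 : LocallyOfFiniteType h.left := hf a b h ha hb w
    have sq2 : IsPullback p.left q.left h.left k.left := sq'.map (Over.forget S)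
    obtain ⟨z, rfl, rfl, hz⟩ := K616.BaseChange2.exists_fibreStalkDim_eq sq2 u v' huv
    refine ⟨Points.ofPt a' z, ?_, ?_, ?_⟩
    · rw [Points.map_ofPt, h1, K616.Refine.ofPt_comp, hu]
    · rw [Points.map_ofPt, h2, K616.Refine.ofPt_comp, hv']
    · exact ⟨U', V', a', b', q, z, ha', hb', h2, rfl, hz.trans he⟩

end Groth.Agent.S10335
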