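import Groth.Statements.S10336
import Groth.Agent.AlgSp.K617.FinLoc

set_option autoImplicit false
universe u
open CategoryTheory CategoryTheory.Limits AlgebraicGeometry
open AlgSp

namespace Groth.Agent.S10336

/-- Integrality, finiteness and finite local freeness of a morphism f : X -> Y of algebraic spaces over
S can be checked on the restrictions of f over the members of a Zariski covering of Y by open
subspaces. -/
theorem result {S : Scheme.{u}} {X Y : AlgSp.Space S} (f : X ⟶ Y) {ι : Type u}
    (Yi : ι → AlgSp.Space S) (j : ∀ i, Yi i ⟶ Y) (hj : AlgSp.IsZarCover (fun i => (Yi i).obj) (fun i => (j i).hom))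
    (Xi : ι → AlgSp.Sp S) (p : ∀ i, Xi i ⟶ X.obj) (q : ∀ i, Xi i ⟶ (Yi i).obj)
    (sq : ∀ i, IsPullback (p i) (q i) f.hom (j i).hom) :
    ((∀ i, AlgSp.IsIntegralMor (q i)) → AlgSp.IsIntegralMor f.hom) ∧
    ((∀ i, AlgSp.IsFiniteMor (q i)) → AlgSp.IsFiniteMor f.hom) ∧
    ((∀ i, AlgSp.IsFinLocFreeMor (q i)) → AlgSp.IsFinLocFreeMor f.hom) := by
    have hj' : ∀ i, RepWith @Etale (j i).hom := fun i =>
      K597.repWith_mono (P := @IsOpenImmersion) (Q := @Etale) (fun _ _ g hg => by
        have : IsOpenImmersion g := hg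
        infer_instance) (hj.1 i)
    exact ⟨K617.FinLoc.integral_family hj' hj.2 sq, K617.FinLoc.finite_family hj' hj.2 sq,
      K617.FinLoc.finLocFree_family hj' hj.2 sq⟩

end Groth.Agent.S10336
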