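import Groth.Statements.S10355
import Groth.Agent.AlgSp.K618.OpenSurj
import Groth.Agent.S10337

set_option autoImplicit false
universe u
open CategoryTheory CategoryTheory.Limits AlgebraicGeometry Topology TopologicalSpace
open AlgSp

namespace Groth.Agent.S10355

/-- A decent algebraic space X over a scheme S whose space of points is a single point is a scheme (the
underlying sheaf of X is representable). -/
theorem result {S : Scheme.{u}} (X : AlgSp.Space S)
    (hX : AlgSp.IsDecent X.obj) [Nonempty (AlgSp.Points X.obj)] [Subsingleton (AlgSp.Points X.obj)] :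
    X.obj.obj.IsRepresentable := by
  obtain ⟨X', j, hj, hr, hd⟩ := Groth.Agent.S10337.result X hX
  have hs : AlgSp.RepWith @Surjective j.hom := by
    rw [K609.Points.repWith_surjective_iff hj.1]
    intro x
    have hne : (Set.univ : Set (AlgSp.Points X.obj)).Nonempty := Set.univ_nonempty
    obtain ⟨y, hy⟩ := hd.nonempty
    obtain ⟨z, hz⟩ := hy
    exact ⟨z, hz.trans (Subsingleton.elim _ _)⟩
  have hi : IsIso j.hom := K618.OpenSurj.isIso_of_openImmersion_surjective hj hs
  exact K618.OpenSurj.isRepresentable_of_iso (asIso j.hom) hr

end Groth.Agent.S10355
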