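import Groth.Statements.S10372
import Groth.Agent.AlgSp.K619.Singleton

set_option autoImplicit false
universe u
open CategoryTheory CategoryTheory.Limits AlgebraicGeometry Topology TopologicalSpace
open AlgSp

namespace Groth.Agent.S10372

/-- A reduced, locally Noetherian algebraic space Z over a scheme S whose space of points is a single
point is regular (etale locally a regular scheme). -/
theorem result {S : Scheme.{u}} (Z : AlgSp.Space S)
    (hr : AlgSp.EtaleLocally (fun U => IsReduced U) Z.obj) (hN : AlgSp.IsLocNoethSp Z.obj)
    [Nonempty (AlgSp.Points Z.obj)] [Subsingleton (AlgSp.Points Z.obj)] :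
    AlgSp.EtaleLocally (fun U => IsLocallyNoetherian U ∧ ∀ u : ↥U, IsRegularLocalRing ↥(U.presheaf.stalk u)) Z.obj := by
  obtain ⟨k, _, str, p, hpf, hps⟩ := K619.Singleton.reduced_singleton_imp hr inferInstance
    inferInstance
  obtain ⟨U, a, ha, has, hU⟩ := hN
  exact ⟨U, a, ha, has, hU, fun u => K619.Singleton.isRegularLocalRing_of_isField
    (K619.FieldChart.isField_stalk_chart hpf hps ha u)⟩

end Groth.Agent.S10372
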