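import Groth.Statements.S10393
import Groth.Agent.AlgSp.K621.Disc
import Groth.Agent.AlgSp.K621.Base
import Groth.Agent.AlgSp.K610.SchLocus
import Groth.Agent.AlgSp.K622.GrpQuot
import Groth.Agent.AlgSp.K613.Cover

set_option autoImplicit false
universe u
open CategoryTheory CategoryTheory.Limits AlgebraicGeometry Topology TopologicalSpace
open AlgSp

namespace Groth.Agent.S10393

open K621.Base

/-- Let S be a scheme, Y a scheme over S whose underlying topological space is discrete (equivalently, Y
is a disjoint union of spectra of local rings of dimension zero), and X an algebraic space over S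
with a monomorphism X ⟶ Y over S. Then X is a scheme. -/
theorem result {S : Scheme.{u}} (Y : Over S) [DiscreteTopology ↥Y.left]
    (X : AlgSp.Space S) (f : X ⟶ (AlgSp.ofScheme S).obj Y) [Mono f.hom] : X.obj.obj.IsRepresentable := by
  have hX := X.property
  refine K610.SchLocus.isRepresentable_iff_forall.2 fun x => ?_
  obtain ⟨U, a, u, ha, rfl⟩ := exists_chart hX x
  -- the charts are discrete
  have key : ∀ (V : Over S) (b : (yon S).obj V ⟶ X.obj), RepWith @Etale b →
      ∃ (g : V ⟶ Y) (R : Over S) (p q : R ⟶ V), IsPullback ((yon S).map p) ((yon S).map q) b b ∧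
        IsPullback p.left q.left g.left g.left ∧ Etale p.left ∧ Etale q.left := by
    intro V b hb
    obtain ⟨g, hg⟩ := (yon S).map_surjective (b ≫ f.hom)
    have sq : IsPullback ((yon S).map (pullback.fst g g)) ((yon S).map (pullback.snd g g)) b b := by
      refine K610.OpenImm.isPullback_of_comp_mono f.hom ?_
      have h := (IsPullback.of_hasPullback g g).map (yon S)
      rw [hg] at h
      exact h
    refine ⟨g, _, pullback.fst g g, pullback.snd g g, sq, (IsPullback.of_hasPullback g g).map (Over.forget S),
      hb.2 _ _ _ sq.flip, hb.2 _ _ _ sq⟩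
  have hdisc : DiscreteTopology U.left := by
    obtain ⟨g, R, p, q, -, sq, hp, -⟩ := key U a ha
    exact K621.Disc.discreteTopology_of_isPullback g.left sq
  obtain ⟨W, huW, hWu, hWa⟩ := exists_affine_openChart u ⟨{u}, isOpen_discrete _⟩ rfl
  let V := openChart U W
  let b : (yon S).obj V ⟶ X.obj := (yon S).map (openChartι U W) ≫ a
  have hb : RepWith @Etale b := repWith_openChart ha W
  have hsub : Subsingleton V.left := ⟨fun v w => by
    have h1 : v.1 = u := hWu v.2
    have h2 : w.1 = u := hWu w.2
    exact Subtype.ext (h1.trans h2.symm)⟩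
  have hne : Nonempty V.left := ⟨⟨u, huW⟩⟩
  obtain ⟨g, R, p, q, sq, sqL, hp, hq⟩ := key V b hb
  have hsep : IsSeparated g.left := inferInstance
  have hqc : QuasiCompact g.left := ⟨fun K _ _ => (Set.toFinite _).isCompact⟩
  have hfin : IsFinite q.left := K621.Disc.isFinite_of_isPullback g.left sqL.flip
  -- the open image of the chart
  obtain ⟨X', j, hj, hr⟩ := K610.Sub.exists_open_subspace X (Set.range (Points.ofPt b))
    (isOpenMap_ofPt hb).isOpen_range
  obtain ⟨b', hb', hb'e, hb's⟩ := K610.OpenImm.exists_corestrict hX hj hr @Etale hb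
  have hjm : Mono j.hom := K610.Factor.mono_of_isOpenImmersion hj
  have sq' : IsPullback ((yon S).map p) ((yon S).map q) b' b' := by
    refine K610.OpenImm.isPullback_of_comp_mono j.hom ?_
    rw [hb']
    exact sq
  obtain ⟨Z, π, m, -, -, -, -, -, hm, hmono⟩ := K622.GrpQuot.exists_quot sq' hfin inferInstance inferInstance
    (fun x => ⟨⊤, isAffineOpen_top _, fun _ _ => trivial⟩)
  have hes : K613.Cover.FSurj m := by
    refine K613.Cover.FSurj.of_comp (b' := (yon S).map π) ?_
    rw [hm]
    exact (K613.Cover.ESurj.of_repWith hb'e hb's).fSurj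
  have hiso := hes.isIso_of_mono
  refine ⟨_, ⟨Z, m ≫ j.hom, ?_, rfl⟩, ?_⟩
  · exact repWith_comp (MorphismProperty.of_isIso (P := RepWith @IsOpenImmersion) m) hj
  · refine ⟨π.left ⟨u, huW⟩, ?_⟩
    rw [← ofPt_comp, ← Category.assoc, hm, hb', ofPt_comp]
    rfl

end Groth.Agent.S10393
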