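import Groth.Statements.S10397
import Groth.Agent.AlgSp.K621.DecComp
import Groth.Agent.AlgSp.K621.NearFinDec
import Groth.Agent.AlgSp.K619.FinQC
import Groth.Agent.AlgSp.K610.SchLocus
import Groth.Agent.S10337

set_option autoImplicit false
universe u
open CategoryTheory CategoryTheory.Limits AlgebraicGeometry Topology TopologicalSpace
open AlgSp

namespace Groth.Agent.S10397

/-- (1) ⇔ (3): an algebraic space X over a scheme S is decent with |X| having finitely many irreducible
components if and only if X has a dense open subscheme X' with finitely many irreducible components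
whose generic points x'_j give quasi-compact morphisms Spec κ(x'_j) ⟶ X. -/
theorem result {S : Scheme.{u}} (X : AlgSp.Space S) :
    (AlgSp.IsDecent X.obj ∧ (irreducibleComponents (AlgSp.Points X.obj)).Finite) ↔
      ∃ (X' : Over S) (j : (AlgSp.yon S).obj X' ⟶ X.obj), AlgSp.RepWith @IsOpenImmersion j ∧
        Dense (Set.range (AlgSp.Points.ofPt j)) ∧ (irreducibleComponents ↥X'.left).Finite ∧
        ∀ x' : ↥X'.left, (∃ T ∈ irreducibleComponents ↥X'.left, IsGenericPoint x' T) →
          AlgSp.RepWith @QuasiCompact (AlgSp.FieldPt.ofPt j x').toHom := by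
  constructor
  · rintro ⟨hd, hfin⟩
    obtain ⟨X'', j'', hj, hrep, hdense⟩ := Groth.Agent.S10337.result X hd
    obtain ⟨H, ⟨e⟩⟩ := K610.ZarGlue.isRepresentable_iff.1 hrep
    have hj' : RepWith @IsOpenImmersion (e.hom ≫ j''.hom) :=
      K621.Base.repWith_comp (K610.SchLocus.repWith_iso e) hj
    refine ⟨H, e.hom ≫ j''.hom, hj', ?_, ?_, fun x' _ => K621.NearFin.repWith_quasiCompact_of_isDecent hd _⟩
    · rw [K610.SchLocus.range_comp_of_surjective _ _ (K610.SchLocus.surjective_ofPt_iso e)]
      exact hdense
    · have h1 := K610.OpenImm.isOpenEmbedding_points X.property hj'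
      exact K621.DecComp.finite_irreducibleComponents_of_isOpenEmbedding _
        (h1.comp (Points.schemeHomeo H).isOpenEmbedding) hfin
  · rintro ⟨X', j, hj, hd, hfin, hqc⟩
    refine ⟨fun x => ?_, K621.DecComp.finite_irreducibleComponents_of_denseRange (Points.ofPt j)
      (Points.continuous_ofPt j) hd hfin⟩
    induction x using Points.ind with
    | h q =>
    have hq : RepWith @QuasiCompact q.toHom := K621.DecComp.repWith_quasiCompact_of_GEX X.property
      (fun {U} p hU hp => K621.DecComp.exists_GEX_eq_empty hd hfin hqc p hp) q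
    exact (K619.FinQC.finFibres2_iff X.property _).1 (K619.QCPoint.finFibres2_of_qc q hq)

end Groth.Agent.S10397
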