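import Groth.Statements.S10399
import Groth.Agent.AlgSp.K621.QFin
import Groth.Agent.AlgSp.K621.Generic

set_option autoImplicit false
universe u
open CategoryTheory CategoryTheory.Limits AlgebraicGeometry Topology TopologicalSpace
open AlgSp

namespace Groth.Agent.S10399

open K621.QFin K621.Generic

/-- Let f : X ⟶ Y be a morphism locally of finite type of algebraic spaces over a scheme S and y a
codimension 0 point of Y. The following are equivalent: (1) every point of |X| over y has
codimension 0 on X; (2) f is quasi-finite at all points over y; (3) f is quasi-finite at all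
codimension 0 points of X over y. Stated as (1) ⇔ (2) together with (3) ⇒ (1). -/
theorem result {S : Scheme.{u}} {X Y : AlgSp.Space S} (f : X ⟶ Y)
    (hf : AlgSp.LocP @LocallyOfFiniteType f.hom) (y : AlgSp.Points Y.obj) (hy : AlgSp.HasAt (fun U u => ringKrullDim ↥(U.presheaf.stalk u) = 0) Y.obj y) :
    ((∀ x : AlgSp.Points X.obj, AlgSp.Points.map f.hom x = y → AlgSp.HasAt (fun U u => ringKrullDim ↥(U.presheaf.stalk u) = 0) X.obj x) ↔
        (∀ x : AlgSp.Points X.obj, AlgSp.Points.map f.hom x = y → AlgSp.HasAtMor (fun U _ h u => ∃ W : U.Opens, u ∈ W ∧ LocallyQuasiFinite (W.ι ≫ h) ∧ LocallyOfFiniteType (W.ι ≫ h)) f.hom x)) ∧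
      ((∀ x : AlgSp.Points X.obj, AlgSp.Points.map f.hom x = y → AlgSp.HasAt (fun U u => ringKrullDim ↥(U.presheaf.stalk u) = 0) X.obj x → AlgSp.HasAtMor (fun U _ h u => ∃ W : U.Opens, u ∈ W ∧ LocallyQuasiFinite (W.ι ≫ h) ∧ LocallyOfFiniteType (W.ι ≫ h)) f.hom x) →
        ∀ x : AlgSp.Points X.obj, AlgSp.Points.map f.hom x = y → AlgSp.HasAt (fun U u => ringKrullDim ↥(U.presheaf.stalk u) = 0) X.obj x) := by
  have hX := X.property
  have hY := Y.property
  obtain ⟨V, b, v, hb, hv⟩ := K616.Inv.exists_chart hY y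
  have hmin : Min v := by
    rw [← hv] at hy
    exact fun v' hv' => CodimZero.chart hY hb hy hv'
  have hlft : ∀ {U : Over S} {a : (yon S).obj U ⟶ X.obj} {h : U ⟶ V}, RepWith @Etale a →
      a ≫ f.hom = (yon S).map h ≫ b → LocallyOfFiniteType h.left :=
    fun {U a h} ha w => hf a b h ha hb w
  have key1 : ∀ {U : Over S} {a : (yon S).obj U ⟶ X.obj} {h : U ⟶ V}, RepWith @Etale a →
      a ≫ f.hom = (yon S).map h ≫ b → ∀ u : ↥U.left, (CodimZero X.obj (Points.ofPt a u) ↔ Min u) :=
    fun {U a h} ha w u => codimZero_iff hX ha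
  have key2 : ∀ {U : Over S} {a : (yon S).obj U ⟶ X.obj} {h : U ⟶ V}, RepWith @Etale a →
      a ≫ f.hom = (yon S).map h ≫ b → ∀ u : ↥U.left, (HasAtMor QF f.hom (Points.ofPt a u) ↔
        h.left.QuasiFiniteAt u) := by
    intro U a h ha w u
    have := hlft ha w
    rw [K616.Inv.hasAtMor_iff etInvOn_qf hf a b h ha hb w u, qf_iff]
  have key3 : ∀ {U : Over S} {a : (yon S).obj U ⟶ X.obj} {h : U ⟶ V}, RepWith @Etale a →
      a ≫ f.hom = (yon S).map h ≫ b → ∀ u : ↥U.left, h.left u = v →
        Points.map f.hom (Points.ofPt a u) = y := by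
    intro U a h ha w u hu
    rw [Points.map_ofPt, w, K621.Base.ofPt_comp, hu, hv]
  refine ⟨⟨?_, ?_⟩, ?_⟩
  · intro H x hx
    obtain ⟨U, a, h, u, ha, w, rfl, hu⟩ := K616.Inv.exists_diagram_over hX f.hom b hb x v (by rw [hv, hx])
    have := hlft ha w
    refine (key2 ha w u).2 (quasiFiniteAt_of_min h.left ?_)
    intro u' hu' u'' hu'' hs
    exact (key1 ha w u').1 (H _ (key3 ha w _ (hu'.trans hu))) _ hs
  · intro H x hx
    obtain ⟨U, a, h, u, ha, w, rfl, hu⟩ := K616.Inv.exists_diagram_over hX f.hom b hb x v (by rw [hv, hx])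
    have := hlft ha w
    refine (key1 ha w u).2 (min_of_quasiFiniteAt h.left (by rw [hu]; exact hmin) ((key2 ha w u).1 (H _ hx)))
  · intro H x hx
    obtain ⟨U, a, h, u, ha, w, rfl, hu⟩ := K616.Inv.exists_diagram_over hX f.hom b hb x v (by rw [hv, hx])
    have := hlft ha w
    refine (key1 ha w u).2 (min_of_forall_min h.left (by rw [hu]; exact hmin) ?_)
    intro u' hu' hm
    exact (key2 ha w u').1 (H _ (key3 ha w _ (hu'.trans hu)) ((key1 ha w u').2 hm))

end Groth.Agent.S10399
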