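import Groth.Statements.S10402
import Groth.Agent.AlgSp.K621.Jacobson

set_option autoImplicit false
universe u
open CategoryTheory CategoryTheory.Limits AlgebraicGeometry Topology TopologicalSpace
open AlgSp

namespace Groth.Agent.S10402

open K621.Base K621.SchemeEt K621.Decent K621.Charts K621.Jac K621.Jacobson

/-- Let S be a scheme and X a Jacobson algebraic space over S. Fix a finite type point x of |X|, and let
g : W ⟶ X be locally of finite type, where W is a scheme. If x lies in the image of |W| → |X|, then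
some closed point of W is mapped to x. -/
theorem result {S : Scheme.{u}} (X : AlgSp.Space S) (hX : AlgSp.EtaleLocally (fun U => JacobsonSpace ↥U) X.obj)
    (x : AlgSp.Points X.obj) (hx : AlgSp.HasAt (fun U u => IsClosed ({u} : Set ↥U)) X.obj x) {W : Over S} (g : (AlgSp.yon S).obj W ⟶ X.obj)
    (hg : AlgSp.LocP @LocallyOfFiniteType g) (hxW : x ∈ Set.range (AlgSp.Points.ofPt g)) :
    ∃ w : ↥W.left, IsClosed ({w} : Set ↥W.left) ∧ AlgSp.Points.ofPt g w = x := by
  obtain ⟨U, a, u, ha, rfl, hu⟩ := hx
  obtain ⟨w0, hw0⟩ := hxW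
  obtain ⟨R, p, q, sq⟩ := exists_pullback X.property a g
  have hq : Etale q.left := ha.2 _ _ _ sq
  have hp : LocallyOfFiniteType p.left :=
    hg ((yon S).map q) a p (repWith_etale_map hq) ha sq.w.symm
  have hU := jacobson_chart hX ha
  have hR : JacobsonSpace ↥R.left := LocallyOfFiniteType.jacobsonSpace p.left
  have hW : JacobsonSpace ↥W.left := by
    have := jacobson_of_locP hX hg (b := (yon S).map (𝟙 W)) (repWith_etale_map (show Etale (𝟙 W.left) from inferInstance))
    exact this
  obtain ⟨r, hr1, hr2⟩ := exists_point_of_isPullback sq u w0 hw0.symm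
  have h1 : IsClosed (p.left ⁻¹' {u}) := hu.preimage p.left.continuous
  obtain ⟨r', hr'1, hr'2⟩ := nonempty_inter_closedPoints (Z := p.left ⁻¹' {u}) ⟨r, hr1⟩ h1.isLocallyClosed
  refine ⟨q.left r', q.left.closePoints_subset_preimage_closedPoints hr'2, ?_⟩
  rw [← ofPt_eq_of_isPullback sq.toCommSq r', show p.left r' = u from hr'1]

end Groth.Agent.S10402
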