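import Groth.Statements.S10403
import Groth.Agent.AlgSp.K621.Jacobson

set_option autoImplicit false
universe u
open CategoryTheory CategoryTheory.Limits AlgebraicGeometry Topology TopologicalSpace
open AlgSp

namespace Groth.Agent.S10403

open K621.Base K621.SchemeEt K621.Decent K621.Charts K621.Jac K621.Jacobson

/-- For a decent Jacobson algebraic space X over a scheme S, the finite type points of |X| are exactly
the closed points. -/
theorem result {S : Scheme.{u}} (X : AlgSp.Space S) (hd : AlgSp.IsDecent X.obj)
    (hX : AlgSp.EtaleLocally (fun U => JacobsonSpace ↥U) X.obj) (x : AlgSp.Points X.obj) :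
    AlgSp.HasAt (fun U u => IsClosed ({u} : Set ↥U)) X.obj x ↔ IsClosed ({x} : Set (AlgSp.Points X.obj)) := by
  constructor
  · rintro ⟨U, a, u, ha, rfl, hu⟩
    exact isClosed_point_of_isClosed_chart X.property hd hX ha hu
  · intro hx
    obtain ⟨U, a, u, ha, rfl⟩ := exists_chart X.property x
    exact ⟨U, a, u, ha, rfl, isClosed_chart_of_isClosed_point X.property ha (finFibres_of_isDecent hd _) hx⟩

end Groth.Agent.S10403
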