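import Groth.Statements.S10406
import Groth.Agent.AlgSp.K621.FiniteMor

set_option autoImplicit false
universe u
open CategoryTheory CategoryTheory.Limits AlgebraicGeometry Topology TopologicalSpace
open AlgSp

namespace Groth.Agent.S10406

open K621.Base K621.SchemeEt K621.Decent K621.FiniteMor

/-- Let S be a scheme, Y and X decent, locally Noetherian algebraic spaces over S, and f : Y ⟶ X a
surjective finite morphism, and let δ : |X| → ℤ be a function. Suppose δ ∘ |f| is a dimension
function on |Y| (it decreases strictly along nontrivial specializations and by exactly one along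
immediate specializations). Then δ is a dimension function on |X|. -/
theorem result {S : Scheme.{u}} {X Y : AlgSp.Space S} (f : Y ⟶ X)
    (hf : AlgSp.IsFiniteMor f.hom) (hs : AlgSp.IsSurjectiveMor f.hom) (hX : AlgSp.IsDecent X.obj)
    (hY : AlgSp.IsDecent Y.obj) (hXN : AlgSp.IsLocNoethSp X.obj) (hYN : AlgSp.IsLocNoethSp Y.obj)
    (δ : AlgSp.Points X.obj → ℤ)
    (hδ : (∀ a b : AlgSp.Points Y.obj, a ⤳ b → a ≠ b → (δ ∘ AlgSp.Points.map f.hom) b < (δ ∘ AlgSp.Points.map f.hom) a ∧ ((∀ c : AlgSp.Points Y.obj, a ⤳ c → c ⤳ b → c = a ∨ c = b) → (δ ∘ AlgSp.Points.map f.hom) a = (δ ∘ AlgSp.Points.map f.hom) b + 1))) :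
    (∀ a b : AlgSp.Points X.obj, a ⤳ b → a ≠ b → δ b < δ a ∧ ((∀ c : AlgSp.Points X.obj, a ⤳ c → c ⤳ b → c = a ∨ c = b) → δ a = δ b + 1)) := by
  have hfX := finFibres_of_isDecent hX
  have hfY := finFibres_of_isDecent hY
  intro a b hab hne
  obtain ⟨a', rfl⟩ := hs a
  obtain ⟨b', hab', rfl⟩ := exists_specialization_lift X.property hf (hfX _) hab
  have hne' : a' ≠ b' := fun h => hne (by rw [h])
  obtain ⟨h1, h2⟩ := hδ a' b' hab' hne'
  refine ⟨h1, fun h3 => h2 (fun c hac hcb => ?_)⟩
  rcases h3 (AlgSp.Points.map f.hom c) (hac.map (AlgSp.Points.continuous_map _))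
    (hcb.map (AlgSp.Points.continuous_map _)) with h4 | h4
  · exact Or.inl (K621.FiniteMor.eq_of_specializes X.property hf (hfX _) (hfY _) hac h4.symm).symm
  · exact Or.inr (K621.FiniteMor.eq_of_specializes X.property hf (hfX _) (hfY _) hcb h4)

end Groth.Agent.S10406
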