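import Groth.Statements.S10408
import Groth.Agent.AlgSp.K622.MonoPts

set_option autoImplicit false
universe u
open CategoryTheory CategoryTheory.Limits AlgebraicGeometry Topology TopologicalSpace
open AlgSp

namespace Groth.Agent.S10408

/-- (4) ⇒ (2): let S be a scheme and X an algebraic space over S. Suppose x ∈ |X| is a point represented
by a monomorphism Spec k ⟶ X, where k is a field. Then for every etale φ : U ⟶ X with U a scheme and
all u, u' ∈ U over x, the map |U ×_X U| → |U| ×_{|X|} |U| has finite fibre over the point (u, u'). -/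
theorem result {S : Scheme.{u}} (X : AlgSp.Space S) (x : AlgSp.Points X.obj)
    (hx : ∃ p : AlgSp.FieldPt X.obj, AlgSp.Points.mk p = x ∧ Mono p.toHom) {U : Over S}
    (φ : (AlgSp.yon S).obj U ⟶ X.obj) (hφ : AlgSp.RepWith @Etale φ) (u u' : ↥U.left)
    (hu : AlgSp.Points.ofPt φ u = x) (hu' : AlgSp.Points.ofPt φ u' = x) :
    ∀ (R : Over S) (s t : R ⟶ U), IsPullback ((AlgSp.yon S).map t) ((AlgSp.yon S).map s) φ φ →
          {r : ↥R.left | s.left r = u ∧ t.left r = u'}.Finite := by
  intro R s t hR
  obtain ⟨p, hp, hpm⟩ := hx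
  obtain ⟨V, a, b, hV⟩ := K622.Basic.exists_pullback_yon hφ.1 p.toHom
  have hbe : Etale b.left := hφ.2 _ _ _ hV
  have ham : Mono ((AlgSp.yon S).map a) := K622.Basic.mono_fst_of_isPullback hV
  have ham' : Mono a.left := K622.MonoPts.mono_of_yon_map a
  have hex : ∀ w : ↥U.left, AlgSp.Points.ofPt φ w = x → ∃ v : ↥V.left, a.left v = w := by
    intro w hw
    obtain ⟨v, hv, -⟩ := K622.Basic.exists_pt_of_isPullback' hV w (K622.MonoPts.pt0 p.str) (by
      rw [K622.MonoPts.ofPt_toHom_pt0, hp, hw])
    exact ⟨v, hv⟩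
  obtain ⟨v, hv⟩ := hex u hu
  obtain ⟨v', hv'⟩ := hex u' hu'
  have hQ : IsPullback (pullback.fst b b).left (pullback.snd b b).left b.left b.left :=
    (IsPullback.of_hasPullback b b).map (Over.forget S)
  have hw : (AlgSp.yon S).map (pullback.snd b b ≫ a) ≫ φ = (AlgSp.yon S).map (pullback.fst b b ≫ a) ≫ φ := by
    rw [Functor.map_comp, Functor.map_comp, Category.assoc, Category.assoc, hV.w, ← Category.assoc,
      ← Category.assoc, ← Functor.map_comp, ← Functor.map_comp, pullback.condition]
  obtain ⟨c, hc⟩ := (AlgSp.yon S).map_surjective (hR.lift _ _ hw)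
  have hct : c ≫ t = pullback.snd b b ≫ a := (AlgSp.yon S).map_injective (by
    rw [Functor.map_comp, hc, hR.lift_fst])
  have hcs : c ≫ s = pullback.fst b b ≫ a := (AlgSp.yon S).map_injective (by
    rw [Functor.map_comp, hc, hR.lift_snd])
  refine ((K622.Sch.finite_two_fibres (B := Spec (CommRingCat.of p.K)) hQ v v').image c.left).subset ?_
  rintro r ⟨hr1, hr2⟩
  -- the fibre product `E = R ×_{s, U, a} V`
  have hE : IsPullback (pullback.fst s a).left (pullback.snd s a).left s.left a.left :=
    (IsPullback.of_hasPullback s a).map (Over.forget S)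
  obtain ⟨e, he1, he2⟩ : ∃ e, (pullback.fst s a).left e = r ∧ (pullback.snd s a).left e = v := by
    have := K622.Basic.exists_pt_of_isPullback' ((IsPullback.of_hasPullback s a).map (AlgSp.yon S)) r v (by
      rw [K622.Basic.ofPt_yon_map', K622.Basic.ofPt_yon_map', hr1, hv])
    exact this
  have hw2 : (AlgSp.yon S).map (pullback.fst s a ≫ t) ≫ φ = (AlgSp.yon S).map (pullback.snd s a ≫ b) ≫ p.toHom := by
    rw [Functor.map_comp, Category.assoc, hR.w, ← Category.assoc, ← Functor.map_comp, pullback.condition,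
      Functor.map_comp, Category.assoc, hV.w, ← Category.assoc, ← Functor.map_comp]
  obtain ⟨e2, he⟩ := (AlgSp.yon S).map_surjective (hV.lift _ _ hw2)
  have he2a : e2 ≫ a = pullback.fst s a ≫ t := (AlgSp.yon S).map_injective (by
    rw [Functor.map_comp, he, hV.lift_fst])
  have he2b : e2 ≫ b = pullback.snd s a ≫ b := (AlgSp.yon S).map_injective (by
    rw [Functor.map_comp, he, hV.lift_snd])
  let l : pullback s a ⟶ pullback b b := pullback.lift (pullback.snd s a) e2 he2b.symm
  have hl1 : l ≫ pullback.fst b b = pullback.snd s a := pullback.lift_fst _ _ _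
  have hl2 : l ≫ pullback.snd b b = e2 := pullback.lift_snd _ _ _
  have hlc : l ≫ c = pullback.fst s a := by
    apply (AlgSp.yon S).map_injective
    apply hR.hom_ext
    · rw [← Functor.map_comp, ← Functor.map_comp, Category.assoc, hct, ← Category.assoc, hl2, he2a]
    · rw [← Functor.map_comp, ← Functor.map_comp, Category.assoc, hcs, ← Category.assoc, hl1,
        pullback.condition]
  refine ⟨l.left e, ⟨?_, ?_⟩, ?_⟩
  · rw [← Scheme.Hom.comp_apply, ← Over.comp_left, hl1, he2]
  · rw [← Scheme.Hom.comp_apply, ← Over.comp_left, hl2]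
    apply a.left.injective
    rw [hv', ← Scheme.Hom.comp_apply, ← Over.comp_left, he2a, Over.comp_left, Scheme.Hom.comp_apply, he1, hr2]
  · rw [← Scheme.Hom.comp_apply, ← Over.comp_left, hlc, he1]

end Groth.Agent.S10408
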