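import Groth.Statements.S10409
import Groth.Agent.AlgSp.K622.MonoQuot

set_option autoImplicit false
universe u
open CategoryTheory CategoryTheory.Limits AlgebraicGeometry Topology TopologicalSpace
open AlgSp

namespace Groth.Agent.S10409

/-- (3) ⇔ (4): for an algebraic space X over a scheme S and x ∈ |X|, there is a monomorphism Spec k ⟶ X
representing x if and only if there is a morphism Spec k' ⟶ X representing x whose
self-fibre-product has etale and quasi-compact projections to Spec k'. -/
theorem result {S : Scheme.{u}} (X : AlgSp.Space S)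
    (x : AlgSp.Points X.obj) :
    (∃ p : AlgSp.FieldPt X.obj, AlgSp.Points.mk p = x ∧ Mono p.toHom) ↔
      ∃ q : AlgSp.FieldPt X.obj, AlgSp.Points.mk q = x ∧
        ∀ (P : AlgSp.Sp S) (fst snd : P ⟶ (AlgSp.yon S).obj q.pt), IsPullback fst snd q.toHom q.toHom →
          AlgSp.RepWith @Etale fst ∧ AlgSp.RepWith @QuasiCompact fst := by
  constructor
  · rintro ⟨p, hp, hpm⟩
    refine ⟨p, hp, fun P fst snd h => ?_⟩
    have := K622.Basic.isIso_fst_of_isPullback_self h
    exact ⟨MorphismProperty.of_isIso (AlgSp.RepWith @Etale) fst,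
      MorphismProperty.of_isIso (AlgSp.RepWith @QuasiCompact) fst⟩
  · rintro ⟨q, hq, h⟩
    obtain ⟨W, a, b, hW⟩ := K622.Basic.exists_pullback_yon (X.property.representable_from_yon q.toHom) q.toHom
    obtain ⟨h1, h2⟩ := h _ _ _ hW
    have h1' : Etale a.left := (AlgSp.repWith_yon_map_iff _ _).1 h1
    have h2' : QuasiCompact a.left := (AlgSp.repWith_yon_map_iff _ _).1 h2
    obtain ⟨p, hp, hpm⟩ := K622.MonoQuot.exists_mono_point (k := q.K) (str := q.str) q.toHom hW
      (K622.MonoQuot.etale_symm hW @Etale h1') (K622.MonoQuot.etale_symm hW @QuasiCompact h2')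
    refine ⟨p, ?_, hpm⟩
    rw [hp, ← hq]
    exact congrArg _ (K622.Basic.ofHom_toHom q)

end Groth.Agent.S10409
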