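import Groth.Statements.S10410
import Groth.Agent.AlgSp.K622.MonoQuot
import Groth.Agent.S10408

set_option autoImplicit false
universe u
open CategoryTheory CategoryTheory.Limits AlgebraicGeometry Topology TopologicalSpace
open AlgSp

namespace Groth.Agent.S10410

/-- Let X be an algebraic space over a scheme S, x ∈ |X|, and φ : U ⟶ X etale with U a scheme. Then x
lies in the image of |U| and the fibres of |U| → |X| and |U ×_X U| → |X| over x are finite, if and
only if x is represented by a monomorphism Spec k ⟶ X such that Spec k ×_X U is a nonempty scheme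
finite over k. -/
theorem result {S : Scheme.{u}} (X : AlgSp.Space S) (x : AlgSp.Points X.obj)
    {U : Over S} (φ : (AlgSp.yon S).obj U ⟶ X.obj) (hφ : AlgSp.RepWith @Etale φ) :
    (x ∈ Set.range (AlgSp.Points.ofPt φ) ∧ (AlgSp.Points.ofPt φ ⁻¹' {x}).Finite ∧
        ∀ (R : Over S) (s t : R ⟶ U), IsPullback ((AlgSp.yon S).map t) ((AlgSp.yon S).map s) φ φ →
          (AlgSp.Points.ofPt ((AlgSp.yon S).map t ≫ φ) ⁻¹' {x}).Finite) ↔
      ∃ p : AlgSp.FieldPt X.obj, AlgSp.Points.mk p = x ∧ Mono p.toHom ∧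
        ∀ (T : Over S) (c : T ⟶ p.pt) (snd : (AlgSp.yon S).obj T ⟶ (AlgSp.yon S).obj U),
          IsPullback ((AlgSp.yon S).map c) snd p.toHom φ → Nonempty ↥T.left ∧ IsFinite c.left := by
  constructor
  · rintro ⟨⟨u, hu⟩, hfin, hR⟩
    obtain ⟨R, t, s, h⟩ := K622.Basic.exists_pullback_yon hφ.1 φ
    obtain ⟨p, hp, hpm⟩ := K622.MonoQuot.exists_mono_point_of_finite'
      (fun g => X.property.representable_from_yon g) hφ h u u rfl ((hR R s t h).subset (by
        rintro r ⟨-, hr⟩
        change AlgSp.Points.ofPt ((AlgSp.yon S).map t ≫ φ) r = x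
        rw [K622.Basic.ofPt_yon_map, hr, hu]))
    have hpx : AlgSp.Points.mk p = x := hp.trans hu
    refine ⟨p, hpx, hpm, fun T c snd hT => ?_⟩
    obtain ⟨b, rfl⟩ := (AlgSp.yon S).map_surjective snd
    have hce : Etale c.left := hφ.2 _ _ _ hT.flip
    have hbm : Mono ((AlgSp.yon S).map b) := K622.Basic.mono_snd_of_isPullback hT
    have hbm' : Mono b.left := K622.MonoPts.mono_of_yon_map b
    obtain ⟨w, -, -⟩ := K622.Basic.exists_pt_of_isPullback' hT (K622.MonoPts.pt0 p.str) u (by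
      rw [K622.MonoPts.ofPt_toHom_pt0, hpx, hu])
    refine ⟨⟨w⟩, ?_⟩
    have hTf : Finite ↥T.left := by
      refine (Set.finite_range_iff b.left.injective).1 (hfin.subset ?_)
      rintro _ ⟨z, rfl⟩
      change AlgSp.Points.ofPt φ (b.left z) = x
      rw [← K622.Basic.ofPt_yon_map, ← hT.w, K622.Basic.ofPt_yon_map,
        K622.MonoPts.eq_pt0 (str := p.str) (c.left z), K622.MonoPts.ofPt_toHom_pt0, hpx]
    have hqc : QuasiCompact c.left := ⟨fun U _ _ => (Set.toFinite _).isCompact⟩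
    exact K622.Sch.isFinite_of_etale_of_quasiCompact (K := p.K) c.left
  · rintro ⟨p, hp, hpm, h⟩
    obtain ⟨T, b, c, hT⟩ := K622.Basic.exists_pullback_yon hφ.1 p.toHom
    obtain ⟨⟨z⟩, hfin⟩ := h T c _ hT.flip
    have hz : ∀ z : ↥T.left, AlgSp.Points.ofPt φ (b.left z) = x := by
      intro z
      rw [← K622.Basic.ofPt_yon_map, hT.w, K622.Basic.ofPt_yon_map,
        K622.MonoPts.eq_pt0 (str := p.str) (c.left z), K622.MonoPts.ofPt_toHom_pt0, hp]
    have hTf : Finite ↥T.left := by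
      have h1 := Scheme.Hom.finite_preimage_singleton c.left (K622.MonoPts.pt0 p.str)
      have h2 : c.left ⁻¹' {K622.MonoPts.pt0 p.str} = Set.univ := by
        ext y
        simp only [Set.mem_preimage, Set.mem_singleton_iff, Set.mem_univ, iff_true]
        exact K622.MonoPts.eq_pt0 _
      rw [h2] at h1
      exact Set.finite_univ_iff.1 h1
    have hfib : (AlgSp.Points.ofPt φ ⁻¹' {x}).Finite := by
      refine (Set.finite_range b.left).subset ?_
      intro u hu
      obtain ⟨w, hw, -⟩ := K622.Basic.exists_pt_of_isPullback' hT u (K622.MonoPts.pt0 p.str) (by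
        rw [K622.MonoPts.ofPt_toHom_pt0, hp]; exact hu)
      exact ⟨w, hw⟩
    refine ⟨⟨b.left z, hz z⟩, hfib, fun R s t hR => ?_⟩
    have hcov : AlgSp.Points.ofPt ((AlgSp.yon S).map t ≫ φ) ⁻¹' {x} ⊆
        ⋃ a ∈ (AlgSp.Points.ofPt φ ⁻¹' {x}) ×ˢ (AlgSp.Points.ofPt φ ⁻¹' {x}),
          {r : ↥R.left | s.left r = a.1 ∧ t.left r = a.2} := by
      intro r hr
      have h1 : AlgSp.Points.ofPt φ (t.left r) = x := by
        rw [← K622.Basic.ofPt_yon_map]; exact hr
      have h2 : AlgSp.Points.ofPt φ (s.left r) = x := by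
        rw [← K622.Basic.ofPt_yon_map, ← hR.w]; exact hr
      simp only [Set.mem_iUnion, exists_prop]
      exact ⟨(s.left r, t.left r), ⟨h2, h1⟩, rfl, rfl⟩
    refine Set.Finite.subset ((hfib.prod hfib).biUnion fun a ha => ?_) hcov
    exact Groth.Agent.S10408.result X x ⟨p, hp, hpm⟩ φ hφ a.1 a.2 ha.1 ha.2 R s t hR

end Groth.Agent.S10410
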