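import Groth.Statements.S10411
import Groth.Agent.AlgSp.K622.SchLoc

set_option autoImplicit false
universe u
open CategoryTheory CategoryTheory.Limits AlgebraicGeometry Topology TopologicalSpace
open AlgSp

namespace Groth.Agent.S10411

/-- Let S be a scheme, X and Y algebraic spaces over S, X ⟶ Y a surjective finite locally free morphism,
and y ∈ |Y|. Then y lies in the schematic locus of Y (some open subspace of Y containing y is a
scheme) if and only if there is an affine open subscheme U ⊆ X containing the preimage of y. -/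
theorem result {S : Scheme.{u}} {X Y : AlgSp.Space S} (f : X ⟶ Y)
    (hf : AlgSp.IsFinLocFreeMor f.hom) (hs : AlgSp.RepWith @Surjective f.hom) (y : AlgSp.Points Y.obj) :
    (∃ (Y' : AlgSp.Space S) (j : Y' ⟶ Y), AlgSp.RepWith @IsOpenImmersion j.hom ∧ Y'.obj.obj.IsRepresentable ∧
        y ∈ Set.range (AlgSp.Points.map j.hom)) ↔
      ∃ (U : Over S) (a : (AlgSp.yon S).obj U ⟶ X.obj), IsAffine U.left ∧ AlgSp.RepWith @IsOpenImmersion a ∧
        AlgSp.Points.map f.hom ⁻¹' {y} ⊆ Set.range (AlgSp.Points.ofPt a) := by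
  constructor
  · rintro ⟨Y', j, hj, hrep, y', hy'⟩
    obtain ⟨H, ⟨e⟩⟩ := K610.ZarGlue.isRepresentable_iff.1 hrep
    have hk : AlgSp.RepWith @IsOpenImmersion (e.hom ≫ j.hom) :=
      MorphismProperty.RespectsIso.precomp (AlgSp.RepWith @IsOpenImmersion) e.hom _ hj
    refine K622.SchLoc.exists_affine_of_nhd f hf y H (e.hom ≫ j.hom) hk ?_
    obtain ⟨h, hh⟩ := K622.Basic.exists_ofScheme H (AlgSp.Points.map e.inv y')
    refine ⟨h, ?_⟩
    rw [← AlgSp.Points.map_ofPt, AlgSp.Points.ofPt_eq_map_ofScheme e.hom h]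
    have h1 : AlgSp.Points.ofScheme H h = AlgSp.Points.map e.inv y' := by
      rw [← hh]
    rw [h1, ← AlgSp.Points.map_comp, ← AlgSp.Points.map_comp, e.inv_hom_id_assoc, hy']
  · rintro ⟨U, a, hU, ha, hy⟩
    obtain ⟨M, k, hk, hyk⟩ := K622.SchLoc.exists_of_affine_nhd f hf hs y U a hU ha hy
    let j : (AlgSp.ofScheme S).obj M ⟶ Y := (ObjectProperty.ι _).preimage (X := (AlgSp.ofScheme S).obj M) (Y := Y) k
    have hj : j.hom = k := Functor.map_preimage (ObjectProperty.ι _) _
    refine ⟨(AlgSp.ofScheme S).obj M, j, by rw [hj]; exact hk,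
      K610.ZarGlue.isRepresentable_iff.2 ⟨M, ⟨Iso.refl _⟩⟩, ?_⟩
    obtain ⟨m, hm⟩ := hyk
    refine ⟨AlgSp.Points.ofPt (𝟙 ((AlgSp.yon S).obj M)) m, ?_⟩
    rw [hj]
    exact (AlgSp.Points.map_ofPt _ _ _).trans ((congrArg (fun z => AlgSp.Points.ofPt z m) (Category.id_comp k)).trans hm)

end Groth.Agent.S10411
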