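import Groth.Statements.S10412
import Groth.Agent.AlgSp.K622.Basic
import Groth.Agent.AlgSp.K610.OpenImm
import Groth.Agent.AlgSp.K610.Sub
import Groth.Agent.AlgSp.K595.RepDesc
import Groth.Agent.AlgSp.K595.DescInst

set_option autoImplicit false
universe u
open CategoryTheory CategoryTheory.Limits AlgebraicGeometry Topology TopologicalSpace
open AlgSp

namespace Groth.Agent.S10412

/-- For an algebraic space X over a scheme S the following are equivalent: (1) X has a Zariski covering
by open subspaces X_i, each X_i admitting a surjective, etale and quasi-compact morphism U_i ⟶ X_i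
with U_i a scheme; (2) there are etale morphisms U_i ⟶ X from schemes, jointly surjective, such that
for each i both projection morphisms from U_i ×_X U_i to U_i are quasi-compact. -/
theorem result {S : Scheme.{u}} (X : AlgSp.Space S) :
    (∃ (ι : Type u) (Xi : ι → AlgSp.Space S) (j : ∀ i, Xi i ⟶ X) (U : ι → Over S)
        (a : ∀ i, (AlgSp.yon S).obj (U i) ⟶ (Xi i).obj),
        AlgSp.IsZarCover (fun i => (Xi i).obj) (fun i => (j i).hom) ∧
          ∀ i, AlgSp.RepWith @Etale (a i) ∧ AlgSp.RepWith @Surjective (a i) ∧ AlgSp.RepWith @QuasiCompact (a i)) ↔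
      ∃ (ι : Type u) (U : ι → Over S) (φ : ∀ i, (AlgSp.yon S).obj (U i) ⟶ X.obj),
        (∀ i, AlgSp.RepWith @Etale (φ i)) ∧
          (∀ x : AlgSp.Points X.obj, ∃ (i : ι) (v : ↥(U i).left), AlgSp.Points.ofPt (φ i) v = x) ∧
          ∀ (i : ι) (R : Over S) (s t : R ⟶ U i), IsPullback ((AlgSp.yon S).map t) ((AlgSp.yon S).map s) (φ i) (φ i) →
            QuasiCompact s.left ∧ QuasiCompact t.left := by
  constructor
  · rintro ⟨ι, Xi, j, U, a, hcov, ha⟩
    refine ⟨ι, U, fun i => a i ≫ (j i).hom, fun i => ?_, fun x => ?_, fun i R s t sq => ?_⟩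
    · refine (AlgSp.RepWith @Etale).comp_mem _ _ (ha i).1 ?_
      exact K595.RepDesc.repWith_mono (fun _ _ f (_ : IsOpenImmersion f) => (inferInstance : Etale f)) (hcov.1 i)
    · obtain ⟨i, z, hz⟩ := hcov.2 x
      obtain ⟨v, hv⟩ := K610.Base.surjective_ofPt (ha i).2.1 z
      exact ⟨i, v, by rw [← AlgSp.Points.map_ofPt, hv, hz]⟩
    · have hm : Mono (j i).hom := K610.Factor.mono_of_isOpenImmersion (hcov.1 i)
      have sq' : IsPullback ((AlgSp.yon S).map t) ((AlgSp.yon S).map s) (a i) (a i) :=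
        K610.OpenImm.isPullback_of_comp_mono (j i).hom sq
      exact ⟨(AlgSp.repWith_yon_map_iff _ _).1 ((AlgSp.RepWith @QuasiCompact).of_isPullback sq' (ha i).2.2),
        (AlgSp.repWith_yon_map_iff _ _).1 ((AlgSp.RepWith @QuasiCompact).of_isPullback sq'.flip (ha i).2.2)⟩
  · rintro ⟨ι, U, φ, hφ, hsurj, hqc⟩
    have hopen : ∀ i, IsOpen (Set.range (AlgSp.Points.ofPt (φ i))) := fun i =>
      (K610.Base.isOpenMap_ofPt_etale (hφ i)).isOpen_range
    choose Xi j hj hr using fun i => K610.Sub.exists_open_subspace X _ (hopen i)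
    choose a ha1 ha2 ha3 using fun i => K610.OpenImm.exists_corestrict X.property (hj i) (hr i) @Etale (hφ i)
    refine ⟨ι, Xi, j, U, a, ⟨hj, fun x => ?_⟩, fun i => ⟨ha2 i, ha3 i, ?_⟩⟩
    · obtain ⟨i, v, rfl⟩ := hsurj x
      exact ⟨i, by rw [hr]; exact ⟨v, rfl⟩⟩
    · have hm : Mono (j i).hom := K610.Factor.mono_of_isOpenImmersion (hj i)
      obtain ⟨R, t, s, sq⟩ := K622.Basic.exists_pullback_yon (hφ i).1 (φ i)
      have sq' : IsPullback ((AlgSp.yon S).map t) ((AlgSp.yon S).map s) (a i) (a i) := by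
        apply K610.OpenImm.isPullback_of_comp_mono (j i).hom
        rw [ha1]
        exact sq
      have := K595.DescInst.quasiCompact.{u}
      exact K595.RepDesc.repWith_of_isPullback (P := @QuasiCompact) (Q := K595.RepDesc.Fppf) sq' (ha2 i).1
        (K595.RepDesc.repWith_fppf (ha2 i) (ha3 i)) ((AlgSp.repWith_yon_map_iff _ _).2 (hqc i R s t sq).1)

end Groth.Agent.S10412
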