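import Groth.Statements.S10414
import Groth.Agent.AlgSp.K622.MonoPts
import Groth.Agent.AlgSp.K619.MonoSingle

set_option autoImplicit false
universe u
open CategoryTheory CategoryTheory.Limits AlgebraicGeometry Topology TopologicalSpace
open AlgSp

namespace Groth.Agent.S10414

open K622.Basic K622.MonoPts

set_option maxHeartbeats 400000 in
set_option backward.isDefEq.respectTransparency.types false in
theorem self_cover {S : Scheme.{u}} {K : Type u} [Field K] (str : Spec (CommRingCat.of K) ⟶ S) :
    ∃ (k : Type u) (_ : Field k) (str' : Spec (CommRingCat.of k) ⟶ S)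
      (p : (yon S).obj (Over.mk str') ⟶ (yon S).obj (Over.mk str)),
        LocP @LocallyOfFinitePresentation p ∧ LocP @Flat p ∧ IsSurjectiveMor p := by
  have h : RepWith @Etale (𝟙 ((yon S).obj (Over.mk str))) := repWith_id @Etale (Over.mk str)
  refine ⟨K, inferInstance, str, 𝟙 _, ?_, ?_, ?_⟩
  · exact K619.LocPComp.locP_of_chart _ K619.LocPComp.etale_le_lfp h
  · exact K619.LocPComp.locP_of_chart _ K619.LocPComp.etale_le_flat h
  · intro x
    exact ⟨x, by rw [Points.map_id]⟩

set_option maxHeartbeats 400000 in
set_option backward.isDefEq.respectTransparency.types false in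
theorem range_field {S : Scheme.{u}} {F : Sp S} {K : Type u} [Field K] {str : Spec (CommRingCat.of K) ⟶ S}
    (p : (yon S).obj (Over.mk str) ⟶ F) : Set.range (Points.map p) = {Points.ofPt p (pt0 str)} := by
  ext y
  simp only [Set.mem_range, Set.mem_singleton_iff]
  constructor
  · rintro ⟨z, rfl⟩
    obtain ⟨t, rfl⟩ := exists_ofScheme _ z
    rw [eq_pt0 t, Points.map_ofPt, Category.id_comp]
  · rintro rfl
    exact ⟨Points.ofPt (𝟙 _) (pt0 str), by rw [Points.map_ofPt, Category.id_comp]⟩

/-- Let S be a scheme, X an algebraic space over S, x ∈ |X|, and Z_x ⟶ X the residual space of x (a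
monomorphism with image {x} from a space which admits a locally finitely presented, flat, surjective
morphism whose source is the spectrum of a field). Then Z_x is isomorphic to Spec k' for some field
k' if and only if the point x is represented by some monomorphism Spec k ⟶ X. (The decent case, in
which the right side holds at every point, is not part of this row.) -/
theorem result {S : Scheme.{u}} (X : AlgSp.Space S) (x : AlgSp.Points X.obj)
    {Z : AlgSp.Space S} (i : Z ⟶ X) [Mono i.hom] (hi : Set.range (AlgSp.Points.map i.hom) = {x})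
    (hZ : ∃ (k : Type u) (_ : Field k) (str : Spec (CommRingCat.of k) ⟶ S) (p : (AlgSp.yon S).obj (Over.mk str) ⟶ Z.obj),
        AlgSp.LocP @LocallyOfFinitePresentation p ∧ AlgSp.LocP @Flat p ∧ AlgSp.IsSurjectiveMor p) :
    (∃ (k : Type u) (_ : Field k) (str : Spec (CommRingCat.of k) ⟶ S), Nonempty (Z.obj ≅ (AlgSp.yon S).obj (Over.mk str))) ↔
      ∃ p : AlgSp.FieldPt X.obj, AlgSp.Points.mk p = x ∧ Mono p.toHom := by
  constructor
  · rintro ⟨k, _, str, ⟨e⟩⟩
    let m : (AlgSp.yon S).obj (Over.mk str) ⟶ X.obj := e.inv ≫ i.hom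
    have hm : Mono m := mono_comp _ _
    refine ⟨K622.Basic.ofHom m, ?_, ?_⟩
    · have h1 : AlgSp.Points.ofPt m (pt0 str) ∈ Set.range (AlgSp.Points.map i.hom) := by
        refine ⟨AlgSp.Points.ofPt e.inv (pt0 str), ?_⟩
        rw [AlgSp.Points.map_ofPt]
      rw [hi] at h1
      rw [mk_ofHom_eq_ofPt]
      exact h1
    · rw [toHom_ofHom]
      exact hm
  · rintro ⟨p, hp, hm⟩
    let Z' : AlgSp.Space S := (AlgSp.ofScheme S).obj (Over.mk p.str)
    let i' : Z' ⟶ X := (ObjectProperty.ι _).preimage (X := Z') (Y := X) p.toHom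
    have hi' : i'.hom = p.toHom := Functor.map_preimage (ObjectProperty.ι _) _
    have hmi : Mono i'.hom := by rw [hi']; exact hm
    have h2 : Set.range (AlgSp.Points.map (F := (AlgSp.yon S).obj (Over.mk p.str)) p.toHom) = {x} := by
      have h3 := range_field (K := p.K) (str := p.str) p.toHom
      rw [ofPt_toHom_pt0, hp] at h3
      exact h3
    have hr : Set.range (AlgSp.Points.map i'.hom) = {x} :=
      (congrArg (fun m => Set.range (AlgSp.Points.map m)) hi').trans h2
    obtain ⟨e, -⟩ := K619.MonoSingle.residual_unique X x i i' hi hr hZ (self_cover p.str)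
    exact ⟨p.K, inferInstance, p.str, ⟨(ObjectProperty.ι _).mapIso e.symm⟩⟩

end Groth.Agent.S10414
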