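import Groth.Statements.S10416
import Groth.Agent.AlgSp.K622.Residual
import Groth.Agent.AlgSp.K598.Red

set_option autoImplicit false
universe u
open CategoryTheory CategoryTheory.Limits AlgebraicGeometry Topology TopologicalSpace
open AlgSp

namespace Groth.Agent.S10416

/-- Let S be a scheme, X a locally Noetherian algebraic space over S, x ∈ |X|, and i : Z_x ⟶ X the
residual space at x. Then x is closed in |X| if and only if i is a closed immersion. -/
theorem result {S : Scheme.{u}} {X Z : AlgSp.Space S}
    (hX : AlgSp.IsLocNoethSp X.obj) (x : AlgSp.Points X.obj) (i : Z ⟶ X) [Mono i.hom]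
    (hi : Set.range (AlgSp.Points.map i.hom) = {x}) (hZ : ∃ (k : Type u) (_ : Field k) (str : Spec (CommRingCat.of k) ⟶ S) (p : (AlgSp.yon S).obj (Over.mk str) ⟶ Z.obj),
        AlgSp.LocP @LocallyOfFinitePresentation p ∧ AlgSp.LocP @Flat p ∧ AlgSp.IsSurjectiveMor p) :
    IsClosed ({x} : Set (AlgSp.Points X.obj)) ↔ AlgSp.RepWith @IsClosedImmersion i.hom := by
  constructor
  · intro hcl
    obtain ⟨W, w, hW, hw⟩ := K598.Red.exists_isRedInduced X.property {x} hcl
    have hwm : Mono w := K610.Factor.mono_of_isClosedImmersion hw.1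
    let W' : AlgSp.Space S := ⟨W, hW⟩
    let w' : W' ⟶ X := (ObjectProperty.ι _).preimage (X := W') (Y := X) w
    have hw' : w'.hom = w := Functor.map_preimage (ObjectProperty.ι _) _
    obtain ⟨g, hg⟩ := K622.Residual.exists_factor w' x (fun y => by
      have h1 : AlgSp.Points.map w'.hom y ∈ Set.range (AlgSp.Points.map w) := ⟨y, by rw [hw']⟩
      rw [hw.2.1] at h1
      exact h1) hw.2.2 hX i (by rw [hi]; exact Set.mem_singleton x)
    have hg' : g.hom ≫ i.hom = w := by
      rw [← hw', ← hg]
      rfl
    have hgm : Mono g.hom := by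
      have : Mono (g.hom ≫ i.hom) := by rw [hg']; exact hwm
      exact mono_of_mono g.hom i.hom
    obtain ⟨z, hz⟩ : x ∈ Set.range (AlgSp.Points.map w) := by rw [hw.2.1]; exact Set.mem_singleton x
    have hiso : IsIso g.hom := (K619.MonoSingle.isEmpty_or_isIso hW Z.property g.hom hZ).resolve_left
      (fun h => h.false z)
    have h2 : i.hom = inv g.hom ≫ w := by rw [← hg', IsIso.inv_hom_id_assoc]
    rw [h2]
    exact MorphismProperty.RespectsIso.precomp (AlgSp.RepWith @IsClosedImmersion) (inv g.hom) w hw.1
  · intro h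
    rw [← hi]
    exact K598.Red.isClosed_range h

end Groth.Agent.S10416
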