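import Groth.Statements.S10417
import Groth.Agent.AlgSp.K622.FinFib

set_option autoImplicit false
universe u
open CategoryTheory CategoryTheory.Limits AlgebraicGeometry Topology TopologicalSpace
open AlgSp

namespace Groth.Agent.S10417

/-- Let W = X ×_Y Z be a fibre product of algebraic spaces over a scheme S with projections p, q and let
x ∈ |X|, z ∈ |Z| lie over the same point of |Y|. If f : X ⟶ Y is of finite type and quasi-finite at
x, then the set of points of |W| mapping to x and to z is finite. -/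
theorem result {S : Scheme.{u}} {X Y Z W : AlgSp.Space S} (f : X ⟶ Y)
    (g : Z ⟶ Y) (p : W ⟶ X) (q : W ⟶ Z) (hW : IsPullback p.hom q.hom f.hom g.hom) (x : AlgSp.Points X.obj)
    (z : AlgSp.Points Z.obj) (hxz : AlgSp.Points.map f.hom x = AlgSp.Points.map g.hom z)
    (hft : AlgSp.IsFiniteTypeMor f.hom) (hf : AlgSp.HasAtMor (fun U _ h u => ∃ W : U.Opens, u ∈ W ∧ LocallyQuasiFinite (W.ι ≫ h) ∧ LocallyOfFiniteType (W.ι ≫ h)) f.hom x) :
    {w : AlgSp.Points W.obj | AlgSp.Points.map p.hom w = x ∧ AlgSp.Points.map q.hom w = z}.Finite := by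
  obtain ⟨K, _, str, m, rfl⟩ := K622.Basic.exists_ofHom z
  have sq := IsPullback.of_hasPullback f.hom (m ≫ g.hom)
  have hfin := K622.FinFib.finite_over X.property Y.property f.hom hft (m ≫ g.hom) sq x hf
  let r : pullback f.hom (m ≫ g.hom) ⟶ W.obj := hW.lift (pullback.fst f.hom (m ≫ g.hom))
    (pullback.snd f.hom (m ≫ g.hom) ≫ m) (by rw [Category.assoc]; exact sq.w)
  have hr1 : r ≫ p.hom = pullback.fst f.hom (m ≫ g.hom) := hW.lift_fst _ _ _
  have hr2 : r ≫ q.hom = pullback.snd f.hom (m ≫ g.hom) ≫ m := hW.lift_snd _ _ _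
  have sq' : IsPullback r (pullback.snd f.hom (m ≫ g.hom)) q.hom m := by
    refine IsPullback.of_right (h₁₂ := p.hom) (v₁₃ := f.hom) (h₂₂ := g.hom) ?_ hr2 hW
    rw [hr1]
    exact sq
  refine (hfin.image (AlgSp.Points.map r)).subset ?_
  rintro w ⟨hw1, hw2⟩
  obtain ⟨v, hv, -⟩ := K622.Basic.exists_of_isPullback sq' w
    (AlgSp.Points.ofPt (𝟙 ((AlgSp.yon S).obj (Over.mk str))) (K622.MonoPts.pt0 str)) (by
      rw [hw2, AlgSp.Points.map_ofPt, Category.id_comp, K622.MonoPts.mk_ofHom_eq_ofPt])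
  refine ⟨v, ?_, hv⟩
  change AlgSp.Points.map (pullback.fst f.hom (m ≫ g.hom)) v = x
  rw [← hr1, AlgSp.Points.map_comp, hv, hw1]

end Groth.Agent.S10417
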