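import Groth.Statements.S10418
import Groth.Agent.AlgSp.K594.StrataSp

set_option autoImplicit false
universe u
open CategoryTheory CategoryTheory.Limits AlgebraicGeometry Topology TopologicalSpace
open AlgSp

namespace Groth.Agent.S10418

/-- Let S be a scheme and X an algebraic space over S which is quasi-compact. There are open subspaces X
= U_1 ⊇ U_2 ⊇ U_3 ⊇ ⋯ such that (1) with T_p = U_p ∖ U_{p+1} (reduced induced subspace structure)
there is a separated scheme V_p with a surjective etale f_p : V_p ⟶ U_p for which the map f_p⁻¹(T_p)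
⟶ T_p is an isomorphism, and (2) every x ∈ |X| admitting a representative given by a quasi-compact
morphism from the spectrum of a field lies in T_p for some p. -/
theorem result {S : Scheme.{u}} (X : AlgSp.Space S)
    (hX : AlgSp.IsQuasiCompactSp X.obj) :
    ∃ (Uo : ℕ → AlgSp.Space S) (j : ∀ p, Uo p ⟶ X) (k : ∀ p, Uo (p + 1) ⟶ Uo p)
      (T : ℕ → AlgSp.Space S) (i : ∀ p, T p ⟶ Uo p),
      (∀ p, AlgSp.RepWith @IsOpenImmersion (j p).hom) ∧ (∀ p, k p ≫ j p = j (p + 1)) ∧ IsIso (j 1) ∧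
      (∀ p, AlgSp.IsRedInduced (Set.range (AlgSp.Points.map (k p).hom))ᶜ (i p).hom) ∧
      (∀ p, 1 ≤ p → ∃ (V : Over S) (f : (AlgSp.yon S).obj V ⟶ (Uo p).obj), V.left.IsSeparated ∧
        AlgSp.RepWith @Etale f ∧ AlgSp.RepWith @Surjective f ∧
        ∀ (P : AlgSp.Sp S) (fst : P ⟶ (T p).obj) (snd : P ⟶ (AlgSp.yon S).obj V),
          IsPullback fst snd (i p).hom f → IsIso fst) ∧
      (∀ x : AlgSp.Points X.obj, (∃ q : AlgSp.FieldPt X.obj, AlgSp.Points.mk q = x ∧ AlgSp.RepWith @QuasiCompact q.toHom) →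
        ∃ p, 1 ≤ p ∧ x ∈ Set.range (AlgSp.Points.map ((i p) ≫ (j p)).hom)) := by
  obtain ⟨U, p, hU, hp, hs⟩ := K609.QC.exists_affine_chart hX
  obtain ⟨Uo, j, k, T, i, h1, h2, h3, h4, h5, h6, h7⟩ := K594.StrataSp.exists_filtration X p hp hs
  refine ⟨Uo, j, k, T, i, h1, h2, h3, h4, fun n hn => ?_, ?_⟩
  · obtain ⟨V, f, g1, -, g2, g3, g4⟩ := h7 n hn
    exact ⟨V, f, g1, g2, g3, g4⟩
  · rintro _ ⟨q, rfl, hq⟩
    have hex := K594.StrataSp.exists_notMem_GEX p hp q hq
    classical
    have h8 := Nat.find_spec hex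
    have h9 : ∀ m < Nat.find hex, AlgSp.Points.mk q ∈ K617.Strat.GEX p m := fun m hm => by
      have := Nat.find_min hex hm
      exact not_not.1 this
    have h10 : AlgSp.Points.mk q ∈ K617.Strat.GEX p 1 := by
      rw [K617.Strat.GEX_one p hp.1, (K610.Base.surjective_ofPt hs).range_eq]
      trivial
    have h11 : AlgSp.Points.mk q ∈ K617.Strat.GEX p 0 := by
      rw [K617.Strat.GEX_zero p hp.1]
      trivial
    obtain ⟨m, hm⟩ : ∃ m, Nat.find hex = m + 2 := by
      rcases h : Nat.find hex with _ | _ | m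
      · rw [h] at h8
        exact absurd h11 h8
      · rw [h] at h8
        exact absurd h10 h8
      · exact ⟨m, rfl⟩
    refine ⟨m + 1, by omega, h6 (m + 1) ⟨h9 (m + 1) (by omega), ?_⟩⟩
    rw [hm] at h8
    exact h8

end Groth.Agent.S10418
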