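import Groth.Statements.S10420
import Groth.Agent.AlgSp.K622.ElemNbhd
import Groth.Agent.AlgSp.K622.MonoQuot

set_option autoImplicit false
universe u
open CategoryTheory CategoryTheory.Limits AlgebraicGeometry Topology TopologicalSpace
open AlgSp

namespace Groth.Agent.S10420

open K622.Basic K622.EpiYon K622.Sch K622.MonoPts K622.GrpQuot K622.ElemNbhd

set_option maxHeartbeats 400000 in
set_option backward.isDefEq.respectTransparency.types false in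
theorem part1 {S : Scheme.{u}} {F : Sp S} (hF : ∀ {T : Over S} (g : (yon S).obj T ⟶ F), Representable g)
    {x : Points F} {U₁ U₂ : Over S} {a₁ : (yon S).obj U₁ ⟶ F} {a₂ : (yon S).obj U₂ ⟶ F} {u₁ : ↥U₁.left}
    {u₂ : ↥U₂.left} (h₁ : IsElemEtaleNbhd a₁ u₁ x) (h₂ : IsElemEtaleNbhd a₂ u₂ x) :
    ∃ (U : Over S) (a : (yon S).obj U ⟶ F) (v : ↥U.left) (k₁ : U ⟶ U₁) (k₂ : U ⟶ U₂),
      IsElemEtaleNbhd a v x ∧ (yon S).map k₁ ≫ a₁ = a ∧ (yon S).map k₂ ≫ a₂ = a ∧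
        k₁.left v = u₁ ∧ k₂.left v = u₂ := by
  obtain ⟨W, p, q, hW⟩ := exists_pullback_yon (hF a₁) a₂
  let ι₁ : Over.mk (U₁.left.fromSpecResidueField u₁ ≫ U₁.hom) ⟶ U₁ :=
    Over.homMk (U₁.left.fromSpecResidueField u₁) rfl
  let ι₂ : Over.mk (U₂.left.fromSpecResidueField u₂ ≫ U₂.hom) ⟶ U₂ :=
    Over.homMk (U₂.left.fromSpecResidueField u₂) rfl
  have m₁ : Mono ((yon S).map ι₁ ≫ a₁) := by
    have := h₁.mono
    rw [FieldPt.toHom_ofPt] at this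
    exact this
  have m₂ : Mono ((yon S).map ι₂ ≫ a₂) := by
    have := h₂.mono
    rw [FieldPt.toHom_ofPt] at this
    exact this
  have e₁ : ∀ z, ι₁.left z = u₁ := fun z => Scheme.fromSpecResidueField_apply u₁ z
  have e₂ : ∀ z, ι₂.left z = u₂ := fun z => Scheme.fromSpecResidueField_apply u₂ z
  obtain ⟨e, he⟩ := exists_iso_of_mk_eq (K := U₁.left.residueField u₁) (L := U₂.left.residueField u₂)
    ((yon S).map ι₁ ≫ a₁) ((yon S).map ι₂ ≫ a₂) (hF _) (by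
      rw [ofPt_yon_map, ofPt_yon_map, e₁, e₂, h₁.ofPt_eq, h₂.ofPt_eq])
  obtain ⟨l, hl⟩ := (yon S).map_surjective (hW.lift ((yon S).map ι₁) ((yon S).map (e.hom ≫ ι₂)) (by
    rw [Functor.map_comp, Category.assoc, he]))
  have hlp : l ≫ p = ι₁ := (yon S).map_injective (by rw [Functor.map_comp, hl, hW.lift_fst])
  have hlq : l ≫ q = e.hom ≫ ι₂ := (yon S).map_injective (by rw [Functor.map_comp, hl, hW.lift_snd])
  have hpe : Etale p.left := (repWith_yon_map_iff _ _).1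
    ((RepWith @Etale).of_isPullback hW.flip h₂.etale)
  obtain ⟨v, hvl, hv, hv'⟩ := elem_of_lift p a₁ u₁ h₁ hpe l hlp
  refine ⟨W, _, v, p, q, hv', rfl, hW.w.symm, hv, ?_⟩
  rw [hvl, K622.MonoQuot.left_left, hlq, Over.comp_left, Scheme.Hom.comp_apply]
  exact e₂ _

set_option maxHeartbeats 400000 in
set_option backward.isDefEq.respectTransparency.types false in
theorem part2 {S : Scheme.{u}} {F : Sp S} (hF : ∀ {T : Over S} (g : (yon S).obj T ⟶ F), Representable g)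
    {x : Points F} {U₁ U₂ : Over S} {a₁ : (yon S).obj U₁ ⟶ F} {a₂ : (yon S).obj U₂ ⟶ F} {u₁ : ↥U₁.left}
    {u₂ : ↥U₂.left} (b c : U₁ ⟶ U₂) (h₁ : IsElemEtaleNbhd a₁ u₁ x) (h₂ : IsElemEtaleNbhd a₂ u₂ x)
    (hb : (yon S).map b ≫ a₂ = a₁) (hc : (yon S).map c ≫ a₂ = a₁) (hbu : b.left u₁ = u₂) (hcu : c.left u₁ = u₂) :
    ∃ (U : Over S) (a : (yon S).obj U ⟶ F) (v : ↥U.left) (h : U ⟶ U₁),
      IsElemEtaleNbhd a v x ∧ (yon S).map h ≫ a₁ = a ∧ h.left v = u₁ ∧ h ≫ b = h ≫ c := by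
  obtain ⟨R, t, s, hR⟩ := exists_pullback_yon (hF a₂) a₂
  obtain ⟨β, hβt, hβs⟩ := exists_lift hR b c (by rw [hb, hc])
  obtain ⟨δ, hδt, hδs⟩ := exists_lift hR (𝟙 U₂) (𝟙 U₂) rfl
  let ι₁ : Over.mk (U₁.left.fromSpecResidueField u₁ ≫ U₁.hom) ⟶ U₁ :=
    Over.homMk (U₁.left.fromSpecResidueField u₁) rfl
  let ι₂ : Over.mk (U₂.left.fromSpecResidueField u₂ ≫ U₂.hom) ⟶ U₂ :=
    Over.homMk (U₂.left.fromSpecResidueField u₂) rfl
  have m₂ : Mono ((yon S).map ι₂ ≫ a₂) := by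
    have := h₂.mono
    rw [FieldPt.toHom_ofPt] at this
    exact this
  have e₁ : ∀ z, ι₁.left z = u₁ := fun z => Scheme.fromSpecResidueField_apply u₁ z
  have hbc : ι₁ ≫ b = ι₁ ≫ c := by
    obtain ⟨g₁, hg₁⟩ := exists_factor_residue (K := U₁.left.residueField u₁) (ι₁ ≫ b) u₂ (by
      rw [Over.comp_left, Scheme.Hom.comp_apply, e₁, hbu])
    obtain ⟨g₂, hg₂⟩ := exists_factor_residue (K := U₁.left.residueField u₁) (ι₁ ≫ c) u₂ (by
      rw [Over.comp_left, Scheme.Hom.comp_apply, e₁, hcu])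
    have : (yon S).map g₁ ≫ ((yon S).map ι₂ ≫ a₂) = (yon S).map g₂ ≫ ((yon S).map ι₂ ≫ a₂) := by
      rw [← Category.assoc, ← Category.assoc, ← Functor.map_comp, ← Functor.map_comp]
      rw [show g₁ ≫ ι₂ = ι₁ ≫ b from hg₁, show g₂ ≫ ι₂ = ι₁ ≫ c from hg₂, Functor.map_comp, Functor.map_comp,
        Category.assoc, Category.assoc, hb, hc]
    rw [cancel_mono] at this
    rw [← hg₁, ← hg₂, (yon S).map_injective this]
  let E := pullback β δ
  let h : E ⟶ U₁ := pullback.fst _ _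
  let g : E ⟶ U₂ := pullback.snd _ _
  have hE : IsPullback h.left g.left β.left δ.left :=
    (IsPullback.of_hasPullback β δ).map (Over.forget S)
  have ht : Etale t.left := (repWith_yon_map_iff _ _).1 ((RepWith @Etale).of_isPullback hR.flip h₂.etale)
  have hδ : Etale δ.left := by
    have h3 : Etale (δ.left ≫ t.left) := by
      rw [← Over.comp_left, hδt]
      exact inferInstanceAs (Etale (𝟙 _))
    exact Etale.of_comp δ.left t.left
  have hh : Etale h.left := MorphismProperty.of_isPullback (P := @Etale) hE.flip hδ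
  have hw : h ≫ β = g ≫ δ := pullback.condition
  have hlift : ι₁ ≫ β = (ι₁ ≫ b) ≫ δ := hom_ext_rel hR
    (by rw [Category.assoc, Category.assoc, hβt, hδt, Category.comp_id])
    (by rw [Category.assoc, Category.assoc, hβs, hδs, Category.comp_id, hbc])
  obtain ⟨v, -, hv, hv'⟩ := elem_of_lift h a₁ u₁ h₁ hh (pullback.lift ι₁ (ι₁ ≫ b) hlift) (pullback.lift_fst _ _ _)
  refine ⟨E, _, v, h, hv', rfl, hv, ?_⟩
  rw [← hβt, ← hβs, ← Category.assoc, ← Category.assoc, hw, Category.assoc, Category.assoc, hδt, hδs]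

/-- For a decent algebraic space X over a scheme S and x ∈ |X|, the category of elementary etale
neighbourhoods (U, u) ⟶ (X, x) is cofiltered: two objects are dominated by a third and two parallel
morphisms are equalized from some object (it is nonempty by the existence of elementary etale
neighbourhoods). -/
theorem result {S : Scheme.{u}} (X : AlgSp.Space S) (hX : AlgSp.IsDecent X.obj)
    (x : AlgSp.Points X.obj) :
    (∀ (U₁ U₂ : Over S) (a₁ : (AlgSp.yon S).obj U₁ ⟶ X.obj) (a₂ : (AlgSp.yon S).obj U₂ ⟶ X.obj) (u₁ : ↥U₁.left)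
        (u₂ : ↥U₂.left), AlgSp.IsElemEtaleNbhd a₁ u₁ x → AlgSp.IsElemEtaleNbhd a₂ u₂ x →
        ∃ (U : Over S) (a : (AlgSp.yon S).obj U ⟶ X.obj) (v : ↥U.left) (h₁ : U ⟶ U₁) (h₂ : U ⟶ U₂),
          AlgSp.IsElemEtaleNbhd a v x ∧ (AlgSp.yon S).map h₁ ≫ a₁ = a ∧ (AlgSp.yon S).map h₂ ≫ a₂ = a ∧
            h₁.left v = u₁ ∧ h₂.left v = u₂) ∧
      (∀ (U₁ U₂ : Over S) (a₁ : (AlgSp.yon S).obj U₁ ⟶ X.obj) (a₂ : (AlgSp.yon S).obj U₂ ⟶ X.obj) (u₁ : ↥U₁.left)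
        (u₂ : ↥U₂.left) (b c : U₁ ⟶ U₂), AlgSp.IsElemEtaleNbhd a₁ u₁ x → AlgSp.IsElemEtaleNbhd a₂ u₂ x →
        (AlgSp.yon S).map b ≫ a₂ = a₁ → (AlgSp.yon S).map c ≫ a₂ = a₁ → b.left u₁ = u₂ → c.left u₁ = u₂ →
        ∃ (U : Over S) (a : (AlgSp.yon S).obj U ⟶ X.obj) (v : ↥U.left) (h : U ⟶ U₁),
          AlgSp.IsElemEtaleNbhd a v x ∧ (AlgSp.yon S).map h ≫ a₁ = a ∧ h.left v = u₁ ∧ h ≫ b = h ≫ c) := by
  have hF : ∀ {T : Over S} (g : (yon S).obj T ⟶ X.obj), Representable g := fun g => X.property.representable_from_yon g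
  exact ⟨fun U₁ U₂ a₁ a₂ u₁ u₂ h₁ h₂ => part1 hF h₁ h₂,
    fun U₁ U₂ a₁ a₂ u₁ u₂ b c h₁ h₂ hb hc hbu hcu => part2 hF b c h₁ h₂ hb hc hbu hcu⟩

end Groth.Agent.S10420
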