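import Groth.Statements.S10422
import Mathlib.LinearAlgebra.Dimension.Finrank
import Mathlib.LinearAlgebra.Dimension.StrongRankCondition
import Mathlib.RingTheory.TensorProduct.Nontrivial

set_option autoImplicit false
universe u
open Topology TopologicalSpace TensorProduct
open AlgSp

namespace Groth.Agent.S10422

/-- Finitely many extensions of a field `k` embed into a common one. -/
theorem exists_common {ι : Type*} (k : Type u) [Field k] (K : ι → Type u) [∀ i, Field (K i)]
    [∀ i, Algebra k (K i)] (s : Finset ι) :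
    ∃ (Ω : Type u) (_ : Field Ω) (_ : Algebra k Ω), ∀ i ∈ s, Nonempty (K i →ₐ[k] Ω) := by
  classical
  induction s using Finset.induction_on with
  | empty => exact ⟨k, inferInstance, inferInstance, by simp⟩
  | insert j s hj ih =>
    obtain ⟨Ω, _, _, h⟩ := ih
    have : Nontrivial (K j ⊗[k] Ω) :=
      Algebra.TensorProduct.nontrivial_of_algebraMap_injective_of_isDomain k (K j) Ω
        (algebraMap k (K j)).injective (algebraMap k Ω).injective
    obtain ⟨m, hm⟩ := Ideal.exists_maximal (K j ⊗[k] Ω)
    refine ⟨(K j ⊗[k] Ω) ⧸ m, Ideal.Quotient.field m, inferInstance, fun i hi => ?_⟩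
    rcases Finset.mem_insert.1 hi with rfl | hi
    · exact ⟨(Ideal.Quotient.mkₐ k m).comp Algebra.TensorProduct.includeLeft⟩
    · obtain ⟨g⟩ := h i hi
      exact ⟨((Ideal.Quotient.mkₐ k m).comp Algebra.TensorProduct.includeRight).comp g⟩

/-- A diagonal matrix with `r + 1` nonzero entries is not a product through dimension `r`. -/
theorem rank_bound {Ω : Type*} [Field Ω] {r : ℕ} (v w : Fin (r + 1) → Fin r → Ω)
    (h0 : ∀ i j, i ≠ j → ∑ t, v i t * w j t = 0) (h1 : ∀ i, ∑ t, v i t * w i t ≠ 0) : False := by
  have hli : LinearIndependent Ω v := by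
    rw [Fintype.linearIndependent_iff]
    intro c hc j
    have h2 : ∑ t, (∑ i, c i • v i) t * w j t = 0 := by rw [hc]; simp
    have h3 : ∑ t, (∑ i, c i • v i) t * w j t = ∑ i, c i * ∑ t, v i t * w j t := by
      simp only [Finset.sum_apply, Pi.smul_apply, smul_eq_mul, Finset.sum_mul, Finset.mul_sum]
      rw [Finset.sum_comm]
      simp only [mul_assoc]
    rw [h3, Finset.sum_eq_single j (fun i _ hij => by rw [h0 i j hij, mul_zero]) (by simp)] at h2
    exact (mul_eq_zero.1 h2).resolve_right (h1 j)
  have := hli.fintype_card_le_finrank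
  simp at this

theorem key (A : Type u) [CommRing A] (k : Type u) [Field k]
    (K : ℕ → Type u) [∀ n, Field (K n)] [∀ n, Algebra A (K n)] [∀ n, Algebra k (K n)]
    {r : ℕ} (a b : Fin r → A)
    (h : ∀ n m, n ≠ m → IsNilpotent (∑ t, (algebraMap A (K n) (a t)) ⊗ₜ[k] (algebraMap A (K m) (b t)))) :
    {n | algebraMap A (K n) (∑ t, a t * b t) ≠ 0}.Finite := by
  classical
  by_contra hinf
  have hinf : {n | algebraMap A (K n) (∑ t, a t * b t) ≠ 0}.Infinite := hinf
  obtain ⟨s, hs, hcard⟩ := hinf.exists_subset_card_eq (r + 1)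
  obtain ⟨Ω, _, _, hΩ⟩ := exists_common k K s
  have e : Fin (r + 1) ≃ s := (Fintype.equivFinOfCardEq (by simpa using hcard)).symm
  let σ : ∀ i : Fin (r + 1), K (e i) →ₐ[k] Ω := fun i => (hΩ (e i) (e i).2).some
  refine rank_bound (fun i t => σ i (algebraMap A (K (e i)) (a t)))
    (fun i t => σ i (algebraMap A (K (e i)) (b t))) ?_ ?_
  · intro i j hij
    have hne : (e i : ℕ) ≠ e j := fun h => hij (e.injective (Subtype.ext h))
    have h1 := (h _ _ hne).map (Algebra.TensorProduct.lift (σ i) (σ j) (fun _ _ => Commute.all _ _))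
    have h2 := h1.eq_zero
    simpa [map_sum, Algebra.TensorProduct.lift_tmul] using h2
  · intro i
    have h1 : algebraMap A (K (e i)) (∑ t, a t * b t) ≠ 0 := hs (e i).2
    have h2 : σ i (algebraMap A (K (e i)) (∑ t, a t * b t)) ≠ 0 := by
      simpa using (map_ne_zero (σ i)).2 h1
    simpa [map_sum, map_mul] using h2

/-- Let A be a ring, k a field, (p_n) a sequence of primes of A which are pairwise distinct, and k →
κ(p_n) field embeddings. Then the closure in Spec(A ⊗ A) of the image of ∐_{n ≠ m} Spec(κ(p_n) ⊗_k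
κ(p_m)) meets the diagonal. Here κ(p_n) is any A-algebra K_n which is a field whose structure map
has kernel p_n and whose elements are quotients of images of elements of A. -/
theorem result (A : Type u) [CommRing A] (k : Type u) [Field k]
    (p : ℕ → PrimeSpectrum A) (hp : Function.Injective p) (K : ℕ → Type u) [∀ n, Field (K n)]
    [∀ n, Algebra A (K n)] [∀ n, Algebra k (K n)]
    (hker : ∀ n, RingHom.ker (algebraMap A (K n)) = (p n).asIdeal)
    (hfrac : ∀ n (x : K n), ∃ a b : A, algebraMap A (K n) b ≠ 0 ∧ x * algebraMap A (K n) b = algebraMap A (K n) a) :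
    (closure (⋃ (n : ℕ) (m : ℕ) (_ : n ≠ m),
        Set.range (PrimeSpectrum.comap
          (Algebra.TensorProduct.lift
            ((Algebra.TensorProduct.includeLeft (R := k) (S := ℤ) (A := K n) (B := K m)).toRingHom.toIntAlgHom.comp
              (Algebra.ofId A (K n)).toRingHom.toIntAlgHom)
            ((Algebra.TensorProduct.includeRight (R := k) (A := K n) (B := K m)).toRingHom.toIntAlgHom.comp
              (Algebra.ofId A (K m)).toRingHom.toIntAlgHom)
            (fun _ _ => Commute.all _ _)).toRingHom)) ∩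
      Set.range (PrimeSpectrum.comap (Algebra.TensorProduct.lmul' (S := A) ℤ).toRingHom)).Nonempty := by
  classical
  -- the ideal of elements vanishing at almost all `p n`
  let I : Ideal A :=
    { carrier := {a | {n | algebraMap A (K n) a ≠ 0}.Finite}
      zero_mem' := by simp
      add_mem' := by
        intro a b ha hb
        refine (Set.Finite.union ha hb).subset ?_
        intro n hn
        by_contra hcon
        simp only [Set.mem_union, Set.mem_setOf_eq, not_or, not_not] at hcon
        exact hn (by rw [map_add, hcon.1, hcon.2, add_zero])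
      smul_mem' := by
        intro c a ha
        refine Set.Finite.subset ha ?_
        intro n hn hcon
        exact hn (by rw [smul_eq_mul, map_mul, hcon, mul_zero]) }
  have hI : I ≠ ⊤ := by
    intro h
    have h1 : (1 : A) ∈ I := by rw [h]; trivial
    have h2 : {n | algebraMap A (K n) (1 : A) ≠ 0}.Finite := h1
    simp at h2
    exact Set.infinite_univ h2
  obtain ⟨q, hq, hIq⟩ := Ideal.exists_le_maximal I hI
  let x : PrimeSpectrum A := ⟨q, hq.isPrime⟩
  refine ⟨PrimeSpectrum.comap (Algebra.TensorProduct.lmul' (S := A) ℤ).toRingHom x, ?_, ⟨x, rfl⟩⟩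
  rw [PrimeSpectrum.isTopologicalBasis_basic_opens.mem_closure_iff]
  rintro _ ⟨f, rfl⟩ hxf
  by_contra hemp
  rw [Set.not_nonempty_iff_eq_empty] at hemp
  obtain ⟨r, a, b, rfl⟩ : ∃ (r : ℕ) (a b : Fin r → A), f = ∑ t, a t ⊗ₜ[ℤ] b t := by
    obtain ⟨s, hs⟩ := TensorProduct.exists_finset f
    refine ⟨s.card, fun t => (s.equivFin.symm t).1.1, fun t => (s.equivFin.symm t).1.2, ?_⟩
    rw [hs, ← Finset.sum_coe_sort]
    exact (Equiv.sum_comp s.equivFin.symm (fun z : s => z.1.1 ⊗ₜ[ℤ] z.1.2)).symm
  have hfin := key A k K a b ?_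
  · apply hxf
    change (Algebra.TensorProduct.lmul' (S := A) ℤ).toRingHom (∑ t, a t ⊗ₜ[ℤ] b t) ∈ q
    apply hIq
    change {n | algebraMap A (K n) _ ≠ 0}.Finite
    convert hfin using 5
    simp
  · intro n m hnm
    by_contra hnil
    rw [← mem_nilradical, nilradical_eq_sInf, Ideal.mem_sInf] at hnil
    push Not at hnil
    obtain ⟨P, hP, hPf⟩ := hnil
    have : PrimeSpectrum.comap
          (Algebra.TensorProduct.lift
            ((Algebra.TensorProduct.includeLeft (R := k) (S := ℤ) (A := K n) (B := K m)).toRingHom.toIntAlgHom.comp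
              (Algebra.ofId A (K n)).toRingHom.toIntAlgHom)
            ((Algebra.TensorProduct.includeRight (R := k) (A := K n) (B := K m)).toRingHom.toIntAlgHom.comp
              (Algebra.ofId A (K m)).toRingHom.toIntAlgHom)
            (fun _ _ => Commute.all _ _)).toRingHom ⟨P, hP⟩ ∈ (∅ : Set (PrimeSpectrum (A ⊗[ℤ] A))) := by
      rw [← hemp]
      refine ⟨?_, ?_⟩
      · intro hmem
        apply hPf
        convert hmem using 1
        simp [map_sum, Algebra.TensorProduct.lift_tmul, Algebra.ofId_apply]
      · simp only [Set.mem_iUnion]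
        exact ⟨n, m, hnm, ⟨_, rfl⟩⟩
    exact this

end Groth.Agent.S10422
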