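import Groth.Statements.S10430
import Groth.Agent.AlgSp.K623.Bdd
import Groth.Agent.S10360

set_option autoImplicit false
universe u
open CategoryTheory CategoryTheory.Limits AlgebraicGeometry Topology TopologicalSpace
open AlgSp

namespace Groth.Agent.S10430

/-- If every etale morphism U ⟶ X from an affine scheme to the algebraic space X has universally bounded
fibres, then X is decent. -/
theorem result {S : Scheme.{u}} (X : AlgSp.Space S)
    (h : ∀ (U : Over S) (φ : (AlgSp.yon S).obj U ⟶ X.obj), IsAffine U.left → AlgSp.RepWith @Etale φ → W4dec.HasUnivBddFibres φ) :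
    AlgSp.IsDecent X.obj := by
  refine fun x => (Groth.Agent.S10360.result X x).1 fun U φ hU hφ R s t hsq => ?_
  have hφ' := h U φ hU hφ
  obtain ⟨n, hn⟩ := hφ'
  have hrep := X.property.representable_from_yon φ
  have h1 := K623.Bdd.encard_fibre_le hrep hn x
  have h2 : W4dec.DegFibresLE n ((AlgSp.yon S).map t) := K623.Bdd.degFibresLE_baseChange hn hsq.flip
  have h3 := K623.Bdd.degFibresLE_comp hrep h2 hn
  have h4 := K623.Bdd.encard_fibre_le (X.property.representable_from_yon ((AlgSp.yon S).map t ≫ φ)) h3 x
  exact ⟨Set.finite_of_encard_le_coe h1, Set.finite_of_encard_le_coe h4⟩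


end Groth.Agent.S10430
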