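import Groth.Statements.S10431
import Groth.Agent.AlgSp.K623.Bdd2
import Groth.Agent.AlgSp.K623.Charts

set_option autoImplicit false
universe u
open CategoryTheory CategoryTheory.Limits AlgebraicGeometry Topology TopologicalSpace
open AlgSp

namespace Groth.Agent.S10431

/-- Let S be a scheme, X and Y algebraic spaces over S, and X ⟶ Y a representable morphism. If every
etale morphism from an affine scheme to Y has universally bounded fibres, then so does every etale
morphism from an affine scheme to X. -/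
theorem result {S : Scheme.{u}} {X Y : AlgSp.Space S} (f : X ⟶ Y)
    (hf : AlgSp.Representable f.hom)
    (hY : ∀ (V : Over S) (ψ : (AlgSp.yon S).obj V ⟶ Y.obj), IsAffine V.left → AlgSp.RepWith @Etale ψ → W4dec.HasUnivBddFibres ψ)
    (U : Over S) (φ : (AlgSp.yon S).obj U ⟶ X.obj) (hU : IsAffine U.left) (hφ : AlgSp.RepWith @Etale φ) :
    W4dec.HasUnivBddFibres φ := by
  obtain ⟨ι, V, ψ, hVaff, hψ, hcov⟩ := K623.Charts.exists_affine_charts Y.property
  choose W snd fst hsq using fun i => hf (ψ i)
  have hbdd : ∀ i, W4dec.HasUnivBddFibres (fst i) := fun i => by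
    obtain ⟨n, hn⟩ := hY (V i) (ψ i) (hVaff i) (hψ i)
    exact ⟨n, K623.Bdd.degFibresLE_baseChange hn (hsq i).flip⟩
  have het : ∀ i, AlgSp.RepWith @Etale (fst i) := fun i =>
    MorphismProperty.of_isPullback (hsq i).flip (hψ i)
  refine K623.Bdd2.hasUnivBddFibres_of_cover W fst het (fun x => ?_) hbdd φ hφ
  obtain ⟨i, v, hv⟩ := hcov (AlgSp.Points.map f.hom x)
  obtain ⟨w, hw, -⟩ := K623.Pts.exists_pt_of_isPullback (hsq i) x v hv.symm
  exact ⟨i, w, hw⟩

end Groth.Agent.S10431
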