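import Groth.Statements.S10432
import Groth.Agent.AlgSp.K623.Bdd2
import Groth.Agent.AlgSp.K623.Charts

set_option autoImplicit false
universe u
open CategoryTheory CategoryTheory.Limits AlgebraicGeometry Topology TopologicalSpace
open AlgSp

namespace Groth.Agent.S10432

/-- Let X be an algebraic space over a scheme S with a Zariski covering by open subspaces X_i ⟶ X such
that every etale morphism from an affine scheme to X_i has universally bounded fibres. Then every
etale morphism from an affine scheme to X has universally bounded fibres. -/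
theorem result {S : Scheme.{u}} (X : AlgSp.Space S) {ι : Type u}
    (Xi : ι → AlgSp.Space S) (j : ∀ i, Xi i ⟶ X) (hj : AlgSp.IsZarCover (fun i => (Xi i).obj) (fun i => (j i).hom))
    (h : ∀ (i : ι) (V : Over S) (ψ : (AlgSp.yon S).obj V ⟶ (Xi i).obj), IsAffine V.left → AlgSp.RepWith @Etale ψ → W4dec.HasUnivBddFibres ψ)
    (U : Over S) (φ : (AlgSp.yon S).obj U ⟶ X.obj) (hU : IsAffine U.left) (hφ : AlgSp.RepWith @Etale φ) :
    W4dec.HasUnivBddFibres φ := by
  choose κ V ψ hVaff hψ hcov using fun i => K623.Charts.exists_affine_charts (Xi i).property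
  refine K623.Bdd2.hasUnivBddFibres_of_cover (ι := Σ i, κ i) (fun k => V k.1 k.2)
    (fun k => ψ k.1 k.2 ≫ (j k.1).hom) (fun k => ?_) (fun x => ?_) (fun k => ?_) φ hφ
  · have h1 : AlgSp.RepWith @Etale (j k.1).hom :=
      MorphismProperty.relative_monotone (fun _ _ g hg => by
        have : IsOpenImmersion g.left := hg
        exact (inferInstance : Etale g.left)) _ (hj.1 k.1)
    exact (AlgSp.RepWith @Etale).comp_mem _ _ (hψ k.1 k.2) h1
  · obtain ⟨i, y, rfl⟩ := hj.2 x
    obtain ⟨k, v, rfl⟩ := hcov i y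
    exact ⟨⟨i, k⟩, v, (AlgSp.Points.map_ofPt _ _ _).symm⟩
  · obtain ⟨n, hn⟩ := h k.1 (V k.1 k.2) (ψ k.1 k.2) (hVaff k.1 k.2) (hψ k.1 k.2)
    have hm : Mono (j k.1).hom := K623.Charts.mono_of_isOpenImmersion (hj.1 k.1)
    have hsq : IsPullback (𝟙 _) (ψ k.1 k.2) (ψ k.1 k.2 ≫ (j k.1).hom) (j k.1).hom := by
      refine ⟨⟨by simp⟩, ⟨PullbackCone.IsLimit.mk _ (fun s => s.fst) (fun s => by simp) (fun s => ?_)
        (fun s m h1 _ => by simpa using h1)⟩⟩
      rw [← cancel_mono (j k.1).hom, Category.assoc]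
      exact s.condition
    refine ⟨n, K623.Bdd.degFibresLE_of_baseChange hsq ?_ hn⟩
    rintro _ ⟨v, rfl⟩
    exact ⟨_, AlgSp.Points.map_ofPt _ _ _⟩

end Groth.Agent.S10432
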