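import Groth.Statements.S10433
import Groth.Agent.AlgSp.K623.DegStrat
import Groth.Agent.AlgSp.K598.Red

set_option autoImplicit false
universe u
open CategoryTheory CategoryTheory.Limits AlgebraicGeometry Topology TopologicalSpace
open AlgSp

namespace Groth.Agent.S10433

/-- Let S be a scheme, X an algebraic space over S, W a scheme over S, and W ⟶ X a morphism which is
flat, separated, locally of finite presentation and locally quasi-finite, with universally bounded
fibres. Then X has closed subspaces, each reduced, ∅ = Z_{-1} ⊆ Z_0 ⊆ ⋯ ⊆ Z_n with |Z_n| = |X| such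
that, putting X_r = Z_r ∖ Z_{r-1}, for every morphism g : T ⟶ X the second projection W ×_X T ⟶ T is
a finite locally free morphism of degree r exactly when g(|T|) ⊆ |X_r|. (Indexing: Zs 0 = Z_{-1}, Zs
(r+1) = Z_r.) -/
theorem result {S : Scheme.{u}} (X : AlgSp.Space S) {W : Over S}
    (w : (AlgSp.yon S).obj W ⟶ X.obj) (hfl : AlgSp.RepWith @Flat w) (hfp : AlgSp.RepWith @LocallyOfFinitePresentation w)
    (hsep : AlgSp.RepWith @IsSeparated w) (hqf : AlgSp.RepWith @LocallyQuasiFinite w) (hb : W4dec.HasUnivBddFibres w) :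
    ∃ (n : ℕ) (Zs : ℕ → AlgSp.Space S) (i : ∀ r, Zs r ⟶ X),
      (∀ r, AlgSp.IsRedInduced (Set.range (AlgSp.Points.map (i r).hom)) (i r).hom) ∧
      IsEmpty (AlgSp.Points (Zs 0).obj) ∧ Set.range (AlgSp.Points.map (i (n + 1)).hom) = Set.univ ∧
      (∀ r, Set.range (AlgSp.Points.map (i r).hom) ⊆ Set.range (AlgSp.Points.map (i (r + 1)).hom)) ∧
      ∀ (r : ℕ) (T : AlgSp.Space S) (g : T ⟶ X) (P : AlgSp.Sp S) (fst : P ⟶ (AlgSp.yon S).obj W) (snd : P ⟶ T.obj),
        IsPullback fst snd w g.hom →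
          (AlgSp.IsFinLocFreeOfDegMor r snd ↔
            Set.range (AlgSp.Points.map g.hom) ⊆
              Set.range (AlgSp.Points.map (i (r + 1)).hom) \ Set.range (AlgSp.Points.map (i r).hom)) := by
  obtain ⟨n, hn⟩ := hb
  have key : ∀ r : ℕ, ∃ (Z : AlgSp.Space S) (i : Z ⟶ X), AlgSp.IsRedInduced (K623.DegStrat.degSet w r)ᶜ i.hom := by
    intro r
    obtain ⟨Z, i, hZ, hi⟩ := K598.Red.exists_isRedInduced X.property _
      (K623.DegStrat.isOpen_degSet w hfl hfp hsep hqf r).isClosed_compl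
    exact ⟨⟨Z, hZ⟩, ObjectProperty.homMk i, hi⟩
  choose Zs i hi using key
  have hr : ∀ r, Set.range (AlgSp.Points.map (i r).hom) = (K623.DegStrat.degSet w r)ᶜ := fun r => (hi r).2.1
  refine ⟨n, Zs, i, fun r => by rw [hr]; exact hi r, ?_, ?_, ?_, ?_⟩
  · constructor
    intro x
    have h1 : AlgSp.Points.map (i 0).hom x ∈ (K623.DegStrat.degSet w 0)ᶜ := by rw [← hr]; exact ⟨x, rfl⟩
    rw [K623.DegStrat.degSet_zero w hfl] at h1
    exact h1 trivial
  · rw [hr, K623.DegStrat.degSet_eq_empty w hfl hfp hsep hqf hn, Set.compl_empty]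
  · intro r
    rw [hr, hr]
    exact Set.compl_subset_compl.2 (K623.DegStrat.degSet_anti w (Nat.le_succ r))
  · intro r T g P fst snd sq
    rw [K623.DegStrat.isFinLocFreeOfDegMor_iff w hfl hfp hsep hqf r g.hom fst snd sq, hr, hr]
    have h1 : (K623.DegStrat.degSet w (r + 1))ᶜ \ (K623.DegStrat.degSet w r)ᶜ =
        K623.DegStrat.degSet w r \ K623.DegStrat.degSet w (r + 1) := by
      ext x
      simp only [Set.mem_sdiff, Set.mem_compl_iff, not_not]
      tauto
    rw [h1]


end Groth.Agent.S10433
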