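import Groth.Statements.S10436
import Groth.Agent.AlgSp.K623.Birat4

set_option autoImplicit false
universe u
open CategoryTheory CategoryTheory.Limits AlgebraicGeometry Topology TopologicalSpace
open AlgSp

namespace Groth.Agent.S10436

/-- Take decent algebraic spaces X and Y over a scheme S, each with only finitely many irreducible
components in its space of points, and a birational f : X ⟶ Y. Suppose f is quasi-compact or
separated, and in addition that f is locally of finite type with Y reduced, or locally of finite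
presentation. Then Y contains a dense open subspace V, which may be taken to be a scheme, such that
f⁻¹(V) ⟶ V is an isomorphism. -/
theorem result {S : Scheme.{u}} {X Y : AlgSp.Space S} (f : X ⟶ Y)
    (hX : AlgSp.IsDecent X.obj) (hY : AlgSp.IsDecent Y.obj)
    (hXf : (irreducibleComponents (AlgSp.Points X.obj)).Finite)
    (hYf : (irreducibleComponents (AlgSp.Points Y.obj)).Finite)
    (hf : W4stk3decentspacesp2.IsBirational f.hom) (h₁ : AlgSp.IsQuasiCompactMor f.hom ∨ AlgSp.IsSeparatedMor f.hom)
    (h₂ : (AlgSp.LocP @LocallyOfFiniteType f.hom ∧ AlgSp.EtaleLocally (fun T => IsReduced T) Y.obj) ∨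
      AlgSp.LocP @LocallyOfFinitePresentation f.hom) :
    ∃ (V : Over S) (b : (AlgSp.yon S).obj V ⟶ Y.obj), AlgSp.RepWith @IsOpenImmersion b ∧
      Dense (Set.range (AlgSp.Points.ofPt b)) ∧
        ∀ ⦃P : AlgSp.Sp S⦄ (fst : P ⟶ X.obj) (snd : P ⟶ (AlgSp.yon S).obj V),
          IsPullback fst snd f.hom b → IsIso snd := by
  have : QuasiSober (AlgSp.Points X.obj) := K617.Sober.quasiSober X.property hX
  have : QuasiSober (AlgSp.Points Y.obj) := K617.Sober.quasiSober Y.property hY
  have : T0Space (AlgSp.Points Y.obj) := K621.Decent.t0Space Y.property hY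
  obtain ⟨U, a, ha, hb, hgX, hgY⟩ := K623.Birat3.exists_common_open X.property hX Y.property hY hXf hYf f.hom hf h₂
  rcases h₁ with h₁ | h₁
  · -- quasi-compact case
    have key : ∀ u : {u : ↥U.left // Points.ofPt (a ≫ f.hom) u ∈ genericPoints (Points Y.obj)},
        ∃ N : U.left.Opens, u.1 ∈ N ∧ ∀ v ∈ N, ∀ x : Points X.obj,
          Points.map f.hom x = Points.ofPt (a ≫ f.hom) v → x ∈ Set.range (Points.ofPt a) := by
      rintro ⟨u, hu⟩
      obtain ⟨x₀, -, hx₀, huniq⟩ := K623.Birat.exists_fibre_eq X.property hX Y.property hY f.hom hf _ hu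
      refine K623.Birat4.exists_nhd_of_quasiCompact Y.property hY f.hom h₁ a ha u hu fun x hx => ?_
      rw [huniq x hx, ← huniq (Points.ofPt a u) (Points.map_ofPt a f.hom u)]
      exact ⟨u, rfl⟩
    choose N hN hN' using key
    let O : U.left.Opens := ⨆ u, N u
    let V : Over S := Over.mk (O.ι ≫ U.hom)
    let j : V ⟶ U := Over.homMk O.ι rfl
    refine ⟨V, (yon S).map j ≫ a ≫ f.hom, K623.Birat3.repWith_restrict hb O, ?_, ?_⟩
    · refine K623.Birat3.dense_of_subset fun y hy => ?_
      obtain ⟨u, rfl⟩ := hgY hy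
      refine ⟨(⟨u, TopologicalSpace.Opens.mem_iSup.2 ⟨⟨u, hy⟩, hN ⟨u, hy⟩⟩⟩ : ↥O), ?_⟩
      rw [K609.Points.ofPt_yon_map_comp]
      rfl
    · intro P fst snd sq
      refine K623.Birat4.isIso_snd_of_range f.hom a ha hb j ?_ fst snd sq
      rintro x ⟨v, hv⟩
      obtain ⟨u, hu⟩ := TopologicalSpace.Opens.mem_iSup.1 (v : ↥O).2
      refine hN' u _ hu x ?_
      rw [← hv, K609.Points.ofPt_yon_map_comp]
      rfl
  · -- separated case
    exact ⟨U, a ≫ f.hom, hb, K623.Birat3.dense_of_subset hgY, fun P fst snd sq =>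
      K623.Birat4.isIso_snd_of_isSeparatedMor f.hom h₁ a ha hb (K623.Birat3.dense_of_subset hgX) fst snd sq⟩


end Groth.Agent.S10436
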