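import Groth.Statements.S10437
import Groth.Agent.AlgSp.K624.Birat

set_option autoImplicit false
universe u
open CategoryTheory CategoryTheory.Limits AlgebraicGeometry Topology TopologicalSpace
open AlgSp

namespace Groth.Agent.S10437

/-- Take decent algebraic spaces X and Y over a scheme S, each with only finitely many irreducible
components in its space of points, a birational f : X ⟶ Y, and an etale morphism V ⟶ Y from an
affine scheme V. Then X ×_Y V is decent, the spaces of points of X ×_Y V and of V have only finitely
many irreducible components, and the projection X ×_Y V ⟶ V is birational. -/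
theorem result {S : Scheme.{u}} {X Y : AlgSp.Space S} (f : X ⟶ Y)
    (hX : AlgSp.IsDecent X.obj) (hY : AlgSp.IsDecent Y.obj)
    (hXf : (irreducibleComponents (AlgSp.Points X.obj)).Finite)
    (hYf : (irreducibleComponents (AlgSp.Points Y.obj)).Finite)
    (hf : W4stk3decentspacesp2.IsBirational f.hom) {V : Over S} [IsAffine V.left] (b : (AlgSp.yon S).obj V ⟶ Y.obj)
    (hb : AlgSp.RepWith @Etale b) {P : AlgSp.Sp S} (fst : P ⟶ X.obj) (snd : P ⟶ (AlgSp.yon S).obj V)
    (hP : IsPullback fst snd f.hom b) :
    AlgSp.IsDecent P ∧ (irreducibleComponents (AlgSp.Points P)).Finite ∧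
      (irreducibleComponents (AlgSp.Points ((AlgSp.yon S).obj V))).Finite ∧ W4stk3decentspacesp2.IsBirational snd := by
  have hPa := K624.Birat.isAlgSpace_P f b fst snd hP
  have hPd := K624.Birat.isDecent_P f hX b hb fst snd hP
  refine ⟨hPd, ?_, ?_, K624.Birat.isBirational_snd f hX hY b hb fst snd hP hf⟩
  · exact (K624.Birat.finite_genericPoints_iff (X := ⟨P, hPa⟩) hPd).1
      (K624.Birat.finite_gp_P f hX hY b hb fst snd hP hf.bijOn.mapsTo hXf hYf)
  · exact (K624.Birat.finite_genericPoints_iff
      (X := ⟨(AlgSp.yon S).obj V, AlgSp.IsAlgSpace.yon_obj _⟩) (K620.Dec.isDecent_yon _)).1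
      (K624.Birat.finite_gp_V hY b hb hYf)

end Groth.Agent.S10437
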