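import Groth.Statements.S10441
import Groth.Agent.AlgSp.K624.Branches
import Groth.Agent.S2052

set_option autoImplicit false
universe u
open CategoryTheory CategoryTheory.Limits AlgebraicGeometry Topology TopologicalSpace
open AlgSp

namespace Groth.Agent.S10441

/-- For a decent algebraic space X over a scheme S and x ∈ |X|, fix an elementary etale neighbourhood
(U₀, u₀) of (X, x) and a henselization R of O_{U₀, u₀} (a model of the henselian local ring at x).
The following are equivalent: (1) O_{U, u} has exactly one minimal prime whenever (U, u) is an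
elementary etale neighbourhood of (X, x); (2) a unique irreducible component of U passes through u
for all such (U, u); (3) O_{U, u} is unibranch for all such (U, u); (4) R has exactly one minimal
prime. -/
theorem result {S : Scheme.{u}} (X : AlgSp.Space S)
    (hX : AlgSp.IsDecent X.obj) (x : AlgSp.Points X.obj) {U₀ : Over S}
    (a₀ : (AlgSp.yon S).obj U₀ ⟶ X.obj) (u₀ : ↥U₀.left) (h₀ : AlgSp.IsElemEtaleNbhd a₀ u₀ x)
    (R : Type u) [CommRing R] [IsLocalRing R] [Algebra ↥(U₀.left.presheaf.stalk u₀) R]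
    [IsLocalHom (algebraMap ↥(U₀.left.presheaf.stalk u₀) R)] [Hensel.IsHenselization ↥(U₀.left.presheaf.stalk u₀) R] :
    ((∀ (U : Over S) (a : (AlgSp.yon S).obj U ⟶ X.obj) (u : ↥U.left), AlgSp.IsElemEtaleNbhd a u x →
        CAlgX.HasUniqueMinimalPrime ↥(U.left.presheaf.stalk u)) ↔
      (∀ (U : Over S) (a : (AlgSp.yon S).obj U ⟶ X.obj) (u : ↥U.left), AlgSp.IsElemEtaleNbhd a u x →
        {Z : Set ↥U.left | Z ∈ irreducibleComponents ↥U.left ∧ u ∈ Z}.encard = 1)) ∧
    ((∀ (U : Over S) (a : (AlgSp.yon S).obj U ⟶ X.obj) (u : ↥U.left), AlgSp.IsElemEtaleNbhd a u x →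
        {Z : Set ↥U.left | Z ∈ irreducibleComponents ↥U.left ∧ u ∈ Z}.encard = 1) ↔
      (∀ (U : Over S) (a : (AlgSp.yon S).obj U ⟶ X.obj) (u : ↥U.left), AlgSp.IsElemEtaleNbhd a u x →
        CAlg2.IsUnibranch ↥(U.left.presheaf.stalk u))) ∧
    ((∀ (U : Over S) (a : (AlgSp.yon S).obj U ⟶ X.obj) (u : ↥U.left), AlgSp.IsElemEtaleNbhd a u x →
        CAlg2.IsUnibranch ↥(U.left.presheaf.stalk u)) ↔ CAlgX.HasUniqueMinimalPrime R) := by
  -- all conditions amount to `R` having one minimal prime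
  have key : ∀ (U : Over S) (a : (AlgSp.yon S).obj U ⟶ X.obj) (u : ↥U.left),
      CAlgX.HasUniqueMinimalPrime ↥(U.left.presheaf.stalk u) ↔
        {Z : Set ↥U.left | Z ∈ irreducibleComponents ↥U.left ∧ u ∈ Z}.encard = 1 := by
    intro U a u
    rw [K624.StalkComp.hasUniqueMinimalPrime_iff, K624.StalkComp.encard_minimalPrimes]
  have hpos : ∀ (A : Type u) [CommRing A] [Nontrivial A], 1 ≤ (minimalPrimes A).encard := by
    intro A _ _
    rw [Set.one_le_encard_iff_nonempty]
    obtain ⟨m, hm⟩ := Ideal.exists_maximal A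
    have := hm.isPrime
    obtain ⟨p, hp, -⟩ := Ideal.exists_minimalPrimes_le (I := (⊥ : Ideal A)) (J := m) bot_le
    exact ⟨p, hp⟩
  have h34 : ∀ (U : Over S) (a : (AlgSp.yon S).obj U ⟶ X.obj) (u : ↥U.left),
      AlgSp.IsElemEtaleNbhd a u x →
      (CAlg2.IsUnibranch ↥(U.left.presheaf.stalk u) ↔ CAlgX.HasUniqueMinimalPrime R) := by
    intro U a u h
    obtain ⟨_, _, _⟩ := K624.Branches.exists_isHenselization h₀ R h
    exact Groth.Agent.S2052.result
  have h2R : (∀ (U : Over S) (a : (AlgSp.yon S).obj U ⟶ X.obj) (u : ↥U.left),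
      AlgSp.IsElemEtaleNbhd a u x →
        {Z : Set ↥U.left | Z ∈ irreducibleComponents ↥U.left ∧ u ∈ Z}.encard = 1) ↔
      CAlgX.HasUniqueMinimalPrime R := by
    rw [K624.StalkComp.hasUniqueMinimalPrime_iff]
    constructor
    · intro h
      refine le_antisymm ?_ (hpos R)
      by_contra hlt
      rw [not_le] at hlt
      have h2 : ((2 : ℕ) : ℕ∞) ≤ (minimalPrimes R).encard := by
        have := Order.add_one_le_of_lt hlt
        norm_num at this ⊢
        exact this
      obtain ⟨U, a, u, hu, hle⟩ := K624.Branches.exists_le_encard h₀ R 2 h2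
      have h3 := h U a u hu
      rw [← K624.StalkComp.encard_minimalPrimes] at h3
      rw [h3] at hle
      norm_num at hle
    · intro h U a u hu
      rw [← K624.StalkComp.encard_minimalPrimes]
      refine le_antisymm ?_ (hpos _)
      rw [← h]
      exact K624.Branches.encard_le h₀ R hu
  have h3R : (∀ (U : Over S) (a : (AlgSp.yon S).obj U ⟶ X.obj) (u : ↥U.left),
      AlgSp.IsElemEtaleNbhd a u x → CAlg2.IsUnibranch ↥(U.left.presheaf.stalk u)) ↔
      CAlgX.HasUniqueMinimalPrime R :=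
    ⟨fun h => (h34 U₀ a₀ u₀ h₀).1 (h U₀ a₀ u₀ h₀), fun h U a u hu => (h34 U a u hu).2 h⟩
  refine ⟨?_, h2R.trans h3R.symm, h3R⟩
  exact ⟨fun h U a u hu => (key U a u).1 (h U a u hu), fun h U a u hu => (key U a u).2 (h U a u hu)⟩

end Groth.Agent.S10441
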