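import Groth.Statements.S10444
import Groth.Agent.AlgSp.K624.FldFib2

set_option autoImplicit false
universe u
open CategoryTheory CategoryTheory.Limits AlgebraicGeometry Topology TopologicalSpace
open AlgSp

namespace Groth.Agent.S10444

/-- Take f : X ⟶ Y locally of finite type between algebraic spaces over a scheme S, a field-valued point
Spec k ⟶ Y whose class y ∈ |Y| lies in the image of |f|, the fibre product X_k = Spec k ×_Y X, and
the fibre F = |f|⁻¹(y) ⊆ |X| with the induced topology. Numbering the conditions (1) F finite, (2) F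
discrete, (3) dim F = 0, (4) |X_k| finite, (5) |X_k| discrete, (6) dim |X_k| = 0, (7) dim X_k = 0,
(8) f quasi-finite at all points over y: (5) ⇔ (7) ⇔ (8); (5) ⇒ (6), with the converse when X_k is
decent; (4) ⇒ (5) when X_k is decent; (4) ⇒ (1); (2) ⇒ (3); if Y is decent then (2) ⇔ (5); if X and
Y are decent then (3) ⇒ (2) and (1) ⇒ (2). (The published statement asserts (5) ⇔ (6) for every f
and (2) ⇔ (3) whenever Y is decent, and does not exclude an empty fibre; for the quotient of the
affine line over a field of characteristic zero by an infinite cyclic group of translations, mapping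
to the point, the space of points is infinite and indiscrete, so (3) and (6) hold while (2) and (5)
fail, and for y outside the image (5) holds while (6) and (7) fail; hence the decency hypotheses on
those two converses and the hypothesis that y is in the image. Finiteness of |X_k| for an arbitrary
field k in the class of y is not derived here from (1).) -/
theorem result {S : Scheme.{u}} {X Y : AlgSp.Space S} (f : X ⟶ Y)
    (hf : AlgSp.LocP @LocallyOfFiniteType f.hom) (r : AlgSp.FieldPt Y.obj)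
    (hy : AlgSp.Points.mk r ∈ Set.range (AlgSp.Points.map f.hom)) (Xk : AlgSp.Space S) (fst : Xk ⟶ X)
    (snd : Xk.obj ⟶ (AlgSp.yon S).obj r.pt) (hsq : IsPullback fst.hom snd f.hom r.toHom) :
    (DiscreteTopology (AlgSp.Points Xk.obj) ↔ AlgSp.dim Xk.obj = 0) ∧
    (AlgSp.dim Xk.obj = 0 ↔
      ∀ x : AlgSp.Points X.obj, AlgSp.Points.map f.hom x = AlgSp.Points.mk r → AlgSp.HasAtMor (fun U _ h u => ∃ W : U.Opens, u ∈ W ∧ LocallyQuasiFinite (W.ι ≫ h) ∧ LocallyOfFiniteType (W.ι ≫ h)) f.hom x) ∧
    (DiscreteTopology (AlgSp.Points Xk.obj) → topologicalKrullDim (AlgSp.Points Xk.obj) = 0) ∧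
    (AlgSp.IsDecent Xk.obj → topologicalKrullDim (AlgSp.Points Xk.obj) = 0 →
      DiscreteTopology (AlgSp.Points Xk.obj)) ∧
    (AlgSp.IsDecent Xk.obj → Finite (AlgSp.Points Xk.obj) → DiscreteTopology (AlgSp.Points Xk.obj)) ∧
    (Finite (AlgSp.Points Xk.obj) → (AlgSp.Points.map f.hom ⁻¹' {AlgSp.Points.mk r}).Finite) ∧
    (DiscreteTopology ↥(AlgSp.Points.map f.hom ⁻¹' {AlgSp.Points.mk r}) → topologicalKrullDim ↥(AlgSp.Points.map f.hom ⁻¹' {AlgSp.Points.mk r}) = 0) ∧
    (AlgSp.IsDecent Y.obj → (DiscreteTopology ↥(AlgSp.Points.map f.hom ⁻¹' {AlgSp.Points.mk r}) ↔ DiscreteTopology (AlgSp.Points Xk.obj))) ∧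
    (AlgSp.IsDecent Y.obj → AlgSp.IsDecent X.obj →
      (topologicalKrullDim ↥(AlgSp.Points.map f.hom ⁻¹' {AlgSp.Points.mk r}) = 0 → DiscreteTopology ↥(AlgSp.Points.map f.hom ⁻¹' {AlgSp.Points.mk r})) ∧
        ((AlgSp.Points.map f.hom ⁻¹' {AlgSp.Points.mk r}).Finite → DiscreteTopology ↥(AlgSp.Points.map f.hom ⁻¹' {AlgSp.Points.mk r}))) := by
  have hL := K624.FldFib2.lftField_pullback X.property Y.property r hf hsq
  have hxa := Xk.property
  have hsurj : ∀ x : AlgSp.Points X.obj, AlgSp.Points.map f.hom x = AlgSp.Points.mk r →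
      ∃ xt : AlgSp.Points Xk.obj, AlgSp.Points.map fst.hom xt = x := by
    intro x hx
    obtain ⟨xt, h1, -⟩ := K608.Pts.exists_of_isPullback hsq x
      (AlgSp.Points.ofPt (𝟙 _) (IsLocalRing.closedPoint r.K : ↥(Spec (CommRingCat.of r.K)))) (by
        rw [hx, AlgSp.Points.map_ofPt, Category.id_comp]
        exact (AlgSp.Points.ofPt_toHom r _).symm)
    exact ⟨xt, h1⟩
  have hmap : ∀ xt : AlgSp.Points Xk.obj, AlgSp.Points.map f.hom (AlgSp.Points.map fst.hom xt) =
      AlgSp.Points.mk r := by
    intro xt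
    rw [← AlgSp.Points.map_comp, hsq.w, AlgSp.Points.map_comp]
    obtain ⟨t, ht⟩ := K608.Pts.ofPt_surjective_yon (AlgSp.Points.map snd xt)
    rw [← ht, AlgSp.Points.map_ofPt, Category.id_comp]
    exact AlgSp.Points.ofPt_toHom r _
  have hne : Nonempty (AlgSp.Points Xk.obj) := by
    obtain ⟨x, hx⟩ := hy
    exact ⟨(hsurj x hx).choose⟩
  have hdisc := K624.FldFib.discrete_iff_dim hL hxa
  have hqf : DiscreteTopology (AlgSp.Points Xk.obj) ↔
      ∀ x : AlgSp.Points X.obj, AlgSp.Points.map f.hom x = AlgSp.Points.mk r → K624.QFCodim1Sp.QFAt f.hom x := by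
    rw [discreteTopology_iff_isOpen_singleton]
    constructor
    · intro h x hx
      obtain ⟨xt, rfl⟩ := hsurj x hx
      exact (K624.FldFib2.isoAt_iff_qfAt X.property Y.property hxa r hf hsq xt).1
        ((K624.FldFib.isOpen_iff_isoAt hL hxa xt).1 (h xt))
    · intro h xt
      exact (K624.FldFib.isOpen_iff_isoAt hL hxa xt).2
        ((K624.FldFib2.isoAt_iff_qfAt X.property Y.property hxa r hf hsq xt).2 (h _ (hmap xt)))
  refine ⟨hdisc, hdisc.symm.trans hqf, fun h => K624.FldFib.topologicalKrullDim_eq_zero_of_discrete,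
    fun hd h => K624.FldFib.discrete_of_dim Xk hd hL h, fun hd h => K624.FldFib.discrete_of_finite Xk hd hL h,
    fun h => ?_, fun h => ?_, fun hY => (K624.FldFib2.discrete_fibre_iff f hY hf).trans hqf.symm,
    fun hY hX => ⟨K624.FldFib2.discrete_fibre_of_dim f hY hX hf, K624.FldFib2.discrete_fibre_of_finite f hY hX hf⟩⟩
  · have : AlgSp.Points.map f.hom ⁻¹' {AlgSp.Points.mk r} ⊆ Set.range (AlgSp.Points.map fst.hom) := by
      intro x hx
      exact hsurj x hx
    exact (Set.finite_range _).subset this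
  · obtain ⟨x, hx⟩ := hy
    have : Nonempty ↥(AlgSp.Points.map f.hom ⁻¹' {AlgSp.Points.mk r}) := ⟨⟨x, hx⟩⟩
    exact K624.FldFib.topologicalKrullDim_eq_zero_of_discrete

end Groth.Agent.S10444
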