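import Groth.Statements.S10451
import Groth.Agent.AlgSp.K624.DimZero
import Groth.Agent.AlgSp.K624.Caten

set_option autoImplicit false
universe u
open CategoryTheory CategoryTheory.Limits AlgebraicGeometry Topology TopologicalSpace
open AlgSp

namespace Groth.Agent.S10451

/-- Let k be a field and X an algebraic space locally of finite type over k with dim X = 0. Then X is a
separated scheme and every quasi-compact open of X is affine. -/
theorem result (k : Type u) [Field k]
    (X : AlgSp.Space (Spec (CommRingCat.of k))) (p : X.obj ⟶ (AlgSp.yon (Spec (CommRingCat.of k))).obj (Over.mk (𝟙 _)))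
    (hp : AlgSp.LocP @LocallyOfFiniteType p) (hd : AlgSp.dim X.obj = 0) :
    ∃ (U : Over (Spec (CommRingCat.of k))) (_ : (AlgSp.yon (Spec (CommRingCat.of k))).obj U ≅ X.obj), U.left.IsSeparated ∧
      ∀ V : U.left.Opens, IsCompact (V : Set ↥U.left) → IsAffineOpen V := by
  obtain ⟨U, a, ha, hs⟩ := X.property.atlas
  have hlft : LocallyOfFiniteType U.hom := K624.Caten.locallyOfFiniteType_chart p hp a ha
  have hN : IsLocallyNoetherian U.left := LocallyOfFiniteType.isLocallyNoetherian U.hom
  have hdU : topologicalKrullDim ↥U.left ≤ 0 :=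
    (K624.DimInt.topologicalKrullDim_le_dim a ha).trans hd.le
  have hArt : IsLocallyArtinian U.left := IsLocallyArtinian.of_topologicalKrullDim_le_zero hdU
  have hdisc : DiscreteTopology ↥U.left := inferInstance
  have hlqf : LocallyQuasiFinite U.hom :=
    locallyQuasiFinite_iff_isDiscrete_preimage_singleton.2 fun x =>
      ⟨inferInstance⟩
  have hArt2 : IsLocallyArtinian (pullback U.hom U.hom) :=
    IsLocallyArtinian.of_locallyQuasiFinite (pullback.fst U.hom U.hom)
  have hdisc2 : DiscreteTopology ↥(pullback U.hom U.hom) := inferInstance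
  obtain ⟨R, fst, snd, sq, -⟩ := K621.Base.exists_pullback_of_repWith ha a
  have hm := K609.Sep.mono_lift_left sq
  have hqs : AlgSp.IsQuasiSeparatedSp X.obj := by
    have := K609.Sep.quasiCompact_descendsAlong.{u}
    refine K609.Sep.repWith_diag_of_chart @QuasiCompact X.property.diag
      (K609.Sep.repWith_fppf_of_etale ha hs) sq ?_
    refine ⟨fun K _ hKc => ?_⟩
    have h1 : K.Finite := hKc.finite_of_discrete
    exact (h1.preimage (Scheme.Hom.injective _).injOn).isCompact
  exact K624.DimZero.exists_scheme hd
    (fun x => K624.CodimZeroSch.mem_locus X hqs x (K624.DimZero.codimZero_of_dim_zero hd x))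
    (fun _ a _ => K624.DimZero.quasiSeparatedSpace_of_mono hqs a)

end Groth.Agent.S10451
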