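import Groth.Statements.S10455
import Groth.Agent.AlgSp.K624.QFCodim1Sp

set_option autoImplicit false
universe u
open CategoryTheory CategoryTheory.Limits AlgebraicGeometry Topology TopologicalSpace
open AlgSp

namespace Groth.Agent.S10455

/-- Let f : X ⟶ Y be a morphism of algebraic spaces over a scheme S which is locally of finite type,
with Y locally Noetherian, and let y be a point of Y of codimension at most 1. If every codimension
0 point x of X whose image specializes to y has transcendence degree 0 over its image, then every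
point of X mapping to y is a point where f is quasi-finite. -/
theorem result {S : Scheme.{u}} {X Y : AlgSp.Space S} (f : X ⟶ Y)
    (hf : AlgSp.LocP @LocallyOfFiniteType f.hom) (hY : AlgSp.IsLocNoethSp Y.obj) (y : AlgSp.Points Y.obj)
    (hy : AlgSp.HasAt (fun U u => ringKrullDim ↥(U.presheaf.stalk u) ≤ 1) Y.obj y)
    (h : ∀ x : AlgSp.Points X.obj, AlgSp.HasAt (fun U u => ringKrullDim ↥(U.presheaf.stalk u) = 0) X.obj x → AlgSp.Points.map f.hom x ⤳ y →
      AlgSp.HasAtMor (fun _ _ h u => Dual3.resTrdeg h u = 0) f.hom x)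
    (x : AlgSp.Points X.obj) (hx : AlgSp.Points.map f.hom x = y) :
    AlgSp.HasAtMor (fun U _ h u => ∃ W : U.Opens, u ∈ W ∧ LocallyQuasiFinite (W.ι ≫ h) ∧ LocallyOfFiniteType (W.ι ≫ h)) f.hom x := by
  refine K624.QFCodim1Sp.qfAt_of_codim_le_one X.property Y.property f.hom hf hY y hy x hx ?_
  intro U V a b k u η ha hb w hUN hl hu hη hmax
  refine K624.QFCodim1.quasiFiniteAt_of_resTrdeg k.left hmax ?_
  have h0 : AlgSp.HasAt (fun U u => ringKrullDim ↥(U.presheaf.stalk u) = 0) X.obj
      (AlgSp.Points.ofPt a η) := (K621.Generic.codimZero_iff X.property ha).2 hmax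
  have h1 : AlgSp.Points.map f.hom (AlgSp.Points.ofPt a η) ⤳ y := by
    rw [← hx, ← hu]
    exact (hη.map (AlgSp.Points.continuous_ofPt a)).map (AlgSp.Points.continuous_map f.hom)
  have h2 := h (AlgSp.Points.ofPt a η) h0 h1
  exact (K616.Inv.hasAtMor_iff (K616.DimInv.etInvOn_resTrdeg (· = 0)) (K616.Inv.locP_top f.hom)
    a b k ha hb w η).1 h2

end Groth.Agent.S10455
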