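import Groth.Statements.S10456
import Groth.Agent.AlgSp.K624.QFCodim1Sp

set_option autoImplicit false
universe u
open CategoryTheory CategoryTheory.Limits AlgebraicGeometry Topology TopologicalSpace
open AlgSp

namespace Groth.Agent.S10456

/-- Let f : X ⟶ Y be a morphism of algebraic spaces over a scheme S which is locally of finite type,
with Y locally Noetherian, and let y be a point of Y of codimension at most 1. If the points of |X|
where f is quasi-finite form a dense subset, then every point of X mapping to y is a point where f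
is quasi-finite. -/
theorem result {S : Scheme.{u}} {X Y : AlgSp.Space S} (f : X ⟶ Y)
    (hf : AlgSp.LocP @LocallyOfFiniteType f.hom) (hY : AlgSp.IsLocNoethSp Y.obj) (y : AlgSp.Points Y.obj)
    (hy : AlgSp.HasAt (fun U u => ringKrullDim ↥(U.presheaf.stalk u) ≤ 1) Y.obj y)
    (h : Dense {x : AlgSp.Points X.obj | AlgSp.HasAtMor (fun U _ h u => ∃ W : U.Opens, u ∈ W ∧ LocallyQuasiFinite (W.ι ≫ h) ∧ LocallyOfFiniteType (W.ι ≫ h)) f.hom x})
    (x : AlgSp.Points X.obj) (hx : AlgSp.Points.map f.hom x = y) :
    AlgSp.HasAtMor (fun U _ h u => ∃ W : U.Opens, u ∈ W ∧ LocallyQuasiFinite (W.ι ≫ h) ∧ LocallyOfFiniteType (W.ι ≫ h)) f.hom x := by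
  refine K624.QFCodim1Sp.qfAt_of_codim_le_one X.property Y.property f.hom hf hY y hy x hx ?_
  intro U V a b k u η ha hb w hUN hl hu hη hmax
  have hD : Dense {v : ↥U.left | k.left.QuasiFiniteAt v} := by
    have h1 := h.preimage (K621.Base.isOpenMap_ofPt ha)
    refine h1.mono fun v hv => ?_
    exact (K624.QFCodim1Sp.qfAt_iff hf a b k ha hb w v).1 hv
  refine K624.QFCodim1.mem_of_dense U.left hD (fun p q hpq hq => ?_) hmax
  exact hpq.mem_open k.left.isOpen_quasiFiniteAt hq

end Groth.Agent.S10456
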