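import Groth.Statements.S10650
import Groth.Agent.AlgSp.K636.QfLocus
import Groth.Agent.S10649
import Groth.Agent.S10275
import Groth.Agent.S10195

set_option autoImplicit false
universe u
open CategoryTheory CategoryTheory.Limits AlgebraicGeometry
open AlgSp

namespace Groth.Agent.S10650

/-- For a proper morphism f : X ⟶ Y of algebraic spaces over S and a point y of |Y| such that f is
quasi-finite at every point of |X| lying over y (for each such point some etale chart diagram
through it has top arrow locally quasi-finite and locally of finite type on an open neighbourhood),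
there is an open subspace V of Y containing y such that the base change X ×_Y V ⟶ V is finite. -/
theorem result {S : Scheme.{u}} {X Y : AlgSp.Space S} (f : X ⟶ Y) (y : AlgSp.Points Y.obj)
    (hf : AlgSp.IsProperMor f.hom)
    (hq : ∀ x : AlgSp.Points X.obj, AlgSp.Points.map f.hom x = y →
      AlgSp.HasAtMor (fun U _ h u => ∃ W : U.Opens, u ∈ W ∧ LocallyQuasiFinite (W.ι ≫ h) ∧ LocallyOfFiniteType (W.ι ≫ h)) f.hom x) :
    ∃ (V : AlgSp.Space S) (j : V ⟶ Y), AlgSp.RepWith @IsOpenImmersion j.hom ∧
      y ∈ Set.range (AlgSp.Points.map j.hom) ∧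
        ∀ (P : AlgSp.Space S) (fst : P ⟶ X) (snd : P ⟶ V), IsPullback fst.hom snd.hom f.hom j.hom →
          AlgSp.IsFiniteMor snd.hom := by
  obtain ⟨ho, hb⟩ := K636.QfLocus.qfSet_spec f hf.2.1.1
  have hcl : IsClosedMap (Points.map f.hom) := K636.Basic.of_univSp hf.2.2
  let V : Set (Points Y.obj) := (Points.map f.hom '' (K636.QfLocus.qfSet f)ᶜ)ᶜ
  have hV : IsOpen V := (hcl _ ho.isClosed_compl).isOpen_compl
  obtain ⟨W, w, hw, hr⟩ := Groth.Agent.S10195.result Y V hV
  refine ⟨W, w, hw, ?_, fun P fst snd sq => ?_⟩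
  · rw [hr]
    rintro ⟨x, hx, rfl⟩
    exact hx (hq x rfl)
  · have hp : AlgSp.IsProperMor snd.hom := Groth.Agent.S10275.result f w fst snd sq hf
    have tf : IsFiniteMor snd.hom ↔ IsProperMor snd.hom ∧ LocP (@LocallyQuasiFinite ⊓ @LocallyOfFiniteType) snd.hom :=
      (Groth.Agent.S10649.result snd).out 0 1
    refine tf.2 ⟨hp, ?_⟩
    rw [K636.QfLocus.locP_iff, hb _ _ _ _ _ sq, Set.eq_univ_iff_forall]
    intro p
    by_contra hc
    have h1 : Points.map w.hom (Points.map snd.hom p) ∈ V := by
      rw [← hr]; exact ⟨_, rfl⟩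
    apply h1
    refine ⟨Points.map fst.hom p, hc, ?_⟩
    rw [← Points.map_comp, ← Points.map_comp, sq.w]

end Groth.Agent.S10650
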