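import Groth.Statements.S10478
import Groth.Agent.AlgSp.K625.GeomRed2
import Groth.Agent.S1610

set_option autoImplicit false
universe u
open CategoryTheory CategoryTheory.Limits AlgebraicGeometry Topology TopologicalSpace
open AlgSp

namespace Groth.Agent.S10478

/-- (3) ⇒ (2): let k be a field of characteristic p > 0 and X an algebraic space over k. If X_{k'} is
reduced whenever k' is a finite purely inseparable extension of k, then X_K is reduced for every
field extension K of k. -/
theorem result (k : Type u) [Field k] (p : ℕ) [Fact p.Prime]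
    [CharP k p] (X : AlgSp.Space (Spec (CommRingCat.of k)))
    (h : ∀ (k' : Type u) [Field k'] [Algebra k k'], Module.Finite k k' → IsPurelyInseparable k k' →
      AlgSp.EtaleLocally (fun U => IsReduced U) (X.obj ⨯ (AlgSp.yon (Spec (CommRingCat.of k))).obj (Over.mk (Spec.map (CommRingCat.ofHom (algebraMap k k'))))))
    (K : Type u) [Field K] [Algebra k K] : AlgSp.EtaleLocally (fun U => IsReduced U) (X.obj ⨯ (AlgSp.yon (Spec (CommRingCat.of k))).obj (Over.mk (Spec.map (CommRingCat.ofHom (algebraMap k K))))) := by
  refine K625.GeomRed2.etaleLocally_of_gr X (fun x => ?_) K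
  obtain ⟨U, a, u, ha, rfl⟩ := K616.Inv.exists_chart X.property x
  refine ⟨U, a, u, ha, rfl, ?_⟩
  refine (@Groth.Agent.S1610.result k _ p _ _ U.left ⟨U.hom⟩ u).2 fun k' _ _ _ _ x' _ => ?_
  have := K625.GeomRed2.isReduced_bc_of_etaleLocally k' (h k' inferInstance inferInstance) a ha
  exact @isReduced_stalk_of_isReduced (FBase.bc U.hom k') this x'

end Groth.Agent.S10478
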