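import Groth.Statements.S10479
import Groth.Agent.AlgSp.K625.GeomRed3

set_option autoImplicit false
universe u
open CategoryTheory CategoryTheory.Limits AlgebraicGeometry Topology TopologicalSpace
open AlgSp

namespace Groth.Agent.S10479

/-- Let k be a field, X an algebraic space over k, K/k a field extension, x a point of X and x' a point
of X_K lying over x. Then X is geometrically reduced at x (over k) if and only if X_K is
geometrically reduced at x' (over K). -/
theorem result (k : Type u) [Field k] (X : AlgSp.Space (Spec (CommRingCat.of k))) (K : Type u) [Field K] [Algebra k K]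
    (x : AlgSp.Points X.obj) (x' : AlgSp.Points (X.obj ⨯ (AlgSp.yon (Spec (CommRingCat.of k))).obj (Over.mk (Spec.map (CommRingCat.ofHom (algebraMap k K))))))
    (hx' : AlgSp.Points.map (Limits.prod.fst : (X.obj ⨯ (AlgSp.yon (Spec (CommRingCat.of k))).obj (Over.mk (Spec.map (CommRingCat.ofHom (algebraMap k K))))) ⟶ X.obj) x' = x) :
    (∃ (U : Over (Spec (CommRingCat.of k))) (a : (AlgSp.yon (Spec (CommRingCat.of k))).obj U ⟶ X.obj) (u : ↥U.left),
      AlgSp.RepWith @Etale a ∧ AlgSp.Points.ofPt a u = x ∧ FBase.IsGeomReducedAt U.hom u) ↔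
      ∃ (U' : Over (Spec (CommRingCat.of k))) (a' : (AlgSp.yon (Spec (CommRingCat.of k))).obj U' ⟶ (X.obj ⨯ (AlgSp.yon (Spec (CommRingCat.of k))).obj (Over.mk (Spec.map (CommRingCat.ofHom (algebraMap k K))))))
        (q : U' ⟶ Over.mk (Spec.map (CommRingCat.ofHom (algebraMap k K)))) (u' : ↥U'.left),
        AlgSp.RepWith @Etale a' ∧ a' ≫ Limits.prod.snd = (AlgSp.yon (Spec (CommRingCat.of k))).map q ∧
          AlgSp.Points.ofPt a' u' = x' ∧ FBase.IsGeomReducedAt q.left u' := by
  subst hx'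
  constructor
  · rintro ⟨U, a, u, ha, e, hu⟩
    obtain ⟨w, hw, hwu⟩ := K625.GeomRed3.exists_prodChart_point a
      (K625.Fld.fld k K) u x' e.symm
    refine ⟨U ⨯ K625.Fld.fld k K, K649.RedChart.prodChart a _, prod.snd, w,
      K649.RedChart.repWith_prodChart @Etale a _ ha, K625.GeomRed3.prodChart_snd a _, hw, ?_⟩
    rw [← K625.GeomRed3.iff_prod, hwu]
    exact hu
  · rintro ⟨U', a', q, u', ha', haq, rfl, hu'⟩
    obtain ⟨U, a, u, ha, e⟩ := K616.Inv.exists_chart X.property
      (AlgSp.Points.map (prod.fst : X.obj ⨯ (yon _).obj (K625.Fld.fld k K) ⟶ X.obj)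
        (AlgSp.Points.ofPt a' u'))
    refine ⟨U, a, u, ha, e, ?_⟩
    obtain ⟨w, hw, hwu⟩ := K625.GeomRed3.exists_prodChart_point a
      (K625.Fld.fld k K) u _ e.symm
    rw [← hwu, K625.GeomRed3.iff_prod]
    obtain ⟨W, p₁, p₂, v, sq, e₁, e₂, h1, h2⟩ := K616.Inv.exists_chart_refinement a'
      (K649.RedChart.prodChart a (K625.Fld.fld k K)) ha'
      (K649.RedChart.repWith_prodChart @Etale a _ ha) u' w hw.symm
    have hc : p₁ ≫ q = p₂ ≫ (prod.snd : U ⨯ K625.Fld.fld k K ⟶ _) := by
      apply (yon (Spec (CommRingCat.of k))).map_injective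
      rw [Functor.map_comp, Functor.map_comp, ← haq, ← K625.GeomRed3.prodChart_snd a,
        ← Category.assoc, ← Category.assoc, sq.w]
    rw [← h1] at hu'
    rw [← h2]
    have h3 := (K625.GeomRed.isGeomReducedAt_iff p₁.left q.left v).2 hu'
    have h4 : p₁.left ≫ q.left = p₂.left ≫ (prod.snd : U ⨯ K625.Fld.fld k K ⟶ _).left := by
      rw [← Over.comp_left, ← Over.comp_left, hc]
    rw [h4] at h3
    exact (K625.GeomRed.isGeomReducedAt_iff p₂.left _ v).1 h3

end Groth.Agent.S10479
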