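import Groth.Statements.S10481
import Groth.Agent.AlgSp.K625.GeomRed2

set_option autoImplicit false
universe u
open CategoryTheory CategoryTheory.Limits AlgebraicGeometry Topology TopologicalSpace
open AlgSp

namespace Groth.Agent.S10481

/-- Let k be a field, f : X ⟶ Y a morphism of algebraic spaces over k and x a point of X at which f is
etale. Then X is geometrically reduced at x if and only if Y is geometrically reduced at the image
of x. -/
theorem result (k : Type u) [Field k] {X Y : AlgSp.Space (Spec (CommRingCat.of k))} (f : X ⟶ Y)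
    (x : AlgSp.Points X.obj)
    (he : AlgSp.HasAtMor (fun U _ h u => ∃ W : U.Opens, u ∈ W ∧ Etale (W.ι ≫ h)) f.hom x) :
    (∃ (U : Over (Spec (CommRingCat.of k))) (a : (AlgSp.yon (Spec (CommRingCat.of k))).obj U ⟶ X.obj) (u : ↥U.left),
      AlgSp.RepWith @Etale a ∧ AlgSp.Points.ofPt a u = x ∧ FBase.IsGeomReducedAt U.hom u) ↔ (∃ (U : Over (Spec (CommRingCat.of k))) (a : (AlgSp.yon (Spec (CommRingCat.of k))).obj U ⟶ Y.obj) (u : ↥U.left),
      AlgSp.RepWith @Etale a ∧ AlgSp.Points.ofPt a u = (AlgSp.Points.map f.hom x) ∧ FBase.IsGeomReducedAt U.hom u) := by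
  obtain ⟨U, V, a, b, h, u, ha, hb, w, rfl, W, hW, hE⟩ := he
  let W' : Over (Spec (CommRingCat.of k)) := Over.mk (W.ι ≫ U.hom)
  let j : W' ⟶ U := Over.homMk W.ι rfl
  have hj : AlgebraicGeometry.Etale j.left := (inferInstance : AlgebraicGeometry.Etale W.ι)
  let w₀ : ↥W'.left := ⟨u, hW⟩
  have hw₀ : j.left w₀ = u := rfl
  have ha' : AlgSp.RepWith @Etale ((AlgSp.yon _).map j ≫ a) :=
    K625.Level.repWith_comp @Etale ((repWith_yon_map_iff @Etale j).2 hj) ha
  have hb' : AlgSp.RepWith @Etale ((AlgSp.yon _).map (j ≫ h) ≫ b) :=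
    K625.Level.repWith_comp @Etale ((repWith_yon_map_iff @Etale (j ≫ h)).2 hE) hb
  have e1 : AlgSp.Points.ofPt ((AlgSp.yon _).map j ≫ a) w₀ = AlgSp.Points.ofPt a u := by
    rw [K625.Points.ofPt_yon_map_comp, hw₀]
  have e2 : AlgSp.Points.ofPt ((AlgSp.yon _).map (j ≫ h) ≫ b) w₀ =
      AlgSp.Points.map f.hom (AlgSp.Points.ofPt a u) := by
    rw [K625.Points.ofPt_square w u, K625.Points.ofPt_yon_map_comp]
    rfl
  change K625.GeomRed.GR X.obj _ ↔ K625.GeomRed.GR Y.obj _
  rw [← e2, ← e1, K625.GeomRed.gr_iff _ ha', K625.GeomRed.gr_iff _ hb']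

end Groth.Agent.S10481
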