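import Groth.Statements.S10485
import Groth.Agent.AlgSp.K626.IntSp
import Groth.Agent.S10399

set_option autoImplicit false
universe u
open CategoryTheory CategoryTheory.Limits AlgebraicGeometry Topology TopologicalSpace
open AlgSp

namespace Groth.Agent.S10485

/-- (4) ⇔ (5): let f : X ⟶ Y be a dominant morphism locally of finite type between integral algebraic
spaces over a scheme S, with generic points x and y. Then f is quasi-finite at x if and only if x is
the only point of X mapping to y. -/
theorem result {S : Scheme.{u}} {X Y : AlgSp.Space S} (hXi : AlgSp.IsIntegralSp X.obj) (hYi : AlgSp.IsIntegralSp Y.obj)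
    (f : X ⟶ Y) (hft : AlgSp.LocP @LocallyOfFiniteType f.hom) (hd : AlgSp.IsDominantMor f.hom)
    (x : AlgSp.Points X.obj) (hx : IsGenericPoint x (Set.univ : Set (AlgSp.Points X.obj)))
    (y : AlgSp.Points Y.obj) (hy : IsGenericPoint y (Set.univ : Set (AlgSp.Points Y.obj))) :
    AlgSp.HasAtMor (fun U _ h u => ∃ W : U.Opens, u ∈ W ∧ LocallyQuasiFinite (W.ι ≫ h) ∧ LocallyOfFiniteType (W.ι ≫ h)) f.hom x ↔ (∀ x' : AlgSp.Points X.obj, AlgSp.Points.map f.hom x' = y → x' = x) := by
  have hX := X.property
  have hY := Y.property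
  have hy0 : K621.Generic.CodimZero Y.obj y := (K626.IntSp.codimZero_iff_eq_generic hY hYi.2.1 hy).2 rfl
  have hxy := K626.IntSp.map_generic hY hYi.2.1 hd hx hy
  have key := Groth.Agent.S10399.result f hft y hy0
  have hc : ∀ x', K621.Generic.CodimZero X.obj x' ↔ x' = x := fun x' =>
    K626.IntSp.codimZero_iff_eq_generic hX hXi.2.1 hx
  constructor
  · intro h x' hx'
    refine (hc x').1 (key.2 ?_ x' hx')
    intro x'' _ h''
    rw [(hc x'').1 h'']
    exact h
  · intro h
    refine key.1.1 (fun x' hx' => (hc x').2 (h x' hx')) x hxy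

end Groth.Agent.S10485
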