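import Groth.Statements.S10487
import Groth.Agent.AlgSp.K626.GenOpen
import Groth.Agent.S10485

set_option autoImplicit false
universe u
open CategoryTheory CategoryTheory.Limits AlgebraicGeometry Topology TopologicalSpace
open AlgSp

namespace Groth.Agent.S10487

/-- (3) ⇔ (5): let f : X ⟶ Y be a dominant morphism locally of finite type between integral algebraic
spaces over a scheme S, with generic points x and y. Then there are nonempty affine opens U ⊂ X and
V ⊂ Y with f(U) ⊂ V and f|_U : U ⟶ V finite, if and only if x is the only point of X mapping to y. -/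
theorem result {S : Scheme.{u}} {X Y : AlgSp.Space S} (hXi : AlgSp.IsIntegralSp X.obj) (hYi : AlgSp.IsIntegralSp Y.obj)
    (f : X ⟶ Y) (hft : AlgSp.LocP @LocallyOfFiniteType f.hom) (hd : AlgSp.IsDominantMor f.hom)
    (x : AlgSp.Points X.obj) (hx : IsGenericPoint x (Set.univ : Set (AlgSp.Points X.obj)))
    (y : AlgSp.Points Y.obj) (hy : IsGenericPoint y (Set.univ : Set (AlgSp.Points Y.obj))) :
    (∃ (U V : Over S) (a : (AlgSp.yon S).obj U ⟶ X.obj) (b : (AlgSp.yon S).obj V ⟶ Y.obj) (g : U ⟶ V),
      IsAffine U.left ∧ IsAffine V.left ∧ Nonempty ↥U.left ∧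
        AlgSp.RepWith @IsOpenImmersion a ∧ AlgSp.RepWith @IsOpenImmersion b ∧
          a ≫ f.hom = (AlgSp.yon S).map g ≫ b ∧ IsFinite g.left) ↔ (∀ x' : AlgSp.Points X.obj, AlgSp.Points.map f.hom x' = y → x' = x) := by
  have hX := X.property
  have hY := Y.property
  have hxy := K626.IntSp.map_generic hY hYi.2.1 hd hx hy
  constructor
  · rintro ⟨U, V, a, b, g, hU, hV, hne, ha, hb, w, hfin⟩
    have hopen : IsOpen (Set.range (Points.ofPt a)) :=
      (K610.Base.isOpenMap_ofPt_etale (K610.OpenImm.repWith_etale_of_open ha)).isOpen_range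
    have hxr : x ∈ Set.range (Points.ofPt a) := by
      obtain ⟨z⟩ := hne
      refine (specializes_iff_mem_closure.2 ?_ : x ⤳ Points.ofPt a z).mem_open hopen ⟨z, rfl⟩
      rw [hx.def]
      trivial
    obtain ⟨u, hu⟩ := hxr
    refine (Groth.Agent.S10485.result hXi hYi f hft hd x hx y hy).1 ?_
    refine ⟨U, V, a, b, g, u, K610.OpenImm.repWith_etale_of_open ha,
      K610.OpenImm.repWith_etale_of_open hb, w, hu, ⊤, trivial, ?_, ?_⟩ <;> infer_instance
  · intro h
    have hqf := (Groth.Agent.S10485.result hXi hYi f hft hd x hx y hy).2 h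
    obtain ⟨V₁, b, v, hV₁, hb, hv⟩ := K626.GenOpen.exists_affine_open hYi.2.1 hy
    obtain ⟨U₀, a₀, u₀, -, ha₀, hu₀⟩ := K626.GenOpen.exists_affine_open hXi.2.1 hx
    obtain ⟨U, a, u, g, hU, ha, hu, hgu, w⟩ := K626.GenOpen.exists_open_diagram f ha₀ hb u₀ v
      (by rw [hu₀, hv, hxy])
    have hae := K610.OpenImm.repWith_etale_of_open ha
    have hbe := K610.OpenImm.repWith_etale_of_open hb
    have hlft : LocallyOfFiniteType g.left := hft a b g hae hbe w
    have hmin : K621.QFin.Min v := by
      have h0 : K621.Generic.CodimZero Y.obj (Points.ofPt b v) := by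
        rw [hv]
        exact (K626.IntSp.codimZero_iff_eq_generic hY hYi.2.1 hy).2 rfl
      exact fun v' hv' => h0.chart hY hbe hv'
    obtain ⟨W, hvW, hW⟩ := K621.GenFin.exists_isFinite g.left hmin (fun z hz => by
      have h1 : Points.ofPt a z = x := by
        apply h
        rw [Points.map_ofPt, w, K621.Base.ofPt_comp, hz, hv]
      exact (K621.QFin.qf_iff g.left z).1 ((K616.Inv.hasAtMor_iff' K621.QFin.etInvOn_qf hft a b g
        hae hbe w z h1).1 hqf))
    obtain ⟨W', hvW', hle, hW'⟩ := K621.Base.exists_affine_openChart v W hvW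
    have hfin : IsFinite (g.left ∣_ W') := K621.GenFin.isFinite_restrict_of_le hW hle
    have hW'a : IsAffine (W' : Scheme.{u}) := hW'
    have haff : IsAffineHom (g.left ∣_ W') := ((isFinite_iff _).1 hfin).1
    have hUa : IsAffine (g.left ⁻¹ᵁ W' : Scheme.{u}) := isAffine_of_isAffineHom (g.left ∣_ W')
    have hcomm : (g.left ∣_ W') ≫ W'.ι ≫ V₁.hom = (g.left ⁻¹ᵁ W').ι ≫ U.hom := by
      rw [morphismRestrict_ι_assoc, Over.w]
    let g' : K621.Base.openChart U (g.left ⁻¹ᵁ W') ⟶ K621.Base.openChart V₁ W' :=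
      Over.homMk (g.left ∣_ W') hcomm
    refine ⟨K621.Base.openChart U (g.left ⁻¹ᵁ W'), K621.Base.openChart V₁ W',
      (yon S).map (K621.Base.openChartι U _) ≫ a, (yon S).map (K621.Base.openChartι V₁ W') ≫ b, g',
      ?_, hW', ?_, K626.GenOpen.repWith_open_openChart ha _, K626.GenOpen.repWith_open_openChart hb _,
      ?_, hfin⟩
    · exact hUa
    · exact ⟨⟨u, by change g.left u ∈ W'; rw [hgu]; exact hvW'⟩⟩
    · rw [Category.assoc, w, ← Category.assoc, ← Category.assoc, ← Functor.map_comp, ← Functor.map_comp]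
      congr 2
      apply Over.OverMorphism.ext
      exact (morphismRestrict_ι g.left W').symm

end Groth.Agent.S10487
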