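import Groth.Statements.S10488
import Groth.Agent.AlgSp.K626.FinOpen
import Groth.Agent.S10487

set_option autoImplicit false
universe u
open CategoryTheory CategoryTheory.Limits AlgebraicGeometry Topology TopologicalSpace
open AlgSp

namespace Groth.Agent.S10488

/-- (5) ⇔ (6): let f : X ⟶ Y be a dominant morphism locally of finite type between integral algebraic
spaces over a scheme S, with generic points x and y, and assume f separated or quasi-compact. Then x
is the only point of X mapping to y if and only if there is a nonempty affine open V ⊂ Y such that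
f⁻¹(V) ⟶ V is finite. -/
theorem result {S : Scheme.{u}} {X Y : AlgSp.Space S} (hXi : AlgSp.IsIntegralSp X.obj) (hYi : AlgSp.IsIntegralSp Y.obj)
    (f : X ⟶ Y) (hft : AlgSp.LocP @LocallyOfFiniteType f.hom) (hd : AlgSp.IsDominantMor f.hom)
    (x : AlgSp.Points X.obj) (hx : IsGenericPoint x (Set.univ : Set (AlgSp.Points X.obj)))
    (y : AlgSp.Points Y.obj) (hy : IsGenericPoint y (Set.univ : Set (AlgSp.Points Y.obj)))
    (hsq : AlgSp.IsSeparatedMor f.hom ∨ AlgSp.IsQuasiCompactMor f.hom) :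
    (∀ x' : AlgSp.Points X.obj, AlgSp.Points.map f.hom x' = y → x' = x) ↔
      ∃ (V : Over S) (b : (AlgSp.yon S).obj V ⟶ Y.obj) (U : Over S) (g : U ⟶ V) (a : (AlgSp.yon S).obj U ⟶ X.obj),
        IsAffine V.left ∧ Nonempty ↥V.left ∧ AlgSp.RepWith @IsOpenImmersion b ∧
          IsPullback a ((AlgSp.yon S).map g) f.hom b ∧ IsAffine U.left ∧ IsFinite g.left := by
  have hX := X.property
  have hY := Y.property
  have hxy := K626.IntSp.map_generic hY hYi.2.1 hd hx hy
  constructor
  · intro h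
    obtain ⟨V, X', j, fst, snd, hj, hyr, sq, hfin⟩ :=
      K626.FinOpen.exists_open_finite hXi hYi f hft hd hx hy hsq.symm h
    obtain ⟨V₀, b, U, g, a, hV₀, ⟨v, -⟩, hb, sqU, hU, hg⟩ :=
      K626.FinOpen.exists_affine_chart hYi.2.1 hj sq hfin hy hyr
    exact ⟨V₀, b, U, g, a, hV₀, ⟨v⟩, hb, sqU, hU, hg⟩
  · rintro ⟨V, b, U, g, a, hV, ⟨v₀⟩, hb, sq, hU, hg⟩
    have ha : RepWith @IsOpenImmersion a := MorphismProperty.of_isPullback sq.flip hb
    obtain ⟨v, hv⟩ := K626.FinOpen.mem_of_isOpen hy (s := Set.range (Points.ofPt b))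
      ((K610.Base.isOpenMap_ofPt_etale (K610.OpenImm.repWith_etale_of_open hb)).isOpen_range)
      ⟨_, v₀, rfl⟩
    obtain ⟨u, -, -⟩ := K621.Base.exists_point_of_isPullback' sq v x (by rw [hv, hxy])
    exact (Groth.Agent.S10487.result hXi hYi f hft hd x hx y hy).1
      ⟨U, V, a, b, g, hU, hV, ⟨u⟩, ha, hb, sq.w, hg⟩

end Groth.Agent.S10488
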