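import Groth.Statements.S10490
import Groth.Agent.AlgSp.K626.SmoothField

set_option autoImplicit false
universe u
open CategoryTheory CategoryTheory.Limits AlgebraicGeometry Topology TopologicalSpace
open AlgSp

namespace Groth.Agent.S10490

/-- Let k be a field and X an algebraic space smooth over k. Then the points of X which are images of
morphisms Spec k' ⟶ X over k with k' a finite separable extension of k form a dense subset of |X|. -/
theorem result (k : Type u) [Field k] (X : AlgSp.Space (Spec (CommRingCat.of k))) (p : X.obj ⟶ (AlgSp.yon (Spec (CommRingCat.of k))).obj (Over.mk (𝟙 _))) (hp : AlgSp.LocP @Smooth p) :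
    Dense {x : AlgSp.Points X.obj | ∃ (k' : Type u) (_ : Field k') (_ : Algebra k k'),
      Module.Finite k k' ∧ Algebra.IsSeparable k k' ∧
        ∃ v : X.obj.obj.obj (Opposite.op (Over.mk (Spec.map (CommRingCat.ofHom (algebraMap k k'))))),
          AlgSp.Points.mk ⟨k', Spec.map (CommRingCat.ofHom (algebraMap k k')), v⟩ = x} := by
  obtain ⟨U, a, ha, has⟩ := X.property.atlas
  have hs : Smooth U.hom := K626.SmoothField.smooth_hom k p hp a ha
  let _ : U.left.Over (Spec (CommRingCat.of k)) := ⟨U.hom⟩
  have hs' : Smooth (U.left ↘ Spec (CommRingCat.of k)) := hs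
  have h1 := Groth.Agent.S1550.result k U.left
  have h2 : DenseRange (Points.ofPt a) := (K609.Points.surjective_ofPt_of_repWith_surjective has).denseRange
  have h3 := h2.dense_image (Points.continuous_ofPt a) h1
  refine h3.mono ?_
  rintro _ ⟨u, ⟨-, hu1, hu2⟩, rfl⟩
  let _ : Algebra k (U.left.residueField u) := Curv2.resAlgebra k U.left u
  refine ⟨U.left.residueField u, inferInstance, inferInstance, hu1, hu2, ?_⟩
  exact K626.SmoothField.exists_mk_eq k (U.left.residueField u) (U.left.fromSpecResidueField u ≫ U.hom) _
    (Groth.Agent.VarietyA.ResMap.specMap_resMap k U.left u) (FieldPt.ofPt a u).val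

end Groth.Agent.S10490
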