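import Groth.Statements.S10492
import Groth.Agent.AlgSp.K626.NormChart
import Groth.Agent.AlgSp.K616.Refine

set_option autoImplicit false
universe u
open CategoryTheory CategoryTheory.Limits AlgebraicGeometry Topology TopologicalSpace
open AlgSp

namespace Groth.Agent.S10492

/-- Let X be a normal integral algebraic space over a scheme S. Each point x of X lies in the image of
some etale morphism U ⟶ X from an affine scheme U that is normal and integral. -/
theorem result {S : Scheme.{u}} (X : AlgSp.Space S)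
    (hXi : AlgSp.IsIntegralSp X.obj)
    (hXn : AlgSp.EtaleLocally (fun U => ∀ u : ↥U, IsDomain ↥(U.presheaf.stalk u) ∧
      IsIntegrallyClosed ↥(U.presheaf.stalk u)) X.obj)
    (x : AlgSp.Points X.obj) :
    ∃ (U : Over S) (a : (AlgSp.yon S).obj U ⟶ X.obj), AlgSp.RepWith @Etale a ∧ IsAffine U.left ∧
      IsIntegral U.left ∧ IsIntegrallyClosed ↥Γ(U.left, ⊤) ∧ x ∈ Set.range (AlgSp.Points.ofPt a) := by
  have hirr : IrreducibleSpace (Points X.obj) := hXi.2.2
  obtain ⟨U, a, ha, hs, hU⟩ := hXn
  obtain ⟨u, rfl⟩ := K616.Refine.ofPt_surjective a hs x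
  obtain ⟨O, huO, hOa, hOi⟩ := K626.NormChart.exists_integral_chart X.property hXi.2.1 a ha
    (fun u => (hU u).1) u
  refine ⟨K621.Base.openChart U O, (yon S).map (K621.Base.openChartι U O) ≫ a,
    K621.Base.repWith_openChart ha O, hOa, hOi, ?_, ⟨⟨u, huO⟩, K621.Base.ofPt_openChart a O ⟨u, huO⟩⟩⟩
  refine Groth.Agent.S2102.result (O : Scheme.{u}) fun w => ?_
  have h1 := hU (O.ι w)
  have e := (asIso (O.ι.stalkMap w)).commRingCatIsoToRingEquiv
  have := h1.1
  have := h1.2
  exact ⟨MulEquiv.isDomain _ e.symm.toMulEquiv, IsIntegrallyClosed.of_equiv e⟩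

end Groth.Agent.S10492
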