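import Groth.Statements.S10493
import Groth.Agent.AlgSp.K626.DescOpen
import Groth.Agent.AlgSp.K626.DescPts

set_option autoImplicit false
universe u
open CategoryTheory CategoryTheory.Limits AlgebraicGeometry Topology TopologicalSpace
open AlgSp

namespace Groth.Agent.S10493

/-- Let k be a field with algebraic closure k̄ and X an algebraic space over k which is decent and
locally of finite type over k, such that X_{k̄} is a scheme in which every finite set of k̄-rational
points is contained in an affine open. Then X is a scheme. -/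
theorem result (k : Type u) [Field k] (X : AlgSp.Space (Spec (CommRingCat.of k)))
    (hdec : AlgSp.IsDecent X.obj) (p : X.obj ⟶ (AlgSp.yon (Spec (CommRingCat.of k))).obj (Over.mk (𝟙 _))) (hp : AlgSp.LocP @LocallyOfFiniteType p)
    (kbar : Type u) [Field kbar] [Algebra k kbar] [IsAlgClosure k kbar]
    (T : Over (Spec (CommRingCat.of k))) (e : (AlgSp.yon (Spec (CommRingCat.of k))).obj T ≅ (X.obj ⨯ (AlgSp.yon (Spec (CommRingCat.of k))).obj (Over.mk (Spec.map (CommRingCat.ofHom (algebraMap k kbar))))))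
    (q : T ⟶ Over.mk (Spec.map (CommRingCat.ofHom (algebraMap k kbar))))
    (hq : (AlgSp.yon (Spec (CommRingCat.of k))).map q = e.hom ≫ Limits.prod.snd)
    (h3 : ∀ s : Finset ↥T.left,
      (∀ t ∈ s, ∃ σ : Spec (CommRingCat.of kbar) ⟶ T.left, σ ≫ q.left = 𝟙 _ ∧ σ (IsLocalRing.closedPoint kbar) = t) →
        ∃ W : T.left.Opens, IsAffineOpen W ∧ ∀ t ∈ s, t ∈ W) :
    X.obj.obj.IsRepresentable := by
  have hN : Normal k kbar := IsAlgClosure.normal k kbar
  have hac : IsAlgClosed kbar := IsAlgClosure.isAlgClosed k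
  have halg : Algebra.IsAlgebraic k kbar := IsAlgClosure.isAlgebraic
  rw [K610.SchLocus.isRepresentable_iff_forall]
  suffices h : ∀ x : Points X.obj, x ∈ K610.SchLocus.locus X from
    fun x => K610.SchLocus.mem_locus_iff.1 (h x)
  intro x
  by_contra hx
  obtain ⟨A, _, _, c, t, hc, rfl⟩ := K625.Level.exists_chart X x
  -- `A` is a finite type `k`-algebra
  have hA : Algebra.FiniteType k A := by
    obtain ⟨h, hh⟩ := (yon (Spec (CommRingCat.of k))).map_surjective (c ≫ p)
    have h1 : LocallyOfFiniteType h.left := hp c (𝟙 _) h hc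
      ((repWith_isMultiplicative @Etale).id_mem _) (by rw [hh, Category.comp_id])
    have h2 : h.left = Spec.map (CommRingCat.ofHom (algebraMap k A)) := by
      have := Over.w h
      simpa using this
    rw [h2, HasRingHomProperty.Spec_iff (P := @LocallyOfFiniteType)] at h1
    exact RingHom.finiteType_algebraMap.1 h1
  -- a closed point of the chart outside the schematic locus
  obtain ⟨m, hm, hle⟩ := Ideal.exists_le_maximal (t : PrimeSpectrum A).asIdeal
    (t : PrimeSpectrum A).isPrime.ne_top
  let L := A ⧸ m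
  let _ : Field L := Ideal.Quotient.field m
  have hL : Module.Finite k L := finite_of_finite_type_of_isJacobsonRing k L
  let xt : (yon _).obj (K625.Fld.fld k L) ⟶ X.obj :=
    (yon _).map (K625.Fld.homOf (Ideal.Quotient.mkₐ k m)) ≫ c
  let s₀ : ↥(K625.Fld.fld k L).left := (IsLocalRing.closedPoint L : PrimeSpectrum L)
  let s₁ : ↥(K625.Fld.fld k kbar).left := (IsLocalRing.closedPoint kbar : PrimeSpectrum kbar)
  have hx' : Points.ofPt xt s₀ ∉ K610.SchLocus.locus X := by
    intro h
    apply hx
    rw [K625.Points.ofPt_yon_map_comp] at h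
    have hsp : t ⤳ (K625.Fld.homOf (Ideal.Quotient.mkₐ k m)).left s₀ := by
      rw [K625.Fld.homOf_left]
      refine (PrimeSpectrum.le_iff_specializes _ _).1 ?_
      refine hle.trans ?_
      intro a ha
      change (Ideal.Quotient.mkₐ k m).toRingHom a ∈ (IsLocalRing.closedPoint L).asIdeal
      have : (Ideal.Quotient.mkₐ k m).toRingHom a = 0 := Ideal.Quotient.eq_zero_iff_mem.2 ha
      rw [this]
      exact Ideal.zero_mem _
    exact (hsp.map (Points.continuous_ofPt c)).mem_open (K610.SchLocus.isOpen_locus X) h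
  let φ₀ : L →ₐ[k] kbar := IsAlgClosed.lift
  -- the rational points of `T` over the point
  choose τ hτ using fun φ : L →ₐ[k] kbar =>
    (yon (Spec (CommRingCat.of k))).map_surjective (K626.DescPts.ptHom xt φ ≫ e.inv)
  have hτq : ∀ φ, τ φ ≫ q = 𝟙 _ := by
    intro φ
    apply (yon _).map_injective
    rw [Functor.map_comp, hτ, hq, Category.assoc, e.inv_hom_id_assoc, K626.DescPts.ptHom_snd,
      CategoryTheory.Functor.map_id]
  have hτe : ∀ φ, Points.ofPt e.hom ((τ φ).left s₁) = Points.ofPt (K626.DescPts.ptHom xt φ) s₁ := by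
    intro φ
    rw [← K625.Points.ofPt_yon_map_comp, hτ, Category.assoc, e.inv_hom_id, Category.comp_id]
  have hfinφ : Finite (L →ₐ[k] kbar) := inferInstance
  obtain ⟨W, hW, hsW⟩ := h3 (Set.finite_range fun φ : L →ₐ[k] kbar => (τ φ).left s₁).toFinset (by
    intro t ht
    obtain ⟨φ, rfl⟩ := (Set.Finite.mem_toFinset _).1 ht
    refine ⟨(τ φ).left, ?_, rfl⟩
    exact congrArg (·.left) (hτq φ))
  have hsW' : ∀ φ, (τ φ).left s₁ ∈ W := fun φ => hsW _ ((Set.Finite.mem_toFinset _).2 ⟨φ, rfl⟩)
  -- descend `W` to a finite level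
  have hbij : Function.Injective (Points.ofPt e.hom) := by
    intro y y' h
    have h2 : Points.map e.inv (Points.ofPt e.hom y) = Points.map e.inv (Points.ofPt e.hom y') := by
      rw [h]
    rw [Points.map_ofPt, Points.map_ofPt, e.hom_inv_id] at h2
    have h3 := congrArg (Points.toScheme T) h2
    have h4 : ∀ z, Points.toScheme T (Points.ofPt (𝟙 _) z) = z := fun z =>
      Points.toScheme_ofScheme T z
    rwa [h4, h4] at h3
  let V : Set (Points (K625.Fld.bcs X.obj kbar)) := Points.ofPt e.hom '' (W : Set ↥T.left)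
  have hVo : IsOpen V := K610.Base.isOpenMap_ofPt_etale
    (K610.OpenImm.repWith_etale_of_open (K610.SchLocus.repWith_iso e)) _ W.2
  have hVc : IsCompact V := hW.isCompact.image (Points.continuous_ofPt e.hom)
  obtain ⟨k', hk', hsat⟩ := K625.Level.exists_sat X V hVo hVc
  obtain ⟨V', g, hV', hg, hgr⟩ := K626.DescOpen.exists_affine_open X k'.val T e q hq W hW
    (Points.map (K625.Fld.bcMap X.obj k'.val) '' V)
    (K625.Fld.isOpenMap_bcMap X.obj k'.val _ hVo) (by
      ext z
      rw [Set.mem_preimage, ← Points.map_ofPt, ← Set.mem_preimage, hsat.preimage_image]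
      exact ⟨fun ⟨w, hw, h⟩ => hbij h ▸ hw, fun h => ⟨z, h, rfl⟩⟩)
  have hover : ∀ y : Points (K625.Fld.bcs X.obj kbar), Points.map Limits.prod.fst y = Points.ofPt xt s₀ →
      y ∈ V := by
    intro y hy
    obtain ⟨φ, rfl⟩ := K626.DescPts.exists_ptHom xt φ₀ y s₀ s₁ hy
    exact ⟨_, hsW' φ, hτe φ⟩
  have hfst : K625.Fld.bcMap X.obj k'.val ≫ Limits.prod.fst = Limits.prod.fst := by
    rw [Limits.prod.map_fst, Category.comp_id]
  refine hx' (K626.DescOpen.mem_locus_of_finite X V' hV' g hg _ ?_ ?_)
  · intro y' hy'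
    obtain ⟨y, rfl⟩ := K625.Fld.surjective_bcMap X.obj k'.val y'
    rw [hgr]
    refine ⟨y, hover y ?_, rfl⟩
    rw [← hy', ← Points.map_comp, hfst]
  · refine ((K626.DescPts.finite_fibre (K := kbar) xt φ₀ s₀ s₁).image
      (Points.map (K625.Fld.bcMap X.obj k'.val))).subset ?_
    intro y' hy'
    obtain ⟨y, rfl⟩ := K625.Fld.surjective_bcMap X.obj k'.val y'
    refine ⟨y, ?_, rfl⟩
    change Points.map Limits.prod.fst y = _
    rw [← show Points.map Limits.prod.fst _ = _ from hy', ← Points.map_comp, hfst]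

end Groth.Agent.S10493
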