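import Groth.Statements.S10497
import Groth.Agent.AlgSp.K626.GeomRed
import Groth.Agent.AlgSp.K620.Dec

set_option autoImplicit false
universe u
open CategoryTheory CategoryTheory.Limits AlgebraicGeometry Topology TopologicalSpace
open AlgSp

namespace Groth.Agent.S10497

/-- Let k be a field and X a decent algebraic space over k. Then all base changes X_K to field
extensions K of k are integral exactly when X is geometrically reduced over k and every |X_K| is
irreducible. -/
theorem result (k : Type u) [Field k] (X : AlgSp.Space (Spec (CommRingCat.of k))) (hX : AlgSp.IsDecent X.obj) :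
    (∀ (K : Type u) [Field K] [Algebra k K], AlgSp.IsIntegralSp (X.obj ⨯ (AlgSp.yon (Spec (CommRingCat.of k))).obj (Over.mk (Spec.map (CommRingCat.ofHom (algebraMap k K)))))) ↔
      (∀ x : AlgSp.Points X.obj, (∃ (U : Over (Spec (CommRingCat.of k))) (a : (AlgSp.yon (Spec (CommRingCat.of k))).obj U ⟶ X.obj) (u : ↥U.left),
      AlgSp.RepWith @Etale a ∧ AlgSp.Points.ofPt a u = x ∧ FBase.IsGeomReducedAt U.hom u)) ∧
        ∀ (K : Type u) [Field K] [Algebra k K], IrreducibleSpace (AlgSp.Points (X.obj ⨯ (AlgSp.yon (Spec (CommRingCat.of k))).obj (Over.mk (Spec.map (CommRingCat.ofHom (algebraMap k K)))))) := by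
  have hfst : ∀ (K : Type u) [Field K] [Algebra k K],
      RepWith (⊤ : MorphismProperty Scheme.{u}) (Limits.prod.fst : K625.Fld.bcs X.obj K ⟶ X.obj) :=
    fun K _ _ => K625.Prod.repWith_fst _ X.obj _ trivial
  constructor
  · intro h
    refine ⟨fun x => ?_, fun K _ _ => (h K).2.2⟩
    obtain ⟨U, a, u, ha, hu⟩ := K616.Inv.exists_chart X.property x
    refine ⟨U, a, u, ha, hu, ?_⟩
    intro K _ _ w hw
    obtain ⟨W, π, c, q, sq, hq, sq'⟩ := K626.GeomRed.exists_chart_bc a K
    have hc : RepWith @Etale c := K625.Prod.repWith_of_isPullback _ sq.flip ha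
    have := K612.Reduced.isReduced_of_isReducedSp (h K).1 c hc
    have : IsReduced (FBase.bc U.hom K) :=
      isReduced_of_isOpenImmersion (sq'.isoPullback.inv : FBase.bc U.hom K ⟶ W.left)
    infer_instance
  · rintro ⟨h1, h2⟩ K _ _
    refine ⟨?_, K620.Dec.isDecent_of_representable Limits.prod.fst (hfst K).rep hX, h2 K⟩
    obtain ⟨U, a, ha, hs⟩ := X.property.atlas
    obtain ⟨W, π, c, q, sq, hq, sq'⟩ := K626.GeomRed.exists_chart_bc a K
    refine ⟨W, c, K625.Prod.repWith_of_isPullback _ sq.flip ha,
      K625.Prod.repWith_of_isPullback _ sq.flip hs, ?_⟩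
    refine @isReduced_of_isReduced_stalk _ fun w => ?_
    have h3 := (K626.GeomRed.hasGR_iff a ha (π.left w)).1 (h1 _)
    let e : W.left ≅ FBase.bc U.hom K := sq'.isoPullback
    have he : e.hom ≫ FBase.bcπ U.hom K = π.left := sq'.isoPullback_hom_fst
    have h4 := h3 K (e.hom w) (by
      change FBase.bcπ U.hom K (e.hom w) = _
      rw [← Scheme.Hom.comp_apply, he])
    exact (K626.GeomRed.isReduced_stalk_iff e.hom w).1 h4

end Groth.Agent.S10497
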