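import Groth.Statements.S10500
import Groth.Agent.AlgSp.K626.FinOpen
import Groth.Agent.S10488

set_option autoImplicit false
universe u
open CategoryTheory CategoryTheory.Limits AlgebraicGeometry Topology TopologicalSpace
open AlgSp

namespace Groth.Agent.S10500

/-- Let X and Y be integral algebraic spaces over a scheme S with generic points x and y, and f : X ⟶ Y
a morphism which is proper and dominant. Then f is an alteration (finite over some nonempty open
subspace of Y) if and only if x is the only point of X mapping to y. -/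
theorem result {S : Scheme.{u}} {X Y : AlgSp.Space S}
    (hXi : AlgSp.IsIntegralSp X.obj) (hYi : AlgSp.IsIntegralSp Y.obj) (f : X ⟶ Y) (hp : AlgSp.IsProperMor f.hom)
    (hd : AlgSp.IsDominantMor f.hom)
    (x : AlgSp.Points X.obj) (hx : IsGenericPoint x (Set.univ : Set (AlgSp.Points X.obj)))
    (y : AlgSp.Points Y.obj) (hy : IsGenericPoint y (Set.univ : Set (AlgSp.Points Y.obj))) :
    (∃ (V : AlgSp.Space S) (j : V ⟶ Y), AlgSp.RepWith @IsOpenImmersion j.hom ∧ Nonempty (AlgSp.Points V.obj) ∧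
      ∀ (P : AlgSp.Space S) (fst : P ⟶ V) (snd : P ⟶ X), IsPullback fst.hom snd.hom j.hom f.hom →
        AlgSp.IsFiniteMor fst.hom) ↔ (∀ x' : AlgSp.Points X.obj, AlgSp.Points.map f.hom x' = y → x' = x) := by
  have hX := X.property
  have hY := Y.property
  have hxy := K626.IntSp.map_generic hY hYi.2.1 hd hx hy
  constructor
  · rintro ⟨V, j, hj, ⟨v₀⟩, H⟩
    obtain ⟨v, hv⟩ := K626.FinOpen.mem_of_isOpen hy (K626.FinOpen.isOpen_range hj) ⟨_, v₀, rfl⟩
    let P : AlgSp.Space S := ⟨pullback j.hom f.hom,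
      K613.Chart.isAlgSpace_pullback V.property hX hY j.hom f.hom⟩
    let fst : P ⟶ V := ⟨pullback.fst j.hom f.hom⟩
    let snd : P ⟶ X := ⟨pullback.snd j.hom f.hom⟩
    have sq : IsPullback fst.hom snd.hom j.hom f.hom := IsPullback.of_hasPullback _ _
    obtain ⟨V₀, b, U, g, a, hV₀, ⟨w, hw⟩, hb, sqU, hU, hg⟩ :=
      K626.FinOpen.exists_affine_chart hYi.2.1 hj sq (H P fst snd sq) hy ⟨v, hv⟩
    exact (Groth.Agent.S10488.result hXi hYi f hp.2.1.1 hd x hx y hy (Or.inl hp.1)).2
      ⟨V₀, b, U, g, a, hV₀, ⟨w⟩, hb, sqU, hU, hg⟩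
  · intro h
    obtain ⟨V, X', j, fst, snd, hj, ⟨v, hv⟩, sq, hfin⟩ :=
      K626.FinOpen.exists_open_finite hXi hYi f hp.2.1.1 hd hx hy (Or.inr hp.1) h
    exact ⟨V, j, hj, ⟨v⟩, fun P fst' snd' sq' => K626.FinOpen.isFiniteMor_of_isPullback sq sq' hfin⟩

end Groth.Agent.S10500
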