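import Groth.Statements.S10503
import Groth.Agent.AlgSp.K621.QFin
import Groth.Agent.AlgSp.K621.Generic
import Groth.Agent.AlgSp.K621.Charts
import Groth.Agent.AlgSp.K616.DimInv
import Groth.Agent.S1608

set_option autoImplicit false
universe u
open CategoryTheory CategoryTheory.Limits AlgebraicGeometry Topology TopologicalSpace
open AlgSp

namespace Groth.Agent.S10503

/-- Let f : X ⟶ Y be a morphism of algebraic spaces over a scheme S which is locally of finite type,
with Y locally Noetherian, and let y be a point of Y of codimension at most 1. If f is quasi-finite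
at every codimension 0 point of X, then every point of X mapping to y is a point where f is
quasi-finite. -/
theorem result {S : Scheme.{u}} {X Y : AlgSp.Space S} (f : X ⟶ Y)
    (hf : AlgSp.LocP @LocallyOfFiniteType f.hom) (hY : AlgSp.IsLocNoethSp Y.obj) (y : AlgSp.Points Y.obj)
    (hy : AlgSp.HasAt (fun U u => ringKrullDim ↥(U.presheaf.stalk u) ≤ 1) Y.obj y)
    (h : ∀ x : AlgSp.Points X.obj, AlgSp.HasAt (fun U u => ringKrullDim ↥(U.presheaf.stalk u) = 0) X.obj x → AlgSp.HasAtMor (fun U _ h u => ∃ W : U.Opens, u ∈ W ∧ LocallyQuasiFinite (W.ι ≫ h) ∧ LocallyOfFiniteType (W.ι ≫ h)) f.hom x)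
    (x : AlgSp.Points X.obj) (hx : AlgSp.Points.map f.hom x = y) :
    AlgSp.HasAtMor (fun U _ h u => ∃ W : U.Opens, u ∈ W ∧ LocallyQuasiFinite (W.ι ≫ h) ∧ LocallyOfFiniteType (W.ι ≫ h)) f.hom x := by
  have hX := X.property
  obtain ⟨V, b, v, hb, hv⟩ := K616.Inv.exists_chart Y.property y
  obtain ⟨U, a, h', u, ha, w, hu, huv⟩ := K616.Inv.exists_diagram_over hX f.hom b hb x v (by rw [hv, hx])
  have hlft : LocallyOfFiniteType h'.left := hf a b h' ha hb w
  rw [← hu]
  refine (K616.Inv.hasAtMor_iff K621.QFin.etInvOn_qf hf a b h' ha hb w u).2 ?_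
  rw [K621.QFin.qf_iff]
  have hN : IsLocallyNoetherian V.left := K621.Charts.isLocallyNoetherian_chart hY hb
  have hdim : ringKrullDim ↥(V.left.presheaf.stalk v) ≤ 1 := by
    rw [← hv] at hy
    exact (K616.Inv.hasAt_iff (K616.DimInv.etInvAt_stalkDim (fun d => d ≤ 1)) b hb v).1 hy
  refine Groth.Agent.S1608.result h'.left v hdim ?_ u huv
  intro Z hZ η hη
  have h1 : K621.Generic.CodimZero X.obj (Points.ofPt a η) := by
    refine (K621.Generic.codimZero_iff hX ha).2 fun η' hη' => ?_
    exact (hη'.antisymm (K621.Generic.specializes_of_isGenericPoint_component hZ hη hη')).eq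
  have h2 := (K616.Inv.hasAtMor_iff K621.QFin.etInvOn_qf hf a b h' ha hb w η).1 (h _ h1)
  exact (K621.QFin.qf_iff h'.left η).1 h2

end Groth.Agent.S10503
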