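import Groth.Statements.S10507
import Groth.Agent.AlgSp.K597.LocP
import Groth.Agent.AlgSp.K597.EtLoc
import Groth.Agent.AlgSp.K626.Cov

set_option autoImplicit false
universe u
open CategoryTheory CategoryTheory.Limits AlgebraicGeometry
open AlgSp

namespace Groth.Agent.S10507

/-- If `{X_i ⟶ X}` is an fpqc covering of the algebraic space `X` by algebraic spaces and each `X_i` has
an fpqc covering `{X_ij ⟶ X_i}` by algebraic spaces, then the composites `X_ij ⟶ X_i ⟶ X`, indexed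
by the pairs `(i, j)`, form an fpqc covering of `X`. -/
theorem result {S : Scheme.{u}} (X : AlgSp.Space S) {ι : Type u}
    (Xi : ι → AlgSp.Space S) (g : ∀ i, Xi i ⟶ X) (κ : ι → Type u) (Xij : ∀ i, κ i → AlgSp.Space S)
    (gij : ∀ i j, Xij i j ⟶ Xi i)
    (h : AlgSp.IsFpqcCover (fun i => (Xi i).obj) (fun i => (g i).hom))
    (hij : ∀ i, AlgSp.IsFpqcCover (fun j => (Xij i j).obj) (fun j => (gij i j).hom)) :
    AlgSp.IsFpqcCover (fun r : Σ i, κ i => (Xij r.1 r.2).obj) (fun r => (gij r.1 r.2 ≫ g r.1).hom) := by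
  refine ⟨fun r => K597.locP_comp K597.etLoc_flat (Xij r.1 r.2).property.hasAtlas (Xi r.1).property.hasAtlas
    X.property.hasAtlas ((hij r.1).1 r.2) (h.1 r.1), fun Z hZ t => ?_⟩
  have h0 : K626.Cov.Std Z (fun W c => ∃ (i : ι) (l : (yon S).obj W ⟶ (Xi i).obj),
    l ≫ (g i).hom = (yon S).map c ≫ t) := h.2 Z hZ t
  refine K626.Cov.Std.bind (Q' := fun W c => ∃ (r : Σ i, κ i) (l : (yon S).obj W ⟶ (Xij r.1 r.2).obj),
    l ≫ (gij r.1 r.2 ≫ g r.1).hom = (yon S).map c ≫ t) h0 fun W c hW hc => ?_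
  obtain ⟨i, l, hl⟩ := hc
  have h1 : K626.Cov.Std W (fun V d => ∃ (j : κ i) (k : (yon S).obj V ⟶ (Xij i j).obj),
    k ≫ (gij i j).hom = (yon S).map d ≫ l) := (hij i).2 W hW l
  refine h1.mono fun V d hd => ?_
  obtain ⟨j, k, hk⟩ := hd
  refine ⟨⟨i, j⟩, k, ?_⟩
  change k ≫ (gij i j).hom ≫ (g i).hom = _
  rw [← Category.assoc, hk, Category.assoc, hl, Functor.map_comp, Category.assoc]

end Groth.Agent.S10507
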