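import Groth.Statements.S10508
import Groth.Agent.AlgSp.K597.LocP
import Groth.Agent.AlgSp.K597.EtLoc
import Groth.Agent.AlgSp.K626.Cov

set_option autoImplicit false
universe u
open CategoryTheory CategoryTheory.Limits AlgebraicGeometry
open AlgSp

namespace Groth.Agent.S10508

/-- Let `X` be an algebraic space over `S`, `{X_i ⟶ X}` a family of morphisms of algebraic spaces and
`h_U ⟶ X` a representable etale, representable surjective map from a scheme `U` over `S`, with
pullback squares of sheaves exhibiting algebraic spaces `U_i` as `U ×_X X_i`. Then `{X_i ⟶ X}` is an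
fpqc covering of `X` if and only if `{U_i ⟶ h_U}` is an fpqc covering of `h_U`. -/
theorem result {S : Scheme.{u}} (X : AlgSp.Space S) {ι : Type u}
    (Xi : ι → AlgSp.Space S) (g : ∀ i, Xi i ⟶ X) {U : Over S} (p : (AlgSp.yon S).obj U ⟶ X.obj)
    (hp : AlgSp.RepWith @Etale p) (hps : AlgSp.RepWith @Surjective p)
    (Ui : ι → AlgSp.Space S) (q : ∀ i, (Ui i).obj ⟶ (AlgSp.yon S).obj U) (p' : ∀ i, Ui i ⟶ Xi i)
    (sq : ∀ i, IsPullback (q i) (p' i).hom p (g i).hom) :
    AlgSp.IsFpqcCover (fun i => (Xi i).obj) (fun i => (g i).hom) ↔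
      AlgSp.IsFpqcCover (fun i => (Ui i).obj) q := by
  constructor
  · intro h
    refine ⟨fun i => K597.locP_bc K597.etLoc_flat (sq i).flip (Xi i).property.hasAtlas X.property.hasAtlas
      (IsAlgSpace.yon_obj U).hasAtlas (h.1 i), fun Z hZ t => ?_⟩
    obtain ⟨m, W, c, h1, h2, h3, h4⟩ := h.2 Z hZ (t ≫ p)
    refine ⟨m, W, c, h1, h2, h3, fun j => ?_⟩
    obtain ⟨i, l, hl⟩ := h4 j
    exact ⟨i, (sq i).lift ((yon S).map (c j) ≫ t) l (by rw [Category.assoc]; exact hl.symm), (sq i).lift_fst _ _ _⟩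
  · intro h
    refine ⟨fun i => K597.locP_of_target K597.etLoc_flat (sq i).flip (Xi i).property.hasAtlas
      (IsAlgSpace.yon_obj U).hasAtlas hp hps (h.1 i), fun Z hZ t => ?_⟩
    obtain ⟨V, a, b, hab, hb⟩ := K629.Basic.exists_pb_yon hp t
    have hbs : Surjective b.left := hps.2 t _ _ hab
    have : CompactSpace Z.left := inferInstance
    have h1 : K626.Cov.Std Z (fun W c => ∃ l : W ⟶ V, c = l ≫ b) :=
      K626.Cov.Std.of_open_family (ι := PUnit.{1}) (fun _ => V) (fun _ => b) (fun _ => inferInstance)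
        (fun _ => b.left.isOpenMap) (fun z => ⟨PUnit.unit, hbs.surj z⟩) (fun _ W d => ⟨d, rfl⟩)
    refine K626.Cov.Std.bind (Q' := fun W c => ∃ (i : ι) (l : (yon S).obj W ⟶ (Xi i).obj),
      l ≫ (g i).hom = (yon S).map c ≫ t) h1 fun W c hW hc => ?_
    obtain ⟨l, rfl⟩ := hc
    have h2 : K626.Cov.Std W (fun W' d => ∃ (i : ι) (k : (yon S).obj W' ⟶ (Ui i).obj),
      k ≫ q i = (yon S).map d ≫ (yon S).map (l ≫ a)) := h.2 W hW ((yon S).map (l ≫ a))
    refine h2.mono fun W' d hd => ?_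
    obtain ⟨i, k, hk⟩ := hd
    refine ⟨i, k ≫ (p' i).hom, ?_⟩
    rw [Category.assoc, ← (sq i).w, ← Category.assoc, hk]
    simp only [Functor.map_comp, Category.assoc]
    rw [hab.w]

end Groth.Agent.S10508
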