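import Groth.Statements.S10509
import Groth.Agent.AlgSp.K629.Cover
import Groth.Agent.S0412
import Groth.Prelude.Def_AlgSpEt

set_option autoImplicit false
universe u
open CategoryTheory CategoryTheory.Limits AlgebraicGeometry
open AlgSp

namespace Groth.Agent.S10509

/-- A smooth covering of an algebraic space `X` over `S` by algebraic spaces can be refined by an etale
covering of `X` by algebraic spaces: there is an etale covering `{U_j ⟶ X}` each member of which
factors through some member of the given smooth covering. -/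
theorem result {S : Scheme.{u}} (X : AlgSp.Space S) {ι : Type u}
    (Xi : ι → AlgSp.Space S) (g : ∀ i, Xi i ⟶ X)
    (h : AlgSp.IsSmCover (fun i => (Xi i).obj) (fun i => (g i).hom)) :
    ∃ (κ : Type u) (U : κ → AlgSp.Space S) (c : ∀ j, U j ⟶ X),
      AlgSp.IsEtCover (fun j => (U j).obj) (fun j => (c j).hom) ∧
      ∀ j, ∃ (i : ι) (r : U j ⟶ Xi i), r ≫ g i = c j := by
  obtain ⟨U, a, ha, has⟩ := X.property.atlas
  obtain ⟨T, c, l, h1, h2, h3⟩ := K629.Cover.exists_charts (fun i => (Xi i).obj) (fun i => (g i).hom)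
    (fun i => (Xi i).property) h.2 a ha
  choose i hi using h3
  have hsm : ∀ u, Smooth (c (i u)).left := fun u => h.1 (i u) (l (i u)) a (c (i u)) (h1 (i u)) ha (h2 (i u))
  choose V e v he hv s hs using fun u => @Groth.Agent.S0412.result _ _ (c (i u)).left (hsm u) u (hi u)
  let V' : U.left → Over S := fun u => Over.mk (e u ≫ U.hom)
  let e' : ∀ u, V' u ⟶ U := fun u => Over.homMk (e u) rfl
  let s' : ∀ u, V' u ⟶ T (i u) := fun u => Over.homMk (s u) (by
    change s u ≫ (T (i u)).hom = e u ≫ U.hom
    rw [← hs u, Category.assoc, Over.w])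
  have hs' : ∀ u, s' u ≫ c (i u) = e' u := fun u => Over.OverMorphism.ext (by
    rw [Over.comp_left]
    exact hs u)
  have het : ∀ u, RepWith @Etale ((yon S).map (e' u) ≫ a) := fun u =>
    K629.Basic.repWith_etale_yon_comp (f := e' u) (he u) ha
  refine ⟨U.left, fun u => (ofScheme S).obj (V' u), fun u => ⟨(yon S).map (e' u) ≫ a⟩, ⟨fun u => ?_, fun x => ?_⟩,
    fun u => ⟨i u, ⟨(yon S).map (s' u) ≫ l (i u)⟩, ?_⟩⟩
  · change IsEtaleMor ((yon S).map (e' u) ≫ a)
    exact isEtaleMor_of_repWith _ (het u)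
  · obtain ⟨u, rfl⟩ := K629.Basic.ofPt_surjective has x
    refine ⟨u, Points.ofScheme (V' u) (v u), ?_⟩
    change Points.map ((yon S).map (e' u) ≫ a) (Points.ofPt (𝟙 ((yon S).obj (V' u))) (v u)) = Points.ofPt a u
    rw [Points.map_ofPt, Category.id_comp, K629.Basic.ofPt_comp]
    congr 1
    exact hv u
  · apply ObjectProperty.hom_ext
    change ((yon S).map (s' u) ≫ l (i u)) ≫ (g (i u)).hom = (yon S).map (e' u) ≫ a
    rw [Category.assoc, h2, ← Category.assoc, ← Functor.map_comp, hs']

end Groth.Agent.S10509
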