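import Groth.Statements.S10510
import Groth.Agent.AlgSp.K626.Cov
import Groth.Agent.AlgSp.K613.Basic

set_option autoImplicit false
universe u
open CategoryTheory CategoryTheory.Limits AlgebraicGeometry
open AlgSp

namespace Groth.Agent.S10510

/-- An fppf covering `{X_i ⟶ X}` of an algebraic space `X` over `S` by algebraic spaces is jointly
surjective as a family of maps of fppf sheaves: every `h_T ⟶ X` from a scheme `T` over `S` lifts,
locally for the fppf topology on `T`, through members of the family. -/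
theorem result {S : Scheme.{u}} (X : AlgSp.Space S) {ι : Type u}
    (Xi : ι → AlgSp.Space S) (g : ∀ i, Xi i ⟶ X)
    (h : AlgSp.IsFppfCover (fun i => (Xi i).obj) (fun i => (g i).hom))
    (T : Over S) (t : (AlgSp.yon S).obj T ⟶ X.obj) :
    ∃ (κ : Type u) (Tk : κ → Over S) (c : ∀ k, Tk k ⟶ T),
      Sieve.ofArrows Tk c ∈ AlgSp.J S T ∧
      ∀ k, ∃ (i : ι) (l : (AlgSp.yon S).obj (Tk k) ⟶ (Xi i).obj), l ≫ (g i).hom = (AlgSp.yon S).map (c k) ≫ t := by
  have hR : ∀ i, LocP (@Flat ⊓ @LocallyOfFinitePresentation) (g i).hom := fun i U V a b k ha hb w =>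
    ⟨(h.1 i).1 a b k ha hb w, (h.1 i).2 a b k ha hb w⟩
  have : (@Flat ⊓ @LocallyOfFinitePresentation : MorphismProperty Scheme.{u}).IsStableUnderBaseChange := {
    of_isPullback := fun sq hh => ⟨MorphismProperty.of_isPullback (P := @Flat) sq hh.1,
      MorphismProperty.of_isPullback (P := @LocallyOfFinitePresentation) sq hh.2⟩ }
  obtain ⟨T', c, l, h1, h2, h3⟩ := K626.Cov.exists_local_lift (@Flat ⊓ @LocallyOfFinitePresentation)
    (fun A B C e f he hf => by
      have := he.1
      have := he.2
      have := hf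
      exact ⟨inferInstanceAs (Flat (e ≫ f)), inferInstanceAs (LocallyOfFinitePresentation (e ≫ f))⟩)
    (fun i => (Xi i).obj) (fun i => (g i).hom) X.property (fun i => (Xi i).property) h.2 hR T t
  exact ⟨ι, T', c, K613.Basic.mem_J T' c (fun i => (h1 i).1) (fun i => (h1 i).2) (fun v => h3 v),
    fun i => ⟨i, l i, h2 i⟩⟩

end Groth.Agent.S10510
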