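import Groth.Statements.S10511
import Groth.Agent.AlgSp.K626.Cech

set_option autoImplicit false
universe u
open CategoryTheory CategoryTheory.Limits AlgebraicGeometry
open AlgSp

namespace Groth.Agent.S10511

/-- Let `X` be an algebraic space over `S` and `P` a property of sheaves over `X` such that, for every
algebraic space `U` over `X` and every fppf covering `{U_i ⟶ U}` by algebraic spaces, `P` holds for
`U` as soon as it holds for all the iterated fibre products `U_{i_0} ×_U ⋯ ×_U U_{i_n}` (`n ≥ 0`,
taken in fppf sheaves) over `X`. If `P` holds for every sheaf over `X` that is isomorphic to an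
affine scheme and flat and locally of finite presentation over `X`, then `P` holds for `X`. -/
theorem result {S : Scheme.{u}} (X : AlgSp.Space S)
    (P : ∀ ⦃U : AlgSp.Sp S⦄, (U ⟶ X.obj) → Prop)
    (hP : ∀ ⦃U : AlgSp.Sp S⦄ (a : U ⟶ X.obj), AlgSp.IsAlgSpace U →
      ∀ ⦃ι : Type u⦄ (Ui : ι → AlgSp.Sp S) (g : ∀ i, Ui i ⟶ U), (∀ i, AlgSp.IsAlgSpace (Ui i)) →
      AlgSp.IsFppfCover Ui g →
      (∀ (n : ℕ) (c : Fin (n + 1) → ι),
        P (WidePullback.base (fun k : Fin (n + 1) => g (c k)) ≫ a)) → P a)
    (haff : ∀ ⦃U : AlgSp.Sp S⦄ (a : U ⟶ X.obj) (T : Over S) (e : U ≅ (AlgSp.yon S).obj T), IsAffine T.left →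
      AlgSp.LocP @Flat a → AlgSp.LocP @LocallyOfFinitePresentation a → P a) :
    P (𝟙 X.obj) := by
  -- morphisms used at the three stages
  let R2 : MorphismProperty Scheme.{u} := @IsOpenImmersion ⊓ @IsAffineHom
  have hR2b : R2.IsStableUnderBaseChange := {
    of_isPullback := fun sq hh => ⟨MorphismProperty.of_isPullback (P := @IsOpenImmersion) sq hh.1,
      MorphismProperty.of_isPullback (P := @IsAffineHom) sq hh.2⟩ }
  have hR2m : R2.IsMultiplicative := {
    id_mem := fun A => ⟨inferInstance, inferInstance⟩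
    comp_mem := fun f g hf hg => by
      have := hf.1
      have := hf.2
      have := hg.1
      have := hg.2
      exact ⟨inferInstanceAs (IsOpenImmersion (f ≫ g)), inferInstanceAs (IsAffineHom (f ≫ g))⟩ }
  -- separated schemes
  have hsep : ∀ ⦃U : AlgSp.Sp S⦄ (a : U ⟶ X.obj) (T : Over S) (e : U ≅ (AlgSp.yon S).obj T), T.left.IsSeparated →
      AlgSp.LocP @Flat a → AlgSp.LocP @LocallyOfFinitePresentation a → P a := by
    intro U a T e hT ha ha'
    obtain ⟨V, g, hV, hg, hs⟩ := K626.Cech.exists_affine_family e R2 (fun V => by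
      have : IsAffine (V.1 : Scheme.{u}) := V.2
      have : IsAffineHom V.1.ι := by
        have h1 : IsAffineHom (V.1.ι ≫ terminal.from T.left) := by
          exact isAffineHom_of_isAffine _
        exact IsAffineHom.of_comp V.1.ι (terminal.from T.left)
      exact ⟨inferInstance, this⟩)
    refine K626.Cech.step R2 (fun A B f hf => by have := hf.1; infer_instance) X.property P hP
      (fun T => IsAffine T.left) haff (K626.Cech.isAlgSpace_of_iso e) a ha ha' V g hg hs fun i T' t ht => ?_
    have := ht.2
    have := hV i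
    exact isAffine_of_isAffineHom t.left
  -- all schemes
  have hsch : ∀ ⦃U : AlgSp.Sp S⦄ (a : U ⟶ X.obj) (T : Over S) (e : U ≅ (AlgSp.yon S).obj T), True →
      AlgSp.LocP @Flat a → AlgSp.LocP @LocallyOfFinitePresentation a → P a := by
    intro U a T e _ ha ha'
    obtain ⟨V, g, hV, hg, hs⟩ := K626.Cech.exists_affine_family e @IsOpenImmersion (fun V => inferInstance)
    refine K626.Cech.step @IsOpenImmersion (fun A B f hf => by have := hf; infer_instance) X.property P hP
      (fun T => T.left.IsSeparated) hsep (K626.Cech.isAlgSpace_of_iso e) a ha ha' V g hg hs fun i T' t ht => ?_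
    have := hV i
    have h1 : IsOpenImmersion t.left := ht
    have h2 : IsSeparated (t.left ≫ terminal.from (V i).left) := inferInstance
    exact ⟨by rwa [terminal.comp_from] at h2⟩
  obtain ⟨U, p, hp, hps⟩ := X.property.atlas
  have hid : ∀ (Q : MorphismProperty Scheme.{u}) (_ : K597.EtLoc Q) (_ : ∀ A : Scheme.{u}, Q (𝟙 A)),
      AlgSp.LocP Q (𝟙 X.obj) := fun Q hQ hQ1 =>
    K597.locP_of_chart hQ (𝟙 X.obj) p p (𝟙 U) hp hps hp (by simp) (hQ1 _)
  have hpt := K629.Basic.map_surjective hps
  exact K626.Cech.step @Etale (fun A B f hf => hf) X.property P hP (fun _ => True) hsch X.property (𝟙 X.obj)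
    (hid _ K597.etLoc_flat fun A => inferInstance) (hid _ K597.etLoc_lfp fun A => inferInstance)
    (ι := PUnit.{u + 1}) (fun _ => U) (fun _ => p) (fun _ => hp) (fun x => ⟨PUnit.unit, hpt x⟩)
    (fun _ _ _ _ => trivial)

end Groth.Agent.S10511
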