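import Groth.Statements.S10553
import Groth.Agent.AlgSp.K629.Cover
import Groth.Agent.AlgSp.K629.EtLocInst

set_option autoImplicit false
universe u
open CategoryTheory CategoryTheory.Limits AlgebraicGeometry
open AlgSp

namespace Groth.Agent.S10553

/-- The property of morphisms of algebraic spaces over S given by f is smooth (on etale charts) is
smooth local on the source: for a morphism f : X ⟶ Y of algebraic spaces and a smooth covering of X
by algebraic spaces X_i, f has the property if and only if every composite X_i ⟶ X ⟶ Y has it. -/
theorem result (S : Scheme.{u}) :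
    AlgSp.IsLocalOnSource (AlgSp.IsSmCover (S := S)) (AlgSp.LocP @Smooth) := by
  refine K629.Cover.isLocalOnSource _ @Smooth (fun Xi g hX hXi hg => ⟨hg.1, hg.2⟩) ?_
    (fun f g hf hg => MorphismProperty.comp_mem _ _ _ hf hg) K629.EtLocInst.smooth K629.EtLocInst.smooth
  intro ι Y Z X f g h1 h2 h3
  exact K629.SchDesc.family (R := @Smooth) (P := @Smooth)
    (fun f g hf hs h => K629.SchDesc.smooth f g inferInstance inferInstance hs h) X f g h1 h2 h3


end Groth.Agent.S10553
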