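import Groth.Statements.S10555
import Groth.Agent.AlgSp.K629.Cover
import Groth.Agent.AlgSp.K629.EtLocInst

set_option autoImplicit false
universe u
open CategoryTheory CategoryTheory.Limits AlgebraicGeometry
open AlgSp

namespace Groth.Agent.S10555

/-- The property of morphisms of algebraic spaces over S given by f is locally quasi-finite (locally
quasi-finite and locally of finite type on etale charts) is etale local on the source: for a
morphism f : X ⟶ Y of algebraic spaces and a etale covering of X by algebraic spaces X_i, f has the
property if and only if every composite X_i ⟶ X ⟶ Y has it. -/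
theorem result (S : Scheme.{u}) :
    AlgSp.IsLocalOnSource (AlgSp.IsEtCover (S := S)) (AlgSp.LocP (@LocallyQuasiFinite ⊓ @LocallyOfFiniteType)) := by
  refine K629.Cover.isLocalOnSource _ @Etale
    (fun Xi g hX hXi hg => ⟨fun i => K629.LocP.locP_etale_of_isEtaleMor (hg.1 i), hg.2⟩) ?_
    (fun f g hf hg => ?_) K629.EtLocInst.etale K629.EtLocInst.lqf
  · intro ι Y Z X f g h1 h2 h3
    exact K629.SchDesc.family (R := @Etale) (P := (@LocallyQuasiFinite ⊓ @LocallyOfFiniteType))
      (fun f g hf hs h => K629.SchDesc.lqf f g hf hs h) X f g h1 h2 h3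
  · exact MorphismProperty.comp_mem (@LocallyQuasiFinite ⊓ @LocallyOfFiniteType) _ _ ⟨K629.EtLocInst.locallyQuasiFinite_of_etale f hf, inferInstance⟩ hg


end Groth.Agent.S10555
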