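import Groth.Statements.S10556
import Groth.Agent.AlgSp.K629.Cover
import Groth.Agent.AlgSp.K629.EtLocInst

set_option autoImplicit false
universe u
open CategoryTheory CategoryTheory.Limits AlgebraicGeometry
open AlgSp

namespace Groth.Agent.S10556

/-- The property of morphisms of algebraic spaces over S given by f is unramified (locally of finite
type and formally unramified on etale charts) is etale local on the source: for a morphism f : X ⟶ Y
of algebraic spaces and a etale covering of X by algebraic spaces X_i, f has the property if and
only if every composite X_i ⟶ X ⟶ Y has it. -/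
theorem result (S : Scheme.{u}) :
    AlgSp.IsLocalOnSource (AlgSp.IsEtCover (S := S)) (AlgSp.LocP (@LocallyOfFiniteType ⊓ @FormallyUnramified)) := by
  refine K629.Cover.isLocalOnSource _ @Etale
    (fun Xi g hX hXi hg => ⟨fun i => K629.LocP.locP_etale_of_isEtaleMor (hg.1 i), hg.2⟩) ?_
    (fun f g hf hg => ?_) K629.EtLocInst.etale K629.EtLocInst.unramified
  · intro ι Y Z X f g h1 h2 h3
    exact K629.SchDesc.family (R := @Etale) (P := (@LocallyOfFiniteType ⊓ @FormallyUnramified))
      (fun f g hf hs h => K629.SchDesc.unramified f g hf hs h) X f g h1 h2 h3
  · exact MorphismProperty.comp_mem (@LocallyOfFiniteType ⊓ @FormallyUnramified) _ _ ⟨inferInstance, inferInstance⟩ hg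


end Groth.Agent.S10556
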