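import Groth.Statements.S10559
import Groth.Agent.AlgSp.K629.Cover
import Groth.Agent.AlgSp.K629.EtLocInst

set_option autoImplicit false
universe u
open CategoryTheory CategoryTheory.Limits AlgebraicGeometry
open AlgSp

namespace Groth.Agent.S10559

/-- Let f : X ⟶ Y and q : Y ⟶ B be morphisms of algebraic spaces over S. If f is surjective and smooth
and f ≫ q is smooth, then q is smooth; if f is surjective and etale and f ≫ q is etale, then q is
etale. (The syntomic case of the published statement is not included.) -/
theorem result {S : Scheme.{u}} {X Y B : AlgSp.Space S} (f : X ⟶ Y) (q : Y ⟶ B)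
    (hs : AlgSp.IsSurjectiveMor f.hom) :
    (AlgSp.LocP @Smooth f.hom → AlgSp.LocP @Smooth (f ≫ q).hom → AlgSp.LocP @Smooth q.hom) ∧
    (AlgSp.IsEtaleMor f.hom → AlgSp.IsEtaleMor (f ≫ q).hom → AlgSp.IsEtaleMor q.hom) := by
  constructor
  · intro h1 h2
    refine K629.Cover.locP_of_surjective X.property f.hom hs q.hom @Smooth h1 ?_ h2
    intro X Y Z f g h1 h2 h3
    exact K629.SchDesc.smooth f g inferInstance inferInstance h2 h3
  · intro h1 h2
    refine K629.LocP.isEtaleMor_of_locP B.property
      (K629.Cover.locP_of_surjective X.property f.hom hs q.hom @Etale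
      (K629.LocP.locP_etale_of_isEtaleMor h1) ?_ (K629.LocP.locP_etale_of_isEtaleMor h2))
      K629.EtLocInst.etale
    intro X Y Z f g h1 h2 h3
    exact K629.SchDesc.etale f g inferInstance inferInstance h2 h3


end Groth.Agent.S10559
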