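import Groth.Statements.S10563
import Groth.Agent.AlgSp.K629.EtLocally
import Groth.Agent.S0116
import Groth.Agent.S0065
import Groth.Agent.S0565

set_option autoImplicit false
universe u
open CategoryTheory CategoryTheory.Limits AlgebraicGeometry
open AlgSp

namespace Groth.Agent.S10563

/-- Let f : X ⟶ Y be a morphism of algebraic spaces over S which is locally of finite presentation, flat
and surjective. If X is regular (etale locally a locally Noetherian scheme all of whose local rings
are regular local rings) then Y is regular. -/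
theorem result {S : Scheme.{u}} {X Y : AlgSp.Space S} (f : X ⟶ Y)
    (hfp : AlgSp.LocP @LocallyOfFinitePresentation f.hom) (hfl : AlgSp.LocP @Flat f.hom)
    (hs : AlgSp.IsSurjectiveMor f.hom)
    (hX : AlgSp.EtaleLocally (fun U => IsLocallyNoetherian U ∧ ∀ u : ↥U, IsRegularLocalRing ↥(U.presheaf.stalk u)) X.obj) :
    AlgSp.EtaleLocally (fun U => IsLocallyNoetherian U ∧ ∀ u : ↥U, IsRegularLocalRing ↥(U.presheaf.stalk u)) Y.obj := by
  refine K629.EtLocally.of_surjective (R := @Flat ⊓ @LocallyOfFinitePresentation) Y.property f.hom hs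
    (fun _ _ a b h ha hb hab => ⟨hfl a b h ha hb hab, hfp a b h ha hb hab⟩) hX ?_ ?_
  · rintro T U g hg ⟨hU, hU'⟩
    have : IsLocallyNoetherian T := LocallyOfFiniteType.isLocallyNoetherian g
    exact ⟨this, fun t => (Groth.Agent.S0065.result g t).2 (hU' _)⟩
  · rintro T U g hg hg' ⟨hT, hT'⟩
    have := hg.1
    have := hg.2
    have hU : IsLocallyNoetherian U := Groth.Agent.S0116.result g
    refine ⟨hU, fun y => ?_⟩
    obtain ⟨t, rfl⟩ := g.surjective y
    have h1 : (g.stalkMap t).hom.Flat := Flat.stalkMap g t
    have h2 : IsLocalHom (g.stalkMap t).hom := inferInstance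
    algebraize [(g.stalkMap t).hom]
    have h3 : IsLocalHom (algebraMap (U.presheaf.stalk (g t)) (T.presheaf.stalk t)) := h2
    have := hT' t
    exact Groth.Agent.S0565.result (U.presheaf.stalk (g t)) (T.presheaf.stalk t)


end Groth.Agent.S10563
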