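import Groth.Statements.S10573
import Groth.Agent.AlgSp.K630.FpqcOpen

set_option autoImplicit false
universe u
open CategoryTheory CategoryTheory.Limits AlgebraicGeometry
open AlgSp

namespace Groth.Agent.S10573

/-- Let {g_i : T_i ⟶ T} be a family of algebraic spaces over S forming an fpqc covering, and let W_i ⊂
|T_i| be open subsets (open subspaces) such that for all i, j the two projections T_i ×_T T_j ⟶ T_i,
T_j pull W_i and W_j back to the same subset of |T_i ×_T T_j|. Then there is a unique open subset W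
⊂ |T| with g_i⁻¹(W) = W_i for every i. -/
theorem result {S : Scheme.{u}} {ι : Type u} {T : AlgSp.Space S}
    (Ti : ι → AlgSp.Space S) (g : ∀ i, Ti i ⟶ T)
    (hg : AlgSp.IsFpqcCover (fun i => (Ti i).obj) (fun i => (g i).hom))
    (Wi : ∀ i, Set (AlgSp.Points (Ti i).obj)) (hW : ∀ i, IsOpen (Wi i))
    (hc : ∀ i j, AlgSp.Points.map (pullback.fst (g i).hom (g j).hom) ⁻¹' Wi i =
      AlgSp.Points.map (pullback.snd (g i).hom (g j).hom) ⁻¹' Wi j) :
    ∃! W : TopologicalSpace.Opens (AlgSp.Points T.obj), ∀ i, AlgSp.Points.map (g i).hom ⁻¹' (W : Set (AlgSp.Points T.obj)) = Wi i := by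
  have hsurj := K630.fpqc_jointly_surjective (fun i => (Ti i).obj) (fun i => (g i).hom) hg
  let W : Set (AlgSp.Points T.obj) := {x | ∃ i, ∃ y ∈ Wi i, AlgSp.Points.map (g i).hom y = x}
  have hpre : ∀ i, AlgSp.Points.map (g i).hom ⁻¹' W = Wi i := by
    intro i
    ext y
    constructor
    · rintro ⟨j, y', hy', e⟩
      obtain ⟨p, hp1, hp2⟩ := K630.points_exists_lift (IsPullback.of_hasPullback (g i).hom (g j).hom) y y' e.symm
      have hp : p ∈ AlgSp.Points.map (pullback.snd (g i).hom (g j).hom) ⁻¹' Wi j := by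
        change AlgSp.Points.map _ p ∈ Wi j
        rw [hp2]
        exact hy'
      rw [← hc i j] at hp
      change AlgSp.Points.map _ p ∈ Wi i at hp
      rwa [hp1] at hp
    · intro hy
      exact ⟨i, y, hy, rfl⟩
  have hop : IsOpen W := K630.isOpen_of_fpqc (fun i => (Ti i).obj) (fun i => (g i).hom) hg W
    fun i => by
      have := hW i
      rwa [← hpre i] at this
  refine ⟨⟨W, hop⟩, hpre, fun W' hW' => ?_⟩
  ext x
  obtain ⟨i, y, rfl⟩ := hsurj x
  have h1 : y ∈ AlgSp.Points.map (g i).hom ⁻¹' (W' : Set (AlgSp.Points T.obj)) ↔ y ∈ Wi i := by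
    rw [hW' i]
  have h2 : y ∈ AlgSp.Points.map (g i).hom ⁻¹' W ↔ y ∈ Wi i := by rw [hpre i]
  exact h1.trans h2.symm

end Groth.Agent.S10573
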