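import Groth.Statements.S10578
import Groth.Agent.AlgSp.K617.PushFin
import Groth.Agent.AlgSp.K597.EtLoc
import Groth.Agent.AlgSp.K597.LocP

set_option autoImplicit false
universe u
open CategoryTheory CategoryTheory.Limits AlgebraicGeometry
open AlgSp

namespace Groth.Agent.S10578

/-- Let f : X ⟶ Y be a morphism of algebraic spaces over S which is finite and of finite presentation,
and F a quasi-coherent O_X-module (on the small etale site). Then F is of finite presentation
exactly when its direct image f_*F is of finite presentation as an O_Y-module. (Representability of
f, implied by finiteness, is carried as an explicit hypothesis because the direct image functor is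
defined for representable morphisms.) -/
theorem result {S : Scheme.{u}} {X Y : AlgSp.Space S} (f : X ⟶ Y)
    (hrep : AlgSp.Representable f.hom) (hfin : AlgSp.IsFiniteMor f.hom) (hfp : AlgSp.IsFinitePresentationMor f.hom)
    (F : AlgSp.ModEt X.obj) [F.IsQuasicoherent] :
    F.IsFinitePresentation ↔ ((AlgSp.pushModEt hrep).obj F).IsFinitePresentation := by
    constructor
    · intro h
      refine K617.PushFin.isFinitePresentation_push hrep hfin (fun E hE => ?_) F
      have hZ : IsAffine (EtOver.bcObj hrep E).obj.left.left :=
        K648.Push.isAffine_bc hrep (K648.Push.isAffineMor_of_isFiniteMor hfin) E hE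
      have hE' : IsAffine E.obj.left.left := hE
      have h1 : RepWith @LocallyOfFinitePresentation f.hom :=
        K597.repWith_of_locP K597.etLoc_lfp Y.property.hasAtlas hrep hfp.1
      have h2 : LocallyOfFinitePresentation (EtOver.bcπ hrep E).left :=
        h1.2 _ _ _ (EtOver.isPullback_bcObj hrep E)
      exact (HasRingHomProperty.iff_of_isAffine (P := @LocallyOfFinitePresentation)).1 h2
    · intro h
      exact K617.PushFin.isFinitePresentation_of_push Y.property hrep hfin F h

end Groth.Agent.S10578
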