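import Groth.Statements.S10579
import Groth.Agent.AlgSp.K631.GeomUni
import Groth.Agent.AlgSp.K631.Base
import Groth.Agent.AlgSp.K613.Chart
-- import your own Groth.Agent.* helpers here

set_option autoImplicit false
universe u
open CategoryTheory CategoryTheory.Limits AlgebraicGeometry
open AlgSp

namespace Groth.Agent.S10579

/-- Let f : X ⟶ Y be a morphism of algebraic spaces over S and x ∈ |X|. If X is geometrically unibranch
at x and f is flat at x, then Y is geometrically unibranch at the image point f(x). Here an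
algebraic space is geometrically unibranch at a point when for every etale chart from a scheme U and
every point u of U over it the local ring of U at u is geometrically unibranch. -/
theorem result {S : Scheme.{u}} {X Y : AlgSp.Space S} (f : X ⟶ Y) (x : AlgSp.Points X.obj)
    (hf : AlgSp.IsFlatAtMor f.hom x)
    (hX : ∀ (U : Over S) (a : (AlgSp.yon S).obj U ⟶ X.obj) (v : ↥U.left), AlgSp.RepWith @Etale a →
      AlgSp.Points.ofPt a v = x → CAlg2.IsGeomUnibranch ↥(U.left.presheaf.stalk v))
    (V : Over S) (b : (AlgSp.yon S).obj V ⟶ Y.obj) (w : ↥V.left) (hb : AlgSp.RepWith @Etale b)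
    (hw : AlgSp.Points.ofPt b w = AlgSp.Points.map f.hom x) :
    CAlg2.IsGeomUnibranch ↥(V.left.presheaf.stalk w) := by
  obtain ⟨U₀, a₀, h₀⟩ := K613.Chart.exists_ch X.property
  obtain ⟨u₀, hu₀⟩ := K631.Base.ofPt_surjective_of_repWith h₀.surj x
  obtain ⟨W, c, α, sq⟩ := K613.Chart.exists_refine Y.property.diag f.hom a₀ b
  obtain ⟨w', h1, h2⟩ := K631.Base.exists_of_isPullback_rep sq (AlgSp.Points.ofScheme U₀ u₀) w (by
    rw [AlgSp.Points.map_ofPt, Category.id_comp, ← AlgSp.Points.map_ofPt, hu₀, hw])
  subst h2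
  have ha : AlgSp.RepWith @Etale ((AlgSp.yon S).map c ≫ a₀) :=
    MorphismProperty.comp_mem _ _ _ ((AlgSp.repWith_yon_map_iff _ _).2 (K613.Chart.prop_of_isPullback sq hb)) h₀.et
  have hx : AlgSp.Points.ofPt ((AlgSp.yon S).map c ≫ a₀) w' = x := by
    rw [← AlgSp.Points.map_ofPt, h1, ← AlgSp.Points.ofPt_eq_map_ofScheme, hu₀]
  have hB := hX W _ w' ha hx
  have hfl := hf _ b α w' ha hb (by rw [Category.assoc]; exact sq.w) hx
  let _ := (Scheme.Hom.stalkMap α.left w').hom.toAlgebra
  have : Module.Flat (V.left.presheaf.stalk (α.left w')) (W.left.presheaf.stalk w') := hfl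
  have : IsLocalHom (algebraMap (V.left.presheaf.stalk (α.left w')) (W.left.presheaf.stalk w')) :=
    inferInstanceAs (IsLocalHom (Scheme.Hom.stalkMap α.left w').hom)
  exact K631.GeomUni.isGeomUnibranch_of_flat hB

end Groth.Agent.S10579
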