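import Groth.Statements.S10583
import Groth.Agent.AlgSp.K631.ThickOpen
-- import your own Groth.Agent.* helpers here

set_option autoImplicit false
universe u
open CategoryTheory CategoryTheory.Limits AlgebraicGeometry
open AlgSp

namespace Groth.Agent.S10583

/-- Let i : X ⟶ X' be a thickening of algebraic spaces (representable, every base change to a scheme a
surjective closed immersion) and let u : U ⟶ X be an open immersion. Then there is an open immersion
u' : U' ⟶ X' with U = X ×_{X'} U' (a pullback square), and any two open subspaces of X' with this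
property are isomorphic over X'. -/
theorem result {S : Scheme.{u}} {X X' U : AlgSp.Space S} (i : X ⟶ X')
    (hi : AlgSp.IsThickMor i.hom)
    (u : U ⟶ X) (hu : AlgSp.RepWith @IsOpenImmersion u.hom) :
    (∃ (U' : AlgSp.Space S) (u' : U' ⟶ X') (k : U ⟶ U'),
      AlgSp.RepWith @IsOpenImmersion u'.hom ∧ IsPullback u.hom k.hom i.hom u'.hom) ∧
    (∀ (U₁ U₂ : AlgSp.Space S) (u₁ : U₁ ⟶ X') (u₂ : U₂ ⟶ X') (k₁ : U ⟶ U₁) (k₂ : U ⟶ U₂),
      AlgSp.RepWith @IsOpenImmersion u₁.hom → IsPullback u.hom k₁.hom i.hom u₁.hom →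
      AlgSp.RepWith @IsOpenImmersion u₂.hom → IsPullback u.hom k₂.hom i.hom u₂.hom →
      ∃ e : U₁ ≅ U₂, e.hom ≫ u₂ = u₁) := by
  have hh := K631.Thick.isHomeomorph_map_of_isThickMor hi
  constructor
  · obtain ⟨U', u', hu', hr⟩ := K610.Sub.exists_open_subspace X' (Points.map i.hom '' Set.range (Points.map u.hom))
      (hh.isOpenMap _ (K631.ThickOpen.isOpen_range hu))
    obtain ⟨k, hk⟩ := K631.ThickOpen.isPullback_of_range hi hu hu' hr
    exact ⟨U', u', ⟨k⟩, hu', hk⟩
  · intro U₁ U₂ u₁ u₂ k₁ k₂ h₁ sq₁ h₂ sq₂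
    obtain ⟨e, he⟩ := K631.ThickOpen.exists_iso_of_range h₁ h₂
      ((K631.ThickOpen.range_eq_of_isPullback hi sq₁).trans (K631.ThickOpen.range_eq_of_isPullback hi sq₂).symm)
    exact ⟨ObjectProperty.isoMk _ e, ObjectProperty.hom_ext _ he⟩

end Groth.Agent.S10583
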