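import Groth.Statements.S10586
import Groth.Agent.AlgSp.K631.UHEquiv
import Groth.Agent.AlgSp.K631.Thick
import Groth.Agent.AlgSp.K631.NilAff
-- import your own Groth.Agent.* helpers here

set_option autoImplicit false
universe u
open CategoryTheory CategoryTheory.Limits AlgebraicGeometry
open AlgSp

namespace Groth.Agent.S10586

/-- Let i : X ⟶ X' be a thickening of algebraic spaces over S (representable, every base change to a
scheme a surjective closed immersion). Then base change along i is an equivalence from the small
etale site of X' (schemes etale over X') to the small etale site of X. -/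
theorem result {S : Scheme.{u}} {X X' : AlgSp.Space S} (i : X ⟶ X')
    (hi : AlgSp.IsThickMor i.hom) :
    (AlgSp.EtOver.bc hi.1).IsEquivalence := by
  have hfu := K631.UHEquiv.repWith_UH_of_isThickMor hi
  refine K631.UHEquiv.isEquivalence_bc' hi.1 hfu X'.property fun E π W κ q hE _ sq => ?_
  let WS : Space S := ⟨(yon S).obj W, IsAlgSpace.yon_obj W⟩
  let ES : Space S := ⟨E, hE⟩
  let κS : WS ⟶ ES := ⟨κ⟩
  exact K631.NilAff.exists_rep κS (K631.Thick.isThickMor_fst sq hi) ⟨W, ⟨Iso.refl _⟩⟩

end Groth.Agent.S10586
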