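import Groth.Statements.S10590
import Groth.Agent.AlgSp.K632.ThickSch
import Groth.Agent.AlgSp.K632.IntThick
import Groth.Agent.AlgSp.K613.Chart

set_option autoImplicit false
universe u
open CategoryTheory CategoryTheory.Limits AlgebraicGeometry
open AlgSp

namespace Groth.Agent.S10590

/-- Consider a morphism (f, f') from the thickening X ⊂ X' to the thickening Y ⊂ Y' of algebraic spaces
over S, meaning: i : X ⟶ X' and j : Y ⟶ Y' are thickenings (representable, every base change to a
scheme a surjective closed immersion) and i ≫ f' = f ≫ j. Then f is representable by schemes if and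
only if f' is. -/
theorem result {S : Scheme.{u}} {X X' Y Y' : AlgSp.Space S} (i : X ⟶ X') (j : Y ⟶ Y')
    (f : X ⟶ Y) (f' : X' ⟶ Y')
    (hi : AlgSp.IsThickMor i.hom)
    (hj : AlgSp.IsThickMor j.hom) (w : i ≫ f' = f ≫ j) :
    AlgSp.Representable f.hom ↔ AlgSp.Representable f'.hom := by
  have w' : i.hom ≫ f'.hom = f.hom ≫ j.hom := congrArg (fun z => z.hom) w
  have hjm : Mono j.hom := K631.Thick.mono_of_isThickMor hj
  constructor
  · intro hf T' g
    have sq : IsPullback (pullback.fst f'.hom g) (pullback.snd f'.hom g) f'.hom g := IsPullback.of_hasPullback _ _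
    obtain ⟨T, P, τ, k, π, e, ι, h1, h2, h3, h4, h5, h6⟩ := K632.IntThick.exists_thin_pullback hi hj w' hf g sq
    let P' : Space S := ⟨pullback f'.hom g,
      K613.Chart.isAlgSpace_pullback X'.property (IsAlgSpace.yon_obj _) Y'.property f'.hom g⟩
    let PS : Space S := ⟨(yon S).obj P, IsAlgSpace.yon_obj P⟩
    let ιS : PS ⟶ P' := ⟨ι⟩
    obtain ⟨W, ⟨ε⟩⟩ := K632.ThickSch.exists_rep ιS h4 ⟨P, ⟨Iso.refl _⟩⟩
    obtain ⟨b, hb⟩ := (yon S).map_surjective (ε.hom ≫ pullback.snd f'.hom g)
    refine ⟨W, b, ε.hom ≫ pullback.fst f'.hom g, ?_⟩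
    rw [hb]
    exact IsPullback.of_iso_pullback ⟨by rw [Category.assoc, Category.assoc, sq.w]⟩ ε rfl rfl
  · intro hf' T g
    have h1 : Representable (f.hom ≫ j.hom) := by
      rw [← w']
      exact MorphismProperty.comp_mem (W := (yon S).relativelyRepresentable) _ _ hi.1 hf'
    obtain ⟨P, b, fst, sq⟩ := h1 (g ≫ j.hom)
    have hw : fst ≫ f.hom = (yon S).map b ≫ g := by
      rw [← cancel_mono j.hom, Category.assoc, Category.assoc, sq.w]
    refine ⟨P, b, fst, ⟨⟨hw⟩, ⟨PullbackCone.IsLimit.mk _ (fun s => sq.lift s.fst s.snd ?_)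
      (fun s => sq.lift_fst _ _ _) (fun s => sq.lift_snd _ _ _) (fun s m h1 h2 => ?_)⟩⟩⟩
    · rw [← Category.assoc, s.condition, Category.assoc]
    · exact sq.hom_ext (by rw [h1, sq.lift_fst]) (by rw [h2, sq.lift_snd])

end Groth.Agent.S10590
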