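import Groth.Statements.S10595
import Groth.Agent.AlgSp.K632.Deform
import Groth.Agent.AlgSp.K632.FlatAt
import Groth.Agent.AlgSp.K597.EtLoc
import Groth.Agent.AlgSp.K635.Thick
import Groth.Agent.S1317

set_option autoImplicit false
universe u
open CategoryTheory CategoryTheory.Limits AlgebraicGeometry
open AlgSp

namespace Groth.Agent.S10595

/-- Let iB : B ⟶ B' be a finite order thickening of algebraic spaces over S (a thickening such that for
one n the (n+1)-st power of the ideal vanishes on every affine etale scheme chart), f' : X' ⟶ Y' a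
morphism of algebraic spaces over B' (via g' : Y' ⟶ B') with X' flat over B', and f : X ⟶ Y, g : Y ⟶
B its base change to B (both squares to iB cartesian, iX ≫ f' = f ≫ iY). If f is flat, then f' is
flat and g' : Y' ⟶ B' is flat at every point of Y' in the image of f'. -/
theorem result {S : Scheme.{u}} {X X' Y Y' B B' : AlgSp.Space S} (iX : X ⟶ X') (iY : Y ⟶ Y') (iB : B ⟶ B')
    (f : X ⟶ Y) (f' : X' ⟶ Y') (g : Y ⟶ B) (g' : Y' ⟶ B')
    (hcX : IsPullback iX.hom (f ≫ g).hom (f' ≫ g').hom iB.hom) (hcY : IsPullback iY.hom g.hom g'.hom iB.hom)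
    (w : iX ≫ f' = f ≫ iY)
    (hB : AlgSp.IsFinThickMor iB.hom) (hflat : AlgSp.LocP @Flat (f' ≫ g').hom)
    (hf : AlgSp.LocP @Flat f.hom) :
    AlgSp.LocP @Flat f'.hom ∧
    ∀ x' : AlgSp.Points X'.obj, AlgSp.IsFlatAtMor g'.hom (AlgSp.Points.map f'.hom x') := by
  obtain ⟨n, hn⟩ := hB
  have hB' : RepWith (K635.Thick.nthick n) iB.hom := (K635.Thick.isNThickMor_iff B'.property _).1 hn
  have w' : iX.hom ≫ f'.hom = f.hom ≫ iY.hom := congrArg (·.hom) w
  have h1 : LocP @Flat f'.hom := by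
    refine K632.Deform.locP_of_deform (P := @Flat) (Q := @Flat) (R := ⊤) (T := K635.Thick.nthick n)
      K597.etLoc_flat ?_ hcX hcY w' X'.property.hasAtlas Y'.property.hasAtlas B'.property.hasAtlas hB' hflat
      (fun _ _ _ _ _ _ _ _ => trivial) hf
    intro X₀ X₀' Y₀ Y₀' S₀ S₀' jX jY jS f₀ f₀' g₀ g₀' hS hcX₀ hcY₀ w₀ hQ _ hP
    have : Flat (f₀' ≫ g₀') := hQ
    exact (Groth.Agent.S1317.result jX jY jS f₀ f₀' g₀ g₀' ⟨hS.1, n + 1, hS.2⟩ hcX₀ hcY₀ w₀).1 hP
  exact ⟨h1, fun x' => K632.FlatAt.isFlatAtMor_of_comp X'.property.hasAtlas h1 hflat x'⟩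

end Groth.Agent.S10595
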