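import Groth.Statements.S10596
import Groth.Agent.AlgSp.K632.Deform
import Groth.Agent.AlgSp.K632.RelDim
import Groth.Agent.AlgSp.K635.Thick
import Groth.Agent.AlgSp.K597.LocP
import Groth.Agent.AlgSp.K597.EtLoc
import Groth.Agent.S10591
import Groth.Agent.S10595
import Groth.Agent.S1320
import Groth.Agent.S1321
import Groth.Agent.S1322

set_option autoImplicit false
universe u
open CategoryTheory CategoryTheory.Limits AlgebraicGeometry
open AlgSp

namespace Groth.Agent.S10596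

/-- Let iB : B ⟶ B' be a finite order thickening of algebraic spaces over S (a thickening such that for
one n the (n+1)-st power of the ideal vanishes on every affine etale scheme chart), f' : X' ⟶ Y' a
morphism of algebraic spaces over B' (via g' : Y' ⟶ B') with X' flat over B', and f : X ⟶ Y, g : Y ⟶
B its base change to B (both squares to iB cartesian, iX ≫ f' = f ≫ iY). Then f is locally of finite
type of relative dimension d, resp. flat, resp. locally of finite type, locally quasi-finite,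
locally of finite presentation, smooth, unramified, etale, if and only if f' is (etale-local sense;
locally quasi-finite and unramified include locally of finite type). -/
theorem result {S : Scheme.{u}} {X X' Y Y' B B' : AlgSp.Space S} (iX : X ⟶ X') (iY : Y ⟶ Y') (iB : B ⟶ B')
    (f : X ⟶ Y) (f' : X' ⟶ Y') (g : Y ⟶ B) (g' : Y' ⟶ B')
    (hcX : IsPullback iX.hom (f ≫ g).hom (f' ≫ g').hom iB.hom) (hcY : IsPullback iY.hom g.hom g'.hom iB.hom)
    (w : iX ≫ f' = f ≫ iY)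
    (hB : AlgSp.IsFinThickMor iB.hom) (hflat : AlgSp.LocP @Flat (f' ≫ g').hom) (d : ℕ) :
    ((AlgSp.LocP @LocallyOfFiniteType f.hom ∧
        ∀ x, AlgSp.HasAtMor (fun _ _ h u => FlatMor.fibreDimAt h u = (d : WithBot ℕ∞)) f.hom x) ↔
      (AlgSp.LocP @LocallyOfFiniteType f'.hom ∧
        ∀ x', AlgSp.HasAtMor (fun _ _ h u => FlatMor.fibreDimAt h u = (d : WithBot ℕ∞)) f'.hom x')) ∧
    (AlgSp.LocP @Flat f.hom ↔ AlgSp.LocP @Flat f'.hom) ∧
    (AlgSp.LocP @LocallyOfFiniteType f.hom ↔ AlgSp.LocP @LocallyOfFiniteType f'.hom) ∧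
    (AlgSp.LocP (@LocallyQuasiFinite ⊓ @LocallyOfFiniteType) f.hom ↔
      AlgSp.LocP (@LocallyQuasiFinite ⊓ @LocallyOfFiniteType) f'.hom) ∧
    (AlgSp.LocP @LocallyOfFinitePresentation f.hom ↔ AlgSp.LocP @LocallyOfFinitePresentation f'.hom) ∧
    (AlgSp.LocP @Smooth f.hom ↔ AlgSp.LocP @Smooth f'.hom) ∧
    (AlgSp.LocP (@LocallyOfFiniteType ⊓ @FormallyUnramified) f.hom ↔
      AlgSp.LocP (@LocallyOfFiniteType ⊓ @FormallyUnramified) f'.hom) ∧
    (AlgSp.IsEtaleMor f.hom ↔ AlgSp.IsEtaleMor f'.hom) := by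
  have hX := X.property.hasAtlas
  have hX' := X'.property.hasAtlas
  have hY := Y.property.hasAtlas
  have hY' := Y'.property.hasAtlas
  have hBa := B'.property.hasAtlas
  have w' : iX.hom ≫ f'.hom = f.hom ≫ iY.hom := congrArg (·.hom) w
  have sq : IsPullback iX.hom f.hom f'.hom iY.hom := K632.Deform.isPullback_of_deform hcX hcY w'
  obtain ⟨n, hn⟩ := hB
  have hB' : RepWith (K635.Thick.nthick n) iB.hom := (K635.Thick.isNThickMor_iff B'.property _).1 hn
  have hY1 : RepWith (K635.Thick.nthick n) iY.hom := K632.Chart.repWith_of_isPullback hcY.flip hB'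
  have hX1 : RepWith (K635.Thick.nthick n) iX.hom := K632.Chart.repWith_of_isPullback sq.flip hY1
  have hY2 : IsNThickMor n iY.hom := (K635.Thick.isNThickMor_iff Y'.property _).2 hY1
  have hX2 : IsNThickMor n iX.hom := (K635.Thick.isNThickMor_iff X'.property _).2 hX1
  obtain ⟨h1, h2, h3, h4⟩ := Groth.Agent.S10591.result iX iY f f' hX2.1 hY2.1 w sq ⟨n, hX2⟩ d
  refine ⟨h1, ⟨fun h => ?_, fun h => ?_⟩, h2, h3, ⟨fun h => ?_, fun h => ?_⟩, ⟨fun h => ?_, fun h => ?_⟩, h4,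
    ⟨fun h => ?_, fun h => ?_⟩⟩
  · exact (Groth.Agent.S10595.result iX iY iB f f' g g' hcX hcY w ⟨n, hn⟩ hflat h).1
  · exact K597.locP_bc K597.etLoc_flat sq hX' hY' hY h
  · refine K632.Deform.locP_of_deform (P := @LocallyOfFinitePresentation) (Q := @Flat) (R := ⊤)
      (T := K635.Thick.nthick n) K597.etLoc_lfp ?_ hcX hcY w' hX' hY' hBa hB' hflat
      (fun _ _ _ _ _ _ _ _ => trivial) h
    intro X₀ X₀' Y₀ Y₀' S₀ S₀' jX jY jS f₀ f₀' g₀ g₀' hS hcX₀ hcY₀ w₀ hQ _ hP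
    have : Flat (f₀' ≫ g₀') := hQ
    exact (Groth.Agent.S1320.result jX jY jS f₀ f₀' g₀ g₀' ⟨hS.1, n + 1, hS.2⟩ hcX₀ hcY₀ w₀).1 hP
  · exact K597.locP_bc K597.etLoc_lfp sq hX' hY' hY h
  · refine K632.Deform.locP_of_deform (P := @Smooth) (Q := @Flat) (R := ⊤)
      (T := K635.Thick.nthick n) K597.etLoc_smooth ?_ hcX hcY w' hX' hY' hBa hB' hflat
      (fun _ _ _ _ _ _ _ _ => trivial) h
    intro X₀ X₀' Y₀ Y₀' S₀ S₀' jX jY jS f₀ f₀' g₀ g₀' hS hcX₀ hcY₀ w₀ hQ _ hP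
    have : Flat (f₀' ≫ g₀') := hQ
    exact (Groth.Agent.S1321.result jX jY jS f₀ f₀' g₀ g₀' ⟨hS.1, n + 1, hS.2⟩ hcX₀ hcY₀ w₀).1 hP
  · exact K597.locP_bc K597.etLoc_smooth sq hX' hY' hY h
  · refine K597.isEtaleMor_of_locP_etale K597.etLoc_etale Y'.property ?_
    refine K632.Deform.locP_of_deform (P := @Etale) (Q := @Flat) (R := ⊤)
      (T := K635.Thick.nthick n) K597.etLoc_etale ?_ hcX hcY w' hX' hY' hBa hB' hflat
      (fun _ _ _ _ _ _ _ _ => trivial) (K597.locP_etale_of_isEtaleMor h)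
    intro X₀ X₀' Y₀ Y₀' S₀ S₀' jX jY jS f₀ f₀' g₀ g₀' hS hcX₀ hcY₀ w₀ hQ _ hP
    have : Flat (f₀' ≫ g₀') := hQ
    exact (Groth.Agent.S1322.result jX jY jS f₀ f₀' g₀ g₀' ⟨hS.1, n + 1, hS.2⟩ hcX₀ hcY₀ w₀).1 hP
  · exact K597.isEtaleMor_of_locP_etale K597.etLoc_etale Y.property
      (K597.locP_bc K597.etLoc_etale sq hX' hY' hY (K597.locP_etale_of_isEtaleMor h))

end Groth.Agent.S10596
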