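import Groth.Statements.S10597
import Groth.Agent.AlgSp.K632.DeformMono
import Groth.Agent.AlgSp.K632.FinLocFree
import Groth.Agent.AlgSp.K635.Thick
import Groth.Agent.S10596

set_option autoImplicit false
universe u
open CategoryTheory CategoryTheory.Limits AlgebraicGeometry
open AlgSp

namespace Groth.Agent.S10597

theorem isThick {S : Scheme.{u}} {F G : Sp S} {i : F ⟶ G} (h : IsFinThickMor i) : IsThickMor i := by
  obtain ⟨n, hn⟩ := h
  exact hn.1

theorem open_fwd {S : Scheme.{u}} {X X' Y Y' B B' : AlgSp.Space S} (iX : X ⟶ X') (iY : Y ⟶ Y') (iB : B ⟶ B')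
    (f : X ⟶ Y) (f' : X' ⟶ Y') (g : Y ⟶ B) (g' : Y' ⟶ B')
    (hcX : IsPullback iX.hom (f ≫ g).hom (f' ≫ g').hom iB.hom) (hcY : IsPullback iY.hom g.hom g'.hom iB.hom)
    (w : iX ≫ f' = f ≫ iY)
    (hB : AlgSp.IsFinThickMor iB.hom) (hflat : AlgSp.LocP @Flat (f' ≫ g').hom)
    (h : RepWith @IsOpenImmersion f.hom) : RepWith @IsOpenImmersion f'.hom := by
  have het := (Groth.Agent.S10596.result iX iY iB f f' g g' hcX hcY w hB hflat 0).2.2.2.2.2.2.2
  exact K632.DeformIso.open_of_thick (K632.Basic.IsThickMor.of_isPullback hcX.flip (isThick hB))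
    (K632.Basic.IsThickMor.of_isPullback hcY.flip (isThick hB)) w het.1 h

theorem iso_fwd {S : Scheme.{u}} {X X' Y Y' B B' : AlgSp.Space S} (iX : X ⟶ X') (iY : Y ⟶ Y') (iB : B ⟶ B')
    (f : X ⟶ Y) (f' : X' ⟶ Y') (g : Y ⟶ B) (g' : Y' ⟶ B')
    (hcX : IsPullback iX.hom (f ≫ g).hom (f' ≫ g').hom iB.hom) (hcY : IsPullback iY.hom g.hom g'.hom iB.hom)
    (w : iX ≫ f' = f ≫ iY)
    (hB : AlgSp.IsFinThickMor iB.hom) (hflat : AlgSp.LocP @Flat (f' ≫ g').hom)
    (h : IsIso f.hom) : IsIso f'.hom := by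
  have het := (Groth.Agent.S10596.result iX iY iB f f' g g' hcX hcY w hB hflat 0).2.2.2.2.2.2.2
  exact K632.DeformIso.iso_of_thick (K632.Basic.IsThickMor.of_isPullback hcX.flip (isThick hB))
    (K632.Basic.IsThickMor.of_isPullback hcY.flip (isThick hB)) w het.1 h


/-- Let iB : B ⟶ B' be a finite order thickening of algebraic spaces over S (a thickening such that for
one n the (n+1)-st power of the ideal vanishes on every affine etale scheme chart), f' : X' ⟶ Y' a
morphism of algebraic spaces over B' (via g' : Y' ⟶ B') with X' flat over B', and f : X ⟶ Y, g : Y ⟶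
B its base change to B (both squares to iB cartesian, iX ≫ f' = f ≫ iY). Then f is an isomorphism,
resp. an open immersion, resp. a monomorphism, resp. finite locally free, resp. finite locally free
of degree d, if and only if f' is. -/
theorem result {S : Scheme.{u}} {X X' Y Y' B B' : AlgSp.Space S} (iX : X ⟶ X') (iY : Y ⟶ Y') (iB : B ⟶ B')
    (f : X ⟶ Y) (f' : X' ⟶ Y') (g : Y ⟶ B) (g' : Y' ⟶ B')
    (hcX : IsPullback iX.hom (f ≫ g).hom (f' ≫ g').hom iB.hom) (hcY : IsPullback iY.hom g.hom g'.hom iB.hom)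
    (w : iX ≫ f' = f ≫ iY)
    (hB : AlgSp.IsFinThickMor iB.hom) (hflat : AlgSp.LocP @Flat (f' ≫ g').hom) :
    (IsIso f.hom ↔ IsIso f'.hom) ∧
    (AlgSp.RepWith @IsOpenImmersion f.hom ↔ AlgSp.RepWith @IsOpenImmersion f'.hom) ∧
    (Mono f.hom ↔ Mono f'.hom) ∧
    (AlgSp.IsFinLocFreeMor f.hom ↔ AlgSp.IsFinLocFreeMor f'.hom) ∧
    (∀ d : ℕ, AlgSp.IsFinLocFreeOfDegMor d f.hom ↔ AlgSp.IsFinLocFreeOfDegMor d f'.hom) := by
  have w' : iX.hom ≫ f'.hom = f.hom ≫ iY.hom := congrArg (·.hom) w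
  have sq : IsPullback iX.hom f.hom f'.hom iY.hom := K632.Deform.isPullback_of_deform hcX hcY w'
  obtain ⟨-, e1, -, -, e2, -⟩ := Groth.Agent.S10596.result iX iY iB f f' g g' hcX hcY w hB hflat 0
  have hY1 : IsThickMor iY.hom := K632.Basic.IsThickMor.of_isPullback hcY.flip (isThick hB)
  have hflf : AlgSp.IsFinLocFreeMor f.hom → AlgSp.IsFinLocFreeMor f'.hom := fun h => by
    refine K632.FinLocFree.repWith_finLocFree X'.property Y'.property sq hY1 (e1.1 ?_) (e2.1 ?_) h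
    · exact K597.locP_of_repWith K597.etLoc_flat.precomp (K632.Global.repWith_mono (fun _ _ _ h => h.2.1) h)
    · exact K597.locP_of_repWith K597.etLoc_lfp.precomp (K632.Global.repWith_mono (fun _ _ _ h => h.2.2) h)
  refine ⟨⟨fun h => iso_fwd iX iY iB f f' g g' hcX hcY w hB hflat h, fun h => sq.isIso_snd_of_isIso⟩,
    ⟨fun h => open_fwd iX iY iB f f' g g' hcX hcY w hB hflat h, fun h => K632.Chart.repWith_of_isPullback sq h⟩,
    ⟨fun h => ?_, fun h => MorphismProperty.of_isPullback (P := MorphismProperty.monomorphisms _) sq h⟩,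
    ⟨hflf, fun h => K632.Chart.repWith_of_isPullback sq h⟩,
    fun d => ⟨fun h => ?_, fun h => K632.Chart.repWith_of_isPullback sq h⟩⟩
  · obtain ⟨P, P', iP, δ, δ', p, p', hc1, hc2, w2, e3, m1, m2, -⟩ :=
      K632.DeformMono.exists_diag iX iY iB f f' g g' hcX hcY w
    refine m2.2 (iso_fwd iX iP iB δ δ' p p' hc1 hc2 w2 hB ?_ (m1.1 h))
    rw [e3]
    exact hflat
  · exact K632.FinLocFree.repWith_finLocFreeOfDeg sq hY1
      (hflf (K632.FinLocFree.isFinLocFreeMor_of_deg h)) d h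

end Groth.Agent.S10597
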