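import Groth.Statements.S10598
import Groth.Agent.AlgSp.K632.Deform
import Groth.Agent.AlgSp.K632.FlatAt
import Groth.Agent.AlgSp.K597.EtLoc
import Groth.Agent.S1381

set_option autoImplicit false
universe u
open CategoryTheory CategoryTheory.Limits AlgebraicGeometry
open AlgSp

namespace Groth.Agent.S10598

/-- Let iB : B ⟶ B' be a thickening of algebraic spaces over S (representable, every base change to a
scheme a surjective closed immersion), f' : X' ⟶ Y' a morphism of algebraic spaces over B' (via g' :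
Y' ⟶ B') with Y' locally of finite type over B' and X' flat and locally of finite presentation over
B', and f : X ⟶ Y, g : Y ⟶ B its base change to B (both squares to iB cartesian, iX ≫ f' = f ≫ iY).
If f is flat, then f' is flat and g' : Y' ⟶ B' is flat at every point of Y' in the image of f'. -/
theorem result {S : Scheme.{u}} {X X' Y Y' B B' : AlgSp.Space S} (iX : X ⟶ X') (iY : Y ⟶ Y') (iB : B ⟶ B')
    (f : X ⟶ Y) (f' : X' ⟶ Y') (g : Y ⟶ B) (g' : Y' ⟶ B')
    (hcX : IsPullback iX.hom (f ≫ g).hom (f' ≫ g').hom iB.hom) (hcY : IsPullback iY.hom g.hom g'.hom iB.hom)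
    (w : iX ≫ f' = f ≫ iY)
    (hB : AlgSp.IsThickMor iB.hom)
    (hg' : AlgSp.LocP @LocallyOfFiniteType g'.hom)
    (hflat : AlgSp.LocP @Flat (f' ≫ g').hom) (hfp : AlgSp.LocP @LocallyOfFinitePresentation (f' ≫ g').hom)
    (hf : AlgSp.LocP @Flat f.hom) :
    AlgSp.LocP @Flat f'.hom ∧
    ∀ x' : AlgSp.Points X'.obj, AlgSp.IsFlatAtMor g'.hom (AlgSp.Points.map f'.hom x') := by
  have w' : iX.hom ≫ f'.hom = f.hom ≫ iY.hom := congrArg (·.hom) w
  have h1 : LocP @Flat f'.hom := by
    refine K632.Deform.locP_of_deform (P := @Flat) (Q := @Flat ⊓ @LocallyOfFinitePresentation)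
      (R := @LocallyOfFiniteType) (T := thick)
      K597.etLoc_flat ?_ hcX hcY w' X'.property.hasAtlas Y'.property.hasAtlas B'.property.hasAtlas hB
      (K597.locP_inf_iff.2 ⟨hflat, hfp⟩) hg' hf
    intro X₀ X₀' Y₀ Y₀' S₀ S₀' jX jY jS f₀ f₀' g₀ g₀' hS hcX₀ hcY₀ w₀ hQ hR hP
    have : Flat (f₀' ≫ g₀') := hQ.1
    have : LocallyOfFinitePresentation (f₀' ≫ g₀') := hQ.2
    have : LocallyOfFiniteType g₀' := hR
    exact (Groth.Agent.S1381.result jX jY jS f₀ f₀' g₀ g₀' hS hcX₀ hcY₀ w₀).1 hP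
  exact ⟨h1, fun x' => K632.FlatAt.isFlatAtMor_of_comp X'.property.hasAtlas h1 hflat x'⟩

end Groth.Agent.S10598
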