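import Groth.Statements.S10599
import Groth.Agent.AlgSp.K632.Deform
import Groth.Agent.AlgSp.K632.RelDim
import Groth.Agent.AlgSp.K597.LocP
import Groth.Agent.AlgSp.K597.EtLoc
import Groth.Agent.S10593
import Groth.Agent.S10598
import Groth.Agent.S1384
import Groth.Agent.S1385

set_option autoImplicit false
universe u
open CategoryTheory CategoryTheory.Limits AlgebraicGeometry
open AlgSp

namespace Groth.Agent.S10599

/-- Let iB : B ⟶ B' be a thickening of algebraic spaces over S (representable, every base change to a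
scheme a surjective closed immersion), f' : X' ⟶ Y' a morphism of algebraic spaces over B' (via g' :
Y' ⟶ B') with Y' locally of finite type over B' and X' flat and locally of finite presentation over
B', and f : X ⟶ Y, g : Y ⟶ B its base change to B (both squares to iB cartesian, iX ≫ f' = f ≫ iY).
Then f is locally of finite type of relative dimension d, resp. flat, resp. locally quasi-finite,
smooth, unramified, etale, if and only if f' is (etale-local sense; locally quasi-finite and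
unramified include locally of finite type). -/
theorem result {S : Scheme.{u}} {X X' Y Y' B B' : AlgSp.Space S} (iX : X ⟶ X') (iY : Y ⟶ Y') (iB : B ⟶ B')
    (f : X ⟶ Y) (f' : X' ⟶ Y') (g : Y ⟶ B) (g' : Y' ⟶ B')
    (hcX : IsPullback iX.hom (f ≫ g).hom (f' ≫ g').hom iB.hom) (hcY : IsPullback iY.hom g.hom g'.hom iB.hom)
    (w : iX ≫ f' = f ≫ iY)
    (hB : AlgSp.IsThickMor iB.hom)
    (hg' : AlgSp.LocP @LocallyOfFiniteType g'.hom)
    (hflat : AlgSp.LocP @Flat (f' ≫ g').hom) (hfp : AlgSp.LocP @LocallyOfFinitePresentation (f' ≫ g').hom) (d : ℕ) :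
    ((AlgSp.LocP @LocallyOfFiniteType f.hom ∧
        ∀ x, AlgSp.HasAtMor (fun _ _ h u => FlatMor.fibreDimAt h u = (d : WithBot ℕ∞)) f.hom x) ↔
      (AlgSp.LocP @LocallyOfFiniteType f'.hom ∧
        ∀ x', AlgSp.HasAtMor (fun _ _ h u => FlatMor.fibreDimAt h u = (d : WithBot ℕ∞)) f'.hom x')) ∧
    (AlgSp.LocP @Flat f.hom ↔ AlgSp.LocP @Flat f'.hom) ∧
    (AlgSp.LocP (@LocallyQuasiFinite ⊓ @LocallyOfFiniteType) f.hom ↔
      AlgSp.LocP (@LocallyQuasiFinite ⊓ @LocallyOfFiniteType) f'.hom) ∧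
    (AlgSp.LocP @Smooth f.hom ↔ AlgSp.LocP @Smooth f'.hom) ∧
    (AlgSp.LocP (@LocallyOfFiniteType ⊓ @FormallyUnramified) f.hom ↔
      AlgSp.LocP (@LocallyOfFiniteType ⊓ @FormallyUnramified) f'.hom) ∧
    (AlgSp.IsEtaleMor f.hom ↔ AlgSp.IsEtaleMor f'.hom) := by
  have hX := X.property.hasAtlas
  have hX' := X'.property.hasAtlas
  have hY := Y.property.hasAtlas
  have hY' := Y'.property.hasAtlas
  have hBa := B'.property.hasAtlas
  have w' : iX.hom ≫ f'.hom = f.hom ≫ iY.hom := congrArg (·.hom) w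
  have sq : IsPullback iX.hom f.hom f'.hom iY.hom := K632.Deform.isPullback_of_deform hcX hcY w'
  have hY1 : IsThickMor iY.hom := K632.Basic.IsThickMor.of_isPullback hcY.flip hB
  have hX1 : IsThickMor iX.hom := K632.Basic.IsThickMor.of_isPullback sq.flip hY1
  have hlft' : LocP @LocallyOfFiniteType f'.hom := by
    refine K597.locP_of_comp' K597.etLoc_lft (g := g'.hom) (fun A B C u v h => ?_) hX' hY' hBa
      (fun _ _ a b k ha hb e => ?_)
    · have : LocallyOfFiniteType (u ≫ v) := h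
      exact locallyOfFiniteType_of_comp u v
    · have : LocallyOfFinitePresentation k.left := hfp a b k ha hb e
      infer_instance
  have hlft : LocP @LocallyOfFiniteType f.hom := K597.locP_bc K597.etLoc_lft sq hX' hY' hY hlft'
  obtain ⟨h3, h4⟩ := Groth.Agent.S10593.result iX iY f f' hX1 hY1 w sq hlft hlft'
  have hrel := K632.RelDim.relDim_iff sq hY1 X'.property Y'.property hlft hlft' (· = (d : WithBot ℕ∞))
  refine ⟨⟨fun h => ⟨hlft', hrel.1 h.2⟩, fun h => ⟨hlft, hrel.2 h.2⟩⟩, ⟨fun h => ?_, fun h => ?_⟩, h3,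
    ⟨fun h => ?_, fun h => ?_⟩, h4, ⟨fun h => ?_, fun h => ?_⟩⟩
  · exact (Groth.Agent.S10598.result iX iY iB f f' g g' hcX hcY w hB hg' hflat hfp h).1
  · exact K597.locP_bc K597.etLoc_flat sq hX' hY' hY h
  · refine K632.Deform.locP_of_deform (P := @Smooth) (Q := @Flat ⊓ @LocallyOfFinitePresentation)
      (R := @LocallyOfFiniteType) (T := thick) K597.etLoc_smooth ?_ hcX hcY w' hX' hY' hBa hB
      (K597.locP_inf_iff.2 ⟨hflat, hfp⟩) hg' h
    intro X₀ X₀' Y₀ Y₀' S₀ S₀' jX jY jS f₀ f₀' g₀ g₀' hS hcX₀ hcY₀ w₀ hQ hR hP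
    have : Flat (f₀' ≫ g₀') := hQ.1
    have : LocallyOfFinitePresentation (f₀' ≫ g₀') := hQ.2
    have : LocallyOfFiniteType g₀' := hR
    exact (Groth.Agent.S1384.result jX jY jS f₀ f₀' g₀ g₀' hS hcX₀ hcY₀ w₀).1 hP
  · exact K597.locP_bc K597.etLoc_smooth sq hX' hY' hY h
  · refine K597.isEtaleMor_of_locP_etale K597.etLoc_etale Y'.property ?_
    refine K632.Deform.locP_of_deform (P := @Etale) (Q := @Flat ⊓ @LocallyOfFinitePresentation)
      (R := @LocallyOfFiniteType) (T := thick) K597.etLoc_etale ?_ hcX hcY w' hX' hY' hBa hB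
      (K597.locP_inf_iff.2 ⟨hflat, hfp⟩) hg' (K597.locP_etale_of_isEtaleMor h)
    intro X₀ X₀' Y₀ Y₀' S₀ S₀' jX jY jS f₀ f₀' g₀ g₀' hS hcX₀ hcY₀ w₀ hQ hR hP
    have : Flat (f₀' ≫ g₀') := hQ.1
    have : LocallyOfFinitePresentation (f₀' ≫ g₀') := hQ.2
    have : LocallyOfFiniteType g₀' := hR
    exact (Groth.Agent.S1385.result jX jY jS f₀ f₀' g₀ g₀' hS hcX₀ hcY₀ w₀).1 hP
  · exact K597.isEtaleMor_of_locP_etale K597.etLoc_etale Y.property
      (K597.locP_bc K597.etLoc_etale sq hX' hY' hY (K597.locP_etale_of_isEtaleMor h))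

end Groth.Agent.S10599
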