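import Groth.Statements.S10600
import Groth.Agent.AlgSp.K632.DeformMono
import Groth.Agent.AlgSp.K632.FinLocFree
import Groth.Agent.S10599
import Groth.Agent.Flat2D.LfpComp

set_option autoImplicit false
universe u
open CategoryTheory CategoryTheory.Limits AlgebraicGeometry
open AlgSp

namespace Groth.Agent.S10600

theorem open_fwd {S : Scheme.{u}} {X X' Y Y' B B' : AlgSp.Space S} (iX : X ⟶ X') (iY : Y ⟶ Y') (iB : B ⟶ B')
    (f : X ⟶ Y) (f' : X' ⟶ Y') (g : Y ⟶ B) (g' : Y' ⟶ B')
    (hcX : IsPullback iX.hom (f ≫ g).hom (f' ≫ g').hom iB.hom) (hcY : IsPullback iY.hom g.hom g'.hom iB.hom)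
    (w : iX ≫ f' = f ≫ iY) (hB : AlgSp.IsThickMor iB.hom)
    (hg' : AlgSp.LocP @LocallyOfFiniteType g'.hom)
    (hflat : AlgSp.LocP @Flat (f' ≫ g').hom) (hfp : AlgSp.LocP @LocallyOfFinitePresentation (f' ≫ g').hom)
    (h : RepWith @IsOpenImmersion f.hom) : RepWith @IsOpenImmersion f'.hom := by
  have het := (Groth.Agent.S10599.result iX iY iB f f' g g' hcX hcY w hB hg' hflat hfp 0).2.2.2.2.2
  exact K632.DeformIso.open_of_thick (K632.Basic.IsThickMor.of_isPullback hcX.flip hB)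
    (K632.Basic.IsThickMor.of_isPullback hcY.flip hB) w het.1 h

theorem iso_fwd {S : Scheme.{u}} {X X' Y Y' B B' : AlgSp.Space S} (iX : X ⟶ X') (iY : Y ⟶ Y') (iB : B ⟶ B')
    (f : X ⟶ Y) (f' : X' ⟶ Y') (g : Y ⟶ B) (g' : Y' ⟶ B')
    (hcX : IsPullback iX.hom (f ≫ g).hom (f' ≫ g').hom iB.hom) (hcY : IsPullback iY.hom g.hom g'.hom iB.hom)
    (w : iX ≫ f' = f ≫ iY) (hB : AlgSp.IsThickMor iB.hom)
    (hg' : AlgSp.LocP @LocallyOfFiniteType g'.hom)
    (hflat : AlgSp.LocP @Flat (f' ≫ g').hom) (hfp : AlgSp.LocP @LocallyOfFinitePresentation (f' ≫ g').hom)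
    (h : IsIso f.hom) : IsIso f'.hom := by
  have het := (Groth.Agent.S10599.result iX iY iB f f' g g' hcX hcY w hB hg' hflat hfp 0).2.2.2.2.2
  exact K632.DeformIso.iso_of_thick (K632.Basic.IsThickMor.of_isPullback hcX.flip hB)
    (K632.Basic.IsThickMor.of_isPullback hcY.flip hB) w het.1 h


/-- Let iB : B ⟶ B' be a thickening of algebraic spaces over S (representable, every base change to a
scheme a surjective closed immersion), f' : X' ⟶ Y' a morphism of algebraic spaces over B' (via g' :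
Y' ⟶ B') with Y' locally of finite type over B' and X' flat and locally of finite presentation over
B', and f : X ⟶ Y, g : Y ⟶ B its base change to B (both squares to iB cartesian, iX ≫ f' = f ≫ iY).
Then f is an isomorphism, resp. an open immersion, resp. a monomorphism, resp. finite locally free,
resp. finite locally free of degree d, if and only if f' is. -/
theorem result {S : Scheme.{u}} {X X' Y Y' B B' : AlgSp.Space S} (iX : X ⟶ X') (iY : Y ⟶ Y') (iB : B ⟶ B')
    (f : X ⟶ Y) (f' : X' ⟶ Y') (g : Y ⟶ B) (g' : Y' ⟶ B')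
    (hcX : IsPullback iX.hom (f ≫ g).hom (f' ≫ g').hom iB.hom) (hcY : IsPullback iY.hom g.hom g'.hom iB.hom)
    (w : iX ≫ f' = f ≫ iY)
    (hB : AlgSp.IsThickMor iB.hom)
    (hg' : AlgSp.LocP @LocallyOfFiniteType g'.hom)
    (hflat : AlgSp.LocP @Flat (f' ≫ g').hom) (hfp : AlgSp.LocP @LocallyOfFinitePresentation (f' ≫ g').hom) :
    (IsIso f.hom ↔ IsIso f'.hom) ∧
    (AlgSp.RepWith @IsOpenImmersion f.hom ↔ AlgSp.RepWith @IsOpenImmersion f'.hom) ∧
    (Mono f.hom ↔ Mono f'.hom) ∧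
    (AlgSp.IsFinLocFreeMor f.hom ↔ AlgSp.IsFinLocFreeMor f'.hom) ∧
    (∀ d : ℕ, AlgSp.IsFinLocFreeOfDegMor d f.hom ↔ AlgSp.IsFinLocFreeOfDegMor d f'.hom) := by
  have w' : iX.hom ≫ f'.hom = f.hom ≫ iY.hom := congrArg (·.hom) w
  have sq : IsPullback iX.hom f.hom f'.hom iY.hom := K632.Deform.isPullback_of_deform hcX hcY w'
  obtain ⟨-, e1, -⟩ := Groth.Agent.S10599.result iX iY iB f f' g g' hcX hcY w hB hg' hflat hfp 0
  have hY1 : IsThickMor iY.hom := K632.Basic.IsThickMor.of_isPullback hcY.flip hB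
  have hX' := X'.property.hasAtlas
  have hY' := Y'.property.hasAtlas
  have hBa := B'.property.hasAtlas
  have hfp' : LocP @LocallyOfFinitePresentation f'.hom :=
    K597.locP_of_comp K597.etLoc_lfp (Q := @LocallyOfFiniteType) (g := g'.hom) (fun A B C u v h1 h2 => by
      have : LocallyOfFinitePresentation (u ≫ v) := h1
      have : LocallyOfFiniteType v := h2
      exact Groth.Agent.Flat2D.LfpComp.lfp_of_comp u v) hX' hY' hBa hfp hg'
  have hlft' : LocP @LocallyOfFiniteType f'.hom := fun _ _ a b k ha hb e => by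
    have : LocallyOfFinitePresentation k.left := hfp' a b k ha hb e
    infer_instance
  have hlft2 : LocP @LocallyOfFiniteType (f' ≫ g').hom := fun _ _ a b k ha hb e => by
    have : LocallyOfFinitePresentation k.left := hfp a b k ha hb e
    infer_instance
  have hflf : AlgSp.IsFinLocFreeMor f.hom → AlgSp.IsFinLocFreeMor f'.hom := fun h => by
    refine K632.FinLocFree.repWith_finLocFree X'.property Y'.property sq hY1 (e1.1 ?_) hfp' h
    exact K597.locP_of_repWith K597.etLoc_flat.precomp (K632.Global.repWith_mono (fun _ _ _ h => h.2.1) h)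
  refine ⟨⟨fun h => iso_fwd iX iY iB f f' g g' hcX hcY w hB hg' hflat hfp h, fun h => sq.isIso_snd_of_isIso⟩,
    ⟨fun h => open_fwd iX iY iB f f' g g' hcX hcY w hB hg' hflat hfp h,
      fun h => K632.Chart.repWith_of_isPullback sq h⟩,
    ⟨fun h => ?_, fun h => MorphismProperty.of_isPullback (P := MorphismProperty.monomorphisms _) sq h⟩,
    ⟨hflf, fun h => K632.Chart.repWith_of_isPullback sq h⟩,
    fun d => ⟨fun h => ?_, fun h => K632.Chart.repWith_of_isPullback sq h⟩⟩
  · obtain ⟨P, P', iP, δ, δ', p, p', hc1, hc2, w2, e3, m1, m2, m3⟩ :=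
      K632.DeformMono.exists_diag iX iY iB f f' g g' hcX hcY w
    refine m2.2 (iso_fwd iX iP iB δ δ' p p' hc1 hc2 w2 hB (m3 hlft' hlft2) ?_ ?_ (m1.1 h))
    · rw [e3]
      exact hflat
    · rw [e3]
      exact hfp
  · exact K632.FinLocFree.repWith_finLocFreeOfDeg sq hY1
      (hflf (K632.FinLocFree.isFinLocFreeMor_of_deg h)) d h

end Groth.Agent.S10600
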