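import Groth.Statements.S10605
import Groth.Agent.S10534
import Groth.Agent.AlgSp.K628.QCov

set_option autoImplicit false
universe u
open CategoryTheory CategoryTheory.Limits AlgebraicGeometry
open AlgSp

namespace Groth.Agent.S10605

/-- The property of a morphism of algebraic spaces over S of being a thickening (representable, every
base change to a scheme a surjective closed immersion) is local on the base for the fpqc topology.
(The published statement also claims the same for first order thickenings; this row states only the
thickening clause.) -/
theorem result {S : Scheme.{u}} :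
    AlgSp.IsLocalOnBase (S := S) AlgSp.IsFpqcCover
      AlgSp.IsThickMor := by
  intro ι Y Yi g hY hYi hg X f hX Xi p q hXi sq
  constructor
  · intro h i
    exact MorphismProperty.of_isPullback (P := AlgSp.RepWith AlgSp.thick) (sq i) h
  · intro h
    have h1 : AlgSp.RepWith @IsClosedImmersion f :=
      (Groth.Agent.S10534.result S Yi g hY hYi hg f hX Xi p q hXi sq).2
        fun i => ⟨(h i).1, fun T V a fst snd sq' => ((h i).2 a fst snd sq').1⟩
    have h2 : AlgSp.RepWith @Surjective f :=
      K628.Cov.repWith_of_qCov (K628.Cov.qCov_of_isFpqcCover hg) h1.1 sq @Surjective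
        fun i => ⟨(h i).1, fun T V a fst snd sq' => ((h i).2 a fst snd sq').2⟩
    exact ⟨h1.1, fun T V a fst snd sq' => ⟨h1.2 a fst snd sq', h2.2 a fst snd sq'⟩⟩

end Groth.Agent.S10605
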