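import Groth.Statements.S10607
import Groth.Agent.AlgSp.K633.TopInvSp
import Groth.Agent.AlgSp.K617.FinLoc
import Groth.Agent.AlgSp.K597.UnivInj

set_option autoImplicit false
universe u
open CategoryTheory CategoryTheory.Limits AlgebraicGeometry
open AlgSp

namespace Groth.Agent.S10607

/-- Take a morphism f : X ⟶ Y of algebraic spaces over S that is integral, universally injective and
surjective. Then V ↦ X ×_Y V is an equivalence from the category of algebraic spaces etale over Y to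
the category of algebraic spaces etale over X, stated through pullback squares: (full faithfulness)
given V₁', V₂' etale over Y with base changes V₁, V₂ to X, every morphism V₁ ⟶ V₂ over X is the base
change of a unique morphism V₁' ⟶ V₂' over Y; (essential surjectivity) every algebraic space etale
over X is the base change of an algebraic space etale over Y. -/
theorem result {S : Scheme.{u}}
    {X Y : AlgSp.Space S} (f : X ⟶ Y) (h1 : AlgSp.IsIntegralMor f.hom) (h2 : AlgSp.IsUnivInjectiveMor f.hom)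
    (h3 : AlgSp.IsSurjectiveMor f.hom) :
    (∀ (V₁' V₂' V₁ V₂ : AlgSp.Space S) (a₁ : V₁' ⟶ Y) (a₂ : V₂' ⟶ Y) (b₁ : V₁ ⟶ X) (b₂ : V₂ ⟶ X)
        (c₁ : V₁ ⟶ V₁') (c₂ : V₂ ⟶ V₂'),
        AlgSp.IsEtaleMor a₁.hom → AlgSp.IsEtaleMor a₂.hom →
        IsPullback b₁.hom c₁.hom f.hom a₁.hom → IsPullback b₂.hom c₂.hom f.hom a₂.hom →
        ∀ φ : V₁ ⟶ V₂, φ ≫ b₂ = b₁ →
          ∃! φ' : V₁' ⟶ V₂', φ' ≫ a₂ = a₁ ∧ c₁ ≫ φ' = φ ≫ c₂) ∧
    (∀ (V : AlgSp.Space S) (b : V ⟶ X), AlgSp.IsEtaleMor b.hom →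
        ∃ (V' : AlgSp.Space S) (a : V' ⟶ Y) (c : V ⟶ V'),
          AlgSp.IsEtaleMor a.hom ∧ IsPullback b.hom c.hom f.hom a.hom) := by
  have hint : AlgSp.RepWith @IsIntegralHom f.hom := K617.FinLoc.isIntegralMor_iff.1 h1
  have hf : K633.TopInv.UH f.hom := ⟨hint, K597.UnivInj.repWith_of_isUnivInjectiveMor hint.1 h2,
    (K609.Points.repWith_surjective_iff hint.1).2 h3⟩
  refine ⟨?_, ?_⟩
  · intro V₁' V₂' V₁ V₂ a₁ a₂ b₁ b₂ c₁ c₂ ha₁ ha₂ sq₁ sq₂ φ hφ
    have hc : K633.TopInv.UH c₁.hom := hf.of_isPullback sq₁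
    have e : φ.hom ≫ b₂.hom = b₁.hom := congr($(hφ).hom)
    obtain ⟨l, ⟨h4, h5⟩, h6⟩ := K633.TopInv.etMor_space_existsUnique_lift V₂'.property ha₂ V₁'.property hc
      (φ.hom ≫ c₂.hom) a₁.hom (by rw [Category.assoc, ← sq₂.w, reassoc_of% e, sq₁.w])
    refine ⟨⟨l⟩, ⟨?_, ?_⟩, ?_⟩
    · exact ObjectProperty.hom_ext _ h5
    · exact ObjectProperty.hom_ext _ h4
    · rintro l' ⟨h7, h8⟩
      exact ObjectProperty.hom_ext _ (h6 l'.hom ⟨congr($(h8).hom), congr($(h7).hom)⟩)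
  · intro V b hb
    obtain ⟨D⟩ := K633.TopInv.exists_dat hf X.property Y.property V.property hb
    obtain ⟨V', a, c, hV', ha, sq⟩ := D.exists_space hf Y.property
    exact ⟨⟨V', hV'⟩, ⟨a⟩, ⟨c⟩, ha, sq⟩

end Groth.Agent.S10607
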