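import Groth.Statements.S10631
import Groth.Agent.AlgSp.K635.Formal

set_option autoImplicit false
universe u
open CategoryTheory CategoryTheory.Limits AlgebraicGeometry
open AlgSp

namespace Groth.Agent.S10631

/-- Consider morphisms Z ⟶ Y ⟶ X of algebraic spaces over S. If (i : Z ⟶ Z', h' : Z' ⟶ Y) is, over Y, a
universal first order thickening of Z and g : Y ⟶ X is formally etale, then (i, h' ≫ g) is, over X,
a universal first order thickening of Z. -/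
theorem result {S : Scheme.{u}} {Z Z' Y X : AlgSp.Space S} (hZ : Z ⟶ Y) (g : Y ⟶ X)
    (i : Z ⟶ Z') (h' : Z' ⟶ Y) (HU : AlgSp.IsUnivFOThick hZ.hom i.hom h'.hom) (hg : AlgSp.IsFormallyEtaleMor g.hom) :
    AlgSp.IsUnivFOThick (hZ ≫ g).hom i.hom (h' ≫ g).hom := by
  obtain ⟨h1, h2, h3⟩ := HU
  refine ⟨h1, ?_, ?_⟩
  · change i.hom ≫ h'.hom ≫ g.hom = hZ.hom ≫ g.hom
    rw [← Category.assoc, h2]
  · intro T T' hT hT' j a b hj w
    change j ≫ b = a ≫ hZ.hom ≫ g.hom at w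
    obtain ⟨m, ⟨hm1, hm2⟩, hm3⟩ := K635.Formal.space_existsUnique_lift hg hT' hj (a ≫ hZ.hom) b
      (by rw [Category.assoc, w])
    obtain ⟨l, ⟨hl1, hl2⟩, hl3⟩ := h3 hT hT' j a m hj hm1
    refine ⟨l, ⟨hl1, ?_⟩, ?_⟩
    · change l ≫ h'.hom ≫ g.hom = b
      rw [← Category.assoc, hl2, hm2]
    · rintro l' ⟨h4, h5⟩
      change l' ≫ h'.hom ≫ g.hom = b at h5
      refine hl3 l' ⟨h4, hm3 _ ⟨?_, ?_⟩⟩
      · rw [← Category.assoc, h4, Category.assoc, h2]
      · rw [Category.assoc, h5]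


end Groth.Agent.S10631
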