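import Groth.Statements.S10635
import Groth.Agent.AlgSp.K635.InfNbhd
-- import your own Groth.Agent.* helpers here

set_option autoImplicit false
universe u
open CategoryTheory CategoryTheory.Limits AlgebraicGeometry
open AlgSp

namespace Groth.Agent.S10635

/-- Take an immersion i : Z ⟶ X of algebraic spaces over S, written as a closed immersion c : Z ⟶ U
followed by an open immersion u : U ⟶ X, and let (j : Z ⟶ Z₁, k : Z₁ ⟶ U) be the first order
infinitesimal neighbourhood of Z in U. Then (j, k ≫ u) is a universal first order thickening of Z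
over X. -/
theorem result {S : Scheme.{u}} {Z U X Z₁ : AlgSp.Space S} (c : Z ⟶ U)
    (hc : AlgSp.RepWith @IsClosedImmersion c.hom) (u : U ⟶ X) (hu : AlgSp.RepWith @IsOpenImmersion u.hom)
    (j : Z ⟶ Z₁) (k : Z₁ ⟶ U) (hN : AlgSp.IsInfNbhd 1 c.hom j.hom k.hom) :
    AlgSp.IsUnivFOThick (c ≫ u).hom j.hom (k ≫ u).hom := by
  have hu' : RepWith @Etale u.hom := ⟨hu.1, fun V W b fst snd sq ↦ by
    have : IsOpenImmersion snd.left := hu.2 _ _ _ sq
    exact (inferInstance : Etale snd.left)⟩
  exact K635.Univ.comp_formallyEtale (K635.InfNbhd.isUnivFOThick U.property Z₁.property hN)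
    (K635.Formal.isFormallyEtaleMor_of_repWith hu')

end Groth.Agent.S10635
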