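import Groth.Statements.S10651
import Groth.Agent.AlgSp.K636.Collapse
import Groth.Agent.S10650
import Groth.Agent.S9964
import Groth.Agent.S10281

set_option autoImplicit false
universe u
open CategoryTheory CategoryTheory.Limits AlgebraicGeometry
open AlgSp

namespace Groth.Agent.S10651

/-- Consider morphisms h : X ⟶ Y, f : X ⟶ B, g : Y ⟶ B of algebraic spaces over S with h ≫ g = f, a
point b of |B| and a field point k of B in the class of b. Assume f is proper, g is separated and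
locally of finite type, and either (a) for the fibres X_k ⟶ Y_k of h over k (pullbacks in fppf
sheaves) the image of |X_k| in |Y_k| is finite, or (b) the image in |Y| of the fibre of |X| ⟶ |B|
over b is finite and B is decent. Then over some open subspace B' of B containing b the base change
X_{B'} ⟶ Y_{B'} of h lands in a closed subspace Z of Y_{B'} that is finite over B' (it factors
through Z). -/
theorem result {S : Scheme.{u}} {X Y B : AlgSp.Space S} (h : X ⟶ Y) (f : X ⟶ B) (g : Y ⟶ B) (hc : h ≫ g = f)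
    (b : AlgSp.Points B.obj) (k : AlgSp.FieldPt B.obj) (hk : AlgSp.Points.mk k = b)
    (hf : AlgSp.IsProperMor f.hom) (hg1 : AlgSp.IsSeparatedMor g.hom) (hg2 : AlgSp.LocP @LocallyOfFiniteType g.hom)
    (h3 : (∀ (Yk : AlgSp.Sp S) (gY : Yk ⟶ Y.obj) (sY : Yk ⟶ (AlgSp.yon S).obj k.pt),
            IsPullback gY sY g.hom k.toHom →
            ∀ (Xk : AlgSp.Sp S) (gX : Xk ⟶ X.obj) (hk' : Xk ⟶ Yk), IsPullback gX hk' h.hom gY →
              (Set.range (AlgSp.Points.map hk')).Finite) ∨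
          ((AlgSp.Points.map h.hom '' (AlgSp.Points.map f.hom ⁻¹' {b})).Finite ∧ AlgSp.IsDecent B.obj)) :
    ∃ (B' : AlgSp.Space S) (j : B' ⟶ B), AlgSp.RepWith @IsOpenImmersion j.hom ∧
      b ∈ Set.range (AlgSp.Points.map j.hom) ∧
        ∀ (YB : AlgSp.Space S) (gY : YB ⟶ Y) (sY : YB ⟶ B'), IsPullback gY.hom sY.hom g.hom j.hom →
          ∀ (XB : AlgSp.Space S) (gX : XB ⟶ X) (hB : XB ⟶ YB), IsPullback gX.hom hB.hom h.hom gY.hom →
            ∃ (Z : AlgSp.Space S) (i : Z ⟶ YB) (e : XB ⟶ Z), AlgSp.RepWith @IsClosedImmersion i.hom ∧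
              AlgSp.IsFiniteMor (i ≫ sY).hom ∧ e ≫ i = hB := by
  subst hc
  obtain ⟨Z₀, i₀, hZ⟩ := Groth.Agent.S9964.result h
  have hi := hZ.1
  obtain ⟨h₀, fac₀⟩ := hZ.2.1
  let h' : X ⟶ Z₀ := ObjectProperty.homMk h₀
  have fac : h' ≫ i₀ = h := by ext1; exact fac₀
  obtain ⟨hp, hs⟩ := Groth.Agent.S10281.result h (h ≫ g) g rfl hf hg1 hg2 i₀ hZ h' fac
  have key : ∃ k' : FieldPt B.obj, Points.mk k' = b ∧ K636.Collapse.FinImage h g k' := by
    rcases h3 with h3 | ⟨h3, hB⟩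
    · exact ⟨k, hk, h3⟩
    · obtain ⟨k', hk', hm, -⟩ := hB b
      exact ⟨k', hk', K636.Collapse.finImage_of_mono h (h ≫ g) g rfl b h3 k' hk'⟩
  obtain ⟨k', hk', hfin⟩ := key
  obtain ⟨V, j, hj, hb, hV⟩ := Groth.Agent.S10650.result (i₀ ≫ g) b hp fun z hz =>
    K636.Collapse.mem_qfSet h g k' hfin i₀ hi h' fac hs hp.1 hp.2.1.1 z (hz.trans hk'.symm)
  refine ⟨V, j, hj, hb, fun YB gY sY sqY XB gX hB sqX => ?_⟩
  obtain ⟨ZB, gZ, iB, sqZ⟩ := K636.Where.exists_isPullback i₀ gY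
  refine ⟨ZB, iB, ObjectProperty.homMk (sqZ.lift (gX.hom ≫ h₀) hB.hom ?_),
    MorphismProperty.of_isPullback (P := RepWith _) sqZ hi, ?_, ?_⟩
  · rw [Category.assoc, fac₀]
    exact sqX.w
  · exact hV ZB gZ (iB ≫ sY) (sqZ.paste_vert sqY)
  · ext1
    exact sqZ.lift_snd _ _ _

end Groth.Agent.S10651
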