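import Groth.Statements.S10653
import Groth.Agent.AlgSp.K637.OpenRestr
import Groth.Agent.AlgSp.K598.Dens
import Groth.Agent.AlgSp.K603.Points
import Groth.Agent.AlgSp.K616.DimInv
import Groth.Agent.AlgSp.K596.QC
import Groth.Agent.AlgSp.K597.EtLoc
import Groth.Agent.S1240

set_option autoImplicit false
universe u
open CategoryTheory CategoryTheory.Limits AlgebraicGeometry
open AlgSp

namespace Groth.Agent.S10653

/-- For a flat morphism f : X ⟶ Y of algebraic spaces over S which is locally of finite type, and an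
open subspace j : V ⟶ Y with |V| dense in |Y| such that the base change X ×_Y V ⟶ V has relative
dimension at most d (at every point some etale chart diagram has top arrow with local fibre
dimension at most d): if either j is quasi-compact or f is locally of finite presentation, then f
has relative dimension at most d at every point of |X|. -/
theorem result {S : Scheme.{u}} {X Y V : AlgSp.Space S} (f : X ⟶ Y) (j : V ⟶ Y) (d : ℕ)
    (hf1 : AlgSp.LocP @Flat f.hom) (hf2 : AlgSp.LocP @LocallyOfFiniteType f.hom)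
    (hj1 : AlgSp.RepWith @IsOpenImmersion j.hom) (hj2 : Dense (Set.range (AlgSp.Points.map j.hom)))
    (P : AlgSp.Space S) (fst : P ⟶ X) (snd : P ⟶ V) (hP : IsPullback fst.hom snd.hom f.hom j.hom)
    (hV : ∀ x, AlgSp.HasAtMor (fun _ _ h u => FlatMor.fibreDimAt h u ≤ (d : WithBot ℕ∞)) snd.hom x)
    (h : AlgSp.LocP @LocallyOfFinitePresentation f.hom ∨ AlgSp.IsQuasiCompactMor j.hom) :
    ∀ x, AlgSp.HasAtMor (fun _ _ h u => FlatMor.fibreDimAt h u ≤ (d : WithBot ℕ∞)) f.hom x := by
  obtain ⟨Y₀, φ, hφ, hφs⟩ := Y.property.atlas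
  obtain ⟨W, hW⟩ := K598.Dens.exists_isPre hj1 φ
  have hdense : Dense (W : Set Y₀.left) := by
    rw [← hW.preimage]
    exact hj2.preimage (K603.Points.isOpenMap_ofPt_of_etale φ hφ)
  obtain ⟨w, sqW⟩ := hW
  obtain ⟨U₀, a₀, ha₀, has₀⟩ := X.property.atlas
  obtain ⟨U, a, h', ha, has, hh⟩ := K597.exists_chart_over f.hom a₀ ha₀ has₀ φ hφ hφs
  have h1 : LocallyOfFiniteType h'.left := hf2 a φ h' ha hφ hh
  have h2 : Flat h'.left := hf1 a φ h' ha hφ hh
  have hbc : LocP @LocallyOfFiniteType snd.hom :=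
    K597.locP_bc K597.etLoc_lft hP X.property.hasAtlas Y.property.hasAtlas V.property.hasAtlas hf2
  obtain ⟨α, hα, hα2⟩ := K637.OpenRestr.exists_restr (W := W) (w := w) hP hh sqW
  have hαe : RepWith @Etale α := MorphismProperty.of_isPullback (P := RepWith @Etale) hα ha
  have hwe : RepWith @Etale w := MorphismProperty.of_isPullback (P := RepWith @Etale) sqW.flip hφ
  have hle : ∀ u : U.left, h'.left u ∈ W → FlatMor.fibreDimAt h'.left u ≤ d := by
    intro u hu
    have h3 := hV (Points.ofPt α (⟨u, hu⟩ : (h'.left ⁻¹ᵁ W : U.left.Opens)))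
    rw [K616.Inv.hasAtMor_iff (K616.DimInv.etInvOn_fibreDimAt fun r => r ≤ (d : WithBot ℕ∞)) hbc α w
      (K637.OpenRestr.oph h' W) hαe hwe hα2] at h3
    have h4 := K616.DimInv.fibreDimAt_square h'.left (h'.left ∣_ W) (h'.left ⁻¹ᵁ W).ι W.ι
      (morphismRestrict_ι _ _).symm ⟨u, hu⟩
    change FlatMor.fibreDimAt (h'.left ∣_ W) ⟨u, hu⟩ ≤ _ at h3
    rw [← h4] at h3
    exact h3
  have hor : LocallyOfFinitePresentation h'.left ∨ IsRetrocompact (W : Set Y₀.left) := by
    rcases h with h | h
    · exact Or.inl (h a φ h' ha hφ hh)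
    · right
      have hjq : RepWith @QuasiCompact j.hom := K596.QC.repWith_of_isQuasiCompactMor hj1.1 h
      have hWq : QuasiCompact W.ι := hjq.2 φ w _ sqW
      exact IsRetrocompact_iff_isSpectralMap_subtypeVal.mpr W.ι.isSpectralMap
  intro x
  obtain ⟨u, rfl⟩ := K616.Refine.ofPt_surjective a has x
  exact ⟨U, Y₀, a, φ, h', u, ha, hφ, hh, rfl, Groth.Agent.S1240.result h'.left W hdense d hle hor u⟩

end Groth.Agent.S10653
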