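import Groth.Statements.S10659
import Groth.Agent.AlgSp.K637.EtTarget

set_option autoImplicit false
universe u
open CategoryTheory CategoryTheory.Limits AlgebraicGeometry
open AlgSp

namespace Groth.Agent.S10659

/-- For a property P of morphisms of schemes that is etale local on the target (local for the etale
precoverage) and a representable morphism f : X ⟶ Y of algebraic spaces over S: if for one scheme V
with a representable etale surjective b : h_V ⟶ Y and one pullback square of f along b with corner
h_W the projection W ⟶ V has P, then f has P etale locally on the target in the representable sense,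
i.e. every such projection along every etale h_V ⟶ Y has P. (The published statement also asserts
the converse direction and that, for X and Y representable, the condition is equivalent to f having
P; this row states only that one surjective etale chart suffices.) -/
theorem result {S : Scheme.{u}} (P : MorphismProperty Scheme.{u}) [P.IsLocalAtTarget Scheme.etalePrecoverage]
    {X Y : AlgSp.Space S} (f : X ⟶ Y) (hf : AlgSp.Representable f.hom)
    {V W : Over S} (b : (AlgSp.yon S).obj V ⟶ Y.obj) (hb1 : AlgSp.RepWith @Etale b) (hb2 : AlgSp.RepWith @Surjective b)
    (fst : (AlgSp.yon S).obj W ⟶ X.obj) (snd : W ⟶ V)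
    (sq : IsPullback fst ((AlgSp.yon S).map snd) f.hom b) (hP : P snd.left) :
    AlgSp.RepLocT P f.hom := by
  refine ⟨hf, fun V' W' b' fst' snd' hb' sq' => ?_⟩
  -- `T = V ×_Y V'`
  obtain ⟨T, q, p0, sqT⟩ := hb1.1 b'
  obtain ⟨p, rfl⟩ := (yon S).map_surjective p0
  have hq1 : Etale q.left := hb1.2 _ _ _ sqT
  have hq2 : Surjective q.left := hb2.2 _ _ _ sqT
  have hp1 : Etale p.left := hb'.2 b ((yon S).map q) p sqT.flip
  obtain ⟨W'', π, α, α', s1, s2, -⟩ := K637.EtTarget.exists_common f.hom b fst snd sq b' fst' snd' sq' p q sqT.w
  have h1 : P π.left := K637.EtTarget.of_isPullback_etale P (K637.EtTarget.isPullback_left s1) hp1 hP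
  exact K637.EtTarget.of_isPullback_etale_surjective P (K637.EtTarget.isPullback_left s2) hq1 hq2 h1

end Groth.Agent.S10659
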