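import Groth.Statements.S10661
import Groth.Agent.AlgSp.K637.RegImmKinds
import Groth.Agent.AlgSp.K621.Charts
import Groth.Agent.Nrm16.K136.QuasiRegNoeth
import Groth.Agent.Flat2H.KoszulBC

set_option autoImplicit false
universe u
open CategoryTheory CategoryTheory.Limits AlgebraicGeometry
open AlgSp

namespace Groth.Agent.S10661

theorem koszul_of_quasi {X Z : Scheme.{u}} [IsLocallyNoetherian X] {i : Z ⟶ X}
    (h : RegImm.IsRegularImmersion RegImm.Kind.quasi i) : RegImm.IsRegularImmersion RegImm.Kind.koszul i :=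
  K637.RegImmKinds.isRegularImmersion_of_seq (k := .regular) (k' := .koszul)
    (fun hrs => Groth.Agent.Flat2H.KoszulBC.isKoszulRegularSeq_of_isWeaklyRegular
      (RingTheory.Sequence.IsRegular.toIsWeaklyRegular hrs))
    (K136.QuasiRegNoeth.isRegularImmersion_regular_of_quasi i h)

/-- For an immersion i : Z ⟶ X of algebraic spaces over S with X locally Noetherian (some etale
surjective chart is a locally Noetherian scheme), the three conditions Koszul-regular immersion,
H_1-regular immersion and quasi-regular immersion on i are equivalent. -/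
theorem result {S : Scheme.{u}} {Z X : AlgSp.Space S} (i : Z ⟶ X) (hi : AlgSp.RepWith @IsImmersion i.hom)
    (hX : AlgSp.IsLocNoethSp X.obj) :
    (AlgSp.IsRegImmMor RegImm.Kind.koszul i.hom ↔ AlgSp.IsRegImmMor RegImm.Kind.h1 i.hom) ∧
      (AlgSp.IsRegImmMor RegImm.Kind.h1 i.hom ↔ AlgSp.IsRegImmMor RegImm.Kind.quasi i.hom) := by
  have h1 : AlgSp.IsRegImmMor RegImm.Kind.koszul i.hom → AlgSp.IsRegImmMor RegImm.Kind.h1 i.hom :=
    fun h => ⟨h.1, fun V W b fst snd hb sq =>
      K637.RegImmKinds.isRegularImmersion_of_seq K637.RegImmKinds.seq_h1_of_koszul (h.2 b fst snd hb sq)⟩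
  have h2 : AlgSp.IsRegImmMor RegImm.Kind.h1 i.hom → AlgSp.IsRegImmMor RegImm.Kind.quasi i.hom :=
    fun h => ⟨h.1, fun V W b fst snd hb sq =>
      K637.RegImmKinds.isRegularImmersion_of_seq K637.RegImmKinds.seq_quasi_of_h1 (h.2 b fst snd hb sq)⟩
  have h3 : AlgSp.IsRegImmMor RegImm.Kind.quasi i.hom → AlgSp.IsRegImmMor RegImm.Kind.koszul i.hom :=
    fun h => ⟨h.1, fun V W b fst snd hb sq => by
      have := K621.Charts.isLocallyNoetherian_chart hX hb
      exact koszul_of_quasi (h.2 b fst snd hb sq)⟩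
  exact ⟨⟨h1, fun h => h3 (h2 h)⟩, ⟨h2, fun h => h1 (h3 h)⟩⟩

end Groth.Agent.S10661
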