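import Groth.Statements.S10662
import Groth.Agent.AlgSp.K637.RegDesc
import Groth.Agent.AlgSp.K637.EtTarget
import Groth.Agent.AlgSp.K629.Basic

set_option autoImplicit false
universe u
open CategoryTheory CategoryTheory.Limits AlgebraicGeometry
open AlgSp

namespace Groth.Agent.S10662

/-- Let k be one of the kinds Koszul-regular, H_1-regular, quasi-regular; let i : Z ⟶ X be a regular
immersion of algebraic spaces over S of kind k and g : X' ⟶ X a flat morphism of algebraic spaces.
Then the base change Z ×_X X' ⟶ X' (any pullback square of algebraic spaces) is a regular immersion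
of kind k. -/
theorem result {S : Scheme.{u}} (k : RegImm.Kind) (hk : k = RegImm.Kind.koszul ∨ k = RegImm.Kind.h1 ∨ k = RegImm.Kind.quasi)
    {Z X X' : AlgSp.Space S} (i : Z ⟶ X) (g : X' ⟶ X)
    (hi : AlgSp.IsRegImmMor k i.hom) (hg : AlgSp.LocP @Flat g.hom)
    (P : AlgSp.Space S) (fst : P ⟶ Z) (i' : P ⟶ X') (sq : IsPullback fst.hom i'.hom i.hom g.hom) :
    AlgSp.IsRegImmMor k i'.hom := by
  have hk' : k ≠ RegImm.Kind.regular := by rcases hk with rfl | rfl | rfl <;> simp
  refine ⟨MorphismProperty.of_isPullback (P := Representable) sq hi.1, fun V' W' b' fst' snd' hb' sq' => ?_⟩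
  obtain ⟨U, u, hu, hus⟩ := X.property.atlas
  obtain ⟨W, s, t, sqW⟩ := hi.1 u
  have hs : RegImm.IsRegularImmersion k s.left := hi.2 u t s hu sqW
  obtain ⟨T, p, q, sqT, hq⟩ := K629.Basic.exists_pb_yon hu (b' ≫ g.hom)
  have hqs : Surjective q.left := hus.2 _ _ _ sqT
  have hp : Flat p.left := hg ((yon S).map q ≫ b') u p (K629.Basic.repWith_etale_yon_comp hq hb') hu (by
    rw [Category.assoc]; exact sqT.w.symm)
  obtain ⟨W'', π, α, α', s1, s2, -⟩ := K637.EtTarget.exists_common i.hom u t s sqW (b' ≫ g.hom)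
    (fst' ≫ fst.hom) snd' (sq'.paste_horiz sq) p q sqT.w
  have h1 : RegImm.IsRegularImmersion k π.left :=
    K637.RegOps.isRegularImmersion_baseChange hk' (K637.EtTarget.isPullback_left s1) hs
  have hq' : Etale q.left := hq
  exact K637.RegDesc.of_isPullback hk' (K637.EtTarget.isPullback_left s2) h1

end Groth.Agent.S10662
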