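import Groth.Statements.S10663
import Groth.Agent.AlgSp.K637.RepComp
import Groth.Agent.AlgSp.K637.RegComp

set_option autoImplicit false
universe u
open CategoryTheory CategoryTheory.Limits AlgebraicGeometry
open AlgSp

namespace Groth.Agent.S10663

theorem aux {S : Scheme.{u}} {k k' : RegImm.Kind}
    (hcomp : ∀ {X Y Z : Scheme.{u}} {i : Z ⟶ Y} {j : Y ⟶ X}, RegImm.IsRegularImmersion k' i →
      RegImm.IsRegularImmersion k j → RegImm.IsRegularImmersion k (i ≫ j))
    {Z Y X : AlgSp.Space S} (i : Z ⟶ Y) (j : Y ⟶ X) (hi : AlgSp.IsRegImmMor k' i.hom)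
    (hj : AlgSp.IsRegImmMor k j.hom) : AlgSp.IsRegImmMor k (i ≫ j).hom := by
  refine ⟨MorphismProperty.comp_mem Representable _ _ hi.1 hj.1, fun V W b fst snd hb sq => ?_⟩
  obtain ⟨V₁, y, s₂, s₁, sq1, sq2, rfl⟩ := K637.RepComp.exists_factor (f := i.hom) (g := j.hom) hj.1 sq
  have hy := K637.RepComp.etale_of_isPullback sq1 hb
  have h1 : RegImm.IsRegularImmersion k' s₁.left := hi.2 y fst s₁ hy sq2
  have h2 : RegImm.IsRegularImmersion k s₂.left := hj.2 b y s₂ hb sq1
  exact hcomp h1 h2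

/-- For immersions i : Z ⟶ Y and j : Y ⟶ X of algebraic spaces over S, the composite i ≫ j is
Koszul-regular when i and j both are; likewise for H_1-regular; and it is quasi-regular when i is
H_1-regular and j quasi-regular. -/
theorem result {S : Scheme.{u}} {Z Y X : AlgSp.Space S} (i : Z ⟶ Y) (j : Y ⟶ X)
    (hi : AlgSp.RepWith @IsImmersion i.hom) (hj : AlgSp.RepWith @IsImmersion j.hom) :
    (AlgSp.IsRegImmMor RegImm.Kind.koszul i.hom → AlgSp.IsRegImmMor RegImm.Kind.koszul j.hom →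
        AlgSp.IsRegImmMor RegImm.Kind.koszul (i ≫ j).hom) ∧
      (AlgSp.IsRegImmMor RegImm.Kind.h1 i.hom → AlgSp.IsRegImmMor RegImm.Kind.h1 j.hom →
        AlgSp.IsRegImmMor RegImm.Kind.h1 (i ≫ j).hom) ∧
      (AlgSp.IsRegImmMor RegImm.Kind.h1 i.hom → AlgSp.IsRegImmMor RegImm.Kind.quasi j.hom →
        AlgSp.IsRegImmMor RegImm.Kind.quasi (i ≫ j).hom) :=
  ⟨aux K637.RegComp.isRegularImmersion_comp_koszul i j, aux K637.RegComp.isRegularImmersion_comp_h1 i j,
    aux K637.RegComp.isRegularImmersion_comp_quasi i j⟩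

end Groth.Agent.S10663
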