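import Groth.Statements.S10664
import Groth.Agent.AlgSp.K637.RegDesc
import Groth.Agent.AlgSp.K637.EtTarget
import Groth.Agent.AlgSp.K637.EtLocLci
import Groth.Agent.AlgSp.K629.Basic
import Groth.Agent.S8656

set_option autoImplicit false
universe u
open CategoryTheory CategoryTheory.Limits AlgebraicGeometry
open AlgSp

namespace Groth.Agent.S10664

/-- For a local complete intersection (Koszul) morphism f : X ⟶ Y of algebraic spaces over S, a smooth g
: P ⟶ Y, an etale e : U ⟶ X and a representable immersion i : U ⟶ P with i ≫ g = e ≫ f, the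
immersion i is Koszul-regular as an immersion of algebraic spaces. -/
theorem result {S : Scheme.{u}} {X Y P U : AlgSp.Space S} (f : X ⟶ Y) (g : P ⟶ Y) (e : U ⟶ X) (i : U ⟶ P)
    (hc : i ≫ g = e ≫ f) (hf : AlgSp.IsLCIMor f.hom) (hg : AlgSp.LocP @Smooth g.hom)
    (he : AlgSp.IsEtaleMor e.hom) (hi : AlgSp.RepWith @IsImmersion i.hom) :
    AlgSp.IsRegImmMor RegImm.Kind.koszul i.hom := by
  refine ⟨hi.1, fun V W b fst snd hb sq => ?_⟩
  have hc' : i.hom ≫ g.hom = e.hom ≫ f.hom := congrArg (fun φ => φ.hom) hc
  have himm : IsImmersion snd.left := hi.2 b fst snd sq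
  obtain ⟨Y₀, y, hy, hys⟩ := Y.property.atlas
  -- `V' = V ×_Y Y₀`
  obtain ⟨V', p, q, sqV, hq⟩ := K629.Basic.exists_pb_yon hy (b ≫ g.hom)
  have hqs : Surjective q.left := hys.2 _ _ _ sqV
  have hp : Smooth p.left := hg ((yon S).map q ≫ b) y p (K629.Basic.repWith_etale_yon_comp hq hb) hy (by
    rw [Category.assoc]; exact sqV.w.symm)
  -- `W' = W ×_V V'`
  have sqW : IsPullback (pullback.fst snd q) (pullback.snd snd q) snd q := IsPullback.of_hasPullback _ _
  have sqW' := K637.EtTarget.isPullback_left sqW
  have hW1 : Etale (pullback.fst snd q).left := MorphismProperty.of_isPullback (P := @Etale) sqW'.flip hq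
  have hW2 : IsImmersion (pullback.snd snd q).left := MorphismProperty.of_isPullback (P := @IsImmersion) sqW' himm
  have hfst : RepWith @Etale fst := MorphismProperty.of_isPullback (P := RepWith @Etale) sq.flip hb
  have ha : RepWith @Etale (((yon S).map (pullback.fst snd q) ≫ fst) ≫ e.hom) :=
    he _ (K629.Basic.repWith_etale_yon_comp hW1 hfst)
  have hlci : AlgSp.lci ((pullback.snd snd q).left ≫ p.left) := by
    rw [← Over.comp_left]
    refine hf (((yon S).map (pullback.fst snd q) ≫ fst) ≫ e.hom) y (pullback.snd snd q ≫ p) ha hy ?_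
    rw [Category.assoc, Category.assoc, ← hc', ← Category.assoc fst, sq.w, Functor.map_comp, Category.assoc,
      Category.assoc, sqV.w, ← Category.assoc, ← Functor.map_comp, sqW.w, Functor.map_comp, Category.assoc]
  have h1 : RegImm.IsRegularImmersion .koszul (pullback.snd snd q).left :=
    Groth.Agent.S8656.result _ hlci p.left (pullback.snd snd q).left rfl
  have hq' : Etale q.left := hq
  exact K637.RegDesc.of_isPullback (by simp) sqW' h1

end Groth.Agent.S10664
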