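import Groth.Statements.S10665
import Groth.Agent.AlgSp.K637.EtLocLci
import Groth.Agent.AlgSp.K629.Basic

set_option autoImplicit false
universe u
open CategoryTheory CategoryTheory.Limits AlgebraicGeometry
open AlgSp

namespace Groth.Agent.S10665

/-- A Koszul-regular immersion between algebraic spaces over S (representable, Koszul-regular immersion
on every etale scheme chart of the target) is a local complete intersection morphism (Koszul at
every point, etale locally on source and target). -/
theorem result {S : Scheme.{u}} {X Y : AlgSp.Space S} (i : X ⟶ Y) (hi : AlgSp.IsRegImmMor RegImm.Kind.koszul i.hom) :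
    AlgSp.IsLCIMor i.hom := by
  intro U V a b h ha hb comm
  obtain ⟨W, s, t, sq⟩ := hi.1 b
  have hs : RegImm.IsRegularImmersion RegImm.Kind.koszul s.left := hi.2 b t s hb sq
  obtain ⟨k, hk⟩ := (yon S).map_surjective (sq.lift a ((yon S).map h) comm)
  have ht : RepWith @Etale t := MorphismProperty.of_isPullback (P := RepWith @Etale) sq.flip hb
  have h1 : (yon S).map k ≫ t = a := by rw [hk]; exact sq.lift_fst _ _ _
  have h2 : k ≫ s = h := by
    apply (yon S).map_injective
    rw [Functor.map_comp, hk]
    exact sq.lift_snd _ _ _
  have hke : Etale k.left := K629.Basic.etale_of_comp k t ht (by rw [h1]; exact ha)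
  rw [← h2, Over.comp_left, K637.EtLocLci.lci_iff]
  exact K561.LciDict.LM_comp (K561.LciDict.LM_smooth k.left)
    ((K561.RegImmDict.isRegularImmersion_koszul_iff s.left).1 hs).2

end Groth.Agent.S10665
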