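import Groth.Statements.S10667
import Groth.Agent.AlgSp.K637.EtLocLci
import Groth.Agent.AlgSp.K637.FpqcLocal

set_option autoImplicit false
universe u
open CategoryTheory CategoryTheory.Limits AlgebraicGeometry
open AlgSp

namespace Groth.Agent.S10667

theorem fpqcLoc_lci : K637.FpqcLocal.FpqcLoc AlgSp.lci.{u} where
  etLoc := K637.EtLocLci.etLoc_lci
  target := by
    have h : (AlgSp.lci.{u}) = Groth.Agent.Dual.H375.LciLocus.LM := by
      ext X Y f
      exact K637.EtLocLci.lci_iff f
    rw [h]
    infer_instance
  bc sq hg hf := by
    rw [K637.EtLocLci.lci_iff] at hf ⊢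
    exact K561.LciDict.LM_flatBaseChange sq hf
  desc sq hg hs hq hf := by
    rw [K637.EtLocLci.lci_iff] at hf ⊢
    exact K561.LciDict.LM_descends sq hf

/-- The property of being a local complete intersection morphism of algebraic spaces over S is fpqc
local on the base: for an fpqc covering of an algebraic space Y by algebraic spaces Y_i and pullback
squares X_i = X ×_Y Y_i, a morphism f : X ⟶ Y is a local complete intersection morphism if and only
if every base change X_i ⟶ Y_i is. -/
theorem result {S : Scheme.{u}} : AlgSp.IsLocalOnBase (AlgSp.IsFpqcCover (S := S)) AlgSp.IsLCIMor :=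
  K637.FpqcLocal.isLocalOnBase fpqcLoc_lci

end Groth.Agent.S10667
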