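import Groth.Statements.S10669
import Groth.Agent.AlgSp.K638.RedDvr
import Groth.Agent.AlgSp.K638.RedSp
import Groth.Agent.Models.DVRGeneric2

set_option autoImplicit false
universe u
open CategoryTheory CategoryTheory.Limits AlgebraicGeometry
open AlgSp

namespace Groth.Agent.S10669

/-- For a discrete valuation ring R with residue field κ and fraction field K and an algebraic space X
over Spec R whose structure morphism s (to the terminal sheaf h_{Spec R}) is flat and proper: if the
special fibre X ×_{Spec R} Spec κ is reduced (some etale surjective scheme chart is reduced), then X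
is reduced and so is the generic fibre X ×_{Spec R} Spec K. -/
theorem result (R : Type u) [CommRing R] [IsDomain R] [IsDiscreteValuationRing R]
    {X : AlgSp.Space (Spec (CommRingCat.of R))}
    (s : X.obj ⟶ (AlgSp.yon (Spec (CommRingCat.of R))).obj (Over.mk (𝟙 _)))
    (hs1 : AlgSp.IsProperMor s) (hs2 : AlgSp.LocP @Flat s)
    (h0 : ∀ (X0 : AlgSp.Sp (Spec (CommRingCat.of R))) (fst : X0 ⟶ X.obj)
      (snd : X0 ⟶ (AlgSp.yon (Spec (CommRingCat.of R))).obj
        (Over.mk (Spec.map (CommRingCat.ofHom (IsLocalRing.residue R))))),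
      IsPullback fst snd s ((AlgSp.yon (Spec (CommRingCat.of R))).map
        (Over.homMk (Spec.map (CommRingCat.ofHom (IsLocalRing.residue R))) (Category.comp_id _) :
          Over.mk (Spec.map (CommRingCat.ofHom (IsLocalRing.residue R))) ⟶ Over.mk (𝟙 _))) →
      AlgSp.EtaleLocally (fun U => IsReduced U) X0) :
    AlgSp.EtaleLocally (fun U => IsReduced U) X.obj ∧
      ∀ (Xη : AlgSp.Sp (Spec (CommRingCat.of R))) (fst : Xη ⟶ X.obj)
        (snd : Xη ⟶ (AlgSp.yon (Spec (CommRingCat.of R))).obj
          (Over.mk (Spec.map (CommRingCat.ofHom (algebraMap R (FractionRing R)))))),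
        IsPullback fst snd s ((AlgSp.yon (Spec (CommRingCat.of R))).map
          (Over.homMk (Spec.map (CommRingCat.ofHom (algebraMap R (FractionRing R)))) (Category.comp_id _) :
            Over.mk (Spec.map (CommRingCat.ofHom (algebraMap R (FractionRing R)))) ⟶ Over.mk (𝟙 _))) →
        AlgSp.EtaleLocally (fun U => IsReduced U) Xη := by
  obtain ⟨U, p, hp⟩ := K613.Chart.exists_ch X.property
  obtain ⟨α, hα⟩ := (yon _).map_surjective (p ≫ s)
  have hflat : Flat α.left := hs2 p (𝟙 _) α hp.et (repWith_id _ _) (by rw [Category.comp_id, hα])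
  have hlft : LocallyOfFiniteType α.left :=
    hs1.2.1.1 p (𝟙 _) α hp.et (repWith_id _ _) (by rw [Category.comp_id, hα])
  -- the special fibre of the chart is reduced
  have hred0 : IsReduced (pullback α.left (Spec.map (CommRingCat.ofHom (IsLocalRing.residue R)))) := by
    obtain ⟨U', a, b, p', sq1, sq2, -⟩ := K638.RedSp.exists_bc_chart
      (IsPullback.of_hasPullback s ((AlgSp.yon (Spec (CommRingCat.of R))).map
        (Over.homMk (Spec.map (CommRingCat.ofHom (IsLocalRing.residue R))) (Category.comp_id _) :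
          Over.mk (Spec.map (CommRingCat.ofHom (IsLocalRing.residue R))) ⟶ Over.mk (𝟙 _)))) p hα.symm
    have h1 : IsReduced U'.left := K638.RedSp.isReduced_of_etaleLocally
      (h0 _ _ _ (IsPullback.of_hasPullback _ _)) (MorphismProperty.of_isPullback sq2.flip hp.et)
    have h2 := sq1.map (Over.forget _)
    have h3 : IsReduced ((Over.forget _).obj U') := h1
    exact isReduced_of_isOpenImmersion h2.isoPullback.inv
  -- all points of the chart lie over points of reduced schemes
  have key : ∀ x : Points X.obj, ∃ (Z : Scheme.{u}) (g : Z ⟶ U.left) (z : Z), IsOpenImmersion g ∧ IsReduced Z ∧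
      Points.ofPt p (g z) = x := by
    by_contra hcon
    push Not at hcon
    let T : Set (Points X.obj) := {x | ∀ (Z : Scheme.{u}) (g : Z ⟶ U.left) (z : Z), IsOpenImmersion g →
      IsReduced Z → Points.ofPt p (g z) ≠ x}
    obtain ⟨x₁, hx₁⟩ := hcon
    have hTc : IsClosed T := by
      rw [← isOpen_compl_iff]
      have : Tᶜ = ⋃ (Z : Scheme.{u}) (g : Z ⟶ U.left) (_ : IsOpenImmersion g) (_ : IsReduced Z),
          Points.ofPt p '' Set.range g := by
        ext x
        simp only [T, Set.mem_compl_iff, Set.mem_ofPred_eq, not_forall, Set.mem_iUnion, Set.mem_image, Set.mem_range,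
          exists_exists_eq_and, not_not]
        constructor
        · rintro ⟨Z, g, z, h1, h2, h3⟩
          exact ⟨Z, g, h1, h2, z, h3⟩
        · rintro ⟨Z, g, h1, h2, z, h3⟩
          exact ⟨Z, g, z, h1, h2, h3⟩
      rw [this]
      refine isOpen_iUnion fun Z => isOpen_iUnion fun g => isOpen_iUnion fun hg => isOpen_iUnion fun _ => ?_
      exact K609.Points.isOpenMap_ofPt hp.et _ g.isOpenEmbedding.isOpen_range
    have hsc : IsClosedMap (Points.map s) := hs1.2.2 (IsAlgSpace.yon_obj _) (𝟙 _) (𝟙 _) s (IsPullback.of_id_fst)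
    have h1 : IsClosed (Points.ofScheme (Over.mk (𝟙 (Spec (CommRingCat.of R)))) ⁻¹' (Points.map s '' T)) :=
      (hsc _ hTc).preimage (Points.continuous_ofPt _)
    obtain ⟨r₁, hr₁⟩ := K609.Points.ofScheme_surjective _ (Points.map s x₁)
    have h2 : (IsLocalRing.closedPoint R : ↥(Over.mk (𝟙 (Spec (CommRingCat.of R)))).left) ∈
        (Points.ofScheme (Over.mk (𝟙 (Spec (CommRingCat.of R)))) ⁻¹' (Points.map s '' T)) :=
      (IsLocalRing.specializes_closedPoint (R := R) r₁).mem_closed h1 ⟨x₁, fun Z g z h3 h4 => hx₁ Z g z h3 h4, hr₁.symm⟩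
    obtain ⟨x, hxT, hx⟩ := h2
    obtain ⟨u, rfl⟩ := K609.Points.surjective_ofPt_of_repWith_surjective hp.surj x
    have hu : α.left u = IsLocalRing.closedPoint R := by
      rw [Points.map_ofPt, ← hα, K609.Points.ofPt_yon_map] at hx
      exact K609.Points.ofScheme_injective _ hx
    obtain ⟨Z, g, hg, ⟨z, hz⟩, hZ⟩ := K638.RedDvr.exists_reduced_nhd α.left hred0 u hu
    exact hxT Z g z hg hZ (by rw [hz])
  have hUred : IsReduced U.left := by
    refine K638.RedSp.isReduced_of_points hp.et fun u => ?_
    obtain ⟨Z, g, z, hg, hZ, e⟩ := key (Points.ofPt p u)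
    refine ⟨Over.mk (g ≫ U.hom), (yon _).map (Over.homMk g) ≫ p, z, ?_, hZ, ?_⟩
    · refine MorphismProperty.comp_mem _ _ _ ((repWith_yon_map_iff _ _).2 ?_) hp.et
      change Etale g
      infer_instance
    · rw [K609.Points.ofPt_yon_map_comp]
      exact e
  refine ⟨⟨U, p, hp.et, hp.surj, hUred⟩, fun Xη fst snd sq => ?_⟩
  obtain ⟨U', a, b, p', sq1, sq2, -⟩ := K638.RedSp.exists_bc_chart sq p hα.symm
  refine ⟨U', p', MorphismProperty.of_isPullback sq2.flip hp.et, MorphismProperty.of_isPullback sq2.flip hp.surj, ?_⟩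
  have h3 : IsOpenImmersion a.left :=
    Groth.Agent.Models.DVRGeneric.isOpenImmersion_of_isPullback (R := R) (K := FractionRing R) (sq1.map (Over.forget _))
  exact isReduced_of_isOpenImmersion a.left

end Groth.Agent.S10669
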