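import Groth.Statements.S10670
import Groth.Agent.AlgSp.K638.GeomConn

set_option autoImplicit false
universe u
open CategoryTheory CategoryTheory.Limits AlgebraicGeometry
open AlgSp

namespace Groth.Agent.S10670

/-- For morphisms f : X ⟶ Y and g : Y' ⟶ Y between algebraic spaces over S, f' : X' ⟶ Y' the base change
of f along g, an algebraically closed field point k' of Y' and an algebraically closed field point k
of Y whose class in |Y| is the image of the class of k', the fibres X'_{k'} and X_k (pullbacks in
fppf sheaves) have the same number of connected components of their spaces of points, counted in ℕ∞.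
With g the identity this says the number of geometric connected components of the fibre over a point
of |Y| is well defined. -/
theorem result {S : Scheme.{u}} {X Y X' Y' : AlgSp.Space S} (f : X ⟶ Y) (g : Y' ⟶ Y) (gX : X' ⟶ X) (f' : X' ⟶ Y')
    (hsq : IsPullback gX.hom f'.hom f.hom g.hom)
    (k' : AlgSp.FieldPt Y'.obj) (hk' : k'.IsGeometric) (k : AlgSp.FieldPt Y.obj) (hk : k.IsGeometric)
    (hkk : AlgSp.Points.mk k = AlgSp.Points.map g.hom (AlgSp.Points.mk k'))
    (Xk' : AlgSp.Sp S) (a' : Xk' ⟶ X'.obj) (b' : Xk' ⟶ (AlgSp.yon S).obj k'.pt) (h' : IsPullback a' b' f'.hom k'.toHom)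
    (Xk : AlgSp.Sp S) (a : Xk ⟶ X.obj) (b : Xk ⟶ (AlgSp.yon S).obj k.pt) (h : IsPullback a b f.hom k.toHom) :
    ENat.card (_root_.ConnectedComponents (AlgSp.Points Xk')) = ENat.card (_root_.ConnectedComponents (AlgSp.Points Xk)) := by
  obtain ⟨Ω, _, w, α, β, e'⟩ := K638.GeomConn.exists_common g.hom k k' hkk
  have : IsAlgClosed k.K := hk
  have : IsAlgClosed k'.K := hk'
  have s1' : IsPullback (pullback.fst b' ((yon S).map β)) (pullback.snd b' ((yon S).map β)) b' ((yon S).map β) :=
    IsPullback.of_hasPullback _ _
  have t2 := (s1'.paste_horiz h').paste_horiz hsq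
  rw [Category.assoc ((yon S).map β), ← e'] at t2
  have w0 : ((pullback.fst b' ((yon S).map β) ≫ a') ≫ gX.hom) ≫ f.hom =
      (pullback.snd b' ((yon S).map β) ≫ (yon S).map α) ≫ k.toHom := by
    rw [t2.w, Category.assoc]
  have s1 : IsPullback (h.lift _ _ w0) (pullback.snd b' ((yon S).map β)) b ((yon S).map α) :=
    IsPullback.of_right (by rw [h.lift_fst]; exact t2) (h.lift_snd _ _ _) h
  rw [← K638.GeomConn.card_eq α s1, ← K638.GeomConn.card_eq β s1']

end Groth.Agent.S10670
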