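import Groth.Statements.S10671
import Groth.Agent.S0040
import Groth.Agent.S10066
import Groth.Agent.AlgSp.K594.AlgCover
import Groth.Agent.AlgSp.K594.AlgWrap

set_option autoImplicit false
universe u
open CategoryTheory CategoryTheory.Limits AlgebraicGeometry
open AlgSp

namespace Groth.Agent.S10671

/-- Let A be a Noetherian ring which is complete for the I-adic topology of an ideal I; write S = Spec
A, S_n = Spec (A/I^(n+1)) for n ≥ 0, let X be an algebraic space over S that is separated and of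
finite type (structure morphism s to h_S), and X_n = X ×_S S_n with projections p n and transition
maps t n : X_n ⟶ X_{n+1} over X. Given morphisms j n : Z_n ⟶ X_n of algebraic spaces with cartesian
squares Z_n = Z_{n+1} ×_{X_{n+1}} X_n for all n, such that j 0 is a representable closed immersion
and Z_0 is proper over S_0, there is a representable closed immersion Z ⟶ X with Z proper over S and
Z_n = Z ×_X X_n for all n. -/
theorem result (A : Type u) [CommRing A] [IsNoetherianRing A] (I : Ideal A) [IsAdicComplete I A]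
    {X : AlgSp.Space (Spec (CommRingCat.of A))} (s : X.obj ⟶ (AlgSp.yon (Spec (CommRingCat.of A))).obj (Over.mk (𝟙 _)))
    (hs1 : AlgSp.IsSeparatedMor s) (hs2 : AlgSp.IsFiniteTypeMor s)
    (Xn : ℕ → AlgSp.Space (Spec (CommRingCat.of A))) (p : ∀ n, Xn n ⟶ X)
    (sn : ∀ n, (Xn n).obj ⟶ (AlgSp.yon (Spec (CommRingCat.of A))).obj (Over.mk (Spec.map (CommRingCat.ofHom (Ideal.Quotient.mk (I ^ (n + 1)))))))
    (hXn : ∀ n, IsPullback (p n).hom (sn n) s
      ((AlgSp.yon (Spec (CommRingCat.of A))).map (Over.homMk (Spec.map (CommRingCat.ofHom (Ideal.Quotient.mk (I ^ (n + 1))))) (Category.comp_id _) :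
        (Over.mk (Spec.map (CommRingCat.ofHom (Ideal.Quotient.mk (I ^ (n + 1)))))) ⟶ Over.mk (𝟙 _))))
    (t : ∀ n, Xn n ⟶ Xn (n + 1)) (ht : ∀ n, t n ≫ p (n + 1) = p n)
    (Zn : ℕ → AlgSp.Space (Spec (CommRingCat.of A))) (j : ∀ n, Zn n ⟶ Xn n) (z : ∀ n, Zn n ⟶ Zn (n + 1))
    (hZ : ∀ n, IsPullback (z n).hom (j n).hom (j (n + 1)).hom (t n).hom)
    (h1 : AlgSp.RepWith @IsClosedImmersion (j 0).hom) (h2 : AlgSp.IsProperMor ((j 0).hom ≫ sn 0)) :
    ∃ (Z : AlgSp.Space (Spec (CommRingCat.of A))) (jZ : Z ⟶ X) (q : ∀ n, Zn n ⟶ Z),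
      AlgSp.RepWith @IsClosedImmersion jZ.hom ∧ AlgSp.IsProperMor (jZ.hom ≫ s) ∧
        ∀ n, IsPullback (q n).hom (j n).hom jZ.hom (p n).hom := by
  exact K594.AlgWrap.algebraize A I (fun f _ _ _ Z z t h1 h2 h3 => Groth.Agent.S0040.result A I f Z z t h1 h2 h3)
    (K594.AlgCover.coverHyp (fun X h1 h2 h3 V p h4 h5 => Groth.Agent.S10066.result _ X h1 h2 h3 V p h4 h5))
    s hs1 hs2 Xn p sn hXn t ht Zn j z hZ h1 h2

end Groth.Agent.S10671
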