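import Groth.Statements.S10672
import Groth.Agent.S0040
import Groth.Agent.S0041
import Groth.Agent.S10066
import Groth.Agent.AlgSp.K594.AlgCover
import Groth.Agent.AlgSp.K594.FinWrap

set_option autoImplicit false
universe u
open CategoryTheory CategoryTheory.Limits AlgebraicGeometry
open AlgSp

namespace Groth.Agent.S10672

/-- Let A be a Noetherian ring which is complete for the I-adic topology of an ideal I; write S = Spec
A, S_n = Spec (A/I^(n+1)), let X be an algebraic space over S that is separated and of finite type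
with X_n = X ×_S S_n (projections p n, transitions t n over X). Given morphisms j n : Y_n ⟶ X_n of
algebraic spaces with cartesian squares Y_n = Y_{n+1} ×_{X_{n+1}} X_n, j 0 finite and Y_0 proper
over S_0, there are a finite morphism Y ⟶ X with Y proper over S and compatible identifications Y_n
= Y ×_X X_n. -/
theorem result (A : Type u) [CommRing A] [IsNoetherianRing A] (I : Ideal A) [IsAdicComplete I A]
    {X : AlgSp.Space (Spec (CommRingCat.of A))} (s : X.obj ⟶ (AlgSp.yon (Spec (CommRingCat.of A))).obj (Over.mk (𝟙 _)))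
    (hs1 : AlgSp.IsSeparatedMor s) (hs2 : AlgSp.IsFiniteTypeMor s)
    (Xn : ℕ → AlgSp.Space (Spec (CommRingCat.of A))) (p : ∀ n, Xn n ⟶ X)
    (sn : ∀ n, (Xn n).obj ⟶ (AlgSp.yon (Spec (CommRingCat.of A))).obj (Over.mk (Spec.map (CommRingCat.ofHom (Ideal.Quotient.mk (I ^ (n + 1)))))))
    (hXn : ∀ n, IsPullback (p n).hom (sn n) s
      ((AlgSp.yon (Spec (CommRingCat.of A))).map (Over.homMk (Spec.map (CommRingCat.ofHom (Ideal.Quotient.mk (I ^ (n + 1))))) (Category.comp_id _) :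
        (Over.mk (Spec.map (CommRingCat.ofHom (Ideal.Quotient.mk (I ^ (n + 1)))))) ⟶ Over.mk (𝟙 _))))
    (t : ∀ n, Xn n ⟶ Xn (n + 1)) (ht : ∀ n, t n ≫ p (n + 1) = p n)
    (Yn : ℕ → AlgSp.Space (Spec (CommRingCat.of A))) (j : ∀ n, Yn n ⟶ Xn n) (y : ∀ n, Yn n ⟶ Yn (n + 1))
    (hY : ∀ n, IsPullback (y n).hom (j n).hom (j (n + 1)).hom (t n).hom)
    (h1 : AlgSp.IsFiniteMor (j 0).hom) (h2 : AlgSp.IsProperMor ((j 0).hom ≫ sn 0)) :
    ∃ (Y : AlgSp.Space (Spec (CommRingCat.of A))) (jY : Y ⟶ X) (q : ∀ n, Yn n ⟶ Y),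
      AlgSp.IsFiniteMor jY.hom ∧ AlgSp.IsProperMor (jY.hom ≫ s) ∧
        (∀ n, IsPullback (q n).hom (j n).hom jY.hom (p n).hom) ∧ ∀ n, y n ≫ q (n + 1) = q n := by
  exact K594.FinWrap.algebraize A I (fun f _ _ _ Z z t h1 h2 h3 => Groth.Agent.S0040.result A I f Z z t h1 h2 h3)
    (fun f _ _ _ Y y t h1 h2 h3 => Groth.Agent.S0041.result A I f Y y t h1 h2 h3)
    (K594.AlgCover.coverHyp (fun X h1 h2 h3 V p h4 h5 => Groth.Agent.S10066.result _ X h1 h2 h3 V p h4 h5))
    s hs1 hs2 Xn p sn hXn t ht Yn j y hY h1 h2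

end Groth.Agent.S10672
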