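import Groth.Statements.S10673
import Groth.Agent.S0040
import Groth.Agent.S10066
import Groth.Agent.AlgSp.K594.AlgCover
import Groth.Agent.AlgSp.K594.GraphAlg

set_option autoImplicit false
universe u
open CategoryTheory CategoryTheory.Limits AlgebraicGeometry
open AlgSp

namespace Groth.Agent.S10673

/-- Let A be a Noetherian ring which is complete for the I-adic topology of an ideal I; write S = Spec
A, S_n = Spec (A/I^(n+1)), and let X, Y be algebraic spaces over S with X proper over S and Y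
separated of finite type over S; let X_n, Y_n be the base changes to S_n (projections pX n, pY n,
transitions tX n, tY n). Given morphisms g n : X_n ⟶ Y_n over S_n compatible with the transitions,
there is a morphism g : X ⟶ Y over S whose base change to S_n is g n for every n. (The published
statement also asserts that g is unique; this row states existence only.) -/
theorem result (A : Type u) [CommRing A] [IsNoetherianRing A] (I : Ideal A) [IsAdicComplete I A]
    {X Y : AlgSp.Space (Spec (CommRingCat.of A))} (sX : X.obj ⟶ (AlgSp.yon (Spec (CommRingCat.of A))).obj (Over.mk (𝟙 _)))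
    (sY : Y.obj ⟶ (AlgSp.yon (Spec (CommRingCat.of A))).obj (Over.mk (𝟙 _)))
    (hX : AlgSp.IsProperMor sX) (hY1 : AlgSp.IsSeparatedMor sY) (hY2 : AlgSp.IsFiniteTypeMor sY)
    (Xn : ℕ → AlgSp.Space (Spec (CommRingCat.of A))) (pX : ∀ n, Xn n ⟶ X)
    (snX : ∀ n, (Xn n).obj ⟶ (AlgSp.yon (Spec (CommRingCat.of A))).obj (Over.mk (Spec.map (CommRingCat.ofHom (Ideal.Quotient.mk (I ^ (n + 1)))))))
    (hXn : ∀ n, IsPullback (pX n).hom (snX n) sX
      ((AlgSp.yon (Spec (CommRingCat.of A))).map (Over.homMk (Spec.map (CommRingCat.ofHom (Ideal.Quotient.mk (I ^ (n + 1))))) (Category.comp_id _) :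
        (Over.mk (Spec.map (CommRingCat.ofHom (Ideal.Quotient.mk (I ^ (n + 1)))))) ⟶ Over.mk (𝟙 _))))
    (tX : ∀ n, Xn n ⟶ Xn (n + 1)) (htX : ∀ n, tX n ≫ pX (n + 1) = pX n)
    (Yn : ℕ → AlgSp.Space (Spec (CommRingCat.of A))) (pY : ∀ n, Yn n ⟶ Y)
    (snY : ∀ n, (Yn n).obj ⟶ (AlgSp.yon (Spec (CommRingCat.of A))).obj (Over.mk (Spec.map (CommRingCat.ofHom (Ideal.Quotient.mk (I ^ (n + 1)))))))
    (hYn : ∀ n, IsPullback (pY n).hom (snY n) sY
      ((AlgSp.yon (Spec (CommRingCat.of A))).map (Over.homMk (Spec.map (CommRingCat.ofHom (Ideal.Quotient.mk (I ^ (n + 1))))) (Category.comp_id _) :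
        (Over.mk (Spec.map (CommRingCat.ofHom (Ideal.Quotient.mk (I ^ (n + 1)))))) ⟶ Over.mk (𝟙 _))))
    (tY : ∀ n, Yn n ⟶ Yn (n + 1)) (htY : ∀ n, tY n ≫ pY (n + 1) = pY n)
    (g : ∀ n, Xn n ⟶ Yn n) (hg1 : ∀ n, (g n).hom ≫ snY n = snX n)
    (hg2 : ∀ n, tX n ≫ g (n + 1) = g n ≫ tY n) :
    ∃ gg : X ⟶ Y, gg.hom ≫ sY = sX ∧ ∀ n, pX n ≫ gg = g n ≫ pY n := by
  exact K594.GraphAlg.exists_hom A I (fun f _ _ _ Z z t h1 h2 h3 => Groth.Agent.S0040.result A I f Z z t h1 h2 h3)
    (K594.AlgCover.coverHyp (fun X h1 h2 h3 V p h4 h5 => Groth.Agent.S10066.result _ X h1 h2 h3 V p h4 h5))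
    sX sY hX hY1 hY2 Xn pX snX hXn tX htX Yn pY snY hYn tY htY g hg1 hg2

end Groth.Agent.S10673
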