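import Groth.Statements.S10674
import Groth.Agent.AlgSp.K613.FormAmple
import Groth.Agent.AlgSp.K613.DimOneSch
import Groth.Agent.S10454
import Groth.Agent.S10673

set_option autoImplicit false
universe u
open CategoryTheory CategoryTheory.Limits AlgebraicGeometry
open AlgSp

namespace Groth.Agent.S10674

open AlgSp IsLocalRing K613.FormTower K613.FormAmple

theorem codimOne (S : Scheme.{u}) [S.IsSeparated] : K613.DimOneSch.CodimOne S :=
  fun X hsep hN x hx => Groth.Agent.S10454.result X hsep hN x hx

theorem algMor (A : Type u) [CommRing A] [IsNoetherianRing A] (I : Ideal A) [IsAdicComplete I A] : AlgMor A I :=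
  fun sX sY hX hY1 hY2 Xn pX snX hXn tX htX Yn pY snY hYn tY htY g hg1 hg2 =>
    Groth.Agent.S10673.result A I sX sY hX hY1 hY2 Xn pX snX hXn tX htX Yn pY snY hYn tY htY g hg1 hg2

/-- For a complete Noetherian local ring (A, m, κ) and an algebraic space X over Spec A whose structure
morphism s (to h_{Spec A}) is proper, such that the fibre X ×_{Spec A} Spec κ has dimension at most
1 (supremum of the dimensions of its etale scheme charts), X is a projective A-scheme: X is
representable by a scheme admitting a closed immersion over A into projective n-space over A for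
some n (over the affine base Spec A this is the same as projective). -/
theorem result (A : Type u) [CommRing A] [IsNoetherianRing A] [IsLocalRing A]
    [IsAdicComplete (IsLocalRing.maximalIdeal A) A]
    {X : AlgSp.Space (Spec (CommRingCat.of A))} (s : X.obj ⟶ (AlgSp.yon (Spec (CommRingCat.of A))).obj (Over.mk (𝟙 _))) (hs : AlgSp.IsProperMor s)
    (hd : ∀ (Xk : AlgSp.Sp (Spec (CommRingCat.of A))) (fst : Xk ⟶ X.obj) (snd : Xk ⟶ (AlgSp.yon (Spec (CommRingCat.of A))).obj (Over.mk (Spec.map (CommRingCat.ofHom (IsLocalRing.residue A))))),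
      IsPullback fst snd s ((AlgSp.yon (Spec (CommRingCat.of A))).map (Over.homMk (Spec.map (CommRingCat.ofHom (IsLocalRing.residue A))) (Category.comp_id _) :
        (Over.mk (Spec.map (CommRingCat.ofHom (IsLocalRing.residue A)))) ⟶ Over.mk (𝟙 _))) → AlgSp.dim Xk ≤ 1) :
    ∃ (n : ℕ) (T : Scheme.{u}) (i : T ⟶ CohB1.ProjSpace n A), IsClosedImmersion i ∧
      Nonempty (X.obj ≅ (AlgSp.yon (Spec (CommRingCat.of A))).obj (Over.mk (i ≫ CohB1.ProjSpace.toSpec n A))) := by
  have hjac : maximalIdeal A ≤ Ideal.jacobson ⊥ := (IsLocalRing.jacobson_eq_maximalIdeal ⊥ bot_ne_top).ge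
  refine projective_of (I := maximalIdeal A) hjac (algMor A _) s hs fun Xn pX sX t hXn ht hpr => ?_
  have hdim : AlgSp.dim (Xn 0).obj ≤ 1 := by
    obtain ⟨q', hq'⟩ := isPullback_residue (hXn 0)
    exact hd (Xn 0).obj (pX 0).hom q' hq'
  have h1 : IsNoetherianRing (CommRingCat.of (A ⧸ maximalIdeal A ^ (0 + 1))) :=
    inferInstanceAs (IsNoetherianRing (A ⧸ maximalIdeal A ^ (0 + 1)))
  have h2 : IsLocallyNoetherian (SO (maximalIdeal A) 0).left :=
    inferInstanceAs (IsLocallyNoetherian (Spec (CommRingCat.of (A ⧸ maximalIdeal A ^ (0 + 1)))))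
  have h3 : IsSeparated (SO (maximalIdeal A) 0).hom :=
    inferInstanceAs (IsSeparated (Spec.map (CommRingCat.ofHom (Ideal.Quotient.mk (maximalIdeal A ^ (0 + 1))))))
  have hr : (Xn 0).obj.obj.IsRepresentable :=
    K613.DimOneSch.isRepresentable_of_mor (codimOne _) (sX 0) (hpr 0).1 (hpr 0).2.1.1 hdim
  exact algebraize A ht hr (hpr 0) hdim

end Groth.Agent.S10674
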