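import Groth.Statements.S10675
import Groth.Agent.AlgSp.K613.FormTower
import Groth.Agent.AlgSp.K613.DimOneSch
import Groth.Agent.S10454

set_option autoImplicit false
universe u
open CategoryTheory CategoryTheory.Limits AlgebraicGeometry
open AlgSp

namespace Groth.Agent.S10675

theorem codimOne (S : Scheme.{u}) [S.IsSeparated] : K613.DimOneSch.CodimOne S :=
  fun X hsep hN x hx => Groth.Agent.S10454.result X hsep hN x hx

/-- Let (A, m, κ) be a complete Noetherian local ring, S = Spec A, S_n = Spec (A/m^(n+1)), and X_n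
algebraic spaces over S_n with morphisms t n : X_n ⟶ X_{n+1} making X_n = X_{n+1} ×_{S_{n+1}} S_n
(expressed as a pullback over S, S_{n+1} ⟶ S being a monomorphism). Assume X_0 ⟶ S_0 is proper and
X_0 has dimension at most 1. Then there are a scheme T with a closed immersion into projective
n-space over A for some n and identifications X_n = T ×_S S_n compatible with the t n. (The
published statement does not list properness of X_0 over S_0 among the hypotheses; the affine line
over the S_n satisfies the remaining hypotheses without being induced by a projective scheme, and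
the published proof uses that X_0 is proper over κ, so properness is assumed here.) -/
theorem result (A : Type u) [CommRing A] [IsNoetherianRing A] [IsLocalRing A]
    [IsAdicComplete (IsLocalRing.maximalIdeal A) A] (I : Ideal A) (hI : I = IsLocalRing.maximalIdeal A)
    (Xn : ℕ → AlgSp.Space (Spec (CommRingCat.of A))) (sn : ∀ n, (Xn n).obj ⟶ (AlgSp.yon (Spec (CommRingCat.of A))).obj (Over.mk (Spec.map (CommRingCat.ofHom (Ideal.Quotient.mk (I ^ (n + 1)))))))
    (t : ∀ n, Xn n ⟶ Xn (n + 1))
    (ht : ∀ n, IsPullback (t n).hom (sn n)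
      (sn (n + 1) ≫ ((AlgSp.yon (Spec (CommRingCat.of A))).map (Over.homMk (Spec.map (CommRingCat.ofHom (Ideal.Quotient.mk (I ^ (n + 1 + 1))))) (Category.comp_id _) :
        (Over.mk (Spec.map (CommRingCat.ofHom (Ideal.Quotient.mk (I ^ (n + 1 + 1)))))) ⟶ Over.mk (𝟙 _))))
      ((AlgSp.yon (Spec (CommRingCat.of A))).map (Over.homMk (Spec.map (CommRingCat.ofHom (Ideal.Quotient.mk (I ^ (n + 1))))) (Category.comp_id _) :
        (Over.mk (Spec.map (CommRingCat.ofHom (Ideal.Quotient.mk (I ^ (n + 1)))))) ⟶ Over.mk (𝟙 _))))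
    (h0 : AlgSp.IsProperMor (sn 0)) (hd : AlgSp.dim (Xn 0).obj ≤ 1) :
    ∃ (n : ℕ) (T : Scheme.{u}) (i : T ⟶ CohB1.ProjSpace n A)
      (q : ∀ m, (Xn m).obj ⟶ (AlgSp.yon (Spec (CommRingCat.of A))).obj (Over.mk (i ≫ CohB1.ProjSpace.toSpec n A))),
      IsClosedImmersion i ∧
        (∀ m, IsPullback (q m) (sn m)
          ((AlgSp.yon (Spec (CommRingCat.of A))).map (Over.homMk i rfl :
            Over.mk (i ≫ CohB1.ProjSpace.toSpec n A) ⟶ Over.mk (CohB1.ProjSpace.toSpec n A)) ≫
            (AlgSp.yon (Spec (CommRingCat.of A))).map (Over.homMk (CohB1.ProjSpace.toSpec n A) (Category.comp_id _) :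
              Over.mk (CohB1.ProjSpace.toSpec n A) ⟶ Over.mk (𝟙 _)))
          ((AlgSp.yon (Spec (CommRingCat.of A))).map (Over.homMk (Spec.map (CommRingCat.ofHom (Ideal.Quotient.mk (I ^ (m + 1))))) (Category.comp_id _) :
        (Over.mk (Spec.map (CommRingCat.ofHom (Ideal.Quotient.mk (I ^ (m + 1)))))) ⟶ Over.mk (𝟙 _)))) ∧
        ∀ m, (t m).hom ≫ q (m + 1) = q m := by
  subst hI
  have hsq := fun n => K613.FormTower.isPullback_tr (ht n)
  have h1 : IsNoetherianRing (CommRingCat.of (A ⧸ IsLocalRing.maximalIdeal A ^ (0 + 1))) :=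
    inferInstanceAs (IsNoetherianRing (A ⧸ IsLocalRing.maximalIdeal A ^ (0 + 1)))
  have h2 : IsLocallyNoetherian (Over.mk (Spec.map (CommRingCat.ofHom
      (Ideal.Quotient.mk (IsLocalRing.maximalIdeal A ^ (0 + 1)))))).left :=
    inferInstanceAs (IsLocallyNoetherian (Spec (CommRingCat.of (A ⧸ IsLocalRing.maximalIdeal A ^ (0 + 1)))))
  have h3 : IsSeparated (Over.mk (Spec.map (CommRingCat.ofHom
      (Ideal.Quotient.mk (IsLocalRing.maximalIdeal A ^ (0 + 1)))))).hom :=
    inferInstanceAs (IsSeparated (Spec.map (CommRingCat.ofHom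
      (Ideal.Quotient.mk (IsLocalRing.maximalIdeal A ^ (0 + 1))))))
  have hr : (Xn 0).obj.obj.IsRepresentable :=
    K613.DimOneSch.isRepresentable_of_mor (codimOne _) (sn 0) h0.1 h0.2.1.1 hd
  obtain ⟨n, T, i, q, hi, hq, hqt⟩ := K613.FormTower.algebraize A hsq hr h0 hd
  refine ⟨n, T, i, q, hi, fun m => ?_, hqt⟩
  rw [← Functor.map_comp]
  exact hq m

end Groth.Agent.S10675
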