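import Groth.Statements.S10678
import Groth.Agent.AlgSp.K639.Dim2

set_option autoImplicit false
universe u
open CategoryTheory CategoryTheory.Limits AlgebraicGeometry
open AlgSp

namespace Groth.Agent.S10678

open K639.Diag K639.Diag2 K639.Dim K639.Dim2

/-- For a morphism f : X ⟶ Y of finite type between algebraic spaces over S, a point y of |Y| and any
field point k of Y in the class of y, with fibre X_k (pullback in fppf sheaves): the dimension of
X_k (supremum of the dimensions of its etale scheme charts) is -∞ exactly when y lies outside the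
image of |X|, and for every natural number d it is at most d exactly when f has relative dimension
at most d at every point of |X| over y (some etale chart diagram through the point whose top arrow
has local fibre dimension at most d there). -/
theorem result {S : Scheme.{u}} {X Y : AlgSp.Space S} (f : X ⟶ Y) (hf : AlgSp.IsFiniteTypeMor f.hom)
    (y : AlgSp.Points Y.obj) (k : AlgSp.FieldPt Y.obj) (hk : AlgSp.Points.mk k = y)
    (Xk : AlgSp.Sp S) (fst : Xk ⟶ X.obj) (snd : Xk ⟶ (AlgSp.yon S).obj k.pt) (h : IsPullback fst snd f.hom k.toHom) :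
    (AlgSp.dim Xk = ⊥ ↔ y ∉ Set.range (AlgSp.Points.map f.hom)) ∧
      ∀ d : ℕ, (AlgSp.dim Xk ≤ d ↔
        ∀ x : AlgSp.Points X.obj, AlgSp.Points.map f.hom x = y →
          AlgSp.HasAtMor (fun _ _ h u => FlatMor.fibreDimAt h u ≤ (d : WithBot ℕ∞)) f.hom x) := by
  obtain ⟨V, g, hg, hgs⟩ := Y.property.atlas
  have sq := IsPullback.of_hasPullback f.hom g
  obtain ⟨U, c, u₀, hc, hcs, hch⟩ := exists_chart_pullback X.property hg.1 sq
  have hc' : RepWith @Etale (c ≫ pullback.fst f.hom g) :=
    repWith_comp hc (repWith_of_isPullback sq.flip hg)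
  have w : (c ≫ pullback.fst f.hom g) ≫ f.hom = (yon S).map u₀ ≫ g := by
    rw [Category.assoc, sq.w, ← Category.assoc, hch]
  have hlft : LocallyOfFiniteType u₀.left := hf.1 _ g u₀ hc' hg w
  obtain ⟨v, rfl⟩ := K609.Points.surjective_ofPt_of_repWith_surjective hgs y
  have hdim := dim_fibre_eq X.property Y.property hf.1 sq hc hcs hch v hk h
  rw [hdim]
  have key := fun x => map_eq_ofPt_iff sq hcs hch x v
  refine ⟨?_, fun d => ?_⟩
  · rw [← le_bot_iff, dim_fiber_le_iff]
    constructor
    · rintro H ⟨x, hx⟩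
      obtain ⟨u, hu, -⟩ := (key x).1 hx
      have h1 := H u hu
      obtain ⟨m, hm⟩ := Flat2D.FibDimNat.exists_nat_fibreDimAt u₀.left u
      rw [hm, le_bot_iff] at h1
      exact WithBot.natCast_ne_bot m h1
    · intro H u hu
      exact absurd ⟨_, (key _).2 ⟨u, hu, rfl⟩⟩ H
  · rw [dim_fiber_le_iff]
    constructor
    · intro H x hx
      obtain ⟨u, hu, hx'⟩ := (key x).1 hx
      exact ⟨U, V, _, g, u₀, u, hc', hg, w, hx', H u hu⟩
    · intro H u hu
      have h1 := H _ ((key _).2 ⟨u, hu, rfl⟩)
      exact (K616.Inv.hasAtMor_iff (K616.DimInv.etInvOn_fibreDimAt (fun n => n ≤ (d : WithBot ℕ∞))) hf.1 _ g u₀ hc' hg w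
        u).1 h1

end Groth.Agent.S10678
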