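import Groth.Statements.S10679
import Groth.Agent.AlgSp.K639.Dim2

set_option autoImplicit false
universe u
open CategoryTheory CategoryTheory.Limits AlgebraicGeometry
open AlgSp

namespace Groth.Agent.S10679

open K639.Diag K639.Diag2 K639.Dim K639.Dim2

/-- For a flat morphism f : X ⟶ Y of algebraic spaces over S which is of finite presentation, the fibre
dimension function on |Y|, y ↦ dimension of X_k for a field point k in the class of y, is lower
semi-continuous: for every d the set of y such that every fibre X_k over y (k a field point in the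
class of y, X_k any pullback in fppf sheaves) has dimension greater than d is open. -/
theorem result {S : Scheme.{u}} {X Y : AlgSp.Space S} (f : X ⟶ Y)
    (hf1 : AlgSp.LocP @Flat f.hom) (hf2 : AlgSp.IsFinitePresentationMor f.hom) (d : WithBot ℕ∞) :
    IsOpen {y : AlgSp.Points Y.obj | ∀ (k : AlgSp.FieldPt Y.obj), AlgSp.Points.mk k = y →
      ∀ (Xk : AlgSp.Sp S) (fst : Xk ⟶ X.obj) (snd : Xk ⟶ (AlgSp.yon S).obj k.pt),
        IsPullback fst snd f.hom k.toHom → d < AlgSp.dim Xk} := by
  obtain ⟨V, g, hg, hgs⟩ := Y.property.atlas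
  have sq := IsPullback.of_hasPullback f.hom g
  obtain ⟨U, c, u₀, hc, hcs, hch⟩ := exists_chart_pullback X.property hg.1 sq
  have hc' : RepWith @Etale (c ≫ pullback.fst f.hom g) :=
    repWith_comp hc (repWith_of_isPullback sq.flip hg)
  have w : (c ≫ pullback.fst f.hom g) ≫ f.hom = (yon S).map u₀ ≫ g := by
    rw [Category.assoc, sq.w, ← Category.assoc, hch]
  have hlfp : LocallyOfFinitePresentation u₀.left := hf2.1 _ g u₀ hc' hg w
  have hflat : Flat u₀.left := hf1 _ g u₀ hc' hg w
  have hlft : LocP @LocallyOfFiniteType f.hom :=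
    K597.locP_mono (fun _ _ h (h' : LocallyOfFinitePresentation h) => inferInstanceAs (LocallyOfFiniteType h)) hf2.1
  rw [← (K609.Points.isQuotientMap_ofPt hg hgs).isOpen_preimage]
  convert isOpen_lt_dim_fiber u₀.left d using 1
  ext v
  constructor
  · intro H
    obtain ⟨P, α₁, β₁, sq₁⟩ : ∃ (P : AlgSp.Sp S) (α₁ : P ⟶ X.obj) (β₁ : P ⟶ _),
        IsPullback α₁ β₁ f.hom (FieldPt.ofPt g v).toHom := ⟨_, _, _, IsPullback.of_hasPullback _ _⟩
    have h1 := H (FieldPt.ofPt g v) rfl P α₁ β₁ sq₁
    rw [dim_fibre_eq X.property Y.property hlft sq hc hcs hch v rfl sq₁] at h1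
    exact h1
  · intro H k hk Xk fst snd sqk
    rw [dim_fibre_eq X.property Y.property hlft sq hc hcs hch v hk sqk]
    exact H

end Groth.Agent.S10679
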