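import Groth.Statements.S10680
import Groth.Agent.AlgSp.K639.Dim2

set_option autoImplicit false
universe u
open CategoryTheory CategoryTheory.Limits AlgebraicGeometry
open AlgSp

namespace Groth.Agent.S10680

open K639.Diag K639.Diag2 K639.Dim K639.Dim2 K639.GeomRedOpen

/-- For a proper morphism f : X ⟶ Y between algebraic spaces over S the fibre dimension function on |Y|
is upper semi-continuous: for every d the set of y such that every fibre X_k over y (k a field point
in the class of y, X_k any pullback in fppf sheaves) has dimension less than d is open. -/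
theorem result {S : Scheme.{u}} {X Y : AlgSp.Space S} (f : X ⟶ Y) (hf : AlgSp.IsProperMor f.hom) (d : WithBot ℕ∞) :
    IsOpen {y : AlgSp.Points Y.obj | ∀ (k : AlgSp.FieldPt Y.obj), AlgSp.Points.mk k = y →
      ∀ (Xk : AlgSp.Sp S) (fst : Xk ⟶ X.obj) (snd : Xk ⟶ (AlgSp.yon S).obj k.pt),
        IsPullback fst snd f.hom k.toHom → AlgSp.dim Xk < d} := by
  have hlft : LocP @LocallyOfFiniteType f.hom := hf.2.1.1
  apply isOpen_of_affine_charts Y.property
  intro V hV g hg
  rcases eq_or_ne d ⊥ with rfl | hd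
  · have : (Points.ofPt g ⁻¹' {y : AlgSp.Points Y.obj | ∀ (k : AlgSp.FieldPt Y.obj), AlgSp.Points.mk k = y →
      ∀ (Xk : AlgSp.Sp S) (fst : Xk ⟶ X.obj) (snd : Xk ⟶ (AlgSp.yon S).obj k.pt),
        IsPullback fst snd f.hom k.toHom → AlgSp.dim Xk < ⊥}) = ∅ := by
      rw [Set.eq_empty_iff_forall_notMem]
      intro v H
      exact not_lt_bot (H (FieldPt.ofPt g _) rfl _ _ _ (IsPullback.of_hasPullback _ _))
    rw [this]
    exact isOpen_empty
  have sq := IsPullback.of_hasPullback f.hom g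
  obtain ⟨U, c, h, hc, hcs, hch, hU⟩ := exists_chart_of_qc hf.2.1.2 sq
  have hc' : RepWith @Etale (c ≫ pullback.fst f.hom g) :=
    repWith_comp hc (repWith_of_isPullback sq.flip hg)
  have w : (c ≫ pullback.fst f.hom g) ≫ f.hom = (yon S).map h ≫ g := by
    rw [Category.assoc, sq.w, ← Category.assoc, hch]
  have hh : LocallyOfFiniteType h.left := hlft _ g h hc' hg w
  have h1 : IsClosed (h.left '' {u | d ≤ FlatMor.fibreDimAt h.left u}) := by
    refine isClosed_image_of_saturated hf.2.2 sq hc hcs hch _ (isClosed_le_fibreDimAt h.left d) ?_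
    intro u₁ u₂ e (H : d ≤ _)
    change d ≤ _
    rwa [← fibreDimAt_saturated hc hch e]
  rw [← isOpen_compl_iff] at h1
  convert h1 using 1
  ext v
  have h2 := le_dim_fiber_iff h.left v hd
  rw [Set.mem_compl_iff]
  constructor
  · rintro H ⟨u, hu, e⟩
    have h3 := h2.2 ⟨u, e, hu⟩
    obtain ⟨P, α₁, β₁, sq₁⟩ : ∃ (P : AlgSp.Sp S) (α₁ : P ⟶ X.obj) (β₁ : P ⟶ _),
        IsPullback α₁ β₁ f.hom (FieldPt.ofPt g v).toHom := ⟨_, _, _, IsPullback.of_hasPullback _ _⟩
    have h4 := H (FieldPt.ofPt g v) rfl P α₁ β₁ sq₁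
    rw [dim_fibre_eq X.property Y.property hlft sq hc hcs hch v rfl sq₁] at h4
    exact not_lt.2 h3 h4
  · intro H k hk Xk fst snd sqk
    rw [dim_fibre_eq X.property Y.property hlft sq hc hcs hch v hk sqk]
    by_contra h3
    obtain ⟨u, e, hu⟩ := h2.1 (not_lt.1 h3)
    exact H ⟨u, hu, e⟩

end Groth.Agent.S10680
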