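import Groth.Statements.S10681
import Groth.Agent.AlgSp.K639.ConnGeom
import Groth.Agent.AlgSp.K639.GeomLift
import Groth.Agent.VarietyA.EtaleFieldExt
import Groth.Agent.AlgSp.K625.Fld

set_option autoImplicit false
universe u
open CategoryTheory CategoryTheory.Limits AlgebraicGeometry
open AlgSp

namespace Groth.Agent.S10681

open K639.Diag K639.Diag2 K639.Fib K639.Red K639.ConnSep K639.GeomLift

/-- For a morphism f : X ⟶ Y between algebraic spaces over S and a geometric point ȳ of Y (an
algebraically closed field point), the geometric fibre X_ȳ (pullback in fppf sheaves) has connected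
space of points if and only if for every scheme V with a representable etale a : h_V ⟶ Y and every
point v of V through which ȳ factors, the fibre of X ×_Y V ⟶ V over v (pullback along the residue
field point of v) has connected space of points. -/
theorem result {S : Scheme.{u}} {X Y : AlgSp.Space S} (f : X ⟶ Y) (yb : AlgSp.FieldPt Y.obj) (hyb : yb.IsGeometric)
    (Xyb : AlgSp.Sp S) (fst : Xyb ⟶ X.obj) (snd : Xyb ⟶ (AlgSp.yon S).obj yb.pt) (h : IsPullback fst snd f.hom yb.toHom) :
    ConnectedSpace (AlgSp.Points Xyb) ↔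
      ∀ (V : Over S) (a : (AlgSp.yon S).obj V ⟶ Y.obj), AlgSp.RepWith @Etale a →
        ∀ (v : ↥V.left) (c : yb.pt ⟶ V), (AlgSp.yon S).map c ≫ a = yb.toHom → c.left (IsLocalRing.closedPoint yb.K) = v →
          ∀ (Xv : AlgSp.Sp S) (fst' : Xv ⟶ X.obj)
            (snd' : Xv ⟶ (AlgSp.yon S).obj (Over.mk (V.left.fromSpecResidueField v ≫ V.hom))),
            IsPullback fst' snd' f.hom ((AlgSp.yon S).map (Over.homMk (V.left.fromSpecResidueField v) rfl :
              Over.mk (V.left.fromSpecResidueField v ≫ V.hom) ⟶ V) ≫ a) →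
            ConnectedSpace (AlgSp.Points Xv) := by
  constructor
  · intro hconn V a ha v c hc hv Xv fst' snd' sq'
    obtain ⟨i, hi⟩ := exists_factor_residueField c.left
    subst hv
    let t : yb.pt ⟶ Over.mk (V.left.fromSpecResidueField (c.left (IsLocalRing.closedPoint yb.K)) ≫ V.hom) :=
      Over.homMk i (by
        change i ≫ V.left.fromSpecResidueField _ ≫ V.hom = yb.str
        rw [← Category.assoc, hi]
        exact Over.w c)
    have ht : t ≫ (Over.homMk (V.left.fromSpecResidueField (c.left (IsLocalRing.closedPoint yb.K))) rfl :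
        Over.mk (V.left.fromSpecResidueField (c.left (IsLocalRing.closedPoint yb.K)) ≫ V.hom) ⟶ V) = c :=
      Over.OverMorphism.ext hi
    have w : fst ≫ f.hom = (snd ≫ (yon S).map t) ≫ (yon S).map (Over.homMk (V.left.fromSpecResidueField _) rfl :
        Over.mk (V.left.fromSpecResidueField (c.left (IsLocalRing.closedPoint yb.K)) ≫ V.hom) ⟶ V) ≫ a := by
      rw [h.w, Category.assoc, ← Category.assoc ((yon S).map t), ← Functor.map_comp, ht, hc]
    have sqm : IsPullback (sq'.lift fst (snd ≫ (yon S).map t) w) snd snd' ((yon S).map t) := by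
      refine IsPullback.of_right (h₁₂ := fst') (v₁₃ := f.hom) (h₂₂ := (yon S).map (Over.homMk (V.left.fromSpecResidueField _) rfl :
        Over.mk (V.left.fromSpecResidueField (c.left (IsLocalRing.closedPoint yb.K)) ≫ V.hom) ⟶ V) ≫ a) ?_
        (sq'.lift_snd _ _ _) sq'
      rw [sq'.lift_fst, ← Category.assoc, ← Functor.map_comp, ht, hc]
      exact h
    have hs : Function.Surjective (Points.map (sq'.lift fst (snd ≫ (yon S).map t) w)) := by
      refine K609.Points.surjective_map_of_isPullback sqm ((K609.Points.surjective_map_yon_map_iff t).2 fun z => ?_)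
      exact ⟨(IsLocalRing.closedPoint yb.K : PrimeSpectrum yb.K), Subsingleton.elim (α := PrimeSpectrum (V.left.residueField _)) _ _⟩
    exact hs.connectedSpace (Points.continuous_map _)
  · intro H
    have : IsAlgClosed yb.K := hyb
    obtain ⟨V₀, g₀, hg, hgs⟩ := Y.property.atlas
    obtain ⟨v₀, hv₀⟩ := K609.Points.surjective_ofPt_of_repWith_surjective hgs (Points.mk yb)
    obtain ⟨c₀, hc₀, rfl⟩ := exists_lift_geom inferInstance hg v₀ hv₀
    obtain ⟨i, hi⟩ := exists_factor_residueField c₀.left
    generalize hv : c₀.left (IsLocalRing.closedPoint yb.K) = v at i hi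
    obtain ⟨φ, rfl⟩ := Spec.map_surjective i
    let _ : Algebra (V₀.left.residueField v) yb.K := φ.hom.toAlgebra
    let s : Spec (CommRingCat.of (V₀.left.residueField v)) ⟶ S := V₀.left.fromSpecResidueField v ≫ V₀.hom
    let g : (yon S).obj (Over.mk s) ⟶ Y.obj := (yon S).map (resMap V₀ v) ≫ g₀
    -- the geometric fibre as a base change of the fibre over `v`
    have hstr : Spec.map φ ≫ s = yb.str := by
      change Spec.map φ ≫ V₀.left.fromSpecResidueField v ≫ V₀.hom = _
      rw [← Category.assoc, hi]
      exact Over.w c₀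
    let ι : yb.pt ≅ alg s yb.K := Over.isoMk (Iso.refl _) ((Category.id_comp _).trans hstr)
    have hι : ι.inv ≫ c₀ = toT s yb.K ≫ resMap V₀ v := by
      apply Over.OverMorphism.ext
      change 𝟙 _ ≫ c₀.left = Spec.map φ ≫ V₀.left.fromSpecResidueField v
      rw [hi]
      exact Category.id_comp _
    have h' : IsPullback fst (snd ≫ (yon S).map ι.hom) f.hom ((yon S).map (toT s yb.K) ≫ g) := by
      refine IsPullback.of_iso h (Iso.refl _) (Iso.refl _) ((yon S).mapIso ι) (Iso.refl _) ?_ ?_ ?_ ?_
      · rw [Iso.refl_hom, Iso.refl_hom, Category.id_comp, Category.comp_id]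
      · rw [Iso.refl_hom, Category.id_comp]
        rfl
      · rw [Iso.refl_hom, Iso.refl_hom, Category.id_comp, Category.comp_id]
      · rw [Iso.refl_hom, Category.comp_id, ← hc₀]
        change _ = (yon S).map ι.hom ≫ (yon S).map (toT s yb.K) ≫ (yon S).map (resMap V₀ v) ≫ g₀
        rw [← Functor.map_comp_assoc, ← Functor.map_comp_assoc, Category.assoc, ← hι, ι.hom_inv_id_assoc]
    refine K639.ConnGeom.connectedSpace_of_separable s X.property Y.property g ?_ h'
    intro k' _ _ _ _ ψ P a b sqP
    obtain ⟨V', π, v', hV', hπ, e, he⟩ := VarietyA.EtaleFieldExt.exists_etale_resField v k'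
    have he' : e.inv ≫ V'.fromSpecResidueField v' ≫ π =
        Spec.map (CommRingCat.ofHom (algebraMap (V₀.left.residueField v) k')) ≫ V₀.left.fromSpecResidueField v := by
      rw [← he, e.inv_hom_id_assoc]
    let V'' : Over S := Over.mk (π ≫ V₀.hom)
    let πS : V'' ⟶ V₀ := Over.homMk π rfl
    have ha' : RepWith @Etale ((yon S).map πS ≫ g₀) :=
      repWith_comp ((repWith_yon_map_iff @Etale πS).2 (inferInstanceAs (Etale π))) hg
    have hψ : Spec.map (CommRingCat.ofHom ψ.toRingHom) ≫
        Spec.map (CommRingCat.ofHom (algebraMap (V₀.left.residueField v) k')) = Spec.map φ := by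
      rw [← Spec.map_comp, ← CommRingCat.ofHom_comp]
      congr 1
      ext x
      exact ψ.commutes x
    have hcl : (Spec.map (CommRingCat.ofHom ψ.toRingHom) ≫ e.inv ≫ V'.fromSpecResidueField v') ≫ π = c₀.left := by
      rw [Category.assoc, Category.assoc, he', ← Category.assoc, hψ, hi]
    let c' : yb.pt ⟶ V'' := Over.homMk (Spec.map (CommRingCat.ofHom ψ.toRingHom) ≫ e.inv ≫ V'.fromSpecResidueField v') (by
      change (Spec.map (CommRingCat.ofHom ψ.toRingHom) ≫ e.inv ≫ V'.fromSpecResidueField v') ≫ π ≫ V₀.hom = yb.str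
      rw [← Category.assoc, hcl]
      exact Over.w c₀)
    have hc' : c' ≫ πS = c₀ := Over.OverMorphism.ext hcl
    let ε : alg s k' ≅ Over.mk (V'.fromSpecResidueField v' ≫ V''.hom) := Over.isoMk e.symm (by
      change e.inv ≫ V'.fromSpecResidueField v' ≫ π ≫ V₀.hom = Spec.map _ ≫ V₀.left.fromSpecResidueField v ≫ V₀.hom
      rw [← Category.assoc (V'.fromSpecResidueField v'), ← Category.assoc, he', Category.assoc])
    refine H V'' _ ha' v' c' ?_ ?_ P a (b ≫ (yon S).map ε.hom) ?_
    · rw [← Category.assoc, ← Functor.map_comp, hc', hc₀]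
    · exact Scheme.fromSpecResidueField_apply v' _
    · refine IsPullback.of_iso sqP (Iso.refl _) (Iso.refl _) ((yon S).mapIso ε) (Iso.refl _) ?_ ?_ ?_ ?_
      · rw [Iso.refl_hom, Iso.refl_hom, Category.id_comp, Category.comp_id]
      · rw [Iso.refl_hom, Category.id_comp]
        rfl
      · rw [Iso.refl_hom, Iso.refl_hom, Category.id_comp, Category.comp_id]
      · rw [Iso.refl_hom, Category.comp_id]
        change (yon S).map (toT s k') ≫ (yon S).map (resMap V₀ v) ≫ g₀ = (yon S).map ε.hom ≫
          (yon S).map (Over.homMk (V'.fromSpecResidueField v') rfl :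
              Over.mk (V'.fromSpecResidueField v' ≫ V''.hom) ⟶ V'') ≫ (yon S).map πS ≫ g₀
        rw [← Functor.map_comp_assoc, ← Functor.map_comp_assoc, ← Functor.map_comp_assoc]
        congr 2
        apply Over.OverMorphism.ext
        change Spec.map (CommRingCat.ofHom (algebraMap (V₀.left.residueField v) k')) ≫
          V₀.left.fromSpecResidueField v = (e.inv ≫ V'.fromSpecResidueField v') ≫ π
        rw [← he', Category.assoc]

end Groth.Agent.S10681
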