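import Groth.Statements.S10682
import Groth.Agent.AlgSp.K639.GeomRedOpen
import Groth.Agent.S2549

set_option autoImplicit false
universe u
open CategoryTheory CategoryTheory.Limits AlgebraicGeometry
open AlgSp

namespace Groth.Agent.S10682

open K639.Red K639.Diag K639.Diag2 K639.Fib K639.GeomRedOpen

/-- For a flat proper morphism f : X ⟶ Y between algebraic spaces over S which is of finite
presentation, the set of points y of |Y| at which the fibre of f is geometrically reduced is open in
|Y|; here the fibre of f at y being geometrically reduced means: for every field point k of Y in the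
class of y and every field homomorphism k ⟶ k', the base change X_{k'} (pullback in fppf sheaves) is
reduced (some etale surjective scheme chart is reduced). -/
theorem result {S : Scheme.{u}} {X Y : AlgSp.Space S} (f : X ⟶ Y)
    (hf1 : AlgSp.LocP @Flat f.hom) (hf2 : AlgSp.IsProperMor f.hom) (hf3 : AlgSp.IsFinitePresentationMor f.hom) :
    IsOpen {y : AlgSp.Points Y.obj | ∀ (k : AlgSp.FieldPt Y.obj), AlgSp.Points.mk k = y →
        ∀ (k' : Type u) [Field k'] (φ : k.K →+* k') (Xk' : AlgSp.Sp S) (a : Xk' ⟶ X.obj)
          (b : Xk' ⟶ (AlgSp.yon S).obj (Over.mk (Spec.map (CommRingCat.ofHom φ) ≫ k.str))),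
          IsPullback a b f.hom ((AlgSp.yon S).map (Over.homMk (Spec.map (CommRingCat.ofHom φ)) rfl :
            Over.mk (Spec.map (CommRingCat.ofHom φ) ≫ k.str) ⟶ k.pt) ≫ k.toHom) →
          AlgSp.EtaleLocally (fun U => IsReduced U) Xk'} := by
  obtain ⟨V, g, hg, hgs⟩ := Y.property.atlas
  have sq := IsPullback.of_hasPullback f.hom g
  obtain ⟨U, c, h, hc, hcs, hch⟩ := exists_chart_pullback X.property hg.1 sq
  have hc' : RepWith @Etale (c ≫ pullback.fst f.hom g) :=
    repWith_comp hc (repWith_of_isPullback sq.flip hg)
  have w : (c ≫ pullback.fst f.hom g) ≫ f.hom = (yon S).map h ≫ g := by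
    rw [Category.assoc, sq.w, ← Category.assoc, hch]
  have h1 : LocallyOfFinitePresentation h.left := hf3.1 _ g h hc' hg w
  have h2 : Flat h.left := hf1 _ g h hc' hg w
  rw [← (K609.Points.isQuotientMap_ofPt hg hgs).isOpen_preimage]
  have h3 := preimage_locus X.property Y.property sq hc hcs hch
  have h4 : IsClosed (h.left '' {u | ¬ RedAt h.left u}) := by
    refine isClosed_image_of_saturated hf2.2.2 sq hc hcs hch _ ?_ ?_
    · have h5 := Groth.Agent.S2549.result h.left
      rw [← isOpen_compl_iff]
      convert h5 using 1
      ext u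
      rw [Set.mem_compl_iff, Set.mem_ofPred_eq, not_not]
      exact (Ega43.GeomAt.geomAt_fiber_iff isoClosed h.left u).symm
    · intro u₁ u₂ e H H'
      exact H (redAt_saturated hc hch e.symm H')
  rw [← isOpen_compl_iff, ← h3] at h4
  exact h4

end Groth.Agent.S10682
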