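import Groth.Statements.S10683
import Groth.Agent.AlgSp.K639.Red
import Groth.Agent.S1301

set_option autoImplicit false
universe u
open CategoryTheory CategoryTheory.Limits AlgebraicGeometry
open AlgSp

namespace Groth.Agent.S10683

open K639.Red K639.Diag K639.Diag2 K639.Fib

/-- For a quasi-compact morphism f : X ⟶ Y between algebraic spaces over S which is locally of finite
presentation, the set E of points of |Y| at which the fibre of f is geometrically reduced is etale
locally constructible: for every affine scheme V with a representable etale a : h_V ⟶ Y, the inverse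
image of E in V is a constructible subset. Here the fibre of f at y being geometrically reduced
means: for every field point k of Y in the class of y and every field homomorphism k ⟶ k', the base
change X_{k'} (pullback in fppf sheaves) is reduced (some etale surjective scheme chart is reduced). -/
theorem result {S : Scheme.{u}} {X Y : AlgSp.Space S} (f : X ⟶ Y)
    (hf1 : AlgSp.IsQuasiCompactMor f.hom) (hf2 : AlgSp.LocP @LocallyOfFinitePresentation f.hom)
    (V : Over S) (hV : IsAffine V.left) (a : (AlgSp.yon S).obj V ⟶ Y.obj) (ha : AlgSp.RepWith @Etale a) :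
    Topology.IsConstructible ((AlgSp.Points.ofPt a) ⁻¹' {y : AlgSp.Points Y.obj | ∀ (k : AlgSp.FieldPt Y.obj), AlgSp.Points.mk k = y →
        ∀ (k' : Type u) [Field k'] (φ : k.K →+* k') (Xk' : AlgSp.Sp S) (a : Xk' ⟶ X.obj)
          (b : Xk' ⟶ (AlgSp.yon S).obj (Over.mk (Spec.map (CommRingCat.ofHom φ) ≫ k.str))),
          IsPullback a b f.hom ((AlgSp.yon S).map (Over.homMk (Spec.map (CommRingCat.ofHom φ)) rfl :
            Over.mk (Spec.map (CommRingCat.ofHom φ) ≫ k.str) ⟶ k.pt) ≫ k.toHom) →
          AlgSp.EtaleLocally (fun U => IsReduced U) Xk'}) := by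
  have sqV := IsPullback.of_hasPullback f.hom a
  have hVc : CompactSpace V.left := inferInstance
  have hVq : IsQuasiCompactSp ((yon S).obj V) :=
    ⟨V, (yon S).map (𝟙 V), (repWith_yon_map_iff @Etale (𝟙 V)).2 (inferInstanceAs (Etale (𝟙 V.left))),
      (repWith_yon_map_iff @Surjective (𝟙 V)).2 (inferInstanceAs (Surjective (𝟙 V.left))), hVc⟩
  obtain ⟨U, c, hc, hcs, hU⟩ := hf1 (IsAlgSpace.yon_obj V) hVq a _ _ sqV
  have hU' : CompactSpace U.left := hU
  obtain ⟨h, hch⟩ := (yon S).map_surjective (c ≫ pullback.snd f.hom a)
  have hc' : RepWith @Etale (c ≫ pullback.fst f.hom a) :=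
    repWith_comp hc (repWith_of_isPullback sqV.flip ha)
  have w : (c ≫ pullback.fst f.hom a) ≫ f.hom = (yon S).map h ≫ a := by
    rw [Category.assoc, sqV.w, ← Category.assoc, hch]
  have : LocallyOfFinitePresentation h.left := hf2 _ a h hc' ha w
  have : QuasiCompact h.left := inferInstance
  have h1 := (Groth.Agent.S1301.result h.left).isConstructible
  convert h1 using 1
  ext v
  have h2 := geomRedAt_ofPt_iff sqV hc hcs hch.symm v
  refine Iff.trans ?_ h2
  constructor
  · intro H
    exact H (FieldPt.ofPt a v) rfl
  · intro H k hk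
    exact geomRedAt_of_mk_eq X.property Y.property hk.symm H

end Groth.Agent.S10683
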