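import Groth.Statements.S10687
import Groth.Agent.AlgSp.K639.GorSp
import Groth.Agent.S3627

set_option autoImplicit false
universe u
open CategoryTheory CategoryTheory.Limits AlgebraicGeometry
open AlgSp

namespace Groth.Agent.S10687

open K639.Diag K639.Diag2 K639.NoethFib K639.GorSp Groth.Agent

/-- For morphisms f : X ⟶ Y and g : Y ⟶ Z between algebraic spaces over S whose fibres, and those of f ≫
g, are locally Noetherian, and a point x of |X|: (1) if g is Gorenstein at the image of x and f is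
Gorenstein at x itself, then so is f ≫ g at x; (2) if f ≫ g is Gorenstein at x and f is flat there,
then f is Gorenstein at x and g at the image of x. Here f is Gorenstein at x when in every etale
chart diagram through x the top arrow is Gorenstein at the point over x (flat there, with Gorenstein
local ring of its fibre), and the fibres of a morphism are locally Noetherian when every fibre over
a field point (pullback in fppf sheaves) is a locally Noetherian algebraic space. -/
theorem result {S : Scheme.{u}} {X Y Z : AlgSp.Space S} (f : X ⟶ Y) (g : Y ⟶ Z)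
    (hf : ∀ (k : AlgSp.FieldPt Y.obj) (Xk : AlgSp.Sp S) (a : Xk ⟶ X.obj) (b : Xk ⟶ (AlgSp.yon S).obj k.pt),
        IsPullback a b f.hom k.toHom → AlgSp.IsLocNoethSp Xk)
    (hg : ∀ (k : AlgSp.FieldPt Z.obj) (Xk : AlgSp.Sp S) (a : Xk ⟶ Y.obj) (b : Xk ⟶ (AlgSp.yon S).obj k.pt),
        IsPullback a b g.hom k.toHom → AlgSp.IsLocNoethSp Xk)
    (hfg : ∀ (k : AlgSp.FieldPt Z.obj) (Xk : AlgSp.Sp S) (a : Xk ⟶ X.obj) (b : Xk ⟶ (AlgSp.yon S).obj k.pt),
        IsPullback a b (f ≫ g).hom k.toHom → AlgSp.IsLocNoethSp Xk)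
    (x : AlgSp.Points X.obj) :
    (AlgSp.LocPAt (fun h u => Dual3.IsGorensteinAt h u) f.hom x → AlgSp.LocPAt (fun h u => Dual3.IsGorensteinAt h u) g.hom (AlgSp.Points.map f.hom x) →
        AlgSp.LocPAt (fun h u => Dual3.IsGorensteinAt h u) (f ≫ g).hom x) ∧
      (AlgSp.LocPAt (fun h u => Dual3.IsGorensteinAt h u) (f ≫ g).hom x → AlgSp.IsFlatAtMor f.hom x →
        AlgSp.LocPAt (fun h u => Dual3.IsGorensteinAt h u) f.hom x ∧ AlgSp.LocPAt (fun h u => Dual3.IsGorensteinAt h u) g.hom (AlgSp.Points.map f.hom x)) := by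
  obtain ⟨D⟩ := exists_compDiag f.hom g.hom X.property Y.property Z.property
  obtain ⟨u, rfl⟩ := K609.Points.surjective_ofPt_of_repWith_surjective D.has x
  have e1 : Points.ofPt D.b (D.k.left u) = Points.map f.hom (Points.ofPt D.a u) := ofPt_target D.wk u
  have h1 := gorInv.locPAt_iff D.ha D.hb D.wk u
  have h2 := gorInv.locPAt_iff D.hb D.hc D.wl (D.k.left u)
  have h3 := gorInv.locPAt_iff D.ha D.hc D.w u
  have h4 := flatInv.locPAt_iff D.ha D.hb D.wk u
  rw [e1] at h2
  have key := S3627.result D.U.left D.V.left D.W.left D.k.left D.l.left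
    (isLocallyNoetherian_fiber hf D.ha D.hb D.wk) (isLocallyNoetherian_fiber hg D.hb D.hc D.wl)
    (isLocallyNoetherian_fiber (h := D.k ≫ D.l) hfg D.ha D.hc D.w) u
  refine ⟨fun H1 H2 => ?_, fun H1 H2 => ?_⟩
  · exact h3.2 (key.1 (h1.1 H1) (h2.1 H2))
  · obtain ⟨k1, k2⟩ := key.2 (h3.1 H1) (h4.1 H2)
    exact ⟨h1.2 k1, h2.2 k2⟩

end Groth.Agent.S10687
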