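import Groth.Statements.S10688
import Groth.Agent.AlgSp.K639.GorSp
import Groth.Agent.S3625

set_option autoImplicit false
universe u
open CategoryTheory CategoryTheory.Limits AlgebraicGeometry
open AlgSp

namespace Groth.Agent.S10688

open K639.Diag K639.Diag2 K639.NoethFib K639.GorSp Groth.Agent

/-- For a morphism f : X ⟶ Y between algebraic spaces over S with locally Noetherian fibres, g : Y' ⟶ Y
locally of finite type, f' : X' ⟶ Y' the base change (a pullback square of algebraic spaces) with
projection g' : X' ⟶ X, and x' a point of |X'| with image x: (1) if f is Gorenstein at x then so is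
f' at x'; (2) when f is flat at x, Gorensteinness of f' at x' implies that of f at x; (3) the same
conclusion holds if instead g is flat at the image of x' and f' is Gorenstein at x'. Here f is
Gorenstein at x when in every etale chart diagram through x the top arrow is Gorenstein at the point
over x (flat there, with Gorenstein local ring of its fibre), and the fibres of a morphism are
locally Noetherian when every fibre over a field point (pullback in fppf sheaves) is a locally
Noetherian algebraic space. -/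
theorem result {S : Scheme.{u}} {X Y X' Y' : AlgSp.Space S} (f : X ⟶ Y) (g : Y' ⟶ Y) (g' : X' ⟶ X) (f' : X' ⟶ Y')
    (hsq : IsPullback g'.hom f'.hom f.hom g.hom)
    (hf : ∀ (k : AlgSp.FieldPt Y.obj) (Xk : AlgSp.Sp S) (a : Xk ⟶ X.obj) (b : Xk ⟶ (AlgSp.yon S).obj k.pt),
        IsPullback a b f.hom k.toHom → AlgSp.IsLocNoethSp Xk)
    (hg : AlgSp.LocP @LocallyOfFiniteType g.hom) (x' : AlgSp.Points X'.obj) :
    (AlgSp.LocPAt (fun h u => Dual3.IsGorensteinAt h u) f.hom (AlgSp.Points.map g'.hom x') → AlgSp.LocPAt (fun h u => Dual3.IsGorensteinAt h u) f'.hom x') ∧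
      (AlgSp.IsFlatAtMor f.hom (AlgSp.Points.map g'.hom x') → AlgSp.LocPAt (fun h u => Dual3.IsGorensteinAt h u) f'.hom x' →
        AlgSp.LocPAt (fun h u => Dual3.IsGorensteinAt h u) f.hom (AlgSp.Points.map g'.hom x')) ∧
      (AlgSp.IsFlatAtMor g.hom (AlgSp.Points.map f'.hom x') → AlgSp.LocPAt (fun h u => Dual3.IsGorensteinAt h u) f'.hom x' →
        AlgSp.LocPAt (fun h u => Dual3.IsGorensteinAt h u) f.hom (AlgSp.Points.map g'.hom x')) := by
  obtain ⟨D⟩ := exists_bcDiag hsq X.property Y.property Y'.property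
  obtain ⟨u', rfl⟩ := K609.Points.surjective_ofPt_of_repWith_surjective D.has' x'
  have e1 : Points.map g'.hom (Points.ofPt D.a' u') = Points.ofPt D.a (D.s.left u') := (ofPt_target D.ws u').symm
  have e2 : Points.map f'.hom (Points.ofPt D.a' u') = Points.ofPt D.b' (D.h'.left u') := (ofPt_target D.w' u').symm
  have h1 := gorInv.locPAt_iff D.ha D.hb D.w (D.s.left u')
  have h2 := gorInv.locPAt_iff D.ha' D.hb' D.w' u'
  have h3 := flatInv.locPAt_iff D.ha D.hb D.w (D.s.left u')
  have h4 := flatInv.locPAt_iff D.hb' D.hb D.wt (D.h'.left u')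
  rw [← e1] at h1 h3
  rw [← e2] at h4
  have : LocallyOfFiniteType D.t.left := hg D.b' D.b D.t D.hb' D.hb D.wt
  obtain ⟨k1, k2, k3⟩ := S3625.result D.U.left D.V.left D.U'.left D.V'.left D.h.left D.t.left D.h'.left D.s.left
    (D.sq.map (Over.forget S)) (isLocallyNoetherian_fiber hf D.ha D.hb D.w) u'
  exact ⟨fun H => h2.2 (k1 (h1.1 H)), fun H H' => h1.2 (k2 (h3.1 H) (h2.1 H')),
    fun H H' => h1.2 (k3 (h4.1 H) (h2.1 H'))⟩

end Groth.Agent.S10688
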