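import Groth.Statements.S10689
import Groth.Agent.AlgSp.K639.GorSp
import Groth.Agent.S3617
import Groth.Agent.S3626

set_option autoImplicit false
universe u
open CategoryTheory CategoryTheory.Limits AlgebraicGeometry
open AlgSp

namespace Groth.Agent.S10689

open K639.Diag K639.Diag2 K639.NoethFib K639.GorSp Groth.Agent

/-- For a flat morphism f : X ⟶ Y between algebraic spaces over S which is locally of finite
presentation, the set W of points of |X| at which f is Gorenstein (in every etale chart diagram
through the point the top arrow is flat there with Gorenstein local ring of its fibre) is open in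
|X|, and for any morphism of algebraic spaces g : Y' ⟶ Y with base change f' : X' ⟶ Y' and
projection g' : X' ⟶ X the corresponding set for f' is the inverse image of W under |g'|. -/
theorem result {S : Scheme.{u}} {X Y : AlgSp.Space S} (f : X ⟶ Y)
    (hf1 : AlgSp.LocP @Flat f.hom) (hf2 : AlgSp.LocP @LocallyOfFinitePresentation f.hom) :
    IsOpen {x : AlgSp.Points X.obj | AlgSp.LocPAt (fun h u => Dual3.IsGorensteinAt h u) f.hom x} ∧
      ∀ (X' Y' : AlgSp.Space S) (g : Y' ⟶ Y) (g' : X' ⟶ X) (f' : X' ⟶ Y'), IsPullback g'.hom f'.hom f.hom g.hom →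
        {x' : AlgSp.Points X'.obj | AlgSp.LocPAt (fun h u => Dual3.IsGorensteinAt h u) f'.hom x'} =
          AlgSp.Points.map g'.hom ⁻¹' {x : AlgSp.Points X.obj | AlgSp.LocPAt (fun h u => Dual3.IsGorensteinAt h u) f.hom x} := by
  refine ⟨?_, fun X' Y' g g' f' sq => ?_⟩
  · obtain ⟨V, b, hb, hbs⟩ := Y.property.atlas
    obtain ⟨U, a, h, ha, has, w⟩ := exists_diagram_at (f := f.hom) X.property hb hbs
    rw [← (K609.Points.isQuotientMap_ofPt ha has).isOpen_preimage]
    have : Flat h.left := hf1 a b h ha hb w
    have : LocallyOfFinitePresentation h.left := hf2 a b h ha hb w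
    have h1 := S3617.result U.left V.left h.left
    convert h1 using 1
    ext u
    exact gorInv.locPAt_iff ha hb w u
  · obtain ⟨D⟩ := exists_bcDiag sq X.property Y.property Y'.property
    ext x'
    obtain ⟨u', rfl⟩ := K609.Points.surjective_ofPt_of_repWith_surjective D.has' x'
    have e1 : Points.map g'.hom (Points.ofPt D.a' u') = Points.ofPt D.a (D.s.left u') := (ofPt_target D.ws u').symm
    have h1 := gorInv.locPAt_iff D.ha D.hb D.w (D.s.left u')
    have h2 := gorInv.locPAt_iff D.ha' D.hb' D.w' u'
    have : Flat D.h.left := hf1 D.a D.b D.h D.ha D.hb D.w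
    have : LocallyOfFinitePresentation D.h.left := hf2 D.a D.b D.h D.ha D.hb D.w
    have h3 := S3626.result D.U.left D.V.left D.U'.left D.V'.left D.h.left D.t.left D.h'.left D.s.left
      (D.sq.map (Over.forget S)) u'
    rw [← e1] at h1
    exact h2.trans (h3.trans h1.symm)

end Groth.Agent.S10689
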