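import Groth.Statements.S10690
import Groth.Agent.AlgSp.K639.GorSp

set_option autoImplicit false
universe u
open CategoryTheory CategoryTheory.Limits AlgebraicGeometry
open AlgSp

namespace Groth.Agent.S10690

open K639.Diag K639.Diag2 K639.Fib K639.NoethFib K639.GorSp Groth.Agent

/-- For a morphism f : X ⟶ Y between algebraic spaces over S whose fibres are locally Noetherian, the
following are equivalent: (1) f is Gorenstein at every point of |X|; (2) f is flat and for some
scheme V with a representable etale surjective b : h_V ⟶ Y every fibre of X ×_Y V ⟶ V over a point v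
of V (pullback along the residue field point of v) is a Gorenstein algebraic space (some etale
surjective scheme chart is a Gorenstein scheme); (3) f is flat and the same holds for every scheme V
with a representable etale b : h_V ⟶ Y. Here f is Gorenstein at x when in every etale chart diagram
through x the top arrow is Gorenstein at the point over x (flat there, with Gorenstein local ring of
its fibre), and the fibres of a morphism are locally Noetherian when every fibre over a field point
(pullback in fppf sheaves) is a locally Noetherian algebraic space. (The published statement also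
characterises being Gorenstein at a single point through strict henselizations; that part is stated
separately and not included here.) -/
theorem result {S : Scheme.{u}} {X Y : AlgSp.Space S} (f : X ⟶ Y)
    (hf : ∀ (k : AlgSp.FieldPt Y.obj) (Xk : AlgSp.Sp S) (a : Xk ⟶ X.obj) (b : Xk ⟶ (AlgSp.yon S).obj k.pt),
        IsPullback a b f.hom k.toHom → AlgSp.IsLocNoethSp Xk) :
    [∀ x : AlgSp.Points X.obj, AlgSp.LocPAt (fun h u => Dual3.IsGorensteinAt h u) f.hom x,
      AlgSp.LocP @Flat f.hom ∧ ∃ (V : Over S) (b : (AlgSp.yon S).obj V ⟶ Y.obj),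
        AlgSp.RepWith @Etale b ∧ AlgSp.RepWith @Surjective b ∧
          ∀ (v : ↥V.left) (Xv : AlgSp.Sp S) (a : Xv ⟶ X.obj)
            (c : Xv ⟶ (AlgSp.yon S).obj (Over.mk (V.left.fromSpecResidueField v ≫ V.hom))),
            IsPullback a c f.hom ((AlgSp.yon S).map (Over.homMk (V.left.fromSpecResidueField v) rfl :
              Over.mk (V.left.fromSpecResidueField v ≫ V.hom) ⟶ V) ≫ b) →
            AlgSp.EtaleLocally Dual3.IsGorenstein Xv,
      AlgSp.LocP @Flat f.hom ∧ ∀ (V : Over S) (b : (AlgSp.yon S).obj V ⟶ Y.obj), AlgSp.RepWith @Etale b →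
          ∀ (v : ↥V.left) (Xv : AlgSp.Sp S) (a : Xv ⟶ X.obj)
            (c : Xv ⟶ (AlgSp.yon S).obj (Over.mk (V.left.fromSpecResidueField v ≫ V.hom))),
            IsPullback a c f.hom ((AlgSp.yon S).map (Over.homMk (V.left.fromSpecResidueField v) rfl :
              Over.mk (V.left.fromSpecResidueField v ≫ V.hom) ⟶ V) ≫ b) →
            AlgSp.EtaleLocally Dual3.IsGorenstein Xv].TFAE := by
  tfae_have 1 → 3 := by
    intro H
    refine ⟨fun U V a b h ha hb w => ?_, fun V b hb v Xv a c sq => ?_⟩
    · rw [Flat.iff_flat_stalkMap]
      intro u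
      exact (H _ a b h u ha hb w rfl).1
    · have sqV := IsPullback.of_hasPullback f.hom b
      obtain ⟨U, c₀, h, hc₀, hc₀s, hch⟩ := exists_chart_pullback X.property hb.1 sqV
      obtain ⟨cT, m, -, -, sqc, -, -, -⟩ := exists_chart_baseChange sqV hch (resMap V v) sq (isPullback_fib h v)
      have ha : RepWith @Etale (c₀ ≫ pullback.fst f.hom b) :=
        repWith_comp hc₀ (repWith_of_isPullback sqV.flip hb)
      have w : (c₀ ≫ pullback.fst f.hom b) ≫ f.hom = (yon S).map h ≫ b := by
        rw [Category.assoc, sqV.w, ← Category.assoc, hch]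
      refine ⟨fibOver h v, cT, repWith_of_isPullback sqc hc₀, repWith_of_isPullback sqc hc₀s,
        isLocallyNoetherian_fiber hf ha hb w v, fun z => ?_⟩
      have h1 := Dual.H329.GorBase.gorFib_iff_of_isPullback h.left
        (IsPullback.of_hasPullback h.left (V.left.fromSpecResidueField v)) z
      refine h1.1 ?_
      exact ((Dual.H329.GorBase.isGorensteinAt_iff _ _).1 (H _ _ b h (h.left.fiberι v z) ha hb w rfl)).2
  tfae_have 3 → 2 := by
    rintro ⟨H1, H2⟩
    obtain ⟨V, b, hb, hbs⟩ := Y.property.atlas
    exact ⟨H1, V, b, hb, hbs, H2 V b hb⟩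
  tfae_have 2 → 1 := by
    rintro ⟨H1, V, b, hb, hbs, H2⟩ x
    obtain ⟨U, a, h, ha, has, w⟩ := exists_diagram_at (f := f.hom) X.property hb hbs
    obtain ⟨u, rfl⟩ := K609.Points.surjective_ofPt_of_repWith_surjective has x
    refine (gorInv.locPAt_iff ha hb w u).2 ⟨?_, ?_⟩
    · have : Flat h.left := H1 a b h ha hb w
      exact Flat.stalkMap h.left u
    · have sqv := IsPullback.of_hasPullback f.hom ((yon S).map (resMap V (h.left u)) ≫ b)
      have h1 := H2 (h.left u) _ _ _ sqv
      obtain ⟨c, hc, -, hc2⟩ := exists_etale_to_baseChange ha hb w (IsPullback.of_hasPullback f.hom b)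
      obtain ⟨cT, m, -, -, sqc, -, -, -⟩ := exists_chart_baseChange (IsPullback.of_hasPullback f.hom b) hc2
        (resMap V (h.left u)) sqv (isPullback_fib h (h.left u))
      exact (isGorenstein_chart h1 (repWith_of_isPullback sqc hc)).2 (h.left.asFiber u)
  tfae_finish

end Groth.Agent.S10690
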