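import Groth.Statements.S10691
import Groth.Agent.AlgSp.K639.GorSp
import Groth.Agent.S3624
import Groth.Agent.S0538
import Groth.Agent.S0539
import Groth.Agent.S0540

set_option autoImplicit false
universe u
open CategoryTheory CategoryTheory.Limits AlgebraicGeometry
open AlgSp

namespace Groth.Agent.S10691

open K639.Diag K639.Diag2 K639.Fib K639.NoethFib K639.GorSp Groth.Agent

/-- For locally Noetherian algebraic spaces X, Y over S and a flat morphism f : X ⟶ Y, with X Gorenstein
(some etale surjective scheme chart is a Gorenstein scheme): f is Gorenstein at every point of |X|,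
and for every point x of |X| the etale local ring of Y at a geometric point over f(x), presented as
a strict henselization R of the local ring of an etale scheme chart V of Y at a point v over f(x),
is a Gorenstein local ring. Here f is Gorenstein at x when in every etale chart diagram through x
the top arrow is Gorenstein at the point over x (flat there, with Gorenstein local ring of its
fibre), and the fibres of a morphism are locally Noetherian when every fibre over a field point
(pullback in fppf sheaves) is a locally Noetherian algebraic space. -/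
theorem result {S : Scheme.{u}} {X Y : AlgSp.Space S} (f : X ⟶ Y) (hf : AlgSp.LocP @Flat f.hom)
    (hX1 : AlgSp.IsLocNoethSp X.obj) (hY1 : AlgSp.IsLocNoethSp Y.obj)
    (hX2 : AlgSp.EtaleLocally Dual3.IsGorenstein X.obj) :
    (∀ x : AlgSp.Points X.obj, AlgSp.LocPAt (fun h u => Dual3.IsGorensteinAt h u) f.hom x) ∧
      ∀ (x : AlgSp.Points X.obj) (V : Over S) (b : (AlgSp.yon S).obj V ⟶ Y.obj), AlgSp.RepWith @Etale b →
        ∀ (v : ↥V.left), AlgSp.Points.ofPt b v = AlgSp.Points.map f.hom x →
          ∀ (R : Type u) [CommRing R] [IsLocalRing R] [Algebra ↥(V.left.presheaf.stalk v) R]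
            [IsLocalHom (algebraMap ↥(V.left.presheaf.stalk v) R)]
            [Hensel.IsStrictHenselization ↥(V.left.presheaf.stalk v) R],
            LocCoh.IsGorensteinLocalRing R := by
  refine ⟨fun x => ?_, fun x V b hb v hv R _ _ _ _ _ => ?_⟩
  · obtain ⟨V, b, hb, hbs⟩ := Y.property.atlas
    obtain ⟨U, a, h, ha, has, w⟩ := exists_diagram_at (f := f.hom) X.property hb hbs
    obtain ⟨u, rfl⟩ := K609.Points.surjective_ofPt_of_repWith_surjective has x
    have : IsLocallyNoetherian V.left := isLocallyNoetherian_chart hY1 hb
    have : Flat h.left := hf a b h ha hb w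
    exact (gorInv.locPAt_iff ha hb w u).2 ((S3624.result U.left V.left h.left (isGorenstein_chart hX2 ha)).1 u)
  · -- a chart of `X ×_Y V`
    have sqV := IsPullback.of_hasPullback f.hom b
    obtain ⟨U, c₀, h, hc₀, hc₀s, hch⟩ := exists_chart_pullback X.property hb.1 sqV
    have ha : RepWith @Etale (c₀ ≫ pullback.fst f.hom b) :=
      repWith_comp hc₀ (repWith_of_isPullback sqV.flip hb)
    have w : (c₀ ≫ pullback.fst f.hom b) ≫ f.hom = (yon S).map h ≫ b := by
      rw [Category.assoc, sqV.w, ← Category.assoc, hch]
    rw [Points.ofPt_eq_map_ofScheme] at hv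
    obtain ⟨p, hp1, hp2⟩ := K609.Points.exists_of_isPullback sqV x (Points.ofScheme V v) hv.symm
    obtain ⟨u, rfl⟩ := K609.Points.surjective_ofPt_of_repWith_surjective hc₀s p
    have hu : h.left u = v := by
      rw [Points.map_ofPt, hch, K609.Points.ofPt_yon_map] at hp2
      exact K609.Points.ofScheme_injective _ hp2
    have : IsLocallyNoetherian V.left := isLocallyNoetherian_chart hY1 hb
    have : Flat h.left := hf _ b h ha hb w
    have h1 := (S3624.result U.left V.left h.left (isGorenstein_chart hX2 ha)).2 u
    rw [hu] at h1
    have : IsNoetherianRing R := (S0540.result (V.left.presheaf.stalk v) R).mp inferInstance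
    have : Module.FaithfullyFlat (V.left.presheaf.stalk v) R := S0539.result _ R
    rw [S0344.result (V.left.presheaf.stalk v) R, S0538.result (V.left.presheaf.stalk v) R]
    refine ⟨h1, ?_⟩
    let : Field (R ⧸ IsLocalRing.maximalIdeal R) := Ideal.Quotient.field _
    exact LoccohA.GorBC.isGorensteinLocalRing_of_field _

end Groth.Agent.S10691
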