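import Groth.Statements.S10692
import Groth.Agent.AlgSp.K639.Dim2
import Groth.Agent.S10679
import Groth.Agent.S10680

set_option autoImplicit false
universe u
open CategoryTheory CategoryTheory.Limits AlgebraicGeometry
open AlgSp

namespace Groth.Agent.S10692

open K639.Diag K639.Diag2 K639.Dim K639.Dim2 K639.GeomRedOpen

/-- For a proper flat morphism f : X ⟶ Y between algebraic spaces over S which is of finite
presentation, the fibre dimension function on |Y| is locally constant: for every d the set of y such
that every fibre X_k over y (k a field point in the class of y, X_k any pullback in fppf sheaves)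
has dimension exactly d is open. -/
theorem result {S : Scheme.{u}} {X Y : AlgSp.Space S} (f : X ⟶ Y) (hf1 : AlgSp.IsProperMor f.hom)
    (hf2 : AlgSp.LocP @Flat f.hom) (hf3 : AlgSp.IsFinitePresentationMor f.hom) (d : WithBot ℕ∞) :
    IsOpen {y : AlgSp.Points Y.obj | ∀ (k : AlgSp.FieldPt Y.obj), AlgSp.Points.mk k = y →
      ∀ (Xk : AlgSp.Sp S) (fst : Xk ⟶ X.obj) (snd : Xk ⟶ (AlgSp.yon S).obj k.pt),
        IsPullback fst snd f.hom k.toHom → AlgSp.dim Xk = d} := by
  obtain rfl | rfl | ⟨n, rfl⟩ := cases_dim d
  · convert Groth.Agent.S10680.result f hf1 0 using 1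
    ext y
    refine forall_congr' fun k => forall_congr' fun hk => forall_congr' fun Xk => forall_congr' fun a =>
      forall_congr' fun b => forall_congr' fun sq => ?_
    exact (WithBot.lt_zero_iff_eq_bot _).symm
  · apply isOpen_of_affine_charts Y.property
    intro V hV g hg
    have sq := IsPullback.of_hasPullback f.hom g
    obtain ⟨U, c, h, hc, hcs, hch, hU⟩ := exists_chart_of_qc hf1.2.1.2 sq
    have hlft : LocP @LocallyOfFiniteType f.hom := hf1.2.1.1
    have hc' : RepWith @Etale (c ≫ pullback.fst f.hom g) :=
      repWith_comp hc (repWith_of_isPullback sq.flip hg)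
    have w : (c ≫ pullback.fst f.hom g) ≫ f.hom = (yon S).map h ≫ g := by
      rw [Category.assoc, sq.w, ← Category.assoc, hch]
    have hh : LocallyOfFiniteType h.left := hlft _ g h hc' hg w
    convert isOpen_empty using 1
    rw [Set.eq_empty_iff_forall_notMem]
    intro v H
    obtain ⟨P, α₁, β₁, sq₁⟩ : ∃ (P : AlgSp.Sp S) (α₁ : P ⟶ X.obj) (β₁ : P ⟶ _),
        IsPullback α₁ β₁ f.hom (FieldPt.ofPt g v).toHom := ⟨_, _, _, IsPullback.of_hasPullback _ _⟩
    have h4 := H (FieldPt.ofPt g v) rfl P α₁ β₁ sq₁
    rw [dim_fibre_eq X.property Y.property hlft sq hc hcs hch v rfl sq₁] at h4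
    obtain ⟨N, hN⟩ := exists_bound h.left
    have h2 : topologicalKrullDim (h.left.fiber v) ≤ N := (dim_fiber_le_iff h.left v _).2 fun u _ => hN u
    rw [h4, top_le_iff] at h2
    exact natCast_ne_top N h2
  · have h1 := Groth.Agent.S10680.result f hf1 ((n + 1 : ℕ) : WithBot ℕ∞)
    rcases n with _ | n
    · have h2 := Groth.Agent.S10679.result f hf2 hf3 ⊥
      convert h1.inter h2 using 1
      ext y
      constructor
      · intro H
        refine ⟨fun k hk Xk a b sq => ?_, fun k hk Xk a b sq => ?_⟩
        · rw [H k hk Xk a b sq]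
          norm_cast
        · rw [H k hk Xk a b sq]
          exact WithBot.bot_lt_coe _
      · rintro ⟨ha, hb⟩ k hk Xk a b sq
        have e1 := ha k hk Xk a b sq
        have e2 := hb k hk Xk a b sq
        obtain h | h | ⟨m, h⟩ := cases_dim (AlgSp.dim Xk)
        · rw [h] at e2
          exact absurd e2 (lt_irrefl _)
        · rw [h] at e1
          exact absurd e1 (not_lt.2 le_top)
        · rw [h] at e1 ⊢
          norm_cast at e1 ⊢
          omega
    · have h2 := Groth.Agent.S10679.result f hf2 hf3 (n : WithBot ℕ∞)
      convert h1.inter h2 using 1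
      ext y
      constructor
      · intro H
        refine ⟨fun k hk Xk a b sq => ?_, fun k hk Xk a b sq => ?_⟩
        · rw [H k hk Xk a b sq]
          norm_cast
          omega
        · rw [H k hk Xk a b sq]
          norm_cast
          omega
      · rintro ⟨ha, hb⟩ k hk Xk a b sq
        have e1 := ha k hk Xk a b sq
        have e2 := hb k hk Xk a b sq
        obtain h | h | ⟨m, h⟩ := cases_dim (AlgSp.dim Xk)
        · rw [h] at e2
          exact absurd e2 not_lt_bot
        · rw [h] at e1
          exact absurd e1 (not_lt.2 le_top)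
        · rw [h] at e1 e2 ⊢
          norm_cast at e1 e2 ⊢
          omega


end Groth.Agent.S10692
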