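import Groth.Agent.AlgSp.K640.Pinch
import Groth.Agent.AlgSp.K598.RepKit
import Groth.Agent.AlgSp.K620.Dec
import Groth.Agent.AlgSp.K609.GpdDim

set_option autoImplicit false
universe u
open CategoryTheory CategoryTheory.Limits AlgebraicGeometry
open AlgSp

namespace Groth.Agent.S10694

/-- For an integral morphism f : X ⟶ Y between algebraic spaces over S and a point y of |Y| represented
by a field point k whose morphism h_{Spec k} ⟶ Y is a representable closed immersion, f factors as g
: X ⟶ X' followed by ν : X' ⟶ Y with: (1) ν integral; (2) g an isomorphism over the open subspace of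
X' complementary to the fibre X'_y (for the fibre i : X'_y ⟶ X' of ν over k and an open subspace W ⊂
X' whose points are exactly those outside the image of |X'_y|, the base change of g to W is an
isomorphism); (3) |X'_y| is a single point and X'_y ⟶ Spec k has a section (the point has residue
field k). Moreover ν is finite whenever f is finite and Y is locally Noetherian. -/
theorem result {S : Scheme.{u}} {X Y : AlgSp.Space S} (f : X ⟶ Y) (hf : AlgSp.IsIntegralMor f.hom)
    (y : AlgSp.Points Y.obj) (k : AlgSp.FieldPt Y.obj) (hk : AlgSp.Points.mk k = y)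
    (hcl : AlgSp.RepWith @IsClosedImmersion k.toHom) :
    ∃ (X' : AlgSp.Space S) (g : X ⟶ X') (ν : X' ⟶ Y), g ≫ ν = f ∧ AlgSp.IsIntegralMor ν.hom ∧
      (∀ (Xy : AlgSp.Space S) (i : Xy ⟶ X') (pr : Xy.obj ⟶ (AlgSp.yon S).obj k.pt),
        IsPullback i.hom pr ν.hom k.toHom →
          (∀ (W : AlgSp.Space S) (w : W ⟶ X'), AlgSp.RepWith @IsOpenImmersion w.hom →
            Set.range (AlgSp.Points.map w.hom) = (Set.range (AlgSp.Points.map i.hom))ᶜ →
            ∀ (P : AlgSp.Space S) (fst : P ⟶ X) (snd : P ⟶ W), IsPullback fst.hom snd.hom g.hom w.hom →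
              IsIso snd.hom) ∧
          (∃ x' : AlgSp.Points Xy.obj, ∀ z, z = x') ∧
          ∃ σ : (AlgSp.yon S).obj k.pt ⟶ Xy.obj, σ ≫ pr = 𝟙 _) ∧
      (AlgSp.IsFiniteMor f.hom → AlgSp.IsLocNoethSp Y.obj → AlgSp.IsFiniteMor ν.hom) := by
  have _ := hk
  have hmono : Mono k.toHom := K598.RepKit.mono_of_repWith_isClosedImmersion hcl
  let sqC := IsPullback.of_hasPullback f.hom k.toHom
  let po := IsPushout.of_hasPushout (pullback.fst f.hom k.toHom) (pullback.snd f.hom k.toHom)
  let fQ := po.desc f.hom k.toHom sqC.w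
  have h1 : pushout.inl _ _ ≫ fQ = f.hom := po.inl_desc _ _ _
  have h2 : pushout.inr _ _ ≫ fQ = k.toHom := po.inr_desc _ _ _
  obtain ⟨X', ν, f', hX', hUN⟩ := K640.QNorm.exists_uNorm (f := fQ) Y.property (fun c => by
    obtain ⟨XU, ZU, D, V, i, j, d1, d2, ia, ib, yX, yZ, q, hP, sqX, sqZ, hdc, -⟩ :=
      K640.Pinch.exists_dCov hf hcl sqC po h1 h2 c.affine c.a (IsPullback.of_hasPullback fQ c.a)
    exact ⟨V, D, q, _, _, hdc⟩)
  refine ⟨⟨X', hX'⟩, ⟨pushout.inl _ _ ≫ f'⟩, ⟨ν⟩, ?_, hUN.integral, ?_, ?_⟩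
  · apply ObjectProperty.hom_ext
    change (pushout.inl _ _ ≫ f') ≫ ν = f.hom
    rw [Category.assoc, hUN.w, h1]
  · intro Xy i pr sqy
    have hinj : Function.Injective (AlgSp.Points.map i.hom) := by
      have : Mono i.hom := ⟨fun x x' hx => sqy.hom_ext hx (by
        rw [← cancel_mono k.toHom, Category.assoc, Category.assoc, ← sqy.w, ← Category.assoc, hx, Category.assoc])⟩
      exact K620.Dec.injective_map_of_mono i.hom this
    have hw : (pushout.inr _ _ ≫ f') ≫ ν = 𝟙 _ ≫ k.toHom := by rw [Category.assoc, hUN.w, h2, Category.id_comp]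
    refine ⟨?_, ⟨AlgSp.Points.map (sqy.lift _ _ hw)
      (AlgSp.Points.ofScheme k.pt (IsLocalRing.closedPoint k.K : ↥k.pt.left)), fun z => ?_⟩,
      sqy.lift _ _ hw, sqy.lift_snd _ _ _⟩
    · intro W w _ hrange P fst snd sqP
      have key : IsIso snd.hom := by
        refine K613.Basic.isIso_of_bijective fun T t => ?_
        have hempty : ∀ (R : Over S) (r : R ⟶ T) (z : (AlgSp.yon S).obj R ⟶ (AlgSp.yon S).obj k.pt),
            (AlgSp.yon S).map r ≫ (t ≫ w.hom) ≫ ν = z ≫ k.toHom → IsEmpty R.left := fun R r z h => ⟨fun ρ => by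
          have h3 : AlgSp.Points.map ν (AlgSp.Points.ofPt ((AlgSp.yon S).map r ≫ t ≫ w.hom) ρ) =
              AlgSp.Points.map k.toHom (AlgSp.Points.ofPt z ρ) := by
            rw [AlgSp.Points.map_ofPt, AlgSp.Points.map_ofPt, ← h]
            simp only [Category.assoc]
          obtain ⟨z', hz', -⟩ := K610.Base.exists_of_isPullback sqy _ _ h3
          have h4 : AlgSp.Points.ofPt ((AlgSp.yon S).map r ≫ t ≫ w.hom) ρ ∈ Set.range (AlgSp.Points.map w.hom) :=
            ⟨AlgSp.Points.ofPt ((AlgSp.yon S).map r ≫ t) ρ, by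
              rw [AlgSp.Points.map_ofPt, Category.assoc]⟩
          rw [hrange] at h4
          exact h4 ⟨z', hz'⟩⟩
        obtain ⟨x, hx, hx'⟩ := K640.Pinch.existsUnique_lift hf hcl sqC po h1 h2 Y.property hUN T (t ≫ w.hom) hempty
        refine ⟨sqP.lift x t hx, sqP.lift_snd _ _ _, fun y hy => sqP.hom_ext ?_ ?_⟩
        · rw [sqP.lift_fst]
          apply hx'
          change (y ≫ fst.hom) ≫ pushout.inl _ _ ≫ f' = _
          rw [← hy, Category.assoc, Category.assoc, ← sqP.w]
        · rw [hy, sqP.lift_snd]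
      exact key
    · have h3 : AlgSp.Points.map ν (AlgSp.Points.map i.hom z) = AlgSp.Points.map k.toHom (AlgSp.Points.map pr z) := by
        rw [← AlgSp.Points.map_comp, ← AlgSp.Points.map_comp, ← sqy.w]
      obtain ⟨w, hw'⟩ := K640.Pinch.mem_range hf hcl sqC po h1 h2 Y.property hUN _ _ h3
      have hs : Subsingleton (AlgSp.Points ((AlgSp.yon S).obj k.pt)) := K609.GpdDim.subsingleton_of_iso (Iso.refl _)
      apply hinj
      rw [← hw', ← AlgSp.Points.map_comp, sqy.lift_fst]
      exact congrArg _ (Subsingleton.elim _ _)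
  · intro hfin hn
    exact K640.Pinch.isFiniteMor hf hcl sqC po h1 h2 Y.property hUN hfin hn

end Groth.Agent.S10694
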