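import Groth.Statements.S10697
import Groth.Agent.AlgSp.K637.NagFinal

set_option autoImplicit false
universe u
open CategoryTheory CategoryTheory.Limits AlgebraicGeometry
open AlgSp

namespace Groth.Agent.S10697

/-- Nagata compactification for algebraic spaces. Let `B` be a quasi-compact algebraic space,
quasi-separated over a quasi-separated base scheme `S`, and let `X → B` be separated and of finite
type. Then `X` has a compactification over `B`: `X` embeds, by a quasi-compact open immersion `X →
X̄`, in some algebraic space `X̄` that is proper over `B`, compatible with the structure morphisms.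
(The base scheme is taken quasi-separated so that quasi-separatedness of `B` over `S` is the
absolute notion the published statement uses.) -/
theorem result {S : Scheme.{u}} [QuasiSeparatedSpace S] {X B : AlgSp.Space S} (f : X ⟶ B)
    (hBqc : AlgSp.IsQuasiCompactSp B.obj) (hBqs : AlgSp.IsQuasiSeparatedSp B.obj)
    (hsep : AlgSp.IsSeparatedMor f.hom) (hft : AlgSp.IsFiniteTypeMor f.hom) :
    ∃ (Xc : AlgSp.Space S) (j : X ⟶ Xc) (g : Xc ⟶ B), AlgSp.RepWith @IsOpenImmersion j.hom ∧
      AlgSp.IsQuasiCompactMor j.hom ∧ AlgSp.IsProperMor g.hom ∧ j ≫ g = f := by
  exact K637.NagFinal.main f hBqc hBqs hsep hft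

end Groth.Agent.S10697
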