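import Groth.Statements.S10699
import Groth.Agent.AlgSp.K641.MilMain
import Groth.Agent.AlgSp.K641.MilPair

set_option autoImplicit false
universe u
open CategoryTheory CategoryTheory.Limits AlgebraicGeometry
open AlgSp

namespace Groth.Agent.S10699

/-- Let `t : X → X'` be a thickening of schemes over `S` and `a : X → Y` an affine morphism of schemes
over `S`, and let `Y'` be a pushout of `t` and `a` in the category of schemes over `S`. Then `Y'`
remains a pushout when the square is viewed among algebraic spaces over `S`. -/
theorem result {S : Scheme.{u}} {X X' Y Y' : Over S} (t : X ⟶ X') (a : X ⟶ Y)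
    (a' : X' ⟶ Y') (b : Y ⟶ Y') (ht : MoreMor.IsThickening t.left) [IsAffineHom a.left]
    (hpo : IsPushout t a a' b) :
    IsPushout ((AlgSp.ofScheme S).map t) ((AlgSp.ofScheme S).map a) ((AlgSp.ofScheme S).map a')
      ((AlgSp.ofScheme S).map b) := by
  have hcl : IsClosedImmersion t.left := ht.1
  have hsu : Surjective t.left := ht.2
  obtain ⟨hpb, hM, hs, -⟩ := K641.MilOver.mil_of_isPushout
    (fun y => K641.MilPair.exists_pair t.left hsu.surj a.left y) hpo
  have hth : thick b.left := ⟨(repWith_yon_map_iff _ _).1 hM.closed, ⟨hs hsu.surj⟩⟩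
  exact K641.MilMain.isPushout (hpb.map (yon S)) hM ((repWith_yon_map_iff _ _).2 hth)

end Groth.Agent.S10699
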