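import Groth.Statements.S10702
import Groth.Agent.AlgSp.K640.Base

set_option autoImplicit false
universe u
open CategoryTheory CategoryTheory.Limits AlgebraicGeometry
open AlgSp

namespace Groth.Agent.S10702

/-- Consider a commutative diagram of algebraic spaces over `S` with top row `A → C → E`, bottom row `B
→ D → F` and vertical maps `A → B`, `C → D`, `E → F`. If the left square and the outer rectangle are
cartesian and `B → D` is surjective etale, then the right square is cartesian. -/
theorem result {S : Scheme.{u}} {A B C D E F : AlgSp.Space S} (ac : A ⟶ C) (ab : A ⟶ B)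
    (cd : C ⟶ D) (bd : B ⟶ D) (ce : C ⟶ E) (df : D ⟶ F) (ef : E ⟶ F)
    (hl : IsPullback ac.hom ab.hom cd.hom bd.hom) (hcomm : cd ≫ df = ce ≫ ef)
    (hout : IsPullback (ac ≫ ce).hom ab.hom ef.hom (bd ≫ df).hom) (hsurj : AlgSp.IsSurjectiveMor bd.hom)
    (het : AlgSp.IsEtaleMor bd.hom) : IsPullback ce.hom cd.hom ef.hom df.hom := by
  have hw : ce.hom ≫ ef.hom = cd.hom ≫ df.hom := by
    have := congrArg (fun f => f.hom) hcomm
    exact this.symm
  have hE := (K640.Base.eSurj_of_isEtaleMor B.property het hsurj).fSurj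
  -- the canonical map to the fibre product
  let k : C.obj ⟶ pullback ef.hom df.hom := pullback.lift ce.hom cd.hom hw
  have hk1 : k ≫ pullback.fst ef.hom df.hom = ce.hom := pullback.lift_fst _ _ _
  have hk2 : k ≫ pullback.snd ef.hom df.hom = cd.hom := pullback.lift_snd _ _ _
  -- base change of `P` to `B`
  have sq0 := IsPullback.of_hasPullback (pullback.snd ef.hom df.hom) bd.hom
  have hb : K613.Cover.FSurj (pullback.fst (pullback.snd ef.hom df.hom) bd.hom) := hE.of_isPullback sq0.flip
  have sq1 : IsPullback (ac.hom) (sq0.lift (ac.hom ≫ k) ab.hom (by rw [Category.assoc, hk2, hl.w])) k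
      (pullback.fst (pullback.snd ef.hom df.hom) bd.hom) := by
    refine IsPullback.of_bot (v₂₁ := pullback.snd (pullback.snd ef.hom df.hom) bd.hom) (v₂₂ := pullback.snd ef.hom df.hom)
      (h₃₁ := bd.hom) ?_ (by rw [sq0.lift_fst]) sq0
    rw [sq0.lift_snd, hk2]
    exact hl
  have hiso : IsIso (sq0.lift (ac.hom ≫ k) ab.hom (by rw [Category.assoc, hk2, hl.w])) := by
    have sq2 : IsPullback (pullback.fst (pullback.snd ef.hom df.hom) bd.hom ≫ pullback.fst ef.hom df.hom)
        (pullback.snd (pullback.snd ef.hom df.hom) bd.hom) ef.hom (bd.hom ≫ df.hom) :=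
      (sq0.flip.paste_vert (IsPullback.of_hasPullback ef.hom df.hom).flip).flip
    have h3 : IsPullback (ac.hom ≫ ce.hom) ab.hom ef.hom (bd.hom ≫ df.hom) := hout
    have : sq0.lift (ac.hom ≫ k) ab.hom (by rw [Category.assoc, hk2, hl.w]) = (h3.isoIsPullback _ _ sq2).hom := by
      apply sq2.hom_ext
      · rw [IsPullback.isoIsPullback_hom_fst, ← Category.assoc, sq0.lift_fst, Category.assoc, hk1]
      · rw [IsPullback.isoIsPullback_hom_snd, sq0.lift_snd]
    rw [this]
    infer_instance
  have : IsIso k := hb.isIso sq1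
  exact IsPullback.of_iso_pullback ⟨hw⟩ (asIso k) hk1 hk2

end Groth.Agent.S10702
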