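import Groth.Statements.S10703
import Groth.Agent.AlgSp.K640.CoeqEff
import Groth.Agent.AlgSp.K640.InjRel
-- import your own Groth.Agent.* helpers here

set_option autoImplicit false
universe u
open CategoryTheory CategoryTheory.Limits AlgebraicGeometry
open AlgSp

namespace Groth.Agent.S10703

open K640.ImgNorm in
/-- Finiteness of the quotient over a locally Noetherian base. -/
theorem isFiniteMor {S : Scheme.{u}} {X Y X' : Sp S} {g : Y ⟶ X} {π : Y ⟶ X'} {c : X' ⟶ X} (hX : IsAlgSpace X)
    (hY : IsAlgSpace Y) (hn : IsLocNoethSp X) (hg : IsProperMor g) (h : CData g π c) : IsFiniteMor c := by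
  have key : ∀ ch : K615.Cov.Chart X, ∃ (N : Over S) (νU : N ⟶ ch.U) (m : (yon S).obj N ⟶ X'),
      IsPullback m ((yon S).map νU) c ch.a ∧ IsFiniteMor ((yon S).map νU) := by
    intro ch
    have haff := ch.affine
    have sqY := IsPullback.of_hasPullback g ch.a
    have hYU : IsAlgSpace (pullback g ch.a) := K608.Comp.isAlgSpace_pullback g ch.a hY (IsAlgSpace.yon_obj _) hX
    obtain ⟨V, q, hV, hq1, hq2⟩ := K609.QC.exists_affine_chart
      (hg.2.1.2 (IsAlgSpace.yon_obj ch.U) (K639.Dim2.isQuasiCompactSp_yon ch.U) ch.a _ _ sqY)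
    obtain ⟨v, hv⟩ := (yon S).map_surjective (q ≫ pullback.snd g ch.a)
    obtain ⟨N, n, νU, m, hN, hnv, sqN, hm⟩ :=
      h.charts ch.U ch.affine ch.a ch.etale _ _ _ sqY V hV q hq1 hq2 v hv.symm
    have hgU : IsProperMor (pullback.snd g ch.a) :=
      K597.Proper.isProperMor_of_isPullback hY hX (IsAlgSpace.yon_obj _) sqY hg
    have hw : (pullback.fst g ch.a ≫ π) ≫ c = pullback.snd g ch.a ≫ ch.a := by
      rw [Category.assoc, h.w, sqY.w]
    have hfin := K640.InjRel.isFinite ch.affine (K647.EtLoc.isLocallyNoetherian_chart hn ch.etale) hYU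
      (pullback.snd g ch.a) hgU hV hq1 hq2 hN.affN νU (sqN.lift _ _ hw) (sqN.lift_snd _ _ _) (n := n) (by
        apply sqN.hom_ext
        · rw [Category.assoc, sqN.lift_fst, hm]
        · rw [Category.assoc, sqN.lift_snd, ← (yon S).map_comp, hnv, hv]) hN.inj
    exact ⟨N, νU, m, sqN, K617.FinLoc.isFiniteMor_iff.2 ((repWith_yon_map_iff _ _).2 hfin)⟩
  choose N νU m sqN hfin using key
  exact K617.FinLoc.finite_family (fun c : K615.Cov.Chart X => c.etale) (K615.Desc.points_of_charts hX) sqN hfin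

/-- Let `g : Y → X` be a proper morphism of algebraic spaces over `S` with `X` locally Noetherian, and
let `t, s : R → Y` be the projections of a fibre product `R = Y ×_X Y`. Then `s, t` have a
coequalizer `π : Y → X'` in the category of algebraic spaces over `S`; the induced `c : X' → X` is
finite and universally injective, `π` is proper and surjective, and if `g` is surjective then `c` is
a universal homeomorphism. -/
theorem result {S : Scheme.{u}} {X Y R : AlgSp.Space S} (g : Y ⟶ X)
    (hX : AlgSp.IsLocNoethSp X.obj) (hg : AlgSp.IsProperMor g.hom) (t s : R ⟶ Y)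
    (hR : IsPullback t.hom s.hom g.hom g.hom) :
    ∃ (X' : AlgSp.Space S) (π : Y ⟶ X') (w : t ≫ π = s ≫ π) (c : X' ⟶ X),
      Nonempty (IsColimit (Cofork.ofπ π w)) ∧ π ≫ c = g ∧ AlgSp.IsFiniteMor c.hom ∧ AlgSp.IsProperMor π.hom ∧
        AlgSp.IsSurjectiveMor π.hom ∧ AlgSp.IsUnivInjectiveMor c.hom ∧
        (AlgSp.IsSurjectiveMor g.hom → AlgSp.IsUnivHomeoMor c.hom) := by
  obtain ⟨X', π, c, hX', h⟩ := K640.ImgNorm.exists_cData g.hom X.property hg.2.1.2
  have hp := K640.CoeqProps.isProper X.property Y.property hX' h hg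
  have hs := K640.CoeqProps.isSurjective X.property Y.property hX' h hg
  have hui := K640.CoeqProps.isUnivInjective h hs
  have hw : t.hom ≫ π = s.hom ≫ π := (K640.CoeqProps.isPullback_of_cData h hR).w
  have ext : ∀ {A B : Space S} {x y : A ⟶ B}, x.hom = y.hom → x = y := fun hxy => ObjectProperty.hom_ext _ hxy
  refine ⟨⟨X', hX'⟩, ⟨π⟩, ext hw, ⟨c⟩, ⟨?_⟩, ext h.w, isFiniteMor X.property Y.property hX hg h, hp, hs, hui,
    fun hgs => ?_⟩
  · refine Cofork.IsColimit.mk' _ fun k => ?_
    have hk : t.hom ≫ k.π.hom = s.hom ≫ k.π.hom := congrArg (fun z => z.hom) k.condition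
    have hD := K640.CoeqEff.effDesc Y.property hX' k.pt.property h hp hs R.property hR k.π.hom hk
    have hex := K640.CoeqDesc.exists_desc h X.property hg.2.1.2 hp.2.2 hs k.pt.property k.π.hom hD
    refine ⟨⟨hex.choose⟩, ext hex.choose_spec, fun {m} hm => ext ?_⟩
    refine K640.CoeqDesc.hom_ext h X.property hX' hg.2.1.2 hp.2.2 hs k.pt.property _ _ ?_
    rw [hex.choose_spec]
    exact congrArg (fun z => z.hom) hm
  · refine K640.CoeqProps.isUnivHomeo h.integral hui (K640.CoeqProps.isSurjective_of_comp (f := π) ?_)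
    rw [h.w]
    exact hgs

end Groth.Agent.S10703
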