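import Groth.Agent.AlgSp.K640.FpqcRef
import Groth.Agent.AlgSp.K640.FpqcIso

set_option autoImplicit false
universe u
open CategoryTheory CategoryTheory.Limits AlgebraicGeometry
open AlgSp

namespace Groth.Agent.S10705

/-- Let `f : Y → X` be a quasi-compact quasi-separated morphism of algebraic spaces over `S`, `i : Z →
X` a closed immersion of finite presentation such that `f⁻¹Z → Z` is an isomorphism and `f` is flat
at every point of `|f⁻¹Z|`, and let `U ⊂ X` be the open subspace complementary to `Z`. Let `a : X₁ →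
X₂` be a morphism of algebraic spaces over `X`. If the base change of `a` to `U` and the base change
of `a` to `Y` are isomorphisms, then `a` is an isomorphism: the formal glueing functor reflects
isomorphisms. -/
theorem result {S : Scheme.{u}} {X Y Z FZ U : AlgSp.Space S} (f : Y ⟶ X)
    (hqc : AlgSp.IsQuasiCompactMor f.hom) (hqs : AlgSp.IsQuasiSeparatedMor f.hom) (i : Z ⟶ X)
    (hi : AlgSp.RepWith @IsClosedImmersion i.hom) (hifp : AlgSp.LocP @LocallyOfFinitePresentation i.hom)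
    (iY : FZ ⟶ Y) (fZ : FZ ⟶ Z) (hFZ : IsPullback iY.hom fZ.hom f.hom i.hom) [IsIso fZ]
    (hflat : ∀ y ∈ Set.range (AlgSp.Points.map iY.hom), AlgSp.IsFlatAtMor f.hom y) (j : U ⟶ X)
    (hj : AlgSp.RepWith @IsOpenImmersion j.hom)
    (hU : Set.range (AlgSp.Points.map j.hom) = (Set.range (AlgSp.Points.map i.hom))ᶜ)
    {X₁ X₂ QU QU₁ QY QY₁ : AlgSp.Space S} (p₂ : X₂ ⟶ X) (a : X₁ ⟶ X₂)
    (qU : QU ⟶ X₂) (rU : QU ⟶ U) (hQU : IsPullback qU.hom rU.hom p₂.hom j.hom) (aU : QU₁ ⟶ QU)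
    (bU : QU₁ ⟶ X₁) (hQU₁ : IsPullback bU.hom aU.hom a.hom qU.hom) [IsIso aU] (qY : QY ⟶ X₂) (rY : QY ⟶ Y)
    (hQY : IsPullback qY.hom rY.hom p₂.hom f.hom) (aY : QY₁ ⟶ QY) (bY : QY₁ ⟶ X₁)
    (hQY₁ : IsPullback bY.hom aY.hom a.hom qY.hom) [IsIso aY] : IsIso a := by
  have _ := hqs
  obtain ⟨ι, W, w, hc, hk⟩ := K640.FpqcRef.exists_refinement f hqc i hi hifp iY fZ hFZ hflat j hj hU
  have hq := K628.Cov.qCov_of_isFpqcCover hc
  have hq2 := hq.of_isPullback (fun k => IsPullback.of_hasPullback p₂.hom (w k).hom)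
  have key : IsIso a.hom := by
    refine K640.FpqcIso.isIso_of_qCov hq2 X₁.property X₂.property a.hom
      (fun k => IsPullback.of_hasPullback a.hom (pullback.fst p₂.hom (w k).hom)) fun k => ?_
    rcases hk k with ⟨l, hl⟩ | ⟨l, hl⟩
    · have h1 : pullback.fst p₂.hom (w k).hom ≫ p₂.hom = (pullback.snd p₂.hom (w k).hom ≫ l.hom) ≫ j.hom := by
        rw [pullback.condition, Category.assoc, ← ObjectProperty.FullSubcategory.comp_hom, hl]
      exact K640.FpqcIso.isIso_snd (g' := hQU.lift _ _ h1) hQU₁ (hQU.lift_fst _ _ _) (IsPullback.of_hasPullback _ _)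
    · have h1 : pullback.fst p₂.hom (w k).hom ≫ p₂.hom = (pullback.snd p₂.hom (w k).hom ≫ l.hom) ≫ f.hom := by
        rw [pullback.condition, Category.assoc, ← ObjectProperty.FullSubcategory.comp_hom, hl]
      exact K640.FpqcIso.isIso_snd (g' := hQY.lift _ _ h1) hQY₁ (hQY.lift_fst _ _ _) (IsPullback.of_hasPullback _ _)
  have key2 : IsIso ((ObjectProperty.ι (IsAlgSpace (S := S))).map a) := key
  exact isIso_of_reflects_iso a (ObjectProperty.ι (IsAlgSpace (S := S)))

end Groth.Agent.S10705
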