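import Groth.Statements.S10706
import Groth.Agent.AlgSp.K641.SpecAlg
import Groth.Agent.AlgSp.K641.Glueable

set_option autoImplicit false
universe u
open CategoryTheory CategoryTheory.Limits AlgebraicGeometry TensorProduct
open AlgSp

namespace Groth.Agent.S10706

/-- Let `(R → R', f)` be a glueing pair and `Y` an algebraic space over `Spec R`. The following are
equivalent: (1) there is an etale covering of `Y` by affine schemes `Spec A_k` with every `A_k`
glueable as an `R`-module; (2) for every affine scheme `Spec A` etale over `Y`, the `R`-module `A`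
is glueable. -/
theorem result (R : Type u) [CommRing R] (R' : Type u) [CommRing R'] [Algebra R R']
    (f : R) (hRR' : EtGlue.IsGlueingPair R R' f) (Y : AlgSp.Space (Spec (CommRingCat.of R))) :
    (∃ (ι : Type u) (A : ι → Type u) (_ : ∀ k, CommRing (A k)) (_ : ∀ k, Algebra R (A k))
        (g : ∀ k, (AlgSp.yon (Spec (CommRingCat.of R))).obj (Over.mk (Spec.map (CommRingCat.ofHom (algebraMap R (A k)))) : Over (Spec (CommRingCat.of R))) ⟶ Y.obj),
        (∀ k, AlgSp.RepWith @Etale (g k)) ∧ (∀ y : AlgSp.Points Y.obj, ∃ k, y ∈ Set.range (AlgSp.Points.map (g k))) ∧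
          ∀ k, EtGlue.IsGlueable R R' f (A k)) ↔
      (∀ (A : Type u) [CommRing A] [Algebra R A]
      (g : (AlgSp.yon (Spec (CommRingCat.of R))).obj (Over.mk (Spec.map (CommRingCat.ofHom (algebraMap R A))) : Over (Spec (CommRingCat.of R))) ⟶ Y.obj),
      AlgSp.RepWith @Etale g → EtGlue.IsGlueable R R' f A) := by
  constructor
  · rintro ⟨ι, A, hA, hA', g, hg, hcov, hglue⟩ C _ _ a ha
    -- the fibre products
    have hrep : ∀ k, ∃ (V : Over (Spec (CommRingCat.of R))) (p : V ⟶ K641.SpecAlg.sp R (A k))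
        (q : V ⟶ K641.SpecAlg.sp R C), IsPullback ((yon _).map p) ((yon _).map q) (g k) a := by
      intro k
      obtain ⟨V, q, p, sq⟩ := (hg k).1 a
      obtain ⟨p, rfl⟩ := (yon _).map_surjective p
      exact ⟨V, p, q, sq⟩
    choose V p q sq using hrep
    have hq : ∀ k, Etale (q k).left := fun k => (hg k).2 _ _ _ (sq k)
    have hp : ∀ k, Etale (p k).left := fun k => ha.2 _ _ _ (sq k).flip
    have hcov' := fun k => K641.SpecAlg.exists_affine_cover (V k)
    choose κ B hB hB' c hc hc' using hcov'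
    have hψ : ∀ (k : ι) (j : κ k), ∃ ψ : C →ₐ[R] B k j,
        (c k j ≫ q k).left = Spec.map (CommRingCat.ofHom ψ.toRingHom) := fun k j => K641.SpecAlg.exists_algHom _
    have hφ : ∀ (k : ι) (j : κ k), ∃ φ : A k →ₐ[R] B k j,
        (c k j ≫ p k).left = Spec.map (CommRingCat.ofHom φ.toRingHom) := fun k j => K641.SpecAlg.exists_algHom _
    choose ψ hψ using hψ
    choose φ hφ using hφ
    -- the pieces are glueable
    have hBglue : ∀ (k : ι) (j : κ k), EtGlue.IsGlueable R R' f (B k j) := by
      intro k j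
      let _ : Algebra (A k) (B k j) := (φ k j).toRingHom.toAlgebra
      have : IsScalarTower R (A k) (B k j) := IsScalarTower.of_algebraMap_eq fun r => ((φ k j).commutes r).symm
      have hfl : Flat (Spec.map (CommRingCat.ofHom (φ k j).toRingHom)) := by
        rw [← hφ]
        have := hc k j; have := hp k
        exact inferInstanceAs (Flat ((c k j).left ≫ (p k).left))
      have : Module.Flat (A k) (B k j) := Flat.SpecMap_iff.1 hfl
      exact K641.Glueable.of_flat hRR' (hglue k)
    refine K641.Glueable.of_jointly_injective hRR' (ι := Σ k, κ k) (fun i => B i.1 i.2)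
      (fun i => (ψ i.1 i.2).toLinearMap) (fun m hm => ?_) (fun i => hBglue i.1 i.2)
    let _ : ∀ i : Σ k, κ k, Algebra C (B i.1 i.2) := fun i => (ψ i.1 i.2).toRingHom.toAlgebra
    have : ∀ i : Σ k, κ k, Module.Flat C (B i.1 i.2) := fun i => by
      have hfl : Flat (Spec.map (CommRingCat.ofHom (ψ i.1 i.2).toRingHom)) := by
        rw [← hψ]
        have := hc i.1 i.2; have := hq i.1
        exact inferInstanceAs (Flat ((c i.1 i.2).left ≫ (q i.1).left))
      exact Flat.SpecMap_iff.1 hfl
    refine K641.SpecAlg.eq_zero_of_flat_cover (fun i : Σ k, κ k => B i.1 i.2) (fun y => ?_) m hm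
    obtain ⟨k, x, hx⟩ := hcov (Points.ofPt a y)
    obtain ⟨x, rfl⟩ := K609.Points.ofScheme_surjective _ x
    rw [← Points.ofPt_eq_map_ofScheme] at hx
    obtain ⟨v, -, hv⟩ := (K609.Points.ofPt_eq_ofPt_iff (sq k) x y).1 hx
    obtain ⟨j, z, rfl⟩ := hc' k v
    refine ⟨⟨k, j⟩, z, ?_⟩
    have h1 : (c k j ≫ q k).left z = y := hv
    rw [hψ] at h1
    exact h1
  · intro h
    obtain ⟨κ, W, p, hW, hp, hcov⟩ := K641.ColimSch.exists_affine_charts Y.property
    have h1 : ∀ j, ∃ (A : Type u) (_ : CommRing A) (_ : Algebra R A), Nonempty (K641.SpecAlg.sp R A ≅ W j) :=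
      fun j => by have := hW j; exact K641.SpecAlg.exists_algebra (W j)
    choose A hA hA' e using h1
    have hg : ∀ j, RepWith @Etale ((yon _).map (e j).some.hom ≫ p j) := fun j =>
      MorphismProperty.RespectsIso.precomp _ _ _ (hp j)
    refine ⟨κ, A, hA, hA', fun j => (yon _).map (e j).some.hom ≫ p j, hg, fun y => ?_, fun j => h _ _ (hg j)⟩
    obtain ⟨j, x, rfl⟩ := hcov y
    refine ⟨j, Points.map ((yon _).map (e j).some.inv) (Points.ofScheme _ x), ?_⟩
    rw [← Points.map_comp, ← Category.assoc, ← Functor.map_comp, Iso.inv_hom_id,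
      CategoryTheory.Functor.map_id, Category.id_comp, ← Points.ofPt_eq_map_ofScheme]

end Groth.Agent.S10706
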