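import Groth.Statements.S10707
import Groth.Agent.AlgSp.K641.GlueUniq
import Groth.Agent.AlgSp.K635.Glue

set_option autoImplicit false
universe u
open CategoryTheory CategoryTheory.Limits AlgebraicGeometry TensorProduct
open AlgSp

namespace Groth.Agent.S10707

/-- Let `(R → R', f)` be a glueing pair, `X = Spec R`, `U = Spec R_f`, `X' = Spec R'`, and let `Y`, `Z`
be algebraic spaces over `X` glueable for `(R → R', f)`. Two morphisms `a, b : Y → Z` over `X` whose
base changes to `U` agree and whose base changes to `X'` agree are equal. -/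
theorem result (R : Type u) [CommRing R] (R' : Type u) [CommRing R'] [Algebra R R']
    (f : R) (hRR' : EtGlue.IsGlueingPair R R' f) {Y Z YU YX' : AlgSp.Space (Spec (CommRingCat.of R))}
    (hY : (∀ (A : Type u) [CommRing A] [Algebra R A]
      (g : (AlgSp.yon (Spec (CommRingCat.of R))).obj (Over.mk (Spec.map (CommRingCat.ofHom (algebraMap R A))) : Over (Spec (CommRingCat.of R))) ⟶ Y.obj),
      AlgSp.RepWith @Etale g → EtGlue.IsGlueable R R' f A))
    (hZ : (∀ (A : Type u) [CommRing A] [Algebra R A]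
      (g : (AlgSp.yon (Spec (CommRingCat.of R))).obj (Over.mk (Spec.map (CommRingCat.ofHom (algebraMap R A))) : Over (Spec (CommRingCat.of R))) ⟶ Z.obj),
      AlgSp.RepWith @Etale g → EtGlue.IsGlueable R R' f A))
    (a b : Y ⟶ Z) (πZ : Z.obj ⟶ (AlgSp.yon (Spec (CommRingCat.of R))).obj (Over.mk (𝟙 _)))
    (inU : (Over.mk (Spec.map (CommRingCat.ofHom (algebraMap R (Localization.Away f)))) : Over (Spec (CommRingCat.of R))) ⟶ Over.mk (𝟙 _))
    (uY : YU ⟶ Y) (vY : YU.obj ⟶ (AlgSp.yon (Spec (CommRingCat.of R))).obj (Over.mk (Spec.map (CommRingCat.ofHom (algebraMap R (Localization.Away f)))) : Over (Spec (CommRingCat.of R))))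
    (hYU : IsPullback uY.hom vY (a.hom ≫ πZ) ((AlgSp.yon (Spec (CommRingCat.of R))).map inU))
    (inX' : (Over.mk (Spec.map (CommRingCat.ofHom (algebraMap R R'))) : Over (Spec (CommRingCat.of R))) ⟶ Over.mk (𝟙 _))
    (uY' : YX' ⟶ Y) (vY' : YX'.obj ⟶ (AlgSp.yon (Spec (CommRingCat.of R))).obj (Over.mk (Spec.map (CommRingCat.ofHom (algebraMap R R'))) : Over (Spec (CommRingCat.of R))))
    (hYX' : IsPullback uY'.hom vY' (a.hom ≫ πZ) ((AlgSp.yon (Spec (CommRingCat.of R))).map inX'))
    (haU : uY ≫ a = uY ≫ b) (haX' : uY' ≫ a = uY' ≫ b) : a = b := by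
  apply ObjectProperty.hom_ext
  refine K635.Glue.hom_ext_charts Y.property fun W p hp => ?_
  have := hp.aff
  obtain ⟨A, _, _, ⟨e⟩⟩ := K641.SpecAlg.exists_algebra W
  have hpe : RepWith @Etale ((yon _).map e.hom ≫ p) :=
    (repWith_isMultiplicative @Etale).comp_mem _ _ (by
      have : IsIso e.hom.left := inferInstanceAs (IsIso ((Over.forget _).map e.hom))
      exact (repWith_yon_map_iff _ _).2 inferInstance) hp.et
  have hA := hY A ((yon _).map e.hom ≫ p) hpe
  have hterm : ∀ (T : Over (Spec (CommRingCat.of R)))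
      (x y : (yon (Spec (CommRingCat.of R))).obj T ⟶ (yon (Spec (CommRingCat.of R))).obj (Over.mk (𝟙 _))),
      x = y := by
    intro T x y
    obtain ⟨x, rfl⟩ := (yon (Spec (CommRingCat.of R))).map_surjective x
    obtain ⟨y, rfl⟩ := (yon (Spec (CommRingCat.of R))).map_surjective y
    rw [Over.mkIdTerminal.hom_ext x y]
  have h1 : ((yon _).map e.hom ≫ p) ≫ a.hom = ((yon _).map e.hom ≫ p) ≫ b.hom := by
    refine K641.GlueUniq.eq_of_glueable hRR' hA Z _ _ ?_ ?_
    · rintro T t ⟨s⟩
      have w : ((yon _).map t ≫ (yon _).map e.hom ≫ p) ≫ a.hom ≫ πZ = (yon _).map s ≫ (yon _).map inX' :=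
        hterm _ _ _
      have h3 : uY'.hom ≫ a.hom = uY'.hom ≫ b.hom := congrArg (fun q => q.hom) haX'
      have h2 := hYX'.lift_fst _ _ w
      rw [← Category.assoc, ← h2, Category.assoc, h3, ← Category.assoc, h2, Category.assoc]
    · rintro T t ⟨s⟩
      have w : ((yon _).map t ≫ (yon _).map e.hom ≫ p) ≫ a.hom ≫ πZ = (yon _).map s ≫ (yon _).map inU :=
        hterm _ _ _
      have h3 : uY.hom ≫ a.hom = uY.hom ≫ b.hom := congrArg (fun q => q.hom) haU
      have h2 := hYU.lift_fst _ _ w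
      rw [← Category.assoc, ← h2, Category.assoc, h3, ← Category.assoc, h2, Category.assoc]
  have h4 : ∀ {c : Y.obj ⟶ Z.obj}, (yon _).map e.inv ≫ ((yon _).map e.hom ≫ p) ≫ c = p ≫ c := by
    intro c
    rw [← Category.assoc, ← Category.assoc, ← Functor.map_comp, e.inv_hom_id, CategoryTheory.Functor.map_id,
      Category.id_comp]
  rw [← h4 (c := a.hom), ← h4 (c := b.hom), h1]

end Groth.Agent.S10707
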