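import Groth.Statements.S10717
import Groth.Agent.AlgSp.K624.GlueMod
import Groth.Agent.S10703

set_option autoImplicit false
universe u
open CategoryTheory CategoryTheory.Limits AlgebraicGeometry
open AlgSp

namespace Groth.Agent.S10717

/-- Let `X` be a locally Noetherian algebraic space over `S`, `i : Z → X` a closed immersion with
complementary open subspace `U`, and `f : X' → X` a proper morphism that is an isomorphism over `U`.
Let `Y = X' ⨿ Z` (a coproduct in algebraic spaces over `S`) with `g : Y → X`, and let `t, s : R → Y`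
be the projections of `R = Y ×_X Y`. Then `s, t` have a coequalizer `π : Y → X₁` in the category of
algebraic spaces over `S`; the induced `c : X₁ → X` is a finite universal homeomorphism and an
isomorphism over `U`, and `i` lifts along `c`. -/
theorem result {S : Scheme.{u}} {X X' Z U XU Y R : AlgSp.Space S} (hX : AlgSp.IsLocNoethSp X.obj)
    (i : Z ⟶ X) (hi : AlgSp.RepWith @IsClosedImmersion i.hom) (jU : U ⟶ X) (hjU : AlgSp.RepWith @IsOpenImmersion jU.hom)
    (hU : Set.range (AlgSp.Points.map jU.hom) = (Set.range (AlgSp.Points.map i.hom))ᶜ) (f : X' ⟶ X)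
    (hf : AlgSp.IsProperMor f.hom) (a : XU ⟶ X') (b : XU ⟶ U) (hXU : IsPullback a.hom b.hom f.hom jU.hom) [IsIso b]
    (inl : X' ⟶ Y) (inr : Z ⟶ Y) (hY : IsColimit (BinaryCofan.mk inl inr)) (g : Y ⟶ X) (hg₁ : inl ≫ g = f)
    (hg₂ : inr ≫ g = i) (t s : R ⟶ Y) (hR : IsPullback t.hom s.hom g.hom g.hom) :
    ∃ (X₁ : AlgSp.Space S) (π : Y ⟶ X₁) (w : t ≫ π = s ≫ π) (c : X₁ ⟶ X), Nonempty (IsColimit (Cofork.ofπ π w)) ∧
      π ≫ c = g ∧ AlgSp.IsFiniteMor c.hom ∧ AlgSp.IsUnivHomeoMor c.hom ∧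
      (∃ (P : AlgSp.Space S) (p : P ⟶ X₁) (q : P ⟶ U), IsPullback p.hom q.hom c.hom jU.hom ∧ IsIso q) ∧
      ∃ k : Z ⟶ X₁, k ≫ c = i :=
  K624.GlueMod.main (fun {_ _ _} g hX hg t s hR => Groth.Agent.S10703.result g hX hg t s hR)
    hX i hi jU hjU hU f hf a b hXU inl inr hY g hg₁ hg₂ t s hR

end Groth.Agent.S10717
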