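import Groth.Statements.S10718
import Groth.Agent.AlgSp.K641.ModGlue3
import Groth.Agent.S12201

set_option autoImplicit false
universe u
open CategoryTheory CategoryTheory.Limits AlgebraicGeometry
open AlgSp

namespace Groth.Agent.S10718

/-- Suppose `f : Y' → Y` is a morphism of algebraic spaces over `S` that is proper, with `i : Z → Y` a
closed immersion, `E = Z ×_Y Y'`, and assume `f` is an isomorphism over the open complement of `Z`.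
Let `V' → Y'` and `W → Z` be etale morphisms of algebraic spaces and `P` an algebraic space that is
simultaneously the base change of `V'` and of `W` to `E`. Then there are an algebraic space `V`
etale over `Y` and cartesian squares `V' = V ×_Y Y'`, `W = V ×_Y Z` under which the two induced maps
`P → V` agree. (The published statement asserts that glueing etale algebraic spaces along the
modification is an equivalence of categories, from spaces etale over `Y` to such triples `(V', W,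
P)`; this row states that the glueing functor is essentially surjective.) -/
theorem result {S : Scheme.{u}} {Y Y' Z E U U' V' W P : AlgSp.Space S} (f : Y' ⟶ Y)
    (hf : AlgSp.IsProperMor f.hom) (i : Z ⟶ Y) (hi : AlgSp.RepWith @IsClosedImmersion i.hom) (j : E ⟶ Y')
    (g : E ⟶ Z) (hE : IsPullback j.hom g.hom f.hom i.hom) (jU : U ⟶ Y)
    (hjU : AlgSp.RepWith @IsOpenImmersion jU.hom)
    (hU : Set.range (AlgSp.Points.map jU.hom) = (Set.range (AlgSp.Points.map i.hom))ᶜ) (fU : U' ⟶ U)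
    (jU' : U' ⟶ Y') (hU' : IsPullback jU'.hom fU.hom f.hom jU.hom) [IsIso fU] (v' : V' ⟶ Y')
    (hv' : AlgSp.IsEtaleMor v'.hom) (w : W ⟶ Z) (hw : AlgSp.IsEtaleMor w.hom) (pV' : P ⟶ V') (pW : P ⟶ W)
    (pE : P ⟶ E) (hPV' : IsPullback pV'.hom pE.hom v'.hom j.hom) (hPW : IsPullback pW.hom pE.hom w.hom g.hom) :
    ∃ (V : AlgSp.Space S) (v : V ⟶ Y) (a : V' ⟶ V) (b : W ⟶ V), AlgSp.IsEtaleMor v.hom ∧
      IsPullback a.hom v'.hom v.hom f.hom ∧ IsPullback b.hom w.hom v.hom i.hom ∧ pV' ≫ a = pW ≫ b := by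
  refine K641.ModGlue.glue_mod (fun f hf hfs p₀ p₁ hX₂ π₀₁ π₁₂ π₀₂ hX₃ h₀₂ h₀₂' u hu a₀ b₀ hU₀ a₁ b₁ hU₁ φ hφ
    c₀ d₀ hW₀ c₁ d₁ hW₁ c₂ d₂ hW₂ e₀ he₀ he₀' e₁ he₁ he₁' e₂ he₂ he₂' ψ₀₁ hψ₀₁ hψ₀₁' ψ₁₂ hψ₁₂ hψ₁₂' ψ₀₂ hψ₀₂ hψ₀₂'
    cocycle => Groth.Agent.S12201.result f hf hfs p₀ p₁ hX₂ π₀₁ π₁₂ π₀₂ hX₃ h₀₂ h₀₂' u hu a₀ b₀ hU₀ a₁ b₁ hU₁ φ hφ
    c₀ d₀ hW₀ c₁ d₁ hW₁ c₂ d₂ hW₂ e₀ he₀ he₀' e₁ he₁ he₁' e₂ he₂ he₂' ψ₀₁ hψ₀₁ hψ₀₁' ψ₁₂ hψ₁₂ hψ₁₂' ψ₀₂ hψ₀₂ hψ₀₂'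
    cocycle) f hf i hi j g hE jU hjU hU fU jU' hU' v' hv' w hw pV' pW pE hPV' hPW

end Groth.Agent.S10718
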