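import Groth.Statements.S10720
import Groth.Agent.AlgSp.K616.GMain
import Groth.Agent.AlgSp.K597.LocP
import Groth.Agent.AlgSp.K597.EtLoc

set_option autoImplicit false
universe u
open CategoryTheory CategoryTheory.Limits AlgebraicGeometry
open AlgSp

namespace Groth.Agent.S10720

/-- Let `f : Y → X` be a quasi-compact quasi-separated morphism of algebraic spaces over `S`, `i : Z →
X` a closed immersion of finite presentation such that `f⁻¹Z → Z` is an isomorphism and `f` is flat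
at every point of `|f⁻¹Z|`, and let `U ⊂ X` be the open subspace complementary to `Z`, with `V = U
×_X Y`. Let `X'₁`, `X'₂` be algebraic spaces over `X` with `X'₂ → X` separated. Then every morphism
between their images in the glueing category — morphisms of the base changes to `U`, to `V` and to
`Y`, over `U`, `V`, `Y` and compatible with the restriction maps — is induced by a unique morphism
`X'₁ → X'₂` over `X`. -/
theorem result {S : Scheme.{u}} {X Y Z FZ U : AlgSp.Space S} (f : Y ⟶ X)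
    (hqc : AlgSp.IsQuasiCompactMor f.hom) (hqs : AlgSp.IsQuasiSeparatedMor f.hom) (i : Z ⟶ X)
    (hi : AlgSp.RepWith @IsClosedImmersion i.hom) (hifp : AlgSp.LocP @LocallyOfFinitePresentation i.hom)
    (iY : FZ ⟶ Y) (fZ : FZ ⟶ Z) (hFZ : IsPullback iY.hom fZ.hom f.hom i.hom) [IsIso fZ]
    (hflat : ∀ y ∈ Set.range (AlgSp.Points.map iY.hom), AlgSp.IsFlatAtMor f.hom y) (j : U ⟶ X)
    (hj : AlgSp.RepWith @IsOpenImmersion j.hom)
    (hU : Set.range (AlgSp.Points.map j.hom) = (Set.range (AlgSp.Points.map i.hom))ᶜ)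
    {X₁ X₂ A₁U A₂U A₁Y A₂Y A₁V A₂V : AlgSp.Space S} (p₁ : X₁ ⟶ X) (p₂ : X₂ ⟶ X)
    (hp₂ : AlgSp.IsSeparatedMor p₂.hom)
    (a₁U : A₁U ⟶ X₁) (r₁U : A₁U ⟶ U) (h₁U : IsPullback a₁U.hom r₁U.hom p₁.hom j.hom)
    (a₂U : A₂U ⟶ X₂) (r₂U : A₂U ⟶ U) (h₂U : IsPullback a₂U.hom r₂U.hom p₂.hom j.hom)
    (a₁Y : A₁Y ⟶ X₁) (r₁Y : A₁Y ⟶ Y) (h₁Y : IsPullback a₁Y.hom r₁Y.hom p₁.hom f.hom)
    (a₂Y : A₂Y ⟶ X₂) (r₂Y : A₂Y ⟶ Y) (h₂Y : IsPullback a₂Y.hom r₂Y.hom p₂.hom f.hom)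
    (m₁U : A₁V ⟶ A₁U) (m₁Y : A₁V ⟶ A₁Y) (h₁V : IsPullback m₁U.hom m₁Y.hom a₁U.hom a₁Y.hom)
    (m₂U : A₂V ⟶ A₂U) (m₂Y : A₂V ⟶ A₂Y) (h₂V : IsPullback m₂U.hom m₂Y.hom a₂U.hom a₂Y.hom)
    (bU : A₁U ⟶ A₂U) (hbU : bU ≫ r₂U = r₁U) (bY : A₁Y ⟶ A₂Y) (hbY : bY ≫ r₂Y = r₁Y)
    (bV : A₁V ⟶ A₂V) (hbV₁ : bV ≫ m₂U = m₁U ≫ bU) (hbV₂ : bV ≫ m₂Y = m₁Y ≫ bY) :
    ∃! a : X₁ ⟶ X₂, a ≫ p₂ = p₁ ∧ a₁U ≫ a = bU ≫ a₂U ∧ a₁Y ≫ a = bY ≫ a₂Y := by
  have hs : ((inv fZ).hom ≫ iY.hom) ≫ f.hom = i.hom := by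
    have h1 : (inv fZ).hom ≫ fZ.hom = 𝟙 _ := by
      have := congrArg (fun k => k.hom) (IsIso.inv_hom_id fZ)
      exact this
    rw [Category.assoc, hFZ.w, ← Category.assoc, h1, Category.id_comp]
  have c : K616.GCfg.Cfg f.hom i.hom ((inv fZ).hom ≫ iY.hom) j.hom :=
    { hX := X.property
      hY := Y.property
      hi := hi
      hifp := K597.repWith_of_locP K597.etLoc_lfp (X.property.hasAtlas) hi.rep hifp
      hs := hs
      hs' := fun y z h => by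
        have h1 : fZ.hom ≫ (inv fZ).hom = 𝟙 _ := by
          have := congrArg (fun k => k.hom) (IsIso.hom_inv_id fZ)
          exact this
        have h2 : hFZ.lift y z h = z ≫ (inv fZ).hom := by
          calc hFZ.lift y z h = hFZ.lift y z h ≫ fZ.hom ≫ (inv fZ).hom := by rw [h1, Category.comp_id]
            _ = z ≫ (inv fZ).hom := by rw [← Category.assoc, hFZ.lift_snd]
        rw [← Category.assoc, ← h2, hFZ.lift_fst]
      hflat := fun z => hflat _ ⟨Points.map (inv fZ).hom z, by rw [← Points.map_comp]⟩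
      hj := hj
      hU := hU }
  let D : K616.GCfg.GData f.hom j.hom :=
    { M := X₁.obj
      N := X₂.obj
      PU := A₁U.obj
      PY := A₁Y.obj
      p := p₁.hom
      q := p₂.hom
      jM := a₁U.hom
      rU := r₁U.hom
      sqU := h₁U
      kM := a₁Y.hom
      rY := r₁Y.hom
      sqY := h₁Y
      σU := (bU ≫ a₂U).hom
      σY := (bY ≫ a₂Y).hom
      hσU := by
        have h1 : (bU ≫ a₂U).hom ≫ p₂.hom = bU.hom ≫ r₂U.hom ≫ j.hom := by
          rw [← h₂U.w]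
          exact Category.assoc _ _ _
        have h2 : bU.hom ≫ r₂U.hom = r₁U.hom := congrArg (fun k => k.hom) hbU
        rw [h1, ← Category.assoc, h2, h₁U.w]
      hσY := by
        have h1 : (bY ≫ a₂Y).hom ≫ p₂.hom = bY.hom ≫ r₂Y.hom ≫ f.hom := by
          rw [← h₂Y.w]
          exact Category.assoc _ _ _
        have h2 : bY.hom ≫ r₂Y.hom = r₁Y.hom := congrArg (fun k => k.hom) hbY
        rw [h1, ← Category.assoc, h2, h₁Y.w]
      hc := fun {L} a b h => by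
        obtain ⟨v, hv1, hv2⟩ : ∃ v, v ≫ m₁U.hom = a ∧ v ≫ m₁Y.hom = b :=
          ⟨h₁V.lift a b h, h₁V.lift_fst _ _ _, h₁V.lift_snd _ _ _⟩
        have h1 : m₁U.hom ≫ bU.hom = bV.hom ≫ m₂U.hom := (congrArg (fun k => k.hom) hbV₁).symm
        have h2 : m₁Y.hom ≫ bY.hom = bV.hom ≫ m₂Y.hom := (congrArg (fun k => k.hom) hbV₂).symm
        have h3 : m₁U.hom ≫ (bU ≫ a₂U).hom = m₁Y.hom ≫ (bY ≫ a₂Y).hom := by
          calc m₁U.hom ≫ (bU ≫ a₂U).hom = (m₁U.hom ≫ bU.hom) ≫ a₂U.hom := (Category.assoc _ _ _).symm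
            _ = bV.hom ≫ m₂U.hom ≫ a₂U.hom := by rw [h1, Category.assoc]
            _ = bV.hom ≫ m₂Y.hom ≫ a₂Y.hom := by rw [h₂V.w]
            _ = (m₁Y.hom ≫ bY.hom) ≫ a₂Y.hom := by rw [h2, Category.assoc]
            _ = m₁Y.hom ≫ (bY ≫ a₂Y).hom := Category.assoc _ _ _
        rw [← hv1, ← hv2, Category.assoc, Category.assoc, h3] }
  obtain ⟨h, ⟨e1, e2, e3⟩, hu⟩ := K616.GCfg.GData.existsUnique_hom (D := D) c X₁.property X₂.property hp₂
  refine ⟨⟨h⟩, ⟨?_, ?_, ?_⟩, fun h' hh' => ?_⟩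
  · apply ObjectProperty.hom_ext
    exact e1
  · apply ObjectProperty.hom_ext
    exact e2
  · apply ObjectProperty.hom_ext
    exact e3
  · apply ObjectProperty.hom_ext
    exact hu h'.hom ⟨congrArg (fun k => k.hom) hh'.1, congrArg (fun k => k.hom) hh'.2.1,
      congrArg (fun k => k.hom) hh'.2.2⟩

end Groth.Agent.S10720
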