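import Groth.Statements.S10721
import Groth.Agent.EtAlg.K363.GlueAlg
import Mathlib.RingTheory.RingHom.Surjective

set_option autoImplicit false
universe u
open TensorProduct
open EtAlg

namespace Groth.Agent.S10721

theorem surj_aux (R : Type u) [CommRing R] (R' : Type u) [CommRing R'] [Algebra R R'] (f : R)
    (hq : EtGlue.QuotPowBijective R R' f) (A B : Type u) [CommRing A] [Algebra R A] [CommRing B] [Algebra R B]
    (φ : A →ₐ[R] B)
    (h1 : Function.Surjective (Localization.awayMap φ.toRingHom (algebraMap R A f)))
    (h2 : Function.Surjective (Algebra.TensorProduct.map (AlgHom.id R R') φ).toRingHom) :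
    Function.Surjective φ := by
  apply K363.GlueAlg.surjective_of_glueing hq φ.toLinearMap
  · exact h2
  · intro b
    rw [Localization.awayMap_surjective_iff] at h1
    obtain ⟨a, m, ham⟩ := h1 b
    refine ⟨m, a, ?_⟩
    rw [Algebra.smul_def, map_pow]
    have : φ.toRingHom (algebraMap R A f) = algebraMap R B f := φ.commutes f
    rw [this] at ham
    exact ham.symm

/-- Glueing along a glueing pair detects closed immersions of affine schemes, stated for coordinate
rings. Let `(R → R', f)` be a glueing pair and `φ : A → B` a homomorphism of `R`-algebras with `A`,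
`B` glueable as `R`-modules (so `Spec A`, `Spec B` are affine and glueable over `Spec R`). Then `φ`
is surjective (a closed immersion on spectra) if and only if `A_f → B_f` and `R' ⊗_R A → R' ⊗_R B`
are surjective. -/
theorem result (R : Type u) [CommRing R] (R' : Type u) [CommRing R'] [Algebra R R'] (f : R)
    (hRR' : EtGlue.IsGlueingPair R R' f) (A B : Type u) [CommRing A] [Algebra R A] [CommRing B] [Algebra R B]
    (hA : EtGlue.IsGlueable R R' f A) (hB : EtGlue.IsGlueable R R' f B) (φ : A →ₐ[R] B) :
    Function.Surjective φ ↔
      Function.Surjective (Localization.awayMap φ.toRingHom (algebraMap R A f)) ∧ Function.Surjective (Algebra.TensorProduct.map (AlgHom.id R R') φ).toRingHom := by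
  constructor
  · let _ : Algebra A B := φ.toRingHom.toAlgebra
    have : IsScalarTower R A B := IsScalarTower.of_algebraMap_eq' φ.comp_algebraMap.symm
    exact K363.GlueAlg.forward (f := f) (R' := R') A B (P := fun {R S} _ _ f => Function.Surjective f)
      RingHom.surjective_respectsIso
      RingHom.surjective_isStableUnderBaseChange
  · rintro ⟨h1, h2⟩
    exact surj_aux R R' f hRR'.1 A B φ h1 h2

end Groth.Agent.S10721
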