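import Groth.Statements.S10725
import Groth.Agent.AlgSp.K627.GlueQA

set_option autoImplicit false
universe u
open CategoryTheory CategoryTheory.Limits AlgebraicGeometry TensorProduct
open AlgSp

namespace Groth.Agent.S10725

/-- Let `(R → R', f)` be a glueing pair, `X = Spec R`, `U = Spec R_f`, `X' = Spec R'` and `U' = U ×_X
X'`. Let `V → U`, `Y' → X'` and `V' → U'` be quasi-affine schemes with `V' = V ×_U U'` and `V' = Y'
×_{X'} U'`. Then there is an algebraic space `Y` separated over `X` with `V = U ×_X Y` and `Y' = X'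
×_X Y`, compatibly over `U'`: the triple `(V, V', Y')` is in the essential image of the glueing
functor restricted to separated spaces. -/
theorem result (R : Type u) [CommRing R] (R' : Type u) [CommRing R'] [Algebra R R']
    (f : R) (hRR' : EtGlue.IsGlueingPair R R' f) {XU' V V' Y' : Over (Spec (CommRingCat.of R))}
    (tU : (Over.mk (Spec.map (CommRingCat.ofHom (algebraMap R (Localization.Away f)))) : Over (Spec (CommRingCat.of R))) ⟶ Over.mk (𝟙 _))
    (tX : (Over.mk (Spec.map (CommRingCat.ofHom (algebraMap R R'))) : Over (Spec (CommRingCat.of R))) ⟶ Over.mk (𝟙 _))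
    (iU : XU' ⟶ (Over.mk (Spec.map (CommRingCat.ofHom (algebraMap R (Localization.Away f)))) : Over (Spec (CommRingCat.of R))))
    (iX : XU' ⟶ (Over.mk (Spec.map (CommRingCat.ofHom (algebraMap R R'))) : Over (Spec (CommRingCat.of R))))
    (hU' : IsPullback iU iX tU tX) (v : V ⟶ (Over.mk (Spec.map (CommRingCat.ofHom (algebraMap R (Localization.Away f)))) : Over (Spec (CommRingCat.of R))))
    (y' : Y' ⟶ (Over.mk (Spec.map (CommRingCat.ofHom (algebraMap R R'))) : Over (Spec (CommRingCat.of R)))) (q : V' ⟶ XU')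
    (pV : V' ⟶ V) (pY : V' ⟶ Y') (hV'V : IsPullback pV q v iU) (hV'Y : IsPullback pY q y' iX)
    [V.left.IsQuasiAffine] [V'.left.IsQuasiAffine] [Y'.left.IsQuasiAffine] :
    ∃ (Y : AlgSp.Space (Spec (CommRingCat.of R))) (πY : Y.obj ⟶ (AlgSp.yon (Spec (CommRingCat.of R))).obj (Over.mk (𝟙 _)))
      (a : (AlgSp.yon (Spec (CommRingCat.of R))).obj V ⟶ Y.obj) (b : (AlgSp.yon (Spec (CommRingCat.of R))).obj Y' ⟶ Y.obj),
      AlgSp.IsSeparatedSp Y.obj ∧ IsPullback a ((AlgSp.yon (Spec (CommRingCat.of R))).map v) πY ((AlgSp.yon (Spec (CommRingCat.of R))).map tU) ∧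
        IsPullback b ((AlgSp.yon (Spec (CommRingCat.of R))).map y') πY ((AlgSp.yon (Spec (CommRingCat.of R))).map tX) ∧
        (AlgSp.yon (Spec (CommRingCat.of R))).map pV ≫ a = (AlgSp.yon (Spec (CommRingCat.of R))).map pY ≫ b :=
  by
  obtain ⟨Y, πY, a, b, h1, h2, h3, h4⟩ := K627.GlueQA.exists_space hRR' ⟨XU', V, V', Y', tU, tX, iU, iX, hU', v, y', q, pV, pY, hV'V, hV'Y⟩ inferInstance inferInstance
  exact ⟨Y, πY, a, b, h1, h2, h3, h4⟩

end Groth.Agent.S10725
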