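-- Proof of statement S10728.
import Groth.Statements.S10728
import Groth.Agent.AlgSp.K642.Charts
import Groth.Agent.AlgSp.K642.PbFun
import Groth.Agent.AlgSp.K642.Cube
import Groth.Agent.AlgSp.K609.Points

set_option autoImplicit false
universe w v u
open CategoryTheory CategoryTheory.Limits AlgebraicGeometry
open AlgSp

namespace Groth.Agent.S10728

open K642.Pb K642.PbFun K642.Charts K642.EtCov K642.Glue

attribute [local instance] K642.Pb.closedUnderPullbacks K642.Pb.hasPullbacks K642.Pb.preserves_ι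

set_option backward.isDefEq.respectTransparency false

section

variable {S : Scheme.{u}} {B : AlgSp.Space S} {P : ObjectProperty (Over B)}
  (hP : ∀ T : Over B, P T ↔ AlgSp.IsSeparatedMor T.hom.hom) {I : Type v} [Category.{w} I]
  {D : I ⥤ P.FullSubcategory} {c : Cocone D}

include hP in
theorem sep_of_map {X Y : Over B} (f : X ⟶ Y) (hf : IsSeparatedMor f.left.hom) (hY : P Y) : P X := by
  rw [hP] at hY ⊢
  have := isSeparatedMor_comp hf hY
  have h2 : f.left.hom ≫ Y.hom.hom = X.hom.hom := congrArg (fun k => k.hom) (Over.w f)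
  rwa [h2] at this

/-- An étale separated `M → Z` as in the proof. -/
structure Mp {Z : Over B} {M : Over B} (m : M ⟶ Z) : Prop where
  et : IsEtaleMor m.left.hom
  sep : IsSeparatedMor m.left.hom
  prop : P M

variable {Z : Over B} (t : ∀ i, (D ⋙ P.ι).obj i ⟶ Z) (ht : ∀ ⦃i j : I⦄ (g : i ⟶ j), (D ⋙ P.ι).map g ≫ t j = t i)

theorem sq_forget {A X Y W : Over B} {fst : A ⟶ X} {snd : A ⟶ Y} {f : X ⟶ W} {g : Y ⟶ W}
    (h : IsPullback fst snd f g) : IsPullback fst.left.hom snd.left.hom f.left.hom g.left.hom :=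
  isPullback_over_iff.2 h

theorem et_of_pb {A X Y W : Over B} {fst : A ⟶ X} {snd : A ⟶ Y} {f : X ⟶ W} {g : Y ⟶ W}
    (h : IsPullback fst snd f g) (hf : IsEtaleMor f.left.hom) : IsEtaleMor snd.left.hom :=
  isEtaleMor_of_isPullback X.left.property Y.left.property.diag (sq_forget h) hf

theorem sep_of_pb {A X Y W : Over B} {fst : A ⟶ X} {snd : A ⟶ Y} {f : X ⟶ W} {g : Y ⟶ W}
    (h : IsPullback fst snd f g) (hf : IsSeparatedMor f.left.hom) : IsSeparatedMor snd.left.hom :=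
  isSeparatedMor_of_isPullback (sq_forget h) hf

/-- The lift of the pulled back system to the subcategory. -/
noncomputable def lf (M : Over B) (m : M ⟶ Z) (hm : ∀ i, P ((pbF t ht m).obj i)) : I ⥤ P.FullSubcategory :=
  P.lift (pbF t ht m) hm

noncomputable def lfα (M : Over B) (m : M ⟶ Z) (hm : ∀ i, P ((pbF t ht m).obj i)) : lf t ht M m hm ⟶ D where
  app i := ObjectProperty.homMk ((pbα t ht m).app i)
  naturality i j g := by
    apply ObjectProperty.hom_ext
    exact (pbα t ht m).naturality g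

theorem Mp.prop_pb {M : Over B} {m : M ⟶ Z} (hm : Mp (P := P) m) (i : I) (hP : ∀ T : Over B, P T ↔ AlgSp.IsSeparatedMor T.hom.hom) :
    P ((pbF t ht m).obj i) :=
  sep_of_map hP ((pbα t ht m).app i) (sep_of_pb (isPullback_app t ht m i) hm.sep) (D.obj i).property

/-- The hypothesis `h₄` -/
def H4 (c : Cocone D) : Prop := ∀ (D' : I ⥤ P.FullSubcategory) (α : D' ⟶ D) (c' : Cocone D') (a : c'.pt ⟶ c.pt),
      AlgSp.IsEtaleMor a.hom.left.hom → AlgSp.IsSeparatedMor a.hom.left.hom →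
      (∀ i, IsPullback (c'.ι.app i).hom.left.hom (α.app i).hom.left.hom a.hom.left.hom (c.ι.app i).hom.left.hom) →
        Nonempty (IsColimit c')

/-- The hypothesis `h₅` -/
def H5 (c : Cocone D) : Prop := ∀ (D' : I ⥤ P.FullSubcategory) (α : D' ⟶ D),
      (∀ ⦃i j : I⦄ (g : i ⟶ j), IsPullback (D'.map g).hom.left.hom (α.app i).hom.left.hom (α.app j).hom.left.hom
        (D.map g).hom.left.hom) →
      (∀ i, AlgSp.IsEtaleMor (α.app i).hom.left.hom) → (∀ i, AlgSp.IsSeparatedMor (α.app i).hom.left.hom) →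
        ∃ (c' : Cocone D') (a : c'.pt ⟶ c.pt), AlgSp.IsEtaleMor a.hom.left.hom ∧ AlgSp.IsSeparatedMor a.hom.left.hom ∧
          ∀ i, IsPullback (c'.ι.app i).hom.left.hom (α.app i).hom.left.hom a.hom.left.hom (c.ι.app i).hom.left.hom

/-- `b i : D_i ×_Z M ⟶ U` form a cocone over the étale separated `a : U ⟶ c.pt`, with cartesian squares. -/
structure Cart {M : Over B} (m : M ⟶ Z) {U : Over B} (a : U ⟶ c.pt.obj) (b : ∀ i, (pbF t ht m).obj i ⟶ U) : Prop where
  et : IsEtaleMor a.left.hom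
  sep : IsSeparatedMor a.left.hom
  nat : ∀ ⦃i j : I⦄ (g : i ⟶ j), (pbF t ht m).map g ≫ b j = b i
  sq : ∀ i, IsPullback (b i) ((pbα t ht m).app i) a (c.ι.app i).hom

include hP in
theorem Cart.prp {M : Over B} {m : M ⟶ Z} {U : Over B} {a : U ⟶ c.pt.obj} {b : ∀ i, (pbF t ht m).obj i ⟶ U}
    (h : Cart t ht m a b) : P U :=
  sep_of_map hP a h.sep c.pt.property

include hP in
theorem Cart.colim (h₄ : H4 c) {M : Over B} {m : M ⟶ Z} (hm : Mp (P := P) m) {U : Over B} {a : U ⟶ c.pt.obj}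
    {b : ∀ i, (pbF t ht m).obj i ⟶ U} (h : Cart t ht m a b) {X : Over B} (hX : P X)
    (x : ∀ i, (pbF t ht m).obj i ⟶ X) (hx : ∀ ⦃i j : I⦄ (g : i ⟶ j), (pbF t ht m).map g ≫ x j = x i) :
    ∃! r : U ⟶ X, ∀ i, b i ≫ r = x i := by
  let D' := lf t ht M m (fun i => hm.prop_pb t ht i hP)
  let α : D' ⟶ D := lfα t ht M m _
  let c' : Cocone D' :=
    { pt := ⟨U, h.prp hP⟩
      ι := { app := fun i => ObjectProperty.homMk (b i)
             naturality := fun i j g => by
              apply ObjectProperty.hom_ext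
              exact (h.nat g).trans (Category.comp_id _).symm } }
  let a' : c'.pt ⟶ c.pt := ObjectProperty.homMk a
  obtain ⟨hc⟩ := h₄ D' α c' a' h.et h.sep (fun i => sq_forget (h.sq i))
  let s : Cocone D' :=
    { pt := ⟨X, hX⟩
      ι := { app := fun i => ObjectProperty.homMk (x i)
             naturality := fun i j g => by
              apply ObjectProperty.hom_ext
              exact (hx g).trans (Category.comp_id _).symm } }
  refine ⟨(hc.desc s).hom, fun i => ?_, fun r hr => ?_⟩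
  · exact congrArg (fun k => k.hom) (hc.fac s i)
  · have := hc.uniq s (ObjectProperty.homMk r) (fun i => by
      apply ObjectProperty.hom_ext
      exact hr i)
    exact congrArg (fun k => k.hom) this

include hP in
theorem exists_cart (h₅ : H5 c) {M : Over B} {m : M ⟶ Z} (hm : Mp (P := P) m) :
    ∃ (U : Over B) (a : U ⟶ c.pt.obj) (b : ∀ i, (pbF t ht m).obj i ⟶ U), Cart t ht m a b := by
  let D' := lf t ht M m (fun i => hm.prop_pb t ht i hP)
  let α : D' ⟶ D := lfα t ht M m _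
  obtain ⟨c', a, h1, h2, h3⟩ := h₅ D' α (fun i j g => sq_forget (isPullback_map t ht m g))
    (fun i => et_of_pb (isPullback_app t ht m i) hm.et) (fun i => sep_of_pb (isPullback_app t ht m i) hm.sep)
  refine ⟨c'.pt.obj, a.hom, fun i => (c'.ι.app i).hom, h1, h2, fun i j g => ?_, fun i => ?_⟩
  · exact congrArg (fun k => k.hom) (c'.w g)
  · exact isPullback_over_iff.1 (h3 i)

/-- The morphism `D_i ×_Z N ⟶ W` for `N = M₁ ×_Z M₂` and `W = U₁ ×_{c.pt} U₂`. -/
theorem exists_cart_prod {M₁ M₂ N : Over B} {m₁ : M₁ ⟶ Z} {m₂ : M₂ ⟶ Z} {n₁ : N ⟶ M₁} {n₂ : N ⟶ M₂}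
    (hN : IsPullback n₁ n₂ m₁ m₂) {U₁ U₂ W : Over B} {a₁ : U₁ ⟶ c.pt.obj} {a₂ : U₂ ⟶ c.pt.obj}
    {b₁ : ∀ i, (pbF t ht m₁).obj i ⟶ U₁} {b₂ : ∀ i, (pbF t ht m₂).obj i ⟶ U₂} (h₁ : Cart t ht m₁ a₁ b₁)
    (h₂ : Cart t ht m₂ a₂ b₂) {f₁ : W ⟶ U₁} {f₂ : W ⟶ U₂} (hW : IsPullback f₁ f₂ a₁ a₂) :
    ∃ b : ∀ i, (pbF t ht (n₁ ≫ m₁)).obj i ⟶ W,
      Cart t ht (n₁ ≫ m₁) (f₁ ≫ a₁) b ∧ (∀ i, b i ≫ f₁ = (pbMap t ht m₁ (n₁ ≫ m₁) n₁ rfl).app i ≫ b₁ i) ∧
        ∀ i, b i ≫ f₂ = (pbMap t ht m₂ (n₁ ≫ m₁) n₂ hN.w.symm).app i ≫ b₂ i := by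
  let k₁ := pbMap t ht m₁ (n₁ ≫ m₁) n₁ rfl
  let k₂ := pbMap t ht m₂ (n₁ ≫ m₁) n₂ hN.w.symm
  have hk₁α : ∀ i, k₁.app i ≫ (pbα t ht m₁).app i = (pbα t ht (n₁ ≫ m₁)).app i := fun i => pbMap_α t ht _ _ _ _ i
  have hk₂α : ∀ i, k₂.app i ≫ (pbα t ht m₂).app i = (pbα t ht (n₁ ≫ m₁)).app i := fun i => pbMap_α t ht _ _ _ _ i
  have hk₁β : ∀ i, k₁.app i ≫ pbβ t ht m₁ i = pbβ t ht (n₁ ≫ m₁) i ≫ n₁ := fun i => pbMap_β t ht _ _ _ _ i
  have hk₂β : ∀ i, k₂.app i ≫ pbβ t ht m₂ i = pbβ t ht (n₁ ≫ m₁) i ≫ n₂ := fun i => pbMap_β t ht _ _ _ _ i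
  have hw : ∀ i, (k₁.app i ≫ b₁ i) ≫ a₁ = (k₂.app i ≫ b₂ i) ≫ a₂ := fun i => by
    rw [Category.assoc, (h₁.sq i).w, ← Category.assoc, hk₁α, Category.assoc, (h₂.sq i).w, ← Category.assoc, hk₂α]
  let b : ∀ i, (pbF t ht (n₁ ≫ m₁)).obj i ⟶ W := fun i => hW.lift (k₁.app i ≫ b₁ i) (k₂.app i ≫ b₂ i) (hw i)
  have hb₁ : ∀ i, b i ≫ f₁ = k₁.app i ≫ b₁ i := fun i => hW.lift_fst _ _ _
  have hb₂ : ∀ i, b i ≫ f₂ = k₂.app i ≫ b₂ i := fun i => hW.lift_snd _ _ _
  refine ⟨b, ⟨?_, ?_, ?_, ?_⟩, hb₁, hb₂⟩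
  · exact isEtaleMor_comp (et_of_pb hW.flip h₂.et) h₁.et
  · exact isSeparatedMor_comp (sep_of_pb hW.flip h₂.sep) h₁.sep
  · intro i j g
    apply hW.hom_ext
    · rw [Category.assoc, hb₁, hb₁, ← Category.assoc, k₁.naturality g, Category.assoc, h₁.nat g]
    · rw [Category.assoc, hb₂, hb₂, ← Category.assoc, k₂.naturality g, Category.assoc, h₂.nat g]
  · intro i
    exact K642.Cube.isPullback_cube hN (isPullback_app t ht m₁ i) (isPullback_app t ht m₂ i) rfl
      (isPullback_app t ht (n₁ ≫ m₁) i) (hk₁α i) (hk₂α i) (hk₁β i) (hk₂β i) (h₁.sq i) (h₂.sq i) hW (hb₁ i) (hb₂ i)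

/-- The cartesian system of a morphism `g : c.pt ⟶ Z`. -/
theorem exists_cart_of_hom {M : Over B} {m : M ⟶ Z} (hm : Mp (P := P) m) (g : c.pt.obj ⟶ Z)
    (hg : ∀ i, (c.ι.app i).hom ≫ g = t i) :
    ∃ b : ∀ i, (pbF t ht m).obj i ⟶ pullback m g, Cart t ht m (pullback.snd m g) b ∧
      ∀ i, b i ≫ pullback.fst m g = pbβ t ht m i := by
  have hU := IsPullback.of_hasPullback m g
  let b : ∀ i, (pbF t ht m).obj i ⟶ pullback m g := fun i =>
    hU.lift (pbβ t ht m i) ((pbα t ht m).app i ≫ (c.ι.app i).hom) (by rw [Category.assoc, hg, pb_w])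
  have hb₁ : ∀ i, b i ≫ pullback.fst m g = pbβ t ht m i := fun i => hU.lift_fst _ _ _
  have hb₂ : ∀ i, b i ≫ pullback.snd m g = (pbα t ht m).app i ≫ (c.ι.app i).hom := fun i => hU.lift_snd _ _ _
  refine ⟨b, ⟨et_of_pb hU hm.et, sep_of_pb hU hm.sep, fun i j k => ?_, fun i => ?_⟩, hb₁⟩
  · apply hU.hom_ext
    · rw [Category.assoc, hb₁, hb₁, pbβ_nat]
    · rw [Category.assoc, hb₂, hb₂, ← Category.assoc, (pbα t ht m).naturality k, Category.assoc]
      congr 1
      exact congrArg (fun k => k.hom) (c.w k)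
  · have h0 : IsPullback (b i ≫ pullback.fst m g) ((pbα t ht m).app i) m ((c.ι.app i).hom ≫ g) := by
      rw [hb₁, hg]
      exact isPullback_app t ht m i
    exact IsPullback.of_right h0 (hb₂ i) hU

end

theorem result {S : Scheme.{u}} {B : AlgSp.Space S} (P : ObjectProperty (Over B))
    (hP : ∀ T : Over B, P T ↔ AlgSp.IsSeparatedMor T.hom.hom) {I : Type v} [Category.{w} I]
    (D : I ⥤ P.FullSubcategory) (c : Cocone D) (h₂ : IsColimit c)
    (h₃ : ∀ x : AlgSp.Points c.pt.obj.left.obj, ∃ (i : I) (y : AlgSp.Points (D.obj i).obj.left.obj),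
      AlgSp.Points.map (c.ι.app i).hom.left.hom y = x)
    (h₄ : ∀ (D' : I ⥤ P.FullSubcategory) (α : D' ⟶ D) (c' : Cocone D') (a : c'.pt ⟶ c.pt),
      AlgSp.IsEtaleMor a.hom.left.hom → AlgSp.IsSeparatedMor a.hom.left.hom →
      (∀ i, IsPullback (c'.ι.app i).hom.left.hom (α.app i).hom.left.hom a.hom.left.hom (c.ι.app i).hom.left.hom) →
        Nonempty (IsColimit c'))
    (h₅ : ∀ (D' : I ⥤ P.FullSubcategory) (α : D' ⟶ D),
      (∀ ⦃i j : I⦄ (g : i ⟶ j), IsPullback (D'.map g).hom.left.hom (α.app i).hom.left.hom (α.app j).hom.left.hom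
        (D.map g).hom.left.hom) →
      (∀ i, AlgSp.IsEtaleMor (α.app i).hom.left.hom) → (∀ i, AlgSp.IsSeparatedMor (α.app i).hom.left.hom) →
        ∃ (c' : Cocone D') (a : c'.pt ⟶ c.pt), AlgSp.IsEtaleMor a.hom.left.hom ∧ AlgSp.IsSeparatedMor a.hom.left.hom ∧
          ∀ i, IsPullback (c'.ι.app i).hom.left.hom (α.app i).hom.left.hom a.hom.left.hom (c.ι.app i).hom.left.hom) :
    Nonempty (IsColimit (P.ι.mapCocone c)) := by
  -- existence and uniqueness of the factorisation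
  have key : ∀ (Z : Over B) (t : ∀ i, (D ⋙ P.ι).obj i ⟶ Z)
      (_ : ∀ ⦃i j : I⦄ (g : i ⟶ j), (D ⋙ P.ι).map g ≫ t j = t i),
      ∃! g : c.pt.obj ⟶ Z, ∀ i, (c.ι.app i).hom ≫ g = t i := by
    intro Z t ht
    obtain ⟨ι, M, m, he, hs, hM, hx⟩ := exists_charts_over Z
    have hm : ∀ a, Mp (P := P) (m a) := fun a => ⟨he a, hs a, (hP _).2 (hM a)⟩
    -- the charts of `Z` are jointly locally surjective
    have hJ : JLS (J := AlgSp.J S) (fun a => (M a).left.obj) (fun a => (m a).left.hom) :=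
      jls_of_isEtaleMor _ (fun a => (M a).left.property) he hx
    choose U aa b hU using fun a => exists_cart hP t ht h₅ (hm a)
    choose r hr hr' using fun a => (hU a).colim hP t ht h₄ (hm a) (hm a).prop (fun i => pbβ t ht (m a) i)
      (fun i j g => pbβ_nat t ht (m a) g)
    have hJU : JLS (J := AlgSp.J S) (fun a => (U a).left.obj) (fun a => (aa a).left.hom) := by
      refine jls_of_isEtaleMor _ (fun a => (U a).left.property) (fun a => (hU a).et) fun x => ?_
      obtain ⟨i, y, rfl⟩ := h₃ x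
      obtain ⟨a, z, hz⟩ := hx (Points.map (t i).left.hom y)
      obtain ⟨q, hq, hq'⟩ := K609.Points.exists_of_isPullback (sq_forget (isPullback_app t ht (m a) i)) z y hz
      refine ⟨a, Points.map (b a i).left.hom q, ?_⟩
      rw [← Points.map_comp, (sq_forget ((hU a).sq i)).w, Points.map_comp, hq']
    have hcompat : ∀ a a', pullback.fst (aa a) (aa a') ≫ r a ≫ m a = pullback.snd (aa a) (aa a') ≫ r a' ≫ m a' := by
      intro a a'
      have hN := IsPullback.of_hasPullback (m a) (m a')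
      obtain ⟨bb, hbb, hb₁, hb₂⟩ := exists_cart_prod t ht hN (hU a) (hU a') (IsPullback.of_hasPullback (aa a) (aa a'))
      have hmN : Mp (P := P) (pullback.fst (m a) (m a') ≫ m a) :=
        ⟨isEtaleMor_comp (et_of_pb hN.flip (he a')) (he a), isSeparatedMor_comp (sep_of_pb hN.flip (hs a')) (hs a),
          sep_of_map hP (pullback.fst (m a) (m a')) (sep_of_pb hN.flip (hs a')) (hm a).prop⟩
      obtain ⟨φ, hφ, -⟩ := hbb.colim hP t ht h₄ hmN hmN.prop (fun i => pbβ t ht _ i) (fun i j g => pbβ_nat t ht _ g)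
      have e₁ : φ ≫ pullback.fst (m a) (m a') = pullback.fst (aa a) (aa a') ≫ r a := by
        obtain ⟨ψ, -, hψ⟩ := hbb.colim hP t ht h₄ hmN (hm a).prop
          (fun i => pbβ t ht _ i ≫ pullback.fst (m a) (m a')) (fun i j g => by rw [← Category.assoc, pbβ_nat])
        rw [hψ (φ ≫ pullback.fst (m a) (m a')) (fun i => by rw [← Category.assoc, hφ]),
          hψ (pullback.fst (aa a) (aa a') ≫ r a) (fun i => by
            rw [← Category.assoc, hb₁, Category.assoc, hr, pbMap_β])]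
      have e₂ : φ ≫ pullback.snd (m a) (m a') = pullback.snd (aa a) (aa a') ≫ r a' := by
        obtain ⟨ψ, -, hψ⟩ := hbb.colim hP t ht h₄ hmN (hm a').prop
          (fun i => pbβ t ht _ i ≫ pullback.snd (m a) (m a')) (fun i j g => by rw [← Category.assoc, pbβ_nat])
        rw [hψ (φ ≫ pullback.snd (m a) (m a')) (fun i => by rw [← Category.assoc, hφ]),
          hψ (pullback.snd (aa a) (aa a') ≫ r a') (fun i => by
            rw [← Category.assoc, hb₂, Category.assoc, hr, pbMap_β])]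
      rw [← Category.assoc, ← e₁, ← Category.assoc, ← e₂, Category.assoc, Category.assoc, pullback.condition]
    obtain ⟨h, hh, -⟩ := hJU.exists_hom_of_isPullback (fun a => (r a ≫ m a).left.hom)
      (fun a a' => (pullback (aa a) (aa a')).left.obj) (fun a a' => (pullback.fst (aa a) (aa a')).left.hom)
      (fun a a' => (pullback.snd (aa a) (aa a')).left.hom) (fun a a' => sq_forget (IsPullback.of_hasPullback _ _))
      (fun a a' => congrArg (fun k => k.left.hom) (hcompat a a'))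
    have hover : h ≫ Z.hom.hom = c.pt.obj.hom.hom := hJU.hom_ext fun a => by
      rw [← Category.assoc, hh]
      exact (congrArg (fun k => k.hom) (Over.w (r a ≫ m a))).trans (congrArg (fun k => k.hom) (Over.w (aa a))).symm
    let H : c.pt.obj ⟶ Z := Over.homMk (ObjectProperty.homMk h) (ObjectProperty.hom_ext _ hover)
    have hH : ∀ a, aa a ≫ H = r a ≫ m a := fun a => Over.OverMorphism.ext (ObjectProperty.hom_ext _ (hh a))
    have hfac : ∀ i, (c.ι.app i).hom ≫ H = t i := by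
      intro i
      have hJi := hJ.baseChange (t i).left.hom (V := fun a => ((pbF t ht (m a)).obj i).left.obj)
        (fun a => (pbβ t ht (m a) i).left.hom) (fun a => ((pbα t ht (m a)).app i).left.hom)
        (fun a => sq_forget (isPullback_app t ht (m a) i))
      refine Over.OverMorphism.ext (ObjectProperty.hom_ext _ (hJi.hom_ext fun a => ?_))
      have : (pbα t ht (m a)).app i ≫ (c.ι.app i).hom ≫ H = (pbα t ht (m a)).app i ≫ t i := by
        rw [← Category.assoc, ← ((hU a).sq i).w, Category.assoc, hH, ← Category.assoc, hr, pb_w]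
      exact congrArg (fun k => k.left.hom) this
    refine ⟨H, hfac, fun g hg => ?_⟩
    -- uniqueness
    have hJg := hJ.baseChange g.left.hom (V := fun a => (pullback (m a) g).left.obj)
      (fun a => (pullback.fst (m a) g).left.hom) (fun a => (pullback.snd (m a) g).left.hom)
      (fun a => sq_forget (IsPullback.of_hasPullback _ _))
    refine Over.OverMorphism.ext (ObjectProperty.hom_ext _ (hJg.hom_ext fun a => ?_))
    obtain ⟨b₁, hb₁, hb₁'⟩ := exists_cart_of_hom t ht (hm a) g hg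
    obtain ⟨b₂, hb₂, hb₂'⟩ := exists_cart_of_hom t ht (hm a) H hfac
    obtain ⟨θ, hθ, -⟩ := hb₁.colim hP t ht h₄ (hm a) (hb₂.prp hP t ht) b₂ hb₂.nat
    have e₁ : θ ≫ pullback.snd (m a) H = pullback.snd (m a) g := by
      obtain ⟨ψ, -, hψ⟩ := hb₁.colim hP t ht h₄ (hm a) c.pt.property
        (fun i => (pbα t ht (m a)).app i ≫ (c.ι.app i).hom) (fun i j k => by
          rw [← Category.assoc, (pbα t ht (m a)).naturality k, Category.assoc]
          congr 1
          exact congrArg (fun k => k.hom) (c.w k))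
      exact (hψ (θ ≫ pullback.snd (m a) H) (fun i => by rw [← Category.assoc, hθ, (hb₂.sq i).w])).trans
        (hψ _ (fun i => (hb₁.sq i).w)).symm
    have e₂ : θ ≫ pullback.fst (m a) H = pullback.fst (m a) g := by
      obtain ⟨ψ, -, hψ⟩ := hb₁.colim hP t ht h₄ (hm a) (hm a).prop (fun i => pbβ t ht (m a) i)
        (fun i j g => pbβ_nat t ht (m a) g)
      exact (hψ (θ ≫ pullback.fst (m a) H) (fun i => by rw [← Category.assoc, hθ, hb₂'])).trans
        (hψ _ hb₁').symm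
    have e₃ : pullback.snd (m a) g ≫ g = pullback.snd (m a) g ≫ H := by
      rw [← pullback.condition, ← e₂, Category.assoc, pullback.condition, ← Category.assoc, e₁]
    exact congrArg (fun k => k.left.hom) e₃
  choose F hF hF' using fun (s : Cocone (D ⋙ P.ι)) => key s.pt (fun i => s.ι.app i) (fun i j g => s.w g)
  exact ⟨{ desc := F, fac := hF, uniq := fun s g hg => hF' s g hg }⟩

end Groth.Agent.S10728
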