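import Groth.Statements.S10729
import Groth.Agent.S10703
import Groth.Agent.AlgSp.K634.SecMain

set_option autoImplicit false
universe u
open CategoryTheory CategoryTheory.Limits AlgebraicGeometry
open AlgSp

namespace Groth.Agent.S10729

/-- Let `X` be a quasi-compact locally Noetherian algebraic space over `S`, `i : Z → X` a closed
immersion with open complement `U`, and `f : X' → X` a proper morphism that is an isomorphism over
`U`. For `k ≥ 0` let `Z_k ⊂ X` be the closed subspace cut out by the `(k+1)`-st power of the ideal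
of `Z`, `Y_k = X' ⨿ Z_k` with `g_k : Y_k → X`, `R_k = Y_k ×_X Y_k`, `π_k : Y_k → X_k` the
coequalizer of the two projections with `c_k : X_k → X`, and `τ_{k,m} : X_k → X_{k+m}` the morphisms
induced by the inclusions `Z_k ⊂ Z_{k+m}`. Then for all `k` large enough there is an `m` such that
`τ_{k,m}` is `c_k` followed by a closed immersion `X → X_{k+m}` which is a section of `c_{k+m}`.
(The published statement asserts only that `τ_{k,m}` factors through some closed immersion `X →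
X_{k+m}`; this row asks the first factor to be `c_k` and the closed immersion to be a section of
`c_{k+m}`, which is what the argument produces. The published statement indexes the neighbourhoods
by the exponent of the ideal, starting at `1`; here `Z_k` has exponent `k + 1`.) -/
theorem result {S : Scheme.{u}} {X X' Z U XU : AlgSp.Space S}
    (hqc : AlgSp.IsQuasiCompactSp X.obj) (hN : AlgSp.IsLocNoethSp X.obj) (i : Z ⟶ X)
    (hi : AlgSp.RepWith @IsClosedImmersion i.hom) (jU : U ⟶ X) (hjU : AlgSp.RepWith @IsOpenImmersion jU.hom)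
    (hU : Set.range (AlgSp.Points.map jU.hom) = (Set.range (AlgSp.Points.map i.hom))ᶜ) (f : X' ⟶ X)
    (hf : AlgSp.IsProperMor f.hom) (a : XU ⟶ X') (b : XU ⟶ U) (hXU : IsPullback a.hom b.hom f.hom jU.hom) [IsIso b]
    (Zn Yn Rn Xn : ℕ → AlgSp.Space S) (jn : ∀ k, Z ⟶ Zn k) (kn : ∀ k, Zn k ⟶ X)
    (hZn : ∀ k, AlgSp.IsInfNbhd k i.hom (jn k).hom (kn k).hom) (inl : ∀ k, X' ⟶ Yn k) (inr : ∀ k, Zn k ⟶ Yn k)
    (hYn : ∀ k, IsColimit (BinaryCofan.mk (inl k) (inr k))) (g : ∀ k, Yn k ⟶ X) (hg₁ : ∀ k, inl k ≫ g k = f)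
    (hg₂ : ∀ k, inr k ≫ g k = kn k) (t s : ∀ k, Rn k ⟶ Yn k)
    (hRn : ∀ k, IsPullback (t k).hom (s k).hom (g k).hom (g k).hom) (π : ∀ k, Yn k ⟶ Xn k)
    (w : ∀ k, t k ≫ π k = s k ≫ π k) (hXn : ∀ k, IsColimit (Cofork.ofπ (π k) (w k))) (c : ∀ k, Xn k ⟶ X)
    (hc : ∀ k, π k ≫ c k = g k) (zz : ∀ k m, Zn k ⟶ Zn (k + m)) (hzz : ∀ k m, zz k m ≫ kn (k + m) = kn k)
    (yy : ∀ k m, Yn k ⟶ Yn (k + m)) (hyy₁ : ∀ k m, inl k ≫ yy k m = inl (k + m))
    (hyy₂ : ∀ k m, inr k ≫ yy k m = zz k m ≫ inr (k + m)) (τ : ∀ k m, Xn k ⟶ Xn (k + m))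
    (hτ : ∀ k m, π k ≫ τ k m = yy k m ≫ π (k + m)) :
    ∃ N : ℕ, ∀ k, N ≤ k → ∃ (m : ℕ) (h : X ⟶ Xn (k + m)), AlgSp.RepWith @IsClosedImmersion h.hom ∧
      h ≫ c (k + m) = 𝟙 X ∧ τ k m = c k ≫ h  := by
  have HC : K634.CoeqFin.CoeqHyp S := fun g hX hg t s hR => Groth.Agent.S10703.result g hX hg t s hR
  exact K634.SecMain.main HC hqc hN i hi jU hjU hU f hf a b hXU Zn Yn Rn Xn jn kn hZn inl inr hYn g hg₁ hg₂ t s hRn π w
    hXn c hc zz hzz yy hyy₁ hyy₂ τ hτ

end Groth.Agent.S10729
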