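-- Proof of statement S10730.
import Groth.Statements.S10730
import Groth.Agent.AlgSp.K642.ColimEt

set_option autoImplicit false
universe w v u
open CategoryTheory CategoryTheory.Limits AlgebraicGeometry
open AlgSp

namespace Groth.Agent.S10730

open K642.Pb K642.PbFun K642.Charts K642.Charts2 K642.EtCov K642.Glue K642.ColimEt

attribute [local instance] K642.Pb.closedUnderPullbacks K642.Pb.hasPullbacks K642.Pb.preserves_ι

set_option backward.isDefEq.respectTransparency false

/-- The cartesian system of a morphism `g : c.pt ⟶ Z`. -/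
theorem exists_cart_of_hom {S : Scheme.{u}} {B : AlgSp.Space S} {I : Type v} [Category.{w} I]
    {D : I ⥤ Over B} {c : Cocone D} {Z : Over B} (t : ∀ i, D.obj i ⟶ Z)
    (ht : ∀ ⦃i j : I⦄ (g : i ⟶ j), D.map g ≫ t j = t i) {M : Over B} {m : M ⟶ Z}
    (hm : IsEtaleMor m.left.hom) (g : c.pt ⟶ Z)
    (hg : ∀ i, c.ι.app i ≫ g = t i) :
    ∃ b : ∀ i, (pbF t ht m).obj i ⟶ pullback m g, Cart (pullback.snd m g) (pbα t ht m) b ∧
      ∀ i, b i ≫ pullback.fst m g = pbβ t ht m i := by
  have hU := IsPullback.of_hasPullback m g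
  let b : ∀ i, (pbF t ht m).obj i ⟶ pullback m g := fun i =>
    hU.lift (pbβ t ht m i) ((pbα t ht m).app i ≫ c.ι.app i) (by rw [Category.assoc, hg, pb_w])
  have hb₁ : ∀ i, b i ≫ pullback.fst m g = pbβ t ht m i := fun i => hU.lift_fst _ _ _
  have hb₂ : ∀ i, b i ≫ pullback.snd m g = (pbα t ht m).app i ≫ c.ι.app i := fun i => hU.lift_snd _ _ _
  refine ⟨b, ⟨et_of_pb hU hm, fun i j k => ?_, fun i => ?_⟩, hb₁⟩
  · apply hU.hom_ext
    · rw [Category.assoc, hb₁, hb₁, pbβ_nat]
    · rw [Category.assoc, hb₂, hb₂, ← Category.assoc, (pbα t ht m).naturality k, Category.assoc, c.w k]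
  · have h0 : IsPullback (b i ≫ pullback.fst m g) ((pbα t ht m).app i) m (c.ι.app i ≫ g) := by
      rw [hb₁, hg]
      exact isPullback_app t ht m i
    exact IsPullback.of_right h0 (hb₂ i) hU

/-- Let `B` be an algebraic space over `S`, `D : I ⥤ Over B` a diagram of algebraic spaces over `B` and
`c` a cocone. Assume (1) the base change functor from algebraic spaces etale over `c.pt` to systems
of algebraic spaces etale over the `D_i` with cartesian transition squares is an equivalence: every
such system is the base change of some etale `U → c.pt`, and every morphism between the base-change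
systems of two etale `U, U' → c.pt` comes from a unique morphism `U → U'` over `c.pt`; and (2) for
every affine scheme `B'` etale over `B`, affine scheme `Z` over `B'`, affine scheme `U` etale over
`c.pt ×_B B'` and cocone of morphisms `U ×_{c.pt} D_i → Z` over `B'`, there is a unique `U → Z` over
`B'` inducing it. Then `c` is a colimit in algebraic spaces over `B`. -/
theorem result {S : Scheme.{u}} {B : AlgSp.Space S} {I : Type v} [Category.{w} I]
    (D : I ⥤ Over B) (c : Cocone D)
    (h₁ : ∀ (D' : I ⥤ Over B) (α : D' ⟶ D),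
      (∀ ⦃i j : I⦄ (g : i ⟶ j), IsPullback (D'.map g).left.hom (α.app i).left.hom (α.app j).left.hom (D.map g).left.hom) →
      (∀ i, AlgSp.IsEtaleMor (α.app i).left.hom) →
        ∃ (c' : Cocone D') (a : c'.pt ⟶ c.pt), AlgSp.IsEtaleMor a.left.hom ∧
          ∀ i, IsPullback (c'.ι.app i).left.hom (α.app i).left.hom a.left.hom (c.ι.app i).left.hom)
    (h₁' : ∀ (U U' : Over B) (u : U ⟶ c.pt) (u' : U' ⟶ c.pt), AlgSp.IsEtaleMor u.left.hom → AlgSp.IsEtaleMor u'.left.hom →
      ∀ (DU DU' : I ⥤ Over B) (αU : DU ⟶ D) (αU' : DU' ⟶ D) (ιU : DU ⟶ (Functor.const I).obj U)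
        (ιU' : DU' ⟶ (Functor.const I).obj U'),
        (∀ i, IsPullback (ιU.app i).left.hom (αU.app i).left.hom u.left.hom (c.ι.app i).left.hom) →
        (∀ i, IsPullback (ιU'.app i).left.hom (αU'.app i).left.hom u'.left.hom (c.ι.app i).left.hom) →
        ∀ (β : DU ⟶ DU'), β ≫ αU' = αU →
          ∃! m : U ⟶ U', m ≫ u' = u ∧ ∀ i, ιU.app i ≫ m = β.app i ≫ ιU'.app i)
    (h₂ : ∀ (B' Zs Us : Over S) (b : (AlgSp.yon S).obj B' ⟶ B.obj) (z : Zs ⟶ B') {XB : AlgSp.Space S}
      (x₁ : XB ⟶ c.pt.left) (x₂ : XB.obj ⟶ (AlgSp.yon S).obj B') (uu : (AlgSp.yon S).obj Us ⟶ XB.obj)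
      (DU : I ⥤ AlgSp.Space S) (αU : DU ⟶ D ⋙ Over.forget B)
      (ιU : DU ⟶ (Functor.const I).obj ((AlgSp.ofScheme S).obj Us))
      (φ : DU ⟶ (Functor.const I).obj ((AlgSp.ofScheme S).obj Zs)),
      IsAffine B'.left → IsAffine Zs.left → IsAffine Us.left → AlgSp.RepWith @Etale b →
      IsPullback x₁.hom x₂ c.pt.hom.hom b → AlgSp.RepWith @Etale uu →
      (∀ i, IsPullback (ιU.app i).hom (αU.app i).hom (uu ≫ x₁.hom) (c.ι.app i).left.hom) →
      (∀ i, (φ.app i).hom ≫ (AlgSp.yon S).map z = (ιU.app i).hom ≫ uu ≫ x₂) →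
        ∃! fz : Us ⟶ Zs, (AlgSp.yon S).map fz ≫ (AlgSp.yon S).map z = uu ≫ x₂ ∧
          ∀ i, (ιU.app i).hom ≫ (AlgSp.yon S).map fz = (φ.app i).hom) :
    Nonempty (IsColimit c) := by
  have hff : FF c := h₁'
  have hes : ES c := h₁
  have haf : AF c := h₂
  have key : ∀ (Z : Over B) (t : ∀ i, D.obj i ⟶ Z)
      (_ : ∀ ⦃i j : I⦄ (g : i ⟶ j), D.map g ≫ t j = t i),
      ∃! g : c.pt ⟶ Z, ∀ i, c.ι.app i ≫ g = t i := by
    intro Z t ht
    obtain ⟨ι, B', Zs, b, z, m₀, hB, hZ, hb, hm, hmz, hmx⟩ :=
      exists_affine_charts_over Z.left.property B.property Z.hom.hom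
    -- the charts as objects over `B`
    let M : ι → Over B := fun a => ov ((yon S).map (z a) ≫ b a)
    let m : ∀ a, M a ⟶ Z := fun a => Over.homMk (ObjectProperty.homMk (m₀ a)) (ObjectProperty.hom_ext _ (hmz a))
    have he : ∀ a, IsEtaleMor (m a).left.hom := fun a => isEtaleMor_of_repWith (hm a)
    have hx : ∀ x : Points Z.left.obj, ∃ a, x ∈ Set.range (Points.map (m a).left.hom) := fun x => by
      obtain ⟨a, v, hv⟩ := hmx x
      exact ⟨a, Points.ofScheme _ v, by rw [← hv]; exact (Points.ofPt_eq_map_ofScheme _ _).symm⟩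
    have hJ : JLS (J := AlgSp.J S) (fun a => (M a).left.obj) (fun a => (m a).left.hom) :=
      jls_of_isEtaleMor _ (fun a => (M a).left.property) he hx
    choose U aa e hU using fun a => exists_cart hes t ht (m a) (he a)
    choose r hr hr' using fun a => existsUnique_to_affine hff haf (hU a) (z a) (hB a) (hZ a) (hb a)
      (fun i => pbβ t ht (m a) i) (fun i j g => pbβ_nat t ht (m a) g)
    have hJU : JLS (J := AlgSp.J S) (fun a => (U a).left.obj) (fun a => (aa a).left.hom) := by
      refine jls_of_isEtaleMor _ (fun a => (U a).left.property) (fun a => (hU a).et) ?_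
      have hc : Cart (𝟙 c.pt) (𝟙 D) (fun i => c.ι.app i) :=
        ⟨et_id _, fun i j g => c.w g, fun i => IsPullback.of_vert_isIso ⟨by simp⟩⟩
      refine surj_of_cover hff hc aa (fun a => (hU a).et) fun i y => ?_
      obtain ⟨a, w, hw⟩ := hx (Points.map (t i).left.hom y)
      obtain ⟨q, hq, hq'⟩ := K609.Points.exists_of_isPullback (sq_forget (isPullback_app t ht (m a) i)) w y hw
      refine ⟨a, Points.map (e a i).left.hom q, ?_⟩
      rw [← Points.map_comp, (sq_forget ((hU a).sq i)).w, Points.map_comp, hq']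
    have hcompat : ∀ a a', pullback.fst (aa a) (aa a') ≫ r a ≫ m a = pullback.snd (aa a) (aa a') ≫ r a' ≫ m a' := by
      intro a a'
      -- the scheme `N = Zs a ×_Z Zs a'`
      obtain ⟨N, p₂, p₁, sqN⟩ := (hm a).1 (m₀ a')
      obtain ⟨p₁, rfl⟩ := (yon S).map_surjective p₁
      let N' : Over B := ov ((yon S).map p₁ ≫ (yon S).map (z a) ≫ b a)
      let n₁ : N' ⟶ M a := Over.homMk (ObjectProperty.homMk ((yon S).map p₁)) rfl
      let n₂ : N' ⟶ M a' := Over.homMk (ObjectProperty.homMk ((yon S).map p₂)) (ObjectProperty.hom_ext _ (by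
        change (yon S).map p₂ ≫ (yon S).map (z a') ≫ b a' = (yon S).map p₁ ≫ (yon S).map (z a) ≫ b a
        rw [← hmz, ← hmz, ← Category.assoc, ← Category.assoc, sqN.w]))
      have hN : IsPullback n₁ n₂ (m a) (m a') := isPullback_over_iff.1 sqN
      obtain ⟨bb, hbb, hb₁, hb₂⟩ := exists_cart_prod t ht hN (hU a) (hU a') (IsPullback.of_hasPullback (aa a) (aa a'))
      -- affine opens of `N`
      choose O hO hyO _ using fun y : ↥N.left =>
        exists_isAffineOpen_mem_and_subset (X := N.left) (x := y) (U := ⊤) trivial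
      let V : ↥N.left → Over S := fun y => Over.mk ((O y).ι ≫ N.hom)
      let j : ∀ y, V y ⟶ N := fun y => Over.homMk (O y).ι
      let L : ↥N.left → Over B := fun y => ov ((yon S).map (j y ≫ p₁ ≫ z a) ≫ b a)
      let l : ∀ y, L y ⟶ N' := fun y => Over.homMk (ObjectProperty.homMk ((yon S).map (j y)))
        (ObjectProperty.hom_ext _ (by
          change (yon S).map (j y) ≫ (yon S).map p₁ ≫ (yon S).map (z a) ≫ b a = (yon S).map (j y ≫ p₁ ≫ z a) ≫ b a
          simp only [Functor.map_comp, Category.assoc]))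
      have hle : ∀ y, IsEtaleMor (l y).left.hom := fun y => isEtaleMor_of_repWith
        ((repWith_yon_map_iff _ _).2 (show Etale (O y).ι from inferInstance))
      have hn₁ : IsEtaleMor n₁.left.hom := et_of_pb hN.flip (he a')
      have hle' : ∀ y, IsEtaleMor (l y ≫ n₁ ≫ m a).left.hom := fun y => et_comp (hle y) (et_comp hn₁ (he a))
      choose Ul ul el hUl using fun y => exists_cart hes t ht (l y ≫ n₁ ≫ m a) (hle' y)
      choose rl hrl hrl' using fun y => existsUnique_to_affine hff haf (hUl y) (j y ≫ p₁ ≫ z a) (hB a) (hO y) (hb a)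
        (fun i => pbβ t ht (l y ≫ n₁ ≫ m a) i) (fun i j g => pbβ_nat t ht _ g)
      choose k hk hku using fun y => hff.ff (hUl y) hbb (pbMap t ht (n₁ ≫ m a) (l y ≫ n₁ ≫ m a) (l y) rfl)
        (fun i => pbMap_α t ht _ _ _ _ i)
      have hke : ∀ y, IsEtaleMor (k y).left.hom := fun y => by
        refine K642.EtCancel.isEtaleMor_of_comp (pullback (aa a) (aa a')).left.property hbb.et ?_
        have := (hUl y).et
        rw [← (hk y).1] at this
        exact this
      have hks : ∀ x : Points (pullback (aa a) (aa a')).left.obj, ∃ y, x ∈ Set.range (Points.map (k y).left.hom) := by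
        refine surj_of_cover hff hbb k hke fun i y => ?_
        let v := Points.toScheme N (Points.map (pbβ t ht (n₁ ≫ m a) i).left.hom y)
        have hv : Points.map (l v).left.hom (Points.ofScheme (V v) ⟨v, hyO v⟩) =
            Points.map (pbβ t ht (n₁ ≫ m a) i).left.hom y := by
          rw [← Points.ofScheme_toScheme N (Points.map (pbβ t ht (n₁ ≫ m a) i).left.hom y)]
          exact K609.Points.map_yon_map_ofScheme (j v) _
        obtain ⟨q, -, hq⟩ := K609.Points.exists_of_isPullback (sq_forget (isPullback_pbMap t ht (n₁ ≫ m a)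
          (l v ≫ n₁ ≫ m a) (l v) rfl i)) _ y hv
        refine ⟨v, Points.map (el v i).left.hom q, ?_⟩
        rw [← Points.map_comp]
        have := (hk v).2 i
        have h3 : (el v i).left.hom ≫ (k v).left.hom = ((pbMap t ht (n₁ ≫ m a) (l v ≫ n₁ ≫ m a) (l v) rfl).app i).left.hom
          ≫ (bb i).left.hom := congrArg (fun k => k.left.hom) this
        rw [h3, Points.map_comp, hq]
      have hJk : JLS (J := AlgSp.J S) (fun y => (Ul y).left.obj) (fun y => (k y).left.hom) :=
        jls_of_isEtaleMor _ (fun y => (Ul y).left.property) hke hks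
      refine Over.OverMorphism.ext (ObjectProperty.hom_ext _ (hJk.hom_ext fun y => ?_))
      have e₁ : k y ≫ pullback.fst (aa a) (aa a') ≫ r a = rl y ≫ l y ≫ n₁ := by
        obtain ⟨ψ, -, hψ⟩ := existsUnique_to_affine hff haf (hUl y) (z a) (hB a) (hZ a) (hb a)
          (fun i => pbβ t ht (l y ≫ n₁ ≫ m a) i ≫ l y ≫ n₁) (fun i j g => pbβ_nat_assoc t ht _ g _)
        refine (hψ _ fun i => ?_).trans (hψ _ fun i => ?_).symm
        · rw [← Category.assoc (el y i), (hk y).2, Category.assoc, ← Category.assoc (bb i), hb₁, Category.assoc, hr,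
            pbMap_β, pbMap_β_assoc]
        · rw [← Category.assoc (el y i), hrl]
      have e₂ : k y ≫ pullback.snd (aa a) (aa a') ≫ r a' = rl y ≫ l y ≫ n₂ := by
        obtain ⟨ψ, -, hψ⟩ := existsUnique_to_affine hff haf (hUl y) (z a') (hB a') (hZ a') (hb a')
          (fun i => pbβ t ht (l y ≫ n₁ ≫ m a) i ≫ l y ≫ n₂) (fun i j g => pbβ_nat_assoc t ht _ g _)
        refine (hψ _ fun i => ?_).trans (hψ _ fun i => ?_).symm
        · rw [← Category.assoc (el y i), (hk y).2, Category.assoc, ← Category.assoc (bb i), hb₂, Category.assoc, hr,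
            pbMap_β, pbMap_β_assoc]
        · rw [← Category.assoc (el y i), hrl]
      have e₃ : k y ≫ pullback.fst (aa a) (aa a') ≫ r a ≫ m a = k y ≫ pullback.snd (aa a) (aa a') ≫ r a' ≫ m a' := by
        rw [← Category.assoc (pullback.fst (aa a) (aa a')), ← Category.assoc, e₁,
          ← Category.assoc (pullback.snd (aa a) (aa a')), ← Category.assoc (k y), e₂]
        simp only [Category.assoc, hN.w]
      exact congrArg (fun k => k.left.hom) e₃
    obtain ⟨h, hh, -⟩ := hJU.exists_hom_of_isPullback (fun a => (r a ≫ m a).left.hom)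
      (fun a a' => (pullback (aa a) (aa a')).left.obj) (fun a a' => (pullback.fst (aa a) (aa a')).left.hom)
      (fun a a' => (pullback.snd (aa a) (aa a')).left.hom) (fun a a' => sq_forget (IsPullback.of_hasPullback _ _))
      (fun a a' => congrArg (fun k => k.left.hom) (hcompat a a'))
    have hover : h ≫ Z.hom.hom = c.pt.hom.hom := hJU.hom_ext fun a => by
      rw [← Category.assoc, hh]
      exact (congrArg (fun k => k.hom) (Over.w (r a ≫ m a))).trans (congrArg (fun k => k.hom) (Over.w (aa a))).symm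
    let H : c.pt ⟶ Z := Over.homMk (ObjectProperty.homMk h) (ObjectProperty.hom_ext _ hover)
    have hH : ∀ a, aa a ≫ H = r a ≫ m a := fun a => Over.OverMorphism.ext (ObjectProperty.hom_ext _ (hh a))
    have hfac : ∀ i, c.ι.app i ≫ H = t i := by
      intro i
      have hJi := hJ.baseChange (t i).left.hom (V := fun a => ((pbF t ht (m a)).obj i).left.obj)
        (fun a => (pbβ t ht (m a) i).left.hom) (fun a => ((pbα t ht (m a)).app i).left.hom)
        (fun a => sq_forget (isPullback_app t ht (m a) i))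
      refine Over.OverMorphism.ext (ObjectProperty.hom_ext _ (hJi.hom_ext fun a => ?_))
      have : (pbα t ht (m a)).app i ≫ c.ι.app i ≫ H = (pbα t ht (m a)).app i ≫ t i := by
        rw [← Category.assoc, ← ((hU a).sq i).w, Category.assoc, hH, ← Category.assoc, hr, pb_w]
      exact congrArg (fun k => k.left.hom) this
    refine ⟨H, hfac, fun g hg => ?_⟩
    -- uniqueness
    have hJg := hJ.baseChange g.left.hom (V := fun a => (pullback (m a) g).left.obj)
      (fun a => (pullback.fst (m a) g).left.hom) (fun a => (pullback.snd (m a) g).left.hom)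
      (fun a => sq_forget (IsPullback.of_hasPullback _ _))
    refine Over.OverMorphism.ext (ObjectProperty.hom_ext _ (hJg.hom_ext fun a => ?_))
    obtain ⟨b₁, hb₁, hb₁'⟩ := exists_cart_of_hom t ht (he a) g hg
    obtain ⟨b₂, hb₂, hb₂'⟩ := exists_cart_of_hom t ht (he a) H hfac
    obtain ⟨θ, ⟨hθ, hθ'⟩, -⟩ := hff.ff hb₁ hb₂ (𝟙 _) (fun i => by simp)
    have e₂ : θ ≫ pullback.fst (m a) H = pullback.fst (m a) g := by
      obtain ⟨ψ, -, hψ⟩ := existsUnique_to_affine hff haf hb₁ (z a) (hB a) (hZ a) (hb a)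
        (fun i => pbβ t ht (m a) i) (fun i j g => pbβ_nat t ht (m a) g)
      refine (hψ (θ ≫ pullback.fst (m a) H) (fun i => ?_)).trans (hψ _ hb₁').symm
      rw [← Category.assoc, hθ', NatTrans.id_app, Category.id_comp, hb₂']
    have e₃ : pullback.snd (m a) g ≫ g = pullback.snd (m a) g ≫ H := by
      rw [← pullback.condition, ← e₂, Category.assoc, pullback.condition, ← Category.assoc, hθ]
    exact congrArg (fun k => k.left.hom) e₃
  choose F hF hF' using fun (s : Cocone D) => key s.pt (fun i => s.ι.app i) (fun i j g => s.w g)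
  exact ⟨{ desc := F, fac := hF, uniq := fun s g hg => hF' s g hg }⟩

end Groth.Agent.S10730
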