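import Groth.Statements.S10731
import Groth.Agent.AlgSp.K642.FibDim
import Groth.Agent.AlgSp.K622.Basic
import Mathlib.FieldTheory.IsAlgClosed.AlgebraicClosure

set_option autoImplicit false
universe u
open CategoryTheory CategoryTheory.Limits AlgebraicGeometry Opposite
open AlgSp

namespace Groth.Agent.S10731

open K643.Site K642.Dist K642.SymW K642.SymPush K642.FibDim in
set_option backward.isDefEq.respectTransparency false in
/-- No object over `X` has `d + 1` nowhere equal maps to `U`, apart from the empty one. -/
theorem isEmpty_of_dist {S : Scheme.{u}} {X : AlgSp.Sp S} {U : EtOver X} (d : ℕ)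
    (hd : ∀ x : AlgSp.FieldPt X, x.IsGeometric → ENat.card ((AlgSp.FieldPt.liftsTo x).obj U) ≤ d)
    (E : EtOver X) (c : Fin (d + 1) → (E ⟶ U)) (hc : Dist c) : IsEmpty (sch E) := by
  refine ⟨fun p => ?_⟩
  let K := AlgebraicClosure ((sch E).residueField p)
  let z : Spec (CommRingCat.of K) ⟶ sch E :=
    Spec.map (CommRingCat.ofHom (algebraMap ((sch E).residueField p) K)) ≫ (sch E).fromSpecResidueField p
  let z' : Over.mk (z ≫ E.obj.left.hom) ⟶ E.obj.left := Over.homMk z rfl
  let x : FieldPt X := K622.Basic.ofHom ((yon S).map z' ≫ E.obj.hom)
  have hx : x.IsGeometric := inferInstanceAs (IsAlgClosed K)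
  have hxh : x.toHom = (yon S).map z' ≫ E.obj.hom := K622.Basic.toHom_ofHom _
  let u : Fin (d + 1) → (FieldPt.liftsTo x).obj U := fun i => ⟨z' ≫ (c i).hom.left, by
    rw [Functor.map_comp, Category.assoc, EtOver.w (c i)]
    exact hxh.symm⟩
  have hu : Function.Injective u := by
    intro i j hij
    have h1 : z' ≫ (c i).hom.left = z' ≫ (c j).hom.left := congrArg Subtype.val hij
    have h2 : z ≫ schMap (c i) = z ≫ schMap (c j) := congrArg (fun k => k.left) h1
    exact hc.eq (mem_eqLoc_of_field z (K617.EtFin.pt K) h2)
  have h1 := ENat.card_le_card_of_injective hu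
  rw [ENat.card_eq_coe_fintype_card, Fintype.card_fin] at h1
  have h2 := h1.trans (hd x hx)
  rw [Nat.cast_le] at h2
  omega

/-- Let X be a quasi-compact algebraic space, separated over a separated base scheme S, let U be an
affine scheme with a surjective etale morphism f : h_U ⟶ X (representable etale and representable
surjective), and let d be a natural number such that every geometric point of X has at most d lifts
to U. Then H^q(X, M) = 0 for every quasi-coherent O_X-module M on the small etale site of X and
every q ≥ d. (The published statement bounds the fibres of the induced map on sets of points; this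
row bounds the geometric fibres, the form the argument uses — the two bounds agree at points with
separably closed residue field, and the geometric bound implies the bound on points. Separatedness
of X is taken relative to S together with S separated, which gives the absolute notion.) -/
theorem result {S : Scheme.{u}} [S.IsSeparated] (X : AlgSp.Space S)
    (hqc : AlgSp.IsQuasiCompactSp X.obj) (hsep : AlgSp.IsSeparatedSp X.obj)
    {U : Over S} (hU : IsAffine U.left) (f : (AlgSp.yon S).obj U ⟶ X.obj)
    (hf : AlgSp.RepWith @Etale f) (hfs : AlgSp.RepWith @Surjective f) (d : ℕ)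
    (hd : ∀ x : AlgSp.FieldPt X.obj, x.IsGeometric →
      ENat.card ((AlgSp.FieldPt.liftsTo x).obj (AlgSp.EtOver.mk f hf)) ≤ d)
    (M : AlgSp.ModEt X.obj) [M.IsQuasicoherent] (q : ℕ) (hq : d ≤ q) :
    Subsingleton (AlgSp.HModEt X.obj M q) := by
  refine K642.FibDim.main (U := AlgSp.EtOver.mk f hf) X.property hsep hU hfs d M inferInstance ?_ q hq
  intro E c hc
  have := isEmpty_of_dist (U := AlgSp.EtOver.mk f hf) d hd E c hc
  exact ⟨fun x y => K642.SymPush.sec_ext fun p => (this.false p).elim⟩

end Groth.Agent.S10731
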