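import Groth.Statements.S10740
-- import your own Groth.Agent.* helpers here
import Groth.Agent.AlgSp.K643.DimVan
import Groth.Agent.AlgSp.K643.QCAcyc
import Groth.Agent.S10419

set_option autoImplicit false
universe u
open CategoryTheory CategoryTheory.Limits AlgebraicGeometry Opposite
open AlgSp

set_option backward.isDefEq.respectTransparency false

namespace Groth.Agent.S10740

open K643.SqSp K643.ObjCoh K643.PushAff K643.CechX in
/-- the induction along the filtration -/
theorem aux {S : Scheme.{u}} [QuasiSeparatedSpace ↥S] (X : AlgSp.Space S)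
    (hqc : AlgSp.IsQuasiCompactSp X.obj) (hqs : AlgSp.IsQuasiSeparatedSp X.obj) (d : ℕ)
    (hdim : AlgSp.dim X.obj ≤ (d : WithBot ℕ∞)) (F : AlgSp.AbEt X.obj) (hF : Acyc (AffB X.obj) F)
    (q : ℕ) (hq : d < q) : Subsingleton (AlgSp.HEt X.obj F q) := by
  obtain ⟨n, Uo, j, k, T, i, hj, hkj, hj1, hemp, hred, hV⟩ := Groth.Agent.S10419.result X hqc hqs
  have hjm : ∀ p, Mono (j p).hom := fun p => K598.RepKit.mono_of_repWith_isOpenImmersion (hj p)
  have hje : ∀ p, RepWith @Etale (j p).hom := fun p =>
    K598.RepKit.repWith_mono (fun _ _ f (hf : IsOpenImmersion f) => (inferInstance : Etale f)) (hj p)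
  have hkj' : ∀ p, (k p).hom ≫ (j p).hom = (j (p + 1)).hom := fun p => congrArg (fun t => t.hom) (hkj p)
  have hk : ∀ p, RepWith @IsOpenImmersion (k p).hom := fun p => by
    have := hjm p
    exact K594.StrataSp.repWith_of_comp_mono @IsOpenImmersion (k p).hom (j p).hom (by rw [hkj']; exact hj _)
  have key : ∀ (m p : ℕ), p + m = n + 1 → 1 ≤ p → ∀ q, d < q → ∀ x : HG (j p).hom F q, x = 0 := by
    intro m
    induction m with
    | zero =>
      intro p hp _ q _ x
      obtain rfl : p = n + 1 := by omega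
      exact HG_eq_zero_of_isEmpty _ F q x
    | succ m ih =>
      intro p hp hp1 q hq x
      obtain ⟨V, f, hVs, hVc, hf, hfs, hiso⟩ := hV p hp1
      obtain ⟨V', f', hVs', hVc', hf', hfs', -⟩ := hV (p + 1) (by omega)
      obtain ⟨A, a, fa, hsq⟩ := exists_sq (hjm p) (hje p) (hk p) hf hfs ⟨(T p).obj, (i p).hom, hred p, hiso⟩
      have he' : RepWith @Etale (f' ≫ (k p).hom ≫ (j p).hom) := by
        rw [hkj']
        exact (repWith_isMultiplicative (S := S) @Etale).comp_mem _ _ hf' (hje _)
      have hq1 : EtOver.mk (f ≫ (j p).hom) ((repWith_isMultiplicative (S := S) @Etale).comp_mem _ _ hf (hje p)) ∈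
          K643.Qcqs.QCQS X.obj := ⟨hVc, inferInstanceAs (QuasiSeparatedSpace ↥V.left)⟩
      have hq2 : EtOver.mk (f' ≫ (k p).hom ≫ (j p).hom) he' ∈ K643.Qcqs.QCQS X.obj :=
        ⟨hVc', inferInstanceAs (QuasiSeparatedSpace ↥V'.left)⟩
      refine hsq.step_dim hqs hq1 _ hq2 f' rfl hf' hfs' F hF d hdim ?_ q hq x
      rw [hkj']
      exact ih (p + 1) (by omega) (by omega)
  have hiso : IsIso (j 1).hom := inferInstanceAs (IsIso ((ObjectProperty.ι _).map (j 1)))
  exact subsingleton_HEt_of_isIso (j 1).hom F q (key n 1 (by omega) le_rfl q hq)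

/-- Let X be a quasi-compact algebraic space, quasi-separated over a quasi-separated base scheme S, with
dim X ≤ d for a natural number d, and let M be a quasi-coherent O_X-module on the small etale site
of X. Then H^q(X, M) = 0 for every q > d. (The companion statements on surjectivity of restriction
to a quasi-compact open subspace in degree d and on cohomology with supports are not included.) -/
theorem result {S : Scheme.{u}} [QuasiSeparatedSpace ↥S] (X : AlgSp.Space S)
    (hqc : AlgSp.IsQuasiCompactSp X.obj) (hqs : AlgSp.IsQuasiSeparatedSp X.obj) (d : ℕ)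
    (hdim : AlgSp.dim X.obj ≤ (d : WithBot ℕ∞)) (M : AlgSp.ModEt X.obj) [M.IsQuasicoherent]
    (q : ℕ) (hq : d < q) :
    Subsingleton (AlgSp.HModEt X.obj M q) := 
  aux X hqc hqs d hdim _ (K643.QCAcyc.acyc_of_isQuasicoherent M) q hq

end Groth.Agent.S10740
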