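import Groth.Statements.S10748
import Groth.Agent.AlgSp.K606.QCMain
import Groth.Agent.AlgSp.K644.CohNoeth

set_option autoImplicit false
universe u
open CategoryTheory CategoryTheory.Limits AlgebraicGeometry Opposite
open AlgSp

namespace Groth.Agent.S10748

open K606.Union

section gen

variable {S : Scheme.{u}} {X : Sp S} (hN : IsLocNoethSp X) (M : ModEt X)

/-- The submodules of finite presentation. -/
abbrev FP : ObjectProperty (MonoOver M) :=
  fun N : MonoOver M => SheafOfModules.IsFinitePresentation N.obj.left

/-- Comparison of the two categories of submodules. -/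
noncomputable def toFP : (FT M).FullSubcategory ⥤ (FP M).FullSubcategory :=
  (FP M).lift ((FT M).ι ⋙ Subobject.representative) (fun N => by
    have h1 : (Subobject.underlying.obj N.obj).IsQuasicoherent := N.property.1
    have h2 : (Subobject.underlying.obj N.obj).IsFiniteType := N.property.2
    exact K644.CohNoeth.isFinitePresentation hN (Subobject.underlying.obj N.obj))

instance : (toFP hN M).IsEquivalence where
  faithful := ⟨fun {a b} f g _ => ObjectProperty.hom_ext _ (Subsingleton.elim _ _)⟩
  full := ⟨fun {a b} f => by
    obtain ⟨g, hg⟩ := (Subobject.representative (X := M)).map_surjective f.hom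
    exact ⟨ObjectProperty.homMk g, ObjectProperty.hom_ext _ (Subsingleton.elim _ _)⟩⟩
  essSurj := ⟨fun N => by
    let N' : Subobject M := (toThinSkeleton _).obj N.obj
    let e : Subobject.representative.obj N' ≅ N.obj := Subobject.representativeIso N.obj
    let e' : Subobject.underlying.obj N' ≅ N.obj.obj.left :=
      (MonoOver.forget _ ⋙ Over.forget _).mapIso e
    have h : (show ModEt X from N.obj.obj.left).IsFinitePresentation := N.property
    have h1 : (Subobject.underlying.obj N').IsFinitePresentation :=
      K644.CohNoeth.isFinitePresentation_of_iso e'.symm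
    have hFT : FT M N' := ⟨inferInstance, inferInstance⟩
    exact ⟨⟨N', hFT⟩, ⟨ObjectProperty.isoMk _ e⟩⟩⟩

end gen

/-- Let X be a Noetherian algebraic space (quasi-compact, quasi-separated, locally Noetherian) over a
quasi-separated scheme S and M a quasi-coherent O_X-module on the small etale site of X. Then M is
the union, as a filtered colimit, of those of its submodules that are coherent: the full subcategory
of monomorphisms N ⟶ M with N of finite presentation is filtered, and the cocone on their sources
with vertex M given by the inclusions is a colimit. -/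
theorem result {S : Scheme.{u}} [QuasiSeparatedSpace ↥S]
    (X : AlgSp.Space S) (hqc : AlgSp.IsQuasiCompactSp X.obj) (hqs : AlgSp.IsQuasiSeparatedSp X.obj)
    (hN : AlgSp.IsLocNoethSp X.obj) (M : AlgSp.ModEt X.obj) [M.IsQuasicoherent] :
    IsFiltered (ObjectProperty.FullSubcategory
        (fun N : MonoOver M => SheafOfModules.IsFinitePresentation N.obj.left)) ∧
      Nonempty (IsColimit ((Over.forgetCocone M).whisker
        (ObjectProperty.ι (fun N : MonoOver M => SheafOfModules.IsFinitePresentation N.obj.left) ⋙
          MonoOver.forget M))) := by
  have hE : (toFP hN M).IsEquivalence := inferInstance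
  refine ⟨IsFiltered.of_equivalence (toFP hN M).asEquivalence, ?_⟩
  let t := (Over.forgetCocone M).whisker
        (ObjectProperty.ι (fun N : MonoOver M => SheafOfModules.IsFinitePresentation N.obj.left) ⋙
          MonoOver.forget M)
  let ι : (FT M).ι ⋙ Subobject.underlying ⟶ (Functor.const (FT M).FullSubcategory).obj M :=
    (t.whisker (toFP hN M)).ι
  obtain ⟨h⟩ := K606.QCMain.isColimit_FT hqc hqs ι (fun N => rfl)
  exact ⟨Functor.Final.isColimitWhiskerEquiv (toFP hN M) t h⟩

end Groth.Agent.S10748
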