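import Groth.Statements.S10749
import Groth.Agent.AlgSp.K644.FpGen
import Groth.Agent.AlgSp.K644.CohNoeth
import Groth.Agent.AlgSp.K612.ModPush
import Groth.Agent.AlgSp.K601.RelAff

set_option autoImplicit false
universe u
open CategoryTheory CategoryTheory.Limits AlgebraicGeometry Opposite
open AlgSp

namespace Groth.Agent.S10749

open K644.Exact K644.EtSite K606.Union K606.UnionMod

/-- Sections of `M` over the inverse image of an affine chart come from inverse images of coherent
submodules of `f_* M`. -/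
theorem exists_hit {S : Scheme.{u}} [QuasiSeparatedSpace ↥S]
    {X Y : AlgSp.Space S} {f : X.obj ⟶ Y.obj} (hf : Representable f) (haff : AlgSp.IsAffineMor f)
    (hqc : AlgSp.IsQuasiCompactSp Y.obj)
    (hqs : AlgSp.IsQuasiSeparatedSp Y.obj) (hN : AlgSp.IsLocNoethSp Y.obj) (M : AlgSp.ModEt X.obj)
    [M.IsQuasicoherent] (E : EtOver Y.obj) (hE : IsAffine (sch E))
    (s : sec M ((EtOver.bc hf).obj E)) :
    ∃ (P : ModEt X.obj) (_ : P.IsFinitePresentation) (a : P ⟶ M)
      (t : sec P ((EtOver.bc hf).obj E)),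
        smap (EtOver.toScheme X.obj) a ((EtOver.bc hf).obj E) t = s := by
  have hq : ((pushModEt hf).obj M).IsQuasicoherent :=
    K612.ModPush.isQuasicoherent_pushModEt (K612.ModPush.isAff_of_isAffineMor hf haff) M
  obtain ⟨N, hN', x, hx⟩ := K606.QCMain.exists_FT_mem (F := (pushModEt hf).obj M) hqc hqs E hE s
  let N₀ : ModEt Y.obj := Subobject.underlying.obj N
  have h1 : N₀.IsQuasicoherent := hN'.1
  have h2 : N₀.IsFiniteType := hN'.2
  have h3 : N₀.IsFinitePresentation := K644.CohNoeth.isFinitePresentation hN N₀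
  let adj := pullPushAdjModEt hf
  have hP : ((pullModEt hf).obj N₀).IsFinitePresentation :=
    K612.PullQc.isFinitePresentation_pullModEt hf (K612.PullQc.hasAtlas_of_isAlgSpace Y.2) N₀
  let a : (pullModEt hf).obj N₀ ⟶ M := (adj.homEquiv N₀ M).symm N.arrow
  refine ⟨(pullModEt hf).obj N₀, hP, a,
    smap (EtOver.toScheme Y.obj) (adj.unit.app N₀) E x, ?_⟩
  have h4 : adj.unit.app N₀ ≫ (pushModEt hf).map a = N.arrow :=
    (adj.homEquiv_unit (f := a)).symm.trans ((adj.homEquiv N₀ M).apply_symm_apply N.arrow)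
  have h5 : smap (EtOver.toScheme Y.obj) (adj.unit.app N₀ ≫ (pushModEt hf).map a) E x =
      smap (EtOver.toScheme Y.obj) N.arrow E x := by rw [h4]
  exact h5.trans hx

/-- Let f : X ⟶ Y be an affine morphism of algebraic spaces over a quasi-separated scheme S with Y
Noetherian (quasi-compact, quasi-separated, locally Noetherian). Then every quasi-coherent
O_X-module M on the small etale site of X is a filtered colimit of O_X-modules of finite
presentation. -/
theorem result {S : Scheme.{u}} [QuasiSeparatedSpace ↥S]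
    {X Y : AlgSp.Space S} (f : X ⟶ Y) (haff : AlgSp.IsAffineMor f.hom) (hqc : AlgSp.IsQuasiCompactSp Y.obj)
    (hqs : AlgSp.IsQuasiSeparatedSp Y.obj) (hN : AlgSp.IsLocNoethSp Y.obj) (M : AlgSp.ModEt X.obj)
    [M.IsQuasicoherent] :
    ∃ (J : Type (u + 1)) (_ : SmallCategory J) (_ : IsFiltered J) (D : J ⥤ AlgSp.ModEt X.obj)
      (ι : D ⟶ (Functor.const J).obj M),
      (∀ j, (D.obj j).IsFinitePresentation) ∧ Nonempty (IsColimit (Cocone.mk M ι)) := by
  have hf : RepWith @IsAffineHom f.hom := K597.Affine.repWith_of_isAffineMor haff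
  obtain ⟨U, p, hU, hp, hs⟩ := K609.QC.exists_affine_chart hqc
  let E : EtOver Y.obj := EtOver.mk p hp
  have hE : IsAffine (sch E) := hU
  have hV : IsAffine (sch ((EtOver.bc hf.1).obj E)) := K643.PushEt.isAffine_bcObj hf.1 haff E hE
  have hs' : RepWith @Surjective ((EtOver.bc hf.1).obj E).obj.hom :=
    MorphismProperty.of_isPullback (P := RepWith @Surjective) (hf.1.isPullback p).flip hs
  exact K644.FpGen.exists_filtered (K601.RelAff.isQuasiCompactSp_of_affine haff hqc)
    (K601.RelAff.isQuasiSeparatedSp_of_affine haff hqs) ((EtOver.bc hf.1).obj E) hV hs'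
    fun s => exists_hit hf.1 haff hqc hqs hN M E hE s

end Groth.Agent.S10749
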