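import Groth.Statements.S10755
import Groth.Agent.AlgSp.K644.Supp
import Groth.Agent.AlgSp.K598.Red

set_option autoImplicit false
universe u
open CategoryTheory CategoryTheory.Limits AlgebraicGeometry Opposite
open AlgSp

namespace Groth.Agent.S10755

open K611 K644.Site K644.Psh K644.Exact K644.EtSite K644.QCoh K644.Chart K644.PtCover
  K644.Stalk K644.StalkIso K644.Supp Groth.Agent.Etbase.FFExact

/-- If an ideal kills a module, its extension kills the base change. -/
theorem ann_baseChange {A B : Type*} [CommRing A] [CommRing B] {φ : A →+* B}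
    {M M' : Type*} [AddCommGroup M] [AddCommGroup M'] [Module A M]
    [Module B M'] {ψ : M →+ M'} (h : IsBC φ ψ) (J : Ideal A) (hJ : ∀ a ∈ J, ∀ m : M, a • m = 0)
    (b : B) (hb : b ∈ J.map φ) (y : M') : b • y = 0 := by
  have h1 := K644.Pres.IsBC.span_eq_top h (id : M → M) (by rw [Set.range_id]; exact Submodule.span_univ)
  have h2 : y ∈ Submodule.span B (Set.range fun i : M => ψ (id i)) := by rw [h1]; trivial
  induction h2 using Submodule.span_induction with
  | mem y hy =>
    obtain ⟨m, rfl⟩ := hy
    exact K606.AnnSub.mem_ann_map (φ := φ) (ψ := ψ) (map_zero _) (fun a m => h.choose a m) J m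
      (fun a ha => hJ a ha m) b hb
  | zero => exact smul_zero _
  | add y z _ _ h1 h2 => rw [smul_add, h1, h2, add_zero]
  | smul c y _ h1 => rw [smul_comm, h1, smul_zero]

/-- Let X be a Noetherian algebraic space over S (quasi-compact, quasi-separated, locally Noetherian), M
a coherent O_X-module on the small etale site of X (of finite presentation, X being locally
Noetherian), I a quasi-coherent sheaf of ideals on X and i : Z ⟶ X the closed subspace cut out by I.
Then I^n M = 0 for some n ≥ 0 (on every affine object U of the site the ideal I^n(U) annihilates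
every section of M over U) if and only if the support of M is contained in |Z| set-theoretically
(the stalk of M at every geometric point of X whose image in |X| is not in |Z| vanishes). -/
theorem result {S : Scheme.{u}} (X : AlgSp.Space S)
    (hqc : AlgSp.IsQuasiCompactSp X.obj) (hqs : AlgSp.IsQuasiSeparatedSp X.obj) (hN : AlgSp.IsLocNoethSp X.obj)
    (M : AlgSp.ModEt X.obj) [M.IsFinitePresentation] (I : AlgSp.IdealEt X.obj) (hI : I.IsQCoh)
    {Z : AlgSp.Space S} (i : Z ⟶ X) (hZ : AlgSp.IsCutOutBy I i.hom) :
    (∃ n : ℕ, ∀ (E : AlgSp.EtOver X.obj) (hE : IsAffine E.obj.left.left) (s : AlgSp.sectModEt M E),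
        (I ^ n).ideal E hE ≤ AlgSp.annSect s) ↔
      ∀ x : AlgSp.FieldPt X.obj, x.IsGeometric → AlgSp.Points.mk x ∉ Set.range (AlgSp.Points.map i.hom) →
        IsZero (AlgSp.stalkEt x ((AlgSp.toAbEt X.obj).obj M)) := by
  have hcl : IsClosed (Set.range (Points.map i.hom)) := by
    obtain ⟨hi, -⟩ := hZ
    exact K598.Red.isClosed_range hi
  constructor
  · rintro ⟨n, hn⟩ x hx hxZ
    obtain ⟨W, w, hW, hd⟩ := exists_nbhd_disjoint X.2 x hx _ hcl hxZ
    refine isZero_of_nbhd M X.2 x hx hW w fun s => ?_
    have h1 := zeroLocus_cut hZ W hW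
    have h2 : I.ideal W hW = ⊤ := by
      have h3 : (⊤ : Ideal Γ(W.obj.left.left, ⊤)) ≤ (I.ideal W hW).radical := by
        have := hW
        rw [← K606.SuppSub.zeroLocus_subset_iff]
        intro v hv
        rw [h1] at hv
        exact absurd hv (hd v)
      exact Ideal.radical_eq_top.1 (top_le_iff.1 h3)
    have h3 := hn W hW s
    rw [IdealEt.pow_ideal, h2, Ideal.top_pow] at h3
    have h4 := (mem_annSect_iff s 1).1 (h3 trivial)
    rw [map_one, one_smul] at h4
    exact h4
  · intro h
    obtain ⟨U, p, hU, hp, hs⟩ := K609.QC.exists_affine_chart hqc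
    let E₀ : EtOver X.obj := EtOver.mk p hp
    have hE₀ : IsAffine E₀.obj.left.left := hU
    have hNN : IsNoetherianRing Γ(E₀.obj.left.left, ⊤) := K648.Noeth.isNoetherianRing_of_chart hN E₀
    have hfin : Module.Finite Γ((EtOver.toScheme X.obj).obj E₀, ⊤) (sec M E₀) :=
      K644.ChartFin.finite_sec M hE₀
    obtain ⟨t, ht⟩ := hfin.fg_top
    have key : ∀ s : sectModEt M E₀, ∃ n : ℕ, I.ideal E₀ hE₀ ^ n ≤ annSect s := by
      intro s
      have h1 : I.ideal E₀ hE₀ ≤ (annSect s).radical := by
        rw [← K606.SuppSub.zeroLocus_subset_iff, zeroLocus_cut hZ E₀ hE₀]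
        intro v hv
        by_contra hcon
        refine notMem_of_stalk M X.2 hE₀ v (h _ (isGeometric_geomPt E₀ v) ?_) s hv
        rw [K613.Supp.mk_geomPt]
        exact hcon
      exact Ideal.exists_pow_le_of_le_radical_of_fg h1 (IsNoetherian.noetherian _)
    choose n hn using key
    refine ⟨t.sup n, fun E hE s a ha => ?_⟩
    have h0 : ∀ a ∈ I.ideal E₀ hE₀ ^ (t.sup n), ∀ m : sec M E₀,
        (show Γ((EtOver.toScheme X.obj).obj E₀, ⊤) from a) • m = 0 := by
      intro a ha m
      have hm : m ∈ Submodule.span Γ((EtOver.toScheme X.obj).obj E₀, ⊤) (t : Set (sec M E₀)) := by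
        rw [ht]; trivial
      induction hm using Submodule.span_induction with
      | mem m hm =>
        exact hn m (Ideal.pow_le_pow_right (Finset.le_sup (f := n) hm) ha)
      | zero => exact smul_zero _
      | add y z _ _ h1 h2 => rw [smul_add, h1, h2, add_zero]
      | smul c y _ h1 => rw [smul_comm, h1, smul_zero]
    rw [mem_annSect_iff]
    refine ext_of_mem (M := M) (U := E) (mem_of_range (E := E) (W := E₀) ?_
      (Sieve.generate (fun V g => res M g ((upΓ E a) • s) = 0)) ?_) _ (0 : sec M E) ?_
    · intro x _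
      obtain ⟨y, hy⟩ := K609.Points.surjective_ofPt_of_repWith_surjective hs x
      exact ⟨y, hy⟩
    · intro V g b hV
      refine Sieve.le_generate _ _ g ?_
      change res M g ((show Γ((EtOver.toScheme X.obj).obj E, ⊤) from a) • (show sec M E from s)) = 0
      rw [res_smul]
      refine ann_baseChange (K644.Chart.isQC M b hV hE₀) _ h0 _ ?_ _
      have h5 : (mor g).appTop.hom a ∈ I.ideal V hV ^ (t.sup n) := by
        have h6 := Ideal.mem_map_of_mem (mor g).appTop.hom ha
        rw [IdealEt.pow_ideal, Ideal.map_pow] at h6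
        exact Ideal.pow_right_mono (I.map_le g hE hV) _ h6
      have h6 : (mor g).appTop.hom a ∈ (I.ideal E₀ hE₀ ^ (t.sup n)).map (mor b).appTop.hom := by
        rw [Ideal.map_pow]
        exact Ideal.pow_right_mono (hI b hE₀ hV) _ h5
      exact h6
    · rintro V f ⟨Y, a', b, hY, rfl⟩
      rw [res_comp, hY, map_zero, map_zero]

end Groth.Agent.S10755
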