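import Groth.Statements.S10758
import Groth.Agent.AlgSp.K644.StalkIso

set_option autoImplicit false
universe u
open CategoryTheory CategoryTheory.Limits AlgebraicGeometry Opposite
open AlgSp

namespace Groth.Agent.S10758

/-- Let X be a locally Noetherian algebraic space over S, φ : G ⟶ F a morphism of coherent O_X-modules
on the small etale site of X (of finite presentation, X being locally Noetherian) and x̄ a geometric
point of X. If the map φ_x̄ on stalks at x̄ (of the underlying abelian sheaves) is bijective, then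
there is an open subspace X' ⊂ X containing the image of x̄ such that φ|_{X'} is an isomorphism: φ
is bijective on sections over every scheme etale over X whose image in |X| lies in |X'|. -/
theorem result {S : Scheme.{u}} (X : AlgSp.Space S)
    (hX : AlgSp.IsLocNoethSp X.obj) {G F : AlgSp.ModEt X.obj} [G.IsFinitePresentation] [F.IsFinitePresentation]
    (φ : G ⟶ F) (xbar : AlgSp.FieldPt X.obj) (hx : xbar.IsGeometric)
    (hbij : IsIso ((AlgSp.stalkEtFunctor AddCommGrpCat.{u + 1} xbar).map ((AlgSp.toAbEt X.obj).map φ))) :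
    ∃ (X' : AlgSp.Space S) (j : X' ⟶ X), AlgSp.RepWith @IsOpenImmersion j.hom ∧
      AlgSp.Points.mk xbar ∈ Set.range (AlgSp.Points.map j.hom) ∧
        ∀ E : AlgSp.EtOver X.obj, Set.range (AlgSp.Points.ofPt E.obj.hom) ⊆ Set.range (AlgSp.Points.map j.hom) →
          IsIso (φ.val.app (op E)) := by
  have hinj := (AddCommGrpCat.mono_iff_injective _).1 (inferInstance : Mono
    ((AlgSp.stalkEtFunctor AddCommGrpCat.{u + 1} xbar).map ((AlgSp.toAbEt X.obj).map φ)))
  have hsurj := (AddCommGrpCat.epi_iff_surjective _).1 (inferInstance : Epi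
    ((AlgSp.stalkEtFunctor AddCommGrpCat.{u + 1} xbar).map ((AlgSp.toAbEt X.obj).map φ)))
  obtain ⟨W₁, w₁, hW₁, h₁⟩ := K644.StalkIso.exists_nbhd_injective X hX φ xbar hx hinj
  obtain ⟨W₂, w₂, hW₂, h₂⟩ := K644.StalkIso.exists_nbhd_surjective X φ xbar hx hsurj
  obtain ⟨N, f, g, -⟩ := K611.exists_nbhd_prod xbar ⟨W₁, w₁⟩ ⟨W₂, w₂⟩
  obtain ⟨W, a, w, hW, hw⟩ := K644.Stalk.exists_affine_nbhd xbar hx N.2
  have h : ∀ (V : AlgSp.EtOver X.obj) (_ : V ⟶ W), IsAffine (K644.EtSite.sch V) →
      Function.Bijective (K644.Exact.smap (AlgSp.EtOver.toScheme X.obj) φ V) := fun V k hV =>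
    ⟨h₁ V (k ≫ a ≫ f.1) hV, h₂ V (k ≫ a ≫ g.1) hV⟩
  obtain ⟨X', j, hj, hr⟩ := K644.Stalk.exists_open_of_object X W
  refine ⟨X', j, hj, ?_, fun E hE => ?_⟩
  · rw [hr]
    exact K644.Stalk.mk_mem_range xbar w
  · rw [hr] at hE
    rw [ConcreteCategory.isIso_iff_bijective]
    exact ⟨K644.Stalk.injective_of_range φ hE fun V k hV => (h V k hV).1,
      K644.Stalk.surjective_of_range φ hE h⟩

end Groth.Agent.S10758
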