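import Groth.Statements.S10759
import Groth.Agent.AlgSp.K644.Supp

set_option autoImplicit false
universe u
open CategoryTheory CategoryTheory.Limits AlgebraicGeometry Opposite
open AlgSp

namespace Groth.Agent.S10759

open K611 K644.Site K644.Psh K644.Exact K644.EtSite K644.QCoh K644.Chart K644.PtCover
  K644.Stalk K644.StalkIso K644.Supp Groth.Agent.Etbase.FFExact

/-- Quasi-coherent modules with finite sections over a locally Noetherian space. -/
theorem isFinitePresentation_of_finite {S : Scheme.{u}} {X : Sp S} (hN : IsLocNoethSp X)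
    (M : ModEt X) [M.IsQuasicoherent]
    (h : ∀ (E : EtOver X), IsAffine (sch E) →
      Module.Finite Γ((EtOver.toScheme X).obj E, ⊤) (sec M E)) : M.IsFinitePresentation := by
  rw [K644.ChartFin.isFinitePresentation_iff]
  refine ⟨(K644.Chart.isQuasicoherent_iff_isCart M).1 inferInstance, fun E hE => ?_⟩
  have := h E hE
  have : IsNoetherianRing Γ((EtOver.toScheme X).obj E, ⊤) :=
    K648.Noeth.isNoetherianRing_of_chart hN E
  have h2 : Module.FinitePresentation Γ((EtOver.toScheme X).obj E, ⊤) (sec M E) :=
    Module.finitePresentation_of_finite _ _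
  exact h2

/-- Let X be a Noetherian algebraic space over S (quasi-compact, quasi-separated, locally Noetherian)
and F a coherent O_X-module on the small etale site of X (of finite presentation, X being locally
Noetherian) with Supp(F) = Z ∪ Z' for closed subsets Z, Z' of |X| (the support being the set of
points over which the stalk of F at a geometric point is nonzero). Then there is a short exact
sequence 0 ⟶ G' ⟶ F ⟶ G ⟶ 0 of coherent modules with Supp(G') ⊂ Z' and Supp(G) ⊂ Z: a monomorphism
G' ⟶ F with G' and its cokernel coherent, the stalks of G' vanishing at geometric points outside Z'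
and those of the cokernel vanishing at geometric points outside Z. -/
theorem result {S : Scheme.{u}} (X : AlgSp.Space S)
    (hqc : AlgSp.IsQuasiCompactSp X.obj) (hqs : AlgSp.IsQuasiSeparatedSp X.obj) (hN : AlgSp.IsLocNoethSp X.obj)
    (F : AlgSp.ModEt X.obj) [F.IsFinitePresentation] (Z Z' : Set (AlgSp.Points X.obj)) (hZ : IsClosed Z)
    (hZ' : IsClosed Z')
    (hsupp : ∀ x : AlgSp.FieldPt X.obj, x.IsGeometric →
      (AlgSp.Points.mk x ∈ Z ∪ Z' ↔ ¬ IsZero (AlgSp.stalkEt x ((AlgSp.toAbEt X.obj).obj F)))) :
    ∃ (G' : AlgSp.ModEt X.obj) (a : G' ⟶ F), Mono a ∧ G'.IsFinitePresentation ∧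
      (cokernel a).IsFinitePresentation ∧
        (∀ x : AlgSp.FieldPt X.obj, x.IsGeometric → AlgSp.Points.mk x ∉ Z' →
          IsZero (AlgSp.stalkEt x ((AlgSp.toAbEt X.obj).obj G'))) ∧
        (∀ x : AlgSp.FieldPt X.obj, x.IsGeometric → AlgSp.Points.mk x ∉ Z →
          IsZero (AlgSp.stalkEt x ((AlgSp.toAbEt X.obj).obj (cokernel a)))) := by
  obtain ⟨G', a, ha, hG, h1, h2⟩ := K606.SuppSub.exists_suppSub (K606.QcSub.bcaff F) Z' (by
    intro W hW
    have hNW : IsLocallyNoetherian W.obj.left.left := K648.Noeth.isLocallyNoetherian_of_chart hN W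
    have : IsNoetherian W.obj.left.left := { }
    obtain ⟨I, hI, hz⟩ := K606.SuppSub.exists_fg (Y := W.obj.left.left)
      (O := Points.ofPt W.obj.hom ⁻¹' Z'ᶜ)
      (hZ'.isOpen_compl.preimage (Points.continuous_ofPt _))
      (TopologicalSpace.NoetherianSpace.isCompact _)
    refine ⟨I, hI, hz.trans ?_⟩
    ext w
    simp)
  have hGq : G'.IsQuasicoherent := (K606.QcSub.isQuasicoherent_iff G').2 hG
  have hGe := fun U => exact_kernel (T := EtOver.toScheme X.obj) (kernel.ι (cokernel.π a))
    (cokernel.π a) (kernel.condition _) (kernelIsKernel _) U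
  have hainj : ∀ E, Function.Injective (smap (EtOver.toScheme X.obj) a E) := by
    intro E
    have : Mono ((SheafOfModules.evaluation (OEtRing X.obj) (op E)).map a) := inferInstance
    exact (ModuleCat.mono_iff_injective _).1 this
  let C := cokernel a
  let π : F ⟶ C := cokernel.π a
  have hC : IsQC (EtOver.toScheme X.obj) C.val :=
    isQC_cokernel (K644.Chart.isQC G') (K644.Chart.isQC F) a π (cokernel.condition a) (cokernelIsCokernel a)
  have hCe := fun U hU => exact_cokernel (T := EtOver.toScheme X.obj) (K644.Chart.isQC G')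
    (K644.Chart.isQC F) a π (cokernel.condition a) (cokernelIsCokernel a) U hU
  have hCq : C.IsQuasicoherent := isQuasicoherent_of_isQC hC
  refine ⟨G', a, ha, ?_, ?_, ?_, ?_⟩
  · refine isFinitePresentation_of_finite hN G' fun E hE => ?_
    have h3 : Module.Finite Γ((EtOver.toScheme X.obj).obj E, ⊤) (sec F E) :=
      K644.ChartFin.finite_sec F hE
    have hE' : IsAffine E.obj.left.left := hE
    have h4 : IsNoetherianRing Γ((EtOver.toScheme X.obj).obj E, ⊤) :=
      K648.Noeth.isNoetherianRing_of_chart hN E
    have h5 : _root_.IsNoetherian Γ((EtOver.toScheme X.obj).obj E, ⊤) (sec F E) :=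
      isNoetherian_of_isNoetherianRing_of_finite _ _
    exact Module.Finite.of_injective (smap (EtOver.toScheme X.obj) a E) (hainj E)
  · refine isFinitePresentation_of_finite hN C fun E hE => ?_
    have h3 : Module.Finite Γ((EtOver.toScheme X.obj).obj E, ⊤) (sec F E) :=
      K644.ChartFin.finite_sec F hE
    exact Module.Finite.of_surjective (smap (EtOver.toScheme X.obj) π E) (hCe E hE).2
  · intro x hx hxZ
    obtain ⟨W, w, hW, hd⟩ := exists_nbhd_disjoint X.2 x hx Z' hZ' hxZ
    refine isZero_of_nbhd G' X.2 x hx hW w fun s => hainj W ?_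
    have h3 := h2 W hW ⊤ ⟨{1}, by simp⟩ (by
      ext v
      simp only [Set.mem_setOf_eq]
      constructor
      · intro hv
        rw [Scheme.mem_zeroLocus_iff] at hv
        refine absurd ?_ (hv 1 trivial)
        rw [Scheme.basicOpen_of_isUnit _ isUnit_one]
        trivial
      · intro hv
        exact absurd hv (hd v))
    have h4 : (a.val.app (op W)).hom s ∈ Set.range (a.val.app (op W)).hom := ⟨s, rfl⟩
    rw [h3] at h4
    obtain ⟨n, hn⟩ := h4
    have h5 := hn 1 (by rw [Ideal.top_pow]; trivial)
    rw [map_one, one_smul] at h5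
    rw [map_zero]
    exact h5
  · intro x hx hxZ
    obtain ⟨W, w, hW, hd⟩ := exists_nbhd_disjoint X.2 x hx Z hZ hxZ
    refine isZero_of_nbhd C X.2 x hx hW w fun s => ?_
    obtain ⟨t, rfl⟩ := (hCe W hW).2 s
    have h3 : t ∈ Set.range (a.val.app (op W)).hom := by
      rw [h1 W hW]
      intro v hv
      by_contra hcon
      have h4 : Points.mk (geomPt W v) ∉ Z ∪ Z' := by
        rw [K613.Supp.mk_geomPt]
        rintro (h | h)
        · exact hd v h
        · exact hcon h
      have h5 : IsZero (stk (geomPt W v) F) := by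
        by_contra h6
        exact h4 ((hsupp _ (isGeometric_geomPt W v)).2 h6)
      exact notMem_of_stalk F X.2 hW v h5 t hv
    obtain ⟨r, rfl⟩ := h3
    exact ((hCe W hW).1 _).2 ⟨r, rfl⟩

end Groth.Agent.S10759
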