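import Groth.Statements.S10772
import Groth.Agent.AlgSp.K294.PcNoeth

set_option autoImplicit false
universe u
open CategoryTheory CategoryTheory.Limits AlgebraicGeometry
attribute [local instance] HasDerivedCategory.standard
open AlgSp

namespace Groth.Agent.S10772

/-- Let X be a Noetherian algebraic space over S (quasi-compact, quasi-separated, locally Noetherian)
and E an object of D(O_X) (modules on the small etale site) with quasi-coherent cohomology sheaves.
For an integer m the following are equivalent: (1) H^i(E) is coherent (here: of finite type, the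
cohomology sheaves being quasi-coherent on a locally Noetherian space) for i ≥ m and H^i(E) = 0 for
all large i; (2) E is m-pseudo-coherent. In particular E is pseudo-coherent exactly when it is
bounded above with coherent cohomology sheaves. -/
theorem result {S : Scheme.{u}} (X : AlgSp.Space S)
    (hXc : AlgSp.IsQuasiCompactSp X.obj) (hXs : AlgSp.IsQuasiSeparatedSp X.obj) (hXn : AlgSp.IsLocNoethSp X.obj)
    (E : AlgSp.DModEt X.obj) (hE : DCoh.IsQCohDMod (AlgSp.OEtRing X.obj) E) (m : ℤ) :
    AlgSp.IsPseudoCoherentEtD m E ↔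
      (∀ i : ℤ, m ≤ i → (DCoh.HDMod (AlgSp.OEtRing X.obj) E i).IsFiniteType) ∧ ∃ b : ℤ, E.IsLE b := by

  obtain ⟨U, p, hU, hp, hs⟩ := K609.QC.exists_affine_chart hXc
  let E₀ : AlgSp.EtOver X.obj := AlgSp.EtOver.mk p hp
  have hE₀ : IsAffine E₀.obj.left.left := hU
  have hcov : (AlgSp.etTop X.obj).CoversTop (fun _ : PUnit.{u + 2} => E₀) :=
    K644.PtCover.coversTop_of_surjective E₀ hs
  rw [K294.PcInt.isPseudoCoherentEtD_iff m E hE]
  have hnoeth : ∀ (V : AlgSp.EtOver X.obj) (_ : IsAffine V.obj.left.left),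
      IsNoetherianRing (K645.TE.B V) := fun V hV => by
    have := K648.Noeth.isNoetherianRing_of_chart hXn V
    exact isNoetherianRing_of_ringEquiv _ (ULift.ringEquiv (R := Γ(V.obj.left.left, ⊤))).symm
  constructor
  · intro h
    constructor
    · intro i hi
      have : (DCoh.HDMod (AlgSp.OEtRing X.obj) E i).IsQuasicoherent := hE i
      rw [K644.ChartFin.isFiniteType_iff]
      intro V hV
      obtain ⟨M, hM, ⟨e⟩⟩ := h V hV
      have := hnoeth V hV
      exact (K294.PcNoeth.finite_iff e i).1 (K226.PCHom.finite_HD hM i hi)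
    · obtain ⟨M, hM, ⟨e⟩⟩ := h E₀ hE₀
      obtain ⟨b, hb⟩ := K226.PCRing.exists_bound hM
      refine ⟨b, (DerivedCategory.isLE_iff _ _).2 fun i hi => ?_⟩
      exact K294.PcNoeth.isZero_of_over hcov fun _ =>
        (K294.PcNoeth.isZero_homology_iff e i).1 ((K226.PCRing.subsingleton_HD_iff M i).1 (hb i hi))
  · rintro ⟨h1, b, hb⟩ V hV
    obtain ⟨M, ⟨e⟩⟩ := K645.TE.exists_TD_iso V _ (K645.Int.qcAt_of_isQCoh hE V)
    have := hnoeth V hV
    refine ⟨M, ?_, ⟨e⟩⟩
    refine K226.PCRing.isPseudoCoherent_of_homology m M b (fun i hi => ?_) (fun i hi => ?_)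
    · rw [K226.PCRing.subsingleton_HD_iff, K294.PcNoeth.isZero_homology_iff e i]
      exact (AlgSp.resModEt V).map_isZero (E.isZero_of_isLE b i hi)
    · have := h1 i hi
      have : (DCoh.HDMod (AlgSp.OEtRing X.obj) E i).IsQuasicoherent := hE i
      have := (K294.PcNoeth.finite_iff e i).2 (K644.ChartFin.finite_sec _ hV)
      exact K226.PCRing.pcm_of_finite (m - i) _

end Groth.Agent.S10772
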