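import Groth.Statements.S10773
import Groth.Agent.AlgSp.K645.Gen
import Groth.Agent.AlgSp.K290.Ind

set_option autoImplicit false
universe u
open CategoryTheory CategoryTheory.Limits AlgebraicGeometry
attribute [local instance] HasDerivedCategory.standard
open AlgSp

namespace Groth.Agent.S10773

open K645.Lam K645.Square K645.Gen K290.DIdem K290.ElemSq K294.GlueOn K294.MapExt K645.Int K645.Zar
  Groth.Agent.PerfB.KoszulOrth

theorem suppP_univ {S : Scheme.{u}} {X : AlgSp.Sp S} (K : AlgSp.DModEt X) :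
    suppP (opn (Set.univ : Set (Points X))) (AlgSp.OEtRing X) K :=
  isIso_iD_top (W := opn (Set.univ : Set (Points X))) (R := AlgSp.OEtRing X)
    (fun _ => ⟨⊤, GrothendieckTopology.top_mem _ _, fun E' _ _ => mem_opn_univ E'⟩) K

open ZeroObject in
/-- A perfect generator over every quasi-compact open, by induction on elementary squares. -/
theorem exists_gen {S : Scheme.{u}} [QuasiSeparatedSpace ↥S] (X : AlgSp.Space S)
    (hXc : AlgSp.IsQuasiCompactSp X.obj) (hXs : AlgSp.IsQuasiSeparatedSp X.obj) :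
    ∃ G, PO (opn (Set.univ : Set (Points X.obj))) G ∧ GenOn (opn (Set.univ : Set (Points X.obj))) G := by
  refine K290.Ind.ind X hXc hXs (fun O => ∃ G, PO (opn O) G ∧ GenOn (opn O) G) ?_ ?_
  · refine ⟨0, (PO (opn (∅ : Set (Points X.obj)))).prop_of_isZero (isZero_zero _), fun L _ _ => ?_⟩
    refine isZero_lD_bot (fun E hE => ?_) L
    have he : IsEmpty ↥(K646.EtSite.sch E) := ⟨fun y => hE y⟩
    exact K646.EtAcyc.bot_mem_of_isEmpty E
  · intro O₁ O₂ V hO₁ hO₁c hO₂ hO₂c hV hVc H h₁
    have hV' : IsAffine V.obj.left.left := hV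
    obtain ⟨l, hl⟩ := K290.Thick.exists_OL (Y := K646.EtSite.sch V) (Points.ofPt V.obj.hom ⁻¹' O₁)
      (hO₁.preimage (Points.continuous_ofPt _)) hVc
    have hov : ovr (opn O₁) V = oo V (K290.Thick.OL l) := by
      rw [K290.Thick.ovr_opn, hl]
    exact exists_gen_step H l hov (K294.TorsVan.torsIff V O₁ l hl) h₁

/-- Take a quasi-compact, quasi-separated algebraic space X over S. Then D_QCoh(O_X) is generated by a
single perfect object: there is a perfect object P of D(O_X) (modules on the small etale site) such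
that for every E with quasi-coherent cohomology sheaves, E = 0 if and only if every morphism P[n] ⟶
E, n ∈ ℤ, vanishes. Quasi-separatedness is relative to S with S quasi-separated. -/
theorem result {S : Scheme.{u}} [QuasiSeparatedSpace ↥S] (X : AlgSp.Space S)
    (hXc : AlgSp.IsQuasiCompactSp X.obj) (hXs : AlgSp.IsQuasiSeparatedSp X.obj) :
    ∃ P : AlgSp.DModEt X.obj, AlgSp.IsPerfectEtD P ∧
      ∀ E : AlgSp.DModEt X.obj, DCoh.IsQCohDMod (AlgSp.OEtRing X.obj) E →
        (IsZero E ↔ ∀ (n : ℤ) (φ : P⟦n⟧ ⟶ E), φ = 0) := by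
  obtain ⟨G, hG, hgen⟩ := exists_gen X hXc hXs
  refine ⟨G, (isPerfectEtD_iff G).2 fun E hE => hG.2 E hE (mem_opn_univ E), fun E hE => ⟨fun h n φ =>
    h.eq_of_tgt _ _, fun h => ?_⟩⟩
  have h1 := suppP_univ E
  exact isZero_of_isIso_iD h1 (hgen E hE h)

end Groth.Agent.S10773
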