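import Groth.Statements.S10774
import Groth.Agent.AlgSp.K290.PerfThick
import Groth.Agent.S10773

set_option autoImplicit false
universe u
open CategoryTheory CategoryTheory.Limits AlgebraicGeometry
attribute [local instance] HasDerivedCategory.standard
open AlgSp

namespace Groth.Agent.S10774

/-- Let X be a quasi-compact and quasi-separated algebraic space over S and K an object of D_QCoh(O_X)
(modules on the small etale site with quasi-coherent cohomology sheaves). Then K is compact in
D_QCoh(O_X) (maps from K into any direct sum of objects of D_QCoh(O_X) that exists in D(O_X) are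
uniquely finite sums of maps into the summands) if and only if K is perfect. Quasi-separatedness is
relative to S with S quasi-separated. -/
theorem result {S : Scheme.{u}} [QuasiSeparatedSpace ↥S] (X : AlgSp.Space S)
    (hXc : AlgSp.IsQuasiCompactSp X.obj) (hXs : AlgSp.IsQuasiSeparatedSp X.obj)
    (K : AlgSp.DModEt X.obj) (hK : DCoh.IsQCohDMod (AlgSp.OEtRing X.obj) K) :
    PerfAux.IsCompactObjRel.{u + 1} (fun L : AlgSp.DModEt X.obj => DCoh.IsQCohDMod (AlgSp.OEtRing X.obj) L) K ↔
      AlgSp.IsPerfectEtD K := by
  obtain ⟨G, hG, hgen⟩ := Groth.Agent.S10773.result X hXc hXs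
  exact K290.PerfThick.isCompact_iff X hXc hXs G hG hgen K hK

end Groth.Agent.S10774
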