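import Groth.Statements.S10775
import Groth.Agent.AlgSp.K290.HomInt

set_option autoImplicit false
universe u
open CategoryTheory CategoryTheory.Limits AlgebraicGeometry
attribute [local instance] HasDerivedCategory.standard
open AlgSp

namespace Groth.Agent.S10775

/-- Let X be a quasi-compact and quasi-separated algebraic space over S and K a perfect object of D(O_X)
(modules on the small etale site). Then there are integers a ≤ b such that Hom(K, L) = 0 for every L
in D_QCoh(O_X) with H^i(L) = 0 for all i ∈ [a, b]. Quasi-separatedness is relative to S with S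
quasi-separated. -/
theorem result {S : Scheme.{u}} [QuasiSeparatedSpace ↥S] (X : AlgSp.Space S)
    (hXc : AlgSp.IsQuasiCompactSp X.obj) (hXs : AlgSp.IsQuasiSeparatedSp X.obj)
    (K : AlgSp.DModEt X.obj) (hK : AlgSp.IsPerfectEtD K) :
    ∃ a b : ℤ, a ≤ b ∧ ∀ L : AlgSp.DModEt X.obj, DCoh.IsQCohDMod (AlgSp.OEtRing X.obj) L →
      (∀ i : ℤ, a ≤ i → i ≤ b → IsZero (DCoh.HDMod (AlgSp.OEtRing X.obj) L i)) →
      ∀ φ : K ⟶ L, φ = 0 := by
  obtain ⟨a, b, h⟩ := K290.HomInt.int_of_isPerfect X hXc hXs K hK
  exact ⟨min a b, max a b, (min_le_left _ _).trans (le_max_left _ _), fun L hL hv φ =>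
    (h.mono (min_le_left _ _) (le_max_right _ _)) L hL hv φ⟩

end Groth.Agent.S10775
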