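import Groth.Statements.S10777
import Groth.Agent.AlgSp.K294.Final
import Groth.Agent.AlgSp.K294.TorsVan
import Groth.Agent.AlgSp.K645.Lift

set_option autoImplicit false
universe u
open CategoryTheory CategoryTheory.Limits AlgebraicGeometry
attribute [local instance] HasDerivedCategory.standard
open AlgSp

namespace Groth.Agent.S10777

open K645.Square K645.TE K646.EtSite K290.Thick K294.MapLift K294.Step K294.Final in
theorem inputs {S : Scheme.{u}} (X : AlgSp.Sp S) : Inputs X := by
  intro O₁ O₂ V hV hO₁ _ _ _ hVc H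
  have hV' : IsAffine (sch V) := hV
  obtain ⟨l, hl⟩ := exists_OL (Y := sch V) _ (hO₁.preimage (Points.continuous_ofPt _)) hVc
  have hT : TorsIff V (ovr (K290.ElemSq.opn O₁) V) (l.map ULift.up) := K294.TorsVan.torsIff V O₁ l hl
  have hoo : ovr (K290.ElemSq.opn O₁) V = K645.Zar.oo V (OL l) := by
    rw [ovr_opn, hl]
  refine ⟨⟨_, hT⟩, ?_, fun G hG => ?_⟩
  · rw [hoo]
    exact K645.PsiUnit.exists_unit l
  · obtain ⟨-, G', -, h1, h2⟩ := K645.Lift.exists_lift_full H l hoo hT hG
    exact ⟨G', h1, h2⟩

/-- Let X be a quasi-compact and quasi-separated algebraic space over S and K an object of D(O_X)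
(modules on the small etale site). Granted that countable direct sums exist in D(O_X) (they do), K
is pseudo-coherent (m-pseudo-coherent for every m) if and only if K is a homotopy colimit of a
sequence of perfect objects K_n whose structure maps K_n ⟶ K induce isomorphisms τ_{≥ -n}K_n ⟶ τ_{≥
-n}K for every n. Quasi-separatedness is relative to S with S quasi-separated. -/
theorem result {S : Scheme.{u}} [QuasiSeparatedSpace ↥S] (X : AlgSp.Space S)
    (hXc : AlgSp.IsQuasiCompactSp X.obj) (hXs : AlgSp.IsQuasiSeparatedSp X.obj)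
    [HasColimitsOfShape (Discrete ℕ) (AlgSp.DModEt X.obj)] (K : AlgSp.DModEt X.obj) :
    AlgSp.IsPseudoCoherentAllEtD K ↔
      ∃ (E : ℕ → AlgSp.DModEt X.obj) (f : ∀ n, E n ⟶ E (n + 1)) (i : ∀ n, E n ⟶ K),
        (∀ n, AlgSp.IsPerfectEtD (E n)) ∧ DerLim.IsHocolim E f K i ∧
        ∀ n : ℕ, IsIso (((DerivedCategory.TStructure.t : CategoryTheory.Triangulated.TStructure (AlgSp.DModEt X.obj)).truncGE (-(n : ℤ))).map (i n)) :=
  K294.Final.hocolim_iff X hXc hXs (inputs X.obj) K

end Groth.Agent.S10777
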