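import Groth.Statements.S10781
import Groth.Agent.AlgSp.K290.BddSp

set_option autoImplicit false
universe u
open CategoryTheory CategoryTheory.Limits AlgebraicGeometry
attribute [local instance] HasDerivedCategory.standard
open AlgSp

namespace Groth.Agent.S10781

/-- Let X be a quasi-compact and quasi-separated algebraic space over S, G a perfect object of D(O_X)
(modules on the small etale site) generating D_QCoh(O_X), and E an object of D_QCoh(O_X). Then E is
bounded below if and only if there is an N such that every morphism G[-i] ⟶ E with i ≤ N is zero.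
(Further equivalent conditions phrased with derived tensor products and derived global sections are
not stated here.) Quasi-separatedness is relative to S with S quasi-separated. -/
theorem result {S : Scheme.{u}} [QuasiSeparatedSpace ↥S] (X : AlgSp.Space S)
    (hXc : AlgSp.IsQuasiCompactSp X.obj) (hXs : AlgSp.IsQuasiSeparatedSp X.obj)
    (G : AlgSp.DModEt X.obj) (hG : AlgSp.IsPerfectEtD G)
    (hgen : ∀ E : AlgSp.DModEt X.obj, DCoh.IsQCohDMod (AlgSp.OEtRing X.obj) E →
      (∀ (n : ℤ) (φ : G⟦n⟧ ⟶ E), φ = 0) → IsZero E)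
    (E : AlgSp.DModEt X.obj) (hE : DCoh.IsQCohDMod (AlgSp.OEtRing X.obj) E) :
    (∃ a : ℤ, E.IsGE a) ↔ ∃ N : ℤ, ∀ i : ℤ, i ≤ N → ∀ φ : G⟦-i⟧ ⟶ E, φ = 0 := by
  have hiff : ∀ i : ℤ, Groth.Agent.Cohder.HomVanish.HomVan G E i ↔ ∀ φ : G⟦-i⟧ ⟶ E, φ = 0 := fun i =>
    Groth.Agent.Cohder.HomVanish.homVan_iff G E i (-i) (by lia)
  constructor
  · rintro ⟨a, ha⟩
    obtain ⟨a', b', h⟩ := K290.HomInt.int_of_isPerfect X hXc hXs G hG
    refine ⟨a - b' - 1, fun i hi φ => ?_⟩
    exact K290.HomBd.shift_hom_eq_zero (Qc := K646.AcycX.Qc X.obj) h hE i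
      (fun j _ hj => DerivedCategory.isZero_of_isGE E a j (by lia)) φ
  · rintro ⟨N, hN⟩
    have h := K290.BddSp.eventually_isZero X hXc hXs G hG Groth.Agent.Cohder.BddAff.shiftInv_atBot hgen E hE
      (Filter.eventually_atBot.2 ⟨N, fun i hi => (hiff i).2 (hN i hi)⟩)
    obtain ⟨a, ha⟩ := Filter.eventually_atBot.1 h
    exact ⟨a, (DerivedCategory.isGE_iff E a).2 fun i hi => ha i hi.le⟩

end Groth.Agent.S10781
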