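import Groth.Statements.S10783
import Groth.Agent.AlgSp.K646.AcycX
import Groth.Agent.AlgSp.K294.RFVan
import Mathlib.Algebra.Category.Grp.AB

set_option autoImplicit false
universe u
open CategoryTheory CategoryTheory.Limits AlgebraicGeometry
attribute [local instance] HasDerivedCategory.standard
open AlgSp

namespace Groth.Agent.S10783

/-- Let X be an algebraic space over S, F : Mod(O_X) ⥤ Ab (modules on the small etale site) a left exact
additive functor commuting with countable direct products, and N ≥ 0 an integer with R^pF(G) = 0 for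
every p ≥ N and every quasi-coherent module G (right derived functors computed with injective
resolutions). Assume the total right derived functor RF : D(O_X) ⥤ D(Ab) exists. Then for E in
D_QCoh(O_X) and i ≥ b the map H^i(RF(E)) ⟶ H^i(RF(τ_{≥ b-N+1}E)) induced by the truncation morphism
is an isomorphism. -/
theorem result {S : Scheme.{u}} (X : AlgSp.Space S)
    (F : AlgSp.ModEt X.obj ⥤ AddCommGrpCat.{u + 1}) [F.Additive] [PreservesFiniteLimits F]
    [PreservesLimitsOfShape (Discrete ℕ) F] [EnoughInjectives (AlgSp.ModEt X.obj)] (N : ℕ)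
    (hF : ∀ G : AlgSp.ModEt X.obj, G.IsQuasicoherent → ∀ p : ℕ, N ≤ p → IsZero ((F.rightDerived p).obj G))
    [(F.mapHomotopyCategory (ComplexShape.up ℤ) ⋙ DerivedCategory.Qh).HasRightDerivedFunctor
      (HomotopyCategory.quasiIso (AlgSp.ModEt X.obj) (ComplexShape.up ℤ))]
    (E : AlgSp.DModEt X.obj) (hE : DCoh.IsQCohDMod (AlgSp.OEtRing X.obj) E) (b i : ℤ) (hi : b ≤ i) :
    IsIso ((DerivedCategory.homologyFunctor AddCommGrpCat.{u + 1} i).map (((F.mapHomotopyCategory (ComplexShape.up ℤ) ⋙ DerivedCategory.Qh).totalRightDerived DerivedCategory.Qh (HomotopyCategory.quasiIso (AlgSp.ModEt X.obj) (ComplexShape.up ℤ))).map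
      (((DerivedCategory.TStructure.t : CategoryTheory.Triangulated.TStructure (AlgSp.DModEt X.obj)).truncGEπ (b - N + 1)).app E))) := by
  have := K646.Inst.isGrothendieckAbelian X.obj
  have hK := K294.RFVan.hasKInj (A := AlgSp.ModEt X.obj)
  have hx0 : AB4StarOfSize.{0} AddCommGrpCat.{u + 1} := AB4StarOfSize_shrink.{0, u + 1} AddCommGrpCat.{u + 1}
  have hx : HasExactLimitsOfShape (Discrete ℕ) AddCommGrpCat.{u + 1} := inferInstance
  have hep := K294.RFVan.enoughProjectives_ab.{u + 1}
  have hprod : HasLimitsOfShape (Discrete ℕ) (AlgSp.DModEt X.obj) := Groth.Agent.CohtopA.DerProd.hasLimitsOfShape_discrete.{_, u + 1} (AlgSp.ModEt X.obj) ℕ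
  let Qc : ObjectProperty (AlgSp.ModEt X.obj) := SheafOfModules.isQuasicoherent (AlgSp.OEtRing X.obj)
  have hz : Qc.ContainsZero := ⟨_, isZero_zero _, K646.AcycX.isQuasicoherent_of_isZero (isZero_zero _)⟩
  have hc := (K646.AcycX.acyc X.obj).cohIn_truncLT (K := E) hE (b - N + 1)
  have h1 : (((DerivedCategory.TStructure.t : CategoryTheory.Triangulated.TStructure (AlgSp.DModEt X.obj)).truncLT
      (b - N + 1)).obj E).IsLE (b - N) := by
    have : (((DerivedCategory.TStructure.t : CategoryTheory.Triangulated.TStructure (AlgSp.DModEt X.obj)).truncLT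
      (b - N + 1)).obj E).IsLE (b - N + 1 - 1) := inferInstance
    rwa [add_sub_cancel_right] at this
  have h2 := K294.RFVan.isLE_TR F Qc N hF _ ((K646.AcycX.acyc X.obj).isPostnikov hc) hc (b - N)
  have h3 := K294.RFVan.isIso_homology_map_truncGEπ (Groth.Agent.Etrest.RDer3.TR F) E (b - N + 1) _ h2 i (by lia)
  have e := (NatIso.isIso_map_iff (Functor.isoWhiskerRight (Groth.Agent.Etrest.RDer3.TRIso F)
    (DerivedCategory.homologyFunctor AddCommGrpCat.{u + 1} i))
    (((DerivedCategory.TStructure.t : CategoryTheory.Triangulated.TStructure (AlgSp.DModEt X.obj)).truncGEπ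
      (b - N + 1)).app E)).2 h3
  exact e


end Groth.Agent.S10783
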