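import Groth.Statements.S10787
-- import your own Groth.Agent.* helpers here
import Groth.Agent.CAlg.K78.InjArt
import Groth.Agent.S0307

set_option autoImplicit false
universe u
open CategoryTheory CategoryTheory.Limits
open CAlg

namespace Groth.Agent.S10787

/-- Let A be a Noetherian ring and J an injective A-module (an injective object of QCoh of the affine
scheme Spec A, through the equivalence with A-modules). Then J is a filtered colimit of A-modules
each of which is a finite module over some Artinian A-algebra B, the A-module structure being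
restricted from B; these are the modules underlying pushforwards to Spec A of coherent sheaves on
spectra of Artinian rings. -/
theorem result (A : Type u) [CommRing A] [IsNoetherianRing A]
    (J : Type u) [AddCommGroup J] [Module A J] [Module.Injective A J] :
    ∃ (ι : Type u) (_ : SmallCategory ι) (_ : IsFiltered ι) (D : ι ⥤ ModuleCat.{u} A)
      (c : Cocone D) (_ : IsColimit c), Nonempty (c.pt ≅ ModuleCat.of A J) ∧
      ∀ i : ι, ∃ (B : Type u) (_ : CommRing B) (_ : Algebra A B) (_ : IsArtinianRing B)
        (_ : Module B (D.obj i)) (_ : IsScalarTower A B (D.obj i)), Module.Finite B (D.obj i) := by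
  classical
  obtain ⟨Λ, E, hint, hE⟩ := Groth.Agent.S0307.result A J inferInstance
  choose T hTmono hTex hTgood using fun i =>
    K78.InjArt.exists_filtration (E i) (hE i).1 (hE i).2
  let T' : Λ → ℕ → Submodule A J := fun i n => (T i n).map (E i).subtype
  have hT'good : ∀ i n, K78.InjArt.Good A (T' i n) := fun i n =>
    (hTgood i n).equiv (Submodule.equivSubtypeMap _ _)
  have hT'le : ∀ i n, T' i n ≤ E i := fun i n => Submodule.map_subtype_le _ _
  have hT'mono : ∀ i, Monotone (T' i) := fun i m n h => Submodule.map_mono (hTmono i h)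
  let N : (Finset Λ × ℕ) →o Submodule A J :=
    { toFun := fun p => ⨆ i : p.1, T' i p.2
      monotone' := by
        rintro ⟨F, m⟩ ⟨G, n⟩ ⟨h1, h2⟩
        refine iSup_le fun i => ?_
        exact (hT'mono i h2).trans (le_iSup (fun j : G => T' j n) ⟨i, h1 i.2⟩) }
  have hN : ∀ x, ∃ p, x ∈ N p := by
    intro x
    have hx : x ∈ ⨆ i, E i := by
      rw [hint.submodule_iSup_eq_top]
      trivial
    induction hx using Submodule.iSup_induction' with
    | mem i x hx =>
      obtain ⟨n, hn⟩ := hTex i ⟨x, hx⟩
      exact ⟨({i}, n), Submodule.mem_iSup_of_mem (⟨i, by simp⟩ : ({i} : Finset Λ))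
        ⟨⟨x, hx⟩, hn, rfl⟩⟩
    | zero => exact ⟨(∅, 0), zero_mem _⟩
    | add x y _ _ hx hy =>
      obtain ⟨p, hp⟩ := hx
      obtain ⟨q, hq⟩ := hy
      exact ⟨p ⊔ q, add_mem (N.monotone le_sup_left hp) (N.monotone le_sup_right hq)⟩
  refine ⟨Finset Λ × ℕ, Preorder.smallCategory _, inferInstance, K78.InjArt.functorOf N,
    K78.InjArt.coconeOf N, K78.InjArt.isColimitOfDirected N hN, ⟨Iso.refl _⟩, ?_⟩
  rintro ⟨F, n⟩
  have hind : iSupIndep (fun i : F => T' i n) :=
    (hint.submodule_iSupIndep.mono fun i => hT'le i n).comp Subtype.val_injective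
  exact K78.InjArt.Good.iSup (fun i : F => T' i n) hind fun i => hT'good i n

end Groth.Agent.S10787
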