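import Groth.Statements.S10792
import Groth.Agent.AlgSp.K647.Idl

set_option autoImplicit false
universe u
open CategoryTheory CategoryTheory.Limits AlgebraicGeometry Topology TopologicalSpace
open AlgSp

namespace Groth.Agent.S10792

/-- (2) ⇔ (4): let X be an algebraic space over a scheme S and D ⟶ X a closed subspace (representable by
closed immersions). Then D is an effective Cartier divisor in the one-chart sense if and only if for
every point x of |D| there are an affine scheme U over S, a representable etale h_U ⟶ X, a point u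
of U mapping to the image of x in |X|, and a nonzerodivisor f of the ring A of global functions of U
such that the inverse image of D in U is the closed subscheme Spec (A/(f)), that is, the closed
subscheme of the quasi-coherent ideal sheaf of U whose ideal of global sections is generated by f. -/
theorem result {S : Scheme.{u}} (X D : AlgSp.Space S) (i : D ⟶ X)
    (hi : AlgSp.RepWith @IsClosedImmersion i.hom) :
    AlgSp.IsEffCartierSub i.hom ↔
      ∀ x : AlgSp.Points D.obj,
        ∃ (U : Over S) (_ : IsAffine U.left) (a : (AlgSp.yon S).obj U ⟶ X.obj) (u : ↥U.left)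
          (f : Γ(U.left, ⊤)) (I : U.left.IdealSheafData)
          (fst : (AlgSp.yon S).obj (Over.mk (I.subschemeι ≫ U.hom)) ⟶ D.obj),
          AlgSp.RepWith @Etale a ∧ AlgSp.Points.ofPt a u = AlgSp.Points.map i.hom x ∧
            f ∈ nonZeroDivisors Γ(U.left, ⊤) ∧
            I.ideal ⟨⊤, isAffineOpen_top U.left⟩ = Ideal.span {f} ∧
            IsPullback fst ((AlgSp.yon S).map (Over.homMk I.subschemeι rfl : Over.mk (I.subschemeι ≫ U.hom) ⟶ U)) i.hom a := by
  constructor
  · intro h x
    obtain ⟨V, φ, hφ, hφ'⟩ := X.property.atlas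
    obtain ⟨v, hv⟩ := K647.Pts.exists_ofPt_of_surj hφ' (AlgSp.Points.map i.hom x)
    obtain ⟨U, hvU, f, hf, hI⟩ := K647.Idl.isEff_idl h hφ v
    let U' : Over S := Over.mk (U.1.ι ≫ V.hom)
    let t : U' ⟶ V := Over.homMk U.1.ι rfl
    have haff : IsAffine U'.left := U.2
    have ht : IsOpenImmersion t.left := inferInstanceAs (IsOpenImmersion U.1.ι)
    have hte : Etale t.left := inferInstance
    obtain ⟨fst, sq⟩ := K647.Idl.exists_isPullback_subscheme hi ((AlgSp.yon S).map t ≫ φ)
    have e : (⊤ : U'.left.Opens) ≤ t.left ⁻¹ᵁ U.1 := fun z _ => z.2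
    refine ⟨U', haff, (AlgSp.yon S).map t ≫ φ, ⟨v, hvU⟩, (t.left.appLE U.1 ⊤ e).hom f, _, fst,
      K647.Idl.repWith_etale_comp hφ t, ?_, ?_, ?_, sq⟩
    · exact (K647.Pts.ofPt_map t φ (⟨v, hvU⟩ : (U.1 : Scheme.{u}))).trans hv
    · exact Groth.Agent.Divis.EffCartier.map_mem_nonZeroDivisors_of_flat _
        (Scheme.Hom.flat_appLE t.left U.2 (isAffineOpen_top U'.left) e) hf
    · rw [K647.Idl.idl_comp, Groth.Agent.Divis.IdealComap.ideal_comap _ t.left U
        ⟨⊤, isAffineOpen_top U'.left⟩ e, hI, Ideal.map_span, Set.image_singleton]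
  · intro h
    obtain ⟨V, φ, hφ, hφ'⟩ := X.property.atlas
    refine K647.Idl.isEffCartierSub_iff.2 ⟨hi, V, φ, hφ, hφ', K647.CartDesc.isEff_of_support fun v hv => ?_⟩
    obtain ⟨x, hx⟩ := (K647.Idl.mem_support_idl_iff hi v).1 hv
    obtain ⟨U, hU, a, u, f, I, fst, ha, hu, hf, hI, sq⟩ := h x
    obtain rfl := K647.Idl.eq_idl_of_isPullback hi sq
    obtain ⟨W, p, q, sq'⟩ := K647.Idl.exists_prod (a := a) (b := φ) ha.1
    have hq : Etale q.left := ha.2 _ _ _ sq'
    have hp : Etale p.left := hφ.2 _ _ _ sq'.flip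
    obtain ⟨w, hw, hwv⟩ := K647.Pts.exists_point_rep sq' (AlgSp.Points.ofScheme U u) v
      (by rw [AlgSp.Points.map_ofPt, Category.id_comp, hu, hx])
    have hwu : p.left w = u := by
      have h2 := congrArg (AlgSp.Points.toScheme U) hw
      rwa [AlgSp.Points.toScheme_ofPt, AlgSp.Points.toScheme_ofScheme] at h2
    -- the ideal near w
    obtain ⟨_, ⟨W₁, hW₁, rfl⟩, hwW₁, -⟩ := W.left.isBasis_affineOpens.exists_subset_of_mem_open
      (show w ∈ (Set.univ : Set W.left) from trivial) isOpen_univ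
    have hW₁' : IsAffineOpen W₁ := hW₁
    have e : W₁ ≤ p.left ⁻¹ᵁ ⊤ := fun _ _ => trivial
    have h1 : ((K647.Idl.idl hi φ).comap q.left).ideal ⟨W₁, hW₁'⟩ =
        Ideal.span {(p.left.appLE ⊤ W₁ e).hom f} := by
      rw [← K647.Idl.idl_comp hi q, ← sq'.w, K647.Idl.idl_comp hi p,
        Groth.Agent.Divis.IdealComap.ideal_comap _ p.left ⟨⊤, isAffineOpen_top U.left⟩ ⟨W₁, hW₁'⟩ e, hI,
        Ideal.map_span, Set.image_singleton]
    obtain ⟨V₁, hV₁, b, hb, hbn⟩ := K647.CartDesc.exists_affine_gen q.left q.left.isOpenMap (K647.Idl.idl hi φ)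
      w ⟨W₁, hW₁'⟩ hwW₁ _ h1
    rw [hwv] at hV₁
    exact ⟨V₁, hV₁, b, hbn (Groth.Agent.Divis.EffCartier.map_mem_nonZeroDivisors_of_flat _
        (Scheme.Hom.flat_appLE p.left (isAffineOpen_top U.left) hW₁' e) hf), hb⟩

end Groth.Agent.S10792
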