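import Groth.Statements.S10796
import Groth.Agent.AlgSp.K647.WeakUnit

set_option autoImplicit false
universe u
open CategoryTheory CategoryTheory.Limits AlgebraicGeometry Topology TopologicalSpace
open AlgSp

namespace Groth.Agent.S10796

/-- For algebraic spaces X and Y over a scheme S, a morphism f : X ⟶ Y and an effective Cartier divisor
D ⟶ Y (one-chart sense), assume that no weakly associated point of X (weakly associated point of the
structure sheaf O_X on the small etale site of X) is mapped into |D|. Then the inverse image of D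
under f is an effective Cartier divisor on X: for every pullback square of D ⟶ Y along f, the
projection to X is an effective Cartier divisor (one-chart sense). -/
theorem result {S : Scheme.{u}} (X Y D P : AlgSp.Space S) (f : X ⟶ Y)
    (i : D ⟶ Y) (hD : AlgSp.IsEffCartierSub i.hom) [(AlgSp.unitModEt X.obj).IsQuasicoherent]
    (h : ∀ x ∈ AlgSp.WeakAssEt (AlgSp.unitModEt X.obj),
      AlgSp.Points.map f.hom x ∉ Set.range (AlgSp.Points.map i.hom))
    (fst : P ⟶ D) (snd : P ⟶ X) (hP : IsPullback fst.hom snd.hom i.hom f.hom) :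
    AlgSp.IsEffCartierSub snd.hom := by
  obtain ⟨V, b, hb, hb'⟩ := Y.property.atlas
  obtain ⟨U, a, ha, ha'⟩ := X.property.atlas
  obtain ⟨W, p, q, -, hp, hp', hw⟩ := K647.Idl.exists_chart_lift (f := f.hom) (a := a) hb hb'
  have hsnd : AlgSp.RepWith @IsClosedImmersion snd.hom := K647.Idl.repWith_snd hP hD.1
  have hpa := K647.Idl.repWith_etale_comp ha p
  rw [K647.Idl.isEffCartierSub_iff]
  refine ⟨hsnd, W, (AlgSp.yon S).map p ≫ a, hpa, K647.Idl.repWith_surj_comp ha' p, ?_⟩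
  refine Groth.Agent.Divis.EffCartier.isEff_of_forall_comap fun w => ?_
  obtain ⟨V₁, hV₁, g, hg, hI⟩ := K647.Idl.isEff_idl hD hb (q.left w)
  obtain ⟨_, ⟨W₁, hW₁, rfl⟩, hwW₁, hW₁V₁⟩ := W.left.isBasis_affineOpens.exists_subset_of_mem_open
    (show w ∈ (q.left ⁻¹ᵁ V₁.1 : W.left.Opens) from hV₁) (q.left ⁻¹ᵁ V₁.1 : W.left.Opens).isOpen
  have hW₁' : IsAffineOpen W₁ := hW₁
  let T : Over S := Over.mk ((Scheme.Opens.ι W₁) ≫ W.hom)
  let t : T ⟶ W := Over.homMk (Scheme.Opens.ι W₁) rfl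
  have haff : IsAffine T.left := hW₁'
  have ht : IsOpenImmersion t.left := inferInstanceAs (IsOpenImmersion (Scheme.Opens.ι W₁))
  have hte : Etale t.left := inferInstance
  have hE := K647.Idl.repWith_etale_comp hpa t
  let E : AlgSp.EtOver X.obj := AlgSp.EtOver.mk ((AlgSp.yon S).map t ≫ (AlgSp.yon S).map p ≫ a) hE
  refine ⟨T.left, t.left, ht, ⟨(⟨w, hwW₁⟩ : Scheme.Opens.toScheme W₁), rfl⟩, ?_⟩
  have e : (⊤ : T.left.Opens) ≤ (t ≫ q).left ⁻¹ᵁ V₁.1 := fun z _ => hW₁V₁ z.2
  -- the ideal on T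
  have h0 : (K647.Idl.idl hsnd ((AlgSp.yon S).map p ≫ a)).comap t.left = (K647.Idl.idl hD.1 b).comap (t ≫ q).left := by
    rw [← K647.Idl.idl_comp hsnd t, ← K647.Idl.idl_comp hD.1 (t ≫ q), K647.Idl.idl_of_isPullback hD.1 hP hsnd,
      Category.assoc, hw, Functor.map_comp, Category.assoc]
  have h1 : ((K647.Idl.idl hsnd ((AlgSp.yon S).map p ≫ a)).comap t.left).ideal ⟨⊤, isAffineOpen_top T.left⟩ =
      Ideal.span {((t ≫ q).left.appLE V₁.1 ⊤ e).hom g} := by
    rw [h0, Groth.Agent.Divis.IdealComap.ideal_comap _ (t ≫ q).left V₁ ⟨⊤, isAffineOpen_top T.left⟩ e, hI,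
      Ideal.map_span, Set.image_singleton]
  intro z
  refine ⟨⟨⊤, isAffineOpen_top T.left⟩, trivial, _, ?_, h1⟩
  have : IsAffine E.obj.left.left := haff
  refine K647.WeakUnit.mem_nonZeroDivisors E (((t ≫ q).left.appLE V₁.1 ⊤ e).hom g) fun z hz => ?_
  by_contra hzb
  apply h _ hz
  -- z lies in the support
  have h2 : z ∈ (K647.Idl.idl hsnd ((AlgSp.yon S).map t ≫ (AlgSp.yon S).map p ≫ a)).support := by
    rw [K647.Idl.idl_comp hsnd t, Scheme.IdealSheafData.mem_support_iff_of_mem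
      (U := ⟨⊤, isAffineOpen_top T.left⟩) (show z ∈ (⊤ : T.left.Opens) from trivial), h1, Scheme.zeroLocus_span,
      Scheme.zeroLocus_singleton]
    exact hzb
  obtain ⟨x, hx⟩ := (K647.Idl.mem_support_idl_iff hsnd z).1 h2
  refine ⟨AlgSp.Points.map fst.hom x, ?_⟩
  rw [← AlgSp.Points.map_comp, hP.w, AlgSp.Points.map_comp, hx]
  rfl

end Groth.Agent.S10796
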