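import Groth.Statements.S10797
import Groth.Agent.AlgSp.K647.FibChart
import Groth.Agent.S1662

set_option autoImplicit false
universe u
open CategoryTheory CategoryTheory.Limits AlgebraicGeometry Topology TopologicalSpace
open AlgSp

namespace Groth.Agent.S10797

/-- Let f : X ⟶ Y be a morphism of algebraic spaces over a scheme S and D ⟶ X an effective Cartier
divisor (one-chart sense) such that the composite D ⟶ Y is flat. Then for every morphism g : Y' ⟶ Y
and every pullback square exhibiting X' as Y' ×_Y X with projection g' : X' ⟶ X, the inverse image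
of D under g' (the projection to X' from any pullback of D ⟶ X along g') is an effective Cartier
divisor on X'. (The published statement takes g to be a morphism from a scheme Y'; this row allows
Y' to be an algebraic space, to which the same etale-local reduction to schemes applies.) -/
theorem result {S : Scheme.{u}} (X Y D Y' X' D' : AlgSp.Space S)
    (f : X ⟶ Y) (i : D ⟶ X) (hD : AlgSp.IsEffCartierSub i.hom) (hflat : AlgSp.LocP @Flat (i ≫ f).hom)
    (g : Y' ⟶ Y) (g' : X' ⟶ X) (f' : X' ⟶ Y') (hX' : IsPullback g'.hom f'.hom f.hom g.hom)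
    (k : D' ⟶ D) (i' : D' ⟶ X') (hD' : IsPullback k.hom i'.hom i.hom g'.hom) :
    AlgSp.IsEffCartierSub i'.hom := by
  obtain ⟨V, b, hb, hb'⟩ := Y.property.atlas
  obtain ⟨U₀, a, ha, ha'⟩ := X.property.atlas
  obtain ⟨V₀, c, hc, hc'⟩ := Y'.property.atlas
  obtain ⟨U, V', W, p, q, p', q', s, t, w, hp, hp', -, -, hpq, hpq', hsq, hw, hw', hwg, hwf⟩ :=
    K647.FibChart.exists_fibre_chart hX' (Y.property.representable_from_yon _) ha ha' hc hc' hb hb'
  have hi' : AlgSp.RepWith @IsClosedImmersion i'.hom := K647.Idl.repWith_snd hD' hD.1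
  rw [K647.Idl.isEffCartierSub_iff]
  refine ⟨hi', W, w, hw, hw', ?_⟩
  have hpa := K647.Idl.repWith_etale_comp ha p
  rw [K647.Idl.idl_of_isPullback hD.1 hD' hi', hwg, K647.Idl.idl_comp hD.1 s]
  have hE := K647.Idl.isEff_idl hD hpa
  obtain ⟨fst, sq⟩ := K647.Idl.exists_isPullback_subscheme hD.1 ((AlgSp.yon S).map p ≫ a)
  have hfst : AlgSp.RepWith @Etale fst := K647.Idl.repWith_fst sq hpa
  have hfl : Flat ((K647.Idl.idl hD.1 ((AlgSp.yon S).map p ≫ a)).subschemeι ≫ q.left) := by
    have h := hflat fst b (Over.homMk (K647.Idl.idl hD.1 ((AlgSp.yon S).map p ≫ a)).subschemeι rfl ≫ q) hfst hb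
      (by
        change fst ≫ i.hom ≫ f.hom = _
        rw [← Category.assoc, sq.w, Category.assoc, hpq, Functor.map_comp, Category.assoc])
    exact h
  have hsq' := K647.FibChart.isPullback_left hsq
  have hs : s.left = hsq'.isoPullback.hom ≫ pullback.fst q.left q'.left := (hsq'.isoPullback_hom_fst).symm
  rw [hs, Scheme.IdealSheafData.comap_comp]
  exact Groth.Agent.Divis.EffCartier.isEff_comap_flat (Groth.Agent.S1662.result q.left _ hE q'.left) _

end Groth.Agent.S10797
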