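import Groth.Statements.S10799
import Groth.Agent.AlgSp.K647.Idl
import Groth.Agent.S1685
import Groth.Agent.CalgA.SerreLocal
import Groth.Agent.CalgA.SerreCrit

set_option autoImplicit false
universe u
open CategoryTheory CategoryTheory.Limits AlgebraicGeometry Topology TopologicalSpace
open AlgSp

namespace Groth.Agent.S10799

/-- Let X be an algebraic space over a scheme S which is locally Noetherian and normal in the
etale-local sense: some etale surjective chart of X from a locally Noetherian scheme all of whose
local rings are integrally closed domains. Let D ⟶ X be an effective Cartier divisor (one-chart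
sense). Then D is (S_1): some etale surjective chart of D from a locally Noetherian scheme all of
whose local rings O satisfy min(1, dim O) ≤ depth O. -/
theorem result {S : Scheme.{u}} (X D : AlgSp.Space S)
    (hX : AlgSp.EtaleLocally (fun U => IsLocallyNoetherian U ∧ Pi1.IsNormalScheme U) X.obj)
    (i : D ⟶ X) (hD : AlgSp.IsEffCartierSub i.hom) :
    AlgSp.EtaleLocally (fun V => IsLocallyNoetherian V ∧ ∀ v : ↥V,
        min ((1 : ℕ) : WithBot ℕ∞) (ringKrullDim ↥(V.presheaf.stalk v)) ≤
          ((LocCoh.depth ↥(V.presheaf.stalk v) ↥(V.presheaf.stalk v) : ℕ∞) : WithBot ℕ∞)) D.obj := by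
  obtain ⟨V, φ, hφ, hφ', hN, hS⟩ := hX
  obtain ⟨fst, sq⟩ := K647.Idl.exists_isPullback_subscheme hD.1 φ
  refine ⟨_, fst, K647.Idl.repWith_fst sq hφ, K647.Idl.repWith_fst sq hφ', ?_, ?_⟩
  · exact LocallyOfFiniteType.isLocallyNoetherian (K647.Idl.idl hD.1 φ).subschemeι
  · refine Groth.Agent.S1685.result V.left 2 (fun x => ?_) (K647.Idl.idl hD.1 φ) (K647.Idl.isEff_idl hD hφ)
    obtain ⟨h1, h2⟩ := hS x
    by_cases hd : ringKrullDim ↥(V.left.presheaf.stalk x) ≤ 1
    · by_cases hd0 : ringKrullDim ↥(V.left.presheaf.stalk x) ≤ 0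
      · refine (min_le_right _ _).trans (hd0.trans ?_)
        exact WithBot.coe_le_coe.2 zero_le
      · refine (min_le_right _ _).trans (hd.trans ?_)
        exact WithBot.coe_le_coe.2 (Groth.Agent.CalgA.SerreCrit.one_le_depth_of_isReduced hd0)
    · refine (min_le_left _ _).trans ?_
      exact WithBot.coe_le_coe.2 (Groth.Agent.CalgA.SerreLocal.two_le_depth_of_isIntegrallyClosed hd)

end Groth.Agent.S10799
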