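import Groth.Statements.S10802
import Groth.Agent.AlgSp.K647.FibNoeth

set_option autoImplicit false
universe u
open CategoryTheory CategoryTheory.Limits AlgebraicGeometry Topology TopologicalSpace
open AlgSp

namespace Groth.Agent.S10802

/-- For algebraic spaces X and Y over a scheme S and a morphism f : X ⟶ Y which is locally of finite
type, every fibre of f over a field-valued point of Y is a locally Noetherian algebraic space: for
every field k and every point p : Spec k ⟶ Y, the fibre X_p = Spec k ×_Y X (any pullback of f along
the morphism of p) admits a representable etale surjective chart from a locally Noetherian scheme. -/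
theorem result {S : Scheme.{u}} (X Y : AlgSp.Space S) (f : X ⟶ Y)
    (hf : AlgSp.LocP @LocallyOfFiniteType f.hom) (p : AlgSp.FieldPt Y.obj)
    {P : AlgSp.Sp S} (fst : P ⟶ X.obj) (snd : P ⟶ (AlgSp.yon S).obj p.pt) (hP : IsPullback fst snd f.hom p.toHom) :
    AlgSp.IsLocNoethSp P := by
  obtain ⟨V, b, hb, hb'⟩ := Y.property.atlas
  obtain ⟨U, a, ha, ha'⟩ := X.property.atlas
  have hr : AlgSp.Representable (a ≫ f.hom) := Y.property.representable_from_yon _
  rw [K647.FibNoeth.N_iff ha ha' hr hP]
  -- the etale cover V ×_Y Spec k of Spec k
  obtain ⟨T, α, β, sq⟩ := K647.Idl.exists_prod (a := p.toHom) (b := b) (Y.property.representable_from_yon _)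
  have h1 : Etale α.left := hb.2 _ _ _ sq.flip
  have h2 : Surjective α.left := hb'.2 _ _ _ sq.flip
  have hk : IsLocallyNoetherian p.pt.left := inferInstanceAs (IsLocallyNoetherian (Spec (CommRingCat.of p.K)))
  have : IsLocallyNoetherian T.left := LocallyOfFiniteType.isLocallyNoetherian α.left
  apply K647.FibNoeth.N_of_etale_surj hr α
  rw [sq.w]
  exact K647.FibNoeth.N_of_lft_mor hf ha hr hb β

end Groth.Agent.S10802
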