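import Groth.Statements.S10803
import Groth.Agent.AlgSp.K647.FibNoeth

set_option autoImplicit false
universe u
open CategoryTheory CategoryTheory.Limits AlgebraicGeometry Topology TopologicalSpace
open AlgSp

namespace Groth.Agent.S10803

/-- (3) ⇒ (2) (with (2) ⇒ (1) ⇒ (3) immediate, this gives the equivalence of the three conditions
defining a locally Noetherian fibre over y): take a morphism f : X ⟶ Y of algebraic spaces over a
scheme S and a point y of |Y|. Suppose that for some field k and some point p : Spec k ⟶ Y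
representing y the fibre X_p (any pullback of f along the morphism of p) is locally Noetherian. Then
for every scheme V, every representable etale h_V ⟶ Y and every point v of V mapping to y, the fibre
X_v = Spec κ(v) ×_Y X is locally Noetherian. -/
theorem result {S : Scheme.{u}} (X Y : AlgSp.Space S) (f : X ⟶ Y)
    (y : AlgSp.Points Y.obj) (p : AlgSp.FieldPt Y.obj) (hp : AlgSp.Points.mk p = y)
    (hNoeth : ∀ ⦃P : AlgSp.Sp S⦄ (fst : P ⟶ X.obj) (snd : P ⟶ (AlgSp.yon S).obj p.pt),
      IsPullback fst snd f.hom p.toHom → AlgSp.IsLocNoethSp P)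
    (V : Over S) (b : (AlgSp.yon S).obj V ⟶ Y.obj) (hb : AlgSp.RepWith @Etale b) (v : ↥V.left)
    (hv : AlgSp.Points.ofPt b v = y)
    {Q : AlgSp.Sp S} (qfst : Q ⟶ X.obj) (qsnd : Q ⟶ (AlgSp.yon S).obj (AlgSp.FieldPt.ofPt b v).pt)
    (hQ : IsPullback qfst qsnd f.hom (AlgSp.FieldPt.ofPt b v).toHom) :
    AlgSp.IsLocNoethSp Q := by
  obtain ⟨U, a, ha, ha'⟩ := X.property.atlas
  have hr : AlgSp.Representable (a ≫ f.hom) := Y.property.representable_from_yon _
  have hN : K647.FibNoeth.N hr p.toHom := by
    rw [← K647.FibNoeth.N_iff ha ha' hr (IsPullback.of_hasPullback f.hom p.toHom)]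
    exact hNoeth _ _ (IsPullback.of_hasPullback f.hom p.toHom)
  rw [K647.FibNoeth.N_iff ha ha' hr hQ, K647.FibNoeth.toHom_ofPt]
  obtain ⟨M, α, β, sq⟩ := K647.Idl.exists_prod (a := p.toHom) (b := b) (Y.property.representable_from_yon _)
  have h1 : Etale α.left := hb.2 _ _ _ sq.flip
  obtain ⟨m, -, rfl⟩ := K647.Pts.exists_point_rep sq
    (AlgSp.Points.ofScheme p.pt (IsLocalRing.closedPoint p.K : p.pt.left)) v
    ((K647.FibNoeth.map_toHom p).trans (hp.trans hv.symm))
  -- the residue field of m
  let α' : M.left ⟶ Spec (CommRingCat.of p.K) := α.left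
  have hα' : Etale α' := h1
  have hd : DiscreteTopology M.left := Groth.Agent.Dix.PointSite.discreteTopology_of_etale α'
  have hcl : IsClosedImmersion (M.left.fromSpecResidueField m) :=
    isClosed_singleton_iff_isClosedImmersion.1 (isClosed_discrete _)
  let T : Over S := Over.mk (M.left.fromSpecResidueField m ≫ M.hom)
  let ι : T ⟶ M := Over.homMk (M.left.fromSpecResidueField m) rfl
  have hι : LocallyOfFiniteType ι.left := inferInstanceAs (LocallyOfFiniteType (M.left.fromSpecResidueField m))
  have hc : Spec.map (β.left.residueFieldMap m) ≫ V.left.fromSpecResidueField (β.left m) =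
      M.left.fromSpecResidueField m ≫ β.left := Scheme.Hom.SpecMap_residueFieldMap_fromSpecResidueField _ _
  let κ : T ⟶ (AlgSp.FieldPt.ofPt b (β.left m)).pt := Over.homMk (Spec.map (β.left.residueFieldMap m)) (by
    change Spec.map (β.left.residueFieldMap m) ≫ V.left.fromSpecResidueField (β.left m) ≫ V.hom =
      M.left.fromSpecResidueField m ≫ M.hom
    rw [← Category.assoc, hc, Category.assoc, Over.w])
  have hκf : Flat κ.left := inferInstanceAs (Flat (Spec.map (β.left.residueFieldMap m)))
  have hκs : Surjective κ.left := inferInstanceAs (Surjective (Spec.map (β.left.residueFieldMap m)))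
  have hκq : QuasiCompact κ.left := inferInstanceAs (QuasiCompact (Spec.map (β.left.residueFieldMap m)))
  apply K647.FibNoeth.N_of_flat_qc hr κ
  have h3 : (AlgSp.yon S).map κ ≫ (AlgSp.yon S).map (Over.homMk (V.left.fromSpecResidueField (β.left m)) rfl :
      (AlgSp.FieldPt.ofPt b (β.left m)).pt ⟶ V) ≫ b = (AlgSp.yon S).map ι ≫ (AlgSp.yon S).map α ≫ p.toHom := by
    rw [sq.w, ← Category.assoc, ← Functor.map_comp, ← Category.assoc, ← Functor.map_comp]
    congr 2
    ext1
    exact hc
  rw [h3]
  exact K647.FibNoeth.N_of_lft hr ι (K647.FibNoeth.N_of_lft hr α hN)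

end Groth.Agent.S10803
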