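import Groth.Statements.S10804
import Groth.Agent.AlgSp.K647.FibNoeth
import Groth.Agent.AlgSp.K647.MonoField

set_option autoImplicit false
universe u
open CategoryTheory CategoryTheory.Limits AlgebraicGeometry Topology TopologicalSpace
open AlgSp

namespace Groth.Agent.S10804

/-- (3) ⇒ (4): let f : X ⟶ Y be a morphism of algebraic spaces over a scheme S, and let p : Spec k ⟶ Y
and p₀ : Spec k₀ ⟶ Y be field-valued points defining the same point of |Y|, with h_{Spec k₀} ⟶ Y a
monomorphism. If the fibre X_p = Spec k ×_Y X (any pullback of f along the morphism of p) is locally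
Noetherian, then the fibre X_{p₀} is locally Noetherian. -/
theorem result {S : Scheme.{u}} (X Y : AlgSp.Space S) (f : X ⟶ Y)
    (p p₀ : AlgSp.FieldPt Y.obj) (hpp : AlgSp.Points.mk p = AlgSp.Points.mk p₀) (hmono : Mono p₀.toHom)
    (hNoeth : ∀ ⦃P : AlgSp.Sp S⦄ (fst : P ⟶ X.obj) (snd : P ⟶ (AlgSp.yon S).obj p.pt),
      IsPullback fst snd f.hom p.toHom → AlgSp.IsLocNoethSp P)
    {Q : AlgSp.Sp S} (qfst : Q ⟶ X.obj) (qsnd : Q ⟶ (AlgSp.yon S).obj p₀.pt)
    (hQ : IsPullback qfst qsnd f.hom p₀.toHom) :
    AlgSp.IsLocNoethSp Q := by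
  obtain ⟨U, a, ha, ha'⟩ := X.property.atlas
  have hr : AlgSp.Representable (a ≫ f.hom) := Y.property.representable_from_yon _
  have hN : K647.FibNoeth.N hr p.toHom := by
    rw [← K647.FibNoeth.N_iff ha ha' hr (IsPullback.of_hasPullback f.hom p.toHom)]
    exact hNoeth _ _ (IsPullback.of_hasPullback f.hom p.toHom)
  rw [K647.FibNoeth.N_iff ha ha' hr hQ]
  obtain ⟨M, α, β, sq⟩ := K647.Idl.exists_prod (a := p.toHom) (b := p₀.toHom) (Y.property.representable_from_yon _)
  -- α is a monomorphism from a nonempty scheme to the spectrum of a field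
  obtain ⟨m, -, -⟩ := K647.Pts.exists_point_rep sq
    (AlgSp.Points.ofScheme p.pt (IsLocalRing.closedPoint p.K : p.pt.left)) (IsLocalRing.closedPoint p₀.K : p₀.pt.left)
    ((K647.FibNoeth.map_toHom p).trans (hpp.trans (K647.FibNoeth.ofPt_toHom p₀).symm))
  have hm1 : Mono ((AlgSp.yon S).map α) := ⟨fun g h hgh => sq.hom_ext hgh (by
    have h1 := congrArg (· ≫ p.toHom) hgh
    simp only [Category.assoc, sq.w] at h1
    rw [← Category.assoc, ← Category.assoc] at h1
    exact (cancel_mono p₀.toHom).1 h1)⟩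
  have hm2 : Mono α := (AlgSp.yon S).mono_of_mono_map hm1
  let α' : M.left ⟶ Spec (CommRingCat.of p.K) := α.left
  have hm3 : Mono α' := inferInstanceAs (Mono α.left)
  have hne : Nonempty M.left := ⟨m⟩
  have hiso : IsIso α' := K647.MonoField.isIso_of_mono α'
  have hiso' : IsIso α.left := hiso
  have h1 : LocallyOfFiniteType α.left := inferInstance
  have h2 := K647.FibNoeth.N_of_lft hr α hN
  rw [sq.w] at h2
  -- β is flat, surjective and quasi-compact
  let β' : M.left ⟶ Spec (CommRingCat.of p₀.K) := β.left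
  have hsub : Subsingleton M.left := ⟨fun x y => α'.injective (Subsingleton.elim _ _)⟩
  have hf : Flat β' := inferInstance
  have hs : Surjective β' := ⟨fun y => ⟨m, Subsingleton.elim _ _⟩⟩
  have hc : CompactSpace M.left := inferInstance
  have hq : QuasiCompact β' := inferInstance
  have hf' : Flat β.left := hf
  have hs' : Surjective β.left := hs
  have hq' : QuasiCompact β.left := hq
  exact K647.FibNoeth.N_of_flat_qc hr β h2

end Groth.Agent.S10804
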