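import Groth.Statements.S10805
import Groth.Agent.AlgSp.K647.WeakUnit

set_option autoImplicit false
universe u
open CategoryTheory CategoryTheory.Limits AlgebraicGeometry Topology TopologicalSpace
open AlgSp

namespace Groth.Agent.S10805

/-- Let X be a reduced algebraic space over a scheme S and x a point of |X|. Then x is a weakly
associated point of X (a weakly associated point of the structure sheaf O_X on the small etale site)
if and only if x is a point of codimension 0 of X (for some scheme U with a representable etale h_U
⟶ X and some point u of U over x, the local ring of U at u has Krull dimension 0). -/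
theorem result {S : Scheme.{u}} (X : AlgSp.Space S)
    (hX : AlgSp.IsReducedSp X.obj) [(AlgSp.unitModEt X.obj).IsQuasicoherent] (x : AlgSp.Points X.obj) :
    x ∈ AlgSp.WeakAssEt (AlgSp.unitModEt X.obj) ↔
      AlgSp.HasAt (fun U u => ringKrullDim ↥(U.presheaf.stalk u) = 0) X.obj x := by
  constructor
  · rintro ⟨E, hE, u, hu, s, hs⟩
    obtain ⟨b, rfl⟩ := K647.WeakUnit.exists_secU E s
    have hred : IsReduced E.obj.left.left := K647.EtLoc.isReduced_chart hX E.property
    refine ⟨E.obj.left, E.obj.hom, u, E.property, hu, ?_⟩
    exact (K647.WeakUnit.ringKrullDim_stalk_eq_zero_iff _ u).2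
      (K647.WeakUnit.mem_minimalPrimes_of_ann b _ (fun a => K647.WeakUnit.mem_annSect_secU E a b) _ hs)
  · rintro ⟨U, a, u, ha, hu, hdim⟩
    obtain ⟨_, ⟨W, hW, rfl⟩, huW, -⟩ := U.left.isBasis_affineOpens.exists_subset_of_mem_open
      (show u ∈ (Set.univ : Set U.left) from trivial) isOpen_univ
    have hW' : IsAffineOpen W := hW
    let U' : Over S := Over.mk (Scheme.Opens.ι W ≫ U.hom)
    let t : U' ⟶ U := Over.homMk (Scheme.Opens.ι W) rfl
    have haff : IsAffine U'.left := hW'
    have ht : IsOpenImmersion t.left := inferInstanceAs (IsOpenImmersion (Scheme.Opens.ι W))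
    have hte : Etale t.left := inferInstance
    let E : AlgSp.EtOver X.obj := AlgSp.EtOver.mk ((AlgSp.yon S).map t ≫ a) (K647.Idl.repWith_etale_comp ha t)
    let u' : U'.left := (⟨u, huW⟩ : Scheme.Opens.toScheme W)
    have hu' : t.left u' = u := rfl
    refine ⟨E, haff, u', ?_, K647.WeakUnit.secU E 1, ?_⟩
    · exact (K647.Pts.ofPt_map t a u').trans hu
    · have h1 : ringKrullDim ↥(U'.left.presheaf.stalk u') = 0 := by
        have e : U.left.presheaf.stalk (t.left u') ≅ U'.left.presheaf.stalk u' := asIso (t.left.stalkMap u')
        rw [← hdim]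
        exact (ringKrullDim_eq_of_ringEquiv e.commRingCatIsoToRingEquiv).symm
      have h2 := (K647.WeakUnit.ringKrullDim_stalk_eq_zero_iff U'.left u').1 h1
      have h3 : AlgSp.annSect (K647.WeakUnit.secU E 1) = ⊥ := by
        ext x
        rw [K647.WeakUnit.mem_annSect_secU, mul_one]
        rfl
      rw [h3]
      exact h2

end Groth.Agent.S10805
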