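import Groth.Statements.S10822
import Groth.Agent.Variety.K426.ProjCut

set_option autoImplicit false
universe u
open AlgebraicGeometry Topology TopologicalSpace
open Variety

namespace Groth.Agent.S10822

/-- Let k be a field, X an irreducible closed subset of projective n-space over k of positive dimension,
and f a homogeneous polynomial in n + 1 variables whose zero set V_+(f) is nonempty and does not
contain X. Then X meets V_+(f), and every irreducible component C of X ∩ V_+(f) has dim C + 1 = dim
X, i.e. codimension 1 in X (all maximal chains of irreducible closed subsets of X have length dim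
X). -/
theorem result (k : Type u) [Field k] (n d : ℕ)
    (X : Set (ProjectiveSpectrum (CohB1.polyGrading n k))) (hXc : IsClosed X) (hXi : IsIrreducible X)
    (hXd : 0 < topologicalKrullDim ↥X)
    (f : MvPolynomial (Fin (n + 1)) k) (hf : f.IsHomogeneous d)
    (hV : (ProjectiveSpectrum.zeroLocus (CohB1.polyGrading n k)
      ({f} : Set (MvPolynomial (Fin (n + 1)) k))).Nonempty)
    (hX : ¬ X ⊆ ProjectiveSpectrum.zeroLocus (CohB1.polyGrading n k)
      ({f} : Set (MvPolynomial (Fin (n + 1)) k))) :
    (X ∩ ProjectiveSpectrum.zeroLocus (CohB1.polyGrading n k)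
        ({f} : Set (MvPolynomial (Fin (n + 1)) k))).Nonempty ∧
      ∀ C ∈ irreducibleComponents ↥(X ∩ ProjectiveSpectrum.zeroLocus (CohB1.polyGrading n k)
          ({f} : Set (MvPolynomial (Fin (n + 1)) k))),
        topologicalKrullDim ↥C + 1 = topologicalKrullDim ↥X := by
  -- the degree is positive
  have hd : 0 < d := by
    rcases Nat.eq_zero_or_pos d with rfl | hd
    · exfalso
      have hC := MvPolynomial.totalDegree_eq_zero_iff_eq_C.mp (Nat.le_zero.mp hf.totalDegree_le)
      obtain ⟨z, hz⟩ := hV
      have hz' : f ∈ z.asHomogeneousIdeal.toIdeal := hz rfl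
      by_cases h0 : f.coeff 0 = 0
      · refine hX fun w _ => ?_
        rw [hC, h0, map_zero]
        intro g hg
        have hg' : g = 0 := hg
        rw [hg']
        exact w.asHomogeneousIdeal.toIdeal.zero_mem
      · apply z.isPrime.ne_top
        refine Ideal.eq_top_of_isUnit_mem _ hz' ?_
        rw [hC]
        exact (isUnit_iff_ne_zero.mpr h0).map _
    · exact hd
  let Y : Set ↥(CohB1.ProjSpace n k) := X
  have hYi : IsIrreducible Y := hXi
  have hYc : IsClosed Y := hXc
  obtain ⟨ξ, hξ⟩ := QuasiSober.sober hYi hYc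
  have hYξ : Y = closure {ξ} := hξ.def.symm
  have hdimX : topologicalKrullDim ↥X = (VarietyB.DimSch.trd k (CohB1.ProjSpace n k) ξ : WithBot ℕ∞) := by
    rw [← K426.DimKit.dim_closure k, ← hYξ]
    rfl
  have hpos : 0 < VarietyB.DimSch.trd k (CohB1.ProjSpace n k) ξ := by
    rw [hdimX] at hXd
    exact_mod_cast hXd
  have hfξ : f ∉ K426.ProjCut.idl ξ := by
    intro hcon
    refine hX fun w hw => ?_
    have h1 : ξ ⤳ w := by
      rw [specializes_iff_mem_closure]
      rw [← hYξ]; exact hw
    intro g hg
    have hg' : g = f := hg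
    rw [hg']
    exact (K426.ProjCut.specializes_iff ξ w).mp h1 hcon
  constructor
  · obtain ⟨z, hz, hfz⟩ := K426.ProjCut.exists_mem_of_pos ξ hpos f d hd hf
    refine ⟨z, ?_, ?_⟩
    · change z ∈ Y
      rw [hYξ]; exact specializes_iff_mem_closure.mp hz
    · intro g hg
      have hg' : g = f := hg
      rw [hg']; exact hfz
  · intro C hC
    let W : Set ↥(CohB1.ProjSpace n k) := Y ∩ {z : CohB1.ProjSpace n k | f ∈ K426.ProjCut.idl z}
    have hW : IsClosed W := IsClosed.inter hXc (K426.ProjCut.isClosed_setOf_mem f)
    have hWe : W = X ∩ ProjectiveSpectrum.zeroLocus (CohB1.polyGrading n k)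
        ({f} : Set (MvPolynomial (Fin (n + 1)) k)) := by
      change Y ∩ _ = _
      rw [K426.ProjCut.setOf_mem_eq]
      rfl
    have main : ∀ (W' : Set ↥(CohB1.ProjSpace n k)) (_ : W' = W)
        (C : Set ↥W') (_ : C ∈ irreducibleComponents ↥W'),
        topologicalKrullDim ↥C + 1 = topologicalKrullDim ↥X := by
      intro W' hW' C hC
      have hW'c : IsClosed W' := by rw [hW']; exact hW
      obtain ⟨c, h1, h2, h3, h4⟩ := K426.Cut.exists_of_mem_irreducibleComponents
        (T := CohB1.ProjSpace n k) (W := W') hW'c hC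
      rw [hW'] at h2 h3
      have hξc : ξ ⤳ c := by
        rw [specializes_iff_mem_closure, ← hYξ]; exact h2.1
      have h5 := K426.ProjCut.trd_eq_add_one k hξc f d hf h2.2 hfξ (fun z hz hz' hfz =>
        h3 z ⟨by rw [hYξ]; exact specializes_iff_mem_closure.mp hz, hfz⟩ hz')
      refine (congrArg (fun a => a + 1) h4).trans ?_
      rw [hdimX, h5, K426.DimKit.dim_closure k]
      rfl
    exact main _ hWe.symm C hC

end Groth.Agent.S10822
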