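import Groth.Statements.S10825
-- import your own Groth.Agent.* helpers here
import Groth.Agent.FormalA.ConnDim
import Groth.Agent.FlatA.DimFin
import Mathlib.RingTheory.Norm.Transitivity
import Mathlib.FieldTheory.Minpoly.IsIntegrallyClosed

set_option autoImplicit false
universe u
open Topology
open CAlg

namespace Groth.Agent.S10825

/-- Let A → B be an injective integral homomorphism of integral domains with fraction fields K and L, L
a finite extension of K, and A integrally closed. For b in B the norm N_{L/K}(b) lies in A; if a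
denotes this element of A, then the image of the closed set V(b) of Spec B under Spec B → Spec A is
exactly V(a), and V(b) and V(a) have the same dimension. -/
theorem result
    (A B K L : Type u) [CommRing A] [IsDomain A] [CommRing B] [IsDomain B] [Algebra A B]
    [Field K] [Field L] [Algebra A K] [IsFractionRing A K] [Algebra B L] [IsFractionRing B L]
    [Algebra A L] [Algebra K L] [IsScalarTower A B L] [IsScalarTower A K L]
    [FiniteDimensional K L] [Algebra.IsIntegral A B] [IsIntegrallyClosed A]
    (hinj : Function.Injective (algebraMap A B))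
    (b : B) (a : A) (ha : algebraMap A K a = Algebra.norm K (algebraMap B L b)) :
    PrimeSpectrum.comap (algebraMap A B) '' PrimeSpectrum.zeroLocus ({b} : Set B) =
        PrimeSpectrum.zeroLocus ({a} : Set A) ∧
      topologicalKrullDim ↥(PrimeSpectrum.zeroLocus ({b} : Set B)) =
        topologicalKrullDim ↥(PrimeSpectrum.zeroLocus ({a} : Set A)) := by
  have hint : ∀ x : B, IsIntegral A (algebraMap B L x) := fun x =>
    (Algebra.IsIntegral.isIntegral (R := A) x).map (IsScalarTower.toAlgHom A B L)
  have hAK : Function.Injective (algebraMap A K) := IsFractionRing.injective A K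
  have hBL : Function.Injective (algebraMap B L) := IsFractionRing.injective B L
  have hAL : Function.Injective (algebraMap A L) := by
    rw [IsScalarTower.algebraMap_eq A K L]
    exact (algebraMap K L).injective.comp hAK
  -- the norm is divisible by `b` in `B`
  have hdvd : ∃ c : B, algebraMap A B a = b * c := by
    let P : Polynomial A := minpoly A b
    have hP : minpoly K (algebraMap B L b) = P.map (algebraMap A K) :=
      minpoly.isIntegrallyClosed_eq_field_fractions K L (Algebra.IsIntegral.isIntegral b)
    have hbK : IsIntegral K (algebraMap B L b) := (hint b).tower_top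
    have h1 : Algebra.norm K (IntermediateField.AdjoinSimple.gen K (algebraMap B L b)) =
        algebraMap A K ((-1) ^ (IntermediateField.adjoin.powerBasis hbK).dim * P.coeff 0) := by
      have h2 := Algebra.PowerBasis.norm_gen_eq_coeff_zero_minpoly (IntermediateField.adjoin.powerBasis hbK)
      rw [IntermediateField.adjoin.powerBasis_gen, IntermediateField.minpoly_gen, hP,
        Polynomial.coeff_map] at h2
      rw [h2, map_mul, map_pow, map_neg, map_one]
    have h2 := Algebra.norm_eq_norm_adjoin K (algebraMap B L b)
    rw [h1, ← ha, ← map_pow] at h2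
    have h3 := hAK h2
    obtain ⟨Q, hQ⟩ := Polynomial.X_dvd_sub_C (p := P)
    have h4 : algebraMap A B (P.coeff 0) = b * (- Polynomial.aeval b Q) := by
      have h5 := congrArg (Polynomial.aeval b) hQ
      rw [map_sub, Polynomial.aeval_C, map_mul, Polynomial.aeval_X, minpoly.aeval, zero_sub] at h5
      rw [mul_neg, ← h5, neg_neg]
    rw [h3]
    change b ∣ _
    rw [map_pow, map_mul]
    refine Dvd.dvd.pow ?_ (Module.finrank_pos (R := IntermediateField.adjoin K {algebraMap B L b}) (M := L)).ne'
    exact Dvd.dvd.mul_left ⟨_, h4⟩ _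
  have hsub : (Ideal.span ({b} : Set B)).comap (algebraMap A B) ≤ (Ideal.span ({a} : Set A)).radical := by
    intro c hc
    rw [Ideal.mem_comap, Ideal.mem_span_singleton] at hc
    obtain ⟨b', hb'⟩ := hc
    have h1 : IsIntegral A (Algebra.norm K (algebraMap B L b')) := Algebra.isIntegral_norm K (hint b')
    obtain ⟨a', ha'⟩ := (IsIntegrallyClosed.isIntegral_iff (R := A) (K := K)).mp h1
    refine ⟨Module.finrank K L, ?_⟩
    rw [Ideal.mem_span_singleton]
    refine ⟨a', hAK ?_⟩
    rw [map_mul, ha, ha', ← map_mul, ← map_mul, ← hb', ← IsScalarTower.algebraMap_apply,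
      IsScalarTower.algebraMap_apply A K L, Algebra.norm_algebraMap, map_pow]
  have himg : PrimeSpectrum.comap (algebraMap A B) '' PrimeSpectrum.zeroLocus ({b} : Set B) =
      PrimeSpectrum.zeroLocus (((Ideal.span ({b} : Set B)).comap (algebraMap A B) : Ideal A) : Set A) := by
    ext p
    constructor
    · rintro ⟨q, hq, rfl⟩
      rw [PrimeSpectrum.mem_zeroLocus]
      have h1 : Ideal.span ({b} : Set B) ≤ q.asIdeal := by
        rw [Ideal.span_le]; exact hq
      exact Ideal.comap_mono h1
    · intro hp
      obtain ⟨Q, hQ1, hQ2, hQ3⟩ := Ideal.exists_ideal_over_prime_of_isIntegral (S := B) p.asIdeal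
        (Ideal.span ({b} : Set B)) hp
      refine ⟨⟨Q, hQ2⟩, ?_, PrimeSpectrum.ext hQ3⟩
      rw [PrimeSpectrum.mem_zeroLocus]
      exact Set.singleton_subset_iff.mpr (hQ1 (Ideal.subset_span rfl))
  have hVa : PrimeSpectrum.zeroLocus (((Ideal.span ({b} : Set B)).comap (algebraMap A B) : Ideal A) : Set A) =
      PrimeSpectrum.zeroLocus ({a} : Set A) := by
    apply Set.Subset.antisymm
    · apply PrimeSpectrum.zeroLocus_anti_mono
      rw [Set.singleton_subset_iff, SetLike.mem_coe, Ideal.mem_comap, Ideal.mem_span_singleton]
      exact hdvd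
    · rw [← PrimeSpectrum.zeroLocus_span ({a} : Set A), ← PrimeSpectrum.zeroLocus_radical (Ideal.span ({a} : Set A))]
      exact PrimeSpectrum.zeroLocus_anti_mono hsub
  refine ⟨himg.trans hVa, ?_⟩
  let I : Ideal B := Ideal.span ({b} : Set B)
  let J : Ideal A := I.comap (algebraMap A B)
  rw [← hVa, ← PrimeSpectrum.zeroLocus_span ({b} : Set B),
    Groth.Agent.FormalA.ConnDim.topologicalKrullDim_zeroLocus,
    Groth.Agent.FormalA.ConnDim.topologicalKrullDim_zeroLocus]
  let _ : Algebra (A ⧸ J) (B ⧸ I) := (Ideal.quotientMap I (algebraMap A B) le_rfl).toAlgebra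
  have hInt : Algebra.IsIntegral (A ⧸ J) (B ⧸ I) := by
    have h1 : (algebraMap A B).IsIntegral := fun x => Algebra.IsIntegral.isIntegral (R := A) x
    exact ⟨fun x => (h1.quotient (I := I)) x⟩
  exact Groth.Agent.FlatA.DimFin.ringKrullDim_eq_of_isIntegral_of_injective (A ⧸ J) (B ⧸ I)
    (Ideal.quotientMap_injective)

end Groth.Agent.S10825
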