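import Groth.Statements.S10826
-- import your own Groth.Agent.* helpers here
import Groth.Agent.CAlg.K78.PowAut

set_option autoImplicit false
open CAlg

namespace Groth.Agent.S10826

open MvPowerSeries K78.PowAut

section

variable {R : Type*} [CommRing R] {n : ℕ}

theorem hasSubst_lin (P : Matrix (Fin n) (Fin n) R) :
    HasSubst (fun i : Fin n => ∑ j, C (P i j) * (X j : MvPowerSeries (Fin n) R)) :=
  hasSubst_of_constantCoeff_zero fun i => by simp

/-- Linear substitution. -/
noncomputable def lin (P : Matrix (Fin n) (Fin n) R) :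
    MvPowerSeries (Fin n) R →ₐ[R] MvPowerSeries (Fin n) R :=
  substAlgHom (hasSubst_lin P)

theorem lin_X (P : Matrix (Fin n) (Fin n) R) (i : Fin n) :
    lin P (X i) = ∑ j, C (P i j) * (X j : MvPowerSeries (Fin n) R) :=
  substAlgHom_X (hasSubst_lin P) i

theorem lin_lin (P Q : Matrix (Fin n) (Fin n) R) (h : Q * P = 1) (f : MvPowerSeries (Fin n) R) :
    lin P (lin Q f) = f := by
  refine eq_self_of_fix ((lin P).comp (lin Q)) (fun i => ?_) f
  rw [AlgHom.comp_apply, lin_X, map_sum]
  simp only [_root_.map_mul, K78.PowAut.map_C, lin_X, Finset.mul_sum]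
  rw [Finset.sum_comm]
  have h1 : ∀ k, ∑ j, C (Q i j) * (C (P j k) * (X k : MvPowerSeries (Fin n) R)) =
      C ((Q * P) i k) * X k := by
    intro k
    rw [Matrix.mul_apply, map_sum, Finset.sum_mul]
    refine Finset.sum_congr rfl fun j _ => ?_
    rw [_root_.map_mul]; ring
  rw [Finset.sum_congr rfl fun k _ => h1 k, h, Finset.sum_eq_single i]
  · rw [Matrix.one_apply_eq, _root_.map_one, one_mul]
  · intro k _ hk
    rw [Matrix.one_apply_ne (Ne.symm hk), _root_.map_zero, zero_mul]
  · intro h; exact (h (Finset.mem_univ i)).elim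

end

/-- Let R be a commutative ring, n ≥ 1, and φ an R-algebra homomorphism from the power series ring in n
variables over R to itself that sends each variable to a power series without constant term. If the
Jacobian matrix at the origin, whose (i, j) entry is the coefficient of X_j in φ(X_i), has
invertible determinant in R, then φ is an isomorphism (bijective). -/
theorem result
    (R : Type*) [CommRing R] (n : ℕ) (hn : 1 ≤ n)
    (φ : MvPowerSeries (Fin n) R →ₐ[R] MvPowerSeries (Fin n) R)
    (h0 : ∀ i, MvPowerSeries.constantCoeff (φ (MvPowerSeries.X i)) = 0)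
    (hJ : IsUnit (Matrix.det (Matrix.of fun i j : Fin n =>
      MvPowerSeries.coeff (Finsupp.single j 1) (φ (MvPowerSeries.X i))))) :
    Function.Bijective φ := by
  classical
  let M : Matrix (Fin n) (Fin n) R := Matrix.of fun i j : Fin n =>
      MvPowerSeries.coeff (Finsupp.single j 1) (φ (MvPowerSeries.X i))
  have hM : IsUnit M.det := hJ
  let N := M⁻¹
  have hNM : N * M = 1 := Matrix.nonsing_inv_mul M hM
  have hMN : M * N = 1 := Matrix.mul_nonsing_inv M hM
  have hlin : Function.Bijective (lin N) :=
    ⟨Function.LeftInverse.injective (g := lin M) (lin_lin M N hNM),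
      Function.RightInverse.surjective (g := lin M) (lin_lin N M hMN)⟩
  have hcomp : Function.Bijective (φ.comp (lin N)) := by
    apply bijective_of_unipotent
    intro i
    rw [mem_I_sq_iff, AlgHom.comp_apply, lin_X, _root_.map_sum]
    simp only [_root_.map_mul, K78.PowAut.map_C]
    constructor
    · rw [_root_.map_sub, _root_.map_sum, constantCoeff_X, sub_zero]
      refine Finset.sum_eq_zero fun j _ => ?_
      rw [_root_.map_mul, h0, mul_zero]
    · intro k
      rw [_root_.map_sub, _root_.map_sum]
      have h1 : ∀ j, coeff (Finsupp.single k 1) (C (N i j) * φ (X j)) = N i j * M j k := by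
        intro j
        rw [coeff_C_mul]; rfl
      rw [Finset.sum_congr rfl fun j _ => h1 j, ← Matrix.mul_apply, hNM, coeff_index_single_X,
        Matrix.one_apply, sub_eq_zero]
      by_cases hik : i = k
      · rw [if_pos hik, if_pos hik.symm]
      · rw [if_neg hik, if_neg (Ne.symm hik)]
  rw [AlgHom.coe_comp] at hcomp
  exact (Function.Bijective.of_comp_iff _ hlin).mp hcomp

end Groth.Agent.S10826
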