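import Groth.Statements.S10833
import Groth.Agent.VarietyB.DimRing
import Groth.Agent.VarietyB.CovBy
import Mathlib.RingTheory.KrullDimension.Field

set_option autoImplicit false
universe u
open Variety

namespace Groth.Agent.S10833

/-- Let k be a field and A a k-algebra of finite type that is an integral domain. Then every chain of
prime ideals of A admitting no refinement — it starts at the zero ideal, ends at a maximal ideal,
and no prime ideal lies strictly between two consecutive members — has length equal to the Krull
dimension of A. -/
theorem result (k A : Type u) [Field k] [CommRing A]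
    [IsDomain A] [Algebra k A] [Algebra.FiniteType k A] (c : LTSeries (PrimeSpectrum A))
    (h0 : c.head.asIdeal = ⊥) (hmax : c.last.asIdeal.IsMaximal)
    (hsat : ∀ i : Fin c.length, c i.castSucc ⋖ c i.succ) :
    (c.length : WithBot ℕ∞) = ringKrullDim A := by
  have key : ∀ i : Fin (c.length + 1),
      ringKrullDim A = ((i : ℕ) : WithBot ℕ∞) + ringKrullDim (A ⧸ (c i).asIdeal) := by
    intro i
    induction i using Fin.induction with
    | zero =>
      have h0' : (c 0).asIdeal = ⊥ := h0
      rw [h0']
      simpa using (ringKrullDim_eq_of_ringEquiv (RingEquiv.quotientBot A)).symm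
    | succ i ih =>
      rw [ih]
      have hcov := hsat i
      have hlt : (c i.castSucc).asIdeal < (c i.succ).asIdeal := hcov.lt
      have h1 : ((c i.succ).asIdeal.map (Ideal.Quotient.mk (c i.castSucc).asIdeal)).height = 1 := by
        refine VarietyB.CovBy.height_map_eq_one _ _ hlt.le hlt.ne ?_
        intro r hr hle1 hle2
        rcases hcov.wcovBy.eq_or_eq (c := ⟨r, hr⟩) hle1 hle2 with h | h
        · left; rw [← h]
        · right; rw [← h]
      rw [← VarietyB.DimRing.height_quotient_add_dim k hlt.le, h1]
      simp only [Fin.val_castSucc, Fin.val_succ, Nat.cast_add, Nat.cast_one]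
      rw [← add_assoc]
      rfl
  have hlast := key (Fin.last _)
  have hfield : ringKrullDim (A ⧸ (c (Fin.last _)).asIdeal) = 0 := by
    have hmax' : (c (Fin.last _)).asIdeal.IsMaximal := hmax
    let := Ideal.Quotient.field (c (Fin.last _)).asIdeal
    exact ringKrullDim_eq_zero_of_field _
  rw [hlast, hfield, add_zero]
  simp

end Groth.Agent.S10833
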