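import Groth.Statements.S10834
-- import your own Groth.Agent.* helpers here
import Groth.Agent.Sga3C.QSliceAlg
import Groth.Agent.Ega4A.RegCM
import Groth.Agent.CalgA.SerreCrit
import Groth.Agent.S0558

set_option autoImplicit false
universe u
open CAlg

namespace Groth.Agent.S10834

open IsLocalRing

theorem nonempty_quotient_equiv (A : Type u) [CommRing A] (J : Ideal A) (p : Ideal (A ⧸ J)) [hp : p.IsPrime] :
    Nonempty (Localization.AtPrime p ≃+* (Localization.AtPrime (p.comap (Ideal.Quotient.mk J)) ⧸
      J.map (algebraMap A (Localization.AtPrime (p.comap (Ideal.Quotient.mk J)))))) := by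
  let q : Ideal A := p.comap (Ideal.Quotient.mk J)
  have h3 : Algebra.algebraMapSubmonoid (A ⧸ J) q.primeCompl = p.primeCompl := by
    ext x
    obtain ⟨x, rfl⟩ := Ideal.Quotient.mk_surjective x
    constructor
    · rintro ⟨y, hy, hxy⟩
      intro hx
      have hxy' : Ideal.Quotient.mk J y = Ideal.Quotient.mk J x := hxy
      rw [← hxy'] at hx
      exact hy hx
    · intro hx
      exact ⟨x, hx, rfl⟩
  have h4 : IsLocalization.AtPrime (Localization.AtPrime q ⧸ J.map (algebraMap A (Localization.AtPrime q))) p := by
    have : IsLocalization (Algebra.algebraMapSubmonoid (A ⧸ J) q.primeCompl)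
      (Localization.AtPrime q ⧸ J.map (algebraMap A (Localization.AtPrime q))) := inferInstance
    rw [h3] at this
    exact this
  exact ⟨(IsLocalization.algEquiv p.primeCompl (Localization.AtPrime p)
    (Localization.AtPrime q ⧸ J.map (algebraMap A (Localization.AtPrime q)))).toRingEquiv⟩

theorem cm_quot (A : Type u) [CommRing A]
    (hreg : ∀ (p : Ideal A) (_ : p.IsPrime), IsRegularLocalRing (Localization.AtPrime p)) (f : A)
    (p : Ideal (A ⧸ Ideal.span ({f} : Set A))) [p.IsPrime] :
    LocCoh.IsCohenMacaulayLocalRing (Localization.AtPrime p) := by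
  let q : Ideal A := p.comap (Ideal.Quotient.mk (Ideal.span ({f} : Set A)))
  have hq : q.IsPrime := inferInstance
  have hregq : IsRegularLocalRing (Localization.AtPrime q) := hreg q hq
  obtain ⟨e⟩ := nonempty_quotient_equiv A (Ideal.span ({f} : Set A)) p
  let x : Localization.AtPrime q := algebraMap A _ f
  have hmap : (Ideal.span ({f} : Set A)).map (algebraMap A (Localization.AtPrime q)) = Ideal.span {x} := by
    rw [Ideal.map_span, Set.image_singleton]
  have hCM : LocCoh.IsCohenMacaulayLocalRing (Localization.AtPrime q) :=
    Groth.Agent.Ega4A.RegCM.isCohenMacaulayLocalRing_of_isRegularLocalRing _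
  have hCM2 : LocCoh.IsCohenMacaulayLocalRing (Localization.AtPrime q ⧸ Ideal.span {x}) := by
    by_cases hx : x = 0
    · have h1 : Ideal.span {x} = ⊥ := by rw [hx, Ideal.span_singleton_eq_bot]
      let e2 : Localization.AtPrime q ≃+* (Localization.AtPrime q ⧸ Ideal.span {x}) :=
        (RingEquiv.quotientBot _).symm.trans (Ideal.quotEquivOfEq h1.symm)
      exact Groth.Agent.CalgB.CMPoly.isCohenMacaulayLocalRing_of_ringEquiv e2
    · have hdom : IsDomain (Localization.AtPrime q) := Groth.Agent.S0558.result _
      refine Groth.Agent.Sga3C.QSliceAlg.isCM_quotient_span ?_ ?_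
      · rw [Localization.AtPrime.map_eq_maximalIdeal.symm]
        apply Ideal.mem_map_of_mem
        change Ideal.Quotient.mk _ f ∈ p
        have hf0 : Ideal.Quotient.mk (Ideal.span ({f} : Set A)) f = 0 :=
          Ideal.Quotient.eq_zero_iff_mem.mpr (Ideal.mem_span_singleton_self f)
        rw [hf0]
        exact p.zero_mem
      · intro a b hab
        exact mul_left_cancel₀ hx hab
  have e3 : (Localization.AtPrime q ⧸ Ideal.span {x}) ≃+* Localization.AtPrime p :=
    (Ideal.quotEquivOfEq hmap.symm).trans e.symm
  exact Groth.Agent.CalgB.CMPoly.isCohenMacaulayLocalRing_of_ringEquiv e3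

/-- Let A be a Noetherian ring whose localizations at all prime ideals are regular local rings, and f an
element of A generating a prime ideal, so that A/(f) is an integral domain (an integral hypersurface
in the regular affine scheme Spec A). Then A/(f) is normal (integrally closed in its fraction field)
if and only if it is regular in codimension 1, i.e. its localization at every prime at which the
local ring has dimension 1 is a regular local ring. -/
theorem result (A : Type u) [CommRing A]
    [IsNoetherianRing A] (hreg : ∀ (p : Ideal A) (_ : p.IsPrime), IsRegularLocalRing (Localization.AtPrime p))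
    (f : A) (hf : (Ideal.span ({f} : Set A)).IsPrime) :
    IsIntegrallyClosed (A ⧸ Ideal.span ({f} : Set A)) ↔
      ∀ q : PrimeSpectrum (A ⧸ Ideal.span ({f} : Set A)),
        ringKrullDim (Localization.AtPrime q.asIdeal) = 1 →
          IsRegularLocalRing (Localization.AtPrime q.asIdeal) := by
  let B := A ⧸ Ideal.span ({f} : Set A)
  have hdom : IsDomain B := Ideal.Quotient.isDomain _
  constructor
  · intro hB q hq
    have h1 : IsIntegrallyClosed (Localization.AtPrime q.asIdeal) :=
      isIntegrallyClosed_of_isLocalization _ q.asIdeal.primeCompl q.asIdeal.primeCompl_le_nonZeroDivisors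
    exact Groth.Agent.CalgA.SerreLocal.isRegularLocalRing_of_isIntegrallyClosed hq.le
  · intro h
    apply Groth.Agent.CalgA.SerreCrit.isIntegrallyClosed_of_hasRk_hasSk
    · intro p hp hle
      rcases eq_or_lt_of_le hle with h1 | h1
      · refine h ⟨p, hp⟩ ?_
        rw [IsLocalization.AtPrime.ringKrullDim_eq_height p (Localization.AtPrime p), h1]
        rfl
      · have h2 : p.height ≤ ((0 : ℕ) : ℕ∞) := by
          have h3 : p.height < 1 := by exact_mod_cast h1
          rw [Order.lt_one_iff] at h3
          rw [h3]; rfl
        exact Groth.Agent.CalgA.SerreCrit.hasRk_zero_of_isReduced p h2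
    · rw [Groth.Agent.CalgA.SerreLocal.hasSk_self_iff]
      intro p hp
      refine (min_le_right _ _).trans ?_
      have h1 := (cm_quot A hreg f p).supportDim_eq_depth
      rw [Module.supportDim_self_eq_ringKrullDim, IsLocalization.AtPrime.ringKrullDim_eq_height p] at h1
      have h2 : p.height = LocCoh.depth (Localization.AtPrime p) (Localization.AtPrime p) := by
        exact_mod_cast h1
      exact h2.le

end Groth.Agent.S10834
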