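import Groth.Statements.S10835
import Groth.Agent.Variety.K426.ModelIso
import Groth.Agent.Variety.K426.PrimEl

set_option autoImplicit false
universe u
open CategoryTheory AlgebraicGeometry
attribute [local instance] Curv2.stalkAlgebra
open Variety

namespace Groth.Agent.S10835

/-- Let k be a field and X an integral scheme of finite type over k whose function field admits a
transcendence basis s_1, …, s_d over k over which it is separable algebraic (this holds whenever the
function field is a separable extension of k in the sense of field theory, e.g. for k perfect, and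
then d = dim X). Then some nonempty open subscheme of X is isomorphic, over k, to a nonempty open
subscheme of Spec k[T_1, …, T_d][T]/(g) for a monic polynomial g over k[T_1, …, T_d] which is
irreducible and separable over the fraction field k(T_1, …, T_d). -/
theorem result (k : Type u) [Field k]
    (X : Scheme.{u}) [X.Over (Spec (CommRingCat.of k))] [IsIntegral X]
    [LocallyOfFiniteType (X ↘ Spec (CommRingCat.of k))] [QuasiCompact (X ↘ Spec (CommRingCat.of k))]
    (d : ℕ) (s : Fin d → X.presheaf.stalk (genericPoint X)) (hs : IsTranscendenceBasis k s)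
    (hsep : Algebra.IsSeparable ↥(IntermediateField.adjoin k (Set.range s)) (X.presheaf.stalk (genericPoint X))) :
    ∃ (g : Polynomial (MvPolynomial (Fin d) k)), g.Monic ∧
      Irreducible (g.map (algebraMap (MvPolynomial (Fin d) k) (FractionRing (MvPolynomial (Fin d) k)))) ∧
      (g.map (algebraMap (MvPolynomial (Fin d) k) (FractionRing (MvPolynomial (Fin d) k)))).Separable ∧
      ∃ (U : X.Opens) (V : (Spec (CommRingCat.of (AdjoinRoot g))).Opens) (e : (U : Scheme.{u}) ≅ (V : Scheme.{u})),
        (U : Set X).Nonempty ∧ (V : Set (Spec (CommRingCat.of (AdjoinRoot g)))).Nonempty ∧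
        e.hom ≫ V.ι ≫ Spec.map (CommRingCat.ofHom (algebraMap k (AdjoinRoot g))) =
          U.ι ≫ (X ↘ Spec (CommRingCat.of k)) := by
  have hess : Algebra.EssFiniteType k (X.presheaf.stalk (genericPoint X)) := by
    rw [← RingHom.essFiniteType_algebraMap]
    have h0 := congrArg CommRingCat.Hom.hom
      (Groth.Agent.VarietyB.ResMap.stalkMap_eq_comp k X (genericPoint X))
    have h1 : Curv2.stalkMap k X (genericPoint X) =
        ((X ↘ Spec (CommRingCat.of k)).stalkMap (genericPoint X)).hom.comp
        ((Scheme.ΓSpecIso (CommRingCat.of k)).inv ≫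
          (Spec (CommRingCat.of k)).presheaf.germ ⊤
            ((X ↘ Spec (CommRingCat.of k)) (genericPoint X)) trivial).hom := h0
    have h2 : (Curv2.stalkMap k X (genericPoint X)).EssFiniteType := by
      rw [h1]
      refine RingHom.EssFiniteType.comp ?_ (LocallyOfFiniteType.stalkMap _ (genericPoint X))
      exact Groth.Agent.VarietyB.ResMap.essFiniteType_germ_top (R := k)
        ((X ↘ Spec (CommRingCat.of k)) (genericPoint X))
    exact h2
  obtain ⟨g, hg, hirr, hgsep, φ, hφ, hfrac⟩ :=
    K426.PrimEl.exists_model (k := k) (F := X.functionField) d s hs hsep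
  refine ⟨g, hg, hirr, hgsep, ?_⟩
  let _ : Algebra (AdjoinRoot g) (X.presheaf.stalk (genericPoint X)) := φ.toRingHom.toAlgebra
  have _ : IsDomain (AdjoinRoot g) := hφ.isDomain φ.toRingHom
  have _ : IsScalarTower k (AdjoinRoot g) (X.presheaf.stalk (genericPoint X)) :=
    IsScalarTower.of_algebraMap_eq fun c => (φ.commutes c).symm
  have _ : IsFractionRing (AdjoinRoot g) (X.functionField) := by
    refine ⟨?_, ?_, ?_⟩
    · rintro ⟨y, hy⟩
      refine IsUnit.mk0 _ fun h => ?_
      exact nonZeroDivisors.ne_zero hy (hφ (h.trans (map_zero φ).symm))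
    · intro z
      obtain ⟨x, y, hy, hxy⟩ := hfrac z
      refine ⟨⟨x, ⟨y, mem_nonZeroDivisors_of_ne_zero fun h => hy ?_⟩⟩, hxy⟩
      rw [h, map_zero]
    · intro x y hxy
      refine ⟨1, ?_⟩
      rw [hφ hxy]
  have _ : Algebra.FiniteType k (AdjoinRoot g) := by
    have h1 : Algebra.FiniteType (MvPolynomial (Fin d) k) (AdjoinRoot g) := by
      infer_instance
    exact Algebra.FiniteType.trans (inferInstance : Algebra.FiniteType k (MvPolynomial (Fin d) k)) h1
  exact K426.ModelIso.exists_iso k X (AdjoinRoot g)

end Groth.Agent.S10835
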