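import Groth.Statements.S10837
import Mathlib.AlgebraicGeometry.Fiber
import Mathlib.AlgebraicGeometry.Noetherian
import Groth.Agent.Fdesc.QuasiCompactTop

set_option autoImplicit false
universe u
open CategoryTheory AlgebraicGeometry Topology
open Mor

namespace Groth.Agent.S10837

/-- For a morphism of schemes f : X → Y which is open as a map of topological spaces, generalizations
lift along f: every generalization of f(x) is the image of a generalization of x. -/
theorem result {X Y : Scheme.{u}} (f : X ⟶ Y) (hf : IsOpenMap f.base) :
    GeneralizingMap f.base := by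
  intro x y hy
  have hqc : QuasiCompact (f.fiberι y) :=
    inferInstanceAs (QuasiCompact (Limits.pullback.fst f (Y.fromSpecResidueField y)))
  have hx : x ∈ closure (Set.range (f.fiberι y)) := by
    rw [mem_closure_iff]
    intro W hW hxW
    obtain ⟨w, hw, hwy⟩ := hy.mem_open (hf W hW) ⟨x, hxW, rfl⟩
    refine ⟨w, hw, ?_⟩
    rw [Scheme.Hom.range_fiberι]
    exact hwy
  obtain ⟨z, hz⟩ := Fdesc.QuasiCompactTop.exists_specializes_of_mem_closure_range _ x hx
  refine ⟨f.fiberι y z, hz, ?_⟩
  have : f.fiberι y z ∈ Set.range (f.fiberι y) := ⟨z, rfl⟩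
  rw [Scheme.Hom.range_fiberι] at this
  exact this

end Groth.Agent.S10837
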