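import Groth.Statements.S10838
import Groth.Agent.S10837
import Groth.Agent.Mor.K386.TopDim

set_option autoImplicit false
universe u
open CategoryTheory AlgebraicGeometry Topology
open Mor

namespace Groth.Agent.S10838

/-- For a morphism of schemes f : X → Y which is open as a map of topological spaces, the Krull
dimension of the image f(X) (with the subspace topology from Y) is at most the Krull dimension of X. -/
theorem result {X Y : Scheme.{u}} (f : X ⟶ Y) (hf : IsOpenMap f.base) :
    topologicalKrullDim ↥(Set.range f.base) ≤ topologicalKrullDim ↥X := by
  have hg := S10837.result f hf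
  let U : Y.Opens := ⟨Set.range f.base, hf.isOpen_range⟩
  have : QuasiSober (Set.range f.base) := U.isOpen.isOpenEmbedding_subtypeVal.quasiSober
  refine K386.TopDim.topologicalKrullDim_le_of_generalizing (Set.rangeFactorization f.base) ?_
    Set.rangeFactorization_surjective
  intro x y hy
  obtain ⟨z, hz, hzy⟩ := hg (hy.map continuous_subtype_val)
  exact ⟨z, hz, Subtype.ext hzy⟩

end Groth.Agent.S10838
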