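import Groth.Statements.S10840
import Groth.Agent.Variety.K426.ProjGen

set_option autoImplicit false
universe u
open AlgebraicGeometry Topology
open Variety

namespace Groth.Agent.S10840

open K426.ProjCut K426.ProjGen VarietyB in
/-- For a field k and nonzero homogeneous polynomials f, g of positive degrees in three variables, the
common zero set V_+(f, g) in the projective plane over k is zero-dimensional as a topological
subspace exactly when f and g are coprime, i.e. their only common divisors are the non-zero
constants. -/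
theorem result (k : Type u) [Field k] (n m : ℕ)
    (f g : MvPolynomial (Fin 3) k) (hf : f.IsHomogeneous n) (hg : g.IsHomogeneous m)
    (hn : 0 < n) (hm : 0 < m) (hf0 : f ≠ 0) (hg0 : g ≠ 0) :
    topologicalKrullDim ↥(ProjectiveSpectrum.zeroLocus (CohB1.polyGrading 2 k)
        ({f, g} : Set (MvPolynomial (Fin 3) k))) = 0 ↔ IsRelPrime f g := by
  let W : Set ↥(CohB1.ProjSpace 2 k) := {z | f ∈ idl z} ∩ {z | g ∈ idl z}
  have hWc : IsClosed W := (isClosed_setOf_mem f).inter (isClosed_setOf_mem g)
  have hWe : (ProjectiveSpectrum.zeroLocus (CohB1.polyGrading 2 k)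
        ({f, g} : Set (MvPolynomial (Fin 3) k))) = W := by
    ext z
    change ({f, g} : Set (MvPolynomial (Fin 3) k)) ⊆ (idl (n := 2) z : Set _) ↔ _
    rw [Set.insert_subset_iff, Set.singleton_subset_iff]
    rfl
  rw [hWe]
  have key := K426.SetDim.dim_eq_iff k hWc 0
  refine Iff.trans (Iff.trans (by rfl) key) ?_
  constructor
  · rintro ⟨h1, -⟩
    intro h hhf hhg
    by_contra hu
    have hh0 : h ≠ 0 := by
      rintro rfl
      exact hf0 (zero_dvd_iff.mp hhf)
    obtain ⟨a, ha⟩ := K426.HomFactor.isHomogeneous_of_dvd hf hf0 hhf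
    have ha0 : 0 < a := by
      rcases Nat.eq_zero_or_pos a with rfl | h
      · exact absurd (K426.HomFactor.isUnit_of_isHomogeneous_zero ha hh0) hu
      · exact h
    obtain ⟨z, -, hz⟩ := exists_mem_of_pos (CohqA.ProjDim.gpt k 2)
      (by rw [trd_gpt]; exact two_pos) h a ha0 ha
    obtain ⟨h', b, hirr, hb, hdvd, hz'⟩ := exists_irreducible h hh0 ha z hz
    obtain ⟨c, hc⟩ := exists_point h' hirr hb z hz'
    have h2 := trd_of_idl_eq_span hb hirr.ne_zero hc
    have h3 := h1 c ⟨by
      change f ∈ idl c
      rw [hc]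
      exact Ideal.mem_span_singleton.mpr (hdvd.trans hhf), by
      change g ∈ idl c
      rw [hc]
      exact Ideal.mem_span_singleton.mpr (hdvd.trans hhg)⟩
    omega
  · intro hrel
    have hub : ∀ z ∈ W, DimSch.trd k (CohB1.ProjSpace 2 k) z ≤ 0 := by
      rintro z ⟨hzf, hzg⟩
      by_contra hpos
      push Not at hpos
      obtain ⟨h, a, hirr, ha, hdvd, hz⟩ := exists_irreducible f hf0 hf z hzf
      obtain ⟨c, hc⟩ := exists_point h hirr ha z hz
      have h2 := trd_of_idl_eq_span ha hirr.ne_zero hc
      have hcz : c ⤳ z := specializes_of_span hc hz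
      have hceq : c = z := by
        by_contra hne
        have := K426.Cut.trd_lt k hcz hne
        omega
      have h4 : g ∈ idl c := by rw [hceq]; exact hzg
      rw [hc, Ideal.mem_span_singleton] at h4
      exact hirr.not_isUnit (hrel hdvd h4)
    refine ⟨hub, ?_⟩
    obtain ⟨z, -, hz⟩ := exists_common_zero (CohqA.ProjDim.gpt k 2) (r := 2)
      (by rw [trd_gpt]) ![f, g] ![n, m] (by intro i; fin_cases i <;> assumption)
      (by intro i; fin_cases i <;> assumption)
    have hzW : z ∈ W := ⟨hz 0, hz 1⟩
    exact ⟨z, hzW, Nat.le_zero.mp (hub z hzW)⟩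

end Groth.Agent.S10840
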