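import Groth.Statements.S10842
import Groth.Agent.CycB.LocQuot
import Mathlib.RingTheory.IntegralClosure.IntegrallyClosed

set_option autoImplicit false
universe u
open CategoryTheory AlgebraicGeometry
open Variety

namespace Groth.Agent.S10842

/-- A quasi-compact scheme whose local rings at all closed points are integrally closed domains is
normal, i.e. all of its local rings are integrally closed domains. -/
theorem result (X : Scheme.{u}) [CompactSpace ↥X]
    (h : ∀ x : X, IsClosed ({x} : Set X) →
      IsDomain (X.presheaf.stalk x) ∧ IsIntegrallyClosed (X.presheaf.stalk x)) :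
    Pi1.IsNormalScheme X := by
  intro x
  obtain ⟨z, hz, hzc⟩ := (isClosed_closure (s := ({x} : Set X))).exists_closed_singleton
    ⟨x, subset_closure rfl⟩
  have hxz : x ⤳ z := specializes_iff_mem_closure.mpr hz
  obtain ⟨hd, hn⟩ := h z hzc
  let := (X.presheaf.stalkSpecializes hxz).hom.toAlgebra
  have hloc : IsLocalization.AtPrime (X.presheaf.stalk x) (RingHom.ker (Cyc.specMap z x hxz)) :=
    CycB.LocQuot.isLocalization_stalkSpecializes hxz
  have hle : (RingHom.ker (Cyc.specMap z x hxz)).primeCompl ≤ nonZeroDivisors _ :=
    Ideal.primeCompl_le_nonZeroDivisors _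
  exact ⟨IsLocalization.isDomain_of_le_nonZeroDivisors (X.presheaf.stalk x) hle,
    isIntegrallyClosed_of_isLocalization _ (RingHom.ker (Cyc.specMap z x hxz)).primeCompl hle⟩

end Groth.Agent.S10842
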