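import Groth.Statements.S10843
-- import your own Groth.Agent.* helpers here
import Groth.Agent.FlatA.DimFin
import Mathlib.RingTheory.NoetherNormalization
import Mathlib.RingTheory.KrullDimension.Polynomial
import Mathlib.RingTheory.KrullDimension.Field

set_option autoImplicit false
universe u
open CAlg

namespace Groth.Agent.S10843

/-- For a field k, a nonzero finitely generated k-algebra A and a natural number d, the algebra A has
Krull dimension d exactly when some injective k-algebra map from the polynomial ring in d variables
over k to A makes A a finite module over that polynomial ring. -/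
theorem result (k A : Type u) [Field k]
    [CommRing A] [Nontrivial A] [Algebra k A] [Algebra.FiniteType k A] (d : ℕ) :
    ringKrullDim A = (d : WithBot ℕ∞) ↔
      ∃ φ : MvPolynomial (Fin d) k →ₐ[k] A, φ.toRingHom.Finite ∧ Function.Injective φ := by
  have key : ∀ (n : ℕ) (φ : MvPolynomial (Fin n) k →ₐ[k] A), φ.toRingHom.Finite →
      Function.Injective φ → ringKrullDim A = (n : WithBot ℕ∞) := by
    intro n φ hf hi
    let _ : Algebra (MvPolynomial (Fin n) k) A := φ.toRingHom.toAlgebra
    have : Module.Finite (MvPolynomial (Fin n) k) A := hf
    rw [Groth.Agent.FlatA.DimFin.ringKrullDim_eq_of_isIntegral_of_injective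
      (MvPolynomial (Fin n) k) A hi, MvPolynomial.ringKrullDim_of_isNoetherianRing,
      ringKrullDim_eq_zero_of_field]
    simp
  constructor
  · intro h
    obtain ⟨s, g, hg, hgf⟩ := exists_finite_inj_algHom_of_fg k A
    have h1 := key s g hgf hg
    rw [h] at h1
    have h2 : d = s := by exact_mod_cast h1
    subst h2
    exact ⟨g, hgf, hg⟩
  · rintro ⟨φ, hf, hi⟩
    exact key d φ hf hi

end Groth.Agent.S10843
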