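import Groth.Statements.S10852
import Groth.Agent.Grass.K652.CoverS

set_option autoImplicit false
universe u
open Grass

namespace Groth.Agent.S10852

open AlgebraicGeometry CategoryTheory in
/-- Let R be a commutative ring and k < n natural numbers. Suppose the scheme X over Spec R represents
the Grassmannian functor of rank-k locally free quotients of the free module R^n (bijections,
compatible with base change along R-algebra maps, between Spec R-morphisms Spec A → X and submodules
of A^n whose quotient is finite projective of constant rank k). Then the structure morphism X → Spec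
R is smooth of relative dimension k(n − k), and X has a finite open covering by subschemes each
isomorphic over Spec R to affine space of dimension k(n − k). -/
theorem result (R : Type u) [CommRing R]
    (n k : ℕ) (hk : k < n) (X : Over (Spec (CommRingCat.of R)))
    (e : ∀ A : CommAlgCat.{u} R,
      (Over.mk (Spec.map (CommRingCat.ofHom (algebraMap R A))) ⟶ X) ≃
        (Module.Grassmannian.functor (R := R) (M := Fin n → R) k).obj A)
    (he : ∀ (A B : CommAlgCat.{u} R) (φ : A ⟶ B)
      (g : Over.mk (Spec.map (CommRingCat.ofHom (algebraMap R A))) ⟶ X)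
      (g' : Over.mk (Spec.map (CommRingCat.ofHom (algebraMap R B))) ⟶ X),
      g'.left = Spec.map (CommRingCat.ofHom φ.hom.toRingHom) ≫ g.left →
        e B g' = (Module.Grassmannian.functor (R := R) (M := Fin n → R) k).map φ (e A g)) :
    SmoothOfRelativeDimension (k * (n - k)) X.hom ∧
      ∃ (ι : Type) (_ : Finite ι) (U : ι → X.left.Opens), ⨆ i, U i = ⊤ ∧
        ∀ i, Nonempty (Over.mk ((U i).ι ≫ X.hom) ≅
          Over.mk (𝔸(ULift.{u} (Fin (k * (n - k))); Spec (CommRingCat.of R)) ↘ Spec (CommRingCat.of R))) := by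
  obtain ⟨G, r, hc, hcov⟩ := Groth.Agent.Fga.Grass.exists_grass.{u} (Fin n) k
  obtain ⟨i, -⟩ := K652.BaseR.exists_iso_GR (LinearEquiv.refl R (Fin n → R)) r X e he
  have hi : IsIso i.hom.left := inferInstanceAs (IsIso ((Over.forget _).map i.hom))
  have hw : i.hom.left ≫ K652.CoverS.GS.p G (Spec (CommRingCat.of R)) = X.hom := Over.w i.hom
  refine ⟨?_, {f : Fin k → Fin n // Function.Injective f}, inferInstance, ?_⟩
  · rw [← hw, MorphismProperty.cancel_left_of_respectsIso (P := @SmoothOfRelativeDimension (k * (n - k)))]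
    exact K652.CoverS.smooth_p r hc hcov _
  have hc' : ∀ f : {f : Fin k → Fin n // Function.Injective f},
      IsOpenImmersion (K652.CoverS.chS r f.1 (Spec (CommRingCat.of R))) := by
    intro f
    have h1 : IsOpenImmersion (Groth.Agent.Fga.Plucker489.chart r f.1) := hc f.1
    exact K652.CoverS.isOpenImmersion_map _ _
  refine ⟨fun f => (K652.CoverS.chS r f.1 (Spec (CommRingCat.of R)) ≫ inv i.hom.left).opensRange, ?_, ?_⟩
  · rw [eq_top_iff]
    intro p _
    obtain ⟨f, hf, z, hz⟩ := K652.CoverS.chS_cover r hcov (Spec (CommRingCat.of R)) (i.hom.left p)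
    refine TopologicalSpace.Opens.mem_iSup.2 ⟨⟨f, hf⟩, z, ?_⟩
    rw [Scheme.Hom.comp_apply, hz, ← Scheme.Hom.comp_apply, IsIso.hom_inv_id]
    rfl
  · intro f
    let c := K652.CoverS.chS r f.1 (Spec (CommRingCat.of R)) ≫ inv i.hom.left
    have h1 : c ≫ X.hom = K652.CoverS.chS r f.1 (Spec (CommRingCat.of R)) ≫ K652.CoverS.GS.p G _ := by
      rw [← hw]
      simp [c]
    refine ⟨Over.isoMk (c.isoOpensRange.symm ≪≫ K652.ChartAff.chartPullIso f.2 _) ?_⟩
    change (c.isoOpensRange.inv ≫ (K652.ChartAff.chartPullIso f.2 _).hom) ≫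
      (𝔸(ULift.{u} (Fin (k * (n - k))); Spec (CommRingCat.of R)) ↘ Spec (CommRingCat.of R)) =
        c.opensRange.ι ≫ X.hom
    rw [Category.assoc, K652.ChartAff.chartPullIso_over, Iso.inv_comp_eq, ← Category.assoc,
      Scheme.Hom.isoOpensRange_hom_ι, h1, K652.CoverS.GS.map_p]

end Groth.Agent.S10852
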