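import Groth.Statements.S10859
import Groth.Agent.Grass.K652.ComapGr

set_option autoImplicit false
universe u
open Grass

namespace Groth.Agent.S10859

open AlgebraicGeometry CategoryTheory in
/-- Let R be a commutative ring, v : M₁ → M₂ a surjective homomorphism of R-modules and k a natural
number. Suppose X₁ and X₂ are schemes over Spec R representing the Grassmannian functors of rank-k
locally free quotients of M₁ and of M₂ (bijections e₁, e₂ between Spec R-morphisms Spec A → X_i and
submodules of A ⊗_R M_i with finite projective quotient of constant rank k, compatible with base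
change along R-algebra maps). Then there is a Spec R-morphism c : X₂ → X₁ which on A-valued points
sends a submodule N of A ⊗_R M₂ to its preimage under A ⊗ v, and every such c is a closed immersion.
(The published statement is for a surjection of quasi-coherent modules over an arbitrary base
scheme, where the two Grassmannians are known to be schemes; this row takes the base affine and the
two representing schemes as hypotheses, with no finiteness condition on the modules.) -/
theorem result (R : Type u) [CommRing R]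
    (M₁ M₂ : Type u) [AddCommGroup M₁] [Module R M₁]
    [AddCommGroup M₂] [Module R M₂]
    (v : M₁ →ₗ[R] M₂) (hv : Function.Surjective v) (k : ℕ)
    (X₁ X₂ : Over (Spec (CommRingCat.of R)))
    (e₁ : ∀ A : CommAlgCat.{u} R,
      (Over.mk (Spec.map (CommRingCat.ofHom (algebraMap R A))) ⟶ X₁) ≃
        (Module.Grassmannian.functor (R := R) (M := M₁) k).obj A)
    (he₁ : ∀ (A B : CommAlgCat.{u} R) (φ : A ⟶ B)
      (g : Over.mk (Spec.map (CommRingCat.ofHom (algebraMap R A))) ⟶ X₁)
      (g' : Over.mk (Spec.map (CommRingCat.ofHom (algebraMap R B))) ⟶ X₁),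
      g'.left = Spec.map (CommRingCat.ofHom φ.hom.toRingHom) ≫ g.left →
        e₁ B g' = (Module.Grassmannian.functor (R := R) (M := M₁) k).map φ (e₁ A g))
    (e₂ : ∀ A : CommAlgCat.{u} R,
      (Over.mk (Spec.map (CommRingCat.ofHom (algebraMap R A))) ⟶ X₂) ≃
        (Module.Grassmannian.functor (R := R) (M := M₂) k).obj A)
    (he₂ : ∀ (A B : CommAlgCat.{u} R) (φ : A ⟶ B)
      (g : Over.mk (Spec.map (CommRingCat.ofHom (algebraMap R A))) ⟶ X₂)
      (g' : Over.mk (Spec.map (CommRingCat.ofHom (algebraMap R B))) ⟶ X₂),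
      g'.left = Spec.map (CommRingCat.ofHom φ.hom.toRingHom) ≫ g.left →
        e₂ B g' = (Module.Grassmannian.functor (R := R) (M := M₂) k).map φ (e₂ A g)) :
    (∃ c : X₂ ⟶ X₁, ∀ (A : CommAlgCat.{u} R)
        (g : Over.mk (Spec.map (CommRingCat.ofHom (algebraMap R A))) ⟶ X₂),
        (e₁ A (g ≫ c)).toSubmodule = (e₂ A g).toSubmodule.comap (v.baseChange A)) ∧
      ∀ c : X₂ ⟶ X₁, (∀ (A : CommAlgCat.{u} R)
        (g : Over.mk (Spec.map (CommRingCat.ofHom (algebraMap R A))) ⟶ X₂),
        (e₁ A (g ≫ c)).toSubmodule = (e₂ A g).toSubmodule.comap (v.baseChange A)) →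
        IsClosedImmersion c.left := by
  have hnat : ∀ (A B : CommAlgCat.{u} R) (φ : A ⟶ B)
      (g : Over.mk (Spec.map (CommRingCat.ofHom (algebraMap R A))) ⟶ X₂)
      (g' : Over.mk (Spec.map (CommRingCat.ofHom (algebraMap R B))) ⟶ X₂),
      g'.left = Spec.map (CommRingCat.ofHom φ.hom.toRingHom) ≫ g.left →
      Module.Grassmannian.map φ.hom (K652.ComapGr.comapPt v hv A (e₂ A g)) =
        K652.ComapGr.comapPt v hv B (e₂ B g') := by
    intro A B φ g g' h
    rw [K652.ComapGr.map_comapPt, he₂ A B φ g g' h]
    rfl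
  constructor
  · obtain ⟨c, hc⟩ := K652.AffYoneda.exists_hom (X := X₂) (Y := X₁)
      (τ := fun A g => (e₁ A).symm (K652.ComapGr.comapPt v hv A (e₂ A g))) (by
        intro A B φ g g' h
        have h1 : (K652.AffYoneda.bcPt φ ≫ (e₁ A).symm (K652.ComapGr.comapPt v hv A (e₂ A g))) =
            (e₁ B).symm (K652.ComapGr.comapPt v hv B (e₂ B g')) := by
          apply (e₁ B).injective
          rw [Equiv.apply_symm_apply, he₁ A B φ ((e₁ A).symm (K652.ComapGr.comapPt v hv A (e₂ A g))) _ rfl,
            Equiv.apply_symm_apply]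
          exact hnat A B φ g g' h
        exact (congrArg CommaMorphism.left h1).symm)
    refine ⟨c, fun A g => ?_⟩
    rw [show g ≫ c = (e₁ A).symm (K652.ComapGr.comapPt v hv A (e₂ A g)) from hc A g, Equiv.apply_symm_apply]
    rfl
  · intro c hc
    have hc' : ∀ (A : CommAlgCat.{u} R) (g : Grass.specOver R A ⟶ X₂),
        e₁ A (g ≫ c) = K652.ComapGr.comapPt v hv A (e₂ A g) := fun A g =>
      Module.Grassmannian.ext (hc A g)
    apply K652.ClosedPts.isClosedImmersion_of_pts c
    · intro A g g' h
      apply (e₂ A).injective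
      apply K652.ComapGr.comapPt_injective v hv A
      rw [← hc', ← hc', h]
    · intro A g
      obtain ⟨I, hI⟩ := K652.ClosedPts.exists_ideal_mem (e₁ A g) ((fun w => (1 : A) ⊗ₜ[R] w) '' (LinearMap.ker v : Set M₁))
      refine ⟨I, fun B φ g' h => ?_⟩
      rw [← hI B φ.hom, Set.forall_mem_image]
      have h1 : (∃ g'' : Grass.specOver R B ⟶ X₂, g'' ≫ c = g') ↔
          ∃ N', K652.ComapGr.comapPt v hv B N' = e₁ B g' := by
        constructor
        · rintro ⟨g'', rfl⟩
          exact ⟨_, (hc' B g'').symm⟩
        · rintro ⟨N', hN'⟩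
          refine ⟨(e₂ B).symm N', (e₁ B).injective ?_⟩
          rw [hc', ← hN']
          exact congrArg _ (Equiv.apply_symm_apply _ _)
      refine h1.trans ((K652.ComapGr.exists_comapPt_iff v hv _).trans ?_)
      rw [he₁ A B φ g g' h]
      refine forall₂_congr fun w hw => ?_
      rw [K652.MapSpan.bcM_tmul, map_one]
      rfl

end Groth.Agent.S10859
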