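import Groth.Statements.S10863
import Mathlib.FieldTheory.SeparableDegree
import Mathlib.RingTheory.LocalRing.ResidueField.Ideal
import Mathlib.RingTheory.Artinian.Ring
import Mathlib.RingTheory.TensorProduct.Finite
import Mathlib.Algebra.BigOperators.Finprod
import Mathlib.SetTheory.Cardinal.Finite

set_option autoImplicit false
universe u
open CAlg

namespace Groth.Agent.S10863

/-- Homs to a field are classified by a maximal ideal and a hom from the residue field. -/
theorem hom_bijective (k T Ω : Type u) [Field k] [CommRing T] [Algebra k T] [Module.Finite k T]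
    [Field Ω] [Algebra k Ω] :
    Function.Bijective (fun x : (Σ m : MaximalSpectrum T, (m.asIdeal.ResidueField →ₐ[k] Ω)) =>
      x.2.comp (IsScalarTower.toAlgHom k T x.1.asIdeal.ResidueField)) := by
  have hart : IsArtinianRing T := IsArtinianRing.of_finite k T
  have hker : ∀ (m : MaximalSpectrum T) (g : m.asIdeal.ResidueField →ₐ[k] Ω),
      RingHom.ker (g.comp (IsScalarTower.toAlgHom k T m.asIdeal.ResidueField)) = m.asIdeal := by
    intro m g
    ext x
    rw [RingHom.mem_ker]
    change g (algebraMap T _ x) = 0 ↔ _
    rw [map_eq_zero_iff g g.toRingHom.injective, Ideal.algebraMap_residueField_eq_zero]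
  constructor
  · rintro ⟨m, g⟩ ⟨m', g'⟩ h
    simp only at h
    have hm : m = m' := by
      have h1 := hker m g
      rw [h, hker m' g'] at h1
      exact MaximalSpectrum.ext h1.symm
    subst hm
    have := Ideal.ResidueField.algHom_ext h
    rw [this]
  · intro f
    have hp : (RingHom.ker f).IsPrime := RingHom.ker_isPrime f
    have hm : (RingHom.ker f).IsMaximal := inferInstance
    refine ⟨⟨⟨RingHom.ker f, hm⟩, Ideal.ResidueField.liftₐ (RingHom.ker f) f le_rfl ?_⟩, ?_⟩
    · intro x hx
      exact isUnit_iff_ne_zero.mpr hx
    · exact Ideal.ResidueField.liftₐ_comp_toAlgHom _ _ _ _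

theorem hom_bijective_local (k A Ω : Type u) [Field k] [CommRing A] [Algebra k A] [Module.Finite k A]
    [IsLocalRing A] [Field Ω] [Algebra k Ω] :
    Function.Bijective (fun g : IsLocalRing.ResidueField A →ₐ[k] Ω =>
      g.comp (IsScalarTower.toAlgHom k A (IsLocalRing.ResidueField A))) := by
  have hart : IsArtinianRing A := IsArtinianRing.of_finite k A
  constructor
  · intro g g' h
    refine AlgHom.ext fun x => ?_
    obtain ⟨a, rfl⟩ := IsLocalRing.residue_surjective x
    exact DFunLike.congr_fun h a
  · intro f
    have hp : (RingHom.ker f).IsPrime := RingHom.ker_isPrime f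
    have hm : (RingHom.ker f).IsMaximal := inferInstance
    have he : RingHom.ker f = IsLocalRing.maximalIdeal A := IsLocalRing.eq_maximalIdeal hm
    refine ⟨Ideal.Quotient.liftₐ (IsLocalRing.maximalIdeal A) f ?_, ?_⟩
    · intro a ha
      rw [← he] at ha
      exact ha
    · ext a
      rfl

open TensorProduct in
/-- Let k be a field, A a finite-dimensional local k-algebra with residue field κ, and k' a field
extension of k. Then the separable degree of κ over k equals the sum over the maximal ideals m' of
k' ⊗_k A (the points of the base-changed finite scheme lying over the given point) of the separable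
degrees over k' of their residue fields. -/
theorem result (k A k' : Type u) [Field k] [CommRing A] [Algebra k A]
    [Module.Finite k A] [IsLocalRing A] [Field k'] [Algebra k k'] :
    Field.finSepDegree k (IsLocalRing.ResidueField A) =
      ∑ᶠ m : MaximalSpectrum (k' ⊗[k] A),
        Field.finSepDegree k' (IsLocalRing.ResidueField (Localization.AtPrime m.asIdeal)) := by
  classical
  let T := k' ⊗[k] A
  have hart : IsArtinianRing T := IsArtinianRing.of_finite k' T
  let Ω := AlgebraicClosure k'
  have hfinκ : Module.Finite k (IsLocalRing.ResidueField A) :=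
    Module.Finite.of_surjective (IsScalarTower.toAlgHom k A (IsLocalRing.ResidueField A)).toLinearMap
      IsLocalRing.residue_surjective
  have hfin : ∀ m : MaximalSpectrum T, Module.Finite k' m.asIdeal.ResidueField := fun m =>
    Module.Finite.of_surjective (IsScalarTower.toAlgHom k' T m.asIdeal.ResidueField).toLinearMap
      (Ideal.algebraMap_residueField_surjective m.asIdeal)
  have : Fintype (MaximalSpectrum T) := Fintype.ofFinite _
  rw [finsum_eq_sum_of_fintype]
  have h1 : Field.finSepDegree k (IsLocalRing.ResidueField A) = Nat.card (T →ₐ[k'] Ω) := by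
    rw [Field.finSepDegree_eq_of_isAlgClosed k (IsLocalRing.ResidueField A) Ω,
      Nat.card_congr (Equiv.ofBijective _ (hom_bijective_local k A Ω))]
    exact Nat.card_congr (AlgHom.liftEquiv k k' A Ω)
  have h2 : ∀ m : MaximalSpectrum T,
      Field.finSepDegree k' (IsLocalRing.ResidueField (Localization.AtPrime m.asIdeal)) =
        Nat.card (m.asIdeal.ResidueField →ₐ[k'] Ω) := fun m =>
    Field.finSepDegree_eq_of_isAlgClosed k' m.asIdeal.ResidueField Ω
  rw [h1, Finset.sum_congr rfl fun m _ => h2 m,
    ← Nat.card_congr (Equiv.ofBijective _ (hom_bijective k' T Ω)), Nat.card_sigma]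

end Groth.Agent.S10863
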