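import Groth.Statements.S10866
import Groth.Agent.Coherent.K47.DevTwo

set_option autoImplicit false
universe u
open Coherent

namespace Groth.Agent.S10866

open CategoryTheory AlgebraicGeometry in
/-- Let f : X → Y be a morphism of Noetherian schemes such that for every integral closed subscheme i :
Z → X there is a coherent O_Z-module with nonzero stalk at the generic point of Z whose direct image
under i followed by f is coherent on Y. Then the direct image f_*F of every coherent O_X-module F is
coherent. -/
theorem result {X Y : Scheme.{u}} [IsNoetherian X] [IsNoetherian Y]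
    (f : X ⟶ Y)
    (hgen : ∀ (Z : Scheme.{u}) (i : Z ⟶ X) [IsClosedImmersion i] [IsIntegral Z],
      ∃ H : Z.Modules, Coh.IsCoh H ∧ Nontrivial (H.presheaf.stalk (genericPoint Z)) ∧
        Coh.IsCoh ((Scheme.Modules.pushforward (i ≫ f)).obj H))
    (F : X.Modules) (hF : Coh.IsCoh F) : Coh.IsCoh ((Scheme.Modules.pushforward f).obj F) := by
  have hqc : QuasiCompact f := inferInstance
  have hqs : QuasiSeparated f := inferInstance
  have hq : ∀ M : X.Modules, Coh.IsQCoh M → Coh.IsQCoh ((Scheme.Modules.pushforward f).obj M) :=
    fun M hM => Groth.Agent.Sga67.CohBasic.isQCoh_push f hM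
  have : (Scheme.Modules.pushforward f).IsRightAdjoint :=
    (Scheme.Modules.pullbackPushforwardAdjunction f).isRightAdjoint
  have hfl : Limits.PreservesFiniteLimits (Scheme.Modules.pushforward f) := inferInstance
  have hlim : Limits.PreservesLimitsOfSize.{0, 0} (Scheme.Modules.pushforward f) := inferInstance
  rcases isEmpty_or_nonempty X with hX | hX
  · have hz : Limits.IsZero F := by
      apply Groth.Agent.Ega3B.Devissage.isZero_of_support_eq_empty
      rw [Set.eq_empty_iff_forall_notMem]
      exact fun x => isEmptyElim x
    exact Groth.Agent.PerfA.CohSerre.isCoh_of_isZero ((Scheme.Modules.pushforward f).map_isZero hz)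
  let K : ObjectProperty X.Modules := fun M => Coh.IsCoh ((Scheme.Modules.pushforward f).obj M)
  have hK : K.IsClosedUnderIsomorphisms := ⟨fun {M N} e h =>
    Groth.Agent.Sga67.CohBasic.isCoh_of_iso ((Scheme.Modules.pushforward f).mapIso e) h⟩
  refine Groth.Agent.Coherent.K47.DevTwo.devissage_two K ?_ ?_ ?_ F hF
  · intro S hS h1 h2 h3
    constructor
    · intro hK2 hK3
      have := hS.mono_f
      have : Mono ((Scheme.Modules.pushforward f).map S.f) := inferInstance
      exact Groth.Agent.CycB.CohProp.isCoh_of_mono ((Scheme.Modules.pushforward f).map S.f) (hq _ h1.1) hK2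
    · intro hK1 hK3
      let p := (Scheme.Modules.pushforward f).map S.g
      have hk : Coh.IsCoh (Limits.kernel p) := by
        have hl : Limits.IsLimit (Limits.KernelFork.ofι ((Scheme.Modules.pushforward f).map S.f)
            (by rw [← Functor.map_comp, S.zero, Functor.map_zero])) :=
          Limits.KernelFork.mapIsLimit _ hS.fIsKernel (Scheme.Modules.pushforward f)
        exact Groth.Agent.Sga67.CohBasic.isCoh_of_iso
          (hl.conePointUniqueUpToIso (Limits.limit.isLimit _)) hK1
      have hi : Coh.IsCoh (Abelian.image p) :=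
        Groth.Agent.CycB.CohProp.isCoh_of_mono (Abelian.image.ι p)
          (Groth.Agent.CohqB.QC4.isQuasicoherent_kernel (Limits.cokernel.π p) hK3.1
            (Groth.Agent.CohqB.QC6.isQCoh_cokernel p (hq _ h2.1) hK3.1)) hK3
      exact Groth.Agent.CycB.CohProp.isCoh_extension _ (Groth.Agent.Ega3B.Devissage.image_ses₁ p) hk hi
  · intro M d hd hM hKM
    let k : Fin d := ⟨0, hd⟩
    let π := Groth.Agent.Coherent.K47.GenFree.proj (X := X) M k
    have h1 : Limits.Sigma.ι (fun _ : Fin d => M) k ≫ π = 𝟙 M := by
      refine (Limits.Sigma.ι_desc _ _).trans (if_pos rfl)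
    have h2 : (Scheme.Modules.pushforward f).map (Limits.Sigma.ι (fun _ : Fin d => M) k) ≫
        (Scheme.Modules.pushforward f).map π = 𝟙 _ := by
      rw [← Functor.map_comp, h1]
      exact (Scheme.Modules.pushforward f).map_id M
    have h3 : Epi ((Scheme.Modules.pushforward f).map π) :=
      ⟨fun a b hab => by rw [← Category.id_comp a, ← Category.id_comp b, ← h2, Category.assoc, hab,
        ← Category.assoc]⟩
    exact Groth.Agent.CycB.CohProp.isCoh_of_epi ((Scheme.Modules.pushforward f).map π) hKM (hq _ hM.1)
  · intro Z i _ _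
    obtain ⟨H, h1, h2, h3⟩ := hgen Z i
    exact ⟨H, h1, h2, h3⟩

end Groth.Agent.S10866
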