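import Groth.Statements.S10871
import Mathlib.RingTheory.DedekindDomain.Factorization
import Mathlib.RingTheory.Nakayama
import Mathlib.AlgebraicGeometry.Morphisms.Affine

set_option autoImplicit false
universe u
open AlgebraicGeometry
open Curves

namespace Groth.Agent.S10871

theorem exists_ideal {A : Type u} [CommRing A] (S : Set (PrimeSpectrum A)) (hS : IsOpen S) :
    ∃ J : Ideal A, ∀ x : PrimeSpectrum A, x ∈ S ↔ ¬ J ≤ x.asIdeal := by
  refine ⟨PrimeSpectrum.vanishingIdeal Sᶜ, fun x => ?_⟩
  have h1 : x ∈ PrimeSpectrum.zeroLocus (PrimeSpectrum.vanishingIdeal Sᶜ : Set A) ↔ x ∈ Sᶜ := by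
    rw [PrimeSpectrum.zeroLocus_vanishingIdeal_eq_closure, hS.isClosed_compl.closure_eq]
  rw [PrimeSpectrum.mem_zeroLocus] at h1
  constructor
  · intro hx h
    exact (h1.mp h) hx
  · intro h
    by_contra hx
    exact h (h1.mpr hx)

/-- Every open subscheme of the spectrum of a Dedekind domain is affine. -/
theorem result (A : Type u) [CommRing A] [IsDedekindDomain A]
    (U : (Spec (CommRingCat.of A)).Opens) : IsAffineOpen U := by
  classical
  obtain ⟨J, hmem⟩ := exists_ideal (A := A) U.1 U.2
  by_cases hJ : J = ⊥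
  · have : U = ⊥ := by
      ext x
      simp only [SetLike.mem_coe]
      constructor
      · intro hx
        exact absurd (hJ ▸ bot_le) ((hmem x).mp hx)
      · intro hx
        exact hx.elim
    rw [this]
    exact isAffineOpen_bot _
  -- U is affine if the inclusion is affine
  have key : ∀ x : Spec (CommRingCat.of A), ∃ V : (Spec (CommRingCat.of A)).Opens, x ∈ V ∧
      IsAffineOpen V ∧ ∃ W : (Spec (CommRingCat.of A)).Opens, IsAffineOpen W ∧ U ⊓ V = W := by
    intro x
    have hDa : ∀ a : A, IsAffineOpen (X := Spec (CommRingCat.of A)) (PrimeSpectrum.basicOpen a) := by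
      intro a
      exact IsAffineOpen.Spec_basicOpen (R := CommRingCat.of A) a
    by_cases hx : x.asIdeal = ⊥
    · obtain ⟨a, haJ, ha⟩ := Submodule.exists_mem_ne_zero_of_ne_bot hJ
      refine ⟨PrimeSpectrum.basicOpen a, ?_, hDa a, PrimeSpectrum.basicOpen a, hDa a, ?_⟩
      · change a ∉ x.asIdeal
        rw [hx]
        simpa using ha
      · rw [inf_eq_right]
        intro y hy
        exact (hmem y).mpr fun h => hy (h haJ)
    · obtain ⟨a, ha⟩ := IsDedekindDomain.exists_sup_span_eq (I := x.asIdeal * J) (J := J) Ideal.mul_le_right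
        (mul_ne_zero hx hJ)
      obtain ⟨r, hr, hrJ⟩ := Submodule.exists_sub_one_mem_and_smul_le_of_fg_of_le_sup (I := x.asIdeal)
        (N := Ideal.span {a}) (N' := J) (P := J) (IsNoetherian.noetherian J) le_rfl
        (by rw [smul_eq_mul, sup_comm]; exact ha.ge)
      have haJ : a ∈ J := by
        rw [← ha]
        exact Ideal.mem_sup_right (Ideal.mem_span_singleton_self a)
      refine ⟨PrimeSpectrum.basicOpen r, ?_, hDa r, PrimeSpectrum.basicOpen (r * a), hDa _, ?_⟩
      · change r ∉ x.asIdeal
        intro h
        apply x.2.ne_top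
        rw [Ideal.eq_top_iff_one]
        have := x.asIdeal.sub_mem h hr
        simpa using this
      · ext y
        constructor
        · rintro ⟨hy, hyr⟩
          change r * a ∉ y.asIdeal
          intro h
          have hya : a ∈ y.asIdeal := (y.2.mem_or_mem h).resolve_left hyr
          apply (hmem y).mp hy
          intro j hj
          have h3 : r * j ∈ Ideal.span {a} := hrJ (Submodule.smul_mem_pointwise_smul j r J hj)
          have h4 : r * j ∈ y.asIdeal := (Ideal.span_singleton_le_iff_mem _).mpr hya h3
          exact (y.2.mem_or_mem h4).resolve_left hyr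
        · intro hy
          have hy' : r * a ∉ y.asIdeal := hy
          refine ⟨(hmem y).mpr fun h => hy' (y.asIdeal.mul_mem_left r (h haJ)), ?_⟩
          change r ∉ y.asIdeal
          exact fun h => hy' (y.asIdeal.mul_mem_right a h)
  have haff : IsAffineHom U.ι := by
    apply isAffineHom_of_forall_exists_isAffineOpen
    intro x
    obtain ⟨V, hxV, hV, W, hW, hUV⟩ := key x
    refine ⟨V, hxV, hV, ?_⟩
    have : IsAffineOpen (U.ι ''ᵁ (U.ι ⁻¹ᵁ V)) := by
      rw [Scheme.Hom.image_preimage_eq_opensRange_inf, Scheme.Opens.opensRange_ι, hUV]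
      exact hW
    exact (Scheme.Hom.isAffineOpen_iff_of_isOpenImmersion U.ι).mp this
  have : IsAffine U := isAffine_of_isAffineHom U.ι
  exact this

end Groth.Agent.S10871
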