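import Groth.Statements.S10872
import Groth.Agent.Variety.K426.SBGeom
import Groth.Agent.S1555
import Groth.Agent.Flat2H.FamOpen
import Groth.Agent.Ega2.AmpleVery
import Groth.Agent.Ega3A.PChart
import Groth.Agent.CalgB.ProjImm2

set_option autoImplicit false
universe u
open CategoryTheory AlgebraicGeometry
open Variety

namespace Groth.Agent.S10872

/-- A Brauer–Severi scheme X over a field k (some base change X_K to a field extension K of k is
K-isomorphic to a projective space P^n_K) is smooth over k, geometrically integral over k, and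
projective over k, i.e. admits a closed immersion into some P^N_k compatible with the structure
morphisms. -/
theorem result (k : Type u) [Field k] {X : Scheme.{u}}
    (p : X ⟶ Spec (CommRingCat.of k)) (hX : W4bk4gw11416.IsBrauerSeveri p) :
    Smooth p ∧ GeometricallyIntegral p ∧
      ∃ (N : ℕ) (i : X ⟶ CohB1.ProjSpace N k), IsClosedImmersion i ∧ i ≫ CohB1.ProjSpace.toSpec N k = p := by
  have hsm := K426.SBGeom.smooth hX
  have hprop := K426.SBGeom.isProper hX
  refine ⟨hsm, K426.SBGeom.geometricallyIntegral hX, ?_⟩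
  let _ : X.Over (Spec (CommRingCat.of k)) := ⟨p⟩
  obtain ⟨K, _, _, n, e, he⟩ := hX
  have hO := VarietyA.AmpleField.isAmple_twistProjSpace n K
  obtain ⟨H, hH⟩ := Groth.Agent.S1555.result k X K
    ((Scheme.Modules.pullback e.hom).obj (Twist.twistProjSpace n K 1))
    (Flat2H.FamOpen.isAmple_pullback_of_isAffineHom e.hom hO)
  obtain ⟨n₀, h0⟩ := Ega2.AmpleVery.exists_forall_isRelVeryAmplePn p hH
  obtain ⟨N, i, hi, hs, -⟩ := h0 (n₀ + 1) (by omega)
  let c := Ega3A.PChart.chart N (𝟙 (Spec (CommRingCat.of k)))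
  have hpb := Ega3A.PChart.isPullback_chart N (𝟙 (Spec (CommRingCat.of k)))
  have hc : IsIso c := hpb.isIso_fst_of_isIso
  have hcb : c ≫ CohB1.ProjSpaceOver.toBase N (Spec (CommRingCat.of k)) = CohB1.ProjSpace.toSpec N k := by
    rw [Ega3A.PChart.chart_toBase, Category.comp_id]
  have h2 : (i ≫ inv c) ≫ CohB1.ProjSpace.toSpec N k = p := by
    rw [← hcb, Category.assoc, IsIso.inv_hom_id_assoc]
    exact hs
  refine ⟨N, i ≫ inv c, ?_, h2⟩
  have hsep : IsProper (CohB1.ProjSpace.toSpec N k) := Ega3B.ProjProper.isProper_toSpec N k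
  have h1 : IsImmersion (i ≫ inv c) := inferInstance
  have : IsProper ((i ≫ inv c) ≫ CohB1.ProjSpace.toSpec N k) := by rw [h2]; infer_instance
  exact CalgB.ProjImm.isClosedImmersion_of_isImmersion_of_isProper (i ≫ inv c) (CohB1.ProjSpace.toSpec N k)

end Groth.Agent.S10872
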