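import Groth.Statements.S10876
import Groth.Agent.Ega43.FlatAdic
import Groth.Agent.S0398
import Mathlib.RingTheory.HopkinsLevitzki
import Mathlib.RingTheory.Filtration
import Mathlib.RingTheory.Ideal.Quotient.Noetherian

set_option autoImplicit false
universe u
open TensorProduct
open CAlg

namespace Groth.Agent.S10876

/-- Artin–Rees for `A ⊆ A'`. -/
theorem exists_comap_le_pow (A A' : Type u) [CommRing A] [CommRing A'] [IsNoetherianRing A]
    [Algebra A A'] [Module.Finite A A'] (hinj : Function.Injective (algebraMap A A')) (I : Ideal A)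
    (n : ℕ) : ∃ N : ℕ, ((I ^ N).map (algebraMap A A')).comap (algebraMap A A') ≤ I ^ n := by
  obtain ⟨k, hk⟩ := Ideal.exists_pow_inf_eq_pow_smul I
    (LinearMap.range (Algebra.linearMap A A'))
  refine ⟨n + k, fun x hx => ?_⟩
  have h1 : algebraMap A A' x ∈ (I ^ (n + k) • (⊤ : Submodule A A')) ⊓
      LinearMap.range (Algebra.linearMap A A') := by
    refine ⟨?_, ⟨x, rfl⟩⟩
    rw [Ideal.smul_top_eq_map]
    exact hx
  rw [hk (n + k) (by omega), Nat.add_sub_cancel] at h1
  have h2 : algebraMap A A' x ∈ I ^ n • LinearMap.range (Algebra.linearMap A A') :=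
    Submodule.smul_mono le_rfl inf_le_right h1
  rw [LinearMap.range_eq_map, ← Submodule.map_smul''] at h2
  obtain ⟨y, hy, hyx⟩ := h2
  have h3 : y = x := hinj hyx
  rw [← h3]
  simpa using hy

/-- Descent of flatness along finite injective maps: let A → B be a local homomorphism of Noetherian
local rings and A → A' an injective ring homomorphism making A' a finite A-module. Then B is A-flat
if and only if the base change A' ⊗_A B is A'-flat. -/
theorem result (A B A' : Type u) [CommRing A] [CommRing B]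
    [CommRing A'] [IsNoetherianRing A] [IsLocalRing A] [IsNoetherianRing B] [IsLocalRing B]
    [Algebra A B] [IsLocalHom (algebraMap A B)] [Algebra A A'] [Module.Finite A A']
    (hinj : Function.Injective (algebraMap A A')) :
    Module.Flat A B ↔ Module.Flat A' (A' ⊗[A] B) := by
  constructor
  · intro h
    infer_instance
  · intro h
    refine Agent.Ega43.FlatAdic.flat_of_forall_exists_le_pow (S := B) fun n => ?_
    obtain ⟨N, hN⟩ := exists_comap_le_pow A A' hinj (IsLocalRing.maximalIdeal A) (n + 1)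
    let K : Ideal A' := ((IsLocalRing.maximalIdeal A) ^ N).map (algebraMap A A')
    let J : Ideal A := K.comap (algebraMap A A')
    have hJ : J ≤ IsLocalRing.maximalIdeal A ^ (n + 1) := hN
    refine ⟨J, hJ.trans (Ideal.pow_le_pow_right (Nat.le_succ n)), ?_⟩
    have hJ1 : J ≠ ⊤ := fun h => by
      rw [h, top_le_iff] at hJ
      exact (IsLocalRing.maximalIdeal.isMaximal A).ne_top
        (top_le_iff.mp (hJ.ge.trans (Ideal.pow_le_self (Nat.succ_ne_zero n))))
    have hnt : Nontrivial (A ⧸ J) := Ideal.Quotient.nontrivial_iff.mpr hJ1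
    have hloc : IsLocalRing (A ⧸ J) :=
      IsLocalRing.of_surjective' (Ideal.Quotient.mk J) Ideal.Quotient.mk_surjective
    have hmJ : IsLocalRing.maximalIdeal A ^ N ≤ J := Ideal.le_comap_map
    have hart : IsArtinianRing (A ⧸ J) := by
      rw [isArtinianRing_iff_isNilpotent_maximalIdeal]
      refine ⟨N, ?_⟩
      have h1 : IsLocalRing.maximalIdeal (A ⧸ J) =
          (IsLocalRing.maximalIdeal A).map (Ideal.Quotient.mk J) := by
        have := IsLocalRing.maximalIdeal.isMaximal A
        refine (IsLocalRing.eq_maximalIdeal ?_).symm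
        refine Ideal.IsMaximal.map_of_surjective_of_ker_le Ideal.Quotient.mk_surjective ?_
        rw [Ideal.mk_ker]
        exact IsLocalRing.le_maximalIdeal hJ1
      rw [h1, ← Ideal.map_pow, Ideal.zero_eq_bot, Ideal.map_eq_bot_iff_le_ker, Ideal.mk_ker]
      exact hmJ
    let φ : (A ⧸ J) →+* (A' ⧸ K) := Ideal.quotientMap K (algebraMap A A') le_rfl
    let _ : Algebra (A ⧸ J) (A' ⧸ K) := φ.toAlgebra
    have hφ : Function.Injective (algebraMap (A ⧸ J) (A' ⧸ K)) :=
      Ideal.quotientMap_injective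
    have : IsScalarTower A (A ⧸ J) (A' ⧸ K) := IsScalarTower.of_algebraMap_eq fun a => rfl
    have hfl : Module.Flat (A' ⧸ K) ((A' ⧸ K) ⊗[A ⧸ J] ((A ⧸ J) ⊗[A] B)) := by
      have h1 : Module.Flat (A' ⧸ K) ((A' ⧸ K) ⊗[A'] (A' ⊗[A] B)) := inferInstance
      have e1 : (A' ⧸ K) ⊗[A'] (A' ⊗[A] B) ≃ₗ[A' ⧸ K] (A' ⧸ K) ⊗[A] B :=
        AlgebraTensorModule.cancelBaseChange A A' (A' ⧸ K) (A' ⧸ K) B
      have e2 : (A' ⧸ K) ⊗[A ⧸ J] ((A ⧸ J) ⊗[A] B) ≃ₗ[A' ⧸ K] (A' ⧸ K) ⊗[A] B :=
        AlgebraTensorModule.cancelBaseChange A (A ⧸ J) (A' ⧸ K) (A' ⧸ K) B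
      exact Module.Flat.of_linearEquiv (e2.trans e1.symm)
    exact Agent.S0398.result (R := A ⧸ J) (S := A' ⧸ K) hφ

end Groth.Agent.S10876
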