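import Groth.Statements.S10878
import Groth.Agent.Ega1.LocImm
-- import your own Groth.Agent.* helpers here

set_option autoImplicit false
universe u
open CategoryTheory AlgebraicGeometry
open FlatMor

namespace Groth.Agent.S10878

/-- If `U` is a dense open of `X` and `f : U → V` is a closed immersion with `f` separated, then
`f⁻¹ V = U` and `f ∣_ V` is a closed immersion. -/
theorem preimage_le {X Y : Scheme.{u}} (f : X ⟶ Y) [IsSeparated f] (U : X.Opens)
    (hd : Dense (U : Set X)) (V : Y.Opens) (h : U ≤ f ⁻¹ᵁ V) [IsClosedImmersion (f.resLE V U h)] :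
    f ⁻¹ᵁ V ≤ U := by
  have e : X.homOfLE h ≫ f ∣_ V = f.resLE V U h := by
    rw [← cancel_mono V.ι]; simp
  have : IsClosedImmersion (X.homOfLE h ≫ f ∣_ V) := by rw [e]; infer_instance
  have hc : IsClosedImmersion (X.homOfLE h) := IsClosedImmersion.of_comp _ (f ∣_ V)
  have hcl : IsClosed (Set.range (X.homOfLE h)) := (X.homOfLE h).isClosedEmbedding.isClosed_range
  have hrange : Set.range (X.homOfLE h) = (f ⁻¹ᵁ V).ι ⁻¹' (U : Set X) := by
    ext z
    constructor
    · rintro ⟨w, rfl⟩
      have : (f ⁻¹ᵁ V).ι (X.homOfLE h w) = U.ι w := by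
        rw [← Scheme.Hom.comp_apply, Scheme.homOfLE_ι]
      change (f ⁻¹ᵁ V).ι (X.homOfLE h w) ∈ U
      rw [this]
      exact w.2
    · intro hz
      refine ⟨(⟨(f ⁻¹ᵁ V).ι z, hz⟩ : U), ?_⟩
      apply (f ⁻¹ᵁ V).ι.isOpenEmbedding.injective
      exact (Scheme.Hom.comp_apply _ _ _).symm.trans (by rw [Scheme.homOfLE_ι]; rfl)
  have hdense : Dense ((f ⁻¹ᵁ V).ι ⁻¹' (U : Set X)) :=
    hd.preimage (f ⁻¹ᵁ V).ι.isOpenEmbedding.isOpenMap
  rw [← hrange] at hdense
  have huniv : Set.range (X.homOfLE h) = Set.univ := by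
    rw [← hcl.closure_eq]; exact hdense.closure_eq
  intro x hx
  have : (⟨x, hx⟩ : (f ⁻¹ᵁ V).toScheme) ∈ Set.range (X.homOfLE h) := by rw [huniv]; trivial
  rw [hrange] at this
  exact this

/-- A separated morphism f : X → Y, with X having finitely many irreducible components, which restricts
to an immersion on each member of a cover of X by dense open subsets, is an immersion. -/
theorem result {X Y : Scheme.{u}} (f : X ⟶ Y) [IsSeparated f]
    (hfin : (irreducibleComponents (X : Type u)).Finite) {ι : Type u} (U : ι → X.Opens)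
    (hU : ⨆ i, U i = ⊤) (hd : ∀ i, Dense (U i : Set X)) (h : ∀ i, IsImmersion ((U i).ι ≫ f)) :
    IsImmersion f := by
  have key : ∀ i, ∃ V : Y.Opens, U i = f ⁻¹ᵁ V ∧ IsClosedImmersion (f ∣_ V) := by
    intro i
    obtain ⟨V, hle, hc⟩ := Groth.Agent.Ega1.LocImm.exists_isClosedImmersion_resLE f (h i)
    have h2 := preimage_le f (U i) (hd i) V hle
    have heq : U i = f ⁻¹ᵁ V := le_antisymm hle h2
    refine ⟨V, heq, ?_⟩
    clear h2
    have e : X.homOfLE hle ≫ f ∣_ V = f.resLE V (U i) hle := by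
      rw [← cancel_mono V.ι]; simp
    have : IsIso (X.homOfLE hle) := by
      have : X.homOfLE hle = (X.isoOfEq heq).hom := by
        rw [← cancel_mono (f ⁻¹ᵁ V).ι]; simp
      rw [this]; infer_instance
    rw [← MorphismProperty.cancel_left_of_respectsIso @IsClosedImmersion (X.homOfLE hle), e]
    exact hc
  have : MorphismProperty.RespectsRight (@IsImmersion) (@IsOpenImmersion) := by
    refine ⟨fun {A B C} i hi g hg ↦ ?_⟩
    have : IsOpenImmersion i := hi
    have : IsImmersion g := hg
    infer_instance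
  choose V hV hc using key
  refine IsZariskiLocalAtTarget.of_range_subset_iSup (P := @IsImmersion) V ?_ ?_
  · rintro _ ⟨x, rfl⟩
    have hx : x ∈ (⨆ i, U i) := by rw [hU]; trivial
    obtain ⟨i, hi⟩ := TopologicalSpace.Opens.mem_iSup.1 hx
    rw [hV i] at hi
    exact TopologicalSpace.Opens.mem_iSup.2 ⟨i, hi⟩
  · intro i
    have := hc i
    infer_instance

end Groth.Agent.S10878
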