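import Groth.Statements.S10880
import Groth.Agent.FlatMor.K260.RedFibre
import Groth.Agent.FlatMor.K260.Gen
import Mathlib.RingTheory.Flat.TorsionFree
import Mathlib.AlgebraicGeometry.FunctionField
-- import your own Groth.Agent.* helpers here

set_option autoImplicit false
universe u
open CategoryTheory AlgebraicGeometry
open FlatMor

namespace Groth.Agent.S10880

theorem affine_part {R B : CommRingCat.{u}} [IsDomain R] [IsDiscreteValuationRing R] [IsNoetherianRing B]
    (g : Spec B ⟶ Spec R) (hred : IsReduced (g.fiber (IsLocalRing.closedPoint R)))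
    (hdense : Dense (g ⁻¹' {(⟨⊥, Ideal.isPrime_bot⟩ : PrimeSpectrum R)})) : Flat g := by
  obtain ⟨φ, rfl⟩ := Spec.map_surjective g
  algebraize [φ.hom]
  rw [Flat.SpecMap_iff]
  change Module.Flat R B
  obtain ⟨ϖ, hϖ⟩ := IsDiscreteValuationRing.exists_irreducible R
  have hm : IsLocalRing.maximalIdeal R = Ideal.span {ϖ} := hϖ.maximalIdeal_eq
  have hfib : _root_.IsReduced ((IsLocalRing.maximalIdeal R).Fiber B) := by
    let e := Arrow.leftFunc.mapIso (Spec.fiberToSpecResidueFieldIso R B (IsLocalRing.closedPoint R))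
    have h1 : IsReduced (Spec (CommRingCat.of ((IsLocalRing.maximalIdeal R).Fiber B))) := by
      have : IsOpenImmersion e.inv := inferInstance
      exact @isReduced_of_isOpenImmersion _ _ e.inv this hred
    exact (affine_isReduced_iff (CommRingCat.of ((IsLocalRing.maximalIdeal R).Fiber B))).mp h1
  have hpre : ((Spec.map φ) ⁻¹' {(⟨⊥, Ideal.isPrime_bot⟩ : PrimeSpectrum R)} : Set (PrimeSpectrum B)) =
      PrimeSpectrum.basicOpen (φ.hom ϖ) := by
    ext x
    exact Groth.Agent.S0421.eta_iff hϖ _
  have hmin : ∀ p ∈ minimalPrimes B, φ.hom ϖ ∉ p := by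
    intro p hp
    have hprime : p.IsPrime := hp.1.1
    let x : PrimeSpectrum B := ⟨p, hprime⟩
    have hx : K260.Gen.IsMax (T := Spec B) x := by
      intro y hy
      have h1 : (y : PrimeSpectrum B).asIdeal ≤ p := (PrimeSpectrum.le_iff_specializes _ _).2 hy
      exact PrimeSpectrum.ext (le_antisymm h1 (hp.2 ⟨(y : PrimeSpectrum B).2, bot_le⟩ h1))
    have hd' : Dense (PrimeSpectrum.basicOpen (φ.hom ϖ) : Set (PrimeSpectrum B)) := by
      rw [← hpre]; exact hdense
    have h2 : x ∈ PrimeSpectrum.basicOpen (φ.hom ϖ) :=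
      K260.Gen.mem_of_dense (Spec B) (PrimeSpectrum.basicOpen (φ.hom ϖ)) hd' x hx
    exact h2
  have hreg : ∀ b : B, φ.hom ϖ * b = 0 → b = 0 := fun b hb ↦
    K260.RedFibre.eq_zero_of_mul (φ.hom ϖ) hmin
      (fun n a h ↦ K260.RedFibre.red_lemma (IsLocalRing.maximalIdeal R) ϖ hm hfib n a h) b hb
  have hregn : ∀ (n : ℕ) (b : B), φ.hom ϖ ^ n * b = 0 → b = 0 := by
    intro n
    induction n with
    | zero => intro b hb; simpa using hb
    | succ n ih => intro b hb; rw [pow_succ', mul_assoc] at hb; exact ih b (hreg _ hb)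
  rw [Module.Flat.flat_iff_torsion_eq_bot_of_isBezout, Submodule.eq_bot_iff]
  intro b hb
  rw [Submodule.mem_torsion_iff] at hb
  obtain ⟨⟨a, ha⟩, hab⟩ := hb
  have ha0 : a ≠ 0 := nonZeroDivisors.ne_zero ha
  obtain ⟨n, v, rfl⟩ := IsDiscreteValuationRing.eq_unit_mul_pow_irreducible ha0 hϖ
  have h1 : φ.hom ((v : R) * ϖ ^ n) * b = 0 := hab
  rw [map_mul, map_pow, mul_assoc] at h1
  have h2 : IsUnit (φ.hom (v : R)) := v.isUnit.map φ.hom
  exact hregn n b (h2.mul_right_eq_zero.1 h1)


/-- Let R be a discrete valuation ring and X a locally Noetherian scheme over Spec R whose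
scheme-theoretic special fibre is reduced and such that every maximal point of the special fibre
lies in the closure of the generic fibre, i.e. the generic fibre is dense in X. Then X is flat over
R. -/
theorem result (R : Type u) [CommRing R] [IsDomain R]
    [IsDiscreteValuationRing R] {X : Scheme.{u}} (f : X ⟶ Spec (CommRingCat.of R)) [IsLocallyNoetherian X]
    (hred : IsReduced (f.fiber (IsLocalRing.closedPoint R)))
    (hdense : Dense (f.base ⁻¹' {genericPoint (Spec (CommRingCat.of R))})) : Flat f := by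
  refine IsZariskiLocalAtSource.of_openCover (P := @Flat) X.affineCover ?_
  intro i
  have hN : IsLocallyNoetherian (X.affineCover.X i) := isLocallyNoetherian_of_isOpenImmersion (X.affineCover.f i)
  have hr : IsReduced ((X.affineCover.f i ≫ f).fiber (IsLocalRing.closedPoint R)) := by
    let g := (Spec (CommRingCat.of R)).fromSpecResidueField (IsLocalRing.closedPoint R)
    let q : Limits.pullback (X.affineCover.f i ≫ f) g ⟶ Limits.pullback f g :=
      Limits.pullback.lift (Limits.pullback.fst _ _ ≫ X.affineCover.f i) (Limits.pullback.snd _ _)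
        (by rw [Category.assoc, Limits.pullback.condition])
    have hq1 : q ≫ Limits.pullback.fst f g = Limits.pullback.fst _ _ ≫ X.affineCover.f i := Limits.pullback.lift_fst _ _ _
    have hq2 : q ≫ Limits.pullback.snd f g = Limits.pullback.snd _ _ := Limits.pullback.lift_snd _ _ _
    have big := IsPullback.of_hasPullback (X.affineCover.f i ≫ f) g
    rw [← hq2] at big
    have sq := IsPullback.of_bot big hq1.symm (IsPullback.of_hasPullback f g)
    have hq : IsOpenImmersion q :=
      MorphismProperty.of_isPullback (P := @IsOpenImmersion) sq inferInstance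
    exact @isReduced_of_isOpenImmersion _ _ q hq hred
  have hη : genericPoint (Spec (CommRingCat.of R)) = (⟨⊥, Ideal.isPrime_bot⟩ : PrimeSpectrum R) :=
    genericPoint_eq_bot_of_affine (CommRingCat.of R)
  have hd : Dense ((X.affineCover.f i ≫ f) ⁻¹' {(⟨⊥, Ideal.isPrime_bot⟩ : PrimeSpectrum R)}) := by
    rw [← hη]
    exact hdense.preimage (X.affineCover.f i).isOpenEmbedding.isOpenMap
  have key : ∀ (B : CommRingCat.{u}) (_ : IsLocallyNoetherian (Spec B)) (g : Spec B ⟶ Spec (CommRingCat.of R)),
      IsReduced (g.fiber (IsLocalRing.closedPoint R)) →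
      Dense (g ⁻¹' {(⟨⊥, Ideal.isPrime_bot⟩ : PrimeSpectrum R)}) → Flat g := by
    intro B hB g h1 h2
    have : IsNoetherianRing B := isLocallyNoetherian_Spec.1 hB
    exact affine_part (R := CommRingCat.of R) g h1 h2
  exact key _ hN _ hr hd

end Groth.Agent.S10880
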