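import Groth.Statements.S10881
import Groth.Agent.S1454
import Groth.Agent.S3440
import Groth.Agent.UnramA.NormalUnibranch
import Groth.Agent.CurvesC.RegNormal
import Groth.Agent.S0558
import Groth.Agent.Ega4A.RegCM
-- import your own Groth.Agent.* helpers here

set_option autoImplicit false
universe u
open CategoryTheory AlgebraicGeometry
open FlatMor

namespace Groth.Agent.S10881

/-- A finite morphism f : X → Y between regular schemes (locally Noetherian with regular local rings)
under which each irreducible component of X dominates some irreducible component of Y is flat, hence
finite locally free. (The published statement asks only that f be dominant; for X the disjoint union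
of the affine line and a point, mapped to the affine line Y by the identity and the inclusion of a
closed point, f is finite and dominant between regular schemes but not flat, and the published
argument uses injectivity of the local ring maps, which holds exactly under the component-wise
dominance assumed here.) -/
theorem result {X Y : Scheme.{u}} (f : X ⟶ Y) [IsFinite f]
    [IsLocallyNoetherian X] [IsLocallyNoetherian Y]
    (hX : ∀ x : X, IsRegularLocalRing (X.presheaf.stalk x))
    (hY : ∀ y : Y, IsRegularLocalRing (Y.presheaf.stalk y))
    (hdom : ∀ Z ∈ irreducibleComponents (X : Type u), closure (f.base '' Z) ∈ irreducibleComponents (Y : Type u)) :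
    Flat f := by
  have hunib : ∀ y : Y, CAlg2.IsGeomUnibranch (Y.presheaf.stalk y) := fun y ↦ by
    have := hY y
    have h1 : IsDomain (Y.presheaf.stalk y) := Groth.Agent.S0558.result _
    have h2 : IsIntegrallyClosed (Y.presheaf.stalk y) := Groth.Agent.CurvesC.RegNormal.isIntegrallyClosed _
    exact Groth.Agent.UnramA.NormalUnibranch.isGeomUnibranch_of_isIntegrallyClosed _
  have huo : UniversallyOpen f := by
    refine Groth.Agent.S1454.result f hunib ?_
    intro Z hZ x hx
    refine ⟨closure (f.base '' Z), hdom Z hZ, ?_⟩
    rw [← hx.def]
    apply subset_antisymm
    · exact closure_mono (by rintro _ rfl; exact ⟨x, subset_closure rfl, rfl⟩)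
    · apply closure_minimal _ isClosed_closure
      rintro _ ⟨z, hz, rfl⟩
      have : x ⤳ z := by rwa [specializes_iff_mem_closure]
      exact (this.map f.continuous).mem_closed isClosed_closure (subset_closure rfl)
  rw [Flat.iff_flat_stalkMap]
  intro x
  have hCM : LocCoh.IsCohenMacaulayLocalRing (X.presheaf.stalk x) := by
    have := hX x
    exact Groth.Agent.Ega4A.RegCM.isCohenMacaulayLocalRing_of_isRegularLocalRing _
  have htfae := Groth.Agent.S3440.result f x (hY _) hCM
  have h21 := htfae.out 2 1
  have hU : ∃ U : X.Opens, x ∈ U ∧ UniversallyOpen (U.ι ≫ f) := ⟨⊤, trivial, inferInstance⟩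
  exact h21.1 hU

end Groth.Agent.S10881
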