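import Groth.Statements.S10884
import Groth.Agent.Variety.K426.DimFib
import Groth.Agent.Grpsch.ClosureImage

set_option autoImplicit false
universe u
open CategoryTheory AlgebraicGeometry
open Variety

namespace Groth.Agent.S10884

/-- Let Y be a scheme of finite type over a field k and f : X → Y a dominant morphism of finite type all
of whose non-empty fibres have dimension r. Then dim X = r + dim Y. -/
theorem result (k : Type u) [Field k] {X Y : Scheme.{u}}
    (q : Y ⟶ Spec (CommRingCat.of k)) [LocallyOfFiniteType q] [QuasiCompact q]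
    (f : X ⟶ Y) [LocallyOfFiniteType f] [QuasiCompact f] (hdom : DenseRange f.base) (r : ℕ)
    (hfib : ∀ y : Y, (f.base ⁻¹' {y}).Nonempty → topologicalKrullDim (f.base ⁻¹' {y}) = r) :
    topologicalKrullDim X = (r : WithBot ℕ∞) + topologicalKrullDim Y := by
  let _ : Y.Over (Spec (CommRingCat.of k)) := ⟨q⟩
  let _ : X.Over (Spec (CommRingCat.of k)) := ⟨f ≫ q⟩
  have : LocallyOfFiniteType (Y ↘ Spec (CommRingCat.of k)) := ‹LocallyOfFiniteType q›
  have : LocallyOfFiniteType (X ↘ Spec (CommRingCat.of k)) :=
    inferInstanceAs (LocallyOfFiniteType (f ≫ q))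
  refine le_antisymm ?_ ?_
  · exact K426.DimFib.dim_le_add k f rfl r (fun y hy => (hfib y hy).le)
  · refine K426.DimFib.add_le_dim k f rfl r fun η hη => ?_
    refine (hfib η ?_).ge
    obtain ⟨z, -, hz⟩ := Grpsch.ClosureImage.exists_specializes_of_mem_closure_image f
      (Z := Set.univ) isClosed_univ (y := η) (by rw [Set.image_univ]; exact hdom η)
    exact ⟨z, hη _ hz⟩

end Groth.Agent.S10884
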