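import Groth.Statements.S10886
import Groth.Agent.CurvesC.Dim1Top

set_option autoImplicit false
universe u
open CategoryTheory AlgebraicGeometry
open Curves

namespace Groth.Agent.S10886

/-- In an irreducible Noetherian scheme of dimension one every constructible subset is either a finite
set of closed points or the complement of such a set; in particular it is open or closed. -/
theorem result {X : Scheme.{u}} [IsNoetherian X]
    [IrreducibleSpace X] (hX : topologicalKrullDim X = 1) (s : Set X) (hs : Topology.IsConstructible s) :
    (s.Finite ∧ (∀ x ∈ s, IsClosed ({x} : Set X))) ∨ (sᶜ.Finite ∧ ∀ x ∈ sᶜ, IsClosed ({x} : Set X)) := by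
  induction hs using Topology.IsConstructible.empty_union_induction with
  | open_retrocompact U hU _ =>
    by_cases hne : Uᶜ = Set.univ
    · left
      have : U = ∅ := by simpa using hne
      subst this
      simp
    · right
      exact ⟨CurvesC.Dim1Top.finite_of_isClosed hX.le hU.isClosed_compl hne,
        fun x hx => CurvesC.Dim1Top.isClosed_singleton_of_mem hX.le hU.isClosed_compl hne hx⟩
  | union s hs t ht h1 h2 =>
    rcases h1 with ⟨h1, h1'⟩ | ⟨h1, h1'⟩
    · rcases h2 with ⟨h2, h2'⟩ | ⟨h2, h2'⟩
      · left
        exact ⟨h1.union h2, fun x hx => hx.elim (h1' x) (h2' x)⟩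
      · right
        rw [Set.compl_union]
        exact ⟨h2.inter_of_right _, fun x hx => h2' x hx.2⟩
    · right
      rw [Set.compl_union]
      exact ⟨h1.inter_of_left _, fun x hx => h1' x hx.1⟩
  | compl s hs h =>
    rw [compl_compl]
    exact h.symm

end Groth.Agent.S10886
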