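import Groth.Statements.S10889
import Groth.Agent.S0403
import Groth.Agent.S0404
import Groth.Agent.TopDim.K284.Basic
import Mathlib.AlgebraicGeometry.ZariskisMainTheorem
import Mathlib.AlgebraicGeometry.Morphisms.QuasiFinite
-- import your own Groth.Agent.* helpers here

set_option autoImplicit false
universe u
open CategoryTheory AlgebraicGeometry
open FlatMor

namespace Groth.Agent.S10889

/-- Let f : X → Y be proper, flat and of finite presentation, and let V be the set of points of Y whose
fibre is (non-empty and) zero-dimensional. Then V is a clopen subset of Y, and over every open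
subset of V the restriction of f is finite, hence finite locally free. -/
theorem result {X Y : Scheme.{u}} (f : X ⟶ Y) [IsProper f] [Flat f]
    [LocallyOfFinitePresentation f] :
    IsClopen {y : Y | topologicalKrullDim (f.base ⁻¹' {y}) = 0} ∧
      ∀ U : Y.Opens, (U : Set Y) ⊆ {y : Y | topologicalKrullDim (f.base ⁻¹' {y}) = 0} → IsFinite (f ∣_ U) := by
  have hdim : ∀ y : Y, topologicalKrullDim (f.base ⁻¹' {y}) = topologicalKrullDim (f.fiber y) :=
    fun y ↦ ((f.fiberHomeo y).isHomeomorph.topologicalKrullDim_eq _).symm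
  have hV : {y : Y | topologicalKrullDim (f.base ⁻¹' {y}) = 0} =
      {y : Y | ⊥ < topologicalKrullDim (f.fiber y)} ∩ {y : Y | topologicalKrullDim (f.fiber y) ≤ 0} := by
    ext y
    simp only [Set.mem_ofPred_eq, Set.mem_inter_iff, hdim]
    constructor
    · intro h; rw [h]; exact ⟨WithBot.bot_lt_coe _, le_rfl⟩
    · rintro ⟨h1, h2⟩
      refine le_antisymm h2 ?_
      obtain ⟨a, ha⟩ := WithBot.ne_bot_iff_exists.1 h1.ne'
      rw [← ha]
      exact WithBot.coe_le_coe.2 zero_le
  have hV' : {y : Y | topologicalKrullDim (f.base ⁻¹' {y}) = 0}ᶜ =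
      {y : Y | topologicalKrullDim (f.fiber y) ≤ ⊥} ∪ {y : Y | 0 < topologicalKrullDim (f.fiber y)} := by
    rw [hV]
    ext y
    simp only [Set.mem_compl_iff, Set.mem_inter_iff, Set.mem_ofPred_eq, Set.mem_union, not_and_or, not_lt, not_le]
  have hdisc : ∀ y : Y, topologicalKrullDim (f.base ⁻¹' {y}) = 0 → _root_.IsDiscrete (f ⁻¹' {y}) := by
    intro y h1
    have hft : LocallyOfFiniteType (f.fiberToSpecResidueField y) :=
      MorphismProperty.pullback_snd _ _ inferInstance
    have hN : IsLocallyNoetherian (f.fiber y) :=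
      LocallyOfFiniteType.isLocallyNoetherian (f.fiberToSpecResidueField y)
    have hN' : IsNoetherian (f.fiber y) := { }
    have hN2 : TopologicalSpace.NoetherianSpace (f.fiber y) := inferInstance
    rw [hdim] at h1
    have hd : DiscreteTopology (f.fiber y) := (K284.TopDim.finite_discrete_of_dim_le_zero h1.le).2
    rw [isDiscrete_iff_discreteTopology]
    exact (f.fiberHomeo y).symm.isEmbedding.discreteTopology
  refine ⟨⟨?_, ?_⟩, ?_⟩
  · rw [← isOpen_compl_iff, hV']
    exact (Groth.Agent.S0403.result f ⊥).union (Groth.Agent.S0404.result f 0)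
  · rw [hV]
    exact (Groth.Agent.S0404.result f ⊥).inter (Groth.Agent.S0403.result f 0)
  · intro U hU
    have hq : LocallyQuasiFinite (f ∣_ U) := by
      rw [locallyQuasiFinite_iff_isDiscrete_preimage_singleton]
      intro y
      have h1 : topologicalKrullDim (f.base ⁻¹' {U.ι y}) = 0 := hU y.2
      have hd2 := hdisc _ h1
      convert! hd2.preimage ((f ⁻¹ᵁ U).ι.continuous.continuousOn) (f ⁻¹ᵁ U).ι.isOpenEmbedding.injective
      ext z
      simp only [Set.mem_preimage, Set.mem_singleton_iff]
      rw [← U.ι.isOpenEmbedding.injective.eq_iff, ← Scheme.Hom.comp_apply, morphismRestrict_ι]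
      rfl
    exact IsFinite.of_isProper_of_locallyQuasiFinite _

end Groth.Agent.S10889
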