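import Groth.Statements.S10890
import Groth.Agent.CalgB.Minors
import Mathlib.RingTheory.LocalRing.Module
import Mathlib.LinearAlgebra.Projection
import Mathlib.LinearAlgebra.Dimension.Free
import Mathlib.Algebra.Module.Projective

set_option autoImplicit false
universe u
open CAlgX

namespace Groth.Agent.S10890

/-- (i) ⇔ (ii): let R be a local ring, A an n × m matrix over R regarded as a linear map R^m → R^n, and
1 ≤ r ≤ n. Then the image of A is a direct summand of R^n of rank r if and only if every (r+1) ×
(r+1) minor of A is zero and the r × r minors of A generate the unit ideal. (The printed statement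
is over an arbitrary ring with 'direct summand of rank r'; its proof localises at once, and this row
states the local case, where a direct summand of R^n is free and its rank is its finrank.) -/
theorem result (R : Type u) [CommRing R] [IsLocalRing R] (n m r : ℕ)
    (hr : 1 ≤ r) (hrn : r ≤ n) (A : Matrix (Fin n) (Fin m) R) :
    (∃ N' : Submodule R (Fin n → R), IsCompl (LinearMap.range (Matrix.mulVecLin A)) N' ∧
        Module.finrank R (LinearMap.range (Matrix.mulVecLin A)) = r) ↔
      (CAlgX.minorIdeal A (r + 1) = ⊥ ∧ CAlgX.minorIdeal A r = ⊤) := by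
  classical
  constructor
  · rintro ⟨N', hN', hrank⟩
    set W := LinearMap.range (Matrix.mulVecLin A) with hW
    let pr : (Fin n → R) →ₗ[R] W := Submodule.projectionOnto W N' hN'
    have hpr : pr ∘ₗ W.subtype = LinearMap.id := by
      ext x
      simp [pr]
    have hproj : Module.Projective R W := Module.Projective.of_split W.subtype pr hpr
    have hfinite : Module.Finite R W := Module.Finite.range _
    have hfree : Module.Free R W := Module.free_of_flat_of_isLocalRing
    let e : W ≃ₗ[R] (Fin r → R) := (Module.finBasisOfFinrankEq R W hrank).equivFun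
    let q : (Fin m → R) →ₗ[R] (Fin r → R) := e.toLinearMap ∘ₗ (Matrix.mulVecLin A).rangeRestrict
    have hq : Function.Surjective q := e.surjective.comp (LinearMap.surjective_rangeRestrict _)
    obtain ⟨s, hs⟩ := Module.projective_lifting_property q LinearMap.id hq
    have hSR : Groth.Agent.CalgB.Minors.SR A r := by
      refine ⟨LinearMap.toMatrix' (W.subtype ∘ₗ e.symm.toLinearMap), LinearMap.toMatrix' q,
        LinearMap.toMatrix' (e.toLinearMap ∘ₗ pr), LinearMap.toMatrix' s, ?_, ?_, ?_⟩
      · rw [← LinearMap.toMatrix'_comp]
        apply Matrix.toLin'.injective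
        rw [Matrix.toLin'_toMatrix']
        ext x
        simp [q]
      · rw [← LinearMap.toMatrix'_comp, ← LinearMap.toMatrix'_id]
        congr 1
        have : (e.toLinearMap ∘ₗ pr) ∘ₗ (W.subtype ∘ₗ e.symm.toLinearMap) =
            e.toLinearMap ∘ₗ (pr ∘ₗ W.subtype) ∘ₗ e.symm.toLinearMap := rfl
        rw [this, hpr]
        ext x
        simp
      · rw [← LinearMap.toMatrix'_comp, hs, LinearMap.toMatrix'_id]
    exact ⟨hSR.minorIdeal_eq_bot, hSR.minorIdeal_eq_top⟩
  · rintro ⟨h0, h1⟩
    obtain ⟨P, Q, L, S, rfl, hL, hS⟩ := Groth.Agent.CalgB.Minors.SR.of_minorIdeal h1 h0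
    have hrange : LinearMap.range (Matrix.mulVecLin (P * Q)) = LinearMap.range P.mulVecLin := by
      apply le_antisymm
      · rintro _ ⟨x, rfl⟩
        refine ⟨Q.mulVec x, ?_⟩
        simp [Matrix.mulVec_mulVec]
      · rintro _ ⟨x, rfl⟩
        refine ⟨S.mulVec x, ?_⟩
        simp only [Matrix.mulVecLin_apply, Matrix.mulVec_mulVec]
        rw [Matrix.mul_assoc, hS, Matrix.mul_one]
    rw [hrange]
    have hPinj : Function.Injective P.mulVecLin := by
      intro x y hxy
      have := congrArg L.mulVec hxy
      simpa [Matrix.mulVec_mulVec, hL] using this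
    refine ⟨LinearMap.ker L.mulVecLin, ?_, ?_⟩
    · rw [isCompl_iff, Submodule.disjoint_def, codisjoint_iff]
      constructor
      · rintro _ ⟨x, rfl⟩ hx
        rw [LinearMap.mem_ker, Matrix.mulVecLin_apply, Matrix.mulVecLin_apply,
          Matrix.mulVec_mulVec, hL, Matrix.one_mulVec] at hx
        rw [hx, map_zero]
      · rw [eq_top_iff]
        intro x _
        have hx : x = P.mulVec (L.mulVec x) + (x - P.mulVec (L.mulVec x)) := by abel
        rw [hx]
        refine Submodule.add_mem_sup ⟨L.mulVec x, rfl⟩ ?_
        rw [LinearMap.mem_ker, Matrix.mulVecLin_apply, Matrix.mulVec_sub, Matrix.mulVec_mulVec, hL,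
          Matrix.one_mulVec, sub_self]
    · rw [LinearMap.finrank_range_of_inj hPinj]
      simp

end Groth.Agent.S10890
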