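import Groth.Statements.S10891
import Mathlib.Algebra.MvPolynomial.Basic
import Mathlib.Algebra.MvPolynomial.Eval
import Mathlib.RingTheory.RootsOfUnity.PrimitiveRoots

set_option autoImplicit false
universe u
open CAlg

namespace Groth.Agent.S10891

open MvPolynomial in
theorem coeff_act (k : Type u) [Field k] (a : ℕ) (η : k) (p : MvPolynomial (Fin 2) k) (v : Fin 2 →₀ ℕ) :
    coeff v (MvPolynomial.aeval (fun i : Fin 2 => if i = 0 then MvPolynomial.C η * MvPolynomial.X 0
        else MvPolynomial.C (η ^ a) * (MvPolynomial.X 1 : MvPolynomial (Fin 2) k)) p) =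
      η ^ (v 0 + a * v 1) * coeff v p := by
  classical
  induction p using MvPolynomial.induction_on' with
  | monomial u c =>
    rw [aeval_monomial, Finsupp.prod_fintype _ _ (fun i => pow_zero _), Fin.prod_univ_two]
    have h1 : (algebraMap k (MvPolynomial (Fin 2) k)) c *
        ((if (0 : Fin 2) = 0 then C η * X 0 else C (η ^ a) * (X 1 : MvPolynomial (Fin 2) k)) ^ u 0 *
        (if (1 : Fin 2) = 0 then C η * X 0 else C (η ^ a) * (X 1 : MvPolynomial (Fin 2) k)) ^ u 1) =
        C (η ^ (u 0 + a * u 1)) * monomial u c := by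
      rw [if_pos rfl, if_neg (by decide), monomial_eq, Finsupp.prod_fintype _ _ (fun i => pow_zero _),
        Fin.prod_univ_two, mul_pow, mul_pow, ← C_pow, ← C_pow, ← pow_mul, pow_add, C_mul,
        MvPolynomial.algebraMap_eq]
      ring
    rw [h1, coeff_C_mul, coeff_monomial]
    split_ifs with h
    · rw [h]
    · simp
  | add p q hp hq => rw [map_add, coeff_add, coeff_add, hp, hq, mul_add]

/-- Let k be a field containing a primitive r-th root of unity ζ and 0 < a < r. The cyclic group of r-th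
roots of unity acts on k[X, Y] through the generator X ↦ ζ⁻¹ X, Y ↦ ζ^(−a) Y, and the ring of
invariants of this action is generated as a k-algebra by the monomials X^i Y^j with 0 ≤ i, j ≤ r,
(i, j) ≠ (r, r) and i + a·j ≡ 0 (mod r). (The printed statement writes n for the order of the group,
which the surrounding section calls r.) -/
theorem result (k : Type u) [Field k] (r a : ℕ) (ha : 0 < a) (har : a < r)
    (ζ : k) (hζ : IsPrimitiveRoot ζ r) (p : MvPolynomial (Fin 2) k) :
    MvPolynomial.aeval (fun i : Fin 2 => if i = 0 then MvPolynomial.C ζ⁻¹ * MvPolynomial.X 0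
        else MvPolynomial.C (ζ⁻¹ ^ a) * (MvPolynomial.X 1 : MvPolynomial (Fin 2) k)) p = p ↔
      p ∈ Algebra.adjoin k {q : MvPolynomial (Fin 2) k | ∃ i j : ℕ, i ≤ r ∧ j ≤ r ∧ ¬ (i = r ∧ j = r) ∧
        r ∣ i + a * j ∧ q = MvPolynomial.X 0 ^ i * MvPolynomial.X 1 ^ j} := by
  classical
  have hr : 0 < r := by omega
  have hη : IsPrimitiveRoot ζ⁻¹ r := hζ.inv
  set σ := MvPolynomial.aeval (R := k) (fun i : Fin 2 => if i = 0 then MvPolynomial.C ζ⁻¹ * MvPolynomial.X 0
        else MvPolynomial.C (ζ⁻¹ ^ a) * (MvPolynomial.X 1 : MvPolynomial (Fin 2) k)) with hσ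
  set S := {q : MvPolynomial (Fin 2) k | ∃ i j : ℕ, i ≤ r ∧ j ≤ r ∧ ¬ (i = r ∧ j = r) ∧
        r ∣ i + a * j ∧ q = MvPolynomial.X 0 ^ i * MvPolynomial.X 1 ^ j} with hS
  have hX : ∀ i j : ℕ, r ∣ i + a * j →
      (MvPolynomial.X 0 ^ i * MvPolynomial.X 1 ^ j : MvPolynomial (Fin 2) k) ∈ Algebra.adjoin k S := by
    intro i j hij
    have h1 : (MvPolynomial.X 0 ^ r : MvPolynomial (Fin 2) k) ∈ Algebra.adjoin k S :=
      Algebra.subset_adjoin ⟨r, 0, le_rfl, by omega, by omega, by simp, by simp⟩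
    have h2 : (MvPolynomial.X 1 ^ r : MvPolynomial (Fin 2) k) ∈ Algebra.adjoin k S :=
      Algebra.subset_adjoin ⟨0, r, by omega, le_rfl, by omega, by simp, by simp⟩
    have h3 : (MvPolynomial.X 0 ^ (i % r) * MvPolynomial.X 1 ^ (j % r) :
        MvPolynomial (Fin 2) k) ∈ Algebra.adjoin k S := by
      refine Algebra.subset_adjoin ⟨i % r, j % r, (Nat.mod_lt _ hr).le, (Nat.mod_lt _ hr).le, ?_, ?_, rfl⟩
      · rintro ⟨h, -⟩
        exact (Nat.mod_lt i hr).ne h
      · rw [Nat.dvd_iff_mod_eq_zero] at hij ⊢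
        rw [← hij]
        exact ((Nat.mod_modEq i r).add ((Nat.mod_modEq j r).mul_left a))
    have h4 : (MvPolynomial.X 0 ^ i * MvPolynomial.X 1 ^ j : MvPolynomial (Fin 2) k) =
        ((MvPolynomial.X 0 ^ r) ^ (i / r) * (MvPolynomial.X 1 ^ r) ^ (j / r)) *
          (MvPolynomial.X 0 ^ (i % r) * MvPolynomial.X 1 ^ (j % r)) := by
      conv_lhs => rw [← Nat.div_add_mod i r, ← Nat.div_add_mod j r]
      rw [pow_add, pow_add, pow_mul, pow_mul]
      ring
    rw [h4]
    exact mul_mem (mul_mem (pow_mem h1 _) (pow_mem h2 _)) h3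
  constructor
  · intro hp
    rw [p.as_sum]
    refine sum_mem fun v hv => ?_
    have h1 := coeff_act k a ζ⁻¹ p v
    rw [← hσ, hp] at h1
    have h2 : (ζ⁻¹) ^ (v 0 + a * v 1) = 1 := by
      have h3 : MvPolynomial.coeff v p ≠ 0 := MvPolynomial.mem_support_iff.mp hv
      apply mul_right_cancel₀ h3
      rw [one_mul, ← h1]
    rw [hη.pow_eq_one_iff_dvd] at h2
    rw [MvPolynomial.monomial_eq, Finsupp.prod_fintype _ _ (fun i => pow_zero _), Fin.prod_univ_two,
      ← MvPolynomial.algebraMap_eq]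
    exact mul_mem (Subalgebra.algebraMap_mem _ _) (hX _ _ h2)
  · intro hp
    have hle : Algebra.adjoin k S ≤ AlgHom.equalizer σ (AlgHom.id k _) := by
      rw [Algebra.adjoin_le_iff]
      rintro _ ⟨i, j, -, -, -, hij, rfl⟩
      rw [SetLike.mem_coe, AlgHom.mem_equalizer, AlgHom.id_apply]
      obtain ⟨c, hc⟩ := hij
      have h5 : (ζ⁻¹) ^ (i + a * j) = 1 := by rw [hc, pow_mul, hη.pow_eq_one, one_pow]
      rw [map_mul, map_pow, map_pow, hσ, MvPolynomial.aeval_X, MvPolynomial.aeval_X, if_pos rfl,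
        if_neg (by decide), mul_pow, mul_pow, ← MvPolynomial.C_pow, ← MvPolynomial.C_pow, ← pow_mul]
      have h6 : MvPolynomial.C (ζ⁻¹ ^ i) * (MvPolynomial.X 0 : MvPolynomial (Fin 2) k) ^ i *
          (MvPolynomial.C (ζ⁻¹ ^ (a * j)) * MvPolynomial.X 1 ^ j) =
          MvPolynomial.C (ζ⁻¹ ^ (i + a * j)) * (MvPolynomial.X 0 ^ i * MvPolynomial.X 1 ^ j) := by
        rw [pow_add, MvPolynomial.C_mul]
        ring
      rw [h6, h5, MvPolynomial.C_1, one_mul]
    exact hle hp

end Groth.Agent.S10891
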