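import Groth.Statements.S10896
import Groth.Agent.Cubic.K655.TritanE
import Groth.Agent.Cubic.K656.Bridge

set_option autoImplicit false
universe u
open Cubic

namespace Groth.Agent.S10896

open K656.Trilin K656.Eckardt K656.Bridge K655.Tritan K655.Through

private theorem inf_eq {k : Type u} [Field k] {V : Type u} [AddCommGroup V] [Module k V]
    [FiniteDimensional k V] {L H1 H2 : Submodule k V} (hL : Module.finrank k ↥L = 2)
    (h1 : Module.finrank k ↥H1 = 3) (h2 : Module.finrank k ↥H2 = 3) (hne : H1 ≠ H2)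
    (hL1 : L ≤ H1) (hL2 : L ≤ H2) : H1 ⊓ H2 = L := by
  symm
  apply Submodule.eq_of_le_of_finrank_le (le_inf hL1 hL2)
  have hlt : H1 ⊓ H2 < H1 := by
    refine lt_of_le_of_ne inf_le_left fun h => hne ?_
    have h3 : H1 ≤ H2 := by rw [← h]; exact inf_le_right
    exact Submodule.eq_of_le_of_finrank_eq h3 (by rw [h1, h2])
  have := Submodule.finrank_lt_finrank_of_lt hlt
  omega

private theorem sup_eq {k : Type u} [Field k] {V : Type u} [AddCommGroup V] [Module k V]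
    [FiniteDimensional k V] {L L' H : Submodule k V} (hL : Module.finrank k ↥L = 2)
    (hL' : Module.finrank k ↥L' = 2) (hne : L' ≠ L) (hH : Module.finrank k ↥H = 3)
    {K : Submodule k V} (hK : Module.finrank k ↥K = 3) (h1 : L ≤ H) (h2 : L' ≤ H)
    (h3 : L ≤ K) (h4 : L' ≤ K) : H = K := by
  have hlt : L < L ⊔ L' := by
    refine lt_of_le_of_ne le_sup_left fun h => hne ?_
    have h3 : L' ≤ L := by rw [h]; exact le_sup_right
    exact Submodule.eq_of_le_of_finrank_eq h3 (by rw [hL, hL'])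
  have := Submodule.finrank_lt_finrank_of_lt hlt
  have e1 : L ⊔ L' = H := Submodule.eq_of_le_of_finrank_le (sup_le h1 h2) (by omega)
  have e2 : L ⊔ L' = K := Submodule.eq_of_le_of_finrank_le (sup_le h3 h4) (by omega)
  rw [← e1, e2]

/-- Over an algebraically closed field of characteristic zero, a smooth cubic surface S = V_+(f) ⊂ P^3
which contains a line contains two disjoint lines (2-dimensional subspaces of k^4 on which f
vanishes and which intersect trivially). -/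
theorem result (k : Type u) [Field k] [IsAlgClosed k] [CharZero k]
    (f : MvPolynomial (Fin 4) k) (hf : f.IsHomogeneous 3) (hf0 : f ≠ 0)
    (hsm : ∀ v : Fin 4 → k, v ≠ 0 → MvPolynomial.eval v f = 0 →
      ∃ i : Fin 4, MvPolynomial.eval v (MvPolynomial.pderiv i f) ≠ 0)
    (hL : ∃ U : Submodule k (Fin 4 → k), (Module.finrank k ↥U = 2 ∧ ∀ u ∈ U, MvPolynomial.eval u f = 0)) :
    ∃ U₁ U₂ : Submodule k (Fin 4 → k), (Module.finrank k ↥U₁ = 2 ∧ ∀ u ∈ U₁, MvPolynomial.eval u f = 0) ∧ (Module.finrank k ↥U₂ = 2 ∧ ∀ u ∈ U₂, MvPolynomial.eval u f = 0) ∧ U₁ ⊓ U₂ = ⊥ := by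
  have hT := tri_sym f
  have hS : Smooth (tri f) := smooth_tri hf hsm
  obtain ⟨L, hL2, hLf⟩ := hL
  have hLT : ∀ u ∈ L, tri f u u u = 0 := fun u hu => by rw [tri_diag hf]; exact hLf u hu
  have h5 := ncard_tri finrank4 hT hS L hL2 hLT
  have h1lt : 1 < {H | IsTri (tri f) L H}.ncard := by rw [h5]; norm_num
  obtain ⟨H1, H2, hH1, hH2, hne⟩ := (Set.one_lt_ncard_iff
    (Set.finite_of_ncard_ne_zero (by rw [h5]; norm_num))).mp h1lt
  obtain ⟨a1, a2, L1, -, a3, -, a4, -, -, a5, -, a6, -⟩ := hH1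
  obtain ⟨b1, b2, L2, -, b3, -, b4, -, -, b5, -, b6, -⟩ := hH2
  refine ⟨L1, L2, ⟨a3, fun u hu => by rw [← tri_diag hf]; exact a6 u hu⟩,
    ⟨b3, fun u hu => by rw [← tri_diag hf]; exact b6 u hu⟩, ?_⟩
  rw [Submodule.eq_bot_iff]
  rintro v ⟨hv1, hv2⟩
  by_contra hv
  have hvL : v ∈ L := by
    rw [← inf_eq hL2 a1 b1 hne a2 b2]
    exact ⟨a5 hv1, b5 hv2⟩
  obtain ⟨w0, hw0⟩ := hS v hv (a6 v hv1)
  have hK : Module.finrank k ↥(LinearMap.ker (tri f v v)) = 3 :=
    mem_ker_finrank finrank4 fun h => hw0 (by rw [h]; rfl)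
  apply hne
  rw [sup_eq hL2 a3 a4 a1 hK a2 a5 (le_tangent hT hvL hLT) (le_tangent hT hv1 a6),
    sup_eq hL2 b3 b4 b1 hK b2 b5 (le_tangent hT hvL hLT) (le_tangent hT hv2 b6)]

end Groth.Agent.S10896
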