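import Groth.Statements.S10897
import Groth.Agent.Cubic.K655.Through
import Groth.Agent.Cubic.K656.Bridge

set_option autoImplicit false
universe u
open Cubic

namespace Groth.Agent.S10897

open K656.Trilin K656.Eckardt K656.Bridge K655.Plane K655.Through

/-- Over an algebraically closed field of characteristic zero, through a point s of a smooth cubic
surface S = V_+(f) ⊂ P^3 there pass at most three lines contained in S, and these lines are
coplanar. With s given by a nonzero vector v with f(v) = 0, the lines through s on S are the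
2-dimensional subspaces of k^4 containing v on which f vanishes; there are at most three of them and
one 3-dimensional subspace contains them all. -/
theorem result (k : Type u) [Field k] [IsAlgClosed k] [CharZero k]
    (f : MvPolynomial (Fin 4) k) (hf : f.IsHomogeneous 3) (hf0 : f ≠ 0)
    (hsm : ∀ v : Fin 4 → k, v ≠ 0 → MvPolynomial.eval v f = 0 →
      ∃ i : Fin 4, MvPolynomial.eval v (MvPolynomial.pderiv i f) ≠ 0)
    (v : Fin 4 → k) (hv : v ≠ 0) (hfv : MvPolynomial.eval v f = 0) :
    {U : Submodule k (Fin 4 → k) | v ∈ U ∧ (Module.finrank k ↥U = 2 ∧ ∀ u ∈ U, MvPolynomial.eval u f = 0)}.Finite ∧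
      {U : Submodule k (Fin 4 → k) | v ∈ U ∧ (Module.finrank k ↥U = 2 ∧ ∀ u ∈ U, MvPolynomial.eval u f = 0)}.ncard ≤ 3 ∧
      ∃ H : Submodule k (Fin 4 → k), Module.finrank k ↥H = 3 ∧
        ∀ U : Submodule k (Fin 4 → k), v ∈ U → (Module.finrank k ↥U = 2 ∧ ∀ u ∈ U, MvPolynomial.eval u f = 0) → U ≤ H := by
  have hT := tri_sym f
  have hS : Smooth (tri f) := smooth_tri hf hsm
  have hvv : tri f v v v = 0 := by rw [tri_diag hf]; exact hfv
  have h1 := finite_ncard_le_of_forall_not
    {U : Submodule k (Fin 4 → k) | v ∈ U ∧ (Module.finrank k ↥U = 2 ∧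
      ∀ u ∈ U, MvPolynomial.eval u f = 0)} 3 (fun g hg h => by
    refine no_four_lines finrank4 hT hS hv hvv g hg fun i => ?_
    obtain ⟨h1, h2, h3⟩ := h i
    exact ⟨h1, h2, fun u hu => by rw [tri_diag hf]; exact h3 u hu⟩)
  refine ⟨h1.1, h1.2, LinearMap.ker (tri f v v), ?_, fun U hvU hU => ?_⟩
  · obtain ⟨w0, hw0⟩ := hS v hv hvv
    exact mem_ker_finrank finrank4 fun h => hw0 (by rw [h]; rfl)
  · exact le_tangent hT hvU fun u hu => by rw [tri_diag hf]; exact hU.2 u hu

end Groth.Agent.S10897
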