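import Groth.Statements.S10912
-- import your own Groth.Agent.* helpers here
import Groth.Agent.WDiv.K654.OrdOpen

set_option autoImplicit false
universe u
open CategoryTheory CategoryTheory.Limits AlgebraicGeometry TopologicalSpace
open WDiv

namespace Groth.Agent.S10912

/-- Let X be an integral Noetherian separated scheme which is regular in codimension 1, and U a nonempty
open subscheme whose complement has codimension at least 2: every point not in U has coheight ≥ 2 in
the specialization order. Then restriction identifies the divisor class groups of X and U;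
concretely, since all points of coheight 1 lie in U, a Weil divisor D on X (integer-valued function
with finite support inside the coheight-1 points) is the divisor of a nonzero rational function on X
if and only if its restriction to U is the divisor of a nonzero rational function on U. -/
theorem result (X : Scheme.{u}) [IsIntegral X]
    [IsNoetherian X] [X.IsSeparated]
    (hR1 : ∀ x : ↥X, Order.coheight x = 1 → IsDiscreteValuationRing ↑(X.presheaf.stalk x))
    (U : X.Opens) [Nonempty U] (hcod : ∀ x : ↥X, x ∉ U → 2 ≤ Order.coheight x)
    (D : ↥X → ℤ) (hD : ∀ x, Order.coheight x ≠ 1 → D x = 0) (hfin : {x | D x ≠ 0}.Finite) :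
    (∃ f : ↑X.functionField, f ≠ 0 ∧ ∀ x : ↥X, Order.coheight x = 1 → Scheme.ord f x = D x) ↔
      ∃ g : ↑(U : Scheme.{u}).functionField, g ≠ 0 ∧
        ∀ u : ↥(U : Scheme.{u}), Order.coheight u = 1 → Scheme.ord g u = D u.1 := by
  have hmem : ∀ x : ↥X, Order.coheight x = 1 → x ∈ U := by
    intro x hx
    by_contra hxU
    have := hcod x hxU
    rw [hx] at this
    exact absurd this (by decide)
  constructor
  · rintro ⟨f, hf0, hf⟩
    obtain ⟨g, hg0, hg⟩ := K654.OrdOpen.exists_on_open U f hf0
    refine ⟨g, hg0, fun u hu => ?_⟩
    rw [K654.OrdOpen.coheight_open U u] at hu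
    rw [hg u]
    exact hf u.1 hu
  · rintro ⟨g, hg0, hg⟩
    obtain ⟨f, hf0, hf⟩ := K654.OrdOpen.exists_of_open U g hg0
    refine ⟨f, hf0, fun x hx => ?_⟩
    obtain ⟨v, hv⟩ : ∃ v : ↥(U : Scheme.{u}), v.1 = x := ⟨⟨x, hmem x hx⟩, rfl⟩
    have h2 : Order.coheight v = 1 := by
      rw [K654.OrdOpen.coheight_open U v, hv]
      exact hx
    rw [← hv, hf v]
    exact hg v h2

end Groth.Agent.S10912
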