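import Groth.Statements.S10922
import Groth.Agent.CInt.K139.GenSpec

set_option autoImplicit false
universe u
open CInt

namespace Groth.Agent.S10922

/-- Let k be an algebraically closed field, n ≥ 1, r < n, and d_1, …, d_r positive integers. Then there
are homogeneous polynomials f_1, …, f_r in S = k[x_0, …, x_n] of degrees d_1, …, d_r such that each
hypersurface V(f_i) ⊆ P^n_k is nonsingular and Y = V(f_1, …, f_r) is a nonsingular irreducible
variety of codimension r, hence a global complete intersection of the V(f_i). Nonsingularity and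
irreducibility are expressed on the affine cones: S/(f_i) and S/(f_1, …, f_r) have regular
localizations at every prime not containing all the x_j (every point of the cone other than the
vertex), S/(f_1, …, f_r) is an integral domain, and the ideal (f_1, …, f_r) has height r. -/
theorem result (k : Type u) [Field k] [IsAlgClosed k]
    (n r : ℕ) (hr : r < n) (d : Fin r → ℕ) (hd : ∀ i, 0 < d i) :
    ∃ f : Fin r → MvPolynomial (Fin (n + 1)) k,
      (∀ i, (f i).IsHomogeneous (d i)) ∧
      (∀ (i : Fin r) (Q : Ideal (MvPolynomial (Fin (n + 1)) k ⧸ Ideal.span {f i})) [Q.IsPrime],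
        (∃ j, Ideal.Quotient.mk (Ideal.span {f i}) (MvPolynomial.X j) ∉ Q) →
          IsRegularLocalRing (Localization.AtPrime Q)) ∧
      IsDomain (MvPolynomial (Fin (n + 1)) k ⧸ Ideal.span (Set.range f)) ∧
      (Ideal.span (Set.range f)).height = r ∧
      ∀ (Q : Ideal (MvPolynomial (Fin (n + 1)) k ⧸ Ideal.span (Set.range f))) [Q.IsPrime],
        (∃ j, Ideal.Quotient.mk (Ideal.span (Set.range f)) (MvPolynomial.X j) ∉ Q) →
          IsRegularLocalRing (Localization.AtPrime Q) := by
  obtain ⟨f, hf, hJ, hJ1⟩ := K139.GenSpec.exists_forms k n r d hd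
  have hc : ∀ i, MvPolynomial.constantCoeff (f i) = 0 := fun i => by
    have h := (hf i).coeff_eq_zero (d := 0) (by
      simp only [map_zero]
      exact (hd i).ne)
    rw [MvPolynomial.constantCoeff_eq]
    exact h
  refine ⟨f, hf, fun i Q hQ => ?_, ?_, ?_, fun Q _ ⟨j, hj⟩ => ?_⟩
  · have hrange : Set.range (fun _ : Fin 1 => f i) = {f i} := Set.range_const
    have key : ∀ (Q : Ideal (MvPolynomial (Fin (n + 1)) k ⧸ Ideal.span (Set.range (fun _ : Fin 1 => f i))))
        [Q.IsPrime], (∃ j, Ideal.Quotient.mk (Ideal.span (Set.range (fun _ : Fin 1 => f i)))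
          (MvPolynomial.X j) ∉ Q) → IsRegularLocalRing (Localization.AtPrime Q) := by
      rintro Q _ ⟨j, hj⟩
      exact (Groth.Agent.Lefpen.H718.Reg.isRegularLocalRing_cone _ (hJ1 i) Q j hj).1
    rw [hrange] at key
    exact key Q
  · obtain ⟨m, rfl⟩ : ∃ m, n = m + r := ⟨n - r, by omega⟩
    exact Groth.Agent.Lefpen.H718.Grade.isDomain f hf hc hJ rfl (by omega)
  · refine le_antisymm ?_ (Groth.Agent.Lefpen.H718.Reg.le_height f hJ (by omega))
    have h1 : (Ideal.span (Set.range f)) ≠ ⊤ := by
      intro htop
      have h2 : (1 : MvPolynomial (Fin (n + 1)) k) ∈ Ideal.span (Set.range f) := by rw [htop]; trivial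
      have h3 : Ideal.span (Set.range f) ≤ RingHom.ker (MvPolynomial.constantCoeff (σ := Fin (n + 1)) (R := k)) := by
        rw [Ideal.span_le]
        rintro _ ⟨i, rfl⟩
        exact hc i
      have h4 := h3 h2
      rw [RingHom.mem_ker, map_one] at h4
      exact one_ne_zero h4
    refine (Ideal.height_le_spanFinrank _ h1).trans ?_
    have h5 := Submodule.spanFinrank_span_le_ncard_of_finite
      (R := MvPolynomial (Fin (n + 1)) k) (Set.finite_range f)
    have h6 : (Set.range f).ncard ≤ r := by
      have h7 := Finite.card_range_le f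
      rwa [Nat.card_coe_set_eq, Nat.card_eq_fintype_card, Fintype.card_fin] at h7
    exact_mod_cast h5.trans h6
  · exact (Groth.Agent.Lefpen.H718.Reg.isRegularLocalRing_cone _ hJ Q j hj).1

end Groth.Agent.S10922
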