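import Groth.Statements.S10926
import Groth.Agent.S10925
import Groth.Agent.Grpsch.PicGrp

set_option autoImplicit false
universe u
open CategoryTheory CategoryTheory.Limits AlgebraicGeometry
open PicF

namespace Groth.Agent.S10926

/-- Let k be an algebraically closed field, Y an integral scheme of finite type over k, f : X → Y flat
and projective (f = i ≫ pr for a closed immersion i : X → P^n_Y) with every fibre X_y integral, and
L, M invertible O_X-modules whose pullbacks to each fibre X_y are isomorphic. Then there is an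
invertible O_Y-module E with L ≅ M ⊗ f^*E. -/
theorem result (k : Type u) [Field k] [IsAlgClosed k]
    {X Y : Scheme.{u}} (g : Y ⟶ Spec (CommRingCat.of k)) [LocallyOfFiniteType g] [QuasiCompact g]
    [IsIntegral Y] (n : ℕ) (i : X ⟶ CohB1.ProjSpaceOver n Y) [IsClosedImmersion i]
    (f : X ⟶ Y) (hf : f = i ≫ CohB1.ProjSpaceOver.toBase n Y) [Flat f]
    (hint : ∀ y : Y, IsIntegral (f.fiber y))
    (L M : X.Modules) (hL : PicF.IsInvertible L) (hM : PicF.IsInvertible M)
    (hLM : ∀ y : Y, Nonempty ((Scheme.Modules.pullback (f.fiberι y)).obj L ≅ (Scheme.Modules.pullback (f.fiberι y)).obj M)) :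
    ∃ E : Y.Modules, PicF.IsInvertible E ∧
      Nonempty (L ≅ CohB1.tensorMod M ((Scheme.Modules.pullback f).obj E)) := by
  obtain ⟨E, hE, hE1⟩ : ∃ E : X.Modules, ∃ hE : PicF.IsInvertible E,
      Groth.Agent.Grpsch.PicGrp.mk L hL * (Groth.Agent.Grpsch.PicGrp.mk M hM)⁻¹ =
        Groth.Agent.Grpsch.PicGrp.mk E hE := Groth.Agent.Grpsch.PicGrp.exists_mk _
  have htriv : ∀ y : Y, Nonempty ((Scheme.Modules.pullback (f.fiberι y)).obj E ≅
      Coh.structureModule (f.fiber y)) := by
    intro y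
    have h1 : Groth.Agent.Grpsch.PicGrp.pull (f.fiberι y) (Groth.Agent.Grpsch.PicGrp.mk E hE) = 1 := by
      rw [← hE1, map_mul, map_inv, Groth.Agent.Grpsch.PicGrp.pull_mk,
        Groth.Agent.Grpsch.PicGrp.pull_mk, Groth.Agent.Grpsch.PicGrp.mk_congr
          (hM := Groth.Agent.Fdesc.LocGen.isInvertible_pullback _ hM) (hLM y).some,
        mul_inv_cancel]
    rw [Groth.Agent.Grpsch.PicGrp.pull_mk] at h1
    exact (Groth.Agent.Grpsch.PicGrp.mk_eq_one_iff _).1 h1
  obtain ⟨h1, h2⟩ := Groth.Agent.S10925.result k g n i f hf hint E hE htriv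
  refine ⟨_, h1, ?_⟩
  have e : (Scheme.Modules.pullback f).obj ((Scheme.Modules.pushforward f).obj E) ≅ E :=
    asIso ((Scheme.Modules.pullbackPushforwardAdjunction f).counit.app E)
  rw [← Groth.Agent.Grpsch.PicGrp.mk_eq_iff hL
    (Groth.Agent.Fdesc.LocGen.isInvertible_tensorMod hM
      (Groth.Agent.Fdesc.LocGen.isInvertible_pullback f h1)),
    ← Groth.Agent.Grpsch.PicGrp.mk_mul_mk hM (Groth.Agent.Fdesc.LocGen.isInvertible_pullback f h1),
    Groth.Agent.Grpsch.PicGrp.mk_congr (hM := hE) e, ← hE1]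
  rw [mul_comm (Groth.Agent.Grpsch.PicGrp.mk L hL), mul_inv_cancel_left]

end Groth.Agent.S10926
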