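import Groth.Statements.S10927
import Groth.Agent.Books.BorelOrb2
import Groth.Agent.S10929

set_option autoImplicit false
universe u
open CategoryTheory CategoryTheory.Limits MonoidalCategory CartesianMonoidalCategory MonObj GrpObj AlgebraicGeometry
open Variety

namespace Groth.Agent.S10927

/-- Let k be an algebraically closed field of characteristic zero, G a group variety over k (an
integral, separated k-group scheme of finite type) and X a homogeneous space for G: a k-variety
(integral, separated, of finite type over k) with an action of G such that G(k) acts transitively on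
X(k). Then for every k-point x of X the orbit map G → X, g ↦ g · x, is smooth. -/
theorem result (k : Type u) [Field k] [IsAlgClosed k] [CharZero k]
    (G X : Over (Spec (CommRingCat.of k))) [GrpObj G] (a : AlgGrp.Action G X)
    [IsIntegral G.left] [IsSeparated G.hom] [LocallyOfFiniteType G.hom] [QuasiCompact G.hom]
    [IsIntegral X.left] [IsSeparated X.hom] [LocallyOfFiniteType X.hom] [QuasiCompact X.hom]
    (htrans : ∀ x x' : 𝟙_ (Over (Spec (CommRingCat.of k))) ⟶ X,
      ∃ σ : 𝟙_ (Over (Spec (CommRingCat.of k))) ⟶ G, CartesianMonoidalCategory.lift σ x ≫ a.act = x')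
    (x : 𝟙_ (Over (Spec (CommRingCat.of k))) ⟶ X) :
    Smooth (a.orbitMap x).left := by
  have hJ : JacobsonSpace X.left := LocallyOfFiniteType.jacobsonSpace X.hom
  have hdom : DenseRange (a.orbitMap x).left := by
    have h1 : closedPoints X.left ⊆ Set.range (a.orbitMap x).left := by
      intro y hy
      obtain ⟨x', hx'⟩ := Books.BorelOrb2.exists_section X y hy
      obtain ⟨σ, hσ⟩ := htrans x x'
      refine ⟨σ.left (IsLocalRing.closedPoint k), ?_⟩
      rw [← hx', ← hσ]
      have h2 : σ ≫ a.orbitMap x = CartesianMonoidalCategory.lift σ x ≫ a.act := by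
        rw [Books.BorelOrb.comp_orbitMap, SemiCartesianMonoidalCategory.toUnit_unique
          (SemiCartesianMonoidalCategory.toUnit (𝟙_ (Over (Spec (CommRingCat.of k))))) (𝟙 _),
          Category.id_comp]
        rfl
      rw [← h2, Over.comp_left]
      rfl
    have h2 : Dense (closedPoints X.left) := dense_iff_closure_eq.mpr closure_closedPoints
    exact h2.mono h1
  obtain ⟨U, hU, hsm⟩ := Groth.Agent.S10929.result k G.hom X.hom (a.orbitMap x).left
    (Over.w _) hdom
  choose g hg using Books.BorelOrb2.exists_translate (G := G) U hU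
  have hcov : ⨆ y, (Books.BorelOrb.ltr (g y)).left ⁻¹ᵁ U = ⊤ := by
    rw [eq_top_iff]
    intro y _
    exact TopologicalSpace.Opens.mem_iSup.mpr ⟨y, hg y⟩
  rw [IsZariskiLocalAtSource.iff_of_iSup_eq_top (P := @Smooth) _ hcov]
  intro y
  have h1 : (Books.BorelOrb.ltr (g y)).left ≫ (a.orbitMap x).left = (a.orbitMap x).left ≫ (Books.BorelOrb.tr a (g y)).left := by
    rw [← Over.comp_left, Books.BorelOrb.ltr_orbitMap, Over.comp_left]
  have h2 : IsIso (Books.BorelOrb.tr a (g y)).left := by
    exact ((Over.forget _).mapIso (Books.BorelOrb.trIso a (g y))).isIso_hom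
  have h3 : IsIso (Books.BorelOrb.ltr (g y)).left := by
    exact ((Over.forget _).mapIso (Books.BorelOrb.trIso (Books.BorelOrb.leftAct G) (g y))).isIso_hom
  have h4 : Smooth ((((Books.BorelOrb.ltr (g y)).left ⁻¹ᵁ U).ι ≫ (a.orbitMap x).left) ≫ (Books.BorelOrb.tr a (g y)).left) := by
    rw [Category.assoc, ← h1, ← Category.assoc, ← morphismRestrict_ι, Category.assoc]
    infer_instance
  have h5 : ((Books.BorelOrb.ltr (g y)).left ⁻¹ᵁ U).ι ≫ (a.orbitMap x).left =
      ((((Books.BorelOrb.ltr (g y)).left ⁻¹ᵁ U).ι ≫ (a.orbitMap x).left) ≫ (Books.BorelOrb.tr a (g y)).left) ≫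
        inv (Books.BorelOrb.tr a (g y)).left := by
    rw [Category.assoc, IsIso.hom_inv_id, Category.comp_id]
  rw [h5]
  infer_instance

end Groth.Agent.S10927
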