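import Groth.Statements.S10931
import Groth.Agent.ProjDual.K271.Bott

set_option autoImplicit false
universe u
open CategoryTheory CategoryTheory.Limits AlgebraicGeometry
open ProjDual

namespace Groth.Agent.S10931

/-- Let k be a field, p ≤ r and q ≤ r natural numbers, P = P^r_k with structure map to Spec k, Ω =
Ω^1_{P/k} (the conormal sheaf of the diagonal), L an O_P-module which is a p-th exterior power of Ω
and L' one which is an (r − p)-th exterior power of Ω, and d an integer; write M(d) = M ⊗ O_P(d).
Then H^q(P, L(d)) = H^q(P^r, Ω^p(d)) and H^{r−q}(P, L'(−d)) = H^{r−q}(P^r, Ω^{r−p}(−d)) have the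
same dimension over k. (The published statement asserts an isomorphism between these two cohomology
groups, obtained from Serre duality; this row records the equality of dimensions.) -/
theorem result (k : Type u) [Field k] (r p q : ℕ)
    (hp : p ≤ r) (hq : q ≤ r) (L L' : (CohB1.ProjSpace r k).Modules)
    (hL : ExtPow.IsExtPow p (Omega.sheaf (CohB1.ProjSpace.toSpec r k)) L)
    (hL' : ExtPow.IsExtPow (r - p) (Omega.sheaf (CohB1.ProjSpace.toSpec r k)) L') (d : ℤ) :
    Module.finrank k (Coh.HH (CohB1.ProjSpace r k) (CohB1.tensorMod L (Twist.twistProjSpace r k d)) q) =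
      Module.finrank k (Coh.HH (CohB1.ProjSpace r k)
        (CohB1.tensorMod L' (Twist.twistProjSpace r k (-d))) (r - q)) := by
  rw [K271.Bott.finrank_eq k r hp hq hL d, K271.Bott.finrank_eq k r (Nat.sub_le r p) (Nat.sub_le r q) hL' (-d)]
  rcases lt_trichotomy d 0 with h | h | h
  · rw [if_neg (show ¬ 0 < d by omega), if_pos h, if_pos (show 0 < -d by omega)]
    by_cases hqr : q = r
    · rw [if_pos hqr, if_pos (show r - q = 0 by omega), show (-d).toNat + r - (r - p) = (-d).toNat + p by omega]
    · rw [if_neg hqr, if_neg (show ¬ r - q = 0 by omega)]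
  · subst h
    simp only [lt_irrefl, neg_zero, if_false]
    by_cases hqp : q = p
    · rw [if_pos hqp, if_pos (show r - q = r - p by omega)]
    · rw [if_neg hqp, if_neg (show ¬ r - q = r - p by omega)]
  · rw [if_pos h, if_neg (show ¬ 0 < -d by omega), if_pos (show -d < 0 by omega)]
    by_cases hq0 : q = 0
    · rw [if_pos hq0, if_pos (show r - q = r by omega), neg_neg, show r - (r - p) = p by omega,
        show d.toNat + r - p = d.toNat + (r - p) by omega]
    · rw [if_neg hq0, if_neg (show ¬ r - q = r by omega)]

end Groth.Agent.S10931
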