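import Groth.Statements.S10933
import Groth.Agent.CAlg.K79.ExtSelf

set_option autoImplicit false
universe u
open CategoryTheory
open CAlg

namespace Groth.Agent.S10933

/-- Let A be a (Noetherian) regular local ring, M a finitely generated A-module and d a natural number.
Then the projective dimension of M equals d if and only if Ext^j_A(M, A) = 0 for every j > d and
Ext^d_A(M, A) ≠ 0. (Projective dimension valued in WithBot ℕ∞, the zero module having projective
dimension ⊥.) -/
theorem result (A : Type u) [CommRing A] [IsRegularLocalRing A]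
    (M : Type u) [AddCommGroup M] [Module A M] [Module.Finite A M] (d : ℕ) :
    projectiveDimension (ModuleCat.of A M) = (d : WithBot ℕ∞) ↔
      ((∀ j : ℕ, d < j → Subsingleton (Abelian.Ext (ModuleCat.of A M) (ModuleCat.of A A) j)) ∧
        Nontrivial (Abelian.Ext (ModuleCat.of A M) (ModuleCat.of A A) d)) := by
  constructor
  · intro h
    have h1 : HasProjectiveDimensionLT (ModuleCat.of A M) (d + 1) :=
      (projectiveDimension_le_iff _ d).mp h.le
    have h2 : ¬ HasProjectiveDimensionLT (ModuleCat.of A M) d :=
      (projectiveDimension_ge_iff _ d).mp h.ge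
    have h3 : ∀ j : ℕ, d < j → Subsingleton (Abelian.Ext (ModuleCat.of A M) (ModuleCat.of A A) j) :=
      fun j hj => HasProjectiveDimensionLT.subsingleton (ModuleCat.of A M) (d + 1) j hj _
    refine ⟨h3, ?_⟩
    rw [← not_subsingleton_iff_nontrivial]
    intro h4
    refine h2 (K79.ExtSelf.main (ModuleCat.of A M) d fun j hj => ?_)
    rcases hj.eq_or_lt with rfl | hj
    · exact h4
    · exact h3 j hj
  · rintro ⟨h1, h2⟩
    have h3 : HasProjectiveDimensionLT (ModuleCat.of A M) (d + 1) :=
      K79.ExtSelf.main (ModuleCat.of A M) (d + 1) fun j hj => h1 j hj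
    refine le_antisymm ((projectiveDimension_le_iff _ d).mpr h3)
      ((projectiveDimension_ge_iff _ d).mpr fun h4 => ?_)
    exact not_subsingleton_iff_nontrivial.mpr h2
      (HasProjectiveDimensionLT.subsingleton (ModuleCat.of A M) d d le_rfl _)

end Groth.Agent.S10933
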