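import Groth.Statements.S10935
import Groth.Agent.FlatMor.K260.DedFlat
import Groth.Agent.Fdesc.StructMod
-- import your own Groth.Agent.* helpers here

set_option autoImplicit false
universe u
open CategoryTheory CategoryTheory.Limits AlgebraicGeometry
open FlatMor

namespace Groth.Agent.S10935

/-- Let Y be an integral, regular (every local ring a regular local ring), one-dimensional scheme with
generic point η, X a Noetherian scheme and f : X → Y a morphism. Then f is flat if and only if every
associated point x of X — a point such that the maximal ideal of O_{X,x} is an associated prime of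
O_{X,x} — satisfies f(x) = η. -/
theorem result {X Y : Scheme.{u}} (f : X ⟶ Y)
    [IsIntegral Y] (hreg : ∀ y : Y, IsRegularLocalRing (Y.presheaf.stalk y))
    (hY : topologicalKrullDim ↥Y = 1) [IsNoetherian X] :
    Flat f ↔ ∀ x : X, Curv2.IsAssPoint (Coh.structureModule X) x → f.base x = genericPoint ↥Y := by
  have hV : ∀ y : Y, ValuationRing (Y.presheaf.stalk y) := fun y ↦ by
    have := hreg y
    exact K260.DedFlat.valuationRing_of_regular _ ((K260.DedFlat.ringKrullDim_stalk_le Y y).trans hY.le)
  constructor
  · intro hf x hx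
    have hx' : IsLocalRing.maximalIdeal (X.presheaf.stalk x) ∈
        associatedPrimes (X.presheaf.stalk x) (X.presheaf.stalk x) :=
      (Groth.Agent.Fdesc.StructMod.mem_Ass_structureModule_iff_stalk x).1 hx
    have hNst : IsNoetherianRing (X.presheaf.stalk x) := inferInstance
    obtain ⟨-, b, hb⟩ := isAssociatedPrime_iff.1 hx'
    by_contra hne
    have hsp : genericPoint Y ⤳ f x := genericPoint_specializes _
    have hnsp : ¬ (f x ⤳ genericPoint Y) := fun h ↦ hne (h.antisymm hsp).eq
    obtain ⟨W, hWo, hηW, hyW⟩ : ∃ W : Set Y, IsOpen W ∧ genericPoint Y ∈ W ∧ f x ∉ W := by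
      by_contra hcon
      push Not at hcon
      apply hnsp
      rw [specializes_iff_forall_open]
      exact hcon
    obtain ⟨U, hU, hyU, -⟩ := exists_isAffineOpen_mem_and_subset (X := Y) (U := ⊤) (x := f x) trivial
    have hηU : genericPoint Y ∈ U := hsp.mem_open U.2 hyU
    obtain ⟨a, haW, hηa⟩ := hU.exists_basicOpen_le (V := ⟨W, hWo⟩) ⟨genericPoint Y, hηW⟩ hηU
    have ha : f x ∉ Y.basicOpen a := fun h ↦ hyW (haW h)
    have ha0 : a ≠ 0 := by
      rintro rfl
      simp at hηa
    have ha1 : Y.presheaf.germ U (f x) hyU a ≠ 0 := by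
      intro h0
      apply ha0
      apply germ_injective_of_isIntegral Y (f x) hyU
      rw [h0, map_zero]
    have hflat := Flat.stalkMap f x
    letI := (f.stalkMap x).hom.toAlgebra
    have hflat' : Module.Flat (Y.presheaf.stalk (f x)) (X.presheaf.stalk x) := hflat
    have hreg' : IsSMulRegular (X.presheaf.stalk x) (Y.presheaf.germ U (f x) hyU a) :=
      Module.Flat.isSMulRegular_of_nonZeroDivisors (mem_nonZeroDivisors_of_ne_zero ha1)
    have hmem : f.stalkMap x (Y.presheaf.germ U (f x) hyU a) ∈ IsLocalRing.maximalIdeal (X.presheaf.stalk x) := by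
      rw [IsLocalRing.mem_maximalIdeal, mem_nonunits_iff]
      intro hu
      have hu' := (isUnit_map_iff (f.stalkMap x).hom _).1 hu
      apply ha
      rw [Scheme.mem_basicOpen _ _ _ hyU]
      exact hu'
    rw [hb, Submodule.mem_colon_singleton] at hmem
    have hb0 : b = 0 := by
      apply hreg'
      change (Y.presheaf.germ U (f x) hyU a) • b = (Y.presheaf.germ U (f x) hyU a) • 0
      rw [smul_zero]
      exact hmem
    have h1 : (1 : X.presheaf.stalk x) ∈ IsLocalRing.maximalIdeal (X.presheaf.stalk x) := by
      rw [hb, Submodule.mem_colon_singleton, hb0, smul_zero]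
      exact Submodule.zero_mem _
    exact (IsLocalRing.mem_maximalIdeal _).1 h1 isUnit_one
  · intro h
    rw [K260.DedFlat.flat_iff_nonZeroDivisors hV]
    intro U V e a b ha hab
    by_contra hb
    have : IsNoetherianRing Γ(X, V) := IsLocallyNoetherian.component_noetherian V
    obtain ⟨P, hP, hPb⟩ := exists_le_isAssociatedPrime_of_isNoetherianRing Γ(X, V) b hb
    have hPp : P.IsPrime := hP.isPrime
    have hV2 : IsAffineOpen V.1 := V.2
    let x : X := hV2.fromSpec ⟨P, hPp⟩
    have hxV : x ∈ V.1 := by
      have : x ∈ Set.range hV2.fromSpec := ⟨_, rfl⟩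
      rwa [hV2.range_fromSpec] at this
    have hxP : hV2.primeIdealOf ⟨x, hxV⟩ = ⟨P, hPp⟩ := by
      apply hV2.fromSpec.isOpenEmbedding.injective
      rw [hV2.fromSpec_primeIdealOf]
    have hass : Curv2.IsAssPoint (Coh.structureModule X) x := by
      have := (Groth.Agent.Fdesc.StructMod.mem_Ass_structureModule_iff hV2 x hxV).2
      rw [hxP] at this
      exact this hP
    have hfx : f x = genericPoint Y := h x hass
    have hxa : x ∈ X.basicOpen (f.appLE U V e a) := by
      rw [Scheme.basicOpen_appLE]
      refine ⟨hxV, ?_⟩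
      change f x ∈ Y.basicOpen a
      rw [hfx]
      exact K260.DedFlat.genericPoint_mem_basicOpen _ a ha
    have hPa : f.appLE U V e a ∈ P := by
      apply hPb
      rw [Submodule.mem_colon_singleton]
      simpa using hab
    have hcomap : hV2.primeIdealOf ⟨x, hxV⟩ ∈ PrimeSpectrum.basicOpen (f.appLE U V e a) := by
      have h2 : hV2.fromSpec (hV2.primeIdealOf ⟨x, hxV⟩) ∈ X.basicOpen (f.appLE U V e a) := by
        rw [hV2.fromSpec_primeIdealOf]; exact hxa
      have h3 := hV2.fromSpec_preimage_basicOpen (f.appLE U V e a)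
      rw [← h3]
      exact h2
    rw [hxP] at hcomap
    exact hcomap hPa

end Groth.Agent.S10935
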