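import Groth.Statements.S10941
import Groth.Agent.FlatMor.K260.FlatRelDim
-- import your own Groth.Agent.* helpers here

set_option autoImplicit false
universe u
open CategoryTheory CategoryTheory.Limits AlgebraicGeometry
open FlatMor

namespace Groth.Agent.S10941

open Groth.Agent.CycB.RelDim TopologicalSpace

/-- Let k be a field, X, Y and Y' schemes of finite type over k with Y irreducible, f : X → Y a flat
k-morphism and n a natural number such that every irreducible component of X has dimension dim Y +
n. Let g : Y' → Y be a k-morphism and f' : X ×_Y Y' → Y' the base change of f. Then for every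
irreducible closed subset V of Y', every irreducible component of the preimage of V under f' (with
the subspace topology) has dimension dim V + n. In particular (Y' = Y) every irreducible component
of f⁻¹(V) has dimension dim V + n for every irreducible closed V ⊆ Y. -/
theorem result (k : Type u) [Field k]
    {X Y Y' : Scheme.{u}} (qX : X ⟶ Spec (CommRingCat.of k)) (qY : Y ⟶ Spec (CommRingCat.of k))
    (qY' : Y' ⟶ Spec (CommRingCat.of k))
    [LocallyOfFiniteType qX] [QuasiCompact qX] [LocallyOfFiniteType qY] [QuasiCompact qY]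
    [LocallyOfFiniteType qY'] [QuasiCompact qY']
    [IrreducibleSpace ↥Y] (f : X ⟶ Y) (hf : f ≫ qY = qX) [Flat f] (n : ℕ)
    (hX : ∀ Z : Set ↥X, Z ∈ irreducibleComponents ↥X →
      topologicalKrullDim ↥Z = topologicalKrullDim ↥Y + (n : WithBot ℕ∞))
    (g : Y' ⟶ Y) (hg : g ≫ qY = qY')
    (V : Set ↥Y') (hV : IsClosed V) (hVirr : IsIrreducible V)
    (W : Set ↥((pullback.snd f g).base ⁻¹' V))
    (hW : W ∈ irreducibleComponents ↥((pullback.snd f g).base ⁻¹' V)) :
    topologicalKrullDim ↥W = topologicalKrullDim ↥V + (n : WithBot ℕ∞) := by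
  have hP : LocallyOfFiniteType (f ≫ qY) := by rw [hf]; infer_instance
  have hNY : IsLocallyNoetherian Y := LocallyOfFiniteType.isLocallyNoetherian qY
  have hNX : IsLocallyNoetherian X := LocallyOfFiniteType.isLocallyNoetherian qX
  have : LocallyOfFiniteType f := locallyOfFiniteType_of_comp f qY
  have hfield : IsField Γ(Spec (CommRingCat.of k), ⊤) :=
    (Scheme.ΓSpecIso (CommRingCat.of k)).commRingCatIsoToRingEquiv.toMulEquiv.isField
      (Field.toIsField k)
  -- the dimension of `Y`
  obtain ⟨d, -, hd⟩ := exists_dim_closure qY (isAffineOpen_top _) hfield (genericPoint Y)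
  have hdY : topologicalKrullDim Y = d := by
    rw [genericPoint_closure] at hd
    rw [← hd]
    exact (IsHomeomorph.topologicalKrullDim_eq _ (Homeomorph.Set.univ Y).isHomeomorph).symm
  have hYc : ∀ C ∈ irreducibleComponents (Y : Type u), topologicalKrullDim C = d := by
    intro C hC
    have : C = Set.univ := by
      rw [irreducibleComponents_eq_singleton] at hC
      exact hC
    rw [this, ← hdY]
    exact IsHomeomorph.topologicalKrullDim_eq _ (Homeomorph.Set.univ Y).isHomeomorph
  have hXc : ∀ C ∈ irreducibleComponents (X : Type u), topologicalKrullDim C = (d + n : ℕ) := by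
    intro C hC
    rw [hX C hC, hdY]
    rfl
  -- the generic point of `W`
  revert W
  set h := pullback.snd f g with hh
  intro W hW
  have hTc : IsClosed (h.base ⁻¹' V) := hV.preimage h.continuous
  have hWc : IsClosed W := isClosed_of_mem_irreducibleComponents W hW
  have hemb : Topology.IsClosedEmbedding (Subtype.val : ↥(h.base ⁻¹' V) → _) :=
    hTc.isClosedEmbedding_subtypeVal
  have hW'c : IsClosed (Subtype.val '' W) := hemb.isClosedMap _ hWc
  have hW'i : IsIrreducible (Subtype.val '' W) := hW.1.image _ continuous_subtype_val.continuousOn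
  obtain ⟨ξ, hξ⟩ := QuasiSober.sober hW'i hW'c
  have hξT : h ξ ∈ V := by
    have : ξ ∈ Subtype.val '' W := by
      rw [← hξ.def]; exact subset_closure rfl
    obtain ⟨w, -, hw⟩ := this
    rw [← hw]
    exact w.2
  have hmax : ∀ ξ', h ξ' ∈ V → ξ' ⤳ ξ → ξ' = ξ := by
    intro ξ' h1 h2
    have h3 : IsIrreducible (closure {(⟨ξ', h1⟩ : ↥(h.base ⁻¹' V))}) :=
      isIrreducible_singleton.closure
    have h4 : W ⊆ closure {(⟨ξ', h1⟩ : ↥(h.base ⁻¹' V))} := by
      intro w hw
      rw [← specializes_iff_mem_closure]
      rw [← hemb.isInducing.specializes_iff]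
      refine h2.trans ?_
      rw [specializes_iff_mem_closure, hξ.def]
      exact ⟨w, hw, rfl⟩
    have h5 := hW.2 h3 h4
    have h6 : ξ ⤳ ξ' := by
      rw [specializes_iff_mem_closure, hξ.def]
      exact ⟨_, h5 (subset_closure rfl), rfl⟩
    exact (h2.antisymm h6).eq
  obtain ⟨η, hη⟩ := QuasiSober.sober hVirr hV
  have hηξ : η ⤳ h ξ := by
    rw [specializes_iff_mem_closure, hη.def]
    exact hξT
  have hhξ : h ξ = η := by
    obtain ⟨z, hz, hmz⟩ := exists_specializes_of_flat h hηξ
    have : h z ∈ V := by
      rw [hmz, ← hη.def]; exact subset_closure rfl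
    rw [← hmz, hmax z this hz]
  have hgen : FibGeneric h ξ := by
    intro x' h1 h2
    refine hmax x' ?_ h2
    rw [h1]; exact hξT
  have hrtd : rtd h ξ = n := by
    rw [rtd_snd_of_fibGeneric_snd hgen]
    exact K260.FlatRelDim.rtd_eq f qY d n hYc hXc _
      (Groth.Agent.Old.H33.EquidimBC.fibGeneric_fst hgen)
  have : LocallyOfFiniteType h := by rw [hh]; infer_instance
  obtain ⟨a, ha, ha'⟩ := exists_dim_closure (h ≫ qY') (isAffineOpen_top _) hfield ξ
  obtain ⟨b, hb, hb'⟩ := exists_dim_closure qY' (isAffineOpen_top _) hfield η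
  rw [rtd_comp, hhξ, hrtd, hb] at ha
  have hab : a = b + n := by exact_mod_cast ha.symm
  have hWd : topologicalKrullDim W = a := by
    rw [← ha', hξ.def]
    have e := (hemb.isEmbedding.homeomorphImage W)
    exact IsHomeomorph.topologicalKrullDim_eq _ e.isHomeomorph
  rw [hWd, ← hη.def, hb', hab]
  rfl

end Groth.Agent.S10941
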