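import Groth.Statements.S10943
import Groth.Agent.Coherent.K47.ExtCoh

set_option autoImplicit false
universe u
open CategoryTheory AlgebraicGeometry
open Coherent

namespace Groth.Agent.S10943

/-- Let X be a Noetherian scheme and F, G coherent O_X-modules. Then for every i the Ext sheaf Ext^i(F,
G) - the i-th right derived functor of the internal Hom functor Hom(F, -) on O_X-modules (its
existence and that of injective resolutions are the stated instance hypotheses, both true),
evaluated at G - is a coherent O_X-module (quasi-coherent of finite type). -/
theorem result (X : Scheme.{u}) [IsNoetherian X] (F G : X.Modules)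
    (hF : Coh.IsCoh F) (hG : Coh.IsCoh G)
    [ModSite.HasSheafHom (O := X.sheaf) F] [HasInjectiveResolutions (ModSite.Mod X.sheaf)] (i : ℕ) :
    Coh.IsCoh ((ModSite.extSh (O := X.sheaf) F i).obj G) := by
  have : HasInjectiveResolutions X.Modules := Groth.Agent.Dcoh.DerSch.hasInjectiveResolutions X
  exact Groth.Agent.PerfA.CohSerre.isCoh_of_iso
    ((Groth.Agent.Coherent.K47.ExtCoh.extShIso F i).app G).symm
    (Groth.Agent.Coherent.K47.ExtCoh.isCoh_ext hF hG i)


end Groth.Agent.S10943
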