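import Groth.Statements.S10945
import Groth.Agent.Ega2.GlobGenCrit

set_option autoImplicit false
universe u
open CategoryTheory AlgebraicGeometry Opposite
open Coherent

namespace Groth.Agent.S10945

open CategoryTheory.Limits in
/-- Global generation of an extension. -/
theorem aux {X : Scheme.{u}} (S : ShortComplex X.Modules) (hS : S.ShortExact)
    (hsurj : ∀ t : Γ(S.X₃, ⊤), ∃ m : Γ(S.X₂, ⊤), S.g.app ⊤ m = t) (κ₁ κ₃ : Type u)
    (p₁ : (∐ fun _ : κ₁ ↦ Coh.structureModule X) ⟶ S.X₁) (hp₁ : Epi p₁)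
    (p₃ : (∐ fun _ : κ₃ ↦ Coh.structureModule X) ⟶ S.X₃) (hp₃ : Epi p₃) :
    ∃ s : κ₁ ⊕ κ₃ → (Coh.structureModule X ⟶ S.X₂), ∀ (T : X.Modules) (h : S.X₂ ⟶ T),
      (∀ k, s k ≫ h = 0) → h = 0 := by
  have hmono := hS.mono_f
  have hepi := hS.epi_g
  have hlift : ∀ k : κ₃, ∃ q : Coh.structureModule X ⟶ S.X₂,
      q ≫ S.g = Limits.Sigma.ι (fun _ : κ₃ ↦ Coh.structureModule X) k ≫ p₃ := by
    intro k
    obtain ⟨m, hm⟩ := hsurj (Fdesc.LocGen.sec
      (Limits.Sigma.ι (fun _ : κ₃ ↦ Coh.structureModule X) k ≫ p₃) ⊤)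
    refine ⟨Fdesc.LocGen.homOf m, Fdesc.LocGen.hom_ext_sec ?_⟩
    rw [Fdesc.LocGen.sec_comp, Fdesc.LocGen.sec_homOf]
    refine Eq.trans ?_ hm
    refine congrArg (S.g.app ⊤) ?_
    exact ConcreteCategory.congr_hom (S.X₂.presheaf.map_id (op ⊤)) m
  choose q hq using hlift
  refine ⟨Sum.elim (fun k => (Limits.Sigma.ι (fun _ : κ₁ ↦ Coh.structureModule X) k ≫ p₁) ≫ S.f) q,
    fun T h e => ?_⟩
  have e1 : S.f ≫ h = 0 := by
    rw [← cancel_epi p₁, comp_zero]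
    refine Limits.Sigma.hom_ext _ _ fun k => ?_
    rw [comp_zero]
    simpa using e (Sum.inl k)
  have e3 : S.g ≫ hS.exact.desc h e1 = h := hS.exact.g_desc h e1
  have e4 : hS.exact.desc h e1 = 0 := by
    rw [← cancel_epi p₃, comp_zero]
    refine Limits.Sigma.hom_ext _ _ fun k => ?_
    have e6 : q k ≫ h = 0 := e (Sum.inr k)
    rw [comp_zero, ← Category.assoc, ← hq k, Category.assoc, e3, e6]
  rw [← e3, e4, comp_zero]

/-- Let X be a scheme and 0 → F' → F → F'' → 0 a short exact sequence of O_X-modules whose map on global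
sections Γ(X, F) → Γ(X, F'') is surjective. If F' and F'' are generated by global sections (each is
a quotient of a free O_X-module), then F is generated by global sections. -/
theorem result (X : Scheme.{u})
    (S : ShortComplex X.Modules) (hS : S.ShortExact)
    (hsurj : Function.Surjective (S.g.val.app (op ⊤)).hom)
    (h1 : Curv2.IsGloballyGenerated S.X₁) (h3 : Curv2.IsGloballyGenerated S.X₃) :
    Curv2.IsGloballyGenerated S.X₂ := by
  obtain ⟨κ₁, p₁, hp₁⟩ := h1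
  obtain ⟨κ₃, p₃, hp₃⟩ := h3
  obtain ⟨s, hs⟩ := aux S hS (fun t => hsurj t) κ₁ κ₃ p₁ hp₁ p₃ hp₃
  have key : ∀ (T : X.Modules) (h₁ h₂ : S.X₂ ⟶ T), Ega2.GlobGenCrit.desc s ≫ h₁ =
      Ega2.GlobGenCrit.desc s ≫ h₂ → h₁ = h₂ := by
    intro T h₁ h₂ hh
    rw [← sub_eq_zero]
    refine hs T _ fun k => ?_
    rw [Preadditive.comp_sub, sub_eq_zero, Ega2.GlobGenCrit.ι_desc s k]
    exact (Category.assoc (obj := X.Modules) _ _ _).trans
      ((congrArg (fun t ↦ Limits.Sigma.ι (fun _ : κ₁ ⊕ κ₃ ↦ Coh.structureModule X) k ≫ t) hh).trans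
        (Category.assoc (obj := X.Modules) _ _ _).symm)
  exact ⟨κ₁ ⊕ κ₃, Ega2.GlobGenCrit.desc s, ⟨fun {T} h₁ h₂ e => key T h₁ h₂ e⟩⟩

end Groth.Agent.S10945
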