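import Groth.Statements.S10947
import Groth.Agent.CalgB.AmpleBase
import Groth.Agent.VarietyA.AmpleField
import Groth.Agent.S1108
import Groth.Agent.S0016
import Groth.Agent.FormalB.HHLin
import Groth.Agent.Ega3B.ProjProper
import Groth.Agent.Coherent.K47.DevTwo

set_option autoImplicit false
universe u
open CategoryTheory AlgebraicGeometry
open Coherent

namespace Groth.Agent.S10947

/-- Let k be a field and X a quasi-projective scheme over k, given with an immersion ι : X → P^N_k into
a projective space. If n is a natural number with H^i(X, E) = 0 for all finite locally free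
O_X-modules E and all i > n, then H^i(X, F) = 0 for all coherent O_X-modules F (quasi-coherent of
finite type) and all i > n. -/
theorem result
    (k : Type u) [Field k] (N : ℕ) {X : Scheme.{u}} (ι : X ⟶ CohB1.ProjSpace N k) [IsImmersion ι]
    (n : ℕ) (h : ∀ E : X.Modules, FlatMod.IsFinLocFree E → ∀ i : ℕ, n < i → Subsingleton (Coh.HH X E i))
    (F : X.Modules) (hF : Coh.IsCoh F) (i : ℕ) (hi : n < i) :
    Subsingleton (Coh.HH X F i) := by
  have hP : IsProper (CohB1.ProjSpace.toSpec N k) := inferInstance
  have hPN : IsLocallyNoetherian (CohB1.ProjSpace N k) :=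
    LocallyOfFiniteType.isLocallyNoetherian (CohB1.ProjSpace.toSpec N k)
  have hPc : CompactSpace (CohB1.ProjSpace N k) :=
    QuasiCompact.compactSpace_of_compactSpace (CohB1.ProjSpace.toSpec N k)
  have hPNN : IsNoetherian (CohB1.ProjSpace N k) := { }
  have hPs : TopologicalSpace.NoetherianSpace (CohB1.ProjSpace N k) := inferInstance
  have hXs : TopologicalSpace.NoetherianSpace X := ι.isEmbedding.isInducing.noetherianSpace
  have hXl : IsLocallyNoetherian X := LocallyOfFiniteType.isLocallyNoetherian ι
  have hXN : IsNoetherian X := { }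
  have hqc : QuasiCompact ι := inferInstance
  have hamp := Groth.Agent.CalgB.AmpleBase.isAmple_pullback_of_isImmersion ι
    (Groth.Agent.VarietyA.AmpleField.isAmple_twistProjSpace N k)
  have hres := Groth.Agent.S1108.result X _ hamp
  obtain ⟨d, hd⟩ := Groth.Agent.S0016.result X
  have key : ∀ m : ℕ, ∀ F : X.Modules, Coh.IsCoh F → ∀ i : ℕ, n < i → d ≤ i + m →
      Subsingleton (Coh.HH X F i) := by
    intro m
    induction m with
    | zero => exact fun F hF i _ hi => hd F hF.1 i (by omega)
    | succ m ih =>
      intro F hF i hi hdi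
      obtain ⟨E, π, hE, hπ⟩ := hres F hF.1 hF.2
      have hEc : Coh.IsCoh E := Groth.Agent.PerfA.CohSerre.isCoh_of_isFinLocFree hE
      have hK : Coh.IsCoh (Limits.kernel π) := Groth.Agent.CycB.CohProp.isCoh_kernel π hEc hF
      have hS : (ShortComplex.mk (Limits.kernel.ι π) π (Limits.kernel.condition π)).ShortExact :=
        { exact := ShortComplex.exact_of_f_is_kernel _ (Limits.kernelIsKernel π)
          mono_f := by dsimp; infer_instance
          epi_g := hπ }
      have h1 := h E hE i hi
      have h2 := ih _ hK (i + 1) (by omega) (by omega)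
      refine ⟨fun a b => ?_⟩
      obtain ⟨a', rfl⟩ := Groth.Agent.FormalB.HHLin.exact₃ hS i a (Subsingleton.elim _ _)
      obtain ⟨b', rfl⟩ := Groth.Agent.FormalB.HHLin.exact₃ hS i b (Subsingleton.elim _ _)
      rw [Subsingleton.elim a' b']
  exact key d F hF i hi (by omega)

end Groth.Agent.S10947
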