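import Groth.Statements.S10948
import Groth.Agent.Coherent.K47.GenIso

set_option autoImplicit false
universe u
open CategoryTheory AlgebraicGeometry
open Coherent

namespace Groth.Agent.S10948

/-- Let f : X → Y be a finite surjective morphism of integral Noetherian schemes. Then there are an
integer r ≥ 1, a coherent O_X-module M (quasi-coherent of finite type) and a morphism of O_Y-modules
α : O_Y^r → f_*M (O_Y^r the free O_Y-module on r generators) such that the map induced by α on
stalks of the underlying abelian sheaves at the generic point of Y is an isomorphism. -/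
theorem result
    {X Y : Scheme.{u}} [IsIntegral X] [IsNoetherian X] [IsIntegral Y] [IsNoetherian Y]
    (f : X ⟶ Y) [IsFinite f] [Surjective f] :
    ∃ (r : ℕ) (M : X.Modules) (α : (SheafOfModules.free (ULift.{u} (Fin r)) : Y.Modules) ⟶
        (Scheme.Modules.pushforward f).obj M),
      0 < r ∧ Coh.IsCoh M ∧
      IsIso ((TopCat.Presheaf.stalkFunctor AddCommGrpCat.{u} (genericPoint ↥Y)).map
        ((SheafOfModules.toSheaf Y.ringCatSheaf).map α).hom) := by
  obtain ⟨r, M, α, hr, hM, hα⟩ := Groth.Agent.Coherent.K47.GenIso.exists_alpha f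
  let w : (show Y.Modules from SheafOfModules.free (R := Y.ringCatSheaf) (ULift.{u} (Fin r))) ≅
      FlatMod.freeMod Y r :=
    Limits.Sigma.whiskerEquiv (C := Y.Modules) (f := fun _ : ULift.{u} (Fin r) => Coh.structureModule Y)
      (g := fun _ : Fin r => Coh.structureModule Y) Equiv.ulift (fun _ => Iso.refl _)
  refine ⟨r, M, w.hom ≫ α, hr, hM, ?_⟩
  have h : IsIso ((Groth.Agent.CohqB.DevSupport.stalkF Y (genericPoint Y)).map (w.hom ≫ α)) := by
    rw [Functor.map_comp]; infer_instance
  exact h

end Groth.Agent.S10948
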