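import Groth.Statements.S10952
import Groth.Agent.CohtopA.CechOpens
import Mathlib.CategoryTheory.Abelian.FunctorCategory
import Mathlib.Algebra.Homology.HomologySequence
import Mathlib.Tactic.Abel

set_option autoImplicit false
universe u
open CategoryTheory
open CohTop

namespace Groth.Agent.S10952

open TopologicalSpace Opposite CategoryTheory.Limits Simplicial
open CohtopA.CechInj CohtopA.CechLES CohtopA.CechOpens

section

variable {X : TopCat.{u}} {ι : Type u} (U : ι → Opens X) (P : (Opens X)ᵒᵖ ⥤ AddCommGrpCat.{u})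

/-- exactness in degree `q + 1` -/
def Ex (q : ℕ) : Prop := (cx (EU U) P).ExactAt (q + 1)

theorem ex_iff (q : ℕ) : Ex U P q ↔
    ∀ x : ev P (EU U _⦋q + 1⦌), dEv P (EU U) (q + 1) x = 0 → ∃ y, dEv P (EU U) q y = x :=
  cochain_exactAt_iff P q

theorem UU_cons_le (a : ι) {n : ℕ} (σ : Fin (n + 1) → ι) :
    UU U σ ⊓ U a ≤ UU U (Fin.cons a σ : Fin (n + 2) → ι) := by
  rw [UU_eq, UU_eq]
  refine le_iInf fun k => Fin.cases ?_ (fun i => ?_) k
  · exact inf_le_right
  · exact inf_le_left.trans (iInf_le _ i)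

theorem cp_add {n : ℕ} (i : Fin (n + 1) → ι) (x y : ev P (EU U _⦋n⦌)) :
    cp U P i (x + y) = cp U P i x + cp U P i y := map_add (comp P (EU U _⦋n⦌) i).hom x y

/-- Contraction with a member of the family. -/
theorem ex_of_bijective (a : ι)
    (h : ∀ {n : ℕ} (σ : Fin (n + 1) → ι), Function.Bijective
      (rP P (inf_le_left : UU U σ ⊓ U a ≤ UU U σ))) (q : ℕ) : Ex U P q := by
  rw [ex_iff]
  intro x hx
  have key : ∀ σ : Fin (q + 1) → ι, ∃ y : P.obj (op (UU U σ)),
      rP P (inf_le_left : UU U σ ⊓ U a ≤ UU U σ) y =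
        rP P (UU_cons_le U a σ) (cp U P (Fin.cons a σ : Fin (q + 2) → ι) x) := fun σ => (h σ).2 _
  choose y hy using key
  obtain ⟨z, hz⟩ := ev_exists P (W := EU U _⦋q⦌) y
  refine ⟨z, ev_ext P fun (σ : Fin (q + 2) → ι) => (h σ).1 ?_⟩
  have e1 := cp_dEv U P x (Fin.cons a σ : Fin (q + 3) → ι)
  have e2 : cp U P (Fin.cons a σ : Fin (q + 3) → ι) (dEv P (EU U) (q + 1) x) = 0 := by
    rw [hx]
    exact map_zero (comp P (EU U _⦋q + 2⦌) _).hom
  rw [e2, Fin.sum_univ_succ] at e1
  have e3 := congrArg (rP P (UU_cons_le U a σ)).hom e1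
  rw [map_zero, map_add, map_sum] at e3
  have e4 : (rP P (UU_cons_le U a σ)).hom (((-1 : ℤ) ^ ((0 : Fin (q + 3)) : ℕ)) •
      rP P (UU_comp_le U (Fin.cons a σ : Fin (q + 3) → ι) (0 : Fin (q + 3)).succAbove)
        (cp U P ((Fin.cons a σ : Fin (q + 3) → ι) ∘ (0 : Fin (q + 3)).succAbove) x)) =
      rP P (inf_le_left : UU U σ ⊓ U a ≤ UU U σ) (cp U P σ x) := by
    simp only [Fin.val_zero, pow_zero, one_smul]
    refine (rP_rP P _ _ _).trans ?_
    refine cp_congr U P x ?_ _ _
    funext k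
    simp
  have e5 : ∀ k : Fin (q + 2), (rP P (UU_cons_le U a σ)).hom (((-1 : ℤ) ^ (k.succ : ℕ)) •
      rP P (UU_comp_le U (Fin.cons a σ : Fin (q + 3) → ι) k.succ.succAbove)
        (cp U P ((Fin.cons a σ : Fin (q + 3) → ι) ∘ k.succ.succAbove) x)) =
      - (((-1 : ℤ) ^ (k : ℕ)) • rP P (inf_le_left : UU U σ ⊓ U a ≤ UU U σ)
        (rP P (UU_comp_le U σ k.succAbove) (y (σ ∘ k.succAbove)))) := by
    intro k
    rw [map_zsmul, Fin.val_succ, pow_succ, mul_neg_one, neg_smul]
    congr 2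
    have hle : UU U σ ⊓ U a ≤ UU U (σ ∘ k.succAbove) ⊓ U a :=
      inf_le_inf_right _ (UU_comp_le U σ k.succAbove)
    have f1 := congrArg (rP P hle) (hy (σ ∘ k.succAbove))
    rw [rP_rP, rP_rP] at f1
    refine (rP_rP P _ _ _).trans ?_
    refine Eq.trans ?_ (f1.symm.trans (rP_rP P _ _ _).symm)
    refine cp_congr U P x ?_ _ _
    funext j
    refine Fin.cases ?_ (fun i => ?_) j
    · simp
    · simp
  rw [e4, Finset.sum_congr rfl (fun k _ => e5 k), Finset.sum_neg_distrib] at e3
  have e6 := cp_dEv U P z σ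
  have e7 : rP P (inf_le_left : UU U σ ⊓ U a ≤ UU U σ) (cp U P σ (dEv P (EU U) q z)) =
      ∑ k : Fin (q + 2), ((-1 : ℤ) ^ (k : ℕ)) • rP P (inf_le_left : UU U σ ⊓ U a ≤ UU U σ)
        (rP P (UU_comp_le U σ k.succAbove) (y (σ ∘ k.succAbove))) := by
    rw [e6]
    change (rP P _).hom _ = _
    rw [map_sum]
    refine Finset.sum_congr rfl fun k _ => ?_
    rw [map_zsmul]
    congr 3
    exact hz _
  exact e7.trans (sub_eq_zero.1 ((sub_eq_add_neg _ _).trans e3.symm)).symm

/-- Removing a member on which the presheaf vanishes. -/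
theorem ex_of_vanish (a : ι) (h0 : ∀ V : Opens X, V ≤ U a → Subsingleton (P.obj (op V))) (q : ℕ)
    (h : Ex (fun i : {i : ι // i ≠ a} => U i.1) P q) : Ex U P q := by
  classical
  let U' : {i : ι // i ≠ a} → Opens X := fun i => U i.1
  have hUU : ∀ {n : ℕ} (τ : Fin (n + 1) → {i : ι // i ≠ a}),
      UU U' τ = UU U (fun k => (τ k).1) := by
    intro n τ
    rw [UU_eq, UU_eq]
  have hsub : ∀ {n : ℕ} (σ : Fin (n + 1) → ι) (k : Fin (n + 1)), σ k = a →
      Subsingleton (P.obj (op (UU U σ))) := fun σ k hk => h0 _ (hk ▸ UU_le U σ k)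
  rw [ex_iff] at h ⊢
  intro x hx
  -- restrict the cochain
  obtain ⟨x', hx'⟩ := ev_exists P (W := EU U' _⦋q + 1⦌)
    (fun τ : Fin (q + 2) → {i : ι // i ≠ a} => rP P (hUU τ).le (cp U P (fun k => (τ k).1) x))
  obtain ⟨y', hy'⟩ := h x' (by
    refine ev_ext P fun (τ : Fin (q + 3) → {i : ι // i ≠ a}) => ?_
    have e1 := cp_dEv U' P x' τ
    have e2 := cp_dEv U P x (fun k => (τ k).1)
    have e3 : cp U P (fun k => (τ k).1) (dEv P (EU U) (q + 1) x) = 0 := by
      rw [hx]
      exact map_zero (comp P (EU U _⦋q + 2⦌) _).hom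
    rw [e3] at e2
    refine (e1.trans ?_).trans (map_zero (comp P (EU U' _⦋q + 2⦌) _).hom).symm
    have e4 := congrArg (rP P (hUU τ).le).hom e2
    rw [map_zero, map_sum] at e4
    refine Eq.trans ?_ e4.symm
    refine Finset.sum_congr rfl fun k _ => ?_
    rw [map_zsmul]
    congr 1
    have e5 : cp U' P (τ ∘ k.succAbove) x' = rP P (hUU (τ ∘ k.succAbove)).le
      (cp U P (fun j => ((τ ∘ k.succAbove) j).1) x) := hx' _
    rw [e5]
    refine (rP_rP P _ _ _).trans (Eq.trans ?_ (rP_rP P _ _ _).symm)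
    rfl)
  obtain ⟨y, hy⟩ := ev_exists P (W := EU U _⦋q⦌)
    (fun σ : Fin (q + 1) → ι => if hσ : ∀ k, σ k ≠ a then
      rP P (hUU (fun k => (⟨σ k, hσ k⟩ : {i : ι // i ≠ a}))).ge
        (cp U' P (fun k => (⟨σ k, hσ k⟩ : {i : ι // i ≠ a})) y') else 0)
  refine ⟨y, ev_ext P fun (σ : Fin (q + 2) → ι) => ?_⟩
  by_cases hσ : ∀ k, σ k ≠ a
  · let τ : Fin (q + 2) → {i : ι // i ≠ a} := fun k => ⟨σ k, hσ k⟩
    have e1 := cp_dEv U P y σ
    have e2 := cp_dEv U' P y' τ
    rw [hy'] at e2
    have e3 : cp U' P τ x' = rP P (hUU τ).le (cp U P σ x) := hx' τ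
    rw [e3] at e2
    have e4 := congrArg (rP P (hUU τ).ge).hom e2
    rw [map_sum] at e4
    have e5 : (rP P (hUU τ).ge).hom (rP P (hUU τ).le (cp U P σ x)) = cp U P σ x := by
      refine (rP_rP P _ _ _).trans ?_
      change P.map (𝟙 _) _ = _
      rw [P.map_id]
      rfl
    refine e1.trans (Eq.trans ?_ (e4.symm.trans e5))
    refine Finset.sum_congr rfl fun k _ => ?_
    rw [map_zsmul]
    congr 1
    have e6 : cp U P (σ ∘ k.succAbove) y = rP P (hUU (τ ∘ k.succAbove)).ge
        (cp U' P (τ ∘ k.succAbove) y') :=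
      (hy _).trans (dif_pos (fun j => hσ _))
    rw [e6]
    exact (rP_rP P _ _ _).trans (rP_rP P _ _ _).symm
  · simp only [ne_eq, not_forall, not_not] at hσ
    obtain ⟨k, hk⟩ := hσ
    have := hsub σ k hk
    exact Subsingleton.elim _ _

/-- Restriction to `U a`. -/
noncomputable def Pa (V : Opens X) : (Opens X)ᵒᵖ ⥤ AddCommGrpCat.{u} where
  obj W := P.obj (op (W.unop ⊓ V))
  map {W W'} f := P.map (homOfLE (inf_le_inf_right V (leOfHom f.unop))).op
  map_id W := P.map_id _
  map_comp f g := by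
    rw [← P.map_comp]
    rfl

noncomputable def toPa (V : Opens X) : P ⟶ Pa P V where
  app W := P.map (homOfLE inf_le_left).op
  naturality W W' f := by
    change P.map _ ≫ P.map _ = P.map _ ≫ P.map _
    rw [← P.map_comp, ← P.map_comp]
    rfl

theorem ex_Pa (a : ι) (q : ℕ) : Ex U (Pa P (U a)) q := by
  refine ex_of_bijective U _ a (fun σ => ?_) q
  have hle : UU U σ ⊓ U a ≤ (UU U σ ⊓ U a) ⊓ U a := le_inf le_rfl inf_le_right
  have : IsIso (P.map (homOfLE (inf_le_left : (UU U σ ⊓ U a) ⊓ U a ≤ UU U σ ⊓ U a)).op) :=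
    ⟨P.map (homOfLE hle).op, by rw [← P.map_comp]; exact P.map_id _,
      by rw [← P.map_comp]; exact P.map_id _⟩
  exact (ConcreteCategory.isIso_iff_bijective _).1 this

theorem isIso_toPa_app (V W : Opens X) (h : W ≤ V) : IsIso ((toPa P V).app (op W)) :=
  ⟨P.map (homOfLE (le_inf le_rfl h : W ≤ W ⊓ V)).op, by
    change P.map _ ≫ P.map _ = _
    rw [← P.map_comp]; exact P.map_id _,
      by
    change P.map _ ≫ P.map _ = _
    rw [← P.map_comp]; exact P.map_id _⟩

end

section

variable {X : TopCat.{u}} {ι : Type u} (U : ι → Opens X)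

theorem ses (S : ShortComplex ((Opens X)ᵒᵖ ⥤ AddCommGrpCat.{u})) (hS : S.ShortExact) :
    (cechSC (EU U) S).ShortExact :=
  cechSC_shortExact _ _ fun n i => hS.map_of_exact _

theorem ex_X₂ {S : ShortComplex ((Opens X)ᵒᵖ ⥤ AddCommGrpCat.{u})} (hS : S.ShortExact) (q : ℕ)
    (h1 : Ex U S.X₁ q) (h3 : Ex U S.X₃ q) : Ex U S.X₂ q := by
  have h := ses U S hS
  unfold Ex at *
  rw [HomologicalComplex.exactAt_iff_isZero_homology] at *
  exact (h.homology_exact₂ (q + 1)).isZero_of_both_zeros (h1.eq_of_src _ _) (h3.eq_of_tgt _ _)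

theorem ex_X₁ {S : ShortComplex ((Opens X)ᵒᵖ ⥤ AddCommGrpCat.{u})} (hS : S.ShortExact) (q : ℕ)
    (h3 : Ex U S.X₃ q) (h2 : Ex U S.X₂ (q + 1)) : Ex U S.X₁ (q + 1) := by
  have h := ses U S hS
  unfold Ex at *
  rw [HomologicalComplex.exactAt_iff_isZero_homology] at *
  exact (h.homology_exact₁ (q + 1) (q + 2) (by simp)).isZero_of_both_zeros (h3.eq_of_src _ _)
    (h2.eq_of_tgt _ _)

theorem subsingleton_obj_of_isZero {C : Type*} [Category* C] {P : C ⥤ AddCommGrpCat.{u}} (c : C)
    (h : IsZero (P.obj c)) : Subsingleton (P.obj c) := AddCommGrpCat.subsingleton_of_isZero h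

end

theorem main {X : TopCat.{u}} (n : ℕ) : ∀ {ι : Type u} [Finite ι] (U : ι → Opens X)
    (P : (Opens X)ᵒᵖ ⥤ AddCommGrpCat.{u}) (_ : Nat.card ι = n + 1) (q : ℕ) (_ : n ≤ q),
    Ex U P q := by
  induction n with
  | zero =>
    intro ι _ U P hn q hq
    obtain ⟨hsub, ⟨a⟩⟩ := Nat.card_eq_one_iff_unique.1 hn
    refine ex_of_bijective U P a (fun σ => ?_) q
    have hle : UU U σ ≤ UU U σ ⊓ U a := le_inf le_rfl (by
      have := UU_le U σ 0
      rwa [Subsingleton.elim (σ 0) a] at this)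
    have : IsIso (P.map (homOfLE (inf_le_left : UU U σ ⊓ U a ≤ UU U σ)).op) :=
      ⟨P.map (homOfLE hle).op, by rw [← P.map_comp]; exact P.map_id _,
        by rw [← P.map_comp]; exact P.map_id _⟩
    exact (ConcreteCategory.isIso_iff_bijective _).1 this
  | succ n ih =>
    intro ι _ U P hn q hq
    classical
    have : Nonempty ι := (Nat.card_pos_iff.1 (by omega)).1
    obtain ⟨a⟩ := this
    obtain ⟨q, rfl⟩ : ∃ q', q = q' + 1 := ⟨q - 1, by omega⟩
    have hcard : Nat.card {i : ι // i ≠ a} = n + 1 := by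
      have := Fintype.ofFinite ι
      rw [Nat.card_eq_fintype_card] at hn ⊢
      rw [Fintype.card_subtype_compl, hn, Fintype.card_unique]
      rfl
    let φ := toPa P (U a)
    have hiso : ∀ V : Opens X, V ≤ U a → IsIso (φ.app (op V)) := isIso_toPa_app P (U a)
    -- the kernel
    have hN : ∀ V : Opens X, V ≤ U a → Subsingleton ((kernel φ).obj (op V)) := by
      intro V hV
      have := hiso V hV
      refine subsingleton_obj_of_isZero (op V) ?_
      refine IsZero.of_iso ?_ (PreservesKernel.iso ((evaluation _ _).obj (op V)) φ)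
      have : Mono (((evaluation (Opens X)ᵒᵖ AddCommGrpCat.{u}).obj (op V)).map φ) :=
        inferInstanceAs (Mono (φ.app (op V)))
      exact isZero_kernel_of_mono _
    have hM : ∀ V : Opens X, V ≤ U a → Subsingleton ((cokernel φ).obj (op V)) := by
      intro V hV
      have := hiso V hV
      refine subsingleton_obj_of_isZero (op V) ?_
      refine IsZero.of_iso ?_ (PreservesCokernel.iso ((evaluation _ _).obj (op V)) φ)
      have : Epi (((evaluation (Opens X)ᵒᵖ AddCommGrpCat.{u}).obj (op V)).map φ) :=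
        inferInstanceAs (Epi (φ.app (op V)))
      exact isZero_cokernel_of_epi _
    have eN : Ex U (kernel φ) (q + 1) := ex_of_vanish U _ a hN _
      (ih (fun i : {i : ι // i ≠ a} => U i.1) _ hcard (q + 1) (by omega))
    have eM : Ex U (cokernel φ) q := ex_of_vanish U _ a hM _
      (ih (fun i : {i : ι // i ≠ a} => U i.1) _ hcard q (by omega))
    have h2 : (ShortComplex.mk (Abelian.image.ι φ) (cokernel.π φ) (kernel.condition _)).ShortExact :=
      { exact := ShortComplex.exact_kernel _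
        mono_f := inferInstanceAs (Mono (kernel.ι _))
        epi_g := inferInstanceAs (Epi (cokernel.π φ)) }
    have h1 : (ShortComplex.mk (kernel.ι φ) (Abelian.factorThruImage φ) (by
        rw [← cancel_mono (Abelian.image.ι φ), Category.assoc, Abelian.image.fac, kernel.condition,
          zero_comp])).ShortExact :=
      { exact := by
          have h3 : (ShortComplex.mk (kernel.ι φ) φ (kernel.condition _)).Exact :=
            ShortComplex.exact_kernel _
          let ψ : ShortComplex.mk (kernel.ι φ) (Abelian.factorThruImage φ) (by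
              rw [← cancel_mono (Abelian.image.ι φ), Category.assoc, Abelian.image.fac,
                kernel.condition, zero_comp]) ⟶ ShortComplex.mk (kernel.ι φ) φ (kernel.condition _) :=
            { τ₁ := 𝟙 _
              τ₂ := 𝟙 _
              τ₃ := Abelian.image.ι φ }
          have : Epi ψ.τ₁ := inferInstanceAs (Epi (𝟙 _))
          have : IsIso ψ.τ₂ := inferInstanceAs (IsIso (𝟙 _))
          have : Mono ψ.τ₃ := inferInstanceAs (Mono (Abelian.image.ι φ))
          exact (ShortComplex.exact_iff_of_epi_of_isIso_of_mono ψ).2 h3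
        mono_f := inferInstanceAs (Mono (kernel.ι _))
        epi_g := inferInstanceAs (Epi (Abelian.factorThruImage φ)) }
    exact ex_X₂ U h1 (q + 1) eN (ex_X₁ U h2 q eM (ex_Pa U P a (q + 1)))

theorem isZero_X_of_isEmpty {X : TopCat.{u}} {ι : Type u} [IsEmpty ι] (U : ι → Opens X)
    (P : (Opens X)ᵒᵖ ⥤ AddCommGrpCat.{u}) (q : ℕ) : IsZero ((cx (EU U) P).X q) := by
  have : Subsingleton (ev P (EU U _⦋q⦌)) :=
    ⟨fun x y => ev_ext P fun (i : Fin (q + 1) → ι) => isEmptyElim (i 0)⟩
  exact AddCommGrpCat.isZero_of_subsingleton (ev P (EU U _⦋q⦌))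


open TopologicalSpace Opposite CategoryTheory.Limits in
/-- Take a topological space X, a presheaf P of abelian groups on it, and an open cover U of X indexed
by a finite set with n elements. Then the Cech cohomology of P with respect to U, computed from the
full complex of ordered cochains, is zero in every degree q with n ≤ q. -/
theorem result {X : TopCat.{u}} (P : (Opens X)ᵒᵖ ⥤ AddCommGrpCat.{u})
    {ι : Type u} [Finite ι] (U : ι → Opens X) (hU : iSup U = ⊤) (q : ℕ) (hq : Nat.card ι ≤ q) :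
    IsZero (CohTop.cechH P U q) := by
  rcases Nat.eq_zero_or_pos (Nat.card ι) with h0 | h0
  · have : IsEmpty ι := Finite.card_eq_zero_iff.1 h0
    have h := isZero_X_of_isEmpty U P q
    exact ((cx (EU U) P).exactAt_iff_isZero_homology q).1 (ShortComplex.exact_of_isZero_X₂ _ h)
  · obtain ⟨q, rfl⟩ : ∃ q', q = q' + 1 := ⟨q - 1, by omega⟩
    have := main (Nat.card ι - 1) U P (by omega) q (by omega)
    exact ((cx (EU U) P).exactAt_iff_isZero_homology (q + 1)).1 this

end Groth.Agent.S10952
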