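import Groth.Statements.S10954
import Groth.Agent.CohqA.AffMorCrit
import Groth.Agent.EGA2.K30.AffCritRad

set_option autoImplicit false
universe u
open Coherent

namespace Groth.Agent.S10954

open AlgebraicGeometry CategoryTheory CategoryTheory.Limits Opposite in
/-- Let X be a quasi-compact scheme such that, for every short exact sequence 0 → F' → F → F'' → 0 of
quasi-coherent O_X-modules whose first term F' admits a monomorphism into a finite direct sum of
copies of O_X, taking global sections gives a surjection F(X) → F''(X). Then X is affine. (The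
published statement is an equivalence of three conditions on a quasi-compact scheme; this row states
the implication from exactness of global sections on such sequences to affineness.) -/
theorem result (X : Scheme.{u}) [CompactSpace X]
    (h : ∀ (S : ShortComplex X.Modules) (n : ℕ)
      (j : S.X₁ ⟶ ∏ᶜ (fun _ : Fin n => Coh.structureModule X)),
      S.ShortExact → Mono j → Coh.IsQCoh S.X₁ → Coh.IsQCoh S.X₂ → Coh.IsQCoh S.X₃ →
        Function.Surjective (S.g.val.app (op ⊤)).hom) :
    IsAffine X := by
  refine Groth.Agent.CohqA.AffCrit.isAffine_of_liftProp fun I => ?_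
  intro ι _ U hU s hs
  have hm : Mono (ClSub.idealModι I) := Groth.Agent.CohqA.IdealMod.mono_idealModι I
  have he : Epi (C := X.Modules) (ClSub.toSubscheme I) := K30.AffCritRad.epi_toSubscheme I
  let S : ShortComplex X.Modules := ShortComplex.mk (ClSub.idealModι I) (ClSub.toSubscheme I)
    (kernel.condition _)
  have hS : S.ShortExact :=
    { exact := ShortComplex.exact_of_f_is_kernel _ (kernelIsKernel (ClSub.toSubscheme I))
      mono_f := hm
      epi_g := he }
  have hj : Mono (Pi.lift (fun _ : Fin 1 => ClSub.idealModι I)) := by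
    have h2 : Mono (Pi.lift (fun _ : Fin 1 => ClSub.idealModι I) ≫
        Pi.π (fun _ : Fin 1 => Coh.structureModule X) 0) := by
      rw [limit.lift_π]
      exact hm
    exact mono_of_mono _ (Pi.π (fun _ : Fin 1 => Coh.structureModule X) 0)
  have h1 : Function.Surjective ((ClSub.toSubscheme I).app ⊤) :=
    h S 1 (Pi.lift (fun _ : Fin 1 => ClSub.idealModι I)) hS hj
      (Groth.Agent.CohqA.IdealMod.isQCoh_idealMod I)
      (Groth.Agent.CurvesB.UnitCoh.isCoh_structureModule X).1
      (Groth.Agent.CohqA.AffMorCrit.isQCoh_quotMod I)
  obtain ⟨t, ht⟩ := Groth.Agent.CohqA.H1Lift.exists_lift_of_compatible (ClSub.toSubscheme I) h1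
    (fun i ↦ (U i).1) hU.ge (fun i ↦ le_top) s (by
      intro i j V hi hj
      exact (Groth.Agent.CohqA.IdealMod.toSubscheme_app_eq_iff I V _ _).mpr (hs i j V hi hj))
  exact ⟨t, fun i ↦ (Groth.Agent.CohqA.IdealMod.toSubscheme_app_eq_iff I (U i) _ _).mp (ht i)⟩

end Groth.Agent.S10954
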