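import Groth.Statements.S10955
import Groth.Agent.S2788
import Mathlib.RingTheory.LocalRing.Module
import Mathlib.RingTheory.Etale.Kaehler
import Mathlib.RingTheory.Localization.BaseChange

set_option autoImplicit false
universe u
open scoped TensorProduct
open Unram

namespace Groth.Agent.S10955

/-- Injectivity of a linear map after base change to `K` can be checked after an intermediate base change. -/
theorem lTensor_injective_iff {R S K : Type u} [CommRing R] [CommRing S] [CommRing K] [Algebra R S]
    [Algebra S K] [Algebra R K] [IsScalarTower R S K] {M N M' N' : Type u} [AddCommGroup M]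
    [AddCommGroup N] [AddCommGroup M'] [AddCommGroup N'] [Module R M] [Module R N] [Module R M']
    [Module R N'] [Module S M'] [Module S N'] [IsScalarTower R S M'] [IsScalarTower R S N']
    (f : M →ₗ[R] N) (f' : M' →ₗ[S] N') (a : M →ₗ[R] M') (b : N →ₗ[R] N')
    (ha : IsBaseChange S a) (hb : IsBaseChange S b) (h : ∀ m, f' (a m) = b (f m)) :
    Function.Injective (f.lTensor K) ↔ Function.Injective (f'.lTensor K) := by
  let ψM := (ha.comp (TensorProduct.isBaseChange S M' K)).equiv
  let ψN := (hb.comp (TensorProduct.isBaseChange S N' K)).equiv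
  have hψM : ∀ x m, ψM (x ⊗ₜ m) = x ⊗ₜ a m := fun x m => by
    rw [IsBaseChange.equiv_tmul]
    simp [TensorProduct.smul_tmul']
  have hψN : ∀ x m, ψN (x ⊗ₜ m) = x ⊗ₜ b m := fun x m => by
    rw [IsBaseChange.equiv_tmul]
    simp [TensorProduct.smul_tmul']
  have hcomm : ∀ z, f'.lTensor K (ψM z) = ψN (f.lTensor K z) := by
    intro z
    induction z using TensorProduct.induction_on with
    | zero => simp
    | tmul x m => rw [hψM, LinearMap.lTensor_tmul, LinearMap.lTensor_tmul, hψN, h]
    | add x y hx hy => rw [map_add, map_add, hx, hy, map_add, map_add]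
  have hcomp : (f'.lTensor K) ∘ ψM = ψN ∘ (f.lTensor K) := funext hcomm
  constructor
  · intro hf
    have h1 : Function.Injective ((f'.lTensor K) ∘ ψM) := by
      rw [hcomp]; exact ψN.injective.comp hf
    exact (Function.Injective.of_comp_iff' _ ψM.bijective).mp h1
  · intro hf'
    have h1 : Function.Injective (ψN ∘ (f.lTensor K)) := by
      rw [← hcomp]; exact hf'.comp ψM.injective
    exact (Function.Injective.of_comp_iff ψN.injective _).mp h1

/-- Let A → B → C be ring homomorphisms with B and C finitely presented over A, let q be a prime ideal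
of C and p its inverse image in B, and assume that C is smooth over A at q and that B is smooth over
A at p. Then C is smooth over B at q if and only if the map obtained from the canonical map C ⊗_B
Ω_{B/A} → Ω_{C/A} by tensoring over C with the residue field k(q) is injective. -/
theorem result (A B C : Type u) [CommRing A] [CommRing B]
    [CommRing C] [Algebra A B] [Algebra B C] [Algebra A C] [IsScalarTower A B C]
    [Algebra.FinitePresentation A B] [Algebra.FinitePresentation A C] (q : Ideal C) [q.IsPrime]
    (hC : Algebra.IsSmoothAt A q) (hB : Algebra.IsSmoothAt A (q.under B)) :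
    Algebra.IsSmoothAt B q ↔
      Function.Injective ((KaehlerDifferential.mapBaseChange A B C).lTensor q.ResidueField) := by
  let Cq := Localization.AtPrime q
  have hfs : Algebra.FormallySmooth A Cq := hC
  -- base change maps
  let a : C ⊗[B] (Ω[B⁄A]) →ₗ[C] Cq ⊗[B] (Ω[B⁄A]) :=
    TensorProduct.AlgebraTensorModule.map (Algebra.linearMap C Cq) LinearMap.id
  let b : (Ω[C⁄A]) →ₗ[C] (Ω[Cq⁄A]) := KaehlerDifferential.map A A C Cq
  have ha : IsBaseChange Cq a := by
    rw [← IsBaseChange.comp_iff (TensorProduct.isBaseChange B (Ω[B⁄A]) C)]
    have h1 : (a.restrictScalars B) ∘ₗ (TensorProduct.mk B C (Ω[B⁄A]) 1) = TensorProduct.mk B Cq (Ω[B⁄A]) 1 := by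
      ext x
      simp [a]
    rw [h1]
    exact TensorProduct.isBaseChange B (Ω[B⁄A]) Cq
  have hb : IsBaseChange Cq b := (isLocalizedModule_iff_isBaseChange q.primeCompl Cq b).mp inferInstance
  have hab : ∀ m, KaehlerDifferential.mapBaseChange A B Cq (a m) = b (KaehlerDifferential.mapBaseChange A B C m) := by
    intro m
    induction m using TensorProduct.induction_on with
    | zero => simp
    | tmul x y =>
      have h1 : a (x ⊗ₜ y) = algebraMap C Cq x ⊗ₜ y := rfl
      rw [h1, KaehlerDifferential.mapBaseChange_tmul, KaehlerDifferential.mapBaseChange_tmul, map_smul,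
        algebraMap_smul]
      congr 1
      have h2 : (KaehlerDifferential.map A A B Cq) =
          (b.restrictScalars B) ∘ₗ (KaehlerDifferential.map A A B C) := by
        apply Derivation.liftKaehlerDifferential_unique
        ext z
        simp [b, ← IsScalarTower.algebraMap_apply]
      exact congrArg (fun f => f y) h2
    | add x y hx hy => rw [map_add, map_add, hx, hy, map_add, map_add]
  rw [lTensor_injective_iff (K := q.ResidueField) (KaehlerDifferential.mapBaseChange A B C)
    (KaehlerDifferential.mapBaseChange A B Cq) a b ha hb hab]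
  have hfin : Module.Finite Cq (Ω[Cq⁄A]) := inferInstance
  have hproj : Module.Projective Cq (Ω[Cq⁄A]) := inferInstance
  have hfree : Module.Free Cq (Ω[Cq⁄A]) := Module.free_of_flat_of_isLocalRing
  have hfinM : Module.Finite Cq (Cq ⊗[B] (Ω[B⁄A])) := inferInstance
  have h2 := IsLocalRing.split_injective_iff_lTensor_residueField_injective (KaehlerDifferential.mapBaseChange A B Cq)
  exact (Groth.Agent.S2788.formallySmooth_iff_retraction A B Cq).trans h2

end Groth.Agent.S10955
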