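import Groth.Statements.S10956
import Mathlib.RingTheory.Kaehler.TensorProduct

set_option autoImplicit false
universe u
open scoped TensorProduct
open CAlg

namespace Groth.Agent.S10956

/-- Let R be a commutative ring, A and B commutative R-algebras and T = A ⊗_R B, an A-algebra through
the left factor. There is a T-linear map r from Ω_{T/R} to T ⊗_A Ω_{A/R} sending d(a ⊗ b) to (1 ⊗ b)
⊗ da for all a in A and b in B, and together with the canonical map Ω_{T/R} → Ω_{T/A} it identifies
Ω_{T/R} with the product (T ⊗_A Ω_{A/R}) × Ω_{T/A}. (The published statement is the isomorphism of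
(Ω_{A/R} ⊗_R B) ⊕ (A ⊗_R Ω_{B/R}) with Ω_{T/R} matching the exterior differentials; it is stated
here through the canonical identifications T ⊗_A Ω_{A/R} = Ω_{A/R} ⊗_R B and Ω_{T/A} = A ⊗_R
Ω_{B/R}.) -/
theorem result (R A B : Type u) [CommRing R] [CommRing A] [CommRing B]
    [Algebra R A] [Algebra R B] :
    ∃ r : Ω[(A ⊗[R] B)⁄R] →ₗ[A ⊗[R] B] ((A ⊗[R] B) ⊗[A] Ω[A⁄R]),
      (∀ (a : A) (b : B), r (KaehlerDifferential.D R (A ⊗[R] B) (a ⊗ₜ[R] b)) =
          ((1 : A) ⊗ₜ[R] b) ⊗ₜ[A] KaehlerDifferential.D R A a) ∧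
        Function.Bijective (fun ω : Ω[(A ⊗[R] B)⁄R] =>
          (r ω, KaehlerDifferential.map R A (A ⊗[R] B) (A ⊗[R] B) ω)) := by
  let _ : Algebra B (A ⊗[R] B) := Algebra.TensorProduct.rightAlgebra
  let e := KaehlerDifferential.tensorKaehlerEquiv R B A (A ⊗[R] B)
  let r : Ω[(A ⊗[R] B)⁄R] →ₗ[A ⊗[R] B] ((A ⊗[R] B) ⊗[A] Ω[A⁄R]) :=
    e.symm.toLinearMap ∘ₗ KaehlerDifferential.map R B (A ⊗[R] B) (A ⊗[R] B)
  have hr : ∀ (a : A) (b : B), r (KaehlerDifferential.D R (A ⊗[R] B) (a ⊗ₜ[R] b)) =
          ((1 : A) ⊗ₜ[R] b) ⊗ₜ[A] KaehlerDifferential.D R A a := by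
    intro a b
    change e.symm (KaehlerDifferential.map R B (A ⊗[R] B) (A ⊗[R] B) _) = _
    rw [KaehlerDifferential.map_D]
    exact KaehlerDifferential.tensorKaehlerEquiv_symm_D_tmul' R B A b a
  have hrm : ∀ x : (A ⊗[R] B) ⊗[A] Ω[A⁄R],
      r (KaehlerDifferential.mapBaseChange R A (A ⊗[R] B) x) = x := by
    intro x
    induction x using TensorProduct.induction_on with
    | zero => rw [map_zero, map_zero]
    | add x y hx hy => rw [map_add, map_add, hx, hy]
    | tmul t ω =>
      rw [KaehlerDifferential.mapBaseChange_tmul, map_smul]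
      have hω : ω ∈ Submodule.span A (Set.range (KaehlerDifferential.D R A)) := by
        rw [KaehlerDifferential.span_range_derivation]
        trivial
      induction hω using Submodule.span_induction with
      | mem ω hω =>
        obtain ⟨a, rfl⟩ := hω
        rw [KaehlerDifferential.map_D]
        have h1 := hr a 1
        rw [Algebra.TensorProduct.algebraMap_apply, Algebra.algebraMap_self, RingHom.id_apply, h1,
          TensorProduct.smul_tmul', ← Algebra.TensorProduct.one_def, smul_eq_mul, mul_one]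
      | zero => rw [map_zero, map_zero, smul_zero, TensorProduct.tmul_zero]
      | add a b _ _ ha hb => rw [map_add, map_add, smul_add, ha, hb, TensorProduct.tmul_add]
      | smul c a _ ha =>
        have h2 : r (KaehlerDifferential.map R R A (A ⊗[R] B) (c • a)) =
            (algebraMap A (A ⊗[R] B) c) • r (KaehlerDifferential.map R R A (A ⊗[R] B) a) := by
          rw [map_smul, ← algebraMap_smul (A ⊗[R] B) c
            (KaehlerDifferential.map R R A (A ⊗[R] B) a), map_smul]
        rw [h2, smul_comm, ha, algebraMap_smul, TensorProduct.tmul_smul]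
  have hex := KaehlerDifferential.exact_mapBaseChange_map R A (A ⊗[R] B)
  have hsurj := KaehlerDifferential.map_surjective R A (A ⊗[R] B)
  refine ⟨r, hr, ?_, ?_⟩
  · intro ω ω' h
    simp only [Prod.mk.injEq] at h
    obtain ⟨h1, h2⟩ := h
    rw [← sub_eq_zero, ← map_sub] at h1 h2
    obtain ⟨x, hx⟩ := (hex _).mp h2
    rw [← hx, hrm] at h1
    rw [← sub_eq_zero, ← hx, h1, map_zero]
  · rintro ⟨x, y⟩
    obtain ⟨ω₀, rfl⟩ := hsurj y
    refine ⟨ω₀ + KaehlerDifferential.mapBaseChange R A (A ⊗[R] B) (x - r ω₀), ?_⟩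
    have h3 : KaehlerDifferential.map R A (A ⊗[R] B) (A ⊗[R] B)
        (KaehlerDifferential.mapBaseChange R A (A ⊗[R] B) (x - r ω₀)) = 0 :=
      hex.apply_apply_eq_zero _
    simp only [map_add, hrm, h3, add_zero, add_sub_cancel]

end Groth.Agent.S10956
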