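import Groth.Statements.S10957
import Groth.Agent.Ega4B.NormalAssoc

set_option autoImplicit false
universe u
open CAlg

namespace Groth.Agent.S10957

/-- Let A be a Noetherian local integral domain that is normal (integrally closed in its field of
fractions). If there is a nonzero element a of A such that the maximal ideal of A is an associated
prime of the A-module A/(a), then A is a discrete valuation ring. (The other conditions listed in
the published result — normal of dimension one, maximal ideal nonzero principal, regular of
dimension one — are the library's standard characterisations; this row records the criterion through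
an associated prime.) -/
theorem result
    (A : Type u) [CommRing A] [IsDomain A] [IsNoetherianRing A] [IsLocalRing A] [IsIntegrallyClosed A]
    (a : A) (ha : a ≠ 0)
    (hass : IsLocalRing.maximalIdeal A ∈ associatedPrimes A (A ⧸ Ideal.span ({a} : Set A))) :
    IsDiscreteValuationRing A := by
  rw [Agent.Ega4B.Zariski.mem_associatedPrimes_quotient_iff] at hass
  obtain ⟨hp, b, hb⟩ := hass
  have ham : a ∈ IsLocalRing.maximalIdeal A := by
    rw [hb]
    exact Ideal.mul_mem_right _ _ (Ideal.mem_span_singleton_self a)
  have hba : b ∉ Ideal.span {a} := by
    intro h
    apply hp.ne_top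
    rw [Ideal.eq_top_iff_one, hb, one_mul]
    exact h
  obtain ⟨y, hy0, hy⟩ := Agent.Ega4B.NormalAssoc.maximalIdeal_eq_span_of_colon a b ha ham hba
    (fun m hm => by
      obtain ⟨k, hk⟩ := Ideal.mem_span_singleton'.mp ((hb m).mp hm)
      exact ⟨k, by rw [hk, mul_comm]⟩)
  have hnf : ¬ IsField A := by
    rw [IsLocalRing.isField_iff_maximalIdeal_eq, hy, Ideal.span_singleton_eq_bot]
    exact hy0
  refine ((IsDiscreteValuationRing.TFAE A hnf).out 0 4).mpr ?_
  exact ⟨⟨y, hy⟩⟩

end Groth.Agent.S10957
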