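import Groth.Statements.S10959
import Mathlib.AlgebraicGeometry.AlgClosed.Basic

set_option autoImplicit false
universe u
open CategoryTheory MonoidalCategory CartesianMonoidalCategory MonObj GrpObj AlgebraicGeometry
open AbVar

namespace Groth.Agent.S10959

/-- Let K be an algebraically closed field and A an abelian variety over K (a group scheme over Spec K
with proper smooth structure morphism and irreducible underlying space). Let Z be a closed subset of
A which is not all of A, and z a K-valued point of A. Then there is a K-valued point x of A such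
that the point underlying z lies neither in the translate of Z by x nor in the translate of Z by the
inverse of x; here the translation by x is the morphism A → A given on points by a ↦ a·x, the
product of the identity and the constant map x in the group of morphisms into A. (The published
statement takes Z to be the support of an effective divisor; this row allows any closed subset other
than A.) -/
theorem result
    (K : Type u) [Field K] [IsAlgClosed K] (A : Over (Spec (CommRingCat.of K)))
    [GrpObj A] [IsProper A.hom] [Smooth A.hom] [IrreducibleSpace A.left]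
    (Z : Set A.left) (hZ : IsClosed Z) (hZne : Z ≠ Set.univ)
    (z : 𝟙_ (Over (Spec (CommRingCat.of K))) ⟶ A) :
    ∃ x : 𝟙_ (Over (Spec (CommRingCat.of K))) ⟶ A,
      Disjoint (Set.range z.left.base)
        ((𝟙 A * (toUnit A ≫ x)).left.base '' Z ∪ (𝟙 A * (toUnit A ≫ x)⁻¹).left.base '' Z) := by
  let pt : Spec (CommRingCat.of K) := IsLocalRing.closedPoint K
  have hsub : Subsingleton (Spec (CommRingCat.of K)) := inferInstanceAs (Subsingleton (PrimeSpectrum K))
  let α₁ : A ⟶ A := (toUnit A ≫ z) * (𝟙 A)⁻¹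
  let β₁ : A ⟶ A := (𝟙 A)⁻¹ * (toUnit A ≫ z)
  let α₂ : A ⟶ A := (toUnit A ≫ z) * 𝟙 A
  let β₂ : A ⟶ A := (toUnit A ≫ z)⁻¹ * 𝟙 A
  have hcz : ∀ β : A ⟶ A, β ≫ toUnit A ≫ z = toUnit A ≫ z := fun β => by
    rw [← Category.assoc, toUnit_unique (β ≫ toUnit A) (toUnit A)]
  have h1 : β₁ ≫ α₁ = 𝟙 A := by
    simp only [α₁, MonObj.comp_mul, GrpObj.comp_inv, hcz, Category.comp_id]
    simp only [β₁]
    group
  have h2 : β₂ ≫ α₂ = 𝟙 A := by
    simp only [α₂, MonObj.comp_mul, hcz, Category.comp_id]
    simp only [β₂]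
    group
  have hs : ∀ (α β : A ⟶ A), β ≫ α = 𝟙 A → Function.Surjective α.left := by
    intro α β h y
    refine ⟨β.left y, ?_⟩
    rw [← Scheme.Hom.comp_apply, ← Over.comp_left, h]
    simp
  have hne : (α₁.left ⁻¹' Zᶜ ∩ α₂.left ⁻¹' Zᶜ : Set A.left).Nonempty := by
    have hZn : (Zᶜ : Set A.left).Nonempty := Set.nonempty_compl.2 hZne
    refine nonempty_preirreducible_inter (hZ.isOpen_compl.preimage α₁.left.continuous)
      (hZ.isOpen_compl.preimage α₂.left.continuous) ?_ ?_
    · exact hZn.preimage (hs _ _ h1)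
    · exact hZn.preimage (hs _ _ h2)
  have : JacobsonSpace A.left := LocallyOfFiniteType.jacobsonSpace A.hom
  obtain ⟨c₀, hc₀, hc₃⟩ := nonempty_inter_closedPoints hne
    (((hZ.isOpen_compl.preimage α₁.left.continuous).inter
      (hZ.isOpen_compl.preimage α₂.left.continuous)).isLocallyClosed)
  obtain ⟨⟨c, hc⟩, e⟩ := (pointEquivClosedPoint A.hom).surjective ⟨c₀, hc₃⟩
  obtain rfl : c pt = c₀ := congr(($e).1)
  let x : 𝟙_ (Over (Spec (CommRingCat.of K))) ⟶ A := Over.homMk c hc
  have hx : ∀ (α : A ⟶ A), α.left (c pt) = (x ≫ α).left pt := fun α => by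
    rw [Over.comp_left, Scheme.Hom.comp_apply]; rfl
  have hu : ∀ (w : 𝟙_ (Over (Spec (CommRingCat.of K))) ⟶ A), x ≫ toUnit A ≫ w = w := fun w => by
    rw [← Category.assoc, toUnit_unique (x ≫ toUnit A) (𝟙 _), Category.id_comp]
  have k1 : (z * x⁻¹).left pt ∉ Z := by
    have := hc₀.1
    rw [Set.mem_preimage, hx] at this
    simpa only [α₁, MonObj.comp_mul, GrpObj.comp_inv, hu, Category.comp_id, Set.mem_compl_iff] using this
  have k2 : (z * x).left pt ∉ Z := by
    have := hc₀.2
    rw [Set.mem_preimage, hx] at this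
    simpa only [α₂, MonObj.comp_mul, hu, Category.comp_id, Set.mem_compl_iff] using this
  have key : ∀ (y : 𝟙_ (Over (Spec (CommRingCat.of K))) ⟶ A), (z * y⁻¹).left pt ∉ Z →
      ∀ t, z.left t ∉ (𝟙 A * (toUnit A ≫ y)).left.base '' Z := by
    rintro y hy t ⟨w, hw, hwe⟩
    obtain rfl : t = pt := hsub.elim _ _
    refine hy ?_
    have h3 : (𝟙 A * (toUnit A ≫ y)) ≫ (𝟙 A * (toUnit A ≫ y⁻¹)) = 𝟙 A := by
      have hcy : ∀ β : A ⟶ A, β ≫ toUnit A ≫ y⁻¹ = toUnit A ≫ y⁻¹ := fun β => by
        rw [← Category.assoc, toUnit_unique (β ≫ toUnit A) (toUnit A)]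
      rw [MonObj.comp_mul, Category.comp_id, hcy, GrpObj.comp_inv, _root_.mul_assoc, mul_inv_cancel, _root_.mul_one]
    have h4 : w = (𝟙 A * (toUnit A ≫ y⁻¹)).left (z.left pt) := by
      rw [← hwe]
      change w = (𝟙 A * (toUnit A ≫ y⁻¹)).left ((𝟙 A * (toUnit A ≫ y)).left w)
      rw [← Scheme.Hom.comp_apply, ← Over.comp_left, h3]
      simp
    have h5 : (𝟙 A * (toUnit A ≫ y⁻¹)).left (z.left pt) = (z * y⁻¹).left pt := by
      rw [← Scheme.Hom.comp_apply, ← Over.comp_left, MonObj.comp_mul, Category.comp_id,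
        ← Category.assoc, toUnit_unique (z ≫ toUnit A) (𝟙 _), Category.id_comp]
    rw [← h5, ← h4]
    exact hw
  refine ⟨x, ?_⟩
  rw [Set.disjoint_left]
  rintro _ ⟨t, rfl⟩ (h | h)
  · exact key x k1 t h
  · rw [← GrpObj.comp_inv] at h
    refine key x⁻¹ ?_ t h
    rwa [_root_.inv_inv]

end Groth.Agent.S10959
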