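import Groth.Statements.S10963
import Groth.Agent.Picfga.LineCocycle

set_option autoImplicit false
universe u
open CategoryTheory AlgebraicGeometry TopologicalSpace Opposite
open PicF

namespace Groth.Agent.S10963

/-- Let X be a scheme, (U_i)_{i ∈ ι} an open cover of X and, for all i, j, a unit η_ij of the ring of
functions on U_i ∩ U_j, such that on every triple intersection U_i ∩ U_j ∩ U_k the cocycle identity
η_ik = η_ij · η_jk holds. Then there exist an invertible O_X-module L and sections s_i of L over U_i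
such that each s_i generates L over U_i — for every open V ⊆ U_i the map r ↦ r · s_i|_V from
functions on V to sections of L over V is bijective — and s_i|_{U_i ∩ U_j} = η_ij · s_j|_{U_i ∩ U_j}
for all i, j. (This is the surjectivity of the map from invertible modules trivialised by the cover
to Čech 1-cohomology classes of the cover with values in the sheaf of units.) -/
theorem result (X : Scheme.{u}) {ι : Type u} (U : ι → X.Opens)
    (hU : iSup U = ⊤) (η : ∀ i j : ι, (Γ(X, U i ⊓ U j))ˣ)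
    (hη : ∀ i j k : ι,
      X.presheaf.map (homOfLE (inf_le_inf_right (U k) inf_le_left : U i ⊓ U j ⊓ U k ≤ U i ⊓ U k)).op
          (η i k : Γ(X, U i ⊓ U k)) =
        X.presheaf.map (homOfLE (inf_le_left : U i ⊓ U j ⊓ U k ≤ U i ⊓ U j)).op (η i j : Γ(X, U i ⊓ U j)) *
          X.presheaf.map (homOfLE (inf_le_inf_right (U k) inf_le_right : U i ⊓ U j ⊓ U k ≤ U j ⊓ U k)).op
            (η j k : Γ(X, U j ⊓ U k))) :
    ∃ (L : X.Modules) (s : ∀ i : ι, Γ(L, U i)),
      PicF.IsInvertible L ∧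
      (∀ (i : ι) (V : X.Opens) (h : V ≤ U i),
        Function.Bijective (fun r : Γ(X, V) => r • L.presheaf.map (homOfLE h).op (s i))) ∧
      ∀ i j : ι, L.presheaf.map (homOfLE (inf_le_left : U i ⊓ U j ≤ U i)).op (s i) =
        (η i j : Γ(X, U i ⊓ U j)) • L.presheaf.map (homOfLE (inf_le_right : U i ⊓ U j ≤ U j)).op (s j) := by
  have hg : ∀ i j k (T : X.Opens) (hi : T ≤ U i) (hj : T ≤ U j) (hk : T ≤ U k),
      Groth.Agent.Fdesc.LocGen.ores (le_inf hi hk) (η i k : Γ(X, U i ⊓ U k)) =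
        Groth.Agent.Fdesc.LocGen.ores (le_inf hi hj) (η i j : Γ(X, U i ⊓ U j)) *
          Groth.Agent.Fdesc.LocGen.ores (le_inf hj hk) (η j k : Γ(X, U j ⊓ U k)) := by
    intro i j k T hi hj hk
    have h1 := congrArg (Groth.Agent.Fdesc.LocGen.ores
      (le_inf (le_inf hi hj) hk : T ≤ U i ⊓ U j ⊓ U k)) (hη i j k)
    rw [map_mul] at h1
    change Groth.Agent.Fdesc.LocGen.ores _ (Groth.Agent.Fdesc.LocGen.ores _ _) =
      Groth.Agent.Fdesc.LocGen.ores _ (Groth.Agent.Fdesc.LocGen.ores _ _) *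
      Groth.Agent.Fdesc.LocGen.ores _ (Groth.Agent.Fdesc.LocGen.ores _ _) at h1
    simpa only [Groth.Agent.Fdesc.LocGen.ores_ores] using h1
  have hg₁ : ∀ i, ((η i i : (Γ(X, U i ⊓ U i))ˣ) : Γ(X, U i ⊓ U i)) = 1 := by
    intro i
    have h1 := hg i i i (U i ⊓ U i) inf_le_left inf_le_left inf_le_left
    rw [Groth.Agent.Fdesc.LocGen.ores_refl] at h1
    have h2 : η i i * η i i = η i i := by
      rw [Units.ext_iff, Units.val_mul]; exact h1.symm
    rw [mul_eq_left] at h2
    rw [h2, Units.val_one]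
  obtain ⟨L, e, he, het⟩ := Groth.Agent.Picfga.LineCocycle.exists_of_cocycle U
    (fun i j ↦ (η i j : Γ(X, U i ⊓ U j))) hg₁ hg
  refine ⟨L, e, (Groth.Agent.Fdesc.LocGen.isInvertible_iff L).2 fun x ↦ ?_, he, het⟩
  obtain ⟨i, hi⟩ := Opens.mem_iSup.1 (show x ∈ iSup U by rw [hU]; trivial)
  exact ⟨U i, e i, hi, he i⟩

end Groth.Agent.S10963
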