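import Groth.Statements.S10964
import Groth.Agent.Picfga.LineCocycle

set_option autoImplicit false
universe u
open CategoryTheory AlgebraicGeometry TopologicalSpace Opposite
open PicF

namespace Groth.Agent.S10964

/-- Let X be a scheme with an open cover (U_i)_{i ∈ ι}. Let L and L' be O_X-modules with sections s_i of
L and s'_i of L' over U_i that generate there (for every open V ⊆ U_i, r ↦ r · s_i|_V is a bijection
from functions on V onto sections of L over V, and likewise for s'_i), and let η_ij, η'_ij be the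
functions on U_i ∩ U_j with s_i = η_ij · s_j and s'_i = η'_ij · s'_j there. Then L and L' are
isomorphic as O_X-modules if and only if there is a family of units u_i of the rings of functions on
the U_i with η'_ij · u_i|_{U_i ∩ U_j} = u_j|_{U_i ∩ U_j} · η_ij for all i, j. (So two invertible
modules trivialised by the cover are isomorphic exactly when their transition cocycles define the
same Čech cohomology class.) -/
theorem result (X : Scheme.{u}) {ι : Type u} (U : ι → X.Opens)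
    (hU : iSup U = ⊤) (L L' : X.Modules) (s : ∀ i : ι, Γ(L, U i)) (s' : ∀ i : ι, Γ(L', U i))
    (hs : ∀ (i : ι) (V : X.Opens) (h : V ≤ U i),
        Function.Bijective (fun r : Γ(X, V) => r • L.presheaf.map (homOfLE h).op (s i)))
    (hs' : ∀ (i : ι) (V : X.Opens) (h : V ≤ U i),
        Function.Bijective (fun r : Γ(X, V) => r • L'.presheaf.map (homOfLE h).op (s' i)))
    (η η' : ∀ i j : ι, Γ(X, U i ⊓ U j))
    (hη : ∀ i j : ι, L.presheaf.map (homOfLE (inf_le_left : U i ⊓ U j ≤ U i)).op (s i) =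
        η i j • L.presheaf.map (homOfLE (inf_le_right : U i ⊓ U j ≤ U j)).op (s j))
    (hη' : ∀ i j : ι, L'.presheaf.map (homOfLE (inf_le_left : U i ⊓ U j ≤ U i)).op (s' i) =
        η' i j • L'.presheaf.map (homOfLE (inf_le_right : U i ⊓ U j ≤ U j)).op (s' j)) :
    Nonempty (L ≅ L') ↔ ∃ u : ∀ i : ι, (Γ(X, U i))ˣ, ∀ i j : ι,
      η' i j * X.presheaf.map (homOfLE (inf_le_left : U i ⊓ U j ≤ U i)).op (u i : Γ(X, U i)) =
        X.presheaf.map (homOfLE (inf_le_right : U i ⊓ U j ≤ U j)).op (u j : Γ(X, U j)) * η i j := by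
  have hsg : ∀ i, Groth.Agent.Fdesc.LocGen.IsGen (s i) := hs
  have hsg' : ∀ i, Groth.Agent.Fdesc.LocGen.IsGen (s' i) := hs'
  have hη1 : ∀ i j, Groth.Agent.Fdesc.LocGen.res L (inf_le_left : U i ⊓ U j ≤ U i) (s i) =
      η i j • Groth.Agent.Fdesc.LocGen.res L (inf_le_right : U i ⊓ U j ≤ U j) (s j) := hη
  have hη2 : ∀ i j, Groth.Agent.Fdesc.LocGen.res L' (inf_le_left : U i ⊓ U j ≤ U i) (s' i) =
      η' i j • Groth.Agent.Fdesc.LocGen.res L' (inf_le_right : U i ⊓ U j ≤ U j) (s' j) := hη'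
  constructor
  · rintro ⟨φ⟩
    have h1 : ∀ i, Groth.Agent.Fdesc.LocGen.IsGen (φ.hom.app (U i) (s i)) :=
      fun i ↦ (hsg i).app φ.hom
    have h0 : ∀ i, ∃ u : (Γ(X, U i))ˣ, φ.hom.app (U i) (s i) = (u : Γ(X, U i)) • s' i := by
      intro i
      obtain ⟨a, ha, ha'⟩ := (hsg' i).exists_unit (h1 i)
      exact ⟨ha.unit, ha'⟩
    choose u hu using h0
    refine ⟨u, fun i j ↦ ?_⟩
    change η' i j * Groth.Agent.Fdesc.LocGen.ores (inf_le_left : U i ⊓ U j ≤ U i) (u i : Γ(X, U i)) =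
      Groth.Agent.Fdesc.LocGen.ores (inf_le_right : U i ⊓ U j ≤ U j) (u j : Γ(X, U j)) * η i j
    have h2 := congrArg (φ.hom.app (U i ⊓ U j)) (hη1 i j)
    rw [Scheme.Modules.Hom.app_smul, Groth.Agent.Fdesc.LocGen.app_res,
      Groth.Agent.Fdesc.LocGen.app_res, hu i, hu j, Groth.Agent.Fdesc.LocGen.res_smul,
      Groth.Agent.Fdesc.LocGen.res_smul, hη2 i j, ← mul_smul, ← mul_smul] at h2
    have h3 := Groth.Agent.Picfga.LineHom.smul_inj (hsg' j) inf_le_right h2
    rw [mul_comm, h3, mul_comm]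
  · rintro ⟨u, hu⟩
    have hu' : ∀ i j, η' i j * Groth.Agent.Fdesc.LocGen.ores (inf_le_left : U i ⊓ U j ≤ U i) (u i : Γ(X, U i)) =
      Groth.Agent.Fdesc.LocGen.ores (inf_le_right : U i ⊓ U j ≤ U j) (u j : Γ(X, U j)) * η i j := hu
    obtain ⟨φ, -⟩ := Groth.Agent.Picfga.LineHom.exists_iso (L := L) (N := L') (U := U) (e := s)
      (n := fun i ↦ (u i : Γ(X, U i)) • s' i) hU hsg
      (Groth.Agent.Picfga.LineHom.trans_of_inf hsg fun i j ↦ ⟨η i j, hη1 i j, by
        rw [Groth.Agent.Fdesc.LocGen.res_smul, Groth.Agent.Fdesc.LocGen.res_smul, hη2 i j,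
          ← mul_smul, ← mul_smul, mul_comm, hu' i j, mul_comm]⟩)
      (fun i ↦ (hsg' i).unit_smul (u i).isUnit)
    exact ⟨φ⟩

end Groth.Agent.S10964
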