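import Groth.Statements.S10975
import Mathlib.LinearAlgebra.Quotient.Basic

set_option autoImplicit false
open FunFld

namespace Groth.Agent.S10975

/-- `A(D₁ ⊔ D₂) = A(D₁) + A(D₂)` for divisors of a function field of one variable. -/
theorem result (k K : Type*) [Field k] [Field K] [Algebra k K] (D₁ D₂ : FunFld.Divisor k K) :
    FunFld.AD (D₁ ⊔ D₂) = FunFld.AD D₁ ⊔ FunFld.AD D₂ := by
  classical
  refine le_antisymm ?_ (sup_le ?_ ?_)
  · intro a ha
    have h1 : a = (fun P => if D₂ P ≤ D₁ P then a P else 0) +
        (fun P => if D₂ P ≤ D₁ P then 0 else a P) := by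
      funext P
      simp only [Pi.add_apply]
      split_ifs <;> simp
    rw [h1]
    refine Submodule.add_mem_sup ?_ ?_
    · intro P
      dsimp only
      split_ifs with h
      · refine (ha P).trans_eq ?_
        rw [Finsupp.sup_apply, sup_eq_left.2 h]
      · simp
    · intro P
      dsimp only
      split_ifs with h
      · simp
      · refine (ha P).trans_eq ?_
        rw [Finsupp.sup_apply, sup_eq_right.2 (le_of_not_ge h)]
  · intro a ha P
    exact (ha P).trans (WithZero.exp_le_exp.2 (by rw [Finsupp.sup_apply]; exact le_sup_left))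
  · intro a ha P
    exact (ha P).trans (WithZero.exp_le_exp.2 (by rw [Finsupp.sup_apply]; exact le_sup_right))

end Groth.Agent.S10975
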