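import Groth.Statements.S10986

set_option autoImplicit false
open FunFld

namespace Groth.Agent.S10986

/-- `L(D) · W(C) ⊆ W(C - D)`: if `x ∈ L(D)` and `ω` vanishes on `A(C) + K` then `xω` vanishes on `A(C -
D) + K`. -/
theorem result (k K : Type*) [Field k] [Field K] [Algebra k K]
    (C D : FunFld.Divisor k K) (x : K) (hxD : x ∈ FunFld.L D)
    (hx : ∀ a ∈ FunFld.adele k K, x • a ∈ FunFld.adele k K)
    (ω : Module.Dual k (FunFld.adele k K)) (hω : ω ∈ FunFld.WD C) :
    FunFld.mulW x hx ω ∈ FunFld.WD (C - D) := by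
  rw [FunFld.WD, Submodule.mem_dualAnnihilator] at hω ⊢
  intro a ha
  rw [FunFld.ADK, Submodule.mem_comap] at ha
  obtain ⟨b, hb, c, hc, hbc⟩ := Submodule.mem_sup.1 ha
  obtain ⟨y, rfl⟩ := hc
  have key : x • (a : Place k K → K) ∈ FunFld.AD C ⊔ LinearMap.range (FunFld.diag k K) := by
    refine Submodule.mem_sup.2 ⟨x • b, ?_, FunFld.diag k K (x * y), ⟨_, rfl⟩, ?_⟩
    · intro P
      have h1 : P.1 x ≤ WithZero.exp (D P) := hxD P
      have h2 : P.1 (b P) ≤ WithZero.exp ((C - D) P) := hb P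
      have h3 : P.1 ((x • b) P) = P.1 x * P.1 (b P) := by
        simp
      rw [h3]
      refine (mul_le_mul' h1 h2).trans_eq ?_
      rw [← WithZero.exp_add]
      congr 1
      simp
    · have h4 : (a : Place k K → K) = b + FunFld.diag k K y := hbc.symm
      rw [h4]
      ext P
      simp [FunFld.diag, mul_add]
  exact hω ⟨x • (a : Place k K → K), hx a a.2⟩ key

end Groth.Agent.S10986
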