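import Groth.Statements.S11004
import Groth.Agent.FunFld.K661.SepInf

set_option autoImplicit false
universe u v
open FunFld

namespace Groth.Agent.S11004

/-- A geometric function field of one variable has infinitely many places with residue field separable
over `k`. -/
theorem result (k : Type u) (K : Type v) [Field k] [Field K] [Algebra k K]
    (hK : FunFld.IsFunctionField k K) (hg : FunFld.IsGeometric k K) :
    {P : FunFld.Place k K | Algebra.IsSeparable k (IsLocalRing.ResidueField P.O)}.Infinite := by
  obtain ⟨t, ht, hsep⟩ := K660.Sep.exists_isSeparable hK hg
  exact K661.SepInf.infinite_separable hK ht hsep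

end Groth.Agent.S11004
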