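import Groth.Statements.S11007
import Groth.Agent.S11001

set_option autoImplicit false
universe u v
open FunFld

namespace Groth.Agent.S11007

/-- In a geometric function field of one variable of characteristic `p > 0`, `kK^p` is the only
intermediate field over which `K` is purely inseparable of degree `p`. The companion assertion about
the natural map on Kähler differentials is not stated. -/
theorem result (k : Type u) (K : Type v) [Field k] [Field K] [Algebra k K] (p : ℕ) [Fact p.Prime] [CharP K p]
    (hK : FunFld.IsFunctionField k K) (hg : FunFld.IsGeometric k K) (K₀ : IntermediateField k K) :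
    (IsPurelyInseparable K₀ K ∧ Module.finrank K₀ K = p) ↔ K₀ = IntermediateField.adjoin k (Set.range fun y : K => y ^ p) := by
  have hp : p.Prime := Fact.out
  have hexp : ExpChar K p := ExpChar.prime hp
  have h1 := Groth.Agent.S11001.result k K p hK hg
  have hfin : FiniteDimensional (IntermediateField.adjoin k (Set.range fun y : K => y ^ p)) K := by
    apply FiniteDimensional.of_finrank_pos
    rw [h1]
    exact hp.pos
  have hexp' : ∀ L : IntermediateField k K, ExpChar L p := fun L =>
    (algebraMap L K).expChar (algebraMap L K).injective p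
  constructor
  · rintro ⟨hpi, hd⟩
    have := hexp' K₀
    have hfin0 : FiniteDimensional K₀ K := by
      apply FiniteDimensional.of_finrank_pos
      rw [hd]
      exact hp.pos
    have hle : IntermediateField.adjoin k (Set.range fun y : K => y ^ p) ≤ K₀ := by
      rw [IntermediateField.adjoin_le_iff]
      rintro _ ⟨y, rfl⟩
      -- the minimal polynomial of `y` over `K₀` is `X ^ (p ^ n) - a` with `p ^ n ∣ p`
      obtain ⟨n, a, ha⟩ := IsPurelyInseparable.minpoly_eq_X_pow_sub_C K₀ p y
      have h2 : (minpoly K₀ y).natDegree ∣ p := by
        rw [← hd]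
        exact minpoly.degree_dvd (Algebra.IsIntegral.isIntegral y)
      rw [ha, Polynomial.natDegree_X_pow_sub_C] at h2
      have h3 : n ≤ 1 := by
        have h4 : p ^ n ∣ p ^ 1 := by rwa [pow_one]
        exact (Nat.pow_dvd_pow_iff_le_right hp.one_lt).1 h4
      have h4 : y ^ p ^ n = algebraMap K₀ K a := by
        have h5 := minpoly.aeval K₀ y
        rw [ha, map_sub, map_pow, Polynomial.aeval_X, Polynomial.aeval_C, sub_eq_zero] at h5
        exact h5
      have h6 : y ^ p = algebraMap K₀ K (a ^ p ^ (1 - n)) := by
        rw [map_pow, ← h4, ← pow_mul, ← pow_add, Nat.add_sub_cancel' h3, pow_one]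
      change y ^ p ∈ K₀
      rw [h6]
      exact (a ^ p ^ (1 - n)).2
    exact (IntermediateField.eq_of_le_of_finrank_eq' hle (h1.trans hd.symm)).symm
  · rintro rfl
    refine ⟨?_, h1⟩
    have := hexp' (IntermediateField.adjoin k (Set.range fun y : K => y ^ p))
    rw [isPurelyInseparable_iff_pow_mem _ p]
    intro x
    exact ⟨1, ⟨x ^ p, IntermediateField.subset_adjoin _ _ ⟨x, rfl⟩⟩, by rw [pow_one]; rfl⟩

end Groth.Agent.S11007
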