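import Groth.Statements.S11010
import Groth.Agent.FunFld.K661.GeomFF

set_option autoImplicit false
universe u v
open FunFld

namespace Groth.Agent.S11010

/-- A finite separable extension `K'/k'` of a geometric function field of one variable `K/k` (with `k'`
the constant field of `K'`) is again geometric. (The published statement has no separability
hypothesis on `K'/K`; for `k = 𝔽_p(s,t)`, `K = k(x)` and `K' = K(y)` with `y^p = s x^p + t`, the
field `k` is algebraically closed in `K'` yet `k(s^{1/p}, t^{1/p}) ⊗_k K'` has nonzero nilpotents,
so `K'/K` is taken separable here.) -/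
theorem result (k k' : Type u) (K K' : Type v) [Field k] [Field k'] [Field K] [Field K']
    [Algebra k k'] [Algebra k K] [Algebra K K'] [Algebra k' K'] [Algebra k K']
    [IsScalarTower k k' K'] [IsScalarTower k K K'] [FiniteDimensional K K'] [Algebra.IsSeparable K K']
    (hK : FunFld.IsFunctionField k K) (hg : FunFld.IsGeometric k K)
    (hK' : FunFld.IsFunctionField k' K') : FunFld.IsGeometric k' K' := by
  obtain ⟨t, ht, hsep⟩ := K660.Sep.exists_isSeparable hK hg
  have h1 : K660.Places.IsGen k K' (algebraMap K K' t) := K661.OverFF.isGen_algebraMap ht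
  have h2 : Algebra.IsSeparable (IntermediateField.adjoin k {algebraMap K K' t}) K' :=
    K661.GeomFF.isSeparable_algebraMap
  have h3 := K661.GeomFF.finite_base (k' := k') h1.fin
  have h4 := K661.GeomFF.isSeparable_base (k' := k') h2
  have h5 : Transcendental k' (algebraMap K K' t) := by
    intro hat
    obtain ⟨⟨x', hx', -⟩, -⟩ := hK'
    apply hx'
    have h6 : Algebra.IsAlgebraic k' (IntermediateField.adjoin k' {algebraMap K K' t}) :=
      IntermediateField.isAlgebraic_adjoin_simple hat.isIntegral
    have h7 : Algebra.IsAlgebraic k' K' :=
      Algebra.IsAlgebraic.trans k' (IntermediateField.adjoin k' {algebraMap K K' t}) K'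
    exact h7.isAlgebraic x'
  have h8 : K660.Places.IsGen k' K' (algebraMap K K' t) := ⟨h5, h3⟩
  have := K660.Sep.essFiniteType h8
  exact K661.Geom.isGeometric_of_isSeparable_singleton hK'.2 _ h5 h4

end Groth.Agent.S11010
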