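import Groth.Statements.S11012
import Groth.Agent.FunFld.K661.Residue
import Groth.Agent.FunFld.K661.OverInt

set_option autoImplicit false
universe u v
open FunFld

namespace Groth.Agent.S11012

/-- Under a finite separable constant extension `k'/k` of a geometric function field of one variable,
the integral closure of `O_P` in `k' ⊗_k K` is `k' ⊗_k O_P` and every place above `P` has
ramification index `1`. -/
theorem result (k k' : Type u) (K K' : Type v) [Field k] [Field k'] [Field K] [Field K']
    [Algebra k k'] [FiniteDimensional k k'] [Algebra k K] [Algebra K K'] [Algebra k' K'] [Algebra k K']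
    [IsScalarTower k k' K'] [IsScalarTower k K K']
    (h : Function.Bijective (Algebra.TensorProduct.productMap
      (IsScalarTower.toAlgHom k k' K') (IsScalarTower.toAlgHom k K K')))
    (hK : FunFld.IsFunctionField k K) (hg : FunFld.IsGeometric k K) [Algebra.IsSeparable k k']
    (P : FunFld.Place k K) [Algebra P.O K'] [IsScalarTower P.O K K']
    (Q : FunFld.Place k K') (hQ : FunFld.IsOver Q P) :
    (integralClosure P.O K').toSubring =
      (Algebra.adjoin P.O (Set.range (algebraMap k' K'))).toSubring ∧
    FunFld.IsOverWith Q P 1 := by
  have hred : IsReduced (@TensorProduct k _ k' (IsLocalRing.ResidueField P.O) _ _ _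
      (K661.Residue.modAlg P)) :=
    @K661.Scalar.isReduced_left k k' (IsLocalRing.ResidueField P.O) _ _ _ _ P.algRes _ _
  refine ⟨K661.Scalar.integralClosure_eq_adjoin P (K661.Scalar.resO P) h
    (K661.Scalar.resO_surjective P) (K661.Scalar.resO_ker P) hred, ?_⟩
  have h1 := K661.OverInt.ramIdx_eq_one h (K660.Places.exists_isGen hK) P (K661.Scalar.resO P)
    (K661.Scalar.resO_surjective P) (K661.Scalar.resO_ker P) hred hQ
  have h2 := K661.Place.isOverWith_ramIdx hQ
  rwa [h1] at h2

end Groth.Agent.S11012
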