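import Groth.Statements.S11013
import Groth.Agent.FunFld.K661.Galois

set_option autoImplicit false
open FunFld

namespace Groth.Agent.S11013

/-- In a finite Galois extension `K'/K` of a geometric function field of one variable, the Galois group
acts transitively on the places of `K'` above a given place of `K`. -/
theorem result (k K K' : Type*) [Field k] [Field K] [Field K'] [Algebra k K] [Algebra K K'] [Algebra k K']
    [IsScalarTower k K K'] [FiniteDimensional K K'] (hK : FunFld.IsFunctionField k K) (hg : FunFld.IsGeometric k K) [IsGalois K K']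
    (Q₁ Q₂ : FunFld.Place k K')
    (h : (Q₁.1.comap (algebraMap K K')).IsEquiv (Q₂.1.comap (algebraMap K K'))) :
    ∃ σ : K' ≃ₐ[K] K', Q₁.1.comap (σ : K' →+* K') = Q₂.1 := by
  obtain ⟨P₁, hP₁⟩ := K661.Place.exists_below (K := K) Q₁
  obtain ⟨P₂, hP₂⟩ := K661.Place.exists_below (K := K) Q₂
  have hP : P₁ = P₂ := K661.Place.ext_le fun x => by
    rw [← K661.Place.val_algebraMap_le_one_iff hP₁, ← K661.Place.val_algebraMap_le_one_iff hP₂]
    exact h.le_one_iff_le_one
  subst hP
  obtain ⟨σ, hσ⟩ := K661.Galois.exists_comapEquiv_eq hP₁ hP₂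
  exact ⟨σ, congrArg Subtype.val hσ⟩

end Groth.Agent.S11013
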