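import Groth.Statements.S11017

set_option autoImplicit false
open FunFld

namespace Groth.Agent.S11017

/-- For a Weil differential `ω` with divisor `C`, `ord_P [ω] ≥ e` iff `ω` kills every repartition
concentrated at `P` with `P`-component of order at least `-e`. -/
theorem result (k K : Type*) [Field k] [Field K] [Algebra k K] (ω : Module.Dual k (FunFld.adele k K)) (C : FunFld.Divisor k K) (hω : FunFld.IsDivOf ω C)
    (P : FunFld.Place k K) (e : ℤ) :
    e ≤ C P ↔ ∀ (a : FunFld.Place k K → K) (ha : a ∈ FunFld.adele k K),
      (∀ Q, Q ≠ P → a Q = 0) → P.1 (a P) ≤ WithZero.exp e → ω ⟨a, ha⟩ = 0 := by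
  classical
  constructor
  · intro he a ha h0 hP
    have hC : ω ∈ WD C := (hω C).2 le_rfl
    rw [WD, Submodule.mem_dualAnnihilator] at hC
    apply hC
    change a ∈ AD C ⊔ LinearMap.range (diag k K)
    refine Submodule.mem_sup_left ?_
    intro Q
    by_cases hQ : Q = P
    · subst hQ
      exact hP.trans (WithZero.exp_le_exp.2 he)
    · rw [h0 Q hQ, map_zero]
      exact zero_le
  · intro h
    by_contra hlt
    rw [not_le] at hlt
    -- the divisor `C + (e - C P) P`
    have hE : ω ∈ WD (C + Finsupp.single P (e - C P)) := by
      rw [WD, Submodule.mem_dualAnnihilator]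
      rintro ⟨a, ha⟩ haE
      have hC : ω ∈ WD C := (hω C).2 le_rfl
      rw [WD, Submodule.mem_dualAnnihilator] at hC
      change a ∈ AD (C + Finsupp.single P (e - C P)) ⊔ LinearMap.range (diag k K) at haE
      obtain ⟨b, hb, c, hc, hbc⟩ := Submodule.mem_sup.1 haE
      -- split off the component at `P`
      let bP : Place k K → K := Function.update 0 P (b P)
      have hbP : bP ∈ adele k K := by
        have h1 : ∀ᶠ Q : Place k K in Filter.cofinite, Q ≠ P := by
          simp
        refine h1.mono fun Q hQ => ?_
        simp [bP, Function.update_of_ne hQ]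
      have h1 : ω ⟨bP, hbP⟩ = 0 := by
        refine h bP hbP (fun Q hQ => by simp [bP, Function.update_of_ne hQ]) ?_
        have := hb P
        simpa [bP] using this
      have h2 : ω (⟨a, ha⟩ - ⟨bP, hbP⟩) = 0 := by
        apply hC
        change a - bP ∈ AD C ⊔ LinearMap.range (diag k K)
        have : a - bP = (b - bP) + c := by rw [← hbc]; abel
        rw [this]
        refine Submodule.add_mem_sup ?_ hc
        intro Q
        by_cases hQ : Q = P
        · subst hQ
          simp [bP]
        · have := hb Q
          simpa [bP, Function.update_of_ne hQ, Finsupp.single_apply, Ne.symm hQ] using this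
      rw [map_sub, h1, sub_zero] at h2
      exact h2
    have := (hω _).1 hE P
    simp at this
    omega

end Groth.Agent.S11017
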