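import Groth.Statements.S11025
import Groth.Agent.FunFld.K662.Ram

set_option autoImplicit false
open FunFld

namespace Groth.Agent.S11025

/-- For `i ≥ 2` the ramification quotient `G_i/G_{i+1}` embeds in the additive group of the residue
field: it is abelian, trivial in characteristic `0`, and elementary abelian of exponent `p` in
characteristic `p`. (Residue field of `Q` assumed separable over `k`.) -/
theorem result (k K K' : Type*) [Field k] [Field K] [Field K'] [Algebra k K] [Algebra K K'] [Algebra k K']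
    [IsScalarTower k K K'] [FiniteDimensional K K'] (hK : FunFld.IsFunctionField k K) (hg : FunFld.IsGeometric k K) [IsGalois K K'] (Q : FunFld.Place k K') [Algebra.IsSeparable k (IsLocalRing.ResidueField Q.O)]
    (i : ℕ) (hi : 2 ≤ i) (σ τ : K' ≃ₐ[K] K') (hσ : (∀ x : K', Q.1 x ≤ 1 → Q.1 (σ x - x) ≤ WithZero.exp (-(i : ℤ)))) (hτ : (∀ x : K', Q.1 x ≤ 1 → Q.1 (τ x - x) ≤ WithZero.exp (-(i : ℤ)))) :
    (∀ x : K', Q.1 x ≤ 1 → Q.1 ((σ * τ * σ⁻¹ * τ⁻¹) x - x) ≤ WithZero.exp (-((i + 1) : ℤ))) ∧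
    (ringChar K = 0 → (∀ x : K', Q.1 x ≤ 1 → Q.1 (σ x - x) ≤ WithZero.exp (-((i + 1) : ℤ)))) ∧
    ∀ p : ℕ, p.Prime → ringChar K = p → (∀ x : K', Q.1 x ≤ 1 → Q.1 ((σ ^ p) x - x) ≤ WithZero.exp (-((i + 1) : ℤ))) := by
  let φ : (K' ≃ₐ[K] K') →* (K' ≃ₐ[k] K') := AlgEquiv.restrictScalarsHom k
  have hφ : ∀ (σ : K' ≃ₐ[K] K') (x : K'), φ σ x = σ x := fun _ _ => rfl
  have h1 : K662.Ram.G Q (i : ℤ) (φ σ) := hσ
  have h2 : K662.Ram.G Q (i : ℤ) (φ τ) := hτ
  refine ⟨?_, fun h0 => ?_, fun p hp hchar => ?_⟩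
  · have h3 := K662.Ram.commutator_mem i hi h1 h2
    rw [← map_inv, ← map_inv, ← map_mul, ← map_mul, ← map_mul] at h3
    exact h3
  · have hfin : IsOfFinOrder σ := isOfFinOrder_of_finite σ
    obtain ⟨n, hn, hσn⟩ := hfin.exists_pow_eq_one
    have hc : CharZero K := by
      have : CharP K 0 := (ringChar.eq_iff (R := K)).1 h0
      exact CharP.charP_to_charZero K
    have hnk : (n : k) ≠ 0 := by
      intro h
      have h3 := congrArg (algebraMap k K) h
      rw [map_natCast, map_zero, Nat.cast_eq_zero] at h3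
      omega
    refine K662.Ram.mem_of_charZero i hi h1 (n := n) hnk ?_
    rw [← map_pow, hσn, map_one]
  · have hcK : CharP K p := (ringChar.eq_iff (R := K)).1 hchar
    have hcK' : CharP K' p := charP_of_injective_algebraMap (algebraMap K K').injective p
    have h3 := K662.Ram.pow_char_mem i hi h1 p
    rw [← map_pow] at h3
    exact h3

end Groth.Agent.S11025
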