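import Groth.Statements.S11026
import Groth.Agent.S11003
import Mathlib.RingTheory.Unramified.Field
import Mathlib.RingTheory.Kaehler.Basic

set_option autoImplicit false
universe u v
open FunFld

namespace Groth.Agent.S11026

/-- A weakly separable finite extension `K'/k'` of a geometric function field `K/k` (the map `Ω_{K/k} →
Ω_{K'/k'}` injective) is separable over the compositum `k'K`. -/
theorem result (k k' : Type u) (K K' : Type v) [Field k] [Field k'] [Field K] [Field K']
    [Algebra k k'] [Algebra k K] [Algebra K K'] [Algebra k' K'] [Algebra k K']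
    [IsScalarTower k k' K'] [IsScalarTower k K K'] [FiniteDimensional K K']
    (hK : FunFld.IsFunctionField k K) (hg : FunFld.IsGeometric k K)
    (hK' : FunFld.IsFunctionField k' K') (hg' : FunFld.IsGeometric k' K')
    (hw : Function.Injective (KaehlerDifferential.map k k' K K')) :
    Algebra.IsSeparable (IntermediateField.adjoin K (Set.range (algebraMap k' K'))) K' := by
  have h1 := Groth.Agent.S11003.result k K hK hg
  have h2 := Groth.Agent.S11003.result k' K' hK' hg'
  -- an element of `K` with nonzero differential
  obtain ⟨x, hx⟩ : ∃ x : K, KaehlerDifferential.D k K x ≠ 0 := by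
    by_contra hcon
    push Not at hcon
    have h3 : (⊤ : Submodule K (KaehlerDifferential k K)) = ⊥ := by
      rw [← KaehlerDifferential.span_range_derivation, Submodule.span_eq_bot]
      rintro _ ⟨y, rfl⟩
      exact hcon y
    rw [← finrank_top, h3, finrank_bot] at h1
    exact absurd h1 zero_ne_one
  have hx' : KaehlerDifferential.D k' K' (algebraMap K K' x) ≠ 0 := by
    rw [← KaehlerDifferential.map_D k k' K K' x]
    intro h0
    exact hx (hw (by rw [h0, map_zero]))
  set E := IntermediateField.adjoin K (Set.range (algebraMap k' K')) with hE
  let _ : Algebra k' E := ((algebraMap k' K').codRestrict E.toSubfield.toSubring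
    (fun c => IntermediateField.subset_adjoin _ _ ⟨c, rfl⟩)).toAlgebra
  have htow : IsScalarTower k' E K' := IsScalarTower.of_algebraMap_eq fun _ => rfl
  have hzero : ∀ ω : KaehlerDifferential E K', ω = 0 := by
    intro ω
    obtain ⟨η, rfl⟩ := KaehlerDifferential.map_surjective k' E K' ω
    obtain ⟨c, hc⟩ := exists_smul_eq_of_finrank_eq_one h2 hx' η
    rw [← hc, map_smul, KaehlerDifferential.map_D]
    have h4 : KaehlerDifferential.D E K' (algebraMap K' K' (algebraMap K K' x)) = 0 := by
      have : algebraMap K' K' (algebraMap K K' x) = algebraMap E K' (algebraMap K E x) := rfl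
      rw [this]
      exact Derivation.map_algebraMap _ _
    rw [h4, smul_zero]
  have hsub : Subsingleton (KaehlerDifferential E K') := ⟨fun a b => (hzero a).trans (hzero b).symm⟩
  have hunr : Algebra.FormallyUnramified E K' := ⟨hsub⟩
  exact (Algebra.FormallyUnramified.iff_isSeparable E K').1 hunr

end Groth.Agent.S11026
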