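import Groth.Statements.S11029
import Groth.Agent.FunFld.K662.Inertia

set_option autoImplicit false
open FunFld

namespace Groth.Agent.S11029

/-- For an intermediate field `E` of a finite Galois extension `K'/K` of a geometric function field of
one variable and a place `Q` of `K'`, `e(Q ∩ E | Q ∩ K) = 1` iff `E` lies in the inertia field `K₁`
of `Q`. (Residue field of `Q` assumed separable over `k`; the total ramification of `K'/K₁` is not
stated.) -/
theorem result (k K K' : Type*) [Field k] [Field K] [Field K'] [Algebra k K] [Algebra K K'] [Algebra k K']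
    [IsScalarTower k K K'] [FiniteDimensional K K'] (hK : FunFld.IsFunctionField k K) (hg : FunFld.IsGeometric k K) [IsGalois K K'] (Q : FunFld.Place k K') [Algebra.IsSeparable k (IsLocalRing.ResidueField Q.O)]
    (E : IntermediateField K K') :
    Set.range (Q.1.comap (algebraMap E K')) = Set.range (Q.1.comap (algebraMap K K')) ↔
      E ≤ IntermediateField.fixedField
        (((Q.O).inertiaSubgroup K).map ((Q.O).decompositionSubgroup K).subtype) := by
  classical
  have htow : IsScalarTower k E K' := IsScalarTower.of_algebraMap_eq fun _ => rfl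
  have hG := K660.Places.exists_isGen hK
  have hGE : ∃ t : E, K660.Places.IsGen k E t := by
    obtain ⟨t, ht⟩ := hG
    exact ⟨_, K661.OverFF.isGen_algebraMap ht⟩
  obtain ⟨P, hP⟩ := K661.Place.exists_below (K := K) Q
  obtain ⟨R, hR⟩ := K661.Place.exists_below (K := E) Q
  have hc := K662.Inertia.card_inertia' hG (K661.Place.isOverWith_ramIdx hP)
  have hcE := K662.Inertia.card_inertia' hGE (K661.Place.isOverWith_ramIdx hR)
  -- the inertia groups as subgroups of the Galois groups
  set I : Subgroup (K' ≃ₐ[K] K') :=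
    ((Q.O).inertiaSubgroup K).map ((Q.O).decompositionSubgroup K).subtype with hI
  have hIcard : Nat.card I = FunFld.ramIdx Q P := by
    rw [← hc]
    exact Nat.card_congr (Subgroup.equivMapOfInjective _ _
      (Subgroup.subtype_injective _)).toEquiv.symm
  let IE : Subgroup (K' ≃ₐ[E] K') :=
    ((Q.O).inertiaSubgroup E).map ((Q.O).decompositionSubgroup E).subtype
  have hIEcard : Nat.card IE = FunFld.ramIdx Q R := by
    rw [← hcE]
    exact Nat.card_congr (Subgroup.equivMapOfInjective _ _
      (Subgroup.subtype_injective _)).toEquiv.symm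
  -- compare the two inertia groups
  let φ : (K' ≃ₐ[E] K') →* (K' ≃ₐ[K] K') := AlgEquiv.restrictScalarsHom K
  have hφinj : Function.Injective φ := AlgEquiv.restrictScalarsHom_injective K
  have hmap : IE.map φ = I ⊓ E.fixingSubgroup := by
    ext σ
    constructor
    · rintro ⟨τ, hτ, rfl⟩
      refine ⟨?_, ?_⟩
      · have h3 := (K662.Inertia.mem_map_inertia_iff (K := E) (Q := Q) (σ := τ)).1 hτ
        exact (K662.Inertia.mem_map_inertia_iff (K := K) (Q := Q) (σ := φ τ)).2 h3
      · exact fun x => τ.commutes x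
    · rintro ⟨h1, h2⟩
      refine ⟨IntermediateField.fixingSubgroupEquiv E ⟨σ, h2⟩, ?_, ?_⟩
      · have h3 := (K662.Inertia.mem_map_inertia_iff (K := K) (Q := Q) (σ := σ)).1 h1
        exact (K662.Inertia.mem_map_inertia_iff (K := E) (Q := Q)
          (σ := IntermediateField.fixingSubgroupEquiv E ⟨σ, h2⟩)).2 h3
      · rfl
  have hcard2 : Nat.card (I ⊓ E.fixingSubgroup : Subgroup (K' ≃ₐ[K] K')) = FunFld.ramIdx Q R := by
    rw [← hmap, ← hIEcard]
    exact Nat.card_congr (Subgroup.equivMapOfInjective IE φ hφinj).toEquiv.symm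
  have hPpos := K661.Place.ramIdx_pos hP
  have hRpos := K661.Place.ramIdx_pos hR
  -- both sides are equivalent to `e(Q|R) = e(Q|P)`
  have h1 : E ≤ IntermediateField.fixedField I ↔ FunFld.ramIdx Q R = FunFld.ramIdx Q P := by
    rw [IntermediateField.le_iff_le]
    constructor
    · intro h
      rw [← hcard2, ← hIcard, inf_eq_left.2 h]
    · intro h
      rw [← hcard2, ← hIcard] at h
      have hle : (I ⊓ E.fixingSubgroup : Subgroup (K' ≃ₐ[K] K')) ≤ I := inf_le_left
      have heq := Subgroup.eq_of_le_of_card_ge hle h.ge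
      exact inf_eq_left.1 heq
  rw [h1]
  have hval : ∀ (e : ℕ) (he : 1 ≤ e) (a : WithZero (Multiplicative ℤ)), (∃ b, b ^ e = a) ↔
      (a = 0 ∨ ∃ m : ℤ, a = WithZero.exp (e * m)) := by
    intro e he a
    constructor
    · rintro ⟨b, rfl⟩
      by_cases hb : b = 0
      · left
        rw [hb, zero_pow (by omega)]
      · right
        refine ⟨WithZero.log b, ?_⟩
        conv_lhs => rw [← WithZero.exp_log hb]
        rw [← WithZero.exp_nsmul, nsmul_eq_mul]
    · rintro (rfl | ⟨m, rfl⟩)
      · exact ⟨0, zero_pow (by omega)⟩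
      · exact ⟨WithZero.exp m, by rw [← WithZero.exp_nsmul, nsmul_eq_mul]⟩
  have hrP : ∀ a, a ∈ Set.range (Q.1.comap (algebraMap K K')) ↔
      (a = 0 ∨ ∃ m : ℤ, a = WithZero.exp ((FunFld.ramIdx Q P : ℤ) * m)) := by
    intro a
    rw [← hval _ hPpos]
    constructor
    · rintro ⟨x, rfl⟩
      exact ⟨P.1 x, (K661.Place.val_algebraMap hP x).symm⟩
    · rintro ⟨b, rfl⟩
      obtain ⟨x, rfl⟩ := P.2.2 b
      exact ⟨x, K661.Place.val_algebraMap hP x⟩
  have hrR : ∀ a, a ∈ Set.range (Q.1.comap (algebraMap E K')) ↔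
      (a = 0 ∨ ∃ m : ℤ, a = WithZero.exp ((FunFld.ramIdx Q R : ℤ) * m)) := by
    intro a
    rw [← hval _ hRpos]
    constructor
    · rintro ⟨x, rfl⟩
      exact ⟨R.1 x, (K661.Place.val_algebraMap hR x).symm⟩
    · rintro ⟨b, rfl⟩
      obtain ⟨x, rfl⟩ := R.2.2 b
      exact ⟨x, K661.Place.val_algebraMap hR x⟩
  constructor
  · intro h
    have h2 : (FunFld.ramIdx Q P : ℤ) ∣ FunFld.ramIdx Q R := by
      have h3 : WithZero.exp (FunFld.ramIdx Q R : ℤ) ∈ Set.range (Q.1.comap (algebraMap K K')) := by
        rw [← h, hrR]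
        exact Or.inr ⟨1, by rw [mul_one]⟩
      rw [hrP] at h3
      rcases h3 with h3 | ⟨m, hm⟩
      · exact absurd h3 WithZero.exp_ne_zero
      · exact ⟨m, WithZero.exp_injective hm⟩
    have h2' : (FunFld.ramIdx Q R : ℤ) ∣ FunFld.ramIdx Q P := by
      have h3 : WithZero.exp (FunFld.ramIdx Q P : ℤ) ∈ Set.range (Q.1.comap (algebraMap E K')) := by
        rw [h, hrP]
        exact Or.inr ⟨1, by rw [mul_one]⟩
      rw [hrR] at h3
      rcases h3 with h3 | ⟨m, hm⟩
      · exact absurd h3 WithZero.exp_ne_zero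
      · exact ⟨m, WithZero.exp_injective hm⟩
    exact Nat.dvd_antisymm (by exact_mod_cast h2') (by exact_mod_cast h2)
  · intro h
    ext a
    rw [hrR, hrP, h]

end Groth.Agent.S11029
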