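import Groth.Statements.S11030
import Groth.Agent.S11003
import Groth.Agent.FunFld.K662.DiffUnif

set_option autoImplicit false
universe u v
open FunFld

namespace Groth.Agent.S11030

/-- In a geometric function field of one variable, a local parameter at a place with separable residue
field is a separating variable: `dt ≠ 0` in `Ω_{K/k}`. (The duality isomorphism `Ω_K ≅ W_K` and the
order of `dt` at `P` are not stated.) -/
theorem result (k : Type u) (K : Type v) [Field k] [Field K] [Algebra k K]
    (hK : FunFld.IsFunctionField k K) (hg : FunFld.IsGeometric k K) (P : FunFld.Place k K)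
    [Algebra.IsSeparable k (IsLocalRing.ResidueField P.O)] (t : K) (ht : P.1 t = WithZero.exp (-1)) :
    KaehlerDifferential.D k K t ≠ 0 := by
  intro h0
  have h1 := Groth.Agent.S11003.result k K hK hg
  have hfin : FiniteDimensional K (KaehlerDifferential k K) := Module.finite_of_finrank_eq_succ h1
  have e : KaehlerDifferential k K ≃ₗ[K] K :=
    LinearEquiv.ofFinrankEq _ _ (h1.trans (Module.finrank_self K).symm)
  let D : Derivation k K K := (e : KaehlerDifferential k K →ₗ[K] K).compDer (KaehlerDifferential.D k K)
  have hD : ∀ x, D x = e (KaehlerDifferential.D k K x) := fun _ => rfl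
  have h2 : D = 0 := K662.DiffUnif.eq_zero_of_uniformizer (K660.Places.exists_isGen hK) D P ht
    (by rw [hD, h0, map_zero])
  have h3 : (⊤ : Submodule K (KaehlerDifferential k K)) = ⊥ := by
    rw [← KaehlerDifferential.span_range_derivation, Submodule.span_eq_bot]
    rintro _ ⟨y, rfl⟩
    apply e.injective
    rw [map_zero, ← hD, h2]
    rfl
  rw [← finrank_top, h3, finrank_bot] at h1
  exact absurd h1 zero_ne_one

end Groth.Agent.S11030
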