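import Groth.Statements.S11031
import Groth.Agent.FunFld.K660.Weil

set_option autoImplicit false
open FunFld

namespace Groth.Agent.S11031

/-- An effective divisor `D` of degree `< g` on a function field of one variable of genus `g` is
special: some nonzero Weil differential vanishes on `A(D) + K`. (The published statement is phrased
with differential forms `Ω_K(D)`, identified with `W_K(D)` by duality; the Weil-differential form is
stated.) -/
theorem result (k K : Type*) [Field k] [Field K] [Algebra k K]
    (hK : FunFld.IsFunctionField k K) (D : FunFld.Divisor k K) (hD : 0 ≤ D) (hdeg : D.deg < FunFld.genus k K) :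
    ∃ ω : Module.Dual k (FunFld.adele k K), ω ≠ 0 ∧ ω ∈ FunFld.WD D := by
  have h1 := K660.Compare.ell_eq_genus hK D
  have h2 := K660.Weil.finrank_WD hK D
  have hfin := K660.Compare.finite_L hK D
  have h3 : 1 ≤ FunFld.ell D := by
    have h0 : FunFld.ell (0 : FunFld.Divisor k K) = 1 := K660.Compare.ell_zero hK
    rw [← h0]
    exact Submodule.finrank_mono (K660.Compare.L_mono hD)
  have h4 : 0 < Module.finrank k (FunFld.WD D) := by
    rw [h2]
    omega
  have h5 : FunFld.WD D ≠ ⊥ := by
    intro h
    rw [h, finrank_bot] at h4
    exact absurd h4 (lt_irrefl _)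
  obtain ⟨ω, hω, hω0⟩ := (Submodule.ne_bot_iff _).1 h5
  exact ⟨ω, hω0, hω⟩

end Groth.Agent.S11031
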