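import Groth.Statements.S11034
import Groth.Agent.FunFld.K666.Hyper

set_option autoImplicit false
open FunFld

namespace Groth.Agent.S11034

/-- For `char k ≠ 2` and `K = k(x, y)`, `y² = f(x)` with `f` squarefree, each irreducible factor `p` of
`f` has a unique place `P` of `K` above it, with `e(P|p) = 2`, `f(P|p) = 1` and `deg P = deg p`. The
zero divisor of `y` and the behaviour above the infinite place of `k(x)` are not stated. -/
theorem result (k K : Type*) [Field k] [Field K] (h2 : ringChar k ≠ 2) [Algebra k K]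
    [Algebra (RatFunc k) K] [IsScalarTower k (RatFunc k) K]
    (hdeg : Module.finrank (RatFunc k) K = 2) (y : K) (f : Polynomial k) (hf : Squarefree f)
    (hd : 1 ≤ f.natDegree)
    (heq : y ^ 2 = algebraMap (RatFunc k) K (algebraMap (Polynomial k) (RatFunc k) f))
    (p : Polynomial k) (hp : Irreducible p) (hpf : p ∣ f)
    (P₀ : FunFld.Place k (RatFunc k)) (hP₀ : P₀.1 (algebraMap (Polynomial k) (RatFunc k) p) < 1) :
    (∃! P : FunFld.Place k K, FunFld.IsOver P P₀) ∧
    ∀ P : FunFld.Place k K, FunFld.IsOver P P₀ → FunFld.IsOverWith P P₀ 2 ∧ P.deg = P₀.deg := by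
  have hfin : FiniteDimensional (RatFunc k) K := Module.finite_of_finrank_eq_succ hdeg
  have hK := K666.RatPl.isFunctionField (k := k)
  have hp0 : p ≠ 0 := hp.ne_zero
  have hinj : Function.Injective (algebraMap (Polynomial k) (RatFunc k)) :=
    IsFractionRing.injective _ _
  have hX : P₀.1 (RatFunc.X : RatFunc k) ≤ 1 := by
    by_contra hcon
    rw [K666.RatPl.inf_val P₀ (not_le.1 hcon) _ (by simpa using hp0), RatFunc.intDegree_polynomial,
      ← WithZero.exp_zero, WithZero.exp_lt_exp] at hP₀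
    omega
  obtain ⟨π, hπ, hπ1, hπu⟩ := K666.RatPl.fin_exists P₀ hX
  have hπp : π ∣ p := by
    by_contra hcon
    rw [hπu p hcon] at hP₀
    exact lt_irrefl _ hP₀
  have hass : Associated π p := hπ.associated_of_dvd hp hπp
  obtain ⟨q, hq⟩ := hass.dvd_iff_dvd_left.2 hpf
  have hπq : ¬ π ∣ q := by
    rintro ⟨r, rfl⟩
    apply hπ.not_isUnit
    exact hf π ⟨r, by rw [hq]; ring⟩
  have hord : P₀.ord (algebraMap (Polynomial k) (RatFunc k) f) = 1 := by
    have h1 : P₀.1 (algebraMap (Polynomial k) (RatFunc k) f) = WithZero.exp (-1 : ℤ) := by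
      rw [hq, map_mul, map_mul, hπ1, hπu q hπq, mul_one]
    rw [FunFld.Place.ord, h1, WithZero.log_exp]
    norm_num
  have key : ∀ P : FunFld.Place k K, FunFld.IsOver P P₀ → FunFld.ramIdx P P₀ = 2 ∧
      P.deg = P₀.deg ∧ ∀ Q' : FunFld.Place k K, FunFld.IsOver Q' P₀ → Q' = P := by
    intro P hP
    refine K666.QuadPl.ramIdx_eq_two hK hdeg P P₀ hP (algebraMap (Polynomial k) (RatFunc k) f) ?_ ?_
    · rw [hord]
      exact odd_one
    · rw [← heq, K660.Ord.ord_pow]
      exact ⟨P.ord y, by push_cast; ring⟩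
  obtain ⟨P, hP⟩ := K666.Ext.exists_over (K' := K) hK P₀
  refine ⟨⟨P, hP, fun P' hP' => (key P hP).2.2 P' hP'⟩, fun P' hP' => ?_⟩
  obtain ⟨h1, h3, -⟩ := key P' hP'
  refine ⟨?_, h3⟩
  rw [← h1]
  exact K661.Place.isOverWith_ramIdx hP'

end Groth.Agent.S11034
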