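import Groth.Statements.S11037
import Groth.Agent.FunFld.K663.Main

set_option autoImplicit false
open FunFld

namespace Groth.Agent.S11037

/-- Over a finite constant field with `q` elements the degree-zero divisor classes modulo principal
divisors form a finite group, of order `h`; and for `n ≥ 2g - 1` the number `a(n)` of effective
divisors of degree `n` is `h (q^(n-g+1) - 1)/(q - 1)` when `n` is the degree of some divisor, and
`0` otherwise. -/
theorem result
    (k K : Type*) [Field k] [Finite k] [Field K] [Algebra k K]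
    (hK : FunFld.IsFunctionField k K) :
    Finite ((FunFld.degHom k K).ker ⧸ (FunFld.prinDivs k K).addSubgroupOf (FunFld.degHom k K).ker) ∧
    ∀ n : ℕ, 2 * FunFld.genus k K ≤ n + 1 →
      ((∃ D : FunFld.Divisor k K, D.deg = n) →
        ((Nat.card k : ℤ) - 1) * (FunFld.effDivCount k K n : ℤ) =
          (FunFld.classNum k K : ℤ) * ((Nat.card k : ℤ) ^ (n + 1 - FunFld.genus k K) - 1)) ∧
      ((¬ ∃ D : FunFld.Divisor k K, D.deg = n) → FunFld.effDivCount k K n = 0) := by
  have h := K663.Bridge.exists_isSep hK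
  have hne := K663.Bridge.nonempty_place h
  have h1 := K663.Bridge.l_zero h hK.2
  have hC := K663.Bridge.crvF_fin h
  obtain ⟨D₁, hD₁⟩ := K663.Main.exists_deg_one h hK.2
  refine ⟨?_, ?_⟩
  · have := K663.ZetaFun.finite_Cl hC h1 hD₁ 0
    exact Finite.of_equiv _ (K663.Main.clEquiv h).symm
  · intro n hn
    refine ⟨fun _ => ?_, fun hno => ?_⟩
    · rw [K663.Bridge.genus_eq h hK.2] at hn ⊢
      have h2 := K663.ZetaFun.A_formula hC h1 hD₁ n
      rw [K663.ZetaFun.S_large hC h1 hD₁ (by omega)] at h2
      rw [K663.Main.classNum_eq h, K663.Bridge.effDivCount_eq h]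
      have h3 : (Nat.card k : ℚ) ^ ((n : ℤ) + 1 - ((K663.Bridge.crvF h).i 0 : ℤ)) =
          (Nat.card k : ℚ) ^ (n + 1 - (K663.Bridge.crvF h).i 0) := by
        rw [← zpow_natCast]
        congr 1
        omega
      rw [h3] at h2
      have h4 : ((((Nat.card k : ℤ) - 1) *
          (Groth.Agent.MiscA.ZetaAbsCount.A (K663.Bridge.crvF h).dg0 n : ℤ) : ℤ) : ℚ) =
          (((K663.ZetaFun.hh hC : ℤ) * ((Nat.card k : ℤ) ^ (n + 1 - (K663.Bridge.crvF h).i 0) - 1) : ℤ) :
            ℚ) := by
        push_cast
        linear_combination h2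
      exact_mod_cast h4
    · unfold FunFld.effDivCount
      rw [Nat.card_eq_zero]
      left
      exact ⟨fun D => hno ⟨D.1, D.2.2⟩⟩

end Groth.Agent.S11037
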