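import Groth.Statements.S11038
import Groth.Agent.FunFld.K663.Main

set_option autoImplicit false
open FunFld

namespace Groth.Agent.S11038

/-- `L_K(1) = h_K`, the class number, where `L_K(t) = (1 - t)(1 - q t) Z_K(t)` is the numerator of the
zeta function. -/
theorem result
    (k K : Type*) [Field k] [Finite k] [Field K] [Algebra k K]
    (hK : FunFld.IsFunctionField k K) (p : Polynomial ℤ)
    (hp : (p : PowerSeries ℤ) = FunFld.numerZ k K) :
    p.eval 1 = (FunFld.classNum k K : ℤ) := by
  have h := K663.Bridge.exists_isSep hK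
  have hne := K663.Bridge.nonempty_place h
  have h1 := K663.Bridge.l_zero h hK.2
  obtain ⟨D₁, hD₁⟩ := K663.Main.exists_deg_one h hK.2
  rw [K663.Main.classNum_eq h]
  exact K663.ZetaFun.eval_one (K663.Bridge.crvF_fin h) h1 hD₁ p (by rw [hp, K663.Main.numerZ_eq h])

end Groth.Agent.S11038
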