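import Groth.Statements.S11042
import Groth.Agent.FunFld.K663.Main

set_option autoImplicit false
open FunFld

namespace Groth.Agent.S11042

/-- A function field of one variable of genus `g` over a finite field with `q` elements has `N` places
of degree one with `|N - q - 1| ≤ 2 g √q`. -/
theorem result
    (k K : Type*) [Field k] [Finite k] [Field K] [Algebra k K]
    (hK : FunFld.IsFunctionField k K) :
    |(Nat.card {P : FunFld.Place k K // P.deg = 1} : ℝ) - (Nat.card k : ℝ) - 1| ≤
      2 * (FunFld.genus k K : ℝ) * Real.sqrt (Nat.card k : ℝ) := by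
  obtain ⟨α, -, hα, hpair⟩ := K663.Main.exists_alpha hK
  have h1 := K663.Main.NN_eq_of_prod hK α hα 1 le_rfl
  have h2 : K663.Main.NN k K 1 = Nat.card {P : FunFld.Place k K // P.deg = 1} := by
    unfold K663.Main.NN
    rw [Nat.divisors_one, Finset.sum_singleton, one_mul]
  rw [h2, pow_one] at h1
  simp only [pow_one] at h1
  have h3 : |(Nat.card {P : FunFld.Place k K // P.deg = 1} : ℝ) - (Nat.card k : ℝ) - 1| =
      ‖∑ i, α i‖ := by
    rw [← Real.norm_eq_abs, ← Complex.norm_real, ← norm_neg]
    congr 1
    push_cast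
    rw [h1]
    ring
  rw [h3]
  have h4 : ∀ i, ‖α i‖ = Real.sqrt (Nat.card k) := by
    intro i
    rw [← K663.Main.norm_alpha hK α hα hpair i, Real.sqrt_sq (norm_nonneg _)]
  refine (norm_sum_le _ _).trans ?_
  rw [Finset.sum_congr rfl fun i _ => h4 i, Finset.sum_const, Finset.card_univ, Fintype.card_fin,
    nsmul_eq_mul]
  push_cast
  exact le_rfl

end Groth.Agent.S11042
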