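import Groth.Statements.S12603
import Groth.Agent.S11052
import Groth.Agent.S12581
import Groth.Agent.FunFld.K668.WDivBound

set_option autoImplicit false
open FunFld

namespace Groth.Agent.S12603

/-- Over an algebraically closed constant field, the Weierstrass divisor `W(φ, τ) = [w_s(φ, τ)] + [τ(φ)]
+ n[φ] + j(φ, τ)[ds]` of a linearly independent tuple `φ = (φ₀, …, φₙ)` with respect to a
`k`-endomorphism `τ` is nonnegative, and its degree is `(deg τ + n) deg φ + (2g - 2) j(φ, τ)`, where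
`deg τ = [K : τ(K)]`, `deg φ` is the degree of the divisor of `φ`, `g` is the genus and `j(φ, τ)`
the sum of the `τ`-orders. The divisor of `ds` is read through a family of Laurent expansions at the
places. -/
theorem result
    (k K : Type*) [Field k] [IsAlgClosed k] [Field K] [Algebra k K]
    (hK : FunFld.IsFunctionField k K) {n : ℕ} (φ : Fin (n + 1) → K) (hφ : LinearIndependent k φ)
    (τ : K →ₐ[k] K) (s : K) (H : K →ₐ[k] PowerSeries K) (hH : LocRes.IsHasseFamily s H)
    (J : Fin n → ℕ) (hJ : FunFld.IsOrders K (FunFld.hcol τ H φ) J)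
    (Φ : FunFld.Place k K → (K →ₐ[k] LaurentSeries k))
    (hΦ : ∀ P : FunFld.Place k K, LocRes.IsExpansionAt P.1 (Φ P)) :
    0 ≤ FunFld.wDiv τ H Φ s φ J ∧
    (FunFld.wDiv τ H Φ s φ J).deg =
      ((Module.finrank τ.fieldRange K : ℤ) + n) * (FunFld.mapDiv k φ).deg +
        (2 * (FunFld.genus k K : ℤ) - 2) * ∑ l, (J l : ℤ) := by
  have hs0 : KaehlerDifferential.D k K s ≠ 0 := K669.DiffCalc.D_ne_zero_of_isHasseFamily H hH
  refine ⟨K668.WDivBound.wDiv_nonneg hK φ hφ τ s H hH J hJ Φ hΦ, ?_⟩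
  obtain ⟨ω, -, hW, hω, -, hdiv⟩ := Groth.Agent.S12581.result k K hK (K669.DivDiff.isGeometric hK)
    (fun _ => k) Φ hΦ 1 s one_ne_zero hs0
  have hC := hdiv (FunFld.divDiff Φ 1 s)
    (fun P => K669.DivDiff.divDiff_apply hK Φ hΦ one_ne_zero hs0 P)
  exact K668.WDivBound.deg_wDiv hK φ τ s H J Φ (K660.Weil.deg_ell_of_isCanonical hK ⟨ω, hω, hC⟩).2
    (Groth.Agent.S11052.result k K hK τ φ hφ)

end Groth.Agent.S12603
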