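import Groth.Statements.S11048
import Groth.Agent.FunFld.K663.WeierDiv
import Groth.Agent.FunFld.K663.HasseEx
import Groth.Agent.S12603
import Groth.Agent.S12600

set_option autoImplicit false
open FunFld

namespace Groth.Agent.S11048

/-- Over an algebraically closed constant field of characteristic `0` or greater than `2g - 2`, a
function field of one variable of genus `g > 1` has only finitely many automorphisms over the
constants. -/
theorem result
    (k K : Type*) [Field k] [IsAlgClosed k] [Field K] [Algebra k K]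
    (hK : FunFld.IsFunctionField k K) (hg : 1 < FunFld.genus k K)
    (hp : ringChar k = 0 ∨ 2 * FunFld.genus k K - 2 < ringChar k) :
    Finite (K ≃ₐ[k] K) := by
  classical
  obtain ⟨s, H, -, -, hH⟩ := K663.HasseEx.exists_of_perfectField hK
  obtain ⟨C, hC⟩ := K660.Weil.exists_isCanonical hK
  have hfin := K660.Compare.finite_L hK C
  have hC' := K660.Weil.deg_ell_of_isCanonical hK hC
  obtain ⟨n, hn⟩ : ∃ n : ℕ, Module.finrank k (FunFld.L C) = n + 1 := by
    refine ⟨FunFld.genus k K - 1, ?_⟩
    have : FunFld.ell C = Module.finrank k (FunFld.L C) := rfl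
    rw [← this, hC'.1]
    omega
  let b := Module.finBasisOfFinrankEq k (FunFld.L C) hn
  let φ : Fin (n + 1) → K := fun i => (b i : K)
  have hφ : LinearIndependent k φ :=
    b.linearIndependent.map' (FunFld.L C).subtype (Submodule.ker_subtype _)
  have hspan : Submodule.span k (Set.range φ) = FunFld.L C := by
    have h1 : Set.range φ = (FunFld.L C).subtype '' Set.range b := by
      rw [← Set.range_comp]
      rfl
    rw [h1, ← Submodule.map_span, b.span_eq, Submodule.map_top, Submodule.range_subtype]
  obtain ⟨J, hJ, -⟩ := Groth.Agent.S12600.result k K hK φ hφ (AlgHom.id k K) s H hH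
  have hex : ∀ P : FunFld.Place k K, ∃ Ψ : K →ₐ[k] LaurentSeries k, LocRes.IsExpansionAt P.1 Ψ := by
    intro P
    obtain ⟨t, ht⟩ := K660.Ord.exists_unif P
    obtain ⟨Ψ, hΨ, -⟩ := K669.Expansion.exists_expansion hK P t ht
    exact ⟨Ψ, hΨ⟩
  choose Φ hΦ using hex
  have hdegW := (Groth.Agent.S12603.result k K hK φ hφ (AlgHom.id k K) s H hH J hJ Φ hΦ).2
  exact K663.Weier.finite_aut hK hg _
    (fun P => K663.WeierDiv.mem_support_iff s H hK hC hφ hspan hp hH J hJ Φ hΦ P)
    (K663.WeierDiv.sum_wt s H hK hC hφ hspan hp hH J hJ Φ hΦ hdegW)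

end Groth.Agent.S11048
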