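import Groth.Statements.S11049
import Mathlib.LinearAlgebra.FiniteDimensional.Lemmas
import Mathlib.LinearAlgebra.Isomorphisms
import Mathlib.RingTheory.Ideal.Quotient.Operations
import Mathlib.Algebra.Algebra.Subalgebra.Basic
import Mathlib.LinearAlgebra.Dimension.RankNullity

set_option autoImplicit false
open CAlg

namespace Groth.Agent.S11049

/-- For `k`-algebras `S ⊆ R` with `R` an integral domain and a nonzero `x ∈ S`, if `R/S` and `R/Rx` are
finite-dimensional over `k` then `dim_k R/Rx = dim_k S/Sx`. (The published statement allows `x = 0`;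
then `R` is a field finite over `k` and the two sides are `dim_k R` and `dim_k S`, which differ for
`S = k ⊊ R`; the published proof multiplies by `x` as an injection, so `x ≠ 0` is assumed here.) -/
theorem result
    (k R : Type*) [Field k] [CommRing R]
    [IsDomain R] [Algebra k R] (S : Subalgebra k R) (x : S) (hx : (x : R) ≠ 0)
    [Module.Finite k (R ⧸ Subalgebra.toSubmodule S)]
    [Module.Finite k (R ⧸ Ideal.span {(x : R)})] :
    Module.finrank k (R ⧸ Ideal.span {(x : R)}) = Module.finrank k (S ⧸ Ideal.span {x}) := by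
  classical
  let S' : Submodule k R := Subalgebra.toSubmodule S
  let μ : R →ₗ[k] R := LinearMap.mulLeft k (x : R)
  have hμ : Function.Injective μ := fun a b hab => mul_left_cancel₀ hx hab
  let xS : Submodule k R := S'.map μ
  let xR : Submodule k R := (Ideal.span {(x : R)}).restrictScalars k
  have hxS : xS ≤ xR := by
    rintro _ ⟨s, -, rfl⟩
    exact Ideal.mem_span_singleton'.mpr ⟨s, mul_comm _ _⟩
  have hxS' : xS ≤ S' := by
    rintro _ ⟨s, hs, rfl⟩
    exact S.mul_mem x.2 hs
  -- first equivalence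
  let f : R →ₗ[k] R ⧸ xS := xS.mkQ ∘ₗ μ
  have hfk : LinearMap.ker f = S' := by
    ext r
    simp only [f, LinearMap.mem_ker, LinearMap.comp_apply, Submodule.mkQ_apply,
      Submodule.Quotient.mk_eq_zero, xS, Submodule.mem_map]
    constructor
    · rintro ⟨s, hs, hsr⟩
      rw [← hμ hsr]
      exact hs
    · intro hr
      exact ⟨r, hr, rfl⟩
  have hfr : LinearMap.range f = xR.map xS.mkQ := by
    ext w
    constructor
    · rintro ⟨r, rfl⟩
      exact ⟨x * r, Ideal.mem_span_singleton'.mpr ⟨r, mul_comm _ _⟩, rfl⟩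
    · rintro ⟨r, hr, rfl⟩
      obtain ⟨a, rfl⟩ := Ideal.mem_span_singleton'.mp hr
      exact ⟨a, by simp [f, μ, mul_comm]⟩
  let e1 : (R ⧸ S') ≃ₗ[k] (xR.map xS.mkQ) :=
    (Submodule.quotEquivOfEq _ _ hfk.symm).trans
      (f.quotKerEquivRange.trans (LinearEquiv.ofEq _ _ hfr))
  -- second equivalence
  let g : S →ₗ[k] R ⧸ xS := xS.mkQ ∘ₗ S'.subtype
  have hgk : LinearMap.ker g = (Ideal.span {x}).restrictScalars k := by
    ext r
    simp only [g, LinearMap.mem_ker, LinearMap.comp_apply, Submodule.mkQ_apply,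
      Submodule.Quotient.mk_eq_zero, xS, Submodule.mem_map, Submodule.restrictScalars_mem]
    rw [Ideal.mem_span_singleton']
    constructor
    · rintro ⟨s, hs, hsr⟩
      exact ⟨⟨s, hs⟩, Subtype.ext (by rw [mul_comm]; exact hsr)⟩
    · rintro ⟨s, rfl⟩
      exact ⟨s, s.2, mul_comm _ _⟩
  have hgr : LinearMap.range g = S'.map xS.mkQ := by
    rw [LinearMap.range_comp, Submodule.range_subtype]
  let e2 : (S ⧸ Ideal.span {x}) ≃ₗ[k] (S'.map xS.mkQ) :=
    (Submodule.Quotient.restrictScalarsEquiv k (Ideal.span {x})).symm.trans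
      ((Submodule.quotEquivOfEq _ _ hgk.symm).trans
        (g.quotKerEquivRange.trans (LinearEquiv.ofEq _ _ hgr)))
  let e3 : ((R ⧸ xS) ⧸ (xR.map xS.mkQ)) ≃ₗ[k] (R ⧸ Ideal.span {(x : R)}) :=
    (Submodule.quotientQuotientEquivQuotient xS xR hxS).trans
      (Submodule.Quotient.restrictScalarsEquiv k (Ideal.span {(x : R)}))
  let e4 : ((R ⧸ xS) ⧸ (S'.map xS.mkQ)) ≃ₗ[k] (R ⧸ S') :=
    Submodule.quotientQuotientEquivQuotient xS S' hxS'
  have hfin1 : Module.Finite k (xR.map xS.mkQ) := Module.Finite.equiv e1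
  have hfin2 : Module.Finite k ((R ⧸ xS) ⧸ (xR.map xS.mkQ)) := Module.Finite.equiv e3.symm
  have hfin : Module.Finite k (R ⧸ xS) := Module.Finite.of_submodule_quotient (xR.map xS.mkQ)
  have h1 := (xR.map xS.mkQ).finrank_quotient_add_finrank
  have h2 := (S'.map xS.mkQ).finrank_quotient_add_finrank
  rw [e3.finrank_eq, ← e1.finrank_eq] at h1
  rw [e4.finrank_eq, ← e2.finrank_eq] at h2
  omega

end Groth.Agent.S11049
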