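import Groth.Statements.S12604
import Groth.Agent.S11052
import Groth.Agent.S12581
import Groth.Agent.FunFld.K668.WDivBound

set_option autoImplicit false
open FunFld

namespace Groth.Agent.S12604

/-- Over an algebraically closed constant field, let `τ` be a `k`-endomorphism of the function field `K`
of genus `g`, of degree `deg τ = [K : τ(K)]`, and `φ = (φ₀, …, φₙ)` a projective map such that
`τ(φ)` is not a `K`-multiple of `φ`, with `τ`-orders `j₁, …, jₙ`. Then the number `N` of strong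
fixed points of `τ` (places whose maximal ideal `τ` maps into its square) is finite and `n N ≤ (n +
deg τ) deg φ + (2g - 2)(j₁ + ⋯ + jₙ)`, i.e. `N ≤ (1/n) deg W(φ, τ)`. -/
theorem result
    (k K : Type*) [Field k] [IsAlgClosed k] [Field K] [Algebra k K]
    (hK : FunFld.IsFunctionField k K) (τ : K →ₐ[k] K) {n : ℕ} (φ : Fin (n + 1) → K) (hφ : LinearIndependent k φ)
    (hτφ : ¬ ∃ y : K, ∀ i, τ (φ i) = y * φ i) (s : K) (H : K →ₐ[k] PowerSeries K) (hH : LocRes.IsHasseFamily s H)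
    (J : Fin n → ℕ) (hJ : FunFld.IsOrders K (FunFld.hcol τ H φ) J) :
    {P : FunFld.Place k K | FunFld.IsStrongFixedPt τ P}.Finite ∧
    (n : ℤ) * (Set.ncard {P : FunFld.Place k K | FunFld.IsStrongFixedPt τ P} : ℤ) ≤
      ((n : ℤ) + Module.finrank τ.fieldRange K) * (FunFld.mapDiv k φ).deg +
        (2 * (FunFld.genus k K : ℤ) - 2) * ∑ l, (J l : ℤ) := by
  have hs0 : KaehlerDifferential.D k K s ≠ 0 := K669.DiffCalc.D_ne_zero_of_isHasseFamily H hH
  have hex : ∀ P : FunFld.Place k K, ∃ ψ : K →ₐ[k] LaurentSeries k, LocRes.IsExpansionAt P.1 ψ := fun P => by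
    obtain ⟨t, ht⟩ := K660.Ord.exists_unif P
    obtain ⟨ψ, hψ, -⟩ := K669.Expansion.exists_expansion hK P t ht
    exact ⟨ψ, hψ⟩
  choose Φ hΦ using hex
  obtain ⟨ω, -, hW, hω, -, hdiv⟩ := Groth.Agent.S12581.result k K hK (K669.DivDiff.isGeometric hK)
    (fun _ => k) Φ hΦ 1 s one_ne_zero hs0
  have hC := hdiv (FunFld.divDiff Φ 1 s)
    (fun P => K669.DivDiff.divDiff_apply hK Φ hΦ one_ne_zero hs0 P)
  exact K668.WDivBound.strong_count hK τ φ hφ hτφ s H hH J hJ Φ hΦ
    (K660.Weil.deg_ell_of_isCanonical hK ⟨ω, hω, hC⟩).2 (Groth.Agent.S11052.result k K hK τ φ hφ)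

end Groth.Agent.S12604
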