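import Groth.Statements.S11058
import Groth.Agent.FunFld.K664.Codim

set_option autoImplicit false
open FunFld

namespace Groth.Agent.S11058

/-- Over an algebraically closed constant field, a birational projective map `φ = (φ₀, …, φₙ)` (the
ratios `φᵢ/φ₀` generate `K` over `k`) is nonsingular at all but finitely many places. Here a
projective map is nonsingular at a place when its local ring there (quotients of polynomials over
`k` in the ratios `φᵢ/φⱼ`, `φⱼ` of least order at the place, with denominator a unit there) is the
whole valuation ring. -/
theorem result
    (k K : Type*) [Field k] [IsAlgClosed k] [Field K] [Algebra k K]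
    (hK : FunFld.IsFunctionField k K) {n : ℕ} (hn : 1 ≤ n) (φ : Fin (n + 1) → K)
    (hφ : LinearIndependent k φ)
    (hbir : IntermediateField.adjoin k (Set.range fun i => φ i / φ 0) = ⊤) :
    {P : FunFld.Place k K | ¬ FunFld.IsNonsingularAt φ P}.Finite := by
  have hW := K664.bpf_of_linearIndependent hK φ hφ
  have hbir' := K664.exists_ratio (W := Submodule.span k (Set.range φ))
    (T := Set.range fun i => φ i / φ 0) (by
      rintro _ ⟨i, rfl⟩
      exact K664.div_mem_ratioField (Submodule.subset_span ⟨i, rfl⟩)
        (Submodule.subset_span ⟨0, rfl⟩)) hbir
  refine (K664.finite_not_ratio hK hW hbir').subset ?_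
  intro P hP h
  apply hP
  intro z hz
  exact (K664.inLocRing_iff hW P z).mpr (h z hz)

end Groth.Agent.S11058
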