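import Groth.Statements.S11063
import Groth.Agent.FunFld.K665.GapCount
import Groth.Agent.S11046
import Groth.Agent.FunFld.K660.Weil

set_option autoImplicit false
open FunFld

namespace Groth.Agent.S11063

/-- Over an algebraically closed constant field, for a place `P` of a function field of genus `g` and `1
≤ l ≤ g`, the `l`-th gap number at `P` is at most `2l - 1`, i.e. at least `l` of the integers `1 ≤ m
≤ 2l - 1` satisfy `L(mP) = L((m-1)P)`. (The published statement bounds the `l`-th order of the
canonical map at `P` by `2l`; the orders of the canonical map at `P` are the gap numbers at `P` less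
one, which gives the form stated here.) -/
theorem result
    (k K : Type*) [Field k] [IsAlgClosed k] [Field K] [Algebra k K]
    (hK : FunFld.IsFunctionField k K) (P : FunFld.Place k K) (l : ℕ)
    (hl : 1 ≤ l) (hlg : l ≤ FunFld.genus k K) :
    l ≤ Set.ncard {m : ℕ | 1 ≤ m ∧ m ≤ 2 * l - 1 ∧
      FunFld.L (Finsupp.single P (m : ℤ)) = FunFld.L (Finsupp.single P ((m : ℤ) - 1))} := by
  apply K665.GapCount.main hK P l hl
  rcases Nat.lt_or_ge l (FunFld.genus k K) with h | h
  · have := Groth.Agent.S11046.result k K hK P (2 * l - 1) (by omega)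
    omega
  · have hg : l = FunFld.genus k K := le_antisymm hlg h
    have hdeg : FunFld.Divisor.deg (Finsupp.single P ((2 * l - 1 : ℕ) : ℤ)) = 2 * (l : ℤ) - 1 := by
      rw [K660.Compare.deg_single, K663.AlgC.place_deg_one hK P]
      push_cast [Nat.cast_sub (by omega : 1 ≤ 2 * l)]
      ring
    have := K660.Weil.ell_eq_of_deg_ge hK
      (D := Finsupp.single P ((2 * l - 1 : ℕ) : ℤ)) (by rw [hdeg, hg])
    rw [hdeg] at this
    omega

end Groth.Agent.S11063
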