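import Groth.Statements.S11064
import Groth.Agent.FunFld.K665.LocRing

set_option autoImplicit false
open FunFld

namespace Groth.Agent.S11064

/-- Over an algebraically closed constant field, a projective map `φ = (φ₀, …, φₙ)` that is nonsingular
at some place is birational, i.e. the ratios `φᵢ/φ₀` generate `K` over `k`. Here the local ring of a
projective map at a place consists of the quotients of polynomials over `k` in the ratios `φᵢ/φⱼ`,
`φⱼ` of least order at the place, with denominator a unit there; the map is nonsingular at the place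
when this ring is the whole valuation ring. -/
theorem result
    (k K : Type*) [Field k] [IsAlgClosed k] [Field K] [Algebra k K]
    (hK : FunFld.IsFunctionField k K) {n : ℕ} (φ : Fin (n + 1) → K)
    (h0 : φ 0 ≠ 0) (P : FunFld.Place k K) (h : FunFld.IsNonsingularAt φ P) :
    IntermediateField.adjoin k (Set.range fun i => φ i / φ 0) = ⊤ := by
  obtain ⟨j, hj0, hj⟩ := K665.LocRing.exists_min_entry φ P 0 h0
  rw [K665.LocRing.isNonsingularAt_iff φ P hj0 hj] at h
  set F := IntermediateField.adjoin k (Set.range fun i => φ i / φ 0) with hF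
  have hmem : ∀ i, φ i / φ 0 ∈ F := fun i => IntermediateField.subset_adjoin _ _ ⟨i, rfl⟩
  have hchart : ∀ a ∈ K665.LocRing.chart (k := k) φ j, a ∈ F := by
    intro a ha
    have : K665.LocRing.chart (k := k) φ j ≤ F.toSubalgebra := by
      apply Algebra.adjoin_le
      rintro _ ⟨i, rfl⟩
      have e : φ i / φ j = (φ i / φ 0) / (φ j / φ 0) := by
        rw [div_div_div_cancel_right₀ h0]
      change φ i / φ j ∈ F
      rw [e]
      exact div_mem (hmem i) (hmem j)
    exact this ha
  have hloc : ∀ z : K, P.1 z ≤ 1 → z ∈ F := by
    intro z hz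
    obtain ⟨u, hu, w, hw, -, e⟩ := K665.LocRing.mem_loc_iff_div.mp (h z hz)
    rw [e]
    exact div_mem (hchart u hu) (hchart w hw)
  rw [eq_top_iff]
  intro z _
  rcases le_total (P.1 z) 1 with hz | hz
  · exact hloc z hz
  · have h1 : P.1 z⁻¹ ≤ 1 := by
      rw [map_inv₀]
      exact inv_le_one_of_one_le₀ hz
    have := inv_mem (hloc _ h1)
    rwa [inv_inv] at this

end Groth.Agent.S11064
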