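import Groth.Statements.S11074
import Groth.Agent.FunFld.K665.Taylor
import Groth.Agent.FunFld.K669.MvPolyDer

set_option autoImplicit false
open FunFld

namespace Groth.Agent.S11074

/-- Over an algebraically closed constant field, at a nonsingular point `a = φ(P)` of a plane curve
`V(f)` with birational natural map `φ = (φ₀ : φ₁ : φ₂)`, the tangent line is `(∂f/∂X₀(a) : ∂f/∂X₁(a)
: ∂f/∂X₂(a))`: the corresponding linear form, pulled back along `φ` normalized at `P`, vanishes to
order at least `2` at `P` (the tangent line being the one line whose pullback vanishes to order `≥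
2`). Nonsingular at `P` means that the local ring of `φ` at `P` (quotients of polynomials over `k`
in the `φᵢ/φⱼ`, `φⱼ` of least order at `P`, denominator a unit at `P`) is the whole valuation ring. -/
theorem result
    (k K : Type*) [Field k] [IsAlgClosed k] [Field K] [Algebra k K]
    (hK : FunFld.IsFunctionField k K) (φ : Fin 3 → K) (hφ : LinearIndependent k φ)
    (hbir : IntermediateField.adjoin k (Set.range fun i => φ i / φ 0) = ⊤)
    (f : MvPolynomial (Fin 3) k) (hf : Irreducible f) (hhom : f.IsHomogeneous f.totalDegree)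
    (hfφ : MvPolynomial.aeval φ f = 0) (P : FunFld.Place k K) (j : Fin 3)
    (hj : ∀ i, P.1 (φ i) ≤ P.1 (φ j)) (hns : FunFld.IsNonsingularAt φ P) (a : Fin 3 → P.O)
    (ha : ∀ i, ((a i : P.O) : K) = φ i / φ j) (c : Fin 3 → k)
    (hc : ∀ i, algebraMap k (IsLocalRing.ResidueField P.O) (c i) =
      MvPolynomial.aeval (fun l => IsLocalRing.residue P.O (a l)) (MvPolynomial.pderiv i f)) :
    P.1 (∑ i, c i • (φ i / φ j)) ≤ WithZero.exp (-2) := by
  classical
  obtain ⟨b, hb⟩ : ∃ b : Fin 3 → k, ∀ i, P.1 ((a i : K) - algebraMap k K (b i)) < 1 := by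
    choose b hb using fun i => K665.Taylor.exists_residue_eq hK P (a i)
    exact ⟨b, fun i => (hb i).1⟩
  have hci : ∀ i, c i = MvPolynomial.eval b (MvPolynomial.pderiv i f) := by
    intro i
    apply K665.Taylor.algebraMap_res_injective P
    rw [hc i, K665.Taylor.aeval_residue_eq P a b hb]
  have hj0 : φ j ≠ 0 := hφ.ne_zero j
  have hz : MvPolynomial.aeval (fun i => φ i / φ j) f = 0 := by
    have h1 := K669.MvPolyDer.aeval_smul_of_isHomogeneous (φ j) (fun i => φ i / φ j) hhom
    have h2 : (fun i => φ j * (φ i / φ j)) = φ := by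
      funext i; field_simp
    rw [h2, hfφ] at h1
    exact (mul_eq_zero.mp h1.symm).resolve_left (pow_ne_zero _ hj0)
  have := K665.Taylor.val_tangent_le P (fun i => φ i / φ j) b
    (fun i => by rw [← ha i]; exact hb i) f _ hhom hz
  simpa only [Algebra.smul_def, hci] using this

end Groth.Agent.S11074
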