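import Groth.Statements.S11079
import Mathlib.FieldTheory.Galois.Basic
import Mathlib.LinearAlgebra.Dimension.Constructions
import Mathlib.LinearAlgebra.Matrix.NonsingularInverse
import Mathlib.LinearAlgebra.Matrix.ToLin
import Mathlib.LinearAlgebra.LinearIndependent.Lemmas
import Mathlib.LinearAlgebra.FiniteDimensional.Lemmas

set_option autoImplicit false
universe u
open CAlg

namespace Groth.Agent.S11079

open Matrix in
/-- The averaged vectors span. -/
theorem span_eq_top {K L : Type u} [Field K] [Field L]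
    [Algebra K L] [FiniteDimensional K L] (n : ℕ)
    (B : (L ≃ₐ[K] L) → GL (Fin n) L) :
    Submodule.span L (Set.range fun x : Fin n → L =>
      ∑ τ : L ≃ₐ[K] L, (B τ : Matrix (Fin n) (Fin n) L) *ᵥ (fun i => τ (x i))) = ⊤ := by
  classical
  by_contra hne
  obtain ⟨f, hf0, hf⟩ := Submodule.exists_le_ker_of_lt_top _ (lt_top_iff_ne_top.mpr hne)
  apply hf0
  have key : ∀ (x : Fin n → L) (τ : L ≃ₐ[K] L),
      f ((B τ : Matrix (Fin n) (Fin n) L) *ᵥ (fun i => τ (x i))) = 0 := by
    intro x
    have hli := linearIndependent_monoidHom L L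
    rw [linearIndependent_iff'] at hli
    have hinj : Function.Injective (fun τ : L ≃ₐ[K] L => ((τ : L →+* L) : L →* L)) := by
      intro a b hab
      ext z
      exact DFunLike.congr_fun hab z
    have hli2 := (linearIndependent_monoidHom L L).comp _ hinj
    rw [Fintype.linearIndependent_iff] at hli2
    apply hli2
    funext h
    have h1 := hf (Submodule.subset_span ⟨h • x, rfl⟩)
    rw [LinearMap.mem_ker, map_sum] at h1
    simp only [Finset.sum_apply, Pi.smul_apply, Function.comp, Pi.zero_apply, smul_eq_mul]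
    rw [← h1]
    refine Finset.sum_congr rfl fun τ _ => ?_
    have h2 : (fun i => τ ((h • x) i)) = τ h • (fun i => τ (x i)) := by
      funext i
      simp
    rw [h2, Matrix.mulVec_smul, map_smul, smul_eq_mul, mul_comm]
    rfl
  ext i
  have h3 := key ((((B 1)⁻¹ : GL (Fin n) L) : Matrix (Fin n) (Fin n) L) *ᵥ (Pi.single i 1)) 1
  have h4 : (fun j => (1 : L ≃ₐ[K] L) (((((B 1)⁻¹ : GL (Fin n) L) : Matrix (Fin n) (Fin n) L) *ᵥ
      (Pi.single i (1 : L))) j)) = ((((B 1)⁻¹ : GL (Fin n) L) : Matrix (Fin n) (Fin n) L) *ᵥ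
      (Pi.single i (1 : L))) := rfl
  rw [h4, Matrix.mulVec_mulVec, ← Units.val_mul, mul_inv_cancel, Units.val_one,
    Matrix.one_mulVec] at h3
  simpa using h3

/-- Let L/K be a finite Galois extension of fields, n a natural number, and B a map from the Galois
group of L over K to the invertible n × n matrices over L such that B(σ) · σ(B(τ)) = B(στ) for all
σ, τ, where σ acts on matrices entrywise and στ is the automorphism applying τ first. Then there is
an invertible matrix A over L with B(σ) = A⁻¹ · σ(A) for every σ; that is, every 1-cocycle of the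
Galois group with values in GL_n(L) is a coboundary. -/
theorem result (K L : Type u) [Field K] [Field L]
    [Algebra K L] [FiniteDimensional K L] [IsGalois K L] (n : ℕ)
    (B : (L ≃ₐ[K] L) → GL (Fin n) L)
    (hB : ∀ σ τ : L ≃ₐ[K] L,
      (B σ : Matrix (Fin n) (Fin n) L) * (B τ : Matrix (Fin n) (Fin n) L).map σ = (B (σ * τ) : Matrix (Fin n) (Fin n) L)) :
    ∃ A : GL (Fin n) L, ∀ σ : L ≃ₐ[K] L,
      (B σ : Matrix (Fin n) (Fin n) L) = ((A⁻¹ : GL (Fin n) L) : Matrix (Fin n) (Fin n) L) * (A : Matrix (Fin n) (Fin n) L).map σ := by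
  classical
  let b : (Fin n → L) → (Fin n → L) := fun x =>
    ∑ τ : L ≃ₐ[K] L, (B τ : Matrix (Fin n) (Fin n) L).mulVec (fun i => τ (x i))
  have hspan : Submodule.span L (Set.range b) = ⊤ := span_eq_top n B
  obtain ⟨f, hfb, -, hli⟩ := Submodule.exists_fun_fin_finrank_span_eq L (Set.range b)
  have hn : Module.finrank L (Submodule.span L (Set.range b)) = n := by
    rw [hspan, finrank_top]
    simp
  obtain ⟨g, hgb, hg⟩ : ∃ g : Fin n → (Fin n → L), (∀ i, g i ∈ Set.range b) ∧
      LinearIndependent L g :=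
    ⟨f ∘ finCongr hn.symm, fun i => hfb _, hli.comp _ (finCongr hn.symm).injective⟩
  choose c hc using hgb
  -- the matrix with columns `c j`
  let C : Matrix (Fin n) (Fin n) L := Matrix.of fun i j => c j i
  let X : Matrix (Fin n) (Fin n) L := ∑ τ : L ≃ₐ[K] L, (B τ : Matrix (Fin n) (Fin n) L) * C.map τ
  have hX : ∀ i j, X i j = g j i := by
    intro i j
    rw [← hc]
    simp only [X, b, Matrix.sum_apply, Finset.sum_apply, Matrix.mul_apply, Matrix.mulVec,
      dotProduct, Matrix.map_apply, C, Matrix.of_apply]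
  have hXu : IsUnit X := by
    rw [← Matrix.linearIndependent_cols_iff_isUnit]
    have : X.col = g := by
      funext j i
      exact hX i j
    rw [this]
    exact hg
  have hσX : ∀ σ : L ≃ₐ[K] L, (B σ : Matrix (Fin n) (Fin n) L) * X.map σ = X := by
    intro σ
    have h1 : X.map σ = ∑ τ : L ≃ₐ[K] L, (B τ : Matrix (Fin n) (Fin n) L).map σ * C.map (σ * τ) := by
      ext i j
      simp only [X, Matrix.map_apply, Matrix.sum_apply, map_sum, Matrix.mul_apply, map_mul]
      rfl
    rw [h1, Finset.mul_sum]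
    simp only [← mul_assoc, hB]
    exact Fintype.sum_equiv (Equiv.mulLeft σ) _ _ (fun τ => rfl)
  obtain ⟨Y, hY⟩ := hXu
  refine ⟨Y⁻¹, fun σ => ?_⟩
  rw [inv_inv]
  have h2 : (Y : Matrix (Fin n) (Fin n) L).map σ * ((Y⁻¹ : GL (Fin n) L) : Matrix (Fin n) (Fin n) L).map σ = 1 := by
    rw [← Matrix.map_mul, ← Units.val_mul, mul_inv_cancel, Units.val_one]
    exact Matrix.map_one _ (map_zero σ) (map_one σ)
  have h3 := hσX σ
  rw [← hY] at h3
  calc (B σ : Matrix (Fin n) (Fin n) L) = (B σ : Matrix (Fin n) (Fin n) L) *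
        ((Y : Matrix (Fin n) (Fin n) L).map σ *
          ((Y⁻¹ : GL (Fin n) L) : Matrix (Fin n) (Fin n) L).map σ) := by rw [h2, mul_one]
    _ = _ := by rw [← mul_assoc, h3]

end Groth.Agent.S11079
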