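import Groth.Statements.S11081
import Groth.Agent.CAlg.K79.TraceRes

set_option autoImplicit false
universe u
attribute [local instance] FractionRing.liftAlgebra
open CAlg

namespace Groth.Agent.S11081

attribute [local instance] Ideal.Quotient.field in
open K79.TraceRes in
theorem aux (A B : Type u) [CommRing A] [CommRing B]
    [IsDedekindDomain A] [IsDedekindDomain B] [Algebra A B] [Module.Finite A B]
    [Module.IsTorsionFree A B]
    (p : Ideal A) [p.IsMaximal] (hp : p ≠ ⊥) (y : B) :
    Ideal.Quotient.mk p (Algebra.intTrace A B y) =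
      ∑ᶠ Q : p.primesOver B,
        Q.1.ramificationIdx A •
          Algebra.trace (A ⧸ p) (B ⧸ Q.1) (Ideal.Quotient.mk Q.1 y) := by
  classical
  have hk : Function.Surjective (algebraMap A (A ⧸ p)) := Ideal.Quotient.mk_surjective
  rw [← Algebra.trace_quotient_eq_of_isDedekindDomain B p]
  have hprod := Ideal.map_algebraMap_eq_finsetProd_pow (R := B) (p := p) hp
  rw [← Finset.prod_set_coe] at hprod
  rw [finsum_eq_sum_of_fintype]
  have hprime : ∀ Q : p.primesOver B, Prime Q.1 := by
    intro Q
    have := Q.2.1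
    have := Q.2.2
    exact Ideal.prime_of_isPrime (Ideal.ne_bot_of_liesOver_of_ne_bot hp Q.1) Q.2.1
  let e := IsDedekindDomain.quotientEquivPiOfProdEq (p.map (algebraMap A B))
    (fun Q : p.primesOver B => Q.1) (fun Q => Q.1.ramificationIdx A) hprime
    (fun Q Q' h => fun h' => h (Subtype.ext h')) hprod.symm
  let eL : (B ⧸ p.map (algebraMap A B)) ≃ₗ[B]
      (∀ Q : p.primesOver B, B ⧸ Q.1 ^ Q.1.ramificationIdx A) :=
    { e with
      map_smul' := fun b v => by
        obtain ⟨v, rfl⟩ := Ideal.Quotient.mk_surjective v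
        rfl }
  have hkill : ∀ Q : p.primesOver B, ∀ a : A, algebraMap A (A ⧸ p) a = 0 →
      ∀ m : B ⧸ Q.1 ^ Q.1.ramificationIdx A, a • m = 0 := by
    intro Q a ha m
    obtain ⟨m, rfl⟩ := Ideal.Quotient.mk_surjective m
    have ha' : a ∈ p := Ideal.Quotient.eq_zero_iff_mem.mp ha
    have h1 : algebraMap A B a ∈ Q.1 ^ Q.1.ramificationIdx A := by
      have h2 : algebraMap A B a ∈ p.map (algebraMap A B) := Ideal.mem_map_of_mem _ ha'
      rw [hprod] at h2
      exact (Ideal.prod_le_inf.trans (Finset.inf_le (Finset.mem_univ Q))) h2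
    rw [← algebraMap_smul B a]
    change Ideal.Quotient.mk _ (algebraMap A B a * m) = 0
    rw [Ideal.Quotient.eq_zero_iff_mem]
    exact Ideal.mul_mem_right _ _ h1
  let hmod : ∀ Q : p.primesOver B, Module (A ⧸ p) (B ⧸ Q.1 ^ Q.1.ramificationIdx A) :=
    fun Q => kmod hk _ (hkill Q)
  have htow : ∀ Q : p.primesOver B, IsScalarTower A (A ⧸ p) (B ⧸ Q.1 ^ Q.1.ramificationIdx A) :=
    fun Q => kmod_tower hk _ (hkill Q)
  have hfin : ∀ Q : p.primesOver B, Module.Finite (A ⧸ p) (B ⧸ Q.1 ^ Q.1.ramificationIdx A) :=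
    fun Q => finite_k (A := A) (B := B) _
  have h1 := tr_iso hk y eL
  rw [tr_pi hk y (fun Q : p.primesOver B => B ⧸ Q.1 ^ Q.1.ramificationIdx A)] at h1
  have h2 : ∀ Q : p.primesOver B, tr hk y (B ⧸ Q.1 ^ Q.1.ramificationIdx A) =
      Q.1.ramificationIdx A •
          Algebra.trace (A ⧸ p) (B ⧸ Q.1) (Ideal.Quotient.mk Q.1 y) := by
    intro Q
    have := Q.2.1
    have := Q.2.2
    have : IsScalarTower A (A ⧸ p) (B ⧸ Q.1) := inferInstance
    rw [tr_pow hk y Q.1 (hprime Q).ne_zero, Algebra.trace_apply]
    rfl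
  rw [Algebra.trace_apply]
  refine Eq.trans ?_ (h1.trans (Finset.sum_congr rfl fun Q _ => h2 Q))
  rfl

/-- Let A be a Dedekind domain, B a Dedekind domain which is a finitely generated torsion-free A-algebra
whose fraction field is separable over that of A (B is the integral closure of A in a finite
separable extension), p a nonzero prime ideal of A and y an element of B. Then the class modulo p of
the trace of y from B to A is the sum over the primes Q of B lying over p of e(Q|p) times the trace,
from B/Q to A/p, of the class of y modulo Q. -/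
theorem result (A B : Type u) [CommRing A] [CommRing B]
    [IsDedekindDomain A] [IsDedekindDomain B] [Algebra A B] [Module.Finite A B] [Module.IsTorsionFree A B]
    [Algebra.IsSeparable (FractionRing A) (FractionRing B)]
    (p : Ideal A) [p.IsMaximal] (hp : p ≠ ⊥) (y : B) :
    Ideal.Quotient.mk p (Algebra.intTrace A B y) =
      ∑ᶠ Q : p.primesOver B,
        Q.1.ramificationIdx A •
          Algebra.trace (A ⧸ p) (B ⧸ Q.1) (Ideal.Quotient.mk Q.1 y) :=
  aux A B p hp y

end Groth.Agent.S11081
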