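import Groth.Statements.S11084
import Groth.Agent.MiscA.WCDedekind
import Mathlib.NumberTheory.RatFunc.Ostrowski

set_option autoImplicit false
universe u
open CAlg

namespace Groth.Agent.S11084

/-- Let k be a field and O a valuation subring of the field of rational functions k(x). Then O contains
the constants k and is different from k(x) if and only if O is the valuation ring of the P-adic
valuation at a nonzero prime P of the polynomial ring k[x], or O is the valuation ring of the
valuation at infinity (given by the degree). (The published statement has k algebraically closed, so
that these valuation rings correspond to the points of the projective line; the published proof does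
not use that k is algebraically closed. The published statement also asserts that distinct points
give distinct valuation rings, which this row does not state, and counts k(x) itself among the
valuation rings containing k; this row excludes it.) -/
theorem result (k : Type u) [Field k] [DecidableEq (RatFunc k)]
    (O : ValuationSubring (RatFunc k)) :
    ((algebraMap k (RatFunc k)).range ≤ O.toSubring ∧ O ≠ ⊤) ↔
      ((∃ v : IsDedekindDomain.HeightOneSpectrum (Polynomial k), O = (v.valuation (RatFunc k)).valuationSubring) ∨
        O = (RatFunc.inftyValuation k).valuationSubring) := by
  constructor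
  · rintro ⟨h1, h2⟩
    have hk : ∀ c : k, c ≠ 0 → O.valuation (algebraMap k (RatFunc k) c) = 1 := by
      intro c hc
      refine le_antisymm ((O.valuation_le_one_iff _).mpr (h1 ⟨c, rfl⟩)) ?_
      have h3 := (O.valuation_le_one_iff _).mpr (h1 ⟨c⁻¹, rfl⟩)
      have h4 : algebraMap k (RatFunc k) c ≠ 0 := by simpa using hc
      rw [map_inv₀, map_inv₀] at h3
      exact (inv_le_one₀ (zero_lt_iff.mpr (by simpa using hc))).mp h3
    by_cases hX : RatFunc.X ∈ O
    · left
      obtain ⟨v, hv⟩ := Agent.MiscA.WCDedekind.exists_eq_valuationSubring
        (A := Polynomial k) O h2 (fun a => by
          induction a using Polynomial.induction_on' with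
          | add p q hp hq => rw [map_add]; exact O.add_mem _ _ hp hq
          | monomial n a =>
            rw [← Polynomial.C_mul_X_pow_eq_monomial, map_mul, map_pow, RatFunc.algebraMap_X]
            refine O.mul_mem _ _ (h1 ⟨a, ?_⟩) (pow_mem hX n)
            rw [RatFunc.algebraMap_C]
            rfl)
      exact ⟨v, hv.symm⟩
    · right
      have h3 : 1 < O.valuation RatFunc.X := by
        rw [← not_le, O.valuation_le_one_iff]
        exact hX
      have h4 : O.valuation.IsTrivialOn k := ⟨hk⟩
      have h5 := RatFunc.valuation_isEquiv_inftyValuation_of_one_lt_valuation_X h3
      rw [Valuation.isEquiv_iff_valuationSubring, ValuationSubring.valuationSubring_valuation] at h5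
      exact h5
  · rintro (⟨v, rfl⟩ | rfl)
    · refine ⟨?_, ?_⟩
      · rintro _ ⟨a, rfl⟩
        change v.valuation (RatFunc k) (algebraMap k (RatFunc k) a) ≤ 1
        rw [IsScalarTower.algebraMap_apply k (Polynomial k) (RatFunc k)]
        exact v.valuation_le_one (K := RatFunc k) _
      · intro h
        obtain ⟨π, hπ⟩ := v.valuation_exists_uniformizer (RatFunc k)
        have h1 : π⁻¹ ∈ (v.valuation (RatFunc k)).valuationSubring := by
          rw [h]
          trivial
        rw [Valuation.mem_valuationSubring_iff, map_inv₀, hπ, ← WithZero.exp_neg,
          ← WithZero.exp_zero, WithZero.exp_le_exp] at h1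
        norm_num at h1
    · refine ⟨?_, ?_⟩
      · rintro _ ⟨a, rfl⟩
        rcases eq_or_ne a 0 with rfl | ha
        · rw [map_zero]
          exact zero_mem _
        · have := RatFunc.inftyValuation.C k ha
          exact this.le
      · intro h
        have h1 : RatFunc.X ∈ (RatFunc.inftyValuation k).valuationSubring := by
          rw [h]
          trivial
        rw [Valuation.mem_valuationSubring_iff, RatFunc.inftyValuation.X, ← WithZero.exp_zero,
          WithZero.exp_le_exp] at h1
        norm_num at h1

end Groth.Agent.S11084
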