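import Groth.Statements.S11086
import Groth.Agent.CAlg.K79.DiffLoc

set_option autoImplicit false
universe u
attribute [local instance] FractionRing.liftAlgebra
open CAlg

namespace Groth.Agent.S11086

/-- Let A be a Dedekind domain, B a Dedekind domain which is a finitely generated torsion-free A-algebra
with fraction field separable over that of A (the integral closure of A in a finite separable
extension), and S a submonoid of A consisting of non-zero-divisors. Let A_S and B_S be localizations
of A at S and of B at the image of S, with B_S an algebra over A_S compatibly with A and B (so A_S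
is integrally closed and B_S is a Dedekind domain, torsion-free over A_S). Then the ideal of B_S
generated by the different of B over A is the different of B_S over A_S. -/
theorem result (A B : Type u) [CommRing A] [CommRing B]
    [IsDedekindDomain A] [IsDedekindDomain B] [Algebra A B] [Module.Finite A B] [Module.IsTorsionFree A B]
    [Algebra.IsSeparable (FractionRing A) (FractionRing B)]
    (S : Submonoid A) (hS : S ≤ nonZeroDivisors A)
    (Aₛ Bₛ : Type u) [CommRing Aₛ] [CommRing Bₛ] [Algebra A Aₛ] [Algebra B Bₛ] [Algebra Aₛ Bₛ]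
    [Algebra A Bₛ] [IsScalarTower A Aₛ Bₛ] [IsScalarTower A B Bₛ]
    [IsLocalization S Aₛ] [IsLocalization (Algebra.algebraMapSubmonoid B S) Bₛ]
    [IsDomain Aₛ] [IsIntegrallyClosed Aₛ] [IsDedekindDomain Bₛ] [Module.IsTorsionFree Aₛ Bₛ] :
    Ideal.map (algebraMap B Bₛ) (differentIdeal A B) = differentIdeal Aₛ Bₛ := by
  let K := FractionRing A
  let L := FractionRing B
  have hSB : Algebra.algebraMapSubmonoid B S ≤ nonZeroDivisors B := by
    rintro _ ⟨s, hs, rfl⟩
    rw [mem_nonZeroDivisors_iff_ne_zero]
    intro h
    exact nonZeroDivisors.ne_zero (hS hs)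
      ((FaithfulSMul.algebraMap_injective A B) (h.trans (map_zero _).symm))
  have hKu : ∀ s : S, IsUnit (algebraMap A K s) := fun s =>
    IsLocalization.map_units K (⟨s, hS s.2⟩ : nonZeroDivisors A)
  have hLu : ∀ s : Algebra.algebraMapSubmonoid B S, IsUnit (algebraMap B L s) := fun s =>
    IsLocalization.map_units L (⟨s, hSB s.2⟩ : nonZeroDivisors B)
  let _ : Algebra Aₛ K := (IsLocalization.lift hKu).toAlgebra
  have h1 : IsScalarTower A Aₛ K := IsScalarTower.of_algebraMap_eq fun a =>
    (IsLocalization.lift_eq hKu a).symm
  let _ : Algebra Bₛ L := (IsLocalization.lift hLu).toAlgebra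
  have h2 : IsScalarTower B Bₛ L := IsScalarTower.of_algebraMap_eq fun a =>
    (IsLocalization.lift_eq hLu a).symm
  have h3 : IsFractionRing Aₛ K := IsFractionRing.isFractionRing_of_isLocalization S Aₛ K hS
  have h4 : IsFractionRing Bₛ L :=
    IsFractionRing.isFractionRing_of_isLocalization (Algebra.algebraMapSubmonoid B S) Bₛ L hSB
  let _ : Algebra Aₛ L := ((algebraMap K L).comp (algebraMap Aₛ K)).toAlgebra
  have h5 : IsScalarTower Aₛ K L := IsScalarTower.of_algebraMap_eq fun a => rfl
  have h6 : IsScalarTower Aₛ Bₛ L := by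
    refine IsScalarTower.of_algebraMap_eq' ?_
    refine IsLocalization.ringHom_ext S ?_
    ext a
    simp only [RingHom.comp_apply]
    rw [IsScalarTower.algebraMap_apply Aₛ K L, ← IsScalarTower.algebraMap_apply A Aₛ K,
      ← IsScalarTower.algebraMap_apply A Aₛ Bₛ, IsScalarTower.algebraMap_apply A B Bₛ,
      ← IsScalarTower.algebraMap_apply B Bₛ L, ← IsScalarTower.algebraMap_apply A B L,
      ← IsScalarTower.algebraMap_apply A K L]
  have h7 : Algebra.IsIntegral Aₛ Bₛ := by
    have h := isIntegral_localization (R := A) (S := B) (M := S) (Rₘ := Aₛ) (Sₘ := Bₛ)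
    have h' : algebraMap Aₛ Bₛ = IsLocalization.map Bₛ (algebraMap A B)
        (show _ ≤ (Algebra.algebraMapSubmonoid B S).comap _ from S.le_comap_map) := by
      refine IsLocalization.ringHom_ext S ?_
      ext a
      simp only [RingHom.comp_apply]
      rw [IsLocalization.map_eq, ← IsScalarTower.algebraMap_apply A Aₛ Bₛ,
        ← IsScalarTower.algebraMap_apply A B Bₛ]
    exact ⟨fun x => by
      have := h x
      rw [← h'] at this
      exact this⟩
  have h8 : IsIntegralClosure Bₛ Aₛ L := IsIntegralClosure.of_isIntegrallyClosed Bₛ Aₛ L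
  have h9 : IsIntegralClosure B A L := IsIntegralClosure.of_isIntegrallyClosed B A L
  exact K79.DiffLoc.map_differentIdeal A B Aₛ Bₛ K L S

end Groth.Agent.S11086
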