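import Groth.Statements.S11087
import Groth.Agent.CAlg.K79.CDVR
import Groth.Agent.S0505
import Mathlib.FieldTheory.Perfect
import Mathlib.FieldTheory.Minpoly.Field
import Mathlib.RingTheory.Algebraic.Integral

set_option autoImplicit false
universe u
attribute [local instance] FractionRing.liftAlgebra
open CAlg

namespace Groth.Agent.S11087

/-- Let A be a complete discrete valuation ring and K a perfect field contained in A such that K → A →
A/m is bijective. Let B be a Dedekind domain which is a finite torsion-free A-algebra with fraction
field separable over that of A (the integral closure of A in a finite separable extension of its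
fraction field). Then for every maximal ideal M of B and every b in B there is exactly one element c
of B which is algebraic over K and congruent to b modulo M; in other words the algebraic closure of
K in B is a subfield mapping isomorphically onto B/M. -/
theorem result (K A B : Type u) [Field K]
    [PerfectField K] [CommRing A] [IsDomain A] [IsDiscreteValuationRing A]
    [IsAdicComplete (IsLocalRing.maximalIdeal A) A]
    [Algebra K A] (hK : Function.Bijective ((IsLocalRing.residue A).comp (algebraMap K A)))
    [CommRing B] [IsDedekindDomain B] [Algebra A B] [Module.Finite A B] [Module.IsTorsionFree A B]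
    [Algebra.IsSeparable (FractionRing A) (FractionRing B)] [Algebra K B] [IsScalarTower K A B]
    (M : Ideal B) [M.IsMaximal] (b : B) :
    ∃! c : B, IsAlgebraic K c ∧ b - c ∈ M := by
  classical
  have hloc : IsLocalRing B := K79.CDVR.isLocalRing A B
  have hM : M = IsLocalRing.maximalIdeal B := IsLocalRing.eq_maximalIdeal inferInstance
  have hens : HenselianLocalRing A := K79.CDVR.henselian A
  have hensB : HenselianLocalRing B := Agent.S0505.result A B
  have hl := K79.CDVR.liesOver A B
  let e : K ≃+* IsLocalRing.ResidueField A := RingEquiv.ofBijective _ hK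
  let σ : A →+* K := e.symm.toRingHom.comp (IsLocalRing.residue A)
  have hσ : ∀ a : A, algebraMap K A (σ a) - a ∈ IsLocalRing.maximalIdeal A := by
    intro a
    rw [← IsLocalRing.residue_eq_zero_iff, map_sub, sub_eq_zero]
    exact e.apply_symm_apply (IsLocalRing.residue A a)
  let _ : Field (B ⧸ M) := Ideal.Quotient.field M
  let π : B →+* B ⧸ M := Ideal.Quotient.mk M
  have hcomp : (algebraMap K (B ⧸ M)).comp σ = π.comp (algebraMap A B) := by
    ext a
    have h1 : algebraMap A B (algebraMap K A (σ a) - a) ∈ M := by
      rw [hM]
      have : algebraMap K A (σ a) - a ∈ (IsLocalRing.maximalIdeal B).under A := by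
        rw [← hl.over]
        exact hσ a
      exact this
    rw [map_sub, ← IsScalarTower.algebraMap_apply K A B] at h1
    have h2 : π (algebraMap K B (σ a) - algebraMap A B a) = 0 := Ideal.Quotient.eq_zero_iff_mem.mpr h1
    rw [map_sub, sub_eq_zero] at h2
    exact h2
  have hint : IsIntegral K (π b) := by
    obtain ⟨p, hp, hpb⟩ := Algebra.IsIntegral.isIntegral (R := A) b
    refine ⟨p.map σ, hp.map σ, ?_⟩
    rw [Polynomial.eval₂_map, hcomp, ← Polynomial.hom_eval₂, hpb, map_zero]
  -- the lifting polynomial
  let g : Polynomial K := minpoly K (π b)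
  have hg : g.Monic := minpoly.monic hint
  have hsep : g.Separable := PerfectField.separable_of_irreducible (minpoly.irreducible hint)
  have hgb : Polynomial.aeval b g ∈ IsLocalRing.maximalIdeal B := by
    rw [← hM, ← Ideal.Quotient.eq_zero_iff_mem]
    have h1 : π (Polynomial.aeval b g) = Polynomial.aeval (π b) g :=
      (Polynomial.aeval_algebraMap_apply (B ⧸ M) b g).symm
    exact h1.trans (minpoly.aeval K (π b))
  have hgb' : IsUnit (Polynomial.aeval b (Polynomial.derivative g)) := by
    by_contra hnu
    have h1 : Polynomial.aeval b (Polynomial.derivative g) ∈ M := by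
      rw [hM]
      exact hnu
    have h2 : Polynomial.aeval (π b) (Polynomial.derivative g) = 0 := by
      have h3 : π (Polynomial.aeval b (Polynomial.derivative g)) =
          Polynomial.aeval (π b) (Polynomial.derivative g) :=
        (Polynomial.aeval_algebraMap_apply (B ⧸ M) b _).symm
      rw [← h3]
      exact Ideal.Quotient.eq_zero_iff_mem.mpr h1
    exact hsep.aeval_derivative_ne_zero (minpoly.aeval K (π b)) h2
  obtain ⟨c, hc, hcb⟩ := HenselianLocalRing.is_henselian (g.map (algebraMap K B)) (hg.map _) b
    (by rw [Polynomial.eval_map_algebraMap]; exact hgb)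
    (by rw [Polynomial.derivative_map, Polynomial.eval_map_algebraMap]; exact hgb')
  have hcalg : IsAlgebraic K c := by
    refine ⟨g, hg.ne_zero, ?_⟩
    rw [Polynomial.IsRoot, Polynomial.eval_map_algebraMap] at hc
    exact hc
  refine ⟨c, ⟨hcalg, ?_⟩, ?_⟩
  · rw [hM, ← neg_mem_iff, neg_sub]
    exact hcb
  · rintro c' ⟨hc', hbc'⟩
    by_contra hne
    have h1 : IsAlgebraic K (c' - c) := hc'.sub hcalg
    have h2 : c' - c ∈ M := by
      have h3 : b - c ∈ M := by
        rw [hM, ← neg_mem_iff, neg_sub]
        exact hcb
      have h4 : c' - c = (b - c) - (b - c') := by ring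
      rw [h4]
      exact sub_mem h3 hbc'
    obtain ⟨r, hr0, hr⟩ := h1.exists_nonzero_dvd
      (mem_nonZeroDivisors_of_ne_zero (sub_ne_zero.mpr hne))
    have h5 : IsUnit (c' - c) := isUnit_of_dvd_unit hr ((isUnit_iff_ne_zero.mpr hr0).map _)
    exact (inferInstance : M.IsMaximal).ne_top (Ideal.eq_top_of_isUnit_mem _ h2 h5)

end Groth.Agent.S11087
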