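import Groth.Statements.S11088
import Groth.Agent.CAlg.K79.CDVR
import Mathlib.RingTheory.Ideal.Norm.RelNorm

set_option autoImplicit false
universe u
attribute [local instance] FractionRing.liftAlgebra
open CAlg

namespace Groth.Agent.S11088

/-- Let A be a complete discrete valuation ring with maximal ideal m and B a Dedekind domain which is a
finite torsion-free A-algebra with fraction field separable over that of A (the integral closure of
A in a finite separable extension). Then for every maximal ideal M of B, with f the degree of B/M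
over A/m, and every nonzero x in B, the multiplicity of m in the ideal generated by the norm of x
equals f times the multiplicity of M in the ideal generated by x: v(N(x)) = f · w(x). -/
theorem result (A B : Type u) [CommRing A] [IsDomain A] [IsDiscreteValuationRing A]
    [IsAdicComplete (IsLocalRing.maximalIdeal A) A]
    [CommRing B] [IsDedekindDomain B] [Algebra A B] [Module.Finite A B] [Module.IsTorsionFree A B]
    [Algebra.IsSeparable (FractionRing A) (FractionRing B)]
    (M : Ideal B) [M.IsMaximal] (x : B) (hx : x ≠ 0) :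
    emultiplicity (IsLocalRing.maximalIdeal A) (Ideal.span {Algebra.intNorm A B x}) =
      (M.inertiaDeg A : ℕ∞) * emultiplicity M (Ideal.span {x}) := by
  classical
  have hloc : IsLocalRing B := K79.CDVR.isLocalRing A B
  have hM : M = IsLocalRing.maximalIdeal B := IsLocalRing.eq_maximalIdeal inferInstance
  subst hM
  have hdvr : IsDiscreteValuationRing B := K79.CDVR.isDVR A B
  have hl := K79.CDVR.liesOver A B
  have hm0 : IsLocalRing.maximalIdeal A ≠ ⊥ := IsDiscreteValuationRing.not_a_field A
  have hm1 : IsLocalRing.maximalIdeal A ≠ ⊤ := (IsLocalRing.maximalIdeal.isMaximal A).ne_top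
  have hM0 : IsLocalRing.maximalIdeal B ≠ ⊥ := IsDiscreteValuationRing.not_a_field B
  have hM1 : IsLocalRing.maximalIdeal B ≠ ⊤ := (IsLocalRing.maximalIdeal.isMaximal B).ne_top
  -- the norm of the maximal ideal
  obtain ⟨s, hs⟩ := Ideal.exists_relNorm_eq_pow_of_isPrime (IsLocalRing.maximalIdeal B)
    (IsLocalRing.maximalIdeal A)
  have hef := K79.CDVR.ef A B
  have hmap := K79.CDVR.map_eq A B
  have h1 := Ideal.relNorm_algebraMap (R := A) B (IsLocalRing.maximalIdeal A)
  rw [hmap, map_pow, hs, ← pow_mul, ← hef] at h1
  have h2 := (Ideal.pow_right_strictAnti _ hm0 hm1).injective h1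
  have he : 0 < (IsLocalRing.maximalIdeal B).ramificationIdx A := Ideal.ramificationIdx_pos _ A
  have hsf : s = (IsLocalRing.maximalIdeal B).inertiaDeg A := by
    rw [mul_comm] at h2
    exact Nat.eq_of_mul_eq_mul_left he h2
  -- the ideal generated by `x`
  have hx' : Ideal.span {x} ≠ ⊥ := by rwa [Ne, Ideal.span_singleton_eq_bot]
  have h7 := ((IsDiscreteValuationRing.TFAE B (K79.CDVR.not_isField A B)).out 0 6).mp hdvr
  obtain ⟨k, hk⟩ := h7 _ hx'
  have h3 : Ideal.span {Algebra.intNorm A B x} =
      IsLocalRing.maximalIdeal A ^ ((IsLocalRing.maximalIdeal B).inertiaDeg A * k) := by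
    rw [← Ideal.relNorm_singleton, hk, map_pow, hs, hsf, pow_mul]
  have hnu : ¬ IsUnit (IsLocalRing.maximalIdeal A) := by rwa [Ideal.isUnit_iff]
  have hnu' : ¬ IsUnit (IsLocalRing.maximalIdeal B) := by rwa [Ideal.isUnit_iff]
  rw [h3, hk, emultiplicity_pow_self hm0 hnu, emultiplicity_pow_self hM0 hnu']
  push_cast
  rfl

end Groth.Agent.S11088
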