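import Groth.Statements.S11089
import Groth.Agent.CAlg.K79.CDVR
import Groth.Agent.S0505
import Mathlib.RingTheory.Polynomial.Eisenstein.Basic
import Mathlib.FieldTheory.Minpoly.IsIntegrallyClosed

set_option autoImplicit false
universe u
attribute [local instance] FractionRing.liftAlgebra
open CAlg

namespace Groth.Agent.S11089

/-- Let A be a complete discrete valuation ring containing a field K with K → A → A/m bijective, and B a
Dedekind domain which is a finite torsion-free A-algebra of rank m with fraction field separable
over that of A (the integral closure of A in a finite separable extension E of F = Frac A). If the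
extension is totally ramified — the maximal ideal M of B has ramification index m — and m is a unit
in A, then some uniformizer u of B (an element of M not in M²) satisfies u^m ∈ A and generates E
over F: its minimal polynomial over A has degree m. -/
theorem result (K A B : Type u) [Field K]
    [CommRing A] [IsDomain A] [IsDiscreteValuationRing A]
    [IsAdicComplete (IsLocalRing.maximalIdeal A) A]
    [Algebra K A] (hK : Function.Bijective ((IsLocalRing.residue A).comp (algebraMap K A)))
    [CommRing B] [IsDedekindDomain B] [Algebra A B] [Module.Finite A B] [Module.IsTorsionFree A B]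
    [Algebra.IsSeparable (FractionRing A) (FractionRing B)]
    (M : Ideal B) [M.IsMaximal] (hram : M.ramificationIdx A = Module.finrank A B)
    (hm : IsUnit ((Module.finrank A B : ℕ) : A)) :
    ∃ u : B, u ∈ M ∧ u ∉ M ^ 2 ∧ u ^ Module.finrank A B ∈ (algebraMap A B).range ∧
      (minpoly A u).natDegree = Module.finrank A B := by
  classical
  have hloc : IsLocalRing B := K79.CDVR.isLocalRing A B
  have hM : M = IsLocalRing.maximalIdeal B := IsLocalRing.eq_maximalIdeal inferInstance
  subst hM
  have hens : HenselianLocalRing A := K79.CDVR.henselian A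
  have hensB : HenselianLocalRing B := Agent.S0505.result A B
  have hdvr : IsDiscreteValuationRing B := K79.CDVR.isDVR A B
  have hl := K79.CDVR.liesOver A B
  have hef := K79.CDVR.ef A B
  have hmap := K79.CDVR.map_eq A B
  have he : 0 < (IsLocalRing.maximalIdeal B).ramificationIdx A := Ideal.ramificationIdx_pos _ A
  rw [hram] at hef hmap he
  set n := Module.finrank A B with hn
  have hf1 : (IsLocalRing.maximalIdeal B).inertiaDeg A = 1 :=
    Nat.eq_of_mul_eq_mul_left he (by rw [hef, mul_one])
  rw [Ideal.inertiaDeg_eq_of_isMaximal (IsLocalRing.maximalIdeal A)] at hf1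
  let _ : Field (A ⧸ IsLocalRing.maximalIdeal A) := Ideal.Quotient.field _
  let _ : Field (B ⧸ IsLocalRing.maximalIdeal B) := Ideal.Quotient.field _
  have hsurj : Function.Surjective (algebraMap (A ⧸ IsLocalRing.maximalIdeal A)
      (B ⧸ IsLocalRing.maximalIdeal B)) := by
    rw [Algebra.surjective_algebraMap_iff]
    exact (Subalgebra.bot_eq_top_of_finrank_eq_one hf1).symm
  obtain ⟨t, ht⟩ := IsDiscreteValuationRing.exists_irreducible A
  obtain ⟨u₀, hu₀⟩ := IsDiscreteValuationRing.exists_irreducible B
  have hmt : IsLocalRing.maximalIdeal A = Ideal.span {t} := ht.maximalIdeal_eq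
  have hmu : IsLocalRing.maximalIdeal B = Ideal.span {u₀} := hu₀.maximalIdeal_eq
  -- `t = w u₀ ^ n`
  have hassoc : Associated (u₀ ^ n) (algebraMap A B t) := by
    rw [← Ideal.span_singleton_eq_span_singleton, ← Ideal.span_singleton_pow, ← hmu, ← hmap, hmt,
      Ideal.map_span, Set.image_singleton]
  obtain ⟨w, hw⟩ := hassoc
  -- the residue of `w`
  obtain ⟨a₀', ha₀'⟩ := hsurj (Ideal.Quotient.mk _ (w : B))
  obtain ⟨a₀, rfl⟩ := Ideal.Quotient.mk_surjective a₀'
  have ha₀ : algebraMap A B a₀ - w ∈ IsLocalRing.maximalIdeal B := by
    rw [← Ideal.Quotient.eq]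
    exact ha₀'
  have hlocal : ∀ a : A, a ∈ IsLocalRing.maximalIdeal A →
      algebraMap A B a ∈ IsLocalRing.maximalIdeal B := by
    intro a ha
    have : a ∈ (IsLocalRing.maximalIdeal B).under A := by
      rw [← hl.over]
      exact ha
    exact this
  have hau : IsUnit a₀ := by
    by_contra hnu
    have h1 := hlocal a₀ hnu
    have h2 : (w : B) ∈ IsLocalRing.maximalIdeal B := by
      have : (w : B) = algebraMap A B a₀ - (algebraMap A B a₀ - w) := by ring
      rw [this]
      exact sub_mem h1 ha₀
    exact h2 w.isUnit
  obtain ⟨α, rfl⟩ := hau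
  have hαB : algebraMap A B (α⁻¹ : Aˣ) * algebraMap A B α = 1 := by
    rw [← map_mul, Units.inv_mul, map_one]
  -- the `n`-th root
  let w' : B := w * algebraMap A B (α⁻¹ : Aˣ)
  have hnB : IsUnit ((n : ℕ) : B) := by
    have := hm.map (algebraMap A B)
    rwa [map_natCast] at this
  obtain ⟨v, hv, hv1⟩ := HenselianLocalRing.is_henselian (Polynomial.X ^ n - Polynomial.C w')
    (Polynomial.monic_X_pow_sub_C w' he.ne') 1
    (by
      rw [Polynomial.eval_sub, Polynomial.eval_pow, Polynomial.eval_X, Polynomial.eval_C, one_pow]
      have : (1 : B) - w' = algebraMap A B (α⁻¹ : Aˣ) * (algebraMap A B α - w) := by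
        rw [mul_sub, hαB]
        simp only [w']
        ring
      rw [this]
      exact Ideal.mul_mem_left _ _ ha₀)
    (by
      rw [Polynomial.derivative_sub, Polynomial.derivative_X_pow, Polynomial.derivative_C, sub_zero]
      simpa using hnB)
  have hvn : v ^ n = w' := by
    have : Polynomial.eval v (Polynomial.X ^ n - Polynomial.C w') = 0 := hv
    rw [Polynomial.eval_sub, Polynomial.eval_pow, Polynomial.eval_X, Polynomial.eval_C,
      sub_eq_zero] at this
    exact this
  have hvu : IsUnit v := by
    by_contra hnu
    have h1 : (1 : B) ∈ IsLocalRing.maximalIdeal B := by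
      have : (1 : B) = v - (v - 1) := by ring
      rw [this]
      exact sub_mem hnu hv1
    exact h1 isUnit_one
  let a : A := (α⁻¹ : Aˣ) * t
  have hun : (v * u₀) ^ n = algebraMap A B a := by
    rw [mul_pow, hvn]
    simp only [a, w', map_mul, ← hw]
    ring
  have huM : v * u₀ ∈ IsLocalRing.maximalIdeal B := by
    rw [hmu]
    exact Ideal.mul_mem_left _ _ (Ideal.mem_span_singleton_self _)
  refine ⟨v * u₀, huM, ?_, ⟨a, hun.symm⟩, ?_⟩
  · intro h
    have h1 : u₀ ∈ IsLocalRing.maximalIdeal B ^ 2 := (Ideal.unit_mul_mem_iff_mem _ hvu).mp h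
    have h2 : IsLocalRing.maximalIdeal B ≤ IsLocalRing.maximalIdeal B ^ 2 := by
      conv_lhs => rw [hmu]
      rw [Ideal.span_singleton_le_iff_mem]
      exact h1
    have h3 : IsLocalRing.maximalIdeal B ^ 2 < IsLocalRing.maximalIdeal B ^ 1 :=
      Ideal.pow_right_strictAnti _ (IsDiscreteValuationRing.not_a_field B)
        (IsLocalRing.maximalIdeal.isMaximal B).ne_top (by norm_num)
    rw [pow_one] at h3
    exact absurd h2 (not_le_of_gt h3)
  · -- Eisenstein
    have hma : IsLocalRing.maximalIdeal A = Ideal.span {a} := by
      rw [hmt]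
      exact (Ideal.span_singleton_eq_span_singleton.mpr
        ⟨α⁻¹, by simp only [a]; ring⟩)
    let p : Polynomial A := Polynomial.X ^ n - Polynomial.C a
    have hpm : p.Monic := Polynomial.monic_X_pow_sub_C a he.ne'
    have hpn : p.natDegree = n := Polynomial.natDegree_X_pow_sub_C
    have heis : p.IsEisensteinAt (IsLocalRing.maximalIdeal A) := by
      refine hpm.isEisensteinAt_of_mem_of_notMem
        (IsLocalRing.maximalIdeal.isMaximal A).ne_top ?_ ?_
      · intro i hi
        rw [hpn] at hi
        simp only [p, Polynomial.coeff_sub, Polynomial.coeff_X_pow, if_neg hi.ne, zero_sub,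
          neg_mem_iff, Polynomial.coeff_C]
        split_ifs
        · rw [hma]
          exact Ideal.mem_span_singleton_self a
        · exact zero_mem _
      · simp only [p, Polynomial.coeff_sub, Polynomial.coeff_X_pow, if_neg he.ne, zero_sub,
          neg_mem_iff, Polynomial.coeff_C, if_true]
        intro h
        have h2 : IsLocalRing.maximalIdeal A ≤ IsLocalRing.maximalIdeal A ^ 2 := by
          conv_lhs => rw [hma]
          rw [Ideal.span_singleton_le_iff_mem]
          exact h
        have h3 : IsLocalRing.maximalIdeal A ^ 2 < IsLocalRing.maximalIdeal A ^ 1 :=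
          Ideal.pow_right_strictAnti _ (IsDiscreteValuationRing.not_a_field A)
            (IsLocalRing.maximalIdeal.isMaximal A).ne_top (by norm_num)
        rw [pow_one] at h3
        exact absurd h2 (not_le_of_gt h3)
    have hirr : Irreducible p := heis.irreducible (IsLocalRing.maximalIdeal.isMaximal A).isPrime
      hpm.isPrimitive (by rw [hpn]; exact he)
    have hint : IsIntegral A (v * u₀) := Algebra.IsIntegral.isIntegral _
    have hdvd : minpoly A (v * u₀) ∣ p := by
      refine minpoly.isIntegrallyClosed_dvd hint ?_
      simp only [p, map_sub, map_pow, Polynomial.aeval_X, Polynomial.aeval_C, hun, sub_self]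
    obtain ⟨q, hq⟩ := hdvd
    rcases hirr.isUnit_or_isUnit hq with h | h
    · exact absurd h (minpoly.not_isUnit A _)
    · have h1 : q.natDegree = 0 := Polynomial.natDegree_eq_zero_of_isUnit h
      rw [← hpn, hq, Polynomial.natDegree_mul (minpoly.ne_zero hint) h.ne_zero, h1, add_zero]

end Groth.Agent.S11089
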