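import Groth.Statements.S11092
import Groth.Agent.CAlg.K79.KaehlerTr

set_option autoImplicit false
universe u v
open CAlg

namespace Groth.Agent.S11092

/-- Let k be an algebraically closed field, K a field finitely generated over k admitting a one-element
transcendence basis over k (a function field of dimension one), and L a finite extension field of K
with the compatible k-algebra structure. Then the K-linear map from the Kähler differentials of K
over k to those of L over k induced by the inclusion is either the zero map or injective, and it is
injective if and only if L is separable over K. (The published statement takes K ⊆ L to be the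
function fields of two elliptic curves related by a nonzero homomorphism; its proof uses only that
they are function fields of dimension one over k.) -/
theorem result (k : Type u) (K L : Type v)
    [Field k] [IsAlgClosed k] [Field K] [Field L] [Algebra k K] [Algebra k L] [Algebra K L]
    [IsScalarTower k K L] (hK : (⊤ : IntermediateField k K).FG)
    (hx : ∃ x : K, IsTranscendenceBasis k (fun _ : Unit => x)) [FiniteDimensional K L] :
    (KaehlerDifferential.map k k K L = 0 ∨ Function.Injective (KaehlerDifferential.map k k K L)) ∧
      (Function.Injective (KaehlerDifferential.map k k K L) ↔ Algebra.IsSeparable K L) := by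
  classical
  have h1 : Algebra.EssFiniteType k (⊤ : IntermediateField k K) :=
    IntermediateField.essFiniteType_iff.mpr hK
  have h2 : Algebra.EssFiniteType k K := Algebra.EssFiniteType.of_surjective
    (IntermediateField.topEquiv (F := k) (E := K)).toAlgHom
    (IntermediateField.topEquiv (F := k) (E := K)).surjective
  have h2' : Algebra.EssFiniteType k L := Algebra.EssFiniteType.comp k K L
  obtain ⟨x, hx⟩ := hx
  -- a separating element
  obtain ⟨s, hs, hsep⟩ := K79.KaehlerTr.exists_separating (K := k) (L := K)
  have hcard : Cardinal.mk s = 1 := by
    have := hs.lift_cardinalMk_eq hx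
    simpa using this
  obtain ⟨t, ht⟩ := Cardinal.mk_set_eq_one_iff.mp (show Cardinal.mk (s : Set K) = 1 from hcard)
  have hs' : s = {t} := Finset.coe_injective (by rw [ht]; simp)
  subst hs'
  let v : Unit → K := fun _ => t
  have hrange : Set.range v = Set.range ((↑) : ({t} : Finset K) → K) := by
    ext y
    simp [v, eq_comm]
  have hv : IsTranscendenceBasis k v := by
    have e : Unit ≃ ({t} : Finset K) := ⟨fun _ => ⟨t, by simp⟩, fun _ => (), fun _ => rfl,
      fun y => Subtype.ext (Finset.mem_singleton.mp y.2).symm⟩
    have := hs.comp_equiv e
    have h3 : v = ((↑) : ({t} : Finset K) → K) ∘ e := by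
      funext y
      exact (Finset.mem_singleton.mp (e y).2).symm
    rw [h3]
    exact this
  have hvs : Algebra.IsSeparable (IntermediateField.adjoin k (Set.range v)) K := by
    rw [hrange]
    exact hsep
  obtain ⟨b, hb⟩ := K79.KaehlerTr.exists_basis hv.1
  -- the induced transcendence basis of `L`
  let w : Unit → L := algebraMap K L ∘ v
  have hw : IsTranscendenceBasis k w := hv.algebraMap_comp
  have hD : KaehlerDifferential.map k k K L (b ()) = KaehlerDifferential.D k L (w ()) := by
    rw [hb, KaehlerDifferential.map_D]
    rfl
  have hrep : ∀ y : Ω[K⁄k], y = b.repr y () • b () := by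
    intro y
    conv_lhs => rw [← b.sum_repr y]
    simp
  have hinj : Function.Injective (KaehlerDifferential.map k k K L) ↔
      KaehlerDifferential.D k L (w ()) ≠ 0 := by
    constructor
    · intro h h0
      rw [h0] at hD
      exact b.ne_zero () (h (hD.trans (map_zero _).symm))
    · intro h
      rw [injective_iff_map_eq_zero]
      intro y hy
      rw [hrep y, map_smul, hD] at hy
      rw [hrep y, (smul_eq_zero.mp hy).resolve_right h, zero_smul]
  have hzero : KaehlerDifferential.D k L (w ()) = 0 → KaehlerDifferential.map k k K L = 0 := by
    intro h
    refine LinearMap.ext fun y => ?_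
    rw [hrep y, map_smul, hD, h, smul_zero]
    rfl
  have hsepL : Algebra.IsSeparable (IntermediateField.adjoin k (Set.range w)) L ↔
      Algebra.IsSeparable K L := by
    let M : IntermediateField k K := IntermediateField.adjoin k (Set.range v)
    let f : K →ₐ[k] L := IsScalarTower.toAlgHom k K L
    have hmap : M.map f = IntermediateField.adjoin k (Set.range w) := by
      rw [IntermediateField.adjoin_map, ← Set.range_comp]
      rfl
    let e : M ≃ₐ[k] IntermediateField.adjoin k (Set.range w) :=
      (M.equivMap f).trans (IntermediateField.equivOfEq hmap)
    have he : (algebraMap (IntermediateField.adjoin k (Set.range w)) L).comp (e : M →+* _) =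
        (RingHom.id L).comp (algebraMap M L) := by
      ext y
      rfl
    constructor
    · intro h
      have h7 : Algebra.IsSeparable M L :=
        Algebra.IsSeparable.of_equiv_equiv e.symm.toRingEquiv (RingEquiv.refl L) (by
          ext y
          obtain ⟨z, rfl⟩ := e.surjective y
          have h8 := DFunLike.congr_fun he z
          simp only [RingHom.comp_apply, RingHom.id_apply] at h8
          change algebraMap M L (e.symm (e z)) = algebraMap _ L (e z)
          rw [e.symm_apply_apply]
          exact h8.symm)
      exact Algebra.isSeparable_tower_top_of_isSeparable M K L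
    · intro h
      have h7 : Algebra.IsSeparable M L := Algebra.IsSeparable.trans M K L
      exact Algebra.IsSeparable.of_equiv_equiv e.toRingEquiv (RingEquiv.refl L) he
  refine ⟨?_, ?_⟩
  · by_cases h : KaehlerDifferential.D k L (w ()) = 0
    · exact Or.inl (hzero h)
    · exact Or.inr (hinj.mpr h)
  · rw [hinj, ← hsepL]
    constructor
    · intro h
      refine K79.KaehlerTr.isSeparable_of_span ?_
      have hr := K79.KaehlerTr.rank_kaehler hw
      have hfr : Module.finrank L (Ω[L⁄k]) = 1 := by
        rw [Module.finrank]
        have h5 : Module.rank L (Ω[L⁄k]) = 1 := by simpa using hr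
        rw [h5]
        simp
      have h6 : Set.range (fun i : Unit => KaehlerDifferential.D k L (w i)) =
          {KaehlerDifferential.D k L (w ())} := by
        exact Set.range_unique
      rw [h6]
      exact (finrank_eq_one_iff_of_nonzero _ h).mp hfr
    · intro h
      obtain ⟨b', hb'⟩ := K79.KaehlerTr.exists_basis hw.1
      rw [← hb' ()]
      exact b'.ne_zero ()

end Groth.Agent.S11092
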