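import Groth.Statements.S11093
import Groth.Agent.CAlg.K79.ArtSch

set_option autoImplicit false
universe u
attribute [local instance] FractionRing.liftAlgebra
open CAlg

namespace Groth.Agent.S11093

/-- Second assertion: (Artin–Schreier normal form): let K be a perfect field of characteristic p > 0, A
= K[[t]] the power series ring with fraction field F, and B a Dedekind domain which is a finite
torsion-free A-algebra whose fraction field E is Galois of degree p over F and totally ramified:
some maximal ideal of B has ramification index p over A. Then there are x in E generating E over F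
and α in F with x^p − x + α = 0, where α = a / t^m for a power series a with nonzero constant term
and a positive integer m not divisible by p. -/
theorem result (p : ℕ) [Fact p.Prime] (K : Type u) [Field K]
    [CharP K p] [PerfectField K] (B : Type u) [CommRing B] [IsDedekindDomain B]
    [Algebra (PowerSeries K) B] [Module.Finite (PowerSeries K) B] [Module.IsTorsionFree (PowerSeries K) B]
    [IsGalois (FractionRing (PowerSeries K)) (FractionRing B)]
    (hdeg : Module.finrank (FractionRing (PowerSeries K)) (FractionRing B) = p)
    (M : Ideal B) [M.IsMaximal] (hram : M.ramificationIdx (PowerSeries K) = p) :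
    ∃ x : FractionRing B, ∃ m : ℕ, ∃ a : PowerSeries K,
      IntermediateField.adjoin (FractionRing (PowerSeries K)) {x} = ⊤ ∧ 0 < m ∧ ¬ p ∣ m ∧
      PowerSeries.constantCoeff a ≠ 0 ∧
      x ^ p - x + algebraMap (FractionRing (PowerSeries K)) (FractionRing B)
        (algebraMap (PowerSeries K) (FractionRing (PowerSeries K)) a /
          algebraMap (PowerSeries K) (FractionRing (PowerSeries K)) (PowerSeries.X ^ m)) = 0 := by
  classical
  have hA : IsAdicComplete (IsLocalRing.maximalIdeal (PowerSeries K)) (PowerSeries K) := by
    rw [PowerSeries.maximalIdeal_eq_span_X]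
    infer_instance
  have hloc : IsLocalRing B := K79.CDVR.isLocalRing (PowerSeries K) B
  have hM : M = IsLocalRing.maximalIdeal B := IsLocalRing.eq_maximalIdeal inferInstance
  subst hM
  have hp : Fact p.Prime := inferInstance
  have hcA : CharP (PowerSeries K) p :=
    charP_of_injective_ringHom (f := PowerSeries.C (R := K)) (PowerSeries.C (R := K)).injective p
  have hcF : CharP (FractionRing (PowerSeries K)) p :=
    charP_of_injective_algebraMap (IsFractionRing.injective (PowerSeries K) _) p
  have hcE : CharP (FractionRing B) p :=
    charP_of_injective_algebraMap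
      (algebraMap (FractionRing (PowerSeries K)) (FractionRing B)).injective p
  have hfd : FiniteDimensional (FractionRing (PowerSeries K)) (FractionRing B) :=
    Module.finite_of_finrank_pos (by rw [hdeg]; exact hp.out.pos)
  have hfin : Module.finrank (PowerSeries K) B = p := by
    rw [← hdeg]
    exact (IsFractionRing.finrank_eq (PowerSeries K) (FractionRing (PowerSeries K)) B
      (FractionRing B)).symm
  have hf : (IsLocalRing.maximalIdeal B).inertiaDeg (PowerSeries K) = 1 := by
    have h1 := K79.CDVR.ef (PowerSeries K) B
    rw [hram, hfin] at h1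
    exact Nat.eq_of_mul_eq_mul_left hp.out.pos (by rw [h1, mul_one])
  obtain ⟨x₀, ⟨f, hf₀⟩, hx₀⟩ := Groth.Agent.Etalg.EppAlg.exists_artinSchreier
    (K := FractionRing (PowerSeries K)) (L := FractionRing B) p hdeg
  obtain ⟨a₀, n, hfa⟩ : ∃ (a₀ : PowerSeries K) (n : ℕ),
      -f = algebraMap (PowerSeries K) (FractionRing (PowerSeries K)) a₀ /
        algebraMap (PowerSeries K) (FractionRing (PowerSeries K)) (PowerSeries.X ^ n) := by
    obtain ⟨a, b, hb, hab⟩ := IsFractionRing.div_surjective (A := PowerSeries K) (-f)
    obtain ⟨n, u, rfl⟩ := IsDiscreteValuationRing.eq_unit_mul_pow_irreducible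
      (nonZeroDivisors.ne_zero hb) (PowerSeries.X_irreducible (R := K))
    refine ⟨(u⁻¹ : (PowerSeries K)ˣ) * a, n, ?_⟩
    have hu : algebraMap (PowerSeries K) (FractionRing (PowerSeries K)) (u : PowerSeries K) *
        algebraMap (PowerSeries K) (FractionRing (PowerSeries K))
          ((u⁻¹ : (PowerSeries K)ˣ) : PowerSeries K) = 1 := by
      rw [← map_mul, Units.mul_inv, map_one]
    have hu0 := left_ne_zero_of_mul_eq_one hu
    have hX0 : algebraMap (PowerSeries K) (FractionRing (PowerSeries K))
        (PowerSeries.X ^ n) ≠ 0 := by
      rw [Ne, IsFractionRing.to_map_eq_zero_iff]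
      exact pow_ne_zero _ PowerSeries.X_ne_zero
    rw [← hab, map_mul, map_mul, div_eq_div_iff (mul_ne_zero hu0 hX0) hX0]
    linear_combination (-algebraMap (PowerSeries K) (FractionRing (PowerSeries K)) a *
      algebraMap (PowerSeries K) (FractionRing (PowerSeries K)) (PowerSeries.X ^ n)) * hu
  obtain ⟨β, m, a, h1, h2⟩ := K79.ArtSch.pole_reduction p K (FractionRing (PowerSeries K)) n a₀
  let x : FractionRing B := x₀ + algebraMap _ _ β
  have hxr : x ∉ Set.range (algebraMap (FractionRing (PowerSeries K)) (FractionRing B)) := by
    rintro ⟨y, hy⟩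
    refine hx₀ ⟨y - β, ?_⟩
    rw [map_sub, hy]
    simp only [x]
    ring
  have hx : x ^ p - x + algebraMap (FractionRing (PowerSeries K)) (FractionRing B)
        (algebraMap (PowerSeries K) (FractionRing (PowerSeries K)) a /
          algebraMap (PowerSeries K) (FractionRing (PowerSeries K)) (PowerSeries.X ^ m)) = 0 := by
    have h3 := hfa.trans h1
    have h4 := congrArg (algebraMap (FractionRing (PowerSeries K)) (FractionRing B)) h3
    rw [map_add, map_sub, map_neg,
      map_pow (algebraMap (FractionRing (PowerSeries K)) (FractionRing B)) β p, hf₀] at h4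
    simp only [x]
    rw [add_pow_char]
    linear_combination -h4
  rcases h2 with rfl | ⟨hm, hpm, ha⟩
  · exfalso
    have hx' : x ^ p - x + algebraMap (PowerSeries K) (FractionRing B) a = 0 := by
      rw [← hx, pow_zero, map_one, div_one, ← IsScalarTower.algebraMap_apply]
    have hint : IsIntegral B x := by
      refine ⟨Polynomial.X ^ p + (- Polynomial.X +
        Polynomial.C (algebraMap (PowerSeries K) B a)), ?_, ?_⟩
      · apply Polynomial.monic_X_pow_add
        have h5 : (-Polynomial.X + Polynomial.C (algebraMap (PowerSeries K) B a) :
            Polynomial B).degree ≤ 1 := by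
          compute_degree
        refine lt_of_le_of_lt h5 ?_
        exact_mod_cast hp.out.one_lt
      · rw [Polynomial.eval₂_add, Polynomial.eval₂_add, Polynomial.eval₂_neg,
          Polynomial.eval₂_pow, Polynomial.eval₂_X, Polynomial.eval₂_C,
          ← IsScalarTower.algebraMap_apply]
        linear_combination hx'
    obtain ⟨b, hb⟩ := IsIntegrallyClosed.isIntegral_iff.mp hint
    have hb' : b ^ p - b + algebraMap (PowerSeries K) B a = 0 := by
      apply IsFractionRing.injective B (FractionRing B)
      rw [map_add, map_sub, map_pow, hb, ← IsScalarTower.algebraMap_apply, hx', map_zero]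
    obtain ⟨z, hz⟩ := K79.ArtSch.mem_range_of_artinSchreier (PowerSeries K) B p hf b a hb'
    refine hxr ⟨algebraMap _ _ z, ?_⟩
    rw [← hb, ← hz, ← IsScalarTower.algebraMap_apply, ← IsScalarTower.algebraMap_apply]
  · refine ⟨x, m, a, ?_, hm, hpm, ha, hx⟩
    have hs : IsSimpleOrder (IntermediateField (FractionRing (PowerSeries K)) (FractionRing B)) :=
      IntermediateField.isSimpleOrder_of_finrank_prime _ _ (by rw [hdeg]; exact hp.out)
    refine (eq_bot_or_eq_top _).resolve_left ?_
    intro hbot
    rw [IntermediateField.adjoin_simple_eq_bot_iff] at hbot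
    exact hxr (IntermediateField.mem_bot.mp hbot)

end Groth.Agent.S11093
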