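import Groth.Statements.S11096
-- import your own Groth.Agent.* helpers here

set_option autoImplicit false
universe u
open Neron

namespace Groth.Agent.S11096

/-- Let a Weierstrass equation have coefficients in a commutative ring R and let I be an ideal with a₃,
a₄, a₆ ∈ I. If the discriminant Δ does not lie in I ^ 2, then a₆ does not lie in I ^ 2 and b₂ does
not lie in I. (For a discrete valuation ring with maximal ideal (π): if π divides a₃, a₄, a₆ and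
v(Δ) = 1, then v(a₆) = 1 and π does not divide b₂.) -/
theorem result {R : Type u} [CommRing R] (W : WeierstrassCurve R)
    (I : Ideal R) (h3 : W.a₃ ∈ I) (h4 : W.a₄ ∈ I) (h6 : W.a₆ ∈ I) (hΔ : W.Δ ∉ I ^ 2) :
    W.a₆ ∉ I ^ 2 ∧ W.b₂ ∉ I := by
  have h33 : W.a₃ * W.a₃ ∈ I ^ 2 := by rw [pow_two]; exact Ideal.mul_mem_mul h3 h3
  have h34 : W.a₃ * W.a₄ ∈ I ^ 2 := by rw [pow_two]; exact Ideal.mul_mem_mul h3 h4
  have h44 : W.a₄ * W.a₄ ∈ I ^ 2 := by rw [pow_two]; exact Ideal.mul_mem_mul h4 h4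
  have h36 : W.a₃ * W.a₆ ∈ I ^ 2 := by rw [pow_two]; exact Ideal.mul_mem_mul h3 h6
  have h46 : W.a₄ * W.a₆ ∈ I ^ 2 := by rw [pow_two]; exact Ideal.mul_mem_mul h4 h6
  have h66 : W.a₆ * W.a₆ ∈ I ^ 2 := by rw [pow_two]; exact Ideal.mul_mem_mul h6 h6
  -- modulo `I ^ 2` the discriminant is `- b₂ ^ 3 * a₆`
  have key : W.Δ + W.b₂ ^ 3 * W.a₆ ∈ I ^ 2 := by
    have e : W.Δ + W.b₂ ^ 3 * W.a₆ =
        (W.a₃ * W.a₃) * (- W.b₂ ^ 2 * W.a₂ - 8 * (2 * W.a₄ + W.a₁ * W.a₃) * W.a₁ ^ 2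
            - 27 * W.a₃ ^ 2 - 27 * 8 * W.a₆ + 9 * W.b₂ * (2 * W.a₄ + W.a₁ * W.a₃))
        + (W.a₃ * W.a₄) * (W.b₂ ^ 2 * W.a₁ - 8 * (2 * W.a₄ + W.a₁ * W.a₃) * (4 * W.a₁))
        + (W.a₄ * W.a₄) * (W.b₂ ^ 2 - 8 * (2 * W.a₄ + W.a₁ * W.a₃) * 4)
        + (W.a₃ * W.a₆) * (9 * W.b₂ * 4 * W.a₁)
        + (W.a₄ * W.a₆) * (9 * W.b₂ * 4 * 2)
        + (W.a₆ * W.a₆) * (- 27 * 16) := by
      simp only [WeierstrassCurve.Δ, WeierstrassCurve.b₂, WeierstrassCurve.b₄, WeierstrassCurve.b₆,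
        WeierstrassCurve.b₈]
      ring
    rw [e]
    exact add_mem (add_mem (add_mem (add_mem (add_mem (Ideal.mul_mem_right _ _ h33)
      (Ideal.mul_mem_right _ _ h34)) (Ideal.mul_mem_right _ _ h44)) (Ideal.mul_mem_right _ _ h36))
      (Ideal.mul_mem_right _ _ h46)) (Ideal.mul_mem_right _ _ h66)
  constructor
  · intro h
    apply hΔ
    have := sub_mem key (Ideal.mul_mem_left _ (W.b₂ ^ 3) h)
    simpa using this
  · intro h
    apply hΔ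
    have h2 : W.b₂ ^ 3 * W.a₆ ∈ I ^ 2 := by
      have : W.b₂ ^ 3 * W.a₆ = W.b₂ ^ 2 * (W.b₂ * W.a₆) := by ring
      rw [this]
      apply Ideal.mul_mem_left
      rw [pow_two]
      exact Ideal.mul_mem_mul h h6
    have := sub_mem key h2
    simpa using this

end Groth.Agent.S11096
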