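import Groth.Statements.S11107
import Groth.Agent.Neron.K485.ExtCodim

set_option autoImplicit false
universe u
open CategoryTheory AlgebraicGeometry
open Neron

namespace Groth.Agent.S11107

/-- Let R be a Dedekind domain, X → Spec R a smooth morphism, Y → Spec R a proper morphism, U ⊆ X a
dense open subscheme and f : U → Y a morphism over Spec R (a rational map X ⇢ Y over R). Then f
extends, over Spec R, to an open subscheme V ⊇ U of X such that every point of X outside V has a
local ring of Krull dimension at least 2: the locus where the rational map is undefined has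
codimension at least two. (The published statement assumes the rational map dominant; this row does
not.) -/
theorem result {R : Type u} [CommRing R] [IsDedekindDomain R]
    {X Y : Scheme.{u}} (pX : X ⟶ Spec (CommRingCat.of R)) (pY : Y ⟶ Spec (CommRingCat.of R))
    [Smooth pX] [IsProper pY] (U : X.Opens) (hU : Dense (U : Set X))
    (f : (U : Scheme.{u}) ⟶ Y) (hf : f ≫ pY = U.ι ≫ pX) :
    ∃ (V : X.Opens) (hUV : U ≤ V) (g : (V : Scheme.{u}) ⟶ Y),
      g ≫ pY = V.ι ≫ pX ∧ X.homOfLE hUV ≫ g = f ∧
      ∀ x : X, x ∉ V → (2 : WithBot ℕ∞) ≤ ringKrullDim (X.presheaf.stalk x) := by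
  have hLN : IsLocallyNoetherian X := LocallyOfFiniteType.isLocallyNoetherian pX
  have hst : ∀ x : X, _root_.IsReduced (X.presheaf.stalk x) := fun x => by
    have := (Groth.Agent.Dix.NormalLoc.stalk_of_smooth pX x).1
    infer_instance
  have hred : AlgebraicGeometry.IsReduced X := isReduced_of_isReduced_stalk X
  obtain ⟨V, hUV, g, h1, h2, h3⟩ := K485.ExtCodim.exists_extension pX pY U f hU hf
  refine ⟨V, hUV, g, h1, h2, fun x hx => ?_⟩
  by_contra hdim
  obtain ⟨i1, i2⟩ := Groth.Agent.Dix.NormalLoc.stalk_of_smooth pX x
  exact hx (h3 x (K485.ExtCodim.locExt_of_codim_le_one pX pY U f hU hf x hdim))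

end Groth.Agent.S11107
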