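import Groth.Statements.S11099
import Groth.Agent.S11107
import Groth.Agent.S3249

set_option autoImplicit false
universe u
open CategoryTheory CategoryTheory.Limits AlgebraicGeometry
open Neron

namespace Groth.Agent.S11099

/-- Let R be a Dedekind domain, X → Spec R smooth, G → Spec R a proper group scheme, U ⊆ X an open
subscheme which is dense in every fibre of X → Spec R, and f : U → G a morphism over Spec R (a
rational map X ⇢ G over R whose domain is dense in all fibres). Then f extends uniquely to a
morphism X → G over Spec R: a rational map from a smooth R-scheme to a proper R-group scheme,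
defined densely on every fibre, is a morphism. -/
theorem result {R : Type u} [CommRing R] [IsDedekindDomain R] {X G : Scheme.{u}}
    (pX : X ⟶ Spec (CommRingCat.of R)) (pG : G ⟶ Spec (CommRingCat.of R)) [Smooth pX]
    [GrpObj (Over.mk pG)] [IsProper pG]
    (U : X.Opens) (hdense : ∀ x : X, x ∈ closure ((U : Set X) ∩ {y | pX.base y = pX.base x}))
    (f : (U : Scheme.{u}) ⟶ G) (hf : f ≫ pG = U.ι ≫ pX) :
    ∃! g : X ⟶ G, g ≫ pG = pX ∧ U.ι ≫ g = f := by
  have hU : Dense (U : Set X) := fun x => closure_mono Set.inter_subset_left (hdense x)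
  obtain ⟨V, hUV, g, h1, h2, h3⟩ := Groth.Agent.S11107.result pX pG U hU f hf
  have hdense' : ∀ x : X, x ∈ closure ((V : Set X) ∩ {y | pX.base y = pX.base x}) := fun x =>
    closure_mono (Set.inter_subset_inter_left _ hUV) (hdense x)
  obtain ⟨e, ⟨he1, he2⟩, huniq⟩ := Groth.Agent.S3249.result pX pG V hdense' h3 g h1
  refine ⟨e, ⟨he1, ?_⟩, ?_⟩
  · rw [← Scheme.homOfLE_ι X hUV, Category.assoc, he2, h2]
  · rintro e' ⟨he1', he2'⟩
    have hLN : IsLocallyNoetherian X := LocallyOfFiniteType.isLocallyNoetherian pX
    have hst : ∀ x : X, _root_.IsReduced (X.presheaf.stalk x) := fun x => by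
      have := (Groth.Agent.Dix.NormalLoc.stalk_of_smooth pX x).1
      infer_instance
    have hred : AlgebraicGeometry.IsReduced X := isReduced_of_isReduced_stalk X
    have hdom : IsDominant U.ι := Opens.isDominant_ι hU
    refine ext_of_isDominant_of_isSeparated pG (ι := U.ι) (by rw [he1, he1']) ?_
    rw [he2', ← Scheme.homOfLE_ι X hUV, Category.assoc, he2, h2]

end Groth.Agent.S11099
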