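import Groth.Statements.S11101
import Groth.Agent.Neron.K485.EllGlob
import Groth.Agent.VarietyA.EllGrp

set_option autoImplicit false
universe u
open CategoryTheory CategoryTheory.Limits AlgebraicGeometry
open Neron

namespace Groth.Agent.S11101

/-- Let R be a Dedekind domain with fraction field K all of whose residue fields at maximal ideals are
perfect, X a relatively minimal regular model over Spec R (regular, projective and flat over Spec R,
admitting no contraction to another such model) whose generic fibre X_K is an elliptic curve over K
(smooth, geometrically irreducible of dimension 1 with dim_K H¹(X_K, O) = 1 and a K-rational point).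
Then the smooth locus N of X → Spec R, with its generic fibre N_K, is a Néron model of N_K: smooth,
separated and of finite type over Spec R, and every K-morphism from the generic fibre of a smooth
R-scheme Y to N_K extends uniquely to an R-morphism Y → N. (The published statement takes a minimal
proper regular model and the mapping property for rational maps; this row assumes a projective model
and uses the mapping property for morphisms from smooth R-schemes.) -/
theorem result (R : Type u) [CommRing R] [IsDedekindDomain R]
    (hperf : ∀ (m : Ideal R) (hm : m.IsMaximal), @PerfectField (R ⧸ m) (Ideal.Quotient.field m))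
    (X : Over (Spec (CommRingCat.of R))) (hX : Neron.IsRelMinimalRegularModel R X)
    [LocallyOfFinitePresentation X.hom]
    [Smooth ((Neron.genericFibre R).obj X).hom] [GeometricallyIrreducible ((Neron.genericFibre R).obj X).hom]
    (hdim : topologicalKrullDim ((Neron.genericFibre R).obj X).left = 1)
    (hgenus : Module.finrank (FractionRing R)
      (Coh.HH ((Neron.genericFibre R).obj X).left (Coh.structureModule _) 1) = 1)
    (o : Over.mk (𝟙 (Spec (CommRingCat.of (FractionRing R)))) ⟶ (Neron.genericFibre R).obj X) :
    Neron.IsNeronModelOf R (Neron.smoothPart R X) ((Neron.genericFibre R).obj (Neron.smoothPart R X))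
      (Iso.refl _) := by
  have hp : IsProper X.hom := Groth.Agent.Dix.GenFibre.isProper_of_isProjectiveOver hX.2.1
  have hpK : IsProper ((Neron.genericFibre R).obj X).hom :=
    inferInstanceAs (IsProper (pullback.snd X.hom (Neron.genPt R)))
  have hnoeth : IsLocallyNoetherian X.left := LocallyOfFiniteType.isLocallyNoetherian X.hom
  have hg : Nontrivial (Coh.HH ((Neron.genericFibre R).obj X).left (Coh.structureModule _) 1) :=
    Module.nontrivial_of_finrank_pos (R := FractionRing R) (by rw [hgenus]; exact one_pos)
  have hsm : Smooth (Neron.smoothPart R X).hom := inferInstance
  refine ⟨hsm, inferInstanceAs (IsSeparated (X.hom.smoothLocus.ι ≫ X.hom)), inferInstance,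
    inferInstanceAs (QuasiCompact (X.hom.smoothLocus.ι ≫ X.hom)), fun Y hY => ?_⟩
  have h1 := K485.EllGlob.bijective hperf X hX hdim hg
    (Groth.Agent.VarietyA.Ell.exists_grpObj ((Neron.genericFibre R).obj X) hdim hgenus o) Y hY
  have h2 : (fun g : Y ⟶ Neron.smoothPart R X => (Neron.genericFibre R).map g ≫
      (Iso.refl ((Neron.genericFibre R).obj (Neron.smoothPart R X))).hom) =
      (fun g : Y ⟶ Neron.smoothPart R X => (Neron.genericFibre R).map g) := by
    funext g
    exact Category.comp_id _
  rw [h2]
  exact h1

end Groth.Agent.S11101
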