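import Groth.Statements.S11102
import Groth.Agent.Neron.K485.GrpExt
import Groth.Agent.Neron.K485.EllGen
import Groth.Agent.Dix.NeronEllSec
import Groth.Agent.VarietyA.EllGrp

set_option autoImplicit false
universe u
open CategoryTheory CategoryTheory.Limits AlgebraicGeometry
open Neron

namespace Groth.Agent.S11102

/-- Let R be a strictly Henselian discrete valuation ring — Henselian with algebraically closed residue
field — with fraction field K, X a relatively minimal regular model over Spec R (regular, projective
and flat, admitting no contraction) whose generic fibre X_K is an elliptic curve over K (smooth,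
geometrically irreducible of dimension 1, dim_K H¹(X_K, O) = 1, with a K-rational point). Then the
smooth locus N of X → Spec R carries a structure of group scheme over Spec R. (The published
statement asserts that the group law of the generic fibre extends to the smooth locus; this row
asserts only that some group-scheme structure on it exists, and assumes a projective rather than
proper model.) -/
theorem result (R : Type u) [CommRing R] [IsDomain R]
    [IsDiscreteValuationRing R] [HenselianLocalRing R] [IsAlgClosed (IsLocalRing.ResidueField R)]
    (X : Over (Spec (CommRingCat.of R))) (hX : Neron.IsRelMinimalRegularModel R X)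
    [LocallyOfFinitePresentation X.hom]
    [Smooth ((Neron.genericFibre R).obj X).hom] [GeometricallyIrreducible ((Neron.genericFibre R).obj X).hom]
    (hdim : topologicalKrullDim ((Neron.genericFibre R).obj X).left = 1)
    (hgenus : Module.finrank (FractionRing R)
      (Coh.HH ((Neron.genericFibre R).obj X).left (Coh.structureModule _) 1) = 1)
    (o : Over.mk (𝟙 (Spec (CommRingCat.of (FractionRing R)))) ⟶ (Neron.genericFibre R).obj X) :
    Nonempty (GrpObj (Neron.smoothPart R X)) := by
  have hp : IsProper X.hom := Groth.Agent.Dix.GenFibre.isProper_of_isProjectiveOver hX.2.1
  have hfl : Flat X.hom := hX.2.2.1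
  have hpK : IsProper ((Neron.genericFibre R).obj X).hom :=
    inferInstanceAs (IsProper (pullback.snd X.hom (Neron.genPt R)))
  exact (K485.GrpExt.main X
    (fun a ha s => Groth.Agent.Dix.NeronEllSec.section_mem_smoothLocus R X.hom hX.1 a ha s)
    (K485.EllGen.exists_extend_smoothPart R X hX hdim hgenus)
    (Groth.Agent.VarietyA.Ell.exists_grpObj ((Neron.genericFibre R).obj X) hdim hgenus o)).1

end Groth.Agent.S11102
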