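import Groth.Statements.S11105
import Groth.Agent.Hensel.K141.DecompHensel

set_option autoImplicit false
universe u
open Hensel

namespace Groth.Agent.S11105

/-- Let R be a discrete valuation ring with fraction field K, K^s a separable closure of K, R^s the
integral closure of R in K^s and P^s a maximal ideal of R^s. Let D be the decomposition group of P^s
— the subgroup of automorphisms of K^s over K carrying P^s into (hence onto) itself — and L its
fixed field. Then the integral closure of R in L, localized at the prime Q = P^s ∩ L below P^s, is a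
Henselian local ring (this local ring is the Henselization of R). -/
theorem result (R K Ks : Type u) [CommRing R] [IsDomain R]
    [IsDiscreteValuationRing R] [Field K] [Algebra R K] [IsFractionRing R K]
    [Field Ks] [Algebra K Ks] [IsSepClosure K Ks] [Algebra R Ks] [IsScalarTower R K Ks]
    (Ps : Ideal (integralClosure R Ks)) [Ps.IsMaximal]
    (L : IntermediateField K Ks)
    (hL : L = IntermediateField.fixedField
      (Subgroup.closure {σ : Ks ≃ₐ[K] Ks | ∀ x : integralClosure R Ks, x ∈ Ps →
        ∃ h : σ (x : Ks) ∈ integralClosure R Ks, (⟨σ (x : Ks), h⟩ : integralClosure R Ks) ∈ Ps}))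
    (Q : Ideal (integralClosure R L)) [Q.IsPrime]
    (hQ : ∀ y : integralClosure R L, y ∈ Q ↔
      ∃ x : integralClosure R Ks, x ∈ Ps ∧ (x : Ks) = ((y : L) : Ks)) :
    HenselianLocalRing (Localization.AtPrime Q) := by
  have hgal : IsGalois K Ks := IsSepClosure.isGalois
  have key : ∀ σ ∈ {σ : Ks ≃ₐ[K] Ks | ∀ x : integralClosure R Ks, x ∈ Ps →
        ∃ h : σ (x : Ks) ∈ integralClosure R Ks, (⟨σ (x : Ks), h⟩ : integralClosure R Ks) ∈ Ps},
      ∀ z, z ∈ {z : Ks | ∃ h, (⟨z, h⟩ : integralClosure R Ks) ∈ Ps} ↔
        σ z ∈ {z : Ks | ∃ h, (⟨z, h⟩ : integralClosure R Ks) ∈ Ps} := by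
    intro σ hσ z
    constructor
    · rintro ⟨h, hz⟩
      exact hσ ⟨z, h⟩ hz
    · rintro ⟨h, hz⟩
      have hint : ∀ x : integralClosure R Ks, σ (x : Ks) ∈ integralClosure R Ks := fun x => by
        have h1 : IsIntegral R (x : Ks) := x.2
        exact h1.map (σ.restrictScalars R).toAlgHom
      have hint' : z ∈ integralClosure R Ks := by
        have h1 : IsIntegral R (σ z) := h
        have h2 := h1.map (σ.symm.restrictScalars R).toAlgHom
        have h3 : (σ.symm.restrictScalars R).toAlgHom (σ z) = z := σ.symm_apply_apply z
        rw [h3] at h2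
        exact h2
      let s : integralClosure R Ks →+* integralClosure R Ks :=
        ((σ : Ks →+* Ks).comp (algebraMap (integralClosure R Ks) Ks)).codRestrict
          (integralClosure R Ks) hint
      have hle : Ps ≤ Ps.comap s := by
        intro x hx
        obtain ⟨h, h'⟩ := hσ x hx
        exact h'
      have heq : Ps = Ps.comap s := Ideal.IsMaximal.eq_of_le inferInstance
        (Ideal.IsPrime.ne_top inferInstance) hle
      refine ⟨hint', ?_⟩
      rw [heq, Ideal.mem_comap]
      exact hz
  refine K141.DecompHensel.henselianLocalRing R K Ks Ps L ?_ Q hQ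
  intro σ hσ z hz
  rw [hL] at hσ
  exact (K141.DecompHensel.mem_stab_of_fix _ _ key σ hσ z).mpr hz

end Groth.Agent.S11105
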