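import Groth.Statements.S11110
import Groth.Agent.Dual3.K478.PcBC
import Groth.Agent.Dual3.K478.LbcGE
import Groth.Agent.Dual3.K478.TorBC
import Groth.Agent.Dual.H307.BcGen
import Groth.Agent.PerfA.PCohQCoh
-- import your own Groth.Agent.* helpers here

set_option autoImplicit false
universe u
open CategoryTheory CategoryTheory.Limits AlgebraicGeometry
attribute [local instance] HasDerivedCategory.standard
open Dual3

namespace Groth.Agent.S11110

open Groth.Agent.PerfB.BCTot Groth.Agent.PerfB.BCShift Groth.Agent.Dual.H307.MonSquare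
  Groth.Agent.Dual.H307.BcGen Groth.Agent.Ega1.ADualUniv Groth.Agent.Dual.H306

lemma hom_comp_inv_comp {C : Type*} [Category C] {P : ObjectProperty C} {A B D : P.FullSubcategory} (x : A ⟶ B)
    (hx : IsIso x) (y : A ⟶ D) : x.hom ≫ (inv x ≫ y).hom = y.hom := by
  have h : x ≫ inv x ≫ y = y := by simp
  exact congrArg (fun t => t.hom) h

/-- A universal pair gives an isomorphism with the value of a right adjoint. -/
theorem isIso_homEquiv {X Y : Scheme.{u}} {f : X ⟶ Y} [DCoh.HasRpush f] {hf : DCoh.RpushPreservesQCoh f}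
    {a : DCoh.DQCoh Y ⥤ DCoh.DQCoh X} (adj : DCoh.RpushQ f hf ⊣ a) {N : DCoh.DQCoh X} {K : DCoh.DQCoh Y}
    (t : (DCoh.RpushQ f hf).obj N ⟶ K) (h : IsUniv f K.obj N.obj t.hom) : IsIso (adj.homEquiv N K t) := by
  have h1 : IsUniv f K.obj (a.obj K).obj (adj.counit.app K).hom := isUniv_of_adj (h := hf) adj K
  obtain ⟨e, he, -⟩ := h.exists_iso h1
  have h2 : (DCoh.Rpush f).map (adj.homEquiv N K t).hom ≫ (adj.counit.app K).hom = t.hom := by
    have h3 : (DCoh.RpushQ f hf).map (adj.homEquiv N K t) ≫ adj.counit.app K = t :=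
      (adj.homEquiv_counit N K _).symm.trans ((adj.homEquiv N K).symm_apply_apply t)
    exact congrArg (fun z => z.hom) h3
  have h3 : (adj.homEquiv N K t).hom = e.hom := by
    refine h1.hom_ext N.property ?_
    rw [he]
    exact h2
  rw [← ObjectProperty.isIso_hom_iff, h3]
  infer_instance

/-- Consider a cartesian square of quasi-compact quasi-separated schemes X' = X ×_Y Y' with f : X ⟶ Y, g
: Y' ⟶ Y and projections f' : X' ⟶ Y', g' : X' ⟶ X, and suppose the square is tor-independent in the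
sense that for every affine open U of Y, every affine open U' of Y' mapped into U and every affine
open V of X mapped into U, the modules Tor_i over Γ(U, O_Y) of Γ(U', O_Y') and Γ(V, O_X) (computed
with a projective resolution of the second argument) vanish for all i > 0. Assume that f is locally
of finite presentation, that Rf_* and Rf'_* both carry pseudo-coherent complexes to pseudo-coherent
complexes (f and its base change are quasi-proper; the published statement derives the second from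
the first by a cited result, and this row assumes both), and that g has finite tor dimension (the
structure sheaf of Y' has finite tor amplitude over the local rings of Y). Let the derived direct
images on D_QCoh of the four maps, the derived pullbacks Lg^*, Lg'^* with adjunctions Lg^* ⊣ Rg_*,
Lg'^* ⊣ Rg'_*, and right adjoints a of Rf_* and a' of Rf'_* be given as data. Then there is an
identification e of Rf_* ∘ Rg'_* with Rg_* ∘ Rf'_* such that (1) the base-change map θ_K : Lg^* Rf_*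
K ⟶ Rf'_* Lg'^* K is an isomorphism for every K in D_QCoh(O_X), and (2) for every bounded below K in
D_QCoh(O_Y) the base-change map Lg'^* a(K) ⟶ a'(Lg^* K), namely the map adjoint under Rf'_* ⊣ a' to
the composite of the inverse of θ at a(K) with Lg^* applied to the counit Rf_* a(K) ⟶ K, is an
isomorphism. -/
theorem result (X Y X' Y' : Scheme.{u}) [CompactSpace X] [QuasiSeparatedSpace X] [CompactSpace Y] [QuasiSeparatedSpace Y] [CompactSpace X'] [QuasiSeparatedSpace X'] [CompactSpace Y'] [QuasiSeparatedSpace Y']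
    (f : X ⟶ Y) (g : Y' ⟶ Y) (f' : X' ⟶ Y') (g' : X' ⟶ X) (hsq : IsPullback g' f' f g)
    [LocallyOfFinitePresentation f] [DCoh.HasRpush f] [DCoh.HasRpush f'] [DCoh.HasRpush g] [DCoh.HasRpush g']
    (hqp : ∀ K : DCoh.D X, (∀ m : ℤ, DCoh.IsPseudoCoherentD m K) → ∀ m : ℤ, DCoh.IsPseudoCoherentD m ((DCoh.Rpush f).obj K))
    (hqp' : ∀ K : DCoh.D X', (∀ m : ℤ, DCoh.IsPseudoCoherentD m K) → ∀ m : ℤ, DCoh.IsPseudoCoherentD m ((DCoh.Rpush f').obj K))
    (htd : DerSch.HasFiniteTorDim g)
    (htor : ∀ (U : Y.Opens), IsAffineOpen U → ∀ (U' : Y'.Opens), IsAffineOpen U' → ∀ (hU' : U' ≤ g ⁻¹ᵁ U)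
      (V : X.Opens), IsAffineOpen V → ∀ (hV : V ≤ f ⁻¹ᵁ U) (i : ℕ), 0 < i →
      Subsingleton (@DRing.Tor Γ(Y, U) _ i Γ(Y', U') Γ(X, V) _ (g.appLE U U' hU').hom.toModule _ (f.appLE U V hV).hom.toModule))
    (hf : DCoh.RpushPreservesQCoh f) (hf' : DCoh.RpushPreservesQCoh f') (hg : DCoh.RpushPreservesQCoh g)
    (hg' : DCoh.RpushPreservesQCoh g') (a : DCoh.DQCoh Y ⥤ DCoh.DQCoh X) (a' : DCoh.DQCoh Y' ⥤ DCoh.DQCoh X')
    (adj : DCoh.RpushQ f hf ⊣ a) (adj' : DCoh.RpushQ f' hf' ⊣ a') [DCoh.HasLpull g] [DCoh.HasLpull g']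
    (hLg : Dual3.LpullPreservesQCoh g) (hLg' : Dual3.LpullPreservesQCoh g')
    (adjg : Dual3.LpullQ g hLg ⊣ DCoh.RpushQ g hg) (adjg' : Dual3.LpullQ g' hLg' ⊣ DCoh.RpushQ g' hg') :
    ∃ (e : (DCoh.RpushQ g' hg' ⋙ DCoh.RpushQ f hf ≅ DCoh.RpushQ f' hf' ⋙ DCoh.RpushQ g hg))
      (hθ : ∀ K : DCoh.DQCoh X, IsIso (Dual3.bcPush e adjg adjg' K)),
      ∀ (K : DCoh.DQCoh Y) (c : ℤ), (∀ i : ℤ, i < c → IsZero (DCoh.HD K.obj i)) →
        IsIso ((adj'.homEquiv ((Dual3.LpullQ g' hLg').obj (a.obj K)) ((Dual3.LpullQ g hLg).obj K))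
          (@inv _ _ _ _ (Dual3.bcPush e adjg adjg' (a.obj K)) (hθ (a.obj K)) ≫
            (Dual3.LpullQ g hLg).map (adj.counit.app K))) := by
  have hLf : DCoh.HasLpull f := Dcoh.DerPull.hasLpull f
  have hLf' : DCoh.HasLpull f' := Dcoh.DerPull.hasLpull f'
  obtain ⟨e, he⟩ := BCPushQ.exists_bcPush_eq_bcCan (hf := hf) (hf' := hf') hsq.w adjg adjg'
  have hbc : ∀ E : DCoh.D X, DCoh.IsQCohD E → IsIso ((beta hsq.w).app E) :=
    fun E hE => isIso_beta_of_bc hsq.w E (K478.TorBC.bc_tor hsq htor E hE)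
  have he' : ∀ K : DCoh.DQCoh X, IsIso (Dual3.bcPush e adjg adjg' K) := by
    intro K
    rw [← ObjectProperty.isIso_hom_iff, he K, ← beta_app]
    exact hbc _ K.property
  refine ⟨e, he', fun K c hK => ?_⟩
  obtain ⟨d, hd⟩ := K478.LbcGE.exists_isGE_lpull g htd
  have hKc : K.obj.IsGE c := (DerivedCategory.isGE_iff _ _).2 hK
  refine isIso_homEquiv adj' _ ?_
  refine K478.PcBC.isUniv_bc hsq (fun P hP => hqp P (PerfA.PCohQCoh.isPseudoCoherentD_of_isPerfect hP)) hbc hd
    K.property hKc (isUniv_of_adj (h := hf) adj K) _ ?_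
  rw [show (beta hsq.w).app (a.obj K).obj = (Dual3.bcPush e adjg adjg' (a.obj K)).hom from by rw [he, beta_app]]
  exact hom_comp_inv_comp (Dual3.bcPush e adjg adjg' (a.obj K)) (he' (a.obj K))
    ((Dual3.LpullQ g hLg).map (adj.counit.app K))

end Groth.Agent.S11110
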