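import Groth.Statements.S11125
import Mathlib.Algebra.Homology.ModelCategory.Lifting
import Mathlib.Algebra.Homology.HomotopyCategory.KInjective
import Groth.Agent.CohtopB.InjComplex
import Groth.Agent.PerfB.Elim
import Groth.Agent.Sga4h.BidWay
import Groth.Agent.CohtopA.TrivCof

set_option autoImplicit false
universe v u
open CategoryTheory
open CohDer

namespace Groth.Agent.S11125

open CategoryTheory.Limits CochainComplex HomComplex

/-- `(→)`: the extension property of K-injective complexes with injective terms. -/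
lemma exists_extension {A : Type u} [Category.{v} A] [Abelian A]
    (I : CochainComplex A ℤ) [I.IsKInjective] [∀ n : ℤ, Injective (I.X n)]
    (S : ShortComplex (CochainComplex A ℤ)) (hS : S.ShortExact) (h : S.X₃.Acyclic)
    (φ : S.X₁ ⟶ I) : ∃ ψ : S.X₂ ⟶ I, S.f ≫ ψ = φ := by
  have : Mono S.f := hS.mono_f
  have hf : ∀ n, Mono (S.f.f n) := fun n => inferInstance
  obtain ⟨Z, hZ⟩ : ∃ Z : CochainComplex A ℤ, IsZero Z := ⟨_, isZero_zero _⟩
  have sq : CommSq φ S.f (0 : I ⟶ Z) 0 := ⟨by simp⟩
  have hsq : ∀ n, (sq.map (HomologicalComplex.eval _ _ n)).LiftStruct := fun n =>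
    have hi : Injective (I.X n) := inferInstance
    have hm : Mono (S.f.f n) := hf n
    { l := (Injective.factorThru (φ.f n) (S.f.f n) : S.X₂.X n ⟶ I.X n)
      fac_left := by exact Injective.comp_factorThru (φ.f n) (S.f.f n)
      fac_right := by
        have hz : IsZero (Z.X n) :=
          (HomologicalComplex.eval A (ComplexShape.up ℤ) n).map_isZero hZ
        exact hz.eq_of_tgt _ _ }
  let hK : IsLimit (KernelFork.ofι (𝟙 I) (show 𝟙 I ≫ (0 : I ⟶ Z) = 0 by simp)) :=
    KernelFork.IsLimit.ofι _ _ (fun g _ => g) (fun g _ => by simp) (fun g _ m hm => by simpa using hm)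
  let β := Lifting.cocycle₁ sq hsq hS.gIsCokernel hK
  obtain ⟨α, hα⟩ := IsKInjective.eq_δ_of_cocycle β h 0 (by simp)
  obtain ⟨⟨l⟩⟩ := Lifting.hasLift sq hsq hS.gIsCokernel hK α hα
  exact ⟨l.l, l.fac_left⟩

/-- In an abelian category, a cochain complex I is K-injective with injective terms if and only if for
every short exact sequence 0 → A → B → C → 0 of cochain complexes whose third term C is acyclic,
every chain map A → I extends to a chain map B → I. -/
theorem result {A : Type u} [Category.{v} A] [Abelian A]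
    (I : CochainComplex A ℤ) :
    (I.IsKInjective ∧ ∀ n : ℤ, Injective (I.X n)) ↔
      ∀ (S : ShortComplex (CochainComplex A ℤ)), S.ShortExact → S.X₃.Acyclic →
        ∀ φ : S.X₁ ⟶ I, ∃ ψ : S.X₂ ⟶ I, S.f ≫ ψ = φ := by
  constructor
  · rintro ⟨h1, h2⟩ S hS h φ
    exact exists_extension I S hS h φ
  · intro h
    refine ⟨⟨fun {K} f hK => ?_⟩, fun n => ⟨fun {X Y} g f _ => ?_⟩⟩
    · -- extend `f` to the cone of the identity
      have hS := Groth.Agent.Sga4h.BidWay.coneSC_shortExact K
      have hq : QuasiIso (mappingCone.triangleRotateShortComplex (𝟙 K)).f :=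
        Groth.Agent.CohtopA.TrivCof.quasiIso_of_acyclic _ hK
          (Groth.Agent.Sga4h.BidWay.acyclic_cone_id K)
      obtain ⟨ψ, hψ⟩ := h _ hS (hS.acyclic_X₃ hq) f
      obtain ⟨ψ', hψ'⟩ : ∃ ψ' : mappingCone (𝟙 K) ⟶ I, mappingCone.inr (𝟙 K) ≫ ψ' = f := ⟨ψ, hψ⟩
      exact ⟨(Homotopy.ofEq (by rw [← hψ']; simp)).trans
        ((((mappingCone.homotopyToZeroOfId K).compLeft (mappingCone.inr (𝟙 K))).compRight ψ').trans
          (Homotopy.ofEq (by simp)))⟩
    · -- extension from `double (𝟙 X)` to `double (𝟙 Y)`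
      have hn : n ≠ n + 1 := by lia
      have hr : (ComplexShape.up ℤ).Rel n (n + 1) := rfl
      let a : HomologicalComplex.double (𝟙 X) hr ⟶ I :=
        HomologicalComplex.mkHomFromDouble hr hn g (g ≫ I.d _ _) (by simp) (by simp)
      let b := Groth.Agent.CohtopB.InjComplex.doubleMap f n hr
      have hS : (ShortComplex.mk b (cokernel.π b) (cokernel.condition b)).ShortExact :=
        { exact := ShortComplex.exact_cokernel b
          mono_f := Groth.Agent.CohtopB.InjComplex.mono_doubleMap f n hr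
          epi_g := inferInstance }
      have hq : QuasiIso b := Groth.Agent.CohtopA.TrivCof.quasiIso_of_acyclic _
        (Groth.Agent.PerfB.Elim.disc_acyclic X n) (Groth.Agent.PerfB.Elim.disc_acyclic Y n)
      obtain ⟨c, hc⟩ := h _ hS (hS.acyclic_X₃ hq) a
      refine ⟨(HomologicalComplex.doubleXIso₀ (𝟙 Y) hr).inv ≫ c.f n, ?_⟩
      have := congr_arg (fun (φ : HomologicalComplex.double (𝟙 X) hr ⟶ I) => φ.f n) hc
      dsimp [a, b] at this
      rw [Groth.Agent.CohtopB.InjComplex.doubleMap_f₀, HomologicalComplex.mkHomFromDouble_f₀,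
        Category.assoc, Category.assoc, Iso.cancel_iso_hom_left] at this
      exact this

end Groth.Agent.S11125
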