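import Groth.Statements.S11128
import Groth.Agent.CohDer.K236.LeftAdj

set_option autoImplicit false
universe w u₁ u₂
open CategoryTheory CategoryTheory.Limits
open CohDer

namespace Groth.Agent.S11128

/-- Suppose A is an abelian category that has small hom-sets and all small colimits, B is a Grothendieck
abelian category, and F : A ⥤ B is a faithful exact functor with a right adjoint G preserving
filtered colimits. Then A is a Grothendieck abelian category. -/
theorem result
    {A : Type u₁} [Category.{w} A] [Abelian A] [HasColimitsOfSize.{w, w} A]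
    {B : Type u₂} [Category.{w} B] [Abelian B] [IsGrothendieckAbelian.{w} B]
    (F : A ⥤ B) (G : B ⥤ A) (adj : F ⊣ G) [F.Additive] [F.Faithful]
    [PreservesFiniteLimits F] [PreservesFiniteColimits F] [PreservesFilteredColimitsOfSize.{w, w} G] :
    IsGrothendieckAbelian.{w} A := by
  have hA : AB5OfSize.{w, w} A := K236.LeftAdj.ab5 F G adj
  have hsep : K236.LeftAdj.Sep (fun _ : PUnit.{w + 1} => separator B) := fun X Y f g h =>
    (isSeparator_separator B).def f g (fun a => h PUnit.unit a)
  obtain ⟨κ, t, ht⟩ := K236.LeftAdj.exists_family hsep F G adj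
  refine K236.LeftAdj.isGrothendieckAbelian_of_sep (s := t) (fun X Y f g h => ?_)
  by_contra hfg
  obtain ⟨k, a, -, ha, -⟩ := ht X Y (f - g) (sub_ne_zero.2 hfg)
  apply ha
  rw [Preadditive.comp_sub, h k a, sub_self]

end Groth.Agent.S11128
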