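import Groth.Statements.S11137
import Mathlib.RingTheory.Invariant.Basic
import Mathlib.RingTheory.Ideal.GoingDown
import Mathlib.RingTheory.Ideal.GoingUp
import Mathlib.Tactic

set_option autoImplicit false
universe u v
open InvTh

namespace Groth.Agent.S11137

open scoped Pointwise in
/-- Let G be a finite group acting by ring automorphisms on a Noetherian commutative ring R, and let A
be its ring of invariants (A → R injective with image the fixed elements), with R module-finite over
A. Then the going-down property holds for the extension A → R. (The published statement also asserts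
that G acts transitively on the primes of R over a given prime of A; this row states only the
going-down assertion.) -/
theorem result
    (A : Type u) (R : Type v) [CommRing A] [CommRing R] [Algebra A R] [IsNoetherianRing R]
    (G : Type u) [Group G] [Finite G] [MulSemiringAction G R] [SMulCommClass G A R]
    [Algebra.IsInvariant A R G] [FaithfulSMul A R] [Module.Finite A R] :
    Algebra.HasGoingDown A R := by
  refine ⟨?_⟩
  intro p hp Q hQ hlt
  haveI : Algebra.IsIntegral A R := Algebra.IsInvariant.isIntegral A R G
  have hker : RingHom.ker (algebraMap A R) = ⊥ :=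
    (RingHom.injective_iff_ker_eq_bot _).1 (FaithfulSMul.algebraMap_injective A R)
  obtain ⟨P', hP', -, hP'2⟩ : ∃ P' : Ideal R, P'.IsPrime ∧ True ∧ P'.comap (algebraMap A R) = p := by
    obtain ⟨P', -, h1, h2⟩ := Ideal.exists_ideal_over_prime_of_isIntegral p (⊥ : Ideal R) (by
      rw [← RingHom.ker_eq_comap_bot, hker]; exact bot_le)
    exact ⟨P', h1, trivial, h2⟩
  obtain ⟨Q', hQ', hQ'1, hQ'2⟩ := Ideal.exists_ideal_over_prime_of_isIntegral (Q.under A) P' (by
    rw [hP'2]; exact hlt.le)
  obtain ⟨g, hg⟩ := Algebra.IsInvariant.exists_smul_of_under_eq A R G Q' Q hQ'2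
  refine ⟨g • P', ?_, inferInstance, ⟨?_⟩⟩
  · rw [hg]
    exact Ideal.pointwise_smul_le_pointwise_smul_iff.2 hQ'
  · rw [Ideal.under_smul]
    exact hP'2.symm

end Groth.Agent.S11137
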