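import Groth.Statements.S11141
import Groth.Agent.InvTh.K672.NormProd
import Groth.Agent.InvTh.K672.Coact

set_option autoImplicit false
universe u
open TensorProduct
open InvTh

namespace Groth.Agent.S11141

/-- Let k be a field, H a finitely generated commutative Hopf algebra over k (the coordinate ring of a
group scheme affine and of finite type over k), and S a commutative k-algebra which is
ring-isomorphic to a finite product of normal (integrally closed) domains and carries an H-comodule
structure whose coaction S → S ⊗ H is multiplicative and unital. Then the k-subalgebra of invariants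
of S, the elements s whose coaction is s ⊗ 1, is again ring-isomorphic to a finite product of normal
domains. -/
theorem result (k : Type u) [Field k]
    (H : Type u) [CommRing H] [HopfAlgebra k H] [Algebra.FiniteType k H]
    (S : Type u) [CommRing S] [Algebra k S] [HopfRep.Comod k H S]
    (hmul : ∀ x y : S, HopfRep.Comod.coact (k := k) (A := H) (x * y) =
        HopfRep.Comod.coact (k := k) (A := H) x * HopfRep.Comod.coact (k := k) (A := H) y)
    (hone : HopfRep.Comod.coact (k := k) (A := H) (1 : S) = 1)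
    {ι : Type u} [Fintype ι] (D : ι → Type u) [∀ i, CommRing (D i)] [∀ i, IsDomain (D i)]
    [∀ i, IsIntegrallyClosed (D i)] (e : S ≃+* Π i, D i)
    (A : Subalgebra k S)
    (hA : ∀ a : S, a ∈ A ↔ HopfRep.Comod.coact (k := k) (A := H) a = a ⊗ₜ[k] (1 : H)) :
    ∃ (κ : Type u) (_ : Fintype κ) (E : κ → Type u) (_ : ∀ j, CommRing (E j)) (_ : ∀ j, IsDomain (E j))
      (_ : ∀ j, IsIntegrallyClosed (E j)), Nonempty (A ≃+* Π j, E j) := by
  let ρ : S →ₐ[k] S ⊗[k] H := AlgHom.ofLinearMap (HopfRep.Comod.coact (k := k) (A := H)) hone hmul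
  have hρ : ∀ s, ρ s = HopfRep.Comod.coact (k := k) (A := H) s := fun _ => rfl
  have hassoc : (TensorProduct.assoc k S H H).toLinearMap ∘ₗ ρ.toLinearMap.rTensor H ∘ₗ
      ρ.toLinearMap = (CoalgebraStruct.comul (R := k) (A := H)).lTensor S ∘ₗ ρ.toLinearMap :=
    HopfRep.Comod.coassoc
  have hcounit : (CoalgebraStruct.counit (R := k) (A := H)).lTensor S ∘ₗ ρ.toLinearMap =
      (TensorProduct.mk k S k).flip 1 := HopfRep.Comod.counit_comp
  let f₁ : (Π i, D i) →+* S ⊗[k] H := (ρ : S →+* S ⊗[k] H).comp (e.symm : (Π i, D i) →+* S)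
  let f₂ : (Π i, D i) →+* S ⊗[k] H :=
    (Algebra.TensorProduct.includeLeftRingHom : S →+* S ⊗[k] H).comp (e.symm : (Π i, D i) →+* S)
  let F : Set ((Π i, D i) →+* S ⊗[k] H) := {f₁, f₂}
  have he : ∀ s ∈ nonZeroDivisors (Π i, D i), e.symm s ∈ nonZeroDivisors S := by
    intro s hs
    rw [mem_nonZeroDivisors_iff_right] at hs ⊢
    intro z hz
    have h1 : e z * s = 0 := by
      rw [← e.apply_symm_apply s, ← map_mul, hz, map_zero]
    have h2 := hs _ h1
    simpa using h2
  have hF : ∀ f ∈ F, ∀ s ∈ nonZeroDivisors (Π i, D i), f s ∈ nonZeroDivisors (S ⊗[k] H) := by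
    rintro f (rfl | rfl) s hs
    · exact K672.Coact.coact_mem_nonZeroDivisors ρ hassoc hcounit (he s hs)
    · exact K672.Coact.tmul_one_mem_nonZeroDivisors (he s hs)
  let A' : Subring (Π i, D i) := A.toSubring.map (e : S →+* Π i, D i)
  have hA' : ∀ a, a ∈ A' ↔ ∀ f ∈ F, ∀ f' ∈ F, f a = f' a := by
    intro a
    have h0 : a ∈ A' ↔ f₁ a = f₂ a := by
      have h1 : a ∈ A' ↔ e.symm a ∈ A := by
        constructor
        · rintro ⟨s, hs, rfl⟩
          change e.symm (e s) ∈ A
          rwa [e.symm_apply_apply]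
        · intro h
          exact ⟨e.symm a, h, e.apply_symm_apply a⟩
      rw [h1, hA]
      rfl
    rw [h0]
    constructor
    · rintro h f (rfl | rfl) f' (rfl | rfl)
      · rfl
      · exact h
      · exact h.symm
      · rfl
    · intro h
      exact h f₁ (Or.inl rfl) f₂ (Or.inr rfl)
  obtain ⟨κ, i1, E, i2, i3, i4, ⟨E'⟩⟩ :=
    K672.NormProd.main A' (K672.NormProd.sat_eqLocus F hF A' hA')
  have e2 : A ≃+* A' := (A.toSubring.equivMapOfInjective (e : S →+* Π i, D i) e.injective)
  exact ⟨κ, i1, E, i2, i3, i4, ⟨e2.trans E'⟩⟩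

end Groth.Agent.S11141
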