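import Groth.Statements.S11142
import Groth.Agent.FlatMor.K260.Gen
-- import your own Groth.Agent.* helpers here

set_option autoImplicit false
universe u
open CategoryTheory AlgebraicGeometry
open FlatMor

namespace Groth.Agent.S11142

/-- For a flat morphism f : X → Y between locally Noetherian schemes, the preimage under f of any dense
open subset of Y is dense in X. -/
theorem result (X Y : Scheme.{u}) [IsLocallyNoetherian X]
    [IsLocallyNoetherian Y] (f : X ⟶ Y) [Flat f] (U : Y.Opens) (hU : Dense (U : Set Y)) :
    Dense ((f ⁻¹ᵁ U : X.Opens) : Set X) := by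
  intro x
  obtain ⟨ξ, hξx, hξ⟩ := K260.Gen.exists_isMax x
  have h1 : K260.Gen.IsMax (f ξ) := hξ.map (Flat.generalizingMap f)
  have h2 : f ξ ∈ U := K260.Gen.mem_of_dense Y U hU _ h1
  exact hξx.mem_closed isClosed_closure (subset_closure h2)


end Groth.Agent.S11142
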