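import Groth.Statements.S11146
import Groth.Agent.GrpSch.K268.GorField
import Groth.Agent.Dual.H329.GorBase
import Groth.Agent.S0345
import Groth.Agent.UnramA.SmoothFibreDim
import Groth.Agent.TopDim.K284.Basic
import Mathlib.RingTheory.KrullDimension.Polynomial

set_option autoImplicit false
set_option linter.style.haveILetI false
universe u
open CategoryTheory MonoidalCategory CartesianMonoidalCategory MonObj GrpObj AlgebraicGeometry
attribute [local instance] HasDerivedCategory.standard
open GrpSch

namespace Groth.Agent.S11146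

theorem exists_le_nat {a : WithBot ℕ∞} (h : a < ⊤) : ∃ r : ℕ, a ≤ r := by
  rcases eq_or_ne a ⊥ with h2 | h2
  · exact ⟨0, h2 ▸ bot_le⟩
  · obtain ⟨m, rfl⟩ := WithBot.ne_bot_iff_exists.mp h2
    obtain ⟨n, rfl⟩ := ENat.ne_top_iff_exists.mp (fun hm : m = ⊤ => h.ne (by rw [hm]; rfl))
    exact ⟨n, le_rfl⟩

/-- A scheme of finite type over the spectrum of a Noetherian ring of finite dimension is finite dimensional. -/
theorem topologicalKrullDim_lt_top {R : Type u} [CommRing R] [IsNoetherianRing R]
    (hR : ringKrullDim R < ⊤) {X : Scheme.{u}} (f : X ⟶ Spec (CommRingCat.of R))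
    [LocallyOfFiniteType f] [QuasiCompact f] : topologicalKrullDim X < ⊤ := by
  have hc : CompactSpace X := QuasiCompact.compactSpace_of_compactSpace f
  let 𝒰 := X.affineCover.finiteSubcover
  let U : 𝒰.I₀ → X.Opens := fun i => (𝒰.f i).opensRange
  have hU : ∀ i, IsAffineOpen (U i) := fun i => isAffineOpen_opensRange (𝒰.f i)
  have hcov : ⨆ i, U i = ⊤ := by
    rw [eq_top_iff]
    intro x _
    obtain ⟨i, y, hy⟩ := 𝒰.exists_eq x
    exact TopologicalSpace.Opens.mem_iSup.2 ⟨i, y, hy⟩
  have hdim := K284.TopDim.dim_eq_iSup_of_open_cover U hcov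
  obtain ⟨r, hr⟩ : ∃ r : ℕ, ringKrullDim R ≤ r := exists_le_nat hR
  have hi : ∀ i, ∃ d : ℕ, topologicalKrullDim (U i) ≤ (d : WithBot ℕ∞) := by
    intro i
    have h1 : topologicalKrullDim (U i : Set X) = ringKrullDim Γ(X, U i) :=
      Groth.Agent.UnramA.SmoothFibreDim.topologicalKrullDim_affineOpen (hU i)
    have h2 : (f.appLE ⊤ (U i) le_top).hom.FiniteType :=
      HasRingHomProperty.appLE (P := @LocallyOfFiniteType) f inferInstance
        ⟨⊤, isAffineOpen_top _⟩ ⟨U i, hU i⟩ le_top
    have h3 : ((Scheme.ΓSpecIso (CommRingCat.of R)).inv).hom.FiniteType :=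
      RingHom.FiniteType.of_surjective _
        (Scheme.ΓSpecIso (CommRingCat.of R)).symm.commRingCatIsoToRingEquiv.surjective
    let φ : R →+* Γ(X, U i) := (f.appLE ⊤ (U i) le_top).hom.comp
      ((Scheme.ΓSpecIso (CommRingCat.of R)).inv).hom
    have h4 : φ.FiniteType := h2.comp h3
    letI : Algebra R Γ(X, U i) := φ.toAlgebra
    haveI : Algebra.FiniteType R Γ(X, U i) := h4
    obtain ⟨n, π, hπ⟩ := Algebra.FiniteType.iff_quotient_mvPolynomial''.mp
      ‹Algebra.FiniteType R Γ(X, U i)›
    have h5 : ringKrullDim Γ(X, U i) ≤ ringKrullDim (MvPolynomial (Fin n) R) :=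
      ringKrullDim_le_of_surjective π.toRingHom hπ
    rw [MvPolynomial.ringKrullDim_of_isNoetherianRing, Nat.card_fin] at h5
    refine ⟨r + n, ?_⟩
    change topologicalKrullDim (U i : Set X) ≤ _
    rw [h1]
    refine h5.trans ?_
    rw [Nat.cast_add]
    exact add_le_add_left hr _
  choose d hd using hi
  have h6 : topologicalKrullDim X ≤ ((Finset.univ.sup d : ℕ) : WithBot ℕ∞) := by
    rw [hdim]
    refine iSup_le fun i => (hd i).trans ?_
    exact_mod_cast Finset.le_sup (f := d) (Finset.mem_univ i)
  exact h6.trans_lt (WithBot.coe_lt_coe.2 (ENat.natCast_lt_top (Finset.univ.sup d)))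

/-- Group schemes over Gorenstein rings: let R be a Gorenstein local ring and G a group scheme over Spec
R which is flat and of finite type over Spec R. Then G is a Gorenstein scheme (locally Noetherian
with all local rings Gorenstein) and has finite Krull dimension. (The published statement concerns
every member of the diagram Spec R ← G ⇇ G ×_R G of the action groupoid, each of which is Spec R or
again a flat finite-type group scheme over Spec R, and adds that O_S[d], for S = Spec R and d the
dimension of R, is then an equivariant dualizing complex; this row states the first assertion for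
G.) -/
theorem result (R : Type u) [CommRing R]
    [LocCoh.IsGorensteinLocalRing R] (G : Over (Spec (CommRingCat.of R))) [GrpObj G] [Flat G.hom]
    [LocallyOfFiniteType G.hom] [QuasiCompact G.hom] :
    Dual3.IsGorenstein G.left ∧ topologicalKrullDim G.left < ⊤ := by
  have hG : LocCoh.IsGorensteinRing R ∧ ringKrullDim R < ⊤ := by
    rw [← Groth.Agent.S0345.result]
    exact LocCoh.IsGorensteinLocalRing.exists_hasInjectiveDimensionLT
  have hN : IsLocallyNoetherian G.left := LocallyOfFiniteType.isLocallyNoetherian G.hom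
  refine ⟨⟨hN, fun x => ?_⟩, topologicalKrullDim_lt_top hG.2 G.hom⟩
  rw [Groth.Agent.Dual.H329.GorBase.gor_iff_of_flat G.hom x (Flat.stalkMap G.hom x)]
  refine ⟨Groth.Agent.Dual.H329.GorBase.gor_stalk_Spec (R := CommRingCat.of R) hG.1 _, ?_⟩
  exact ((Groth.Agent.Dual.H329.GorBase.isGorensteinAt_iff G.hom x).1
    ⟨Flat.stalkMap G.hom x, K268.GorField.isGorenstein_fiberStalk G x⟩).2

end Groth.Agent.S11146
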