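import Groth.Statements.S11147
import Groth.Agent.S3176
import Mathlib.RingTheory.Etale.Field
import Mathlib.FieldTheory.IntermediateField.Adjoin.Algebra

set_option autoImplicit false
universe u
open FrobAlg

namespace Groth.Agent.S11147

/-- Let p be a prime and k ⊆ K fields of characteristic p such that K is finitely generated over k as a
field. Then the relative Frobenius ring homomorphism K ⊗_{k,Frob} k → K, b ⊗ a ↦ b^p a (the
Radu–André homomorphism of k → K), is bijective exactly when K is algebraic over k and every element
of K is separable over k. -/
theorem result (p : ℕ) [Fact p.Prime] (k K : Type u) [Field k]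
    [Field K] [Algebra k K] [CharP k p] [CharP K p] (hfg : (⊤ : IntermediateField k K).FG) :
    Function.Bijective (FrobAlg.relFrob p k K) ↔ Algebra.IsSeparable k K := by
  have hess : Algebra.EssFiniteType k K := IntermediateField.fg_top_iff.1 hfg
  constructor
  · intro h
    have h2 : Algebra.FormallyUnramified k K :=
      Groth.Agent.Sga5.RelFrob.formallyUnramified_of_relFrob p k K
        (RingHom.FormallyUnramified.of_surjective h.2)
    exact Algebra.FormallyUnramified.isSeparable k K
  · intro h
    have h1 : Algebra.FormallyUnramified k K := Algebra.FormallyUnramified.of_isSeparable k K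
    have h2 : Module.Finite k K := Algebra.FormallyUnramified.finite_of_free k K
    have h3 : Algebra.FinitePresentation k K := Algebra.FinitePresentation.of_finiteType.1 inferInstance
    rw [← Groth.Agent.S3176.result p k K]
    have h4 : Algebra.FormallyEtale k K := Algebra.FormallyEtale.of_isSeparable k K
    exact ⟨h4, h3⟩

end Groth.Agent.S11147
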