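import Groth.Statements.S11148
import Groth.Agent.InvTh.K672.Watanabe

set_option autoImplicit false
universe u
open InvTh

namespace Groth.Agent.S11148

/-- Let k be a field, G a finite group whose order is invertible in k, and ρ : G → GL_n(k) a group
homomorphism all of whose values have determinant 1. Let G act on the polynomial ring k[X_1, …, X_n]
by ring automorphisms fixing k with g • X_i = Σ_j ρ(g)_{ji} X_j (the induced action on the symmetric
algebra of the representation), and let A be the ring of invariants (A → k[X] injective with image
the fixed elements). Then A is a Gorenstein ring. (The published statement allows any linearly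
reductive finite k-group scheme G with G → GL(V) factoring through SL(V), and also identifies the
canonical module of A with A; this row is the case of a constant group of order invertible in k and
keeps the Gorenstein conclusion.) -/
theorem result (k : Type u) [Field k] (n : ℕ)
    (G : Type u) [Group G] [Finite G] (hG : IsUnit ((Nat.card G : ℕ) : k))
    (ρ : G →* Matrix.GeneralLinearGroup (Fin n) k)
    (hdet : ∀ g : G, Matrix.det ((ρ g : Matrix (Fin n) (Fin n) k)) = 1)
    [MulSemiringAction G (MvPolynomial (Fin n) k)]
    (hC : ∀ (g : G) (c : k), g • (MvPolynomial.C c : MvPolynomial (Fin n) k) = MvPolynomial.C c)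
    (hX : ∀ (g : G) (i : Fin n), g • (MvPolynomial.X i : MvPolynomial (Fin n) k) =
      ∑ j : Fin n, (ρ g : Matrix (Fin n) (Fin n) k) j i • (MvPolynomial.X j : MvPolynomial (Fin n) k))
    (A : Type u) [CommRing A] [Algebra A (MvPolynomial (Fin n) k)]
    [SMulCommClass G A (MvPolynomial (Fin n) k)] [Algebra.IsInvariant A (MvPolynomial (Fin n) k) G]
    [FaithfulSMul A (MvPolynomial (Fin n) k)] :
    LocCoh.IsGorensteinRing A := by
  have hinj : Function.Injective (algebraMap A (MvPolynomial (Fin n) k)) :=
    FaithfulSMul.algebraMap_injective A _
  have hfixA : ∀ (g : G) (a : A), g • algebraMap A (MvPolynomial (Fin n) k) a =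
      algebraMap A (MvPolynomial (Fin n) k) a := fun g a => by
    rw [Algebra.algebraMap_eq_smul_one, smul_comm, smul_one]
  have hk : ∀ c : k, ∃ a : A, algebraMap A (MvPolynomial (Fin n) k) a = MvPolynomial.C c := fun c =>
    Algebra.IsInvariant.isInvariant (A := A) (G := G) (MvPolynomial.C c : MvPolynomial (Fin n) k)
      (fun g => hC g c)
  choose f hf using hk
  let F : k →+* A :=
    { toFun := f
      map_one' := hinj (by rw [hf, map_one, map_one])
      map_zero' := hinj (by rw [hf, map_zero, map_zero])
      map_add' := fun x y => hinj (by rw [hf, map_add, map_add, hf, hf])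
      map_mul' := fun x y => hinj (by rw [hf, map_mul, map_mul, hf, hf]) }
  let _ : Algebra k A := F.toAlgebra
  have t : IsScalarTower k A (MvPolynomial (Fin n) k) :=
    IsScalarTower.of_algebraMap_eq fun c => (hf c).symm
  have hint : Algebra.IsIntegral A (MvPolynomial (Fin n) k) :=
    Algebra.IsInvariant.isIntegral A (MvPolynomial (Fin n) k) G
  have hft : Algebra.FiniteType A (MvPolynomial (Fin n) k) :=
    Algebra.FiniteType.of_restrictScalars_finiteType k A _
  have hfin : Module.Finite A (MvPolynomial (Fin n) k) := Algebra.IsIntegral.finite
  have hftA : Algebra.FiniteType k A :=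
    ⟨fg_of_fg_of_fg k A (MvPolynomial (Fin n) k) (Algebra.FiniteType.out) hfin.1 hinj⟩
  refine K672.Watanabe.core hG hC (fun g => (ρ g : Matrix (Fin n) (Fin n) k)) hdet hX A
    (fun r => ⟨fun h => ?_, ?_⟩)
  · exact Algebra.IsInvariant.isInvariant (A := A) (G := G) r h
  · rintro ⟨a, rfl⟩ g
    exact hfixA g a

end Groth.Agent.S11148
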