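import Groth.Statements.S11159
import Groth.Agent.CohDer.K236.InjAmp
import Groth.Agent.CohDer.K236.TriShift
import Mathlib.CategoryTheory.Triangulated.TStructure.TruncLTGE

set_option autoImplicit false
universe w v u
open CategoryTheory CategoryTheory.Limits CategoryTheory.Pretriangulated
open CohDer

namespace Groth.Agent.S11159

/-- Let A be an abelian category with enough injectives and X ⟶ Y ⟶ Z ⟶ X⟦1⟧ a distinguished triangle in
D(A). If X and Z are each isomorphic in D(A) to a bounded complex of injective objects of A, then so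
is Y. -/
theorem result {A : Type u} [Category.{v} A] [Abelian A]
    [HasDerivedCategory.{w} A] [EnoughInjectives A]
    (T : Triangle (DerivedCategory A)) (hT : T ∈ distTriang (DerivedCategory A))
    (h₁ : (∃ (I : CochainComplex A ℤ) (b c : ℤ), I.IsStrictlyGE b ∧ I.IsStrictlyLE c ∧
        (∀ n : ℤ, Injective (I.X n)) ∧ Nonempty (T.obj₁ ≅ DerivedCategory.Q.obj I)))
    (h₃ : (∃ (I : CochainComplex A ℤ) (b c : ℤ), I.IsStrictlyGE b ∧ I.IsStrictlyLE c ∧
        (∀ n : ℤ, Injective (I.X n)) ∧ Nonempty (T.obj₃ ≅ DerivedCategory.Q.obj I))) :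
    (∃ (I : CochainComplex A ℤ) (b c : ℤ), I.IsStrictlyGE b ∧ I.IsStrictlyLE c ∧
        (∀ n : ℤ, Injective (I.X n)) ∧ Nonempty (T.obj₂ ≅ DerivedCategory.Q.obj I)) := by
  obtain ⟨I₁, b₁, c₁, h₁b, h₁c, h₁i, ⟨e₁⟩⟩ := h₁
  obtain ⟨I₃, b₃, c₃, h₃b, h₃c, h₃i, ⟨e₃⟩⟩ := h₃
  have g₁ : T.obj₁.IsGE (min b₁ b₃) := by
    have : (DerivedCategory.Q.obj I₁).IsGE b₁ := inferInstance
    have h := DerivedCategory.TStructure.t.isGE_of_iso e₁.symm b₁
    exact DerivedCategory.TStructure.t.isGE_of_ge _ (min b₁ b₃) b₁ (min_le_left _ _)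
  have g₃ : T.obj₃.IsGE (min b₁ b₃) := by
    have : (DerivedCategory.Q.obj I₃).IsGE b₃ := inferInstance
    have h := DerivedCategory.TStructure.t.isGE_of_iso e₃.symm b₃
    exact DerivedCategory.TStructure.t.isGE_of_ge _ (min b₁ b₃) b₃ (min_le_right _ _)
  have g₂ : T.obj₂.IsGE (min b₁ b₃) := DerivedCategory.TStructure.t.isGE₂ T hT _ g₁ g₃
  obtain ⟨I, h1, h2, h3, e⟩ := K236.InjAmp.exists_bounded_injective T.obj₂ (min b₁ b₃) (max c₁ c₃)
    (fun Y i hi φ => by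
      have z₃ : φ ≫ T.mor₂⟦i⟧' = 0 := K236.InjAmp.eq_zero_of_bounded_injective I₃ b₃ c₃ h₃i _ e₃ Y i
        (lt_of_le_of_lt (le_max_right _ _) hi) _
      obtain ⟨y, rfl⟩ := K236.TriShift.coyoneda_exact₂_shift T hT i φ z₃
      rw [K236.InjAmp.eq_zero_of_bounded_injective I₁ b₁ c₁ h₁i _ e₁ Y i
        (lt_of_le_of_lt (le_max_left _ _) hi) y, Limits.zero_comp])
  exact ⟨I, _, _, h1, h2, h3, e⟩

end Groth.Agent.S11159
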