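import Groth.Statements.S11160
import Groth.Agent.CohDer.K236.ExtRes
import Groth.Agent.CohDer.K236.InjAmp
import Groth.Agent.Cohder.DerivedFF

set_option autoImplicit false
universe w w' v v' u u'
open CategoryTheory CategoryTheory.Limits
open CohDer

namespace Groth.Agent.S11160

/-- Let ι : A' ⥤ A be an exact fully faithful functor of abelian categories whose essential image is
closed under extensions (a thick abelian subcategory), and suppose every object of A' admits a
monomorphism into an object of A' whose image in A is injective (A' has enough A-injectives). Then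
the induced triangulated functor D(A') ⥤ D(A) is fully faithful on cohomologically bounded below
objects. -/
theorem result {A' : Type u'} [Category.{v'} A'] [Abelian A'] [HasDerivedCategory.{w'} A']
    {A : Type u} [Category.{v} A] [Abelian A] [HasDerivedCategory.{w} A]
    (ι : A' ⥤ A) [ι.Additive] [PreservesFiniteLimits ι] [PreservesFiniteColimits ι] [ι.Full] [ι.Faithful]
    (hext : ∀ S : ShortComplex A, S.ShortExact → ι.essImage S.X₁ → ι.essImage S.X₃ → ι.essImage S.X₂)
    (hinj : ∀ X' : A', ∃ (Y' : A') (i : X' ⟶ Y'), Mono i ∧ Injective (ι.obj Y'))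
    (X Y : DerivedCategory A') (a b : ℤ) [X.IsGE a] [Y.IsGE b] :
    Function.Bijective (fun f : X ⟶ Y => ι.mapDerivedCategory.map f) := by
  obtain ⟨K, hK, ⟨e⟩⟩ := Y.exists_iso_Q_obj_of_isGE b
  have hK' : CochainComplex.IsStrictlyGE ((ι.mapHomologicalComplex (ComplexShape.up ℤ)).obj K) b := by
    rw [CochainComplex.isStrictlyGE_iff]
    exact fun i hi => ι.map_isZero (K.isZero_of_isStrictlyGE b i hi)
  -- a resolution of `Y`
  obtain ⟨I, f, h1, h2, h3⟩ := K236.ExtRes.exists_quasiIso ι
    ((ι.mapHomologicalComplex (ComplexShape.up ℤ)).obj K) hext hinj (fun n =>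
      ⟨K.homology n, ⟨((K.sc n).mapHomologyIso ι).symm⟩⟩) b
  obtain ⟨f', rfl⟩ := (ι.mapHomologicalComplex (ComplexShape.up ℤ)).map_surjective f
  have hf' : QuasiIso f' := by
    rwa [← HomologicalComplex.quasiIso_map_iff_of_preservesHomology f' ι]
  refine Groth.Agent.Cohder.DerivedFF.bijective_of_right_resolutions ι
    (fun M => (∃ b : ℤ, M.IsStrictlyGE b) ∧ ∀ n, Injective (ι.obj (M.X n))) ?_ X Y I ⟨⟨b, h1⟩, h2⟩
    (e ≪≫ asIso (DerivedCategory.Q.map f'))
  rintro M ⟨⟨c, hc⟩, hM⟩ L s hs
  have hc' : CochainComplex.IsStrictlyGE ((ι.mapHomologicalComplex (ComplexShape.up ℤ)).obj M) c := by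
    rw [CochainComplex.isStrictlyGE_iff]
    exact fun i hi => ι.map_isZero (M.isZero_of_isStrictlyGE c i hi)
  have hM' : ∀ n, Injective (((ι.mapHomologicalComplex (ComplexShape.up ℤ)).obj M).X n) := hM
  have : CochainComplex.IsKInjective ((ι.mapHomologicalComplex (ComplexShape.up ℤ)).obj M) :=
    CochainComplex.isKInjective_of_injective _ c
  obtain ⟨t, ht, -⟩ := K236.InjAmp.exists_quasiIso_of_iso_Q (asIso (DerivedCategory.Q.map s)).symm
  exact ⟨M, t, ⟨⟨c, hc⟩, hM⟩, ht⟩

end Groth.Agent.S11160
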