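import Groth.Statements.S11163
import Groth.Agent.Coherent.K48.ExtIdeal

set_option autoImplicit false
universe u
open CategoryTheory CategoryTheory.Limits AlgebraicGeometry
attribute [local instance] HasDerivedCategory.standard
open Coherent

namespace Groth.Agent.S11163

/-- (i) ⇔ (iv): let X be a locally Noetherian scheme and F a quasi-coherent O_X-module. Then F is an
injective O_X-module if and only if the sheaf Ext¹_{O_X}(G, F) (the first right derived functor of
the sheaf-Hom functor Hom_{O_X}(G, -), here the right adjoint of G ⊗ -) vanishes for every coherent
O_X-module G. (The binders asserting that G ⊗ - has a right adjoint, that this adjoint is additive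
and that O_X-modules have injective resolutions always hold.) -/
theorem result {X : Scheme.{u}} [IsLocallyNoetherian X]
    [HasInjectiveResolutions X.Modules] (F : X.Modules) (hF : Coh.IsQCoh F) :
    Injective F ↔ ∀ (G : X.Modules) [DCoh.HasSheafHom G] [(DCoh.sheafHom G).Additive],
      Coh.IsCoh G → IsZero (((DCoh.sheafHom G).rightDerived 1).obj F) := by
  constructor
  · intro hinj G _ _ hG
    exact Functor.isZero_rightDerived_obj_injective_succ (DCoh.sheafHom G) 0 F
  · intro h
    refine K48.ExtIdeal.injective_of_forall F hF fun G hG => ?_
    have : (DCoh.sheafHom G).Additive :=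
      Functor.additive_of_iso (Groth.Agent.Dcoh.MonClosed.sheafHomIso G).symm
    exact (h G hG).of_iso
      ((Groth.Agent.Sga4h.RDExact.congrIso (Groth.Agent.Dcoh.MonClosed.sheafHomIso G) 1).app F).symm

end Groth.Agent.S11163
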