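import Groth.Statements.S11165
import Groth.Agent.S0028
import Groth.Agent.S0485
import Groth.Agent.Ega3B.RpushAbCmp
import Groth.Agent.Sga4h.LerayAcyc
import Groth.Agent.CohqA.InjLift

set_option autoImplicit false
universe u
open CategoryTheory CategoryTheory.Limits AlgebraicGeometry
open Coherent

namespace Groth.Agent.S11165

/-- Let f : X ⟶ Y be a separated morphism of schemes, U an open of X on which f restricts to an affine
morphism, i : U ⟶ X the inclusion and F a quasi-coherent O_X-module. Then i_*(F|_U) is acyclic for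
f_*: its higher direct images R^j f_* vanish for j > 0. (The binder asserting injective resolutions
of O_X-modules always holds.) -/
theorem result {X Y : Scheme.{u}} (f : X ⟶ Y) [IsSeparated f]
    (U : X.Opens) [IsAffineHom (U.ι ≫ f)] (F : X.Modules) (hF : Coh.IsQCoh F)
    [HasInjectiveResolutions X.Modules] (j : ℕ) (hj : 0 < j) :
    IsZero ((Coh.Rpush f j).obj ((Scheme.Modules.pushforward U.ι).obj ((Scheme.Modules.restrictFunctor U.ι).obj F))) := by
  have haf : IsAffineHom U.ι := IsAffineHom.of_comp U.ι f
  have hEX : EnoughInjectives X.Modules := Groth.Agent.S0485.result _ X.ringCatSheaf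
  have hEU : EnoughInjectives (U : Scheme.{u}).Modules :=
    Groth.Agent.S0485.result _ (U : Scheme.{u}).ringCatSheaf
  have hIU : HasInjectiveResolutions (U : Scheme.{u}).Modules := inferInstance
  have hG : Coh.IsQCoh ((Scheme.Modules.restrictFunctor U.ι).obj F) := by
    have := hF
    exact inferInstanceAs (((Scheme.Modules.restrictFunctor U.ι).obj F).IsQuasicoherent)
  have h0 : ∀ p, 0 < p → IsZero ((Coh.Rpush U.ι p).obj ((Scheme.Modules.restrictFunctor U.ι).obj F)) :=
    fun p hp => (Groth.Agent.Ega3B.RpushAbCmp.isZero_RpushAb_iff U.ι _ p).1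
      (Groth.Agent.S0028.result U.ι _ p hp)
  have h1 : IsZero ((Coh.Rpush (U.ι ≫ f) j).obj ((Scheme.Modules.restrictFunctor U.ι).obj F)) :=
    (Groth.Agent.Ega3B.RpushAbCmp.isZero_RpushAb_iff (U.ι ≫ f) _ j).1
      (Groth.Agent.S0028.result (U.ι ≫ f) _ j hj)
  have e1 := Groth.Agent.Sga4h.LerayAcyc.rightDerivedIso (Scheme.Modules.pushforward U.ι)
    (Scheme.Modules.pushforward f)
    (fun I hI => Groth.Agent.CohqA.InjLift.injective_pushforward U.ι I hI)
    ((Scheme.Modules.restrictFunctor U.ι).obj F) h0 j
  have e2 := (Groth.Agent.Sga4h.LerayAcyc.rightDerivedCongr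
    (Scheme.Modules.pushforwardComp U.ι f) j).app ((Scheme.Modules.restrictFunctor U.ι).obj F)
  exact h1.of_iso (e1.symm ≪≫ e2)

end Groth.Agent.S11165
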