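import Groth.Statements.S11166
import Groth.Agent.S11160
import Groth.Agent.S11161
import Groth.Agent.PerfA.QCohExt
import Groth.Agent.PerfA.QCohSerre
import Groth.Agent.Coherent.K48.QCohEmb

set_option autoImplicit false
universe u
open CategoryTheory CategoryTheory.Limits AlgebraicGeometry
attribute [local instance] HasDerivedCategory.standard
open Coherent

namespace Groth.Agent.S11166

/-- For a locally Noetherian scheme X the natural functor D⁺(QCoh(X)) ⥤ D⁺_qc(O_X) is an equivalence:
granting that quasi-coherent modules form an abelian full subcategory of all O_X-modules with exact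
inclusion (instance hypotheses that always hold), the induced functor D(QCoh(X)) ⥤ D(O_X) is fully
faithful on cohomologically bounded below objects, and every object of D(O_X) with Hⁱ = 0 for i < a
and quasi-coherent cohomology sheaves is isomorphic to the image of an object of D(QCoh(X)) with Hⁱ
= 0 for i < a. -/
theorem result (X : Scheme.{u}) [IsLocallyNoetherian X]
    [ObjectProperty.ContainsZero (fun M : X.Modules => Coh.IsQCoh M)] [ObjectProperty.IsClosedUnderKernels (fun M : X.Modules => Coh.IsQCoh M)]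
    [ObjectProperty.IsClosedUnderCokernels (fun M : X.Modules => Coh.IsQCoh M)] [ObjectProperty.IsClosedUnderFiniteProducts (fun M : X.Modules => Coh.IsQCoh M)]
    [PreservesFiniteLimits (ObjectProperty.ι (fun M : X.Modules => Coh.IsQCoh M))] [PreservesFiniteColimits (ObjectProperty.ι (fun M : X.Modules => Coh.IsQCoh M))] :
    (∀ (M N : DerivedCategory (ObjectProperty.FullSubcategory (fun M : X.Modules => Coh.IsQCoh M))) (a b : ℤ), M.IsGE a → N.IsGE b →
        Function.Bijective (fun f : M ⟶ N => (ObjectProperty.ι (fun M : X.Modules => Coh.IsQCoh M)).mapDerivedCategory.map f)) ∧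
      ∀ (K : DCoh.D X) (a : ℤ), K.IsGE a → DCoh.IsQCohD K →
        ∃ M : DerivedCategory (ObjectProperty.FullSubcategory (fun M : X.Modules => Coh.IsQCoh M)), M.IsGE a ∧
          Nonempty ((ObjectProperty.ι (fun M : X.Modules => Coh.IsQCoh M)).mapDerivedCategory.obj M ≅ K) := by
  have hes : ∀ M : X.Modules, (ObjectProperty.ι (fun M : X.Modules => Coh.IsQCoh M)).essImage M →
      Coh.IsQCoh M := by
    rintro M ⟨N, ⟨e⟩⟩
    exact Groth.Agent.PerfA.QCohSerre.isQCoh_of_iso e N.property
  have hes2 : ∀ M : X.Modules, Coh.IsQCoh M →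
      (ObjectProperty.ι (fun M : X.Modules => Coh.IsQCoh M)).essImage M :=
    fun M hM => ⟨⟨M, hM⟩, ⟨Iso.refl _⟩⟩
  have hext : ∀ S : ShortComplex X.Modules, S.ShortExact →
      (ObjectProperty.ι (fun M : X.Modules => Coh.IsQCoh M)).essImage S.X₁ →
      (ObjectProperty.ι (fun M : X.Modules => Coh.IsQCoh M)).essImage S.X₃ →
      (ObjectProperty.ι (fun M : X.Modules => Coh.IsQCoh M)).essImage S.X₂ :=
    fun S hS h1 h3 => hes2 _ (Groth.Agent.PerfA.QCohExt.isQCoh_ext hS (hes _ h1) (hes _ h3))
  have hinj : ∀ X' : ObjectProperty.FullSubcategory (fun M : X.Modules => Coh.IsQCoh M),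
      ∃ (Y' : ObjectProperty.FullSubcategory (fun M : X.Modules => Coh.IsQCoh M)) (i : X' ⟶ Y'),
        Mono i ∧ Injective ((ObjectProperty.ι (fun M : X.Modules => Coh.IsQCoh M)).obj Y') := by
    intro J
    obtain ⟨G, j, hj, hG, hGq⟩ := K48.QCohEmb.exists_mono_injective J.obj J.property
    exact ⟨⟨G, hGq⟩, ObjectProperty.homMk j,
      (ObjectProperty.ι (fun M : X.Modules => Coh.IsQCoh M)).mono_of_mono_map hj, hG⟩
  refine ⟨fun M N a b hM hN => ?_, fun K a hK hq => ?_⟩
  · exact Groth.Agent.S11160.result (ObjectProperty.ι (fun M : X.Modules => Coh.IsQCoh M)) hext hinj M N a b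
  · obtain ⟨I, h1, -, ⟨e⟩⟩ := Groth.Agent.S11161.result
      (ObjectProperty.ι (fun M : X.Modules => Coh.IsQCoh M)) hext hinj K a (fun i => hes2 _ (hq i))
    exact ⟨DerivedCategory.Q.obj I, inferInstance, ⟨e⟩⟩

end Groth.Agent.S11166
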