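import Groth.Statements.S11177
import Groth.Agent.Flat2F.GorFibB
import Groth.Agent.VarietyA.RegSmooth
import Groth.Agent.S0342
import Mathlib.RingTheory.Smooth.Flat
-- import your own Groth.Agent.* helpers here

set_option autoImplicit false
universe u
open CategoryTheory
attribute [local instance] HasDerivedCategory.standard
open Dual

namespace Groth.Agent.S11177

open scoped TensorProduct

/-- The fibre rings of a smooth ring map are Gorenstein (they are regular). -/
theorem isGorensteinRing_fibre (A B : Type u) [CommRing A] [CommRing B] [Algebra A B]
    [Algebra.Smooth A B] (p : Ideal A) [p.IsPrime] :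
    LocCoh.IsGorensteinRing (B ⊗[A] p.ResidueField) := by
  let e : p.ResidueField ⊗[A] B ≃ₐ[A] B ⊗[A] p.ResidueField := Algebra.TensorProduct.comm A _ _
  have hsm : Algebra.Smooth p.ResidueField (p.ResidueField ⊗[A] B) := inferInstance
  have hN : IsNoetherianRing (p.ResidueField ⊗[A] B) :=
    Algebra.FiniteType.isNoetherianRing p.ResidueField _
  refine Groth.Agent.LoccohB.GorBasic.isGorensteinRing_of_ringEquiv e.toRingEquiv ?_
  refine ⟨fun q _ => ?_⟩
  have : Algebra.IsSmoothAt p.ResidueField q := inferInstance
  have : IsRegularLocalRing (Localization.AtPrime q) :=
    Groth.Agent.VarietyA.RegSmooth.isRegularLocalRing_of_isSmoothAt (R := p.ResidueField) q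
  exact Groth.Agent.S0342.result _

/-- Let A be a Noetherian ring, A → B a smooth ring homomorphism (formally smooth and of finite
presentation), and ω a dualizing complex for A. Assuming the derived base change functor D(A) → D(B)
(the total left derived functor of extension of scalars) exists, the derived base change ω ⊗^L_A B
is a dualizing complex for B. (The published statement is for a smooth morphism of finite type to a
Noetherian scheme and concludes that the pull-back of a dualizing complex twisted by the top
relative differentials, shifted by the relative dimension, is dualizing; removing that invertible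
twist does not affect being dualizing.) -/
theorem result (A B : Type u) [CommRing A] [CommRing B] [Algebra A B] [IsNoetherianRing A] [Algebra.Smooth A B] [DRing.HasLBaseChange (algebraMap A B)] (ω : Dual.D A) (hω : Dual.IsDualizing A ω) : Dual.IsDualizing B ((DRing.LBaseChange (algebraMap A B)).obj ω) := by
  have hfl : Module.Flat A B := inferInstance
  have h : (algebraMap A B).Flat := RingHom.flat_algebraMap_iff.2 hfl
  have hNB : IsNoetherianRing B := Algebra.FiniteType.isNoetherianRing A B
  exact Groth.Agent.LoccohB.HomBC.isDualizing_of_iso
    ((Groth.Agent.LoccohB.FlatLBC.LBaseChangeIso (algebraMap A B) h).symm.app ω)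
    (Groth.Agent.Flat2F.GorFibB.isDualizing_flatBC_of_gorenstein h
      (fun p => isGorensteinRing_fibre A B p.asIdeal) ω hω)

end Groth.Agent.S11177
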