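import Groth.Statements.S11187
import Groth.Agent.Dual.K174.TensP

set_option autoImplicit false
universe u
open CategoryTheory
attribute [local instance] HasDerivedCategory.standard
open Dual

namespace Groth.Agent.S11187

/-- Let A be a nonzero Noetherian ring, ω a dualizing complex for A, P and P' invertible A-modules
(finite locally free of rank one) and n, n' integers; assume the total left derived functors − ⊗^L_A
P and − ⊗^L_A P' exist on D(A). If (ω ⊗^L_A P)[n] and (ω ⊗^L_A P')[n'] are isomorphic in D(A), then
n = n' and P is A-linearly isomorphic to P'. (The published statement is for a connected scheme; the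
uniqueness does not need connectedness, only that A is nonzero, which is assumed here since over the
zero ring every shift of the zero object is zero.) -/
theorem result (A : Type u) [CommRing A] [IsNoetherianRing A] [Nontrivial A] (ω : Dual.D A) (hω : Dual.IsDualizing A ω) (P P' : Type u) [AddCommGroup P] [Module A P] [Module.Invertible A P] [AddCommGroup P'] [Module A P'] [Module.Invertible A P'] [DRing.HasLTensor A (ModuleCat.of A P)] [DRing.HasLTensor A (ModuleCat.of A P')] (n n' : ℤ) (h : Nonempty (((DRing.LTensor A (ModuleCat.of A P)).obj ω)⟦n⟧ ≅ ((DRing.LTensor A (ModuleCat.of A P')).obj ω)⟦n'⟧)) : n = n' ∧ Nonempty (P ≃ₗ[A] P') := by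
  obtain ⟨K, hK, ⟨e⟩⟩ := K174.TensP.exists_rep ω
  obtain ⟨f⟩ := K174.TensP.nonempty_ltenQIso K (ModuleCat.of A P)
  obtain ⟨f'⟩ := K174.TensP.nonempty_ltenQIso K (ModuleCat.of A P')
  obtain ⟨g⟩ := h
  let e1 := ((DRing.LTensor A (ModuleCat.of A P)).mapIso e).symm ≪≫ f
  let e2 := ((DRing.LTensor A (ModuleCat.of A P')).mapIso e).symm ≪≫ f'
  exact K174.TensP.unique_twist K (Groth.Agent.LoccohB.HomBC.isDualizing_of_iso e.symm hω) P P' n n'
    ((shiftFunctor _ n).mapIso e1.symm ≪≫ g ≪≫ (shiftFunctor _ n').mapIso e2)


end Groth.Agent.S11187
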