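import Groth.Statements.S11188
import Groth.Agent.AGF.K495.GModPt
import Groth.Agent.AGF.K495.ObsSep

set_option autoImplicit false
universe u
open CategoryTheory MonoidalCategory CartesianMonoidalCategory MonObj GrpObj AlgebraicGeometry
open scoped TensorProduct
open AGF

namespace Groth.Agent.S11188

/-- (1) ⇔ (2) ⇔ (3): let k be an algebraically closed field, G a linear algebraic group over k (an
affine smooth group scheme over k) and H a closed subgroup of G (a smooth closed subgroup scheme, i
: H → G). The following are equivalent: (i) H is observable in G, i.e. a rational point of G whose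
right translation fixes every right-H-invariant global function on G lies in H; (ii) there are a
finite-dimensional rational G-module V and a vector v in V whose stabiliser, on rational points, is
H; (iii) there are finitely many right-H-invariant global functions on G which separate the cosets
gH: two rational points of G at which they all take the same values differ by right multiplication
by a rational point of H. -/
theorem result (k : Type u) [Field k] [IsAlgClosed k]
    (G : Over (Spec (CommRingCat.of k))) [GrpObj G] [IsAffine G.left] [Smooth G.hom]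
    (H : Over (Spec (CommRingCat.of k))) [GrpObj H] [Smooth H.hom] (i : H ⟶ G) [IsMonHom i]
    [IsClosedImmersion i.left] :
    List.TFAE [
      AGF.IsObservableIn k i,
      ∃ (V : Type u) (_ : AddCommGroup V) (_ : Module k V) (_ : Module.Finite k V) (ρ : VecGrp.GMod G V) (v : V),
        AGF.IsStabOnPts k i ρ v,
      ∃ s : Finset Γ(G.left, ⊤), (∀ f ∈ s, AGF.IsRTransInv i f) ∧
        ∀ g g' : VecGrp.pt k k ⟶ G, (∀ f ∈ s, g.left.appTop f = g'.left.appTop f) →
          ∃ h : VecGrp.pt k k ⟶ H, g' = g * (h ≫ i)] := by
  classical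
  obtain ⟨A, _, _, e, he, hft, hred⟩ := K495.Bridge.exists_data G
  have hH : IsAffine H.left := isAffine_of_isAffineHom i.left
  have key : ∀ (f : Γ(G.left, ⊤)) (g g' : VecGrp.pt k k ⟶ G),
      g.left.appTop f = g'.left.appTop f ↔
        K495.Bridge.ptE e k g (K495.Bridge.fn e f) = K495.Bridge.ptE e k g' (K495.Bridge.fn e f) := by
    intro f g g'
    rw [← K495.Bridge.ev_eq_iff (k := k) g g' f f, K495.Bridge.ev_fn e, K495.Bridge.ev_fn e]
  tfae_have 1 → 2 := by
    intro h
    rw [K495.Bridge.isObservableIn_iff e] at h
    obtain ⟨V, _, _, _, ρ, v, hρ, hv⟩ := h.exists_vec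
    obtain ⟨m, hm⟩ := K495.GModPt.exists_gmod e ρ hρ
    refine ⟨V, inferInstance, inferInstance, inferInstance, m, v, ?_⟩
    rw [K495.GModPt.IsStabOnPts_iff e, hm]
    exact fun p => (hv p).symm
  tfae_have 2 → 1 := by
    rintro ⟨V, _, _, _, ρ, v, h⟩
    rw [K495.Bridge.isObservableIn_iff e]
    rw [K495.GModPt.IsStabOnPts_iff e] at h
    exact K495.ObsPt.isObs_of_vec (K495.GModPt.isAlg_rep e ρ) v fun p => (h p).symm
  tfae_have 1 → 3 := by
    intro h
    rw [K495.Bridge.isObservableIn_iff e] at h
    obtain ⟨R, ⟨t, ht⟩, hR1, -, hR2⟩ := K495.ObsSep.exists_sepAlg h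
    refine ⟨t.image (K495.Bridge.fn e).symm, ?_, ?_⟩
    · intro f hf
      obtain ⟨a, ha, rfl⟩ := Finset.mem_image.1 hf
      rw [K495.Bridge.isRTransInv_iff_mem e, RingEquiv.apply_symm_apply]
      apply hR1
      rw [← ht]
      exact Algebra.subset_adjoin ha
    · intro g g' hgg
      have h1 : ∀ r ∈ R, K495.Bridge.ptE e k g r = K495.Bridge.ptE e k g' r := by
        have h2 : R ≤ AlgHom.equalizer (K495.Bridge.ptE e k g).ofConv
            (K495.Bridge.ptE e k g').ofConv := by
          rw [← ht]
          refine Algebra.adjoin_le fun a ha => ?_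
          have h3 := (key _ g g').1 (hgg _ (Finset.mem_image_of_mem _ ha))
          rw [RingEquiv.apply_symm_apply] at h3
          exact h3
        exact fun r hr => h2 hr
      have h2 := hR2 _ _ h1
      rw [← map_inv, ← map_mul, K495.Bridge.ptE_mem_psub] at h2
      obtain ⟨h, hh⟩ := h2
      exact ⟨h, by rw [hh, mul_inv_cancel_left]⟩
  tfae_have 3 → 1 := by
    rintro ⟨s, hs, h⟩ g hg
    obtain ⟨y, hy⟩ := h 1 g (fun f hf => by
      have h1 := hg f (hs f hf)
      rw [K495.Bridge.isRTransInv_pt_iff' e] at h1
      rw [key, map_one]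
      have h2 := h1 1
      rw [_root_.one_mul] at h2
      exact h2.symm)
    exact ⟨y, by rw [hy, _root_.one_mul]⟩
  tfae_finish

end Groth.Agent.S11188
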