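import Groth.Statements.S11190
import Groth.Agent.AGF.K495.GModPt
import Groth.Agent.AGF.K495.ObsExt2

set_option autoImplicit false
universe u
open CategoryTheory MonoidalCategory CartesianMonoidalCategory MonObj GrpObj AlgebraicGeometry
open scoped TensorProduct
open AGF

namespace Groth.Agent.S11190

/-- Let k be an algebraically closed field, G a linear algebraic group over k (an affine smooth group
scheme over k) and H a closed subgroup of G (a smooth closed subgroup scheme, i : H → G). Then H is
observable in G if and only if each finite-dimensional rational H-module occurs as an H-submodule of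
some rational G-module of finite dimension (it embeds, H-equivariantly along i, into one). -/
theorem result (k : Type u) [Field k] [IsAlgClosed k]
    (G : Over (Spec (CommRingCat.of k))) [GrpObj G] [IsAffine G.left] [Smooth G.hom]
    (H : Over (Spec (CommRingCat.of k))) [GrpObj H] [Smooth H.hom] (i : H ⟶ G) [IsMonHom i]
    [IsClosedImmersion i.left] :
    AGF.IsObservableIn k i ↔
      ∀ (V : Type u) [AddCommGroup V] [Module k V] [Module.Finite k V] (σ : VecGrp.GMod H V), σ.ExtendsAlong i := by
  obtain ⟨A, _, _, e, he, hft, hred⟩ := K495.Bridge.exists_data G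
  have hHa : IsAffine H.left := isAffine_of_isAffineHom i.left
  obtain ⟨C, _, _, e', he', φ, hft', hred', hφ, hi⟩ := K495.Bridge.exists_hom_data e i
  rw [K495.Bridge.isObservableIn_iff e, K495.Bridge.psub_eq_range e i e' φ hi]
  constructor
  · intro h V _ _ _ σ
    obtain ⟨W, _, _, _, ρ, f, hρ, hf, hfe⟩ :=
      K495.ObsExt.exists_ext hφ h.invExt (K495.GModPt.isAlg_rep e' σ)
    obtain ⟨m, hm⟩ := K495.GModPt.exists_gmod e ρ hρ
    refine ⟨W, inferInstance, inferInstance, inferInstance, m, f, hf, ?_⟩
    refine (K495.GModPt.equivariant_iff e' σ (K495.GModPt.res i m) f).2 ?_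
    intro p x
    rw [K495.GModPt.rep_res e e' i φ hi, hm]
    exact hfe p x
  · intro h
    apply K495.ObsExt.isObs_of_invExt (Sga3B.RG.Pt.isCl_range_map hφ)
    apply K495.ObsExt2.invExt_of_ext
    intro σ hσ
    obtain ⟨m, hm⟩ := K495.GModPt.exists_gmod e' σ hσ
    obtain ⟨W, _, _, _, ρ, f, hf, hfe⟩ := h k m
    refine ⟨W, inferInstance, inferInstance, K495.GModPt.rep e ρ, f,
      K495.GModPt.isAlg_rep e ρ, hf, ?_⟩
    have h1 := (K495.GModPt.equivariant_iff e' m (K495.GModPt.res i ρ) f).1 hfe
    intro y v
    rw [← hm, h1 y v, K495.GModPt.rep_res e e' i φ hi]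

end Groth.Agent.S11190
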