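import Groth.Statements.S11192
import Groth.Agent.AGF.K495.Norm

set_option autoImplicit false
universe u
open CategoryTheory MonoidalCategory CartesianMonoidalCategory MonObj GrpObj AlgebraicGeometry
open scoped TensorProduct
open AGF

namespace Groth.Agent.S11192

/-- Let k be an algebraically closed field, G a linear algebraic group over k (an affine smooth group
scheme over k) and H a closed subgroup of G (a smooth closed subgroup scheme, i : H → G), with G
connected. Then the ring of global functions on G invariant under right translation by H is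
integrally closed. -/
theorem result (k : Type u) [Field k] [IsAlgClosed k]
    (G : Over (Spec (CommRingCat.of k))) [GrpObj G] [IsAffine G.left] [Smooth G.hom]
    (H : Over (Spec (CommRingCat.of k))) [GrpObj H] [Smooth H.hom] (i : H ⟶ G) [IsMonHom i]
    [IsClosedImmersion i.left] [ConnectedSpace G.left] :
    IsIntegrallyClosed ↥(AGF.rTransInv i) := by
  have hH2 : IsAffine H.left := isAffine_of_isAffineHom i.left
  obtain ⟨A, _, _, e, he, hft, hred⟩ := K495.Bridge.exists_data G
  have hdom : IsDomain A := K495.Norm.isDomain_of_connected e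
  have hic : IsIntegrallyClosed A := K495.Norm.isIntegrallyClosed_hopf (k := k) A
  have hdom' : IsDomain Γ(G.left, ⊤) := (K495.Bridge.fn e).toMulEquiv.isDomain A
  have hic' : IsIntegrallyClosed Γ(G.left, ⊤) := IsIntegrallyClosed.of_equiv (K495.Bridge.fn e).symm
  refine K495.Norm.isIntegrallyClosed_of_eq (AGF.rTransInv i) fun a b c ha hb hb0 hbc => ?_
  rw [AGF.mem_rTransInv_iff, K495.Bridge.isRTransInv_iff_mem e] at ha hb ⊢
  have hbc' : K495.Bridge.fn e b * K495.Bridge.fn e c = K495.Bridge.fn e a := by
    rw [← map_mul, hbc]
  rw [K495.ObsPt.mem_rInv_iff_rTr] at ha hb ⊢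
  intro h hh
  have hb0' : K495.Bridge.fn e b ≠ 0 := by
    rwa [Ne, map_eq_zero_iff _ (K495.Bridge.fn e).injective]
  apply mul_left_cancel₀ hb0'
  have h1 := congrArg (Sga3B.RG.rTr h) hbc'
  rw [map_mul, hb h hh, ha h hh] at h1
  rw [h1, hbc']

end Groth.Agent.S11192
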