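import Groth.Statements.S11196
import Groth.Agent.AGF.K495.Bridge2
import Groth.Agent.AGF.K495.Solv

set_option autoImplicit false
universe u
open CategoryTheory MonoidalCategory CartesianMonoidalCategory MonObj GrpObj AlgebraicGeometry
open scoped TensorProduct
open AGF

namespace Groth.Agent.S11196

/-- Let k be an algebraically closed field, G a linear algebraic group over k (an affine smooth group
scheme over k) and H a closed subgroup of G (a smooth closed subgroup scheme, i : H → G), with G
solvable. Then H is observable in G. -/
theorem result (k : Type u) [Field k] [IsAlgClosed k]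
    (G : Over (Spec (CommRingCat.of k))) [GrpObj G] [IsAffine G.left] [Smooth G.hom]
    (H : Over (Spec (CommRingCat.of k))) [GrpObj H] [Smooth H.hom] (i : H ⟶ G) [IsMonHom i]
    [IsClosedImmersion i.left]
    (hs : Red.IsSolvableGrp G) :
    AGF.IsObservableIn k i := by
  have hH2 : IsAffine H.left := isAffine_of_isAffineHom i.left
  obtain ⟨A, _, _, e, he, hft, hred⟩ := K495.Bridge.exists_data G
  have h1 : Group.IsSolvable (VecGrp.pt k k ⟶ G) := by
    obtain ⟨n, hn⟩ := hs
    exact ⟨n, hn _⟩
  have h2 : Group.IsSolvable (Sga3B.RG.Pt k A) :=
    Group.isSolvable_of_isSolvable_injective (f := (K495.Bridge.ptE e k).symm.toMonoidHom)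
      (K495.Bridge.ptE e k).symm.injective
  rw [K495.Bridge.isObservableIn_iff e]
  exact K495.Solv.isObs_of_isSolvable (K495.Bridge.isCl_psub e i)

end Groth.Agent.S11196
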