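import Groth.Statements.S11198
import Groth.Agent.AGF.K495.ProperQ

set_option autoImplicit false
universe u
open CategoryTheory MonoidalCategory CartesianMonoidalCategory MonObj GrpObj AlgebraicGeometry
open scoped TensorProduct
open AGF

namespace Groth.Agent.S11198

/-- Let k be an algebraically closed field, G a linear algebraic group over k and H₁ ⊆ H₂ ⊆ G closed
subgroups (smooth closed subgroup schemes i₁ : H₁ → H₂, i₂ : H₂ → G), such that the quotient H₂/H₁
(the scheme X with H₂-action a and base point o) is proper over k and irreducible. Then a global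
function on G is invariant under right translation by H₁ if and only if it is invariant under right
translation by H₂. -/
theorem result (k : Type u) [Field k] [IsAlgClosed k]
    (G : Over (Spec (CommRingCat.of k))) [GrpObj G] [IsAffine G.left] [Smooth G.hom]
    (H₂ : Over (Spec (CommRingCat.of k))) [GrpObj H₂] [Smooth H₂.hom] (i₂ : H₂ ⟶ G) [IsMonHom i₂] [IsClosedImmersion i₂.left]
    (H₁ : Over (Spec (CommRingCat.of k))) [GrpObj H₁] [Smooth H₁.hom] (i₁ : H₁ ⟶ H₂) [IsMonHom i₁] [IsClosedImmersion i₁.left]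
    (X : Over (Spec (CommRingCat.of k))) (a : AlgGrp.Action H₂ X) (o : 𝟙_ (Over (Spec (CommRingCat.of k))) ⟶ X) (hX : AGF.IsQuotient i₁ X a o)
    [IsProper X.hom] [IrreducibleSpace X.left] :
    AGF.rTransInv (i₁ ≫ i₂) = AGF.rTransInv i₂ := by
  have hA2 : IsAffine H₂.left := isAffine_of_isAffineHom i₂.left
  have hA1 : IsAffine H₁.left := isAffine_of_isAffineHom i₁.left
  obtain ⟨A, _, _, e, he, hft, hred⟩ := K495.Bridge.exists_data G
  obtain ⟨B, _, _, e₂, he₂, φ, hftB, hredB, hφ, hi⟩ := K495.Bridge.exists_hom_data e i₂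
  ext f
  rw [AGF.mem_rTransInv_iff, AGF.mem_rTransInv_iff, K495.Bridge.isRTransInv_iff_mem e,
    K495.Bridge.isRTransInv_iff_mem e]
  constructor
  · intro ha x h hh
    have hh' : h ∈ K495.Bridge.psub e i₂ := hh
    rw [K495.Bridge.psub_eq_range e i₂ e₂ φ hi] at hh'
    obtain ⟨t, rfl⟩ := hh'
    have hb : ∀ s : Sga3B.RG.Pt k B, s (φ (Sga3B.RG.lTr x⁻¹ (K495.Bridge.fn e f))) =
        (x * Sga3B.RG.Pt.map φ s) (K495.Bridge.fn e f) := by
      intro s
      rw [← Sga3B.RG.Pt.map_apply, Sga3B.RG.lTr_apply_pt, _root_.inv_inv]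
    have h1 := K495.ProperQ.apply_eq_of_proper i₁ a o e₂ hX
      (b := φ (Sga3B.RG.lTr x⁻¹ (K495.Bridge.fn e f))) (by
        intro s r hr
        rw [hb, hb, map_mul, ← _root_.mul_assoc]
        apply ha
        rw [K495.Bridge.psub_comp_eq_map e i₂ e₂ φ hi i₁]
        exact ⟨r, hr, rfl⟩) t 1
    rw [hb, hb, map_one, _root_.mul_one] at h1
    exact h1
  · intro ha
    exact K495.ObsPt.rInv_anti (K495.Bridge.psub_comp_le e i₂ i₁) ha

end Groth.Agent.S11198
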