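import Groth.Statements.S11199
import Groth.Agent.AGF.K495.Bridge2

set_option autoImplicit false
universe u
open CategoryTheory MonoidalCategory CartesianMonoidalCategory MonObj GrpObj AlgebraicGeometry
open scoped TensorProduct
open AGF

namespace Groth.Agent.S11199

/-- Let k be an algebraically closed field, G a linear algebraic group over k (an affine smooth group
scheme over k) and H a closed subgroup of G (a smooth closed subgroup scheme, i : H → G). Then there
are finitely many right-H-invariant global functions f₁, ..., fₙ on G which already cut out the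
observable hull of H: a rational point of G whose right translation fixes each fⱼ fixes every
right-H-invariant global function. -/
theorem result (k : Type u) [Field k] [IsAlgClosed k]
    (G : Over (Spec (CommRingCat.of k))) [GrpObj G] [IsAffine G.left] [Smooth G.hom]
    (H : Over (Spec (CommRingCat.of k))) [GrpObj H] [Smooth H.hom] (i : H ⟶ G) [IsMonHom i]
    [IsClosedImmersion i.left] :
    ∃ s : Finset Γ(G.left, ⊤), (∀ f ∈ s, AGF.IsRTransInv i f) ∧
      ∀ g : VecGrp.pt k k ⟶ G, (∀ f ∈ s, AGF.IsRTransInv g f) →
        ∀ f : Γ(G.left, ⊤), AGF.IsRTransInv i f → AGF.IsRTransInv g f := by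
  classical
  obtain ⟨A, _, _, e, he, hft, hred⟩ := K495.Bridge.exists_data G
  have hH : IsAffine H.left := isAffine_of_isAffineHom i.left
  have hN : IsNoetherianRing A := Algebra.FiniteType.isNoetherianRing k A
  obtain ⟨s, hs1, hs2⟩ := K495.ObsPt.exists_finset (K495.Bridge.psub e i : Set (WithConv (A →ₐ[k] k)))
  refine ⟨s.image (K495.Bridge.fn e).symm, ?_, ?_⟩
  · intro f hf
    obtain ⟨a, ha, rfl⟩ := Finset.mem_image.1 hf
    rw [K495.Bridge.isRTransInv_iff_mem e, RingEquiv.apply_symm_apply]
    exact hs1 ha
  · intro g hg
    rw [K495.Bridge.forall_inv_iff e]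
    apply hs2
    intro a ha
    have h1 := hg _ (Finset.mem_image_of_mem _ ha)
    rw [K495.Bridge.isRTransInv_pt_iff' e, RingEquiv.apply_symm_apply] at h1
    have h2 := h1 1
    rwa [_root_.one_mul] at h2

end Groth.Agent.S11199
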