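import Groth.Statements.S11200
import Groth.Agent.AGF.K495.Chars

set_option autoImplicit false
universe u
open CategoryTheory MonoidalCategory CartesianMonoidalCategory MonObj GrpObj AlgebraicGeometry
open scoped TensorProduct
open AGF

namespace Groth.Agent.S11200

/-- Let k be an algebraically closed field, G a linear algebraic group over k (an affine smooth group
scheme over k) and H a closed subgroup of G (a smooth closed subgroup scheme, i : H → G). If H has
no non-trivial character (every homomorphism from H to the multiplicative group is trivial), then H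
is observable in G. -/
theorem result (k : Type u) [Field k] [IsAlgClosed k]
    (G : Over (Spec (CommRingCat.of k))) [GrpObj G] [IsAffine G.left] [Smooth G.hom]
    (H : Over (Spec (CommRingCat.of k))) [GrpObj H] [Smooth H.hom] (i : H ⟶ G) [IsMonHom i]
    [IsClosedImmersion i.left]
    (hχ : ∀ (χ : H ⟶ Red.Gm (Spec (CommRingCat.of k))), IsMonHom χ → χ = 1) :
    AGF.IsObservableIn k i := by
  have hH2 : IsAffine H.left := isAffine_of_isAffineHom i.left
  obtain ⟨A, _, _, e, he, hft, hred⟩ := K495.Bridge.exists_data G
  obtain ⟨C, _, _, e', he', φ, hft', hred', hφ, hi⟩ := K495.Bridge.exists_hom_data e i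
  rw [K495.Bridge.isObservableIn_iff e, K495.Bridge.psub_eq_range e i e' φ hi]
  apply K495.ObsExt.isObs_of_invExt (Sga3B.RG.Pt.isCl_range_map hφ)
  apply K495.Chars.invExt_of_forall
  intro c h1 hc hu
  obtain ⟨χ, hχm, hχc⟩ := K495.Chars.exists_char e' h1 hu hc
  have h2 : c = 1 := by
    rw [← hχc, K495.Chars.fn_gmFn_eq_one_iff]
    exact hχ χ hχm
  refine ⟨1, by rw [map_one, h2], fun y z => ?_, ?_⟩
  · rw [Sga3B.RG.Pt.apply_one, Sga3B.RG.Pt.apply_one, Sga3B.RG.Pt.apply_one, _root_.one_mul]
  · exact Sga3B.RG.Pt.apply_one _

end Groth.Agent.S11200
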