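import Groth.Statements.S11201
import Groth.Agent.AGF.K495.RadSch
import Groth.Agent.AGF.K495.ObsMore

set_option autoImplicit false
universe u
open CategoryTheory MonoidalCategory CartesianMonoidalCategory MonObj GrpObj AlgebraicGeometry
open scoped TensorProduct
open AGF

namespace Groth.Agent.S11201

/-- Let k be an algebraically closed field, G a linear algebraic group over k (an affine smooth group
scheme over k) and H a closed subgroup of G (a smooth closed subgroup scheme, i : H → G). Let R ⊆ H
be the radical of H: a smooth connected solvable closed normal subgroup of H through which every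
smooth connected solvable closed normal subgroup of H factors. Then H is observable in G if and only
if R is observable in G. -/
theorem result (k : Type u) [Field k] [IsAlgClosed k]
    (G : Over (Spec (CommRingCat.of k))) [GrpObj G] [IsAffine G.left] [Smooth G.hom]
    (H : Over (Spec (CommRingCat.of k))) [GrpObj H] [Smooth H.hom] (i : H ⟶ G) [IsMonHom i]
    [IsClosedImmersion i.left]
    (R : Over (Spec (CommRingCat.of k))) [GrpObj R] [Smooth R.hom] [ConnectedSpace R.left] (r : R ⟶ H) [IsMonHom r]
    [IsClosedImmersion r.left] (hn : AlgGrp.IsNormalHom r) (hsol : Red.IsSolvableGrp R)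
    (hmax : ∀ (R' : Over (Spec (CommRingCat.of k))) [GrpObj R'] (r' : R' ⟶ H) [IsMonHom r'], IsClosedImmersion r'.left → Smooth R'.hom →
      ConnectedSpace R'.left → AlgGrp.IsNormalHom r' → Red.IsSolvableGrp R' → ∃ f : R' ⟶ R, f ≫ r = r') :
    AGF.IsObservableIn k i ↔ AGF.IsObservableIn k (r ≫ i) := by
  obtain ⟨A, _, _, e, he, hft, hred⟩ := K495.Bridge.exists_data G
  obtain ⟨C, _, _, e', he', φ, hftC, hredC, hφ, hcomm⟩ := K495.Bridge.exists_hom_data e i
  have haff : IsAffine H.left := isAffine_of_isAffineHom i.left
  have haff' : IsAffine R.left := isAffine_of_isAffineHom r.left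
  rw [K495.Bridge.isObservableIn_iff e, K495.Bridge.isObservableIn_iff e]
  have h1 := K495.Bridge.psub_eq_range e i e' φ hcomm
  have h2 := K495.Bridge.psub_comp_eq_map e i e' φ hcomm r
  have hcl := K495.Bridge.isCl_psub e i
  have hR := K495.RadSch.isRadPt_psub e' r hn hsol hmax
  rw [h2]
  rw [h1] at hcl ⊢
  constructor
  · intro h
    exact (K495.Rad.isObs_of_normal hR.normal hR.isCCS.isCl).comp hφ h
  · intro h
    apply K495.ObsExt.isObs_of_invExt hcl
    exact K495.Rad.invExt_of_rad hR.normal hR.max h.invExt

end Groth.Agent.S11201
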