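import Groth.Statements.S11202
import Groth.Agent.AGF.K495.RadSch
import Groth.Agent.AGF.K495.ObsMore

set_option autoImplicit false
universe u
open CategoryTheory MonoidalCategory CartesianMonoidalCategory MonObj GrpObj AlgebraicGeometry
open scoped TensorProduct
open AGF

namespace Groth.Agent.S11202

/-- Let k be an algebraically closed field, G a linear algebraic group over k (an affine smooth group
scheme over k) and H a closed subgroup of G (a smooth closed subgroup scheme, i : H → G). If the
radical of H is unipotent — every smooth connected solvable closed normal subgroup of H contains no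
non-trivial subtorus — then H is observable in G. -/
theorem result (k : Type u) [Field k] [IsAlgClosed k]
    (G : Over (Spec (CommRingCat.of k))) [GrpObj G] [IsAffine G.left] [Smooth G.hom]
    (H : Over (Spec (CommRingCat.of k))) [GrpObj H] [Smooth H.hom] (i : H ⟶ G) [IsMonHom i]
    [IsClosedImmersion i.left]
    (hrad : ∀ (R : Over (Spec (CommRingCat.of k))) [GrpObj R] (r : R ⟶ H) [IsMonHom r], IsClosedImmersion r.left → Smooth R.hom →
      ConnectedSpace R.left → AlgGrp.IsNormalHom r → Red.IsSolvableGrp R → Red.HasNoSubtorus k R) :
    AGF.IsObservableIn k i := by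
  obtain ⟨A, _, _, e, he, hft, hred⟩ := K495.Bridge.exists_data G
  obtain ⟨C, _, _, e', he', φ, hftC, hredC, hφ, hcomm⟩ := K495.Bridge.exists_hom_data e i
  have haff : IsAffine H.left := isAffine_of_isAffineHom i.left
  rw [K495.Bridge.isObservableIn_iff e]
  have h1 := K495.Bridge.psub_eq_range e i e' φ hcomm
  have hcl := K495.Bridge.isCl_psub e i
  rw [h1] at hcl ⊢
  apply K495.ObsExt.isObs_of_invExt hcl
  exact K495.Rad.invExt_of_rad_unip fun N hN hN' =>
    K495.RadSch.isUnip_of_hasNoSubtorus e' hrad hN hN'

end Groth.Agent.S11202
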