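import Groth.Statements.S11203
import Groth.Agent.AGF.K495.FGPt

set_option autoImplicit false
universe u
open CategoryTheory MonoidalCategory CartesianMonoidalCategory MonObj GrpObj AlgebraicGeometry
open scoped TensorProduct
open AGF

namespace Groth.Agent.S11203

/-- Let k be an algebraically closed field, G a linear algebraic group over k (an affine smooth group
scheme over k) and H a closed subgroup of G (a smooth closed subgroup scheme, i : H → G); let G₀ ⊆ G
and H₀ ⊆ H be the identity components and i₀ : H₀ → G₀ the induced homomorphism. If one of the rings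
k[G]^H (right-H-invariant global functions on G), k[G]^{H₀}, k[G₀]^{H₀} is finitely generated over
the constants, then all three are. (The published statement also lists the invariants of H ∩ G₀ on
G₀, omitted here.) -/
theorem result (k : Type u) [Field k] [IsAlgClosed k]
    (G : Over (Spec (CommRingCat.of k))) [GrpObj G] [IsAffine G.left] [Smooth G.hom]
    (H : Over (Spec (CommRingCat.of k))) [GrpObj H] [Smooth H.hom] (i : H ⟶ G) [IsMonHom i]
    [IsClosedImmersion i.left]
    (G₀ : Over (Spec (CommRingCat.of k))) [GrpObj G₀] [ConnectedSpace G₀.left] (jG : G₀ ⟶ G) [IsMonHom jG]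
    [IsOpenImmersion jG.left]
    (H₀ : Over (Spec (CommRingCat.of k))) [GrpObj H₀] [ConnectedSpace H₀.left] (jH : H₀ ⟶ H) [IsMonHom jH]
    [IsOpenImmersion jH.left] (i₀ : H₀ ⟶ G₀) [IsMonHom i₀] (hc : i₀ ≫ jG = jH ≫ i) :
    List.TFAE [AGF.SubringFGOver k G (AGF.rTransInv i), AGF.SubringFGOver k G (AGF.rTransInv (jH ≫ i)),
      AGF.SubringFGOver k G₀ (AGF.rTransInv i₀)] := by
  have h1 : IsClosedImmersion jG.left := K495.OpenSub.isClosedImmersion_of_open jG
  have h2 : IsClosedImmersion jH.left := K495.OpenSub.isClosedImmersion_of_open jH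
  have h3 : IsAffine G₀.left := K495.OpenSub.isAffine_of_open jG
  have h4 : Smooth G₀.hom := K495.OpenSub.smooth_of_open jG
  have h5 : IsAffine H.left := isAffine_of_isAffineHom i.left
  have h6 : IsAffine H₀.left := K495.OpenSub.isAffine_of_open jH
  have h7 : Smooth H₀.hom := K495.OpenSub.smooth_of_open jH
  obtain ⟨A, _, _, e, he, hft, hred⟩ := K495.Bridge.exists_data G
  obtain ⟨C, _, _, e', he', φ, hft', hred', hφ, hi⟩ := K495.Bridge.exists_hom_data e i
  obtain ⟨D, _, _, e'', he'', ψ, hft'', hred'', hψ, hj⟩ := K495.Bridge.exists_hom_data e jG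
  rw [K495.SubFG.subringFGOver_rTransInv_iff e, K495.SubFG.subringFGOver_rTransInv_iff e,
    K495.SubFG.subringFGOver_rTransInv_iff e'']
  tfae_have 1 ↔ 2 := by
    apply K495.FGPt.fg_iff_of_relIndex (K495.Bridge.psub_comp_le e i jH)
    rw [K495.Bridge.psub_comp_eq_map e i e' φ hi jH, K495.Bridge.psub_eq_range e i e' φ hi]
    have h8 : (Sga3B.RG.Pt.map (K := k) φ).range =
        (⊤ : Subgroup (Sga3B.RG.Pt k C)).map (Sga3B.RG.Pt.map φ) := MonoidHom.range_eq_map _
    rw [h8, Subgroup.relIndex_map_map_of_injective _ _ (Sga3B.RG.Pt.map_injective hφ),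
      Subgroup.relIndex_top_right]
    exact K495.OpenSub.index_ne_zero (K495.OpenSub.isCl_compl_psub e' jH)
  tfae_have 2 ↔ 3 := by
    have h8 : K495.Bridge.psub e (jH ≫ i) =
        (K495.Bridge.psub e'' i₀).map (Sga3B.RG.Pt.map ψ) := by
      rw [← K495.Bridge.psub_comp_eq_map e jG e'' ψ hj i₀]
      simp only [hc]
    rw [h8]
    apply K495.FGPt.fg_map_iff hψ
    rw [← K495.Bridge.psub_eq_range e jG e'' ψ hj]
    exact K495.OpenSub.index_ne_zero (K495.OpenSub.isCl_compl_psub e jG)
  tfae_finish

end Groth.Agent.S11203
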