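import Groth.Statements.S11205
import Groth.Agent.AGF.K496.PInsep
import Mathlib.RingTheory.Adjoin.Tower

set_option autoImplicit false
universe u
open CategoryTheory MonoidalCategory CartesianMonoidalCategory MonObj GrpObj AlgebraicGeometry
open scoped TensorProduct
open AGF

namespace Groth.Agent.S11205

/-- Let k be an algebraically closed field and let X and Y be irreducible normal varieties over k
(integral separated schemes of finite type over k all of whose local rings are integrally closed),
and π : Y → X a k-morphism which is bijective on points. If the ring of global functions of Y is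
finitely generated over k, then so is the ring of global functions of X. (The published statement
asks π bijective on rational points; this row asks bijectivity on all points, which for schemes of
finite type over an algebraically closed field is the same condition.) -/
theorem result (k : Type u) [Field k] [IsAlgClosed k] (X Y : Over (Spec (CommRingCat.of k)))
    [IsIntegral X.left] [IsIntegral Y.left] [LocallyOfFiniteType X.hom] [QuasiCompact X.hom]
    [IsSeparated X.hom] [LocallyOfFiniteType Y.hom] [QuasiCompact Y.hom] [IsSeparated Y.hom]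
    (hX : ∀ x : X.left, IsIntegrallyClosed ↑(X.left.presheaf.stalk x))
    (hY : ∀ y : Y.left, IsIntegrallyClosed ↑(Y.left.presheaf.stalk y))
    (π : Y ⟶ X) (hπ : Function.Bijective π.left.base)
    (hfg : ((Scheme.ΓSpecIso (CommRingCat.of k)).inv ≫ Y.hom.appTop).hom.FiniteType) :
    ((Scheme.ΓSpecIso (CommRingCat.of k)).inv ≫ X.hom.appTop).hom.FiniteType := by
  have hsep : IsSeparated π.left := by
    have : IsSeparated (π.left ≫ X.hom) := by rw [Over.w]; infer_instance
    exact IsSeparated.of_comp π.left X.hom
  have hlft : LocallyOfFiniteType π.left := by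
    have : LocallyOfFiniteType (π.left ≫ X.hom) := by rw [Over.w]; infer_instance
    exact locallyOfFiniteType_of_comp π.left X.hom
  have hui : UniversallyInjective π.left := K496.UnivInj.universallyInjective_of_injective π hπ.1
  have hsurj : Surjective π.left := ⟨hπ.2⟩
  have hnoeth : IsLocallyNoetherian X.left := LocallyOfFiniteType.isLocallyNoetherian X.hom
  have hint : IsIntegralHom π.left := K496.PInsep.isIntegralHom π.left hX
  have hpow := K496.PInsep.exists_pow_appTop π.left hX
  -- algebra
  set φX : k →+* Γ(X.left, ⊤) := ((Scheme.ΓSpecIso (CommRingCat.of k)).inv ≫ X.hom.appTop).hom with hφX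
  set φY : k →+* Γ(Y.left, ⊤) := ((Scheme.ΓSpecIso (CommRingCat.of k)).inv ≫ Y.hom.appTop).hom with hφY
  set ψ : Γ(X.left, ⊤) →+* Γ(Y.left, ⊤) := π.left.appTop.hom with hψ
  have hcomp : ψ.comp φX = φY := by
    rw [hφX, hφY, hψ, ← CommRingCat.hom_comp, Category.assoc, ← Scheme.Hom.comp_appTop]
    congr 3
    rw [Over.w]
  have hinj : Function.Injective ψ := by
    rw [injective_iff_map_eq_zero]
    intro a ha
    have : Nonempty (⊤ : X.left.Opens) := ⟨⟨genericPoint X.left, trivial⟩⟩
    have : Nonempty (π.left ⁻¹ᵁ ⊤ : Y.left.Opens) := ⟨⟨genericPoint Y.left, trivial⟩⟩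
    have h1 := Groth.Agent.CohqA.ChevGen.ffMap_germ π.left ⊤ a
    have h2 : π.left.app ⊤ a = 0 := ha
    rw [h2, map_zero] at h1
    have h3 := (map_eq_zero_iff _ (Groth.Agent.CohqA.ChevGen.ffMap π.left).hom.injective).mp h1
    exact (map_eq_zero_iff _ (Scheme.germToFunctionField_injective X.left ⊤)).mp h3
  algebraize [φX, φY, ψ]
  have htow : IsScalarTower k Γ(X.left, ⊤) Γ(Y.left, ⊤) := .of_algebraMap_eq fun x => congr($hcomp x).symm
  have hft : Algebra.FiniteType k Γ(Y.left, ⊤) := hfg
  have hInt : Algebra.IsIntegral Γ(X.left, ⊤) Γ(Y.left, ⊤) := by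
    refine ⟨fun b => ?_⟩
    obtain ⟨n, hn, c, hc⟩ := hpow b
    refine IsIntegral.of_pow hn ?_
    rw [← hc]
    exact isIntegral_algebraMap (R := Γ(X.left, ⊤)) (A := Γ(Y.left, ⊤)) (x := c)
  have hft2 : Algebra.FiniteType Γ(X.left, ⊤) Γ(Y.left, ⊤) := Algebra.FiniteType.of_restrictScalars_finiteType k _ _
  have hfin : Module.Finite Γ(X.left, ⊤) Γ(Y.left, ⊤) := Algebra.IsIntegral.finite
  have := fg_of_fg_of_fg k Γ(X.left, ⊤) Γ(Y.left, ⊤) hft.out hfin.fg_top hinj
  exact ⟨this⟩

end Groth.Agent.S11205
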