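import Groth.Statements.S11206
import Groth.Agent.AGF.K496.URDict

set_option autoImplicit false
universe u
open CategoryTheory MonoidalCategory CartesianMonoidalCategory MonObj GrpObj AlgebraicGeometry
open scoped TensorProduct
open AGF

namespace Groth.Agent.S11206

/-- Let k be an algebraically closed field, G a linear algebraic group over k, B a Borel subgroup of G
and U the unipotent radical of B (a maximal connected unipotent subgroup of G). Assume that
invariants of reductive groups over k on finitely generated algebras are finitely generated (used in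
the argument for finite groups). Then U is observable in G and the ring k[G]^U of global functions
on G invariant under right translation by U is finitely generated over the constants (U is a
Grosshans subgroup of G). -/
theorem result (k : Type u) [Field k] [IsAlgClosed k]
    (G : Over (Spec (CommRingCat.of k))) [GrpObj G] [IsAffine G.left] [Smooth G.hom]
    (Bo : Over (Spec (CommRingCat.of k))) [GrpObj Bo] (iB : Bo ⟶ G) (hB : Red.IsBorelOver k iB)
    (U : Over (Spec (CommRingCat.of k))) [GrpObj U] (u : U ⟶ Bo) (hU : Par.IsUnipotentRadical u)
    (thmA : VecGrp.ReductiveInvariantsFG k) :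
    AGF.IsObservableIn k (u ≫ iB) ∧ AGF.SubringFGOver k G (AGF.rTransInv (u ≫ iB)) := by
  have h1 := hB.1
  have h2 := hB.2.1
  have h3 := hB.2.2.1
  have h4 := hU.1
  have h5 := hU.2.1
  have h6 := hU.2.2.2.1
  have h7 : IsClosedImmersion (u ≫ iB).left := by
    rw [Over.comp_left]
    infer_instance
  have h8 : IsAffine U.left := isAffine_of_isAffineHom (u ≫ iB).left
  obtain ⟨A, _, _, e, he, hft, hred⟩ := K495.Bridge.exists_data G
  have hmem := K496.URDict.mem_psub_iff e hB hU
  refine ⟨?_, ?_⟩
  · rw [K495.Bridge.isObservableIn_iff e]
    exact K496.UnipObs.isObs_of_unip (K495.Bridge.isCl_psub e (u ≫ iB))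
      fun g hg => ((hmem g).1 hg).2
  · rw [K496.FGBridge.subringFGOver_iff_of e
      (R' := K495.ObsPt.rInv (K495.Bridge.psub e (u ≫ iB) : Set (Groth.Agent.Sga3B.RG.Pt k A)))
      (fun f => K495.Bridge.isRTransInv_iff_mem e (u ≫ iB) f)]
    refine K496.Disc.fg_rInv (B := K495.Bridge.psub e iB) ?_ hmem
    rw [K496.URDict.psub_eq_ptsSub]
    exact Groth.Agent.Agf.H614.AlgDict.isBorelPt e hB

end Groth.Agent.S11206
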