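import Groth.Statements.S11207
import Groth.Agent.AGF.K496.Transfer

set_option autoImplicit false
universe u
open CategoryTheory MonoidalCategory CartesianMonoidalCategory MonObj GrpObj AlgebraicGeometry
open scoped TensorProduct
open AGF

namespace Groth.Agent.S11207

/-- (a) ⇔ (b): let k be an algebraically closed field, G a linear algebraic group over k whose identity
component is reductive, and H a closed subgroup of G. Assume that invariants of reductive groups
over k on finitely generated algebras are finitely generated (a standard result, carried as a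
hypothesis). Then k[G]^H is finitely generated over the constants if and only if, for every finitely
generated commutative k-algebra A with a rational action of G by algebra automorphisms, the algebra
of H-invariants A^H is finitely generated over k. -/
theorem result (k : Type u) [Field k] [IsAlgClosed k]
    (G : Over (Spec (CommRingCat.of k))) [GrpObj G] [IsAffine G.left] [Smooth G.hom]
    (H : Over (Spec (CommRingCat.of k))) [GrpObj H] [Smooth H.hom] (i : H ⟶ G) [IsMonHom i]
    [IsClosedImmersion i.left]
    (hG : VecGrp.IsReductiveGrp k G) (thmA : VecGrp.ReductiveInvariantsFG k) :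
    AGF.SubringFGOver k G (AGF.rTransInv i) ↔
      ∀ (A : Type u) [CommRing A] [Algebra k A] [Algebra.FiniteType k A] (ρ : VecGrp.GMod G A) (hρ : ρ.IsMult),
        Algebra.FiniteType k ↥(ρ.fixedSubalgebra hρ i) := by
  obtain ⟨O, _, _, e, he, hft, hred⟩ := K495.Bridge.exists_data G
  have haff : IsAffine H.left := isAffine_of_isAffineHom i.left
  rw [K496.FGBridge.subringFGOver_iff_of e
    (R' := K495.ObsPt.rInv (K495.Bridge.psub e i : Set (Groth.Agent.Sga3B.RG.Pt k O)))
    (fun f => K495.Bridge.isRTransInv_iff_mem e i f)]
  constructor
  · intro h A _ _ _ ρ hρ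
    rw [K496.Transfer.fixedSubalgebra_eq e, ← Subalgebra.fg_iff_finiteType]
    exact K496.Transfer.fg_fixS_of_fg_rInv (K496.Transfer.fgInv_of_thmA e hG thmA) h _ _
      (K496.Rat.isRat_rep e ρ)
  · intro h
    have h1 := h O (K495.GModPt.regR e) (K495.GModPt.isMult_regR e)
    rw [K496.Transfer.fixedSubalgebra_eq e, ← Subalgebra.fg_iff_finiteType] at h1
    have h2 : K496.Transfer.fixS _ (K496.Transfer.isMulRep_rep e (K495.GModPt.isMult_regR e))
        (K495.Bridge.psub e i : Set (Groth.Agent.Sga3B.RG.Pt k O)) =
        K495.ObsPt.rInv (K495.Bridge.psub e i : Set (Groth.Agent.Sga3B.RG.Pt k O)) := by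
      ext a
      rw [K495.ObsPt.mem_rInv_iff_rTr, K496.Transfer.mem_fixS, K495.GModPt.rep_regR]
      exact Iff.rfl
    rw [← h2]
    exact h1

end Groth.Agent.S11207
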