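import Groth.Statements.S11208
import Groth.Agent.S11206
import Groth.Agent.S11207

set_option autoImplicit false
universe u
open CategoryTheory MonoidalCategory CartesianMonoidalCategory MonObj GrpObj AlgebraicGeometry
open scoped TensorProduct
open AGF

namespace Groth.Agent.S11208

/-- Let k be an algebraically closed field, G a linear algebraic group over k whose identity component
is reductive, B a Borel subgroup of G and U the unipotent radical of B (a maximal connected
unipotent subgroup). Assume finite generation of invariants of reductive groups over k on finitely
generated algebras (a standard result, carried as a hypothesis). Then for every finitely generated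
commutative k-algebra A with a rational action of G by algebra automorphisms, the algebra of
U-invariants A^U is finitely generated over k. -/
theorem result (k : Type u) [Field k] [IsAlgClosed k]
    (G : Over (Spec (CommRingCat.of k))) [GrpObj G] [IsAffine G.left] [Smooth G.hom] (hG : VecGrp.IsReductiveGrp k G)
    (Bo : Over (Spec (CommRingCat.of k))) [GrpObj Bo] (iB : Bo ⟶ G) (hB : Red.IsBorelOver k iB)
    (U : Over (Spec (CommRingCat.of k))) [GrpObj U] (u : U ⟶ Bo) (hU : Par.IsUnipotentRadical u)
    (thmA : VecGrp.ReductiveInvariantsFG k)
    (A : Type u) [CommRing A] [Algebra k A] [Algebra.FiniteType k A] (ρ : VecGrp.GMod G A) (hρ : ρ.IsMult) :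
    Algebra.FiniteType k ↥(ρ.fixedSubalgebra hρ (u ≫ iB)) := by
  have h1 := hB.1
  have h2 := hB.2.1
  have h3 := hB.2.2.1
  have h4 := hU.1
  have h5 := hU.2.1
  have h6 := hU.2.2.2.1
  have h7 : IsClosedImmersion (u ≫ iB).left := by
    rw [Over.comp_left]
    infer_instance
  exact (Groth.Agent.S11207.result k G U (u ≫ iB) hG thmA).1
    (Groth.Agent.S11206.result k G Bo iB hB U u hU thmA).2 A ρ hρ

end Groth.Agent.S11208
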