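import Groth.Statements.S11209
import Groth.Agent.AGF.K496.Contain
import Groth.Agent.AGF.K496.URDict
import Groth.Agent.AGF.K496.Transfer

set_option autoImplicit false
universe u
open CategoryTheory MonoidalCategory CartesianMonoidalCategory MonObj GrpObj AlgebraicGeometry
open scoped TensorProduct
open AGF

namespace Groth.Agent.S11209

/-- Let k be an algebraically closed field, G a linear algebraic group over k whose identity component
is reductive, B a Borel subgroup of G with unipotent radical U, and H a closed subgroup of G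
containing U. Assume finite generation of invariants of reductive groups over k on finitely
generated algebras (a standard result, carried as a hypothesis). Then for every finitely generated
commutative k-algebra A with a rational action of G by algebra automorphisms, A^H is finitely
generated over k. -/
theorem result (k : Type u) [Field k] [IsAlgClosed k]
    (G : Over (Spec (CommRingCat.of k))) [GrpObj G] [IsAffine G.left] [Smooth G.hom]
    (H : Over (Spec (CommRingCat.of k))) [GrpObj H] [Smooth H.hom] (i : H ⟶ G) [IsMonHom i]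
    [IsClosedImmersion i.left]
    (hG : VecGrp.IsReductiveGrp k G)
    (Bo : Over (Spec (CommRingCat.of k))) [GrpObj Bo] (iB : Bo ⟶ G) (hB : Red.IsBorelOver k iB)
    (U : Over (Spec (CommRingCat.of k))) [GrpObj U] (u : U ⟶ Bo) (hU : Par.IsUnipotentRadical u)
    (f : U ⟶ H) (hf : f ≫ i = u ≫ iB)
    (thmA : VecGrp.ReductiveInvariantsFG k)
    (A : Type u) [CommRing A] [Algebra k A] [Algebra.FiniteType k A] (ρ : VecGrp.GMod G A) (hρ : ρ.IsMult) :
    Algebra.FiniteType k ↥(ρ.fixedSubalgebra hρ i) := by
  have h1 := hB.1
  have h2 := hB.2.1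
  have h3 := hB.2.2.1
  have h4 := hU.1
  have h5 := hU.2.1
  have h6 := hU.2.2.2.1
  have h7 : IsClosedImmersion (u ≫ iB).left := by
    rw [Over.comp_left]
    infer_instance
  have h8 : IsAffine U.left := isAffine_of_isAffineHom (u ≫ iB).left
  have h9 : IsAffine H.left := isAffine_of_isAffineHom i.left
  obtain ⟨O, _, _, e, he, hft, hred⟩ := K495.Bridge.exists_data G
  have hmem := K496.URDict.mem_psub_iff e hB hU
  have hle : K495.Bridge.psub e (u ≫ iB) ≤ K495.Bridge.psub e i := by
    intro p hp
    obtain ⟨g, rfl⟩ := (K495.Bridge.ptE e k).surjective p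
    rw [K495.Bridge.ptE_mem_psub] at hp ⊢
    obtain ⟨x, rfl⟩ := hp
    exact ⟨x ≫ f, by rw [Category.assoc, hf]⟩
  rw [K496.Transfer.fixedSubalgebra_eq e, ← Subalgebra.fg_iff_finiteType]
  refine K496.Transfer.fg_fixS_of_fg_rInv (K496.Transfer.fgInv_of_thmA e hG thmA) ?_ _ _
    (K496.Rat.isRat_rep e ρ)
  refine K496.Contain.fg_rInv_of_le (B := K495.Bridge.psub e iB) ?_ hmem
    (K495.Bridge.isCl_psub e i) hle
  rw [K496.URDict.psub_eq_ptsSub]
  exact Groth.Agent.Agf.H614.AlgDict.isBorelPt e hB

end Groth.Agent.S11209
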