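import Groth.Statements.S11210
import Groth.Agent.AGF.K702.Disc
import Groth.Agent.AGF.K497.GM
import Groth.Agent.AGF.K495.GModPt2

set_option autoImplicit false
universe u
open CategoryTheory MonoidalCategory CartesianMonoidalCategory MonObj GrpObj AlgebraicGeometry
open scoped TensorProduct
open AGF

namespace Groth.Agent.S11210

/-- Let k be an algebraically closed field, G a linear algebraic group over k whose identity component
is reductive, acting rationally by algebra automorphisms on a commutative k-algebra A, J an ideal of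
A stable under G, and H a closed subgroup of G. If f ∈ A is H-invariant modulo J (for every point h
of H, h·f − f lies in the base change of J), then there are a positive integer t and an H-invariant
F ∈ A with f^t − F ∈ J. -/
theorem result (k : Type u) [Field k] [IsAlgClosed k]
    (G : Over (Spec (CommRingCat.of k))) [GrpObj G] [IsAffine G.left] [Smooth G.hom]
    (H : Over (Spec (CommRingCat.of k))) [GrpObj H] [Smooth H.hom] (i : H ⟶ G) [IsMonHom i]
    [IsClosedImmersion i.left]
    (hG : VecGrp.IsReductiveGrp k G)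
    (A : Type u) [CommRing A] [Algebra k A] (ρ : VecGrp.GMod G A) (hρ : ρ.IsMult)
    (J : Ideal A) (hJ : ρ.IsStable (𝟙 G) (J.restrictScalars k)) (f : A)
    (hf : ∀ (B : Type u) [CommRing B] [Algebra k B] (h : VecGrp.pt k B ⟶ H),
      ρ.ρ B (h ≫ i) ((1 : B) ⊗ₜ[k] f) - (1 : B) ⊗ₜ[k] f ∈ (J.restrictScalars k).baseChange B) :
    ∃ t : ℕ, 0 < t ∧ ∃ F ∈ ρ.fixedSubalgebra hρ i, f ^ t - F ∈ J := by
  have haff : IsAffine H.left := isAffine_of_isAffineHom i.left
  obtain ⟨O, _, _, e, he, hft, hred⟩ := K495.Bridge.exists_data G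
  have hGR := K702.Hab.geomRed_of_isReductiveGrp e hG
  have hσ := K497.GM.isRatA_act e ρ hρ
  obtain ⟨n, hn, y, hy, hyJ⟩ := hGR.lift_sub hσ J
    (fun p x hx => K497.GM.stable_of_isStable_id e ρ hJ p x hx) (K495.Bridge.psub e i) (x := f) (by
      rintro _ ⟨h, rfl⟩
      have h1 := hf k h
      rw [K495.GModPt.ρ_k e, ← TensorProduct.tmul_sub] at h1
      exact K497.GM.mem_baseChange_k.1 h1)
  exact ⟨n, hn, y, (K495.GModPt.mem_fixedSubalgebra_iff_psub e i ρ hρ y).2 fun p hp => hy p hp, hyJ⟩

end Groth.Agent.S11210
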