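import Groth.Statements.S11213
import Groth.Agent.S11212
import Groth.Agent.AGF.K496.QAff

set_option autoImplicit false
universe u
open CategoryTheory MonoidalCategory CartesianMonoidalCategory MonObj GrpObj AlgebraicGeometry
open scoped TensorProduct
open AGF

namespace Groth.Agent.S11213

/-- Let k be an algebraically closed field, G a linear algebraic group over k (an affine smooth group
scheme over k) and H a closed subgroup of G (a smooth closed subgroup scheme, i : H → G), with the
identity component of H reductive, and let X (with action a, base point o) be the quotient G/H.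
Assume the following standard results of geometric invariant theory for groups with reductive
identity component, carried as hypotheses: finite generation of invariants on finitely generated
algebras, and that the quotient map of an affine variety by such a group is surjective and separates
disjoint closed invariant subsets. Then k[G]^H is finitely generated over the constants (H is a
Grosshans subgroup of G) and X is affine. -/
theorem result (k : Type u) [Field k] [IsAlgClosed k]
    (G : Over (Spec (CommRingCat.of k))) [GrpObj G] [IsAffine G.left] [Smooth G.hom]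
    (H : Over (Spec (CommRingCat.of k))) [GrpObj H] [Smooth H.hom] (i : H ⟶ G) [IsMonHom i]
    [IsClosedImmersion i.left]
    (hH : VecGrp.IsReductiveGrp k H) (thmA : VecGrp.ReductiveInvariantsFG k)
    (thmAbi : AGF.ReductiveQuotSurj k) (thmAbiv : AGF.ReductiveQuotSeparates k)
    (X : Over (Spec (CommRingCat.of k))) (a : AlgGrp.Action G X) (o : 𝟙_ (Over (Spec (CommRingCat.of k))) ⟶ X) (hX : AGF.IsQuotient i X a o) :
    AGF.SubringFGOver k G (AGF.rTransInv i) ∧ IsAffine X.left := by
  have haff : IsAffine H.left := isAffine_of_isAffineHom i.left
  obtain ⟨O, _, _, e, he, hft, hred⟩ := K495.Bridge.exists_data G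
  obtain ⟨C, _, _, e', he', φ, hft', hred', hφs, hφ⟩ := K495.Bridge.exists_hom_data e i
  have hobs : AGF.IsObservableIn k i := Groth.Agent.S11212.result k G H i hH thmA thmAbiv
  have hrange := K495.Bridge.psub_eq_range e i e' φ hφ
  refine ⟨?_, ?_⟩
  · rw [K496.FGBridge.subringFGOver_iff_of e
      (R' := K495.ObsPt.rInv (K495.Bridge.psub e i : Set (Groth.Agent.Sga3B.RG.Pt k O)))
      (fun f => K495.Bridge.isRTransInv_iff_mem e i f), hrange]
    exact K496.RedObs.fg_rInv e e' i φ hφ hH thmA
  · refine K496.QAff.isAffine_of_prime e hX hobs ?_
    rw [hrange]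
    have hm := K496.RedObs.isMult_res e e' i φ hφ
    have h1 := thmAbi H hH O (K495.GModPt.res i (K495.GModPt.regR e)) hm inferInstance
    have heq : (K495.GModPt.res i (K495.GModPt.regR e)).fixedSubalgebra hm (𝟙 H) =
        K495.ObsPt.rInv ((Groth.Agent.Sga3B.RG.Pt.map (K := k) φ).range :
          Set (Groth.Agent.Sga3B.RG.Pt k O)) := by
      ext x
      exact K496.RedObs.mem_fixedUnder_res e e' i φ hφ x
    have tr : ∀ S S' : Subalgebra k O, S = S' →
        (∀ q : Ideal S, q.IsPrime → ∃ p : Ideal O, p.IsPrime ∧ p.comap S.val = q) →
        ∀ q : Ideal S', q.IsPrime → ∃ p : Ideal O, p.IsPrime ∧ p.comap S'.val = q := by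
      rintro S _ rfl
      exact id
    exact tr _ _ heq h1

end Groth.Agent.S11213
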