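import Groth.Statements.S11214
import Groth.Agent.S11213
import Groth.Agent.S0115
import Groth.Agent.Agf.H584.QBc
import Groth.Agent.AGF.K496.RedImg
import Groth.Agent.AGF.K493.SolvU
import Groth.Agent.AGF.K501.HomPts

set_option autoImplicit false
universe u
open CategoryTheory MonoidalCategory CartesianMonoidalCategory MonObj GrpObj AlgebraicGeometry
open scoped TensorProduct
open AGF

namespace Groth.Agent.S11214

/-- Let k be an algebraically closed field, L a linear algebraic group over k and H a closed subgroup of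
L, with unipotent radicals U_H of H and U_L of L such that U_H ⊆ U_L; let X (with action a and base
point o) be the quotient L/H. Assume the following standard results of geometric invariant theory
for groups with reductive identity component, carried as hypotheses: finite generation of invariants
on finitely generated algebras, and that the quotient map of an affine variety by such a group is
surjective and separates disjoint closed invariant subsets. Then X is affine. -/
theorem result (k : Type u) [Field k] [IsAlgClosed k]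
    (L : Over (Spec (CommRingCat.of k))) [GrpObj L] [IsAffine L.left] [Smooth L.hom]
    (H : Over (Spec (CommRingCat.of k))) [GrpObj H] [Smooth H.hom] (i : H ⟶ L) [IsMonHom i] [IsClosedImmersion i.left]
    (UL : Over (Spec (CommRingCat.of k))) [GrpObj UL] (uL : UL ⟶ L) (hUL : Par.IsUnipotentRadical uL)
    (UH : Over (Spec (CommRingCat.of k))) [GrpObj UH] (uH : UH ⟶ H) (hUH : Par.IsUnipotentRadical uH)
    (f : UH ⟶ UL) (hf : f ≫ uL = uH ≫ i)
    (thmA : VecGrp.ReductiveInvariantsFG k) (thmAbi : AGF.ReductiveQuotSurj k)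
    (thmAbiv : AGF.ReductiveQuotSeparates k)
    (X : Over (Spec (CommRingCat.of k))) (a : AlgGrp.Action L X) (o : 𝟙_ (Over (Spec (CommRingCat.of k))) ⟶ X) (hX : AGF.IsQuotient i X a o) :
    IsAffine X.left := by
  have hHaff : IsAffine H.left := isAffine_of_isAffineHom i.left
  have hu1 : IsMonHom uL := hUL.1
  have hu2 : IsClosedImmersion uL.left := hUL.2.1
  have hu3 : AlgGrp.IsNormalHom uL := hUL.2.2.1
  have hu4 : Smooth UL.hom := hUL.2.2.2.1
  have hULaff : IsAffine UL.left := isAffine_of_isAffineHom uL.left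
  obtain ⟨hconn, -⟩ := (K501.RadSch.fib_iff UL).1 hUL.2.2.2.2.2.1
  have hh1 : IsMonHom uH := hUH.1
  have hh2 : IsClosedImmersion uH.left := hUH.2.1
  have hh4 : Smooth UH.hom := hUH.2.2.2.1
  obtain ⟨O, _, _, e, he, hft, hred⟩ := K495.Bridge.exists_data L
  obtain ⟨B, _, _, e', he', φ, hftB, hredB, hφs, hφ⟩ := K495.Bridge.exists_hom_data e i
  have hUR := K501.RadSch.isUR_ptsSub e hUL
  have hURH := K501.RadSch.isUR_ptsSub e' hUH
  rw [← K496.URDict.psub_eq_ptsSub e uL] at hUR
  rw [← K496.URDict.psub_eq_ptsSub e' uH] at hURH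
  -- the unipotent radical of `L` is solvable
  have hsolv : Red.IsSolvableGrp UL := by
    have h1 : IsClosedImmersion (uL ≫ e.hom).left := by
      rw [Over.comp_left]
      have : IsIso e.hom.left := (Over.forget _).map_isIso e.hom
      infer_instance
    rw [Groth.Agent.Sga3B.Parab.BorelPts172.isSolvableGrp_iff (uL ≫ e.hom),
      ← K496.URDict.psub_eq_ptsSub e uL]
    exact (K493.SolvU.isCCS_of_isUnip hUR.isCl hUR.isConn hUR.isUnip).isSolvable
  have hUaff := Groth.Agent.Agf.H584.QBc.affQuot_of_isSolvableGrp UL hsolv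
  -- the quotient `Q = L/U_L`
  obtain ⟨Q, _, π, hπ, hQaff, hQlft, hπf, hπs, hker⟩ := Groth.Agent.S3278.result k L UL uL hu3
  have hπqc : QuasiCompact π.left := Groth.Agent.Agf.H584.QBasic.quasiCompact_left π
  have hπfp := Groth.Agent.Agf.H586.QuotSep.lfp_left π
  have hQsm : Smooth Q.hom := by
    have h1 : Smooth (π.left ≫ Q.hom) := by rw [Over.w]; infer_instance
    exact Groth.Agent.S0115.result π.left Q.hom
  have hker' : ∀ {T : Over (Spec (CommRingCat.of k))} (g : T ⟶ L), g ≫ π = 1 ↔
      ∃ δ : T ⟶ UL, δ ≫ uL = g := by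
    intro T g
    constructor
    · intro h
      obtain ⟨δ, hδ, -⟩ := hker.exists_lift g (toUnit T) (by rw [h]; rfl)
      exact ⟨δ, hδ⟩
    · rintro ⟨δ, rfl⟩
      rw [Category.assoc, hker.w, ← Category.assoc, Hom.one_def]
      congr 1
      exact toUnit_unique _ _
  -- the image `C` of `H` in `Q`
  have hlftH : LocallyOfFiniteType H.hom := inferInstance
  have huqc : QuasiCompact (i ≫ π).left := Groth.Agent.Agf.H584.QBasic.quasiCompact_left (i ≫ π)
  have hflH : Flat H.hom := Groth.Agent.Agf.H584.QExt.flat_hom H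
  obtain ⟨C, _, c, j, hc1, hj1, hcj, hc2, hc3, hc4, hj2⟩ := Groth.Agent.S3034.result k H Q (i ≫ π)
    (inferInstanceAs (Flat (Y := Spec (CommRingCat.of k)) _))
  have hjm : Mono j := Over.mono_of_mono_left j
  have hCaff : IsAffine C.left := isAffine_of_isAffineHom j.left
  have hClft : LocallyOfFiniteType C.hom := Groth.Agent.Agf.H584.QExt.lft_of_closed j
  have hc5 : QuasiCompact c.left := Groth.Agent.Agf.H584.QBasic.quasiCompact_left c
  have hCsm : Smooth C.hom := by
    have h1 : Smooth (c.left ≫ C.hom) := by rw [Over.w]; infer_instance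
    exact Groth.Agent.S0115.result c.left C.hom
  -- `C` is reductive
  have hCred : VecGrp.IsReductiveGrp k C := by
    obtain ⟨D, _, _, eC, heC, hftD, hredD⟩ := K495.Bridge.exists_data C
    have h1 : IsMonHom (e'.inv ≫ c ≫ eC.hom) := inferInstance
    obtain ⟨ψ, hψ⟩ := Groth.Agent.Books.AffBridge.exists_bialgHom_of_isMonHom k (e'.inv ≫ c ≫ eC.hom)
    have h2 : c ≫ eC.hom = e'.hom ≫ Groth.Agent.Books.AffBridge.specMap k (ψ : D →ₐ[k] B) := by
      rw [hψ, Iso.hom_inv_id_assoc]
    have hψs : Function.Surjective (Groth.Agent.Sga3B.RG.Pt.map (K := k) ψ) :=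
      K501.HomPts.ptMap_surjective (e := e') (e' := eC) (π := c) hψ.symm
    have hpt : ∀ h : VecGrp.pt k k ⟶ H, Groth.Agent.Sga3B.RG.Pt.map ψ (K495.Bridge.ptE e' k h) = 1 ↔
        h ≫ c = 1 := by
      intro h
      have h3 : K495.Bridge.ptE eC k (h ≫ c) =
          Groth.Agent.Sga3B.RG.Pt.map ψ (K495.Bridge.ptE e' k h) :=
        K495.Bridge.ptE_comp eC e' c ψ h2 h
      rw [← h3, ← map_one (K495.Bridge.ptE eC k), (K495.Bridge.ptE eC k).injective.eq_iff]
    refine K496.RedImg.isReductiveGrp_of_isRedPt eC (K496.RedImg.isRedPt_of_ker ψ hψs ?_ ?_)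
    · intro g hg
      obtain ⟨h, rfl⟩ := (K495.Bridge.ptE e' k).surjective g
      have h3 : h ≫ c = 1 := (hpt h).1 hg
      have h4 : (h ≫ i) ≫ π = 1 := by
        rw [Category.assoc, ← hcj, ← Category.assoc, h3, MonObj.one_comp]
      obtain ⟨δ, hδ⟩ := (hker' _).1 h4
      have h5 : K495.Bridge.ptE e k (h ≫ i) ∈ K495.Bridge.psub e uL := by
        rw [K495.Bridge.ptE_mem_psub]
        exact ⟨δ, hδ⟩
      have h6 := hUR.isUnip _ h5
      rw [K495.Bridge.ptE_comp e e' i φ hφ] at h6
      exact (Groth.Agent.Sga3B.RG.isUnip_map_iff hφs).1 h6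
    · rintro M ⟨hM1, hM2, hM3, hM4⟩ g hg
      have h3 := hURH.max M ⟨hM1, hM2, hM3, hM4⟩ hg
      obtain ⟨v, rfl⟩ := h3
      rw [MonoidHom.mem_ker, hpt, ← cancel_mono j, Category.assoc, Category.assoc, hcj,
        ← Category.assoc uH, ← hf, Category.assoc, MonObj.one_comp, ← Category.assoc]
      exact (hker' _).2 ⟨v ≫ f, rfl⟩
  -- `Q/C` is affine
  obtain ⟨Y, aY, oY, hY1, hY2, hY3, hY4, hY5⟩ := Groth.Agent.S3279.result k Q C j
  have hYq : AGF.IsQuotient j Y aY oY := ⟨hY1, hY3, hY4, hY5⟩
  have hYaff : IsAffine Y.left :=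
    (Groth.Agent.S11213.result k Q C j hCred thmA thmAbi thmAbiv Y aY oY hYq).2
  have hp := Groth.Agent.Agf.H584.QBasic.isQ_of_isQuotient hX
  have hq := Groth.Agent.Agf.H584.QBasic.isQ_of_isQuotient hYq
  -- the intersection
  have hmi : Mono i := Over.mono_of_mono_left i
  have hmu : Mono uL := Over.mono_of_mono_left uL
  obtain ⟨E, _, b, b', hb, hb', hE⟩ := Groth.Agent.Sga3B.Parab.Inter.exists_inter uL i
  have hacl : IsClosedImmersion b.left :=
    Groth.Agent.Agf.H584.QExt.of_isPullback' (P := @IsClosedImmersion) hE.flip inferInstance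
  obtain ⟨W, w, hw⟩ := Groth.Agent.Agf.H584.QExt.exists_isQ b hacl
  have hW : IsAffine W.left := hUaff E W b w hacl hw
  obtain ⟨g, hg⟩ := hp.desc (π ≫ aY.orbitMap oY) (fun g x => by
    rw [← Category.assoc, MonObj.mul_comp, Category.assoc x, ← hcj, ← Category.assoc x, hq.mul_comp,
      Category.assoc])
  have := Groth.Agent.Agf.H584.QExt.isAffineHom_left (d := uL) (π := π) hker' (i := i) (c := c)
    (j := j) hcj hp hq hE hw hg
  exact isAffine_of_isAffineHom g.left

end Groth.Agent.S11214
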