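import Groth.Statements.S11216
import Groth.Agent.Grpsch.Transl
import Groth.Agent.AGF.K497.HtTwo
import Groth.Agent.AGF.K497.OpenRange

set_option autoImplicit false
universe u
open CategoryTheory MonoidalCategory CartesianMonoidalCategory MonObj GrpObj AlgebraicGeometry
open scoped TensorProduct
open AGF

namespace Groth.Agent.S11216

section aux

variable {k : Type u} [Field k] {G H : Over (Spec (CommRingCat.of k))} [GrpObj G]

/-- the structure map of the ring of global functions -/
noncomputable def cst (X : Over (Spec (CommRingCat.of k))) : k →+* Γ(X.left, ⊤) :=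
  ((Scheme.ΓSpecIso (CommRingCat.of k)).inv ≫ X.hom.appTop).hom

theorem cst_finiteType (X : Over (Spec (CommRingCat.of k))) [IsAffine X.left] [LocallyOfFiniteType X.hom] :
    (cst X).FiniteType := by
  have h1 : X.hom.appTop.hom.FiniteType := HasRingHomProperty.appTop (P := @LocallyOfFiniteType) X.hom inferInstance
  have h2 : (Scheme.ΓSpecIso (CommRingCat.of k)).inv.hom.FiniteType :=
    RingHom.FiniteType.of_surjective _ (ConcreteCategory.bijective_of_isIso (Scheme.ΓSpecIso (CommRingCat.of k)).inv).2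
  exact h1.comp h2

theorem comp_cst {X Y : Over (Spec (CommRingCat.of k))} (f : X ⟶ Y) :
    f.left.appTop.hom.comp (cst Y) = cst X := by
  rw [cst, cst, ← CommRingCat.hom_comp, Category.assoc, ← Scheme.Hom.comp_appTop, Over.w f]

theorem cst_mem (i : H ⟶ G) (c : k) : cst G c ∈ rTransInv i := by
  rw [mem_rTransInv_iff, IsRTransInv]
  have h1 := congrArg (fun φ => φ c) (comp_cst ((G ◁ i) ≫ μ[G]))
  have h2 := congrArg (fun φ => φ c) (comp_cst (fst G H))
  simp only [RingHom.comp_apply] at h1 h2
  exact h1.trans h2.symm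

/-- the structure map of the ring of invariants -/
noncomputable def cstR (i : H ⟶ G) : k →+* rTransInv i := (cst G).codRestrict _ (cst_mem i)

theorem cstR_finiteType (i : H ⟶ G) (hfg : AGF.SubringFGOver k G (AGF.rTransInv i)) :
    (cstR i).FiniteType := by
  classical
  obtain ⟨s, hs, hle⟩ := hfg
  let _ : Algebra k (rTransInv i) := (cstR i).toAlgebra
  change Algebra.FiniteType k (rTransInv i)
  refine ⟨⟨s.attach.image (fun x => (⟨x.1, hs x.2⟩ : rTransInv i)), ?_⟩⟩
  rw [eq_top_iff]
  rintro r -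
  have hsub : Subring.closure
      (Set.range (fun c : k => G.hom.appTop ((Scheme.ΓSpecIso (CommRingCat.of k)).inv c)) ∪ (↑s : Set Γ(G.left, ⊤))) ≤
      ((Algebra.adjoin k ((s.attach.image (fun x => (⟨x.1, hs x.2⟩ : rTransInv i)) : Finset (rTransInv i)) :
        Set (rTransInv i))).toSubring).map (rTransInv i).subtype := by
    rw [Subring.closure_le]
    rintro x (⟨c, rfl⟩ | hx)
    · exact ⟨algebraMap k (rTransInv i) c, Subalgebra.algebraMap_mem _ c, rfl⟩
    · refine ⟨⟨x, hs hx⟩, Algebra.subset_adjoin ?_, rfl⟩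
      rw [Finset.mem_coe, Finset.mem_image]
      exact ⟨⟨x, hx⟩, Finset.mem_attach _ _, rfl⟩
  obtain ⟨r', hr', he⟩ := hsub (hle r.2)
  have : r' = r := Subtype.ext he
  rw [← this]
  exact hr'

theorem isNoetherianRing_of (i : H ⟶ G) (hfg : AGF.SubringFGOver k G (AGF.rTransInv i)) :
    IsNoetherianRing (rTransInv i) := by
  let _ : Algebra k (rTransInv i) := (cstR i).toAlgebra
  have : Algebra.FiniteType k (rTransInv i) := cstR_finiteType i hfg
  exact Algebra.FiniteType.isNoetherianRing k _

theorem subtype_finitePresentation (i : H ⟶ G) [IsAffine G.left] [LocallyOfFiniteType G.hom]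
    (hfg : AGF.SubringFGOver k G (AGF.rTransInv i)) :
    (rTransInv i).subtype.FinitePresentation := by
  have := isNoetherianRing_of i hfg
  rw [← RingHom.FinitePresentation.of_finiteType]
  exact RingHom.FiniteType.of_comp_finiteType (f := cstR i) (g := (rTransInv i).subtype) (cst_finiteType G)

theorem appTop_comp {X Y Z : Over (Spec (CommRingCat.of k))} (f : X ⟶ Y) (g : Y ⟶ Z) (a : Γ(Z.left, ⊤)) :
    f.left.appTop (g.left.appTop a) = (f ≫ g).left.appTop a := by
  rw [Over.comp_left, Scheme.Hom.comp_appTop]; rfl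

theorem whisker_mu (i : H ⟶ G) : (G ◁ i) ≫ μ[G] = fst G H * (snd G H ≫ i) := by
  rw [Hom.mul_def]
  congr 1

open Groth.Agent.Grpsch.Transl in
/-- left translation preserves the right invariants -/
theorem leftTr_mem (i : H ⟶ G) (g : 𝟙_ (Over (Spec (CommRingCat.of k))) ⟶ G) (f : Γ(G.left, ⊤))
    (hf : f ∈ rTransInv i) : (leftTr G g).hom.left.appTop f ∈ rTransInv i := by
  rw [mem_rTransInv_iff, IsRTransInv] at hf ⊢
  have h2 : ((leftTr G g).hom ▷ H) ≫ fst G H = fst G H ≫ (leftTr G g).hom := by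
    simp
  have h3 : ((leftTr G g).hom ▷ H) ≫ snd G H = snd G H := by
    simp
  have h1 : ((G ◁ i) ≫ μ[G]) ≫ (leftTr G g).hom = ((leftTr G g).hom ▷ H) ≫ (G ◁ i) ≫ μ[G] := by
    rw [whisker_mu, comp_leftTr, MonObj.comp_mul, h2, comp_leftTr, ← Category.assoc, h3, _root_.mul_assoc]
  rw [appTop_comp, appTop_comp, h1, ← h2, ← appTop_comp, hf, appTop_comp]

open Groth.Agent.Grpsch.Transl in
/-- The ring map of the invariants induced by a left translation. -/
noncomputable def trR (i : H ⟶ G) (g : 𝟙_ (Over (Spec (CommRingCat.of k))) ⟶ G) : rTransInv i →+* rTransInv i :=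
  ((leftTr G g).hom.left.appTop.hom.comp (rTransInv i).subtype).codRestrict _ (fun f => leftTr_mem i g f f.2)

open Groth.Agent.Grpsch.Transl in
theorem trR_trR (i : H ⟶ G) (g h : 𝟙_ (Over (Spec (CommRingCat.of k))) ⟶ G) (hgh : h * g = 1)
    (f : rTransInv i) : trR i g (trR i h f) = f := by
  apply Subtype.ext
  change (leftTr G g).hom.left.appTop ((leftTr G h).hom.left.appTop (f : Γ(G.left, ⊤))) = f
  rw [appTop_comp]
  have : (leftTr G g).hom ≫ (leftTr G h).hom = 𝟙 G := by
    rw [comp_leftTr, leftTr_hom, ← _root_.mul_assoc, ← MonObj.comp_mul, hgh, MonObj.comp_one,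
      _root_.one_mul]
  rw [this]
  simp

open Groth.Agent.Grpsch.Transl in
/-- The morphism `G ⟶ Spec k[G]^H`. -/
noncomputable def phi (i : H ⟶ G) : G.left ⟶ Spec (CommRingCat.of (rTransInv i)) :=
  G.left.toSpecΓ ≫ Spec.map (CommRingCat.ofHom (AGF.rTransInv i).subtype)

open Groth.Agent.Grpsch.Transl in
theorem phi_equivariant (i : H ⟶ G) (g : 𝟙_ (Over (Spec (CommRingCat.of k))) ⟶ G) :
    (leftTr G g).hom.left ≫ phi i = phi i ≫ Spec.map (CommRingCat.ofHom (trR i g)) := by
  rw [phi, Category.assoc, ← Spec.map_comp, ← Category.assoc, Scheme.toSpecΓ_naturality, Category.assoc,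
    ← Spec.map_comp]
  rfl

open Groth.Agent.Grpsch.Transl in
theorem isOpenMap_trR (i : H ⟶ G) (g : 𝟙_ (Over (Spec (CommRingCat.of k))) ⟶ G) :
    IsOpenMap (Spec.map (CommRingCat.ofHom (trR i g))).base := by
  have : IsIso (CommRingCat.ofHom (trR i g)) := by
    refine ⟨CommRingCat.ofHom (trR i g⁻¹), ?_, ?_⟩
    · ext f
      exact congrArg Subtype.val (trR_trR i g⁻¹ g (mul_inv_cancel g) f)
    · ext f
      exact congrArg Subtype.val (trR_trR i g g⁻¹ (inv_mul_cancel g) f)
  exact (Spec.map (CommRingCat.ofHom (trR i g))).isOpenEmbedding.isOpenMap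

end aux

theorem result (k : Type u) [Field k] [IsAlgClosed k]
    (G : Over (Spec (CommRingCat.of k))) [GrpObj G] [IsAffine G.left] [Smooth G.hom]
    (H : Over (Spec (CommRingCat.of k))) [GrpObj H] [Smooth H.hom] (i : H ⟶ G) [IsMonHom i]
    [IsClosedImmersion i.left]
    (hobs : AGF.IsObservableIn k i) (hfg : AGF.SubringFGOver k G (AGF.rTransInv i)) :
    IsOpen (Set.range ⇑(G.left.toSpecΓ ≫ Spec.map (CommRingCat.ofHom (AGF.rTransInv i).subtype)).base) ∧
      ∀ x : ↥(Spec (CommRingCat.of ↥(AGF.rTransInv i))),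
        x ∉ Set.range ⇑(G.left.toSpecΓ ≫ Spec.map (CommRingCat.ofHom (AGF.rTransInv i).subtype)).base →
          (2 : ℕ∞) ≤ x.asIdeal.height := by
  have hN := isNoetherianRing_of i hfg
  have hR : Set.range (phi i).base = Set.range (PrimeSpectrum.comap (AGF.rTransInv i).subtype) := by
    have hsurj : Function.Surjective G.left.toSpecΓ.base := G.left.toSpecΓ.surjective
    have h1 : ⇑(phi i).base = ⇑(Spec.map (CommRingCat.ofHom (AGF.rTransInv i).subtype)).base ∘ ⇑G.left.toSpecΓ.base := by
      rw [phi]; rfl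
    rw [h1, Set.range_comp, hsurj.range_eq, Set.image_univ]
    rfl
  have hJ : JacobsonSpace G.left := LocallyOfFiniteType.jacobsonSpace G.hom
  have hne : Nonempty (⊤ : G.left.Opens) := ⟨⟨η[G].left.base (IsLocalRing.closedPoint k), trivial⟩⟩
  have hA : Nontrivial Γ(G.left, ⊤) := inferInstance
  have hopen : IsOpen (Set.range (phi i).base) := by
    apply K497.OpenRange.isOpen_range _ (phi i).continuous
    · rw [hR]
      exact K497.OpenRange.interior_range_nonempty _ Subtype.val_injective (subtype_finitePresentation i hfg)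
    · intro x y hx hy
      obtain ⟨g, hg⟩ : ∃ g : 𝟙_ (Over (Spec (CommRingCat.of k))) ⟶ G,
          Groth.Agent.Grpsch.Transl.pt G x hx ≫ (Groth.Agent.Grpsch.Transl.leftTr G g).hom =
            Groth.Agent.Grpsch.Transl.pt G y hy :=
        ⟨Groth.Agent.Grpsch.Transl.pt G y hy * (Groth.Agent.Grpsch.Transl.pt G x hx)⁻¹, by
          rw [Groth.Agent.Grpsch.Transl.point_leftTr, inv_mul_cancel_right]⟩
      refine ⟨(Groth.Agent.Grpsch.Transl.leftTr G g).hom.left.base, _, isOpenMap_trR i g, ?_, ?_⟩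
      · have h1 := Groth.Agent.Grpsch.Transl.pt_apply G x hx
        have h2 := Groth.Agent.Grpsch.Transl.pt_apply G y hy
        rw [← hg] at h2
        rw [← h2]
        conv_lhs => rw [← h1]
        rfl
      · intro z
        have h1 := congrArg (fun (f : G.left ⟶ Spec (CommRingCat.of (rTransInv i))) => f.base z) (phi_equivariant i g)
        exact h1
  refine ⟨hopen, fun x hx => ?_⟩
  change IsOpen (Set.range (phi i).base) at hopen
  change x ∉ Set.range (phi i).base at hx
  rw [hR] at hopen hx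
  exact @K497.HtTwo.two_le_height _ _ _ _ ((G ◁ i) ≫ μ[G]).left.appTop.hom (fst G H).left.appTop.hom hN hopen x hx

end Groth.Agent.S11216
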