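import Groth.Statements.S11217
import Mathlib.Algebra.MvPolynomial.PDeriv

set_option autoImplicit false
universe u
open CategoryTheory MonoidalCategory CartesianMonoidalCategory MonObj GrpObj AlgebraicGeometry
open scoped TensorProduct
open AGF

namespace Groth.Agent.S11217

theorem derivation_sum_apply {k : Type u} [Field k] {A : Type u} [CommRing A] [Algebra k A]
    {J : Type} (s : Finset J) (D : J → Derivation k A A) (x : A) :
    (∑ i ∈ s, D i) x = ∑ i ∈ s, D i x := by
  have h := map_sum (Derivation.coeFnAddMonoidHom : Derivation k A A →+ (A → A)) D s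
  exact (congrFun h x).trans (Finset.sum_apply _ _ _)

/-- the derivation with prescribed values on the variables is the sum of the partial derivatives -/
theorem mkDerivation_eq_sum (k : Type u) [Field k] (g : Fin 7 → MvPolynomial (Fin 7) k)
    (f : MvPolynomial (Fin 7) k) :
    MvPolynomial.mkDerivation k g f = ∑ i : Fin 7, MvPolynomial.pderiv i f * g i := by
  have h : MvPolynomial.mkDerivation k g =
      ∑ i : Fin 7, g i • (MvPolynomial.pderiv i : Derivation k (MvPolynomial (Fin 7) k) (MvPolynomial (Fin 7) k)) := by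
    apply MvPolynomial.derivation_ext
    intro j
    rw [MvPolynomial.mkDerivation_X]
    rw [derivation_sum_apply, Finset.sum_eq_single j]
    · simp
    · intro i _ hij
      simp [MvPolynomial.pderiv_X_of_ne hij.symm]
    · simp
  rw [h, derivation_sum_apply]
  refine Finset.sum_congr rfl fun i _ => ?_
  rw [Derivation.smul_apply, smul_eq_mul, _root_.mul_comm]

theorem aux (k : Type u) [Field k] [CharZero k] (m : ℕ) (hm : 2 ≤ m)
    (f : MvPolynomial (Fin 7) k)
    (hδ : MvPolynomial.mkDerivation k
      (![0, 0, 0, MvPolynomial.X 0 ^ (m + 1), MvPolynomial.X 1 ^ (m + 1), MvPolynomial.X 2 ^ (m + 1),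
        (MvPolynomial.X 0 * MvPolynomial.X 1 * MvPolynomial.X 2) ^ m] : Fin 7 → MvPolynomial (Fin 7) k) f = 0)
    (d : Fin 7 →₀ ℕ) (h0 : d 0 = 0) (h1 : d 1 = 0) (h2 : d 2 = 0)
    (hd : MvPolynomial.coeff d f ≠ 0) : d 3 = 0 ∧ d 4 = 0 ∧ d 5 = 0 ∧ d 6 = 0 := by
  classical
  have e3 : (MvPolynomial.X 0 ^ (m + 1) : MvPolynomial (Fin 7) k) = MvPolynomial.monomial (Finsupp.single 0 (m + 1)) 1 := by
    rw [MvPolynomial.X_pow_eq_monomial]
  have e4 : (MvPolynomial.X 1 ^ (m + 1) : MvPolynomial (Fin 7) k) = MvPolynomial.monomial (Finsupp.single 1 (m + 1)) 1 := by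
    rw [MvPolynomial.X_pow_eq_monomial]
  have e5 : (MvPolynomial.X 2 ^ (m + 1) : MvPolynomial (Fin 7) k) = MvPolynomial.monomial (Finsupp.single 2 (m + 1)) 1 := by
    rw [MvPolynomial.X_pow_eq_monomial]
  have e6 : ((MvPolynomial.X 0 * MvPolynomial.X 1 * MvPolynomial.X 2) ^ m : MvPolynomial (Fin 7) k) =
      MvPolynomial.monomial (Finsupp.single 0 m + Finsupp.single 1 m + Finsupp.single 2 m) 1 := by
    rw [mul_pow, mul_pow, MvPolynomial.X_pow_eq_monomial, MvPolynomial.X_pow_eq_monomial,
      MvPolynomial.X_pow_eq_monomial, MvPolynomial.monomial_mul, MvPolynomial.monomial_mul]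
    simp
  rw [mkDerivation_eq_sum, e3, e4, e5, e6] at hδ
  have key : ∀ e : Fin 7 →₀ ℕ,
      (if Finsupp.single 0 (m + 1) ≤ e then MvPolynomial.coeff (e - Finsupp.single 0 (m + 1)) (MvPolynomial.pderiv 3 f) else 0) +
      ((if Finsupp.single 1 (m + 1) ≤ e then MvPolynomial.coeff (e - Finsupp.single 1 (m + 1)) (MvPolynomial.pderiv 4 f) else 0) +
      ((if Finsupp.single 2 (m + 1) ≤ e then MvPolynomial.coeff (e - Finsupp.single 2 (m + 1)) (MvPolynomial.pderiv 5 f) else 0) +
      (if Finsupp.single 0 m + Finsupp.single 1 m + Finsupp.single 2 m ≤ e then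
        MvPolynomial.coeff (e - (Finsupp.single 0 m + Finsupp.single 1 m + Finsupp.single 2 m)) (MvPolynomial.pderiv 6 f) else 0))) = 0 := by
    intro e
    have := congrArg (MvPolynomial.coeff e) hδ
    rw [MvPolynomial.coeff_sum] at this
    simp only [Fin.sum_univ_succ, Fin.sum_univ_zero] at this
    simpa [MvPolynomial.coeff_mul_monomial'] using this
  -- the coefficient of a partial derivative
  have pd : ∀ j : Fin 7, d j ≠ 0 →
      MvPolynomial.coeff (d - Finsupp.single j 1) (MvPolynomial.pderiv j f) ≠ 0 := by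
    intro j hj
    rw [MvPolynomial.coeff_pderiv]
    have hle : Finsupp.single j 1 ≤ d := by
      rw [Finsupp.single_le_iff]; omega
    rw [tsub_add_cancel_of_le hle]
    refine mul_ne_zero hd ?_
    exact Nat.cast_add_one_ne_zero _
  have sl : ∀ (i : Fin 7) (n : ℕ) (e : Fin 7 →₀ ℕ), e i < n → ¬ Finsupp.single i n ≤ e := by
    intro i n e h hle
    have := Finsupp.single_le_iff.1 hle
    omega
  have ev : ∀ (j i : Fin 7), i ≠ j → (d - Finsupp.single j 1 : Fin 7 →₀ ℕ) i = d i := by
    intro j i hij
    rw [Finsupp.tsub_apply, Finsupp.single_eq_of_ne hij, tsub_zero]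
  refine ⟨?_, ?_, ?_, ?_⟩
  · by_contra hj
    have k1 := key ((d - Finsupp.single 3 1) + Finsupp.single 0 (m + 1))
    have a1 : ((d - Finsupp.single 3 1) + Finsupp.single 0 (m + 1) : Fin 7 →₀ ℕ) 1 = 0 := by
      rw [Finsupp.add_apply, ev 3 1 (by decide), h1]; simp
    have a2 : ((d - Finsupp.single 3 1) + Finsupp.single 0 (m + 1) : Fin 7 →₀ ℕ) 2 = 0 := by
      rw [Finsupp.add_apply, ev 3 2 (by decide), h2]; simp
    rw [if_pos le_add_self, if_neg (sl _ _ _ (by omega)), if_neg (sl _ _ _ (by omega)), if_neg,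
      add_tsub_cancel_right] at k1
    · exact pd 3 hj (by simpa using k1)
    · intro hle
      have := hle 1
      rw [a1] at this
      simp at this
      omega
  · by_contra hj
    have k1 := key ((d - Finsupp.single 4 1) + Finsupp.single 1 (m + 1))
    have a1 : ((d - Finsupp.single 4 1) + Finsupp.single 1 (m + 1) : Fin 7 →₀ ℕ) 0 = 0 := by
      rw [Finsupp.add_apply, ev 4 0 (by decide), h0]; simp
    have a2 : ((d - Finsupp.single 4 1) + Finsupp.single 1 (m + 1) : Fin 7 →₀ ℕ) 2 = 0 := by
      rw [Finsupp.add_apply, ev 4 2 (by decide), h2]; simp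
    rw [if_neg (sl _ _ _ (by omega)), if_pos le_add_self, if_neg (sl _ _ _ (by omega)), if_neg,
      add_tsub_cancel_right] at k1
    · exact pd 4 hj (by simpa using k1)
    · intro hle
      have := hle 0
      rw [a1] at this
      simp at this
      omega
  · by_contra hj
    have k1 := key ((d - Finsupp.single 5 1) + Finsupp.single 2 (m + 1))
    have a1 : ((d - Finsupp.single 5 1) + Finsupp.single 2 (m + 1) : Fin 7 →₀ ℕ) 0 = 0 := by
      rw [Finsupp.add_apply, ev 5 0 (by decide), h0]; simp
    have a2 : ((d - Finsupp.single 5 1) + Finsupp.single 2 (m + 1) : Fin 7 →₀ ℕ) 1 = 0 := by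
      rw [Finsupp.add_apply, ev 5 1 (by decide), h1]; simp
    rw [if_neg (sl _ _ _ (by omega)), if_neg (sl _ _ _ (by omega)), if_pos le_add_self, if_neg,
      add_tsub_cancel_right] at k1
    · exact pd 5 hj (by simpa using k1)
    · intro hle
      have := hle 0
      rw [a1] at this
      simp at this
      omega
  · by_contra hj
    have k1 := key ((d - Finsupp.single 6 1) + (Finsupp.single 0 m + Finsupp.single 1 m + Finsupp.single 2 m))
    have a0 : ((d - Finsupp.single 6 1) + (Finsupp.single 0 m + Finsupp.single 1 m + Finsupp.single 2 m) : Fin 7 →₀ ℕ) 0 = m := by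
      rw [Finsupp.add_apply, ev 6 0 (by decide), h0]; simp
    have a1 : ((d - Finsupp.single 6 1) + (Finsupp.single 0 m + Finsupp.single 1 m + Finsupp.single 2 m) : Fin 7 →₀ ℕ) 1 = m := by
      rw [Finsupp.add_apply, ev 6 1 (by decide), h1]; simp
    have a2 : ((d - Finsupp.single 6 1) + (Finsupp.single 0 m + Finsupp.single 1 m + Finsupp.single 2 m) : Fin 7 →₀ ℕ) 2 = m := by
      rw [Finsupp.add_apply, ev 6 2 (by decide), h2]; simp
    rw [if_neg (sl _ _ _ (by omega)), if_neg (sl _ _ _ (by omega)), if_neg (sl _ _ _ (by omega)), if_pos le_add_self,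
      add_tsub_cancel_right] at k1
    exact pd 6 hj (by simpa using k1)

/-- Let k be a field of characteristic zero and m ≥ 2; in the polynomial ring k[x, y, z, s, t, u, v]
(variables 0, …, 6) let δ be the k-derivation with δ(x) = δ(y) = δ(z) = 0, δ(s) = x^(m+1), δ(t) =
y^(m+1), δ(u) = z^(m+1), δ(v) = (xyz)^m, and grade by total degree in s, t, u, v. If f is
homogeneous of degree n ≥ 1 for this grading and δ(f) = 0, then every coefficient of f, as a
polynomial in s, t, u, v over k[x, y, z], lies in the ideal (x, y, z): every monomial of f has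
positive degree in x, y, z. (The published statement allows n = 0, where the constant 1 is a
counterexample; this row assumes n ≥ 1. The published definition of the derivation gives δ(v) =
(xyz)^(m+1), for which the assertion fails: v − (yz)^(m+1)·s is killed by δ and has the monomial v
with coefficient 1; this row uses δ(v) = (xyz)^m, the exponent of the published action formula and
of the published examples of invariants.) -/
theorem result (k : Type u) [Field k] [CharZero k] (m : ℕ) (hm : 2 ≤ m) (n : ℕ) (hn : 1 ≤ n)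
    (f : MvPolynomial (Fin 7) k)
    (hf : MvPolynomial.IsWeightedHomogeneous (![0, 0, 0, 1, 1, 1, 1] : Fin 7 → ℕ) f n)
    (hδ : MvPolynomial.mkDerivation k
      (![0, 0, 0, MvPolynomial.X 0 ^ (m + 1), MvPolynomial.X 1 ^ (m + 1), MvPolynomial.X 2 ^ (m + 1),
        (MvPolynomial.X 0 * MvPolynomial.X 1 * MvPolynomial.X 2) ^ m] : Fin 7 → MvPolynomial (Fin 7) k) f = 0) :
    ∀ d ∈ f.support, 0 < d 0 + d 1 + d 2 := by
  classical
  intro d hd
  by_contra hcon
  have h012 : d 0 = 0 ∧ d 1 = 0 ∧ d 2 = 0 := by omega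
  obtain ⟨h0, h1, h2⟩ := h012
  have hcoef : MvPolynomial.coeff d f ≠ 0 := MvPolynomial.mem_support_iff.1 hd
  have hw := hf hcoef
  obtain ⟨h3, h4, h5, h6⟩ := aux k m hm f hδ d h0 h1 h2 hcoef
  have hd0 : d = 0 := by
    ext i
    fin_cases i <;> simp_all
  rw [hd0] at hw
  simp at hw
  omega

end Groth.Agent.S11217
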