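import Groth.Statements.S11221
import Mathlib.RingTheory.Ideal.AssociatedPrime.Localization
import Mathlib.RingTheory.Ideal.Height

set_option autoImplicit false
universe u
open CategoryTheory MonoidalCategory CartesianMonoidalCategory MonObj GrpObj AlgebraicGeometry
open scoped TensorProduct
open AGF

namespace Groth.Agent.S11221

/-- Let R be a Noetherian integrally closed domain with fraction field K and let p be a prime ideal of R
of height one. Then there is f ∈ K which is not in R but lies in the local ring R_q ⊆ K of every
height-one prime q ≠ p (f = a/b with b ∉ q): a rational function on Spec R with a pole along V(p)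
only. (The published statement is for the coordinate ring of a normal affine variety; this row is
for any Noetherian integrally closed domain, which is all the argument uses.) -/
theorem result (R : Type u) [CommRing R] [IsDomain R] [IsNoetherianRing R] [IsIntegrallyClosed R]
    (p : Ideal R) [p.IsPrime] (hp : p.height = 1) :
    ∃ f : FractionRing R, f ∉ Set.range ⇑(algebraMap R (FractionRing R)) ∧
      ∀ q : Ideal R, q.IsPrime → q.height = 1 → q ≠ p →
        ∃ a b : R, b ∉ q ∧ f * algebraMap R (FractionRing R) b = algebraMap R (FractionRing R) a := by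
  classical
  have hp0 : p ≠ ⊥ := Ideal.ne_bot_of_height_eq_one hp
  obtain ⟨a, hap, ha0⟩ := Submodule.exists_mem_ne_zero_of_ne_bot hp0
  -- `p` is a minimal prime over `(a)`
  have hmin : p ∈ (Ideal.span {a}).minimalPrimes := by
    refine ⟨⟨‹_›, by rwa [Ideal.span_singleton_le_iff_mem]⟩, ?_⟩
    rintro q ⟨hq, haq⟩ hqp
    by_contra hne
    have hlt : q < p := lt_of_le_not_ge hqp hne
    have h1 := Ideal.height_add_one_le_of_lt_of_isPrime hlt
    rw [hp] at h1
    have h0 : q.height = 0 := by
      have : q.height + 1 ≤ 0 + 1 := by simpa using h1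
      exact le_antisymm ((ENat.add_le_add_iff_right ENat.one_ne_top).1 this) bot_le
    rw [Ideal.height_eq_zero_iff_eq_bot] at h0
    subst h0
    exact ha0 (by simpa using haq (Ideal.subset_span (Set.mem_singleton a)))
  -- hence an associated prime of `R/(a)`
  have hass : p ∈ associatedPrimes R (R ⧸ Ideal.span {a}) := by
    apply Module.associatedPrimes.minimalPrimes_annihilator_subset_associatedPrimes
    rwa [Ideal.annihilator_quotient]
  obtain ⟨_, x, hx⟩ := isAssociatedPrime_iff.1 hass
  obtain ⟨b, rfl⟩ := Ideal.Quotient.mk_surjective x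
  have key : ∀ s : R, s ∈ p ↔ s * b ∈ Ideal.span {a} := by
    intro s
    rw [hx, Submodule.mem_colon_singleton, Submodule.mem_bot, ← Ideal.Quotient.eq_zero_iff_mem,
      map_mul, ← smul_eq_mul, ← algebraMap_smul (R ⧸ Ideal.span {a}) s, Ideal.Quotient.algebraMap_eq]
  have haK : algebraMap R (FractionRing R) a ≠ 0 := by
    simpa using ha0
  refine ⟨algebraMap R (FractionRing R) b / algebraMap R (FractionRing R) a, ?_, ?_⟩
  · rintro ⟨c, hc⟩
    rw [eq_div_iff haK, ← map_mul] at hc
    have hcb : c * a = b := IsFractionRing.injective R (FractionRing R) hc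
    have h1 : (1 : R) ∈ p := by
      rw [key, _root_.one_mul, ← hcb]
      exact Ideal.mul_mem_left _ _ (Ideal.subset_span (Set.mem_singleton a))
    exact (Ideal.IsPrime.ne_top ‹p.IsPrime›) ((Ideal.eq_top_iff_one _).2 h1)
  · intro q hq hq1 hqp
    have hnle : ¬ p ≤ q := by
      intro hle
      rcases hle.lt_or_eq with hlt | heq
      · have h1 := Ideal.height_add_one_le_of_lt_of_isPrime hlt
        rw [hp, hq1] at h1
        exact absurd h1 (by decide)
      · exact hqp heq.symm
    obtain ⟨s, hsp, hsq⟩ := SetLike.not_le_iff_exists.1 hnle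
    obtain ⟨c, hc⟩ := Ideal.mem_span_singleton'.1 ((key s).1 hsp)
    refine ⟨c, s, hsq, ?_⟩
    rw [div_mul_eq_mul_div, div_eq_iff haK, ← map_mul, ← map_mul, hc, mul_comm]

end Groth.Agent.S11221
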