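import Groth.Statements.S11222
import Groth.Agent.S11212
import Groth.Agent.S11195
import Groth.Agent.S11207
import Groth.Agent.S11204

set_option autoImplicit false
universe u
open CategoryTheory MonoidalCategory CartesianMonoidalCategory MonObj GrpObj AlgebraicGeometry
open scoped TensorProduct
open AGF

namespace Groth.Agent.S11222

/-- Let k be an algebraically closed field, L a linear algebraic group over k, G a closed subgroup of L
whose identity component is reductive, H a closed subgroup of G which is observable in G with k[G]^H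
finitely generated over the constants (a Grosshans subgroup of G), and G₁ a closed subgroup of L,
observable in L, containing H (i₁ : H → G₁ compatible with the inclusions into L). Assume the
following standard results of geometric invariant theory for groups with reductive identity
component, carried as hypotheses: finite generation of invariants on finitely generated algebras,
and that the quotient map of an affine variety by such a group separates disjoint closed invariant
subsets. Then H is observable in G₁ and k[G₁]^H is finitely generated over the constants (H is a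
Grosshans subgroup of G₁). -/
theorem result (k : Type u) [Field k] [IsAlgClosed k]
    (L : Over (Spec (CommRingCat.of k))) [GrpObj L] [IsAffine L.left] [Smooth L.hom]
    (G : Over (Spec (CommRingCat.of k))) [GrpObj G] [Smooth G.hom] (jG : G ⟶ L) [IsMonHom jG] [IsClosedImmersion jG.left]
    (hG : VecGrp.IsReductiveGrp k G)
    (H : Over (Spec (CommRingCat.of k))) [GrpObj H] [Smooth H.hom] (i : H ⟶ G) [IsMonHom i]
    [IsClosedImmersion i.left]
    (hH : AGF.IsObservableIn k i) (hfg : AGF.SubringFGOver k G (AGF.rTransInv i))
    (G₁ : Over (Spec (CommRingCat.of k))) [GrpObj G₁] [Smooth G₁.hom] (j₁ : G₁ ⟶ L) [IsMonHom j₁] [IsClosedImmersion j₁.left]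
    (hG₁ : AGF.IsObservableIn k j₁) (i₁ : H ⟶ G₁) [IsMonHom i₁] (hc : i₁ ≫ j₁ = i ≫ jG)
    (thmA : VecGrp.ReductiveInvariantsFG k) (thmAbiv : AGF.ReductiveQuotSeparates k) :
    AGF.IsObservableIn k i₁ ∧ AGF.SubringFGOver k G₁ (AGF.rTransInv i₁) := by
  have haffG : IsAffine G.left := isAffine_of_isAffineHom jG.left
  have haffH : IsAffine H.left := isAffine_of_isAffineHom i.left
  have haffG₁ : IsAffine G₁.left := isAffine_of_isAffineHom j₁.left
  have hobsG : AGF.IsObservableIn k jG := Groth.Agent.S11212.result k L G jG hG thmA thmAbiv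
  have hobsL : AGF.IsObservableIn k (i ≫ jG) := Groth.Agent.S11195.result k L G jG H i hH hobsG
  have hcl : IsClosedImmersion i₁.left := by
    have h1 : IsClosedImmersion (i₁.left ≫ j₁.left) := by
      have h2 : i₁.left ≫ j₁.left = i.left ≫ jG.left := by
        rw [← Over.comp_left, hc, Over.comp_left]
      rw [h2]
      infer_instance
    exact IsClosedImmersion.of_comp i₁.left j₁.left
  obtain ⟨O, _, _, e, he, hft, hred⟩ := K495.Bridge.exists_data L
  obtain ⟨C, _, _, e', he', φ, hft', hred', hφs, hφ⟩ := K495.Bridge.exists_hom_data e jG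
  have hm := K496.RedObs.isMult_res e e' jG φ hφ
  have h1 := (Groth.Agent.S11207.result k G H i hG thmA).1 hfg O
    (K495.GModPt.res jG (K495.GModPt.regR e)) hm
  rw [K496.Transfer.fixedSubalgebra_eq e', ← Subalgebra.fg_iff_finiteType] at h1
  have h2 : K496.Transfer.fixS _ (K496.Transfer.isMulRep_rep e' hm)
      (K495.Bridge.psub e' i : Set (Groth.Agent.Sga3B.RG.Pt k C)) =
      K495.ObsPt.rInv (K495.Bridge.psub e (i ≫ jG) : Set (Groth.Agent.Sga3B.RG.Pt k O)) := by
    ext a
    rw [K495.ObsPt.mem_rInv_iff_rTr, K496.Transfer.mem_fixS,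
      K495.Bridge.psub_comp_eq_map e jG e' φ hφ]
    constructor
    · rintro h _ ⟨p, hp, rfl⟩
      have h3 := h p hp
      rw [K496.RedObs.rep_res_regR e e' jG φ hφ] at h3
      exact h3
    · intro h p hp
      rw [K496.RedObs.rep_res_regR e e' jG φ hφ]
      exact h _ ⟨p, hp, rfl⟩
  rw [h2, ← K495.SubFG.subringFGOver_rTransInv_iff e] at h1
  have hobs1 : AGF.IsObservableIn k (i₁ ≫ j₁) := by rw [hc]; exact hobsL
  have hfg1 : AGF.SubringFGOver k L (AGF.rTransInv (i₁ ≫ j₁)) := by rw [hc]; exact h1
  exact Groth.Agent.S11204.result k L G₁ j₁ H i₁ hobs1 hG₁ hfg1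

end Groth.Agent.S11222
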