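import Groth.Statements.S11225
import Groth.Agent.AGF.K497.IdRed
import Groth.Agent.AGF.K497.URadPt

set_option autoImplicit false
universe u
open CategoryTheory MonoidalCategory CartesianMonoidalCategory MonObj GrpObj AlgebraicGeometry
open scoped TensorProduct
open AGF

namespace Groth.Agent.S11225

/-- Let k an algebraically closed field, G a linear algebraic group over k (affine, smooth) whose
identity component is reductive, B a Borel subgroup of G with unipotent radical U (a maximal
unipotent subgroup). Assume finite generation of invariants of reductive groups over k on finitely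
generated algebras (a true result which the published text assumes without proof, carried here as a
hypothesis). Let A be a commutative k-algebra with a rational action of G by algebra automorphisms.
If the algebra of invariants A^U is finitely generated over k, then so is A. (The published
statement is the equivalence; its other direction, that A^U is finitely generated whenever A is, is
an earlier result of the same text and is stated separately, so this row states only the direction
from A^U to A.) -/
theorem result (k : Type u) [Field k] [IsAlgClosed k]
    (G : Over (Spec (CommRingCat.of k))) [GrpObj G] (hG : VecGrp.IsReductiveGrp k G)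
    (Bo : Over (Spec (CommRingCat.of k))) [GrpObj Bo] (iB : Bo ⟶ G) (hB : Red.IsBorelOver k iB)
    (U : Over (Spec (CommRingCat.of k))) [GrpObj U] (u : U ⟶ Bo) (hU : Par.IsUnipotentRadical u)
    (thmA : VecGrp.ReductiveInvariantsFG k)
    (A : Type u) [CommRing A] [Algebra k A] (ρ : VecGrp.GMod G A) (hρ : ρ.IsMult) :
    Algebra.FiniteType k ↥(ρ.fixedSubalgebra hρ (u ≫ iB)) → Algebra.FiniteType k A := by
  intro hfin
  have hGaff := hG.1
  have hGsm := hG.2.1
  have h1 := hB.1
  have h2 := hB.2.1
  have h3 := hB.2.2.1
  have h4 := hU.1
  have h5 := hU.2.1
  have h6 := hU.2.2.2.1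
  have h7 : IsClosedImmersion (u ≫ iB).left := by
    rw [Over.comp_left]
    infer_instance
  have h9 : IsAffine U.left := isAffine_of_isAffineHom (u ≫ iB).left
  obtain ⟨H, _, _, e, he, hft, hred⟩ := K495.Bridge.exists_data G
  have hmem := K496.URDict.mem_psub_iff e hB hU
  have hBor : Groth.Agent.Sga3B.Parab.BorelPts172.IsBorelPt (K495.Bridge.psub e iB) := by
    rw [K496.URDict.psub_eq_ptsSub]
    exact Groth.Agent.Agf.H614.AlgDict.isBorelPt e hB
  have hfix : (K497.Rat.fixA (K497.GM.act e ρ hρ) (K495.Bridge.psub e (u ≫ iB))).FG := by
    have h8 : K497.Rat.fixA (K497.GM.act e ρ hρ) (K495.Bridge.psub e (u ≫ iB)) =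
        ρ.fixedSubalgebra hρ (u ≫ iB) := by
      ext x
      exact (K495.GModPt.mem_fixedUnder_iff_psub e (u ≫ iB) ρ x).symm
    rw [h8]
    exact (Subalgebra.fg_iff_finiteType _).2 hfin
  exact K497.RedCase.finiteType_of_fixA (K497.IdRed.isRedPt_idComp e hG) thmA hBor hmem
    (K497.GM.isRatA_act e ρ hρ) hfix

end Groth.Agent.S11225
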