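import Groth.Statements.S11224
import Groth.Agent.AGF.K498.SqZero3
import Groth.Agent.S11208
import Groth.Agent.S11225

set_option autoImplicit false
universe u
open CategoryTheory MonoidalCategory CartesianMonoidalCategory MonObj GrpObj AlgebraicGeometry
open scoped TensorProduct
open AGF

namespace Groth.Agent.S11224

/-- Let k be an algebraically closed field, G a linear algebraic group over k (affine, smooth) whose
identity component is reductive, B a Borel subgroup of G and U the unipotent radical of B (a maximal
unipotent subgroup of G). Assume that invariants of reductive groups over k on finitely generated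
algebras are finitely generated (a true result which the published text assumes without proof,
carried here as a hypothesis). Then a rational G-module V is finite-dimensional if and only if its
subspace of U-invariants V^U is finite-dimensional. -/
theorem result (k : Type u) [Field k] [IsAlgClosed k]
    (G : Over (Spec (CommRingCat.of k))) [GrpObj G] (hG : VecGrp.IsReductiveGrp k G)
    (Bo : Over (Spec (CommRingCat.of k))) [GrpObj Bo] (iB : Bo ⟶ G) (hB : Red.IsBorelOver k iB)
    (U : Over (Spec (CommRingCat.of k))) [GrpObj U] (u : U ⟶ Bo) (hU : Par.IsUnipotentRadical u)
    (thmA : VecGrp.ReductiveInvariantsFG k)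
    (V : Type u) [AddCommGroup V] [Module k V] (ρ : VecGrp.GMod G V) :
    Module.Finite k V ↔ Module.Finite k ↥(ρ.fixedUnder (u ≫ iB)) := by
  have : IsAffine G.left := hG.1
  have : Smooth G.hom := hG.2.1
  exact K498.SqZero.finite_iff (u ≫ iB)
    (fun A _ _ _ ρ hρ => Groth.Agent.S11208.result k G hG Bo iB hB U u hU thmA A ρ hρ)
    (fun A _ _ ρ hρ h => Groth.Agent.S11225.result k G hG Bo iB hB U u hU thmA A ρ hρ h)
    V ρ

end Groth.Agent.S11224
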