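import Groth.Statements.S15600
import Groth.Agent.AGF.K500.Ru

set_option autoImplicit false
universe u
open CategoryTheory MonoidalCategory CartesianMonoidalCategory MonObj GrpObj AlgebraicGeometry
open AGF

namespace Groth.Agent.S15600

open Groth.Agent.Sga3B K540.Bridge K540.Cartan K540.NoTor

/-- Let k be a field, G a smooth affine k-group scheme and G⁰ ⟶ G its identity component, that is, an
open subgroup scheme whose underlying space is connected. If U ⟶ G⁰ is the k-unipotent radical of G⁰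
(the largest normal closed subgroup scheme of G⁰, smooth and quasi-compact over k, with connected
geometric fibre containing no non-trivial subtorus), then the composite U ⟶ G⁰ ⟶ G is the
k-unipotent radical of G. -/
theorem result (k : Type u) [Field k]
    (G G₀ U : Over (Spec (CommRingCat.of k))) [GrpObj G] [GrpObj G₀] [GrpObj U] [IsAffine G.left] [Smooth G.hom]
    (j : G₀ ⟶ G) [IsMonHom j] [IsOpenImmersion j.left] [ConnectedSpace ↥G₀.left]
    (u : U ⟶ G₀) (hu : Par.IsUnipotentRadical u) : Par.IsUnipotentRadical (u ≫ j) := by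
  obtain ⟨hum, hucl, hun, husm, huqc, huf, humax⟩ := hu
  obtain ⟨A, _, _, e, _, hft⟩ := RG.BrHc.exists_hopf_ft G
  have hred := isReduced_tensor (AlgebraicClosure k) e
  have hjcl := K495.OpenSub.isClosedImmersion_of_open j
  have hjn := K500.Ru.isNormalHom_of_open j
  have hjm : Mono j := Groth.Agent.Books.AlgPtsGrp.mono_of_isClosedImmersion j
  have hG₀sm : Smooth G₀.hom := by
    rw [← Over.w j]
    infer_instance
  have hUconn : ConnectedSpace U.left := K500.Ru.connectedSpace_of_geomFibre fun s => (huf s).1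
  have hUNT : NoTor U := fun s => (huf s).2
  have hcl : IsClosedImmersion (u ≫ j).left := by
    rw [Over.comp_left]
    infer_instance
  have hD := normal_P (AlgebraicClosure k) e j hjn
  have hU : IsU (P (AlgebraicClosure k) e j) (P (AlgebraicClosure k) e (u ≫ j)) :=
    ⟨P_comp_le _ e j u, K500.Ru.normalizes_P _ e j u hun, isCl_P _ e (u ≫ j),
      isConn_P _ e (u ≫ j), isUnip_P _ e (u ≫ j) hUNT⟩
  obtain ⟨R, hRD, hUR, hRn, hRcl, hRc, hRu⟩ := exists_normal_ge (isCl_P _ e j) hD hU
  obtain ⟨N, hNn, hNcl, hNc, hNd, hUN, hNR⟩ :=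
    K540.DefPts.exists_normal_of_subset (defSet_P _ e (u ≫ j)) (isConn_P _ e (u ≫ j)) (one_mem _) hRn hRcl hUR
  obtain ⟨W, _, w, _, hwcl, hwsm, hPw, hwc⟩ := exists_sub _ e hNcl hNd
  have := hwc hNc
  obtain ⟨f, hf⟩ := exists_factor_of_P_le _ e w j (by rw [hPw]; exact hNR.trans hRD)
  have hwm : Mono w := Groth.Agent.Books.AlgPtsGrp.mono_of_isClosedImmersion w
  have hwn : AlgGrp.IsNormalHom w := isNormalHom_of_P _ e w (by rw [hPw]; exact hNn)
  have hWqc : QuasiCompact W.hom := by
    have : IsAffineHom G.hom := isAffineHom_of_isAffine G.hom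
    rw [← Over.w w]
    infer_instance
  have hWNT : NoTor W := noTor_of_P _ e w (by rw [hPw]; exact fun g hg => hRu g (hNR hg))
  obtain ⟨hfm, hfcl, hfn⟩ := K500.Ru.factor_props j w hwn f hf
  obtain ⟨f', hf'⟩ := humax W f hfcl hfn hwsm inferInstance fun s => ⟨K500.Ru.connectedSpace_geomFibre s, hWNT s⟩
  have h1 : N ≤ P (AlgebraicClosure k) e (u ≫ j) := by
    rw [← hPw]
    exact P_le_of_factor _ e w (u ≫ j) f' (by rw [← Category.assoc, hf', hf])
  have h2 : P (AlgebraicClosure k) e (u ≫ j) = N := le_antisymm hUN h1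
  refine ⟨inferInstance, hcl, isNormalHom_of_P _ e (u ≫ j) (by rw [h2]; exact hNn), husm, huqc, huf, ?_⟩
  intro U' _ u' _ hu'cl hu'n hu'sm hu'qc hu'f
  have hU'conn : ConnectedSpace U'.left := K500.Ru.connectedSpace_of_geomFibre fun s => (hu'f s).1
  obtain ⟨g, hg⟩ := K500.Ru.exists_factor_open j u'
  obtain ⟨hgm, hgcl, hgn⟩ := K500.Ru.factor_props j u' hu'n g hg
  obtain ⟨g', hg'⟩ := humax U' g hgcl hgn hu'sm hu'qc hu'f
  exact ⟨g', by rw [← Category.assoc, hg', hg]⟩

end Groth.Agent.S15600
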