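import Groth.Statements.S11226
import Groth.Agent.AGF.K498.ParInv
import Groth.Agent.S2997
import Groth.Agent.S15600
import Groth.Agent.S11208
import Groth.Agent.S11225
import Groth.Agent.FGA.K275.IdProper

set_option autoImplicit false
universe u
open CategoryTheory MonoidalCategory CartesianMonoidalCategory MonObj GrpObj AlgebraicGeometry
open scoped TensorProduct
open AGF

namespace Groth.Agent.S11226

/-- Let k be an algebraically closed field, G a linear algebraic group over k (affine, smooth) whose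
identity component is reductive, P a parabolic subgroup of G (a smooth closed subgroup containing a
Borel subgroup) and H the unipotent radical of P. Assume finite generation of invariants of
reductive groups over k on finitely generated algebras (a true result which the published text
assumes without proof, carried here as a hypothesis). If A is a finitely generated commutative
k-algebra with a rational action of G by algebra automorphisms, then the algebra of invariants A^H
is finitely generated over k. -/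
theorem result (k : Type u) [Field k] [IsAlgClosed k]
    (G : Over (Spec (CommRingCat.of k))) [GrpObj G] (hG : VecGrp.IsReductiveGrp k G)
    (P : Over (Spec (CommRingCat.of k))) [GrpObj P] (iP : P ⟶ G) (hP : Red.IsParabolicOver k iP)
    (H : Over (Spec (CommRingCat.of k))) [GrpObj H] (h : H ⟶ P) (hH : Par.IsUnipotentRadical h)
    (thmA : VecGrp.ReductiveInvariantsFG k)
    (A : Type u) [CommRing A] [Algebra k A] [Algebra.FiniteType k A] (ρ : VecGrp.GMod G A) (hρ : ρ.IsMult) :
    Algebra.FiniteType k ↥(ρ.fixedSubalgebra hρ (h ≫ iP)) := by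
  obtain ⟨hGa, hGs, G₀, _, j, hj, hjo, hG₀⟩ := id hG
  obtain ⟨hPm, hPc, hPs, B, _, b, hB⟩ := hP
  obtain ⟨P₀, _, v, hv, hvc, hvo, -, -, hvconn, -, -⟩ :=
    K275.IdProper.exists_idComp k P
  have hPa : IsAffine P.left := isAffine_of_isAffineHom iP.left
  have hvP : IsClosedImmersion (v ≫ iP).left := by rw [Over.comp_left]; infer_instance
  have hP₀s : Smooth P₀.hom := by rw [← Over.w v]; infer_instance
  obtain ⟨p₀, hp₀⟩ := K500.Ru.exists_factor_open j (v ≫ iP)
  have hjc : IsClosedImmersion j.left := K495.OpenSub.isClosedImmersion_of_open j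
  have hjmono : Mono j := Groth.Agent.Sga3B.Parab.DynClosed998.mono_of_isClosedImmersion j
  have hp₀m : IsMonHom p₀ := K493.URad.isMonHom_of_comp p₀ j (by rw [hp₀]; infer_instance)
  have hp₀c : IsClosedImmersion p₀.left := by
    have h1 : IsClosedImmersion (p₀.left ≫ j.left) := by
      rw [← Over.comp_left, hp₀]; exact hvP
    exact IsClosedImmersion.of_comp p₀.left j.left
  have hbo := K498.ParInv.isBorelOver_of_comp b iP hB
  have hbm : IsMonHom b := hbo.1
  have hBconn : ConnectedSpace B.left := hB.2.2.2.1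
  obtain ⟨b₀, hb₀⟩ := K500.Ru.exists_factor_open v b
  have hB₀ : Red.IsBorelOver k (b₀ ≫ v ≫ iP) := by
    rw [← Category.assoc, hb₀]; exact hB
  have hB₁ : Red.IsBorelOver k (b₀ ≫ p₀) :=
    K498.ParInv.isBorelOver_of_comp (b₀ ≫ p₀) j (by rw [Category.assoc, hp₀]; exact hB₀)
  have hpar : Red.IsParabolic p₀ :=
    Groth.Agent.Sga3B.AlgBc.isParabolic_iff.2 ⟨hp₀m, hp₀c, hP₀s, B, inferInstance, b₀, hB₁⟩
  have hred : Red.IsReductive G₀ := Groth.Agent.Sga3B.AlgBc.isReductive_iff.2 hG₀
  obtain ⟨L, _, l, hl⟩ := Groth.Agent.S2997.result G₀ P₀ hred p₀ hpar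
  obtain ⟨hlm, hlmono, hLred, U₀, _, u₀, hu₀, -⟩ := id hl
  have hs := Groth.Agent.Sga3B.Par.LeviProj.isSemi_of_isLevi hl hu₀
  have hu₀P := Groth.Agent.S15600.result k P P₀ U₀ v u₀ hu₀
  obtain ⟨ε, hε⟩ := Groth.Agent.Sga3B.Par.LeviProj.exists_iso_of_isUnipotentRadical hH hu₀P
  have hhm : IsMonHom h := hH.1
  have hLo : Red.IsReductiveOver k L := Groth.Agent.Sga3B.AlgBc.isReductive_iff.1 hLred
  have hLa : IsAffine L.left := hLo.1
  have hLs : Smooth L.hom := hLo.2.1
  have hLG : VecGrp.IsReductiveGrp k L :=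
    ⟨hLa, hLs, L, inferInstance, 𝟙 L, inferInstance, by rw [Over.id_left]; infer_instance, hLo⟩
  obtain ⟨BL, _, iBL, hBL, hpts⟩ := K498.ParInv.exists_borel_levi (v ≫ iP) b₀ hB₀ hs
  have hBc : IsClosedImmersion (b₀ ≫ v ≫ iP).left := hB₀.2.1
  have hBa : IsAffine B.left := isAffine_of_isAffineHom (b₀ ≫ v ≫ iP).left
  have hBs : Smooth B.hom := hB₀.2.2.1
  have hBLc : IsClosedImmersion iBL.left := hBL.2.1
  have hBLa : IsAffine BL.left := isAffine_of_isAffineHom iBL.left
  have hBLs : Smooth BL.hom := hBL.2.2.1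
  obtain ⟨U, _, w, hw⟩ := K501.RadSch.exists_isUnipotentRadical B
  obtain ⟨V, _, y, hy⟩ := K501.RadSch.exists_isUnipotentRadical BL
  obtain ⟨C₀, _, _, e, _, _, _⟩ := K495.Bridge.exists_data G
  have hfix := K498.ParInv.fixed_eq e (v ≫ iP) hu₀ b₀ hB₀ hs hBL hpts hw hy ρ hρ
  have hfg := Groth.Agent.S11208.result k G hG B (b₀ ≫ v ≫ iP) hB₀ U w hw thmA A ρ hρ
  obtain ⟨C, _, _, eL, _, _, _⟩ := K495.Bridge.exists_data L
  have hnorm : ∀ (X : Over (Spec (CommRingCat.of k))) (x : X ⟶ L) (z : X ⟶ H),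
      ∃ h' : X ⟶ H, (x ≫ l ≫ v ≫ iP) * (z ≫ h ≫ iP) * (x ≫ l ≫ v ≫ iP)⁻¹ = h' ≫ h ≫ iP := by
    intro X x z
    obtain ⟨n', hn'⟩ := hH.2.2.1 X (x ≫ l ≫ v) z
    refine ⟨n', ?_⟩
    have h1 := congrArg (· ≫ iP) hn'
    simpa only [MonObj.mul_comp, GrpObj.inv_comp, Category.assoc] using h1
  obtain ⟨m', hm', hact⟩ := K498.NormInv.exists_action (h ≫ iP) (l ≫ v ≫ iP) eL hnorm ρ hρ
  have h1 := hact (y ≫ iBL)
  have h2 : h ≫ iP = ε.hom ≫ u₀ ≫ v ≫ iP := by rw [← hε]; simp only [Category.assoc]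
  have h3 : ρ.fixedSubalgebra hρ (h ≫ iP) = ρ.fixedSubalgebra hρ (u₀ ≫ v ≫ iP) := by
    rw [h2, K498.ParInv.fixed_iso]
  have h4 : Algebra.FiniteType k ↥((m'.fixedSubalgebra hm' (y ≫ iBL)).map
      (ρ.fixedSubalgebra hρ (h ≫ iP)).val) := by
    rw [h1, h3, Category.assoc, ← hfix]
    exact hfg
  rw [K498.NormInv.finiteType_map_iff] at h4
  exact Groth.Agent.S11225.result k L hLG BL iBL hBL V y hy thmA _ m' hm' h4

end Groth.Agent.S11226
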