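import Groth.Statements.S11227
import Groth.Agent.AGF.K497.URadPt

set_option autoImplicit false
universe u
open CategoryTheory MonoidalCategory CartesianMonoidalCategory MonObj GrpObj AlgebraicGeometry
open scoped TensorProduct
open AGF

namespace Groth.Agent.S11227

/-- Let k an algebraically closed field, G a linear algebraic group over k (affine, smooth) whose
identity component is reductive, B a Borel subgroup of G with unipotent radical U (a maximal
unipotent subgroup). Assume finite generation of invariants of reductive groups over k on finitely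
generated algebras (a true result which the published text assumes without proof, carried here as a
hypothesis). Let A be a finitely generated commutative k-algebra with a rational action of G by
algebra automorphisms and C a finitely generated subalgebra of A stable under G. Then integrality of
A over C is equivalent to integrality of A^U over C^U = C ∩ A^U, that is, every element of A^U is
integral over the subalgebra C ∩ A^U. -/
theorem result (k : Type u) [Field k] [IsAlgClosed k]
    (G : Over (Spec (CommRingCat.of k))) [GrpObj G] (hG : VecGrp.IsReductiveGrp k G)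
    (Bo : Over (Spec (CommRingCat.of k))) [GrpObj Bo] (iB : Bo ⟶ G) (hB : Red.IsBorelOver k iB)
    (U : Over (Spec (CommRingCat.of k))) [GrpObj U] (u : U ⟶ Bo) (hU : Par.IsUnipotentRadical u)
    (thmA : VecGrp.ReductiveInvariantsFG k)
    (A : Type u) [CommRing A] [Algebra k A] [Algebra.FiniteType k A] (ρ : VecGrp.GMod G A) (hρ : ρ.IsMult)
    (C : Subalgebra k A) (hCfg : C.FG) (hC : ρ.IsStable (𝟙 G) (Subalgebra.toSubmodule C)) :
    Algebra.IsIntegral ↥C A ↔
      ∀ x ∈ ρ.fixedUnder (u ≫ iB), IsIntegral ↥(C ⊓ ρ.fixedSubalgebra hρ (u ≫ iB)) x := by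
  obtain ⟨hGa, hGs, -⟩ := id hG
  obtain ⟨C', _, _, e, he, hft, hred⟩ := K495.Bridge.exists_data G
  obtain ⟨h1, h2, h3, -⟩ := id hB
  obtain ⟨h4, h5, -, h6, -⟩ := id hU
  have hgr : K497.Rat.GeomRed k C' := K497.GM.geomRed_of_isReductiveGrp e hG thmA
  have h7 : IsClosedImmersion (u ≫ iB).left := by rw [Over.comp_left]; infer_instance
  have h8 : IsAffine U.left := isAffine_of_isAffineHom (u ≫ iB).left
  have hun := (K497.URadPt.isURadIn_psub e iB u hU).isUnip
  have hmem : ∀ x, x ∈ ρ.fixedUnder (u ≫ iB) ↔
      x ∈ K497.Rat.fixA (K497.GM.act e ρ hρ) (K495.Bridge.psub e (u ≫ iB)) :=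
    fun x => K495.GModPt.mem_fixedUnder_iff_psub e (u ≫ iB) ρ x
  have hCeq : C ⊓ ρ.fixedSubalgebra hρ (u ≫ iB) =
      C ⊓ K497.Rat.fixA (K497.GM.act e ρ hρ) (K495.Bridge.psub e (u ≫ iB)) := by
    ext x
    exact and_congr_right fun _ => hmem x
  have hCst : K497.Rat.IsStab (K497.GM.act e ρ hρ) (C : Set A) :=
    fun g s hs => K497.GM.stable_of_isStable_id e ρ hC g s hs
  rw [hCeq]
  constructor
  · intro h x hx
    exact hgr.integral_sub (K497.GM.isRatA_act e ρ hρ) C hCst (fun r => h.isIntegral r) _ ((hmem x).1 hx)
  · intro h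
    have hint : ∀ r : A, IsIntegral (↥((integralClosure C A).restrictScalars k)) r := by
      refine hgr.isIntegral_of_fix_le (K497.GM.isRatA_act e ρ hρ) hun _ (fun g s hs => ?_) (fun x hx => ?_)
      · obtain ⟨p, hp, hpc, hp0⟩ := K497.Rat.exists_monic_of_isIntegral (hs : IsIntegral C s)
        refine K497.Rat.isIntegral_of_coeff_mem (p.map (K497.GM.act e ρ hρ g : A →+* A)) (hp.map _)
          (fun i => ?_) ?_
        · rw [Polynomial.coeff_map]
          exact hCst g _ (hpc i)
        · rw [Polynomial.eval_map]
          exact (Polynomial.eval₂_at_apply (K497.GM.act e ρ hρ g : A →+* A) s).trans (by rw [hp0, map_zero])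
      · obtain ⟨p, hp, hpc, hp0⟩ := K497.Rat.exists_monic_of_isIntegral (h x ((hmem x).2 hx))
        exact K497.Rat.isIntegral_of_coeff_mem p hp (fun i => (hpc i).1) hp0
    refine ⟨fun r => ?_⟩
    obtain ⟨p, hp, hpc, hp0⟩ := K497.Rat.exists_monic_of_isIntegral (hint r)
    have h9 : IsIntegral (integralClosure C A) r := by
      have h10 : p ∈ Polynomial.lifts (algebraMap (integralClosure C A) A) := by
        rw [Polynomial.lifts_iff_coeff_lifts]
        exact fun n => ⟨⟨_, hpc n⟩, rfl⟩
      obtain ⟨q, hq, -, hqm⟩ := Polynomial.lifts_and_natDegree_eq_and_monic h10 hp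
      exact ⟨q, hqm, by rw [← Polynomial.eval_map, hq, hp0]⟩
    exact isIntegral_trans r h9

end Groth.Agent.S11227
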