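import Groth.Statements.S11228
import Groth.Agent.AGF.K497.URadPt

set_option autoImplicit false
universe u
open CategoryTheory MonoidalCategory CartesianMonoidalCategory MonObj GrpObj AlgebraicGeometry
open scoped TensorProduct
open AGF

namespace Groth.Agent.S11228

/-- Let k an algebraically closed field, G a linear algebraic group over k (affine, smooth) whose
identity component is reductive, B a Borel subgroup of G with unipotent radical U (a maximal
unipotent subgroup). Assume finite generation of invariants of reductive groups over k on finitely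
generated algebras (a true result which the published text assumes without proof, carried here as a
hypothesis). Let A be a commutative k-algebra with a rational action of G by algebra automorphisms
and let G·A^U be the intersection of all G-stable subalgebras of A containing the invariants A^U.
Then A is integral over G·A^U. -/
theorem result (k : Type u) [Field k] [IsAlgClosed k]
    (G : Over (Spec (CommRingCat.of k))) [GrpObj G] (hG : VecGrp.IsReductiveGrp k G)
    (Bo : Over (Spec (CommRingCat.of k))) [GrpObj Bo] (iB : Bo ⟶ G) (hB : Red.IsBorelOver k iB)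
    (U : Over (Spec (CommRingCat.of k))) [GrpObj U] (u : U ⟶ Bo) (hU : Par.IsUnipotentRadical u)
    (thmA : VecGrp.ReductiveInvariantsFG k)
    (A : Type u) [CommRing A] [Algebra k A] (ρ : VecGrp.GMod G A) (hρ : ρ.IsMult) :
    Algebra.IsIntegral
      ↥(sInf {S : Subalgebra k A | ρ.fixedUnder (u ≫ iB) ≤ Subalgebra.toSubmodule S ∧
        ρ.IsStable (𝟙 G) (Subalgebra.toSubmodule S)}) A := by
  obtain ⟨hGa, hGs, -⟩ := id hG
  obtain ⟨C, _, _, e, he, hft, hred⟩ := K495.Bridge.exists_data G
  obtain ⟨h1, h2, h3, -⟩ := id hB
  obtain ⟨h4, h5, -, h6, -⟩ := id hU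
  have hgr : K497.Rat.GeomRed k C := K497.GM.geomRed_of_isReductiveGrp e hG thmA
  have h7 : IsClosedImmersion (u ≫ iB).left := by rw [Over.comp_left]; infer_instance
  have h8 : IsAffine U.left := isAffine_of_isAffineHom (u ≫ iB).left
  have hun := (K497.URadPt.isURadIn_psub e iB u hU).isUnip
  set S := sInf {S : Subalgebra k A | ρ.fixedUnder (u ≫ iB) ≤ Subalgebra.toSubmodule S ∧
        ρ.IsStable (𝟙 G) (Subalgebra.toSubmodule S)} with hS
  have hSst : K497.Rat.IsStab (K497.GM.act e ρ hρ) (S : Set A) := by
    intro g s hs
    rw [SetLike.mem_coe, hS, Algebra.mem_sInf] at hs ⊢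
    intro T hT
    exact K497.GM.stable_of_isStable_id e ρ hT.2 g s (hs T hT)
  have hfix : K497.Rat.fixA (K497.GM.act e ρ hρ) (K495.Bridge.psub e (u ≫ iB)) ≤ S := by
    intro x hx
    rw [hS, Algebra.mem_sInf]
    intro T hT
    exact hT.1 ((K495.GModPt.mem_fixedUnder_iff_psub e (u ≫ iB) ρ x).2 hx)
  exact ⟨fun r => hgr.isIntegral_of_fix_le (K497.GM.isRatA_act e ρ hρ) hun S hSst hfix r⟩

end Groth.Agent.S11228
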