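import Groth.Statements.S11229
import Groth.Agent.AGF.K497.URadPt
import Groth.Agent.AGF.K497.FixZero

set_option autoImplicit false
universe u
open CategoryTheory MonoidalCategory CartesianMonoidalCategory MonObj GrpObj AlgebraicGeometry
open scoped TensorProduct
open AGF

namespace Groth.Agent.S11229

/-- Let k an algebraically closed field, G a connected reductive linear algebraic group over k, B a
Borel subgroup of G with unipotent radical U (a maximal unipotent subgroup), and let A be a
commutative k-algebra with a rational action of G by algebra automorphisms. Then A has a nonzero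
nilpotent element if and only if A^U does; equivalently A is reduced if and only if A^U is reduced. -/
theorem result (k : Type u) [Field k] [IsAlgClosed k]
    (G : Over (Spec (CommRingCat.of k))) [GrpObj G] (hG : Red.IsReductiveOver k G)
    (Bo : Over (Spec (CommRingCat.of k))) [GrpObj Bo] (iB : Bo ⟶ G) (hB : Red.IsBorelOver k iB)
    (U : Over (Spec (CommRingCat.of k))) [GrpObj U] (u : U ⟶ Bo) (hU : Par.IsUnipotentRadical u)
    (A : Type u) [CommRing A] [Algebra k A] (ρ : VecGrp.GMod G A) (hρ : ρ.IsMult) :
    IsReduced A ↔ IsReduced ↥(ρ.fixedSubalgebra hρ (u ≫ iB)) := by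
  obtain ⟨hGa, hGs, -⟩ := id hG
  obtain ⟨C, _, _, e, he, hft, hred⟩ := K495.Bridge.exists_data G
  obtain ⟨h1, h2, h3, -⟩ := id hB
  obtain ⟨h4, h5, -, h6, -⟩ := id hU
  have h7 : IsClosedImmersion (u ≫ iB).left := by rw [Over.comp_left]; infer_instance
  have h8 : IsAffine U.left := isAffine_of_isAffineHom (u ≫ iB).left
  have hun := (K497.URadPt.isURadIn_psub e iB u hU).isUnip
  constructor
  · intro h
    exact isReduced_of_injective (ρ.fixedSubalgebra hρ (u ≫ iB)).val Subtype.val_injective
  · intro h
    refine K497.Rat.isReduced_of_fixA (K497.GM.isRatA_act e ρ hρ) hun fun x hx hn => ?_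
    have hx' : x ∈ ρ.fixedSubalgebra hρ (u ≫ iB) :=
      (K495.GModPt.mem_fixedUnder_iff_psub e (u ≫ iB) ρ x).2 hx
    obtain ⟨n, hn⟩ := hn
    have h9 : IsNilpotent (⟨x, hx'⟩ : ↥(ρ.fixedSubalgebra hρ (u ≫ iB))) := ⟨n, Subtype.ext hn⟩
    exact congrArg Subtype.val h9.eq_zero

end Groth.Agent.S11229
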