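import Groth.Statements.S11230
import Groth.Agent.AGF.K497.URadPt
import Groth.Agent.AGF.K497.FixZero

set_option autoImplicit false
universe u
open CategoryTheory MonoidalCategory CartesianMonoidalCategory MonObj GrpObj AlgebraicGeometry
open scoped TensorProduct
open AGF

namespace Groth.Agent.S11230

/-- Let k an algebraically closed field, G a connected reductive linear algebraic group over k, B a
Borel subgroup of G with unipotent radical U (a maximal unipotent subgroup), and let A be a
commutative k-algebra with a rational action of G by algebra automorphisms. Then A has zero divisors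
(two nonzero elements with product zero) if and only if the algebra of invariants A^U does. -/
theorem result (k : Type u) [Field k] [IsAlgClosed k]
    (G : Over (Spec (CommRingCat.of k))) [GrpObj G] (hG : Red.IsReductiveOver k G)
    (Bo : Over (Spec (CommRingCat.of k))) [GrpObj Bo] (iB : Bo ⟶ G) (hB : Red.IsBorelOver k iB)
    (U : Over (Spec (CommRingCat.of k))) [GrpObj U] (u : U ⟶ Bo) (hU : Par.IsUnipotentRadical u)
    (A : Type u) [CommRing A] [Algebra k A] (ρ : VecGrp.GMod G A) (hρ : ρ.IsMult) :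
    (∃ a b : A, a ≠ 0 ∧ b ≠ 0 ∧ a * b = 0) ↔
      ∃ a b : ↥(ρ.fixedSubalgebra hρ (u ≫ iB)), a ≠ 0 ∧ b ≠ 0 ∧ a * b = 0 := by
  obtain ⟨hGa, hGs, hGc, -⟩ := id hG
  obtain ⟨C, _, _, e, he, hft, hred⟩ := K495.Bridge.exists_data G
  obtain ⟨h1, h2, h3, -⟩ := id hB
  obtain ⟨h4, h5, -, h6, -⟩ := id hU
  have h7 : IsClosedImmersion (u ≫ iB).left := by rw [Over.comp_left]; infer_instance
  have h8 : IsAffine U.left := isAffine_of_isAffineHom (u ≫ iB).left
  have hun := (K497.URadPt.isURadIn_psub e iB u hU).isUnip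
  constructor
  · rintro ⟨a, b, ha, hb, hab⟩
    obtain ⟨x, y, hx, hy, hx0, hy0, hxy⟩ := K497.Rat.exists_zeroDiv_fixA (K497.GM.isRatA_act e ρ hρ)
      (K497.URadPt.isConn_univ_of_connected e) hun ha hb hab
    refine ⟨⟨x, (K495.GModPt.mem_fixedUnder_iff_psub e (u ≫ iB) ρ x).2 hx⟩,
      ⟨y, (K495.GModPt.mem_fixedUnder_iff_psub e (u ≫ iB) ρ y).2 hy⟩, fun h => hx0 (congrArg Subtype.val h),
      fun h => hy0 (congrArg Subtype.val h), Subtype.ext hxy⟩
  · rintro ⟨a, b, ha, hb, hab⟩
    exact ⟨a, b, fun h => ha (Subtype.ext h), fun h => hb (Subtype.ext h), congrArg Subtype.val hab⟩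

end Groth.Agent.S11230
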