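import Groth.Statements.S11233
import Mathlib.Algebra.MvPolynomial.Funext
import Mathlib.LinearAlgebra.Matrix.NonsingularInverse

set_option autoImplicit false
universe u
open CAlg

namespace Groth.Agent.S11233

/-- Let k be an algebraically closed field, A an integral domain which is a k-algebra, T an m by m
matrix over A with invertible determinant, and let the additive group k^m act on the polynomial ring
A[y_1, ..., y_m] by the A-algebra maps y_s ↦ y_s + Σ_r h_r T_rs. Then the only invariant polynomials
are the constants: a polynomial fixed by all these substitutions lies in A. -/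
theorem result (k : Type u) [Field k] [IsAlgClosed k]
    (A : Type u) [CommRing A] [IsDomain A] [Algebra k A] (m : ℕ) (T : Matrix (Fin m) (Fin m) A)
    (hT : IsUnit T.det) (f : MvPolynomial (Fin m) A)
    (hf : ∀ h : Fin m → k, MvPolynomial.aeval
      (fun s : Fin m => MvPolynomial.X s + MvPolynomial.C (∑ r : Fin m, algebraMap k A (h r) * T r s)) f = f) :
    ∃ a : A, f = MvPolynomial.C a := by
  classical
  let R := MvPolynomial (Fin m) A
  let P : MvPolynomial (Fin m) R :=
    MvPolynomial.aeval (fun s : Fin m => MvPolynomial.C (MvPolynomial.X s : R) +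
      ∑ r : Fin m, MvPolynomial.X r * MvPolynomial.C (MvPolynomial.C (T r s) : R)) f
  -- evaluation of `P`
  have hev : ∀ z : Fin m → R, MvPolynomial.eval z P =
      MvPolynomial.aeval (fun s : Fin m => (MvPolynomial.X s : R) +
        ∑ r : Fin m, z r * MvPolynomial.C (T r s)) f := by
    intro z
    let e : MvPolynomial (Fin m) R →ₐ[A] R := (MvPolynomial.aeval z).restrictScalars A
    have h1 : MvPolynomial.eval z P = e P :=
      (DFunLike.congr_fun (MvPolynomial.coe_aeval_eq_eval z) P).symm
    rw [h1]
    simp only [P]
    rw [MvPolynomial.aeval_def, MvPolynomial.aeval_def, ← MvPolynomial.aeval_def,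
      ← MvPolynomial.aeval_def, ← AlgHom.comp_apply, MvPolynomial.comp_aeval]
    congr 2
    funext s
    simp only [map_add, map_sum, map_mul]
    simp [e]
  have hP : P = MvPolynomial.C f := by
    have hinj : Function.Injective (algebraMap k A) := (algebraMap k A).injective
    refine MvPolynomial.funext_set
      (fun _ : Fin m => Set.range fun h : k => (MvPolynomial.C (algebraMap k A h) : R))
      (fun _ => Set.infinite_range_of_injective
        ((MvPolynomial.C_injective _ _).comp hinj)) ?_
    intro z hz
    choose h hh using fun i => hz i trivial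
    rw [hev, MvPolynomial.eval_C]
    have : (fun s : Fin m => (MvPolynomial.X s : R) + ∑ r : Fin m, z r * MvPolynomial.C (T r s)) =
        (fun s : Fin m => MvPolynomial.X s +
          MvPolynomial.C (∑ r : Fin m, algebraMap k A (h r) * T r s)) := by
      funext s
      rw [map_sum]
      congr 1
      refine Finset.sum_congr rfl fun r _ => ?_
      rw [map_mul, ← hh r]
    rw [this]
    exact hf h
  have h1 := hev (fun r => - ∑ t : Fin m, MvPolynomial.X t * MvPolynomial.C (T⁻¹ t r))
  rw [hP, MvPolynomial.eval_C] at h1
  have h2 : (fun s : Fin m => (MvPolynomial.X s : R) +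
      ∑ r : Fin m, (- ∑ t : Fin m, MvPolynomial.X t * MvPolynomial.C (T⁻¹ t r)) *
        MvPolynomial.C (T r s)) = fun _ => 0 := by
    funext s
    have h3 : ∑ r : Fin m, (- ∑ t : Fin m, (MvPolynomial.X t : R) * MvPolynomial.C (T⁻¹ t r)) *
        MvPolynomial.C (T r s) =
        - ∑ t : Fin m, (MvPolynomial.X t : R) * MvPolynomial.C ((T⁻¹ * T) t s) := by
      simp only [neg_mul, Finset.sum_neg_distrib, Finset.sum_mul, Matrix.mul_apply, map_sum,
        Finset.mul_sum, map_mul]
      rw [Finset.sum_comm]
      simp only [mul_assoc]
    rw [h3, Matrix.nonsing_inv_mul T hT]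
    simp [Matrix.one_apply]
  rw [h2] at h1
  refine ⟨MvPolynomial.coeff 0 f, ?_⟩
  conv_lhs => rw [h1]
  have h4 : (fun _ : Fin m => (0 : R)) = 0 := rfl
  rw [h4, MvPolynomial.aeval_zero]
  rfl

end Groth.Agent.S11233
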