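import Groth.Statements.S11234
import Groth.Agent.AGF.K498.Epi

set_option autoImplicit false
universe u
open CategoryTheory MonoidalCategory CartesianMonoidalCategory MonObj GrpObj AlgebraicGeometry
open scoped TensorProduct
open AGF

namespace Groth.Agent.S11234

/-- Let k be an algebraically closed field, G a linear algebraic group over k (affine, smooth) and H a
smooth closed subgroup of G. The following are equivalent: (b) every global function on G invariant
under right translation by H is a constant; (c) for every rational G-module E, the H-invariants of E
coincide with the G-invariants; (e) two homomorphisms from G to a linear algebraic group which agree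
on H are equal. (The published list also contains the statement that H is epimorphic in the sense of
its hull under the stabilizer correspondence, and the statement that complementary H-stable
subspaces of a rational G-module are G-stable; this row states the other three.) -/
theorem result (k : Type u) [Field k] [IsAlgClosed k]
    (G : Over (Spec (CommRingCat.of k))) [GrpObj G] [IsAffine G.left] [Smooth G.hom]
    (H : Over (Spec (CommRingCat.of k))) [GrpObj H] [Smooth H.hom] (i : H ⟶ G) [IsMonHom i]
    [IsClosedImmersion i.left] :
    List.TFAE [
      ∀ f : Γ(G.left, ⊤), ((G ◁ i) ≫ μ[G]).left.appTop f = (fst G H).left.appTop f →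
        ∃ c : k, f = G.hom.appTop ((Scheme.ΓSpecIso (CommRingCat.of k)).inv c),
      ∀ (E : Type u) [AddCommGroup E] [Module k E] (ρ : VecGrp.GMod G E),
        ρ.fixedUnder i = ρ.fixedUnder (𝟙 G),
      ∀ (G' : Over (Spec (CommRingCat.of k))) [GrpObj G'] [IsAffine G'.left] [Smooth G'.hom]
        (r s : G ⟶ G') [IsMonHom r] [IsMonHom s], i ≫ r = i ≫ s → r = s] := by
  obtain ⟨A, _, _, e, _, _, _⟩ := K495.Bridge.exists_data G
  have hi : IsAffine H.left := isAffine_of_isAffineHom i.left
  tfae_have 1 → 2 := fun h E _ _ ρ => K498.Epi.b_c e i ((K498.Epi.b_iff e i).1 h) E ρ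
  tfae_have 2 → 1 := fun h => (K498.Epi.b_iff e i).2 (K498.Epi.c_b e i h)
  tfae_have 1 → 3 := fun h G' _ _ _ r s _ _ hrs => K498.Epi.b_e i r s h hrs
  tfae_have 3 → 1 := fun h => (K498.Epi.b_iff e i).2 (K498.Epi.e_b e i h)
  tfae_finish

end Groth.Agent.S11234
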