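import Groth.Statements.S11235
import Mathlib.Algebra.Polynomial.Roots
import Mathlib.RingTheory.Ideal.Maps

set_option autoImplicit false
universe u
open CAlg

namespace Groth.Agent.S11235

/-- Let k be an algebraically closed field, A a commutative k-algebra, α ∈ k, and M a maximal ideal of
the polynomial ring A[x] containing x - α. Let I ⊆ M be an ideal whose zero set in Spec A[x] is
invariant under the automorphisms x ↦ c·x, c ∈ k nonzero (equivalently: the image of I under each
such A-algebra automorphism has the same radical as I). Then there is a maximal ideal of A[x]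
containing I and x. -/
theorem result (k : Type u) [Field k] [IsAlgClosed k]
    (A : Type u) [CommRing A] [Algebra k A] (α : k)
    (M : Ideal (Polynomial A)) (hM : M.IsMaximal)
    (hα : Polynomial.X - Polynomial.C (algebraMap k A α) ∈ M)
    (I : Ideal (Polynomial A)) (hIM : I ≤ M)
    (hI : ∀ c : kˣ, (I.map (Polynomial.aeval (R := A)
      (algebraMap k A (c : k) • (Polynomial.X : Polynomial A)))).radical = I.radical) :
    ∃ N : Ideal (Polynomial A), N.IsMaximal ∧ I ≤ N ∧ Polynomial.X ∈ N := by
  classical
  rcases eq_or_ne α 0 with rfl | hα0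
  · refine ⟨M, hM, hIM, ?_⟩
    simpa using hα
  let _ : Field (Polynomial A ⧸ M) := Ideal.Quotient.field M
  let L := Polynomial A ⧸ M
  let π : Polynomial A →+* L := Ideal.Quotient.mk M
  let φ : A →+* L := π.comp Polynomial.C
  have hX : π Polynomial.X = φ (algebraMap k A α) := by
    rw [← sub_eq_zero]
    simp only [φ, RingHom.comp_apply]
    rw [← map_sub]
    exact Ideal.Quotient.eq_zero_iff_mem.mpr hα
  have hπ : ∀ f : Polynomial A, π f = Polynomial.eval₂ φ (φ (algebraMap k A α)) f := by
    intro f
    rw [← hX]
    induction f using Polynomial.induction_on' with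
    | add p q hp hq => rw [map_add, hp, hq, Polynomial.eval₂_add]
    | monomial n a =>
      rw [← Polynomial.C_mul_X_pow_eq_monomial, map_mul, map_pow, Polynomial.eval₂_mul,
        Polynomial.eval₂_C, Polynomial.eval₂_pow, Polynomial.eval₂_X]
      rfl
  have hφs : Function.Surjective φ := by
    intro y
    obtain ⟨f, rfl⟩ := Ideal.Quotient.mk_surjective y
    refine ⟨f.eval (algebraMap k A α), ?_⟩
    change _ = π f
    rw [hπ, Polynomial.eval, Polynomial.hom_eval₂, RingHom.comp_id]
  let ψ : Polynomial A →+* L := Polynomial.eval₂RingHom φ 0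
  have hψs : Function.Surjective ψ := by
    intro y
    obtain ⟨a, rfl⟩ := hφs y
    exact ⟨Polynomial.C a, by simp [ψ]⟩
  refine ⟨RingHom.ker ψ, RingHom.ker_isMaximal_of_surjective ψ hψs, ?_, ?_⟩
  · intro f hf
    rw [RingHom.mem_ker]
    have h0 : f.map φ = 0 := by
      refine Polynomial.eq_zero_of_infinite_isRoot _ ?_
      have hinj : Function.Injective (fun c : k => φ (algebraMap k A (c * α))) := by
        intro a b hab
        have h1 := ((φ.comp (algebraMap k A)).injective hab)
        exact mul_right_cancel₀ hα0 h1
      have hinfk : (Set.univ \ {(0 : k)}).Infinite :=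
        Set.infinite_univ.diff (Set.finite_singleton 0)
      refine (hinfk.image hinj.injOn).mono ?_
      rintro _ ⟨c, hc, rfl⟩
      lift c to kˣ using isUnit_iff_ne_zero.mpr (by simpa using hc)
      change Polynomial.IsRoot _ _
      rw [Polynomial.IsRoot, Polynomial.eval_map]
      have h1 : Polynomial.aeval (R := A)
          (algebraMap k A (c : k) • (Polynomial.X : Polynomial A)) f ∈ M := by
        have h2 : Polynomial.aeval (R := A)
          (algebraMap k A (c : k) • (Polynomial.X : Polynomial A)) f ∈ I.radical := by
          rw [← hI c]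
          exact Ideal.le_radical (Ideal.mem_map_of_mem _ hf)
        have h3 : I.radical ≤ M := (Ideal.IsPrime.radical_le_iff hM.isPrime).mpr hIM
        exact h3 h2
      have h4 : π (Polynomial.aeval (R := A)
          (algebraMap k A (c : k) • (Polynomial.X : Polynomial A)) f) = 0 :=
        Ideal.Quotient.eq_zero_iff_mem.mpr h1
      rw [Polynomial.aeval_def, Polynomial.hom_eval₂] at h4
      rw [← h4]
      congr 1
      rw [Polynomial.smul_eq_C_mul, map_mul, hX]
      change φ (algebraMap k A ((c : k) * α)) = _
      rw [map_mul, map_mul]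
      rfl
    change Polynomial.eval₂ φ 0 f = 0
    rw [← Polynomial.eval_map, h0, Polynomial.eval_zero]
  · rw [RingHom.mem_ker]
    simp [ψ]

end Groth.Agent.S11235
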