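import Groth.Statements.S11238
import Mathlib.FieldTheory.RatFunc.Luroth
import Mathlib.RingTheory.Localization.AsSubring
import Mathlib.FieldTheory.IntermediateField.Adjoin.Algebra
import Mathlib.Algebra.MvPolynomial.Funext
import Mathlib.FieldTheory.IsAlgClosed.Basic
import Mathlib.RingTheory.Algebraic.Integral

set_option autoImplicit false
universe u
open AGF

namespace Groth.Agent.S11238

open scoped IntermediateField.algebraAdjoinAdjoin in
theorem exists_algHom_of_specialization {k : Type u} [Field k] {P : Type u} [CommRing P] [IsDomain P] [Algebra k P]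
    {L : Type u} [Field L] [Algebra k L] (ev : P →ₐ[k] L)
    {K : Type u} [Field K] [Algebra k K] (φ : K →ₐ[k] FractionRing P) (S : Set K)
    (hS : IntermediateField.adjoin k S = ⊤) (f : P) (hf : ev f ≠ 0)
    (hSf : ∀ s ∈ S, ∃ a : P, φ s * algebraMap P (FractionRing P) f = algebraMap P (FractionRing P) a)
    (x : K) (halg : Algebra.IsAlgebraic ↥(IntermediateField.adjoin k {x}) K) (a : P)
    (hxa : φ x * algebraMap P (FractionRing P) f = algebraMap P (FractionRing P) a)
    (hT : Transcendental k (ev a / ev f)) : ∃ ψ : K →ₐ[k] L, ψ x = ev a / ev f := by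
  classical
  let M : Submonoid P := (nonZeroDivisors L).comap ev
  have hM : M ≤ nonZeroDivisors P := by
    intro p hp
    rw [mem_nonZeroDivisors_iff_ne_zero]
    rintro rfl
    have : ev (0 : P) ∈ nonZeroDivisors L := hp
    rw [map_zero] at this
    exact zero_notMem_nonZeroDivisors this
  let O : Subalgebra P (FractionRing P) := Localization.subalgebra.ofField (FractionRing P) M hM
  have : IsLocalization M O := Localization.subalgebra.isLocalization_ofField _ _ _
  let lft : O →ₐ[k] L := IsLocalization.liftAlgHom (M := M) (S := O) (f := ev)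
    (fun y => isUnit_iff_ne_zero.2 (nonZeroDivisors.ne_zero y.2))
  have lft_apply : ∀ y : P, lft (algebraMap P O y) = ev y := by
    intro y
    exact IsLocalization.lift_eq _ y
  let R : Subalgebra k K := (O.restrictScalars k).comap φ
  let φR : R →ₐ[k] O :=
    (φ.comp R.val).codRestrict (O.restrictScalars k) (fun r => r.2)
  let ψ₀ : R →ₐ[k] L := lft.comp φR
  have memR : ∀ (z : K) (b : P), φ z * algebraMap P (FractionRing P) f = algebraMap P (FractionRing P) b → z ∈ R := by
    intro z b hb
    change φ z ∈ O
    refine ⟨b, f, (mem_nonZeroDivisors_iff_ne_zero.2 hf), ?_⟩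
    have hf0 : algebraMap P (FractionRing P) f ≠ 0 := by
      rw [Ne, IsFractionRing.to_map_eq_zero_iff]
      rintro rfl
      exact hf (map_zero _)
    rw [eq_mul_inv_iff_mul_eq₀ hf0]
    exact hb
  have hSR : Algebra.adjoin k S ≤ R := by
    apply Algebra.adjoin_le
    intro s hs
    obtain ⟨b, hb⟩ := hSf s hs
    exact memR s b hb
  have hxR : x ∈ R := memR x a hxa
  have hψx : ψ₀ ⟨x, hxR⟩ = ev a / ev f := by
    rw [eq_div_iff hf, ← lft_apply a, ← lft_apply f, AlgHom.comp_apply, ← map_mul]
    congr 1
    apply Subtype.ext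
    exact hxa
  -- injectivity
  have hinj : Function.Injective ψ₀ := by
    rw [injective_iff_map_eq_zero]
    intro r hr
    by_contra hr0
    -- r is algebraic over k[x]
    let A0 : Subalgebra k K := Algebra.adjoin k {x}
    have hA0R : A0 ≤ R := Algebra.adjoin_le (by rintro _ rfl; exact hxR)
    have h1 : IsAlgebraic A0 (r : K) := by
      have h2 : IsAlgebraic (IntermediateField.adjoin k {x}) (r : K) := halg.isAlgebraic _
      exact (IsFractionRing.isAlgebraic_iff (Algebra.adjoin k {x}) (IntermediateField.adjoin k {x}) K).2 h2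
    let _ : Algebra A0 R := (Subalgebra.inclusion hA0R).toRingHom.toAlgebra
    have : IsScalarTower A0 R K := IsScalarTower.of_algebraMap_eq (fun _ => rfl)
    have h3 : IsAlgebraic A0 r := (isAlgebraic_algebraMap_iff (R := A0) (A := K) (S := R)
      (Subtype.val_injective)).1 h1
    obtain ⟨c, hc0, r', hr'⟩ := h3.exists_nonzero_dvd (mem_nonZeroDivisors_of_ne_zero hr0)
    have h4 : ψ₀ (algebraMap A0 R c) = 0 := by rw [hr', map_mul, hr, zero_mul]
    have hc : (c : K) ∈ Algebra.adjoin k {x} := c.2
    rw [Algebra.adjoin_singleton_eq_range_aeval] at hc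
    obtain ⟨p, hp⟩ := hc
    have h5 : algebraMap A0 R c = Polynomial.aeval (⟨x, hxR⟩ : R) p := by
      apply Subtype.ext
      change (c : K) = R.val (Polynomial.aeval (⟨x, hxR⟩ : R) p)
      rw [← Polynomial.aeval_algHom_apply]
      exact hp.symm
    rw [h5, ← Polynomial.aeval_algHom_apply, hψx] at h4
    have hp0 : p = 0 := by
      by_contra hp0
      exact hT ⟨p, hp0, h4⟩
    apply hc0
    apply Subtype.ext
    rw [← hp, hp0]
    simp
  have : IsFractionRing R K := by
    refine .of_field _ _ fun z => ?_
    have hz : z ∈ IntermediateField.adjoin k S := by rw [hS]; trivial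
    obtain ⟨b, hb, c, hc, eq⟩ := IntermediateField.mem_adjoin_iff_div.mp hz
    exact ⟨⟨b, hSR hb⟩, ⟨c, hSR hc⟩, eq⟩
  refine ⟨IsFractionRing.liftAlgHom (A := R) (K := K) (g := ψ₀) hinj, ?_⟩
  rw [← hψx, IsFractionRing.liftAlgHom_apply]
  exact IsFractionRing.lift_algebraMap (g := (ψ₀ : R →+* L)) hinj ⟨x, hxR⟩

/-- a non-constant fraction of polynomials over an infinite field stays non-constant on some line -/
theorem exists_line {k : Type u} [Field k] [Infinite k] {n : ℕ} (a f : MvPolynomial (Fin n) k) (hf : f ≠ 0)
    (ha : ∀ c : k, a ≠ MvPolynomial.C c * f) :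
    ∃ ev : MvPolynomial (Fin n) k →ₐ[k] RatFunc k, ev f ≠ 0 ∧ ∀ c : k, ev a ≠ algebraMap k _ c * ev f := by
  classical
  obtain ⟨p, hp⟩ : ∃ p, MvPolynomial.eval p f ≠ 0 := by
    by_contra hcon
    push Not at hcon
    exact hf (MvPolynomial.funext (by simpa using hcon))
  let c := MvPolynomial.eval p a / MvPolynomial.eval p f
  have h1 : (a - MvPolynomial.C c * f) * f ≠ 0 := mul_ne_zero (sub_ne_zero.2 (ha c)) hf
  obtain ⟨q, hq⟩ : ∃ q, MvPolynomial.eval q ((a - MvPolynomial.C c * f) * f) ≠ 0 := by
    by_contra hcon
    push Not at hcon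
    exact h1 (MvPolynomial.funext (by simpa using hcon))
  let ev' : MvPolynomial (Fin n) k →ₐ[k] Polynomial k :=
    MvPolynomial.aeval (fun i => Polynomial.C (p i) + Polynomial.X * Polynomial.C (q i - p i))
  have ev0 : ∀ g, Polynomial.eval 0 (ev' g) = MvPolynomial.eval p g := by
    intro g
    have : ((Polynomial.aeval (0 : k)).comp ev') = MvPolynomial.aeval p := by
      apply MvPolynomial.algHom_ext
      intro i
      simp [ev']
    have h := DFunLike.congr_fun this g
    simpa [Polynomial.aeval_def, Polynomial.eval₂_eq_eval_map, MvPolynomial.aeval_eq_eval] using h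
  have ev1 : ∀ g, Polynomial.eval 1 (ev' g) = MvPolynomial.eval q g := by
    intro g
    have : ((Polynomial.aeval (1 : k)).comp ev') = MvPolynomial.aeval q := by
      apply MvPolynomial.algHom_ext
      intro i
      simp [ev']
    have h := DFunLike.congr_fun this g
    simpa [Polynomial.aeval_def, Polynomial.eval₂_eq_eval_map, MvPolynomial.aeval_eq_eval] using h
  have hinj : Function.Injective (algebraMap (Polynomial k) (RatFunc k)) := RatFunc.algebraMap_injective k
  refine ⟨(Algebra.ofId (Polynomial k) (RatFunc k)).restrictScalars k |>.comp ev', ?_, ?_⟩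
  · intro h
    apply hp
    rw [← ev0]
    have : ev' f = 0 := hinj (by rw [map_zero]; exact h)
    rw [this, Polynomial.eval_zero]
  · intro c' h
    have h2 : ev' a = Polynomial.C c' * ev' f := by
      apply hinj
      rw [map_mul]
      exact h
    have e0 : MvPolynomial.eval p a = c' * MvPolynomial.eval p f := by
      rw [← ev0, ← ev0, h2, Polynomial.eval_mul, Polynomial.eval_C]
    have e1 : MvPolynomial.eval q a = c' * MvPolynomial.eval q f := by
      rw [← ev1, ← ev1, h2, Polynomial.eval_mul, Polynomial.eval_C]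
    have hc : c = c' := by
      simp only [c]
      rw [e0, mul_div_assoc, div_self hp, mul_one]
    apply hq
    rw [map_mul, map_sub, map_mul, MvPolynomial.eval_C, hc, e1, sub_self, zero_mul]

/-- Over an algebraically closed field k, a unirational variety of dimension one is rational. Field
form: let K be a finitely generated field extension of k of transcendence degree one (K is algebraic
over k(x) for some x ∈ K transcendental over k) admitting a k-embedding into a purely transcendental
extension k(t_1, ..., t_n). Then K = k(t) for some t ∈ K transcendental over k. -/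
theorem result (k : Type u) [Field k] [IsAlgClosed k]
    (K : Type u) [Field K] [Algebra k K] (hfg : (⊤ : IntermediateField k K).FG)
    (x : K) (hx : Transcendental k x) (halg : Algebra.IsAlgebraic ↥(IntermediateField.adjoin k {x}) K)
    (n : ℕ) (φ : K →ₐ[k] FractionRing (MvPolynomial (Fin n) k)) :
    ∃ t : K, Transcendental k t ∧ IntermediateField.adjoin k {t} = ⊤ := by
  classical
  obtain ⟨S₀, hS₀⟩ := hfg
  let S : Finset K := insert x S₀
  have hS : IntermediateField.adjoin k (S : Set K) = ⊤ := by
    rw [eq_top_iff, ← hS₀]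
    apply IntermediateField.adjoin.mono
    intro y hy
    exact Finset.mem_coe.2 (Finset.mem_insert_of_mem hy)
  -- common denominator
  obtain ⟨⟨f, hf⟩, hfS⟩ := IsLocalization.exist_integer_multiples_of_finset
    (nonZeroDivisors (MvPolynomial (Fin n) k)) (S.image φ)
  have hf0 : f ≠ 0 := nonZeroDivisors.ne_zero hf
  have hfS' : ∀ s ∈ S, ∃ a : MvPolynomial (Fin n) k,
      φ s * algebraMap _ (FractionRing (MvPolynomial (Fin n) k)) f =
        algebraMap _ (FractionRing (MvPolynomial (Fin n) k)) a := by
    intro s hs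
    obtain ⟨a, ha⟩ := hfS (φ s) (Finset.mem_image_of_mem _ hs)
    refine ⟨a, ?_⟩
    rw [ha, mul_comm, ← Algebra.smul_def]
  obtain ⟨a, ha⟩ := hfS' x (Finset.mem_insert_self _ _)
  have hnc : ∀ c : k, a ≠ MvPolynomial.C c * f := by
    rintro c rfl
    rw [map_mul] at ha
    have hf1 : algebraMap _ (FractionRing (MvPolynomial (Fin n) k)) f ≠ 0 := by
      rwa [Ne, IsFractionRing.to_map_eq_zero_iff]
    have h1 := mul_right_cancel₀ hf1 ha
    have h2 : φ x = φ (algebraMap k K c) := by
      rw [h1, AlgHom.commutes]
      rfl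
    have h3 : x = algebraMap k K c := φ.toRingHom.injective h2
    apply hx
    rw [h3]
    exact isAlgebraic_algebraMap c
  obtain ⟨ev, hev0, hev1⟩ := exists_line a f hf0 hnc
  have hT : Transcendental k (ev a / ev f) := by
    rw [Transcendental]
    intro hA
    have : ∃ c : k, algebraMap k (RatFunc k) c = ev a / ev f := by
      have hc : (RatFunc.C : k →+* RatFunc k) = algebraMap k (RatFunc k) := rfl
      by_contra hcon
      apply RatFunc.transcendental_of_ne_C (ev a / ev f) ?_ hA
      rintro ⟨c, hc'⟩
      exact hcon ⟨c, hc'.symm⟩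
    obtain ⟨c, hc⟩ := this
    exact hev1 c (by rw [hc, div_mul_cancel₀ _ hev0])
  obtain ⟨ψ, hψ⟩ := exists_algHom_of_specialization ev φ S hS f hev0 hfS' x halg a ha hT
  -- Lüroth
  let E : IntermediateField k (RatFunc k) := ψ.fieldRange
  have hE : E ≠ ⊥ := by
    intro hE
    have : ψ x ∈ E := ⟨x, rfl⟩
    rw [hE, IntermediateField.mem_bot] at this
    obtain ⟨c, hc⟩ := this
    rw [hψ] at hc
    apply hT
    rw [← hc]
    exact isAlgebraic_algebraMap c
  obtain ⟨t, ht⟩ : ∃ t : K, ψ t = RatFunc.Luroth.generator E := RatFunc.Luroth.generator_mem (E := E)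
  refine ⟨t, ?_, ?_⟩
  · intro hA
    apply RatFunc.Luroth.transcendental_generator hE
    rw [← ht]
    exact hA.algHom ψ
  · have h1 : (IntermediateField.adjoin k {t}).map ψ = (⊤ : IntermediateField k K).map ψ := by
      rw [IntermediateField.adjoin_map, Set.image_singleton, ht, ← RatFunc.Luroth.eq_adjoin_generator,
        ← AlgHom.fieldRange_eq_map]
    exact IntermediateField.map_injective ψ h1

end Groth.Agent.S11238
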