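import Groth.Statements.S11240
import Mathlib.LinearAlgebra.Matrix.Transvection
import Mathlib.Algebra.MvPolynomial.Eval

set_option autoImplicit false
universe u
open AGF

namespace Groth.Agent.S11240

/-- rows of `(transvection i j c) * X` restricted to `I`, when `i = I r₀`. -/
theorem submatrix_transvection_mul {R : Type*} [CommRing R] (n m p : ℕ) (i j : Fin n) (c : R)
    (X : Matrix (Fin n) (Fin m) R) (I : Fin p ↪o Fin n) (J : Fin p ↪o Fin m) (r₀ : Fin p) (hr : I r₀ = i) :
    (Matrix.transvection i j c * X).submatrix I J =
      (X.submatrix I J).updateRow r₀ ((X.submatrix I J) r₀ + c • fun q => X j (J q)) := by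
  ext r q
  rw [Matrix.submatrix_apply, Matrix.updateRow_apply]
  split_ifs with h
  · subst h
    subst hr
    rw [Matrix.transvection_mul_apply_same]
    rfl
  · rw [Matrix.transvection_mul_apply_of_ne, Matrix.submatrix_apply]
    intro h'
    exact h (I.injective (h'.trans hr.symm))

theorem submatrix_transvection_mul' {R : Type*} [CommRing R] (n m p : ℕ) (i j : Fin n) (c : R)
    (X : Matrix (Fin n) (Fin m) R) (I : Fin p ↪o Fin n) (J : Fin p ↪o Fin m) (hr : i ∉ Set.range I) :
    (Matrix.transvection i j c * X).submatrix I J = X.submatrix I J := by
  ext r q
  rw [Matrix.submatrix_apply, Matrix.transvection_mul_apply_of_ne, Matrix.submatrix_apply]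
  intro h'
  exact hr ⟨r, h'⟩

/-- For a single root subgroup: let k be an algebraically closed field and X = (x_ab) the generic n × m
matrix over the polynomial ring k[x_ab]. Let i ≠ j be row indices and let I (rows) and J (columns)
be strictly increasing sequences of length p. The minor of X with rows I and columns J is invariant
under replacing X by (1 + b·E_ij)·X for every b ∈ k (the one-parameter unipotent group adding b
times row j to row i) if and only if j occurs in I whenever i does. (The published statement gives
the criterion for the group generated by several such root subgroups, which is the conjunction of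
these.) -/
theorem result (k : Type u) [Field k] [IsAlgClosed k] (n m p : ℕ)
    (i j : Fin n) (hij : i ≠ j) (I : Fin p ↪o Fin n) (J : Fin p ↪o Fin m) :
    (∀ b : k, ((Matrix.transvection i j (MvPolynomial.C b) *
        (Matrix.of fun a c => (MvPolynomial.X (a, c) : MvPolynomial (Fin n × Fin m) k))).submatrix I J).det =
        ((Matrix.of fun a c => (MvPolynomial.X (a, c) : MvPolynomial (Fin n × Fin m) k)).submatrix I J).det) ↔
      (i ∈ Set.range I → j ∈ Set.range I) := by
  classical
  constructor
  · rintro h ⟨r₀, hr₀⟩
    by_contra hj
    have h1 := h 1
    rw [submatrix_transvection_mul n m p i j _ _ I J r₀ hr₀, Matrix.det_updateRow_add,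
      Matrix.updateRow_eq_self, MvPolynomial.C_1, one_smul, add_eq_left] at h1
    -- evaluate at a permutation-like matrix
    let I' : Fin p → Fin n := Function.update I r₀ j
    let ev : MvPolynomial (Fin n × Fin m) k →+* k :=
      MvPolynomial.eval (fun ac : Fin n × Fin m => if ∃ r, I' r = ac.1 ∧ J r = ac.2 then (1 : k) else 0)
    have h2 := congrArg ev h1
    rw [map_zero, RingHom.map_det] at h2
    have hI' : Function.Injective I' := by
      intro a b hab
      simp only [I', Function.update_apply] at hab
      split_ifs at hab with ha hb hb
      · rw [ha, hb]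
      · exact absurd ⟨b, hab.symm⟩ hj
      · exact absurd ⟨a, hab⟩ hj
      · exact I.injective hab
    have h3 : ev.mapMatrix (((Matrix.of fun a c => (MvPolynomial.X (a, c) : MvPolynomial (Fin n × Fin m) k)).submatrix I J).updateRow
        r₀ fun q => (Matrix.of fun a c => (MvPolynomial.X (a, c) : MvPolynomial (Fin n × Fin m) k)) j (J q)) = 1 := by
      ext r q
      rw [RingHom.mapMatrix_apply, Matrix.map_apply, Matrix.updateRow_apply, Matrix.one_apply]
      have key : ∀ r q : Fin p, ev (MvPolynomial.X (I' r, J q)) = if r = q then 1 else 0 := by
        intro r q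
        simp only [ev, MvPolynomial.eval_X]
        refine if_congr ⟨?_, ?_⟩ rfl rfl
        · rintro ⟨r', h1, h2⟩
          rw [← hI' h1, J.injective h2]
        · rintro rfl
          exact ⟨r, rfl, rfl⟩
      split_ifs with hr hrq hrq
      · have := key r q
        simp only [I', hr, Function.update_self] at this
        rw [Matrix.of_apply, this, if_pos (by rw [← hrq, hr])]
      · have := key r q
        simp only [I', hr, Function.update_self] at this
        rw [Matrix.of_apply, this, if_neg (by rw [← hr]; exact hrq)]
      · have := key r q
        simp only [I', Function.update_of_ne hr] at this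
        rw [Matrix.submatrix_apply, Matrix.of_apply, this, if_pos hrq]
      · have := key r q
        simp only [I', Function.update_of_ne hr] at this
        rw [Matrix.submatrix_apply, Matrix.of_apply, this, if_neg hrq]
    rw [h3, Matrix.det_one] at h2
    exact one_ne_zero h2
  · intro h b
    by_cases hi : i ∈ Set.range I
    · obtain ⟨r₁, hr₁⟩ := h hi
      obtain ⟨r₀, hr₀⟩ := hi
      rw [submatrix_transvection_mul n m p i j _ _ I J r₀ hr₀, Matrix.det_updateRow_add,
        Matrix.updateRow_eq_self, Matrix.det_updateRow_smul, add_eq_left]
      have hne : r₀ ≠ r₁ := by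
        rintro rfl
        exact hij (hr₀.symm.trans hr₁)
      rw [Matrix.det_zero_of_row_eq hne, mul_zero]
      ext q
      rw [Matrix.updateRow_self, Matrix.updateRow_ne hne.symm, Matrix.submatrix_apply, hr₁]
    · rw [submatrix_transvection_mul' n m p i j _ _ I J hi]

end Groth.Agent.S11240
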