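import Groth.Statements.S11242
import Groth.Agent.AGF.K498.SemiInv

set_option autoImplicit false
universe u
open CategoryTheory MonoidalCategory CartesianMonoidalCategory MonObj GrpObj AlgebraicGeometry
open scoped TensorProduct
open AGF

namespace Groth.Agent.S11242

/-- Let k be an algebraically closed field, G a connected reductive linear algebraic group over k, B a
Borel subgroup of G with unipotent radical U, T a maximal torus of G contained in B, and ω a
character of T. Consider the space E(ω) of global functions f on G which are invariant under right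
translation by U and on which right translation by T acts through ω (f(x·u) = f(x), f(x·t) =
ω(t)·f(x)); the published statement writes this space with its weight twisted by the opposition
involution, and finite-dimensionality is the same statement. This space is finite-dimensional: there
are finitely many global functions such that every member of E(ω) is a combination of them with
constant coefficients. -/
theorem result (k : Type u) [Field k] [IsAlgClosed k]
    (G : Over (Spec (CommRingCat.of k))) [GrpObj G] (hG : Red.IsReductiveOver k G)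
    (Bo : Over (Spec (CommRingCat.of k))) [GrpObj Bo] (iB : Bo ⟶ G) (hB : Red.IsBorelOver k iB)
    (U : Over (Spec (CommRingCat.of k))) [GrpObj U] (u : U ⟶ Bo) (hU : Par.IsUnipotentRadical u)
    (T : Over (Spec (CommRingCat.of k))) [GrpObj T] (t : T ⟶ Bo) [IsMonHom t] (hT : AGF.IsMaxTorus (t ≫ iB))
    (ω : T ⟶ Red.Gm (Spec (CommRingCat.of k))) [IsMonHom ω] :
    ∃ s : Finset Γ(G.left, ⊤), ∀ f : Γ(G.left, ⊤),
      ((G ◁ (u ≫ iB)) ≫ μ[G]).left.appTop f = (fst G U).left.appTop f →
      ((G ◁ (t ≫ iB)) ≫ μ[G]).left.appTop f = (fst G T).left.appTop f * (snd G T).left.appTop (Red.gmFn ω) →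
        ∃ c : Γ(G.left, ⊤) → k,
          f = ∑ g ∈ s, G.hom.appTop ((Scheme.ΓSpecIso (CommRingCat.of k)).inv (c g)) * g := by
  have h0 : IsAffine G.left := hG.1
  have h1 : Smooth G.hom := hG.2.1
  have h2 : IsMonHom iB := hB.1
  have h3 : IsMonHom u := hU.1
  obtain ⟨A, _, _, e, he, hft, -⟩ := K495.Bridge.exists_data G
  have h4 : IsDomain A := (Groth.Agent.Sga3B.RG.BrRed.isRedPt_of_isReductiveOver
    (Groth.Agent.Sga3B.RG.BrRed2.isReductiveOver_of_iso e hG)).1
  have h5 : Mono ((t ≫ iB) ≫ e.hom) := by
    have := hT.2.1
    exact mono_comp _ _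
  have h6 : IsMonHom (t ≫ iB) := hT.1
  have h7 := Groth.Agent.Sga3B.RG.BrTorus.isClosedImmersion_of_torus ((t ≫ iB) ≫ e.hom) hT.2.2.1
  have h8 : Smooth T.hom := Groth.Agent.Sga3B.TorusAlgClosed.smooth_of_isTorus hT.2.2.1
  have h9 : IsAffine T.left := isAffine_of_isAffineHom ((t ≫ iB) ≫ e.hom).left
  exact K498.SemiInv.exists_finset e hB hU t hT (Red.gmFn ω)

end Groth.Agent.S11242
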