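import Groth.Statements.S11243
import Groth.Agent.RootD.K222.Simple
import Groth.Agent.S2955

set_option autoImplicit false
universe u v w
open RootD

namespace Groth.Agent.S11243

/-- (b), for a connected group, as a statement about its root datum: let P be a finite reduced
crystallographic root pairing over ℤ with weight lattice M, and b a base of P (simple roots,
determining the positive roots). Then there is an additive map h : M → ℤ which is positive on every
positive root (so that h strictly increases along the dominance order) and non-negative on every
dominant weight, i.e. on every ω ∈ M pairing non-negatively with all simple coroots. (Part (c),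
invariance under the component group of a disconnected group, is not stated.) -/
theorem result {ι : Type u} {M : Type v} {N : Type w}
    [Fintype ι] [AddCommGroup M] [AddCommGroup N]
    (P : RootPairing ι ℤ M N) [P.IsReduced] [P.IsCrystallographic] (b : P.Base) :
    ∃ h : M →+ ℤ, (∀ i : ι, b.IsPos i → 0 < h (P.root i)) ∧
      ∀ ω : M, (∀ j ∈ b.support, 0 ≤ P.toLinearMap ω (P.coroot j)) → 0 ≤ h ω := by
  classical
  set ρ : M := ∑ i, if b.IsPos i then P.root i else 0 with hρ
  -- `⟨2ρ, α_j^∨⟩ = 2` for simple `j`
  have h2 : ∀ j ∈ b.support, P.coroot' j ρ = 2 := by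
    intro j hj
    have h := Groth.Agent.S2955.result P b j hj
    rw [P.reflection_apply] at h
    have h' : P.coroot' j ρ • P.root j = (2 : ℤ) • P.root j := by
      have := sub_right_inj.1 h
      exact this
    have := K222.Simple.isReflexive P
    exact smul_left_injective ℤ (P.ne_zero j) h'
  have key : ∀ j ∈ b.support, ∀ x : M, 2 * P.RootForm x (P.root j) =
      P.RootForm (P.root j) (P.root j) * P.coroot' j x := by
    intro j _ x
    rw [K222.Simple.form_symm, K222.Simple.two_mul_form]
  -- the map `x ↦ (x, 2ρ)`
  have hcomb : ∀ x : M, (∀ j ∈ b.support, 0 ≤ P.RootForm x (P.root j)) → ∀ i, b.IsPos i →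
      0 ≤ P.RootForm x (P.root i) := by
    intro x hx i hi
    exact hi.induction_on_add (p := fun i => 0 ≤ P.RootForm x (P.root i)) hx
      (fun i j k hk h hj => by rw [hk, map_add]; exact add_nonneg h (hx j hj))
  refine ⟨(P.RootForm.flip ρ).toAddMonoidHom, ?_, ?_⟩
  · intro i hi
    change 0 < P.RootForm (P.root i) ρ
    refine hi.induction_on_add (p := fun i => 0 < P.RootForm (P.root i) ρ) ?_ ?_
    · intro j hj
      rw [K222.Simple.form_pos_iff, h2 j hj]
      norm_num
    · intro i j k hk h hj
      rw [hk, map_add, LinearMap.add_apply]
      refine add_pos h ?_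
      rw [K222.Simple.form_pos_iff, h2 j hj]
      norm_num
  · intro ω hω
    change 0 ≤ P.RootForm ω ρ
    rw [hρ, map_sum]
    refine Finset.sum_nonneg fun i _ => ?_
    split_ifs with hi
    · refine hcomb ω (fun j hj => ?_) i hi
      rw [K222.Simple.form_symm, K222.Simple.form_nonneg_iff]
      exact hω j hj
    · simp

end Groth.Agent.S11243
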