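import Groth.Statements.S11245
import Groth.Agent.AGF.K498.CharZero

set_option autoImplicit false
universe u
open CategoryTheory MonoidalCategory CartesianMonoidalCategory MonObj GrpObj AlgebraicGeometry
open scoped TensorProduct
open AGF

namespace Groth.Agent.S11245

/-- Let k be an algebraically closed field of characteristic zero, G a linear algebraic group over k
(affine, smooth) whose identity component is reductive, B a Borel subgroup with unipotent radical U.
Then every rational G-module V equals G·V^U, the intersection of all G-stable subspaces of V
containing the U-invariants V^U. (In characteristic zero every finite-dimensional rational G-module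
is completely reducible, a classical result on which the proof rests.) -/
theorem result (k : Type u) [Field k] [IsAlgClosed k] [CharZero k]
    (G : Over (Spec (CommRingCat.of k))) [GrpObj G] (hG : VecGrp.IsReductiveGrp k G)
    (Bo : Over (Spec (CommRingCat.of k))) [GrpObj Bo] (iB : Bo ⟶ G) (hB : Red.IsBorelOver k iB)
    (U : Over (Spec (CommRingCat.of k))) [GrpObj U] (u : U ⟶ Bo) (hU : Par.IsUnipotentRadical u)
    (V : Type u) [AddCommGroup V] [Module k V] (ρ : VecGrp.GMod G V) :
    sInf {W : Submodule k V | ρ.fixedUnder (u ≫ iB) ≤ W ∧ ρ.IsStable (𝟙 G) W} = ⊤ := by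
  have h1 : IsMonHom iB := hB.1
  have h2 : IsClosedImmersion iB.left := hB.2.1
  have h3 : Smooth Bo.hom := hB.2.2.1
  rw [eq_top_iff]
  refine le_sInf fun W hW => ?_
  rw [K498.CharZero.eq_top hG iB u hU ρ W hW.1 hW.2]

end Groth.Agent.S11245
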