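import Groth.Statements.S11247
import Groth.Agent.AGF.K498.DomWt8

set_option autoImplicit false
universe u
open CategoryTheory MonoidalCategory CartesianMonoidalCategory MonObj GrpObj AlgebraicGeometry
open scoped TensorProduct
open AGF

namespace Groth.Agent.S11247

/-- Let k be an algebraically closed field, G a connected reductive linear algebraic group over k with a
splitting D (maximal torus T = D.T ≅ D_k(M), root datum P on the character lattice M, root
homomorphisms u_a : 𝔾_a ⟶ G), b a base of P (simple roots), B a Borel subgroup of G containing T and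
the root groups of all b-positive roots, and U the unipotent radical of B. Let ω ∈ M be a dominant
weight and consider the global functions f on G with f(x·u') = f(x) (u' in U) and f(x·t') =
ω(t')·f(x) (t' in T). Among these, the functions also invariant under left translation by U (f(u'·x)
= f(x)) form a one-dimensional space: there is a nonzero such f₀ and every such f is c·f₀ for a
constant c ∈ k. (The published statement also gives the left T-weight of f₀; this row omits it.) -/
theorem result (k : Type u) [Field k] [IsAlgClosed k]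
    (G : Over (Spec (CommRingCat.of k))) [GrpObj G] [ConnectedSpace ↥G.left] (D : Red.SplitRed G) (bs : D.P.Base)
    (Bo : Over (Spec (CommRingCat.of k))) [GrpObj Bo] (iB : Bo ⟶ G) (hB : Red.IsBorelOver k iB)
    (U : Over (Spec (CommRingCat.of k))) [GrpObj U] (u : U ⟶ Bo) (hU : Par.IsUnipotentRadical u)
    (t : D.T ⟶ Bo) [IsMonHom t] (ht : t ≫ iB = D.i)
    (hpos : ∀ a : D.idx, bs.IsPos a → ∃ v : Red.Ga (Spec (CommRingCat.of k)) ⟶ Bo, v ≫ iB = D.u a)
    (ω : D.M) (hω : ∀ j ∈ bs.support, 0 ≤ D.P.toLinearMap ω (D.P.coroot j)) :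
    ∃ f₀ : Γ(G.left, ⊤), f₀ ≠ 0 ∧
      ((G ◁ (u ≫ iB)) ≫ μ[G]).left.appTop f₀ = (fst G U).left.appTop f₀ ∧
      ((G ◁ D.i) ≫ μ[G]).left.appTop f₀ =
          (fst G D.T).left.appTop f₀ * (snd G D.T).left.appTop (Red.gmFn (D.split.hom.hom.hom ≫ Red.chi (Spec (CommRingCat.of k)) ω)) ∧
      (((u ≫ iB) ▷ G) ≫ μ[G]).left.appTop f₀ = (snd U G).left.appTop f₀ ∧
      ∀ f : Γ(G.left, ⊤),
        ((G ◁ (u ≫ iB)) ≫ μ[G]).left.appTop f = (fst G U).left.appTop f →
        ((G ◁ D.i) ≫ μ[G]).left.appTop f =
          (fst G D.T).left.appTop f * (snd G D.T).left.appTop (Red.gmFn (D.split.hom.hom.hom ≫ Red.chi (Spec (CommRingCat.of k)) ω)) →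
        (((u ≫ iB) ▷ G) ≫ μ[G]).left.appTop f = (snd U G).left.appTop f →
          ∃ c : k, f = G.hom.appTop ((Scheme.ΓSpecIso (CommRingCat.of k)).inv c) * f₀ := by
  exact K498.DomWt8.main D bs hB hU t ht hpos ω hω

end Groth.Agent.S11247
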