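import Groth.Statements.S11248
import Groth.Agent.AGF.K498.NormInv
import Groth.Agent.S11208
import Groth.Agent.S11225

set_option autoImplicit false
universe u
open CategoryTheory MonoidalCategory CartesianMonoidalCategory MonObj GrpObj AlgebraicGeometry
open scoped TensorProduct
open AGF

namespace Groth.Agent.S11248

/-- Let k be an algebraically closed field, G a linear algebraic group over k (affine, smooth) acting
rationally by algebra automorphisms on a commutative k-algebra A, H a smooth closed subgroup of G,
and L a smooth closed subgroup of G whose identity component is reductive and which normalizes H;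
let B_L be a Borel subgroup of L and U(L) its unipotent radical (a maximal unipotent subgroup of L).
Assume finite generation of invariants of reductive groups over k on finitely generated algebras (a
true result which the published text assumes without proof, carried here as a hypothesis). Then A^H
is a finitely generated k-algebra exactly when the algebra of invariants of H·U(L), namely A^H ∩
A^{U(L)}, is finitely generated over k. -/
theorem result (k : Type u) [Field k] [IsAlgClosed k]
    (G : Over (Spec (CommRingCat.of k))) [GrpObj G] [IsAffine G.left] [Smooth G.hom]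
    (H : Over (Spec (CommRingCat.of k))) [GrpObj H] [Smooth H.hom] (i : H ⟶ G) [IsMonHom i] [IsClosedImmersion i.left]
    (L : Over (Spec (CommRingCat.of k))) [GrpObj L] (j : L ⟶ G) [IsMonHom j] [IsClosedImmersion j.left]
    (hL : VecGrp.IsReductiveGrp k L)
    (hnorm : ∀ (X : Over (Spec (CommRingCat.of k))) (l : X ⟶ L) (h : X ⟶ H),
      ∃ h' : X ⟶ H, (l ≫ j) * (h ≫ i) * (l ≫ j)⁻¹ = h' ≫ i)
    (BL : Over (Spec (CommRingCat.of k))) [GrpObj BL] (iBL : BL ⟶ L) (hBL : Red.IsBorelOver k iBL)
    (UL : Over (Spec (CommRingCat.of k))) [GrpObj UL] (uL : UL ⟶ BL) (hUL : Par.IsUnipotentRadical uL)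
    (thmA : VecGrp.ReductiveInvariantsFG k)
    (A : Type u) [CommRing A] [Algebra k A] (ρ : VecGrp.GMod G A) (hρ : ρ.IsMult) :
    Algebra.FiniteType k ↥(ρ.fixedSubalgebra hρ i) ↔
      Algebra.FiniteType k ↥(ρ.fixedSubalgebra hρ i ⊓ ρ.fixedSubalgebra hρ (uL ≫ iBL ≫ j)) := by
  have hLaff : IsAffine L.left := isAffine_of_isAffineHom j.left
  have hLsm : Smooth L.hom := hL.2.1
  obtain ⟨C, _, _, e, _, _, _⟩ := K495.Bridge.exists_data L
  obtain ⟨m', hm', h⟩ := K498.NormInv.exists_action i j e hnorm ρ hρ
  have h1 := h (uL ≫ iBL)
  rw [Category.assoc] at h1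
  rw [← h1, K498.NormInv.finiteType_map_iff]
  constructor
  · intro hft
    exact Groth.Agent.S11208.result k L hL BL iBL hBL UL uL hUL thmA _ m' hm'
  · intro hft
    exact Groth.Agent.S11225.result k L hL BL iBL hBL UL uL hUL thmA _ m' hm' hft

end Groth.Agent.S11248
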