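import Groth.Statements.S11252
import Groth.Agent.W4bk4grassmannian.K676.Schubert

set_option autoImplicit false
universe u
open W4bk4grassmannian

namespace Groth.Agent.S11252

open W4bk4grassmannian in
/-- Standard monomial basis for a union of Schubert varieties: let K be an algebraically closed field, 0
< d < n, and I(d,n) the strictly increasing maps Fin d → Fin n ordered entrywise; S = K[X_θ : θ ∈
I(d,n)] is the Plücker polynomial ring and, for τ ∈ I(d,n), J(τ) ⊆ S is the ideal of polynomials
vanishing at the d × d row-minors of every n × d matrix over K whose minors on rows φ ≰ τ are zero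
(the homogeneous ideal of the Schubert variety X(τ) ⊆ G(d,n)). Let τ_1, …, τ_r ∈ I(d,n) and let J =
⋂_i J(τ_i) be the homogeneous ideal of the union ⋃_i X(τ_i). Then the classes in S/J of the
monomials X_{θ_1} ⋯ X_{θ_m} (m ≥ 0) along chains θ_1 ≥ ⋯ ≥ θ_m all of whose members lie below some
τ_i are linearly independent over K and span S/J. -/
theorem result (K : Type u) [Field K] [IsAlgClosed K] (d n : ℕ)
    (hd : 0 < d) (hdn : d < n) (r : ℕ) (τs : Fin r → Idx d n) :
    LinearIndependent K (fun c : (Σ m : ℕ, {c : Fin m → Idx d n // Antitone c ∧ ∃ i, ∀ k, c k ≤ τs i}) =>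
        Ideal.Quotient.mk (⨅ i, schubertVanishing K d n (τs i)) (chainMon K c.2.1)) ∧
      Submodule.span K (Set.range fun c : (Σ m : ℕ, {c : Fin m → Idx d n // Antitone c ∧ ∃ i, ∀ k, c k ≤ τs i}) =>
        Ideal.Quotient.mk (⨅ i, schubertVanishing K d n (τs i)) (chainMon K c.2.1)) = ⊤ := by
  haveI : Infinite K := inferInstance
  let W : Set (Idx d n) := {θ | ∃ i, θ ≤ τs i}
  have hW : IsLowerSet W := by
    rintro a b hab ⟨i, hi⟩
    exact ⟨i, hab.trans hi⟩
  have hJ : (⨅ i, schubertVanishing K d n (τs i)) = K676.Schubert.JW K W := by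
    unfold K676.Schubert.JW
    apply le_antisymm
    · refine le_iInf fun w => le_iInf fun hw => ?_
      obtain ⟨i, hi⟩ := hw
      exact (iInf_le _ i).trans (K676.ShuffleVanish.schubertVanishing_mono K hi)
    · exact le_iInf fun i => iInf_le_of_le (τs i) (iInf_le _ ⟨i, le_rfl⟩)
  constructor
  · have h := K677.LIGr.linearIndependent_mod K hd (Set.range τs) (⨅ i, schubertVanishing K d n (τs i))
      (by rintro _ ⟨i, rfl⟩; exact iInf_le _ i)
    let e : (Σ m : ℕ, {c : Fin m → Idx d n // Antitone c ∧ ∃ i, ∀ k, c k ≤ τs i}) →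
        (Σ m : ℕ, {c : Fin m → Idx d n // Antitone c ∧ ∃ w ∈ Set.range τs, ∀ k, c k ≤ w}) :=
      fun c => ⟨c.1, c.2.1, c.2.2.1, by
        obtain ⟨i, hi⟩ := c.2.2.2
        exact ⟨τs i, ⟨i, rfl⟩, hi⟩⟩
    have he : Function.Injective e := by
      rintro ⟨m, c, hc⟩ ⟨m', c', hc'⟩ h
      simp only [e, Sigma.mk.injEq] at h
      obtain ⟨rfl, h⟩ := h
      rw [heq_eq_eq, Subtype.mk.injEq] at h
      subst h
      rfl
    exact h.comp e he
  · rcases Nat.eq_zero_or_pos r with hr | hr
    · subst hr
      have htop : (⨅ i, schubertVanishing K d n (τs i)) = ⊤ := by simp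
      rw [htop]
      haveI : Subsingleton (PlRing K d n ⧸ (⊤ : Ideal (PlRing K d n))) :=
        Ideal.Quotient.subsingleton_iff.mpr rfl
      exact Subsingleton.elim _ _
    · have hne : W.Nonempty := ⟨τs ⟨0, hr⟩, ⟨0, hr⟩, le_rfl⟩
      rw [eq_top_iff]
      intro x _
      obtain ⟨f, rfl⟩ := Ideal.Quotient.mk_surjective x
      have h := K676.Schubert.span_W K hne (Submodule.mem_top (x := f))
      obtain ⟨g, hg, h', hh', rfl⟩ := Submodule.mem_sup.mp h
      have hg0 : Ideal.Quotient.mk (⨅ i, schubertVanishing K d n (τs i)) g = 0 := by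
        rw [Ideal.Quotient.eq_zero_iff_mem, hJ]
        exact K676.Schubert.IW_le_JW K hW hg
      rw [map_add, hg0, zero_add]
      have h2 := Submodule.mem_map_of_mem
        (f := (Ideal.Quotient.mkₐ K (⨅ i, schubertVanishing K d n (τs i))).toLinearMap) hh'
      rw [Submodule.map_span, ← Set.range_comp] at h2
      refine Submodule.span_mono ?_ h2
      rintro _ ⟨c, rfl⟩
      obtain ⟨m, c, hc, w, ⟨i, hi⟩, hcw⟩ := c
      exact ⟨⟨m, c, hc, i, fun k => (hcw k).trans hi⟩, rfl⟩

end Groth.Agent.S11252
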