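import Groth.Statements.S11261
import Groth.Agent.W4bk4grassmannian.K677.Fine
import Groth.Agent.W4bk4grassmannian.K676.ShuffleVanish

set_option autoImplicit false
universe u
open W4bk4grassmannian

namespace Groth.Agent.S11261

open W4bk4grassmannian in
/-- Shape of the straightening relations of a skew pair: let K be an algebraically closed field, 0 < d <
n, S = K[X_θ : θ ∈ I(d,n)] the Plücker polynomial ring on the strictly increasing maps Fin d → Fin n
ordered entrywise, and J ⊆ S the ideal of polynomials vanishing at the row-minors of every n × d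
matrix over K (the homogeneous ideal of G(d,n)). Let τ, φ ∈ I(d,n) be incomparable, with entrywise
maximum τ ∨ φ and minimum τ ∧ φ. Then there is a K-linear combination g of monomials X_α X_β with β
≤ α, τ ∨ φ < α and β < τ ∧ φ such that X_τ X_φ - X_{τ∨φ} X_{τ∧φ} - g lies in J. -/
theorem result (K : Type u) [Field K] [IsAlgClosed K] (d n : ℕ)
    (hd : 0 < d) (hdn : d < n) (τ φ : Idx d n) (h₁ : ¬ τ ≤ φ) (h₂ : ¬ φ ≤ τ) :
    ∃ g ∈ Submodule.span K {f : PlRing K d n | ∃ α β : Idx d n,
        β ≤ α ∧ W4bk4grassmannian.sup τ φ < α ∧ β < W4bk4grassmannian.inf τ φ ∧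
          f = MvPolynomial.X α * MvPolynomial.X β},
      MvPolynomial.X τ * MvPolynomial.X φ -
          MvPolynomial.X (W4bk4grassmannian.sup τ φ) * MvPolynomial.X (W4bk4grassmannian.inf τ φ) - g ∈
        vanishing K d n := by
  have hspan : (MvPolynomial.X τ * MvPolynomial.X φ : PlRing K d n) ∈
      (RingHom.ker (pluckerMap K d n)).restrictScalars K ⊔
      Submodule.span K (Set.range fun p : K677.Fine.SP d n =>
        (MvPolynomial.X p.1.1 * MvPolynomial.X p.1.2 : PlRing K d n)) := by
    have h1 := K676.Straighten.chainMon_mem K (![τ, φ] : Fin 2 → Idx d n)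
    have h2 : chainMon K (![τ, φ] : Fin 2 → Idx d n) = MvPolynomial.X τ * MvPolynomial.X φ := by
      unfold chainMon
      rw [Fin.prod_univ_two]
      rfl
    rw [h2] at h1
    refine (sup_le_sup ?_ ?_ : K676.Straighten.P K d n 2 ≤ _) h1
    · intro f hf
      have h3 : f ∈ vanishing K d n := K676.ShuffleVanish.plIdealTop_le_vanishing K hf
      exact (K677.LIGr.mem_vanishing_iff_pluckerMap K f).1 h3
    · apply Submodule.span_mono
      rintro _ ⟨c, hc, rfl⟩
      refine ⟨⟨(c 0, c 1), hc (by decide)⟩, ?_⟩
      unfold chainMon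
      rw [Fin.prod_univ_two]
  obtain ⟨g, hg, h⟩ := K677.Fine.shape K hd τ φ hspan
  refine ⟨g, hg, ?_⟩
  rw [K677.LIGr.mem_vanishing_iff_pluckerMap]
  exact h

end Groth.Agent.S11261
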