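import Groth.Statements.S11262
import Mathlib.RingTheory.MvPolynomial.Ideal
import Mathlib.RingTheory.MvPolynomial.Basic
import Mathlib.Algebra.Order.Antidiag.FinsuppEquiv
import Mathlib.LinearAlgebra.FreeModule.Finite.Matrix
-- import your own Groth.Agent.* helpers here

set_option autoImplicit false
universe u v
open W4bk4grassmannian

namespace Groth.Agent.S11262

open MvPolynomial

section
variable (K : Type u) [Field K] (L : Type v) [PartialOrder L]

/-- the Stanley-Reisner ideal -/
noncomputable def srI : Ideal (MvPolynomial L K) := Ideal.span {f : MvPolynomial L K | ∃ a b : L, ¬ a ≤ b ∧ ¬ b ≤ a ∧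
          f = MvPolynomial.X a * MvPolynomial.X b}

lemma mem_srI (f : MvPolynomial L K) : f ∈ srI K L ↔
    ∀ e ∈ f.support, ¬ IsChain (fun a b : L => a ≤ b) (↑e.support : Set L) := by
  classical
  have h1 : srI K L = Ideal.span ((fun s => monomial s (1 : K)) ''
      {s : L →₀ ℕ | ∃ a b : L, ¬ a ≤ b ∧ ¬ b ≤ a ∧ s = Finsupp.single a 1 + Finsupp.single b 1}) := by
    unfold srI
    congr 1
    ext f
    constructor
    · rintro ⟨a, b, hab, hba, rfl⟩
      refine ⟨_, ⟨a, b, hab, hba, rfl⟩, ?_⟩
      simp [X, monomial_mul]
    · rintro ⟨s, ⟨a, b, hab, hba, rfl⟩, rfl⟩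
      refine ⟨a, b, hab, hba, ?_⟩
      simp [X, monomial_mul]
  rw [h1, mem_ideal_span_monomial_image]
  refine forall_congr' fun e => forall_congr' fun he => ?_
  constructor
  · rintro ⟨s, ⟨a, b, hab, hba, rfl⟩, hle⟩ hch
    have hne : a ≠ b := fun h => hab (h ▸ le_rfl)
    have ha : a ∈ e.support := by
      rw [Finsupp.mem_support_iff]
      have := hle a
      simp [Finsupp.single_apply] at this
      omega
    have hb : b ∈ e.support := by
      rw [Finsupp.mem_support_iff]
      have := hle b
      simp [Finsupp.single_apply] at this
      omega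
    rcases hch ha hb hne with h | h
    · exact hab h
    · exact hba h
  · intro h
    unfold IsChain Set.Pairwise at h
    push Not at h
    obtain ⟨a, ha, b, hb, hne, hab, hba⟩ := h
    refine ⟨_, ⟨a, b, hab, hba, rfl⟩, ?_⟩
    intro x
    simp only [Finset.mem_coe, Finsupp.mem_support_iff] at ha hb
    by_cases hxa : a = x
    · subst hxa
      simp [Ne.symm hne]
      omega
    · by_cases hxb : b = x
      · subst hxb
        simp [hne]
        omega
      · simp [hxa, hxb]

/-- exponents of degree `m` with chain support -/
def T (m : ℕ) : Set (L →₀ ℕ) := {e | e.degree = m ∧ IsChain (fun a b : L => a ≤ b) (↑e.support : Set L)}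

lemma map_eq (m : ℕ) : (MvPolynomial.homogeneousSubmodule L K m).map
        (Ideal.Quotient.mkₐ K (srI K L)).toLinearMap =
      (MvPolynomial.restrictSupport K (T L m)).map (Ideal.Quotient.mkₐ K (srI K L)).toLinearMap := by
  classical
  apply le_antisymm
  · rw [homogeneousSubmodule_eq_finsupp_supported]
    change (MvPolynomial.restrictSupport K _).map _ ≤ _
    rw [restrictSupport_eq_span, Submodule.map_span, Submodule.span_le]
    rintro _ ⟨_, ⟨e, he, rfl⟩, rfl⟩
    by_cases hch : IsChain (fun a b : L => a ≤ b) (↑e.support : Set L)
    · refine Submodule.mem_map_of_mem ?_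
      rw [monomial_mem_restrictSupport]
      exact Or.inl ⟨he, hch⟩
    · have h0 : (Ideal.Quotient.mkₐ K (srI K L)).toLinearMap (monomial e 1) = 0 := by
        show Ideal.Quotient.mk (srI K L) (monomial e 1) = 0
        rw [Ideal.Quotient.eq_zero_iff_mem, mem_srI]
        intro e' he'
        have := MvPolynomial.support_monomial_subset he'
        rw [Finset.mem_singleton] at this
        rw [this]; exact hch
      show (Ideal.Quotient.mkₐ K (srI K L)).toLinearMap (monomial e 1) ∈ _
      rw [h0]
      exact Submodule.zero_mem _
  · apply Submodule.map_mono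
    rw [homogeneousSubmodule_eq_finsupp_supported]
    exact restrictSupport_mono K (fun e he => he.1)

lemma finrank_eq (m : ℕ) : Module.finrank K ((MvPolynomial.homogeneousSubmodule L K m).map
        (Ideal.Quotient.mkₐ K (srI K L)).toLinearMap) = Nat.card (T L m) := by
  classical
  rw [map_eq]
  have hinj : Function.Injective ((Ideal.Quotient.mkₐ K (srI K L)).toLinearMap.domRestrict
      (MvPolynomial.restrictSupport K (T L m))) := by
    rw [← LinearMap.ker_eq_bot, LinearMap.ker_eq_bot']
    rintro ⟨f, hf⟩ h0
    have h0' : Ideal.Quotient.mk (srI K L) f = 0 := h0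
    rw [Ideal.Quotient.eq_zero_iff_mem, mem_srI] at h0'
    rw [mem_restrictSupport_iff] at hf
    apply Subtype.ext
    show f = 0
    rw [← MvPolynomial.support_eq_empty, Finset.eq_empty_iff_forall_notMem]
    intro e he
    exact h0' e he (hf he).2
  have h1 := LinearMap.finrank_range_of_inj hinj
  rw [LinearMap.range_domRestrict] at h1
  rw [h1, Module.finrank_eq_nat_card_basis (MvPolynomial.basisRestrictSupport K (T L m))]

end

section
variable (L : Type v) [Fintype L]

/-- number of exponents with given support and degree -/
lemma card_support_eq [DecidableEq L] (m : ℕ) (hm : 1 ≤ m) (C : Finset L) (hC : C.Nonempty) :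
    Nat.card {e : L →₀ ℕ // e.degree = m ∧ e.support = C} = Nat.choose (m - 1) (C.card - 1) := by
  have hc : 1 ≤ C.card := hC.card_pos
  by_cases hcm : C.card ≤ m
  · have hcard := Finset.card_finsuppAntidiag_nat_eq_choose (s := C) (m - C.card)
    have hch : Nat.choose (C.card + (m - C.card) - 1) (m - C.card) = Nat.choose (m - 1) (C.card - 1) := by
      rw [show C.card + (m - C.card) - 1 = m - 1 by omega]
      rw [← Nat.choose_symm (show m - C.card ≤ m - 1 by omega)]
      congr 1
      omega
    rw [hch] at hcard
    rw [← hcard, ← Fintype.card_coe, ← Nat.card_eq_fintype_card]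
    let g : L →₀ ℕ := Finsupp.onFinset C (fun x => if x ∈ C then 1 else 0) (by intro a ha; by_contra h; simp [h] at ha)
    have hg : ∀ x, g x = if x ∈ C then 1 else 0 := fun x => rfl
    have hgdeg : g.degree = C.card := by
      rw [Finsupp.degree_eq_sum]
      simp [hg]
    refine Nat.card_congr
      { toFun := fun e => ⟨e.1 - g, ?_⟩
        invFun := fun e => ⟨e.1 + g, ?_, ?_⟩
        left_inv := ?_
        right_inv := ?_ }
    · have hge : g ≤ e.1 := by
        intro x
        rw [hg]
        split_ifs with hx
        · rw [← e.2.2, Finsupp.mem_support_iff] at hx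
          omega
        · omega
      rw [Finset.mem_finsuppAntidiag]
      have hsub : (e.1 - g).support ⊆ C := by
        intro x hx
        rw [Finsupp.mem_support_iff, Finsupp.coe_tsub, Pi.sub_apply] at hx
        rw [← e.2.2, Finsupp.mem_support_iff]
        omega
      refine ⟨?_, hsub⟩
      have h2 : (e.1 - g).degree = m - C.card := by
        have h3 : (e.1 - g) + g = e.1 := tsub_add_cancel_of_le hge
        have h4 := congrArg Finsupp.degree h3
        rw [map_add, hgdeg, e.2.1] at h4
        omega
      rw [← h2, Finsupp.degree_apply]
      symm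
      apply Finset.sum_subset hsub
      intro x _ hx
      simpa using hx
    · have he := e.2
      rw [Finset.mem_finsuppAntidiag] at he
      rw [map_add, hgdeg]
      have : e.1.degree = m - C.card := by
        refine Eq.trans ?_ he.1
        rw [Finsupp.degree_apply]
        apply Finset.sum_subset he.2
        intro x _ hx
        simpa using hx
      omega
    · have he := e.2
      rw [Finset.mem_finsuppAntidiag] at he
      ext x
      rw [Finsupp.mem_support_iff, Finsupp.add_apply, hg]
      constructor
      · intro h
        by_contra hx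
        have : x ∉ e.1.support := fun h' => hx (he.2 h')
        rw [Finsupp.mem_support_iff, not_not] at this
        simp [this, hx] at h
      · intro hx
        simp [hx]
    · rintro ⟨e, he1, he2⟩
      apply Subtype.ext
      show e - g + g = e
      apply tsub_add_cancel_of_le
      intro x
      rw [hg]
      split_ifs with hx
      · rw [← he2, Finsupp.mem_support_iff] at hx
        omega
      · omega
    · rintro ⟨e, he⟩
      apply Subtype.ext
      show e + g - g = e
      ext x
      simp
  · rw [Nat.choose_eq_zero_of_lt (by omega)]
    rw [Nat.card_eq_zero]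
    left
    refine ⟨fun ⟨e, he1, he2⟩ => hcm ?_⟩
    rw [← he1, Finsupp.degree_apply, ← he2, Finset.card_eq_sum_ones]
    apply Finset.sum_le_sum
    intro x hx
    rw [Finsupp.mem_support_iff] at hx
    omega

end

/-- Hilbert function of the Stanley–Reisner ring of a finite distributive lattice: let K be a field, L a
finite distributive lattice, R = K[x_α : α ∈ L], I ⊆ R the ideal generated by the products x_α x_β
over the incomparable (skew) pairs α, β, and m ≥ 1. Then the image in R/I of the homogeneous
polynomials of degree m has K-dimension equal to the sum, over the nonempty chains C ⊆ L, of the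
binomial coefficient (m - 1 choose |C| - 1). (The published statement is that the degree of R/I
equals the number of maximal chains of L; this row states the Hilbert function from which that
degree is read off.) -/
theorem result (K : Type u) [Field K] (L : Type v) [DistribLattice L]
    [Fintype L] (m : ℕ) (hm : 1 ≤ m) :
    Module.finrank K ((MvPolynomial.homogeneousSubmodule L K m).map
        (Ideal.Quotient.mkₐ K (Ideal.span {f : MvPolynomial L K | ∃ a b : L, ¬ a ≤ b ∧ ¬ b ≤ a ∧
          f = MvPolynomial.X a * MvPolynomial.X b})).toLinearMap) =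
      ∑ᶠ C : {C : Finset L // C.Nonempty ∧ IsChain (fun a b : L => a ≤ b) (↑C : Set L)},
        Nat.choose (m - 1) (C.1.card - 1) := by
  classical
  have h := finrank_eq K L m
  unfold srI at h
  rw [h, finsum_eq_sum_of_fintype]
  have key : T L m ≃ Σ C : {C : Finset L // C.Nonempty ∧ IsChain (fun a b : L => a ≤ b) (↑C : Set L)},
      {e : L →₀ ℕ // e.degree = m ∧ e.support = C.1} :=
    { toFun := fun e => ⟨⟨e.1.support, by
          rw [Finsupp.support_nonempty_iff]
          rintro h0
          have := e.2.1
          rw [h0] at this
          simp at this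
          omega, e.2.2⟩, ⟨e.1, e.2.1, rfl⟩⟩
      invFun := fun x => ⟨x.2.1, x.2.2.1, by rw [x.2.2.2]; exact x.1.2.2⟩
      left_inv := fun e => rfl
      right_inv := by
        rintro ⟨⟨C, hC⟩, ⟨e, he1, he2⟩⟩
        simp only at he2
        subst he2
        rfl }
  rw [Nat.card_congr key]
  have hfin : ∀ C : {C : Finset L // C.Nonempty ∧ IsChain (fun a b : L => a ≤ b) (↑C : Set L)},
      Finite {e : L →₀ ℕ // e.degree = m ∧ e.support = C.1} := by
    intro C
    apply Finite.of_injective (β := (Finset.finsuppAntidiag (Finset.univ : Finset L) m))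
      (fun e => ⟨e.1, by
        rw [Finset.mem_finsuppAntidiag]
        refine ⟨?_, Finset.subset_univ _⟩
        have := e.2.1
        rw [Finsupp.degree_eq_sum] at this
        exact this⟩)
    intro a b hab
    apply Subtype.ext
    exact congrArg (fun x => x.1) hab
  have : ∀ C : {C : Finset L // C.Nonempty ∧ IsChain (fun a b : L => a ≤ b) (↑C : Set L)},
      Fintype {e : L →₀ ℕ // e.degree = m ∧ e.support = C.1} := fun C => Fintype.ofFinite _
  rw [Nat.card_sigma]
  apply Finset.sum_congr rfl
  intro C _
  exact card_support_eq L m hm C.1 C.2.1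

end Groth.Agent.S11262
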