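import Groth.Statements.S11264
import Groth.Agent.W4bk4grassmannian.K677.DetRing
import Groth.Agent.W4bk4grassmannian.K677.DetNormal

set_option autoImplicit false
universe u
open W4bk4grassmannian

namespace Groth.Agent.S11264

open W4bk4grassmannian in
/-- Determinantal varieties are normal Cohen–Macaulay and integral, with their dimension: let K be an
algebraically closed field, m, n ≥ 1, 1 ≤ t ≤ min(m, n), R = K[x_{ij}] the coordinate ring of m × n
matrices and I_t ⊆ R the ideal generated by the t × t minors of the generic matrix. Then R/I_t is an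
integral domain, integrally closed, Cohen–Macaulay, and of Krull dimension (t - 1)(m + n - t + 1). -/
theorem result (K : Type u) [Field K] [IsAlgClosed K] (m n t : ℕ)
    (hm : 0 < m) (hn : 0 < n) (ht : 1 ≤ t) (htm : t ≤ m) (htn : t ≤ n) :
    IsDomain (MvPolynomial (Fin m × Fin n) K ⧸ CAlgX.minorIdeal (genMatrix K m n) t) ∧
      IsIntegrallyClosed (MvPolynomial (Fin m × Fin n) K ⧸ CAlgX.minorIdeal (genMatrix K m n) t) ∧
      LocCoh.IsCohenMacaulayRing (MvPolynomial (Fin m × Fin n) K ⧸ CAlgX.minorIdeal (genMatrix K m n) t) ∧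
      ringKrullDim (MvPolynomial (Fin m × Fin n) K ⧸ CAlgX.minorIdeal (genMatrix K m n) t) =
        (((t - 1) * (m + n - t + 1) : ℕ) : WithBot ℕ∞) := by
  obtain ⟨r, rfl⟩ : ∃ r, t = r + 1 := ⟨t - 1, by omega⟩
  have : Infinite K := IsAlgClosed.instInfinite
  refine ⟨K677.DetNormal.isDomain K m n r, K677.DetNormal.isIntegrallyClosed K m n r,
    K677.DetRing.isCM K m n (r + 1) ht htm htn, ?_⟩
  have h := K677.DetNormal.ringKrullDim_eq K m n r (by omega) (by omega)
  have h2 : (r + 1 - 1) * (m + n - (r + 1) + 1) = r * (m + n - r) := by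
    have h3 : r + 1 - 1 = r := by omega
    have h4 : m + n - (r + 1) + 1 = m + n - r := by omega
    rw [h3, h4]
  rw [h2]
  exact h

end Groth.Agent.S11264
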