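import Groth.Statements.S11266
import Groth.Agent.W4bk4grassmannian.K677.FFTGL2

set_option autoImplicit false
universe u
open W4bk4grassmannian

namespace Groth.Agent.S11266

open W4bk4grassmannian in
/-- First Fundamental Theorem of invariant theory for the general linear group acting on pairs of
matrices: let K be an algebraically closed field and m, n, q natural numbers; GL_n(K) acts on the
coordinate ring of M_{m,n} × M_{n,q} by (A • f)(U, W) = f(U A⁻¹, A W). Then f is fixed by every A ∈
GL_n(K) if and only if f lies in the image of the comorphism of (U, W) ↦ U W, i.e. f is a polynomial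
in the entries Σ_k u_{ik} ξ_{kj} of the product matrix. -/
theorem result (K : Type u) [Field K] [IsAlgClosed K] (m n q : ℕ)
    (f : PairRing K n m q) :
    (∀ A : GL (Fin n) K, glTranslate K n m q A f = f) ↔ f ∈ (pairingMap K n m q).range := by
  constructor
  · intro h
    have : Infinite K := IsAlgClosed.instInfinite
    exact K677.FFTGL.mem_range_of_invariant K f h
  · rintro ⟨g, hg⟩ A
    have hg' : pairingMap K n m q g = f := hg
    rw [← hg', K677.FFTGL.glTranslate_pairing]

end Groth.Agent.S11266
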