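import Groth.Statements.S11269
import Groth.Agent.Ega4C.DepthBasics
import Mathlib.RingTheory.Ideal.Height
import Mathlib.RingTheory.KrullDimension.Module

set_option autoImplicit false
universe u
open W4bk4grassmannian

namespace Groth.Agent.S11269

open Groth.Agent.Ega4C.DepthBasics in
/-- Let R be a Noetherian integral domain. Then R satisfies Serre's condition (S_2) (depth R_P ≥ min(2,
dim R_P) for all primes P) if and only if, for every nonzero a ∈ R, every associated prime of the
R-module R/(a) has height one. -/
theorem result (R : Type u) [CommRing R] [IsDomain R]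
    [IsNoetherianRing R] :
    LocCoh.HasSk 2 R R ↔
      ∀ a : R, a ≠ 0 → ∀ P : Ideal R, P ∈ associatedPrimes R (R ⧸ Ideal.span {a}) → P.height = 1 := by
  have hdim : ∀ (p : Ideal R) [p.IsPrime], Module.supportDim (Localization.AtPrime p)
      (LocalizedModule p.primeCompl R) = p.height := by
    intro p hp
    have e : Localization.AtPrime p ≃ₗ[Localization.AtPrime p] LocalizedModule p.primeCompl R :=
      ((LinearEquiv.extendScalarsOfIsLocalization p.primeCompl
        (Localization.AtPrime p) (IsLocalizedModule.iso p.primeCompl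
        (Algebra.linearMap R (Localization.AtPrime p)))).symm)
    rw [← Module.supportDim_eq_of_equiv e, Module.supportDim_self_eq_ringKrullDim,
      IsLocalization.AtPrime.ringKrullDim_eq_height p]
  have hquot : ∀ a : R, associatedPrimes R (QuotSMulTop a R) = associatedPrimes R (R ⧸ Ideal.span {a}) := by
    intro a
    refine LinearEquiv.AssociatedPrimes.eq (Submodule.quotEquivOfEq _ _ ?_)
    rw [← Submodule.ideal_span_singleton_smul]
    simp
  have hreg : ∀ a : R, a ≠ 0 → IsSMulRegular R a := by
    intro a ha x y hxy
    exact mul_left_cancel₀ ha hxy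
  have hpos : ∀ (p : Ideal R) [p.IsPrime], p ≠ ⊥ → 1 ≤ p.height := by
    intro p hp hne
    rw [Order.one_le_iff_ne_zero]
    intro h0
    apply hne
    rw [Ideal.height_eq_zero_iff, IsDomain.minimalPrimes_eq_singleton_bot] at h0
    exact h0
  constructor
  · intro h a ha P hP
    have hPp : P.IsPrime := hP.isPrime
    have haP : a ∈ P := by
      refine hP.annihilator_le ?_
      rw [Submodule.annihilator_top, Ideal.annihilator_quotient]
      exact Ideal.mem_span_singleton_self a
    have h1 : 1 ≤ P.height := hpos P (by rintro rfl; exact ha haP)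
    refine le_antisymm ?_ h1
    by_contra h2
    have h2' : (2 : ℕ∞) ≤ P.height := by
      rw [not_le] at h2
      exact Order.add_one_le_of_lt h2
    have h3 := h P
    rw [hdim P] at h3
    have h4 : min ((2 : ℕ) : WithBot ℕ∞) ((P.height : ℕ∞) : WithBot ℕ∞) = ((2 : ℕ∞) : WithBot ℕ∞) := by
      have h5 : ((2 : ℕ) : WithBot ℕ∞) = ((2 : ℕ∞) : WithBot ℕ∞) := rfl
      rw [h5]
      exact min_eq_left (WithBot.coe_le_coe.2 h2')
    rw [h4, WithBot.coe_le_coe, two_le_depth_localizedModule_iff P haP (hreg a ha), hquot] at h3
    exact h3 hP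
  · intro h p hp
    rw [hdim p]
    by_cases hp0 : p = ⊥
    · subst hp0
      refine (min_le_right _ _).trans ?_
      rw [WithBot.coe_le_coe]
      have : (⊥ : Ideal R).height = 0 := by simp
      rw [this]
      exact zero_le
    · obtain ⟨a, ha, ha0⟩ := Submodule.exists_mem_ne_zero_of_ne_bot hp0
      by_cases h1 : p.height = 1
      · refine (min_le_right _ _).trans ?_
        rw [WithBot.coe_le_coe, h1, one_le_depth_localizedModule_iff]
        intro hass
        have h2 : a ∈ {r : R | ∃ x : R, x ≠ 0 ∧ r • x = 0} := by
          rw [← biUnion_associatedPrimes_eq_zero_divisors]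
          exact Set.mem_biUnion hass ha
        obtain ⟨x, hx0, hx⟩ := h2
        exact (mul_ne_zero ha0 hx0) hx
      · refine (min_le_left _ _).trans ?_
        have : ((2 : ℕ) : WithBot ℕ∞) = ((2 : ℕ∞) : WithBot ℕ∞) := rfl
        rw [this, WithBot.coe_le_coe, two_le_depth_localizedModule_iff p ha (hreg a ha0), hquot]
        intro hass
        exact h1 (h a ha0 p hass)

end Groth.Agent.S11269
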