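import Groth.Statements.S11270
import Groth.Agent.W4bk4grassmannian.K676.Schubert
import Groth.Agent.W4bk4grassmannian.K677.FFTSL

set_option autoImplicit false
universe u
open W4bk4grassmannian

namespace Groth.Agent.S11270

open W4bk4grassmannian MvPolynomial K677.LIGr K677.FFTSL K676.Schubert

/-- The pattern of the section of `X(w)` by the opposite Schubert divisor. -/
abbrev pt {d n : ℕ} (w : Idx d n) : Fin n → Fin d → Prop := fun i j => pat d n i j ∧ Sch w i j

theorem good_pt {d n : ℕ} (hdn : d < n) (w : Idx d n) : Good (pt w) := (good_pat hdn).and (good_sch w)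

theorem pt_iff {d n : ℕ} (hd : 0 < d) (hdn : d < n) (w θ : Idx d n) :
    (∀ t, pt w (θ.1 t) t) ↔ θ ≠ bot hdn.le ∧ θ ≤ w := by
  rw [← pat_iff hd hdn]
  exact ⟨fun h => ⟨fun t => (h t).1, fun t => (h t).2⟩, fun h t => ⟨h.1 t, h.2 t⟩⟩

variable (K : Type u) [CommRing K] {d n : ℕ}

/-- Spanning modulo `J(w)` and the least coordinate. -/
theorem span_pt (hd : 0 < d) (hdn : d < n) (w : Idx d n) : (⊤ : Submodule K (PlRing K d n)) ≤
    (schubertVanishing K d n w ⊔ Ideal.span {X (bot hdn.le)}).restrictScalars K ⊔
      Submodule.span K (Set.range fun c : (Σ m : ℕ, {c : Fin m → Idx d n // Antitone c ∧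
        ∀ k t, pt w ((c k).1 t) t}) => chainMon K c.2.1) := by
  refine (span_W K (W := Set.Iic w) ⟨w, Set.mem_Iic.2 le_rfl⟩).trans (sup_le ?_ ?_)
  · refine le_sup_of_le_left ?_
    intro f hf
    refine Ideal.mem_sup_left ?_
    rw [schubertVanishing_eq_JW]
    exact IW_le_JW K (isLowerSet_Iic w) hf
  · rw [Submodule.span_le]
    rintro _ ⟨⟨m, c, hc, w', hw', hcw⟩, rfl⟩
    by_cases h : ∃ k, c k = bot hdn.le
    · obtain ⟨k, hk⟩ := h
      refine Submodule.mem_sup_left (Ideal.mem_sup_right ?_)
      change chainMon K c ∈ _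
      unfold chainMon
      rw [← Finset.mul_prod_erase Finset.univ _ (Finset.mem_univ k), hk]
      exact Ideal.mul_mem_right _ _ (Ideal.mem_span_singleton_self _)
    · push Not at h
      refine Submodule.mem_sup_right (Submodule.subset_span ⟨⟨m, c, hc, fun k => ?_⟩, rfl⟩)
      exact (pt_iff hd hdn w (c k)).2 ⟨h k, (hcw k).trans hw'⟩

theorem ker_plRes_pt [IsDomain K] [Infinite K] (hd : 0 < d) (hdn : d < n) (w : Idx d n) :
    RingHom.ker (plRes K (pt w)).toRingHom = schubertVanishing K d n w ⊔ Ideal.span {X (bot hdn.le)} := by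
  have hle : schubertVanishing K d n w ⊔ Ideal.span {X (bot hdn.le)} ≤ RingHom.ker (plRes K (pt w)).toRingHom := by
    refine sup_le ?_ ?_
    · intro f hf
      refine plRes_eq_zero_of_eval K (pt w) f fun A hA => ?_
      rw [mem_schubertVanishing_iff] at hf
      refine hf A fun φ hφ => det_submatrix_eq_zero K (good_sch w) φ (fun h => hφ h) A fun i j hij => ?_
      exact hA i j fun h => hij h.2
    · rw [Ideal.span_singleton_le_iff_mem]
      refine plRes_X_eq_zero K (good_pt hdn w) _ fun h => ?_
      exact ((pt_iff hd hdn w _).1 h).1 rfl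
  refine le_antisymm (fun f hf => ?_) hle
  obtain ⟨g, hg, h, hh, rfl⟩ := Submodule.mem_sup.mp (span_pt K hd hdn w (Submodule.mem_top (x := f)))
  have hg0 : plRes K (pt w) g = 0 := hle hg
  have hh0 : plRes K (pt w) h = 0 := by
    have : plRes K (pt w) (g + h) = 0 := hf
    rwa [map_add, hg0, zero_add] at this
  obtain ⟨l, rfl⟩ := (Finsupp.mem_span_range_iff_exists_finsupp).mp hh
  have hli := linearIndependent_plRes K hd (pt w)
  rw [linearIndependent_iff] at hli
  have hl : l = 0 := by
    apply hli
    rw [Finsupp.linearCombination_apply]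
    rw [Finsupp.sum, map_sum] at hh0
    rw [← hh0]
    apply Finset.sum_congr rfl
    intro c _
    rw [map_smul]
  rw [hl, Finsupp.sum_zero_index, add_zero]
  exact hg

open W4bk4grassmannian in
/-- The least Plücker coordinate is a prime element on every Schubert variety: let K be an algebraically
closed field, 0 < d < n, and I(d,n) the strictly increasing maps Fin d → Fin n ordered entrywise; S
= K[X_θ : θ ∈ I(d,n)] is the Plücker polynomial ring and, for τ ∈ I(d,n), J(τ) ⊆ S is the ideal of
polynomials vanishing at the d × d row-minors of every n × d matrix over K whose minors on rows φ ≰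
τ are zero (the homogeneous ideal of the Schubert variety X(τ) ⊆ G(d,n)). Let w ∈ I(d,n) and let ι =
(0, 1, …, d - 1) be the least element of I(d,n), written (1, …, d) in 1-based indexing. Then the
class of X_ι in S/J(w) is a prime element; it generates the kernel of the restriction to the section
of X(w) by the opposite Schubert divisor. -/
theorem result (K : Type u) [Field K] [IsAlgClosed K] (d n : ℕ)
    (hd : 0 < d) (hdn : d < n) (w : Idx d n) :
    Prime (Ideal.Quotient.mk (schubertVanishing K d n w)
      (MvPolynomial.X (⟨fun t => ⟨t.val, lt_trans t.isLt hdn⟩, fun a b h => h⟩ : Idx d n))) := by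
  have hinf : Infinite K := IsAlgClosed.instInfinite
  have hbot : (⟨fun t => ⟨t.val, lt_trans t.isLt hdn⟩, fun a b h => h⟩ : Idx d n) = bot hdn.le := rfl
  rw [hbot]
  have hp := isPrime_schubertVanishing K hd w
  rw [← Ideal.span_singleton_prime]
  · have h1 : (RingHom.ker (plRes K (pt w)).toRingHom).IsPrime := RingHom.ker_isPrime _
    rw [ker_plRes_pt K hd hdn w] at h1
    have h2 := Ideal.map_isPrime_of_surjective (f := Ideal.Quotient.mk (schubertVanishing K d n w))
      Ideal.Quotient.mk_surjective (I := schubertVanishing K d n w ⊔ Ideal.span {X (bot hdn.le)})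
      (by rw [Ideal.mk_ker]; exact le_sup_left)
    rw [Ideal.map_sup, Ideal.map_quotient_self, bot_sup_eq, Ideal.map_span, Set.image_singleton] at h2
    exact h2
  · rw [Ne, Ideal.Quotient.eq_zero_iff_mem]
    exact X_notMem_schubertVanishing K hd (bot_le hdn.le w)

end Groth.Agent.S11270
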