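import Groth.Statements.S11271
import Groth.Agent.Lefpen.H718.Minor
import Mathlib.LinearAlgebra.Matrix.SchurComplement
import Mathlib.Algebra.Polynomial.Roots
import Mathlib.FieldTheory.IsAlgClosed.Basic

set_option autoImplicit false
universe u
open W4bk4grassmannian

namespace Groth.Agent.S11271

open Matrix in
/-- A one-parameter family in `SL_d` scaling `A` when `A c = 0`. -/
theorem exists_scaling {K : Type u} [Field K] {d n : ℕ} (A : Matrix (Fin n) (Fin d) K) (c : Fin d → K)
    (hc : c ≠ 0) (hA : A.mulVec c = 0) (t : K) (ht : t ≠ 0) :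
    ∃ g : Matrix.SpecialLinearGroup (Fin d) K, A * (g : Matrix (Fin d) (Fin d) K) = t • A := by
  obtain ⟨j, hj⟩ := Function.ne_iff.1 hc
  let w : Fin d → K := Pi.single j (c j)⁻¹
  have hw : w ⬝ᵥ c = 1 := by
    simp only [w, single_dotProduct]
    exact inv_mul_cancel₀ hj
  let α : K := (t ^ d)⁻¹ - 1
  have hdet : (t • (1 + vecMulVec (α • c) w) : Matrix (Fin d) (Fin d) K).det = 1 := by
    rw [det_smul, Fintype.card_fin, vecMulVec_eq Unit, det_one_add_replicateCol_mul_replicateRow,
      dotProduct_smul, hw]
    simp only [α, smul_eq_mul, mul_one]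
    rw [add_sub_cancel, mul_inv_cancel₀ (pow_ne_zero _ ht)]
  refine ⟨⟨_, hdet⟩, ?_⟩
  change A * (t • (1 + vecMulVec (α • c) w)) = t • A
  rw [Matrix.mul_smul, Matrix.mul_add, Matrix.mul_one, mul_vecMulVec, mulVec_smul, hA, smul_zero,
    zero_vecMulVec, add_zero]

open W4bk4grassmannian in
/-- Semistable matrices are the matrices of full rank: let K be an algebraically closed field, 0 < d <
n, and let SL_d(K) act on n × d matrices by right multiplication; a matrix A is semistable when the
zero matrix is not in the Zariski closure of its orbit, i.e. when some polynomial in the entries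
vanishes at A g for every g ∈ SL_d(K) but not at 0. Then A is semistable if and only if its columns
are linearly independent. -/
theorem result (K : Type u) [Field K]
    [IsAlgClosed K] (d n : ℕ) (hd : 0 < d) (hdn : d < n) (A : Matrix (Fin n) (Fin d) K) :
    LinearIndependent K A.transpose ↔
      ∃ f : MatRing K d n, (∀ g : Matrix.SpecialLinearGroup (Fin d) K,
        MvPolynomial.eval (fun p : Fin n × Fin d => (A * (g : Matrix (Fin d) (Fin d) K)) p.1 p.2) f = 0) ∧
        MvPolynomial.eval (fun _ : Fin n × Fin d => (0 : K)) f ≠ 0 := by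
  have hev : ∀ (B : Matrix (Fin n) (Fin d) K) (σ : Fin d → Fin n),
      MvPolynomial.eval (fun p : Fin n × Fin d => B p.1 p.2) (minor K d n σ) =
        (B.submatrix σ id).det := by
    intro B σ
    rw [minor, RingHom.map_det]
    congr 1
    ext s t
    simp
  constructor
  · intro h
    obtain ⟨σ, hσ⟩ := Groth.Agent.Lefpen.H718.Minor.exists_minor A.transpose h
    have hσ' : (A.submatrix σ id).det ≠ 0 := by
      rw [← Matrix.det_transpose]; exact hσ
    refine ⟨MvPolynomial.C (A.submatrix σ id).det - minor K d n σ, fun g => ?_, ?_⟩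
    · rw [map_sub, MvPolynomial.eval_C, hev]
      have : (A * (g : Matrix (Fin d) (Fin d) K)).submatrix σ id = A.submatrix σ id * g := rfl
      rw [this, Matrix.det_mul, g.det_coe, mul_one, sub_self]
    · rw [map_sub, MvPolynomial.eval_C]
      have h0 := hev 0 σ
      simp only [Matrix.zero_apply] at h0
      rw [h0]
      have : ((0 : Matrix (Fin n) (Fin d) K).submatrix σ id).det = 0 := by
        have : Nonempty (Fin d) := ⟨⟨0, hd⟩⟩
        exact Matrix.det_zero
      rw [this, sub_zero]
      exact hσ'
  · rintro ⟨f, hf, hf0⟩
    by_contra hA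
    obtain ⟨c, hc, j, hj⟩ := Fintype.not_linearIndependent_iff.1 hA
    have hc0 : c ≠ 0 := fun h => hj (by rw [h]; rfl)
    have hAc : A.mulVec c = 0 := by
      ext i
      have := congrFun hc i
      simp only [Finset.sum_apply, Pi.smul_apply, Matrix.transpose_apply, smul_eq_mul, Pi.zero_apply] at this
      rw [Matrix.mulVec, dotProduct, Pi.zero_apply, ← this]
      exact Finset.sum_congr rfl fun _ _ => mul_comm _ _
    let P : Polynomial K := MvPolynomial.aeval
      (fun p : Fin n × Fin d => Polynomial.C (A p.1 p.2) * Polynomial.X) f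
    have hP : ∀ t : K, P.eval t = MvPolynomial.eval (fun p : Fin n × Fin d => (t • A) p.1 p.2) f := by
      intro t
      have h1 : (Polynomial.evalRingHom t).comp ((MvPolynomial.aeval (R := K)
          (fun p : Fin n × Fin d => Polynomial.C (A p.1 p.2) * Polynomial.X) :
            MatRing K d n →ₐ[K] Polynomial K) : MatRing K d n →+* Polynomial K) =
          MvPolynomial.eval (fun p : Fin n × Fin d => (t • A) p.1 p.2) := by
        apply MvPolynomial.ringHom_ext
        · intro r
          rw [RingHom.comp_apply, RingHom.coe_coe, MvPolynomial.aeval_C, MvPolynomial.eval_C,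
            Polynomial.coe_evalRingHom, Polynomial.algebraMap_eq, Polynomial.eval_C]
        · intro p
          rw [RingHom.comp_apply, RingHom.coe_coe, MvPolynomial.aeval_X, MvPolynomial.eval_X,
            Polynomial.coe_evalRingHom, Polynomial.eval_mul, Polynomial.eval_C, Polynomial.eval_X,
            Matrix.smul_apply, smul_eq_mul, mul_comm]
      exact DFunLike.congr_fun h1 f
    have hP0 : P = 0 := by
      refine Polynomial.eq_zero_of_infinite_isRoot P ?_
      have hinf : (({0} : Set K)ᶜ).Infinite := (Set.finite_singleton 0).infinite_compl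
      refine hinf.mono fun t ht => ?_
      obtain ⟨g, hg⟩ := exists_scaling A c hc0 hAc t ht
      change P.eval t = 0
      rw [hP, ← hg]
      exact hf g
    apply hf0
    have := hP 0
    rw [hP0, Polynomial.eval_zero] at this
    have h0 : (fun p : Fin n × Fin d => ((0 : K) • A) p.1 p.2) = fun _ => 0 := by
      funext p
      rw [zero_smul, Matrix.zero_apply]
    rw [h0] at this
    exact this.symm

end Groth.Agent.S11271
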