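import Groth.Statements.S11273
import Groth.Agent.W4bk4grassmannian.K678.Family
import Groth.Agent.W4bk4grassmannian.K678.SchubertRel
import Groth.Agent.W4bk4grassmannian.K678.FibreLI

set_option autoImplicit false
universe u
open W4bk4grassmannian

namespace Groth.Agent.S11273

open W4bk4grassmannian in
/-- Toric degeneration of the cone over a Schubert variety to a Hibi ring: let K be an algebraically
closed field, 0 < d < n, and I(d,n) the strictly increasing maps Fin d → Fin n ordered entrywise; S
= K[X_θ : θ ∈ I(d,n)] is the Plücker polynomial ring and, for τ ∈ I(d,n), J(τ) ⊆ S is the ideal of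
polynomials vanishing at the d × d row-minors of every n × d matrix over K whose minors on rows φ ≰
τ are zero (the homogeneous ideal of the Schubert variety X(τ) ⊆ G(d,n)). Let w ∈ I(d,n), H(w) = {θ
≤ w} (a distributive lattice under entrywise max and min) and K[x_θ : θ ∈ H(w)] the polynomial ring
on it. Then there is a commutative K[t]-algebra R, free as a K[t]-module, whose fibre R/tR at t = 0
is K-isomorphic to the Hibi ring K[H(w)] = K[x_θ : θ ≤ w]/(x_α x_β - x_{α∨β} x_{α∧β}) and whose
fibre R/(t - c)R at every c ≠ 0 in K is K-isomorphic to S/J(w): the cone over the Schubert variety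
X(w) degenerates flatly to the Hibi ring K[H(w)] = K[x_θ : θ ≤ w]/(x_α x_β - x_{α∨β} x_{α∧β}).
(Existence of the family and of the fibre isomorphisms only; the published statement constructs the
family explicitly, by deforming the straightening relations, and identifies R[1/t] with (S/J(w))[t,
1/t], which gives the fibres at c ≠ 0.) -/
theorem result (K : Type u) [Field K] [IsAlgClosed K] (d n : ℕ)
    (hd : 0 < d) (hdn : d < n) (w : Idx d n) :
    ∃ (R : Type u) (_ : CommRing R) (_ : Algebra K R) (_ : Algebra (Polynomial K) R)
      (_ : IsScalarTower K (Polynomial K) R),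
      Module.Free (Polynomial K) R ∧
      Nonempty ((R ⧸ Ideal.span {algebraMap (Polynomial K) R Polynomial.X}) ≃ₐ[K]
        (MvPolynomial (Below w) K ⧸ hibiIdeal K w)) ∧
      ∀ c : K, c ≠ 0 →
        Nonempty ((R ⧸ Ideal.span {algebraMap (Polynomial K) R (Polynomial.X - Polynomial.C c)}) ≃ₐ[K]
          (PlRing K d n ⧸ schubertVanishing K d n w)) := by
  classical
  have : Fintype (Below w) := Fintype.ofFinite _
  have hrel := fun (a b : Below w) (hab : ¬ a ≤ b) (hba : ¬ b ≤ a) =>
    K678.SchubertRel.exists_rel K hd hdn w a b hab hba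
  choose! A hA1 hA2 hA3 hA4 using hrel
  have hW : ∀ a b p, ¬ a ≤ b → ¬ b ≤ a → A a b p ≠ 0 →
      K678.SchubertRel.wgt p.1.1 + K678.SchubertRel.wgt p.2.1 ≤
        K678.SchubertRel.wgt a.1 + K678.SchubertRel.wgt b.1 := by
    intro a b p hab hba hp
    by_cases h : p = (Below.sup a b, Below.inf a b)
    · rw [h]
      exact (K678.SchubertRel.wgt_sup_inf a.1 b.1).le
    · exact (hA2 a b hab hba p hp h).le
  refine K678.Family.main (K := K) (W := fun θ : Below w => K678.SchubertRel.wgt θ.1) (A := A)
    (fun a b p hab hba hp => hA1 a b hab hba p hp) hW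
    (K678.SchubertRel.xb K w) (K678.SchubertRel.adjoin_xb K w) hA4
    (K678.SchubertRel.linearIndependent_xb K hd w)
    (fun θ : Below w => Ideal.Quotient.mk (hibiIdeal K w) (MvPolynomial.X θ)) ?_ ?_
    (K678.FibreLI.linearIndependent_hibi K w hd)
  · exact K678.FibreLI.adjoin_mk K (hibiIdeal K w)
  · intro a b hab hba
    rw [Finset.sum_eq_single (Below.sup a b, Below.inf a b)]
    · have h1 : K678.SchubertRel.wgt a.1 + K678.SchubertRel.wgt b.1 -
          (K678.SchubertRel.wgt (Below.sup a b).1 + K678.SchubertRel.wgt (Below.inf a b).1) = 0 := by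
        have := K678.SchubertRel.wgt_sup_inf a.1 b.1
        rw [Nat.sub_eq_zero_iff_le]
        exact this.ge
      rw [hA3 a b hab hba, h1, pow_zero, mul_one, one_smul, ← map_mul, ← map_mul, Ideal.Quotient.eq]
      exact Ideal.subset_span ⟨a, b, rfl⟩
    · intro p _ hp
      by_cases h0 : A a b p = 0
      · rw [h0, zero_mul, zero_smul]
      · have h1 := hA2 a b hab hba p h0 hp
        rw [zero_pow (by omega), mul_zero, zero_smul]
    · intro h
      exact absurd (Finset.mem_univ _) h

end Groth.Agent.S11273
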