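import Groth.Statements.S11274
import Groth.Agent.W4bk4grassmannian.K678.Family
import Groth.Agent.W4bk4grassmannian.K678.SchubertRel
import Groth.Agent.W4bk4grassmannian.K678.FibreLI

set_option autoImplicit false
universe u
open W4bk4grassmannian

namespace Groth.Agent.S11274

open W4bk4grassmannian in
/-- Degeneration of the cone over a Schubert variety to a Stanley–Reisner ring: let K be an
algebraically closed field, 0 < d < n, and I(d,n) the strictly increasing maps Fin d → Fin n ordered
entrywise; S = K[X_θ : θ ∈ I(d,n)] is the Plücker polynomial ring and, for τ ∈ I(d,n), J(τ) ⊆ S is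
the ideal of polynomials vanishing at the d × d row-minors of every n × d matrix over K whose minors
on rows φ ≰ τ are zero (the homogeneous ideal of the Schubert variety X(τ) ⊆ G(d,n)). Let w ∈
I(d,n), H(w) = {θ ≤ w} (a distributive lattice under entrywise max and min) and K[x_θ : θ ∈ H(w)]
the polynomial ring on it. Then there is a commutative K[t]-algebra R, free as a K[t]-module, whose
fibre R/tR at t = 0 is K-isomorphic to the Stanley–Reisner ring K[x_θ : θ ≤ w]/(x_α x_β : α, β
incomparable) and whose fibre R/(t - c)R at every c ≠ 0 in K is K-isomorphic to S/J(w): the cone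
over the Schubert variety X(w) degenerates flatly to the Stanley–Reisner ring K[x_θ : θ ≤ w]/(x_α
x_β : α, β incomparable). (Existence of the family and of the fibre isomorphisms only; the published
statement constructs the family explicitly, by deforming the straightening relations, and identifies
R[1/t] with (S/J(w))[t, 1/t], which gives the fibres at c ≠ 0.) -/
theorem result (K : Type u) [Field K] [IsAlgClosed K] (d n : ℕ)
    (hd : 0 < d) (hdn : d < n) (w : Idx d n) :
    ∃ (R : Type u) (_ : CommRing R) (_ : Algebra K R) (_ : Algebra (Polynomial K) R)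
      (_ : IsScalarTower K (Polynomial K) R),
      Module.Free (Polynomial K) R ∧
      Nonempty ((R ⧸ Ideal.span {algebraMap (Polynomial K) R Polynomial.X}) ≃ₐ[K]
        (MvPolynomial (Below w) K ⧸ srIdeal K w)) ∧
      ∀ c : K, c ≠ 0 →
        Nonempty ((R ⧸ Ideal.span {algebraMap (Polynomial K) R (Polynomial.X - Polynomial.C c)}) ≃ₐ[K]
          (PlRing K d n ⧸ schubertVanishing K d n w)) := by
  classical
  have : Fintype (Below w) := Fintype.ofFinite _
  have hrel := fun (a b : Below w) (hab : ¬ a ≤ b) (hba : ¬ b ≤ a) =>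
    K678.SchubertRel.exists_rel K hd hdn w a b hab hba
  choose! A hA1 hA2 hA3 hA4 using hrel
  have hW : ∀ a b p, ¬ a ≤ b → ¬ b ≤ a → A a b p ≠ 0 →
      (3 ^ Nat.card (Below w) - K678.ChainSpan.mu1 p.1) + (3 ^ Nat.card (Below w) - K678.ChainSpan.mu1 p.2) <
        (3 ^ Nat.card (Below w) - K678.ChainSpan.mu1 a) + (3 ^ Nat.card (Below w) - K678.ChainSpan.mu1 b) := by
    intro a b p hab hba hp
    have h1 := hA1 a b hab hba p hp
    have h2 := K678.ChainSpan.mu1_add_lt h1.1 h1.2
    have h3 := K678.ChainSpan.mu1_le p.1
    have h4 := K678.ChainSpan.mu1_le p.2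
    have h5 := K678.ChainSpan.mu1_le a
    have h6 := K678.ChainSpan.mu1_le b
    omega
  refine K678.Family.main (K := K) (W := fun θ : Below w => 3 ^ Nat.card (Below w) - K678.ChainSpan.mu1 θ) (A := A)
    (fun a b p hab hba hp => hA1 a b hab hba p hp) (fun a b p hab hba hp => (hW a b p hab hba hp).le)
    (K678.SchubertRel.xb K w) (K678.SchubertRel.adjoin_xb K w) hA4
    (K678.SchubertRel.linearIndependent_xb K hd w)
    (fun θ : Below w => Ideal.Quotient.mk (srIdeal K w) (MvPolynomial.X θ)) ?_ ?_
    (K678.FibreLI.linearIndependent_sr K w hd)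
  · exact K678.FibreLI.adjoin_mk K (srIdeal K w)
  · intro a b hab hba
    have h00 : Ideal.Quotient.mk (srIdeal K w) (MvPolynomial.X a * MvPolynomial.X b) = 0 :=
      Ideal.Quotient.eq_zero_iff_mem.2 (Ideal.subset_span ⟨a, b, hab, hba, rfl⟩)
    rw [← map_mul, h00]
    symm
    apply Finset.sum_eq_zero
    intro p _
    by_cases h0 : A a b p = 0
    · rw [h0, zero_mul, zero_smul]
    · have h1 := hW a b p hab hba h0
      rw [zero_pow (by omega), mul_zero, zero_smul]

end Groth.Agent.S11274
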