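import Groth.Statements.S11275
import Groth.Agent.W4bk4grassmannian.K678.Cell

set_option autoImplicit false
universe u
open W4bk4grassmannian

namespace Groth.Agent.S11275

open W4bk4grassmannian Matrix K678.Cell in
theorem det_mem (K : Type u) [CommRing K] (d r t : ℕ) (hd : 0 < d)
    (ht : 0 < t) (f : Fin t → Fin r) (g : Fin t → Fin d) :
    ((genMatrix K r d).submatrix f g).det ∈ Ideal.span {f : CellRing K d r | ∃ θ : Idx d (d + r),
        d ≤ (θ.1 ⟨d - t, Nat.sub_lt hd ht⟩).val ∧ f = cellMinor K d r θ} := by
  by_cases hf : Function.Injective f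
  · by_cases hg : Function.Injective g
    · -- sort rows and columns
      have hf' : StrictMono (f ∘ Tuple.sort f) :=
        (Tuple.monotone_sort f).strictMono_of_injective (hf.comp (Tuple.sort f).injective)
      have hg' : StrictMono (g ∘ Tuple.sort g) :=
        (Tuple.monotone_sort g).strictMono_of_injective (hg.comp (Tuple.sort g).injective)
      have h1 : ((genMatrix K r d).submatrix (f ∘ Tuple.sort f) (g ∘ Tuple.sort g)).det =
          (((Equiv.Perm.sign (Tuple.sort f) : ℤ) : CellRing K d r) *
            ((Equiv.Perm.sign (Tuple.sort g) : ℤ) : CellRing K d r)) * ((genMatrix K r d).submatrix f g).det := by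
        rw [mul_assoc, ← det_permute' (Tuple.sort g), ← det_permute (Tuple.sort f)]
        rfl
      have h2 : ((genMatrix K r d).submatrix f g).det =
          (((Equiv.Perm.sign (Tuple.sort f) : ℤ) : CellRing K d r) *
            ((Equiv.Perm.sign (Tuple.sort g) : ℤ) : CellRing K d r)) *
            ((genMatrix K r d).submatrix (f ∘ Tuple.sort f) (g ∘ Tuple.sort g)).det := by
        rw [h1, ← mul_assoc]
        have : ∀ u : ℤˣ, ((u : ℤ) : CellRing K d r) * ((u : ℤ) : CellRing K d r) = 1 := by
          intro u
          rw [← Int.cast_mul, ← Units.val_mul, Int.units_mul_self]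
          simp
        have h3 : (((Equiv.Perm.sign (Tuple.sort f) : ℤ) : CellRing K d r) *
            ((Equiv.Perm.sign (Tuple.sort g) : ℤ) : CellRing K d r)) *
            (((Equiv.Perm.sign (Tuple.sort f) : ℤ) : CellRing K d r) *
            ((Equiv.Perm.sign (Tuple.sort g) : ℤ) : CellRing K d r)) = 1 := by
          rw [mul_mul_mul_comm, this, this, one_mul]
        rw [h3, one_mul]
      rw [h2]
      refine Ideal.mul_mem_left _ _ ?_
      rw [← sign_mul_cellMinor K hf' hg']
      refine Ideal.mul_mem_left _ _ (Ideal.subset_span ⟨_, ?_, rfl⟩)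
      rw [cellIdx_of_not_lt hf' hg' _ (by simp)]
      simp
    · -- equal columns
      obtain ⟨i, j, hij, hne⟩ := Function.not_injective_iff.1 hg
      rw [det_zero_of_column_eq hne (by intro k; simp [hij])]
      exact zero_mem _
  · obtain ⟨i, j, hij, hne⟩ := Function.not_injective_iff.1 hf
    rw [det_zero_of_row_eq hne (by ext k : 1; simp [hij])]
    exact zero_mem _

open W4bk4grassmannian Matrix K678.Cell in
/-- Ideal-theoretic form; determinantal ideals as ideals of opposite cells of Schubert varieties: let K
be a commutative ring, d, r ≥ 1, 1 ≤ t ≤ min(d, r), Z the generic r × d matrix over K[z_{ij}] and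
[I_d ; Z] the (d + r) × d matrix with the identity block on top. For θ ∈ I(d, d + r) let q_θ be the
d × d minor of [I_d ; Z] on the rows θ (the Plücker coordinate p_θ on the opposite big cell). Then
the ideal generated by the q_θ with θ_{d-t} ≥ d (0-indexed; these are the θ not below the index φ =
(t-1, …, d-1, d+r+1-t, …, d+r-1) of the Schubert variety whose opposite cell is D_t) equals the
ideal generated by the t × t minors of Z. (The published statement is over an algebraically closed
field and identifies the determinantal variety D_t with the opposite cell of the Schubert variety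
X(φ); this row states the equality of ideals behind that identification, over any commutative ring
K.) -/
theorem result (K : Type u) [CommRing K] (d r t : ℕ) (hd : 0 < d)
    (ht : 0 < t) (htd : t ≤ d) (htr : t ≤ r) :
    Ideal.span {f : CellRing K d r | ∃ θ : Idx d (d + r),
        d ≤ (θ.1 ⟨d - t, Nat.sub_lt hd ht⟩).val ∧ f = cellMinor K d r θ} =
      CAlgX.minorIdeal (genMatrix K r d) t := by
  apply le_antisymm
  · rw [Ideal.span_le]
    rintro _ ⟨θ, hθ, rfl⟩
    refine det_mem_minorIdeal_of_rows (genMatrix K r d) t (d - t) d (by omega) _ id fun s hs => ?_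
    have h1 : d ≤ (θ.1 s).val := by
      refine hθ.trans ?_
      have : (⟨d - t, Nat.sub_lt hd ht⟩ : Fin d) ≤ s := hs
      exact θ.2.monotone this
    refine ⟨⟨(θ.1 s).val - d, by have := (θ.1 s).isLt; omega⟩, fun j => ?_⟩
    rw [← cellMatrix_natAdd, submatrix_apply, id]
    congr 1
    ext
    simp only [Fin.val_natAdd]
    omega
  · rw [Groth.Agent.CalgB.Minors.minorIdeal_le_iff]
    intro f g
    exact det_mem K d r t hd ht f g

end Groth.Agent.S11275
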