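import Groth.Statements.S11276
import Groth.Agent.W4bk4grassmannian.K678.GradedDim
import Groth.Agent.W4bk4grassmannian.K678.CMInf

set_option autoImplicit false
universe u v
open W4bk4grassmannian

namespace Groth.Agent.S11276

open Groth.Agent.Ega4C.GenericDepth K678.GradedDim K678.CMInf in
/-- With the conclusion at the irrelevant ideal: let K be a field, A a commutative Noetherian K-algebra
graded by ℕ with degree-zero part K, I and J homogeneous ideals of A such that A/I and A/J are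
Cohen–Macaulay rings of Krull dimension e and A/(I + J) is a Cohen–Macaulay ring of Krull dimension
e - 1, where e ≥ 1. Let m be the image in A/(I ∩ J) of the irrelevant ideal A_+ (assumed prime; it
is maximal). Then the local ring (A/(I ∩ J))_m is Cohen–Macaulay of Krull dimension e. (The
published lemma concludes that A/(I ∩ J) itself is Cohen–Macaulay of dimension e; this row states
the conclusion at the irrelevant ideal only, from which the global one follows by the graded
local–global principle.) -/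
theorem result (K : Type u) [Field K] (A : Type v) [CommRing A]
    [Algebra K A] [IsNoetherianRing A] (𝒜 : ℕ → Submodule K A) [GradedAlgebra 𝒜]
    (h0 : ∀ a ∈ 𝒜 0, ∃ c : K, algebraMap K A c = a) (I J : Ideal A) (hI : I.IsHomogeneous 𝒜)
    (hJ : J.IsHomogeneous 𝒜) (e : ℕ) (he : 1 ≤ e)
    (hIcm : LocCoh.IsCohenMacaulayRing (A ⧸ I)) (hJcm : LocCoh.IsCohenMacaulayRing (A ⧸ J))
    (hIJcm : LocCoh.IsCohenMacaulayRing (A ⧸ (I ⊔ J)))
    (hIdim : ringKrullDim (A ⧸ I) = (e : WithBot ℕ∞)) (hJdim : ringKrullDim (A ⧸ J) = (e : WithBot ℕ∞))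
    (hIJdim : ringKrullDim (A ⧸ (I ⊔ J)) = ((e - 1 : ℕ) : WithBot ℕ∞))
    [hm : ((HomogeneousIdeal.irrelevant 𝒜).toIdeal.map (Ideal.Quotient.mk (I ⊓ J))).IsPrime] :
    LocCoh.IsCohenMacaulayLocalRing (Localization.AtPrime
        ((HomogeneousIdeal.irrelevant 𝒜).toIdeal.map (Ideal.Quotient.mk (I ⊓ J)))) ∧
      ringKrullDim (Localization.AtPrime
        ((HomogeneousIdeal.irrelevant 𝒜).toIdeal.map (Ideal.Quotient.mk (I ⊓ J)))) = (e : WithBot ℕ∞) := by
  set m := (HomogeneousIdeal.irrelevant 𝒜).toIdeal with hmdef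
  have hne : ∀ (L : Ideal A) (d : ℕ), ringKrullDim (A ⧸ L) = (d : WithBot ℕ∞) → L ≠ ⊤ := by
    rintro L d hL rfl
    rw [ringKrullDim_eq_bot_of_subsingleton] at hL
    exact absurd hL (WithBot.bot_ne_coe)
  have hA : Nontrivial A := by
    by_contra h
    rw [not_nontrivial_iff_subsingleton] at h
    exact hne I e hIdim (Subsingleton.elim _ _)
  have hmax : m.IsMaximal := isMaximal_irrelevant 𝒜 h0
  have hprime := hmax.isPrime
  have hmap : ∀ L : Ideal A, L ≤ m → (m.map (Ideal.Quotient.mk L)).IsMaximal ∧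
      (m.map (Ideal.Quotient.mk L)).comap (Ideal.Quotient.mk L) = m := by
    intro L hL
    have h1 : (m.map (Ideal.Quotient.mk L)).comap (Ideal.Quotient.mk L) = m := by
      rw [Ideal.comap_map_of_surjective _ Ideal.Quotient.mk_surjective, ← RingHom.ker_eq_comap_bot,
        Ideal.mk_ker, sup_eq_left.2 hL]
    refine ⟨(Ideal.map_eq_top_or_isMaximal_of_surjective _ Ideal.Quotient.mk_surjective
      hmax).resolve_left fun h => ?_, h1⟩
    rw [h, Ideal.comap_top] at h1
    exact hmax.ne_top h1.symm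
  -- depths at the vertex
  have key : ∀ (L : Ideal A) (d : ℕ), L.IsHomogeneous 𝒜 → LocCoh.IsCohenMacaulayRing (A ⧸ L) →
      ringKrullDim (A ⧸ L) = (d : WithBot ℕ∞) → depthAt (A ⧸ L) m = d := by
    intro L d hL hcm hdim
    have hLm := le_irrelevant 𝒜 h0 hL (hne L d hdim)
    obtain ⟨h1, h2⟩ := hmap L hLm
    have hp := h1.isPrime
    have hd : ringKrullDim (Localization.AtPrime (m.map (Ideal.Quotient.mk L))) = (d : WithBot ℕ∞) := by
      rw [IsLocalization.AtPrime.ringKrullDim_eq_height (m.map (Ideal.Quotient.mk L)), ← hdim]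
      exact height_irrelevant 𝒜 h0 hL (hne L d hdim)
    have hcm' := hcm.isCohenMacaulayLocalRing_localization (m.map (Ideal.Quotient.mk L))
    have h3 := natCast_le_depth_of_isCM _ d hd
    have h4 : ∀ (q : Ideal A) [q.IsPrime], (m.map (Ideal.Quotient.mk L)).comap (Ideal.Quotient.mk L) = q →
        depthAt (A ⧸ L) q = d := by
      rintro q hq rfl
      rw [← depth_atPrime_eq, h3]
    exact h4 m h2
  have hLm : I ⊓ J ≤ m := inf_le_left.trans (le_irrelevant 𝒜 h0 hI (hne I e hIdim))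
  have hhom : (I ⊓ J).IsHomogeneous 𝒜 := hI.inf hJ
  have hneIJ : I ⊓ J ≠ ⊤ := fun h => hmax.ne_top (top_le_iff.1 (h ▸ hLm))
  obtain ⟨h1, h2⟩ := hmap _ hLm
  have hdepth : (e : ℕ∞) ≤ depthAt (A ⧸ (I ⊓ J)) m := by
    refine natCast_le_depthAt_inf I J m e (key I e hI hIcm hIdim).ge (key J e hJ hJcm hJdim).ge ?_
    rw [key (I ⊔ J) (e - 1) (hI.sup hJ) hIJcm hIJdim]
    have : (e : ℕ∞) = ((e - 1 + 1 : ℕ) : ℕ∞) := by rw [Nat.sub_add_cancel he]
    rw [this]
    simp
  have h4 : ∀ (q : Ideal A) [q.IsPrime], (m.map (Ideal.Quotient.mk (I ⊓ J))).comap (Ideal.Quotient.mk (I ⊓ J)) = q →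
      (e : ℕ∞) ≤ depthAt (A ⧸ (I ⊓ J)) q → (e : ℕ∞) ≤ LocCoh.depth
        (Localization.AtPrime (m.map (Ideal.Quotient.mk (I ⊓ J))))
        (Localization.AtPrime (m.map (Ideal.Quotient.mk (I ⊓ J)))) := by
    rintro q hq rfl h
    rwa [depth_atPrime_eq]
  refine isCM_of_le_depth _ e (h4 m h2 hdepth) ?_
  rw [IsLocalization.AtPrime.ringKrullDim_eq_height (m.map (Ideal.Quotient.mk (I ⊓ J)))]
  refine (height_irrelevant 𝒜 h0 hhom hneIJ).le.trans ?_
  refine (ringKrullDim_quotient_inf_le I J).trans ?_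
  rw [hIdim, hJdim, max_self]

end Groth.Agent.S11276
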