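import Groth.Statements.S11277
import Mathlib.RingTheory.Localization.Away.Basic

set_option autoImplicit false
universe u v
open W4bk4grassmannian

namespace Groth.Agent.S11277

/-- Let K be a field, R = ⊕_{i ≥ 0} R_i an ℕ-graded commutative K-algebra which is an integral domain,
and s ∈ R_e a homogeneous element of degree e > 0. Let R_(s) ⊆ R[1/s] be the homogeneous
localization (fractions f / s^k with f homogeneous of degree k e). Then the image of s in R[1/s] is
transcendental over R_(s). -/
theorem result (K : Type u) [Field K] (R : Type v) [CommRing R]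
    [IsDomain R] [Algebra K R] (𝒜 : ℕ → Submodule K R) [GradedAlgebra 𝒜] (e : ℕ) (he : 0 < e) (s : R)
    (hs : s ∈ 𝒜 e) :
    Transcendental (HomogeneousLocalization.Away 𝒜 s) (algebraMap R (Localization.Away s) s) := by
  rintro ⟨p, hp, hpz⟩
  have hs0 : s ≠ 0 := by
    rintro rfl
    have : Subsingleton (Localization.Away (0 : R)) :=
      IsLocalization.subsingleton (M := Submonoid.powers (0 : R)) (Submonoid.mem_powers _)
    have : Subsingleton (HomogeneousLocalization.Away 𝒜 (0 : R)) :=
      (HomogeneousLocalization.val_injective (𝒜 := 𝒜) (Submonoid.powers (0 : R))).subsingleton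
    exact hp (Subsingleton.elim _ _)
  have hinj : Function.Injective (algebraMap R (Localization.Away s)) :=
    IsLocalization.injective _ (powers_le_nonZeroDivisors_of_noZeroDivisors hs0)
  choose n a ha h using fun i => HomogeneousLocalization.Away.mk_surjective 𝒜 hs (p.coeff i)
  have hv : ∀ i, (p.coeff i).val * algebraMap R (Localization.Away s) s ^ n i =
      algebraMap R (Localization.Away s) (a i) := by
    intro i
    rw [← h i, HomogeneousLocalization.Away.val_mk, ← map_pow, Localization.mk_eq_mk']
    exact IsLocalization.mk'_spec (M := Submonoid.powers s) (Localization.Away s) (a i) ⟨s ^ n i, n i, rfl⟩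
  obtain ⟨N, hN⟩ : ∃ N, ∀ i ∈ p.support, n i ≤ N :=
    ⟨p.support.sup n, fun i hi => Finset.le_sup (f := n) hi⟩
  have hsum : ∑ i ∈ p.support, a i * s ^ (N - n i + i) = 0 := by
    apply hinj
    rw [map_sum, map_zero]
    have h0 := congrArg (· * algebraMap R (Localization.Away s) s ^ N) hpz
    simp only [zero_mul] at h0
    rw [Polynomial.aeval_def, Polynomial.eval₂_eq_sum, Polynomial.sum, Finset.sum_mul] at h0
    rw [← h0]
    refine Finset.sum_congr rfl fun i hi => ?_
    rw [map_mul, ← hv i, HomogeneousLocalization.algebraMap_apply, map_pow]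
    have := hN i hi
    calc _ = (p.coeff i).val * algebraMap R (Localization.Away s) s ^ (n i + (N - n i + i)) := by ring
      _ = (p.coeff i).val * algebraMap R (Localization.Away s) s ^ (i + N) := by
        congr 2; omega
      _ = _ := by ring
  have hdeg : ∀ i ∈ p.support, a i * s ^ (N - n i + i) ∈ 𝒜 ((N + i) * e) := by
    intro i hi
    have h1 := SetLike.mul_mem_graded (ha i) (SetLike.pow_mem_graded (N - n i + i) hs)
    have h2 : n i • e + (N - n i + i) • e = (N + i) * e := by
      rw [smul_eq_mul, smul_eq_mul, ← add_mul]
      congr 1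
      have := hN i hi
      omega
    rwa [h2] at h1
  have hz : ∀ i ∈ p.support, a i * s ^ (N - n i + i) = 0 := by
    classical
    intro j hj
    have h1 := congrArg (GradedRing.proj 𝒜 ((N + j) * e)) hsum
    rw [map_sum, map_zero, Finset.sum_eq_single j] at h1
    · rwa [GradedRing.proj_apply, DirectSum.decompose_of_mem_same 𝒜 (hdeg j hj)] at h1
    · intro i hi hij
      rw [GradedRing.proj_apply]
      refine DirectSum.decompose_of_mem_ne 𝒜 (hdeg i hi) (fun h => hij ?_)
      have := Nat.eq_of_mul_eq_mul_right he h
      omega
    · intro h; exact (h hj).elim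
  apply hp
  refine Polynomial.ext fun i => ?_
  rw [Polynomial.coeff_zero]
  by_cases hi : i ∈ p.support
  · have h1 : a i = 0 := (mul_eq_zero.1 (hz i hi)).resolve_right (pow_ne_zero _ hs0)
    have h2 := hv i
    rw [h1, map_zero] at h2
    have h3 := ((IsLocalization.Away.algebraMap_isUnit (S := Localization.Away s) s).pow
      (n i)).mul_left_injective (a₁ := (p.coeff i).val) (a₂ := 0) (by simpa using h2)
    rw [HomogeneousLocalization.ext_iff_val, h3, HomogeneousLocalization.val_zero]
  · simpa using hi

end Groth.Agent.S11277
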