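import Groth.Statements.S11280
import Groth.Agent.Deform.K679.FSLift
import Mathlib.Tactic.LinearCombination

set_option autoImplicit false
universe u
open Deform

namespace Groth.Agent.S11280

/-- Let k be an algebraically closed field, A a local Artinian k-algebra with residue field k and t an
element of the maximal ideal of A annihilated by the maximal ideal, so that A is a small extension
of A/tA. Let B be a flat A-algebra whose closed fibre B/m_A B is a formally smooth k-algebra (an
infinitesimal deformation over A of a formally smooth k-algebra). Then every A-algebra automorphism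
of B/tB is induced by an A-algebra automorphism of B. (The published statement asks the automorphism
of B/tB to induce the identity on B/m_A B; this row does not. The published statement takes the
closed fibre smooth, that is formally smooth and essentially of finite type; this row asks the
closed fibre to be formally smooth over k in the sense of lifting along all square-zero surjections
of commutative k-algebras, with no finiteness condition.) -/
theorem result
    {k : Type u} [Field k] [IsAlgClosed k]
    {A : Type u} [CommRing A] [Algebra k A] [IsLocalRing A] [IsArtinianRing A]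
    (hres : ∀ a : A, ∃ c : k, a - algebraMap k A c ∈ IsLocalRing.maximalIdeal A)
    (t : A) (ht : t ∈ IsLocalRing.maximalIdeal A)
    (htm : ∀ a ∈ IsLocalRing.maximalIdeal A, a * t = 0)
    {B : Type u} [CommRing B] [Algebra A B] [Module.Flat A B] [Algebra k B] [IsScalarTower k A B]
    (hsm : Algebra.FormallySmooth k (B ⧸ (IsLocalRing.maximalIdeal A).map (algebraMap A B)))
    (σ : (B ⧸ Ideal.span {algebraMap A B t}) ≃ₐ[A] (B ⧸ Ideal.span {algebraMap A B t})) :
    ∃ τ : B ≃ₐ[A] B, ∀ b : B,
      Ideal.Quotient.mk (Ideal.span {algebraMap A B t}) (τ b) =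
        σ (Ideal.Quotient.mk (Ideal.span {algebraMap A B t}) b) := by
  have htt : algebraMap A B t * algebraMap A B t = 0 := by
    rw [← map_mul, htm t ht, map_zero]
  have hJ : IsNilpotent (Ideal.span {algebraMap A B t}) := by
    refine ⟨2, ?_⟩
    rw [Ideal.span_singleton_pow, pow_two, htt]
    simp
  have hlift : ∀ σ : (B ⧸ Ideal.span {algebraMap A B t}) ≃ₐ[A] (B ⧸ Ideal.span {algebraMap A B t}),
      ∃ v : B →ₐ[A] B, ∀ b, Ideal.Quotient.mk (Ideal.span {algebraMap A B t}) (v b) =
        σ (Ideal.Quotient.mk (Ideal.span {algebraMap A B t}) b) := by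
    intro σ
    obtain ⟨v, hv⟩ := K679.FSLift.exists_lift hres hsm (Ideal.span {algebraMap A B t}) hJ
      ((σ : (B ⧸ Ideal.span {algebraMap A B t}) →ₐ[A] (B ⧸ Ideal.span {algebraMap A B t})).comp
        (Ideal.Quotient.mkₐ A (Ideal.span {algebraMap A B t})))
    exact ⟨v, fun b => DFunLike.congr_fun hv b⟩
  have hbij : ∀ e : B →ₐ[A] B, (∀ b, Ideal.Quotient.mk (Ideal.span {algebraMap A B t}) (e b) =
      Ideal.Quotient.mk (Ideal.span {algebraMap A B t}) b) → Function.Bijective e := by
    intro e he
    have h1 : ∀ b, ∃ c, e b = b + c * algebraMap A B t := by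
      intro b
      have := he b
      rw [Ideal.Quotient.mk_eq_mk_iff_sub_mem, Ideal.mem_span_singleton'] at this
      obtain ⟨c, hc⟩ := this
      exact ⟨c, by rw [hc]; ring⟩
    have h2 : ∀ c, e (c * algebraMap A B t) = c * algebraMap A B t := by
      intro c
      obtain ⟨d, hd⟩ := h1 c
      rw [map_mul, AlgHom.commutes, hd]
      linear_combination d * htt
    constructor
    · rw [injective_iff_map_eq_zero]
      intro b hb
      obtain ⟨c, hc⟩ := h1 b
      have h3 : b = (-c) * algebraMap A B t := by linear_combination hb - hc
      rw [h3, h2] at hb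
      rw [h3, hb]
    · intro b
      obtain ⟨c, hc⟩ := h1 b
      refine ⟨b - c * algebraMap A B t, ?_⟩
      rw [map_sub, hc, h2]; ring
  obtain ⟨v, hv⟩ := hlift σ
  obtain ⟨w, hw⟩ := hlift σ.symm
  have hvw : Function.Bijective (v.comp w) := hbij _ fun b => by
    rw [AlgHom.comp_apply, hv, hw, AlgEquiv.apply_symm_apply]
  have hwv : Function.Bijective (w.comp v) := hbij _ fun b => by
    rw [AlgHom.comp_apply, hw, hv, AlgEquiv.symm_apply_apply]
  refine ⟨AlgEquiv.ofBijective v ⟨?_, ?_⟩, fun b => hv b⟩
  · exact Function.Injective.of_comp (f := w) hwv.1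
  · exact Function.Surjective.of_comp (g := w) hvw.2

end Groth.Agent.S11280
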