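import Groth.Statements.S11282
import Groth.Agent.Deform.K679.ExalPow
import Groth.Agent.Deform.K679.ExalCompl
import Groth.Agent.Deform.K679.AdicCompl
import Groth.Agent.Ega4A.CompleteNoeth

set_option autoImplicit false
universe u
open Deform

namespace Groth.Agent.S11282

namespace K679

theorem exists_fin_span {R : Type u} [CommRing R] [IsNoetherianRing R] (I : Ideal R) :
    ∃ (d : ℕ) (x : Fin d → R), I = Ideal.span (Set.range x) := by
  obtain ⟨s, hs⟩ := (isNoetherianRing_iff_ideal_fg R).1 inferInstance I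
  refine ⟨s.card, fun i => (s.equivFin.symm i : R), ?_⟩
  rw [← hs]
  congr 1
  ext a
  constructor
  · intro ha
    exact ⟨s.equivFin ⟨a, ha⟩, by simp⟩
  · rintro ⟨i, rfl⟩
    exact (s.equivFin.symm i).2

theorem surjective_of_residue {κ B : Type u} {σ : Type} [CommRing κ] [CommRing B] [Algebra κ B] [Finite σ] (J : Ideal B)
    [hJ : IsAdicComplete J B] (x : σ → B) (hx : J = Ideal.span (Set.range x))
    (hs : ∀ b : B, ∃ t : κ, b - algebraMap κ B t ∈ J)
    (φ : MvPowerSeries σ κ →ₐ[κ] B) (hφ : ∀ i, φ (MvPowerSeries.X i) = x i) :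
    Function.Surjective φ := by
  have h1 : (Ideal.span (Set.range (MvPowerSeries.X (R := κ) (σ := σ)))).map (φ : MvPowerSeries σ κ →+* B) = J := by
    rw [Ideal.map_span, hx, ← Set.range_comp]
    congr 2
    ext i
    simp [hφ]
  have : IsHausdorff ((Ideal.span (Set.range (MvPowerSeries.X (R := κ) (σ := σ)))).map (φ : MvPowerSeries σ κ →+* B)) B := by
    rw [h1]; infer_instance
  refine surjective_of_mk_map_comp_surjective (I := Ideal.span (Set.range (MvPowerSeries.X (R := κ) (σ := σ))))
    (φ : MvPowerSeries σ κ →+* B) ?_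
  intro b
  obtain ⟨b, rfl⟩ := Ideal.Quotient.mk_surjective b
  obtain ⟨t, ht⟩ := hs b
  refine ⟨algebraMap κ _ t, ?_⟩
  rw [RingHom.comp_apply, Ideal.Quotient.eq, h1, ← neg_mem_iff, neg_sub]
  simpa using ht

end K679

/-- Let k be an algebraically closed field, Λ a complete local Noetherian k-algebra with residue field
k, and R a local Noetherian Λ-algebra with local structure map, residue field k and maximal ideal m.
Then for some n the pull-back map o((R/m^(n+1))/Λ) → o(R/Λ) on obstruction spaces is onto: every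
Λ-extension 0 → k → E → R → 0 of R by its residue field is the inverse image of a Λ-extension of
R/m^(n+1) by k. Concretely, the middle ring E of every such extension contains an ideal I which
meets the kernel k only in 0 and whose image in R is exactly m^(n+1) (then E/I is an extension of
R/m^(n+1) by k whose inverse image along R → R/m^(n+1) is E). -/
theorem result
    {k : Type u} [Field k] [IsAlgClosed k]
    {Λ : Type u} [CommRing Λ] [Algebra k Λ] [IsLocalRing Λ] [IsNoetherianRing Λ]
    [IsAdicComplete (IsLocalRing.maximalIdeal Λ) Λ]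
    (hΛ : ∀ a : Λ, ∃ c : k, a - algebraMap k Λ c ∈ IsLocalRing.maximalIdeal Λ)
    {R : Type u} [CommRing R] [Algebra Λ R] [IsLocalRing R] [IsNoetherianRing R]
    [IsLocalHom (algebraMap Λ R)]
    (hR : ∀ r : R, ∃ c : k, r - algebraMap Λ R (algebraMap k Λ c) ∈ IsLocalRing.maximalIdeal R) :
    ∃ n : ℕ, ∀ X : Exal.Ext Λ R (IsLocalRing.ResidueField R),
      ∃ I : Ideal X.E, (∀ x ∈ I, X.proj x = 0 → x = 0) ∧
        Ideal.map X.proj I = IsLocalRing.maximalIdeal R ^ (n + 1) := by
  have hnR : IsNoetherianRing (AdicCompletion (IsLocalRing.maximalIdeal R) R) :=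
    Groth.Agent.Ega4A.CompleteNoeth.isNoetherianRing_adicCompletion _
  obtain ⟨d, x, hx⟩ := K679.exists_fin_span (R := AdicCompletion (IsLocalRing.maximalIdeal R) R)
    (IsLocalRing.maximalIdeal (AdicCompletion (IsLocalRing.maximalIdeal R) R))
  have hxm : ∀ i, x i ∈ IsLocalRing.maximalIdeal (AdicCompletion (IsLocalRing.maximalIdeal R) R) := fun i => by
    rw [hx]; exact Ideal.subset_span ⟨i, rfl⟩
  set g := Groth.Agent.Ega41.PowEval.powEval (R := Λ)
    (IsLocalRing.maximalIdeal (AdicCompletion (IsLocalRing.maximalIdeal R) R)) x hxm with hg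
  have hgX : ∀ i, g (MvPowerSeries.X i) = x i := fun i => Groth.Agent.Ega41.PowEval.powEval_X _ x hxm i
  have hgs : Function.Surjective g := by
    refine K679.surjective_of_residue _ x hx ?_ g hgX
    intro b
    obtain ⟨r, hr⟩ := K679.AdicCompl.exists_sub_mem R 1 b
    obtain ⟨c, hc⟩ := hR r
    refine ⟨algebraMap k Λ c, ?_⟩
    have h1 := K679.ExalCompl.map_maximalIdeal_le (R := R)
      (R' := AdicCompletion (IsLocalRing.maximalIdeal R) R) (Ideal.mem_map_of_mem _ hc)
    rw [map_sub, ← IsScalarTower.algebraMap_apply Λ R] at h1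
    rw [pow_one] at hr
    have := Ideal.add_mem _ hr h1
    rwa [sub_add_sub_cancel] at this
  obtain ⟨n, hn⟩ := K679.ExalPow.exists_uniform g (fun i => by rw [hgX]; exact hxm i) hgs
  refine ⟨n, fun Y => ?_⟩
  let ρ : AdicCompletion (IsLocalRing.maximalIdeal R) R →+* IsLocalRing.ResidueField R :=
    (AdicCompletion.evalOneₐ (IsLocalRing.maximalIdeal R)).toRingHom
  let : Module (AdicCompletion (IsLocalRing.maximalIdeal R) R) (IsLocalRing.ResidueField R) :=
    Module.compHom (IsLocalRing.ResidueField R) ρ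
  have hst : IsScalarTower R (AdicCompletion (IsLocalRing.maximalIdeal R) R) (IsLocalRing.ResidueField R) := by
    constructor
    intro r a z
    change ρ (r • a) * z = r • (ρ a * z)
    have h1 : ρ (r • a) = r • ρ a :=
      map_smul (AdicCompletion.evalOneₐ (IsLocalRing.maximalIdeal R)) r a
    rw [h1]
    exact smul_mul_assoc r _ z
  have hsR : IsSimpleModule R (IsLocalRing.ResidueField R) :=
    isSimpleModule_iff_quot_maximal.2 ⟨IsLocalRing.maximalIdeal R, inferInstance, ⟨LinearEquiv.refl _ _⟩⟩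
  have hsR' : IsSimpleModule (AdicCompletion (IsLocalRing.maximalIdeal R) R) (IsLocalRing.ResidueField R) :=
    K679.ExalCompl.isSimpleModule_of_tower (R := R) _
  obtain ⟨X, ⟨e⟩⟩ := K679.ExalCompl.exists_pullback_equiv (R' := AdicCompletion (IsLocalRing.maximalIdeal R) R)
    (IsLocalRing.ResidueField R)
    (K679.AdicCompl.exists_sub_mem R) (K679.AdicCompl.mem_pow_of_algebraMap_mem R) Y
  have hlY := K679.ExalKit.isLocalRing_E Y
  have hlX := K679.ExalKit.isLocalRing_E X
  refine ⟨IsLocalRing.maximalIdeal Y.E ^ (n + 1), ?_, K679.ExalKit.map_maximalIdeal_pow Y (n + 1)⟩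
  let h : Y.E →ₐ[Λ] X.E := (K679.ExalKit.pullbackFst R X).comp e.symm.toAlgEquiv.toAlgHom
  have hp : ∀ y, X.proj (h y) = algebraMap R _ (Y.proj y) := by
    intro y
    change X.proj (K679.ExalKit.pullbackFst R X (e.symm.toAlgEquiv y)) = _
    rw [K679.ExalKit.proj_pullbackFst, e.symm.proj_apply]
  have hi : ∀ z, h (Y.incl z) = X.incl z := by
    intro z
    change K679.ExalKit.pullbackFst R X (e.symm.toAlgEquiv (Y.incl z)) = _
    rw [e.symm.apply_incl, K679.ExalKit.pullbackFst_incl]
  intro y hy hpy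
  obtain ⟨z, rfl⟩ := K679.ExalKit.exists_incl Y hpy
  have h1 : h (Y.incl z) ∈ IsLocalRing.maximalIdeal X.E ^ (n + 1) := by
    have h2 : (IsLocalRing.maximalIdeal Y.E ^ (n + 1)).map h ≤ IsLocalRing.maximalIdeal X.E ^ (n + 1) := by
      rw [Ideal.map_pow]
      refine Ideal.pow_right_mono ?_ _
      rw [Ideal.map_le_iff_le_comap]
      intro y hy
      rw [Ideal.mem_comap, K679.ExalKit.mem_maximalIdeal_iff, hp]
      exact K679.ExalCompl.map_maximalIdeal_le (Ideal.mem_map_of_mem _
        ((K679.ExalKit.mem_maximalIdeal_iff Y y).1 hy))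
    exact h2 (Ideal.mem_map_of_mem _ hy)
  rw [hi] at h1
  have h3 := hn (IsLocalRing.ResidueField R) X _ h1 (K679.ExalKit.proj_incl X z)
  have h4 : z = 0 := K679.ExalKit.incl_injective X (by rw [h3, map_zero])
  rw [h4, map_zero]

end Groth.Agent.S11282
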