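import Groth.Statements.S11286
import Groth.Agent.Deform.K679.ConormalInj
import Groth.Agent.Deform.K679.ExalKit

set_option autoImplicit false
universe u
open Deform

namespace Groth.Agent.S11286

open TensorProduct

namespace K679

variable {A B : Type u} [CommRing A] [CommRing B] [Algebra A B] (P : Algebra.Extension.{u} A B)

theorem delta_add (e e' : P.Ring) : (1 : B) ⊗ₜ[P.Ring] KaehlerDifferential.D A P.Ring (e + e') =
    (1 : B) ⊗ₜ[P.Ring] KaehlerDifferential.D A P.Ring e + (1 : B) ⊗ₜ[P.Ring] KaehlerDifferential.D A P.Ring e' := by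
  rw [map_add, TensorProduct.tmul_add]

theorem delta_mul (e e' : P.Ring) : (1 : B) ⊗ₜ[P.Ring] KaehlerDifferential.D A P.Ring (e * e') =
    algebraMap P.Ring B e • ((1 : B) ⊗ₜ[P.Ring] KaehlerDifferential.D A P.Ring e') +
    algebraMap P.Ring B e' • ((1 : B) ⊗ₜ[P.Ring] KaehlerDifferential.D A P.Ring e) := by
  rw [Derivation.leibniz, TensorProduct.tmul_add, TensorProduct.tmul_smul, TensorProduct.tmul_smul,
    algebraMap_smul, algebraMap_smul]

theorem delta_algebraMap (a : A) :
    (1 : B) ⊗ₜ[P.Ring] KaehlerDifferential.D A P.Ring (algebraMap A P.Ring a) = 0 := by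
  rw [Derivation.map_algebraMap, TensorProduct.tmul_zero]

theorem toKaehler_delta (e : P.Ring) : P.toKaehler ((1 : B) ⊗ₜ[P.Ring] KaehlerDifferential.D A P.Ring e) =
    KaehlerDifferential.D A B (algebraMap P.Ring B e) := by
  rw [Algebra.Extension.toKaehler, KaehlerDifferential.mapBaseChange_tmul, one_smul, KaehlerDifferential.map_D]

end K679

/-- Let k be an algebraically closed field and A → B a map of finitely generated k-algebras with B
reduced and smooth over A at every minimal prime of B (the morphism Spec B → Spec A is smooth on a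
dense open subset). Let E → B and E' → B be two A-algebra extensions with square-zero kernels I, I',
where I is a finitely generated projective B-module, and suppose their relative conormal sequences
are isomorphic as extensions of Ω_{B/A}: there are B-linear isomorphisms I ≅ I' and B ⊗_E Ω_{E/A} ≅
B ⊗_{E'} Ω_{E'/A} commuting with the conormal maps and with the canonical maps to Ω_{B/A}. Then
there is a homomorphism of extensions E → E' (a ring map over A and over B) which is bijective and
induces the given isomorphism I ≅ I'. This is the injectivity half of the identification of Ex_A(B,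
M) with Ext^1_B(Ω_{B/A}, M); affine case of the statement for algebraic schemes. -/
theorem result
    {k : Type u} [Field k] [IsAlgClosed k]
    {A B : Type u} [CommRing A] [CommRing B] [Algebra k A] [Algebra k B] [Algebra A B]
    [IsScalarTower k A B] [Algebra.FiniteType k A] [Algebra.FiniteType k B] [IsReduced B]
    (hsm : ∀ p : PrimeSpectrum B, p.asIdeal ∈ minimalPrimes B → Algebra.IsSmoothAt A p.asIdeal)
    (P P' : Algebra.Extension.{u} A B) (hsq : P.ker ^ 2 = ⊥) (hsq' : P'.ker ^ 2 = ⊥)
    [Module.Finite B P.Cotangent] [Module.Projective B P.Cotangent]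
    (e₁ : P.Cotangent ≃ₗ[B] P'.Cotangent) (e₂ : P.CotangentSpace ≃ₗ[B] P'.CotangentSpace)
    (h₁ : ∀ x, e₂ (P.cotangentComplex x) = P'.cotangentComplex (e₁ x))
    (h₂ : ∀ y, P'.toKaehler (e₂ y) = P.toKaehler y) :
    ∃ f : P.Hom P', Function.Bijective f.toRingHom ∧
      Algebra.Extension.Cotangent.map f = e₁.toLinearMap := by
  have hproj' : Module.Projective B P'.Cotangent := Module.Projective.of_equiv e₁
  have hinj := K679.ConormalInj.cotangentComplex_injective hsm P hsq
  have hinj' := K679.ConormalInj.cotangentComplex_injective hsm P' hsq'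
  let δ : P.Ring → P.CotangentSpace := fun e => (1 : B) ⊗ₜ[P.Ring] KaehlerDifferential.D A P.Ring e
  let δ' : P'.Ring → P'.CotangentSpace := fun e => (1 : B) ⊗ₜ[P'.Ring] KaehlerDifferential.D A P'.Ring e
  have hδadd : ∀ e e', δ (e + e') = δ e + δ e' := K679.delta_add P
  have hδmul : ∀ e e', δ (e * e') = algebraMap P.Ring B e • δ e' + algebraMap P.Ring B e' • δ e :=
    K679.delta_mul P
  have hδalg : ∀ a, δ (algebraMap A P.Ring a) = 0 := K679.delta_algebraMap P
  have hδadd' : ∀ e e', δ' (e + e') = δ' e + δ' e' := K679.delta_add P'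
  have hδmul' : ∀ e e', δ' (e * e') = algebraMap P'.Ring B e • δ' e' + algebraMap P'.Ring B e' • δ' e :=
    K679.delta_mul P'
  have hδalg' : ∀ a, δ' (algebraMap A P'.Ring a) = 0 := K679.delta_algebraMap P'
  have hcot : ∀ x : P.ker, P.cotangentComplex (Algebra.Extension.Cotangent.mk x) = δ x := fun x => rfl
  have hcot' : ∀ x : P'.ker, P'.cotangentComplex (Algebra.Extension.Cotangent.mk x) = δ' x := fun x => rfl
  have hker0 : ∀ e : P.Ring, algebraMap P.Ring B e = 0 → δ e = 0 → e = 0 := by
    intro e he h
    have h3 : Algebra.Extension.Cotangent.mk (⟨e, he⟩ : P.ker) = 0 := hinj (by rw [hcot, map_zero]; exact h)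
    rw [Algebra.Extension.Cotangent.mk_eq_zero_iff, hsq] at h3
    exact h3
  have hker0' : ∀ e : P'.Ring, algebraMap P'.Ring B e = 0 → δ' e = 0 → e = 0 := by
    intro e he h
    have h3 : Algebra.Extension.Cotangent.mk (⟨e, he⟩ : P'.ker) = 0 := hinj' (by rw [hcot', map_zero]; exact h)
    rw [Algebra.Extension.Cotangent.mk_eq_zero_iff, hsq'] at h3
    exact h3
  have htoK : ∀ e, P.toKaehler (δ e) = KaehlerDifferential.D A B (algebraMap P.Ring B e) := K679.toKaehler_delta P
  have htoK' : ∀ e, P'.toKaehler (δ' e) = KaehlerDifferential.D A B (algebraMap P'.Ring B e) :=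
    K679.toKaehler_delta P'
  let S : Subalgebra A (P.Ring × P'.Ring) :=
    { carrier := {p | algebraMap P.Ring B p.1 = algebraMap P'.Ring B p.2 ∧ e₂ (δ p.1) = δ' p.2}
      mul_mem' := by
        rintro ⟨e, e'⟩ ⟨g, g'⟩ ⟨h1, h2⟩ ⟨h3, h4⟩
        change algebraMap P.Ring B e = algebraMap P'.Ring B e' at h1
        change algebraMap P.Ring B g = algebraMap P'.Ring B g' at h3
        change e₂ (δ e) = δ' e' at h2
        change e₂ (δ g) = δ' g' at h4
        refine ⟨?_, ?_⟩
        · change algebraMap P.Ring B (e * g) = algebraMap P'.Ring B (e' * g')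
          rw [map_mul, map_mul, h1, h3]
        · change e₂ (δ (e * g)) = δ' (e' * g')
          rw [hδmul, hδmul', map_add, map_smul, map_smul, h1, h3, h2, h4]
      add_mem' := by
        rintro ⟨e, e'⟩ ⟨g, g'⟩ ⟨h1, h2⟩ ⟨h3, h4⟩
        change algebraMap P.Ring B e = algebraMap P'.Ring B e' at h1
        change algebraMap P.Ring B g = algebraMap P'.Ring B g' at h3
        change e₂ (δ e) = δ' e' at h2
        change e₂ (δ g) = δ' g' at h4
        refine ⟨?_, ?_⟩
        · change algebraMap P.Ring B (e + g) = algebraMap P'.Ring B (e' + g')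
          rw [map_add, map_add, h1, h3]
        · change e₂ (δ (e + g)) = δ' (e' + g')
          rw [hδadd, hδadd', map_add, h2, h4]
      algebraMap_mem' := by
        intro a
        refine ⟨?_, ?_⟩
        · change algebraMap P.Ring B (algebraMap A P.Ring a) = algebraMap P'.Ring B (algebraMap A P'.Ring a)
          rw [← IsScalarTower.algebraMap_apply, ← IsScalarTower.algebraMap_apply]
        · change e₂ (δ (algebraMap A P.Ring a)) = δ' (algebraMap A P'.Ring a)
          rw [hδalg, hδalg', map_zero] }
  have hS : ∀ e e', (e, e') ∈ S ↔ (algebraMap P.Ring B e = algebraMap P'.Ring B e' ∧ e₂ (δ e) = δ' e') :=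
    fun _ _ => Iff.rfl
  obtain ⟨f, hf⟩ := K679.ExalKit.exists_algHom_of_graph S (fun e => by
    obtain ⟨e', he'⟩ := P'.algebraMap_surjective (algebraMap P.Ring B e)
    have h1 : P'.toKaehler (e₂ (δ e) - δ' e') = 0 := by
      rw [map_sub, h₂, htoK, htoK', he', sub_self]
    obtain ⟨y, hy⟩ := (P'.exact_cotangentComplex_toKaehler _).1 h1
    obtain ⟨⟨x, hx⟩, rfl⟩ := Algebra.Extension.Cotangent.mk_surjective y
    rw [hcot'] at hy
    change δ' x = _ at hy
    refine ⟨e' + x, (hS _ _).2 ⟨?_, ?_⟩⟩
    · have hx' : algebraMap P'.Ring B x = 0 := hx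
      rw [map_add, he', hx', add_zero]
    · rw [hδadd', hy]; abel) (by
    intro e he
    rw [hS] at he
    have hδ0 : δ 0 = 0 := by rw [← map_zero (algebraMap A P.Ring), hδalg]
    refine hker0' e ?_ ?_
    · rw [← he.1, map_zero]
    · rw [← he.2, hδ0, map_zero])
  have hf1 : ∀ e, algebraMap P'.Ring B (f e) = algebraMap P.Ring B e := fun e =>
    ((hS _ _).1 ((hf e (f e)).2 rfl)).1.symm
  have hf2 : ∀ e, δ' (f e) = e₂ (δ e) := fun e => ((hS _ _).1 ((hf e (f e)).2 rfl)).2.symm
  let F : P.Hom P' :=
    { toRingHom := f.toRingHom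
      toRingHom_algebraMap := fun x => f.commutes x
      algebraMap_toRingHom := fun x => hf1 x }
  have hmap : Algebra.Extension.Cotangent.map F = e₁.toLinearMap := by
    refine LinearMap.ext fun y => ?_
    obtain ⟨⟨x, hx⟩, rfl⟩ := Algebra.Extension.Cotangent.mk_surjective y
    apply hinj'
    rw [Algebra.Extension.Cotangent.map_mk, hcot', LinearEquiv.coe_coe, ← h₁, hcot]
    exact hf2 x
  refine ⟨F, ⟨?_, ?_⟩, hmap⟩
  · change Function.Injective f
    rw [injective_iff_map_eq_zero]
    intro e he
    have hδ0' : δ' 0 = 0 := by rw [← map_zero (algebraMap A P'.Ring), hδalg']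
    refine hker0 e ?_ ?_
    · rw [← hf1, he, map_zero]
    · apply e₂.injective
      rw [← hf2, he, hδ0', map_zero]
  · change Function.Surjective f
    intro e'
    obtain ⟨e, he⟩ := P.algebraMap_surjective (algebraMap P'.Ring B e')
    have h1 : algebraMap P'.Ring B (e' - f e) = 0 := by rw [map_sub, hf1, he, sub_self]
    obtain ⟨y, hy⟩ := e₁.surjective (Algebra.Extension.Cotangent.mk (⟨e' - f e, h1⟩ : P'.ker))
    obtain ⟨⟨x, hx⟩, rfl⟩ := Algebra.Extension.Cotangent.mk_surjective y
    have h2 : δ' (f x) = δ' (e' - f e) := by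
      rw [hf2]
      have h3 := h₁ (Algebra.Extension.Cotangent.mk (⟨x, hx⟩ : P.ker))
      rw [hy, hcot, hcot'] at h3
      exact h3
    refine ⟨e + x, ?_⟩
    have hx' : algebraMap P.Ring B x = 0 := hx
    have h4 : f x - (e' - f e) = 0 := by
      refine hker0' _ ?_ ?_
      · rw [map_sub, h1, hf1, hx', sub_zero]
      · have h5 : δ' (f x) = δ' (f x - (e' - f e)) + δ' (e' - f e) := by
          rw [← hδadd', sub_add_cancel]
        rw [h2] at h5
        exact (add_eq_right.1 h5.symm)
    rw [map_add]
    linear_combination h4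

end Groth.Agent.S11286
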