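import Groth.Statements.S11287
import Groth.Agent.Deform.K679.ExalPow

set_option autoImplicit false
universe u
open Deform

namespace Groth.Agent.S11287

/-- Let k be an algebraically closed field, Λ a complete local Noetherian k-algebra with residue field
k, P = Λ[[X_1, …, X_d]] the power series ring, J an ideal of P contained in (X_1, …, X_d)^2, R =
P/J, and L a simple R-module (a copy of the residue field k). Then: (a) for every Λ-extension 0 → L
→ E → R → 0 the quotient map P → R lifts to a Λ-algebra map u : P → E; (b) for two such extensions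
E, E' with lifts u, u', the extensions are equivalent if and only if u and u' send every element of
J to the images of the same element of L (the restrictions J → L of the lifts agree); (c) every
P-linear map J → L is the restriction of a lift for some extension. Thus the classes of Λ-extensions
of R by L correspond bijectively to Hom_P(J, L), the dual of J/m_P J; this is the identification of
the obstruction space o(R/Λ) for a complete R (the general case reduces to it by passing to the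
completion). -/
theorem result
    {k : Type u} [Field k] [IsAlgClosed k]
    {Λ : Type u} [CommRing Λ] [Algebra k Λ] [IsLocalRing Λ] [IsNoetherianRing Λ]
    [IsAdicComplete (IsLocalRing.maximalIdeal Λ) Λ]
    (hΛ : ∀ a : Λ, ∃ c : k, a - algebraMap k Λ c ∈ IsLocalRing.maximalIdeal Λ)
    (d : ℕ) (J : Ideal (MvPowerSeries (Fin d) Λ))
    (hJ : J ≤ Ideal.span (Set.range (MvPowerSeries.X : Fin d → MvPowerSeries (Fin d) Λ)) ^ 2)
    (L : Type u) [AddCommGroup L] [Module (MvPowerSeries (Fin d) Λ ⧸ J) L] [Module (MvPowerSeries (Fin d) Λ) L]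
    [IsScalarTower (MvPowerSeries (Fin d) Λ) (MvPowerSeries (Fin d) Λ ⧸ J) L] [IsSimpleModule (MvPowerSeries (Fin d) Λ ⧸ J) L] :
    (∀ X : Exal.Ext Λ (MvPowerSeries (Fin d) Λ ⧸ J) L,
        ∃ u : MvPowerSeries (Fin d) Λ →ₐ[Λ] X.E, ∀ p, X.proj (u p) = Ideal.Quotient.mk J p) ∧
    (∀ (X X' : Exal.Ext Λ (MvPowerSeries (Fin d) Λ ⧸ J) L) (u : MvPowerSeries (Fin d) Λ →ₐ[Λ] X.E) (u' : MvPowerSeries (Fin d) Λ →ₐ[Λ] X'.E),
        (∀ p, X.proj (u p) = Ideal.Quotient.mk J p) → (∀ p, X'.proj (u' p) = Ideal.Quotient.mk J p) →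
        (Nonempty (X.Equiv X') ↔ ∀ j ∈ J, ∃ z : L, X.incl z = u j ∧ X'.incl z = u' j)) ∧
    (∀ δ : J →ₗ[MvPowerSeries (Fin d) Λ] L, ∃ (X : Exal.Ext Λ (MvPowerSeries (Fin d) Λ ⧸ J) L) (u : MvPowerSeries (Fin d) Λ →ₐ[Λ] X.E),
        (∀ p, X.proj (u p) = Ideal.Quotient.mk J p) ∧ ∀ j : J, X.incl (δ j) = u j) := by
  have hLnt : Nontrivial L := IsSimpleModule.nontrivial (MvPowerSeries (Fin d) Λ ⧸ J) L
  have hnt : Nontrivial (MvPowerSeries (Fin d) Λ ⧸ J) := Module.nontrivial (MvPowerSeries (Fin d) Λ ⧸ J) L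
  have hloc : IsLocalRing (MvPowerSeries (Fin d) Λ ⧸ J) :=
    IsLocalRing.of_surjective' (Ideal.Quotient.mk J) Ideal.Quotient.mk_surjective
  have hnoeth : IsNoetherianRing (MvPowerSeries (Fin d) Λ ⧸ J) :=
    isNoetherianRing_of_surjective _ _ (Ideal.Quotient.mk J) Ideal.Quotient.mk_surjective
  have hX : ∀ i : Fin d, Ideal.Quotient.mkₐ Λ J (MvPowerSeries.X i) ∈
      IsLocalRing.maximalIdeal (MvPowerSeries (Fin d) Λ ⧸ J) := by
    intro i
    have hlh : IsLocalHom (Ideal.Quotient.mk J) := IsLocalHom.of_surjective _ Ideal.Quotient.mk_surjective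
    rw [IsLocalRing.mem_maximalIdeal, mem_nonunits_iff]
    intro h
    have h1 : IsUnit (MvPowerSeries.X i : MvPowerSeries (Fin d) Λ) := hlh.map_nonunit _ h
    rw [MvPowerSeries.isUnit_iff_constantCoeff, MvPowerSeries.constantCoeff_X] at h1
    exact not_isUnit_zero h1
  have hsmul : ∀ a ∈ Ideal.span (Set.range (MvPowerSeries.X : Fin d → MvPowerSeries (Fin d) Λ)),
      ∀ z : L, Ideal.Quotient.mkₐ Λ J a • z = 0 := by
    intro a ha z
    refine K679.ExalKit.maximalIdeal_smul_simple ?_ z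
    have h1 : Ideal.span (Set.range (MvPowerSeries.X : Fin d → MvPowerSeries (Fin d) Λ)) ≤
        (IsLocalRing.maximalIdeal (MvPowerSeries (Fin d) Λ ⧸ J)).comap (Ideal.Quotient.mk J) := by
      rw [Ideal.span_le]
      rintro _ ⟨i, rfl⟩
      exact hX i
    exact h1 ha
  refine ⟨fun X => ?_, fun X X' u u' hu hu' => ⟨?_, fun h => ?_⟩, fun δ => ?_⟩
  · exact K679.ExalPow.exists_lift_powerSeries X (Ideal.Quotient.mkₐ Λ J) hX
  · rintro ⟨e⟩ j hj
    have hz : X.proj (u j) = 0 := by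
      rw [hu, Ideal.Quotient.eq_zero_iff_mem]; exact hj
    obtain ⟨z, hz⟩ := K679.ExalKit.exists_incl X hz
    refine ⟨z, hz, ?_⟩
    rw [← e.apply_incl, hz]
    exact K679.ExalPow.eq_of_mem_sq X' (Ideal.Quotient.mkₐ Λ J) (e.toAlgEquiv.toAlgHom.comp u) u'
      (fun p => (e.proj_apply _).trans (hu p)) hu' _ hsmul j (hJ hj)
  · exact K679.ExalPow.nonempty_equiv_of_lifts X X' (Ideal.Quotient.mkₐ Λ J) Ideal.Quotient.mk_surjective u u' hu hu'
      (fun j hj => h j (Ideal.Quotient.eq_zero_iff_mem.1 hj))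
  · have hmem : ∀ j : RingHom.ker (Ideal.Quotient.mkₐ Λ J), (j : MvPowerSeries (Fin d) Λ) ∈ J := fun j =>
      Ideal.Quotient.eq_zero_iff_mem.1 j.2
    obtain ⟨X, u, hu, hu'⟩ := K679.ExalKit.exists_ofKerHom (Ideal.Quotient.mkₐ Λ J) Ideal.Quotient.mk_surjective
      (L := L) { toFun := fun j => δ ⟨j, hmem j⟩, map_zero' := map_zero δ, map_add' := fun a b => map_add δ ⟨a, hmem a⟩ ⟨b, hmem b⟩ }
      (fun p j => by
        have h1 := map_smul δ p ⟨j, hmem j⟩
        have h2 : p • δ ⟨j, hmem j⟩ = Ideal.Quotient.mk J p • δ ⟨j, hmem j⟩ :=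
          (IsScalarTower.algebraMap_smul (MvPowerSeries (Fin d) Λ ⧸ J) p (δ ⟨j, hmem j⟩)).symm
        exact h1.trans h2)
    exact ⟨X, u, hu, fun j => (hu' ⟨j, Ideal.Quotient.eq_zero_iff_mem.2 j.2⟩).symm⟩

end Groth.Agent.S11287
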