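import Groth.Statements.S11288
import Mathlib.Tactic.LinearCombination
import Mathlib.LinearAlgebra.Basis.VectorSpace

set_option autoImplicit false
universe u
open Deform

namespace Groth.Agent.S11288

/-- Let K be a field, R' a local Artinian K-algebra with residue field K, and t a nonzero element of the
maximal ideal m' of R' with m' t = 0, so that R' → R = R'/(t) is a small extension of R. Then the
extension is trivial, i.e. the projection admits a section which is a K-algebra map, if and only if
t is not in m'^2; equivalently, iff the surjection m'/m'^2 → m_R/m_R^2 induced on cotangent spaces,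
whose kernel is spanned by the class of t, is not bijective. For instance K[t]/(t^(n+1)) →
K[t]/(t^n) is a non-trivial small extension for n ≥ 2. (The published example allows any local
K-algebra with residue field K; the row takes R' Artinian, the case in which the subalgebra
generated by lifts of a basis of the cotangent space maps onto R.) -/
theorem result
    {K : Type u} [Field K]
    {R' : Type u} [CommRing R'] [Algebra K R'] [IsLocalRing R'] [IsArtinianRing R']
    (hres : ∀ a : R', ∃ c : K, a - algebraMap K R' c ∈ IsLocalRing.maximalIdeal R')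
    (t : R') (ht : t ∈ IsLocalRing.maximalIdeal R') (ht0 : t ≠ 0)
    (htm : ∀ a ∈ IsLocalRing.maximalIdeal R', a * t = 0) :
    (∃ s : (R' ⧸ Ideal.span {t}) →ₐ[K] R', ∀ x, Ideal.Quotient.mk (Ideal.span {t}) (s x) = x) ↔
      t ∉ IsLocalRing.maximalIdeal R' ^ 2 := by
  constructor
  · rintro ⟨s, hs⟩ h2
    have hpi : ∀ x : R', ∃ c : R', s (Ideal.Quotient.mk (Ideal.span {t}) x) = x + c * t := by
      intro x
      have h1 := hs (Ideal.Quotient.mk (Ideal.span {t}) x)
      rw [Ideal.Quotient.mk_eq_mk_iff_sub_mem, Ideal.mem_span_singleton'] at h1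
      obtain ⟨c, hc⟩ := h1
      exact ⟨c, by rw [hc]; ring⟩
    have key : ∀ x ∈ IsLocalRing.maximalIdeal R' ^ 2,
        s (Ideal.Quotient.mk (Ideal.span {t}) x) = x := by
      intro x hx
      rw [pow_two] at hx
      refine Submodule.mul_induction_on hx ?_ ?_
      · intro a ha b hb
        obtain ⟨c, hc⟩ := hpi a
        obtain ⟨d, hd⟩ := hpi b
        rw [map_mul, map_mul, hc, hd]
        have h1 : t * t = 0 := htm t ht
        have h2 := htm a ha
        have h3 := htm b hb
        linear_combination d * h2 + c * h3 + c * d * h1
      · intro x y hx hy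
        rw [map_add, map_add, hx, hy]
    apply ht0
    rw [← key t h2]
    have : Ideal.Quotient.mk (Ideal.span {t}) t = 0 := by
      rw [Ideal.Quotient.eq_zero_iff_mem]; exact Ideal.mem_span_singleton_self t
    rw [this, map_zero]
  · intro h2
    set W : Submodule K R' := K ∙ (1 : R') ⊔ ((IsLocalRing.maximalIdeal R' ^ 2).restrictScalars K) with hW
    have htW : t ∉ W := by
      intro h
      rw [hW, Submodule.mem_sup] at h
      obtain ⟨y, hy, z, hz, hyz⟩ := h
      rw [Submodule.mem_span_singleton] at hy
      obtain ⟨c, rfl⟩ := hy
      have hz' : z ∈ IsLocalRing.maximalIdeal R' ^ 2 := hz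
      have hc : c = 0 := by
        by_contra hc
        have h3 : c • (1 : R') ∈ IsLocalRing.maximalIdeal R' := by
          have : c • (1 : R') = t - z := by rw [← hyz]; ring
          rw [this]
          exact Ideal.sub_mem _ ht (Ideal.pow_le_self two_ne_zero hz')
        rw [← Algebra.algebraMap_eq_smul_one] at h3
        exact (IsLocalRing.mem_maximalIdeal _).1 h3 ((IsUnit.mk0 c hc).map (algebraMap K R'))
      rw [hc, zero_smul, zero_add] at hyz
      exact h2 (hyz ▸ hz')
    obtain ⟨f₀, hf₀, hf₀W⟩ := Submodule.exists_le_ker_of_notMem htW
    set f : R' →ₗ[K] K := (f₀ t)⁻¹ • f₀ with hf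
    have hft : f t = 1 := by
      rw [hf, LinearMap.smul_apply, smul_eq_mul, inv_mul_cancel₀ hf₀]
    have hfW : ∀ w ∈ W, f w = 0 := by
      intro w hw
      rw [hf, LinearMap.smul_apply, show f₀ w = 0 from hf₀W hw, smul_zero]
    have hf1 : f 1 = 0 := hfW _ (Submodule.mem_sup_left (Submodule.mem_span_singleton_self _))
    have hf2 : ∀ w ∈ IsLocalRing.maximalIdeal R' ^ 2, f w = 0 := fun w hw =>
      hfW _ (Submodule.mem_sup_right hw)
    let e : R' →ₐ[K] R' := AlgHom.ofLinearMap
      (LinearMap.id - (LinearMap.toSpanSingleton K R' t).comp f)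
      (by simp [hf1]) (by
        intro x y
        obtain ⟨c, hc⟩ := hres x
        obtain ⟨d, hd⟩ := hres y
        set u := x - algebraMap K R' c
        set v := y - algebraMap K R' d
        have hx : x = algebraMap K R' c + u := by simp [u]
        have hy : y = algebraMap K R' d + v := by simp [v]
        have hfx : f x = f u := by
          rw [hx, map_add, Algebra.algebraMap_eq_smul_one, map_smul, hf1, smul_zero, zero_add]
        have hfy : f y = f v := by
          rw [hy, map_add, Algebra.algebraMap_eq_smul_one, map_smul, hf1, smul_zero, zero_add]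
        have huv : f (u * v) = 0 := hf2 _ (by rw [pow_two]; exact Ideal.mul_mem_mul hc hd)
        have hfxy : f (x * y) = c * f v + d * f u := by
          have : x * y = (c * d) • (1 : R') + c • v + d • u + u * v := by
            rw [hx, hy]
            simp only [Algebra.smul_def, map_mul, mul_one]
            ring
          rw [this]
          simp [hf1, huv]
        have hut : u * t = 0 := htm u hc
        have hvt : v * t = 0 := htm v hd
        have htt : t * t = 0 := htm t ht
        simp only [LinearMap.sub_apply, LinearMap.id_apply, LinearMap.comp_apply,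
          LinearMap.toSpanSingleton_apply, hfxy, hfx, hfy, Algebra.smul_def, map_add, map_mul]
        rw [hx, hy]
        linear_combination (algebraMap K R' (f v)) * hut + (algebraMap K R' (f u)) * hvt
          - (algebraMap K R' (f v)) * (algebraMap K R' (f u)) * htt)
    have he : ∀ x, e x = x - f x • t := fun x => by simp [e]
    have het : ∀ a ∈ Ideal.span {t}, e a = 0 := by
      intro a ha
      rw [Ideal.mem_span_singleton'] at ha
      obtain ⟨b, rfl⟩ := ha
      rw [map_mul, he t, hft, one_smul, sub_self, mul_zero]
    refine ⟨Ideal.Quotient.liftₐ (Ideal.span {t}) e het, fun x => ?_⟩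
    obtain ⟨x, rfl⟩ := Ideal.Quotient.mk_surjective x
    have : (Ideal.Quotient.liftₐ (Ideal.span {t}) e het) (Ideal.Quotient.mk (Ideal.span {t}) x) = e x := rfl
    rw [this, he, Ideal.Quotient.mk_eq_mk_iff_sub_mem, Ideal.mem_span_singleton']
    refine ⟨- algebraMap K R' (f x), ?_⟩
    rw [Algebra.smul_def]; ring

end Groth.Agent.S11288
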