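import Groth.Statements.S11289
import Groth.Agent.Deform.K679.ArtIso
import Groth.Agent.Deform.K679.RigidExt
import Mathlib.RingTheory.DualNumber

set_option autoImplicit false
universe u
open CategoryTheory CategoryTheory.Limits AlgebraicGeometry
open Deform

namespace Groth.Agent.S11289

/-- Let k be an algebraically closed field and X a nonsingular variety over k (an integral scheme,
separated, quasi-compact and smooth over Spec k). Call X rigid when every infinitesimal deformation
of X is trivial: for every local Artinian k-algebra A with a k-algebra augmentation e : A → k, every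
scheme Y flat over Spec A and every morphism i : X → Y making X the fibre of Y over the closed point
Spec k → Spec A, there is an isomorphism of Y with the product X ×_k Spec A over Spec A under which
i becomes the canonical inclusion of X. Then X is rigid if and only if H^1(X, T_X) = 0, written here
as the vanishing of Ext^1(Ω_{X/k}, O_X) in the category of O_X-modules (the same group, Ω_{X/k}
being locally free). The Artinian algebras A range over the universe of X. -/
theorem result
    {k : Type u} [Field k] [IsAlgClosed k]
    (X : Scheme.{u}) [X.Over (Spec (CommRingCat.of k))] [IsIntegral X]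
    [Smooth (X ↘ Spec (CommRingCat.of k))] [IsSeparated (X ↘ Spec (CommRingCat.of k))]
    [QuasiCompact (X ↘ Spec (CommRingCat.of k))] [HasExt.{u} X.Modules] :
    (∀ (A : Type u) [CommRing A] [Algebra k A] [IsLocalRing A] [IsArtinianRing A] (e : A →ₐ[k] k)
        (Y : Scheme.{u}) (f : Y ⟶ Spec (CommRingCat.of A)) (i : X ⟶ Y), Flat f →
        IsPullback i (X ↘ Spec (CommRingCat.of k)) f (Spec.map (CommRingCat.ofHom e.toRingHom)) →
        ∃ φ : Y ≅ pullback (X ↘ Spec (CommRingCat.of k)) (Spec.map (CommRingCat.ofHom (algebraMap k A))),
          φ.hom ≫ pullback.snd _ _ = f ∧ i ≫ φ.hom ≫ pullback.fst _ _ = 𝟙 X) ↔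
    Subsingleton (Abelian.Ext.{u} (Omega.sheaf (X ↘ Spec (CommRingCat.of k))) (Coh.structureModule X) 1) := by
  constructor
  · intro hr
    have : Module.Finite k (DualNumber k) := inferInstanceAs (Module.Finite k (k × k))
    have : IsArtinianRing (DualNumber k) := IsArtinianRing.of_finite k _
    refine K679.RigidExt.subsingleton_ext (TrivSqZeroExt.fstHom k k k).toRingHom
      (algebraMap k (DualNumber k)) ?_ DualNumber.eps (DualNumber.eps_mul_eps) ?_ ?_
      (X ↘ Spec (CommRingCat.of k)) (Groth.Agent.S5005.result _)
      (Groth.Agent.Lefpen.H721.OmegaSec.isFinLocFree_omega _)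
      (fun Y f i hf hp => hr (DualNumber k) (TrivSqZeroExt.fstHom k k k) Y f i hf hp)
    · exact RingHom.ext fun c => (TrivSqZeroExt.fstHom k k k).commutes c
    · ext x
      rw [Ideal.mem_span_singleton]
      exact DualNumber.fst_eq_zero_iff_eps_dvd
    · intro c
      change TrivSqZeroExt.fst c = 0 ↔ c * DualNumber.eps = 0
      constructor
      · intro h
        ext <;> simp [h]
      · intro h
        have h2 := congrArg TrivSqZeroExt.snd h
        simpa using h2
  · intro h1 A _ _ _ _ e Y f i hf hp
    exact K679.ArtIso.exists_triv (X ↘ Spec (CommRingCat.of k)) h1 A e.toRingHom (algebraMap k A)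
      (RingHom.ext fun c => e.commutes c) Y f i hf hp

end Groth.Agent.S11289
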