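import Groth.Statements.S11291
import Groth.Agent.Deform.K679.SmallExt
import Groth.Agent.CalgB.CohenPres
import Mathlib.RingTheory.Nakayama
import Mathlib.RingTheory.MvPowerSeries.NoZeroDivisors

set_option autoImplicit false
universe u
open Deform

namespace Groth.Agent.S11291

namespace K679

open IsLocalRing

theorem false_of_presentation {k : Type u} [Field k]
    {A : Type u} [CommRing A] [Algebra k A] [IsLocalRing A] [IsArtinianRing A]
    (hres : ∀ a : A, ∃ c : k, a - algebraMap k A c ∈ maximalIdeal A)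
    (hA : maximalIdeal A ≠ ⊥)
    {P : Type u} [CommRing P] [Algebra k P] [IsLocalRing P] [IsNoetherianRing P] [IsDomain P]
    (Φ : P →ₐ[k] A) (hΦs : Function.Surjective Φ) (hΦk : RingHom.ker Φ ≤ maximalIdeal P ^ 2)
    (H : ∀ X : Exal.Ext k A (ResidueField A), X.IsTrivial) : False := by
  set J : Ideal P := RingHom.ker Φ with hJ
  have hlh : IsLocalHom Φ.toRingHom := IsLocalHom.of_surjective Φ.toRingHom hΦs
  have hmem : ∀ p, Φ p ∈ maximalIdeal A ↔ p ∈ maximalIdeal P := by
    intro p
    rw [mem_maximalIdeal, mem_maximalIdeal, mem_nonunits_iff, mem_nonunits_iff]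
    exact not_congr ⟨fun h => hlh.map_nonunit p h, fun h => h.map Φ⟩
  have hJ2 : J ≤ maximalIdeal P := hΦk.trans (Ideal.pow_le_self two_ne_zero)
  obtain ⟨n, hn⟩ := IsArtinianRing.isNilpotent_jacobson_bot (R := A)
  rw [IsLocalRing.jacobson_eq_maximalIdeal ⊥ bot_ne_top] at hn
  have hnJ : maximalIdeal P ^ n ≤ J := by
    intro p hp
    have h1 : Φ p ∈ maximalIdeal A ^ n := by
      have h2 : (maximalIdeal P ^ n).map Φ ≤ maximalIdeal A ^ n := by
        rw [Ideal.map_pow]
        refine Ideal.pow_right_mono ?_ n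
        rw [Ideal.map_le_iff_le_comap]
        intro q hq
        exact (hmem q).2 hq
      exact h2 (Ideal.mem_map_of_mem _ hp)
    rw [hn] at h1
    exact h1
  have hJ0 : J ≠ ⊥ := by
    intro h
    apply hA
    rw [eq_bot_iff]
    intro a ha
    obtain ⟨p, rfl⟩ := hΦs a
    rw [hmem] at ha
    have h1 : p ^ n ∈ J := hnJ (Ideal.pow_mem_pow ha n)
    rw [h, Ideal.mem_bot] at h1
    have h2 : p = 0 := by
      by_contra h3
      exact pow_ne_zero n h3 h1
    rw [h2, map_zero]
    exact zero_mem _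
  -- a maximal proper sub-ideal of `J`
  obtain ⟨N, hNJ, hNmax⟩ := (set_has_maximal_iff_noetherian (R := P) (M := P)).2 inferInstance
    {I : Ideal P | I < J} ⟨⊥, bot_lt_iff_ne_bot.2 hJ0⟩
  have hNJ' : N < J := hNJ
  have hmJ : maximalIdeal P * J ≤ N := by
    by_contra hcon
    have h1 : N < N ⊔ maximalIdeal P * J := by
      refine lt_of_le_of_ne le_sup_left fun h => hcon ?_
      rw [h]
      exact le_sup_right
    have h2 : ¬ (N ⊔ maximalIdeal P * J) < J := fun h => hNmax _ h h1
    have h3 : N ⊔ maximalIdeal P * J ≤ J := sup_le hNJ'.le Ideal.mul_le_right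
    have h4 : J ≤ N ⊔ maximalIdeal P • J := by
      rw [smul_eq_mul]
      exact (eq_of_le_of_not_lt h3 h2).ge
    have h5 : J ≤ N := Submodule.le_of_le_smul_of_le_jacobson_bot
      ((isNoetherianRing_iff_ideal_fg P).1 inferInstance J)
      (IsLocalRing.jacobson_eq_maximalIdeal ⊥ bot_ne_top).ge h4
    exact absurd h5 (not_le_of_gt hNJ')
  obtain ⟨j₀, hj₀, hj₀N⟩ := Set.exists_of_ssubset hNJ'
  have hsup : N ⊔ Ideal.span {j₀} = J := by
    have h1 : N < N ⊔ Ideal.span {j₀} := by
      refine lt_of_le_of_ne le_sup_left fun h => hj₀N ?_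
      rw [SetLike.mem_coe, h]
      exact Ideal.mem_sup_right (Ideal.mem_span_singleton_self j₀)
    have h2 : ¬ (N ⊔ Ideal.span {j₀}) < J := fun h => hNmax _ h h1
    have h3 : N ⊔ Ideal.span {j₀} ≤ J :=
      sup_le hNJ'.le (by rw [Ideal.span_singleton_le_iff_mem]; exact hj₀)
    exact eq_of_le_of_not_lt h3 h2
  -- the small extension `C = P/N`
  have hNm : N ≤ maximalIdeal P := hNJ'.le.trans hJ2
  have hnt : Nontrivial (P ⧸ N) := by
    rw [Ideal.Quotient.nontrivial_iff]
    intro h
    rw [h, top_le_iff] at hNm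
    exact (maximalIdeal.isMaximal P).ne_top hNm
  have hlocq : IsLocalRing (P ⧸ N) := IsLocalRing.of_surjective' (Ideal.Quotient.mk N) Ideal.Quotient.mk_surjective
  have hmax : ∀ x : P, Ideal.Quotient.mk N x ∈ maximalIdeal (P ⧸ N) ↔ x ∈ maximalIdeal P := by
    intro x
    have hlh : IsLocalHom (Ideal.Quotient.mk N) := IsLocalHom.of_surjective _ Ideal.Quotient.mk_surjective
    rw [mem_maximalIdeal, mem_maximalIdeal, mem_nonunits_iff, mem_nonunits_iff]
    exact not_congr ⟨fun h => hlh.map_nonunit x h, fun h => h.map _⟩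
  have hnq : IsNoetherianRing (P ⧸ N) :=
    isNoetherianRing_of_surjective P _ (Ideal.Quotient.mk N) Ideal.Quotient.mk_surjective
  have hart : IsArtinianRing (P ⧸ N) := by
    rw [isArtinianRing_iff_isNilpotent_maximalIdeal]
    refine ⟨n + 1, ?_⟩
    have h1 : maximalIdeal (P ⧸ N) = (maximalIdeal P).map (Ideal.Quotient.mk N) := by
      apply le_antisymm
      · intro x hx
        obtain ⟨y, rfl⟩ := Ideal.Quotient.mk_surjective x
        exact Ideal.mem_map_of_mem _ ((hmax y).1 hx)
      · rw [Ideal.map_le_iff_le_comap]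
        intro x hx
        exact (hmax x).2 hx
    rw [h1, ← Ideal.map_pow, Ideal.zero_eq_bot, Ideal.map_eq_bot_iff_le_ker, Ideal.mk_ker, pow_succ']
    exact (Ideal.mul_mono_right hnJ).trans hmJ
  set t : P ⧸ N := Ideal.Quotient.mk N j₀ with ht
  have ht0 : t ≠ 0 := fun h => hj₀N (Ideal.Quotient.eq_zero_iff_mem.1 h)
  have htm : t ∈ maximalIdeal (P ⧸ N) := (hmax _).2 (hJ2 hj₀)
  have hmt : ∀ b ∈ maximalIdeal (P ⧸ N), b * t = 0 := by
    intro b hb
    obtain ⟨x, rfl⟩ := Ideal.Quotient.mk_surjective b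
    rw [hmax] at hb
    rw [ht, ← map_mul, Ideal.Quotient.eq_zero_iff_mem]
    exact hmJ (Ideal.mul_mem_mul hb hj₀)
  obtain ⟨φ, hφ⟩ := K679.ExalKit.exists_factor Φ hΦs
    ((Ideal.Quotient.mkₐ k (Ideal.span {t})).comp (Ideal.Quotient.mkₐ k N)) (by
      intro x hx
      have h1 : x ∈ J := hx
      rw [← hsup] at h1
      obtain ⟨a, ha, b, hb, rfl⟩ := Submodule.mem_sup.1 h1
      change Ideal.Quotient.mk (Ideal.span {t}) (Ideal.Quotient.mk N (a + b)) = 0
      rw [map_add, Ideal.Quotient.eq_zero_iff_mem.2 ha, zero_add, Ideal.Quotient.eq_zero_iff_mem]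
      obtain ⟨c, rfl⟩ := Ideal.mem_span_singleton'.1 hb
      rw [map_mul]
      exact Ideal.mul_mem_left _ _ (Ideal.mem_span_singleton_self _))
  obtain ⟨φ', hφ'⟩ := K679.SmallExt.exists_lift_of_forall_isTrivial (k := k) (Λ := k) H (C := P ⧸ N) (by
      intro b
      obtain ⟨x, rfl⟩ := Ideal.Quotient.mk_surjective b
      obtain ⟨c, hc⟩ := hres (Φ x)
      refine ⟨c, ?_⟩
      have h1 : Ideal.Quotient.mk N x - algebraMap k (P ⧸ N) (algebraMap k k c) =
          Ideal.Quotient.mk N (x - algebraMap k P c) := by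
        rw [map_sub]; rfl
      rw [h1, hmax, ← hmem, map_sub, AlgHom.commutes]
      exact hc) t htm hmt φ
  -- contradiction
  have hpi : ∀ x : P, ∃ c, φ' (Φ x) = Ideal.Quotient.mk N x + c * t := by
    intro x
    have h1 : Ideal.Quotient.mk (Ideal.span {t}) (φ' (Φ x)) = φ (Φ x) := DFunLike.congr_fun hφ' (Φ x)
    rw [hφ] at h1
    have h2 : Ideal.Quotient.mk (Ideal.span {t}) (φ' (Φ x)) =
      Ideal.Quotient.mk (Ideal.span {t}) (Ideal.Quotient.mk N x) := h1
    rw [Ideal.Quotient.mk_eq_mk_iff_sub_mem, Ideal.mem_span_singleton'] at h2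
    obtain ⟨c, hc⟩ := h2
    exact ⟨c, by rw [hc]; ring⟩
  have key : ∀ x ∈ maximalIdeal P ^ 2, φ' (Φ x) = Ideal.Quotient.mk N x := by
    intro x hx
    rw [pow_two] at hx
    refine Submodule.mul_induction_on hx ?_ ?_
    · intro a ha b hb
      obtain ⟨c, hc⟩ := hpi a
      obtain ⟨d, hd⟩ := hpi b
      rw [map_mul, map_mul, map_mul, hc, hd]
      have h1 := hmt t htm
      have h2 := hmt _ ((hmax a).2 ha)
      have h3 := hmt _ ((hmax b).2 hb)
      linear_combination d * h2 + c * h3 + c * d * h1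
    · intro x y hx hy
      rw [map_add, map_add, map_add, hx, hy]
  apply ht0
  have h1 := key j₀ (hΦk hj₀)
  have h2 : Φ j₀ = 0 := hj₀
  rw [h2, map_zero] at h1
  exact h1.symm

end K679

/-- Let k be an algebraically closed field and A a local Artinian k-algebra with residue field k and
non-zero maximal ideal, i.e. A is not k. Then the obstruction space o(A) = Ex_k(A, k) is not zero:
there is a k-extension 0 → k → E → A → 0 of A by its residue field which is not trivial (admits no
k-algebra section). Equivalently, k is the only formally smooth object among local Artinian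
k-algebras with residue field k. -/
theorem result
    {k : Type u} [Field k] [IsAlgClosed k]
    {A : Type u} [CommRing A] [Algebra k A] [IsLocalRing A] [IsArtinianRing A]
    (hres : ∀ a : A, ∃ c : k, a - algebraMap k A c ∈ IsLocalRing.maximalIdeal A)
    (hA : IsLocalRing.maximalIdeal A ≠ ⊥) :
    ∃ X : Exal.Ext k A (IsLocalRing.ResidueField A), ¬ X.IsTrivial := by
  by_contra hcon
  push Not at hcon
  have hcomp : IsAdicComplete (IsLocalRing.maximalIdeal A) A := inferInstance
  have hbij : Function.Bijective (algebraMap k (IsLocalRing.ResidueField A)) := by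
    refine ⟨(algebraMap k (IsLocalRing.ResidueField A)).injective, fun x => ?_⟩
    obtain ⟨a, rfl⟩ := IsLocalRing.residue_surjective x
    obtain ⟨c, hc⟩ := hres a
    refine ⟨c, ?_⟩
    rw [IsScalarTower.algebraMap_apply k A (IsLocalRing.ResidueField A)]
    change IsLocalRing.residue A _ = _
    have h1 : IsLocalRing.residue A (a - algebraMap k A c) = 0 := (IsLocalRing.residue_eq_zero_iff _).2 hc
    rw [map_sub, sub_eq_zero] at h1
    exact h1.symm
  have hfs : Algebra.FormallySmooth k (IsLocalRing.ResidueField A) :=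
    Algebra.FormallySmooth.of_equiv (AlgEquiv.ofBijective (Algebra.ofId k (IsLocalRing.ResidueField A)) hbij)
  obtain ⟨Φ, hΦs, hΦk, hΦr⟩ := Groth.Agent.CalgB.CohenPres.exists_presentation (k₀ := k) (B := A)
  have hdom : IsDomain (MvPowerSeries (Fin (Module.finrank (IsLocalRing.ResidueField A)
      (IsLocalRing.CotangentSpace A))) (IsLocalRing.ResidueField A)) := NoZeroDivisors.to_isDomain _
  exact K679.false_of_presentation hres hA Φ hΦs hΦk hcon

end Groth.Agent.S11291
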