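import Groth.Statements.S11292
import Groth.Agent.Deform.K679.ExalKit2
import Mathlib.RingTheory.LocalRing.ResidueField.Basic

set_option autoImplicit false
universe u
open Deform

namespace Groth.Agent.S11292

namespace K679

attribute [local instance] Exal.opModule Exal.isCentralScalar_opModule

open Exal in
/-- A section of the extension attached to a derivation is an extension of the derivation. -/
theorem exists_derivation_of_section {k Λ R L : Type u} [CommRing k] [CommRing Λ] [CommRing R] [Algebra k Λ]
    [Algebra k R] [Algebra Λ R] [IsScalarTower k Λ R] [AddCommGroup L] [Module R L] [Module Λ L]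
    [IsScalarTower Λ R L] [Module k L] [IsScalarTower k Λ L] [IsScalarTower k R L] (D : Derivation k Λ L)
    (s : R →ₐ[Λ] (Ext.ofDerivation (C := R) D).E) (hs : ∀ r, (Ext.ofDerivation (C := R) D).proj (s r) = r) :
    ∃ D' : Derivation k R L, ∀ a : Λ, D' (algebraMap Λ R a) = D a := by
  have hfst : ∀ r, TrivSqZeroExt.fst (s r : TrivSqZeroExt R L) = r := hs
  have halg : ∀ a : Λ, TrivSqZeroExt.snd (s (algebraMap Λ R a) : TrivSqZeroExt R L) = D a := by
    intro a
    rw [AlgHom.commutes]
    change TrivSqZeroExt.snd (TrivSqZeroExt.inl (algebraMap Λ R a) + TrivSqZeroExt.inr (D a)) = D a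
    simp
  have hmul : ∀ r r', TrivSqZeroExt.snd (s (r * r') : TrivSqZeroExt R L) =
      r • TrivSqZeroExt.snd (s r' : TrivSqZeroExt R L) + r' • TrivSqZeroExt.snd (s r : TrivSqZeroExt R L) := by
    intro r r'
    rw [map_mul]
    have h1 := TrivSqZeroExt.snd_mul (s r : TrivSqZeroExt R L) (s r' : TrivSqZeroExt R L)
    rw [hfst, hfst] at h1
    exact h1
  have hk : ∀ c : k, TrivSqZeroExt.snd (s (algebraMap k R c) : TrivSqZeroExt R L) = 0 := by
    intro c
    rw [IsScalarTower.algebraMap_apply k Λ R, halg, Derivation.map_algebraMap]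
  refine ⟨{ toFun := fun r => TrivSqZeroExt.snd (s r : TrivSqZeroExt R L), map_add' := ?_, map_smul' := ?_, map_one_eq_zero' := ?_, leibniz' := ?_ }, halg⟩
  · intro r r'
    rw [map_add]
    exact TrivSqZeroExt.snd_add _ _
  · intro c r
    rw [Algebra.smul_def, hmul, hk, smul_zero, add_zero, RingHom.id_apply, IsScalarTower.algebraMap_smul]
  · change TrivSqZeroExt.snd (s 1 : TrivSqZeroExt R L) = 0
    rw [map_one]
    exact TrivSqZeroExt.snd_one
  · intro r r'
    exact hmul r r'

end K679

/-- Let k be an algebraically closed field, Λ and R local Noetherian k-algebras with residue field k,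
and Λ → R a local k-algebra homomorphism. Then the relative obstruction space vanishes — every
Λ-extension of R by its residue field k is trivial — if and only if (a) the tangent map t_R → t_Λ is
surjective: every k-derivation of Λ into k extends along Λ → R to a k-derivation of R into k, and
(b) the obstruction map o(R) → o(Λ) given by inverse image is injective on classes: two k-extensions
of R by k whose inverse images over Λ are equivalent are equivalent (R is less obstructed than Λ).
Here k is the residue field of R, a module over R, Λ and k through the structure maps. -/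
theorem result
    {k : Type u} [Field k] [IsAlgClosed k]
    {Λ : Type u} [CommRing Λ] [Algebra k Λ] [IsLocalRing Λ] [IsNoetherianRing Λ]
    (hΛ : ∀ a : Λ, ∃ c : k, a - algebraMap k Λ c ∈ IsLocalRing.maximalIdeal Λ)
    {R : Type u} [CommRing R] [Algebra Λ R] [Algebra k R] [IsScalarTower k Λ R]
    [IsLocalRing R] [IsNoetherianRing R] [IsLocalHom (algebraMap Λ R)]
    (hR : ∀ r : R, ∃ c : k, r - algebraMap k R c ∈ IsLocalRing.maximalIdeal R) :
    (∀ X : Exal.Ext Λ R (IsLocalRing.ResidueField R), X.IsTrivial) ↔
    ((∀ D : Derivation k Λ (IsLocalRing.ResidueField R),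
        ∃ D' : Derivation k R (IsLocalRing.ResidueField R), ∀ a : Λ, D' (algebraMap Λ R a) = D a) ∧
     (∀ Y Y' : Exal.Ext k R (IsLocalRing.ResidueField R),
        Nonempty ((Y.pullback Λ).Equiv (Y'.pullback Λ)) → Nonempty (Y.Equiv Y'))) := by
  have hΛL : ∀ (a : Λ) (z : IsLocalRing.ResidueField R), a • z = algebraMap Λ R a • z := fun a z =>
    (IsScalarTower.algebraMap_smul R a z).symm
  have hkL : ∀ (a : k) (z : IsLocalRing.ResidueField R), a • z = algebraMap k R a • z := fun a z =>
    (IsScalarTower.algebraMap_smul R a z).symm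
  constructor
  · intro H
    constructor
    · intro D
      obtain ⟨s, hs⟩ := H (Exal.Ext.ofDerivation (C := R) D)
      exact K679.exists_derivation_of_section D s hs
    · intro Y Y' hYY'
      obtain ⟨Z, hZ⟩ := K679.ExalKit.exists_baer Y Y'
      obtain ⟨s, hs⟩ := (hZ Λ).1 hYY'
      have hR := (hZ R).2 (by
        let Z' : Exal.Ext Λ R (IsLocalRing.ResidueField R) :=
          letI := s.toRingHom.toAlgebra
          { E := Z.E
            proj := { Z.proj.toRingHom with commutes' := fun a => hs a }
            incl := Z.incl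
            isExtension :=
              { proj_surjective := Z.isExtension.proj_surjective
                incl_injective := Z.isExtension.incl_injective
                exact := Z.isExtension.exact
                mul_incl := Z.isExtension.mul_incl } }
        obtain ⟨σ, hσ⟩ := H Z'
        refine ⟨{ (σ.toRingHom : R →+* Z.E) with commutes' := fun a => ?_ }, fun b => hσ b⟩
        change σ (algebraMap k R a) = _
        rw [IsScalarTower.algebraMap_apply k Λ R, AlgHom.commutes]
        exact s.commutes a)
      obtain ⟨e⟩ := hR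
      obtain ⟨e1⟩ := K679.ExalKit.nonempty_pullback_self_equiv Y
      obtain ⟨e2⟩ := K679.ExalKit.nonempty_pullback_self_equiv Y'
      exact ⟨(e1.symm.trans e).trans e2⟩
  · rintro ⟨h1, h2⟩ X
    let a : Λ →ₐ[k] (X.restrictBase k).E :=
      { (algebraMap Λ X.E : Λ →+* X.E) with commutes' := fun c => rfl }
    have ha : ∀ c, (X.restrictBase k).proj (a c) = algebraMap Λ R c := fun c => X.proj.commutes c
    obtain ⟨T, hT⟩ : ∃ T : Exal.Ext k R (IsLocalRing.ResidueField R), T.IsTrivial :=
      ⟨Exal.Ext.trivial k R _, K679.ExalKit.trivial_isTrivial⟩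
    have hpull : Nonempty (((X.restrictBase k).pullback Λ).Equiv (T.pullback Λ)) := by
      refine K679.ExalKit.nonempty_equiv_of_isTrivial ?_ ?_
      · rw [K679.ExalKit.pullback_isTrivial_iff]
        exact ⟨a, ha⟩
      · rw [K679.ExalKit.pullback_isTrivial_iff]
        obtain ⟨s, hs⟩ := hT
        exact ⟨s.comp (IsScalarTower.toAlgHom k Λ R), fun c => hs _⟩
    obtain ⟨e⟩ := h2 _ _ hpull
    obtain ⟨s, hs⟩ := K679.ExalKit.isTrivial_of_equiv e.symm hT
    obtain ⟨D, hD⟩ := K679.ExalKit.exists_derivation_of_lifts (X.restrictBase k)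
      (IsScalarTower.toAlgHom k Λ R) hΛL hkL (s.comp (IsScalarTower.toAlgHom k Λ R)) a
      (fun c => hs _) ha
    obtain ⟨D', hD'⟩ := h1 D
    obtain ⟨s', hs', hs''⟩ := K679.ExalKit.exists_lift_add_derivation (X.restrictBase k)
      (AlgHom.id k R) (fun _ _ => rfl) s hs D'
    refine ⟨{ (s'.toRingHom : R →+* X.E) with commutes' := fun c => ?_ }, fun b => hs'' b⟩
    change s' (algebraMap Λ R c) = a c
    rw [hs', hD', hD]
    change s (algebraMap Λ R c) + (a c - s (algebraMap Λ R c)) = a c
    ring

end Groth.Agent.S11292
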