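import Groth.Statements.S11294
-- import your own Groth.Agent.* helpers here

set_option autoImplicit false
universe u
open Deform

namespace Groth.Agent.S11294

namespace K679

open TrivSqZeroExt

variable {P : Type u} [CommRing P] (J : Ideal P) (φ : J →ₗ[P] (P ⧸ J))

/-- The ideal of the dual numbers attached to a normal vector. -/
def idealOf : Ideal (DualNumber P) where
  carrier := {x | ∃ h : x.fst ∈ J, Ideal.Quotient.mk J x.snd = φ ⟨x.fst, h⟩}
  zero_mem' := ⟨by simp, by
    have h3 : (⟨(0 : DualNumber P).fst, by simp⟩ : J) = 0 := by ext; simp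
    rw [h3]; simp⟩
  add_mem' := by
    rintro x y ⟨hx, hx'⟩ ⟨hy, hy'⟩
    refine ⟨by simpa using J.add_mem hx hy, ?_⟩
    have h3 : (⟨(x + y).fst, by simpa using J.add_mem hx hy⟩ : J) = ⟨x.fst, hx⟩ + ⟨y.fst, hy⟩ := by
      ext; simp
    rw [h3, map_add, ← hx', ← hy']; simp
  smul_mem' := by
    rintro c x ⟨hx, hx'⟩
    refine ⟨by simpa using J.mul_mem_left _ hx, ?_⟩
    have h3 : (⟨(c • x).fst, by simpa using J.mul_mem_left _ hx⟩ : J) = c.fst • ⟨x.fst, hx⟩ := by
      ext; simp
    rw [h3, map_smul, ← hx']
    change _ = Ideal.Quotient.mk J (c.fst * x.snd)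
    rw [Ideal.Quotient.mk_eq_mk_iff_sub_mem]
    have h4 : (c • x).snd - c.fst * x.snd = c.snd * x.fst := by
      simp
    rw [h4]
    exact J.mul_mem_left _ hx

theorem mem_idealOf (a b : P) : (inl a + inr b : DualNumber P) ∈ idealOf J φ ↔
    ∃ h : a ∈ J, Ideal.Quotient.mk J b = φ ⟨a, h⟩ := by
  change (∃ h : (inl a + inr b : DualNumber P).fst ∈ J,
    Ideal.Quotient.mk J (inl a + inr b : DualNumber P).snd = φ ⟨_, h⟩) ↔ _
  simp

end K679

open TrivSqZeroExt in
/-- Let P be a commutative ring, J an ideal, and P[ε] the ring of dual numbers over P. First-order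
embedded deformations of Spec(P/J) in Spec P, namely ideals J' of P[ε] lifting J (the image of J'
under ε ↦ 0 is J) with P[ε]/J' flat over the dual numbers — flatness being replaced by the condition
that every element of P[ε]/J' annihilated by ε is a multiple of ε (equivalent to flatness over k[ε]
when P is an algebra over a field k) — are in canonical bijection with Hom_P(J, P/J) =
Hom_{P/J}(J/J^2, P/J), the normal module: to φ corresponds the ideal of all a + εb with a in J and b
reducing to φ(a) modulo J. The first clause says this rule defines exactly one ideal for each φ; the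
second says an ideal J' is a flat lift of J precisely when its membership is given by this rule for
some φ. (The published statement is the global one, identifying first-order deformations of a closed
subscheme X of an algebraic scheme Y with H^0(X, N_{X/Y}); this row is the affine computation in its
proof, valid for every commutative ring P.) -/
theorem result (P : Type u) [CommRing P] (J : Ideal P) :
    (∀ φ : J →ₗ[P] (P ⧸ J), ∃! J' : Ideal (DualNumber P),
        ∀ a b : P, (inl a + inr b : DualNumber P) ∈ J' ↔ ∃ h : a ∈ J, Ideal.Quotient.mk J b = φ ⟨a, h⟩) ∧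
    (∀ J' : Ideal (DualNumber P),
      (J'.map (TrivSqZeroExt.fstHom P P P) = J ∧
        ∀ m : DualNumber P ⧸ J', Ideal.Quotient.mk J' DualNumber.eps * m = 0 →
          ∃ m' : DualNumber P ⧸ J', m = Ideal.Quotient.mk J' DualNumber.eps * m') ↔
      ∃ φ : J →ₗ[P] (P ⧸ J), ∀ a b : P,
        (inl a + inr b : DualNumber P) ∈ J' ↔ ∃ h : a ∈ J, Ideal.Quotient.mk J b = φ ⟨a, h⟩) := by
  constructor
  · intro φ
    refine ⟨K679.idealOf J φ, fun a b => K679.mem_idealOf J φ a b, fun J'' hJ'' => ?_⟩
    ext x
    rw [← TrivSqZeroExt.inl_fst_add_inr_snd_eq x, hJ'', K679.mem_idealOf]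
  · intro J'
    constructor
    · rintro ⟨hmap, hflat⟩
      have hfst : ∀ a b : P, (inl a + inr b : DualNumber P) ∈ J' → a ∈ J := by
        intro a b h
        rw [← hmap]
        have := Ideal.mem_map_of_mem (TrivSqZeroExt.fstHom P P P) h
        simpa using this
      have hex : ∀ a : J, ∃ b : P, (inl (a : P) + inr b : DualNumber P) ∈ J' := by
        rintro ⟨a, ha⟩
        rw [← hmap] at ha
        obtain ⟨x, hx, hxa⟩ := (Ideal.mem_map_iff_of_surjective (TrivSqZeroExt.fstHom P P P)
          (fun r => ⟨inl r, by simp⟩)).1 ha
        refine ⟨x.snd, ?_⟩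
        have : x.fst = a := by simpa using hxa
        change (inl a + inr x.snd : DualNumber P) ∈ J'
        rw [← this]
        rw [TrivSqZeroExt.inl_fst_add_inr_snd_eq]
        exact hx
      have heps : ∀ c : P, (inr c : DualNumber P) ∈ J' → c ∈ J := by
        intro c hc
        obtain ⟨m', hm'⟩ := hflat (Ideal.Quotient.mk J' (inl c)) (by
          rw [← map_mul, Ideal.Quotient.eq_zero_iff_mem]
          have : (DualNumber.eps * inl c : DualNumber P) = inr c := by
            ext <;> simp
          rwa [this])
        obtain ⟨y, rfl⟩ := Ideal.Quotient.mk_surjective m'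
        rw [← map_mul, Ideal.Quotient.mk_eq_mk_iff_sub_mem] at hm'
        have h2 : (inl c - DualNumber.eps * y : DualNumber P) = inl c + inr (- y.fst) := by
          ext <;> simp
        rw [h2] at hm'
        exact hfst _ _ hm'
      have heps' : ∀ c ∈ J, (inr c : DualNumber P) ∈ J' := by
        intro c hc
        obtain ⟨b, hb⟩ := hex ⟨c, hc⟩
        have := J'.mul_mem_left DualNumber.eps hb
        have h2 : (DualNumber.eps * (inl c + inr b) : DualNumber P) = inr c := by
          ext <;> simp
        rwa [h2] at this
      choose β hβ using hex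
      have huniq : ∀ (a : J) (b : P), (inl (a : P) + inr b : DualNumber P) ∈ J' →
          Ideal.Quotient.mk J b = Ideal.Quotient.mk J (β a) := by
        intro a b hb
        rw [Ideal.Quotient.mk_eq_mk_iff_sub_mem]
        apply heps
        have := J'.sub_mem hb (hβ a)
        have h2 : ((inl (a : P) + inr b) - (inl (a : P) + inr (β a)) : DualNumber P) = inr (b - β a) := by
          ext <;> simp
        rwa [h2] at this
      refine ⟨{ toFun := fun a => Ideal.Quotient.mk J (β a), map_add' := ?_, map_smul' := ?_ }, ?_⟩
      · intro a a'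
        rw [← map_add]
        symm
        apply huniq
        have := J'.add_mem (hβ a) (hβ a')
        have h2 : ((inl (a : P) + inr (β a)) + (inl (a' : P) + inr (β a')) : DualNumber P) =
            inl ((a + a' : J) : P) + inr (β a + β a') := by
          ext <;> simp
        rwa [h2] at this
      · intro c a
        have h1 : (RingHom.id P) c • Ideal.Quotient.mk J (β a) = Ideal.Quotient.mk J (c * β a) := rfl
        rw [h1]
        symm
        apply huniq
        have := J'.mul_mem_left (inl c) (hβ a)
        have h2 : (inl c * (inl (a : P) + inr (β a)) : DualNumber P) =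
            inl ((c • a : J) : P) + inr (c * β a) := by
          ext <;> simp
        rwa [h2] at this
      · intro a b
        constructor
        · intro h
          exact ⟨hfst _ _ h, huniq ⟨a, hfst _ _ h⟩ b h⟩
        · rintro ⟨ha, h⟩
          change Ideal.Quotient.mk J b = Ideal.Quotient.mk J (β ⟨a, ha⟩) at h
          rw [Ideal.Quotient.mk_eq_mk_iff_sub_mem] at h
          have := J'.add_mem (hβ ⟨a, ha⟩) (heps' _ h)
          have h2 : ((inl a + inr (β ⟨a, ha⟩)) + inr (b - β ⟨a, ha⟩) : DualNumber P) =
              inl a + inr b := by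
            ext <;> simp
          rwa [h2] at this
    · rintro ⟨φ, hφ⟩
      have hex : ∀ a (ha : a ∈ J), ∃ b : P, (inl (a : P) + inr b : DualNumber P) ∈ J' := by
        intro a ha
        obtain ⟨b, hb⟩ := Ideal.Quotient.mk_surjective (φ ⟨a, ha⟩)
        exact ⟨b, (hφ a b).2 ⟨ha, hb⟩⟩
      constructor
      · apply le_antisymm
        · rw [Ideal.map_le_iff_le_comap]
          intro x hx
          rw [← TrivSqZeroExt.inl_fst_add_inr_snd_eq x, hφ] at hx
          rw [Ideal.mem_comap]
          simpa using hx.1
        · intro a ha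
          obtain ⟨b, hb⟩ := hex a ha
          have := Ideal.mem_map_of_mem (TrivSqZeroExt.fstHom P P P) hb
          simpa using this
      · intro m hm
        obtain ⟨x, rfl⟩ := Ideal.Quotient.mk_surjective m
        rw [← map_mul, Ideal.Quotient.eq_zero_iff_mem] at hm
        have h1 : (DualNumber.eps * x : DualNumber P) = inl 0 + inr x.fst := by
          ext <;> simp
        rw [h1, hφ] at hm
        obtain ⟨h0, h2⟩ := hm
        have h3 : (⟨0, h0⟩ : J) = 0 := rfl
        rw [h3, map_zero, Ideal.Quotient.eq_zero_iff_mem] at h2
        obtain ⟨b0, hb0⟩ := hex _ h2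
        refine ⟨Ideal.Quotient.mk J' (inl (x.snd - b0)), ?_⟩
        rw [← map_mul, Ideal.Quotient.mk_eq_mk_iff_sub_mem]
        have h4 : (x - DualNumber.eps * inl (x.snd - b0) : DualNumber P) = inl x.fst + inr b0 := by
          ext <;> simp
        rw [h4]
        exact hb0

end Groth.Agent.S11294
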