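import Groth.Statements.S11295
import Groth.Agent.HilbD.K759.Fogarty
import Groth.Agent.HilbD.K684.Conn

set_option autoImplicit false
universe u
open CategoryTheory CategoryTheory.Limits AlgebraicGeometry
open HilbD

namespace Groth.Agent.S11295

/-- Let k be an algebraically closed field and Y a nonsingular connected projective surface over k: Y →
Spec k is a closed subscheme of some projective space over k, Y is connected of dimension 2 and
every local ring of Y is a regular local ring. Let n ≥ 0 and let (H, Z) represent the Hilbert
functor of n points of Y over k, i.e. Z is a closed subscheme of Y ×_k H finite locally free of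
degree n over H through which every such family over any k-scheme T is pulled back along a unique
k-morphism T → H. Then the scheme H (the Hilbert scheme Y^[n]) is connected, all of its local rings
are regular, and its dimension is 2n. -/
theorem result (k : Type u) [Field k] [IsAlgClosed k]
    (Y : Over (Spec (CommRingCat.of k))) (hproj : Neron.IsProjectiveOver k Y)
    [ConnectedSpace Y.left] (hreg : ∀ y : Y.left, IsRegularLocalRing (Y.left.presheaf.stalk y))
    (hdim : topologicalKrullDim Y.left = 2) (n : ℕ)
    (H : Over (Spec (CommRingCat.of k))) (Z : HilbD.Obj Y.hom n H) (hH : HilbD.IsUniversal Y.hom n H Z) :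
    ConnectedSpace H.left ∧ (∀ h : H.left, IsRegularLocalRing (H.left.presheaf.stalk h)) ∧
      topologicalKrullDim H.left = (2 * n : ℕ) := by
  have hFA : K684.NestPush.FA Y.left := by
    obtain ⟨m, i, hi, hi'⟩ := hproj
    exact K684.FAProj.fa i
  have hprop : IsProper Y.hom := by
    obtain ⟨m, i, hi, hi'⟩ := hproj
    rw [← hi']
    infer_instance
  have hpos : 0 < topologicalKrullDim Y.left := by rw [hdim]; norm_num
  have hconn : ConnectedSpace H.left :=
    K684.Conn.connected_of_nv Y.hom hFA n (fun m _ => K684.NVPos.nv_of_pos Y.hom hpos m) H Z hH
  have hlft : LocallyOfFiniteType H.hom :=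
    K684.HilbLFT.lft Y.hom hH (K684.Conn.exists_affine Y.hom hFA n)
  exact ⟨hconn, Groth.Agent.HilbD.K759.Fogarty.regular_dim Y hFA hreg hdim n H Z hH⟩

end Groth.Agent.S11295
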