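import Groth.Statements.S11298
import Groth.Agent.LoccohA.DepthSpread

set_option autoImplicit false
universe u v
open LocCoh

namespace Groth.Agent.S11298

/-- Let X = Spec B be an affine Noetherian scheme, Z = V(I) a closed subscheme and G a coherent sheaf,
i.e. a finitely generated B-module M, with dual G^v = Hom_B(M, B). If depth_Z(O_X) ≥ 2 then
depth_Z(G^v) ≥ 2. Here the depth along I of a module N is the supremum of the lengths of N-regular
sequences contained in I (and is infinite when I N = N). (The published statement adds that sections
of the dual over X and over X minus Z agree; this row omits that clause.) -/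
theorem result (B : Type u) [CommRing B] [IsNoetherianRing B]
    (I : Ideal B) (M : Type v) [AddCommGroup M] [Module B M] [Module.Finite B M]
    (h : 2 ≤ LocCoh.idealDepth I B) : 2 ≤ LocCoh.idealDepth I (M →ₗ[B] B) := by
  by_cases hI : I = ⊤
  · have h1 : I • (⊤ : Submodule B (M →ₗ[B] B)) = ⊤ := by rw [hI, Submodule.top_smul]
    unfold LocCoh.idealDepth
    rw [if_pos h1]
    exact le_top
  · have hIB : I • (⊤ : Submodule B B) ≠ ⊤ := by
      rw [smul_eq_mul, Ideal.mul_top]
      exact hI
    obtain ⟨rs, hrs, hmem, hlen⟩ :=
      Groth.Agent.LoccohA.DepthSpread.exists_isWeaklyRegular_length_eq_of_le_idealDepth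
        (e := 2) hIB (by exact_mod_cast h)
    obtain ⟨x, y, rfl⟩ := List.length_eq_two.1 hlen
    have h1 := (RingTheory.Sequence.isWeaklyRegular_cons_iff B x [y]).1 hrs
    have hx : IsSMulRegular B x := h1.1
    have hy : IsSMulRegular (QuotSMulTop x B) y :=
      ((RingTheory.Sequence.isWeaklyRegular_cons_iff (QuotSMulTop x B) y []).1 h1.2).1
    have key : RingTheory.Sequence.IsWeaklyRegular (M →ₗ[B] B) [x, y] := by
      rw [RingTheory.Sequence.isWeaklyRegular_cons_iff,
        RingTheory.Sequence.isWeaklyRegular_cons_iff]
      refine ⟨?_, ?_, RingTheory.Sequence.IsWeaklyRegular.nil B _⟩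
      · intro φ ψ hφψ
        ext m
        exact hx (LinearMap.congr_fun hφψ m)
      · refine isSMulRegular_iff_right_eq_zero_of_smul.2 fun q hq => ?_
        obtain ⟨φ, rfl⟩ := Submodule.Quotient.mk_surjective _ q
        rw [← Submodule.Quotient.mk_smul] at hq
        obtain ⟨ψ, -, hψ⟩ := (Submodule.Quotient.mk_eq_zero _).1 hq
        have hψ' : ∀ m, x * ψ m = y * φ m := fun m => LinearMap.congr_fun hψ m
        have hdiv : ∀ m, ∃ b, φ m = x * b := by
          intro m
          have h0 : (Submodule.Quotient.mk (φ m) : QuotSMulTop x B) = 0 := by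
            refine hy ?_
            change y • (Submodule.Quotient.mk (φ m) : QuotSMulTop x B) = y • 0
            rw [smul_zero, ← Submodule.Quotient.mk_smul, smul_eq_mul, ← hψ' m]
            exact (Submodule.Quotient.mk_eq_zero _).2
              (Submodule.smul_mem_pointwise_smul _ _ _ trivial)
          obtain ⟨b, -, hb⟩ := (Submodule.Quotient.mk_eq_zero _).1 h0
          exact ⟨b, hb.symm⟩
        choose b hb using hdiv
        have hinj : ∀ {u v : B}, x * u = x * v → u = v := fun {u v} huv => hx huv
        let θ : M →ₗ[B] B :=
          { toFun := b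
            map_add' := fun m m' => hinj (by rw [← hb, map_add, hb, hb, mul_add])
            map_smul' := fun r m => hinj (by
              rw [← hb, map_smul, hb, RingHom.id_apply, smul_eq_mul, smul_eq_mul]
              ring) }
        refine (Submodule.Quotient.mk_eq_zero _).2 ?_
        refine ⟨θ, trivial, ?_⟩
        ext m
        exact (hb m).symm
    have := Groth.Agent.LoccohA.DepthSpread.length_le_idealDepth key hmem
    exact_mod_cast this

end Groth.Agent.S11298
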