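import Groth.Statements.S11299
import Mathlib.LinearAlgebra.Quotient.Basic
import Mathlib.RingTheory.Ideal.Quotient.Basic
import Mathlib.Algebra.Module.Projective
import Mathlib.LinearAlgebra.Isomorphisms
import Mathlib.LinearAlgebra.BilinearMap

set_option autoImplicit false
universe u
open CAlg

namespace Groth.Agent.S11299

section

variable {P : Type u} [CommRing P] {J : Ideal P} {F : Type u} [AddCommGroup F] [Module P F]
  {F' : Type u} [AddCommGroup F'] [Module P F']

/-- The trivial relations. -/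
abbrev triv (j : F →ₗ[P] P) : Submodule P F :=
  Submodule.span P {y : F | ∃ u v : F, y = j u • v - j v • u}

/-- The restriction map `Hom(F, P/J) → Hom(R, P/J)`. -/
abbrev rest (J : Ideal P) (j : F →ₗ[P] P) : (F →ₗ[P] (P ⧸ J)) →ₗ[P] (LinearMap.ker j →ₗ[P] (P ⧸ J)) :=
  LinearMap.lcomp P (P ⧸ J) (LinearMap.ker j).subtype

/-- The maps vanishing on the trivial relations. -/
abbrev van (J : Ideal P) (j : F →ₗ[P] P) : Submodule P (LinearMap.ker j →ₗ[P] (P ⧸ J)) :=
  LinearMap.ker (LinearMap.lcomp P (P ⧸ J)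
            (Submodule.comap (LinearMap.ker j).subtype (triv j)).subtype)

variable {j : F →ₗ[P] P} {j' : F' →ₗ[P] P}

/-- the induced map on relations -/
def relMap (φ : F →ₗ[P] F') (h : j' ∘ₗ φ = j) : LinearMap.ker j →ₗ[P] LinearMap.ker j' :=
  φ.restrict fun x hx => by
    rw [LinearMap.mem_ker] at hx ⊢
    rw [← hx, ← h]
    rfl

theorem coe_relMap (φ : F →ₗ[P] F') (h : j' ∘ₗ φ = j) (x : LinearMap.ker j) :
    ((relMap φ h x : LinearMap.ker j') : F') = φ x := rfl

theorem triv_le (φ : F →ₗ[P] F') (h : j' ∘ₗ φ = j) : triv j ≤ (triv j').comap φ := by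
  rw [Submodule.span_le]
  rintro _ ⟨u, v, rfl⟩
  refine Submodule.subset_span ⟨φ u, φ v, ?_⟩
  have h1 : ∀ x, j' (φ x) = j x := fun x => by rw [← h]; rfl
  rw [h1, h1, map_sub, map_smul, map_smul]

/-- the induced map on Hom modules -/
def pull (J : Ideal P) (φ : F →ₗ[P] F') (h : j' ∘ₗ φ = j) :
    (LinearMap.ker j' →ₗ[P] (P ⧸ J)) →ₗ[P] (LinearMap.ker j →ₗ[P] (P ⧸ J)) :=
  LinearMap.lcomp P (P ⧸ J) (relMap φ h)

theorem pull_apply (φ : F →ₗ[P] F') (h : j' ∘ₗ φ = j) (f : LinearMap.ker j' →ₗ[P] (P ⧸ J))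
    (x : LinearMap.ker j) : pull J φ h f x = f (relMap φ h x) := rfl

theorem range_le (φ : F →ₗ[P] F') (h : j' ∘ₗ φ = j) :
    LinearMap.range (rest J j') ≤ (LinearMap.range (rest J j)).comap (pull J φ h) := by
  rintro _ ⟨f, rfl⟩
  exact ⟨f ∘ₗ φ, rfl⟩

theorem van_le (φ : F →ₗ[P] F') (h : j' ∘ₗ φ = j) :
    van J j' ≤ (van J j).comap (pull J φ h) := by
  intro f hf
  rw [Submodule.mem_comap, LinearMap.mem_ker]
  refine LinearMap.ext fun x => ?_
  have h1 := DFunLike.congr_fun (LinearMap.mem_ker.mp hf)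
    ⟨relMap φ h x.1, triv_le φ h x.2⟩
  exact h1

/-- the induced map on the quotients -/
def Q (J : Ideal P) (φ : F →ₗ[P] F') (h : j' ∘ₗ φ = j) :
    ((LinearMap.ker j' →ₗ[P] (P ⧸ J)) ⧸ LinearMap.range (rest J j')) →ₗ[P]
      ((LinearMap.ker j →ₗ[P] (P ⧸ J)) ⧸ LinearMap.range (rest J j)) :=
  Submodule.mapQ _ _ (pull J φ h) (range_le φ h)

theorem Q_comp (φ : F →ₗ[P] F') (h : j' ∘ₗ φ = j) (ψ : F' →ₗ[P] F) (h' : j ∘ₗ ψ = j')
    (x : (LinearMap.ker j →ₗ[P] (P ⧸ J)) ⧸ LinearMap.range (rest J j)) :
    Q J φ h (Q J ψ h' x) = x := by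
  obtain ⟨f, rfl⟩ := Submodule.Quotient.mk_surjective _ x
  rw [Q, Q, Submodule.mapQ_apply, Submodule.mapQ_apply, Submodule.Quotient.eq]
  let δ : F →ₗ[P] LinearMap.ker j := (ψ ∘ₗ φ - LinearMap.id).codRestrict (LinearMap.ker j) (by
    intro y
    rw [LinearMap.mem_ker, LinearMap.sub_apply, map_sub, LinearMap.comp_apply, LinearMap.id_apply]
    have h1 : j (ψ (φ y)) = j' (φ y) := by rw [← h']; rfl
    have h2 : j' (φ y) = j y := by rw [← h]; rfl
    rw [h1, h2, sub_self])
  refine ⟨f ∘ₗ δ, ?_⟩
  refine LinearMap.ext fun y => ?_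
  change f (δ y) = f (relMap ψ h' (relMap φ h y)) - f y
  rw [← map_sub]
  congr 1

theorem Q_mem (φ : F →ₗ[P] F') (h : j' ∘ₗ φ = j)
    (x : (LinearMap.ker j' →ₗ[P] (P ⧸ J)) ⧸ LinearMap.range (rest J j'))
    (hx : x ∈ Submodule.map (LinearMap.range (rest J j')).mkQ (van J j')) :
    Q J φ h x ∈ Submodule.map (LinearMap.range (rest J j)).mkQ (van J j) := by
  obtain ⟨f, hf, rfl⟩ := hx
  exact ⟨pull J φ h f, van_le φ h hf, rfl⟩

theorem exists_factor [Module.Free P F] (h : LinearMap.range j ≤ LinearMap.range j') :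
    ∃ φ : F →ₗ[P] F', j' ∘ₗ φ = j := by
  obtain ⟨φ, hφ⟩ := Module.projective_lifting_property (LinearMap.rangeRestrict j')
    (j.codRestrict (LinearMap.range j') fun x => h ⟨x, rfl⟩) (LinearMap.surjective_rangeRestrict j')
  refine ⟨φ, LinearMap.ext fun x => ?_⟩
  exact congrArg Subtype.val (DFunLike.congr_fun hφ x)

end

/-- The second cotangent module does not depend on the presentation: let P be a commutative ring, J an
ideal and B = P/J. For a presentation of J, i.e. a finitely generated free P-module F with a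
P-linear map j : F → P with image J, let R = ker j be the relation module and R^tr ⊆ R the span of
the trivial relations j(u) • v - j(v) • u; the module T^2 of the presentation is the quotient of
Hom_B(R/R^tr, B), realised as the P-linear maps R → P/J vanishing on R^tr, by the restrictions to R
of the P-linear maps F → P/J (here: the image of that submodule in the quotient of Hom_P(R, P/J) by
the restrictions). Then for two presentations (F, j) and (F', j') of the same ideal J the two
modules T^2 are isomorphic as P-modules (existence of an isomorphism; the comparison maps depend on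
expressing one system of generators through the other). (The published statement takes B essentially
of finite type over a field and P smooth; this row allows any commutative ring P and ideal J.) -/
theorem result (P : Type u) [CommRing P] (J : Ideal P)
    (F : Type u) [AddCommGroup F] [Module P F] [Module.Free P F] [Module.Finite P F]
    (F' : Type u) [AddCommGroup F'] [Module P F'] [Module.Free P F'] [Module.Finite P F']
    (j : F →ₗ[P] P) (j' : F' →ₗ[P] P) (hj : LinearMap.range j = J) (hj' : LinearMap.range j' = J) :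
    Nonempty (↥(Submodule.map
          (LinearMap.range (LinearMap.lcomp P (P ⧸ J) (LinearMap.ker j).subtype)).mkQ
          (LinearMap.ker (LinearMap.lcomp P (P ⧸ J)
            (Submodule.comap (LinearMap.ker j).subtype
              (Submodule.span P {y : F | ∃ u v : F, y = j u • v - j v • u})).subtype))) ≃ₗ[P]
      ↥(Submodule.map
          (LinearMap.range (LinearMap.lcomp P (P ⧸ J) (LinearMap.ker j').subtype)).mkQ
          (LinearMap.ker (LinearMap.lcomp P (P ⧸ J)
            (Submodule.comap (LinearMap.ker j').subtype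
              (Submodule.span P {y : F' | ∃ u v : F', y = j' u • v - j' v • u})).subtype)))) := by
  obtain ⟨φ, hφ⟩ := exists_factor (j := j) (j' := j') (by rw [hj, hj'])
  obtain ⟨ψ, hψ⟩ := exists_factor (j := j') (j' := j) (by rw [hj, hj'])
  refine ⟨LinearEquiv.ofLinearMap
    ((Q J ψ hψ).restrict fun x hx => Q_mem ψ hψ x hx)
    ((Q J φ hφ).restrict fun x hx => Q_mem φ hφ x hx) ?_ ?_⟩
  · refine LinearMap.ext fun x => Subtype.ext ?_
    exact Q_comp ψ hψ φ hφ x.1
  · refine LinearMap.ext fun x => Subtype.ext ?_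
    exact Q_comp φ hφ ψ hψ x.1

end Groth.Agent.S11299
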