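import Groth.Statements.S11300
import Groth.Agent.HilbD.K684.Conn

set_option autoImplicit false
universe u
open CategoryTheory CategoryTheory.Limits AlgebraicGeometry
open HilbD

namespace Groth.Agent.S11300

/-- Let k be an algebraically closed field and Y a connected projective scheme over k (a closed
subscheme of some projective space over k) of positive dimension. Let n ≥ 0 and let (H, Z) represent
the Hilbert functor of n points of Y over k: Z is a closed subscheme of Y ×_k H finite locally free
of degree n over H, and every such family over a k-scheme T is the pullback of Z along a unique
k-morphism T → H. Then H (the Hilbert scheme Y^[n]) is connected, in particular non-empty. (The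
published assertion does not exclude Y of dimension zero; for Y a single reduced point and n ≥ 2 the
Hilbert scheme of n points is empty, hence not connected. The published induction uses that the
universal ideal sheaf is supported on all of Y × Y^[n], which holds when Y has no isolated point,
and a connected scheme of finite type over k of positive dimension has none; this row therefore
assumes Y of positive dimension.) -/
theorem result (k : Type u) [Field k] [IsAlgClosed k]
    (Y : Over (Spec (CommRingCat.of k))) (hproj : Neron.IsProjectiveOver k Y) [ConnectedSpace Y.left]
    (hY : 0 < topologicalKrullDim Y.left)
    (n : ℕ) (H : Over (Spec (CommRingCat.of k))) (Z : HilbD.Obj Y.hom n H)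
    (hH : HilbD.IsUniversal Y.hom n H Z) : ConnectedSpace H.left := by
  have hprop : IsProper Y.hom := by
    obtain ⟨m, i, hi, hi'⟩ := hproj
    rw [← hi']
    infer_instance
  have hFA : K684.NestPush.FA Y.left := by
    obtain ⟨m, i, hi, hi'⟩ := hproj
    exact K684.FAProj.fa i
  exact K684.Conn.connected_of_nv Y.hom hFA n (fun m _ => K684.NVPos.nv_of_pos Y.hom hY m) H Z hH

end Groth.Agent.S11300
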