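import Groth.Statements.S11302
import Mathlib.RingTheory.Regular.RegularSequence
import Mathlib.Algebra.MvPolynomial.Derivation
import Mathlib.LinearAlgebra.Finsupp.LinearCombination
import Mathlib.Tactic.LinearCombination

set_option autoImplicit false
universe u
open Deform

namespace Groth.Agent.S11302

namespace K679

open MvPolynomial RingTheory.Sequence

theorem mem_span_of_sum_eq_zero {R : Type u} [CommRing R] : ∀ (n : ℕ) (f : Fin n → R),
    IsWeaklyRegular R (List.ofFn f) → ∀ a : Fin n → R, ∑ i, a i * f i = 0 → ∀ i, a i ∈ Ideal.span (Set.range f) := by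
  intro n
  induction n with
  | zero => intro f _ a _ i; exact i.elim0
  | succ n ih =>
    intro f hf a ha
    rw [List.ofFn_succ', List.concat_eq_append, isWeaklyRegular_append_iff, isWeaklyRegular_singleton_iff] at hf
    obtain ⟨h1, h2⟩ := hf
    set I : Ideal R := Ideal.span (Set.range fun i : Fin n => f (Fin.castSucc i)) with hI
    have hI' : (Ideal.ofList (List.ofFn fun i : Fin n => f (Fin.castSucc i)) • ⊤ : Submodule R R) = I := by
      rw [smul_eq_mul, Ideal.mul_top, hI, Ideal.ofList]
      congr 1
      ext x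
      simp [List.mem_ofFn]
    rw [hI'] at h2
    have hle : I ≤ Ideal.span (Set.range f) := by
      rw [hI, Ideal.span_le]
      rintro _ ⟨i, rfl⟩
      exact Ideal.subset_span ⟨_, rfl⟩
    rw [Fin.sum_univ_castSucc] at ha
    have h3 : a (Fin.last n) ∈ I := by
      have h4 : f (Fin.last n) • (Submodule.Quotient.mk (a (Fin.last n)) : R ⧸ I) = 0 := by
        rw [← Submodule.Quotient.mk_smul, Submodule.Quotient.mk_eq_zero, smul_eq_mul]
        have h5 : f (Fin.last n) * a (Fin.last n) = - ∑ i : Fin n, a (Fin.castSucc i) * f (Fin.castSucc i) := by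
          linear_combination ha
        rw [h5]
        exact neg_mem (Ideal.sum_mem _ fun i _ => Ideal.mul_mem_left _ _ (Ideal.subset_span ⟨i, rfl⟩))
      have h5 : (Submodule.Quotient.mk (a (Fin.last n)) : R ⧸ I) = 0 := h2 (by
        change f (Fin.last n) • _ = f (Fin.last n) • _
        rw [h4, smul_zero])
      exact (Submodule.Quotient.mk_eq_zero I).1 h5
    obtain ⟨c, hc⟩ := (Ideal.mem_span_range_iff_exists_fun).1 h3
    have h6 : ∑ i : Fin n, (a (Fin.castSucc i) + c i * f (Fin.last n)) * f (Fin.castSucc i) = 0 := by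
      have h7 : ∑ i : Fin n, (a (Fin.castSucc i) + c i * f (Fin.last n)) * f (Fin.castSucc i) =
          ∑ i : Fin n, a (Fin.castSucc i) * f (Fin.castSucc i) +
            f (Fin.last n) * ∑ i : Fin n, c i * f (Fin.castSucc i) := by
        rw [Finset.mul_sum, ← Finset.sum_add_distrib]
        exact Finset.sum_congr rfl fun i _ => by ring
      rw [h7, hc]
      linear_combination ha
    have h8 := ih (fun i => f (Fin.castSucc i)) h1 _ h6
    intro i
    refine Fin.lastCases ?_ (fun j => ?_) i
    · exact hle h3
    · have h9 := hle (h8 j)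
      have h10 : c j * f (Fin.last n) ∈ Ideal.span (Set.range f) :=
        Ideal.mul_mem_left _ _ (Ideal.subset_span ⟨_, rfl⟩)
      have := Ideal.sub_mem _ h9 h10
      rwa [add_sub_cancel_right] at this

/-- Evaluation of `φ : J → B` at the generators. -/
def ev {R : Type u} [CommRing R] {n : ℕ} (f : Fin n → R) :
    (↥(Ideal.span (Set.range f)) →ₗ[R] (R ⧸ Ideal.span (Set.range f))) →ₗ[R]
      (Fin n → R ⧸ Ideal.span (Set.range f)) where
  toFun φ i := φ ⟨f i, Ideal.subset_span (Set.mem_range_self i)⟩
  map_add' _ _ := rfl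
  map_smul' _ _ := rfl

theorem bijective_ev {R : Type u} [CommRing R] {n : ℕ} (f : Fin n → R)
    (h : ∀ a : Fin n → R, ∑ i, a i * f i = 0 → ∀ i, a i ∈ Ideal.span (Set.range f)) :
    Function.Bijective (ev f) := by
  let T₀ : (Fin n → R) →ₗ[R] R := Fintype.linearCombination R f
  have hT₀ : ∀ a, T₀ a = ∑ i, a i * f i := fun a => by
    change Fintype.linearCombination R f a = _
    rw [Fintype.linearCombination_apply]; rfl
  have hT₀m : ∀ a, T₀ a ∈ Ideal.span (Set.range f) := fun a => by
    rw [hT₀]
    exact Ideal.sum_mem _ fun i _ => Ideal.mul_mem_left _ _ (Ideal.subset_span ⟨i, rfl⟩)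
  let T : (Fin n → R) →ₗ[R] ↥(Ideal.span (Set.range f)) := T₀.codRestrict _ hT₀m
  have hT : Function.Surjective T := by
    rintro ⟨x, hx⟩
    obtain ⟨c, hc⟩ := (Ideal.mem_span_range_iff_exists_fun).1 hx
    exact ⟨c, Subtype.ext ((hT₀ c).trans hc)⟩
  have hTi : ∀ i, T (Pi.single i 1) = ⟨f i, Ideal.subset_span (Set.mem_range_self i)⟩ := by
    intro i
    apply Subtype.ext
    change T₀ _ = f i
    rw [hT₀]
    simp [Pi.single_apply]
  constructor
  · rw [injective_iff_map_eq_zero]
    intro φ hφ
    refine LinearMap.ext fun x => ?_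
    obtain ⟨a, rfl⟩ := hT x
    have h1 : φ ∘ₗ T = 0 := by
      refine LinearMap.pi_ext' fun i => LinearMap.ext_ring ?_
      change φ (T (Pi.single i 1)) = 0
      rw [hTi]
      exact congrFun hφ i
    exact LinearMap.congr_fun h1 a
  · intro b
    let G : (Fin n → R) →ₗ[R] (R ⧸ Ideal.span (Set.range f)) := Fintype.linearCombination R b
    have hG : ∀ a, G a = ∑ i, a i • b i := fun a => by
      change Fintype.linearCombination R b a = _
      rw [Fintype.linearCombination_apply]
    have hker : LinearMap.ker T ≤ LinearMap.ker G := by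
      intro a ha
      rw [LinearMap.mem_ker] at ha ⊢
      have h1 : ∑ i, a i * f i = 0 := by
        rw [← hT₀]; exact congrArg Subtype.val ha
      rw [hG]
      refine Finset.sum_eq_zero fun i _ => ?_
      rw [Algebra.smul_def, Ideal.Quotient.algebraMap_eq, Ideal.Quotient.eq_zero_iff_mem.2 (h a h1 i), zero_mul]
    refine ⟨(Submodule.liftQ _ G hker) ∘ₗ (T.quotKerEquivOfSurjective hT).symm.toLinearMap, ?_⟩
    funext i
    change (Submodule.liftQ _ G hker) ((T.quotKerEquivOfSurjective hT).symm ⟨f i, _⟩) = b i
    rw [← hTi]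
    have h2 : (T.quotKerEquivOfSurjective hT).symm (T (Pi.single i 1)) = Submodule.Quotient.mk (Pi.single i 1) := by
      rw [LinearEquiv.symm_apply_eq]; rfl
    rw [h2]
    change G (Pi.single i 1) = b i
    rw [hG]
    simp [Pi.single_apply]

theorem mkDerivation_eq_sum {k : Type u} [Field k] {d : ℕ} (J : Ideal (MvPolynomial (Fin d) k))
    (b : Fin d → MvPolynomial (Fin d) k ⧸ J) (p : MvPolynomial (Fin d) k) :
    mkDerivation k b p = ∑ j, b j * Ideal.Quotient.mk J (pderiv j p) := by
  have h1 : mkDerivation k b = ∑ j, (LinearMap.toSpanSingleton (MvPolynomial (Fin d) k)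
      (MvPolynomial (Fin d) k ⧸ J) (b j)).compDer (pderiv j) := by
    refine MvPolynomial.derivation_ext fun i => ?_
    rw [mkDerivation_X]
    have h2 : (∑ j, (LinearMap.toSpanSingleton (MvPolynomial (Fin d) k)
      (MvPolynomial (Fin d) k ⧸ J) (b j)).compDer (pderiv (R := k) j)) (X i) =
      ∑ j, (pderiv j (X i : MvPolynomial (Fin d) k)) • b j := by
      rw [← Derivation.coeFnAddMonoidHom_apply, map_sum, Finset.sum_apply]
      rfl
    rw [h2, Finset.sum_eq_single i]
    · rw [pderiv_X_self, one_smul]
    · intro j _ hj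
      rw [pderiv_X_of_ne hj.symm, zero_smul]
    · intro h
      exact absurd (Finset.mem_univ i) h
  rw [h1, ← Derivation.coeFnAddMonoidHom_apply, map_sum, Finset.sum_apply]
  refine Finset.sum_congr rfl fun j _ => ?_
  change (pderiv j p) • b j = _
  obtain ⟨y, hy⟩ := Ideal.Quotient.mk_surjective (b j)
  rw [← hy, ← map_mul, mul_comm]
  rfl

end K679

open MvPolynomial in
/-- T^1 of a complete intersection; the hypersurface case P/(f, ∂f/∂X_1, ..., ∂f/∂X_d) is n = 1: let k
be an algebraically closed field, P = k[X_1, ..., X_d], f_1, ..., f_n a regular sequence in P (each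
f_i a non-zero-divisor modulo the preceding ones), J the ideal they generate and B = P/J. The first
cotangent module T^1_B — the cokernel of Der_k(P, B) → Hom_P(J, B), a derivation being restricted to
J — is isomorphic, as a P-module, to B^n modulo the B-submodule generated by the d columns
(∂f_1/∂X_j, ..., ∂f_n/∂X_j), j = 1, ..., d, of the Jacobian matrix reduced modulo J, through the map
sending the class of φ : J → B to the class of (φ(f_1), ..., φ(f_n)). (The published formula allows
P to be a localisation of the polynomial ring; this row takes the polynomial ring.) -/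
theorem result (k : Type u) [Field k] [IsAlgClosed k] (d n : ℕ)
    (f : Fin n → MvPolynomial (Fin d) k) (hreg : RingTheory.Sequence.IsWeaklyRegular (MvPolynomial (Fin d) k) (List.ofFn f)) :
    ∃ e : ((↥(Ideal.span (Set.range f)) →ₗ[MvPolynomial (Fin d) k] (MvPolynomial (Fin d) k ⧸ Ideal.span (Set.range f))) ⧸
            Submodule.span (MvPolynomial (Fin d) k)
              {ψ : ↥(Ideal.span (Set.range f)) →ₗ[MvPolynomial (Fin d) k] (MvPolynomial (Fin d) k ⧸ Ideal.span (Set.range f)) |
                ∃ D : Derivation k (MvPolynomial (Fin d) k) (MvPolynomial (Fin d) k ⧸ Ideal.span (Set.range f)), ∀ a : ↥(Ideal.span (Set.range f)), ψ a = D (a : MvPolynomial (Fin d) k)}) ≃ₗ[MvPolynomial (Fin d) k]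
          ((Fin n → MvPolynomial (Fin d) k ⧸ Ideal.span (Set.range f)) ⧸
            Submodule.span (MvPolynomial (Fin d) k ⧸ Ideal.span (Set.range f))
              (Set.range fun j : Fin d => fun i : Fin n => Ideal.Quotient.mk (Ideal.span (Set.range f)) (pderiv j (f i)))),
      ∀ φ : ↥(Ideal.span (Set.range f)) →ₗ[MvPolynomial (Fin d) k] (MvPolynomial (Fin d) k ⧸ Ideal.span (Set.range f)),
        e (Submodule.Quotient.mk φ) =
          Submodule.Quotient.mk (fun i : Fin n => φ ⟨f i, Ideal.subset_span (Set.mem_range_self i)⟩) := by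
  have hbij := K679.bijective_ev f (fun a ha i => K679.mem_span_of_sum_eq_zero n f hreg a ha i)
  set J := Ideal.span (Set.range f) with hJ
  have hrange : Set.range (fun j : Fin d => fun i : Fin n => Ideal.Quotient.mk J (pderiv j (f i))) =
      Set.range (fun j : Fin d => fun i : Fin n => Ideal.Quotient.mk J (pderiv j (f i))) := rfl
  let ev := K679.ev f
  let N : Submodule (MvPolynomial (Fin d) k ⧸ J) (Fin n → MvPolynomial (Fin d) k ⧸ J) :=
    Submodule.span (MvPolynomial (Fin d) k ⧸ J)
      (Set.range fun j : Fin d => fun i : Fin n => Ideal.Quotient.mk J (pderiv j (f i)))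
  let π : (Fin n → MvPolynomial (Fin d) k ⧸ J) →ₗ[MvPolynomial (Fin d) k] ((Fin n → MvPolynomial (Fin d) k ⧸ J) ⧸ N) :=
    N.mkQ.restrictScalars (MvPolynomial (Fin d) k)
  let L := π ∘ₗ ev
  have hL : Function.Surjective L := N.mkQ_surjective.comp hbij.2
  have hD : ∀ (D : Derivation k (MvPolynomial (Fin d) k) (MvPolynomial (Fin d) k ⧸ J)) (p : MvPolynomial (Fin d) k),
      D p = ∑ j, D (X j) * Ideal.Quotient.mk J (pderiv j p) := by
    intro D p
    have h1 : D = mkDerivation k (fun j => D (X j)) := by
      refine MvPolynomial.derivation_ext fun i => ?_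
      rw [mkDerivation_X]
    conv_lhs => rw [h1]
    rw [K679.mkDerivation_eq_sum]
  have hker : LinearMap.ker L = Submodule.span (MvPolynomial (Fin d) k)
      {ψ : ↥J →ₗ[MvPolynomial (Fin d) k] (MvPolynomial (Fin d) k ⧸ J) |
        ∃ D : Derivation k (MvPolynomial (Fin d) k) (MvPolynomial (Fin d) k ⧸ J), ∀ a : ↥J,
          ψ a = D (a : MvPolynomial (Fin d) k)} := by
    apply le_antisymm
    · intro φ hφ
      have h1 : ev φ ∈ N := by
        rw [LinearMap.mem_ker] at hφ
        exact (Submodule.Quotient.mk_eq_zero N).1 hφ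
      obtain ⟨c, hc⟩ := (Submodule.mem_span_range_iff_exists_fun _).1 h1
      let D : Derivation k (MvPolynomial (Fin d) k) (MvPolynomial (Fin d) k ⧸ J) := mkDerivation k c
      let ψ : ↥J →ₗ[MvPolynomial (Fin d) k] (MvPolynomial (Fin d) k ⧸ J) :=
        { toFun := fun a => D (a : MvPolynomial (Fin d) k)
          map_add' := fun a b => by rw [Submodule.coe_add, map_add]
          map_smul' := fun p a => by
            rw [Submodule.coe_smul, smul_eq_mul, Derivation.leibniz, RingHom.id_apply]
            have h2 : (a : MvPolynomial (Fin d) k) • D p = 0 := by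
              obtain ⟨y, hy⟩ := Ideal.Quotient.mk_surjective (D p)
              rw [← hy]
              change Ideal.Quotient.mk J (a * y) = 0
              rw [Ideal.Quotient.eq_zero_iff_mem]
              exact Ideal.mul_mem_right _ _ a.2
            rw [h2, add_zero] }
      have hψ : φ = ψ := by
        apply hbij.1
        change ev φ = ev ψ
        rw [← hc]
        funext i
        change _ = D (f i)
        rw [hD, Finset.sum_apply]
        refine Finset.sum_congr rfl fun j _ => ?_
        rw [Pi.smul_apply, smul_eq_mul, mkDerivation_X]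
      rw [hψ]
      exact Submodule.subset_span ⟨D, fun a => rfl⟩
    · rw [Submodule.span_le]
      rintro ψ ⟨D, hψ⟩
      rw [SetLike.mem_coe, LinearMap.mem_ker]
      refine (Submodule.Quotient.mk_eq_zero N).2 ?_
      have h1 : ev ψ = ∑ j, D (X j) • (fun i : Fin n => Ideal.Quotient.mk J (pderiv j (f i))) := by
        funext i
        change ψ _ = _
        rw [hψ, Finset.sum_apply]
        exact hD D (f i)
      rw [h1]
      exact Submodule.sum_mem _ fun j _ => Submodule.smul_mem _ _ (Submodule.subset_span ⟨j, rfl⟩)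
  refine ⟨(Submodule.quotEquivOfEq _ _ hker.symm).trans (L.quotKerEquivOfSurjective hL), fun φ => ?_⟩
  rfl

end Groth.Agent.S11302
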