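import Groth.Statements.S11304
import Groth.Agent.S3218
import Groth.Agent.FGA.K277.NestCond
import Groth.Agent.FGA.K277.DisjProj

set_option autoImplicit false
universe u
open CategoryTheory CategoryTheory.Limits AlgebraicGeometry
open FGA

namespace Groth.Agent.S11304

/-- Flag Hilbert schemes: the case of flags of length two: let k be an algebraically closed field and r
≥ 1. The functor sending a k-scheme T to the set of pairs X_1 ⊆ X_2 of closed subschemes of P^r_T,
each flat and proper over T, is representable by a k-scheme which is a disjoint union of projective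
k-schemes, with a universal nested pair. Stated here on locally Noetherian test schemes and with
closed subschemes given by their quasi-coherent ideal sheaves (X_1 ⊆ X_2 meaning I_{X_2} ≤ I_{X_1}):
there are a locally Noetherian k-scheme H, a nested pair (W_1, W_2) over H through which every
nested pair over a locally Noetherian k-scheme T is pulled back along a unique k-morphism T → H, and
a decomposition of H into pieces each admitting a closed immersion over k into some projective
space. (The published statement treats flags of any length, each piece indexed by a tuple of Hilbert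
polynomials; this row states length two and does not record the indexing.) -/
theorem result (k : Type u) [Field k] [IsAlgClosed k] (r : ℕ) (hr : 1 ≤ r) :
    ∃ (H : Over (Spec (CommRingCat.of k))) (W₁ W₂ : FGA.HilbSet (CohB1.ProjSpaceOver.toBase r (Spec (CommRingCat.of k))) H),
      W₂.1 ≤ W₁.1 ∧ IsLocallyNoetherian H.left ∧
      (∀ (T : Over (Spec (CommRingCat.of k))) [IsLocallyNoetherian T.left] (Y₁ Y₂ : FGA.HilbSet (CohB1.ProjSpaceOver.toBase r (Spec (CommRingCat.of k))) T),
          Y₂.1 ≤ Y₁.1 →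
          ∃! g : T ⟶ H, FGA.hilbPull (CohB1.ProjSpaceOver.toBase r (Spec (CommRingCat.of k))) g W₁.1 = Y₁.1 ∧ FGA.hilbPull (CohB1.ProjSpaceOver.toBase r (Spec (CommRingCat.of k))) g W₂.1 = Y₂.1) ∧
      ∃ (ι : Type u) (P : ι → Scheme.{u}) (e : (∐ P) ≅ H.left) (m : ι → ℕ)
        (c : ∀ a, P a ⟶ CohB1.ProjSpaceOver (m a) (Spec (CommRingCat.of k))),
        ∀ a, IsClosedImmersion (c a) ∧
          c a ≫ CohB1.ProjSpaceOver.toBase (m a) (Spec (CommRingCat.of k)) = Limits.Sigma.ι P a ≫ e.hom ≫ H.hom := by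
  have hS : IsNoetherian (Spec (CommRingCat.of k)) := by
    have : IsNoetherianRing k := inferInstance
    infer_instance
  have h0 := Groth.Agent.S3218.result (Spec (CommRingCat.of k)) r _ (𝟙 _)
  rw [Category.id_comp] at h0
  obtain ⟨H₀, Z, hZ, hDP⟩ := h0
  have hDP₀ : K277.DisjProj.IsDP H₀ := hDP
  have hDP₁ := hDP₀.prod hDP₀
  let f := CohB1.ProjSpaceOver.toBase r (Spec (CommRingCat.of k))
  let H₁ := K277.DisjProj.prod H₀ H₀
  have hN₁ : IsLocallyNoetherian H₁.left := hDP₁.isLocallyNoetherian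
  obtain ⟨H, j, hj, hN, hmono, huniv⟩ := K277.NestCond.exists_closed
    (Groth.Agent.Fga.HilbFun.pullH f (K277.DisjProj.fst H₀ H₀) Z)
    (FGA.hilbPull f (K277.DisjProj.snd H₀ H₀) Z.1)
  have hpull : ∀ {T T' T'' : Over (Spec (CommRingCat.of k))} (h : T'' ⟶ T') (g : T' ⟶ T)
      (I : (PicF.XT f T).IdealSheafData),
      FGA.hilbPull f (h ≫ g) I = FGA.hilbPull f h (FGA.hilbPull f g I) :=
    fun h g I => Groth.Agent.Fga.HilbFun.hilbPull_comp f h g I
  have hle := (huniv H j).1 ⟨𝟙 _, Category.id_comp _⟩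
  refine ⟨H, Groth.Agent.Fga.HilbFun.pullH f (j ≫ K277.DisjProj.fst H₀ H₀) Z,
    Groth.Agent.Fga.HilbFun.pullH f (j ≫ K277.DisjProj.snd H₀ H₀) Z, ?_, hN, ?_, hDP₁.closed j⟩
  · change FGA.hilbPull f (j ≫ K277.DisjProj.snd H₀ H₀) Z.1 ≤ FGA.hilbPull f (j ≫ K277.DisjProj.fst H₀ H₀) Z.1
    rw [hpull, hpull]
    exact hle
  · intro T _ Y₁ Y₂ hY
    obtain ⟨g₁, hg₁, hg₁'⟩ := hZ.2 T Y₁
    obtain ⟨g₂, hg₂, hg₂'⟩ := hZ.2 T Y₂
    obtain ⟨g, hg⟩ := (huniv T (K277.DisjProj.lift g₁ g₂)).2 (by
      change FGA.hilbPull f (K277.DisjProj.lift g₁ g₂) (FGA.hilbPull f (K277.DisjProj.snd H₀ H₀) Z.1) ≤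
        FGA.hilbPull f (K277.DisjProj.lift g₁ g₂) (FGA.hilbPull f (K277.DisjProj.fst H₀ H₀) Z.1)
      rw [← hpull, ← hpull, K277.DisjProj.lift_fst, K277.DisjProj.lift_snd, hg₁, hg₂]
      exact hY)
    refine ⟨g, ⟨?_, ?_⟩, fun g' hg' => ?_⟩
    · change FGA.hilbPull f g (FGA.hilbPull f (j ≫ K277.DisjProj.fst H₀ H₀) Z.1) = Y₁.1
      rw [← hpull, ← Category.assoc, hg, K277.DisjProj.lift_fst, hg₁]
    · change FGA.hilbPull f g (FGA.hilbPull f (j ≫ K277.DisjProj.snd H₀ H₀) Z.1) = Y₂.1
      rw [← hpull, ← Category.assoc, hg, K277.DisjProj.lift_snd, hg₂]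
    · rw [← cancel_mono j, hg]
      apply K277.DisjProj.prod_hom_ext
      · rw [K277.DisjProj.lift_fst, Category.assoc]
        apply hg₁'
        rw [hpull]
        exact hg'.1
      · rw [K277.DisjProj.lift_snd, Category.assoc]
        apply hg₂'
        rw [hpull]
        exact hg'.2

end Groth.Agent.S11304
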