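import Groth.Statements.S11306
import Mathlib.RingTheory.LocalRing.Module
import Mathlib.LinearAlgebra.Dimension.Localization
import Mathlib.LinearAlgebra.Dimension.OrzechProperty
import Mathlib.RingTheory.OrzechProperty

set_option autoImplicit false
universe u
open TensorProduct
open CAlg

namespace Groth.Agent.S11306

/-- Take a Noetherian local domain A, with residue field k and fraction field K, and let M be a finitely
generated A-module. If k ⊗_A M and K ⊗_A M have the same dimension r (over k and over K
respectively), then M is a free A-module of rank r. -/
theorem result (A : Type u) [CommRing A] [IsDomain A]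
    [IsNoetherianRing A] [IsLocalRing A] (M : Type u) [AddCommGroup M] [Module A M] [Module.Finite A M] (r : ℕ)
    (hk : Module.finrank (IsLocalRing.ResidueField A) (IsLocalRing.ResidueField A ⊗[A] M) = r)
    (hK : Module.finrank (FractionRing A) (FractionRing A ⊗[A] M) = r) :
    Module.Free A M ∧ Module.finrank A M = r := by
  have hfin : Module.finrank A M = r := by
    rw [← hK, IsLocalization.finrank_eq (FractionRing A) (nonZeroDivisors A) le_rfl,
      IsLocalizedModule.finrank_eq (nonZeroDivisors A) (TensorProduct.mk A (FractionRing A) M 1) le_rfl]
  refine ⟨?_, hfin⟩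
  let b := Module.finBasisOfFinrankEq (IsLocalRing.ResidueField A)
    (IsLocalRing.ResidueField A ⊗[A] M) hk
  have hsurj : Function.Surjective (TensorProduct.mk A (IsLocalRing.ResidueField A) M 1) :=
    TensorProduct.mk_surjective A M (IsLocalRing.ResidueField A) Ideal.Quotient.mk_surjective
  choose m hm using fun i => hsurj (b i)
  have hspan : Submodule.span A (Set.range m) = ⊤ :=
    IsLocalRing.span_eq_top_of_tmul_eq_basis m b hm
  exact Module.Free.of_basis (basisOfTopLeSpanOfCardEqFinrank m hspan.ge (by simp [hfin]))

end Groth.Agent.S11306
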