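import Groth.Statements.S11309
import Groth.Agent.Krr.H496.ExcBundle
import Groth.Agent.Krr.H484.PBUnique
import Groth.Agent.EGA2.K35.PE
import Groth.Agent.EGA2.K35.EpiGn
import Groth.Agent.EGA2.K35.RelProjExists
import Groth.Agent.EtDl.K555.BlowGeo
import Groth.Agent.Lefpen.H288.FamBC
import Groth.Agent.S8284

set_option autoImplicit false
universe u
open CategoryTheory CategoryTheory.Limits AlgebraicGeometry TopologicalSpace Opposite
open scoped HomogeneousIdeal
noncomputable section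
open NonsingVar

namespace Groth.Agent.S11309

/-- Transport of a relative Proj along an isomorphism. -/
theorem exists_chart_of_iso {Y P P' : Scheme.{u}} {𝒮 : RelProj.QCGrAlg Y} {p : P ⟶ Y}
    {chart : ∀ (U : Y.Opens) (hU : IsAffineOpen U), (((p ⁻¹ᵁ U : P.Opens) : Scheme.{u}) ≅ Proj (𝒮.deg U hU))}
    (hP : RelProj.IsRelProj 𝒮 p chart) (h : P' ≅ P) (q : P' ⟶ Y) (hq : h.hom ≫ p = q) :
    ∃ chart' : ∀ (U : Y.Opens) (hU : IsAffineOpen U), (((q ⁻¹ᵁ U : P'.Opens) : Scheme.{u}) ≅ Proj (𝒮.deg U hU)),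
      RelProj.IsRelProj 𝒮 q chart' := by
  subst hq
  obtain ⟨e, he⟩ : ∃ e : ∀ U : Y.Opens, ((((h.hom ≫ p) ⁻¹ᵁ U : P'.Opens) : Scheme.{u}) ≅
      ((p ⁻¹ᵁ U : P.Opens) : Scheme.{u})), ∀ U : Y.Opens, (e U).hom ≫ (p ⁻¹ᵁ U).ι =
        ((h.hom ≫ p) ⁻¹ᵁ U).ι ≫ h.hom := by
    have h0 : ∀ U : Y.Opens, ∃ e : ((((h.hom ≫ p) ⁻¹ᵁ U : P'.Opens) : Scheme.{u}) ≅
      ((p ⁻¹ᵁ U : P.Opens) : Scheme.{u})), e.hom ≫ (p ⁻¹ᵁ U).ι = ((h.hom ≫ p) ⁻¹ᵁ U).ι ≫ h.hom := by
      intro U
      let e0 : (((h.hom ⁻¹ᵁ (p ⁻¹ᵁ U) : P'.Opens) : Scheme.{u}) ≅ ((p ⁻¹ᵁ U : P.Opens) : Scheme.{u})) :=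
        asIso (h.hom ∣_ (p ⁻¹ᵁ U))
      exact ⟨e0, morphismRestrict_ι _ _⟩
    choose e he using h0
    exact ⟨e, he⟩
  refine ⟨fun U hU => e U ≪≫ chart U hU, ⟨fun U hU => ?_, fun U hU r => ?_⟩⟩
  · rw [Iso.trans_hom, Category.assoc, hP.chart_over U hU, ← Category.assoc, he, Category.assoc]
  · rw [Iso.trans_hom, Iso.trans_hom, Category.assoc, ← hP.chart_res U hU r, ← Category.assoc, ← Category.assoc]
    congr 1
    rw [← cancel_mono (p ⁻¹ᵁ U).ι, Category.assoc, Category.assoc, he, Scheme.homOfLE_ι, he, ← Category.assoc]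
    congr 1
    exact Scheme.homOfLE_ι _ _

theorem isProjBundle {Y P : Scheme.{u}} {E : Y.Modules} {𝒮 : RelProj.QCGrAlg Y} {j : E ⟶ 𝒮.toModule} {p : P ⟶ Y}
    {chart : ∀ (U : Y.Opens) (hU : IsAffineOpen U), (((p ⁻¹ᵁ U : P.Opens) : Scheme.{u}) ≅ Proj (𝒮.deg U hU))}
    {L : P.Modules}
    {lam : ∀ (U : Y.Opens) (hU : IsAffineOpen U),
      L ⟶ (Scheme.Modules.pushforward (RelProj.emb p chart U hU)).obj (GrTwist.twist (𝒮.deg U hU) 1)}
    (hP : RelProj.IsRelProj 𝒮 p chart) (hL : RelProj.IsRelTwist 𝒮 p chart 1 L lam)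
    (hE : Coh.IsQCoh E) (hj : RelProj.IsGrSymAlg E 𝒮 j) :
    KRR.IsProjBundle p E L (((Scheme.Modules.pullbackPushforwardAdjunction p).homEquiv E L).symm
      (K43.CanMap.canMap hP hL (K35.PE.pack hE hj).mem)) where
  invertible := Groth.Agent.Ega2.QCohLocal.isFinLocFreeOfRank_one_iff.2 (K43.CanMap.isInvertible hP hL (K35.PE.pack hE hj))
  epi := K35.EpiGn.epi_of_gn (K35.PE.isUniv_canMap hP hL hE hj).gn
  univ T g L' hL' s hs := K35.UnivIso.existsUnique_of_isUniv (K35.PE.isUniv_canMap hP hL hE hj) hE g L'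
    (Groth.Agent.Ega2.QCohLocal.isFinLocFreeOfRank_one_iff.1 hL') s hs

/-- Let k be an algebraically closed field, X a nonsingular variety over k (integral, separated and of
finite type over k, all local rings regular), i : Y → X a nonsingular closed subvariety (an integral
closed subscheme with regular local rings) with ideal sheaf I, and π : X~ → X a blowing-up of X
along I (universal property). Let Y′ be the closed subscheme of X~ defined by the inverse image
ideal I·O_{X~} and q : Y′ → Y the induced projection (the unique morphism with q followed by i equal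
to the inclusion of Y′ followed by π). Let S be a graded symmetric algebra of the conormal sheaf
I/I² of Y in X (a quasi-coherent O_Y-module). Then Y′ together with q is a relative Proj of S over
Y, that is, Y′ is isomorphic over Y to the projective space bundle P(I/I²): there is a family of
charts over the affine opens of Y exhibiting q as Proj of S. -/
theorem result (k : Type u) [Field k] [IsAlgClosed k]
    (X : Scheme.{u}) [X.Over (Spec (CommRingCat.of k))] [IsIntegral X] [IsSeparated (X ↘ (Spec (CommRingCat.of k)))]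
    [LocallyOfFiniteType (X ↘ (Spec (CommRingCat.of k)))] [QuasiCompact (X ↘ (Spec (CommRingCat.of k)))]
    (hreg : ∀ x : ↥X, IsRegularLocalRing ↑(X.presheaf.stalk x))
    (Y : Scheme.{u}) (i : Y ⟶ X) [IsClosedImmersion i] [IsIntegral Y]
    (hregY : ∀ y : ↥Y, IsRegularLocalRing ↑(Y.presheaf.stalk y))
    (Xt : Scheme.{u}) (π : Xt ⟶ X) (hπ : BlowUp.IsBlowUp π i.ker)
    (q : (BlowUp.exceptional π i.ker).subscheme ⟶ Y)
    (hq : q ≫ i = (BlowUp.exceptional π i.ker).subschemeι ≫ π)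
    (hE : Coh.IsQCoh (Omega.conormal i))
    (𝒮 : RelProj.QCGrAlg Y) (j : Omega.conormal i ⟶ 𝒮.toModule)
    (h𝒮 : RelProj.IsGrSymAlg (Omega.conormal i) 𝒮 j) :
    ∃ chart : ∀ (U : Y.Opens) (hU : IsAffineOpen U),
        (((q ⁻¹ᵁ U : ((BlowUp.exceptional π i.ker).subscheme).Opens) : Scheme.{u}) ≅ Proj (𝒮.deg U hU)),
      RelProj.IsRelProj 𝒮 q chart := by
  have hN : IsLocallyNoetherian X := LocallyOfFiniteType.isLocallyNoetherian (X ↘ (Spec (CommRingCat.of k)))
  have hi : Mor2.IsRegularClosedImmersion i :=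
    K555.BlowGeo.isRegularClosedImmersion i (fun y => hreg (i y)) hregY
  -- the pullback square
  have hsq : IsPullback (BlowUp.exceptional π i.ker).subschemeι q π i := by
    refine isPullback_of_isClosedImmersion _ _ _ _ hq.symm ?_
    rw [Scheme.IdealSheafData.ker_subschemeι]
  have B₁ := Krr.H496.ExcBundle.isProjBundle_exc hi hπ hsq
  obtain ⟨L, lam, hL⟩ := Groth.Agent.S8284.result 𝒮 _ _ (K35.RelProjExists.isRelProj 𝒮) 1
  have B₂ := isProjBundle (K35.RelProjExists.isRelProj 𝒮) hL hE h𝒮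
  obtain ⟨h, hg, -⟩ := Krr.H484.PBUnique.exists_iso B₁ B₂
  exact exists_chart_of_iso (K35.RelProjExists.isRelProj 𝒮) h q hg

end Groth.Agent.S11309
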