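import Groth.Statements.S11311
import Groth.Agent.CAlg.K76.KaehlerPt
import Groth.Agent.Pi1A.RamPres
import Groth.Agent.CalgC.RegSmooth

set_option autoImplicit false
universe u
open CAlg

namespace Groth.Agent.S11311

/-- Let k be a field and B a local ring containing k whose residue field is k (the composite k → B → B/m
is bijective), and which is a localization of a finitely generated k-algebra (essentially of finite
type over k); let d = dim B. If the module of differentials Ω_{B/k} is free of rank d then B is a
regular local ring. Conversely, if k is perfect and B is a regular local ring, then Ω_{B/k} is free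
of rank d. (The published statement assumes k perfect as one of its hypotheses and asserts the
equivalence; its proof of the first implication does not use perfectness, so that hypothesis is
placed on the converse only.) -/
theorem result (k B : Type u) [Field k] [CommRing B] [Algebra k B]
    [IsLocalRing B] [Algebra.EssFiniteType k B]
    (hres : Function.Bijective (algebraMap k (IsLocalRing.ResidueField B)))
    (d : ℕ) (hd : ringKrullDim B = (d : WithBot ℕ∞)) :
    ((Module.Free B (KaehlerDifferential k B) ∧ Module.finrank B (KaehlerDifferential k B) = d) →
        IsRegularLocalRing B) ∧
      (PerfectField k → IsRegularLocalRing B →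
        Module.Free B (KaehlerDifferential k B) ∧ Module.finrank B (KaehlerDifferential k B) = d) := by
  have hN : IsNoetherianRing B := Algebra.EssFiniteType.isNoetherianRing k B
  have e := K76.KaehlerPt.equiv (k := k) (B := B) hres.2
  have hfin : Module.Finite B (KaehlerDifferential k B) := inferInstance
  refine ⟨fun ⟨hfree, hrank⟩ ↦ ?_, fun hk hreg ↦ ?_⟩
  · rw [IsRegularLocalRing.iff_finrank_cotangentSpace, ← e.finrank_eq, Module.finrank_baseChange,
      hrank, hd]
  · have hloc : IsLocalHom (algebraMap k B) := inferInstance
    obtain ⟨n, R, _, _, _, _, _, _, b, hsurj, -, -⟩ :=
      Groth.Agent.Pi1A.RamPres.exists_presentation (A := k) (B := B)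
    have hfr : Module.Free R (KaehlerDifferential k R) := Module.Free.of_basis b
    have hfi : Module.Finite R (KaehlerDifferential k R) := Module.Finite.of_basis b
    have hsmκ : Algebra.FormallySmooth k (IsLocalRing.ResidueField B) := by
      have e' : k ≃ₐ[k] IsLocalRing.ResidueField B :=
        AlgEquiv.ofBijective (Algebra.ofId k _) hres
      exact Algebra.FormallySmooth.of_equiv e'
    have hsm : Algebra.FormallySmooth k B :=
      Groth.Agent.CalgC.RegSmooth.formallySmooth_of_regular (k := k) hsurj hreg
    have hproj : Module.Projective B (KaehlerDifferential k B) := inferInstance
    have hfree : Module.Free B (KaehlerDifferential k B) := Module.free_of_flat_of_isLocalRing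
    refine ⟨hfree, ?_⟩
    have h1 := (IsRegularLocalRing.iff_finrank_cotangentSpace B).mp hreg
    rw [← e.finrank_eq, Module.finrank_baseChange, hd] at h1
    exact_mod_cast h1

end Groth.Agent.S11311
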