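import Groth.Statements.S11320
import Groth.Agent.CohtopA.QFlasque
import Mathlib.Topology.NoetherianSpace
import Mathlib.Topology.Spectral.Prespectral

set_option autoImplicit false
universe u
open CategoryTheory CategoryTheory.Limits
open CohTop

namespace Groth.Agent.S11320

open CohtopA.Sec TopologicalSpace in
theorem isFlasque_of_isQFlasque {X : TopCat.{u}} [TopologicalSpace.NoetherianSpace X] (F : CohTop.Ab X)
    (h : CohtopA.QFlasque.IsQFlasque F) : TopCat.Sheaf.IsFlasque F := by
  constructor
  intro U V i
  rw [AddCommGrpCat.epi_iff_surjective]
  exact h U.unop V.unop (leOfHom i.unop) (NoetherianSpace.isCompact _) (NoetherianSpace.isCompact _)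


/-- On a Noetherian topological space X, the direct limit, in the category of abelian sheaves, of a
directed system (F_i) of flasque abelian sheaves indexed by a nonempty directed preorder is flasque
(all its restriction maps are surjective). -/
theorem result {X : TopCat.{u}} [TopologicalSpace.NoetherianSpace X]
    (ι : Type u) [Preorder ι] [IsDirected ι (· ≤ ·)] [Nonempty ι]
    (D : ι ⥤ CohTop.Ab X) (hD : ∀ i : ι, TopCat.Sheaf.IsFlasque (D.obj i)) :
    TopCat.Sheaf.IsFlasque (colimit D : CohTop.Ab X) := by
  have : IsFiltered ι := isFiltered_of_directed_le_nonempty ι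
  exact isFlasque_of_isQFlasque _ (CohtopA.QFlasque.isQFlasque_of_isColimit (colimit.isColimit D)
    (fun j => by
      have := hD j
      exact CohtopA.QFlasque.isQFlasque_of_isFlasque _))

end Groth.Agent.S11320
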