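import Groth.Statements.S11321
import Groth.Agent.FlatMor.K260.FlatClos
-- import your own Groth.Agent.* helpers here

set_option autoImplicit false
universe u
open CategoryTheory CategoryTheory.Limits AlgebraicGeometry
open FlatMor

namespace Groth.Agent.S11321

/-- Flat limits over a curve: let Y be a locally Noetherian integral scheme of dimension one all of
whose local rings are regular local rings, P a closed point of Y with open complement U, V = P^n_U
the inverse image of U in P^n_Y, and X a closed subscheme of V (a closed immersion i : X → V) which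
is flat over Y, equivalently over U. Then X extends to a closed subscheme X' of P^n_Y which is flat
over Y and whose restriction to V is X — there are a closed immersion i' : X' → P^n_Y with X' → Y
flat and a morphism j : X → X' making X the fibre product of X' and V over P^n_Y — and such an
extension is unique: for any second one (X'', i'', j'') there is an isomorphism X' ≅ X'' over P^n_Y.
(The published statement does not say that Y is locally Noetherian; the printed argument, through
associated points and the scheme-theoretic closure, uses it, and this row assumes it.) -/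
theorem result
    {Y : Scheme.{u}} [IsIntegral Y] [IsLocallyNoetherian Y] (hreg : ∀ y : Y, IsRegularLocalRing (Y.presheaf.stalk y))
    (hY : topologicalKrullDim ↥Y = 1) (P : Y) (U : Y.Opens) (hU : (U : Set ↥Y) = {P}ᶜ) (n : ℕ)
    (X : Scheme.{u}) (i : X ⟶ ↑(CohB1.ProjSpaceOver.toBase n Y ⁻¹ᵁ U)) [IsClosedImmersion i]
    [Flat (i ≫ (CohB1.ProjSpaceOver.toBase n Y ⁻¹ᵁ U).ι ≫ CohB1.ProjSpaceOver.toBase n Y)] :
    ∃ (X' : Scheme.{u}) (i' : X' ⟶ CohB1.ProjSpaceOver n Y) (j : X ⟶ X'),
      IsClosedImmersion i' ∧ Flat (i' ≫ CohB1.ProjSpaceOver.toBase n Y) ∧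
      IsPullback j i i' (CohB1.ProjSpaceOver.toBase n Y ⁻¹ᵁ U).ι ∧
      ∀ (X'' : Scheme.{u}) (i'' : X'' ⟶ CohB1.ProjSpaceOver n Y) (j'' : X ⟶ X''),
        IsClosedImmersion i'' → Flat (i'' ≫ CohB1.ProjSpaceOver.toBase n Y) →
        IsPullback j'' i i'' (CohB1.ProjSpaceOver.toBase n Y ⁻¹ᵁ U).ι →
        ∃ e : X' ≅ X'', e.hom ≫ i'' = i' := by
  have hval : ∀ y : Y, ValuationRing (Y.presheaf.stalk y) := by
    intro y
    have := hreg y
    refine K260.DedFlat.valuationRing_of_regular _ ?_
    rw [← hY]
    exact K260.DedFlat.ringKrullDim_stalk_le Y y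
  have hne : Nonempty U := by
    by_contra hcon
    have h1 : (U : Set Y) = ∅ := by
      rw [Set.eq_empty_iff_forall_notMem]
      intro x hx
      exact hcon ⟨⟨x, hx⟩⟩
    rw [h1] at hU
    have h2 : ∀ x : Y, x = P := by
      intro x
      by_contra hx
      have : x ∈ (∅ : Set Y) := by
        rw [hU]; exact hx
      exact this
    have h3 : Subsingleton Y := ⟨fun a b => by rw [h2 a, h2 b]⟩
    have h4 : topologicalKrullDim Y ≤ 0 := by
      exact topologicalKrullDim_zero_of_discreteTopology _
    rw [hY] at h4
    exact absurd h4 (by decide)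
  exact K260.FlatClos.exists_unique_flat_closure hval _ U i

end Groth.Agent.S11321
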