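import Groth.Statements.S14403
import Groth.Agent.FlatMor.K262.FlatDim2

set_option autoImplicit false
universe u
open CategoryTheory AlgebraicGeometry
open FlatMor
open K262.FlatDim Groth.Agent.CycB.RelDim Groth.Agent.Ega4fib.H174

namespace Groth.Agent.S14403

/-- Let k be a field, X and Y schemes of finite type over k, f : X ⟶ Y a flat k-morphism, and d, n
natural numbers such that every irreducible component of Y has dimension d (Y equidimensional of
dimension d). Then every irreducible component of X has dimension d + n if and only if for every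
point y of Y, closed or not, every irreducible component of the scheme-theoretic fibre of f over y
has dimension n (empty fibres impose no condition). -/
theorem result (k : Type u) [Field k]
    {X Y : Scheme.{u}} (qX : X ⟶ Spec (CommRingCat.of k)) (qY : Y ⟶ Spec (CommRingCat.of k))
    [LocallyOfFiniteType qX] [QuasiCompact qX] [LocallyOfFiniteType qY] [QuasiCompact qY]
    (f : X ⟶ Y) (hf : f ≫ qY = qX) [Flat f] (d n : ℕ)
    (hY : ∀ Z ∈ irreducibleComponents (Y : Type u), topologicalKrullDim Z = (d : WithBot ℕ∞)) :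
    (∀ Z ∈ irreducibleComponents (X : Type u), topologicalKrullDim Z = ((d + n : ℕ) : WithBot ℕ∞)) ↔
      ∀ (y : Y), ∀ Z ∈ irreducibleComponents (f.fiber y : Type u),
        topologicalKrullDim Z = (n : WithBot ℕ∞) := by
  have hlf : LocallyOfFiniteType f := by
    have : LocallyOfFiniteType (f ≫ qY) := by rw [hf]; infer_instance
    exact locallyOfFiniteType_of_comp f qY
  -- the value of the relative transcendence degree at maximal points
  have key : ∀ ξ : X, (∀ z : X, z ⤳ ξ → z = ξ) → ∃ r : ℕ, rtd f ξ = r ∧
      topologicalKrullDim (closure {ξ} : Set X) = ((d + r : ℕ) : WithBot ℕ∞) ∧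
      topologicalKrullDim (closure {f.asFiber ξ} : Set (f.fiber (f ξ))) = (r : WithBot ℕ∞) := by
    intro ξ hξ
    obtain ⟨e, he1, he2⟩ := dim_closure qX ξ
    obtain ⟨d', hd1, hd2⟩ := dim_closure qY (f ξ)
    obtain ⟨r, hr1, hr2⟩ := dim_closure_fiber f (f ξ) (f.asFiber ξ)
    rw [f.fiberι_asFiber] at hr1
    have hdd : d' = d := by
      have := hY _ (Equidim.mem_irreducibleComponents_iff.mpr ⟨f ξ, maximal_image f hξ, rfl⟩)
      rw [hd2] at this
      exact_mod_cast this
    have hsum : e = d + r := by
      have h1 := rtd_comp f qY ξ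
      rw [hf, he1, hd1, hr1, hdd] at h1
      exact_mod_cast h1
    exact ⟨r, hr1, by rw [he2, hsum], hr2⟩
  constructor
  · intro H y Z hZ
    obtain ⟨z, hz, rfl⟩ := Equidim.mem_irreducibleComponents_iff.mp hZ
    obtain ⟨ξ, h1, h2, h3⟩ := exists_component f y z hz
    obtain ⟨r, hr1, hr2, hr3⟩ := key ξ h2
    obtain ⟨m, hm1, hm2⟩ := dim_closure_fiber f y z
    have hH := H _ (Equidim.mem_irreducibleComponents_iff.mpr ⟨ξ, h2, rfl⟩)
    rw [hr2] at hH
    have hrn : d + r = d + n := by exact_mod_cast hH
    have hmr : m = r := by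
      rw [hm1, hr1] at h3
      exact_mod_cast h3
    rw [hm2, hmr, Nat.add_left_cancel hrn]
  · intro H Z hZ
    obtain ⟨ξ, hξ, rfl⟩ := Equidim.mem_irreducibleComponents_iff.mp hZ
    obtain ⟨r, hr1, hr2, hr3⟩ := key ξ hξ
    have hH := H (f ξ) _ (closure_asFiber_mem f hξ)
    rw [hr3] at hH
    have hrn : r = n := by exact_mod_cast hH
    rw [hr2, hrn]

end Groth.Agent.S14403
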