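import Groth.Statements.S11326
import Groth.Agent.S13309
import Groth.Agent.S0845
import Groth.Agent.FormalB.TwistGen

set_option autoImplicit false
universe u
open CategoryTheory AlgebraicGeometry
open ProjDual

namespace Groth.Agent.S11326

/-- Let A be a Noetherian ring, r ≥ 1, X = P^r_A and ω = O_X(-r-1). Then there is an A-linear
isomorphism t : H^r(X, ω) ≅ A such that for every integer n and every A-linear form ψ on H^r(X,
O_X(-n-r-1)) there is exactly one morphism of O_X-modules φ : O_X(-n-r-1) → ω with ψ = t ∘ H^r(φ).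
(The published form of the pairing assertion is a perfect pairing H^0(X, O_X(n)) × H^r(X,
O_X(-n-r-1)) → H^r(X, ω) ≅ A of finitely generated free A-modules; here the first factor is written
as Hom(O_X(-n-r-1), ω), which the pairing identifies with H^0(X, O_X(n)), and only the resulting
bijection onto the A-dual of H^r(X, O_X(-n-r-1)) is stated.) -/
theorem result (A : Type u) [CommRing A]
    [IsNoetherianRing A] (r : ℕ) (hr : 1 ≤ r) :
    ∃ t : Coh.HH (CohB1.ProjSpace r A) (Twist.twistProjSpace r A (-((r : ℤ) + 1))) r ≃ₗ[A] A,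
      ∀ (n : ℤ) (ψ : Coh.HH (CohB1.ProjSpace r A) (Twist.twistProjSpace r A (-(n + r + 1))) r →ₗ[A] A),
        ∃! φ : Twist.twistProjSpace r A (-(n + r + 1)) ⟶ Twist.twistProjSpace r A (-((r : ℤ) + 1)),
          ∀ x : Coh.HH (CohB1.ProjSpace r A) (Twist.twistProjSpace r A (-(n + r + 1))) r,
            ψ x = t (Sheaf.H.map ((SheafOfModules.toSheaf (CohB1.ProjSpace r A).ringCatSheaf).map φ) r x) := by
  obtain ⟨tr, hq, hb⟩ := Groth.Agent.S13309.result A r
  have he₀ := Groth.Agent.S0845.result A r 0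
  have h0 : (-((r : ℤ) + 1 + ((0 : ℕ) : ℤ))) = -((r : ℤ) + 1) := by simp
  obtain ⟨e₀⟩ : Nonempty (Coh.HH (CohB1.ProjSpace r A) (Twist.twistProjSpace r A (-((r : ℤ) + 1))) r ≃ₗ[A]
      ↥(MvPolynomial.homogeneousSubmodule (Fin (r + 1)) A 0)) :=
    Eq.mp (congrArg (fun d : ℤ => Nonempty (Coh.HH (CohB1.ProjSpace r A) (Twist.twistProjSpace r A d) r ≃ₗ[A]
      ↥(MvPolynomial.homogeneousSubmodule (Fin (r + 1)) A 0))) h0) he₀
  let e₁ : ↥(MvPolynomial.homogeneousSubmodule (Fin (r + 1)) A 0) ≃ₗ[A] A :=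
    (LinearEquiv.ofEq _ _ (by rw [MvPolynomial.homogeneousSubmodule_zero, Submodule.one_eq_range])) ≪≫ₗ
      (LinearEquiv.ofInjective (Algebra.linearMap A (MvPolynomial (Fin (r + 1)) A))
        (MvPolynomial.C_injective _ _)).symm
  let e := e₀ ≪≫ₗ e₁
  have hsurj : Function.Surjective tr := by
    intro a
    obtain ⟨φ, hφ⟩ := (hb _ hq).2 e.toLinearMap
    refine ⟨Canon.HHlin A φ r (e.symm a), ?_⟩
    have h := LinearMap.congr_fun hφ (e.symm a)
    exact h.trans (e.apply_symm_apply a)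
  have hinj : Function.Injective tr := by
    have h1 : Function.Surjective (tr ∘ₗ e.symm.toLinearMap) := hsurj.comp e.symm.surjective
    have h2 := OrzechProperty.injective_of_surjective_endomorphism _ h1
    intro x y hxy
    have h3 := @h2 (e x) (e y) (by simpa using hxy)
    exact e.injective h3
  refine ⟨LinearEquiv.ofBijective tr ⟨hinj, hsurj⟩, fun n ψ => ?_⟩
  obtain ⟨φ, hφ⟩ := (hb _ (Groth.Agent.FormalB.TwistGen.isQCoh_twistProjSpace r A (-(n + r + 1)))).2 ψ
  refine ⟨φ, fun x => (LinearMap.congr_fun hφ x).symm, fun φ' hφ' => ?_⟩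
  refine (hb _ (Groth.Agent.FormalB.TwistGen.isQCoh_twistProjSpace r A (-(n + r + 1)))).1 ?_
  rw [hφ]
  exact LinearMap.ext fun x => (hφ' x).symm

end Groth.Agent.S11326
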