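import Groth.Statements.S11331
import Groth.Agent.Curves.K319.VA

set_option autoImplicit false
universe u
open CategoryTheory CategoryTheory.Limits AlgebraicGeometry
open Curves

namespace Groth.Agent.S11331

/-- Let k be an algebraically closed field and X a curve over k (an integral scheme, proper over k, of
dimension one, with all local rings regular), and L an invertible O_X-module. Then L is very ample
(isomorphic to the pullback of O(1) along some closed immersion of X into a projective space P^n_k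
over k) if and only if for every two closed points P, Q of X, possibly equal, with ideal sheaves
I_P, I_Q ⊆ O_X, dim_k H^0(X, L ⊗ I_P ⊗ I_Q) = dim_k H^0(X, L) - 2. -/
theorem result (k : Type u) [Field k] [IsAlgClosed k] (X : Scheme.{u}) [X.Over (Spec (CommRingCat.of k))]
    [IsIntegral X] [IsProper (X ↘ (Spec (CommRingCat.of k)))] (hdim : topologicalKrullDim X = 1)
    (hreg : ∀ x : X, IsRegularLocalRing (X.presheaf.stalk x)) (L : X.Modules) (hL : PicF.IsInvertible L) :
    (∃ (n : ℕ) (i : X ⟶ CohB1.ProjSpace n k), IsClosedImmersion i ∧ i ≫ CohB1.ProjSpace.toSpec n k = (X ↘ (Spec (CommRingCat.of k))) ∧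
        Nonempty ((Scheme.Modules.pullback i).obj (Twist.twistProjSpace n k 1) ≅ L)) ↔
      ∀ (P Q : X) (hP : IsClosed ({P} : Set X)) (hQ : IsClosed ({Q} : Set X)),
        Module.finrank k (Coh.HH X (CohB1.tensorMod L (CohB1.tensorMod (ClSub.idealMod (Scheme.IdealSheafData.vanishingIdeal ⟨{P}, hP⟩)) (ClSub.idealMod (Scheme.IdealSheafData.vanishingIdeal ⟨{Q}, hQ⟩)))) 0) + 2 = Module.finrank k (Coh.HH X L 0) := by
  have hX : K319.PicCD.Reg X := ⟨hdim, hreg⟩
  refine (K319.VA.isVA_iff k X hX hL).trans ?_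
  have hI : ∀ (P : X) (hP : IsClosed ({P} : Set X)), PicF.IsInvertible (ClSub.idealMod
      (Scheme.IdealSheafData.vanishingIdeal ⟨{P}, hP⟩)) := fun P hP =>
    Groth.Agent.Dix.IdealModCartier.isInvertible_idealMod (K319.Setup.isEff_I k X hX.dim hX.reg P hP)
  have key : ∀ (P Q : K319.PicCD.Pts X), (K319.PicCD.cd k X hX).h (Additive.ofMul (Groth.Agent.Grpsch.PicGrp.mk L hL) -
      (K319.PicCD.cd k X hX).p P - (K319.PicCD.cd k X hX).p Q) =
      Module.finrank k (Coh.HH X (CohB1.tensorMod L (CohB1.tensorMod (ClSub.idealMod (Scheme.IdealSheafData.vanishingIdeal ⟨{P.1}, P.2⟩)) (ClSub.idealMod (Scheme.IdealSheafData.vanishingIdeal ⟨{Q.1}, Q.2⟩)))) 0) := by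
    intro P Q
    rw [← K532.CurvePic.h_mk k X 0 (Groth.Agent.Fdesc.LocGen.isInvertible_tensorMod hL
      (Groth.Agent.Fdesc.LocGen.isInvertible_tensorMod (hI P.1 P.2) (hI Q.1 Q.2))),
      ← Groth.Agent.Grpsch.PicGrp.mk_mul_mk hL
        (Groth.Agent.Fdesc.LocGen.isInvertible_tensorMod (hI P.1 P.2) (hI Q.1 Q.2)), ← Groth.Agent.Grpsch.PicGrp.mk_mul_mk (hI P.1 P.2) (hI Q.1 Q.2)]
    change K532.CurvePic.h k X 0 (Groth.Agent.Grpsch.PicGrp.mk L hL / K319.PicCD.pt k X hX P / K319.PicCD.pt k X hX Q) = _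
    congr 1
    rw [div_eq_mul_inv, div_eq_mul_inv, K319.PicCD.pt, K319.PicCD.pt, inv_inv, inv_inv, mul_assoc]
  constructor
  · intro h P Q hP hQ
    rw [← key ⟨P, hP⟩ ⟨Q, hQ⟩, h ⟨P, hP⟩ ⟨Q, hQ⟩]
    exact K532.CurvePic.h_mk k X 0 hL
  · intro h P Q
    rw [key P Q, h P.1 Q.1 P.2 Q.2]
    exact (K532.CurvePic.h_mk k X 0 hL).symm

end Groth.Agent.S11331
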