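import Groth.Statements.S11332
import Groth.Agent.Curves.K320.RamSeq
import Groth.Agent.Curves.K319.PicCD
import Groth.Agent.VBCurve.K704.InvHom
import Groth.Agent.VBCurve.K707.Deg
import Groth.Agent.Vancyc.H878.OmegaRank
import Groth.Agent.SDiv.K474.FittOmega
import Groth.Agent.S7640
import Groth.Agent.S1524

set_option autoImplicit false
universe u
open CategoryTheory CategoryTheory.Limits AlgebraicGeometry
open Curves

namespace Groth.Agent.S11332

/-- Let f : X → Y be a finite morphism over k of curves over an algebraically closed field k (integral,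
proper over k, of dimension one, all local rings regular), sending the generic point of X to that of
Y, such that the function field extension K(X)/K(Y) is separable; let n = [K(X) : K(Y)] be its
degree. Then 2 g(X) - 2 = n (2 g(Y) - 2) + deg R, where g denotes the genus dim_k H^1(O) and the
degree of the ramification divisor R = Σ_P length(Ω_{X/Y,P}) · P is written as dim_k H^0(X,
Ω_{X/Y}), Ω_{X/Y} being the (torsion) sheaf of relative differentials of f. -/
theorem result (k : Type u) [Field k] [IsAlgClosed k] (X : Scheme.{u}) [X.Over (Spec (CommRingCat.of k))]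
    [IsIntegral X] [IsProper (X ↘ (Spec (CommRingCat.of k)))] (hdimX : topologicalKrullDim X = 1)
    (hregX : ∀ x : X, IsRegularLocalRing (X.presheaf.stalk x))
    (Y : Scheme.{u}) [Y.Over (Spec (CommRingCat.of k))]
    [IsIntegral Y] [IsProper (Y ↘ (Spec (CommRingCat.of k)))] (hdimY : topologicalKrullDim Y = 1)
    (hregY : ∀ x : Y, IsRegularLocalRing (Y.presheaf.stalk x))
    (f : X ⟶ Y) [IsFinite f] (hf : f ≫ (Y ↘ (Spec (CommRingCat.of k))) = X ↘ (Spec (CommRingCat.of k)))
    (e : f (genericPoint X) = genericPoint Y) :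
    letI := ((Y.presheaf.stalkSpecializes (specializes_of_eq e) ≫ f.stalkMap (genericPoint X)).hom).toAlgebra
    Algebra.IsSeparable Y.functionField X.functionField →
      2 * (Curv2.genus k X : ℤ) - 2 =
        (f.residueDegree (genericPoint X) : ℤ) * (2 * (Curv2.genus k Y : ℤ) - 2) +
          (Module.finrank k (Coh.HH X (Omega.sheaf f) 0) : ℤ) := by
  intro hsep
  have hX : K319.PicCD.Reg X := ⟨hdimX, hregX⟩
  have hY : K319.PicCD.Reg Y := ⟨hdimY, hregY⟩
  have hnX : IsNoetherian X := K319.PicCD.isNoeth k X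
  have hΩX := K532.CurvePic.isInvertible_omega (hX.isCurve (k := k))
  have hΩY := K532.CurvePic.isInvertible_omega (hY.isCurve (k := k))
  have hfY := Groth.Agent.Fdesc.LocGen.isInvertible_pullback f hΩY
  have dX : Curv2.deg k X (Omega.sheaf (X ↘ (Spec (CommRingCat.of k)))) 1 = 2 * (Curv2.genus k X : ℤ) - 2 := by
    have h1 := (K319.PicCD.cd k X hX).deg_K
    change K532.CurvePic.deg k X (K532.CurvePic.om (hX.isCurve (k := k))) = 2 * (Curv2.genus k X : ℤ) - 2 at h1
    rw [← h1, K532.CurvePic.om, K532.CurvePic.deg_mk k X hX.dim]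
  have dY : Curv2.deg k Y (Omega.sheaf (Y ↘ (Spec (CommRingCat.of k)))) 1 = 2 * (Curv2.genus k Y : ℤ) - 2 := by
    have h1 := (K319.PicCD.cd k Y hY).deg_K
    change K532.CurvePic.deg k Y (K532.CurvePic.om (hY.isCurve (k := k))) = 2 * (Curv2.genus k Y : ℤ) - 2 at h1
    rw [← h1, K532.CurvePic.om, K532.CurvePic.deg_mk k Y hY.dim]
  obtain ⟨c, π, w, hepi, hex⟩ := K320.RamSeq.exists_seq f (Y ↘ (Spec (CommRingCat.of k)))
    (X ↘ (Spec (CommRingCat.of k))) hf
  have hst := K320.RamSeq.subsingleton_generic f e hsep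
  have hX1 := Groth.Agent.Ega2.QCohLocal.isFinLocFreeOfRank_one_iff.2 hΩX
  have hY1 := Groth.Agent.Ega2.QCohLocal.isFinLocFreeOfRank_one_iff.2 hΩY
  have hfY1 := Groth.Agent.Ega2.QCohLocal.isFinLocFreeOfRank_one_iff.2 hfY
  have hc : c ≠ 0 := by
    intro hc0
    have hm : Mono π := hex.mono_g hc0
    have hi : IsIso π := isIso_of_mono_of_epi π
    have h1 := Groth.Agent.VarietyA.DegRank.rk_iso (asIso π)
    have h2 : Groth.Agent.VarietyA.DegRank.rk (Omega.sheaf f) = 0 := Module.finrank_zero_of_subsingleton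
    rw [h2, K707.Base.rk_of_rank hX1] at h1
    exact one_ne_zero h1
  have hmono : Mono c := K704.InvHom.mono_of_ne_zero hfY hΩX c hc
  have hS : (ShortComplex.mk c π w).ShortExact := { exact := hex, mono_f := hmono, epi_g := hepi }
  have c1 := K707.Base.isCoh_of_rank hfY1
  have c2 := K707.Base.isCoh_of_rank hX1
  have c3 : Coh.IsCoh (Omega.sheaf f) :=
    ⟨Groth.Agent.Vancyc.H878.OmegaRank.isQCoh_omega f, Groth.Agent.SDiv.K474.FittOmega.isFT_omega f⟩
  have h1 := Groth.Agent.S1524.result k X _ hS c1 c2 c3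
  have h2 := K707.Deg.euler_of_torsion k hdimX c3 hst
  have h3 := Groth.Agent.S7640.result k X Y hdimX hdimY f hf e 1 _ hY1
  rw [dY] at h3
  rw [← dX, ← h3, ← h2]
  unfold Curv2.deg
  change Curv2.euler k X (Omega.sheaf (X ↘ (Spec (CommRingCat.of k)))) =
    Curv2.euler k X ((Scheme.Modules.pullback f).obj (Omega.sheaf (Y ↘ (Spec (CommRingCat.of k))))) +
      Curv2.euler k X (Omega.sheaf f) at h1
  rw [h1]
  ring

end Groth.Agent.S11332
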