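import Groth.Statements.S11333
import Groth.Agent.Curves.K322.FrobMain
import Groth.Agent.Curves.K319.Setup

set_option autoImplicit false
universe u
open CategoryTheory CategoryTheory.Limits AlgebraicGeometry
open Curves

namespace Groth.Agent.S11333

/-- Let f : X → Y be a finite morphism over k of curves over an algebraically closed field k (integral,
proper over k, of dimension one, all local rings regular), sending the generic point of X to that of
Y, such that the function field extension K(X)/K(Y) is purely inseparable. Then X and Y are
isomorphic as schemes (the isomorphism need not be compatible with the k-structures; existence of an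
isomorphism only). -/
theorem result (k : Type u) [Field k] [IsAlgClosed k] (X : Scheme.{u}) [X.Over (Spec (CommRingCat.of k))]
    [IsIntegral X] [IsProper (X ↘ (Spec (CommRingCat.of k)))] (hdimX : topologicalKrullDim X = 1)
    (hregX : ∀ x : X, IsRegularLocalRing (X.presheaf.stalk x))
    (Y : Scheme.{u}) [Y.Over (Spec (CommRingCat.of k))]
    [IsIntegral Y] [IsProper (Y ↘ (Spec (CommRingCat.of k)))] (hdimY : topologicalKrullDim Y = 1)
    (hregY : ∀ x : Y, IsRegularLocalRing (Y.presheaf.stalk x))
    (f : X ⟶ Y) [IsFinite f] (hf : f ≫ (Y ↘ (Spec (CommRingCat.of k))) = X ↘ (Spec (CommRingCat.of k)))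
    (e : f (genericPoint X) = genericPoint Y) :
    letI := ((Y.presheaf.stalkSpecializes (specializes_of_eq e) ≫ f.stalkMap (genericPoint X)).hom).toAlgebra
    IsPurelyInseparable Y.functionField X.functionField → Nonempty (X ≅ Y) := by
  intro hpi
  have hsX : Smooth (X ↘ (Spec (CommRingCat.of k))) := K319.Setup.smooth k X hregX
  have hsY : Smooth (Y ↘ (Spec (CommRingCat.of k))) := K319.Setup.smooth k Y hregY
  have hvX := Groth.Agent.Picfga.CurvePts.valuationRing_stalk (X ↘ (Spec (CommRingCat.of k))) hdimX.le
  have hvY := Groth.Agent.Picfga.CurvePts.valuationRing_stalk (Y ↘ (Spec (CommRingCat.of k))) hdimY.le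
  have hnY : Pi1.IsNormalScheme Y := fun y => by
    have := hvY y
    exact ⟨inferInstance, inferInstance⟩
  rcases CharP.exists' k with h0 | ⟨p, hp, hcp⟩
  · -- characteristic zero
    let j : Y.functionField ⟶ X.functionField :=
      Y.presheaf.stalkSpecializes (specializes_of_eq e) ≫ f.stalkMap (genericPoint X)
    obtain ⟨cY, hcY⟩ := Spec.map_surjective (Y.fromSpecStalk (genericPoint Y) ≫ (Y ↘ (Spec (CommRingCat.of k))))
    let _ : Algebra k Y.functionField := cY.hom.toAlgebra
    let _ : Algebra Y.functionField X.functionField := j.hom.toAlgebra
    have h1 : CharZero Y.functionField := charZero_of_injective_algebraMap (algebraMap k Y.functionField).injective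
    have hpi' : IsPurelyInseparable Y.functionField X.functionField := hpi
    have halg : Algebra.IsAlgebraic Y.functionField X.functionField := inferInstance
    have hsep : Algebra.IsSeparable Y.functionField X.functionField := inferInstance
    have hsurj : Function.Surjective (algebraMap Y.functionField X.functionField) :=
      IsPurelyInseparable.surjective_algebraMap_of_isSeparable _ _
    have hiso : IsIso j := by
      rw [ConcreteCategory.isIso_iff_bijective]
      exact ⟨j.hom.injective, hsurj⟩
    obtain ⟨i, -, -⟩ := K322.CurveIso.exists_iso_of_functionField (X ↘ (Spec (CommRingCat.of k)))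
      (Y ↘ (Spec (CommRingCat.of k))) hvX hvY (asIso (Spec.map j)) (by
        rw [asIso_hom, ← Category.assoc, K322.FrobMain.specMap_ffMap f e, Category.assoc, hf])
    exact ⟨i⟩
  · have hexp : ExpChar k p := inferInstance
    obtain ⟨r, i, hi⟩ := K322.FrobMain.exists_iso k p X Y _ _ hdimX hdimY hnY f hf e hpi
    have hperf : PerfectRing k p := inferInstance
    have h1 : IsIso (Spec.map (CommRingCat.ofHom (iterateFrobenius k p r))) := by
      have h2 : IsIso (CommRingCat.ofHom (iterateFrobenius k p r)) := by
        rw [ConcreteCategory.isIso_iff_bijective]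
        exact bijective_iterateFrobenius k p r
      infer_instance
    exact ⟨(i ≪≫ asIso (pullback.fst _ _)).symm⟩

end Groth.Agent.S11333
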