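import Groth.Statements.S11334
import Groth.Agent.Curves.K319.GG
import Groth.Agent.Curves.K319.PicCD

set_option autoImplicit false
universe u
open CategoryTheory CategoryTheory.Limits AlgebraicGeometry
open Curves

namespace Groth.Agent.S11334

/-- Let k be an algebraically closed field and X a curve over k (an integral scheme, proper over k, of
dimension one, with all local rings regular), of genus g = dim_k H^1(X, O_X) ≥ 2. Then the canonical
sheaf Ω_{X/k} is generated by its global sections (the canonical linear system has no base points). -/
theorem result (k : Type u) [Field k] [IsAlgClosed k] (X : Scheme.{u}) [X.Over (Spec (CommRingCat.of k))]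
    [IsIntegral X] [IsProper (X ↘ (Spec (CommRingCat.of k)))] (hdim : topologicalKrullDim X = 1)
    (hreg : ∀ x : X, IsRegularLocalRing (X.presheaf.stalk x)) (hg : 2 ≤ Curv2.genus k X) :
    Curv2.IsGloballyGenerated (Omega.sheaf (X ↘ (Spec (CommRingCat.of k)))) := by
  have := K319.PicCD.isNoeth k X
  have hX : K319.PicCD.Reg X := ⟨hdim, hreg⟩
  have hL := K532.CurvePic.isInvertible_omega (hX.isCurve (k := k))
  rw [K319.Base.isGloballyGenerated_iff hL]
  intro P hP
  have h1 := (K319.PicCD.cd k X hX).nb_K (by change 1 ≤ Curv2.genus k X; omega) ⟨P, hP⟩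
  exact (K319.PicCD.NBc_mk P hL).mp h1

end Groth.Agent.S11334
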