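import Groth.Statements.S11335
import Groth.Agent.Curves.K319.VA
import Groth.Agent.Curves.K319.LinS

set_option autoImplicit false
universe u
open CategoryTheory CategoryTheory.Limits AlgebraicGeometry
open Curves

namespace Groth.Agent.S11335

/-- Let k be an algebraically closed field and X a curve over k (an integral scheme, proper over k, of
dimension one, with all local rings regular), of genus g ≥ 2. Then the canonical sheaf Ω_{X/k} is
very ample (isomorphic to the pullback of O(1) along a closed immersion into some P^n_k over k)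
exactly when X carries no g^1_2 (X is not hyperelliptic), a g^1_2 being an invertible module of
degree 2 together with two k-linearly independent global sections. -/
theorem result (k : Type u) [Field k] [IsAlgClosed k] (X : Scheme.{u}) [X.Over (Spec (CommRingCat.of k))]
    [IsIntegral X] [IsProper (X ↘ (Spec (CommRingCat.of k)))] (hdim : topologicalKrullDim X = 1)
    (hreg : ∀ x : X, IsRegularLocalRing (X.presheaf.stalk x)) (hg : 2 ≤ Curv2.genus k X) :
    (∃ (n : ℕ) (i : X ⟶ CohB1.ProjSpace n k), IsClosedImmersion i ∧ i ≫ CohB1.ProjSpace.toSpec n k = (X ↘ (Spec (CommRingCat.of k))) ∧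
        Nonempty ((Scheme.Modules.pullback i).obj (Twist.twistProjSpace n k 1) ≅ (Omega.sheaf (X ↘ (Spec (CommRingCat.of k)))))) ↔
      ¬ (∃ (M : X.Modules) (s : Fin 2 → LinSer.Sect X M), LinSer.IsLinSer k X M 2 1 s) := by
  have hX : K319.PicCD.Reg X := ⟨hdim, hreg⟩
  have hC := hX.isCurve (k := k)
  have hΩ := K532.CurvePic.isInvertible_omega hC
  refine (K319.VA.isVA_iff k X hX hΩ).trans ?_
  refine ((K319.PicCD.cd k X hX).veryAmple_K_iff hg).trans ?_
  refine not_congr ?_
  constructor
  · rintro ⟨c, hc1, hc2⟩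
    obtain ⟨N, hN, hcN⟩ := Groth.Agent.Grpsch.PicGrp.exists_mk c.toMul
    have hfin := K532.CurvePic.finite_HH hC hN 0
    have hdN : Curv2.deg k X N 1 = (2 : ℕ) := by
      rw [← K532.CurvePic.deg_mk k X hX.dim hN, ← hcN]
      exact hc1
    have hhN : 1 + 1 ≤ Module.finrank k (Coh.HH X N 0) := by
      rw [← K532.CurvePic.h_mk k X 0 hN, ← hcN]
      exact hc2
    obtain ⟨s, hs⟩ := K319.LinS.exists_isLinSer k N hN 2 1 hdN hhN
    exact ⟨N, s, hs⟩
  · rintro ⟨N, s, hs⟩
    have hfin := K532.CurvePic.finite_HH hC hs.1 0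
    refine ⟨Additive.ofMul (Groth.Agent.Grpsch.PicGrp.mk N hs.1), ?_, ?_⟩
    · exact (K532.CurvePic.deg_mk k X hX.dim hs.1).trans hs.2.1
    · exact (K319.LinS.le_finrank k hs).trans (K532.CurvePic.h_mk k X 0 hs.1).ge

end Groth.Agent.S11335
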