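import Groth.Statements.S11336
import Groth.Agent.Curves.K319.PicCD

set_option autoImplicit false
universe u
open CategoryTheory CategoryTheory.Limits AlgebraicGeometry
open Curves

namespace Groth.Agent.S11336

/-- Let k be an algebraically closed field and X a curve over k (an integral scheme, proper over k, of
dimension one, with all local rings regular), and L an invertible O_X-module with an inverse M (L ⊗
M ≅ O_X) such that H^0(X, L) ≠ 0 and H^0(X, Ω_{X/k} ⊗ M) ≠ 0 (L comes from an effective special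
divisor D). Then dim |D| ≤ deg D / 2, i.e. 2 (dim_k H^0(X, L) - 1) ≤ deg L, with deg L = χ(L) -
χ(O_X). -/
theorem result (k : Type u) [Field k] [IsAlgClosed k] (X : Scheme.{u}) [X.Over (Spec (CommRingCat.of k))]
    [IsIntegral X] [IsProper (X ↘ (Spec (CommRingCat.of k)))] (hdim : topologicalKrullDim X = 1)
    (hreg : ∀ x : X, IsRegularLocalRing (X.presheaf.stalk x))
    (L M : X.Modules) (hL : PicF.IsInvertible L) (hM : ClSub.IsInverseOf L M)
    (hs : Nontrivial (Coh.HH X L 0)) (hsp : Nontrivial (Coh.HH X (CohB1.tensorMod (Omega.sheaf (X ↘ (Spec (CommRingCat.of k)))) M) 0)) :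
    2 * (Module.finrank k (Coh.HH X L 0) : ℤ) ≤ Curv2.deg k X L 1 + 2 := by
  have hX : K319.PicCD.Reg X := ⟨hdim, hreg⟩
  have hC := hX.isCurve (k := k)
  have hΩ := K532.CurvePic.isInvertible_omega hC
  obtain ⟨-, hMi⟩ := Groth.Agent.Dix.IdealModCartier.isInvertible_of_isInverseOf hM
  have hLM : Groth.Agent.Grpsch.PicGrp.mk M hMi = (Groth.Agent.Grpsch.PicGrp.mk L hL)⁻¹ := by
    rw [eq_inv_iff_mul_eq_one, mul_comm, Groth.Agent.Grpsch.PicGrp.mk_mul_mk,
      Groth.Agent.Grpsch.PicGrp.mk_eq_one_iff]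
    exact hM
  have h1 : K532.CurvePic.h k X 0 (Groth.Agent.Grpsch.PicGrp.mk L hL) ≠ 0 :=
    ((K532.CurvePic.nontrivial_iff hC hL 0).mp hs).ne'
  have h2 : K532.CurvePic.h k X 0 (K532.CurvePic.om hC / Groth.Agent.Grpsch.PicGrp.mk L hL) ≠ 0 := by
    rw [div_eq_mul_inv, ← hLM]
    exact ((K532.CurvePic.nontrivial_iff hC
      (Groth.Agent.Fdesc.LocGen.isInvertible_tensorMod hΩ hMi) 0).mp hsp).ne'
  have h3 := ((K319.PicCD.cd k X hX).clifford (Additive.ofMul (Groth.Agent.Grpsch.PicGrp.mk L hL)) h1 h2).2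
  rw [← K532.CurvePic.deg_mk k X hdim hL]
  exact h3

end Groth.Agent.S11336
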