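import Groth.Statements.S11338
import Groth.Agent.Curves.K657.NsAbs
import Groth.Agent.Curves.K657.NsJac
import Groth.Agent.Curves.K657.VASpan
import Groth.Agent.Curves.K657.PlaneNs

set_option autoImplicit false
universe u
open CategoryTheory CategoryTheory.Limits AlgebraicGeometry
open Curves

namespace Groth.Agent.S11338


theorem h1_eq (k : Type u) [Field k] [IsAlgClosed k] (X : Scheme.{u}) [X.Over (Spec (CommRingCat.of k))]
    [IsIntegral X] [IsProper (X ↘ (Spec (CommRingCat.of k)))] (hX : K319.PicCD.Reg X) {L : X.Modules} (hL : PicF.IsInvertible L) :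
    Module.finrank k (Coh.HH X L 1) = (K319.PicCD.cd k X hX).h ((K319.PicCD.cd k X hX).K -
      Additive.ofMul (Groth.Agent.Grpsch.PicGrp.mk L hL)) := by
  have hC := hX.isCurve (k := k)
  have h1 := (K319.PicCD.cd k X hX).rr (Additive.ofMul (Groth.Agent.Grpsch.PicGrp.mk L hL))
  have h2 := K532.CurvePic.rr hC (Groth.Agent.Grpsch.PicGrp.mk L hL)
  have h3 : ((K319.PicCD.cd k X hX).h (Additive.ofMul (Groth.Agent.Grpsch.PicGrp.mk L hL)) : ℤ) =
    K532.CurvePic.h k X 0 (Groth.Agent.Grpsch.PicGrp.mk L hL) := rfl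
  have h4 : ((K319.PicCD.cd k X hX).deg (Additive.ofMul (Groth.Agent.Grpsch.PicGrp.mk L hL)) : ℤ) =
    K532.CurvePic.deg k X (Groth.Agent.Grpsch.PicGrp.mk L hL) := rfl
  have h5 : ((K319.PicCD.cd k X hX).g : ℤ) = K532.CurvePic.gen k X := rfl
  rw [h3, h4, h5] at h1
  have h6 : K532.CurvePic.h k X 1 (Groth.Agent.Grpsch.PicGrp.mk L hL) = Module.finrank k (Coh.HH X L 1) := rfl
  omega

theorem isNsVa_of (k : Type u) [Field k] [IsAlgClosed k] (X : Scheme.{u}) [X.Over (Spec (CommRingCat.of k))]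
    [IsIntegral X] [IsProper (X ↘ (Spec (CommRingCat.of k)))] (hX : K319.PicCD.Reg X) {L : X.Modules} (hL : PicF.IsInvertible L)
    (hns : Subsingleton (Coh.HH X L 1)) (hva : K319.VA.IsVA k X L) :
    K657.NsAbs.IsNsVa (K319.PicCD.cd k X hX) (Additive.ofMul (Groth.Agent.Grpsch.PicGrp.mk L hL)) := by
  refine ⟨?_, fun x y => (K319.VA.isVA_iff k X hX hL).1 hva x y⟩
  rw [← h1_eq]
  exact Module.finrank_zero_of_subsingleton

theorem of_isNsVa (k : Type u) [Field k] [IsAlgClosed k] (X : Scheme.{u}) [X.Over (Spec (CommRingCat.of k))]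
    [IsIntegral X] [IsProper (X ↘ (Spec (CommRingCat.of k)))] (hX : K319.PicCD.Reg X) {L : X.Modules} (hL : PicF.IsInvertible L)
    (h : K657.NsAbs.IsNsVa (K319.PicCD.cd k X hX) (Additive.ofMul (Groth.Agent.Grpsch.PicGrp.mk L hL))) :
    Subsingleton (Coh.HH X L 1) ∧ K319.VA.IsVA k X L := by
  have hC := hX.isCurve (k := k)
  refine ⟨?_, (K319.VA.isVA_iff k X hX hL).2 fun x y => h.va x y⟩
  have := K532.CurvePic.finite_HH hC hL 1
  have h1 := h.ns
  rw [← h1_eq] at h1
  exact Module.finrank_zero_iff.1 h1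



/-- Let k be an algebraically closed field and X a curve over k (an integral scheme, proper over k, of
dimension one, with all local rings regular), of genus g ≥ 2, and d an integer. Then X carries a
very ample divisor of degree d that is nonspecial — an invertible module L with deg L = d, H^1(X, L)
= 0 (equivalently H^0 of ω ⊗ L^{-1} vanishes), and L isomorphic to the pullback of O(1) along a
closed immersion into some P^n_k over k — if and only if d ≥ g + 3. -/
theorem result (k : Type u) [Field k] [IsAlgClosed k] (X : Scheme.{u}) [X.Over (Spec (CommRingCat.of k))]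
    [IsIntegral X] [IsProper (X ↘ (Spec (CommRingCat.of k)))] (hdim : topologicalKrullDim X = 1)
    (hreg : ∀ x : X, IsRegularLocalRing (X.presheaf.stalk x)) (hg : 2 ≤ Curv2.genus k X) (d : ℤ) :
    (∃ L : X.Modules, PicF.IsInvertible L ∧ Curv2.deg k X L 1 = d ∧ Subsingleton (Coh.HH X L 1) ∧
      (∃ (n : ℕ) (i : X ⟶ CohB1.ProjSpace n k), IsClosedImmersion i ∧ i ≫ CohB1.ProjSpace.toSpec n k = (X ↘ (Spec (CommRingCat.of k))) ∧
        Nonempty ((Scheme.Modules.pullback i).obj (Twist.twistProjSpace n k 1) ≅ L))) ↔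
      (Curv2.genus k X : ℤ) + 3 ≤ d := by
  have hX : K319.PicCD.Reg X := ⟨hdim, hreg⟩
  constructor
  · rintro ⟨L, hL, hdeg, hns, hva⟩
    have hva' : K319.VA.IsVA k X L := hva
    have h0 := isNsVa_of k X hX hL hns hva'
    have h1 := K657.NsAbs.le_deg _ hg h0
    have hdL : (K319.PicCD.cd k X hX).deg (Additive.ofMul (Groth.Agent.Grpsch.PicGrp.mk L hL)) = d := by
      rw [← hdeg]
      exact K532.CurvePic.deg_mk k X hdim hL
    rw [hdL] at h1
    change (Curv2.genus k X : ℤ) + 2 ≤ d at h1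
    by_contra hcon
    have hd : d = (Curv2.genus k X : ℤ) + 2 := by omega
    have h2 := K657.NsAbs.h_eq _ h0.ns
    rw [hdL, hd] at h2
    have h3 : Module.finrank k (Coh.HH X L 0) = 2 + 1 := by
      change (Module.finrank k (Coh.HH X L 0) : ℤ) = (Curv2.genus k X : ℤ) + 2 + 1 - (Curv2.genus k X : ℤ) at h2
      omega
    obtain ⟨i, hi, hik, ⟨e⟩⟩ := K657.VASpan.exists_complete k X hX hL hva' h3
    refine K657.PlaneNs.false_of_plane i hik hdim hg ?_
    exact (Groth.Agent.VarietyA.EulerLES.equivA k e 1).toEquiv.subsingleton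
  · intro hd
    obtain ⟨M, hM, hM0⟩ := K657.NsJac.exists_M (k := k) hX hg
    obtain ⟨a, ha, hns⟩ := K657.NsAbs.exists_isNsVa _ hM hM0 d hd
    obtain ⟨L, hL, hLa⟩ := Groth.Agent.Grpsch.PicGrp.exists_mk a.toMul
    have ha' : a = Additive.ofMul (Groth.Agent.Grpsch.PicGrp.mk L hL) := by
      rw [← hLa]
      rfl
    subst ha'
    obtain ⟨h1, h2⟩ := of_isNsVa k X hX hL hns
    refine ⟨L, hL, ?_, h1, h2⟩
    rw [← ha]
    exact (K532.CurvePic.deg_mk k X hdim hL).symm

end Groth.Agent.S11338
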