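import Groth.Statements.S11339
import Groth.Agent.Curves.K978.Finish
import Groth.Agent.Curves.K978.SepFun

set_option autoImplicit false
set_option backward.isDefEq.respectTransparency.types false
universe u
open CategoryTheory CategoryTheory.Limits AlgebraicGeometry
open Curves

namespace Groth.Agent.S11339

/-- Let k be an algebraically closed field and X a curve over k (an integral scheme, proper over k, of
dimension one, with all local rings regular). Then X is birational to an integral plane curve whose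
only singular points are nodes: there exist an integral closed subscheme Y of P^2_k, all of whose
closed points are either smooth over k or nodes (ordinary double points), and a morphism X → Y over
k which restricts to an isomorphism over some nonempty open subset of Y. -/
theorem result (k : Type u) [Field k] [IsAlgClosed k] (X : Scheme.{u}) [X.Over (Spec (CommRingCat.of k))]
    [IsIntegral X] [IsProper (X ↘ (Spec (CommRingCat.of k)))] (hdim : topologicalKrullDim X = 1)
    (hreg : ∀ x : X, IsRegularLocalRing (X.presheaf.stalk x)) :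
    ∃ (Y : Scheme.{u}) (j : Y ⟶ CohB1.ProjSpace 2 k) (φ : X ⟶ Y), IsClosedImmersion j ∧ IsIntegral Y ∧
      φ ≫ j ≫ CohB1.ProjSpace.toSpec 2 k = (X ↘ (Spec (CommRingCat.of k))) ∧
      (letI : Y.Over (Spec (CommRingCat.of k)) := ⟨j ≫ CohB1.ProjSpace.toSpec 2 k⟩
       Curv2.AtWorstNodal k Y) ∧
      ∃ U : Y.Opens, (U : Set Y).Nonempty ∧ IsIso (φ ∣_ U) := by
  let _ : ∀ U : X.Opens, Algebra k Γ(X, U) := fun U => K978.CurveChart.algK k X U
  let _ : Algebra k X.functionField := K978.CurveChart.algKK k X
  have hval : ∀ x : X, ValuationRing (X.presheaf.stalk x) := by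
    intro x
    have h1 := hreg x
    have h2 := Groth.Agent.Picfga.CurvePts.dimensionLEOne_stalk hdim.le x
    exact Groth.Agent.Picfga.CurvePts.valuationRing_of_regular
  obtain ⟨z, hz, hgen⟩ := K978.SepFun.exists_sep (k := k) hval hdim
  have hz0 : z ≠ 0 := by
    rintro rfl
    exact hz isAlgebraic_zero
  have hzz : z * z⁻¹ = 1 := mul_inv_cancel₀ hz0
  have hz' : Transcendental k z⁻¹ := fun h => hz (by simpa using h.inv)
  obtain ⟨m, h₀, h₁, hm, hgm, good, pole1, pole2⟩ :=
    K978.CurveChoice.exists_choice (k := k) hdim.le hval hzz hz hgen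
  have haff := Groth.Agent.Picfga.CurveP1.isAffineOpen_reg (X ↘ Spec (CommRingCat.of k)) hdim.le hval
    ((K978.CurveChart.transc_iff z).2 hz)
  have haff' := Groth.Agent.Picfga.CurveP1.isAffineOpen_reg (X ↘ Spec (CommRingCat.of k)) hdim.le hval
    ((K978.CurveChart.transc_iff z⁻¹).2 hz')
  have hne : Nonempty (Groth.Agent.Picfga.RegLocus.reg z ⊓ Groth.Agent.Picfga.RegLocus.reg z⁻¹ : X.Opens) :=
    ⟨⟨_, Groth.Agent.Picfga.RegLocus.genericPoint_mem_reg z, Groth.Agent.Picfga.RegLocus.genericPoint_mem_reg z⁻¹⟩⟩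
  refine K978.Finish.exists_model (k := k) hval haff haff'
    (Groth.Agent.Picfga.RegLocus.reg_sup_reg_inv hval z) (Groth.Agent.Picfga.RegLocus.sec z ^ m) h₀
    (Groth.Agent.Picfga.RegLocus.sec z⁻¹ ^ m) h₁ ?_ ?_ ?_ ?_
    (K978.CurveChoice.chart_facts hdim.le hval hz).2.1 (K978.CurveChoice.chart_facts hdim.le hval hz').2.1
    good ?_ ?_
  · apply K978.CurveChart.gm_inj
    rw [K978.CurveChoice.gm_mul, K978.CurveChart.gm_res, K978.CurveChart.gm_res, K978.CurveChoice.gm_pow,
      K978.CurveChoice.gm_pow, K978.CurveChart.gm_sec, K978.CurveChart.gm_sec, K978.CurveChoice.gm_one, ← mul_pow,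
      hzz, one_pow]
  · apply K978.CurveChart.gm_inj
    rw [K978.CurveChoice.gm_mul, K978.CurveChart.gm_res, K978.CurveChart.gm_res, K978.CurveChart.gm_res,
      K978.CurveChoice.gm_pow, K978.CurveChart.gm_sec, ← hgm, mul_comm]
  · refine (X.basicOpen_pow (Groth.Agent.Picfga.RegLocus.sec z) (Nat.pos_of_ne_zero hm)).le.trans ?_
    rw [Groth.Agent.Picfga.RegLocus.basicOpen_sec hz0]
    exact inf_le_right
  · refine (X.basicOpen_pow (Groth.Agent.Picfga.RegLocus.sec z⁻¹) (Nat.pos_of_ne_zero hm)).le.trans ?_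
    rw [Groth.Agent.Picfga.RegLocus.basicOpen_sec (inv_ne_zero hz0), inv_inv]
    exact inf_le_right
  · intro P hP
    rw [map_pow] at hP
    exact pole1 P (pow_eq_zero_iff hm |>.1 hP)
  · intro P Q hP hQ hPQ
    rw [map_pow] at hP hQ
    exact pole2 P Q (pow_eq_zero_iff hm |>.1 hP) (pow_eq_zero_iff hm |>.1 hQ) hPQ

end Groth.Agent.S11339
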