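import Groth.Statements.S11341
import Groth.Agent.Surf.K455.SmoothRR
import Groth.Agent.Surf.K455.RelDim
import Groth.Agent.Surf.K455.Proj
import Groth.Agent.Lefpen.H121.CurveCartier
import Groth.Agent.Dix.IdealModCartier
import Groth.Agent.VarietyA.CurveFin

set_option autoImplicit false
universe u
open CategoryTheory CategoryTheory.Limits AlgebraicGeometry
open Surf

namespace Groth.Agent.S11341

/-- Let X be a surface over an algebraically closed field k (an integral scheme of dimension two with
all local rings regular, admitting a closed immersion into some P^n_k over k), let W be the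
canonical sheaf of X (a second exterior power of the sheaf of differentials Ω_{X/k}), and let C be a
nonsingular curve of genus g on X: an integral closed subscheme of dimension one with all local
rings regular, with ideal sheaf I ⊆ O_X, g = dim_k H^1(C, O_C). Then 2g - 2 = C.(C + K). Writing
(L·M) for the intersection number χ(O_X) - χ(L) - χ(M) + χ(L ⊗ M) of two invertible modules
(packaged as FGA.intNum), C.C = (I·I) and C.K = -(I·W), so the formula reads 2g - 2 = (I·I) - (I·W). -/
theorem result (k : Type u) [Field k] [IsAlgClosed k] (X : Scheme.{u}) [X.Over (Spec (CommRingCat.of k))]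
    [IsIntegral X] (hdim : topologicalKrullDim X = 2) (hreg : ∀ x : X, IsRegularLocalRing (X.presheaf.stalk x))
    (hproj : ∃ (n : ℕ) (ι : X ⟶ CohB1.ProjSpace n k), IsClosedImmersion ι ∧ ι ≫ CohB1.ProjSpace.toSpec n k = (X ↘ (Spec (CommRingCat.of k))))
    (W : X.Modules) (hW : ExtPow.IsExtPow 2 (Omega.sheaf (X ↘ (Spec (CommRingCat.of k)))) W)
    (C : Scheme.{u}) (i : C ⟶ X) [IsClosedImmersion i] [IsIntegral C] (hC : topologicalKrullDim C = 1)
    (hCreg : ∀ c : C, IsRegularLocalRing (C.presheaf.stalk c)) :
    letI : C.Over (Spec (CommRingCat.of k)) := ⟨i ≫ (X ↘ (Spec (CommRingCat.of k)))⟩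
    2 * (Curv2.genus k C : ℤ) - 2 =
      FGA.intNum k X 2 ![ClSub.idealMod i.ker, ClSub.idealMod i.ker] (Coh.structureModule X) - FGA.intNum k X 2 ![ClSub.idealMod i.ker, W] (Coh.structureModule X) := by
  have hp : IsProper (X ↘ Spec (CommRingCat.of k)) := K455.Proj.isProper_of_proj hproj
  have := Fga.IntAdd.isNoetherian k X
  have : Smooth (X ↘ (Spec (CommRingCat.of k))) := K455.RelDim.smooth_of_regular k _ hreg
  have := K455.RelDim.smoothOfRelativeDimension k (X ↘ (Spec (CommRingCat.of k))) 2 (K455.Proj.dim_components hdim)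
  let : C.Over (Spec (CommRingCat.of k)) := ⟨i ≫ (X ↘ (Spec (CommRingCat.of k)))⟩
  have : IsProper (C ↘ (Spec (CommRingCat.of k))) := inferInstanceAs (IsProper (i ≫ (X ↘ (Spec (CommRingCat.of k)))))
  have hiso : IsIso i.toImage := inferInstance
  have hint : IsIntegral i.ker.subscheme := by
    have : IsIntegral i.image := IsIntegral.of_isIso i.toImage
    exact this
  have hker : BlowUp.IsEffCartierIdeal i.ker := by
    refine Lefpen.H121.CurveCartier.isEffCartierIdeal (X ↘ (Spec (CommRingCat.of k))) i.ker
      (K455.Proj.dim_components ?_)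
    have h1 := i.toImage.homeomorph.isHomeomorph.topologicalKrullDim_eq
    exact h1.symm.trans hC
  have hadj := K455.SmoothRR.adjunction k hW hdim.le i rfl (Dix.IdealModCartier.isInvertible_idealMod hker)
  rw [hadj]
  have h0 := VarietyA.CurveFin.finrank_h0_structure k C
  have h3 : FGA.eulerCharLE k C (Coh.structureModule C) 2 = FGA.eulerCharLE k C (Coh.structureModule C) 1 := by
    rw [Fga.IntAdd.eulerCharLE_eq k C 2 (hC.le.trans (by norm_num)), Fga.IntAdd.eulerCharLE_eq k C 1 hC.le]
  rw [h3]
  unfold FGA.eulerCharLE Curv2.genus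
  simp only [Finset.sum_range_succ, Finset.sum_range_zero, h0]
  ring

end Groth.Agent.S11341
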