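import Groth.Statements.S11346
import Groth.Agent.Surf.K456.Ruled
import Groth.Agent.Surf.K455.PushUnit
import Groth.Agent.CohqB.RelVan
import Groth.Agent.Ega3B.PullTensor
import Groth.Agent.CurvesC.DegIso

set_option autoImplicit false
universe u
open CategoryTheory CategoryTheory.Limits AlgebraicGeometry
open Surf

namespace Groth.Agent.S11346

/-- Let π : X → C be a ruled surface over an algebraically closed field k: X a surface (integral, of
dimension two, all local rings regular, with a closed immersion into some P^n_k over k), C a curve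
(integral, proper over k, of dimension one, all local rings regular), π : X → C a surjective
k-morphism whose fibre over every closed point is isomorphic to P^1_k and which admits a section σ.
If C has genus g, then p_a(X) = -g, p_g(X) = 0 and q(X) = g; that is, dim_k H^1(X, O_X) = g = dim_k
H^1(C, O_C) and H^2(X, O_X) = 0. -/
theorem result (k : Type u) [Field k] [IsAlgClosed k] (X : Scheme.{u}) [X.Over (Spec (CommRingCat.of k))]
    [IsIntegral X] (hdim : topologicalKrullDim X = 2) (hreg : ∀ x : X, IsRegularLocalRing (X.presheaf.stalk x))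
    (hproj : ∃ (n : ℕ) (ι : X ⟶ CohB1.ProjSpace n k), IsClosedImmersion ι ∧ ι ≫ CohB1.ProjSpace.toSpec n k = (X ↘ (Spec (CommRingCat.of k))))
    (C : Scheme.{u}) [C.Over (Spec (CommRingCat.of k))]
    [IsIntegral C] [IsProper (C ↘ (Spec (CommRingCat.of k)))] (hdimC : topologicalKrullDim C = 1)
    (hregC : ∀ x : C, IsRegularLocalRing (C.presheaf.stalk x))
    (π : X ⟶ C) (hπ : π ≫ (C ↘ (Spec (CommRingCat.of k))) = (X ↘ (Spec (CommRingCat.of k)))) (hsurj : Function.Surjective π)
    (hfib : ∀ y : C, IsClosed ({y} : Set C) → Nonempty (pullback π (C.fromSpecResidueField y) ≅ CohB1.ProjSpace 1 k))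
    (σ : C ⟶ X) (hσ : σ ≫ π = 𝟙 C) :
    Module.finrank k (Coh.HH X (Coh.structureModule X) 1) = Curv2.genus k C ∧ Subsingleton (Coh.HH X (Coh.structureModule X) 2) := by
  obtain ⟨m, ι, hι, hιf⟩ := hproj
  have hS : IsProper (X ↘ (Spec (CommRingCat.of k))) := by
    rw [← hιf]
    infer_instance
  have hs : Surjective π := ⟨hsurj⟩
  have hinj : HasInjectiveResolutions X.Modules := inferInstance
  have hO : PicF.IsInvertible (Coh.structureModule X) := Groth.Agent.Fdesc.LocGen.isInvertible_structureModule
  have hd : ∀ y : C, IsClosed ({y} : Set C) → K456.Ruled.fdeg k π y (Coh.structureModule X) = (0 : ℕ) := fun y hy => by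
    letI := K456.Ruled.fibOver k π y
    obtain ⟨u⟩ := Groth.Agent.Ega3B.PullTensor.nonempty_pullUnitIso (π.fiberι y)
    change Curv2.deg k (π.fiber y) _ 1 = _
    rw [Groth.Agent.CurvesC.DegIso.deg_congr k u]
    simp [Curv2.deg]
  have hd' : ∀ y : C, IsClosed ({y} : Set C) → -1 ≤ K456.Ruled.fdeg k π y (Coh.structureModule X) := fun y hy => by
    rw [hd y hy]; norm_num
  have h1 := K456.Ruled.isFinLocFreeOfRank_push k hdimC hregC π hπ hfib 0 hO hd
  have hiso := K455.PushUnit.isIso_unitToPush π σ hσ (Groth.Agent.Ega2.QCohLocal.isFinLocFreeOfRank_one_iff.1 h1)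
  obtain ⟨e1⟩ := K456.Ruled.leray k hdimC hregC π hπ hfib hO hd' 1
  obtain ⟨e2⟩ := K456.Ruled.leray k hdimC hregC π hπ hfib hO hd' 2
  have e : Coh.structureModule C ≅ (Coh.push π).obj (Coh.structureModule X) := asIso (ClSub.unitToPush π)
  constructor
  · rw [e1.finrank_eq, ← Groth.Agent.CurvesC.DegIso.finrank_congr k e 1]
    rfl
  · have : IsLocallyNoetherian C :=
      LocallyOfFiniteType.isLocallyNoetherian (C ↘ (Spec (CommRingCat.of k)))
    have : CompactSpace C :=
      (quasiCompact_iff_compactSpace (C ↘ (Spec (CommRingCat.of k)))).mp inferInstance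
    have hN : IsNoetherian C := {}
    have : TopologicalSpace.NoetherianSpace (C.toTopCat) := inferInstanceAs (TopologicalSpace.NoetherianSpace C)
    have hC2 : Subsingleton (Coh.HH C ((Coh.push π).obj (Coh.structureModule X)) 2) :=
      Groth.Agent.S0458.result (X := C.toTopCat) 1 hdimC.le _ _ (by omega)
    exact e2.toEquiv.subsingleton

end Groth.Agent.S11346
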