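import Groth.Statements.S11347
import Groth.Agent.Curves.K319.RankTwo

set_option autoImplicit false
universe u
open CategoryTheory CategoryTheory.Limits AlgebraicGeometry
open Curves

namespace Groth.Agent.S11347

/-- Let C be a genus-g curve over an algebraically closed field k (integral, proper over k, of dimension
one, all local rings regular), and E a locally free O_C-module of rank 2 which is normalized —
H^0(C, E) ≠ 0 while H^0(C, E ⊗ M) = 0 for every invertible M with deg M < 0 — and indecomposable —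
not isomorphic to a direct sum of two invertible modules. Then the invariant e = -deg E of the ruled
surface P(E) satisfies -2g ≤ e ≤ 2g - 2; here deg E = χ(E) - 2 χ(O_C). -/
theorem result (k : Type u) [Field k] [IsAlgClosed k] (C : Scheme.{u}) [C.Over (Spec (CommRingCat.of k))]
    [IsIntegral C] [IsProper (C ↘ (Spec (CommRingCat.of k)))] (hdimC : topologicalKrullDim C = 1)
    (hregC : ∀ x : C, IsRegularLocalRing (C.presheaf.stalk x))
    (E : C.Modules) (hE : FlatMod.IsFinLocFreeOfRank 2 E)
    (hn0 : Nontrivial (Coh.HH C E 0))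
    (hneg : ∀ M : C.Modules, PicF.IsInvertible M → Curv2.deg k C M 1 < 0 → Subsingleton (Coh.HH C (CohB1.tensorMod E M) 0))
    (hind : ∀ L₁ L₂ : C.Modules, PicF.IsInvertible L₁ → PicF.IsInvertible L₂ → IsEmpty (E ≅ L₁ ⊞ L₂)) :
    2 - 2 * (Curv2.genus k C : ℤ) ≤ Curv2.deg k C E 2 ∧ Curv2.deg k C E 2 ≤ 2 * (Curv2.genus k C : ℤ) := by
  have hX := K319.Setup.isSmoothProperCurve k C hdimC hregC
  have hs := K319.Setup.smooth k C hregC
  have hC : K707.Base.Crv k C := K707.Base.Crv.of_smooth hdimC
  obtain ⟨h1, L, ι, hL, hι, h2⟩ := Groth.Agent.S11482.result k C hX E hE (K319.RankTwo.indec hC hE hind)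
  obtain ⟨s, hs0⟩ := K319.RankTwo.exists_ne_zero_of_h0 hn0
  have hO := Groth.Agent.Fdesc.LocGen.isInvertible_structureModule (X := C)
  have hm : Mono s := K708.SSH0.mono_of_rank_one hC (Groth.Agent.Ega2.QCohLocal.isFinLocFreeOfRank_one_iff.2 hO)
    (K707.Base.isFinLocFree_of_rank hE) s hs0
  have h3 := h1 _ s hO hm
  have hdO : Curv2.deg k C (Coh.structureModule C) 1 = 0 := K703.Chi.deg_structure k
  have hι0 : ι ≠ 0 := fun h0 => by
    have hz : IsZero L := IsZero.of_mono_eq_zero ι h0
    have h5 := K707.Base.rk_of_rank (Groth.Agent.Ega2.QCohLocal.isFinLocFreeOfRank_one_iff.2 hL)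
    have h6 : Groth.Agent.VarietyA.DegRank.rk L = 0 := K707.Slope.rk_of_isZero hz
    omega
  have h4 := K319.RankTwo.deg_nonpos_of_hom hdimC hneg hL ι hι0
  rw [hdO] at h3
  constructor <;> omega

end Groth.Agent.S11347
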