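import Groth.Statements.S11350
import Groth.Agent.Curves.K978.CastelProj
import Groth.Agent.Curves.K323.Nondeg
import Groth.Agent.S1564
import Groth.Agent.VarietyA.CurveFin

set_option autoImplicit false
set_option backward.isDefEq.respectTransparency.types false
universe u
open CategoryTheory CategoryTheory.Limits AlgebraicGeometry
open Curves

namespace Groth.Agent.S11350

open K978.CurveChart K978.SecFil K978.FormOpen K978.CastelProj K978.DysonGrow K330.FormSec
open Groth.Agent.Fdesc.LocGen Groth.Agent.CurvesB.HZero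

/-- Let k be an algebraically closed field and X a curve over k (integral, proper over k, of dimension
one, all local rings regular) together with a closed immersion i : X → P^3_k over k whose image is
not contained in any plane — every nonzero global section of O(1) on P^3_k restricts to a nonzero
global section of i^* O(1) — and let d = deg i^* O(1) be its degree and g its genus. Then d ≥ 3 and
g ≤ d²/4 - d + 1 if d is even, g ≤ (d² - 1)/4 - d + 1 if d is odd; both cases read g ≤ ⌊d²/4⌋ - d +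
1 (integer division below). -/
theorem result (k : Type u) [Field k] [IsAlgClosed k] (X : Scheme.{u}) [X.Over (Spec (CommRingCat.of k))]
    [IsIntegral X] [IsProper (X ↘ (Spec (CommRingCat.of k)))] (hdim : topologicalKrullDim X = 1)
    (hreg : ∀ x : X, IsRegularLocalRing (X.presheaf.stalk x))
    (i : X ⟶ CohB1.ProjSpace 3 k) [IsClosedImmersion i] (hi : i ≫ CohB1.ProjSpace.toSpec 3 k = (X ↘ (Spec (CommRingCat.of k))))
    (hplane : ∀ s : LinSer.Sect (CohB1.ProjSpace 3 k) (Twist.twistProjSpace 3 k 1), s ≠ 0 →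
      OmegaSh.pullSect i (Twist.twistProjSpace 3 k 1) ⊤ s ≠ 0) :
    3 ≤ Curv2.deg k X ((Scheme.Modules.pullback i).obj (Twist.twistProjSpace 3 k 1)) 1 ∧
      (Curv2.genus k X : ℤ) ≤
        Curv2.deg k X ((Scheme.Modules.pullback i).obj (Twist.twistProjSpace 3 k 1)) 1 ^ 2 / 4 -
          Curv2.deg k X ((Scheme.Modules.pullback i).obj (Twist.twistProjSpace 3 k 1)) 1 + 1 := by
  let _ : ∀ U : X.Opens, Algebra k Γ(X, U) := fun U => K978.CurveChart.algK k X U
  let _ : Algebra k X.functionField := K978.CurveChart.algKK k X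
  have hval : ∀ x : X, ValuationRing (X.presheaf.stalk x) := by
    intro x
    have h1 := hreg x
    have h2 := Groth.Agent.Picfga.CurvePts.dimensionLEOne_stalk hdim.le x
    exact Groth.Agent.Picfga.CurvePts.valuationRing_of_regular
  have hnoe := CurvesB.CurveRR.isNoetherian_of_proper k X
  have h0 := VarietyA.CurveFin.finrank_h0_structure k X
  have hinj : ∀ G : LefPen.Form 3 k 1, G ≠ 0 → sec' i G ≠ 0 := fun G hG =>
    hplane (glob G) fun h => hG (glob_eq_zero (i (genericPoint X)) h)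
  obtain ⟨ℓ₀, ℓ₁, hℓ0, hℓ1, hU⟩ := exists_pair i hdim.le (by norm_num) hinj
  have hne0 := nonempty_nz i ℓ₀ (hinj _ hℓ0)
  have hℓ1' : ℓ₁ ≠ 0 := by
    rintro rfl
    exact hℓ1 (Submodule.zero_mem _)
  have hne1 := nonempty_nz i ℓ₁ (hinj _ hℓ1')
  obtain ⟨q, hq⟩ := (isGen_one' i ℓ₀).exists_eq (res _ (le_top : nz i ℓ₀ ≤ ⊤) (sec' i ℓ₁))
  have hne := nonempty_inf (nz i ℓ₀) (nz i ℓ₁)
  have hq0 : gm q ≠ 0 := by
    have h1 := congrArg (res _ (inf_le_left : nz i ℓ₀ ⊓ nz i ℓ₁ ≤ nz i ℓ₀)) hq
    rw [res_smul, res_res, ← res_res _ (le_top : nz i ℓ₁ ≤ ⊤) inf_le_right] at h1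
    have h2 := ((isGen_one' i ℓ₀).res (inf_le_left : nz i ℓ₀ ⊓ nz i ℓ₁ ≤ nz i ℓ₀)).isUnit_of_smul
      (h1 ▸ (isGen_one' i ℓ₁).res inf_le_right)
    have h3 : IsUnit (gm (ores (inf_le_left : nz i ℓ₀ ⊓ nz i ℓ₁ ≤ nz i ℓ₀) q)) :=
      h2.map (X.germToFunctionField (nz i ℓ₀ ⊓ nz i ℓ₁)).hom
    rw [gm_ores] at h3
    exact h3.ne_zero
  obtain ⟨φ, hφi, hφr, hφ0, hφ1, hφm⟩ := exists_phi i hi hU hq hq0 hinj
  have hz : Transcendental k (gm q) := by
    intro halg
    have h1 := minpoly.mem_range_of_degree_eq_one k (gm q)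
      (IsAlgClosed.degree_eq_one_of_irreducible k (minpoly.irreducible halg.isIntegral))
    obtain ⟨c, hc⟩ := h1
    apply hℓ1
    rw [Submodule.mem_span_singleton]
    refine ⟨c, hφi ?_⟩
    rw [map_smul, hφ0, hφ1, ← hc, Algebra.smul_def, mul_one]
  have hFD := K978.FinAdj.finiteDimensional hdim.le hval hz
  have hL : ∀ n : ℕ, PicF.IsInvertible (tw i n) := fun n => K330.CurveDim.isInvertible_pull_twist i (n : ℤ)
  have hfin : ∀ n, FiniteDimensional k (fil (regs k (nz i ℓ₀)) (regs k (nz i ℓ₁)) (gm q) n) := by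
    intro n
    obtain ⟨Φ, -⟩ := exists_Phi i hU hq hq0 n
    have h1 : Module.Finite k (Coh.HH X (tw i n) 0) := Agent.Old.H24.LinearSeries.finite_H k (hL n) 0
    exact Module.Finite.equiv Φ
  have hfr : ∀ n, Module.finrank k (fil (regs k (nz i ℓ₀)) (regs k (nz i ℓ₁)) (gm q) n) =
      Module.finrank k (Coh.HH X (tw i n) 0) := by
    intro n
    obtain ⟨Φ, -⟩ := exists_Phi i hU hq hq0 n
    exact Φ.finrank_eq.symm
  set d := Curv2.deg k X ((Scheme.Modules.pullback i).obj (Twist.twistProjSpace 3 k 1)) 1 with hd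
  have hdeg : ∀ n : ℕ, Curv2.deg k X (tw i n) 1 = n * d := by
    intro n
    induction n with
    | zero =>
      have h1 := K330.CurveDim.deg_pull_twist_add i hdim.le (0 : ℤ) 0
      rw [add_zero] at h1
      have h2 : Curv2.deg k X (tw i 0) 1 =
        Curv2.deg k X ((Scheme.Modules.pullback i).obj (Twist.twistProjSpace 3 k (0 : ℤ))) 1 := rfl
      rw [h2, Nat.cast_zero, zero_mul]
      omega
    | succ n ih =>
      have h1 := K330.CurveDim.deg_pull_twist_add i hdim.le (n : ℤ) 1
      have h2 : Curv2.deg k X (tw i (n + 1)) 1 =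
        Curv2.deg k X ((Scheme.Modules.pullback i).obj (Twist.twistProjSpace 3 k ((n : ℤ) + 1))) 1 := rfl
      rw [h2, h1, ih]
      push_cast
      ring
  have hVf : FiniteDimensional k (LinearMap.range φ) := Submodule.finiteDimensional_of_le hφr
  have hd3 : (3 : ℤ) ≤ d := by
    have hL1 := K330.CurveDim.isInvertible_pull_twist i (1 : ℤ)
    have hfL : Module.Finite k (Coh.HH X ((Scheme.Modules.pullback i).obj (Twist.twistProjSpace 3 k 1)) 0) :=
      Agent.Old.H24.LinearSeries.finite_H k hL1 0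
    have h1 := Agent.Curves.K323.Nondeg.succ_le_finrank k 3 X i hi hplane
    have hnt : Nontrivial (Coh.HH X ((Scheme.Modules.pullback i).obj (Twist.twistProjSpace 3 k 1)) 0) := by
      by_contra h
      rw [not_nontrivial_iff_subsingleton] at h
      have h2 := Module.finrank_zero_of_subsingleton (R := k)
        (M := Coh.HH X ((Scheme.Modules.pullback i).obj (Twist.twistProjSpace 3 k 1)) 0)
      omega
    have h2 := (Agent.S1564.result k X hdim h0 _ hL1 hnt).1
    omega
  have h4 : 4 ≤ Module.finrank k (LinearMap.range φ) := by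
    have h1 := (Agent.Curves.K323.Nondeg.linearIndependent_X k 3).map' φ (LinearMap.ker_eq_bot.mpr hφi)
    have h2 := finrank_span_eq_card h1
    rw [Fintype.card_fin] at h2
    refine h2.symm.le.trans (Submodule.finrank_mono (Submodule.span_le.mpr ?_))
    rintro _ ⟨j, rfl⟩
    exact ⟨_, rfl⟩
  have htop : Algebra.adjoin (IntermediateField.adjoin k {gm q})
      (fil (regs k (nz i ℓ₀)) (regs k (nz i ℓ₁)) (gm q) 1 : Set X.functionField) = ⊤ := by
    have halg : Algebra.IsAlgebraic (IntermediateField.adjoin k {gm q}) X.functionField :=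
      Algebra.IsAlgebraic.of_finite _ _
    apply (IntermediateField.adjoin_eq_top_iff_of_isAlgebraic fun x _ => Algebra.IsAlgebraic.isAlgebraic x).mp
    rw [eq_top_iff]
    intro f _
    refine mem_of_forms i hi φ hφi hφm (IntermediateField.adjoin (IntermediateField.adjoin k {gm q})
      (fil (regs k (nz i ℓ₀)) (regs k (nz i ℓ₁)) (gm q) 1 : Set X.functionField)).toSubfield ?_ ?_ f
    · intro c
      have h1 := (IntermediateField.adjoin (IntermediateField.adjoin k {gm q})
        (fil (regs k (nz i ℓ₀)) (regs k (nz i ℓ₁)) (gm q) 1 : Set X.functionField)).algebraMap_mem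
          (algebraMap k (IntermediateField.adjoin k {gm q}) c)
      exact h1
    · intro G
      exact IntermediateField.subset_adjoin _ _ (hφr ⟨G, rfl⟩)
  refine K978.CastelAbs.bound hz (gm_mem_regs q) ?_ (regs_inf_eq_bot hU h0) (LinearMap.range φ) hφr ⟨ℓ₀, hφ0⟩
    ⟨ℓ₁, hφ1⟩ h4 htop hfin d (Curv2.genus k X) (2 * Curv2.genus k X) ?_
  · -- the inverse of `z` is regular on `U₁`
    obtain ⟨q', hq'⟩ := (isGen_one' i ℓ₁).exists_eq (res _ (le_top : nz i ℓ₁ ≤ ⊤) (sec' i ℓ₀))
    have h1 := hφm ℓ₁ ℓ₀ (nz i ℓ₁) q' hq'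
    rw [hφ0, hφ1] at h1
    rw [inv_eq_of_mul_eq_one_left h1.symm]
    exact gm_mem_regs q'
  · intro n hn
    rw [hfr, K330.CurveDim.finrank_h0_of_deg k X hdim (hL n), hdeg]
    rw [hdeg]
    have h1 : (2 * Curv2.genus k X : ℤ) ≤ n := by exact_mod_cast hn
    nlinarith

end Groth.Agent.S11350
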