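import Groth.Statements.S11351
import Groth.Agent.Curves.K320.GenusOne
import Groth.Agent.Curves.K320.ProjSame
import Groth.Agent.Curves.K318.FinDeg
import Groth.Agent.Curves.K318.P1Num
import Groth.Agent.VBCurve.K707.Base

set_option autoImplicit false
universe u
open CategoryTheory CategoryTheory.Limits AlgebraicGeometry
open Curves

namespace Groth.Agent.S11351

section

open Groth.Agent.Grpsch.PicGrp K532.CurvePic K924.ProjAut K319.PicCD

/-- A finite morphism with `f_* O` locally free of positive rank is surjective. -/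
theorem surjective_of_rank {X Y : Scheme.{u}} (f : X ⟶ Y) [IsFinite f] {n : ℕ} (hn : 0 < n)
    (h : FlatMod.IsFinLocFreeOfRank n ((Scheme.Modules.pushforward f).obj (Coh.structureModule X))) :
    Surjective f := by
  constructor
  intro y
  by_contra hy
  have hcl : IsClosed (Set.range f) := f.isClosedMap.isClosed_range
  let V : Y.Opens := ⟨(Set.range f)ᶜ, hcl.isOpen_compl⟩
  have hV : f ⁻¹ᵁ V = ⊥ := by
    ext x
    constructor
    · intro hx
      exact hx ⟨x, rfl⟩
    · intro hx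
      exact hx.elim
  have hyV : y ∈ V := hy
  let M := (Scheme.Modules.pushforward f).obj (Coh.structureModule X)
  have hz : ∀ m : Γ(M, V), m = 0 := by
    have h0 : Subsingleton Γ(X, f ⁻¹ᵁ V) := by
      rw [hV]
      infer_instance
    intro m
    exact h0.elim (α := Γ(X, f ⁻¹ᵁ V)) m 0
  have h1 : Subsingleton (M.presheaf.stalk y) := by
    refine ⟨fun a b => ?_⟩
    have key : ∀ a : M.presheaf.stalk y, a = 0 := by
      intro a
      obtain ⟨W, hW, s, rfl⟩ := M.presheaf.exists_germ_eq a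
      have h2 : M.presheaf.germ W y hW s = M.presheaf.germ (W ⊓ V) y ⟨hW, hyV⟩
          (M.presheaf.map (homOfLE inf_le_left).op s) := by
        rw [TopCat.Presheaf.germ_res_apply]
      have h3 : Subsingleton Γ(X, f ⁻¹ᵁ (W ⊓ V)) := by
        have h4 : f ⁻¹ᵁ (W ⊓ V) = ⊥ := by
          rw [Scheme.Hom.preimage_inf, hV, inf_bot_eq]
        rw [h4]
        infer_instance
      have h5 : M.presheaf.map (homOfLE inf_le_left).op s = (0 : Γ(M, W ⊓ V)) :=
        h3.elim (α := Γ(X, f ⁻¹ᵁ (W ⊓ V))) _ _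
      rw [h2, h5, map_zero]
    rw [key a, key b]
  have h2 := K707.Base.finrank_stalk h y
  rw [Module.finrank_zero_of_subsingleton] at h2
  omega

theorem main (k : Type u) [Field k] [IsAlgClosed k] (X : Scheme.{u}) [X.Over (Spec (CommRingCat.of k))]
    [IsIntegral X] [IsProper (X ↘ (Spec (CommRingCat.of k)))] (hdim : topologicalKrullDim X = 1)
    (hreg : ∀ x : X, IsRegularLocalRing (X.presheaf.stalk x)) (hchar : ringChar k ≠ 2) (hg : Curv2.genus k X = 1)
    (f₁ f₂ : X ⟶ (CohB1.ProjSpace 1 k)) [IsFinite f₁] [IsFinite f₂]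
    (hf₁ : f₁ ≫ CohB1.ProjSpace.toSpec 1 k = (X ↘ (Spec (CommRingCat.of k)))) (hf₂ : f₂ ≫ CohB1.ProjSpace.toSpec 1 k = (X ↘ (Spec (CommRingCat.of k))))
    (hd₁ : FlatMod.IsFinLocFreeOfRank 2 ((Scheme.Modules.pushforward f₁).obj (Coh.structureModule X)))
    (hd₂ : FlatMod.IsFinLocFreeOfRank 2 ((Scheme.Modules.pushforward f₂).obj (Coh.structureModule X))) :
    ∃ (σ : X ≅ X) (τ : (CohB1.ProjSpace 1 k) ≅ (CohB1.ProjSpace 1 k)), σ.hom ≫ (X ↘ (Spec (CommRingCat.of k))) = (X ↘ (Spec (CommRingCat.of k))) ∧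
      τ.hom ≫ CohB1.ProjSpace.toSpec 1 k = CohB1.ProjSpace.toSpec 1 k ∧ σ.hom ≫ f₂ = f₁ ≫ τ.hom := by
  have hX : Reg X := ⟨hdim, hreg⟩
  have hint := Lefpen.H717.ProjIrr.isIntegral_projSpace 1 k
  have hO := K318.P1Num.isInvertible_twist k 1
  have hdeg : ∀ (f : X ⟶ CohB1.ProjSpace 1 k) [IsFinite f], f ≫ CohB1.ProjSpace.toSpec 1 k = (X ↘ (Spec (CommRingCat.of k))) →
      FlatMod.IsFinLocFreeOfRank 2 ((Scheme.Modules.pushforward f).obj (Coh.structureModule X)) →
      deg k X (mk _ (Fdesc.LocGen.isInvertible_pullback f hO)) = 2 := by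
    intro f _ hf hd
    have : IsLocallyNoetherian X := LocallyOfFiniteType.isLocallyNoetherian (X ↘ Spec (CommRingCat.of k))
    have h1 := Dix.EtMinE.curveDeg_pullback_finite k (Models.H58.P1Model.topologicalKrullDim_P1 k) f hf _ hO
    rw [K707.Base.finrank_stalk hd, Dix.InterNum.curveDeg_eq k X hdim,
      Dix.InterNum.curveDeg_eq k _ (Models.H58.P1Model.topologicalKrullDim_P1 k), K318.P1Num.deg_twist] at h1
    rw [deg_mk k X hdim, h1]
    norm_num
  have hinj : ∀ (f : X ⟶ CohB1.ProjSpace 1 k) [Surjective f] [QuasiCompact f],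
      Function.Injective (pT f (M := Twist.twistProjSpace 1 k 1)) := by
    intro f _ _
    have h1 : Function.Injective (pTHom f (Twist.twistProjSpace 1 k 1)) := by
      rw [injective_iff_map_eq_zero]
      intro s hs
      exact K318.FinDeg.pullSec_injective f (K318.FinDeg.app_injective f) hO s hs
    exact h1
  have hs₁ := surjective_of_rank f₁ (by norm_num) hd₁
  have hs₂ := surjective_of_rank f₂ (by norm_num) hd₂
  obtain ⟨σ, hσ, hpull⟩ := K320.GenusOne.exists_translation k X hX hg _ _ (hdeg f₁ hf₁ hd₁) (hdeg f₂ hf₂ hd₂)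
  rw [pull_mk, mk_eq_iff] at hpull
  obtain ⟨e⟩ := hpull
  have hW : Module.finrank k (Coh.HH X ((Scheme.Modules.pullback f₁).obj (Twist.twistProjSpace 1 k 1)) 0) = 1 + 1 := by
    let C := cd k X hX
    let a := Additive.ofMul (mk _ (Fdesc.LocGen.isInvertible_pullback f₁ hO))
    have h1 : C.deg a = 2 := hdeg f₁ hf₁ hd₁
    have h2 : C.g = 1 := hg
    have h3 := C.deg_K
    have h4 := C.rr a
    have h5 : C.h (C.K - a) = 0 := C.h_neg _ (by rw [map_sub, h1, h3, h2]; norm_num)
    rw [h5, h1, h2] at h4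
    have h6 : C.h a = 2 := by push_cast at h4; omega
    rw [← h_mk k X 0 (Fdesc.LocGen.isInvertible_pullback f₁ hO)]
    exact h6
  have hσs : Surjective (σ.hom ≫ f₂) := inferInstance
  obtain ⟨τ, hτ, hτ'⟩ := K320.ProjSame.exists_aut_of_iso k 1 f₁ (σ.hom ≫ f₂) hf₁ (by rw [Category.assoc, hf₂, hσ])
    ((Scheme.Modules.pullbackComp σ.hom f₂).symm.app _ ≪≫ e) hW (hinj f₁) (hinj _)
  exact ⟨σ, τ, hσ, hτ, hτ'.symm⟩

end

attribute [-instance] CategoryTheory.catToReflQuiver

/-- Take an algebraically closed field k of characteristic different from 2 and an elliptic curve X over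
k (integral, proper over k, of dimension one, all local rings regular, of genus dim_k H^1(X, O_X) =
1), and let f₁, f₂ : X → P^1_k be two finite morphisms over k of degree 2 (the direct image of O_X
is locally free of rank 2). Then there are an automorphism σ of X over k and an automorphism τ of
P^1_k over k such that f₂ ∘ σ = τ ∘ f₁. -/
theorem result (k : Type u) [Field k] [IsAlgClosed k] (X : Scheme.{u}) [X.Over (Spec (CommRingCat.of k))]
    [IsIntegral X] [IsProper (X ↘ (Spec (CommRingCat.of k)))] (hdim : topologicalKrullDim X = 1)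
    (hreg : ∀ x : X, IsRegularLocalRing (X.presheaf.stalk x)) (hchar : ringChar k ≠ 2) (hg : Curv2.genus k X = 1)
    (f₁ f₂ : X ⟶ (CohB1.ProjSpace 1 k)) [IsFinite f₁] [IsFinite f₂]
    (hf₁ : f₁ ≫ CohB1.ProjSpace.toSpec 1 k = (X ↘ (Spec (CommRingCat.of k)))) (hf₂ : f₂ ≫ CohB1.ProjSpace.toSpec 1 k = (X ↘ (Spec (CommRingCat.of k))))
    (hd₁ : FlatMod.IsFinLocFreeOfRank 2 ((Scheme.Modules.pushforward f₁).obj (Coh.structureModule X)))
    (hd₂ : FlatMod.IsFinLocFreeOfRank 2 ((Scheme.Modules.pushforward f₂).obj (Coh.structureModule X))) :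
    ∃ (σ : X ≅ X) (τ : (CohB1.ProjSpace 1 k) ≅ (CohB1.ProjSpace 1 k)), σ.hom ≫ (X ↘ (Spec (CommRingCat.of k))) = (X ↘ (Spec (CommRingCat.of k))) ∧
      τ.hom ≫ CohB1.ProjSpace.toSpec 1 k = CohB1.ProjSpace.toSpec 1 k ∧ σ.hom ≫ f₂ = f₁ ≫ τ.hom := by
  exact main k X hdim hreg hchar hg f₁ f₂ hf₁ hf₂ hd₁ hd₂

end Groth.Agent.S11351
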