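import Groth.Statements.S11353
import Groth.Agent.Curves.K320.DegTools
-- import your own Groth.Agent.* helpers here

set_option autoImplicit false
universe u
open CategoryTheory CategoryTheory.Limits AlgebraicGeometry
open Curves

namespace Groth.Agent.S11353

open Groth.Agent.Fdesc.LocGen Groth.Agent.CurvesB.HZero Groth.Agent.VarietyA.EulerLES
open Groth.Agent.Ega2

/-- an invertible direct summand of a normalized module has degree `≤ 0` -/
theorem deg_summand_le (k : Type u) [Field k] (C : Scheme.{u}) [C.Over (Spec (CommRingCat.of k))]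
    [IsIntegral C] [IsProper (C ↘ (Spec (CommRingCat.of k)))] (hdimC : topologicalKrullDim C = 1)
    (E N : C.Modules) (hN : PicF.IsInvertible N) (i : N ⟶ E) (p : E ⟶ N) (hip : i ≫ p = 𝟙 N)
    (hneg : ∀ M : C.Modules, PicF.IsInvertible M → Curv2.deg k C M 1 < 0 → Subsingleton (Coh.HH C (CohB1.tensorMod E M) 0)) :
    Curv2.deg k C N 1 ≤ 0 := by
  by_contra hlt
  obtain ⟨M, hM, ⟨e⟩⟩ := Groth.Agent.Grpsch.PicGrp.exists_inverse hN
  have hdM := K320.DegTools.deg_inverse k hdimC.le hN hM ⟨e⟩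
  have h1 := hneg M hM (by omega)
  have h2 : Subsingleton (Coh.HH C (CohB1.tensorMod N M) 0) := by
    have hc : Tens.mapT i (𝟙 M) ≫ Tens.mapT p (𝟙 M) = 𝟙 (CohB1.tensorMod N M) := by
      rw [← Tens.mapT_comp, hip, Category.comp_id, Tens.mapT_id]
    have hinj : Function.Injective (mapΓ (Tens.mapT i (𝟙 M)) 0) := by
      have h3 := mapΓ_comp (Tens.mapT i (𝟙 M)) (Tens.mapT p (𝟙 M)) 0
      rw [hc, mapΓ_id] at h3
      intro a b hab
      have h4 := congr($h3 a)
      have h5 := congr($h3 b)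
      simp only [LinearMap.id_coe, id_eq, LinearMap.coe_comp, Function.comp_apply] at h4 h5
      rw [h4, hab, ← h5]
    exact hinj.subsingleton
  have h3 : Subsingleton (Coh.HH C (Coh.structureModule C) 0) := ((equivΓ e 0).symm.injective).subsingleton
  exact not_nontrivial_iff_subsingleton.2 h3 (K320.DegTools.nontrivial_H0_structure)

/-- Let C be a curve over an algebraically closed field k (integral, proper over k, of dimension one,
all local rings regular) and E a decomposable locally free sheaf of rank 2 — E ≅ L₁ ⊕ L₂ with L₁, L₂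
invertible — which is normalized: H^0(C, E) ≠ 0 while H^0(C, E ⊗ M) = 0 for every invertible M of
negative degree. Then E ≅ O_C ⊕ L for an invertible L with deg L ≤ 0; in particular e = -deg E ≥ 0. -/
theorem result (k : Type u) [Field k] [IsAlgClosed k] (C : Scheme.{u}) [C.Over (Spec (CommRingCat.of k))]
    [IsIntegral C] [IsProper (C ↘ (Spec (CommRingCat.of k)))] (hdimC : topologicalKrullDim C = 1)
    (hregC : ∀ x : C, IsRegularLocalRing (C.presheaf.stalk x))
    (E L₁ L₂ : C.Modules) (hL₁ : PicF.IsInvertible L₁) (hL₂ : PicF.IsInvertible L₂) (hE : Nonempty (E ≅ L₁ ⊞ L₂))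
    (hn0 : Nontrivial (Coh.HH C E 0))
    (hneg : ∀ M : C.Modules, PicF.IsInvertible M → Curv2.deg k C M 1 < 0 → Subsingleton (Coh.HH C (CohB1.tensorMod E M) 0)) :
    ∃ L : C.Modules, PicF.IsInvertible L ∧ Curv2.deg k C L 1 ≤ 0 ∧ Nonempty (E ≅ Coh.structureModule C ⊞ L) := by
  obtain ⟨e⟩ := hE
  have d1 : Curv2.deg k C L₁ 1 ≤ 0 := deg_summand_le k C hdimC E L₁ hL₁ (biprod.inl ≫ e.inv) (e.hom ≫ biprod.fst)
    (by simp) hneg
  have d2 : Curv2.deg k C L₂ 1 ≤ 0 := deg_summand_le k C hdimC E L₂ hL₂ (biprod.inr ≫ e.inv) (e.hom ≫ biprod.snd)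
    (by simp) hneg
  have h : Nontrivial (Coh.HH C L₁ 0) ∨ Nontrivial (Coh.HH C L₂ 0) := by
    by_contra hcon
    push Not at hcon
    obtain ⟨s1, s2⟩ := hcon
    obtain ⟨x, hx⟩ := exists_ne (0 : Coh.HH C E 0)
    apply hx
    apply (equivΓ e 0).injective
    rw [map_zero]
    have h1 : mapΓ (biprod.fst ≫ biprod.inl + biprod.snd ≫ biprod.inr : L₁ ⊞ L₂ ⟶ L₁ ⊞ L₂) 0 (equivΓ e 0 x) =
        equivΓ e 0 x := by
      rw [biprod.total, mapΓ_id]
      rfl
    rw [← h1, mapΓ_add, mapΓ_comp, mapΓ_comp, LinearMap.add_apply, LinearMap.comp_apply, LinearMap.comp_apply,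
      Subsingleton.elim (mapΓ (biprod.fst : L₁ ⊞ L₂ ⟶ L₁) 0 (equivΓ e 0 x)) 0,
      Subsingleton.elim (mapΓ (biprod.snd : L₁ ⊞ L₂ ⟶ L₂) 0 (equivΓ e 0 x)) 0, map_zero, map_zero, add_zero]
  rcases h with h | h
  · obtain ⟨f⟩ := K320.DegTools.nonempty_iso_structure k hdimC hL₁ h d1
    exact ⟨L₂, hL₂, d2, ⟨e ≪≫ biprod.mapIso f (Iso.refl _)⟩⟩
  · obtain ⟨f⟩ := K320.DegTools.nonempty_iso_structure k hdimC hL₂ h d2
    exact ⟨L₁, hL₁, d1, ⟨e ≪≫ biprod.braiding L₁ L₂ ≪≫ biprod.mapIso f (Iso.refl _)⟩⟩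

end Groth.Agent.S11353
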