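import Groth.Statements.S11357
import Groth.Agent.Curves.K420.FittSeq
import Groth.Agent.Curves.K420.OmSeq
import Groth.Agent.Curves.K319.Setup
import Groth.Agent.SDiv.K474.FittOmega
import Groth.Agent.JacVar.K532.CurvePic
import Groth.Agent.PerfB.LimModInv

set_option autoImplicit false
universe u
open CategoryTheory CategoryTheory.Limits AlgebraicGeometry
open Curves

namespace Groth.Agent.S11357

/-- Let f : X → Y be a finite morphism over k of curves over an algebraically closed field k (integral,
proper over k, of dimension one, all local rings regular), sending the generic point to the generic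
point, with K(X)/K(Y) separable, and let R be the ramification divisor Σ_P length(Ω_{X/Y,P}) · P,
whose ideal sheaf I_R is the 0-th Fitting ideal of the torsion sheaf Ω_{X/Y} (at P it is m_P to the
power length(Ω_{X/Y,P})). Then K_X is linearly equivalent to f^* K_Y + R: Ω_{X/k} ⊗ I_R ≅ f^*
Ω_{Y/k} (existence of an isomorphism, i.e. equality of classes in Pic X). -/
theorem result (k : Type u) [Field k] [IsAlgClosed k] (X : Scheme.{u}) [X.Over (Spec (CommRingCat.of k))]
    [IsIntegral X] [IsProper (X ↘ (Spec (CommRingCat.of k)))] (hdimX : topologicalKrullDim X = 1)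
    (hregX : ∀ x : X, IsRegularLocalRing (X.presheaf.stalk x))
    (Y : Scheme.{u}) [Y.Over (Spec (CommRingCat.of k))]
    [IsIntegral Y] [IsProper (Y ↘ (Spec (CommRingCat.of k)))] (hdimY : topologicalKrullDim Y = 1)
    (hregY : ∀ x : Y, IsRegularLocalRing (Y.presheaf.stalk x))
    (f : X ⟶ Y) [IsFinite f] (hf : f ≫ (Y ↘ (Spec (CommRingCat.of k))) = X ↘ (Spec (CommRingCat.of k)))
    (e : f (genericPoint X) = genericPoint Y) :
    letI := ((Y.presheaf.stalkSpecializes (specializes_of_eq e) ≫ f.stalkMap (genericPoint X)).hom).toAlgebra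
    Algebra.IsSeparable Y.functionField X.functionField →
      Nonempty (CohB1.tensorMod (Omega.sheaf (X ↘ (Spec (CommRingCat.of k)))) (ClSub.idealMod (Fitt.sheafIdeal (Omega.sheaf f) 0)) ≅
        (Scheme.Modules.pullback f).obj (Omega.sheaf (Y ↘ (Spec (CommRingCat.of k))))) := by
  intro hsep
  have hsX := K319.Setup.smooth k X hregX
  have hsY := K319.Setup.smooth k Y hregY
  have hCX := K532.CurvePic.isCurve_of_isAlgClosed k X (K319.Setup.isSmoothProperCurve k X hdimX hregX)
  have hCY := K532.CurvePic.isCurve_of_isAlgClosed k Y (K319.Setup.isSmoothProperCurve k Y hdimY hregY)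
  have hsm := K420.OmSeq.formallySmooth_functionField
    (Y.presheaf.stalkSpecializes (specializes_of_eq e) ≫ f.stalkMap (genericPoint X)) hsep
  obtain ⟨a, b, w, hS⟩ := K420.OmSeq.exists_shortExact hf e hsm
  have h1 : PicF.IsInvertible ((Scheme.Modules.pullback f).obj (Omega.sheaf (Y ↘ (Spec (CommRingCat.of k))))) :=
    PerfB.LimMod.isInvertible_pullback f (K532.CurvePic.isInvertible_omega hCY)
  have h2 : PicF.IsInvertible (Omega.sheaf (X ↘ (Spec (CommRingCat.of k)))) := K532.CurvePic.isInvertible_omega hCX
  exact K420.FittSeq.nonempty_iso hS h1 h2 (Vancyc.H878.OmegaRank.isQCoh_omega f) (SDiv.K474.FittOmega.isFT_omega f)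

end Groth.Agent.S11357
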