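import Groth.Statements.S11358
import Groth.Agent.CAlg.K80.GorFactor
import Groth.Agent.CalgB.CohenSq2

set_option autoImplicit false
universe u
open CAlg

namespace Groth.Agent.S11358

/-- A local homomorphism R → S of Artinian local rings factors as R → R' → S with R' Artinian local, R →
R' flat and local with Gorenstein fibre ring R'/m_R R', and R' → S surjective. -/
theorem result (R S : Type u) [CommRing R] [CommRing S] [IsArtinianRing R] [IsLocalRing R] [IsArtinianRing S] [IsLocalRing S] [Algebra R S] [IsLocalHom (algebraMap R S)] : ∃ (R' : Type u) (_ : CommRing R') (_ : Algebra R R'), IsArtinianRing R' ∧ IsLocalRing R' ∧ Module.Flat R R' ∧ IsLocalHom (algebraMap R R') ∧ LocCoh.IsGorensteinLocalRing (R' ⧸ (IsLocalRing.maximalIdeal R).map (algebraMap R R')) ∧ ∃ g : R' →ₐ[R] S, Function.Surjective g := by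
  have h1 := K80.GorFactor.isAdicComplete R
  have h2 := K80.GorFactor.isAdicComplete S
  obtain ⟨Λ, Λ', _, _, _, _, n, m, ρ, σ, τ, _, _, _, hρ, hσ, hcomm, _, hflat, hreg, hdim⟩ :=
    Groth.Agent.CalgB.CohenSq2.exists_square (A := R) (B := S)
  letI : Algebra (MvPowerSeries (Fin n) Λ) (MvPowerSeries (Fin (n + m)) Λ') := τ.toAlgebra
  letI : Algebra (MvPowerSeries (Fin n) Λ) R := ρ.toAlgebra
  letI : Algebra (MvPowerSeries (Fin n) Λ) S := ((algebraMap R S).comp ρ).toAlgebra
  haveI : IsScalarTower (MvPowerSeries (Fin n) Λ) R S := IsScalarTower.of_algebraMap_eq' rfl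
  haveI : Module.Flat (MvPowerSeries (Fin n) Λ) (MvPowerSeries (Fin (n + m)) Λ') := hflat
  let σ' : MvPowerSeries (Fin (n + m)) Λ' →ₐ[MvPowerSeries (Fin n) Λ] S :=
    { σ with commutes' := fun x ↦ RingHom.congr_fun hcomm x }
  exact K80.GorFactor.fact_of_square (P := MvPowerSeries (Fin n) Λ)
    (Q := MvPowerSeries (Fin (n + m)) Λ') hρ σ' hσ hreg m hdim

end Groth.Agent.S11358
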