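import Groth.Statements.S11361
import Groth.Agent.Dual.K173.CMConv
import Groth.Agent.Dual.K173.ShriekExt

set_option autoImplicit false
universe u
open CategoryTheory
open scoped TensorProduct
open Dual

namespace Groth.Agent.S11361

/-- Let A be a Noetherian ring, n ≤ N, P = A[t_1, …, t_N], I an ideal of P with B = P/I flat over A.
Then all fibre rings B ⊗_A κ(p) are Cohen–Macaulay with every irreducible component of dimension n
(every minimal prime of the fibre ring has coheight n in its spectrum) if and only if Ext^j_P(B, P)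
vanishes for j ≠ N − n and Ext^{N−n}_P(B, P) is A-flat. (The published statement is for a flat
morphism of locally Noetherian schemes factoring through a closed immersion into a separated smooth
scheme, with f^! of the structure sheaf in place of the Ext modules; this row is the affine case of
a closed subscheme of affine N-space, where the two agree up to a shift and a twist by the trivial
canonical module.) -/
theorem result (A : Type u) [CommRing A] [IsNoetherianRing A] (N n : ℕ) (hnN : n ≤ N) (I : Ideal (MvPolynomial (Fin N) A)) [Module.Flat A (MvPolynomial (Fin N) A ⧸ I)] : (∀ p : PrimeSpectrum A, LocCoh.IsCohenMacaulayRing ((MvPolynomial (Fin N) A ⧸ I) ⊗[A] p.asIdeal.ResidueField) ∧ ∀ Q : PrimeSpectrum ((MvPolynomial (Fin N) A ⧸ I) ⊗[A] p.asIdeal.ResidueField), Q.asIdeal ∈ minimalPrimes ((MvPolynomial (Fin N) A ⧸ I) ⊗[A] p.asIdeal.ResidueField) → Order.coheight Q = (n : ℕ∞)) ↔ ((∀ j : ℕ, j ≠ N - n → Subsingleton (Abelian.Ext (ModuleCat.of (MvPolynomial (Fin N) A) (MvPolynomial (Fin N) A ⧸ I)) (ModuleCat.of (MvPolynomial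 (Fin N) A) (MvPolynomial (Fin N) A)) j)) ∧ Module.Flat A (RestrictScalars A (MvPolynomial (Fin N) A) (Abelian.Ext (ModuleCat.of (MvPolynomial (Fin N) A) (MvPolynomial (Fin N) A ⧸ I)) (ModuleCat.of (MvPolynomial (Fin N) A) (MvPolynomial (Fin N) A)) (N - n)))) := by
  have hL : DRing.HasLBaseChange (algebraMap A (MvPolynomial (Fin N) A)) :=
    Groth.Agent.LoccohB.LBC.hasLBaseChange _
  have hNoeP : IsNoetherianRing (MvPolynomial (Fin N) A) := inferInstance
  have hsurj : Function.Surjective (K173.ShriekExt.psi I) := Ideal.Quotient.mk_surjective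
  let adj := Groth.Agent.LoccohB.RAdj.coextAdj (K173.ShriekExt.psi I).toRingHom
  have hc : (N : ℤ) + -(n : ℤ) = ((N - n : ℕ) : ℤ) := by omega
  have key := fun (i : ℤ) (j : ℕ) (h : (N : ℤ) + i = j) => K173.ShriekExt.shriekExt I adj i j h
  constructor
  · intro h
    obtain ⟨h1, -, h3⟩ := K173.CMConv.forward N (K173.ShriekExt.psi I) hsurj
      (Groth.Agent.LoccohB.RAdj.RCoext (K173.ShriekExt.psi I).toRingHom) adj n
      (fun p => (h p).1) (fun p => (h p).2)
    refine ⟨fun j hj => ?_, ?_⟩
    · have h4 := h1 (j - N) (by omega)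
      exact (key (j - N) j (by omega)).e.toEquiv.subsingleton_congr.1 h4
    · exact K173.ShriekExt.flat_of_semiEquiv (K173.ShriekExt.psi I) (key _ _ hc) h3
  · rintro ⟨h1, -⟩
    refine K173.CMConv.backward N (K173.ShriekExt.psi I) hsurj
      (Groth.Agent.LoccohB.RAdj.RCoext (K173.ShriekExt.psi I).toRingHom) adj n fun i hi => ?_
    rcases lt_or_ge ((N : ℤ) + i) 0 with h | h
    · exact K173.ShriekExt.subsingleton_HD_of_neg I adj i h
    · obtain ⟨j, hj⟩ := Int.eq_ofNat_of_zero_le h
      exact (key i j hj).e.toEquiv.subsingleton_congr.2 (h1 j (by omega))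

end Groth.Agent.S11361
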