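import Groth.Statements.S11362
import Groth.Agent.Dual.K173.ExtCM

set_option autoImplicit false
universe u
open CategoryTheory
open scoped TensorProduct
open Dual

namespace Groth.Agent.S11362

/-- Let A be any commutative ring, n ≤ N, P = A[t_1, …, t_N], I a finitely generated ideal of P and B =
P/I, flat over A with every fibre ring B ⊗_A κ(p) Cohen–Macaulay and all its minimal primes of
coheight n (all irreducible components of dimension n). Then Ext^j_P(B, P) vanishes for j ≠ N − n,
and Ext^{N−n}_P(B, P) is A-flat and finitely presented over P. (The published statement is for a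
closed subscheme of a smooth scheme of relative dimension N over an arbitrary base, with sheaf Ext
into the canonical module or the structure sheaf, and adds compatibility with base change; this row
is the affine-space case with the structure sheaf and does not restate the base-change assertion.) -/
theorem result (A : Type u) [CommRing A] (N n : ℕ) (hnN : n ≤ N) (I : Ideal (MvPolynomial (Fin N) A)) (hI : I.FG) [Module.Flat A (MvPolynomial (Fin N) A ⧸ I)] (hCM : ∀ p : PrimeSpectrum A, LocCoh.IsCohenMacaulayRing ((MvPolynomial (Fin N) A ⧸ I) ⊗[A] p.asIdeal.ResidueField)) (hdim : ∀ p : PrimeSpectrum A, ∀ Q : PrimeSpectrum ((MvPolynomial (Fin N) A ⧸ I) ⊗[A] p.asIdeal.ResidueField), Q.asIdeal ∈ minimalPrimes ((MvPolynomial (Fin N) A ⧸ I) ⊗[A] p.asIdeal.ResidueField) → Order.coheight Q = (n : ℕ∞)) : (∀ j : ℕ, j ≠ N - n → Subsingleton (Abelian.Ext (ModuleCat.of (MvPolynomial (Fin N) A) (MvPolynomial (Fin N) A ⧸ I)) (ModuleCat.of (MvPolynomial (Fin N) A) (MvPolynomial (Fin N) A)) j))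 ∧ Module.Flat A (RestrictScalars A (MvPolynomial (Fin N) A) (Abelian.Ext (ModuleCat.of (MvPolynomial (Fin N) A) (MvPolynomial (Fin N) A ⧸ I)) (ModuleCat.of (MvPolynomial (Fin N) A) (MvPolynomial (Fin N) A)) (N - n))) ∧ Module.FinitePresentation (MvPolynomial (Fin N) A) (Abelian.Ext (ModuleCat.of (MvPolynomial (Fin N) A) (MvPolynomial (Fin N) A ⧸ I)) (ModuleCat.of (MvPolynomial (Fin N) A) (MvPolynomial (Fin N) A)) (N - n)) := by
  let _ : ∀ (R S : Type u) [CommRing R] [CommRing S] [Algebra R S],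
      Algebra (MvPolynomial (Fin N) R) (MvPolynomial (Fin N) S) := fun R S _ _ _ =>
    MvPolynomial.algebraMvPolynomial
  obtain ⟨A₀, _, _, I₀, hN₀, hfl₀, hI₀⟩ := K173.PolyModel.exists_flat_model I hI
  have hcm : ∀ q, K173.PolyModel.CMn n A q :=
    K173.ExtCM.cmn_of_fibres (B := MvPolynomial (Fin N) A ⧸ I) n hCM hdim
  clear hCM hdim hI
  subst hI₀
  obtain ⟨A₂, _, _, _, _, hN₂, h₂⟩ := K173.PolyModel.exists_cm_stage A₀ n I₀ hcm
  have hfl₂ : Module.Flat A₂ (MvPolynomial (Fin N) A₂ ⧸ K173.PolyModel.ext N A₀ A₂ I₀) := by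
    have h0 := K173.PolyModel.scalarTower N A₀ A₂ I₀
    have h1 := K173.PolyModel.isPushout_quot N A₀ A₂ I₀
    exact K588.QBase.flat_of_isPushout A₀ (MvPolynomial (Fin N) A₀ ⧸ I₀) A₂
      (MvPolynomial (Fin N) A₂ ⧸ K173.PolyModel.ext N A₀ A₂ I₀)
  obtain ⟨h3, h4⟩ := K173.ExtCM.noeth A₂ N n hnN (K173.PolyModel.ext N A₀ A₂ I₀) h₂
  have h5 : ∀ j : ℕ, Module.Flat A₂ (RestrictScalars A₂ (MvPolynomial (Fin N) A₂)
      (Abelian.Ext (ModuleCat.of (MvPolynomial (Fin N) A₂)
        (MvPolynomial (Fin N) A₂ ⧸ K173.PolyModel.ext N A₀ A₂ I₀))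
        (ModuleCat.of (MvPolynomial (Fin N) A₂) (MvPolynomial (Fin N) A₂)) j)) := by
    intro j
    by_cases hj : j = N - n
    · rw [hj]
      exact h4
    · have := h3 j hj
      have : Subsingleton (RestrictScalars A₂ (MvPolynomial (Fin N) A₂)
        (Abelian.Ext (ModuleCat.of (MvPolynomial (Fin N) A₂)
          (MvPolynomial (Fin N) A₂ ⧸ K173.PolyModel.ext N A₀ A₂ I₀))
          (ModuleCat.of (MvPolynomial (Fin N) A₂) (MvPolynomial (Fin N) A₂)) j)) := this
      infer_instance
  have h6 := K173.ExtModel.nonempty_ext_poly A₂ A (K173.PolyModel.ext N A₀ A₂ I₀)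
    fun j => h5 (j + 1)
  rw [K173.PolyModel.ext_ext] at h6
  refine ⟨fun j hj => ?_, ?_, ?_⟩
  · have := h3 j hj
    exact (h6 j).some.symm.toEquiv.subsingleton
  · exact K173.ExtBC.flat_restrictScalars_congr (h6 _).some
      (K173.ExtModel.flat_baseChange (A := A₂) (P := MvPolynomial (Fin N) A₂) _ h4)
  · have h7 : Module.FinitePresentation (MvPolynomial (Fin N) A₂)
        (Abelian.Ext (ModuleCat.of (MvPolynomial (Fin N) A₂)
          (MvPolynomial (Fin N) A₂ ⧸ K173.PolyModel.ext N A₀ A₂ I₀))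
          (ModuleCat.of (MvPolynomial (Fin N) A₂) (MvPolynomial (Fin N) A₂)) (N - n)) :=
      Module.finitePresentation_of_finite _ _
    exact Module.FinitePresentation.of_equiv (h6 _).some

end Groth.Agent.S11362
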