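import Groth.Statements.S11365
import Groth.Agent.Dual.K173.InvOne
import Groth.Agent.Dual.K173.SemiEq
import Groth.Agent.S1786

set_option autoImplicit false
universe u
open CategoryTheory
open scoped TensorProduct
open Dual

namespace Groth.Agent.S11365

/-- Let A be a Noetherian ring, n ≤ N, P = A[t_1, …, t_N], I an ideal of P with B = P/I flat over A, and
suppose Ext^j_P(B, P) vanishes for j ≠ N − n while Ext^{N−n}_P(B, P) is A-flat. Then Ext^{N−n}_P(B,
P) is P-isomorphic to an invertible B-module if and only if all fibre rings B ⊗_A κ(p) are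
Gorenstein. (The published statement is for the degree −n cohomology of f^! of the structure sheaf
of a CM morphism of locally Noetherian schemes with pure relative dimension n; this row is the
affine case of a closed subscheme of affine N-space.) -/
theorem result (A : Type u) [CommRing A] [IsNoetherianRing A] (N n : ℕ) (hnN : n ≤ N) (I : Ideal (MvPolynomial (Fin N) A)) [Module.Flat A (MvPolynomial (Fin N) A ⧸ I)] (hvan : ∀ j : ℕ, j ≠ N - n → Subsingleton (Abelian.Ext (ModuleCat.of (MvPolynomial (Fin N) A) (MvPolynomial (Fin N) A ⧸ I)) (ModuleCat.of (MvPolynomial (Fin N) A) (MvPolynomial (Fin N) A)) j)) (hflat : Module.Flat A (RestrictScalars A (MvPolynomial (Fin N) A) (Abelian.Ext (ModuleCat.of (MvPolynomial (Fin N) A) (MvPolynomial (Fin N) A ⧸ I)) (ModuleCat.of (MvPolynomial (Fin N) A) (MvPolynomial (Fin N) A)) (N - n)))) : (∃ (L : Type u) (_ : AddCommGroup L) (_ : Module (MvPolynomial (Fin N) A ⧸ I) L), Module.Invertible (MvPolynomial (Fin N) A ⧸ I) L ∧ Nonempty (RestrictScalars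 (MvPolynomial (Fin N) A) (MvPolynomial (Fin N) A ⧸ I) L ≃ₗ[(MvPolynomial (Fin N) A)] Abelian.Ext (ModuleCat.of (MvPolynomial (Fin N) A) (MvPolynomial (Fin N) A ⧸ I)) (ModuleCat.of (MvPolynomial (Fin N) A) (MvPolynomial (Fin N) A)) (N - n))) ↔ ∀ p : PrimeSpectrum A, LocCoh.IsGorensteinRing ((MvPolynomial (Fin N) A ⧸ I) ⊗[A] p.asIdeal.ResidueField) := by
  have hL : DRing.HasLBaseChange (algebraMap A (MvPolynomial (Fin N) A)) :=
    Groth.Agent.LoccohB.LBC.hasLBaseChange _
  have hL2 : ∀ f : (MvPolynomial (Fin N) A ⧸ I), DRing.HasLBaseChange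
      (algebraMap (MvPolynomial (Fin N) A ⧸ I) (Localization.Away f)) := fun f =>
    Groth.Agent.LoccohB.LBC.hasLBaseChange _
  have hNoeP : IsNoetherianRing (MvPolynomial (Fin N) A) := inferInstance
  have hsurj : Function.Surjective (K173.ShriekExt.psi I) := Ideal.Quotient.mk_surjective
  let adj := Groth.Agent.LoccohB.RAdj.coextAdj (K173.ShriekExt.psi I).toRingHom
  have hc : (N : ℤ) + -(n : ℤ) = ((N - n : ℕ) : ℤ) := by omega
  have key := fun (i : ℤ) (j : ℕ) (h : (N : ℤ) + i = j) => K173.ShriekExt.shriekExt I adj i j h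
  have hK : ∀ i : ℤ, i ≠ -(n : ℤ) → Subsingleton (Dual.HD (MvPolynomial (Fin N) A ⧸ I)
      (Dual2.shriekVia N (Groth.Agent.LoccohB.RAdj.RCoext (K173.ShriekExt.psi I).toRingHom)
        (Dual.inD A A)) i) := by
    intro i hi
    rcases lt_or_ge ((N : ℤ) + i) 0 with h | h
    · exact K173.ShriekExt.subsingleton_HD_of_neg I adj i h
    · obtain ⟨j, hj⟩ := Int.eq_ofNat_of_zero_le h
      exact (key i j hj).e.toEquiv.subsingleton_congr.2 (hvan j (by omega))
  have hfin := (Groth.Agent.S1801.result A (MvPolynomial (Fin N) A ⧸ I) N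
    (K173.ShriekExt.psi I) hsurj
    (Groth.Agent.LoccohB.RAdj.RCoext (K173.ShriekExt.psi I).toRingHom) adj).2.1 (-(n : ℤ))
  rw [Groth.Agent.S1786.result A (MvPolynomial (Fin N) A ⧸ I) N
    (K173.ShriekExt.psi I) hsurj
    (Groth.Agent.LoccohB.RAdj.RCoext (K173.ShriekExt.psi I).toRingHom) adj,
    K173.InvOne.iff_invertible _ (-(n : ℤ)) hK]
  have e := key (-(n : ℤ)) (N - n) hc
  constructor
  · rintro ⟨L, _, _, hinv, ⟨e'⟩⟩
    have e2 := K173.ShriekExt.linearEquiv_of_semi e (fun _ => rfl) hsurj e'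
    exact Module.Invertible.congr e2.symm
  · intro h
    exact ⟨_, _, _, h, ⟨K173.ShriekExt.restrictEquiv_of_semi e (fun _ => rfl)⟩⟩

end Groth.Agent.S11365
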