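import Groth.Statements.S11374
import Groth.Agent.Variety.K948.KleimanChev
import Groth.Agent.S2324

set_option autoImplicit false
universe u
open CategoryTheory CategoryTheory.Limits AlgebraicGeometry TopologicalSpace
open Variety

namespace Groth.Agent.S11374

/-- Let X be proper and integral over an algebraically closed field k, with all local rings O_{X,x}
regular. Then X carries an ample invertible O_X-module (for X proper over k this says X is
projective over k) if and only if every finite set of closed points of X is contained in some affine
open subset of X. -/
theorem result (k : Type u) [Field k] [IsAlgClosed k] (X : Scheme.{u})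
    [X.Over (Spec (CommRingCat.of k))] [IsProper (X ↘ (Spec (CommRingCat.of k)))] [IsIntegral X]
    (hreg : ∀ x : X, IsRegularLocalRing (X.presheaf.stalk x)) :
    (∃ L : X.Modules, CohB1.IsAmple L) ↔
      ∀ S : Set X, S.Finite → (∀ x ∈ S, IsClosed ({x} : Set X)) →
        ∃ U : X.Opens, IsAffineOpen U ∧ S ⊆ (U : Set X) := by
  constructor
  · rintro ⟨L, hL⟩ S hS -
    have := Fga.HypSec.isNoetherian k X
    have := Fga.HypSec.isSeparated k X
    obtain ⟨n, s, h1, -, h2⟩ := S2324.result X L hL S hS ⊤ (fun _ _ => trivial)
    exact ⟨_, h2, h1⟩
  · exact K948.KleimanChev.exists_isAmple k X hreg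

end Groth.Agent.S11374
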