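import Groth.Statements.S11379
import Groth.Agent.Lef.K184.CdLef

set_option autoImplicit false
universe u
open CategoryTheory CategoryTheory.Limits AlgebraicGeometry TopologicalSpace
open Lef

namespace Groth.Agent.S11379

/-- Let X be proper and integral over an algebraically closed field k, of dimension n, with all local
rings regular and carrying an ample invertible O_X-module; let Y be the closed subscheme of a
quasi-coherent ideal 𝓘 and U = X ∖ Y. Then the following are equivalent: (i) H^i(U, F) = 0 for every
coherent O_U-module F and every i ≥ n - 1 (cohomological dimension of U less than n - 1); (ii) the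
Lefschetz condition Lef(X, Y) holds (for every open V ⊇ Y and finite locally free O_V-module D,
Hom(D, O_V) → lim_m Hom(D, O_V/𝓘^{m+1}) is bijective) and Y meets the support of every effective
Cartier divisor of X other than the zero divisor. -/
theorem result (k : Type u) [Field k] [IsAlgClosed k] (X : Scheme.{u})
    [X.Over (Spec (CommRingCat.of k))] [IsProper (X ↘ (Spec (CommRingCat.of k)))] [IsIntegral X]
    (hreg : ∀ x : X, IsRegularLocalRing (X.presheaf.stalk x))
    (A : X.Modules) (hA : CohB1.IsAmple A)
    (n : ℕ) (hdim : topologicalKrullDim X = n)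
    (𝓘 : X.IdealSheafData) (U : X.Opens) (hU : (U : Set X) = (𝓘.support : Set X)ᶜ) :
    (∀ F : (U : Scheme.{u}).Modules, Coh.IsCoh F → ∀ i : ℕ, n ≤ i + 1 →
        Subsingleton (Coh.HH (U : Scheme.{u}) F i)) ↔
      (Lef.LefCond X 𝓘 ∧
        ∀ D : X.IdealSheafData, BlowUp.IsEffCartierIdeal D → D ≠ ⊤ →
          ((D.support : Set X) ∩ (𝓘.support : Set X)).Nonempty) := by
  refine ⟨fun h => ⟨K184.CdLef.lefCond_of_vanishing k X hreg A hA n hdim 𝓘 U hU h, fun D hD hDt =>
    K184.CdLef.meets_of_vanishing k X n hdim 𝓘 U hU h D hD hDt⟩, fun h F hF i hi =>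
    K184.CdLef.vanishing_of_lefCond k X hreg A hA n hdim 𝓘 U hU h.1 F hF i hi⟩

end Groth.Agent.S11379
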