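import Groth.Statements.S11380
import Groth.Agent.CohDim.K685.Isol

set_option autoImplicit false
universe u
open CategoryTheory CategoryTheory.Limits AlgebraicGeometry TopologicalSpace
open CohDim

namespace Groth.Agent.S11380

/-- Let X be proper and integral over an algebraically closed field k, of dimension n, with all local
rings regular and carrying an ample invertible O_X-module, let U be an open subscheme and r ≥ 0 such
that H^i(U, F) is finite-dimensional over k for every coherent O_U-module F and every i > r. Then
every irreducible component Z of Y = X ∖ U has dimension at least n - r - 1. -/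
theorem result (k : Type u) [Field k] [IsAlgClosed k] (X : Scheme.{u})
    [X.Over (Spec (CommRingCat.of k))] [IsProper (X ↘ (Spec (CommRingCat.of k)))] [IsIntegral X]
    (hreg : ∀ x : X, IsRegularLocalRing (X.presheaf.stalk x))
    (A : X.Modules) (hA : CohB1.IsAmple A)
    (n : ℕ) (hdim : topologicalKrullDim X = n) (U : X.Opens) (r : ℕ)
    (hq : ∀ F : (U : Scheme.{u}).Modules, Coh.IsCoh F → ∀ i : ℕ, r < i →
      Module.Finite k (Coh.HH (U : Scheme.{u}) F i))
    (Z : Set ((U : Set X)ᶜ : Set X)) (hZ : Z ∈ irreducibleComponents ((U : Set X)ᶜ : Set X)) :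
    (n : WithBot ℕ∞) ≤ topologicalKrullDim Z + ((r + 1 : ℕ) : WithBot ℕ∞) := by
  have hne : Z.Nonempty := hZ.1.nonempty
  have h0 : (0 : WithBot ℕ∞) ≤ topologicalKrullDim Z := by
    have : Nonempty Z := hne.to_subtype
    have hirr : IrreducibleSpace Z := Subtype.irreducibleSpace hZ.1
    have : Nonempty (IrreducibleCloseds Z) := ⟨⟨Set.univ, IrreducibleSpace.isIrreducible_univ Z, isClosed_univ⟩⟩
    exact Order.krullDim_nonneg
  have h1 : topologicalKrullDim Z ≤ n := by
    rw [← hdim]
    exact (topologicalKrullDim_subspace_le _ Z).trans (topologicalKrullDim_subspace_le _ _)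
  obtain ⟨z, hz, -⟩ := K685.Isol.exists_nat_dim n 0 h0 h1
  rw [hz]
  by_contra hlt
  have h2 : z + (r + 1) < n := by
    rw [not_le] at hlt
    exact_mod_cast hlt
  obtain ⟨e, he, F, hF, hnf⟩ := K685.Isol.exists_not_finite_compl (k := k) X n hdim U Z hZ z hz.le (by lia)
  exact hnf (hq F hF e (by lia))

end Groth.Agent.S11380
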