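import Groth.Statements.S11383
import Groth.Agent.Lef.K184.CdLef
import Groth.Agent.Lef.K184.DivCover

set_option autoImplicit false
universe u
open CategoryTheory CategoryTheory.Limits AlgebraicGeometry TopologicalSpace
open Lef

namespace Groth.Agent.S11383

/-- Let X be proper and integral over an algebraically closed field k, of dimension n, with all local
rings regular and carrying an ample invertible O_X-module, and let 𝓘 be a quasi-coherent ideal whose
zero set Y is, as a set, the intersection of the supports of m effective Cartier divisors D_1, …,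
D_m with m + 1 ≤ n, each D_j having an ample invertible module O_X(D_j) (an ample tensor inverse of
its ideal). Then the Lefschetz condition Lef(X, Y) holds. -/
theorem result (k : Type u) [Field k] [IsAlgClosed k] (X : Scheme.{u})
    [X.Over (Spec (CommRingCat.of k))] [IsProper (X ↘ (Spec (CommRingCat.of k)))] [IsIntegral X]
    (hreg : ∀ x : X, IsRegularLocalRing (X.presheaf.stalk x))
    (A : X.Modules) (hA : CohB1.IsAmple A)
    (n : ℕ) (hdim : topologicalKrullDim X = n) (m : ℕ) (hm : m + 1 ≤ n)
    (D : Fin m → X.IdealSheafData) (L : Fin m → X.Modules)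
    (hD : ∀ j, BlowUp.IsEffCartierIdeal (D j)) (hL : ∀ j, ClSub.IsInverseOf (L j) (ClSub.idealMod (D j)))
    (hLa : ∀ j, CohB1.IsAmple (L j))
    (𝓘 : X.IdealSheafData) (hY : (𝓘.support : Set X) = ⋂ j, ((D j).support : Set X)) :
    Lef.LefCond X 𝓘 := by
  have hS := 𝓘.support.isClosed
  let U : X.Opens := ⟨(𝓘.support : Set X)ᶜ, hS.isOpen_compl⟩
  refine K184.CdLef.lefCond_of_vanishing k X hreg A hA n hdim 𝓘 U rfl fun F hF i hi => ?_
  exact K184.DivCover.subsingleton_HH (X ↘ (Spec (CommRingCat.of k))) D L hD hL hLa U
    (by change (𝓘.support : Set X)ᶜ = _; rw [hY]) F hF.1 i (by omega)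

end Groth.Agent.S11383
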