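import Groth.Statements.S11384
import Groth.Agent.Variety.K428.NBMor
import Groth.Agent.Resolve.K373.PicDesc
import Groth.Agent.CohqB.AmpGeneric
import Groth.Agent.S2327
import Groth.Agent.S1297
import Groth.Agent.S1340
import Groth.Agent.Ega3B.ProjProper

set_option autoImplicit false
universe u
open CategoryTheory CategoryTheory.Limits AlgebraicGeometry TopologicalSpace
open Variety

namespace Groth.Agent.S11384

open Groth.Agent.Grpsch.PicGrp Groth.Agent.Dix.IdealModCartier Groth.Agent.Fdesc.LocGen

/-- The classes of the inverses of the ideals of a divisor and of its inverse image. -/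
theorem mk_eq_pull {X X' : Scheme.{u}} (f : X ⟶ X') {D : X.IdealSheafData} {D' : X'.IdealSheafData}
    (hD : BlowUp.IsEffCartierIdeal D) (hD' : BlowUp.IsEffCartierIdeal D') (hc : D'.comap f = D)
    {L : X.Modules} {L' : X'.Modules} (hL : ClSub.IsInverseOf L (ClSub.idealMod D))
    (hL' : ClSub.IsInverseOf L' (ClSub.idealMod D')) (hLi : PicF.IsInvertible L) (hLi' : PicF.IsInvertible L') :
    mk L hLi = pull f (mk L' hLi') := by
  subst hc
  have hI := (isInvertible_of_isInverseOf hL).2
  have hI' := (isInvertible_of_isInverseOf hL').2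
  obtain ⟨θ⟩ := pullback_idealMod f hD' hD
  have h1 : mk L hLi * mk _ hI = 1 := by
    obtain ⟨e⟩ := hL
    rw [mk_mul_mk, mk_eq_one_iff]
    exact ⟨e⟩
  have h2 : mk L' hLi' * mk _ hI' = 1 := by
    obtain ⟨e⟩ := hL'
    rw [mk_mul_mk, mk_eq_one_iff]
    exact ⟨e⟩
  have h3 : pull f (mk _ hI') = mk _ hI := by
    rw [pull_mk]
    exact mk_congr θ
  have h4 := congrArg (pull f) h2
  rw [map_mul, map_one, h3] at h4
  exact mul_right_cancel (h1.trans h4.symm)

theorem backward (k : Type u) [Field k] (X : Scheme.{u})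
    [X.Over (Spec (CommRingCat.of k))] [IsProper (X ↘ (Spec (CommRingCat.of k)))]
    (D : X.IdealSheafData) (hD : BlowUp.IsEffCartierIdeal D)
    (L : X.Modules) (hL : ClSub.IsInverseOf L (ClSub.idealMod D))
    (X' : Scheme.{u}) [X'.Over (Spec (CommRingCat.of k))] (f : X ⟶ X')
    [IsProper (X' ↘ (Spec (CommRingCat.of k)))]
    (hf : f ≫ (X' ↘ (Spec (CommRingCat.of k))) = X ↘ (Spec (CommRingCat.of k)))
    (V : X.Opens) (hV : (D.support : Set X) ⊆ (V : Set X)) [IsOpenImmersion (V.ι ≫ f)]
    (D' : X'.IdealSheafData) (L' : X'.Modules) (hD' : BlowUp.IsEffCartierIdeal D')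
    (hc : D'.comap f = D) (hL' : ClSub.IsInverseOf L' (ClSub.idealMod D')) (hamp : CohB1.IsAmple L') :
    CohB1.IsAmple ((Scheme.Modules.pullback D.subschemeι).obj L) := by
  have hLi := (isInvertible_of_isInverseOf hL).1
  have hLi' := (isInvertible_of_isInverseOf hL').1
  have h1 := mk_eq_pull f hD hD' hc hL hL' hLi hLi'
  have hprop : IsProper ((D.subschemeι ≫ f) ≫ (X' ↘ (Spec (CommRingCat.of k)))) := by
    rw [Category.assoc, hf]
    infer_instance
  have hprop' : IsProper (D.subschemeι ≫ f) := IsProper.of_comp _ (X' ↘ (Spec (CommRingCat.of k)))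
  have hcl : IsClosedImmersion (D.subschemeι ≫ f) :=
    K428.NBTop.isClosedImmersion_comp D.subschemeι f V (by rw [Scheme.IdealSheafData.range_subschemeι]; exact hV)
  have h2 := Groth.Agent.CohqB.AmpCocycle.isAmple_pullback (D.subschemeι ≫ f) hamp
  have h3 : mk ((Scheme.Modules.pullback (D.subschemeι ≫ f)).obj L') (isInvertible_pullback _ hLi') =
      mk ((Scheme.Modules.pullback D.subschemeι).obj L) (isInvertible_pullback _ hLi) := by
    rw [← pull_mk _ hLi', ← pull_mk _ hLi, h1, pull_comp]
  rw [mk_eq_iff] at h3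
  obtain ⟨e⟩ := h3
  exact Groth.Agent.CohqB.AmpCocycle.isAmple_of_iso e h2

set_option backward.isDefEq.respectTransparency false in
theorem forward (k : Type u) [Field k] (X : Scheme.{u})
    [X.Over (Spec (CommRingCat.of k))] [IsProper (X ↘ (Spec (CommRingCat.of k)))] [IsIntegral X]
    (D : X.IdealSheafData) (hD : BlowUp.IsEffCartierIdeal D)
    (L : X.Modules) (hL : ClSub.IsInverseOf L (ClSub.idealMod D))
    (hN : CohB1.IsAmple ((Scheme.Modules.pullback D.subschemeι).obj L)) :
    ∃ (X' : Scheme.{u}) (_ : X'.Over (Spec (CommRingCat.of k))) (f : X ⟶ X'),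
        IsProper (X' ↘ (Spec (CommRingCat.of k))) ∧ IsIntegral X' ∧
        f ≫ (X' ↘ (Spec (CommRingCat.of k))) = X ↘ (Spec (CommRingCat.of k)) ∧
        (∃ V : X.Opens, (D.support : Set X) ⊆ (V : Set X) ∧ IsOpenImmersion (V.ι ≫ f)) ∧
        ∃ (D' : X'.IdealSheafData) (L' : X'.Modules), BlowUp.IsEffCartierIdeal D' ∧
          D'.comap f = D ∧ ClSub.IsInverseOf L' (ClSub.idealMod D') ∧ CohB1.IsAmple L' := by
  have hLi := (isInvertible_of_isInverseOf hL).1
  have hker : D.subschemeι.ker = D := D.ker_subschemeι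
  obtain ⟨r, n, φ, hn, hφ, hpull, hqf⟩ := K428.NBMor.exists_mor k D.subschemeι L (by rw [hker]; exact hL) hLi hN
  have hprop : IsProper (φ ≫ CohB1.ProjSpace.toSpec r k) := by rw [hφ]; infer_instance
  have hφp : IsProper φ := IsProper.of_comp φ (CohB1.ProjSpace.toSpec r k)
  have hP : IsProper (CohB1.ProjSpace.toSpec r k) := Groth.Agent.Ega3B.ProjProper.isProper_toSpec r k
  have hNoe : IsLocallyNoetherian (CohB1.ProjSpace r k) :=
    LocallyOfFiniteType.isLocallyNoetherian (CohB1.ProjSpace.toSpec r k)
  have hfin : IsFinite φ.fromNormalization := Groth.Agent.S1297.result φ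
  have hfp : IsProper φ.toNormalization := by
    have : IsProper (φ.toNormalization ≫ φ.fromNormalization) := by
      rw [Scheme.Hom.toNormalization_fromNormalization]; infer_instance
    exact IsProper.of_comp φ.toNormalization φ.fromNormalization
  have hbij : ∀ V : φ.normalization.Opens, Function.Bijective (φ.toNormalization.app V).hom := fun V =>
    (ConcreteCategory.isIso_iff_bijective _).mp (Groth.Agent.S1340.result φ V)
  obtain ⟨U, -, hU⟩ := φ.exists_isIso_morphismRestrict_toNormalization
  have hUV : φ.quasiFiniteLocus = φ.toNormalization ⁻¹ᵁ U := by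
    apply Opens.ext
    exact hU.symm
  have hV : Set.range D.subschemeι ⊆ φ.quasiFiniteLocus := by
    rintro _ ⟨y, rfl⟩
    exact hqf y
  have hcl : IsClosedImmersion (D.subschemeι ≫ φ.toNormalization) :=
    K428.NBTop.isClosedImmersion_comp D.subschemeι φ.toNormalization φ.quasiFiniteLocus hV
  have hc := K428.NBTop.ker_comap D.subschemeι φ.toNormalization φ.quasiFiniteLocus hV U hUV
  rw [hker] at hc
  have heff : BlowUp.IsEffCartierIdeal (D.subschemeι ≫ φ.toNormalization).ker :=
    K428.NBTop.isEff_ker D.subschemeι φ.toNormalization φ.quasiFiniteLocus hV (by rw [hker]; exact hD)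
  have hI' := isInvertible_idealMod heff
  have hg : IsProper (φ.fromNormalization ≫ CohB1.ProjSpace.toSpec r k) :=
    MorphismProperty.comp_mem (W := @IsProper) _ _ inferInstance inferInstance
  have hL' : ClSub.IsInverseOf (dual (ClSub.idealMod (D.subschemeι ≫ φ.toNormalization).ker))
      (ClSub.idealMod (D.subschemeι ≫ φ.toNormalization).ker) := by
    have h1 : mk _ (isInvertible_dual hI') * mk _ hI' = 1 := by
      rw [← inv_mk hI', inv_mul_cancel]
    rw [mk_mul_mk, mk_eq_one_iff] at h1
    exact h1
  have hLi' := isInvertible_dual hI'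
  refine ⟨φ.normalization, ⟨φ.fromNormalization ≫ CohB1.ProjSpace.toSpec r k⟩, φ.toNormalization, hg, inferInstance,
    ?_, ⟨φ.quasiFiniteLocus, ?_, inferInstance⟩, (D.subschemeι ≫ φ.toNormalization).ker, _, heff, hc, hL', ?_⟩
  · change φ.toNormalization ≫ φ.fromNormalization ≫ CohB1.ProjSpace.toSpec r k = _
    rw [← Category.assoc, Scheme.Hom.toNormalization_fromNormalization, hφ]
  · rw [← Scheme.IdealSheafData.range_subschemeι]
    exact hV
  · have hsep : φ.normalization.IsSeparated := by
      refine ⟨?_⟩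
      rw [← terminal.comp_from (φ.fromNormalization ≫ CohB1.ProjSpace.toSpec r k)]
      infer_instance
    have hcpt : CompactSpace φ.normalization :=
      QuasiCompact.compactSpace_of_compactSpace (φ.fromNormalization ≫ CohB1.ProjSpace.toSpec r k)
    rw [Groth.Agent.S2327.result φ.normalization _ hLi' n hn]
    have hO := Groth.Agent.VarietyA.AmpleField.isAmple_twistProjSpace r k
    have hamp : CohB1.IsAmple ((Scheme.Modules.pullback φ.fromNormalization).obj (Twist.twistProjSpace r k 1)) :=
      Groth.Agent.CohqB.AmpCocycle.isAmple_pullback φ.fromNormalization hO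
    have h1 : pull φ.fromNormalization (mk (Twist.twistProjSpace r k 1) hO.1) = mk _ hLi' ^ n := by
      apply K373.PicDesc.pull_injective hbij
      rw [← pull_comp, Scheme.Hom.toNormalization_fromNormalization, hpull, map_pow,
        ← mk_eq_pull φ.toNormalization hD heff hc hL hL' hLi hLi']
    rw [← mk_tensorPow hLi' n, pull_mk, mk_eq_iff] at h1
    obtain ⟨ψ⟩ := h1
    exact Groth.Agent.CohqB.AmpCocycle.isAmple_of_iso ψ hamp

/-- Divisors with ample normal bundle: let X be proper and integral over an algebraically closed field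
k, Y ⊆ X an effective Cartier divisor with ideal D, and L = O_X(Y) an invertible module that is a
tensor inverse of the ideal of D. Then the normal bundle N_{Y/X} = L|_Y is ample on Y if and only if
there exist a proper integral k-scheme X', a k-morphism f : X ⟶ X' which restricts to an open
immersion on some open neighbourhood of Y (so f is birational when Y is nonempty), and an effective
Cartier divisor Y' of X' with ideal D' such that f⁻¹(Y') = Y as closed subschemes and O_{X'}(Y') is
ample. -/
theorem result (k : Type u) [Field k] [IsAlgClosed k] (X : Scheme.{u})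
    [X.Over (Spec (CommRingCat.of k))] [IsProper (X ↘ (Spec (CommRingCat.of k)))] [IsIntegral X]
    (D : X.IdealSheafData) (hD : BlowUp.IsEffCartierIdeal D)
    (L : X.Modules) (hL : ClSub.IsInverseOf L (ClSub.idealMod D)) :
    CohB1.IsAmple ((Scheme.Modules.pullback D.subschemeι).obj L) ↔
      ∃ (X' : Scheme.{u}) (_ : X'.Over (Spec (CommRingCat.of k))) (f : X ⟶ X'),
        IsProper (X' ↘ (Spec (CommRingCat.of k))) ∧ IsIntegral X' ∧
        f ≫ (X' ↘ (Spec (CommRingCat.of k))) = X ↘ (Spec (CommRingCat.of k)) ∧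
        (∃ V : X.Opens, (D.support : Set X) ⊆ (V : Set X) ∧ IsOpenImmersion (V.ι ≫ f)) ∧
        ∃ (D' : X'.IdealSheafData) (L' : X'.Modules), BlowUp.IsEffCartierIdeal D' ∧
          D'.comap f = D ∧ ClSub.IsInverseOf L' (ClSub.idealMod D') ∧ CohB1.IsAmple L' := by
  constructor
  · exact forward k X D hD L hL
  · rintro ⟨X', hO, f, hp, -, hf, ⟨V, hV, hopen⟩, D', L', hD', hc, hL', hamp⟩
    exact backward k X D hD L hL X' f hf V hV D' L' hD' hc hL' hamp

end Groth.Agent.S11384
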