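import Groth.Statements.S11385
import Groth.Agent.CohDim.K685.CdProj

set_option autoImplicit false
universe u
open CategoryTheory CategoryTheory.Limits AlgebraicGeometry TopologicalSpace
open CohDim

namespace Groth.Agent.S11385

/-- Let k be an algebraically closed field, n ≥ 1, Y the closed subscheme of P = P^n_k defined by a
quasi-coherent ideal 𝓘, and U = P ∖ Y. Then Y is connected and of dimension ≥ 1 if and only if
H^i(U, F) = 0 for every coherent O_U-module F and every i ≥ n - 1, i.e. the cohomological dimension
of U is less than n - 1. (For Y = P the open U is empty, every cohomology group on it vanishes, and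
both sides hold.) -/
theorem result (k : Type u) [Field k] [IsAlgClosed k] (n : ℕ) (hn : 1 ≤ n)
    (𝓘 : (CohB1.ProjSpace n k).IdealSheafData) (U : (CohB1.ProjSpace n k).Opens)
    (hU : (U : Set (CohB1.ProjSpace n k)) = (𝓘.support : Set (CohB1.ProjSpace n k))ᶜ) :
    (_root_.IsConnected (𝓘.support : Set (CohB1.ProjSpace n k)) ∧
        (1 : WithBot ℕ∞) ≤ topologicalKrullDim (𝓘.support : Set (CohB1.ProjSpace n k))) ↔
      ∀ F : (U : Scheme.{u}).Modules, Coh.IsCoh F → ∀ i : ℕ, n ≤ i + 1 →
        Subsingleton (Coh.HH (U : Scheme.{u}) F i) := by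
  exact ⟨fun h F hF i hi => K685.CdProj.forward k n hn 𝓘 U hU h.1 h.2 F hF i hi,
    fun h => K685.CdProj.backward k n hn 𝓘 U hU h⟩

end Groth.Agent.S11385
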