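import Groth.Statements.S11386
import Groth.Agent.CohDim.K685.SetCI

set_option autoImplicit false
universe u
open CategoryTheory CategoryTheory.Limits AlgebraicGeometry TopologicalSpace
open CohDim

namespace Groth.Agent.S11386

/-- Let k be an algebraically closed field and Y ⊆ P = P^n_k a closed subset of dimension s with s + 1 ≤
n which is a set-theoretic complete intersection, i.e. the common zero set of n - s homogeneous
forms of positive degrees; let U = P ∖ Y. Then cd(U) = q(U) = n - s - 1: H^i(U, F) = 0 for every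
coherent O_U-module F and every i > n - s - 1, while H^{n-s-1}(U, F) is infinite-dimensional over k
for some coherent O_U-module F. -/
theorem result (k : Type u) [Field k] [IsAlgClosed k] (n : ℕ) (s : ℕ) (hs : s + 1 ≤ n)
    (a : Fin (n - s) → ℕ) (ha : ∀ j, 1 ≤ a j) (G : ∀ j : Fin (n - s), LefPen.Form n k (a j))
    (hdim : topologicalKrullDim ((LefPen.ciIdeal G).support : Set (CohB1.ProjSpace n k)) = s)
    (U : (CohB1.ProjSpace n k).Opens)
    (hU : (U : Set (CohB1.ProjSpace n k)) = ((LefPen.ciIdeal G).support : Set (CohB1.ProjSpace n k))ᶜ) :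
    (∀ F : (U : Scheme.{u}).Modules, Coh.IsCoh F → ∀ i : ℕ, n - s - 1 < i →
        Subsingleton (Coh.HH (U : Scheme.{u}) F i)) ∧
      ∃ F : (U : Scheme.{u}).Modules, Coh.IsCoh F ∧
        ¬ Module.Finite k (Coh.HH (U : Scheme.{u}) F (n - s - 1)) := by
  have hP : IsProper (CohB1.ProjSpace n k ↘ Spec (CommRingCat.of k)) :=
    Groth.Agent.Ega3B.ProjProper.isProper_toSpec n k
  have hint : IsIntegral (CohB1.ProjSpace n k) := inferInstance
  have hsep : (CohB1.ProjSpace n k).IsSeparated :=
    K685.SetCI.isSeparated_of (CohB1.ProjSpace n k ↘ Spec (CommRingCat.of k))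
  have hcov : (U : Set (CohB1.ProjSpace n k)) =
      ⋃ j, (Groth.Agent.Lefpen.H716.CIGeom.Dplus (G j) : Set (CohB1.ProjSpace n k)) := by
    rw [hU]
    ext x
    rw [Set.mem_compl_iff, Set.mem_iUnion]
    change ¬ (x ∈ (LefPen.ciIdeal G).support) ↔ _
    rw [Groth.Agent.Lefpen.H716.CIGeom.mem_support_ciIdeal_iff]
    push Not
    rfl
  have haff : ∀ j, IsAffineOpen (Groth.Agent.Lefpen.H716.CIGeom.Dplus (G j)) := fun j =>
    Groth.Agent.Lefpen.H716.CIGeom.isAffineOpen_Dplus (G j) (ha j)
  have hvan : ∀ F : (U : Scheme.{u}).Modules, Coh.IsCoh F → ∀ i : ℕ, n - s - 1 < i →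
      Subsingleton (Coh.HH (U : Scheme.{u}) F i) := fun F hF i hi =>
    K685.SetCI.van_of_cover (CohB1.ProjSpace n k) U (n - s) _ haff hcov F hF.1 i (by lia)
  refine ⟨hvan, ?_⟩
  have hc : ((U : Set (CohB1.ProjSpace n k))ᶜ : Set (CohB1.ProjSpace n k)) =
      ((LefPen.ciIdeal G).support : Set (CohB1.ProjSpace n k)) := by rw [hU, compl_compl]
  have hYd : topologicalKrullDim (((U : Set (CohB1.ProjSpace n k))ᶜ : Set (CohB1.ProjSpace n k))) = s := by
    rw [hc, hdim]
  have hdP : topologicalKrullDim (CohB1.ProjSpace n k) = n := K685.SetCI.dim_projSpace k n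
  by_cases hns : n = s + 1
  · obtain ⟨j, hj⟩ : ∃ j : Fin (n - s), ∀ j', j' = j := by
      have h1 : n - s = 1 := by lia
      rw [h1]
      exact ⟨0, fun j' => Subsingleton.elim _ _⟩
    have hU1 : U = Groth.Agent.Lefpen.H716.CIGeom.Dplus (G j) := by
      refine Opens.ext ?_
      rw [hcov]
      ext x
      rw [Set.mem_iUnion]
      exact ⟨fun ⟨j', h⟩ => hj j' ▸ h, fun h => ⟨j, h⟩⟩
    have hUaff : IsAffineOpen U := hU1 ▸ haff j
    have hne : (U : Set (CohB1.ProjSpace n k)).Nonempty := by
      by_contra hemp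
      rw [Set.not_nonempty_iff_eq_empty] at hemp
      have h1 : topologicalKrullDim (((U : Set (CohB1.ProjSpace n k))ᶜ : Set (CohB1.ProjSpace n k))) = n := by
        rw [hemp, Set.compl_empty, ← hdP]
        exact IsHomeomorph.topologicalKrullDim_eq _ (Homeomorph.Set.univ (CohB1.ProjSpace n k)).isHomeomorph
      rw [hYd] at h1
      have h2 : s = n := by exact_mod_cast h1
      lia
    have h0 : n - s - 1 = 0 := by lia
    rw [h0]
    refine ⟨Coh.structureModule (U : Scheme.{u}), ?_, ?_⟩
    · exact Groth.Agent.CurvesB.UnitCoh.isCoh_structureModule _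
    · refine K685.SetCI.not_finite_H0 (CohB1.ProjSpace n k) ?_ U hUaff hne
      rw [hdP]
      exact_mod_cast (by lia : 0 < n)
  · have hne : Nonempty (((U : Set (CohB1.ProjSpace n k))ᶜ : Set (CohB1.ProjSpace n k))) := by
      by_contra hemp
      rw [not_nonempty_iff] at hemp
      have h1 : topologicalKrullDim (((U : Set (CohB1.ProjSpace n k))ᶜ : Set (CohB1.ProjSpace n k))) = ⊥ := by
        have : IsEmpty (IrreducibleCloseds (((U : Set (CohB1.ProjSpace n k))ᶜ : Set (CohB1.ProjSpace n k)))) :=
          ⟨fun Z => hemp.elim Z.2.nonempty.some⟩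
        exact Order.krullDim_eq_bot
      rw [hYd] at h1
      exact absurd h1 (by simp)
    obtain ⟨x⟩ := hne
    obtain ⟨e, he, F, hF, hnf⟩ := K685.Isol.exists_not_finite_compl (k := k) (CohB1.ProjSpace n k) n hdP U
      (irreducibleComponent x) (irreducibleComponent_mem_irreducibleComponents x) s
      ((topologicalKrullDim_subspace_le _ _).trans hYd.le) (by lia)
    have he' : e = n - s - 1 := by
      by_contra hne
      have := hvan F hF e (by lia)
      exact hnf inferInstance
    exact ⟨F, hF, he' ▸ hnf⟩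

end Groth.Agent.S11386
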