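import Groth.Statements.S11387
import Groth.Agent.CohDim.K537.Assemble
import Groth.Agent.CohDim.K616.NegVan
import Groth.Agent.CohDim.K261.Final
import Groth.Agent.CohDim.K778.Dual

set_option autoImplicit false
universe u
open CategoryTheory CategoryTheory.Limits AlgebraicGeometry TopologicalSpace
open CohDim

namespace Groth.Agent.S11387

/-- Let k be an algebraically closed field of characteristic p > 0 and Y the closed subscheme of P =
P^n_k defined by a quasi-coherent ideal 𝓘, such that every local ring of Y is Cohen–Macaulay and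
every irreducible component of Y has dimension s, where s + 1 ≤ n; let U = P ∖ Y. Then q(U) = n - s
- 1: H^i(U, F) is finite-dimensional over k for every coherent O_U-module F and every i > n - s - 1,
and for some coherent O_U-module F the space H^{n-s-1}(U, F) is infinite-dimensional. -/
theorem result (k : Type u) [Field k] [IsAlgClosed k] (n : ℕ) (p : ℕ) [Fact p.Prime] [CharP k p]
    (𝓘 : (CohB1.ProjSpace n k).IdealSheafData)
    (hCM : ∀ y : 𝓘.subscheme, LocCoh.IsCohenMacaulayLocalRing (𝓘.subscheme.presheaf.stalk y))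
    (s : ℕ) (hs : s + 1 ≤ n)
    (hequi : ∀ Z ∈ irreducibleComponents (𝓘.support : Set (CohB1.ProjSpace n k)),
      topologicalKrullDim Z = s)
    (hne : (𝓘.support : Set (CohB1.ProjSpace n k)).Nonempty)
    (U : (CohB1.ProjSpace n k).Opens)
    (hU : (U : Set (CohB1.ProjSpace n k)) = (𝓘.support : Set (CohB1.ProjSpace n k))ᶜ) :
    (∀ F : (U : Scheme.{u}).Modules, Coh.IsCoh F → ∀ i : ℕ, n - s - 1 < i →
        Module.Finite k (Coh.HH (U : Scheme.{u}) F i)) ∧
      ∃ F : (U : Scheme.{u}).Modules, Coh.IsCoh F ∧
        ¬ Module.Finite k (Coh.HH (U : Scheme.{u}) F (n - s - 1)) := by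
  exact K261.Final.final k n 𝓘 s hs hequi hne U hU fun m i hi hin =>
    K537.Assemble.finite_twist k n p 𝓘 s hs U (K616.NegVan.negVan k n 𝓘 hCM s hs hequi hne)
      (fun J hJ h1 h2 l a ha B hB => K778.Dual.dual k n 𝓘 U hU J hJ h1 h2 l a ha B hB) m i hi hin

end Groth.Agent.S11387
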