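import Groth.Statements.S11390
import Groth.Agent.Lef.K184.FormalCd
import Groth.Agent.Sga67.TensorOps

set_option autoImplicit false
universe u
open CategoryTheory CategoryTheory.Limits AlgebraicGeometry TopologicalSpace
open CohDim

namespace Groth.Agent.S11390

/-- Let X be proper and integral over an algebraically closed field k, of dimension n, with all local
rings regular; let 𝓘 be a quasi-coherent ideal with closed subscheme Y, U = X ∖ Y, and r ≥ 0 such
that H^i(U, F) = 0 for every coherent O_U-module F and every i > r. Then for every i with i + r + 2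
≤ n, every family of classes in the H^i(X, O_X/𝓘^{m+1}) compatible under the reduction maps
O_X/𝓘^{m+2} ⟶ O_X/𝓘^{m+1} comes from a class in H^i(X, O_X); together with the injectivity
statement, the canonical map α_i : H^i(X, O_X) → lim_m H^i(X, O_X/𝓘^{m+1}) is bijective. (The
published statement treats every locally free O_X-module and is an equivalence; the surjectivity
clause is written here for O_X only.) -/
theorem result (k : Type u) [Field k] [IsAlgClosed k] (X : Scheme.{u})
    [X.Over (Spec (CommRingCat.of k))] [IsProper (X ↘ (Spec (CommRingCat.of k)))] [IsIntegral X]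
    (hreg : ∀ x : X, IsRegularLocalRing (X.presheaf.stalk x))
    (n : ℕ) (hdim : topologicalKrullDim X = n)
    (𝓘 : X.IdealSheafData) (U : X.Opens) (hU : (U : Set X) = (𝓘.support : Set X)ᶜ) (r : ℕ)
    (hcd : ∀ F : (U : Scheme.{u}).Modules, Coh.IsCoh F → ∀ i : ℕ, r < i →
      Subsingleton (Coh.HH (U : Scheme.{u}) F i)) (i : ℕ) (hi : i + r + 2 ≤ n)
    (y : ∀ m : ℕ, Coh.HH X (ClSub.quotMod (𝓘 ^ (m + 1))) i)
    (hy : ∀ m : ℕ, Sheaf.H.map ((SheafOfModules.toSheaf X.ringCatSheaf).map
      (Lef.quotMap (Lef.pow_succ_le 𝓘 m))) i (y (m + 1)) = y m) :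
    ∃ x : Coh.HH X (Coh.structureModule X) i, ∀ m : ℕ,
      Sheaf.H.map ((SheafOfModules.toSheaf X.ringCatSheaf).map
        (ClSub.toSubscheme (𝓘 ^ (m + 1)))) i x = y m := by
  let S : K184.FormalDual.Sys (Coh.structureModule X) := K184.FormalDual.Sys.ofEpi
    (fun t => ClSub.quotMod (𝓘 ^ (t + 1))) (fun t => ClSub.toSubscheme (𝓘 ^ (t + 1)))
    (fun t => Groth.Agent.Sga2.LefPow644.epi_toSubscheme (𝓘 ^ (t + 1)))
    (fun h => Lef.quotMap (K184.LefSys.pow_le 𝓘 h))
    (fun h => Groth.Agent.Sga2.LefPow644.toSubscheme_quotMap _)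
  have hp : ∀ (t t' : ℕ) (h : t ≤ t'), Groth.Agent.CurvesC.HV.map k (S.p h) i
      ((Groth.Agent.CurvesC.HV.equiv k _ i).symm (y t')) = (Groth.Agent.CurvesC.HV.equiv k _ i).symm (y t) := by
    intro t t' h
    induction t', h using Nat.le_induction with
    | base =>
      have h0 : S.p (le_refl t) = 𝟙 _ := by
        rw [← cancel_epi (S.q t), S.q_p, Category.comp_id]
      rw [h0, Groth.Agent.CurvesC.HV.map_id]
      rfl
    | succ t' h ih =>
      have h0 : S.p (h.trans (Nat.le_succ t')) = S.p (Nat.le_succ t') ≫ S.p h := by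
        rw [← cancel_epi (S.q (t' + 1)), S.q_p, ← Category.assoc, S.q_p, S.q_p]
      rw [h0, Groth.Agent.CurvesC.HV.map_comp_apply, ← ih]
      congr 1
      exact hy t'
  obtain ⟨x, hx⟩ := K184.FormalCd.surj k X hreg n hdim 𝓘 U hU r hcd
    (F := Coh.structureModule X) (Groth.Agent.Sga67.TensorOps.isFinLocFree_structureModule) S
    (fun t => K183.LimDual.isKQuot_um (𝓘 ^ (t + 1))) i hi
    (fun t => (Groth.Agent.CurvesC.HV.equiv k _ i).symm (y t)) hp
  exact ⟨Groth.Agent.CurvesC.HV.equiv k _ i x, fun m => (LinearEquiv.eq_symm_apply _).1 (hx m)⟩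

end Groth.Agent.S11390
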