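import Groth.Statements.S11392
import Groth.Agent.Lef.K184.FormalCd

set_option autoImplicit false
universe u
open CategoryTheory CategoryTheory.Limits AlgebraicGeometry TopologicalSpace
open CohDim

namespace Groth.Agent.S11392

/-- Let X be proper and integral over an algebraically closed field k, of dimension n, with all local
rings regular; let 𝓘 be a quasi-coherent ideal with closed subscheme Y, ι_m : Y_m ⟶ X the closed
subscheme of 𝓘^{m+1}, U = X ∖ Y, and r ≥ 0 such that H^i(U, G) = 0 for every coherent O_U-module G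
and every i > r. Then for every finite locally free O_X-module F and every i with i + r + 1 ≤ n, an
element of H^i(X, F) whose image in H^i(X, ι_{m*} ι_m^* F) under the unit map F ⟶ ι_{m*} ι_m^* F
vanishes for every m is zero; that is, the canonical map from H^i(X, F) to the cohomology of the
formal completion of F along Y is injective. (The published statement is an equivalence and also
asserts surjectivity onto the limit for i + r + 2 ≤ n.) -/
theorem result (k : Type u) [Field k] [IsAlgClosed k] (X : Scheme.{u})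
    [X.Over (Spec (CommRingCat.of k))] [IsProper (X ↘ (Spec (CommRingCat.of k)))] [IsIntegral X]
    (hreg : ∀ x : X, IsRegularLocalRing (X.presheaf.stalk x))
    (n : ℕ) (hdim : topologicalKrullDim X = n)
    (𝓘 : X.IdealSheafData) (U : X.Opens) (hU : (U : Set X) = (𝓘.support : Set X)ᶜ) (r : ℕ)
    (hcd : ∀ G : (U : Scheme.{u}).Modules, Coh.IsCoh G → ∀ i : ℕ, r < i →
      Subsingleton (Coh.HH (U : Scheme.{u}) G i))
    (F : X.Modules) (hF : FlatMod.IsFinLocFree F) (i : ℕ) (hi : i + r + 1 ≤ n)
    (x : Coh.HH X F i)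
    (hx : ∀ m : ℕ, Sheaf.H.map ((SheafOfModules.toSheaf X.ringCatSheaf).map
      ((Scheme.Modules.pullbackPushforwardAdjunction (𝓘 ^ (m + 1)).subschemeι).unit.app F)) i x = 0) :
    x = 0 := by
  have hn : IsNoetherian X :=
    Groth.Agent.LoccohB.AdStruct.isNoetherian_of_finiteType (X ↘ (Spec (CommRingCat.of k)))
  let S : K184.FormalDual.Sys F := K184.FormalDual.Sys.ofEpi
    (fun t => Groth.Agent.FormalB.TrKQuot.kq (𝓘 ^ (t + 1)) F)
    (fun t => Groth.Agent.FormalB.TrKQuot.kπ (𝓘 ^ (t + 1)) F)
    (fun t => Groth.Agent.FormalB.TrKQuot.epi_kπ (𝓘 ^ (t + 1)) F)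
    (fun h => (K184.FormalDual.Sys.exists_idealP 𝓘 F (Nat.succ_le_succ h)).choose)
    (fun h => (K184.FormalDual.Sys.exists_idealP 𝓘 F (Nat.succ_le_succ h)).choose_spec)
  have h1 := K184.FormalCd.inj k X hreg n hdim 𝓘 U hU r hcd hF S
    (fun t => Groth.Agent.FormalB.TrKQuot.isKQuot_kπ (𝓘 ^ (t + 1)) (Groth.Agent.PerfA.CohSerre.isCoh_of_isFinLocFree hF).1)
    i hi ((Groth.Agent.CurvesC.HV.equiv k F i).symm x) (fun t => by
      apply (Groth.Agent.CurvesC.HV.equiv k _ i).injective
      rw [Groth.Agent.CurvesC.HV.equiv_map, LinearEquiv.apply_symm_apply, map_zero]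
      exact hx t)
  exact (LinearEquiv.symm_apply_eq _).1 h1 |>.trans (map_zero _)

end Groth.Agent.S11392
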