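import Groth.Statements.S11393
import Groth.Agent.Variety.K428.FormalLoc

set_option autoImplicit false
universe u
open CategoryTheory CategoryTheory.Limits AlgebraicGeometry TopologicalSpace
open Variety

namespace Groth.Agent.S11393

/-- Let X be proper over an algebraically closed field k and 𝓘 a quasi-coherent ideal whose closed
subscheme Y is connected (and nonempty); let Y_m be the closed subscheme of 𝓘^{m+1} and A = lim_m
Γ(Y_m, O_{Y_m}) the ring of formal-regular functions along Y (global sections of the structure sheaf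
of the formal completion), formed as the limit in commutative rings along the restriction maps
Γ(Y_{m+1}, O) → Γ(Y_m, O). Then A is a local ring, and every element a of A differs from the image
of some constant c ∈ k by an element whose image in each Γ(Y_m, O_{Y_m}) is nilpotent (so the
residue field of A is k through the structure map). (The published statement also asserts that A is
a complete local ring; that clause is not included here.) -/
theorem result (k : Type u) [Field k] [IsAlgClosed k] (X : Scheme.{u})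
    [X.Over (Spec (CommRingCat.of k))] [IsProper (X ↘ (Spec (CommRingCat.of k)))]
    (𝓘 : X.IdealSheafData) (hY : _root_.IsConnected (𝓘.support : Set X)) :
    IsLocalRing ↑(limit (Functor.ofOpSequence
        (X := fun m : ℕ => Γ((𝓘 ^ (m + 1)).subscheme, ⊤))
        (fun m : ℕ => (Scheme.IdealSheafData.inclusion (Lef.pow_succ_le 𝓘 m)).appTop))) ∧
      ∀ a : ↑(limit (Functor.ofOpSequence
        (X := fun m : ℕ => Γ((𝓘 ^ (m + 1)).subscheme, ⊤))
        (fun m : ℕ => (Scheme.IdealSheafData.inclusion (Lef.pow_succ_le 𝓘 m)).appTop))),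
        ∃ c : k, ∀ m : ℕ, IsNilpotent (Sub.sub (α := ↑Γ((𝓘 ^ (m + 1)).subscheme, ⊤))
          ((limit.π (Functor.ofOpSequence
              (X := fun m : ℕ => Γ((𝓘 ^ (m + 1)).subscheme, ⊤))
              (fun m : ℕ => (Scheme.IdealSheafData.inclusion (Lef.pow_succ_le 𝓘 m)).appTop)) (Opposite.op m)).hom a)
          (((𝓘 ^ (m + 1)).subschemeι ≫ (X ↘ Spec (CommRingCat.of k))).appTop.hom
            ((Scheme.ΓSpecIso (CommRingCat.of k)).inv.hom c))) := by
  set F : ℕᵒᵖ ⥤ CommRingCat.{u} := Functor.ofOpSequence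
        (X := fun m : ℕ => Γ((𝓘 ^ (m + 1)).subscheme, ⊤))
        (fun m : ℕ => (Scheme.IdealSheafData.inclusion (Lef.pow_succ_le 𝓘 m)).appTop) with hF
  let g : ∀ m : ℕ, (𝓘 ^ (m + 1)).subscheme ⟶ Spec (CommRingCat.of k) := fun m =>
    (𝓘 ^ (m + 1)).subschemeι ≫ (X ↘ Spec (CommRingCat.of k))
  let φ : ∀ m : ℕ, k →+* Γ((𝓘 ^ (m + 1)).subscheme, ⊤) := fun m =>
    (g m).appTop.hom.comp (Scheme.ΓSpecIso (CommRingCat.of k)).inv.hom
  have hconn : ∀ m : ℕ, ConnectedSpace (𝓘 ^ (m + 1)).subscheme := by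
    intro m
    have h1 : Set.range (𝓘 ^ (m + 1)).subschemeι = (𝓘.support : Set X) := by
      rw [Scheme.IdealSheafData.range_subschemeι, Scheme.IdealSheafData.support_pow_succ]
    have h2 : Topology.IsEmbedding (𝓘 ^ (m + 1)).subschemeι := (𝓘 ^ (m + 1)).subschemeι.isEmbedding
    have h3 : _root_.IsPreconnected (Set.univ : Set (𝓘 ^ (m + 1)).subscheme) := by
      rw [← h2.isInducing.isPreconnected_image, Set.image_univ, h1]
      exact hY.isPreconnected
    obtain ⟨x, hx⟩ := hY.nonempty
    rw [← h1] at hx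
    obtain ⟨y, -⟩ := hx
    haveI : Nonempty (𝓘 ^ (m + 1)).subscheme := ⟨y⟩
    haveI : PreconnectedSpace (𝓘 ^ (m + 1)).subscheme := ⟨h3⟩
    exact ⟨inferInstance⟩
  have hconst : ∀ (m : ℕ) (a : Γ((𝓘 ^ (m + 1)).subscheme, ⊤)), ∃ c : k, IsNilpotent (a - φ m c) := fun m a =>
    K428.FormalLoc.exists_const k (g m) a
  let π : ∀ m : ℕ, ↑(limit F) →+* Γ((𝓘 ^ (m + 1)).subscheme, ⊤) := fun m => (limit.π F (Opposite.op m)).hom
  let τ : ∀ m : ℕ, Γ((𝓘 ^ (m + 1 + 1)).subscheme, ⊤) →+* Γ((𝓘 ^ (m + 1)).subscheme, ⊤) := fun m =>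
    (Scheme.IdealSheafData.inclusion (Lef.pow_succ_le 𝓘 m)).appTop.hom
  have hτπ : ∀ (m : ℕ) (a : ↑(limit F)), τ m (π (m + 1) a) = π m a := by
    intro m a
    have h1 := limit.w F (homOfLE (Nat.le_succ m)).op
    have h2 : F.map (homOfLE (Nat.le_succ m)).op =
        (Scheme.IdealSheafData.inclusion (Lef.pow_succ_le 𝓘 m)).appTop :=
      Functor.ofOpSequence_map_homOfLE_succ _ m
    rw [h2] at h1
    exact congrArg (fun f : limit F ⟶ F.obj (Opposite.op m) => f.hom a) h1
  have hτφ : ∀ (m : ℕ) (c : k), τ m (φ (m + 1) c) = φ m c := by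
    intro m c
    have h1 : Scheme.IdealSheafData.inclusion (Lef.pow_succ_le 𝓘 m) ≫ g (m + 1) = g m := by
      simp only [g]
      rw [← Category.assoc]
      congr 1
      exact Scheme.IdealSheafData.inclusion_subschemeι _
    have h2 : (g (m + 1)).appTop ≫ (Scheme.IdealSheafData.inclusion (Lef.pow_succ_le 𝓘 m)).appTop = (g m).appTop := by
      rw [← Scheme.Hom.comp_appTop, h1]
    exact congrArg (fun f : Γ(Spec (CommRingCat.of k), ⊤) ⟶ Γ((𝓘 ^ (m + 1)).subscheme, ⊤) =>
      f.hom ((Scheme.ΓSpecIso (CommRingCat.of k)).inv.hom c)) h2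
  have hnt : ∀ m : ℕ, Nontrivial Γ((𝓘 ^ (m + 1)).subscheme, ⊤) := by
    intro m
    haveI := hconn m
    haveI : Nonempty (⊤ : ((𝓘 ^ (m + 1)).subscheme).Opens) := by
      obtain ⟨x⟩ := (inferInstance : Nonempty (𝓘 ^ (m + 1)).subscheme)
      exact ⟨⟨x, trivial⟩⟩
    exact Scheme.component_nontrivial _ ⊤
  have huniq : ∀ (m : ℕ) (a : Γ((𝓘 ^ (m + 1)).subscheme, ⊤)) (c c' : k), IsNilpotent (a - φ m c) →
      IsNilpotent (a - φ m c') → c = c' := by
    intro m a c c' h h'
    by_contra hne
    haveI := hnt m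
    have h1 : IsNilpotent (φ m (c' - c)) := by
      have := (Commute.all (a - φ m c) (a - φ m c')).isNilpotent_sub h h'
      have e : a - φ m c - (a - φ m c') = φ m (c' - c) := by rw [map_sub]; ring
      rwa [e] at this
    have h2 : IsUnit (φ m (c' - c)) := (IsUnit.mk0 _ (sub_ne_zero.mpr (Ne.symm hne))).map (φ m)
    exact h2.not_isNilpotent h1
  have hmain : ∀ a : ↑(limit F), ∃ c : k, ∀ m : ℕ, IsNilpotent (π m a - φ m c) := by
    intro a
    obtain ⟨c, hc⟩ := hconst 0 (π 0 a)
    refine ⟨c, fun m => ?_⟩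
    induction m with
    | zero => exact hc
    | succ m ih =>
      obtain ⟨c', hc'⟩ := hconst (m + 1) (π (m + 1) a)
      have h1 := hc'.map (τ m)
      rw [map_sub, hτπ, hτφ] at h1
      rwa [huniq m (π m a) c c' ih h1]
  refine ⟨?_, hmain⟩
  haveI : Nontrivial ↑(limit F) := by
    haveI := hnt 0
    exact (π 0).domain_nontrivial
  have hunit : ∀ (a : ↑(limit F)) (c : k), (∀ m : ℕ, IsNilpotent (π m a - φ m c)) → (IsUnit a ↔ c ≠ 0) := by
    intro a c hc
    constructor
    · intro hu h0
      subst h0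
      haveI := hnt 0
      have h1 := hc 0
      rw [map_zero, sub_zero] at h1
      exact (hu.map (π 0)).not_isNilpotent h1
    · intro h0
      refine K428.FormalLoc.isUnit_of_limit F a fun j => ?_
      obtain ⟨m⟩ := j
      change IsUnit (π m a)
      have h1 : IsUnit (φ m c) := (IsUnit.mk0 _ h0).map (φ m)
      have h2 : π m a = φ m c + (π m a - φ m c) := by ring
      rw [h2]
      exact (hc m).isUnit_add_left_of_commute h1 (Commute.all _ _)
  refine IsLocalRing.of_nonunits_add fun a b ha hb => ?_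
  obtain ⟨c, hc⟩ := hmain a
  obtain ⟨d, hd⟩ := hmain b
  rw [mem_nonunits_iff, hunit a c hc, not_not] at ha
  rw [mem_nonunits_iff, hunit b d hd, not_not] at hb
  have hcd : ∀ m : ℕ, IsNilpotent (π m (a + b) - φ m (c + d)) := by
    intro m
    have := (Commute.all (π m a - φ m c) (π m b - φ m d)).isNilpotent_add (hc m) (hd m)
    have e : π m a - φ m c + (π m b - φ m d) = π m (a + b) - φ m (c + d) := by
      rw [map_add, map_add]; ring
    rwa [e] at this
  rw [mem_nonunits_iff, hunit (a + b) (c + d) hcd, not_not, ha, hb, add_zero]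

end Groth.Agent.S11393
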