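import Groth.Statements.S11395
import Groth.Agent.AlgGrp.K397.Rigid

set_option autoImplicit false
universe u
open CategoryTheory MonoidalCategory CartesianMonoidalCategory MonObj GrpObj AlgebraicGeometry CategoryTheory.Limits
open AlgGrp

namespace Groth.Agent.S11395

/-- Over an algebraically closed field k, let X, Y and Z be k-schemes of finite type such that the only
global functions on X are the constants, Y is connected and Z is separated over k. Let f : X × Y → Z
be a k-morphism and y₀, z₀ rational points of Y, Z such that the restriction of f to X × y₀ is the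
constant morphism with value z₀ (as a morphism of schemes; for reduced X this is the condition on
closed points). Then there is a unique morphism g : Y → Z with f = g ∘ pr₂. -/
theorem result (k : Type u) [Field k] [IsAlgClosed k]
    (X Y Z : Over (Spec (CommRingCat.of k))) [LocallyOfFiniteType X.hom] [QuasiCompact X.hom]
    [LocallyOfFiniteType Y.hom] [QuasiCompact Y.hom] [LocallyOfFiniteType Z.hom] [QuasiCompact Z.hom]
    (hX : Function.Bijective ((Scheme.ΓSpecIso (CommRingCat.of k)).inv ≫ X.hom.appTop).hom)
    [ConnectedSpace ↥Y.left] [IsSeparated Z.hom]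
    (f : X ⊗ Y ⟶ Z) (y₀ : 𝟙_ (Over (Spec (CommRingCat.of k))) ⟶ Y) (z₀ : 𝟙_ (Over (Spec (CommRingCat.of k))) ⟶ Z)
    (hf : (X ◁ y₀) ≫ f = toUnit _ ≫ z₀) :
    ∃! g : Y ⟶ Z, f = snd X Y ≫ g := by
  have h1 : CompactSpace X.left := QuasiCompact.compactSpace_of_compactSpace X.hom
  have hXn : IsLocallyNoetherian X.left := LocallyOfFiniteType.isLocallyNoetherian X.hom
  have h4 : IsIso X.hom.appTop := (K414.AntiAffBC.bijective_iff X).mp hX
  have hne : Nonempty X.left := by
    by_contra hc
    rw [not_nonempty_iff] at hc
    have h5 : Subsingleton Γ(X.left, ⊤) := by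
      have : IsEmpty X.left := hc
      infer_instance
    have h6 := hX.injective.subsingleton
    exact not_subsingleton k h6
  obtain ⟨x, hx, hx'⟩ : ∃ x : X.left, True ∧ IsClosed {x} := by
    have : JacobsonSpace X.left := LocallyOfFiniteType.jacobsonSpace X.hom
    obtain ⟨x, -, hx⟩ := nonempty_inter_closedPoints (X := X.left) (Z := Set.univ) Set.univ_nonempty
      isClosed_univ.isLocallyClosed
    exact ⟨x, trivial, hx⟩
  obtain ⟨x₀, -⟩ := Groth.Agent.Books.AlgPts.exists_pt x hx'
  have key := K397.Rigid.eq_res x₀ y₀ f z₀ hf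
  refine ⟨lift (toUnit Y ≫ x₀) (𝟙 Y) ≫ f, key, fun g hg => ?_⟩
  rw [hg, ← Category.assoc, lift_snd, Category.id_comp]

end Groth.Agent.S11395
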