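import Groth.Statements.S11402
import Groth.Agent.AlgGrp.K398.AlbHom
import Groth.Agent.Sga3.H821.AffProper
import Groth.Agent.S3280

set_option autoImplicit false
universe u
open CategoryTheory MonoidalCategory CartesianMonoidalCategory MonObj GrpObj AlgebraicGeometry CategoryTheory.Limits
open AlgGrp

namespace Groth.Agent.S11402

/-- Over an algebraically closed field k, let G be a connected algebraic group (smooth k-group scheme of
finite type), let i : N → G be its largest connected affine normal algebraic subgroup G_aff (a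
homomorphism and closed immersion from a smooth, connected, affine k-group scheme, normal in G,
through which every other such subgroup factors), and let α : G → A be a flat surjective
homomorphism with kernel i onto a proper smooth k-group scheme A (so A = G/G_aff is an abelian
variety). Then α is the Albanese morphism of G: every k-morphism (not necessarily a homomorphism)
from G to an abelian variety B (a proper, smooth, connected k-group scheme) factors uniquely through
α. -/
theorem result (k : Type u) [Field k] [IsAlgClosed k]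
    (G : Over (Spec (CommRingCat.of k))) [GrpObj G] [Smooth G.hom] [QuasiCompact G.hom] [ConnectedSpace ↥G.left]
    (N : Over (Spec (CommRingCat.of k))) [GrpObj N] (i : N ⟶ G) [IsMonHom i] [IsClosedImmersion i.left]
    [Smooth N.hom] [ConnectedSpace ↥N.left] [IsAffine N.left] (hN : AlgGrp.IsNormalHom i)
    (hNmax : ∀ (N' : Over (Spec (CommRingCat.of k))) [GrpObj N'] (i' : N' ⟶ G) [IsMonHom i'] [IsClosedImmersion i'.left]
      [Smooth N'.hom] [ConnectedSpace ↥N'.left] [IsAffine N'.left], AlgGrp.IsNormalHom i' → ∃ f : N' ⟶ N, f ≫ i = i')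
    (A : Over (Spec (CommRingCat.of k))) [GrpObj A] [IsProper A.hom] [Smooth A.hom] (α : G ⟶ A) [IsMonHom α]
    [Surjective α.left] [Flat α.left] (hker : AlgGrp.IsKernel i α)
    (B : Over (Spec (CommRingCat.of k))) [GrpObj B] [IsProper B.hom] [Smooth B.hom] [ConnectedSpace ↥B.left] (f : G ⟶ B) :
    ∃! g : A ⟶ B, α ≫ g = f := by
  -- translate so that the unit goes to the unit
  have hqcB : QuasiCompact B.hom := inferInstance
  let b : 𝟙_ (Over (Spec (CommRingCat.of k))) ⟶ B := η[G] ≫ f
  let f₀ : G ⟶ B := f * (toUnit G ≫ b)⁻¹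
  have hf₀ : η[G] ≫ f₀ = η[B] := by
    change η[G] ≫ (f * (toUnit G ≫ b)⁻¹) = η[B]
    rw [MonObj.comp_mul, GrpObj.comp_inv, ← Category.assoc η[G] (toUnit G),
      toUnit_unique (η[G] ≫ toUnit G) (𝟙 _), Category.id_comp, mul_inv_cancel]
    exact (one_eq_one _).symm
  have hhom : IsMonHom f₀ := K398.AlbHom.isMonHom_of_pointed f₀ hf₀
  have hi : i ≫ f₀ = toUnit N ≫ η[B] := Groth.Agent.Sga3.H821.AffProper.hom_eq_one k N B (i ≫ f₀)
  obtain ⟨g₀, hg1, hg2, hg3⟩ := Groth.Agent.S3280.result k G N A B α i hker f₀ hi
  have hfac : f = f₀ * (toUnit G ≫ b) := by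
    change f = f * (toUnit G ≫ b)⁻¹ * (toUnit G ≫ b)
    rw [inv_mul_cancel_right]
  have hepi : ∀ g g' : A ⟶ B, α ≫ g = α ≫ g' → g = g' := by
    intro g g' h
    have hqc : QuasiCompact (α.left ≫ A.hom) := by rw [Over.w]; infer_instance
    have hqc' : QuasiCompact α.left := QuasiCompact.of_comp α.left A.hom
    have : Epi α.left := inferInstance
    have : Epi α := Over.epi_of_epi_left α
    exact (cancel_epi α).1 h
  refine ⟨g₀ * (toUnit A ≫ b), ?_, fun g' h => hepi _ _ ?_⟩
  · change α ≫ (g₀ * (toUnit A ≫ b)) = f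
    rw [MonObj.comp_mul, hg2, ← Category.assoc, toUnit_unique (α ≫ toUnit A) (toUnit G), ← hfac]
  · rw [h, MonObj.comp_mul, hg2, ← Category.assoc, toUnit_unique (α ≫ toUnit A) (toUnit G), ← hfac]

end Groth.Agent.S11402
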