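import Groth.Statements.S11403
import Groth.Agent.AlgGrp.K398.Rosen
import Groth.Agent.AlgGrp.K398.AffMax

set_option autoImplicit false
universe u
open CategoryTheory MonoidalCategory CartesianMonoidalCategory MonObj GrpObj AlgebraicGeometry CategoryTheory.Limits
open AlgGrp

namespace Groth.Agent.S11403

/-- Over an algebraically closed field k, let G be a connected algebraic group (smooth k-group scheme of
finite type), let i : N → G be its largest connected affine normal algebraic subgroup G_aff (a
homomorphism and closed immersion from a smooth, connected, affine k-group scheme, normal in G,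
through which every other such subgroup factors), and let j : M → G be its largest anti-affine
subgroup scheme G_ant (a homomorphism and closed immersion from a k-group scheme M whose only global
functions are the constants, through which every other such subgroup scheme factors). Then G = G_aff
· G_ant, in the sense that the multiplication morphism G_aff × G_ant → G is surjective, and G_ant is
the smallest closed subgroup scheme H of G with G = G_aff · H: every such H contains G_ant. (The
published statement adds that the scheme-theoretic intersection of G_aff and G_ant contains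
(G_ant)_aff as a normal subgroup of finite index; that clause is not stated here.) -/
theorem result (k : Type u) [Field k] [IsAlgClosed k]
    (G : Over (Spec (CommRingCat.of k))) [GrpObj G] [Smooth G.hom] [QuasiCompact G.hom] [ConnectedSpace ↥G.left]
    (N : Over (Spec (CommRingCat.of k))) [GrpObj N] (i : N ⟶ G) [IsMonHom i] [IsClosedImmersion i.left]
    [Smooth N.hom] [ConnectedSpace ↥N.left] [IsAffine N.left] (hN : AlgGrp.IsNormalHom i)
    (hNmax : ∀ (N' : Over (Spec (CommRingCat.of k))) [GrpObj N'] (i' : N' ⟶ G) [IsMonHom i'] [IsClosedImmersion i'.left]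
      [Smooth N'.hom] [ConnectedSpace ↥N'.left] [IsAffine N'.left], AlgGrp.IsNormalHom i' → ∃ f : N' ⟶ N, f ≫ i = i')
    (M : Over (Spec (CommRingCat.of k))) [GrpObj M] (j : M ⟶ G) [IsMonHom j] [IsClosedImmersion j.left]
    (hM : Function.Bijective ((Scheme.ΓSpecIso (CommRingCat.of k)).inv ≫ M.hom.appTop).hom)
    (hMmax : ∀ (M' : Over (Spec (CommRingCat.of k))) [GrpObj M'] (j' : M' ⟶ G) [IsMonHom j'] [IsClosedImmersion j'.left],
      Function.Bijective ((Scheme.ΓSpecIso (CommRingCat.of k)).inv ≫ M'.hom.appTop).hom → ∃ f : M' ⟶ M, f ≫ j = j') :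
    Surjective ((i ⊗ₘ j) ≫ μ[G]).left ∧
      ∀ (H : Over (Spec (CommRingCat.of k))) [GrpObj H] (h : H ⟶ G) [IsMonHom h] [IsClosedImmersion h.left],
        Surjective ((i ⊗ₘ h) ≫ μ[G]).left → ∃ f : M ⟶ H, f ≫ h = j := by
  obtain ⟨A, _, α, ha1, ha2, ha3, ha4, ha5, ha6, ha7⟩ := K398.AffMax.exists_proper_quotient k G N i hNmax
  obtain ⟨N', Q, _, _, n, q, hs⟩ := K398.Affin.exists_affSeq G
  have i1 := hs.homN
  have i3 := hs.closed
  have i6 := hs.anti
  have i7 := K398.AntiAff.isIso_appTop hM
  obtain ⟨f, hf⟩ := hMmax N' n (K398.AntiAff.bijective_of_isIso i6)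
  obtain ⟨g, hg⟩ := hs.exists_lift j
  constructor
  · have h1 := K398.Rosen.surjective_mul i α ha4 hs
    have h2 : (i ⊗ₘ n) ≫ μ[G] = (𝟙 N ⊗ₘ f) ≫ (i ⊗ₘ j) ≫ μ[G] := by
      rw [← Category.assoc, tensorHom_comp_tensorHom, Category.id_comp, hf]
    rw [h2, Over.comp_left] at h1
    exact Surjective.of_comp (𝟙 N ⊗ₘ f).left ((i ⊗ₘ j) ≫ μ[G]).left
  · intro H _ h _ _ hsurj
    have h1 : ((i ⊗ₘ h) ≫ μ[G]) ≫ α = snd N H ≫ (h ≫ α) := by
      have e1 : i ≫ α = 1 := ha4.w
      have e2 : (i ⊗ₘ h) ≫ μ[G] = (fst N H ≫ i) * (snd N H ≫ h) := by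
        rw [Hom.mul_def]
        congr 1
      rw [e2, MonObj.mul_comp, Category.assoc, Category.assoc, e1, MonObj.comp_one, _root_.one_mul]
    have h2 : Surjective (h ≫ α).left := by
      have h3 : Surjective ((snd N H).left ≫ (h ≫ α).left) := by
        rw [← Over.comp_left, ← h1, Over.comp_left]
        infer_instance
      exact Surjective.of_comp (snd N H).left (h ≫ α).left
    obtain ⟨a, ha⟩ := K398.Rosen.exists_fac_of_surjective i α ha4 hs h
    exact ⟨g ≫ a, by rw [Category.assoc, ha, hg]⟩

end Groth.Agent.S11403
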