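import Groth.Statements.S11405
import Groth.Agent.AlgGrp.K398.RepFaith
import Groth.Agent.S14577

set_option autoImplicit false
universe u
open CategoryTheory MonoidalCategory CartesianMonoidalCategory MonObj GrpObj AlgebraicGeometry CategoryTheory.Limits
open AlgGrp

namespace Groth.Agent.S11405

/-- Over an algebraically closed field k, the following are equivalent for an algebraic group G (a
smooth k-group scheme of finite type): (i) the only global functions on G are the constants; (ii)
every finite-dimensional linear representation of G is trivial (every point of G with values in a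
k-algebra B acts as the identity on B ⊗ M, for every G-module structure on a finite-dimensional
k-vector space M); (iii) every action of G on a variety (integral, separated k-scheme of finite
type) with a fixed rational point is the trivial action. Stated as (i) ⇔ (ii) and (i) ⇔ (iii). -/
theorem result (k : Type u) [Field k] [IsAlgClosed k]
    (G : Over (Spec (CommRingCat.of k))) [GrpObj G] [Smooth G.hom] [QuasiCompact G.hom] :
    (Function.Bijective ((Scheme.ΓSpecIso (CommRingCat.of k)).inv ≫ G.hom.appTop).hom ↔
      ∀ (M : Type u) [AddCommGroup M] [Module k M] [Module.Finite k M] (m : VecGrp.GMod G M)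
        (B : Type u) [CommRing B] [Algebra k B] (g : VecGrp.pt k B ⟶ G), m.ρ B g = 1) ∧
    (Function.Bijective ((Scheme.ΓSpecIso (CommRingCat.of k)).inv ≫ G.hom.appTop).hom ↔
      ∀ (X : Over (Spec (CommRingCat.of k))) [LocallyOfFiniteType X.hom] [QuasiCompact X.hom] [IsSeparated X.hom]
        [IsIntegral X.left] (a : AlgGrp.Action G X) (x : 𝟙_ (Over (Spec (CommRingCat.of k))) ⟶ X), a.IsFixedPt x → a.act = snd G X) := by
  have key : Function.Bijective ((Scheme.ΓSpecIso (CommRingCat.of k)).inv ≫ G.hom.appTop).hom ↔
      IsIso G.hom.appTop := ⟨K398.AntiAff.isIso_appTop, K398.AntiAff.bijective_of_isIso⟩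
  refine ⟨⟨fun hG M _ _ _ m B _ _ g => ?_, fun h => ?_⟩, ⟨?_, ?_⟩⟩
  · have := key.1 hG
    exact K398.AntiRep.rho_eq_one m B g
  · exact key.2 (K398.RepFaith.isIso_appTop_of_forall G (fun M _ _ _ m p => h M m k p))
  · intro hG X _ _ _ _ a x hx
    have h0 : IsSeparated G.hom := Groth.Agent.Books.AntiAffine.isSeparated_hom G
    have h1 : IsLocallyNoetherian X.left := LocallyOfFiniteType.isLocallyNoetherian X.hom
    have h2 : (G ◁ x) ≫ a.act = toUnit _ ≫ lift η[G] x ≫ a.act := by
      have h3 : G ◁ x = lift (fst G (𝟙_ _)) (toUnit _ ≫ x) := by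
        ext1
        · simp
        · rw [whiskerLeft_snd, lift_snd]
          congr 1
          exact toUnit_unique _ _
      rw [h3, hx]
      have h4 := hx _ η[G]
      have h5 : lift η[G] x = lift η[G] (toUnit _ ≫ x) := by
        have : toUnit (𝟙_ (Over (Spec (CommRingCat.of k)))) = 𝟙 _ := toUnit_unique _ _
        rw [this, Category.id_comp]
      rw [h5, h4, ← Category.assoc]
      congr 1
    have h6 := Groth.Agent.S14577.result k G X X hG η[G] x a.act h2
    rw [h6]
    have h7 : lift (toUnit X ≫ η[G]) (𝟙 X) ≫ a.act = 𝟙 X := by
      have h8 : lift (toUnit X ≫ η[G]) (𝟙 X) = (λ_ X).inv ≫ (η[G] ▷ X) := by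
        ext1
        · simp only [lift_fst, Category.assoc, whiskerRight_fst]
          rw [← Category.assoc]
          congr 1
          exact toUnit_unique _ _
        · simp
      rw [h8, Category.assoc, a.one_act, Iso.inv_hom_id]
    rw [h7, Category.comp_id]
  · intro h
    refine key.2 (K398.RepFaith.isIso_appTop_of_forall G ?_)
    intro M _ _ _ m p
    exact K398.RepAct.rho_eq_one_of_trivial m (Module.finBasis k M)
      (h _ (K398.RepAct.action m (Module.finBasis k M)) (K398.RepAct.origin (Module.finBasis k M))
        (K398.RepAct.isFixedPt m (Module.finBasis k M))) k p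

end Groth.Agent.S11405
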