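import Groth.Statements.S11407
import Groth.Agent.AlgGrp.K398.PowSurj
import Groth.Agent.AlgGrp.K398.UnipPow

set_option autoImplicit false
universe u
open CategoryTheory MonoidalCategory CartesianMonoidalCategory MonObj GrpObj AlgebraicGeometry CategoryTheory.Limits
open AlgGrp

namespace Groth.Agent.S11407

/-- Over an algebraically closed field k of characteristic p > 0, let G be a connected commutative
algebraic group (smooth k-group scheme of finite type) which is an extension of an abelian variety A
(a proper, smooth, connected k-group scheme) by a connected unipotent algebraic group U: i : U → G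
is a homomorphism and closed immersion from a smooth, connected, affine k-group scheme containing no
non-trivial subtorus (for smooth connected affine groups over an algebraically closed field this is
unipotency), and α : G → A is a flat surjective homomorphism with kernel i. Then the only global
functions on G are the constants if and only if U is the trivial group. -/
theorem result (k : Type u) [Field k] [IsAlgClosed k]
    (p : ℕ) [Fact p.Prime] [CharP k p]
    (G : Over (Spec (CommRingCat.of k))) [GrpObj G] [Smooth G.hom] [QuasiCompact G.hom] [ConnectedSpace ↥G.left] [IsCommMonObj G]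
    (U : Over (Spec (CommRingCat.of k))) [GrpObj U] (i : U ⟶ G) [IsMonHom i] [IsClosedImmersion i.left]
    [Smooth U.hom] [ConnectedSpace ↥U.left] [IsAffine U.left] (hU : Red.HasNoSubtorus k U)
    (A : Over (Spec (CommRingCat.of k))) [GrpObj A] [IsProper A.hom] [Smooth A.hom] [ConnectedSpace ↥A.left]
    (α : G ⟶ A) [IsMonHom α] [Surjective α.left] [Flat α.left] (hker : AlgGrp.IsKernel i α) :
    Function.Bijective ((Scheme.ΓSpecIso (CommRingCat.of k)).inv ≫ G.hom.appTop).hom ↔ IsIso U.hom := by
  constructor
  · intro hG
    have := K398.AntiAff.isIso_appTop hG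
    obtain ⟨n, hn⟩ := K398.UnipPow.exists_pow_id_eq_one p U hU
    have hp : 1 ≤ p ^ n := Nat.one_le_pow _ _ (Fact.out : p.Prime).pos
    have h1 := K398.PowSurj.surjective_pow (M := G) (p ^ n) hp
    have h2 : IsMonHom ((𝟙 G : G ⟶ G) ^ (p ^ n)) := K398.PowSurj.isMonHom_pow _
    have h3 : i ≫ ((𝟙 G : G ⟶ G) ^ (p ^ n)) = toUnit U ≫ η[G] := by
      rw [← K398.PowSurj.pow_comp_hom, hn, MonObj.one_comp]
      rfl
    obtain ⟨φ, hφ1, hφ2, -⟩ := Groth.Agent.S3280.result k G U A G α i hker _ h3
    have h4 : Surjective φ.left := by
      have : Surjective (α.left ≫ φ.left) := by rw [← Over.comp_left, hφ2]; exact h1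
      exact Surjective.of_comp α.left φ.left
    have hsG : IsSeparated G.hom := Groth.Agent.Books.AntiAffine.isSeparated_hom G
    have h5 : IsProper G.hom := K398.Pts.isProper_of_surjective φ
    have h6 : IsProper U.hom := by rw [← Over.w i]; infer_instance
    exact K398.Pts.isIso_hom_of_affine_proper
  · intro hU1
    -- the kernel is trivial, so `α` is an isomorphism
    have h1 : i = 1 := by
      have : (𝟙 U : U ⟶ U) = 1 := K398.Pts.eq_of_isIso_hom hU1 _ _
      rw [← Category.id_comp i, this, MonObj.one_comp]
    have h2 : Mono α := by
      constructor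
      intro T a b hab
      have h3 : (a * b⁻¹) ≫ α = toUnit T ≫ η[A] := by
        rw [MonObj.mul_comp, GrpObj.inv_comp, hab, mul_inv_cancel]
        rfl
      obtain ⟨t, ht, -⟩ := hker.exists_lift (a * b⁻¹) (toUnit T) h3
      rw [h1, MonObj.comp_one] at ht
      exact mul_inv_eq_one.1 ht.symm
    have h3 : Mono α.left := inferInstanceAs (Mono ((Over.forget _).map α))
    have h4 : QuasiCompact α.left := K398.Pts.quasiCompact_left α
    have h5 : IsIso α.left := Flat.isIso_of_surjective_of_mono α.left
    have h6 : IsIso A.hom.appTop := by
      have hgi := Groth.Agent.Sga3.H794.ChevProper.geometricallyIntegral A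
      exact Groth.Agent.Sga3.H780.RigidProper.isIso_appTop_hom A
    apply K398.AntiAff.bijective_of_isIso
    rw [← Over.w α, Scheme.Hom.comp_appTop]
    have h7 : IsIso α.left.appTop := Groth.Agent.Sga3.H786.HullFG.isIso_appTop _ h5
    exact IsIso.comp_isIso' h6 h7

end Groth.Agent.S11407
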