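import Groth.Statements.S11409
import Groth.Agent.S3027
import Groth.Agent.S3280

set_option autoImplicit false
universe u
open CategoryTheory MonoidalCategory CartesianMonoidalCategory MonObj GrpObj AlgebraicGeometry CategoryTheory.Limits
open AlgGrp

namespace Groth.Agent.S11409

/-- Over an algebraically closed field k, let G be a connected algebraic group (smooth k-group scheme of
finite type), j : Z → G its scheme-theoretic centre, and q : G → Q a flat surjective homomorphism of
k-group schemes of finite type with kernel j (so Q = G/Z). Then Q is affine. (The published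
statement also treats the quotients by Z_red and by its identity component; those are not stated
here.) -/
theorem result (k : Type u) [Field k] [IsAlgClosed k]
    (G : Over (Spec (CommRingCat.of k))) [GrpObj G] [Smooth G.hom] [QuasiCompact G.hom] [ConnectedSpace ↥G.left]
    (Z : Over (Spec (CommRingCat.of k))) [GrpObj Z] (j : Z ⟶ G) (hZ : Red.IsCentre j)
    (Q : Over (Spec (CommRingCat.of k))) [GrpObj Q] [LocallyOfFiniteType Q.hom] [QuasiCompact Q.hom]
    (q : G ⟶ Q) [IsMonHom q] [Surjective q.left] [Flat q.left] (hker : AlgGrp.IsKernel j q) :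
    IsAffine Q.left := by
  obtain ⟨hj1, hj2, hj3⟩ := hZ
  obtain ⟨Z', _, i, hi1, hi2, hi3, Q', _, q', hq1, hq2, hq3, hq4, hq5, hq6⟩ := Groth.Agent.S3027.result k G
  have hQ' : IsAffine Q'.left := hq2
  have hft : LocallyOfFiniteType Q'.hom := hq3
  have hqc : QuasiCompact Q'.hom := inferInstance
  -- each centre factors through the other
  obtain ⟨z, hz⟩ := (hj3 Z' i).2 (fun X' x h => by
    rw [Category.comp_id]
    exact (hi3 Z' i).1 ⟨𝟙 _, Category.id_comp _⟩ X' x h)
  obtain ⟨z', hz'⟩ := (hi3 Z j).2 (fun X' x h => by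
    have := (hj3 Z j).1 ⟨𝟙 _, Category.id_comp _⟩ X' x h
    rwa [Category.comp_id] at this)
  have h1 : i ≫ q = toUnit Z' ≫ η[Q] := by
    rw [← hz, Category.assoc, hker.w, ← Category.assoc, toUnit_unique (z ≫ toUnit Z) (toUnit Z')]
  have h2 : j ≫ q' = toUnit Z ≫ η[Q'] := by
    rw [← hz', Category.assoc, hq6.w, ← Category.assoc, toUnit_unique (z' ≫ toUnit Z') (toUnit Z)]
  obtain ⟨a, ha1, ha2, ha3⟩ := Groth.Agent.S3280.result k G Z' Q' Q q' i hq6 q h1
  obtain ⟨b, hb1, hb2, hb3⟩ := Groth.Agent.S3280.result k G Z Q Q' q j hker q' h2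
  obtain ⟨c, hc1, hc2, hc3⟩ := Groth.Agent.S3280.result k G Z' Q' Q' q' i hq6 q' hq6.w
  obtain ⟨d, hd1, hd2, hd3⟩ := Groth.Agent.S3280.result k G Z Q Q q j hker q hker.w
  have hab : a ≫ b = 𝟙 Q' := by
    rw [hc3 (a ≫ b) (by rw [← Category.assoc, ha2, hb2]), hc3 (𝟙 Q') (Category.comp_id _)]
  have hba : b ≫ a = 𝟙 Q := by
    rw [hd3 (b ≫ a) (by rw [← Category.assoc, hb2, ha2]), hd3 (𝟙 Q) (Category.comp_id _)]
  let e : Q ≅ Q' := ⟨b, a, hba, hab⟩
  have : IsIso b.left := inferInstanceAs (IsIso ((Over.forget _).mapIso e).hom)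
  exact IsAffine.of_isIso b.left

end Groth.Agent.S11409
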