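import Groth.Statements.S11410
import Groth.Agent.AlgGrp.K398.AffCrit

set_option autoImplicit false
universe u
open CategoryTheory MonoidalCategory CartesianMonoidalCategory MonObj GrpObj AlgebraicGeometry CategoryTheory.Limits
open AlgGrp

namespace Groth.Agent.S11410

/-- Over an algebraically closed field k, let G be an algebraic group (a smooth k-group scheme of finite
type) acting on a variety X (an integral, separated k-scheme of finite type), faithfully in the
sense that every rational point of G acting as the identity of X is the identity element. Then for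
every rational point x of X, the isotropy subgroup scheme of x (a closed subgroup scheme of G whose
points are exactly the points of G fixing x) is affine. -/
theorem result (k : Type u) [Field k] [IsAlgClosed k]
    (G X : Over (Spec (CommRingCat.of k))) [GrpObj G] [Smooth G.hom] [QuasiCompact G.hom]
    [LocallyOfFiniteType X.hom] [QuasiCompact X.hom] [IsSeparated X.hom] [IsIntegral X.left]
    (a : AlgGrp.Action G X)
    (hfaith : ∀ g : 𝟙_ (Over (Spec (CommRingCat.of k))) ⟶ G, lift (toUnit X ≫ g) (𝟙 X) ≫ a.act = 𝟙 X → g = η[G])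
    (x : 𝟙_ (Over (Spec (CommRingCat.of k))) ⟶ X) (St : Over (Spec (CommRingCat.of k))) [GrpObj St] (s : St ⟶ G) [IsMonHom s] [IsClosedImmersion s.left]
    (hs : ∀ (T : Over (Spec (CommRingCat.of k))) (g : T ⟶ G), (∃ t : T ⟶ St, t ≫ s = g) ↔ lift g (toUnit T ≫ x) ≫ a.act = toUnit T ≫ x) :
    IsAffine St.left := by
  have hS1 : LocallyOfFiniteType St.hom := by
    rw [← Over.w s]; infer_instance
  have hS2 : QuasiCompact St.hom := by
    rw [← Over.w s]; infer_instance
  obtain ⟨N, Q, _, _, n, q, hnq⟩ := K398.Affin.exists_affSeq St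
  have h1 := hnq.homN
  have h2 := hnq.anti
  have h3 := hnq.qcN
  have h4 : IsSeparated N.hom := Groth.Agent.Books.AntiAffine.isSeparated_hom N
  have h5 : IsLocallyNoetherian X.left := LocallyOfFiniteType.isLocallyNoetherian X.hom
  have h6 : Mono s := Groth.Agent.Books.AlgPtsGrp.mono_of_isClosedImmersion s
  have h7 : Mono n := hnq.mono
  apply K398.AffCrit.isAffine_of_points hnq
  intro t
  have hfix : (K398.AffCrit.res (n ≫ s) a).IsFixedPt x := by
    intro T g
    rw [K398.AffCrit.lift_res]
    exact (hs T (g ≫ n ≫ s)).1 ⟨g ≫ n, by rw [Category.assoc]⟩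
  have htriv := K398.AffCrit.act_eq_snd (K398.AffCrit.res (n ≫ s) a) x hfix
  have h8 : lift (toUnit X ≫ t ≫ n ≫ s) (𝟙 X) ≫ a.act = 𝟙 X := by
    have h9 := K398.AffCrit.lift_res (n ≫ s) a (toUnit X ≫ t) (𝟙 X)
    rw [htriv, lift_snd, Category.assoc] at h9
    exact h9.symm
  have h9 := hfaith _ h8
  have h10 : t ≫ n ≫ s = (1 : 𝟙_ _ ⟶ N) ≫ n ≫ s := by
    rw [h9, MonObj.one_comp, Hom.one_def]
    have : toUnit (𝟙_ (Over (Spec (CommRingCat.of k)))) = 𝟙 _ := toUnit_unique _ _
    rw [this, Category.id_comp]
  exact (cancel_mono (n ≫ s)).1 h10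

end Groth.Agent.S11410
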