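import Groth.Statements.S11411
import Groth.Agent.AlgGrp.K398.AntiAff

set_option autoImplicit false
universe u
open CategoryTheory MonoidalCategory CartesianMonoidalCategory MonObj GrpObj AlgebraicGeometry CategoryTheory.Limits
open AlgGrp

namespace Groth.Agent.S11411

/-- Over an algebraically closed field k, let G be an algebraic group (a smooth k-group scheme of finite
type) and N the kernel of the canonical morphism ρ : G → Spec O(G), i.e. the fibre of ρ over the
image of the unit. Then N is the smallest normal subgroup scheme of G with affine quotient: for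
every closed normal subgroup scheme H of G with a flat surjective homomorphism G → Q of k-group
schemes of finite type with kernel H and Q affine, the inclusion of N factors through H. And N is
the largest anti-affine subgroup scheme: every homomorphism and closed immersion into G from a
k-group scheme whose only global functions are the constants factors through N. (The published
statement also asserts O(N) = k, that N is a connected algebraic group central in G⁰, and O(G/N) =
O(G) finitely generated; those parts are not restated here.) -/
theorem result (k : Type u) [Field k] [IsAlgClosed k]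
    (G : Over (Spec (CommRingCat.of k))) [GrpObj G] [Smooth G.hom] [QuasiCompact G.hom] :
    (∀ (H Q : Over (Spec (CommRingCat.of k))) [GrpObj H] [GrpObj Q] (h : H ⟶ G) [IsMonHom h] [IsClosedImmersion h.left]
        [LocallyOfFiniteType Q.hom] [QuasiCompact Q.hom] (q : G ⟶ Q) [IsMonHom q] [Surjective q.left] [Flat q.left],
        AlgGrp.IsKernel h q → IsAffine Q.left →
        ∃ f : pullback G.left.toSpecΓ (η[G].left ≫ G.left.toSpecΓ) ⟶ H.left, f ≫ h.left = pullback.fst G.left.toSpecΓ (η[G].left ≫ G.left.toSpecΓ)) ∧
    (∀ (M : Over (Spec (CommRingCat.of k))) [GrpObj M] (j : M ⟶ G) [IsMonHom j] [IsClosedImmersion j.left],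
        Function.Bijective ((Scheme.ΓSpecIso (CommRingCat.of k)).inv ≫ M.hom.appTop).hom →
        ∃ f : M.left ⟶ pullback G.left.toSpecΓ (η[G].left ≫ G.left.toSpecΓ), f ≫ pullback.fst G.left.toSpecΓ (η[G].left ≫ G.left.toSpecΓ) = j.left) := by
  have hη : η[G].left ≫ G.hom = 𝟙 _ := Over.w η[G]
  constructor
  · intro H Q _ _ h _ _ _ _ q _ _ _ hk hQ
    have hQ' : IsAffine Q.left := hQ
    let p1 := pullback.fst G.left.toSpecΓ (η[G].left ≫ G.left.toSpecΓ)
    let p2 := pullback.snd G.left.toSpecΓ (η[G].left ≫ G.left.toSpecΓ)
    have hc : p1 ≫ G.left.toSpecΓ = p2 ≫ η[G].left ≫ G.left.toSpecΓ := pullback.condition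
    -- every morphism from `G` to an affine scheme agrees on the two projections
    have key : ∀ {X : Scheme.{u}} [IsAffine X] (f : G.left ⟶ X), p1 ≫ f = p2 ≫ η[G].left ≫ f := by
      intro X _ f
      have h1 := Scheme.toSpecΓ_naturality f
      rw [← cancel_mono X.toSpecΓ, Category.assoc, Category.assoc, Category.assoc, h1,
        reassoc_of% hc]
    let P : Over (Spec (CommRingCat.of k)) := Over.mk (p1 ≫ G.hom)
    let a : P ⟶ G := Over.homMk p1 rfl
    have h2 : p1 ≫ G.hom = p2 := by
      rw [key G.hom, hη, Category.comp_id]
    have h3 : a ≫ q = toUnit P ≫ η[Q] := by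
      have hq1 : η[G] ≫ q = η[Q] := IsMonHom.one_hom q
      rw [← hq1]
      ext
      have h4 : (toUnit P).left = P.hom := by simp
      rw [Over.comp_left, Over.comp_left, Over.comp_left, h4]
      change p1 ≫ q.left = (p1 ≫ G.hom) ≫ η[G].left ≫ q.left
      rw [h2]
      exact key q.left
    obtain ⟨b, hb, -⟩ := hk.exists_lift a (toUnit P) h3
    exact ⟨b.left, congrArg (fun f => f.left) hb⟩
  · intro M _ j _ _ hM
    have := K398.AntiAff.isIso_appTop hM
    refine ⟨pullback.lift j.left M.hom ?_, pullback.lift_fst _ _ _⟩
    have h1 := K398.AntiAff.comp_toSpecΓ_eq η[M] j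
    have h2 : η[M].left ≫ j.left = η[G].left :=
      congrArg (fun f => f.left) (IsMonHom.one_hom j)
    rw [h1, reassoc_of% h2]

end Groth.Agent.S11411
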