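import Groth.Statements.S11413
import Groth.Agent.AlgGrp.K414.AlgFin
import Groth.Agent.Sga3.H806.ApproxProp

set_option autoImplicit false
universe u
open CategoryTheory MonoidalCategory CartesianMonoidalCategory MonObj GrpObj AlgebraicGeometry CategoryTheory.Limits
open AlgGrp

namespace Groth.Agent.S11413

/-- Let k be an algebraically closed field of characteristic p > 0 which is algebraic over its prime
field (every element x satisfies x^(p^n) = x for some n ≥ 1), so that k is an algebraic closure of a
finite field. Over such a field k, anti-affine algebraic groups are abelian varieties: every smooth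
k-group scheme of finite type whose only global functions are the constants is proper over k. -/
theorem result (k : Type u) [Field k] [IsAlgClosed k]
    (p : ℕ) [Fact p.Prime] [CharP k p] (halg : ∀ x : k, ∃ n : ℕ, 0 < n ∧ x ^ p ^ n = x)
    (G : Over (Spec (CommRingCat.of k))) [GrpObj G] [Smooth G.hom] [QuasiCompact G.hom]
    (hG : Function.Bijective ((Scheme.ΓSpecIso (CommRingCat.of k)).inv ≫ G.hom.appTop).hom) : IsProper G.hom := by
  have hsep : IsSeparated G.hom := Books.AntiAffine.isSeparated_hom G
  obtain ⟨R₀, G₀, _, hR, h1, h2, h3, ⟨e⟩⟩ := Groth.Agent.Sga3.H806.ApproxProp.exists_noetherian G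
  have hfin : Finite R₀ := K414.FinField.finite_of_fg p halg R₀ hR
  have hiso : IsIso G.hom.appTop := (K414.AntiAffBC.bijective_iff G).mp hG
  exact K414.AlgFin.main R₀.val.toRingHom G₀ G e

end Groth.Agent.S11413
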