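import Groth.Statements.S11417
import Groth.Agent.AlgGrp.K501.Complete
import Groth.Agent.S11403
import Groth.Agent.AlgGrp.K395.Anti
import Groth.Agent.AlgGrp.K398.AntiAff

set_option autoImplicit false
universe u
open CategoryTheory MonoidalCategory CartesianMonoidalCategory MonObj GrpObj AlgebraicGeometry CategoryTheory.Limits
open AlgGrp

namespace Groth.Agent.S11417

/-- Over an algebraically closed field k, let X be a complete variety (a proper, integral, separated
k-scheme of finite type) which is homogeneous under a connected algebraic group G (the morphism G ×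
X → X × X, (g, x) ↦ (g·x, x), is surjective) acting scheme-theoretically faithfully (every point of
G with values in a k-scheme S acting as the identity on X × S is the identity); let i : N → G be its
largest connected affine normal algebraic subgroup G_aff (a homomorphism and closed immersion from a
smooth, connected, affine k-group scheme, normal in G, through which every other such subgroup
factors), and let j : M → G be its largest anti-affine subgroup scheme G_ant (a homomorphism and
closed immersion from a k-group scheme M whose only global functions are the constants, through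
which every other such subgroup scheme factors). Then the multiplication G_ant × G_aff → G is an
isomorphism of schemes, G_ant is proper over k (an abelian variety A), G_aff is semisimple of
adjoint type (semisimple with trivial scheme-theoretic centre), and there are a k-scheme Y with an
action of G_aff and an isomorphism X ≅ A × Y under which G = A × G_aff acts by translations of A on
the first factor and by the given action of G_aff on Y. (Existence of such Y and isomorphism is
asserted; the published statement calls them canonical.) -/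
theorem result (k : Type u) [Field k] [IsAlgClosed k]
    (G X : Over (Spec (CommRingCat.of k))) [GrpObj G] [Smooth G.hom] [QuasiCompact G.hom] [ConnectedSpace ↥G.left]
    [IsProper X.hom] [IsIntegral X.left]
    (a : AlgGrp.Action G X) (htrans : Surjective (lift a.act (snd G X)).left)
    (hfaith : ∀ (S : Over (Spec (CommRingCat.of k))) (g : S ⟶ G),
      (∀ (S' : Over (Spec (CommRingCat.of k))) (s : S' ⟶ S) (x : S' ⟶ X), lift (s ≫ g) x ≫ a.act = x) → g = 1)
    (N : Over (Spec (CommRingCat.of k))) [GrpObj N] (i : N ⟶ G) [IsMonHom i] [IsClosedImmersion i.left]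
    [Smooth N.hom] [ConnectedSpace ↥N.left] [IsAffine N.left] (hN : AlgGrp.IsNormalHom i)
    (hNmax : ∀ (N' : Over (Spec (CommRingCat.of k))) [GrpObj N'] (i' : N' ⟶ G) [IsMonHom i'] [IsClosedImmersion i'.left]
      [Smooth N'.hom] [ConnectedSpace ↥N'.left] [IsAffine N'.left], AlgGrp.IsNormalHom i' → ∃ f : N' ⟶ N, f ≫ i = i')
    (M : Over (Spec (CommRingCat.of k))) [GrpObj M] (j : M ⟶ G) [IsMonHom j] [IsClosedImmersion j.left]
    (hM : Function.Bijective ((Scheme.ΓSpecIso (CommRingCat.of k)).inv ≫ M.hom.appTop).hom)
    (hMmax : ∀ (M' : Over (Spec (CommRingCat.of k))) [GrpObj M'] (j' : M' ⟶ G) [IsMonHom j'] [IsClosedImmersion j'.left],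
      Function.Bijective ((Scheme.ΓSpecIso (CommRingCat.of k)).inv ≫ M'.hom.appTop).hom → ∃ f : M' ⟶ M, f ≫ j = j') :
    IsIso ((j ⊗ₘ i) ≫ μ[G]) ∧ IsProper M.hom ∧ Red.IsSemisimpleOver k N ∧
      (∀ (Z : Over (Spec (CommRingCat.of k))) [GrpObj Z] (z : Z ⟶ N), Red.IsCentre z → IsIso Z.hom) ∧
      ∃ (Y : Over (Spec (CommRingCat.of k))) (b : AlgGrp.Action N Y) (e : X ≅ M ⊗ Y),
        ∀ (S : Over (Spec (CommRingCat.of k))) (m' : S ⟶ M) (n : S ⟶ N) (x : S ⟶ X),
          lift ((m' ≫ j) * (n ≫ i)) x ≫ a.act ≫ e.hom =
            lift ((x ≫ e.hom ≫ fst M Y) * m') (lift n (x ≫ e.hom ≫ snd M Y) ≫ b.act) := by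
  have hXlft : LocallyOfFiniteType X.hom := inferInstance
  have hGlft : LocallyOfFiniteType G.hom := inferInstance
  have hGred : IsReduced G.left := Books.AlgPtsSmooth.isReduced_of_smooth G
  have hMft : LocallyOfFiniteType M.hom := by rw [← Over.w j]; infer_instance
  have hMqc : QuasiCompact M.hom := by rw [← Over.w j]; infer_instance
  have hNqc : QuasiCompact N.hom := by rw [← Over.w i]; infer_instance
  have hMN : LocallyOfFiniteType (M ⊗ N).hom :=
    inferInstanceAs (LocallyOfFiniteType (pullback.fst M.hom N.hom ≫ M.hom))
  have hMNqc : QuasiCompact (M ⊗ N).hom :=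
    inferInstanceAs (QuasiCompact (pullback.fst M.hom N.hom ≫ M.hom))
  -- `M` is central
  have hcent : ∀ (T : Over (Spec (CommRingCat.of k))) (m : T ⟶ M) (g : T ⟶ G), (m ≫ j) * g = g * (m ≫ j) := by
    have hMa := K398.AntiAff.isIso_appTop hM
    have h := K395.Anti.central_of_isAlgClosed M G j
    intro T m g
    have h1 := congrArg (fun f => lift m g ≫ f) h
    simp only [MonObj.comp_mul, ← Category.assoc, lift_fst, lift_snd] at h1
    exact h1
  have hsurj : Surjective ((j ⊗ₘ i) ≫ μ[G]).left := by
    have h1 := (S11403.result k G N i hN hNmax M j hM hMmax).1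
    have h2 : (i ⊗ₘ j) ≫ μ[G] = lift (snd N M) (fst N M) ≫ (j ⊗ₘ i) ≫ μ[G] := by
      rw [K501.Complete.comp_mulmap, lift_fst, lift_snd, hcent]
      have h3 := K501.Complete.comp_mulmap i j (𝟙 (N ⊗ M))
      rwa [Category.id_comp, Category.id_comp, Category.id_comp] at h3
    rw [h2, Over.comp_left] at h1
    exact Surjective.of_comp (lift (snd N M) (fst N M)).left _
  have hφm := K501.Complete.isMonHom_mulmap j i hcent
  have hφfl : Flat ((j ⊗ₘ i) ≫ μ[G]).left := K398.Pts.flat_of_surjective _
  have hφqc : QuasiCompact ((j ⊗ₘ i) ≫ μ[G]).left := K398.Pts.quasiCompact_left _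
  have horb : ∀ x₀ : 𝟙_ (Over (Spec (CommRingCat.of k))) ⟶ X, Flat (K501.Homog.orb2 a j i x₀).left ∧
      Surjective (K501.Homog.orb2 a j i x₀).left ∧ QuasiCompact (K501.Homog.orb2 a j i x₀).left := by
    intro x₀
    have h1 := K501.Homog.surjective_orbitMap a htrans x₀
    obtain ⟨h2, h3⟩ := K501.Homog.orbitMap_props a x₀
    rw [K501.Homog.orb2, Over.comp_left]
    exact ⟨inferInstance, inferInstance, inferInstance⟩
  have hne : Nonempty X.left := inferInstance
  exact K501.Complete.main a j i hcent horb (fun T g hg => hfaith T g hg) hsurj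

end Groth.Agent.S11417
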