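import Groth.Statements.S11418

set_option autoImplicit false
universe u
open CategoryTheory MonoidalCategory CartesianMonoidalCategory MonObj GrpObj AlgebraicGeometry CategoryTheory.Limits
open AlgGrp

namespace Groth.Agent.S11418

/-- Over an algebraically closed field k, let G be an affine algebraic group (smooth affine k-group
scheme of finite type) and π : X → Y a principal G-bundle of k-schemes of finite type: G acts on X,
π is G-invariant, faithfully flat, and the square formed by the action, the second projection G × X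
→ X and π is cartesian. Then the map θ sending a G-equivariant morphism f : X → G (for the
conjugation action on G, i.e. f(g·x) = g f(x) g⁻¹ on points) to the automorphism x ↦ f(x)·x is a
bijection onto the bundle automorphisms: every G-equivariant automorphism φ of X with π ∘ φ = π
equals θ(f) for exactly one such f. -/
theorem result (k : Type u) [Field k] [IsAlgClosed k]
    (G X Y : Over (Spec (CommRingCat.of k))) [GrpObj G] [Smooth G.hom] [QuasiCompact G.hom] [IsAffine G.left]
    [LocallyOfFiniteType X.hom] [QuasiCompact X.hom] [LocallyOfFiniteType Y.hom] [QuasiCompact Y.hom]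
    (a : AlgGrp.Action G X) (π : X ⟶ Y) (hinv : a.act ≫ π = snd G X ≫ π) [Flat π.left] [Surjective π.left]
    (hcart : IsPullback (snd G X) a.act π π)
    (φ : X ≅ X) (hφ : φ.hom ≫ π = π) (hφeq : (G ◁ φ.hom) ≫ a.act = a.act ≫ φ.hom) :
    ∃! f : X ⟶ G, (∀ (S : Over (Spec (CommRingCat.of k))) (g : S ⟶ G) (x : S ⟶ X),
        lift g x ≫ a.act ≫ f = g * (x ≫ f) * g⁻¹) ∧ φ.hom = lift f (𝟙 X) ≫ a.act := by
  have key : ∀ {S : Over (Spec (CommRingCat.of k))} (g h : S ⟶ G) (x : S ⟶ X),
      lift g x ≫ a.act = lift h x ≫ a.act → g = h := by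
    intro S g h x hgh
    have : lift g x = lift h x := hcart.hom_ext (by simp) hgh
    simpa using congr($this ≫ fst G X)
  have hmul : ∀ {S : Over (Spec (CommRingCat.of k))} (g h : S ⟶ G) (x : S ⟶ X),
      lift (g * h) x ≫ a.act = lift g (lift h x ≫ a.act) ≫ a.act := by
    intro S g h x
    have h1 := lift (lift g h) x ≫= a.mul_act
    simpa [Hom.mul_def] using h1
  have heq : ∀ {S : Over (Spec (CommRingCat.of k))} (g : S ⟶ G) (x : S ⟶ X),
      lift g x ≫ a.act ≫ φ.hom = lift g (x ≫ φ.hom) ≫ a.act := by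
    intro S g x
    rw [← hφeq]
    simp
  have hex : (𝟙 X) ≫ π = φ.hom ≫ π := by rw [hφ, Category.id_comp]
  obtain ⟨l, hl1, hl2⟩ : ∃ l : X ⟶ G ⊗ X, l ≫ snd G X = 𝟙 X ∧ l ≫ a.act = φ.hom :=
    ⟨hcart.lift _ _ hex, hcart.lift_fst _ _ _, hcart.lift_snd _ _ _⟩
  have hl : lift (l ≫ fst G X) (𝟙 X) = l := by ext1 <;> simp [hl1]
  have hf : ∀ {S : Over (Spec (CommRingCat.of k))} (x : S ⟶ X),
      lift (x ≫ l ≫ fst G X) x ≫ a.act = x ≫ φ.hom := by
    intro S x
    rw [← hl2]
    nth_rewrite 2 [← hl]
    simp [comp_lift_assoc]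
  refine ⟨l ≫ fst G X, ⟨?_, ?_⟩, ?_⟩
  · intro S g x
    apply key _ _ (lift g x ≫ a.act)
    rw [← Category.assoc (lift g x), hf, Category.assoc, heq, hmul, hmul, ← hmul g⁻¹ g x]
    have h1 : lift (g⁻¹ * g) x ≫ a.act = x := by
      rw [inv_mul_cancel]
      have := lift (toUnit S) x ≫= a.one_act
      simpa [Hom.one_def] using this
    rw [h1, hf]
  · rw [hl, hl2]
  · rintro f ⟨-, hf2⟩
    apply key _ _ (𝟙 X)
    rw [← hf2, hl, hl2]

end Groth.Agent.S11418
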