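import Groth.Statements.S11419
import Groth.Agent.AlgGrp.K399.BorelG
import Groth.Agent.AlgGrp.K399.CommSect
import Groth.Agent.S11403
import Groth.Agent.AlgGrp.K404.QuoKit

set_option autoImplicit false
universe u
open CategoryTheory MonoidalCategory CartesianMonoidalCategory MonObj GrpObj AlgebraicGeometry CategoryTheory.Limits
open AlgGrp

namespace Groth.Agent.S11419

/-- Over an algebraically closed field k, let G be a connected algebraic group (smooth k-group scheme of
finite type), let i : N → G be its largest connected affine normal algebraic subgroup G_aff (a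
homomorphism and closed immersion from a smooth, connected, affine k-group scheme, normal in G,
through which every other such subgroup factors), let j : M → G be its largest anti-affine subgroup
scheme G_ant (a homomorphism and closed immersion from a k-group scheme M whose only global
functions are the constants, through which every other such subgroup scheme factors), and let h : H
→ G be a maximal connected solvable algebraic subgroup (maximal among smooth, connected, solvable
closed subgroup schemes). Then H contains G_ant; there is a Borel subgroup B of G_aff contained in H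
with H = B · G_ant (the multiplication B × G_ant → H is surjective); and every other maximal
connected solvable algebraic subgroup of G is conjugate to H by a rational point of G. (The
published statement also identifies B with the scheme-theoretic intersection of G_aff and H, says H
is its own set-theoretic normalizer, and gives G/H ≅ G_aff/B; those clauses are not stated here.) -/
theorem result (k : Type u) [Field k] [IsAlgClosed k]
    (G : Over (Spec (CommRingCat.of k))) [GrpObj G] [Smooth G.hom] [QuasiCompact G.hom] [ConnectedSpace ↥G.left]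
    (N : Over (Spec (CommRingCat.of k))) [GrpObj N] (i : N ⟶ G) [IsMonHom i] [IsClosedImmersion i.left]
    [Smooth N.hom] [ConnectedSpace ↥N.left] [IsAffine N.left] (hN : AlgGrp.IsNormalHom i)
    (hNmax : ∀ (N' : Over (Spec (CommRingCat.of k))) [GrpObj N'] (i' : N' ⟶ G) [IsMonHom i'] [IsClosedImmersion i'.left]
      [Smooth N'.hom] [ConnectedSpace ↥N'.left] [IsAffine N'.left], AlgGrp.IsNormalHom i' → ∃ f : N' ⟶ N, f ≫ i = i')
    (M : Over (Spec (CommRingCat.of k))) [GrpObj M] (j : M ⟶ G) [IsMonHom j] [IsClosedImmersion j.left]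
    (hM : Function.Bijective ((Scheme.ΓSpecIso (CommRingCat.of k)).inv ≫ M.hom.appTop).hom)
    (hMmax : ∀ (M' : Over (Spec (CommRingCat.of k))) [GrpObj M'] (j' : M' ⟶ G) [IsMonHom j'] [IsClosedImmersion j'.left],
      Function.Bijective ((Scheme.ΓSpecIso (CommRingCat.of k)).inv ≫ M'.hom.appTop).hom → ∃ f : M' ⟶ M, f ≫ j = j')
    (H : Over (Spec (CommRingCat.of k))) [GrpObj H] (h : H ⟶ G) (hH : Red.IsBorelOver k h) :
    (∃ f : M ⟶ H, f ≫ h = j) ∧
    (∃ (B : Over (Spec (CommRingCat.of k))) (_ : GrpObj B) (b : B ⟶ N) (f : B ⟶ H), Red.IsBorelOver k b ∧ f ≫ h = b ≫ i ∧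
        ∀ f' : M ⟶ H, f' ≫ h = j → Surjective ((f ⊗ₘ f') ≫ μ[H]).left) ∧
    (∀ (H' : Over (Spec (CommRingCat.of k))) [GrpObj H'] (h' : H' ⟶ G), Red.IsBorelOver k h' →
        ∃ (g : 𝟙_ (Over (Spec (CommRingCat.of k))) ⟶ G) (e : H' ≅ H), e.hom ≫ h = AGF.conjBy g h') := by
  obtain ⟨M0, L, _, _, n, q, hA⟩ := K398.Affin.exists_affSeq G
  have h1 := hA.homN
  have h2 := hA.homQ
  have h3 := hA.closed
  have h4 := hA.anti
  have h5 : IsIso ((Scheme.ΓSpecIso (CommRingCat.of k)).inv ≫ M.hom.appTop) :=
    (ConcreteCategory.isIso_iff_bijective _).mpr hM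
  have h6 : IsIso M.hom.appTop := IsIso.of_isIso_comp_left (Scheme.ΓSpecIso (CommRingCat.of k)).inv _
  have hjm : Mono j := Books.AlgPtsGrp.mono_of_isClosedImmersion j
  obtain ⟨e, he⟩ := hA.exists_iso j (hMmax M0 n (K398.AntiAff.bijective_of_isIso h4))
  have hk : AlgGrp.IsKernel j q := by
    rw [← he]
    exact K399.CommSect.isKernel_iso hA.ker e
  have hMl : LocallyOfFiniteType M.hom := by rw [← Over.w j]; infer_instance
  have hMq : QuasiCompact M.hom := by rw [← Over.w j]; infer_instance
  have hMs : Smooth M.hom := S3026.result k M hM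
  obtain ⟨hMc, hMcomm⟩ := S3293.result k M hM
  have hLa := hA.affine
  have hLl := hA.ftQ
  have hqs := hA.surj
  have hqf := hA.flat
  have hsurj := (S11403.result k G N i hN hNmax M j hM hMmax).1
  have hcent : ∀ (T : Over (Spec (CommRingCat.of k))) (x : T ⟶ G) (y : T ⟶ M), x * (y ≫ j) = (y ≫ j) * x :=
    fun T x y => (K404.QuoKit.commute_of_antiAffine k G M hM j y x).symm
  have hall := fun (H : Over (Spec (CommRingCat.of k))) [GrpObj H] (h : H ⟶ G) (hH : Red.IsBorelOver k h) =>
    K399.BorelG.exists_borel_mul i j (fun T x y => hcent T (x ≫ i) y) hsurj q hk H h hH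
  obtain ⟨B, _, b, f, f', hB, hf, hf', hs⟩ := hall H h hH
  have hhc := hH.2.1
  have hmono : Mono h := Books.AlgPtsGrp.mono_of_isClosedImmersion h
  refine ⟨⟨f', hf'⟩, ⟨B, inferInstance, b, f, hB, hf, fun f'' hf'' => ?_⟩, fun H' _ h' hH' => ?_⟩
  · have h7 : f'' = f' := by rw [← cancel_mono h, hf'', hf']
    rw [h7]
    exact hs
  · obtain ⟨B₂, _, b₂, g, g', hB₂, hg, hg', hs'⟩ := hall H' h' hH'
    exact K399.BorelG.exists_conj i j hcent h hH b f f' hB hf hf' h' hH' b₂ g g' hB₂ hg hg' hs'

end Groth.Agent.S11419
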