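import Groth.Statements.S11420
import Groth.Agent.S11394
import Groth.Agent.AlgGrp.K399.Proper

set_option autoImplicit false
universe u
open CategoryTheory MonoidalCategory CartesianMonoidalCategory MonObj GrpObj AlgebraicGeometry CategoryTheory.Limits
open AlgGrp

namespace Groth.Agent.S11420

/-- Over an algebraically closed field k, let X and Y be complete varieties (proper, integral, separated
k-schemes of finite type) and let a connected k-group scheme of finite type G act on X × Y. Then
there are unique actions of G on X and on Y such that the given action is the product action g·(x,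
y) = (g·x, g·y). (This is the form, for actions of connected group schemes, of the identification of
the neutral component of the automorphism group scheme of X × Y with the product of those of X and
Y; the representability of these group schemes is not asserted here.) -/
theorem result (k : Type u) [Field k] [IsAlgClosed k]
    (G X Y : Over (Spec (CommRingCat.of k))) [GrpObj G] [LocallyOfFiniteType G.hom] [QuasiCompact G.hom] [ConnectedSpace ↥G.left]
    [IsProper X.hom] [IsIntegral X.left]
    [IsProper Y.hom] [IsIntegral Y.left]
    (a : AlgGrp.Action G (X ⊗ Y)) :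
    ∃ (b : AlgGrp.Action G X) (c : AlgGrp.Action G Y),
      a.act = lift ((G ◁ fst X Y) ≫ b.act) ((G ◁ snd X Y) ≫ c.act) ∧
      ∀ (b' : AlgGrp.Action G X) (c' : AlgGrp.Action G Y),
        a.act = lift ((G ◁ fst X Y) ≫ b'.act) ((G ◁ snd X Y) ≫ c'.act) → b' = b ∧ c' = c := by
  have hX1 : IsIso X.hom.appTop := K399.Proper.isIso_appTop_of_proper X
  have hY1 : IsIso Y.hom.appTop := K399.Proper.isIso_appTop_of_proper Y
  have hXc : CompactSpace X.left := (quasiCompact_iff_compactSpace X.hom).mp inferInstance
  have hXq : QuasiSeparatedSpace X.left := (quasiSeparated_iff_quasiSeparatedSpace X.hom).mp inferInstance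
  have hYc : CompactSpace Y.left := (quasiCompact_iff_compactSpace Y.hom).mp inferInstance
  have hYq : QuasiSeparatedSpace Y.left := (quasiSeparated_iff_quasiSeparatedSpace Y.hom).mp inferInstance
  have hXY : IsProper (X ⊗ Y).hom := K399.Proper.isProper_tensor X Y
  have hpf : IsProper (fst X Y).left := inferInstanceAs (IsProper (pullback.fst X.hom Y.hom))
  have hps : IsProper (snd X Y).left := inferInstanceAs (IsProper (pullback.snd X.hom Y.hom))
  obtain ⟨b, hb, hb'⟩ := S11394.result k G (X ⊗ Y) X (fst X Y) (fun U => K399.Proper.isIso_fst_app X Y U) a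
  obtain ⟨c, hc, hc'⟩ := S11394.result k G (X ⊗ Y) Y (snd X Y) (fun U => K399.Basic.isIso_snd_app X Y U) a
  refine ⟨b, c, ?_, ?_⟩
  · rw [hb, hc]
    ext1 <;> simp
  · intro b' c' h
    refine ⟨hb' b' ?_, hc' c' ?_⟩
    · change (G ◁ fst X Y) ≫ b'.act = a.act ≫ fst X Y
      rw [h]; simp
    · change (G ◁ snd X Y) ≫ c'.act = a.act ≫ snd X Y
      rw [h]; simp

end Groth.Agent.S11420
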