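import Groth.Statements.S11421
import Groth.Agent.S11395
import Groth.Agent.Books.AntiAffine
import Groth.Agent.Books.AlgPts
import Groth.Agent.AlgGrp.K399.Const

set_option autoImplicit false
universe u
open CategoryTheory MonoidalCategory CartesianMonoidalCategory MonObj GrpObj AlgebraicGeometry CategoryTheory.Limits
open AlgGrp

namespace Groth.Agent.S11421

/-- Over an algebraically closed field k, let G be an algebraic group (smooth k-group scheme of finite
type) whose only global functions are the constants, H a connected algebraic group, S a connected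
k-scheme of finite type and f : G × S → H a morphism of k-schemes. Then there are a unique
k-morphism φ : S → H and a unique homomorphism ψ : G → H with f(g, s) = φ(s) · ψ(g) on points. (This
is the decomposition, over a connected base, behind the identification of the functor of morphisms
from G to H with H × Hom_gp(G, H); the published statement is the equivalence of representability of
that functor with anti-affineness of G, whose converse direction is not stated here.) -/
theorem result (k : Type u) [Field k] [IsAlgClosed k]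
    (G H S : Over (Spec (CommRingCat.of k))) [GrpObj G] [Smooth G.hom] [QuasiCompact G.hom]
    (hG : Function.Bijective ((Scheme.ΓSpecIso (CommRingCat.of k)).inv ≫ G.hom.appTop).hom)
    [GrpObj H] [Smooth H.hom] [QuasiCompact H.hom] [ConnectedSpace ↥H.left]
    [LocallyOfFiniteType S.hom] [QuasiCompact S.hom] [ConnectedSpace ↥S.left]
    (f : G ⊗ S ⟶ H) :
    ∃ (φ : S ⟶ H) (ψ : G ⟶ H), IsMonHom ψ ∧ f = (snd G S ≫ φ) * (fst G S ≫ ψ) ∧
      ∀ (φ' : S ⟶ H) (ψ' : G ⟶ H), IsMonHom ψ' → f = (snd G S ≫ φ') * (fst G S ≫ ψ') → φ' = φ ∧ ψ' = ψ := by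
  have hGi : IsIso G.hom.appTop := K399.Const.isIso_of_bijective hG
  have hGc : ConnectedSpace G.left := Books.AntiAffine.connectedSpace_left G
  have hHs : IsSeparated H.hom := Books.AntiAffine.isSeparated_hom H
  obtain ⟨s0, -⟩ := Books.AlgPts.exists_pt_mem (X := S) (U := Set.univ)
    (by obtain ⟨x⟩ := (inferInstance : Nonempty S.left); exact ⟨x, trivial⟩) isClosed_univ.isLocallyClosed
  let φ : S ⟶ H := lift (toUnit S ≫ η[G]) (𝟙 S) ≫ f
  let F : G ⊗ S ⟶ H := (snd G S ≫ φ)⁻¹ * f
  let ψ : G ⟶ H := lift (𝟙 G) (toUnit G ≫ s0) ≫ F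
  have hFe : ∀ {T : Over (Spec (CommRingCat.of k))} (s : T ⟶ S), lift (toUnit T ≫ η[G]) s ≫ F = 1 := by
    intro T s
    simp only [F, φ, MonObj.comp_mul, GrpObj.comp_inv, comp_lift_assoc, Category.comp_id,
      comp_toUnit_assoc, lift_snd, inv_mul_cancel]
  have hψ : ∀ {T : Over (Spec (CommRingCat.of k))} (g : T ⟶ G), g ≫ ψ = lift g (toUnit T ≫ s0) ≫ F := by
    intro T g
    simp only [ψ, comp_lift_assoc, Category.comp_id, comp_toUnit_assoc]
  have hψe : ∀ (T : Over (Spec (CommRingCat.of k))), (toUnit T ≫ η[G]) ≫ ψ = 1 := by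
    intro T
    rw [hψ, hFe]
  -- independence of `s`
  have hF : F = fst G S ≫ ψ := by
    obtain ⟨g, hg, -⟩ := S11395.result k G S H hG (F * (fst G S ≫ ψ)⁻¹) s0 η[H] (by
      have h1 : G ◁ s0 = lift (fst _ _) (toUnit _ ≫ s0) := by
        ext1
        · simp
        · rw [whiskerLeft_snd, lift_snd]; congr 1; exact toUnit_unique _ _
      have h2 : G ◁ s0 ≫ fst G S ≫ ψ = lift (fst G (𝟙_ _)) (toUnit _ ≫ s0) ≫ F := by
        rw [← Category.assoc, whiskerLeft_fst, hψ]
      rw [MonObj.comp_mul, GrpObj.comp_inv, h2, h1, mul_inv_cancel, Hom.one_def])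
    have h3 : g = 1 := by
      have := congr(lift (toUnit S ≫ η[G]) (𝟙 S) ≫ $hg)
      rw [MonObj.comp_mul, GrpObj.comp_inv, hFe, lift_fst_assoc, hψe, inv_one, _root_.mul_one, lift_snd_assoc,
        Category.id_comp] at this
      exact this.symm
    rw [h3, MonObj.comp_one] at hg
    exact mul_inv_eq_one.mp hg
  have hf : f = (snd G S ≫ φ) * (fst G S ≫ ψ) := by
    rw [← hF]
    simp only [F, mul_inv_cancel_left]
  have hmul : (fst G G * snd G G) ≫ ψ = (fst G G ≫ ψ) * (snd G G ≫ ψ) := by
    obtain ⟨g, hg, -⟩ := S11395.result k G G H hG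
      (((fst G G * snd G G) ≫ ψ) * (snd G G ≫ ψ)⁻¹ * (fst G G ≫ ψ)⁻¹) η[G] η[H] (by
      have e1 : G ◁ η[G] ≫ (fst G G * snd G G) = fst G (𝟙_ _) := by
        rw [MonObj.comp_mul, whiskerLeft_fst, whiskerLeft_snd]
        have : snd G (𝟙_ (Over (Spec (CommRingCat.of k)))) ≫ η[G] = 1 := by
          rw [Hom.one_def]; congr 1; exact toUnit_unique _ _
        rw [this, _root_.mul_one]
      have e2 : G ◁ η[G] ≫ snd G G ≫ ψ = 1 := by
        rw [← Category.assoc, whiskerLeft_snd, toUnit_unique (snd G (𝟙_ (Over (Spec (CommRingCat.of k))))) (toUnit _)]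
        exact hψe _
      rw [MonObj.comp_mul, MonObj.comp_mul, GrpObj.comp_inv, GrpObj.comp_inv, e2, ← Category.assoc, e1,
        ← Category.assoc (G ◁ η[G]), whiskerLeft_fst, inv_one, _root_.mul_one, mul_inv_cancel, Hom.one_def])
    have h3 : g = 1 := by
      have := congr(lift (toUnit G ≫ η[G]) (𝟙 G) ≫ $hg)
      rw [MonObj.comp_mul, MonObj.comp_mul, GrpObj.comp_inv, GrpObj.comp_inv, ← Category.assoc (lift _ _) (_ * _),
        MonObj.comp_mul, lift_fst, lift_snd, lift_snd_assoc, lift_fst_assoc, lift_snd_assoc, hψe, ← Hom.one_def,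
        _root_.one_mul, Category.id_comp, inv_one, _root_.mul_one, mul_inv_cancel, Category.id_comp] at this
      exact this.symm
    rw [h3, MonObj.comp_one, mul_inv_eq_one] at hg
    exact mul_inv_eq_iff_eq_mul.mp hg
  have hmon : IsMonHom ψ := by
    refine ⟨?_, ?_⟩
    · have := hψe (𝟙_ _)
      rw [toUnit_unique (toUnit (𝟙_ (Over (Spec (CommRingCat.of k))))) (𝟙 _), Category.id_comp] at this
      rw [this, Hom.one_def, toUnit_unique (toUnit (𝟙_ (Over (Spec (CommRingCat.of k))))) (𝟙 _), Category.id_comp]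
    · rw [mul_eq_mul, hmul, Hom.mul_def]
      congr 1
  refine ⟨φ, ψ, hmon, hf, ?_⟩
  intro φ' ψ' hψ' h
  have h1 : φ' = φ := by
    have h2 := congr(lift (toUnit S ≫ η[G]) (𝟙 S) ≫ $h)
    have h3 : toUnit S ≫ η[H] = 1 := Hom.one_def.symm
    rw [MonObj.comp_mul, lift_snd_assoc, lift_fst_assoc, Category.id_comp, Category.assoc, IsMonHom.one_hom,
      h3, _root_.mul_one] at h2
    exact h2.symm
  refine ⟨h1, ?_⟩
  rw [h1, hf, mul_right_inj] at h
  have h2 := congr(lift (𝟙 G) (toUnit G ≫ s0) ≫ $h)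
  rw [lift_fst_assoc, lift_fst_assoc, Category.id_comp, Category.id_comp] at h2
  exact h2.symm

end Groth.Agent.S11421
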