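import Groth.Statements.S14591
import Groth.Agent.AlgGrp.K401.Compact
import Groth.Agent.AlgGrp.K401.ProperQuot
import Groth.Agent.AlgGrp.K395.PreImg
import Groth.Agent.AlgGrp.K397.StrConn
import Groth.Agent.AlgGrp.K759.Ratios
import Groth.Agent.AlgGrp.K815.ChartMat
import Groth.Agent.AlgGrp.K774.EmbDesc
import Groth.Agent.AlgGrp.K398.OrbClo
import Groth.Agent.AlgGrp.K554.HomogAmple
import Groth.Agent.AlgGrp.K398.LineStab

set_option autoImplicit false
universe u
open CategoryTheory MonoidalCategory CartesianMonoidalCategory MonObj GrpObj AlgebraicGeometry CategoryTheory.Limits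
open AlgGrp

namespace Groth.Agent.S14591

/-- Let k be a field, G a k-group scheme of finite type, h : H → G a closed subgroup scheme and (X₀, a₀,
o) its homogeneous space G/H: a k-scheme locally of finite type with an action a₀ of G and a
rational point o whose orbit map is flat and surjective and identifies G × H with G ×_{X₀} G. Then
G/H admits an equivariant compactification by a projective scheme: there are a k-scheme X with a
closed immersion into a projective space over k, an action a of G on X and a G-equivariant open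
immersion u : X₀ → X with schematically dense image (its kernel ideal sheaf vanishes). -/
theorem result (k : Type u) [Field k]
    (G H : Over (Spec (CommRingCat.of k))) [GrpObj G] [GrpObj H] [LocallyOfFiniteType G.hom] [QuasiCompact G.hom]
    (h : H ⟶ G) [IsMonHom h] [IsClosedImmersion h.left]
    (X₀ : Over (Spec (CommRingCat.of k))) (a₀ : AlgGrp.Action G X₀) (o : 𝟙_ (Over (Spec (CommRingCat.of k))) ⟶ X₀) (hq : AGF.IsQuotient h X₀ a₀ o) :
    ∃ (X : Over (Spec (CommRingCat.of k))) (a : AlgGrp.Action G X) (u : X₀ ⟶ X) (n : ℕ) (c : X.left ⟶ CohB1.ProjSpace n k),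
      IsClosedImmersion c ∧ c ≫ CohB1.ProjSpace.toSpec n k = X.hom ∧ IsOpenImmersion u.left ∧
      (G ◁ u) ≫ a.act = a₀.act ≫ u ∧ u.left.ker = ⊥ := by
  have hHl : LocallyOfFiniteType H.hom := by rw [← Over.w h]; infer_instance
  have hHq : QuasiCompact H.hom := by rw [← Over.w h]; infer_instance
  obtain ⟨N, _, i, P, _, q, hi, hicl, hNaff, hNn, hqm, hqs, hqf, hqc, hker, hP⟩ := K401.ProperQuot.exists_quot G
  obtain ⟨H', _, r, j, hr, hj, hrj, hjcl, hrs, hrf, hrqc, hH', -⟩ := K401.ProperQuot.exists_image H P (h ≫ q)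
  have hjm : Mono j := Books.AlgPtsGrp.mono_of_isClosedImmersion j
  have hhm : Mono h := Books.AlgPtsGrp.mono_of_isClosedImmersion h
  obtain ⟨M, _, m, p, i', hm, hp, hi', hpb, hi'm, hker'⟩ := K395.PreImg.exists_preimage i q hker j
  have hmcl : IsClosedImmersion m.left :=
    MorphismProperty.of_isPullback (P := @IsClosedImmersion) (hpb.map (Over.forget _)).flip hjcl
  have hmm : Mono m := Books.AlgPtsGrp.mono_of_isClosedImmersion m
  let z : H ⟶ M := hpb.lift h r hrj.symm
  have hzm : z ≫ m = h := hpb.lift_fst _ _ _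
  have hzp : z ≫ p = r := hpb.lift_snd _ _ _
  have hz : IsMonHom z := by
    constructor
    · rw [← cancel_mono m, Category.assoc, hzm, IsMonHom.one_hom, IsMonHom.one_hom]
    · rw [← cancel_mono m, Category.assoc, hzm, IsMonHom.mul_hom, Category.assoc, IsMonHom.mul_hom,
        ← hzm, ← MonoidalCategory.tensorHom_comp_tensorHom_assoc]
  have hzcl : IsClosedImmersion z.left := by
    have h1 : IsClosedImmersion (z.left ≫ m.left) := by rw [← Over.comp_left, hzm]; infer_instance
    exact IsClosedImmersion.of_comp z.left m.left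
  have hzmono : Mono z := Books.AlgPtsGrp.mono_of_isClosedImmersion z
  obtain ⟨Q, aQ, oQ, hQqc, hQsep, hQ⟩ := K397.StrConn.exists_isQuotient j
  obtain ⟨hQl, hof, hos, hopb⟩ := id hQ
  let π : G ⟶ Q := q ≫ aQ.orbitMap oQ
  have hπl : π.left = q.left ≫ (aQ.orbitMap oQ).left := rfl
  have hπf : Flat π.left := by rw [hπl]; infer_instance
  have hπs : Surjective π.left := by rw [hπl]; infer_instance
  have hπqc : QuasiCompact π.left := by
    have h1 : QuasiCompact (π.left ≫ Q.hom) := by rw [Over.w]; infer_instance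
    exact QuasiCompact.of_comp _ Q.hom
  have hQn : IsLocallyNoetherian Q.left := LocallyOfFiniteType.isLocallyNoetherian Q.hom
  have hπlft : LocallyOfFiniteType π.left := by
    have h1 : LocallyOfFiniteType (π.left ≫ Q.hom) := by rw [Over.w]; infer_instance
    exact locallyOfFiniteType_of_comp _ Q.hom
  have hπlfp : LocallyOfFinitePresentation π.left := LocallyOfFinitePresentation.iff_locallyOfFiniteType.2 hπlft
  have hπ : ∀ (T : Over (Spec (CommRingCat.of k))) (x x' : T ⟶ G), x ≫ π = x' ≫ π ↔ ∃ t : T ⟶ M, t ≫ m = x⁻¹ * x' := by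
    intro T x x'
    constructor
    · intro h1
      have h2 : (x ≫ q) ≫ aQ.orbitMap oQ = (x' ≫ q) ≫ aQ.orbitMap oQ := by
        rw [Category.assoc, Category.assoc]; exact h1
      obtain ⟨y, e1, e2⟩ : ∃ y : T ⟶ P ⊗ H', y ≫ fst P H' = x ≫ q ∧ y ≫ (P ◁ j) ≫ μ[P] = x' ≫ q :=
        ⟨hopb.lift _ _ h2, hopb.lift_fst _ _ _, hopb.lift_snd _ _ _⟩
      have e3 : (x ≫ q) * (y ≫ snd P H') ≫ j = x' ≫ q := by
        rw [← e2, ← e1, Hom.mul_def, ← Category.assoc _ (P ◁ j)]
        congr 1
        apply CartesianMonoidalCategory.hom_ext <;> simp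
      exact ⟨hpb.lift (x⁻¹ * x') (y ≫ snd P H') (by
        rw [MonObj.mul_comp, GrpObj.inv_comp, ← e3]; group), hpb.lift_fst _ _ _⟩
    · rintro ⟨t, ht⟩
      have h2 : (x ≫ q) * ((t ≫ p) ≫ j) = x' ≫ q := by
        rw [Category.assoc, ← hpb.w, ← Category.assoc, ht, MonObj.mul_comp, GrpObj.inv_comp]; group
      have h3 := congrArg (lift (x ≫ q) (t ≫ p) ≫ ·) hopb.w
      have e1 : lift (x ≫ q) (t ≫ p) ≫ (P ◁ j) ≫ μ[P] = x' ≫ q := by
        rw [← h2, Hom.mul_def, ← Category.assoc]
        congr 1
        apply CartesianMonoidalCategory.hom_ext <;> simp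
      have h4 : lift (x ≫ q) (t ≫ p) ≫ fst P H' ≫ aQ.orbitMap oQ =
          lift (x ≫ q) (t ≫ p) ≫ ((P ◁ j) ≫ μ[P]) ≫ aQ.orbitMap oQ := h3
      rw [lift_fst_assoc, ← Category.assoc, e1] at h4
      change x ≫ q ≫ _ = x' ≫ q ≫ _
      rw [← Category.assoc, ← Category.assoc]
      exact h4
  obtain ⟨d, c, hccl, hc⟩ := K554.HomogAmple.exists_closedImmersion_of_isQuotient j aQ oQ hQ
  have hMl : LocallyOfFiniteType M.hom := by rw [← Over.w m]; infer_instance
  have hMq : QuasiCompact M.hom := by rw [← Over.w m]; infer_instance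
  have hi'cl : IsClosedImmersion i'.left := by
    have h1 : IsClosedImmersion (i'.left ≫ m.left) := by rw [← Over.comp_left, hi'm]; infer_instance
    exact IsClosedImmersion.of_comp i'.left m.left
  have hzf : Flat (z ≫ p).left := by rw [hzp]; exact hrf
  have hzs : Surjective (z ≫ p).left := by rw [hzp]; exact hrs
  obtain ⟨n, ρ, v, hv, hline⟩ := K398.LineStab.exists_line M N H H' i' p z hker'
  have hcart := K401.Compact.isPullback_rAct m π hπ
  have hQS : Q.left.IsSeparated := by
    refine ⟨?_⟩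
    have h1 : IsSeparated (Q.hom ≫ terminal.from (Spec (CommRingCat.of k))) := inferInstance
    rwa [terminal.comp_from] at h1
  have hV := fun y => K815.ChartMat.exists_chartMat hcart ρ y
  choose V hyV hV using hV
  obtain ⟨s, U, t, hU, haff, hle, ht, hb, hmul⟩ := Groth.Agent.AlgGrp.K759.Ratios.exists_ratios c V hyV
  choose y hy using hle
  have hR := fun a => hV (y a) (U a) (hy a) (haff a)
  choose R iR iR' σ M₀ hfl hr' hdet hM using hR
  obtain ⟨E⟩ := K774.EmbDesc.nonempty_embData hcart ρ s U t hU haff ht hb hmul R σ M₀ hfl hr' hdet hM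
  obtain ⟨W, aW, w, l, κ, hκ, hκ', hstab⟩ := K401.Compact.exists_proj_action m π hπ c hc ρ E v hv z hline
  have hWp : IsProper W.hom := by
    have h1 : IsProper (CohB1.ProjSpace.toSpec l k) := Groth.Agent.Ega3B.ProjProper.isProper_toSpec l k
    rw [← hκ']; infer_instance
  obtain ⟨X, a, u, e, he, -, hu, hequiv, hker⟩ := K398.OrbClo.exists_orbit_closure h a₀ o hq aW w (fun T g => by
    rw [hstab, hzm])
  refine ⟨X, a, u, l, e.left ≫ κ, inferInstance, ?_, hu, hequiv, hker⟩
  rw [Category.assoc, hκ', Over.w]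

end Groth.Agent.S14591
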