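import Groth.Statements.S11422
import Groth.Agent.AlgGrp.K401.BiAct
import Groth.Agent.AlgGrp.K492.EqNorm
import Groth.Agent.AlgGrp.K406.GrpInt
import Groth.Agent.AbVar.K528.Irr
import Groth.Agent.CohqB.ProjBC
import Groth.Agent.S14591

set_option autoImplicit false
universe u
open CategoryTheory MonoidalCategory CartesianMonoidalCategory MonObj GrpObj AlgebraicGeometry CategoryTheory.Limits
open AlgGrp

namespace Groth.Agent.S11422

/-- Over an algebraically closed field k, let G be a connected algebraic group (smooth k-group scheme of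
finite type). Then G admits a G × G-equivariant completion by a normal projective variety: there are
an integral, normal k-scheme X̄ which is projective over k (a closed subscheme of a projective space
over k), two commuting actions of G on X̄, and an open immersion emb : G → X̄ with dense image such
that emb(g x h⁻¹) is obtained from emb(x) by acting with g through the first action and with h
through the second, for all points g, h, x of G. -/
theorem result (k : Type u) [Field k] [IsAlgClosed k]
    (G : Over (Spec (CommRingCat.of k))) [GrpObj G] [Smooth G.hom] [QuasiCompact G.hom] [ConnectedSpace ↥G.left] :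
    ∃ (Xc : Over (Spec (CommRingCat.of k))) (cl cr : AlgGrp.Action G Xc) (emb : G ⟶ Xc), IsOpenImmersion emb.left ∧
      Dense (Set.range emb.left.base) ∧ IsIntegral Xc.left ∧ Pi1.IsNormalScheme Xc.left ∧ Neron.IsProjectiveOver k Xc ∧
      (∀ (S : Over (Spec (CommRingCat.of k))) (g h : S ⟶ G) (y : S ⟶ Xc),
        lift g (lift h y ≫ cr.act) ≫ cl.act = lift h (lift g y ≫ cl.act) ≫ cr.act) ∧
      ∀ (S : Over (Spec (CommRingCat.of k))) (g h x : S ⟶ G),
        lift g (lift h (x ≫ emb) ≫ cr.act) ≫ cl.act = (g * x * h⁻¹) ≫ emb := by
  have hG : IsIntegral G.left := K406.GrpInt.isIntegral_grp G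
  have hGG : IsIntegral (G ⊗ G).left := K528.Irr.isIntegral_tensor G G
  have hGGs : Smooth (G ⊗ G).hom := K395.Dense.smooth_tensor G G
  have hGGq : QuasiCompact (G ⊗ G).hom := by
    have : (G ⊗ G).hom = pullback.fst G.hom G.hom ≫ G.hom := rfl
    rw [this]; infer_instance
  have hGGc : ConnectedSpace ↥(G ⊗ G).left := inferInstance
  have hsep : IsSeparated G.hom := K395.Dense.isSeparated_hom G
  have hδ : IsClosedImmersion (K401.BiAct.diag G).left := by
    have h1 : (K401.BiAct.diag G).left = pullback.diagonal G.hom := rfl
    rw [h1]; infer_instance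
  have hq := K401.BiAct.isQuotient_biAct G
  obtain ⟨X, a, u, n, c, hc, hcs, hu, hequ, hker⟩ :=
    Groth.Agent.S14591.result k (G ⊗ G) G (K401.BiAct.diag G) G (K401.BiAct.biAct G) η[G] hq
  have hXl : LocallyOfFiniteType X.hom := by
    have h1 : IsProper (CohB1.ProjSpace.toSpec n k) := Groth.Agent.Ega3B.ProjProper.isProper_toSpec n k
    rw [← hcs]; infer_instance
  have huq : QuasiCompact u.left := by
    have h1 : IsLocallyNoetherian X.left := LocallyOfFiniteType.isLocallyNoetherian X.hom
    have h2 : QuasiCompact (u.left ≫ X.hom) := by rw [Over.w]; infer_instance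
    exact QuasiCompact.of_comp u.left X.hom
  have hX : IsIntegral X.left := K401.BiAct.isIntegral_of_ker u.left hker
  obtain ⟨X', a', u', n', c', hc', hcs', hX', hXn', hu', hud', hequ'⟩ :=
    K492.EqNorm.exists_normal a (K401.BiAct.biAct G) u hequ n c hcs
  refine ⟨X', K401.BiAct.left a', K401.BiAct.right a', u', hu', ?_, hX', hXn', ?_, ?_, ?_⟩
  · exact hud'.denseRange
  · refine ⟨n', c' ≫ (Groth.Agent.CohqB.ProjBC.projSpaceOverIso n' k).inv, inferInstance, ?_⟩
    rw [Category.assoc, Groth.Agent.CohqB.ProjBC.projSpaceOverIso_inv_toBase, hcs']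
  · intro S g h y
    rw [K401.BiAct.left_right, K401.BiAct.right_left]
  · intro S g h x
    rw [K401.BiAct.left_right]
    have h1 := congrArg (lift (lift g h) x ≫ ·) hequ'
    simp only [lift_whiskerLeft_assoc] at h1
    rw [h1, ← Category.assoc, K401.BiAct.lift_biAct, lift_fst, lift_snd]

end Groth.Agent.S11422
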