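import Groth.Statements.S11423
import Groth.Agent.AlgGrp.K399.Act
import Groth.Agent.AlgGrp.K399.Tools

set_option autoImplicit false
universe u
open CategoryTheory MonoidalCategory CartesianMonoidalCategory MonObj GrpObj AlgebraicGeometry CategoryTheory.Limits
open AlgGrp

namespace Groth.Agent.S11423

/-- Over an algebraically closed field k, let G be a connected affine algebraic group (smooth, affine,
connected k-group scheme of finite type), A an abelian variety (proper, smooth, connected k-group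
scheme) and π : X → A a principal G-bundle of k-schemes of finite type (G acts on X, π is
G-invariant and faithfully flat, and the square formed by the action, the second projection and π is
cartesian). Suppose π is trivialized by an anti-affine extension of A: there are an algebraic group
𝒢 whose only global functions are the constants, a flat surjective homomorphism φ : 𝒢 → A with
affine kernel, and a morphism σ : 𝒢 → X with π ∘ σ = φ (a section of the pulled-back bundle). Then π
is homogeneous: for every rational point a of A there is a G-equivariant automorphism of X over the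
translation of A by a. (The published statement is the equivalence; only this direction is stated
here.) -/
theorem result (k : Type u) [Field k] [IsAlgClosed k]
    (G X A : Over (Spec (CommRingCat.of k))) [GrpObj G] [Smooth G.hom] [QuasiCompact G.hom] [IsAffine G.left] [ConnectedSpace ↥G.left]
    [LocallyOfFiniteType X.hom] [QuasiCompact X.hom]
    [GrpObj A] [IsProper A.hom] [Smooth A.hom] [ConnectedSpace ↥A.left]
    (a : AlgGrp.Action G X) (π : X ⟶ A) (hinv : a.act ≫ π = snd G X ≫ π) [Flat π.left] [Surjective π.left]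
    (hcart : IsPullback (snd G X) a.act π π)
    (E : Over (Spec (CommRingCat.of k))) [GrpObj E] [Smooth E.hom] [QuasiCompact E.hom]
    (hE : Function.Bijective ((Scheme.ΓSpecIso (CommRingCat.of k)).inv ≫ E.hom.appTop).hom)
    (φ : E ⟶ A) [IsMonHom φ] [Flat φ.left] [Surjective φ.left]
    (Hk : Over (Spec (CommRingCat.of k))) [GrpObj Hk] (h : Hk ⟶ E) [IsMonHom h] (hk : AlgGrp.IsKernel h φ) [IsAffine Hk.left]
    (σ : E ⟶ X) (hσ : σ ≫ π = φ)
    (t : 𝟙_ (Over (Spec (CommRingCat.of k))) ⟶ A) :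
    ∃ ψ : X ≅ X, (G ◁ ψ.hom) ≫ a.act = a.act ≫ ψ.hom ∧
      ψ.hom ≫ π = π ≫ (lift (𝟙 A) (toUnit A ≫ t) ≫ μ[A]) := by
  have hEi : IsIso E.hom.appTop := K399.Const.isIso_of_bijective hE
  have hEc : CompactSpace E.left := (quasiCompact_iff_compactSpace E.hom).mp inferInstance
  have hEs : IsSeparated E.hom := Books.AntiAffine.isSeparated_hom E
  have hEq : QuasiSeparatedSpace E.left := (quasiSeparated_iff_quasiSeparatedSpace E.hom).mp inferInstance
  have hcomm : IsCommMonObj E := Books.AntiAffine.isCommMonObj E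
  have hmc : ∀ {S : Over (Spec (CommRingCat.of k))} (x y : S ⟶ E), x * y = y * x := fun x y => mul_comm x y
  -- freeness
  have free : ∀ {S : Over (Spec (CommRingCat.of k))} (g g' : S ⟶ G) (x : S ⟶ X),
      lift g x ≫ a.act = lift g' x ≫ a.act → g = g' := by
    intro S g g' x hgg
    have : lift g x = lift g' x := hcart.hom_ext (by simp) hgg
    simpa using congr($this ≫ fst G X)
  have trans : ∀ {S : Over (Spec (CommRingCat.of k))} (x y : S ⟶ X), x ≫ π = y ≫ π →
      ∃ g : S ⟶ G, lift g x ≫ a.act = y := by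
    intro S x y hxy
    refine ⟨hcart.lift x y hxy ≫ fst G X, ?_⟩
    have : lift (hcart.lift x y hxy ≫ fst G X) x = hcart.lift x y hxy := by
      ext1
      · simp
      · simp only [lift_snd]; exact (hcart.lift_fst _ _ _).symm
    rw [this, hcart.lift_snd]
  have inv : ∀ {S : Over (Spec (CommRingCat.of k))} (g : S ⟶ G) (x : S ⟶ X),
      lift g x ≫ a.act ≫ π = x ≫ π := by
    intro S g x
    rw [hinv, lift_snd_assoc]
  have hφmul : ∀ {S : Over (Spec (CommRingCat.of k))} (x y : S ⟶ E), (x * y) ≫ φ = (x ≫ φ) * (y ≫ φ) :=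
    fun x y => MonObj.mul_comp _ _ _
  have hhφ : ∀ {S : Over (Spec (CommRingCat.of k))} (n : S ⟶ Hk), n ≫ h ≫ φ = 1 := by
    intro S n
    rw [hk.w, Hom.one_def, ← Category.assoc]
    congr 1
    exact toUnit_unique _ _
  -- the cocycle
  obtain ⟨F, hF⟩ := trans (fst E Hk ≫ σ) ((fst E Hk * (snd E Hk ≫ h)) ≫ σ) (by
    rw [Category.assoc, Category.assoc, hσ, hφmul, Category.assoc, hhφ, _root_.mul_one])
  let γ : Hk ⟶ G := lift (toUnit Hk ≫ η[E]) (𝟙 Hk) ≫ F
  have hFγ : F = snd E Hk ≫ γ := K399.Tools.eq_snd_comp η[E] F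
  have hγ : ∀ {S : Over (Spec (CommRingCat.of k))} (x : S ⟶ E) (n : S ⟶ Hk),
      lift (n ≫ γ) (x ≫ σ) ≫ a.act = (x * (n ≫ h)) ≫ σ := by
    intro S x n
    have h1 := lift x n ≫= hF
    rw [hFγ, K399.Act.comp_smul, ← Category.assoc (lift x n) (_ * _), MonObj.comp_mul] at h1
    simpa using h1
  -- the covering
  let p : G ⊗ E ⟶ X := (G ◁ σ) ≫ a.act
  have hp : ∀ {S : Over (Spec (CommRingCat.of k))} (g : S ⟶ G) (x : S ⟶ E),
      lift g x ≫ p = lift g (x ≫ σ) ≫ a.act := by
    intro S g x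
    simp [p]
  have hpb : IsPullback p (snd G E) π φ := by
    refine ⟨⟨?_⟩, ⟨PullbackCone.IsLimit.mk _ (fun s => ?_) ?_ ?_ ?_⟩⟩
    · simp only [p, Category.assoc, hinv, whiskerLeft_snd_assoc, hσ]
    · exact lift ((trans (s.snd ≫ σ) s.fst (by rw [Category.assoc, hσ, s.condition])).choose) s.snd
    · intro s
      rw [hp]
      exact (trans (s.snd ≫ σ) s.fst (by rw [Category.assoc, hσ, s.condition])).choose_spec
    · intro s
      simp
    · intro s m h1 h2
      have h3 := (trans (s.snd ≫ σ) s.fst (by rw [Category.assoc, hσ, s.condition])).choose_spec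
      ext1
      · rw [lift_fst]
        apply free _ _ (s.snd ≫ σ)
        rw [h3, ← h1, ← hp]
        congr 1
        ext1 <;> simp [← h2]
      · rw [lift_snd, h2]
  have hpb' := hpb.map (Over.forget _)
  have hpf : Flat p.left := MorphismProperty.of_isPullback (P := @Flat) hpb'.flip (by assumption)
  have hps : Surjective p.left := MorphismProperty.of_isPullback (P := @Surjective) hpb'.flip (by assumption)
  have hφl : LocallyOfFinitePresentation φ.left := K399.Tools.lfp_left φ
  have hpl : LocallyOfFinitePresentation p.left :=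
    MorphismProperty.of_isPullback (P := @LocallyOfFinitePresentation) hpb'.flip hφl
  have hepi : Epi p := Sga3C.QuotProps.epi_of_flat_surjective p
  -- translations lift
  have key : ∀ e : 𝟙_ (Over (Spec (CommRingCat.of k))) ⟶ E, ∃ ψ : X ⟶ X,
      ∀ (S : Over (Spec (CommRingCat.of k))) (g : S ⟶ G) (x : S ⟶ E),
        lift g x ≫ p ≫ ψ = lift g (x * (toUnit S ≫ e)) ≫ p := by
    intro e
    let f : G ⊗ E ⟶ X := lift (fst G E) (snd G E * (toUnit _ ≫ e)) ≫ p
    have hf : ∀ {S : Over (Spec (CommRingCat.of k))} (g : S ⟶ G) (x : S ⟶ E),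
        lift g x ≫ f = lift g (x * (toUnit S ≫ e)) ≫ p := by
      intro S g x
      simp [f, MonObj.comp_mul, comp_lift_assoc]
    obtain ⟨ψ, hψ⟩ := Sga3C.QuotProps.exists_desc p f (by
      intro T x y hxy
      obtain ⟨g, x, rfl⟩ : ∃ g x', x = lift g x' := ⟨x ≫ fst _ _, x ≫ snd _ _, by ext1 <;> simp⟩
      obtain ⟨g', y, rfl⟩ : ∃ g x', y = lift g x' := ⟨y ≫ fst _ _, y ≫ snd _ _, by ext1 <;> simp⟩
      have h1 : x ≫ φ = y ≫ φ := by
        have := congr($hxy ≫ π)
        simpa only [Category.assoc, hpb.w, lift_snd_assoc] using this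
      obtain ⟨n, hn⟩ : ∃ n : T ⟶ Hk, n ≫ h = x⁻¹ * y := by
        have h2 : (x⁻¹ * y) ≫ φ = toUnit T ≫ η[A] := by
          rw [hφmul, GrpObj.inv_comp, h1, inv_mul_cancel, Hom.one_def]
        exact ⟨hk.lift _ _ h2, hk.lift_fst _ _ _⟩
      have hy : y = x * (n ≫ h) := by rw [hn, mul_inv_cancel_left]
      subst hy
      rw [hp, hp, ← hγ, ← K399.Act.mul_smul] at hxy
      have hg := free _ _ _ hxy
      subst hg
      rw [hf, hf, hp, hp, K399.Act.mul_smul, hγ]
      congr 3
      rw [_root_.mul_assoc, _root_.mul_assoc, hmc (toUnit T ≫ e)])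
    exact ⟨ψ, fun S g x => by rw [hψ, hf]⟩
  obtain ⟨e0, he0⟩ : ∃ e0 : 𝟙_ (Over (Spec (CommRingCat.of k))) ⟶ E, e0 ≫ φ = t :=
    Books.AlgPts.exists_comp_eq_of_pt_mem_range φ t (by
      rw [(Set.range_eq_univ.mpr (Surjective.surj (f := φ.left)))]; trivial)
  obtain ⟨ψ, hψ⟩ := key e0
  obtain ⟨ψ', hψ'⟩ := key (e0⁻¹)
  have hid : lift (fst G E) (snd G E) = 𝟙 _ := by ext1 <;> simp
  have hψψ' : ψ ≫ ψ' = 𝟙 X := by
    rw [← cancel_epi p, ← Category.id_comp (p ≫ 𝟙 X), ← Category.id_comp (p ≫ ψ ≫ ψ'), ← hid]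
    have h1 := hψ _ (fst G E) (snd G E)
    have h2 := hψ' _ (fst G E) (snd G E * (toUnit _ ≫ e0))
    rw [← Category.assoc p, ← Category.assoc (lift _ _), h1, Category.assoc, h2, GrpObj.comp_inv,
      mul_inv_cancel_right, Category.comp_id]
  have hψ'ψ : ψ' ≫ ψ = 𝟙 X := by
    rw [← cancel_epi p, ← Category.id_comp (p ≫ 𝟙 X), ← Category.id_comp (p ≫ ψ' ≫ ψ), ← hid]
    have h1 := hψ' _ (fst G E) (snd G E)
    have h2 := hψ _ (fst G E) (snd G E * (toUnit _ ≫ e0⁻¹))
    rw [← Category.assoc p, ← Category.assoc (lift _ _), h1, Category.assoc, h2, GrpObj.comp_inv,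
      inv_mul_cancel_right, Category.comp_id]
  refine ⟨⟨ψ, ψ', hψψ', hψ'ψ⟩, ?_, ?_⟩
  · have hepi2 : Epi (G ◁ p) := by
      have : Flat (G ◁ p).left := Books.AntiAffine.whiskerLeft_left_mem @Flat _ _ hpf
      have : Surjective (G ◁ p).left := Books.AntiAffine.whiskerLeft_left_mem @Surjective _ _ hps
      exact Sga3C.QuotProps.epi_of_flat_surjective (G ◁ p)
    rw [← cancel_epi (G ◁ p)]
    have e1 : G ◁ p = lift (fst _ _) (lift (snd G (G ⊗ E) ≫ fst _ _) (snd G (G ⊗ E) ≫ snd _ _) ≫ p) := by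
      ext1
      · simp
      · rw [whiskerLeft_snd, lift_snd]
        congr 1
        ext1 <;> simp
    have e2 : G ◁ p ≫ a.act = lift (fst _ _ * (snd G (G ⊗ E) ≫ fst _ _)) (snd G (G ⊗ E) ≫ snd _ _) ≫ p := by
      rw [e1, hp, hp, K399.Act.mul_smul]
    change G ◁ p ≫ G ◁ ψ ≫ a.act = G ◁ p ≫ a.act ≫ ψ
    rw [← Category.assoc _ a.act ψ, e2, Category.assoc, hψ, e1, ← Category.assoc, lift_whiskerLeft, Category.assoc,
      hψ, hp, hp, K399.Act.mul_smul]
  · change ψ ≫ π = _
    rw [← cancel_epi p, ← Category.id_comp (p ≫ ψ ≫ π), ← hid]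
    have h1 := hψ _ (fst G E) (snd G E)
    rw [← Category.assoc p, ← Category.assoc (lift _ _), h1, Category.assoc, hpb.w, lift_snd_assoc, hφmul,
      ← Category.assoc p, hpb.w, Category.assoc, he0, comp_lift_assoc, ← Hom.mul_def]
    simp

end Groth.Agent.S11423
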