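import Groth.Statements.S11425
import Groth.Agent.AlgGrp.K399.UnipTor
import Groth.Agent.AlgGrp.K399.Hull

set_option autoImplicit false
universe u
open CategoryTheory MonoidalCategory CartesianMonoidalCategory MonObj GrpObj AlgebraicGeometry CategoryTheory.Limits
open AlgGrp

namespace Groth.Agent.S11425

/-- Over an algebraically closed field k, let G be a connected commutative algebraic group (smooth
k-group scheme of finite type), let i : N → G be its largest connected affine normal algebraic
subgroup G_aff (a homomorphism and closed immersion from a smooth, connected, affine k-group scheme,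
normal in G, through which every other such subgroup factors), and suppose G_aff = T × U:
homomorphisms t : T → G_aff from a split torus and u : U → G_aff from a smooth, connected, affine
group containing no non-trivial subtorus (unipotent), such that multiplication T × U → G_aff is an
isomorphism. Let q_s : G → G_s and q_u : G → G_u be flat surjective homomorphisms of k-group schemes
of finite type with kernels U and T respectively (G_s = G/U, G_u = G/T). Then the only global
functions on G are the constants if and only if the same holds for both G_s and G_u. -/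
theorem result (k : Type u) [Field k] [IsAlgClosed k]
    (G : Over (Spec (CommRingCat.of k))) [GrpObj G] [Smooth G.hom] [QuasiCompact G.hom] [ConnectedSpace ↥G.left] [IsCommMonObj G]
    (N : Over (Spec (CommRingCat.of k))) [GrpObj N] (i : N ⟶ G) [IsMonHom i] [IsClosedImmersion i.left]
    [Smooth N.hom] [ConnectedSpace ↥N.left] [IsAffine N.left] (hN : AlgGrp.IsNormalHom i)
    (hNmax : ∀ (N' : Over (Spec (CommRingCat.of k))) [GrpObj N'] (i' : N' ⟶ G) [IsMonHom i'] [IsClosedImmersion i'.left]
      [Smooth N'.hom] [ConnectedSpace ↥N'.left] [IsAffine N'.left], AlgGrp.IsNormalHom i' → ∃ f : N' ⟶ N, f ≫ i = i')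
    (T U : Over (Spec (CommRingCat.of k))) [GrpObj T] [GrpObj U] (t : T ⟶ N) (u : U ⟶ N) [IsMonHom t] [IsMonHom u]
    (r : ℕ) (hT : Red.IsSplitTorusWith (Fin r → ℤ) T)
    [Smooth U.hom] [ConnectedSpace ↥U.left] [IsAffine U.left] (hU : Red.HasNoSubtorus k U)
    (hTU : IsIso ((t ⊗ₘ u) ≫ μ[N]))
    (Gs Gu : Over (Spec (CommRingCat.of k))) [GrpObj Gs] [GrpObj Gu] [LocallyOfFiniteType Gs.hom] [QuasiCompact Gs.hom]
    [LocallyOfFiniteType Gu.hom] [QuasiCompact Gu.hom]
    (qs : G ⟶ Gs) [IsMonHom qs] [Surjective qs.left] [Flat qs.left] (hs : AlgGrp.IsKernel (u ≫ i) qs)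
    (qu : G ⟶ Gu) [IsMonHom qu] [Surjective qu.left] [Flat qu.left] (hu : AlgGrp.IsKernel (t ≫ i) qu) :
    Function.Bijective ((Scheme.ΓSpecIso (CommRingCat.of k)).inv ≫ G.hom.appTop).hom ↔ Function.Bijective ((Scheme.ΓSpecIso (CommRingCat.of k)).inv ≫ Gs.hom.appTop).hom ∧ Function.Bijective ((Scheme.ΓSpecIso (CommRingCat.of k)).inv ≫ Gu.hom.appTop).hom := by
  constructor
  · intro h
    have hG : IsIso G.hom.appTop := K399.Const.isIso_of_bijective h
    have h1 := K399.Quot.isIso_appTop_of_flat_surjective qs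
    have h2 := K399.Quot.isIso_appTop_of_flat_surjective qu
    exact ⟨K399.Const.bijective_of_isIso, K399.Const.bijective_of_isIso⟩
  · rintro ⟨h1, h2⟩
    have hs' : IsIso Gs.hom.appTop := K399.Const.isIso_of_bijective h1
    have hu' : IsIso Gu.hom.appTop := K399.Const.isIso_of_bijective h2
    obtain ⟨Q, _, ρ, hρ, hQa, hQf, hρf, hρs, haff⟩ := K399.Hull.exists_affinization G
    have hTl : LocallyOfFiniteType T.hom ∧ QuasiCompact T.hom := by
      obtain ⟨n, g, hg⟩ := Sga3B.RG.BrTorus.isTorus_iff.mp (Sga3B.RG.BrTorus.isTorus_of_isSplitTorusWith hT)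
      have h := Sga3B.RG.BrPts.lft_specOver (K := k) (Sga3B.RG.BrTorus.KZ k n)
      refine ⟨K399.Hull.lft_of_iso g.symm, ?_⟩
      have h : IsIso g.hom.left := inferInstanceAs (IsIso ((Over.forget _).mapIso g).hom)
      rw [← Over.w g.hom]
      infer_instance
    obtain ⟨hTl, hTq⟩ := hTl
    have hs1 : Surjective ((u ≫ i) ≫ ρ).left :=
      K399.Quot.surjective_of_antiAffine_quotient (u ≫ i) qs hs ρ
    have hs2 : Surjective ((t ≫ i) ≫ ρ).left :=
      K399.Quot.surjective_of_antiAffine_quotient (t ≫ i) qu hu ρ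
    have hpt : ∀ x : 𝟙_ (Over (Spec (CommRingCat.of k))) ⟶ Q, x = 1 :=
      K399.UnipTor.eq_one_of_torus_of_unip hT hU ((t ≫ i) ≫ ρ) ((u ≫ i) ≫ ρ)
    -- `G ⟶ Q` is trivial since `G` is reduced
    have hred : IsReduced G.left := Books.AlgPtsSmooth.isReduced_of_smooth G
    have hρ1 : ρ = 1 := by
      have hsep : IsSeparated Q.hom := Books.AntiAffine.isSeparated_hom Q
      refine Sga3B.RG.BrPts.hom_ext_of_points ρ 1 (fun x => ?_)
      rw [hpt (x ≫ ρ), MonObj.comp_one]
    have hepi := Sga3C.QuotProps.epi_of_flat_surjective ρ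
    have hQ1 : 𝟙 Q = toUnit Q ≫ η[Q] := by
      rw [← cancel_epi ρ, Category.comp_id]
      nth_rewrite 1 [hρ1]
      rw [Hom.one_def, ← Category.assoc]
      congr 1
      exact toUnit_unique _ _
    have hQi : IsIso (toUnit Q) := ⟨η[Q], hQ1.symm, toUnit_unique _ _⟩
    have hQi' : IsIso Q.hom := by
      have : IsIso (toUnit Q).left := inferInstanceAs (IsIso ((Over.forget _).map (toUnit Q)))
      rw [← Over.w (toUnit Q)]
      have : IsIso (𝟙_ (Over (Spec (CommRingCat.of k)))).hom := inferInstanceAs (IsIso (𝟙 _))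
      infer_instance
    have hiso := haff.isIso
    have hiso2 := Sga3.H786.HullFG.isIso_appTop Q.hom hQi'
    have : IsIso G.hom.appTop := by
      rw [← Over.w ρ, Scheme.Hom.comp_appTop]
      infer_instance
    exact K399.Const.bijective_of_isIso

end Groth.Agent.S11425
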