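import Groth.Statements.S11426
import Groth.Agent.AlgGrp.K399.DivMain

set_option autoImplicit false
universe u
open CategoryTheory MonoidalCategory CartesianMonoidalCategory MonObj GrpObj AlgebraicGeometry CategoryTheory.Limits
open AlgGrp

namespace Groth.Agent.S11426

/-- Over an algebraically closed field k, let X be a normal variety (integral, separated, of finite
type, with integrally closed local rings), D an irreducible divisor of X, given by its generic point
ξ (a point whose local ring has Krull dimension one), Y a complete variety (proper and integral over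
k) and f : X ⇢ Y a dominant rational map over k, given by a partial map on a dense open. Then one
can find a complete variety Y' together with a k-morphism φ : Y' → Y which is birational (an
isomorphism between dense open subschemes compatible with φ), such that the induced rational map f'
: X ⇢ Y' (with φ ∘ f' = f) is defined at ξ and maps ξ to a point whose closure is Y' or a divisor:
the local ring of Y' at the image of ξ has Krull dimension at most one. -/
theorem result (k : Type u) [Field k] [IsAlgClosed k]
    (X Y : Over (Spec (CommRingCat.of k))) [LocallyOfFiniteType X.hom] [QuasiCompact X.hom] [IsSeparated X.hom] [IsIntegral X.left]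
    (hXn : Pi1.IsNormalScheme X.left) [IsProper Y.hom] [IsIntegral Y.left]
    (ξ : ↥X.left) (hξ : ringKrullDim ↑(X.left.presheaf.stalk ξ) = 1)
    (f : X.left.PartialMap Y.left) (hf : f.hom ≫ Y.hom = f.domain.ι ≫ X.hom) [IsDominant f.hom] :
    ∃ (Y' : Over (Spec (CommRingCat.of k))) (_ : IsProper Y'.hom) (_ : IsIntegral Y'.left) (φ : Y' ⟶ Y)
      (P : Y'.left.PartialIso Y.left) (_ : P.iso.hom ≫ P.target.ι = P.source.ι ≫ φ.left)
      (g : X.left.PartialMap Y'.left) (_ : g.hom ≫ Y'.hom = g.domain.ι ≫ X.hom)
      (_ : (g.compHom φ.left).toRationalMap = f.toRationalMap) (hξg : ξ ∈ g.domain),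
      ringKrullDim ↑(Y'.left.presheaf.stalk (g.hom.base ⟨ξ, hξg⟩)) ≤ 1 := by
  -- the valuation ring
  have hnoeth : IsLocallyNoetherian X.left := LocallyOfFiniteType.isLocallyNoetherian X.hom
  have hRd : IsDomain (X.left.presheaf.stalk ξ) := (hXn ξ).1
  have hRv : ValuationRing (X.left.presheaf.stalk ξ) := K399.DivMain.valuationRing_of_dim _ (hXn ξ).2 hξ
  let ρ : CommRingCat.of k ⟶ X.left.presheaf.stalk ξ := Spec.preimage (X.left.fromSpecStalk ξ ≫ X.hom)
  have hρ : Spec.map ρ = X.left.fromSpecStalk ξ ≫ X.hom := Spec.map_preimage _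
  let _ : Algebra k (X.left.presheaf.stalk ξ) := ρ.hom.toAlgebra
  obtain ⟨N, hN, hres⟩ := K399.DivMain.exists_trdeg_stalk X ξ (le_of_eq hξ) hρ
  -- the extension of `f` to `Spec R`
  have halg : Spec.map (CommRingCat.ofHom (algebraMap (X.left.presheaf.stalk ξ) X.left.functionField)) ≫
      X.left.fromSpecStalk ξ = X.left.fromSpecStalk (genericPoint X.left) :=
    Scheme.SpecMap_stalkSpecializes_fromSpecStalk (genericPoint_specializes ξ)
  have hη : genericPoint X.left ∈ f.domain :=
    (genericPoint_specializes _).mem_open f.domain.2 f.dense_domain.nonempty.choose_spec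
  have hsq : f.fromFunctionField ≫ Y.hom =
      (Spec.map (CommRingCat.ofHom (algebraMap (X.left.presheaf.stalk ξ) X.left.functionField))) ≫ (Spec.map ρ) := by
    have h1 : f.fromFunctionField ≫ Y.hom = X.left.fromSpecStalk (genericPoint X.left) ≫ X.hom := by
      rw [Scheme.PartialMap.fromFunctionField, Scheme.PartialMap.fromSpecStalkOfMem,
        Category.assoc, hf, ← Category.assoc, Scheme.Opens.fromSpecStalkOfMem_ι]
    rw [h1, hρ]
    exact (congrArg (fun z => z ≫ X.hom) halg.symm).trans (Category.assoc _ _ _)
  obtain ⟨h, hh1, hh2⟩ := @K399.DivMain.exists_lift _ _ Y.hom _ (X.left.presheaf.stalk ξ) X.left.functionField _ hRd hRv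
    _ _ _ f.fromFunctionField (Spec.map ρ) hsq
  have hdom : IsDominant h := by
    have h1 : IsDominant (X.left.fromSpecStalk (genericPoint X.left)) := by
      refine ⟨?_⟩
      rw [DenseRange, dense_iff_closure_eq, Set.eq_univ_iff_forall]
      intro x
      have h2 : genericPoint X.left ∈ Set.range (X.left.fromSpecStalk (genericPoint X.left)) :=
        ⟨_, Scheme.fromSpecStalk_closedPoint⟩
      exact closure_mono (Set.singleton_subset_iff.mpr h2) ((genericPoint_specializes x).mem_closure)
    have h2 : IsDominant (f.domain.fromSpecStalkOfMem _ hη ≫ f.domain.ι) := by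
      rw [Scheme.Opens.fromSpecStalkOfMem_ι]
      exact h1
    have h3 : IsDominant (f.domain.fromSpecStalkOfMem _ hη) := IsDominant.of_comp_of_isOpenImmersion _ f.domain.ι
    have h4 : IsDominant (f.domain.fromSpecStalkOfMem _ hη ≫ f.hom) := inferInstance
    have h5 : IsDominant (Spec.map (CommRingCat.ofHom
        (algebraMap (X.left.presheaf.stalk ξ) X.left.functionField)) ≫ h) := by
      rw [hh1]
      exact h4
    exact @IsDominant.of_comp _ _ _ _ h h5
  obtain ⟨Y', hY'1, hY'2, φ, P, hP, h', hh', hdim⟩ := K399.DivModel.exists_model k Y (X.left.presheaf.stalk ξ) h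
    hh2 N hN hres
  let g : X.left.PartialMap Y'.left := Scheme.PartialMap.ofFromSpecStalk X.hom Y'.hom h' (by
    rw [← hρ, ← Over.w φ, ← Category.assoc, hh', hh2])
  have hgξ : ξ ∈ g.domain := Scheme.PartialMap.mem_domain_ofFromSpecStalk X.hom Y'.hom h' _
  have hg : g.fromSpecStalkOfMem hgξ = h' := Scheme.PartialMap.fromSpecStalkOfMem_ofFromSpecStalk X.hom Y'.hom h' _
  refine ⟨Y', hY'1, hY'2, φ, P, hP, g, Scheme.PartialMap.ofFromSpecStalk_comp X.hom Y'.hom h' _, ?_, hgξ, ?_⟩
  · refine Scheme.PartialMap.toRationalMap_eq_iff.mpr ?_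
    have hηg : genericPoint X.left ∈ g.domain :=
      (genericPoint_specializes _).mem_open g.domain.2 g.dense_domain.nonempty.choose_spec
    refine Scheme.PartialMap.equiv_of_fromSpecStalkOfMem_eq (g.compHom φ.left) f hηg hη ?_
    have h1 : g.domain.fromSpecStalkOfMem _ hηg =
        Spec.map (X.left.presheaf.stalkSpecializes (genericPoint_specializes ξ)) ≫
          g.domain.fromSpecStalkOfMem _ hgξ := by
      rw [← cancel_mono g.domain.ι, Category.assoc, Scheme.Opens.fromSpecStalkOfMem_ι,
        Scheme.Opens.fromSpecStalkOfMem_ι, Scheme.SpecMap_stalkSpecializes_fromSpecStalk]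
    refine (Scheme.PartialMap.fromSpecStalkOfMem_compHom g φ.left _ hηg).trans ?_
    have h2 : g.fromSpecStalkOfMem hηg =
        Spec.map (X.left.presheaf.stalkSpecializes (genericPoint_specializes ξ)) ≫ g.fromSpecStalkOfMem hgξ := by
      rw [Scheme.PartialMap.fromSpecStalkOfMem, h1, Category.assoc]
      rfl
    rw [h2, hg, Category.assoc, hh']
    exact hh1
  · have h1 : g.domain.fromSpecStalkOfMem _ hgξ (IsLocalRing.closedPoint (X.left.presheaf.stalk ξ)) = ⟨ξ, hgξ⟩ := by
      apply g.domain.ι.injective
      have h2 := congrArg (fun z : Spec (X.left.presheaf.stalk ξ) ⟶ X.left =>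
        z (IsLocalRing.closedPoint (X.left.presheaf.stalk ξ))) (Scheme.Opens.fromSpecStalkOfMem_ι g.domain ξ hgξ)
      exact h2.trans Scheme.fromSpecStalk_closedPoint
    have h2 : h' (IsLocalRing.closedPoint (X.left.presheaf.stalk ξ)) = g.hom ⟨ξ, hgξ⟩ := by
      rw [← hg, ← h1]
      rfl
    rw [h2] at hdim
    exact hdim

end Groth.Agent.S11426
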