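import Groth.Statements.S11428
import Groth.Agent.GIT.K686.Orbit
import Groth.Agent.GIT.K686.Whisk
import Mathlib.AlgebraicGeometry.Morphisms.Separated

set_option autoImplicit false
universe u
open CategoryTheory MonoidalCategory CartesianMonoidalCategory MonObj GrpObj AlgebraicGeometry Topology
open GIT

namespace Groth.Agent.S11428

open K686.Whisk

/-- the diagonal of `Y` over `S`, as the morphism `(1, 1)` -/
theorem isSeparated_iff_range {S : Scheme.{u}} (Y : Over S) :
    IsSeparated Y.hom ↔ IsClosed (Set.range (lift (𝟙 Y) (𝟙 Y)).left) := by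
  have e : (lift (𝟙 Y) (𝟙 Y)).left = Limits.pullback.diagonal Y.hom := rfl
  rw [e]
  constructor
  · intro h
    exact (Limits.pullback.diagonal Y.hom).isClosedEmbedding.isClosed_range
  · intro h
    exact ⟨IsClosedImmersion.of_isPreimmersion _ h⟩

/-- If (Y, φ) is a geometric quotient of X by G over S, then Y is separated over S exactly when the
action is separated, i.e. the image of (σ, p₂) : G ×_S X → X ×_S X is closed. -/
theorem result (S : Scheme.{u}) (G X Y : Over S) [GrpObj G]
    (a : AlgGrp.Action G X) (φ : X ⟶ Y) (h : GIT.IsGeomQuot a φ) :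
    IsSeparated Y.hom ↔ IsClosed (Set.range (GIT.psi a (𝟙 X)).left.base) := by
  rw [isSeparated_iff_range]
  have h1 : Set.range (GIT.psi a (𝟙 X)).left.base =
      (φ ▷ X).left ⁻¹' ((Y ◁ φ).left ⁻¹' Set.range (lift (𝟙 Y) (𝟙 Y)).left) := by
    rw [← range_of_isPullback (isPullback_graph_left φ)]
    have := K686.Orbit.range_psi h.inv h.orbit (𝟙 X)
    rw [Category.id_comp] at this
    exact this
  rw [h1]
  have q1 : IsQuotientMap (φ ▷ X).left := h.subm _ _ _ (isPullback_whiskerRight_left φ X)
  have q2 : IsQuotientMap (Y ◁ φ).left := h.subm _ _ _ (isPullback_whiskerLeft_left φ Y)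
  rw [q1.isClosed_preimage, q2.isClosed_preimage]

end Groth.Agent.S11428
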