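import Groth.Statements.S11430
import Groth.Agent.GIT.K686.PrinQ

set_option autoImplicit false
universe u
open CategoryTheory MonoidalCategory CartesianMonoidalCategory MonObj GrpObj AlgebraicGeometry Topology
open GIT

namespace Groth.Agent.S11430

/-- Over a field k, let G be a smooth group scheme of finite type, X and Y separated schemes of finite
type, σ a free action of G on X ((σ, p₂) : G × X → X × X a closed immersion) and (Y, φ) a geometric
quotient of X by G. Then φ is flat of finite type and (σ, p₂) : G × X → X ×_Y X is an isomorphism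
(so X is a principal G-bundle over Y). -/
theorem result (k : Type u) [Field k] (G X Y : Over (Spec (CommRingCat.of k)))
    [GrpObj G] [Smooth G.hom] [LocallyOfFiniteType G.hom] [QuasiCompact G.hom]
    [LocallyOfFiniteType X.hom] [QuasiCompact X.hom] [IsSeparated X.hom]
    [LocallyOfFiniteType Y.hom] [QuasiCompact Y.hom] [IsSeparated Y.hom]
    (a : AlgGrp.Action G X) (hfree : IsClosedImmersion (GIT.psi a (𝟙 X)).left) (φ : X ⟶ Y)
    (h : GIT.IsGeomQuot a φ) :
    Flat φ.left ∧ LocallyOfFiniteType φ.left ∧ QuasiCompact φ.left ∧ IsIso (GIT.PsiY a φ h.inv) := by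
  exact K686.PrinQ.main a hfree φ h

end Groth.Agent.S11430
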