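import Groth.Statements.S11436
import Groth.Agent.GIT.K209.PsiProper

set_option autoImplicit false
universe u
open CategoryTheory MonoidalCategory CartesianMonoidalCategory MonObj GrpObj AlgebraicGeometry Topology
open GIT

namespace Groth.Agent.S11436

/-- Over an algebraically closed field k, let a connected reductive algebraic group G act on a separated
scheme X of finite type, and write Ψ = (σ, p₂) : G × X → X × X. Then Ψ is proper exactly when, for
each non-trivial homomorphism λ : 𝔾_m → G, the action of 𝔾_m on X through λ is proper. (The
published statement is for any reductive G; this row takes G connected.) -/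
theorem result (k : Type u) [Field k] [IsAlgClosed k]
    (G X : Over (Spec (CommRingCat.of k))) [GrpObj G] (hG : Red.IsReductive G)
    [LocallyOfFiniteType X.hom] [QuasiCompact X.hom] [IsSeparated X.hom] (a : AlgGrp.Action G X) :
    IsProper (GIT.psi a (𝟙 X)).left ↔
      ∀ (l : Red.Gm (Spec (CommRingCat.of k)) ⟶ G) [IsMonHom l],
        l ≠ toUnit _ ≫ η[G] →
        ∀ b : AlgGrp.Action (Red.Gm (Spec (CommRingCat.of k))) X, b.act = (l ▷ X) ≫ a.act →
          IsProper (GIT.psi b (𝟙 X)).left := by
  constructor
  · intro h l _ hl b hb
    have h1 : IsAffine G.left := by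
      have := hG.1
      exact isAffine_of_isAffineHom G.hom
    have h2 : Smooth G.hom := hG.2.1
    exact K209.PsiProper.proper_restrict a h l hl b hb
  · intro H
    exact K209.PsiProper.proper_of_forall G X hG a (fun l _ hl b hb => H l hl b hb)

end Groth.Agent.S11436
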