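import Groth.Statements.S11437
import Groth.Agent.GIT.K653.ProperAct

set_option autoImplicit false
universe u
open CategoryTheory MonoidalCategory CartesianMonoidalCategory MonObj GrpObj AlgebraicGeometry Topology
open GIT

namespace Groth.Agent.S11437

/-- Over a field k of characteristic zero, let G be a connected reductive algebraic group, X and Y
separated schemes of finite type, σ an action of G on X such that the stabilizers of geometric
points of X are finite (the stabilizer group scheme over X is locally quasi-finite), and (Y, φ) a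
geometric quotient of X by G. If φ is affine, then the action is proper. (The published statement is
for any reductive G over any field; this row is the characteristic-zero case with G connected.) -/
theorem result (k : Type u) [Field k] [CharZero k]
    (G X Y : Over (Spec (CommRingCat.of k))) [GrpObj G] (hG : Red.IsReductive G)
    [LocallyOfFiniteType X.hom] [QuasiCompact X.hom] [IsSeparated X.hom]
    [LocallyOfFiniteType Y.hom] [QuasiCompact Y.hom] [IsSeparated Y.hom]
    (a : AlgGrp.Action G X)
    [LocallyQuasiFinite (Limits.pullback.snd (GIT.psi a (𝟙 X)).left (lift (𝟙 X) (𝟙 X)).left)]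
    (φ : X ⟶ Y) (h : GIT.IsGeomQuot a φ) [IsAffineHom φ.left] :
    IsProper (GIT.psi a (𝟙 X)).left := by
  have hGa := K686.HaarRed.isAffine_of_isReductive hG
  have hGs : Smooth G.hom := hG.2.1
  obtain ⟨C, _, _, e, he, hft, hLR⟩ := K686.HaarRed.exists_hopf_lr (k := k)
    (fun A _ _ _ _ hA => (Groth.Agent.S8082.result k A).mp hA) hG
  have hsm : Algebra.Smooth k C := Groth.Agent.Sga3B.AffHopf.smooth_of_iso e
  obtain ⟨α, hα, hα1⟩ := K191.Reductive.exists_isInt hLR
  have hcl : GIT.IsClosedAction a := Groth.Agent.S11441.result _ G X Y a φ h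
  refine K653.ProperAct.isProper_of_local a φ h.inv fun y => ?_
  obtain ⟨W, hW, hyW, -⟩ := exists_isAffineOpen_mem_and_subset (X := Y.left) (x := y) (U := ⊤) trivial
  refine ⟨W, hyW, ?_⟩
  let X' := K686.YW X (φ.left ⁻¹ᵁ W)
  let pr : X' ⟶ X := K686.iW X (φ.left ⁻¹ᵁ W)
  have hX' : IsAffine X'.left := hW.preimage φ.left
  have hpr : IsOpenImmersion pr.left := inferInstanceAs (IsOpenImmersion (φ.left ⁻¹ᵁ W).ι)
  have hprm : Mono pr := by
    have : Mono ((Over.forget _).map pr) := inferInstanceAs (Mono (φ.left ⁻¹ᵁ W).ι)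
    exact (Over.forget _).mono_of_mono_map this
  have hlft : LocallyOfFiniteType X'.hom := inferInstanceAs (LocallyOfFiniteType ((φ.left ⁻¹ᵁ W).ι ≫ X.hom))
  have hpa := K686.bcAct_pr (K686.isPullback_W φ W) a h.inv
  have hcl' := K653.ProperAct.isClosedAction a (K686.bcAct (K686.isPullback_W φ W) a h.inv) pr hpa hcl
  have hqf := K653.ProperAct.quasiFinite a (K686.bcAct (K686.isPullback_W φ W) a h.inv) pr hpa
  have hint := K653.ProperAct.isIntegral (K686.bcAct (K686.isPullback_W φ W) a h.inv) e hcl' hα1 hα
  have hft2 : LocallyOfFiniteType (GIT.psi (K686.bcAct (K686.isPullback_W φ W) a h.inv) (𝟙 X')).left := by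
    have h1 : LocallyOfFiniteType (G ⊗ X').hom := inferInstanceAs (LocallyOfFiniteType (Limits.pullback.fst G.hom X'.hom ≫ G.hom))
    have h2 : LocallyOfFiniteType ((GIT.psi (K686.bcAct (K686.isPullback_W φ W) a h.inv) (𝟙 X')).left ≫ (X' ⊗ X').hom) := by
      rw [Over.w]; exact h1
    exact locallyOfFiniteType_of_comp _ (X' ⊗ X').hom
  have hfin : IsFinite (GIT.psi (K686.bcAct (K686.isPullback_W φ W) a h.inv) (𝟙 X')).left :=
    (IsFinite.iff_isIntegralHom_and_locallyOfFiniteType _).mpr ⟨hint, hft2⟩
  infer_instance

end Groth.Agent.S11437
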