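import Groth.Statements.S11438
import Groth.Agent.GIT.K686.RigGrp

set_option autoImplicit false
universe u
open CategoryTheory MonoidalCategory CartesianMonoidalCategory MonObj GrpObj AlgebraicGeometry Topology
open GIT

namespace Groth.Agent.S11438

/-- Let S be connected and locally Noetherian, G a locally Noetherian group scheme separated over S, X →
S proper and flat with κ(s) → H⁰(X_s, O_{X_s}) bijective for every s, and f, g : X → G morphisms
over S which agree on one fibre X_s. Then there is a section t of G over S with f = (t ∘ p) · g, the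
product taken in the group of X-valued points of G. -/
theorem result (S : Scheme.{u}) [IsLocallyNoetherian S] [ConnectedSpace S]
    (X G : Over S) [GrpObj G] [IsLocallyNoetherian G.left] [IsSeparated G.hom] [IsProper X.hom] [Flat X.hom]
    (h0 : ∀ s : S, Function.Bijective (Limits.pullback.snd X.hom (S.fromSpecResidueField s)).appTop)
    (f g : X ⟶ G) (s : S)
    (hs : Limits.pullback.fst X.hom (S.fromSpecResidueField s) ≫ f.left =
      Limits.pullback.fst X.hom (S.fromSpecResidueField s) ≫ g.left) :
    ∃ t : 𝟙_ (Over S) ⟶ G, f = (toUnit X ≫ t) * g := by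
  have hcol : ∀ x x' : X.left, X.hom x = s → X.hom x' = s →
      (f * g⁻¹).left x = (f * g⁻¹).left x' := by
    let F : Over S := Over.mk (Limits.pullback.fst X.hom (S.fromSpecResidueField s) ≫ X.hom)
    let j : F ⟶ X := Over.homMk (Limits.pullback.fst X.hom (S.fromSpecResidueField s)) rfl
    have h1 : j ≫ f = j ≫ g := Over.OverMorphism.ext hs
    have h2 : j ≫ (f * g⁻¹) = toUnit F ≫ η[G] := by
      rw [MonObj.comp_mul, GrpObj.comp_inv, h1, mul_inv_cancel]
      rfl
    have key : ∀ x : X.left, X.hom x = s → (f * g⁻¹).left x = (η[G] : 𝟙_ (Over S) ⟶ G).left s := by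
      intro x hx
      have h3 : x ∈ Set.range (Limits.pullback.fst X.hom (S.fromSpecResidueField s)) := by
        rw [K686.Whisk.range_of_isPullback (IsPullback.of_hasPullback X.hom
          (S.fromSpecResidueField s)), Scheme.range_fromSpecResidueField]
        exact hx
      obtain ⟨w, rfl⟩ := h3
      have h4 : (f * g⁻¹).left (j.left w) = (η[G] : 𝟙_ (Over S) ⟶ G).left ((toUnit F).left w) := by
        rw [← Scheme.Hom.comp_apply, ← Over.comp_left, h2, Over.comp_left, Scheme.Hom.comp_apply]
      refine h4.trans (congrArg _ ?_)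
      exact hx
    intro x x' hx hx'
    rw [key x hx, key x' hx']
  obtain ⟨t, ht⟩ := K686.RigGrp.exists_eq_toUnit_comp h0 (f * g⁻¹) s hcol
  refine ⟨t, ?_⟩
  rw [← ht, inv_mul_cancel_right]

end Groth.Agent.S11438
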