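import Groth.Statements.S11439
import Groth.Agent.GIT.K686.RigGrp

set_option autoImplicit false
universe u
open CategoryTheory MonoidalCategory CartesianMonoidalCategory MonObj GrpObj AlgebraicGeometry Topology
open GIT

namespace Groth.Agent.S11439

/-- Let S be locally Noetherian, G a locally Noetherian group scheme separated over S, X → S proper and
flat with κ(s) → H⁰(X_s, O_{X_s}) bijective for every s, and Y connected, locally Noetherian,
separated over S with a section over S. Then every morphism f : X ×_S Y → G over S factors as f = (g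
∘ p₁) · (h ∘ p₂) with g : X → G and h : Y → G. -/
theorem result (S : Scheme.{u}) [IsLocallyNoetherian S]
    (X Y G : Over S) [GrpObj G] [IsLocallyNoetherian G.left] [IsSeparated G.hom] [IsProper X.hom] [Flat X.hom]
    (h0 : ∀ s : S, Function.Bijective (Limits.pullback.snd X.hom (S.fromSpecResidueField s)).appTop)
    [IsLocallyNoetherian Y.left] [IsSeparated Y.hom] [ConnectedSpace Y.left] (e : 𝟙_ (Over S) ⟶ Y)
    (f : X ⊗ Y ⟶ G) :
    ∃ (g : X ⟶ G) (h : Y ⟶ G), f = (fst X Y ≫ g) * (snd X Y ≫ h) := by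
  let g : X ⟶ G := lift (𝟙 X) (toUnit X ≫ e) ≫ f
  let H : X ⊗ Y ⟶ G := (fst X Y ≫ g)⁻¹ * f
  obtain ⟨y⟩ : Nonempty Y.left := inferInstance
  let s₀ : S := Y.hom y
  let T : Over S := Over.mk (S.fromSpecResidueField s₀)
  let x : T ⟶ Y := toUnit T ≫ e
  have hT : Subsingleton T.left := inferInstanceAs (Subsingleton (Spec (S.residueField s₀)))
  obtain ⟨t₀⟩ : Nonempty T.left := inferInstanceAs (Nonempty (Spec (S.residueField s₀)))
  have hc : (X ◁ x) ≫ H = snd X T ≫ (toUnit T ≫ η[G]) := by
    have h1 : (X ◁ x) ≫ fst X Y ≫ g = (X ◁ x) ≫ f := by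
      change (X ◁ x) ≫ fst X Y ≫ lift (𝟙 X) (toUnit X ≫ e) ≫ f = (X ◁ x) ≫ f
      rw [← Category.assoc (fst X Y), ← Category.assoc (X ◁ x)]
      congr 1
      apply CartesianMonoidalCategory.hom_ext
      · simp
      · simp only [Category.assoc, lift_snd, whiskerLeft_snd, x]
        rw [← Category.assoc, ← Category.assoc, ← Category.assoc]
        congr 1
        exact toUnit_unique _ _
    rw [MonObj.comp_mul, GrpObj.comp_inv, h1, inv_mul_cancel, ← Category.assoc]
    exact congrArg (· ≫ η[G]) (toUnit_unique _ _)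
  obtain ⟨h, hh⟩ := K686.RigGrp.exists_eq_snd_comp h0 H (fun hcl =>
    IsClopen.eq_univ hcl ⟨_, K686.RigGrp.mem_col H x t₀ _ hc⟩)
  refine ⟨g, h, ?_⟩
  rw [← hh, mul_inv_cancel_left]

end Groth.Agent.S11439
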