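import Groth.Statements.S11440
import Groth.Agent.GIT.K686.RigGrp
import Groth.Agent.GIT.K686.AbH0

set_option autoImplicit false
universe u
open CategoryTheory MonoidalCategory CartesianMonoidalCategory MonObj GrpObj AlgebraicGeometry Topology
open GIT

namespace Groth.Agent.S11440

/-- Let S be Noetherian, X an abelian scheme over S (smooth proper group scheme with connected geometric
fibres), G any locally Noetherian group scheme separated over S, and f : X → G a morphism over S
carrying the unit of X to the unit of G. Then f is a homomorphism. -/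
theorem result (S : Scheme.{u}) [IsNoetherian S]
    (X G : Over S) [GrpObj X] [GrpObj G] [Smooth X.hom] [IsProper X.hom]
    (hc : ∀ s : S, ConnectedSpace (Red.geomFibre s X).left)
    [IsLocallyNoetherian G.left] [IsSeparated G.hom] (f : X ⟶ G) (hf : η[X] ≫ f = η[G]) :
    IsMonHom f := by
  have h0 := K686.AbH0.bijective_fibre X hc
  let H : X ⊗ X ⟶ G := (μ[X] ≫ f)⁻¹ * ((fst X X ≫ f) * (snd X X ≫ f))
  have hcol : ∀ s : S, (η[X] : 𝟙_ (Over S) ⟶ X).left s ∈
      K686.RigTop.Col (snd X X).left (lift H (snd X X)).left := by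
    intro s
    let T : Over S := Over.mk (S.fromSpecResidueField s)
    let x : T ⟶ X := toUnit T ≫ η[X]
    have hT : Subsingleton T.left := inferInstanceAs (Subsingleton (Spec (S.residueField s)))
    obtain ⟨t₀⟩ : Nonempty T.left := inferInstanceAs (Nonempty (Spec (S.residueField s)))
    have hc : (X ◁ x) ≫ H = snd X T ≫ (toUnit T ≫ η[G]) := by
      have h1 : (X ◁ x) ≫ μ[X] = fst X T := by
        have h2 : (X ◁ x) = lift (fst X T) (toUnit (X ⊗ T) ≫ η[X]) := by
          apply CartesianMonoidalCategory.hom_ext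
          · simp
          · simp only [whiskerLeft_snd, lift_snd, x]
            rw [← Category.assoc]
            exact congrArg (· ≫ η[X]) (toUnit_unique _ _)
        rw [h2]
        change fst X T * (1 : X ⊗ T ⟶ X) = fst X T
        rw [_root_.mul_one]
      rw [MonObj.comp_mul, GrpObj.comp_inv, ← Category.assoc, h1, MonObj.comp_mul,
        ← Category.assoc, whiskerLeft_fst, inv_mul_cancel_left, ← Category.assoc,
        whiskerLeft_snd]
      simp only [x, Category.assoc, hf]
    have h3 := K686.RigGrp.mem_col H x t₀ _ hc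
    have h4 : x.left t₀ = (η[X] : 𝟙_ (Over S) ⟶ X).left s := by
      rw [Over.comp_left, Scheme.Hom.comp_apply]
      congr 1
      exact Scheme.fromSpecResidueField_apply _ _
    rw [← h4]
    exact h3
  have hN : IsLocallyNoetherian X.left := LocallyOfFiniteType.isLocallyNoetherian X.hom
  obtain ⟨h, hh⟩ := K686.RigGrp.exists_eq_snd_comp h0 H (fun hcl => by
    refine Set.eq_univ_of_forall fun y => ?_
    have h5 : _root_.IsPreconnected (X.hom ⁻¹' {X.hom y}) := K686.AbH0.isPreconnected_fibre X hc _
    have h6 : (η[X] : 𝟙_ (Over S) ⟶ X).left (X.hom y) ∈ X.hom ⁻¹' {X.hom y} := by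
      have := Over.w (η[X] : 𝟙_ (Over S) ⟶ X)
      change X.hom ((η[X] : 𝟙_ (Over S) ⟶ X).left (X.hom y)) = X.hom y
      rw [← Scheme.Hom.comp_apply, this]
      rfl
    exact (h5.subset_isClopen hcl ⟨_, h6, hcol _⟩) rfl)
  have h7 : h = toUnit X ≫ η[G] := by
    have h8 := congrArg (fun k => lift (toUnit X ≫ η[X]) (𝟙 X) ≫ k) hh
    simp only [lift_snd_assoc, Category.id_comp] at h8
    rw [← h8]
    have h9 : lift (toUnit X ≫ η[X]) (𝟙 X) ≫ μ[X] = 𝟙 X := by
      change (1 : X ⟶ X) * 𝟙 X = 𝟙 X
      rw [_root_.one_mul]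
    rw [MonObj.comp_mul, GrpObj.comp_inv, ← Category.assoc, h9, MonObj.comp_mul, lift_fst_assoc,
      lift_snd_assoc, Category.id_comp, Category.assoc, hf]
    change f⁻¹ * ((1 : X ⟶ G) * f) = 1
    rw [_root_.one_mul, inv_mul_cancel]
  have h10 : H = 1 := by
    rw [hh, h7, ← Category.assoc]
    exact congrArg (· ≫ η[G]) (toUnit_unique _ _)
  refine { one_hom := hf, mul_hom := ?_ }
  have h11 : μ[X] ≫ f = (fst X X ≫ f) * (snd X X ≫ f) := by
    have : (μ[X] ≫ f)⁻¹ * ((fst X X ≫ f) * (snd X X ≫ f)) = 1 := h10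
    exact (inv_mul_eq_one.mp this)
  rw [h11]
  change lift (fst X X ≫ f) (snd X X ≫ f) ≫ μ[G] = _
  congr 1

end Groth.Agent.S11440
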