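import Groth.Statements.S11442
import Groth.Agent.GIT.K687.GmGlob
import Groth.Agent.AlgGrp.K406.P1Const

set_option autoImplicit false
universe u
open CategoryTheory MonoidalCategory CartesianMonoidalCategory MonObj GrpObj AlgebraicGeometry Topology
open GIT

namespace Groth.Agent.S11442

/-- Over a field k, let 𝔾_m act on a separated scheme X of finite type, and assume X has an immersion
into some projective space Pⁿ_k equivariant for an action of 𝔾_m on Pⁿ_k. Then the action on X is
proper if and only if it is separated (the image of (σ, p₂) : 𝔾_m × X → X × X is closed) and the set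
S₁(X) of points with positive-dimensional stabilizer is empty (the stabilizer group scheme over X is
locally quasi-finite). -/
theorem result (k : Type u) [Field k]
    (X : Over (Spec (CommRingCat.of k))) [LocallyOfFiniteType X.hom] [QuasiCompact X.hom] [IsSeparated X.hom]
    (a : AlgGrp.Action (Red.Gm (Spec (CommRingCat.of k))) X)
    (n : ℕ) (b : AlgGrp.Action (Red.Gm (Spec (CommRingCat.of k))) (Over.mk (CohB1.ProjSpaceOver.toBase n (Spec (CommRingCat.of k)))))
    (I : X ⟶ Over.mk (CohB1.ProjSpaceOver.toBase n (Spec (CommRingCat.of k)))) [IsImmersion I.left]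
    (hI : (Red.Gm (Spec (CommRingCat.of k)) ◁ I) ≫ b.act = a.act ≫ I) :
    IsProper (GIT.psi a (𝟙 X)).left ↔
      IsClosed (Set.range (GIT.psi a (𝟙 X)).left.base) ∧
        LocallyQuasiFinite (Limits.pullback.snd (GIT.psi a (𝟙 X)).left (lift (𝟙 X) (𝟙 X)).left) := by
  constructor
  · intro h
    have := Groth.Agent.Sga3.H783.GaGm.isAffineHom_gm (Spec (CommRingCat.of k))
    exact ⟨(GIT.psi a (𝟙 X)).left.isClosedMap.isClosed_range, K687.GmGlob.lqf_of_isProper h⟩
  · rintro ⟨h1, h2⟩
    have hs : Smooth (Over.mk (CohB1.ProjSpaceOver.toBase n (Spec (CommRingCat.of k)))).hom :=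
      Groth.Agent.Gaga.H364.ProjRed.smooth_toBase n _
    have hp : IsProper (Over.mk (CohB1.ProjSpaceOver.toBase n (Spec (CommRingCat.of k)))).hom :=
      Groth.Agent.Ega3B.ProjProper.isProper_toBase n _
    have hm : Mono I := by
      have : Mono I.left := inferInstance
      exact Over.mono_of_mono_left _
    refine K687.GmGlob.isProper_psi ?_ I hI.symm h1 h2
    intro K _ t
    have e := (Groth.Agent.CohqB.ProjBC.isPullback_overMap n t).isoPullback
    have := K406.P1Const.isIntegral_projSpaceOver (n := n) (κ := K)
    have : Nonempty ↥(Limits.pullback (Over.mk (CohB1.ProjSpaceOver.toBase n (Spec (CommRingCat.of k)))).hom t) :=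
      ⟨e.hom (genericPoint _)⟩
    exact isIntegral_of_isOpenImmersion e.inv

end Groth.Agent.S11442
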