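import Groth.Statements.S11444
import Groth.Agent.GIT.K687.TorEt
import Groth.Agent.KSix.K238.Amp
import Groth.Agent.S6946

set_option autoImplicit false
universe u
open CategoryTheory MonoidalCategory CartesianMonoidalCategory MonObj GrpObj AlgebraicGeometry Topology
open GIT

namespace Groth.Agent.S11444

/-- Let X → Y → S be morphisms of finite type of Noetherian schemes with Y → S smooth with all fibres of
dimension n and X → S flat. Then X → Y has Tor-dimension at most n. -/
theorem result (S X Y : Scheme.{u}) [IsNoetherian S] [IsNoetherian X] [IsNoetherian Y]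
    (p : X ⟶ S) (q : Y ⟶ S) (f : X ⟶ Y) (hf : f ≫ q = p) [LocallyOfFiniteType f] (n : ℕ)
    [SmoothOfRelativeDimension n q] [Flat p] : DerSch.HasTorDimLE f n := by
  subst hf
  intro x
  rw [K238.Amp.hasTorAmplitudeAt_unit_iff]
  obtain ⟨U, hU, V, hV, hx, e, hs⟩ :=
    SmoothOfRelativeDimension.exists_isStandardSmoothOfRelativeDimension (n := n) (f := q) (f x)
  let _ := (f.stalkMap x).hom.toAlgebra
  apply K238.StalkD.torAmp_of_iso K238.RingInD.inDSelf.symm
  rw [← (Groth.Agent.S6946.result _ _ n).1]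
  refine K687.TorEt.of_local (q.appLE U V e).hom hs (Y.presheaf.germ V (f x) hx).hom
    (hV.primeIdealOf ⟨f x, hx⟩).asIdeal.primeCompl (hV.isLocalization_stalk ⟨f x, hx⟩) (f.stalkMap x).hom ?_
  have hxU : q (f x) ∈ U := e hx
  have h1 : q.appLE U V e ≫ Y.presheaf.germ V (f x) hx = S.presheaf.germ U (q (f x)) hxU ≫ q.stalkMap (f x) := by
    refine Eq.trans ?_ (Scheme.Hom.germ_stalkMap q U (f x) hxU).symm
    rw [Scheme.Hom.appLE, Category.assoc]
    congr 1
    exact TopCat.Presheaf.germ_res _ (homOfLE e) (f x) hx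
  have h2 : ((f.stalkMap x).hom.comp (Y.presheaf.germ V (f x) hx).hom).comp (q.appLE U V e).hom =
      ((f ≫ q).stalkMap x).hom.comp (S.presheaf.germ U (q (f x)) hxU).hom := by
    rw [RingHom.comp_assoc, ← CommRingCat.hom_comp, h1, Scheme.Hom.stalkMap_comp]
    rfl
  rw [h2]
  refine RingHom.Flat.comp ?_ (Flat.stalkMap (f ≫ q) x)
  let _ := S.presheaf.algebra_section_stalk ⟨q (f x), hxU⟩
  have h3 := hU.isLocalization_stalk ⟨q (f x), hxU⟩
  have h4 : Module.Flat Γ(S, U) (S.presheaf.stalk (q (f x))) :=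
    IsLocalization.flat _ (hU.primeIdealOf ⟨q (f x), hxU⟩).asIdeal.primeCompl
  exact h4

end Groth.Agent.S11444
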