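import Groth.Statements.S11445
import Groth.Agent.GIT.K687.CatQuot

set_option autoImplicit false
universe u
open CategoryTheory MonoidalCategory CartesianMonoidalCategory MonObj GrpObj AlgebraicGeometry Topology
open GIT

namespace Groth.Agent.S11445

/-- Let G act on X over S and let φ : X → Y over S satisfy (i) φ ∘ σ = φ ∘ p₂, (ii) O_Y is the sheaf of
invariant functions (each Γ(U, O_Y) → Γ(φ⁻¹U, O_X) injective with image the invariant sections),
(iii) the image of every closed invariant subset of X is closed and φ(⋂ W_i) = ⋂ φ(W_i) for every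
family of closed invariant subsets. Then (Y, φ) is a categorical quotient of X by G, and φ is
submersive. -/
theorem result (S : Scheme.{u}) (G X Y : Over S) [GrpObj G]
    (a : AlgGrp.Action G X) (φ : X ⟶ Y) (hi : GIT.IsInvariant a φ)
    (hii : ∀ U : Y.left.Opens,
      Function.Injective (φ.left.app U) ∧ Set.range (φ.left.app U) = {f | GIT.IsInvSection a φ U f})
    (hiii : ∀ W : Set X.left, IsClosed W → a.act.left.base '' ((snd G X).left.base ⁻¹' W) ⊆ W →
      IsClosed (φ.left.base '' W))
    (hiii' : ∀ (J : Type u) (W : J → Set X.left),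
      (∀ i, IsClosed (W i) ∧ a.act.left.base '' ((snd G X).left.base ⁻¹' W i) ⊆ W i) →
      φ.left.base '' (⋂ i, W i) = ⋂ i, φ.left.base '' W i) :
    GIT.IsCatQuot a φ ∧ IsQuotientMap φ.left.base := by
  have hinj : ∀ U : Y.left.Opens, Function.Injective (φ.left.app U) := fun U => (hii U).1
  have hs : Function.Surjective φ.left.base := by
    apply K687.surjective_of_injective_of_isClosed_range φ.left hinj
    rw [← Set.image_univ]
    exact hiii Set.univ isClosed_univ (Set.subset_univ _)
  have hpt : ∀ (Z : Over S) (ψ : X ⟶ Z), GIT.IsInvariant a ψ → ∀ g : (G ⊗ X).left,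
      ψ.left.base (a.act.left.base g) = ψ.left.base ((snd G X).left.base g) := by
    intro Z ψ hψ g
    have := congrArg (fun f : (G ⊗ X).left ⟶ Z.left => f.base g) hψ.left
    simpa using this
  refine ⟨K687.isCatQuot_of_cov a φ hi hs hii ?_, ?_⟩
  · intro Z ψ hψ y
    let W : Z.left.affineOpens → Set X.left := fun V => (ψ.left.base ⁻¹' (V.1 : Set Z.left))ᶜ
    have hW : ∀ V, IsClosed (W V) ∧ a.act.left.base '' ((snd G X).left.base ⁻¹' W V) ⊆ W V := by
      intro V
      refine ⟨?_, ?_⟩
      · exact ((V.1.isOpen).preimage ψ.left.continuous).isClosed_compl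
      · rintro _ ⟨g, hg, rfl⟩
        intro hcon
        apply hg
        change ψ.left.base ((snd G X).left.base g) ∈ (V.1 : Set Z.left)
        rw [← hpt Z ψ hψ g]
        exact hcon
    have hempty : (⋂ V, W V) = ∅ := by
      ext x
      simp only [Set.mem_iInter, Set.mem_empty_iff_false, iff_false]
      intro hx
      obtain ⟨V, hV, hxV, _⟩ := exists_isAffineOpen_mem_and_subset (x := ψ.left.base x) (U := ⊤) trivial
      exact hx ⟨V, hV⟩ hxV
    have h1 := hiii' Z.left.affineOpens W hW
    rw [hempty, Set.image_empty] at h1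
    have h2 : ∃ V, y ∉ φ.left.base '' W V := by
      by_contra hcon
      push Not at hcon
      have : y ∈ ⋂ V, φ.left.base '' W V := Set.mem_iInter.mpr hcon
      rw [← h1] at this
      exact this
    obtain ⟨V, hV⟩ := h2
    refine ⟨⟨(φ.left.base '' W V)ᶜ, (hiii (W V) (hW V).1 (hW V).2).isOpen_compl⟩, hV, V.1, V.2, ?_⟩
    intro x hx
    by_contra hcon
    exact hx ⟨x, hcon, rfl⟩
  · rw [isQuotientMap_iff_isClosed]
    refine ⟨hs, fun T => ⟨fun hT => hT.preimage φ.left.continuous, fun hT => ?_⟩⟩
    have h1 := hiii (φ.left.base ⁻¹' T) hT ?_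
    · rwa [Set.image_preimage_eq T hs] at h1
    · rintro _ ⟨g, hg, rfl⟩
      change φ.left.base (a.act.left.base g) ∈ T
      rw [hpt Y φ hi g]
      exact hg

end Groth.Agent.S11445
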