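import Groth.Statements.S11447
import Groth.Agent.GIT.K384.Asm

set_option autoImplicit false
universe u
open CategoryTheory MonoidalCategory CartesianMonoidalCategory MonObj GrpObj AlgebraicGeometry Topology
open GIT

namespace Groth.Agent.S11447

/-- Let A be an Artinian local ring, I a proper ideal killed by the maximal ideal, X → Spec A smooth and
proper with connected geometric fibre and with a section e, and assume that the base change of X to
Spec (A/I) is an abelian scheme. Then X is an abelian scheme over Spec A with identity e: it carries
a group-scheme structure over Spec A whose unit is e. (The published statement takes the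
abelian-scheme structure on the base change with identity e mod I; by translation any group
structure can be moved to have a given section as unit, so only existence is assumed and the unit e
is concluded. The published statement also allows I = A when A is a field, where the hypothesis is
empty and the conclusion fails; this row requires I ≠ A.) -/
theorem result (A : Type u) [CommRing A] [IsArtinianRing A]
    [IsLocalRing A] (I : Ideal A) (hI : I ≠ ⊤) (hmI : IsLocalRing.maximalIdeal A * I = ⊥)
    (X : Over (Spec (CommRingCat.of A))) [Smooth X.hom] [IsProper X.hom]
    (hc : ∀ s : (Spec (CommRingCat.of A)), ConnectedSpace (Red.geomFibre s X).left)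
    (e : 𝟙_ (Over (Spec (CommRingCat.of A))) ⟶ X)
    (h0 : Nonempty (GrpObj (Red.bc (Spec.map (CommRingCat.ofHom (Ideal.Quotient.mk I))) X))) :
    ∃ g : GrpObj X, g.one = e := by
  have h1 : GeometricallyIrreducible X.hom := K20.GeomIrr.geomIrr X hc
  have h2 : GeometricallyReduced X.hom := K448.SmoothConn.geometricallyReduced X.hom
  have h3 : GeometricallyIntegral X.hom :=
    GeometricallyIntegral.of_geometricallyReduced_of_geometricallyIrreducible _
  exact K384.Asm.exists_grpObj X e I hI (IsNoetherian.noetherian I) hmI h0

end Groth.Agent.S11447
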