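import Groth.Statements.S11450
import Groth.Agent.Models.TorVan2
import Mathlib.RingTheory.Ideal.AssociatedPrime.Finiteness
import Mathlib.LinearAlgebra.TensorProduct.Finiteness

set_option autoImplicit false
universe u
open CategoryTheory
open DefT

namespace Groth.Agent.S11450

open TensorProduct Function Groth.Agent.Models.TorVan Groth.Agent.Models.TorVan2

/-- injectivity of `Z ⊗ N → F ⊗ N` is stable under extensions in `N`. -/
theorem injective_mid {A : Type u} [CommRing A] {Z F : Type u} [AddCommGroup Z] [Module A Z]
    [AddCommGroup F] [Module A F] [Module.Flat A F] (i : Z →ₗ[A] F)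
    {N' N N'' : Type u} [AddCommGroup N'] [Module A N'] [AddCommGroup N] [Module A N]
    [AddCommGroup N''] [Module A N''] (f : N' →ₗ[A] N) (g : N →ₗ[A] N'') (hf : Injective f) (hfg : Exact f g)
    (hg : Surjective g) (h₁ : Injective (i.rTensor N')) (h₂ : Injective (i.rTensor N'')) :
    Injective (i.rTensor N) := by
  rw [injective_iff_map_eq_zero]
  intro t ht
  have h1 : g.lTensor Z t = 0 := by
    apply h₂
    rw [← tcomm, ht, map_zero, map_zero]
  obtain ⟨s, rfl⟩ := (lTensor_exact Z hfg hg _).1 h1
  rw [← tcomm] at ht
  have h2 : i.rTensor N' s = 0 :=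
    Module.Flat.lTensor_preserves_injective_linearMap f hf (by rw [ht, map_zero])
  have h3 : s = 0 := h₁ (by rw [h2, map_zero])
  rw [h3, map_zero]

/-- A module M over a Noetherian commutative ring A is flat if and only if Tor_1^A(M, A/p) vanishes for
every prime ideal p of A. -/
theorem result (A : Type u) [CommRing A]
    [IsNoetherianRing A] (M : Type u) [AddCommGroup M] [Module A M] :
    Module.Flat A M ↔ ∀ p : Ideal A, p.IsPrime →
      Limits.IsZero (((CategoryTheory.Tor (ModuleCat.{u} A) 1).obj (ModuleCat.of A M)).obj (ModuleCat.of A (A ⧸ p))) := by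
  constructor
  · intro h p hp
    have := subsingleton_tor_of_flat (A := A) M (A ⧸ p) 0
    rw [ModuleCat.isZero_iff_subsingleton]
    exact this
  · intro h
    obtain ⟨F, _, _, _, q, hq⟩ := exists_free_cover (A := A) M
    have hi : Injective (LinearMap.ker q).subtype := Subtype.val_injective
    have hiq : Exact (LinearMap.ker q).subtype q := LinearMap.exact_subtype_ker_map q
    have hfin : ∀ (N : Type u) [AddCommGroup N] [Module A N], Module.Finite A N →
        Injective ((LinearMap.ker q).subtype.rTensor N) := by
      intro N _ _ hN
      induction hN using IsNoetherianRing.induction_on_isQuotientEquivQuotientPrime A with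
      | subsingleton N => exact Function.injective_of_subsingleton _
      | quotient N p e =>
        rw [← tor_one_iff _ q hi hiq hq N, tor_congr_right e]
        have := h p.1 p.2
        rw [ModuleCat.isZero_iff_subsingleton] at this
        exact this
      | exact N₁ N₂ N₃ f g hf hg hfg h₁ h₃ => exact injective_mid _ f g hf hfg hg h₁ h₃
    refine flat_of_forall_injective _ q hiq hq fun N _ _ => ?_
    rw [injective_iff_map_eq_zero]
    intro t ht
    obtain ⟨N', hN', hs⟩ := TensorProduct.exists_finite_submodule_right_of_setFinite {t} (Set.finite_singleton t)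
    obtain ⟨s, rfl⟩ := hs rfl
    rw [← tcomm] at ht
    have h2 : (LinearMap.ker q).subtype.rTensor N' s = 0 :=
      Module.Flat.lTensor_preserves_injective_linearMap N'.subtype N'.subtype_injective (by rw [ht, map_zero])
    have h3 : s = 0 := hfin N' hN' (by rw [h2, map_zero])
    rw [h3, map_zero]

end Groth.Agent.S11450
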