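import Groth.Statements.S11451
import Groth.Agent.DefT.K692.SmallLift
import Groth.Agent.ArtFun.K723.Krull
import Groth.Agent.Ega41.NoethNorm
import Groth.Agent.Variety.K427.GenSmooth

set_option autoImplicit false
universe u
open DefT

namespace Groth.Agent.S11451

open IsLocalRing

/-- finite dimensional quotients of a local `k`-algebra with residue field `k`. -/
theorem finite_quotient {k : Type u} [Field k] {P : Type u} [CommRing P] [IsLocalRing P] [IsNoetherianRing P]
    [Algebra k P] (hres : ∀ x : P, ∃ c : k, x - algebraMap k P c ∈ maximalIdeal P)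
    (Q : Ideal P) (hQ : Q ≠ ⊤) (n : ℕ) (h : maximalIdeal P ^ n ≤ Q) : Module.Finite k (P ⧸ Q) := by
  have hnt : Nontrivial (P ⧸ Q) := Ideal.Quotient.nontrivial_iff.2 hQ
  have hloc : IsLocalRing (P ⧸ Q) :=
    IsLocalRing.of_surjective' (Ideal.Quotient.mk Q) Ideal.Quotient.mk_surjective
  have hart := K692.SmallLift.isArtinianRing_quotient Q n h
  refine Groth.Agent.Ega41.NoethNorm.finite_of_isArtinianRing ?_
  refine Module.Finite.of_surjective (Algebra.linearMap k (ResidueField (P ⧸ Q))) ?_
  intro y
  obtain ⟨y, rfl⟩ := residue_surjective y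
  obtain ⟨x, rfl⟩ := Ideal.Quotient.mk_surjective y
  obtain ⟨c, hc⟩ := hres x
  refine ⟨c, ?_⟩
  have h1 : residue (P ⧸ Q) (Ideal.Quotient.mk Q (x - algebraMap k P c)) = 0 := by
    rw [residue_eq_zero_iff]
    exact K692.SmallLift.mk_mem_nonunits Q hQ hc
  rw [map_sub, map_sub, sub_eq_zero] at h1
  exact h1.symm

/-- Let k be an algebraically closed field and A a local k-algebra essentially of finite type over k
with residue field k. Then regularity of A as a local ring is equivalent to the following: for every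
local k-algebra B' of finite dimension over k, every ideal J of B' of square zero and every
k-algebra homomorphism f : A → B'/J, there is a k-algebra homomorphism g : A → B' lifting f. (Local
k-algebras of finite k-dimension are exactly the local Artin rings finite over k; lifting against
square-zero kernels is equivalent to lifting against nilpotent ones by induction.) -/
theorem result (k : Type u) [Field k] [IsAlgClosed k]
    (A : Type u) [CommRing A] [IsLocalRing A] [Algebra k A] [Algebra.EssFiniteType k A]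
    (hres : Function.Surjective (algebraMap k (IsLocalRing.ResidueField A))) :
    IsRegularLocalRing A ↔
      ∀ (B' : Type u) [CommRing B'] [IsLocalRing B'] [Algebra k B'] [Module.Finite k B']
        (J : Ideal B'), J ^ 2 = ⊥ → ∀ f : A →ₐ[k] B' ⧸ J,
          ∃ g : A →ₐ[k] B', (Ideal.Quotient.mkₐ k J).comp g = f := by
  constructor
  · intro hreg B' _ _ _ _ J hJ f
    have hfs : Algebra.FormallySmooth k A := K427.GenSmooth.formallySmooth_of_perfectField k A
    exact Algebra.FormallySmooth.comp_surjective k A J hJ f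
  · intro H
    obtain ⟨P, _, _, _, π, hπ, hker⟩ := K723.Krull.exists_regular_presentation (k := k) A
    set I := RingHom.ker π with hI
    have hkm : I ≤ maximalIdeal P := hker.trans (Ideal.pow_le_self two_ne_zero)
    have hresP : ∀ x : P, ∃ c : k, x - algebraMap k P c ∈ maximalIdeal P := by
      intro x
      obtain ⟨c, hc⟩ := K692.SmallLift.exists_sub_mem k hres (π x)
      refine ⟨c, ?_⟩
      rw [mem_maximalIdeal, mem_nonunits_iff] at hc ⊢
      intro hu
      apply hc
      have := hu.map π
      rwa [map_sub, AlgHom.commutes] at this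
    obtain ⟨n, hn1, hn⟩ := K692.SmallLift.exists_pow_inf_le (maximalIdeal P) I
    let Q : Ideal P := maximalIdeal P * I ⊔ maximalIdeal P ^ n
    have hQm : Q ≤ maximalIdeal P := sup_le (Ideal.mul_le_right.trans hkm) (Ideal.pow_le_self (by omega))
    have hQ : Q ≠ ⊤ := fun h => (Ideal.IsMaximal.ne_top inferInstance) (top_le_iff.1 (h ▸ hQm))
    have hnt : Nontrivial (P ⧸ Q) := Ideal.Quotient.nontrivial_iff.2 hQ
    have hloc : IsLocalRing (P ⧸ Q) :=
      IsLocalRing.of_surjective' (Ideal.Quotient.mk Q) Ideal.Quotient.mk_surjective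
    have hfin : Module.Finite k (P ⧸ Q) := finite_quotient hresP Q hQ n le_sup_right
    let J : Ideal (P ⧸ Q) := I.map (Ideal.Quotient.mk Q)
    have hmI : ∀ a ∈ maximalIdeal P, ∀ j ∈ J, Ideal.Quotient.mk Q a * j = 0 := by
      intro a ha j hj
      obtain ⟨i, hi, rfl⟩ := (Ideal.mem_map_iff_of_surjective _ Ideal.Quotient.mk_surjective).1 hj
      rw [← map_mul, Ideal.Quotient.eq_zero_iff_mem]
      exact Ideal.mem_sup_left (Ideal.mul_mem_mul ha hi)
    have hJm : ∀ b ∈ maximalIdeal (P ⧸ Q), ∀ j ∈ J, b * j = 0 := by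
      intro b hb j hj
      obtain ⟨a, rfl⟩ := Ideal.Quotient.mk_surjective b
      exact hmI a (K692.SmallLift.mem_maximalIdeal_of_mk Q hb) j hj
    have hJle : J ≤ maximalIdeal (P ⧸ Q) := by
      rw [Ideal.map_le_iff_le_comap]
      intro x hx
      exact K692.SmallLift.mk_mem_nonunits Q hQ (hkm hx)
    have hJ2 : J ^ 2 = ⊥ := by
      rw [pow_two, ← le_bot_iff, Ideal.mul_le]
      intro a ha b hb
      rw [Ideal.mem_bot]
      exact hJm a (hJle ha) b hb
    -- the map `A → (P/Q)/J`
    have hIJ : ∀ a ∈ I, ((Ideal.Quotient.mkₐ k J).comp (Ideal.Quotient.mkₐ k Q)) a = 0 := by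
      intro a ha
      change Ideal.Quotient.mk J (Ideal.Quotient.mk Q a) = 0
      rw [Ideal.Quotient.eq_zero_iff_mem]
      exact Ideal.mem_map_of_mem _ ha
    let f : A →ₐ[k] (P ⧸ Q) ⧸ J :=
      (Ideal.Quotient.liftₐ I ((Ideal.Quotient.mkₐ k J).comp (Ideal.Quotient.mkₐ k Q)) hIJ).comp
        (Ideal.quotientKerAlgEquivOfSurjective hπ).symm.toAlgHom
    have hf : ∀ x : P, f (π x) = Ideal.Quotient.mk J (Ideal.Quotient.mk Q x) := by
      intro x
      change (Ideal.Quotient.liftₐ I ((Ideal.Quotient.mkₐ k J).comp (Ideal.Quotient.mkₐ k Q)) hIJ)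
        ((Ideal.quotientKerAlgEquivOfSurjective hπ).symm (π x)) = _
      have h1 : (Ideal.quotientKerAlgEquivOfSurjective hπ).symm (π x) = Ideal.Quotient.mk I x := by
        rw [AlgEquiv.symm_apply_eq]
        rfl
      rw [h1]
      rfl
    obtain ⟨g, hg⟩ := H (P ⧸ Q) J hJ2 f
    have hgx : ∀ x : P, Ideal.Quotient.mk Q x - g (π x) ∈ J := by
      intro x
      rw [← Ideal.Quotient.mk_eq_mk_iff_sub_mem, ← hf]
      exact (DFunLike.congr_fun hg (π x)).symm
    have hI0 : I ≤ maximalIdeal P * I := by
      intro x hx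
      have h1 := K692.SmallLift.eq_on_sq (Ideal.Quotient.mk Q) ((g.comp π : P →ₐ[k] P ⧸ Q) : P →+* P ⧸ Q) J
        hgx (maximalIdeal P) hmI (by
          intro a ha j hj
          refine hJm _ ?_ j hj
          have h2 := (maximalIdeal (P ⧸ Q)).sub_mem
            (K692.SmallLift.mk_mem_nonunits Q hQ ha : Ideal.Quotient.mk Q a ∈ maximalIdeal (P ⧸ Q))
            (hJle (hgx a))
          rw [sub_sub_cancel] at h2
          exact h2) (hker hx)
      have h2 : Ideal.Quotient.mk Q x = 0 := by
        rw [h1]
        change g (π x) = 0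
        rw [show π x = 0 from hx, map_zero]
      rw [Ideal.Quotient.eq_zero_iff_mem] at h2
      obtain ⟨y, hy, z, hz, hyz⟩ := Submodule.mem_sup.1 h2
      have hzI : z ∈ I := by
        have : z = x - y := by rw [← hyz]; ring
        rw [this]
        exact I.sub_mem hx (Ideal.mul_le_left (I := I) (by rw [mul_comm]; exact hy))
      rw [← hyz]
      exact add_mem hy (hn ⟨hz, hzI⟩)
    have hbot : I = ⊥ :=
      Submodule.eq_bot_of_le_smul_of_le_jacobson_bot (maximalIdeal P) I (IsNoetherian.noetherian _) hI0
        (maximalIdeal_le_jacobson _)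
    have hinj : Function.Injective π := (RingHom.injective_iff_ker_eq_bot (π : P →+* A)).2 hbot
    exact IsRegularLocalRing.of_ringEquiv (RingEquiv.ofBijective (π : P →+* A) ⟨hinj, hπ⟩)

end Groth.Agent.S11451
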