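import Groth.Statements.S11452
import Groth.Agent.DefT.K692.TrivDef
import Groth.Agent.DefT.K692.NilLocal
import Groth.Agent.Flat2C.AffineThickening
import Groth.Agent.Ega2.SmoothBdry

set_option autoImplicit false
universe u
open CategoryTheory AlgebraicGeometry
open DefT

namespace Groth.Agent.S11452

open CategoryTheory.Limits
open scoped TensorProduct

theorem isPushout_of_spec {A B A' B' : CommRingCat.{u}} {φ : A ⟶ B} {τ : A ⟶ A'} {σ : B ⟶ B'}
    {φ' : A' ⟶ B'} (hs : IsPullback (Spec.map σ) (Spec.map φ') (Spec.map φ) (Spec.map τ)) :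
    IsPushout φ τ σ φ' := by
  have hpb : IsPullback (Scheme.Spec.map σ.op) (Scheme.Spec.map φ'.op) (Scheme.Spec.map φ.op)
    (Scheme.Spec.map τ.op) := hs
  have w : σ.op ≫ φ.op = φ'.op ≫ τ.op := by
    apply Scheme.Spec.map_injective
    rw [Functor.map_comp, Functor.map_comp]
    exact hs.w
  exact (IsPullback.of_map Scheme.Spec w hpb).unop.flip

/-- The affine case in terms of rings. -/
theorem core {k A : Type u} [Field k] [CommRing A] [Algebra k A] (e : A →ₐ[k] k)
    (he : IsNilpotent (RingHom.ker e)) {B B' : CommRingCat.{u}} (a : CommRingCat.of k ⟶ B)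
    (b : CommRingCat.of A ⟶ B') (c : B' ⟶ B) (hflat : Flat (Spec.map b)) (hsm : Smooth (Spec.map a))
    (hpb : IsPullback (Spec.map c) (Spec.map a) (Spec.map b) (Spec.map (CommRingCat.ofHom e.toRingHom))) :
    ∃ s : B ⟶ B', IsPullback (Spec.map s) (Spec.map b) (Spec.map a)
      (Spec.map (CommRingCat.ofHom (algebraMap k A))) := by
  have hpo := isPushout_of_spec hpb
  have hes : Function.Surjective e := fun c => ⟨algebraMap k A c, e.commutes c⟩
  obtain ⟨hcs, hck⟩ := Groth.Agent.Models.SpecFib.surj_ker_of_isPushout hpo hes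
  let _ : Algebra k B := a.hom.toAlgebra
  let _ : Algebra A B' := b.hom.toAlgebra
  let _ : Algebra k B' := (b.hom.comp (algebraMap k A)).toAlgebra
  have : IsScalarTower k A B' := IsScalarTower.of_algebraMap_eq' rfl
  have hfl : Module.Flat A B' := Flat.SpecMap_iff.1 hflat
  have hsmk : Algebra.Smooth k B := by
    have h1 := (HasRingHomProperty.Spec_iff (P := @Smooth)).1 hsm
    exact h1
  have hw : ∀ x : A, c.hom (b.hom x) = a.hom (e x) := fun x => congrArg (fun f => f.hom x) hpo.w
  let π : B' →ₐ[k] B := { c.hom with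
    commutes' := fun r => by
      change c.hom (b.hom (algebraMap k A r)) = a.hom r
      rw [hw, e.commutes]
      rfl }
  obtain ⟨s, hs, hbij⟩ := K692.TrivDef.exists_algHom e he π hcs hck hw
  have hpo2 : IsPushout (CommRingCat.ofHom (algebraMap k A)) a b (CommRingCat.ofHom s.toRingHom) := by
    have h1 := CommRingCat.isPushout_tensorProduct k A B
    let ψ : (A ⊗[k] B) ≃+* B' := RingEquiv.ofBijective _ hbij
    have h2 : ∀ x y, ψ (x ⊗ₜ[k] y) = b.hom x * s y := fun x y => by
      change (Algebra.TensorProduct.lift (Algebra.ofId A B') s (fun _ _ => Commute.all _ _)) (x ⊗ₜ[k] y) = _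
      rw [Algebra.TensorProduct.lift_tmul]
      rfl
    refine h1.of_iso (Iso.refl _) (Iso.refl _) (Iso.refl _) ψ.toCommRingCatIso ?_ ?_ ?_ ?_
    · simp
    · ext x
      rfl
    · ext x
      change ψ (x ⊗ₜ[k] 1) = b.hom x
      rw [h2, map_one, mul_one]
    · ext x
      change ψ (1 ⊗ₜ[k] x) = s x
      rw [h2, map_one, one_mul]
  exact ⟨_, (isPullback_SpecMap_of_isPushout _ _ _ _ hpo2).flip⟩

/-- Let k be an algebraically closed field, X an affine scheme of finite type over k whose local rings
are all regular, A a local Artin k-algebra with a k-algebra augmentation e : A → k, and g : X' →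
Spec A a flat morphism whose fibre over the k-point Spec k → Spec A given by e is X (with its
structure map to Spec k). Then there is an isomorphism from X' to the trivial deformation X ×_{Spec
k} Spec A compatible with the projections to Spec A. -/
theorem result (k : Type u) [Field k]
    [IsAlgClosed k] (X : Scheme.{u}) (hX : X ⟶ Spec (CommRingCat.of k)) [IsAffine X]
    [LocallyOfFiniteType hX] (hreg : ∀ x : X, IsRegularLocalRing (X.presheaf.stalk x))
    (A : Type u) [CommRing A] [IsLocalRing A] [IsArtinianRing A] [Algebra k A] (e : A →ₐ[k] k)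
    (X' : Scheme.{u}) (g : X' ⟶ Spec (CommRingCat.of A)) [Flat g] (i : X ⟶ X')
    (hsq : IsPullback i hX g (Spec.map (CommRingCat.ofHom e.toRingHom))) :
    ∃ φ : X' ≅ Limits.pullback hX (Spec.map (CommRingCat.ofHom (algebraMap k A))),
      φ.hom ≫ Limits.pullback.snd hX (Spec.map (CommRingCat.ofHom (algebraMap k A))) = g := by
  have hes : Function.Surjective e := fun c => ⟨algebraMap k A c, e.commutes c⟩
  have hmax : RingHom.ker e = IsLocalRing.maximalIdeal A := by
    have : (RingHom.ker e).IsMaximal := RingHom.ker_isMaximal_of_surjective e hes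
    exact IsLocalRing.eq_maximalIdeal this
  have hnil : IsNilpotent (RingHom.ker e) := by
    rw [hmax]
    exact K692.NilLocal.isNilpotent_maximalIdeal A
  have h1 : IsClosedImmersion (Spec.map (CommRingCat.ofHom e.toRingHom)) :=
    IsClosedImmersion.spec_of_surjective _ hes
  have h2 : Surjective (Spec.map (CommRingCat.ofHom e.toRingHom)) := by
    refine ⟨fun p => ?_⟩
    have hp : p = IsLocalRing.closedPoint A := by
      have hdim : Ring.KrullDimLE 0 A := inferInstance
      have : p.asIdeal.IsMaximal := inferInstance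
      exact PrimeSpectrum.ext (IsLocalRing.eq_maximalIdeal this)
    refine ⟨IsLocalRing.closedPoint k, ?_⟩
    rw [hp]
    refine PrimeSpectrum.ext ?_
    have : ((Spec.map (CommRingCat.ofHom e.toRingHom)) (IsLocalRing.closedPoint k)).asIdeal.IsMaximal :=
      inferInstance
    exact IsLocalRing.eq_maximalIdeal this
  have h3 : IsClosedImmersion i := MorphismProperty.of_isPullback hsq.flip h1
  have h4 : Surjective i := MorphismProperty.of_isPullback hsq.flip h2
  have hX' : IsAffine X' := Groth.Agent.Flat2C.AffineThickening.isAffine_of_thickening (i := i)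
  have hsm : Smooth hX := Groth.Agent.Ega2.SmoothBdry.smooth_of_regular hX hreg
  let a : CommRingCat.of k ⟶ Γ(X, ⊤) := Spec.preimage (X.isoSpec.inv ≫ hX)
  let b : CommRingCat.of A ⟶ Γ(X', ⊤) := Spec.preimage (X'.isoSpec.inv ≫ g)
  let c : Γ(X', ⊤) ⟶ Γ(X, ⊤) := Spec.preimage (X.isoSpec.inv ≫ i ≫ X'.isoSpec.hom)
  have ha : Spec.map a = X.isoSpec.inv ≫ hX := Spec.map_preimage _
  have hb : Spec.map b = X'.isoSpec.inv ≫ g := Spec.map_preimage _
  have hc : Spec.map c = X.isoSpec.inv ≫ i ≫ X'.isoSpec.hom := Spec.map_preimage _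
  have hsq' : IsPullback (Spec.map c) (Spec.map a) (Spec.map b)
      (Spec.map (CommRingCat.ofHom e.toRingHom)) := by
    refine IsPullback.of_iso hsq X.isoSpec X'.isoSpec (Iso.refl _) (Iso.refl _) ?_ ?_ ?_ ?_
    · rw [hc]; simp
    · rw [ha]; simp
    · rw [hb]; simp
    · simp
  obtain ⟨s, hs⟩ := core e hnil a b c (by rw [hb]; infer_instance) (by rw [ha]; infer_instance) hsq'
  have hfin : IsPullback (X'.isoSpec.hom ≫ Spec.map s ≫ X.isoSpec.inv) g hX
      (Spec.map (CommRingCat.ofHom (algebraMap k A))) := by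
    refine IsPullback.of_iso hs X'.isoSpec.symm X.isoSpec.symm (Iso.refl _) (Iso.refl _) ?_ ?_ ?_ ?_
    · simp
    · rw [hb]; simp
    · rw [ha]; simp
    · simp
  exact ⟨hfin.isoPullback, hfin.isoPullback_hom_snd⟩

end Groth.Agent.S11452
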