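import Groth.Statements.S11453
import Groth.Agent.DefT.K692.PullApart
import Mathlib.Algebra.MvPolynomial.Equiv

set_option autoImplicit false
universe u
open scoped Polynomial
open DefT

namespace Groth.Agent.S11453

open K692.PullApart

/-- `k[x, y] ≃ k[y][x]`. -/
noncomputable def e₀ (k : Type u) [Field k] : MvPolynomial (Fin 2) k ≃ₐ[k] k[X][X] :=
  (MvPolynomial.finSuccEquiv k 1).trans (Polynomial.mapAlgEquiv (MvPolynomial.uniqueAlgEquiv k (Fin 1)))

theorem cx_e₀ (k : Type u) [Field k] : cx (e₀ k) = MvPolynomial.X 0 := by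
  rw [cx, AlgEquiv.symm_apply_eq, e₀, AlgEquiv.trans_apply, MvPolynomial.finSuccEquiv_X_zero]
  simp

theorem cy_e₀ (k : Type u) [Field k] : cy (e₀ k) = MvPolynomial.X 1 := by
  have h : (1 : Fin 2) = Fin.succ 0 := rfl
  rw [cy, AlgEquiv.symm_apply_eq, e₀, AlgEquiv.trans_apply, h, MvPolynomial.finSuccEquiv_X_succ]
  simp

/-- `k[x, y] ≃ k[x][y]`. -/
noncomputable def e₁ (k : Type u) [Field k] : MvPolynomial (Fin 2) k ≃ₐ[k] k[X][X] :=
  (MvPolynomial.renameEquiv k (Equiv.swap 0 1)).trans (e₀ k)

theorem cx_e₁ (k : Type u) [Field k] : cx (e₁ k) = MvPolynomial.X 1 := by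
  rw [cx, AlgEquiv.symm_apply_eq, e₁, AlgEquiv.trans_apply, ← AlgEquiv.symm_apply_eq]
  change cx (e₀ k) = _
  rw [cx_e₀]
  simp

theorem cy_e₁ (k : Type u) [Field k] : cy (e₁ k) = MvPolynomial.X 0 := by
  rw [cy, AlgEquiv.symm_apply_eq, e₁, AlgEquiv.trans_apply, ← AlgEquiv.symm_apply_eq]
  change cy (e₀ k) = _
  rw [cy_e₀]
  simp

/-- colength at least two: not both variables lie in the ideal -/
theorem not_both (k : Type u) [Field k] (𝔞 : Ideal (MvPolynomial (Fin 2) k))
    [Module.Finite k (MvPolynomial (Fin 2) k ⧸ 𝔞)]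
    (hn : 2 ≤ Module.finrank k (MvPolynomial (Fin 2) k ⧸ 𝔞)) (h0 : MvPolynomial.X 0 ∈ 𝔞)
    (h1 : MvPolynomial.X 1 ∈ 𝔞) : False := by
  have hsurj : Function.Surjective (Algebra.linearMap k (MvPolynomial (Fin 2) k ⧸ 𝔞)) := by
    intro z
    obtain ⟨g, rfl⟩ := Ideal.Quotient.mk_surjective z
    induction g using MvPolynomial.induction_on with
    | C a => exact ⟨a, rfl⟩
    | add p q hp hq =>
      obtain ⟨a, ha⟩ := hp
      obtain ⟨b, hb⟩ := hq
      exact ⟨a + b, by rw [map_add, ha, hb, map_add]⟩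
    | mul_X p i hp =>
      refine ⟨0, ?_⟩
      have hi : MvPolynomial.X i ∈ 𝔞 := by
        match i with
        | 0 => exact h0
        | 1 => exact h1
      rw [map_zero, map_mul, Ideal.Quotient.eq_zero_iff_mem.2 hi, mul_zero]
  have h2 := LinearMap.finrank_le_finrank_of_surjective (f := Algebra.linearMap k (MvPolynomial (Fin 2) k ⧸ 𝔞)) hsurj
  rw [Module.finrank_self] at h2
  omega

/-- Let k be an algebraically closed field, A = k[x, y], and 𝔞 ⊆ A an ideal of finite colength n ≥ 2
with radical (x, y), i.e. Spec(A/𝔞) is supported at the origin. Then there is an ideal 𝔞' ⊆ A[t]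
defining a family finite and flat over k[t] (A[t]/𝔞' is a finitely generated flat k[t]-module, hence
locally free of rank n) whose fibre at t = 0 is 𝔞 and whose fibre ideal 𝔞_c at every c ≠ 0 is
contained in the maximal ideal of the origin and in the maximal ideal of some other k-point p ≠ (0,
0); so for t ≠ 0 the fibre is supported at two or more distinct points. (The published statement
allows colength 1 and puts the second point at (0, t); for colength 1 every finite flat family has
one-point fibres, and the family constructed in the published proof has its second piece at the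
roots of f(x, t) on the line y = t after a linear change of the coordinates x, y, which need not lie
at x = 0; this row states what that construction yields. The published statement asks the family to
be flat over k[t]; this row asks it to be finite and flat, as the constructed family is — f is monic
in x and (y − t)·y^N lies in the ideal for some N — and as the published proof's count of the
constant fibre length n presupposes; with flatness alone the fibre conditions here could be met by
adjoining a component that never meets t = 0.) -/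
theorem result (k : Type u) [Field k] [IsAlgClosed k]
    (𝔞 : Ideal (MvPolynomial (Fin 2) k)) [Module.Finite k (MvPolynomial (Fin 2) k ⧸ 𝔞)]
    (hn : 2 ≤ Module.finrank k (MvPolynomial (Fin 2) k ⧸ 𝔞))
    (hsupp : 𝔞.radical = Ideal.span {MvPolynomial.X 0, MvPolynomial.X 1}) :
    ∃ 𝔞' : Ideal (MvPolynomial (Fin 2) k)[X],
      RingHom.Flat (R := k[X]) (S := (MvPolynomial (Fin 2) k)[X] ⧸ 𝔞')
        ((Ideal.Quotient.mk 𝔞').comp (Polynomial.mapRingHom (algebraMap k (MvPolynomial (Fin 2) k)))) ∧
      RingHom.Finite (A := k[X]) (B := (MvPolynomial (Fin 2) k)[X] ⧸ 𝔞')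
        ((Ideal.Quotient.mk 𝔞').comp (Polynomial.mapRingHom (algebraMap k (MvPolynomial (Fin 2) k)))) ∧
      Ideal.map (Polynomial.evalRingHom (0 : MvPolynomial (Fin 2) k)) 𝔞' = 𝔞 ∧
      ∀ c : k, c ≠ 0 →
        Ideal.map (Polynomial.evalRingHom (MvPolynomial.C c)) 𝔞' ≤ Ideal.span {MvPolynomial.X 0, MvPolynomial.X 1} ∧
        ∃ p : Fin 2 → k, p ≠ 0 ∧
          Ideal.map (Polynomial.evalRingHom (MvPolynomial.C c)) 𝔞' ≤
            Ideal.span (Set.range (fun i : Fin 2 => MvPolynomial.X i - MvPolynomial.C (p i))) := by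
  by_cases h1 : MvPolynomial.X 1 ∈ 𝔞
  · have h0 : MvPolynomial.X 0 ∉ 𝔞 := fun h0 => not_both k 𝔞 hn h0 h1
    obtain ⟨𝔞', hfl, hfin, h2, h3⟩ := main (e₁ k) 𝔞 (by rw [cx_e₁, cy_e₁, Set.pair_comm]; exact hsupp)
      (by rw [cy_e₁]; exact h0)
    refine ⟨𝔞', hfl, hfin, h2, fun c hc => ?_⟩
    obtain ⟨h4, x₀, h5⟩ := h3 c
    rw [cx_e₁, cy_e₁] at h4 h5
    rw [Set.pair_comm] at h4
    refine ⟨h4, ![c, x₀], fun h => hc (congrFun h 0), h5.trans ?_⟩
    rw [Ideal.span_le]
    intro z hz
    rcases hz with rfl | hz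
    · exact Ideal.subset_span ⟨1, rfl⟩
    · rw [Set.mem_singleton_iff.1 hz]
      exact Ideal.subset_span ⟨0, rfl⟩
  · obtain ⟨𝔞', hfl, hfin, h2, h3⟩ := main (e₀ k) 𝔞 (by rw [cx_e₀, cy_e₀]; exact hsupp)
      (by rw [cy_e₀]; exact h1)
    refine ⟨𝔞', hfl, hfin, h2, fun c hc => ?_⟩
    obtain ⟨h4, x₀, h5⟩ := h3 c
    rw [cx_e₀, cy_e₀] at h4 h5
    refine ⟨h4, ![x₀, c], fun h => hc (congrFun h 1), h5.trans ?_⟩
    rw [Ideal.span_le]
    intro z hz
    rcases hz with rfl | hz
    · exact Ideal.subset_span ⟨0, rfl⟩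
    · rw [Set.mem_singleton_iff.1 hz]
      exact Ideal.subset_span ⟨1, rfl⟩

end Groth.Agent.S11453
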