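import Groth.Statements.S11455
import Groth.Agent.DefT.K692.NilFlat

set_option autoImplicit false
universe u
open DefT

namespace Groth.Agent.S11455

/-- an ideal killed by the maximal ideal is nilpotent when proper -/
theorem isNilpotent_of_mul_eq_bot {C' : Type u} [CommRing C'] [IsLocalRing C'] (J : Ideal C')
    (hJ : IsLocalRing.maximalIdeal C' * J = ⊥) (hJne : J ≠ ⊤) : IsNilpotent J := by
  refine ⟨2, ?_⟩
  rw [pow_two]
  exact le_bot_iff.1 ((Ideal.mul_mono_left (IsLocalRing.le_maximalIdeal hJne)).trans hJ.le)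

theorem le_sup_of_map_eq {A' : Type u} [CommRing A'] (K I' : Ideal A') {ι : Type*} (a' : ι → A')
    (h : I'.map (Ideal.Quotient.mk K) = Ideal.span (Set.range fun i => Ideal.Quotient.mk K (a' i))) :
    I' ≤ Ideal.span (Set.range a') ⊔ K := by
  have h1 : Ideal.span (Set.range fun i => Ideal.Quotient.mk K (a' i)) =
      (Ideal.span (Set.range a')).map (Ideal.Quotient.mk K) := by
    rw [Ideal.map_span, ← Set.range_comp]
    rfl
  rw [h1] at h
  intro x hx
  have h2 : Ideal.Quotient.mk K x ∈ (Ideal.span (Set.range a')).map (Ideal.Quotient.mk K) :=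
    h ▸ Ideal.mem_map_of_mem _ hx
  obtain ⟨y, hy, hyx⟩ := (Ideal.mem_map_iff_of_surjective _ Ideal.Quotient.mk_surjective).1 h2
  rw [Ideal.Quotient.mk_eq_mk_iff_sub_mem] at hyx
  have h3 : x = y + -(y - x) := by ring
  rw [h3]
  exact Submodule.add_mem_sup hy (K.neg_mem hyx)

/-- Let C' be a local Artin ring, J ⊊ C' a proper ideal annihilated by the maximal ideal, C = C'/J, A' a
flat C'-algebra whose reduction modulo the maximal ideal of C' is a Cohen–Macaulay local ring, A =
A'/JA', and a_1, …, a_r a regular sequence on A with A/(a_1, …, a_r) flat over C. Then every ideal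
I' of A' with A'/I' flat over C' and with image (a_1, …, a_r) in A is generated by some lifts a'_1,
…, a'_r of the a_i. -/
theorem result (C' : Type u) [CommRing C'] [IsLocalRing C'] [IsArtinianRing C'] (J : Ideal C')
    (hJ : IsLocalRing.maximalIdeal C' * J = ⊥) (hJne : J ≠ ⊤) (A' : Type u) [CommRing A'] [Algebra C' A'] [Module.Flat C' A']
    [LocCoh.IsCohenMacaulayLocalRing (A' ⧸ (IsLocalRing.maximalIdeal C').map (algebraMap C' A'))]
    (r : ℕ) (a : Fin r → A' ⧸ J.map (algebraMap C' A'))
    (hreg : RingTheory.Sequence.IsRegular (A' ⧸ J.map (algebraMap C' A')) (List.ofFn a))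
    [Module.Flat (C' ⧸ J) ((A' ⧸ J.map (algebraMap C' A')) ⧸ Ideal.span (Set.range a))]
    (I' : Ideal A') [Module.Flat C' (A' ⧸ I')]
    (hI' : I'.map (Ideal.Quotient.mk (J.map (algebraMap C' A'))) = Ideal.span (Set.range a)) :
    ∃ a' : Fin r → A', (∀ i, Ideal.Quotient.mk (J.map (algebraMap C' A')) (a' i) = a i) ∧
      I' = Ideal.span (Set.range a') := by
  have h1 : ∀ i, ∃ x ∈ I', Ideal.Quotient.mk (J.map (algebraMap C' A')) x = a i := by
    intro i
    rw [← Ideal.mem_map_iff_of_surjective _ Ideal.Quotient.mk_surjective, hI']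
    exact Ideal.subset_span ⟨i, rfl⟩
  choose a' ha' haa' using h1
  refine ⟨a', haa', ?_⟩
  refine K692.NilFlat.eq_span_of_flat_quotient (isNilpotent_of_mul_eq_bot J hJ hJne) I' a' ha' ?_
  refine le_sup_of_map_eq _ _ a' ?_
  rw [hI']
  congr 2
  ext i
  exact (haa' i).symm

end Groth.Agent.S11455
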