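import Groth.Statements.S11456
import Groth.Agent.S11455
import Groth.Agent.DefT.K692.NilLocal

set_option autoImplicit false
universe u
open DefT

namespace Groth.Agent.S11456

open K692.NilFlat K692.NilReg K692.NilLocal

/-- Let C be a local Artin ring with maximal ideal m, A a flat C-algebra such that A₀ = A/mA is a
Cohen–Macaulay local ring, and I ⊆ A an ideal with A/I flat over C whose image in A₀ is generated by
a regular sequence b_1, …, b_r on A₀. Then I is generated by r elements a_1, …, a_r forming a
regular sequence on A (so the Koszul complex on the a_i resolves A/I). -/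
theorem result (C : Type u) [CommRing C]
    [IsLocalRing C] [IsArtinianRing C] (A : Type u) [CommRing A] [Algebra C A] [Module.Flat C A]
    [LocCoh.IsCohenMacaulayLocalRing (A ⧸ (IsLocalRing.maximalIdeal C).map (algebraMap C A))]
    (I : Ideal A) [Module.Flat C (A ⧸ I)] (r : ℕ)
    (b : Fin r → A ⧸ (IsLocalRing.maximalIdeal C).map (algebraMap C A))
    (hb : RingTheory.Sequence.IsRegular (A ⧸ (IsLocalRing.maximalIdeal C).map (algebraMap C A)) (List.ofFn b))
    (hI : I.map (Ideal.Quotient.mk ((IsLocalRing.maximalIdeal C).map (algebraMap C A))) = Ideal.span (Set.range b)) :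
    ∃ a : Fin r → A, RingTheory.Sequence.IsRegular A (List.ofFn a) ∧ I = Ideal.span (Set.range a) := by
  have h1 : ∀ i, ∃ x ∈ I, Ideal.Quotient.mk ((IsLocalRing.maximalIdeal C).map (algebraMap C A)) x = b i := by
    intro i
    rw [← Ideal.mem_map_iff_of_surjective _ Ideal.Quotient.mk_surjective, hI]
    exact Ideal.subset_span ⟨i, rfl⟩
  choose a ha hab using h1
  have hmap : (List.ofFn a).map (Ideal.Quotient.mk ((IsLocalRing.maximalIdeal C).map (algebraMap C A))) =
      List.ofFn b := by
    rw [List.map_ofFn]
    congr 1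
    ext i
    exact hab i
  refine ⟨a, isRegular_of_map _ _ (hmap ▸ hb)
    (isWeaklyRegular_and_flat_ring (isNilpotent_maximalIdeal C) _ (hmap ▸ hb.toIsWeaklyRegular)).1, ?_⟩
  refine eq_span_of_flat_quotient (isNilpotent_maximalIdeal C) I a ha ?_
  refine Groth.Agent.S11455.le_sup_of_map_eq _ _ a ?_
  rw [hI]
  congr 2
  ext i
  exact (hab i).symm

end Groth.Agent.S11456
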