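import Groth.Statements.S11457
import Groth.Agent.DefT.K692.HBLift

set_option autoImplicit false
universe u
open DefT

namespace Groth.Agent.S11457

open K692.NilFlat K692.HBLift
open scoped TensorProduct

/-- flatness over `C/J` of `(A/JA)/I₀` gives flatness of `C/J ⊗ A/I` when `I₀` is the image of `I`. -/
theorem flat_tensor_of_map {C : Type u} [CommRing C] (J : Ideal C) {A : Type u} [CommRing A] [Algebra C A]
    (I : Ideal A) (I₀ : Ideal (A ⧸ J.map (algebraMap C A)))
    (hI : I₀ = I.map (Ideal.Quotient.mk (J.map (algebraMap C A))))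
    (hflat : Module.Flat (C ⧸ J) ((A ⧸ J.map (algebraMap C A)) ⧸ I₀)) :
    Module.Flat (C ⧸ J) ((C ⧸ J) ⊗[C] (A ⧸ I)) := by
  let q : A →ₐ[C] ((A ⧸ J.map (algebraMap C A)) ⧸ I₀) := (Ideal.Quotient.mkₐ C I₀).comp (Ideal.Quotient.mkₐ C (J.map (algebraMap C A)))
  have hq : ∀ a, q a = Ideal.Quotient.mk I₀ (Ideal.Quotient.mk (J.map (algebraMap C A)) a) := fun a => rfl
  have hqI : ∀ a ∈ I, q a = 0 := by
    intro a ha
    rw [hq, Ideal.Quotient.eq_zero_iff_mem, hI]
    exact Ideal.mem_map_of_mem _ ha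
  let π : (A ⧸ I) →ₐ[C] ((A ⧸ J.map (algebraMap C A)) ⧸ I₀) := Ideal.Quotient.liftₐ I q hqI
  have hπ : ∀ a, π (Ideal.Quotient.mk I a) = Ideal.Quotient.mk I₀ (Ideal.Quotient.mk (J.map (algebraMap C A)) a) := fun a => rfl
  have hsurj : Function.Surjective π := by
    intro x
    obtain ⟨x, rfl⟩ := Ideal.Quotient.mk_surjective x
    obtain ⟨x, rfl⟩ := Ideal.Quotient.mk_surjective x
    exact ⟨Ideal.Quotient.mk I x, rfl⟩
  refine flat_tensor_of π.toLinearMap hsurj ?_
  rw [Ideal.smul_top_eq_map]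
  ext x
  obtain ⟨a, rfl⟩ := Ideal.Quotient.mk_surjective x
  have h1 : (Ideal.Quotient.mk I a ∈ LinearMap.ker π.toLinearMap) ↔ a ∈ I ⊔ J.map (algebraMap C A) := by
    rw [LinearMap.mem_ker]
    change π (Ideal.Quotient.mk I a) = 0 ↔ _
    rw [hπ, Ideal.Quotient.eq_zero_iff_mem, hI, ← Ideal.mem_comap,
      Ideal.comap_map_of_surjective _ Ideal.Quotient.mk_surjective, ← RingHom.ker_eq_comap_bot,
      Ideal.mk_ker]
  have h2 : (Ideal.Quotient.mk I a ∈ (J.map (algebraMap C (A ⧸ I)))) ↔ a ∈ I ⊔ J.map (algebraMap C A) := by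
    have h3 : J.map (algebraMap C (A ⧸ I)) = (J.map (algebraMap C A)).map (Ideal.Quotient.mk I) := by
      rw [Ideal.map_map]
      rfl
    rw [h3, ← Ideal.mem_comap, Ideal.comap_map_of_surjective _ Ideal.Quotient.mk_surjective,
      ← RingHom.ker_eq_comap_bot, Ideal.mk_ker, sup_comm]
  exact h1.trans h2.symm

theorem span_mins_map {A B : Type*} [CommRing A] [CommRing B] (g : A →+* B) {r : ℕ}
    (φ : Matrix (Fin (r + 1)) (Fin r) A) :
    Ideal.span (Set.range (mins (φ.map g))) = (Ideal.span (Set.range (mins φ))).map g := by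
  rw [Ideal.map_span, ← Set.range_comp]
  congr 2
  funext i
  exact mins_map φ g i

/-- Let C' be a local Artin ring, J ⊊ C' a proper ideal annihilated by the maximal ideal, C = C'/J, A' a
flat C'-algebra of finite type with smooth special fibre, and A = A'/JA'. Let φ be an (r+1) × r
matrix over A such that 0 → A^r → A^{r+1} → A is exact, the second map sending v to Σ_i v_i f_i with
f_i = (−1)^i det(φ with row i removed), and such that A/(f_0, …, f_r) is flat over C. Then every
matrix φ' over A' lifting φ has the same property over A': multiplication by φ' is injective, its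
image is the kernel of the map given by the signed maximal minors f'_i of φ', and A'/(f'_0, …, f'_r)
is flat over C' (its reduction to A is A/(f_0, …, f_r) since minors commute with reduction). -/
theorem result (C' : Type u) [CommRing C'] [IsLocalRing C'] [IsArtinianRing C'] (J : Ideal C')
    (hJ : IsLocalRing.maximalIdeal C' * J = ⊥) (hJne : J ≠ ⊤) (A' : Type u) [CommRing A'] [Algebra C' A'] [Module.Flat C' A']
    [Algebra.FiniteType C' A']
    [Algebra.Smooth (C' ⧸ IsLocalRing.maximalIdeal C') (A' ⧸ (IsLocalRing.maximalIdeal C').map (algebraMap C' A'))]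
    (r : ℕ) (φ' : Matrix (Fin (r + 1)) (Fin r) A')
    (hφ : (Function.Injective (φ'.map (Ideal.Quotient.mk (J.map (algebraMap C' A')))).mulVecLin ∧
        LinearMap.range (φ'.map (Ideal.Quotient.mk (J.map (algebraMap C' A')))).mulVecLin = LinearMap.ker (Fintype.linearCombination (A' ⧸ J.map (algebraMap C' A')) (fun i : Fin (r + 1) => (-1 : (A' ⧸ J.map (algebraMap C' A'))) ^ (i : ℕ) * ((φ'.map (Ideal.Quotient.mk (J.map (algebraMap C' A')))).submatrix i.succAbove id).det))))
    [Module.Flat (C' ⧸ J) ((A' ⧸ J.map (algebraMap C' A')) ⧸ Ideal.span (Set.range (fun i : Fin (r + 1) => (-1 : (A' ⧸ J.map (algebraMap C' A'))) ^ (i : ℕ) * ((φ'.map (Ideal.Quotient.mk (J.map (algebraMap C' A')))).submatrix i.succAbove id).det)))] :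
    Function.Injective φ'.mulVecLin ∧
      LinearMap.range φ'.mulVecLin = LinearMap.ker (Fintype.linearCombination A' (fun i : Fin (r + 1) => (-1 : A') ^ (i : ℕ) * ((φ').submatrix i.succAbove id).det)) ∧
      Module.Flat C' (A' ⧸ Ideal.span (Set.range (fun i : Fin (r + 1) => (-1 : A') ^ (i : ℕ) * ((φ').submatrix i.succAbove id).det))) := by
  have hnil : IsNilpotent J := by
    refine ⟨2, ?_⟩
    rw [pow_two]
    exact le_bot_iff.1 ((Ideal.mul_mono_left (IsLocalRing.le_maximalIdeal hJne)).trans hJ.le)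
  have hflat := flat_tensor_of_map J (Ideal.span (Set.range (mins φ'))) _
    (span_mins_map (Ideal.Quotient.mk (J.map (algebraMap C' A'))) φ') ‹_›
  obtain ⟨⟨h1, h2⟩, h3⟩ := hbExact_and_flat hnil φ' hφ hflat
  exact ⟨h1, h2, h3⟩

end Groth.Agent.S11457
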