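import Groth.Statements.S11461
import Mathlib.RingTheory.Ideal.AssociatedPrime.Finiteness
import Mathlib.RingTheory.Finiteness.Nakayama
import Mathlib.Algebra.Homology.ShortComplex.ModuleCat
import Mathlib.Algebra.Homology.ShortComplex.Exact

set_option autoImplicit false
universe u
open CategoryTheory
open DefT

namespace Groth.Agent.S11461

open Limits

variable {B : Type u} [CommRing B] (F : ModuleCat.{u} B ⥤ ModuleCat.{u} B)

include F in
/-- the property `F N = 0` for a short exact sequence -/
theorem isZero_mid [F.Additive]
    (hex : ∀ S : ShortComplex (ModuleCat.{u} B), S.ShortExact → Module.Finite B S.X₂ → (S.map F).Exact)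
    {N₁ N₂ N₃ : Type u} [AddCommGroup N₁] [Module B N₁] [AddCommGroup N₂] [Module B N₂]
    [AddCommGroup N₃] [Module B N₃] [Module.Finite B N₂] (f : N₁ →ₗ[B] N₂) (g : N₂ →ₗ[B] N₃)
    (hf : Function.Injective f) (hg : Function.Surjective g) (hfg : Function.Exact f g)
    (h₁ : IsZero (F.obj (ModuleCat.of B N₁))) (h₃ : IsZero (F.obj (ModuleCat.of B N₃))) :
    IsZero (F.obj (ModuleCat.of B N₂)) := by
  let S : ShortComplex (ModuleCat.{u} B) := ModuleCat.shortComplexOfCompEqZero f g hfg.linearMap_comp_eq_zero
  have hS : S.ShortExact := ModuleCat.shortComplex_shortExact S hfg hf hg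
  exact (hex S hS inferInstance).isZero_of_both_zeros (h₁.eq_of_src _ _) (h₃.eq_of_tgt _ _)

theorem isZero_congr {N₁ N₂ : Type u} [AddCommGroup N₁] [Module B N₁] [AddCommGroup N₂] [Module B N₂]
    (e : N₁ ≃ₗ[B] N₂) (h : IsZero (F.obj (ModuleCat.of B N₁))) : IsZero (F.obj (ModuleCat.of B N₂)) :=
  h.of_iso (F.mapIso e.toModuleIso).symm

theorem eq_zero_of_forall_maximal {N : Type u} [AddCommGroup N] [Module B N] [Module.Finite B N]
    (h : ∀ m : Ideal B, m.IsMaximal → ∃ x ∈ m, ∀ n : N, ∃ n' : N, x • n' = n) : Subsingleton N := by
  by_contra hN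
  rw [not_subsingleton_iff_nontrivial] at hN
  have hann : Module.annihilator B N ≠ ⊤ := by
    intro h1
    rw [Ideal.eq_top_iff_one, Module.mem_annihilator] at h1
    obtain ⟨x, hx⟩ := exists_ne (0 : N)
    exact hx (by simpa using h1 x)
  obtain ⟨m, hm, hle⟩ := Ideal.exists_le_maximal _ hann
  obtain ⟨x, hx, hsurj⟩ := h m hm
  obtain ⟨r, hr, hr'⟩ := Submodule.exists_sub_one_mem_and_smul_eq_zero_of_fg_of_le_smul m (⊤ : Submodule B N)
    Module.Finite.fg_top (fun n _ => by
      obtain ⟨n', rfl⟩ := hsurj n
      exact Submodule.smul_mem_smul hx trivial)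
  have h2 : r ∈ m := hle (Module.mem_annihilator.2 fun n => hr' n trivial)
  have h3 : (1 : B) ∈ m := by
    have := m.sub_mem h2 hr
    simpa using this
  exact hm.ne_top ((Ideal.eq_top_iff_one m).2 h3)

/-- Let B be a Noetherian ring and F an additive, B-linear endofunctor of B-modules which preserves
finite generation and is semi-exact on short exact sequences of finitely generated modules (the
image sequence is exact in the middle). If F kills B/m for every maximal ideal m, then F kills every
finitely generated B-module. (The published statement assumes F only additive; this row assumes F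
B-linear, and takes the functor on all B-modules with the hypotheses and the conclusion on the
finitely generated ones.) -/
theorem result (B : Type u) [CommRing B]
    [IsNoetherianRing B] (F : ModuleCat.{u} B ⥤ ModuleCat.{u} B) [F.Additive] [F.Linear B]
    (hfg : ∀ M : ModuleCat.{u} B, Module.Finite B M → Module.Finite B (F.obj M))
    (hex : ∀ S : ShortComplex (ModuleCat.{u} B), S.ShortExact → Module.Finite B S.X₂ → (S.map F).Exact)
    (h0 : ∀ m : Ideal B, m.IsMaximal → Limits.IsZero (F.obj (ModuleCat.of B (B ⧸ m))))
    (M : ModuleCat.{u} B) (hM : Module.Finite B M) : Limits.IsZero (F.obj M) := by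
  have hsub : ∀ (N : Type u) [AddCommGroup N] [Module B N] [Subsingleton N],
      IsZero (F.obj (ModuleCat.of B N)) := fun N _ _ _ =>
    F.map_isZero (ModuleCat.isZero_of_subsingleton _)
  have key : ∀ I : Ideal B, IsZero (F.obj (ModuleCat.of B (B ⧸ I))) := by
    refine fun I => IsNoetherian.induction (P := fun I : Ideal B =>
      IsZero (F.obj (ModuleCat.of B (B ⧸ I)))) (fun (I : Ideal B) ih => ?_) I
    by_cases htop : I = ⊤
    · have : Subsingleton (B ⧸ I) := Ideal.Quotient.subsingleton_iff.2 htop
      exact hsub _
    by_cases hprime : I.IsPrime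
    · by_cases hmax : I.IsMaximal
      · exact h0 I hmax
      · -- prime, not maximal
        have hfin : Module.Finite B (F.obj (ModuleCat.of B (B ⧸ I))) := hfg _ inferInstance
        -- multiplication by `x ∉ I` is surjective
        have hsurj : ∀ x, x ∉ I → ∀ n : F.obj (ModuleCat.of B (B ⧸ I)),
            ∃ n' : F.obj (ModuleCat.of B (B ⧸ I)), x • n' = n := by
          intro x hx
          let J : Ideal B := I ⊔ Ideal.span {x}
          have hIJ : I ≤ J := le_sup_left
          have hlt : I < J := lt_of_le_of_ne hIJ (fun h => hx (h ▸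
            (le_sup_right : Ideal.span {x} ≤ J) (Ideal.mem_span_singleton_self x)))
          let f : (B ⧸ I) →ₗ[B] (B ⧸ I) := LinearMap.lsmul B _ x
          let g : (B ⧸ I) →ₗ[B] (B ⧸ J) := (Ideal.Quotient.factorₐ B hIJ).toLinearMap
          have hf : Function.Injective f := by
            rw [injective_iff_map_eq_zero]
            intro a ha
            obtain ⟨a, rfl⟩ := Ideal.Quotient.mk_surjective a
            have ha' : Ideal.Quotient.mk I (x * a) = 0 := ha
            rw [Ideal.Quotient.eq_zero_iff_mem] at ha' ⊢
            exact (hprime.mem_or_mem ha').resolve_left hx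
          have hg : Function.Surjective g := Ideal.Quotient.factor_surjective hIJ
          have hfg' : Function.Exact f g := by
            intro a
            obtain ⟨a, rfl⟩ := Ideal.Quotient.mk_surjective a
            constructor
            · intro h
              have h1 : Ideal.Quotient.mk J a = 0 := h
              rw [Ideal.Quotient.eq_zero_iff_mem] at h1
              obtain ⟨i, hi, y, hy, rfl⟩ := Submodule.mem_sup.1 h1
              obtain ⟨c, rfl⟩ := Ideal.mem_span_singleton'.1 hy
              refine ⟨Ideal.Quotient.mk I c, ?_⟩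
              change Ideal.Quotient.mk I (x * c) = _
              rw [Ideal.Quotient.mk_eq_mk_iff_sub_mem]
              have : x * c - (i + c * x) = -i := by ring
              rw [this]
              exact I.neg_mem hi
            · rintro ⟨b, hb⟩
              obtain ⟨b, rfl⟩ := Ideal.Quotient.mk_surjective b
              have hb' : Ideal.Quotient.mk I (x * b) = Ideal.Quotient.mk I a := hb
              rw [← hb']
              change Ideal.Quotient.mk J (x * b) = 0
              rw [Ideal.Quotient.eq_zero_iff_mem]
              exact J.mul_mem_right _ ((le_sup_right : Ideal.span {x} ≤ J) (Ideal.mem_span_singleton_self x))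
          let S : ShortComplex (ModuleCat.{u} B) :=
            ModuleCat.shortComplexOfCompEqZero f g hfg'.linearMap_comp_eq_zero
          have hS : S.ShortExact := ModuleCat.shortComplex_shortExact S hfg' hf hg
          have hSF := hex S hS (inferInstanceAs (Module.Finite B (B ⧸ I)))
          have hepi : Epi (F.map S.f) := hSF.epi_f ((ih J hlt).eq_of_tgt _ _)
          rw [ModuleCat.epi_iff_surjective] at hepi
          intro n
          obtain ⟨n', hn'⟩ := hepi n
          refine ⟨n', ?_⟩
          rw [← hn']
          have h2 : S.f = x • 𝟙 (ModuleCat.of B (B ⧸ I)) := by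
            ext
            rfl
          rw [h2, F.map_smul, F.map_id]
          rfl
        have hzero : Subsingleton (F.obj (ModuleCat.of B (B ⧸ I))) := by
          refine eq_zero_of_forall_maximal (B := B) fun m hm => ?_
          by_cases hle : m ≤ I
          · exact absurd ((hm.eq_of_le htop hle) ▸ hm) hmax
          · obtain ⟨x, hx, hxI⟩ := Set.not_subset.1 hle
            exact ⟨x, hx, hsurj x hxI⟩
        exact ModuleCat.isZero_of_subsingleton _
    · -- not prime
      rw [Ideal.isPrime_iff] at hprime
      push Not at hprime
      obtain ⟨a, b, hab, ha, hb⟩ := hprime htop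
      let J : Ideal B := I ⊔ Ideal.span {a}
      have hIJ : I ≤ J := le_sup_left
      have haJ : a ∈ J := (le_sup_right : Ideal.span {a} ≤ J) (Ideal.mem_span_singleton_self a)
      have hlt : I < J := lt_of_le_of_ne hIJ (fun h => ha (h ▸ haJ))
      -- the colon ideal
      let φ : B →ₗ[B] (B ⧸ I) := (LinearMap.toSpanSingleton B (B ⧸ I) (Ideal.Quotient.mk I a))
      let K : Ideal B := LinearMap.ker φ
      have hK : ∀ x, x ∈ K ↔ x * a ∈ I := by
        intro x
        rw [LinearMap.mem_ker]
        change Ideal.Quotient.mk I (x * a) = 0 ↔ _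
        rw [Ideal.Quotient.eq_zero_iff_mem]
      have hIK : I ≤ K := fun x hx => (hK x).2 (I.mul_mem_right _ hx)
      have hltK : I < K := lt_of_le_of_ne hIK (fun h => hb (by
        rw [h]
        exact (hK b).2 (by rw [mul_comm]; exact hab)))
      let f : (B ⧸ K) →ₗ[B] (B ⧸ I) := K.liftQ φ le_rfl
      let g : (B ⧸ I) →ₗ[B] (B ⧸ J) := (Ideal.Quotient.factorₐ B hIJ).toLinearMap
      have hf : Function.Injective f := by
        rw [← LinearMap.ker_eq_bot]
        exact Submodule.ker_liftQ_eq_bot _ _ _ le_rfl
      have hg : Function.Surjective g := Ideal.Quotient.factor_surjective hIJ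
      have hfg' : Function.Exact f g := by
        intro c
        obtain ⟨c, rfl⟩ := Ideal.Quotient.mk_surjective c
        constructor
        · intro h
          have h1 : Ideal.Quotient.mk J c = 0 := h
          rw [Ideal.Quotient.eq_zero_iff_mem] at h1
          obtain ⟨i, hi, y, hy, rfl⟩ := Submodule.mem_sup.1 h1
          obtain ⟨d, rfl⟩ := Ideal.mem_span_singleton'.1 hy
          refine ⟨Ideal.Quotient.mk K d, ?_⟩
          change Ideal.Quotient.mk I (d * a) = _
          rw [Ideal.Quotient.mk_eq_mk_iff_sub_mem]
          have : d * a - (i + d * a) = -i := by ring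
          rw [this]
          exact I.neg_mem hi
        · rintro ⟨d, hd⟩
          obtain ⟨d, rfl⟩ := Ideal.Quotient.mk_surjective d
          have hd' : Ideal.Quotient.mk I (d * a) = Ideal.Quotient.mk I c := hd
          rw [← hd']
          change Ideal.Quotient.mk J (d * a) = 0
          rw [Ideal.Quotient.eq_zero_iff_mem]
          exact J.mul_mem_left _ haJ
      exact isZero_mid F hex f g hf hg hfg' (ih K hltK) (ih J hlt)
  have key2 : ∀ (N : Type u) [AddCommGroup N] [Module B N], Module.Finite B N →
      IsZero (F.obj (ModuleCat.of B N)) := by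
    intro N _ _ hN
    induction hN using IsNoetherianRing.induction_on_isQuotientEquivQuotientPrime B with
    | subsingleton N => exact hsub N
    | quotient N p e => exact isZero_congr F e.symm (key p.1)
    | exact N₁ N₂ N₃ f g hf hg hfg h₁ h₃ => exact isZero_mid F hex f g hf hg hfg h₁ h₃
  exact key2 M hM

end Groth.Agent.S11461
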