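import Groth.Statements.S11463
import Groth.Agent.S11295
import Groth.Agent.TautSh.K994.Hlft
import Groth.Agent.S2280
import Groth.Agent.CalgA.RegBasic
import Groth.Agent.S10829
import Groth.Agent.CohqB.ProjBC
import Groth.Agent.Sga5.ProjReg
import Groth.Agent.Sga4h.H912.P1Irr
import Groth.Agent.VarietyA.RegSmoothSch

set_option autoImplicit false
universe u
open CategoryTheory AlgebraicGeometry
open DefT

namespace Groth.Agent.S11463

/-- `P^n_k` is projective over `k`. -/
theorem isProjectiveOver (k : Type u) [Field k] (n : ℕ) :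
    Neron.IsProjectiveOver k (Over.mk (CohB1.ProjSpace.toSpec n k)) :=
  ⟨n, (Groth.Agent.CohqB.ProjBC.projSpaceOverIso n k).inv, inferInstance, by
    rw [Iso.inv_comp_eq]
    exact (Groth.Agent.CohqB.ProjBC.projSpaceOverIso_hom_toSpec n k).symm⟩

theorem isRegularLocalRing_stalk (k : Type u) [Field k] (n : ℕ) (y : CohB1.ProjSpace n k) :
    IsRegularLocalRing ((CohB1.ProjSpace n k).presheaf.stalk y) := by
  have : Smooth (CohB1.ProjSpace.toSpec n k) := Groth.Agent.Sga5.ProjReg.smooth_toSpec' n k
  apply VarietyA.RegSmoothSch.isRegularLocalRing_stalk_of_mem_smoothLocus (CohB1.ProjSpace.toSpec n k)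
  rw [Scheme.Hom.smoothLocus_eq_top]
  trivial

/-- For k algebraically closed and every n > 0, the Hilbert scheme Hilb^n(P²_k) of zero-dimensional
closed subschemes of length n of the projective plane is irreducible: any k-scheme H representing
the functor Hilb^n of P²_k over Spec k (with universal family Z) has irreducible underlying space. -/
theorem result (k : Type u) [Field k] [IsAlgClosed k]
    (n : ℕ) (hn : 0 < n) (H : Over (Spec (CommRingCat.of k)))
    (Z : HilbD.Obj (CohB1.ProjSpace.toSpec 2 k) n H)
    (hH : HilbD.IsUniversal (CohB1.ProjSpace.toSpec 2 k) n H Z) :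
    IrreducibleSpace H.left := by
  have hsm : Smooth (CohB1.ProjSpace.toSpec 2 k) := Groth.Agent.Sga5.ProjReg.smooth_toSpec' 2 k
  have hirr : IrreducibleSpace (CohB1.ProjSpace 2 k) :=
    Groth.Agent.Sga4h.H912.P1Irr.irreducibleSpace_projSpace 2 k
  have hconn : ConnectedSpace (Over.mk (CohB1.ProjSpace.toSpec 2 k)).left :=
    inferInstanceAs (ConnectedSpace (CohB1.ProjSpace 2 k))
  obtain ⟨h1, h2, -⟩ := Groth.Agent.S11295.result k (Over.mk (CohB1.ProjSpace.toSpec 2 k)) (isProjectiveOver k 2)
    (isRegularLocalRing_stalk k 2) (Groth.Agent.S10829.result k 2) n H Z hH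
  have hlft : LocallyOfFiniteType H.hom := K994.Hlft.locallyOfFiniteType_hom k (CohB1.ProjSpace.toSpec 2 k) hH
  have hln : IsLocallyNoetherian H.left := LocallyOfFiniteType.isLocallyNoetherian H.hom
  have hint : IsIntegral H.left := (Groth.Agent.S2280.result H.left).2.2 ⟨h1, fun x => by
    have := h2 x
    exact Groth.Agent.CalgA.RegBasic.isDomain _⟩
  infer_instance

end Groth.Agent.S11463
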