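import Groth.Statements.S11466
import Groth.Agent.DefT.K692.SmallLift
import Mathlib.LinearAlgebra.TensorProduct.Basis
import Mathlib.LinearAlgebra.Dimension.Finrank
import Mathlib.LinearAlgebra.FreeModule.Finite.Basic

set_option autoImplicit false
universe u
open DefT

namespace Groth.Agent.S11466

open W4bk4hartshdef114 K692.SmallLift IsLocalRing
open scoped TensorProduct

section

variable (k : Type u) [Field k] {P : Type u} [CommRing P] [IsLocalRing P] [IsNoetherianRing P] [Algebra k P]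

/-- quotients of a small extension -/
theorem isSmallExt_quotient {C' : Type u} [CommRing C'] [Algebra k C'] {J K : Ideal C'}
    (h : IsSmallExt k C' J) (hK : K ≤ J) : IsSmallExt k (C' ⧸ K) (J.map (Ideal.Quotient.mkₐ k K)) := by
  obtain ⟨hloc, hart, hsc, hkill, hne⟩ := h
  have hKne : K ≠ ⊤ := fun h => hne (top_le_iff.1 (h ▸ hK))
  have hnt : Nontrivial (C' ⧸ K) := Ideal.Quotient.nontrivial_iff.2 hKne
  have hmk : ∀ x : C' ⧸ K, ∀ y : C', Ideal.Quotient.mk K y = x → x ∈ nonunits (C' ⧸ K) → y ∈ nonunits C' := by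
    rintro _ y rfl hx
    exact fun hy => hx (hy.map _)
  refine ⟨IsLocalRing.of_surjective' (Ideal.Quotient.mk K) Ideal.Quotient.mk_surjective,
    inferInstance, ?_, ?_, ?_⟩
  · intro x
    obtain ⟨x, rfl⟩ := Ideal.Quotient.mk_surjective x
    obtain ⟨c, hc⟩ := hsc x
    refine ⟨c, ?_⟩
    have h1 : algebraMap k (C' ⧸ K) c = Ideal.Quotient.mk K (algebraMap k C' c) := rfl
    rw [h1, ← map_sub]
    exact mk_mem_nonunits K hKne hc
  · intro x j hx hj
    obtain ⟨x, rfl⟩ := Ideal.Quotient.mk_surjective x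
    have hj' : j ∈ J.map (Ideal.Quotient.mk K) := hj
    obtain ⟨j, hj2, rfl⟩ := (Ideal.mem_map_iff_of_surjective _ Ideal.Quotient.mk_surjective).1 hj'
    rw [← map_mul, hkill x j (hmk _ x rfl hx) hj2, map_zero]
  · intro htop
    apply hne
    have h1 : J.map (Ideal.Quotient.mk K) = ⊤ := htop
    rw [Ideal.eq_top_iff_one, ← map_one (Ideal.Quotient.mk K),
      Ideal.mem_map_iff_of_surjective _ Ideal.Quotient.mk_surjective] at h1
    obtain ⟨j, hj, hj1⟩ := h1
    rw [Ideal.Quotient.mk_eq_mk_iff_sub_mem] at hj1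
    rw [Ideal.eq_top_iff_one]
    have := J.sub_mem hj (hK hj1)
    simpa using this

theorem isSmallExt_mk (hres : Function.Surjective (algebraMap k (ResidueField P))) (I Q : Ideal P) (n : ℕ)
    (hn : maximalIdeal P ^ n ≤ Q) (hI : maximalIdeal P * I ≤ Q) (hIm : I ≤ maximalIdeal P)
    (hQm : Q ≤ maximalIdeal P) : IsSmallExt k (P ⧸ Q) (I.map (Ideal.Quotient.mk Q)) := by
  have hQne : Q ≠ ⊤ := fun h => by
    rw [h, top_le_iff] at hQm
    exact Ideal.IsMaximal.ne_top inferInstance hQm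
  have hnt : Nontrivial (P ⧸ Q) := Ideal.Quotient.nontrivial_iff.2 hQne
  refine ⟨IsLocalRing.of_surjective' (Ideal.Quotient.mk Q) Ideal.Quotient.mk_surjective,
    isArtinianRing_quotient Q n hn, ?_, ?_, ?_⟩
  · intro x
    obtain ⟨x, rfl⟩ := Ideal.Quotient.mk_surjective x
    obtain ⟨c, hc⟩ := exists_sub_mem k hres x
    refine ⟨c, ?_⟩
    have h1 : algebraMap k (P ⧸ Q) c = Ideal.Quotient.mk Q (algebraMap k P c) := rfl
    rw [h1, ← map_sub]
    exact mk_mem_nonunits Q hQne hc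
  · intro x j hx hj
    obtain ⟨x, rfl⟩ := Ideal.Quotient.mk_surjective x
    obtain ⟨j, hj2, rfl⟩ := (Ideal.mem_map_iff_of_surjective _ Ideal.Quotient.mk_surjective).1 hj
    rw [← map_mul, Ideal.Quotient.eq_zero_iff_mem]
    exact hI (Ideal.mul_mem_mul (mem_maximalIdeal_of_mk Q hx) hj2)
  · intro h1
    rw [Ideal.eq_top_iff_one, ← map_one (Ideal.Quotient.mk Q),
      Ideal.mem_map_iff_of_surjective _ Ideal.Quotient.mk_surjective] at h1
    obtain ⟨j, hj, hj1⟩ := h1
    rw [Ideal.Quotient.mk_eq_mk_iff_sub_mem] at hj1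
    refine (Ideal.ne_top_iff_one _).1 (Ideal.IsMaximal.ne_top (inferInstance : (maximalIdeal P).IsMaximal)) ?_
    have := (maximalIdeal P).sub_mem (hIm hj) (hQm hj1)
    simpa using this

end

/-- The generators: `I` is generated by `finrank k V` elements. -/
theorem exists_span (k : Type u) [Field k] (P : Type u) [CommRing P]
    [IsLocalRing P] [IsNoetherianRing P] [Algebra k P]
    (hres : Function.Surjective (algebraMap k (IsLocalRing.ResidueField P)))
    (I : Ideal P) (hI : I ≤ IsLocalRing.maximalIdeal P ^ 2)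
    (V : Type u) [AddCommGroup V] [Module k V] [Module.Finite k V]
    (T : W4bk4hartshdef114.ObsTheory k (P ⧸ I) V) :
    ∃ x : Fin (Module.finrank k V) → P, I = Ideal.span (Set.range x) := by
  set 𝔪 := maximalIdeal P with h𝔪
  obtain ⟨n, hn1, hn⟩ := exists_pow_inf_le 𝔪 I
  have hIm : I ≤ 𝔪 := hI.trans (Ideal.pow_le_self two_ne_zero)
  set Q : Ideal P := 𝔪 * I ⊔ 𝔪 ^ n with hQ
  have hQm : Q ≤ 𝔪 := sup_le Ideal.mul_le_left (Ideal.pow_le_self (by omega))
  set J : Ideal (P ⧸ Q) := I.map (Ideal.Quotient.mk Q) with hJ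
  have hsm : IsSmallExt k (P ⧸ Q) J := isSmallExt_mk k hres I Q n le_sup_right le_sup_left hIm hQm
  -- the map `A → C'/J`
  let u : (P ⧸ I) →ₐ[k] ((P ⧸ Q) ⧸ J) :=
    Ideal.Quotient.liftₐ I ((Ideal.Quotient.mkₐ k J).comp (Ideal.Quotient.mkₐ k Q)) (by
      intro a ha
      change Ideal.Quotient.mk J (Ideal.Quotient.mk Q a) = 0
      rw [Ideal.Quotient.eq_zero_iff_mem]
      exact Ideal.mem_map_of_mem _ ha)
  have hu : ∀ x : P, u (Ideal.Quotient.mk I x) = Ideal.Quotient.mk J (Ideal.Quotient.mk Q x) := fun x => rfl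
  let b := Module.finBasis k V
  obtain ⟨c, hc⟩ := TensorProduct.eq_repr_basis_left b (T.obs (P ⧸ Q) J u)
  have hc' : T.obs (P ⧸ Q) J u = ∑ i, b i ⊗ₜ[k] c i := by
    rw [← hc, Finsupp.sum_fintype _ _ (fun i => by rw [TensorProduct.tmul_zero])]
  have hlift : ∀ i, ∃ x ∈ I, Ideal.Quotient.mk Q x = (c i : P ⧸ Q) := fun i =>
    (Ideal.mem_map_iff_of_surjective _ Ideal.Quotient.mk_surjective).1 (c i).2
  choose x hxI hx using hlift
  refine ⟨x, ?_⟩
  set K : Ideal (P ⧸ Q) := Ideal.span (Set.range fun i => (c i : P ⧸ Q)) with hK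
  have hKJ : K ≤ J := by
    rw [hK, Ideal.span_le]
    rintro _ ⟨i, rfl⟩
    exact (c i).2
  have hsm2 := isSmallExt_quotient k hsm hKJ
  have hobs := T.obs_quot (P ⧸ Q) J K hsm hKJ u
  have hzero : LinearMap.lTensor V (idealToQuot k J K) (T.obs (P ⧸ Q) J u) = 0 := by
    rw [hc', map_sum]
    refine Finset.sum_eq_zero fun i _ => ?_
    rw [LinearMap.lTensor_tmul]
    have h1 : idealToQuot k J K (c i) = 0 := by
      apply Subtype.ext
      change Ideal.Quotient.mk K (c i : P ⧸ Q) = 0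
      rw [Ideal.Quotient.eq_zero_iff_mem]
      exact Ideal.subset_span ⟨i, rfl⟩
    rw [h1, TensorProduct.tmul_zero]
  rw [hzero, T.obs_eq_zero_iff _ _ hsm2] at hobs
  obtain ⟨v, hv⟩ := hobs
  -- compare the two maps `P → C'/K`
  set J' : Ideal ((P ⧸ Q) ⧸ K) := J.map (Ideal.Quotient.mkₐ k K) with hJ'
  let φ₁ : P →+* ((P ⧸ Q) ⧸ K) := v.toRingHom.comp (Ideal.Quotient.mk I)
  let φ₂ : P →+* ((P ⧸ Q) ⧸ K) := (Ideal.Quotient.mk K).comp (Ideal.Quotient.mk Q)
  have hdiff : ∀ a, φ₁ a - φ₂ a ∈ J' := by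
    intro a
    rw [← Ideal.Quotient.mk_eq_mk_iff_sub_mem]
    exact DFunLike.congr_fun hv (Ideal.Quotient.mk I a)
  obtain ⟨hloc2, -, -, hkill2, hne2⟩ := hsm2
  have hnon2 : ∀ a ∈ 𝔪, φ₂ a ∈ nonunits ((P ⧸ Q) ⧸ K) := by
    intro a ha hu2
    have hloc : IsLocalRing (P ⧸ Q) := hsm.1
    have hKne : K ≠ ⊤ := fun h => hsm.2.2.2.2 (top_le_iff.1 (h ▸ hKJ))
    have hQne : Q ≠ ⊤ := fun h => by
      rw [h, top_le_iff] at hQm
      exact Ideal.IsMaximal.ne_top inferInstance hQm
    exact mk_mem_nonunits K hKne (mk_mem_nonunits Q hQne ha) hu2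
  have hJ'non : ∀ j ∈ J', j ∈ nonunits ((P ⧸ Q) ⧸ K) := by
    intro j hj hu2
    exact hne2 (Ideal.eq_top_of_isUnit_mem _ hj hu2)
  have hnon1 : ∀ a ∈ 𝔪, φ₁ a ∈ nonunits ((P ⧸ Q) ⧸ K) := by
    intro a ha
    have h1 : φ₁ a = (φ₁ a - φ₂ a) + φ₂ a := by ring
    rw [h1]
    exact IsLocalRing.nonunits_add (hJ'non _ (hdiff a)) (hnon2 a ha)
  have hsq : ∀ a ∈ I, φ₁ a = φ₂ a := fun a ha => eq_on_sq φ₁ φ₂ J' hdiff 𝔪
    (fun a ha j hj => hkill2 _ _ (hnon1 a ha) hj) (fun a ha j hj => hkill2 _ _ (hnon2 a ha) hj) (hI ha)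
  have hIK : ∀ a ∈ I, Ideal.Quotient.mk Q a ∈ K := by
    intro a ha
    rw [← Ideal.Quotient.eq_zero_iff_mem]
    have h1 : φ₁ a = 0 := by
      change v (Ideal.Quotient.mk I a) = 0
      rw [Ideal.Quotient.eq_zero_iff_mem.2 ha, map_zero]
    exact (hsq a ha).symm.trans h1
  have hspanI : Ideal.span (Set.range x) ≤ I := by
    rw [Ideal.span_le]
    rintro _ ⟨i, rfl⟩
    exact hxI i
  refine le_antisymm ?_ hspanI
  refine Submodule.le_of_le_smul_of_le_jacobson_bot (I := 𝔪) (IsNoetherian.noetherian I)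
    (IsLocalRing.jacobson_eq_maximalIdeal ⊥ bot_ne_top).ge ?_
  intro a ha
  have h1 : Ideal.Quotient.mk Q a ∈ (Ideal.span (Set.range x)).map (Ideal.Quotient.mk Q) := by
    have h2 := hIK a ha
    rw [Ideal.map_span, ← Set.range_comp]
    have h3 : (Ideal.Quotient.mk Q) ∘ x = fun i => (c i : P ⧸ Q) := funext hx
    rw [h3]
    exact h2
  obtain ⟨s, hs, hsa⟩ := (Ideal.mem_map_iff_of_surjective _ Ideal.Quotient.mk_surjective).1 h1
  rw [Ideal.Quotient.mk_eq_mk_iff_sub_mem] at hsa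
  have h2 : a - s ∈ 𝔪 * I := by
    have h3 : a - s ∈ Q := by
      have := Q.neg_mem hsa
      simpa using this
    obtain ⟨p, hp, q, hq, hpq⟩ := Submodule.mem_sup.1 h3
    have h4 : q ∈ I := by
      have h5 : q = (a - s) - p := by rw [← hpq]; ring
      rw [h5]
      exact I.sub_mem (I.sub_mem ha (hspanI hs)) (Ideal.mul_le_right hp)
    rw [← hpq]
    exact Ideal.add_mem _ hp (hn ⟨hq, h4⟩)
  have h5 : a = s + (a - s) := by ring
  rw [h5]
  exact Submodule.add_mem_sup hs h2

/-- Let P be a regular local k-algebra with residue field k, I ⊆ m_P² an ideal, and A = P/I. If A has an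
obstruction theory whose obstruction space is a finite-dimensional k-vector space V (obstructions in
V ⊗ J attached to k-algebra maps A → C'/J for small extensions 0 → J → C' → C'/J → 0 of local
Artinian k-algebras with residue field k, vanishing exactly when the map lifts to C', and compatible
with passing to C'/K for ideals K ≤ J), then I is generated by at most dim_k V elements. (The
published statement gives a natural injection of the dual of I/m_P·I into V; this row asserts the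
resulting bound on the number of generators.) -/
theorem result (k : Type u) [Field k] (P : Type u) [CommRing P]
    [IsRegularLocalRing P] [Algebra k P]
    (hres : Function.Surjective (algebraMap k (IsLocalRing.ResidueField P)))
    (I : Ideal P) (hI : I ≤ IsLocalRing.maximalIdeal P ^ 2)
    (V : Type u) [AddCommGroup V] [Module k V] [Module.Finite k V]
    (T : W4bk4hartshdef114.ObsTheory k (P ⧸ I) V) :
    I.spanFinrank ≤ Module.finrank k V := by
  obtain ⟨x, hx⟩ := exists_span k P hres I hI V T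
  rw [hx]
  refine (Submodule.spanFinrank_span_le_ncard_of_finite (Set.finite_range x)).trans ?_
  rw [← Set.image_univ]
  refine (Set.ncard_image_le Set.finite_univ).trans ?_
  rw [Set.ncard_univ, Nat.card_eq_fintype_card, Fintype.card_fin]

end Groth.Agent.S11466
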