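-- Statement S11468: the theorem DefT.algebraMap_globalSections_bijective_of_flat_over_localArtinian.
import Groth.Statements.S11468
import Groth.Agent.DefT.K693.FlatSec
import Groth.Agent.Flat2C.Thick
import Groth.Agent.Fdesc.LocGen

set_option autoImplicit false
universe u
open CategoryTheory AlgebraicGeometry
open DefT

namespace Groth.Agent.S11468

open K693.FlatSec Groth.Agent.Fdesc.LocGen TopologicalSpace Opposite
open scoped TensorProduct

variable {C : Type u} [CommRing C] {X : Scheme.{u}} (g : X ⟶ Spec (CommRingCat.of C))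

/-- The structure map on sections. -/
noncomputable def str (U : X.Opens) : C →+* Γ(X, U) :=
  ((Scheme.ΓSpecIso (CommRingCat.of C)).inv ≫ g.appLE ⊤ U le_top).hom

lemma ores_str {U V : X.Opens} (h : V ≤ U) (c : C) : ores h (str g U c) = str g V c := by
  change (((Scheme.ΓSpecIso (CommRingCat.of C)).inv ≫ g.appLE ⊤ U le_top) ≫ X.presheaf.map (homOfLE h).op).hom c = _
  rw [Category.assoc, Scheme.Hom.appLE_map]
  rfl

/-- Sections over an affine open, as a `C`-algebra. -/
def Sec (_g : X ⟶ Spec (CommRingCat.of C)) (U : X.affineOpens) : Type u := Γ(X, U.1)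

noncomputable instance (U : X.affineOpens) : CommRing (Sec g U) := inferInstanceAs (CommRing Γ(X, U.1))

noncomputable instance (U : X.affineOpens) : Algebra C (Sec g U) := (str g U.1).toAlgebra

lemma algebraMap_sec (U : X.affineOpens) (c : C) : algebraMap C (Sec g U) c = str g U.1 c := rfl

/-- Restriction. -/
noncomputable def rho {U V : X.affineOpens} (h : U ≤ V) : Sec g V →ₗ[C] Sec g U where
  toFun := ores (show U.1 ≤ V.1 from h)
  map_add' := map_add _
  map_smul' c x := by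
    refine (map_mul (ores (show U.1 ≤ V.1 from h)) (str g V.1 c) x).trans ?_
    rw [ores_str]
    rfl

theorem flat_sec [Flat g] (U : X.affineOpens) : Module.Flat C (Sec g U) := by
  have h1 : (g.appLE ⊤ U.1 le_top).hom.Flat :=
    HasRingHomProperty.appLE (P := @Flat) g inferInstance ⟨⊤, isAffineOpen_top _⟩ U le_top
  have h2 : (Scheme.ΓSpecIso (CommRingCat.of C)).inv.hom.Flat :=
    RingHom.Flat.of_bijective (ConcreteCategory.bijective_of_isIso (Scheme.ΓSpecIso (CommRingCat.of C)).inv)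
  have h3 : (str g U.1).Flat := RingHom.Flat.comp h2 h1
  exact h3

theorem cover : (⊤ : X.Opens) ≤ ⨆ U : X.affineOpens, U.1 := (iSup_affineOpens_eq_top X).ge

theorem exists_le {U V : X.Opens} {x : X} (hx : x ∈ U ⊓ V) : ∃ W : X.affineOpens, x ∈ W.1 ∧ W.1 ≤ U ⊓ V := by
  obtain ⟨_, ⟨W, hW, rfl⟩, hxW, hWU⟩ :=
    X.isBasis_affineOpens.exists_subset_of_mem_open hx (U ⊓ V).isOpen
  exact ⟨⟨W, hW⟩, hxW, hWU⟩

variable {I : Ideal C} {X₀ : Scheme.{u}} (i : X₀ ⟶ X) (f₀ : X₀ ⟶ Spec (CommRingCat.of (C ⧸ I)))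
  (hsq : IsPullback i f₀ g (Spec.map (CommRingCat.ofHom (Ideal.Quotient.mk I))))

include hsq in
theorem app_str (U : X.Opens) (c : C) :
    i.app U (str g U c) = str f₀ (i ⁻¹ᵁ U) (Ideal.Quotient.mk I c) := by
  have h1 : ((Scheme.ΓSpecIso (CommRingCat.of C)).inv ≫ g.appLE ⊤ U le_top) ≫ i.app U =
      CommRingCat.ofHom (Ideal.Quotient.mk I) ≫ (Scheme.ΓSpecIso (CommRingCat.of (C ⧸ I))).inv ≫
        f₀.appLE ⊤ (i ⁻¹ᵁ U) le_top := by
    rw [Category.assoc, Scheme.Hom.app_eq_appLE, Scheme.Hom.appLE_comp_appLE,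
      ← Category.assoc (CommRingCat.ofHom _), Scheme.ΓSpecIso_inv_naturality, Category.assoc]
    congr 1
    simp only [hsq.w]
    rw [← Scheme.Hom.appLE_comp_appLE f₀ _ ⊤ ⊤ (i ⁻¹ᵁ U) le_top le_top]
    congr 1
  exact congr($h1 c)

include hsq in
theorem ker_eq (U : X.affineOpens) :
    Function.Surjective (i.app U.1) ∧ RingHom.ker (i.app U.1).hom = I.map (str g U.1) := by
  have hcl : IsClosedImmersion (Spec.map (CommRingCat.ofHom (Ideal.Quotient.mk I))) :=
    IsClosedImmersion.spec_of_surjective _ Ideal.Quotient.mk_surjective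
  obtain ⟨h1, h2⟩ := Groth.Agent.Flat2C.Thick.surjective_app_and_ker_app hsq (U := ⊤) (isAffineOpen_top _)
    (V := U.1) U.2 le_top
  refine ⟨h1, h2.trans ?_⟩
  have h3 : RingHom.ker ((Spec.map (CommRingCat.ofHom (Ideal.Quotient.mk I))).app ⊤).hom =
      I.map (Scheme.ΓSpecIso (CommRingCat.of C)).inv.hom := by
    have hnat := Scheme.ΓSpecIso_inv_naturality (CommRingCat.ofHom (Ideal.Quotient.mk I))
    have hb := ConcreteCategory.bijective_of_isIso (Scheme.ΓSpecIso (CommRingCat.of (C ⧸ I))).inv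
    have hb' := ConcreteCategory.bijective_of_isIso (Scheme.ΓSpecIso (CommRingCat.of C)).inv
    apply le_antisymm
    · intro x hx
      obtain ⟨c, rfl⟩ := hb'.2 x
      apply Ideal.mem_map_of_mem
      have h4 : (Scheme.ΓSpecIso (CommRingCat.of (C ⧸ I))).inv (Ideal.Quotient.mk I c) =
          (Spec.map (CommRingCat.ofHom (Ideal.Quotient.mk I))).app ⊤
            ((Scheme.ΓSpecIso (CommRingCat.of C)).inv c) := congr($hnat c)
      rw [RingHom.mem_ker] at hx
      have h5 : (Scheme.ΓSpecIso (CommRingCat.of (C ⧸ I))).inv (Ideal.Quotient.mk I c) = 0 := h4.trans hx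
      rw [← map_zero (Scheme.ΓSpecIso (CommRingCat.of (C ⧸ I))).inv.hom] at h5
      exact Ideal.Quotient.eq_zero_iff_mem.1 (hb.1 h5)
    · rw [Ideal.map_le_iff_le_comap]
      intro c hc
      rw [Ideal.mem_comap, RingHom.mem_ker]
      have h4 : (Scheme.ΓSpecIso (CommRingCat.of (C ⧸ I))).inv (Ideal.Quotient.mk I c) =
          (Spec.map (CommRingCat.ofHom (Ideal.Quotient.mk I))).app ⊤
            ((Scheme.ΓSpecIso (CommRingCat.of C)).inv c) := congr($hnat c)
      refine h4.symm.trans ?_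
      rw [Ideal.Quotient.eq_zero_iff_mem.2 hc]
      exact map_zero _
  rw [h3, Ideal.map_map]
  rfl

/-- The map `R ⊗ C/I → Γ(X₀, i⁻¹U)`. -/
noncomputable def ev (U : X.affineOpens) : Sec g U ⊗[C] (C ⧸ I) →+ Γ(X₀, i ⁻¹ᵁ U.1) :=
  TensorProduct.liftAddHom
    (AddMonoidHom.mk' (fun r => (AddMonoidHom.mulLeft (i.app U.1 (show Γ(X, U.1) from r))).comp
      (str f₀ (i ⁻¹ᵁ U.1)).toAddMonoidHom) (fun a b => by
        ext c
        change i.app U.1 (show Γ(X, U.1) from (a + b)) * _ =
          i.app U.1 (show Γ(X, U.1) from a) * _ + i.app U.1 (show Γ(X, U.1) from b) * _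
        rw [← add_mul]
        congr 1
        exact map_add (i.app U.1).hom _ _))
    (fun c r n => by
      change i.app U.1 (show Γ(X, U.1) from c • r) * str f₀ (i ⁻¹ᵁ U.1) n =
        i.app U.1 (show Γ(X, U.1) from r) * str f₀ (i ⁻¹ᵁ U.1) (c • n)
      have h1 : (show Γ(X, U.1) from c • r) = str g U.1 c * (show Γ(X, U.1) from r) := rfl
      have h2 : c • n = Ideal.Quotient.mk I c * n := rfl
      rw [h1, h2, map_mul, map_mul, app_str g i f₀ hsq]
      ring)

theorem ev_tmul (U : X.affineOpens) (r : Sec g U) (n : C ⧸ I) :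
    ev g i f₀ hsq U (r ⊗ₜ n) = i.app U.1 (show Γ(X, U.1) from r) * str f₀ (i ⁻¹ᵁ U.1) n := rfl

theorem exists_tmul_one (U : X.affineOpens) (z : Sec g U ⊗[C] (C ⧸ I)) :
    ∃ r : Sec g U, z = r ⊗ₜ 1 := by
  induction z with
  | zero => exact ⟨0, (TensorProduct.zero_tmul _ _).symm⟩
  | tmul r c =>
    obtain ⟨c, rfl⟩ := Ideal.Quotient.mk_surjective c
    refine ⟨c • r, ?_⟩
    rw [TensorProduct.smul_tmul]
    congr 1
    change _ = Ideal.Quotient.mk I c * 1
    rw [mul_one]
  | add x y hx hy =>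
    obtain ⟨r, rfl⟩ := hx
    obtain ⟨r', rfl⟩ := hy
    exact ⟨r + r', (TensorProduct.add_tmul _ _ _).symm⟩

theorem tmul_one_eq_zero (U : X.affineOpens) (r : Sec g U) (hr : (show Γ(X, U.1) from r) ∈ I.map (str g U.1)) :
    r ⊗ₜ[C] (1 : C ⧸ I) = 0 := by
  have h : ∀ x ∈ (I.map (algebraMap C (Sec g U)) : Ideal (Sec g U)), x ⊗ₜ[C] (1 : C ⧸ I) = 0 := by
    intro x hx
    induction hx using Submodule.span_induction with
    | mem x h =>
      obtain ⟨c, hc, rfl⟩ := h
      rw [Algebra.algebraMap_eq_smul_one, TensorProduct.smul_tmul]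
      have : c • (1 : C ⧸ I) = 0 := by
        change Ideal.Quotient.mk I c * 1 = 0
        rw [Ideal.Quotient.eq_zero_iff_mem.2 hc, zero_mul]
      rw [this, TensorProduct.tmul_zero]
    | zero => exact TensorProduct.zero_tmul _ _
    | add x y _ _ hx hy => rw [TensorProduct.add_tmul, hx, hy, add_zero]
    | smul a x _ hx =>
      have : (a • x) ⊗ₜ[C] (1 : C ⧸ I) = a • (x ⊗ₜ[C] (1 : C ⧸ I)) := rfl
      rw [this, hx, smul_zero]
  exact h r hr

theorem ev_injective (U : X.affineOpens) : Function.Injective (ev g i f₀ hsq U) := by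
  rw [injective_iff_map_eq_zero]
  intro z hz
  obtain ⟨r, rfl⟩ := exists_tmul_one g U z
  apply tmul_one_eq_zero
  rw [ev_tmul, map_one, mul_one] at hz
  rw [← (ker_eq g i f₀ hsq U).2]
  exact hz

include hsq in
/-- The property for the residue ring. -/
theorem P_quot (h0 : Function.Bijective (str f₀ ⊤)) :
    P (Sec g) (fun _ => 1) (fun {_ _} h => rho g h) (C ⧸ I) := by
  intro s hs
  let t : ∀ U : X.affineOpens, Γ(X₀, i ⁻¹ᵁ U.1) := fun U => ev g i f₀ hsq U (s U)
  have ht : ∀ (U V : X.affineOpens) (h : U.1 ≤ V.1), ores (i.preimage_mono h) (t V) = t U := by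
    intro U V h
    have hUV : U ≤ V := h
    change ores _ (ev g i f₀ hsq V (s V)) = ev g i f₀ hsq U (s U)
    rw [← hs U V hUV]
    generalize s V = z
    induction z with
    | zero => simp only [map_zero]
    | tmul r c =>
      rw [LinearMap.rTensor_tmul, ev_tmul, ev_tmul, map_mul, ores_str]
      congr 1
      change (i.app V.1 ≫ X₀.presheaf.map _) r = (X.presheaf.map (homOfLE h).op ≫ i.app U.1) r
      rw [Scheme.Hom.naturality]
      rfl
    | add x y hx hy => simp only [map_add, hx, hy]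
  have hcov : (⊤ : X₀.Opens) ≤ ⨆ U : X.affineOpens, i ⁻¹ᵁ U.1 := by
    intro x _
    have : i x ∈ ⨆ U : X.affineOpens, U.1 := cover (trivial : i x ∈ (⊤ : X.Opens))
    rw [Opens.mem_iSup] at this ⊢
    exact this
  obtain ⟨w, hw⟩ := ores_glue (V := ⊤) (fun U : X.affineOpens => i ⁻¹ᵁ U.1) (fun _ => le_top) hcov t (by
    intro U V
    let κ := {W : X.affineOpens // W.1 ≤ U.1 ⊓ V.1}
    refine ores_ext (fun W : κ => i ⁻¹ᵁ W.1.1) (fun W => i.preimage_mono W.2) ?_ ?_
    · intro x hx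
      obtain ⟨W, hxW, hW⟩ := exists_le (U := U.1) (V := V.1) (x := i x) hx
      exact Opens.mem_iSup.2 ⟨⟨W, hW⟩, hxW⟩
    · intro W
      have hW : i ⁻¹ᵁ W.1.1 ≤ i ⁻¹ᵁ U.1 ⊓ i ⁻¹ᵁ V.1 := i.preimage_mono W.2
      exact ((ores_ores inf_le_left hW (t U)).trans (ht W.1 U (W.2.trans inf_le_left))).trans
        ((ores_ores inf_le_right hW (t V)).trans (ht W.1 V (W.2.trans inf_le_right))).symm)
  obtain ⟨c, rfl⟩ := h0.2 w
  refine ⟨c, fun U => ?_, fun c' hc' => ?_⟩
  · apply ev_injective g i f₀ hsq U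
    have h1 := hw U
    rw [ores_str] at h1
    change t U = _
    rw [← h1, ev_tmul]
    change _ = i.app U.1 (1 : Γ(X, U.1)) * _
    rw [map_one, one_mul]
  · apply h0.1
    refine ores_ext (fun U : X.affineOpens => i ⁻¹ᵁ U.1) (fun _ => le_top) hcov ?_
    intro U
    rw [hw U, ores_str]
    change _ = ev g i f₀ hsq U (s U)
    rw [hc' U, ev_tmul]
    change _ = i.app U.1 (1 : Γ(X, U.1)) * _
    rw [map_one, one_mul]

/-- Let C be a local Artin ring with maximal ideal m and residue field k = C/m, g : X → Spec C a flat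
morphism, and i : X₀ → X the fibre of g over the closed point, i.e. a pullback of g along Spec k →
Spec C, with structure map f₀ : X₀ → Spec k. If the induced ring map k → Γ(X₀, O_{X₀}) is bijective,
then so is C → Γ(X, O_X). -/
theorem result (C : Type u) [CommRing C]
    [IsLocalRing C] [IsArtinianRing C] (X X₀ : Scheme.{u}) (g : X ⟶ Spec (CommRingCat.of C)) [Flat g]
    (i : X₀ ⟶ X) (f₀ : X₀ ⟶ Spec (CommRingCat.of (C ⧸ IsLocalRing.maximalIdeal C)))
    (hsq : IsPullback i f₀ g
      (Spec.map (CommRingCat.ofHom (Ideal.Quotient.mk (IsLocalRing.maximalIdeal C)))))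
    (h0 : Function.Bijective ((Scheme.ΓSpecIso (CommRingCat.of (C ⧸ IsLocalRing.maximalIdeal C))).inv ≫
      f₀.appTop)) :
    Function.Bijective ((Scheme.ΓSpecIso (CommRingCat.of C)).inv ≫ g.appTop) := by
  have hstr : ∀ {D : Type u} [CommRing D] {Y : Scheme.{u}} (f : Y ⟶ Spec (CommRingCat.of D)),
      CommRingCat.ofHom (str f ⊤) = (Scheme.ΓSpecIso (CommRingCat.of D)).inv ≫ f.appTop := by
    intro D _ Y f
    change (Scheme.ΓSpecIso (CommRingCat.of D)).inv ≫ f.appLE ⊤ ⊤ le_top = _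
    congr 1
    rw [Scheme.Hom.appLE]
    simp
  rw [← hstr] at h0 ⊢
  have hP : P (Sec g) (fun _ => 1) (fun {_ _} h => rho g h) C :=
    P.of_residue (flat_sec g) (fun U V h => map_one (ores (show U.1 ≤ V.1 from h)))
      (P_quot g i f₀ hsq h0) C
  change Function.Bijective (str g ⊤)
  have hone : ∀ (U : X.affineOpens) (c : C),
      TensorProduct.rid C (Sec g U) ((1 : Sec g U) ⊗ₜ[C] c) = str g U.1 c := by
    intro U c
    rw [TensorProduct.rid_tmul]
    change str g U.1 c * 1 = _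
    rw [mul_one]
  constructor
  · rw [injective_iff_map_eq_zero]
    intro c hc
    refine hP.eq_zero c fun U => ?_
    apply (TensorProduct.rid C (Sec g U)).injective
    rw [hone, map_zero, ← ores_str g (le_top : U.1 ≤ ⊤), hc, map_zero]
    rfl
  · intro w
    obtain ⟨c, hc, -⟩ := hP (fun U => (ores (le_top : U.1 ≤ ⊤) w : Sec g U) ⊗ₜ 1) (fun U V h => by
      rw [LinearMap.rTensor_tmul]
      congr 1
      exact ores_ores le_top (show U.1 ≤ V.1 from h) w)
    refine ⟨c, ?_⟩
    refine ores_ext (fun U : X.affineOpens => U.1) (fun _ => le_top) cover ?_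
    intro U
    rw [ores_str, ← hone, ← hc U, TensorProduct.rid_tmul, one_smul]

end Groth.Agent.S11468
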