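-- Statement S11469: the theorem DefT.infinitesimal_automorphisms_of_flat_extension_affine.
import Groth.Statements.S11469

set_option autoImplicit false
universe u
open scoped TensorProduct
open DefT

namespace Groth.Agent.S11469

section Aux

variable {C' : Type u} [CommRing C'] [IsLocalRing C'] (J : Ideal C')
  {A' : Type u} [CommRing A'] [Algebra C' A'] {M' : Type u} [AddCommGroup M'] [Module A' M'] [Module C' M']
  [IsScalarTower C' A' M']

/-- The submodule `𝔪 M'`. -/
abbrev mM (C' : Type u) [CommRing C'] [IsLocalRing C'] (A' : Type u) [CommRing A'] [Algebra C' A']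
    (M' : Type u) [AddCommGroup M'] [Module A' M'] : Submodule A' M' :=
  ((IsLocalRing.maximalIdeal C').map (algebraMap C' A')) • (⊤ : Submodule A' M')

/-- The map `M' ⊗ J → M'`. -/
noncomputable def mu (A' : Type u) [CommRing A'] [Algebra C' A'] (M' : Type u) [AddCommGroup M'] [Module A' M']
    [Module C' M'] [IsScalarTower C' A' M'] : M' ⊗[C'] ↥J →ₗ[A'] M' :=
  (TensorProduct.AlgebraTensorModule.rid C' A' M').toLinearMap ∘ₗ
    (TensorProduct.AlgebraTensorModule.map LinearMap.id (Submodule.subtype J))

omit [IsLocalRing C'] in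
lemma mu_apply (z : M' ⊗[C'] ↥J) :
    mu J A' M' z = TensorProduct.rid C' M' (LinearMap.lTensor M' (Submodule.subtype J) z) := rfl

omit [IsLocalRing C'] in
lemma mu_tmul (x : M') (j : J) : mu J A' M' (x ⊗ₜ j) = (j : C') • x := by
  rw [mu_apply]; simp

omit [IsLocalRing C'] in
lemma mu_injective [Module.Flat C' M'] : Function.Injective (mu J A' M') := by
  have h := Module.Flat.lTensor_preserves_injective_linearMap (M := M') (Submodule.subtype J)
    (Submodule.injective_subtype J)
  exact (TensorProduct.rid C' M').injective.comp h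

omit [IsLocalRing C'] in
lemma le_range_mu : (J.map (algebraMap C' A')) • (⊤ : Submodule A' M') ≤ LinearMap.range (mu J A' M') := by
  refine Submodule.smul_le.2 fun r hr n _ => ?_
  induction hr using Submodule.span_induction with
  | mem x h =>
    obtain ⟨j, hj, rfl⟩ := h
    exact ⟨n ⊗ₜ ⟨j, hj⟩, by rw [mu_tmul, algebraMap_smul]⟩
  | zero => rw [zero_smul]; exact zero_mem _
  | add x y _ _ hx hy => rw [add_smul]; exact add_mem hx hy
  | smul a x _ hx => rw [smul_assoc]; exact Submodule.smul_mem _ a hx

omit [IsLocalRing C'] in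
lemma range_mu_le : LinearMap.range (mu J A' M') ≤ (J.map (algebraMap C' A')) • (⊤ : Submodule A' M') := by
  rintro _ ⟨z, rfl⟩
  induction z with
  | zero => rw [map_zero]; exact zero_mem _
  | tmul x j =>
    rw [mu_tmul, ← algebraMap_smul A' (j : C') x]
    exact Submodule.smul_mem_smul (Ideal.mem_map_of_mem _ j.2) trivial
  | add x y hx hy => rw [map_add]; exact add_mem hx hy

variable {J}

lemma smul_eq_zero_of_mem (hJ : IsLocalRing.maximalIdeal C' * J = ⊥) {y : M'} (hy : y ∈ mM C' A' M') (j : J) :
    (j : C') • y = 0 := by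
  refine Submodule.smul_induction_on hy (fun r hr n _ => ?_) (fun x y hx hy => by rw [smul_add, hx, hy, add_zero])
  induction hr using Submodule.span_induction with
  | mem x h =>
    obtain ⟨c, hc, rfl⟩ := h
    have : c * (j : C') = 0 := by
      have := Ideal.mul_mem_mul hc j.2
      rwa [hJ] at this
    rw [algebraMap_smul, smul_smul, mul_comm, this, zero_smul]
  | zero => rw [zero_smul, smul_zero]
  | add x y _ _ hx hy => rw [add_smul, smul_add, hx, hy, add_zero]
  | smul a x _ hx => rw [smul_assoc, smul_comm, hx, smul_zero]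

variable (A' M') in
/-- The map `M₀ ⊗ J → M'`. -/
noncomputable def delta (hJ : IsLocalRing.maximalIdeal C' * J = ⊥) :
    ((M' ⧸ mM C' A' M') ⊗[C'] ↥J) →ₗ[A'] M' :=
  TensorProduct.AlgebraTensorModule.lift
    ((mM C' A' M').liftQ
      { toFun := fun x =>
          { toFun := fun j => (j : C') • x
            map_add' := fun j j' => by rw [Submodule.coe_add, add_smul]
            map_smul' := fun c j => by
              rw [Submodule.coe_smul, smul_eq_mul, mul_smul, RingHom.id_apply] }
        map_add' := fun x y => by ext j; simp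
        map_smul' := fun a x => by
          ext j
          simp only [LinearMap.coe_mk, AddHom.coe_mk, RingHom.id_apply, LinearMap.smul_apply]
          rw [smul_comm] }
      (fun y hy => by
        rw [LinearMap.mem_ker]
        ext j
        exact smul_eq_zero_of_mem hJ hy j))

lemma delta_tmul (hJ : IsLocalRing.maximalIdeal C' * J = ⊥) (x : M') (j : J) :
    delta A' M' hJ (Submodule.mkQ _ x ⊗ₜ j) = (j : C') • x := rfl

variable (A' M' J) in
/-- The map `M' ⊗ J → M₀ ⊗ J`. -/
noncomputable def piM : (M' ⊗[C'] ↥J) →ₗ[A'] ((M' ⧸ mM C' A' M') ⊗[C'] ↥J) :=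
  TensorProduct.AlgebraTensorModule.map (Submodule.mkQ _) LinearMap.id

lemma piM_apply (z : M' ⊗[C'] ↥J) :
    piM J A' M' z = LinearMap.rTensor ↥J ((Submodule.mkQ (mM C' A' M')).restrictScalars C') z := rfl

lemma piM_surjective : Function.Surjective (piM J A' M') := by
  intro z
  obtain ⟨w, hw⟩ := LinearMap.rTensor_surjective ↥J
    (g := (Submodule.mkQ (mM C' A' M')).restrictScalars C') (Submodule.mkQ_surjective _) z
  exact ⟨w, hw⟩

lemma delta_piM (hJ : IsLocalRing.maximalIdeal C' * J = ⊥) (z : M' ⊗[C'] ↥J) :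
    delta A' M' hJ (piM J A' M' z) = mu J A' M' z := by
  induction z with
  | zero => simp only [map_zero]
  | tmul x j => rw [mu_tmul]; exact delta_tmul hJ x j
  | add x y hx hy => simp only [map_add, hx, hy]

lemma delta_injective [Module.Flat C' M'] (hJ : IsLocalRing.maximalIdeal C' * J = ⊥) :
    Function.Injective (delta A' M' hJ) := by
  intro a b hab
  obtain ⟨a, rfl⟩ := piM_surjective a
  obtain ⟨b, rfl⟩ := piM_surjective b
  rw [delta_piM, delta_piM] at hab
  rw [mu_injective J hab]

lemma range_delta (hJ : IsLocalRing.maximalIdeal C' * J = ⊥) :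
    LinearMap.range (delta A' M' hJ) = LinearMap.range (mu J A' M') := by
  ext y
  constructor
  · rintro ⟨a, rfl⟩
    obtain ⟨a, rfl⟩ := piM_surjective a
    exact ⟨a, (delta_piM hJ a).symm⟩
  · rintro ⟨a, rfl⟩
    exact ⟨_, delta_piM hJ a⟩

/-- The comparison condition in terms of `δ`. -/
lemma cond_iff [Module.Flat C' M'] (hJ : IsLocalRing.maximalIdeal C' * J = ⊥) (σ : M' →ₗ[A'] M')
    (hσ : ∀ x : M', σ x - x ∈ (J.map (algebraMap C' A')) • (⊤ : Submodule A' M'))
    (τ : (M' ⧸ mM C' A' M') →ₗ[A'] ((M' ⧸ mM C' A' M') ⊗[C'] ↥J)) :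
    (∀ (x : M') (z : M' ⊗[C'] ↥J),
      TensorProduct.rid C' M' (LinearMap.lTensor M' (Submodule.subtype J) z) = σ x - x →
            LinearMap.rTensor ↥J ((Submodule.mkQ (mM C' A' M')).restrictScalars C') z =
              τ (Submodule.mkQ _ x)) ↔ ∀ x, delta A' M' hJ (τ (Submodule.mkQ _ x)) = σ x - x := by
  constructor
  · intro h x
    obtain ⟨z, hz⟩ := le_range_mu J (hσ x)
    rw [← h x z hz, ← hz, ← delta_piM hJ]
    rfl
  · intro h x z hz
    apply delta_injective hJ
    rw [h x, ← hz]
    exact delta_piM hJ z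

end Aux

/-- Let C' be a local Artin ring with maximal ideal m, J ⊊ C' a proper ideal with mJ = 0, A' a
C'-algebra, M' an A'-module flat over C', and M₀ = M'/mM'. Then (1) every A'-linear endomorphism σ
of M' that is the identity modulo JM' is bijective, and there is exactly one A'-linear τ : M₀ → M₀
⊗_{C'} J such that, for all x ∈ M' and all z ∈ M' ⊗_{C'} J mapping to σ(x) − x in M', the image of z
in M₀ ⊗_{C'} J is τ applied to the class of x; and (2) every A'-linear τ : M₀ → M₀ ⊗_{C'} J comes in
this way from some such σ. Thus the automorphisms of the extension M' inducing the identity on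
M'/JM' correspond to Hom(M₀, M₀ ⊗ J). -/
theorem result (C' : Type u) [CommRing C'] [IsLocalRing C']
    [IsArtinianRing C'] (J : Ideal C') (hJ : IsLocalRing.maximalIdeal C' * J = ⊥) (hJne : J ≠ ⊤)
    (A' : Type u) [CommRing A'] [Algebra C' A'] (M' : Type u) [AddCommGroup M'] [Module A' M'] [Module C' M']
    [IsScalarTower C' A' M'] [Module.Flat C' M'] :
    (∀ σ : M' →ₗ[A'] M', (∀ x : M', σ x - x ∈ (J.map (algebraMap C' A')) • (⊤ : Submodule A' M')) →
      Function.Bijective σ ∧
        ∃! τ : (M' ⧸ ((IsLocalRing.maximalIdeal C').map (algebraMap C' A')) • (⊤ : Submodule A' M')) →ₗ[A'] ((M' ⧸ ((IsLocalRing.maximalIdeal C').map (algebraMap C' A')) • (⊤ : Submodule A' M')) ⊗[C'] ↥J),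
          (∀ (x : M') (z : M' ⊗[C'] ↥J), TensorProduct.rid C' M' (LinearMap.lTensor M' (Submodule.subtype J) z) = σ x - x →
            LinearMap.rTensor ↥J ((Submodule.mkQ (((IsLocalRing.maximalIdeal C').map (algebraMap C' A')) • (⊤ : Submodule A' M'))).restrictScalars C') z =
              τ (Submodule.mkQ _ x))) ∧
    (∀ τ : (M' ⧸ ((IsLocalRing.maximalIdeal C').map (algebraMap C' A')) • (⊤ : Submodule A' M')) →ₗ[A'] ((M' ⧸ ((IsLocalRing.maximalIdeal C').map (algebraMap C' A')) • (⊤ : Submodule A' M')) ⊗[C'] ↥J),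
      ∃ σ : M' →ₗ[A'] M', (∀ x : M', σ x - x ∈ (J.map (algebraMap C' A')) • (⊤ : Submodule A' M')) ∧
          (∀ (x : M') (z : M' ⊗[C'] ↥J), TensorProduct.rid C' M' (LinearMap.lTensor M' (Submodule.subtype J) z) = σ x - x →
            LinearMap.rTensor ↥J ((Submodule.mkQ (((IsLocalRing.maximalIdeal C').map (algebraMap C' A')) • (⊤ : Submodule A' M'))).restrictScalars C') z =
              τ (Submodule.mkQ _ x))) := by
  have hJm : J ≤ IsLocalRing.maximalIdeal C' := IsLocalRing.le_maximalIdeal hJne
  constructor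
  · intro σ hσ
    -- `σ - 1` kills `J M'`
    have hle : (J.map (algebraMap C' A')) • (⊤ : Submodule A' M') ≤ mM C' A' M' :=
      Submodule.smul_mono_left (Ideal.map_mono hJm)
    have key : ∀ y ∈ mM C' A' M', σ y - y = 0 := by
      intro y hy
      refine Submodule.smul_induction_on hy (fun r hr n _ => ?_)
        (fun x y hx hy => by
          rw [map_add, show σ x + σ y - (x + y) = (σ x - x) + (σ y - y) by abel, hx, hy, add_zero])
      rw [map_smul, ← smul_sub]
      obtain ⟨w, hw⟩ := (le_range_mu (A' := A') J (hσ n))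
      rw [← hw]
      clear hw
      induction w with
      | zero => rw [map_zero, smul_zero]
      | tmul x j =>
        rw [mu_tmul, smul_comm]
        exact smul_eq_zero_of_mem hJ (Submodule.smul_mem_smul hr trivial) j
      | add x y hx hy => rw [map_add, smul_add, hx, hy, add_zero]
    refine ⟨⟨fun x y hxy => ?_, fun y => ?_⟩, ?_⟩
    · have h0 : σ (x - y) - (x - y) = -(x - y) := by rw [map_sub, hxy]; abel
      have h1 : x - y ∈ mM C' A' M' := by
        have h2 := hle (hσ (x - y))
        rw [h0] at h2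
        exact neg_mem_iff.1 h2
      have h3 := key _ h1
      rw [h0, neg_eq_zero] at h3
      exact sub_eq_zero.1 h3
    · refine ⟨y - (σ y - y), ?_⟩
      have h3 := key _ (hle (hσ y))
      rw [map_sub, sub_eq_zero.1 h3]
      abel
    · -- the map τ
      let e := LinearEquiv.ofInjective (delta A' M' hJ) (delta_injective hJ)
      let D : M' →ₗ[A'] LinearMap.range (delta A' M' hJ) :=
        LinearMap.codRestrict _ (σ - LinearMap.id) (fun x => by
          rw [range_delta]; exact le_range_mu J (hσ x))
      have hD : mM C' A' M' ≤ LinearMap.ker (e.symm.toLinearMap ∘ₗ D) := by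
        intro y hy
        rw [LinearMap.mem_ker, LinearMap.comp_apply]
        have : D y = 0 := Subtype.ext (key y hy)
        rw [this, map_zero]
      let τ := (mM C' A' M').liftQ (e.symm.toLinearMap ∘ₗ D) hD
      have hτ : ∀ x, delta A' M' hJ (τ (Submodule.mkQ _ x)) = σ x - x := by
        intro x
        have h1 : τ (Submodule.mkQ _ x) = e.symm (D x) := rfl
        rw [h1]
        have h2 : delta A' M' hJ (e.symm (D x)) = (e (e.symm (D x)) : M') := rfl
        rw [h2, LinearEquiv.apply_symm_apply]
        rfl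
      refine ⟨τ, (cond_iff hJ σ hσ τ).2 hτ, ?_⟩
      intro τ' hτ'
      have hτ'' := (cond_iff hJ σ hσ τ').1 hτ'
      refine Submodule.linearMap_qext _ (LinearMap.ext fun x => ?_)
      apply delta_injective hJ
      exact (hτ'' x).trans (hτ x).symm
  · intro τ
    let σ : M' →ₗ[A'] M' := LinearMap.id + delta A' M' hJ ∘ₗ τ ∘ₗ Submodule.mkQ _
    have h : ∀ x, σ x - x = delta A' M' hJ (τ (Submodule.mkQ _ x)) := by
      intro x
      change x + delta A' M' hJ (τ (Submodule.mkQ _ x)) - x = _
      abel
    have hσ : ∀ x : M', σ x - x ∈ (J.map (algebraMap C' A')) • (⊤ : Submodule A' M') := by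
      intro x
      rw [h]
      apply range_mu_le J
      rw [← range_delta hJ]
      exact ⟨_, rfl⟩
    exact ⟨σ, hσ, (cond_iff hJ σ hσ τ).2 fun x => (h x).symm⟩

end Groth.Agent.S11469
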