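import Groth.Statements.S11470
-- import your own Groth.Agent.* helpers here

set_option autoImplicit false
universe u
open Curves

namespace Groth.Agent.S11470

open Polynomial

section Aux

variable {k : Type u} [Field k]

local notation "RX" => (RatFunc.X : RatFunc k)

/-- the polynomial `s = X (X - 1)` -/
noncomputable def sP (k : Type u) [Field k] : k[X] := X * (X - 1)

theorem sP_monic : (sP k).Monic := by
  unfold sP
  have := (monic_X (R := k)).mul (monic_X_sub_C (1 : k))
  simpa using this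

theorem sP_natDegree : (sP k).natDegree = 2 := by
  unfold sP
  have h1 : (X - 1 : k[X]) = X - C 1 := by simp
  rw [h1, (monic_X (R := k)).natDegree_mul (monic_X_sub_C (1 : k)), natDegree_X, natDegree_X_sub_C]

theorem s1_monic : (sP k + 1).Monic := by
  apply sP_monic.add_of_left
  rw [degree_eq_natDegree sP_monic.ne_zero, sP_natDegree]
  exact lt_of_le_of_lt degree_one_le (by norm_num)

theorem s1_natDegree : (sP k + 1).natDegree = 2 := by
  rw [natDegree_add_eq_left_of_natDegree_lt, sP_natDegree]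
  rw [sP_natDegree]; simp

/-- the `j`-function -/
noncomputable def jj (k : Type u) [Field k] : RatFunc k :=
  (256 : RatFunc k) * ((RatFunc.X : RatFunc k) ^ 2 - RatFunc.X + 1) ^ 3 /
        ((RatFunc.X : RatFunc k) ^ 2 * ((RatFunc.X : RatFunc k) - 1) ^ 2)

theorem algMap_s : algebraMap k[X] (RatFunc k) (sP k) = RX * (RX - 1) := by
  simp [sP, RatFunc.algebraMap_X]

theorem s_ne : RX * (RX - 1) ≠ 0 := by
  rw [← algMap_s]
  exact RatFunc.algebraMap_ne_zero sP_monic.ne_zero

theorem X_ne : RX ≠ 0 := left_ne_zero_of_mul s_ne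

theorem X1_ne : RX - 1 ≠ 0 := right_ne_zero_of_mul s_ne

theorem jj_mul : jj k * (RX * (RX - 1)) ^ 2 = 256 * (RX * (RX - 1) + 1) ^ 3 := by
  unfold jj
  have h1 := X_ne (k := k)
  have h2 := X1_ne (k := k)
  field_simp

/-- the algebra `B` -/
noncomputable def BB (k : Type u) [Field k] : Subalgebra k (RatFunc k) :=
  Algebra.adjoin k ({RatFunc.X, (RatFunc.X : RatFunc k)⁻¹, ((RatFunc.X : RatFunc k) - 1)⁻¹} : Set (RatFunc k))

theorem X_mem : RX ∈ BB k := Algebra.subset_adjoin (by simp)
theorem Xinv_mem : RX⁻¹ ∈ BB k := Algebra.subset_adjoin (by simp)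
theorem X1inv_mem : (RX - 1)⁻¹ ∈ BB k := Algebra.subset_adjoin (by simp)

theorem c256_mem (S : Subalgebra k (RatFunc k)) : (256 : RatFunc k) ∈ S := by
  have := S.algebraMap_mem (256 : k)
  simpa using this

theorem jj_mem : jj k ∈ BB k := by
  have : jj k = 256 * (RX ^ 2 - RX + 1) ^ 3 * (RX⁻¹ ^ 2 * (RX - 1)⁻¹ ^ 2) := by
    unfold jj
    rw [div_eq_mul_inv, mul_inv, inv_pow, inv_pow]
  rw [this]
  exact mul_mem (mul_mem (c256_mem _) (pow_mem (add_mem (sub_mem (pow_mem X_mem 2) X_mem) (one_mem _)) 3))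
    (mul_mem (pow_mem Xinv_mem 2) (pow_mem X1inv_mem 2))

theorem exists_poly (b : RatFunc k) (hb : b ∈ BB k) :
    ∃ (N : ℕ) (P : k[X]), b * (RX * (RX - 1)) ^ N = algebraMap k[X] (RatFunc k) P := by
  induction hb using Algebra.adjoin_induction with
  | mem x hx =>
    rcases hx with rfl | rfl | rfl
    · exact ⟨0, X, by simp [RatFunc.algebraMap_X]⟩
    · refine ⟨1, X - 1, ?_⟩
      rw [pow_one, ← mul_assoc, inv_mul_cancel₀ X_ne, one_mul]
      simp [RatFunc.algebraMap_X]
    · refine ⟨1, X, ?_⟩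
      rw [pow_one, mul_comm RX, ← mul_assoc, inv_mul_cancel₀ X1_ne, one_mul, RatFunc.algebraMap_X]
  | algebraMap r =>
    exact ⟨0, C r, by simp⟩
  | add x y _ _ hx hy =>
    obtain ⟨N, P, hP⟩ := hx
    obtain ⟨M, Q, hQ⟩ := hy
    refine ⟨N + M, P * sP k ^ M + Q * sP k ^ N, ?_⟩
    rw [map_add, map_mul, map_mul, map_pow, map_pow, algMap_s, ← hP, ← hQ]
    ring
  | mul x y _ _ hx hy =>
    obtain ⟨N, P, hP⟩ := hx
    obtain ⟨M, Q, hQ⟩ := hy
    refine ⟨N + M, P * Q, ?_⟩
    rw [map_mul, ← hP, ← hQ]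
    ring

variable (σ τ : RatFunc k ≃ₐ[k] RatFunc k) (hσ : σ RatFunc.X = (RatFunc.X : RatFunc k)⁻¹)
  (hτ : τ RatFunc.X = 1 - (RatFunc.X : RatFunc k))

include hτ in
theorem τ_algebraMap (P : k[X]) :
    τ (algebraMap k[X] (RatFunc k) P) = algebraMap k[X] (RatFunc k) (P.comp (1 - X)) := by
  rw [← RatFunc.aeval_X_left_eq_algebraMap, ← RatFunc.aeval_X_left_eq_algebraMap, aeval_comp]
  have : (aeval (RatFunc.X : RatFunc k)) (1 - X : k[X]) = τ RatFunc.X := by
    rw [hτ]; simp
  rw [this]
  exact (aeval_algHom_apply (τ : RatFunc k →ₐ[k] RatFunc k) RX P).symm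

include hσ in
theorem σ_algebraMap (P : k[X]) (D : ℕ) (hD : P.natDegree ≤ D) :
    σ (algebraMap k[X] (RatFunc k) P) * RX ^ D = algebraMap k[X] (RatFunc k) (P.reflect D) := by
  rw [← RatFunc.aeval_X_left_eq_algebraMap, ← RatFunc.aeval_X_left_eq_algebraMap]
  have h1 : σ (aeval (RatFunc.X : RatFunc k) P) = aeval (RX⁻¹) P := by
    rw [← hσ]
    exact (aeval_algHom_apply (σ : RatFunc k →ₐ[k] RatFunc k) RX P).symm
  rw [h1]
  letI : Invertible RX⁻¹ := ⟨RX, mul_inv_cancel₀ X_ne, inv_mul_cancel₀ X_ne⟩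
  have h2 := eval₂_reflect_mul_pow (algebraMap k (RatFunc k)) (RX⁻¹) D P hD
  change eval₂ _ RX _ * _ = _ at h2
  rw [aeval_def, aeval_def, ← h2, mul_assoc, ← mul_pow, inv_mul_cancel₀ X_ne, one_pow, mul_one]

include hτ in
theorem τ_s : τ (RX * (RX - 1)) = RX * (RX - 1) := by
  rw [map_mul, map_sub, hτ, map_one]; ring

include hτ in
theorem τ_jj : τ (jj k) = jj k := by
  have h := jj_mul (k := k)
  have h2 := congrArg τ h
  rw [map_mul, map_pow, τ_s τ hτ, map_mul, map_pow, map_add, τ_s τ hτ, map_one, map_ofNat, ← h] at h2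
  exact mul_right_cancel₀ (pow_ne_zero 2 s_ne) h2

include hσ in
theorem σ_jj : σ (jj k) = jj k := by
  have h1 := X_ne (k := k)
  have h2 := X1_ne (k := k)
  have h := congrArg σ (jj_mul (k := k))
  rw [map_mul, map_pow, map_mul, map_mul, map_pow, map_add, map_mul, map_sub, hσ, map_one, map_ofNat] at h
  have h3 : (RX⁻¹ * (RX⁻¹ - 1)) = - (RX - 1) / RX ^ 2 := by
    field_simp; ring
  rw [h3] at h
  have h4 : jj k * (- (RX - 1) / RX ^ 2) ^ 2 = 256 * (- (RX - 1) / RX ^ 2 + 1) ^ 3 := by
    unfold jj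
    field_simp
    ring
  rw [← h4] at h
  refine mul_right_cancel₀ (pow_ne_zero 2 ?_) h
  exact div_ne_zero (neg_ne_zero.2 h2) (pow_ne_zero 2 h1)

include hσ hτ in
/-- an invariant with no pole at infinity is constant -/
theorem const_of_natDegree_le (b : RatFunc k) (h1 : σ b = b) (h2 : τ b = b) (N : ℕ) (P : k[X])
    (hP : b * (RX * (RX - 1)) ^ N = algebraMap k[X] (RatFunc k) P) (hd : P.natDegree ≤ 2 * N) :
    ∃ c : k, b = algebraMap k (RatFunc k) c := by
  have hX := X_ne (k := k)
  have hX1 := X1_ne (k := k)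
  -- `b (X-1)^N` is a polynomial
  obtain ⟨Q, hQ⟩ : ∃ Q : k[X], b * (RX - 1) ^ N = algebraMap k[X] (RatFunc k) Q := by
    have h := congrArg σ hP
    rw [map_mul, h1, map_pow, map_mul, map_sub, hσ, map_one] at h
    have h3 := σ_algebraMap σ hσ P (2 * N) hd
    rw [← h] at h3
    refine ⟨(-1) ^ N * P.reflect (2 * N), ?_⟩
    rw [map_mul, ← h3]
    have h4 : (RX⁻¹ * (RX⁻¹ - 1)) = (-1) * (RX - 1) / RX ^ 2 := by
      field_simp; ring
    rw [h4, div_pow, mul_pow, ← pow_mul, map_pow, map_neg, map_one]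
    have h5 : ((-1 : RatFunc k) ^ N) * (-1) ^ N = 1 := by
      rw [← mul_pow]; simp
    have h6 : RX ^ (2 * N) ≠ 0 := pow_ne_zero _ hX
    have h7 : b * ((-1) ^ N * (RX - 1) ^ N / RX ^ (2 * N)) * RX ^ (2 * N) =
        b * ((-1) ^ N * (RX - 1) ^ N) := by
      rw [mul_assoc, div_mul_cancel₀ _ h6]
    rw [h7]
    linear_combination (- b * (RX - 1) ^ N) * h5
  obtain ⟨Q', hQ'⟩ : ∃ Q' : k[X], b * RX ^ N = algebraMap k[X] (RatFunc k) Q' := by
    have h := congrArg τ hQ
    rw [map_mul, h2, map_pow, map_sub, hτ, map_one, τ_algebraMap τ hτ] at h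
    refine ⟨(-1) ^ N * Q.comp (1 - X), ?_⟩
    rw [map_mul, ← h, map_pow, map_neg, map_one]
    have h5 : ((-1 : RatFunc k) ^ N) * (-1) ^ N = 1 := by
      rw [← mul_pow]; simp
    have h6 : (1 - RX - 1) ^ N = (-1) ^ N * RX ^ N := by
      rw [← mul_pow]; congr 1; ring
    rw [h6]
    linear_combination (- b * RX ^ N) * h5
  have hcop : IsCoprime ((X : k[X]) ^ N) ((X - 1 : k[X]) ^ N) := by
    apply IsCoprime.pow
    exact ⟨1, -1, by ring⟩
  obtain ⟨u, v, huv⟩ := hcop
  obtain ⟨R, hR⟩ : ∃ R : k[X], b = algebraMap k[X] (RatFunc k) R := by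
    refine ⟨u * Q' + v * Q, ?_⟩
    rw [map_add, map_mul, map_mul, ← hQ, ← hQ']
    have := congrArg (algebraMap k[X] (RatFunc k)) huv
    simp only [map_add, map_mul, map_pow, map_sub, map_one, RatFunc.algebraMap_X] at this
    linear_combination (- b) * this
  have h0 : R.natDegree = 0 := by
    by_cases hR0 : R = 0
    · rw [hR0]; simp
    have h3 : R * sP k ^ N = P := by
      apply RatFunc.algebraMap_injective k
      rw [map_mul, map_pow, algMap_s, ← hR, hP]
    rw [← h3, natDegree_mul hR0 (pow_ne_zero _ sP_monic.ne_zero), natDegree_pow, sP_natDegree] at hd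
    omega
  rw [natDegree_eq_zero] at h0
  obtain ⟨c, rfl⟩ := h0
  exact ⟨c, hR⟩

include hσ hτ in
theorem mem_of_natDegree_le (h2k : (2 : k) ≠ 0) (n : ℕ) : ∀ (b : RatFunc k), σ b = b → τ b = b → ∀ (N : ℕ) (P : k[X]),
    b * (RX * (RX - 1)) ^ N = algebraMap k[X] (RatFunc k) P → P.natDegree ≤ 2 * N + n →
    b ∈ Algebra.adjoin k ({jj k} : Set (RatFunc k)) := by
  induction n with
  | zero =>
    intro b h1 h2 N P hP hd
    obtain ⟨c, rfl⟩ := const_of_natDegree_le σ τ hσ hτ b h1 h2 N P hP hd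
    exact Subalgebra.algebraMap_mem _ c
  | succ n ih =>
    intro b h1 h2 N P hP hd
    by_cases hd' : P.natDegree ≤ 2 * N + n
    · exact ih b h1 h2 N P hP hd'
    have hdeg : P.natDegree = 2 * N + (n + 1) := by omega
    -- parity
    have hcomp : P.comp (1 - X) = P := by
      apply RatFunc.algebraMap_injective k
      rw [← τ_algebraMap τ hτ, ← hP, map_mul, map_pow, τ_s τ hτ, h2]
    have hP0 : P ≠ 0 := by rintro rfl; simp at hdeg
    have hlc : P.leadingCoeff * (-1) ^ P.natDegree = P.leadingCoeff := by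
      have h3 : (1 - X : k[X]) = C (-1) * X + C 1 := by simp; ring
      have h4 : (1 - X : k[X]).natDegree = 1 := by
        rw [h3]; exact natDegree_linear (by simp)
      have h5 : (1 - X : k[X]).leadingCoeff = -1 := by
        rw [h3]; exact leadingCoeff_linear (by simp)
      have := leadingCoeff_comp (p := P) (q := (1 - X : k[X])) (by omega)
      rw [hcomp, h5] at this
      exact this.symm
    have heven : Even (n + 1) := by
      by_contra hodd
      rw [Nat.not_even_iff_odd] at hodd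
      have : Odd P.natDegree := by
        rw [hdeg]; exact (even_two_mul N).add_odd hodd
      rw [this.neg_one_pow] at hlc
      have h3 : 2 * P.leadingCoeff = 0 := by linear_combination (-1) * hlc
      rcases mul_eq_zero.1 h3 with h | h
      · exact h2k h
      · exact hP0 (leadingCoeff_eq_zero.1 h)
    obtain ⟨r, hr⟩ := heven
    have h256 : (256 : k) ≠ 0 := by
      have : (256 : k) = 2 ^ 8 := by norm_num
      rw [this]; exact pow_ne_zero _ h2k
    let c : k := P.leadingCoeff / 256 ^ r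
    let b' : RatFunc k := b - algebraMap k (RatFunc k) c * jj k ^ r
    have hjr : jj k ^ r * (RX * (RX - 1)) ^ (2 * r) = 256 ^ r * (RX * (RX - 1) + 1) ^ (3 * r) := by
      rw [pow_mul, ← mul_pow, jj_mul, mul_pow, ← pow_mul]
    let M : k[X] := (sP k + 1) ^ (3 * r) * sP k ^ N
    have hMm : M.Monic := (s1_monic.pow _).mul (sP_monic.pow _)
    have hMd : M.natDegree = 2 * (N + 2 * r) + (n + 1) := by
      rw [(s1_monic.pow _).natDegree_mul (sP_monic.pow _), natDegree_pow, natDegree_pow, sP_natDegree,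
        s1_natDegree]
      omega
    let P' : k[X] := P * sP k ^ (2 * r) - C P.leadingCoeff * M
    have hP' : b' * (RX * (RX - 1)) ^ (N + 2 * r) = algebraMap k[X] (RatFunc k) P' := by
      simp only [P', M, b', map_sub, map_mul, map_pow, map_add, algMap_s, map_one]
      have h3 : algebraMap k[X] (RatFunc k) (C P.leadingCoeff) = algebraMap k (RatFunc k) c * 256 ^ r := by
        have h4 : C P.leadingCoeff = algebraMap k k[X] P.leadingCoeff := rfl
        rw [h4, ← IsScalarTower.algebraMap_apply]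
        have h5 : P.leadingCoeff = c * 256 ^ r := by
          simp only [c]
          field_simp
        conv_lhs => rw [h5]
        rw [map_mul, map_pow, map_ofNat]
      rw [h3, ← hP, sub_mul, pow_add]
      linear_combination (- algebraMap k (RatFunc k) c * (RX * (RX - 1)) ^ N) * hjr
    have hA : (P * sP k ^ (2 * r)).natDegree = 2 * (N + 2 * r) + (n + 1) := by
      rw [natDegree_mul hP0 (pow_ne_zero _ sP_monic.ne_zero), natDegree_pow, sP_natDegree, hdeg]
      ring
    have hlcA : (P * sP k ^ (2 * r)).leadingCoeff = P.leadingCoeff := by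
      rw [leadingCoeff_mul, leadingCoeff_pow, sP_monic.leadingCoeff, one_pow, mul_one]
    have hP'd : P'.natDegree ≤ 2 * (N + 2 * r) + n := by
      have h3 : (C P.leadingCoeff * M).natDegree = 2 * (N + 2 * r) + (n + 1) := by
        rw [natDegree_C_mul (by simpa using hP0), hMd]
      have h4 : (C P.leadingCoeff * M).leadingCoeff = P.leadingCoeff := by
        rw [leadingCoeff_mul, leadingCoeff_C, hMm.leadingCoeff, mul_one]
      rw [natDegree_le_iff_coeff_eq_zero]
      intro i hi
      simp only [P', coeff_sub]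
      rcases eq_or_lt_of_le (Nat.succ_le_of_lt hi) with h | h
      · have e1 : (P * sP k ^ (2 * r)).coeff i = P.leadingCoeff := by
          rw [← hlcA, leadingCoeff, hA]
          congr 1
          omega
        have e2 : (C P.leadingCoeff * M).coeff i = P.leadingCoeff := by
          conv_rhs => rw [← h4, leadingCoeff, h3]
          congr 1
          omega
        rw [e1, e2, sub_self]
      · rw [coeff_eq_zero_of_natDegree_lt, coeff_eq_zero_of_natDegree_lt, sub_self]
        · rw [h3]; omega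
        · rw [hA]; omega
    have hσb' : σ b' = b' := by
      simp only [b', map_sub, map_mul, map_pow, h1, σ_jj σ hσ, AlgEquiv.commutes]
    have hτb' : τ b' = b' := by
      simp only [b', map_sub, map_mul, map_pow, h2, τ_jj τ hτ, AlgEquiv.commutes]
    have := ih b' hσb' hτb' (N + 2 * r) P' hP' hP'd
    have hb : b = b' + algebraMap k (RatFunc k) c * jj k ^ r := by simp [b']
    rw [hb]
    exact add_mem this (mul_mem (Subalgebra.algebraMap_mem _ c)
      (pow_mem (Algebra.subset_adjoin (Set.mem_singleton _)) _))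

end Aux


/-- The algebraic step of its proof: Fix an algebraically closed field k whose characteristic is neither
2 nor 3, let B ⊆ k(λ) be the k-subalgebra generated by λ, λ⁻¹ and (λ - 1)⁻¹ (the coordinate ring of
the λ-line with 0 and 1 removed), and let σ and τ be the k-algebra automorphisms of k(λ) determined
by σ(λ) = λ⁻¹ and τ(λ) = 1 - λ (they generate the group of order six permuting λ, 1/λ, 1-λ, 1/(1-λ),
λ/(λ-1), (λ-1)/λ). Then the elements of B fixed by σ and τ are exactly the elements of the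
k-subalgebra generated by j = 256 (λ² - λ + 1)³ / (λ² (λ - 1)²); in other words the ring of
invariants of B is the polynomial ring k[j]. -/
theorem result (k : Type u) [Field k] [IsAlgClosed k]
    (h2 : (2 : k) ≠ 0) (h3 : (3 : k) ≠ 0)
    (σ τ : RatFunc k ≃ₐ[k] RatFunc k) (hσ : σ RatFunc.X = (RatFunc.X : RatFunc k)⁻¹)
    (hτ : τ RatFunc.X = 1 - (RatFunc.X : RatFunc k)) (b : RatFunc k) :
    (b ∈ Algebra.adjoin k ({RatFunc.X, (RatFunc.X : RatFunc k)⁻¹, ((RatFunc.X : RatFunc k) - 1)⁻¹} : Set (RatFunc k)) ∧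
        σ b = b ∧ τ b = b) ↔
      b ∈ Algebra.adjoin k ({(256 : RatFunc k) * ((RatFunc.X : RatFunc k) ^ 2 - RatFunc.X + 1) ^ 3 /
        ((RatFunc.X : RatFunc k) ^ 2 * ((RatFunc.X : RatFunc k) - 1) ^ 2)} : Set (RatFunc k)) := by
  constructor
  · rintro ⟨hb, h1, h2'⟩
    obtain ⟨N, P, hP⟩ := exists_poly b hb
    exact mem_of_natDegree_le σ τ hσ hτ h2 P.natDegree b h1 h2' N P hP (by omega)
  · intro hb
    change b ∈ Algebra.adjoin k ({jj k} : Set (RatFunc k)) at hb
    induction hb using Algebra.adjoin_induction with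
    | mem x hx =>
      obtain rfl : x = jj k := hx
      exact ⟨jj_mem, σ_jj σ hσ, τ_jj τ hτ⟩
    | algebraMap r => exact ⟨Subalgebra.algebraMap_mem _ r, σ.commutes r, τ.commutes r⟩
    | add x y _ _ hx hy =>
      exact ⟨add_mem hx.1 hy.1, by rw [map_add, hx.2.1, hy.2.1], by rw [map_add, hx.2.2, hy.2.2]⟩
    | mul x y _ _ hx hy =>
      exact ⟨mul_mem hx.1 hy.1, by rw [map_mul, hx.2.1, hy.2.1], by rw [map_mul, hx.2.2, hy.2.2]⟩

end Groth.Agent.S11470
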