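import Groth.Statements.S11471
import Groth.Agent.Curves.K320.NoField

set_option autoImplicit false
universe u
open CategoryTheory CategoryTheory.Limits AlgebraicGeometry
open Curves

namespace Groth.Agent.S11471

/-- Let k be algebraically closed and X a proper, reduced, connected k-scheme of dimension one whose
singularities are at worst nodes. Suppose X has no infinitesimal automorphisms: H⁰(X, T_X) = 0 for
the tangent sheaf T_X = Hom(Ω_{X/k}, O_X), stated as: every O_X-linear map Ω_{X/k} → O_X is zero.
Then X is stable: the arithmetic genus dim H¹(X, O_X) is at least 2, and no irreducible component of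
genus zero meets the rest of X in only one or only two points (X has no rational tails and no
rational bridges; a genus-zero component can then only meet the rest in at least three points). (The
published statement is the equivalence of the two conditions; this row states the implication from
the vanishing of vector fields to stability.) -/
theorem result (k : Type u) [Field k] [IsAlgClosed k] (X : Scheme.{u})
    [X.Over (Spec (CommRingCat.of k))] [IsProper (X ↘ Spec (CommRingCat.of k))] [IsReduced X] [ConnectedSpace X]
    (hdim : topologicalKrullDim X = 1) (hnod : Curv2.AtWorstNodal k X)
    (h : ∀ θ : Omega.sheaf (X ↘ Spec (CommRingCat.of k)) ⟶ Coh.structureModule X, θ = 0) :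
    2 ≤ Curv2.genus k X ∧ ∀ (C : Set X) (hC : C ∈ irreducibleComponents (X : Type u)),
        ¬ Curv2.IsRationalTail X C hC ∧ ¬ Curv2.IsRationalBridge k X C hC :=
  ⟨K320.NoField.two_le_genus k X hdim hnod h, fun C hC =>
    ⟨K320.NoField.not_tail k X hdim hnod h C hC, K320.NoField.not_bridge k X hdim hnod h C hC⟩⟩

end Groth.Agent.S11471
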