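import Groth.Statements.S11476
import Groth.Agent.Curves.K756.AsmSmooth
-- import your own Groth.Agent.* helpers here

set_option autoImplicit false
universe u
open CategoryTheory CategoryTheory.Limits AlgebraicGeometry
open Curves

namespace Groth.Agent.S11476

/-- Let k be algebraically closed of characteristic p > 0 and X a nonsingular projective variety over k
(integral, smooth over k, with a closed immersion into some Pⁿ_k over k) of dimension m. Suppose the
canonical class of X is not numerically effective, expressed through a curve: there is a smooth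
proper integral curve C over k with a nonconstant k-morphism h : C → X such that the pullback
h^*Ω_{X/k}, a locally free sheaf of rank m, has negative degree on C (its degree equals deg h^*ω_X,
a positive multiple of the intersection number of the image curve with the canonical class). Then X
contains a rational curve: there is a nonconstant k-morphism P¹_k → X. -/
theorem result (k : Type u) [Field k] [IsAlgClosed k]
    (p : ℕ) [Fact p.Prime] [CharP k p] (X : Scheme.{u}) [X.Over (Spec (CommRingCat.of k))] [IsIntegral X]
    [Smooth (X ↘ Spec (CommRingCat.of k))]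
    (hproj : ∃ (n : ℕ) (ι : X ⟶ CohB1.ProjSpace n k), IsClosedImmersion ι ∧
      ι ≫ CohB1.ProjSpace.toSpec n k = X ↘ Spec (CommRingCat.of k))
    (m : ℕ) (hm : topologicalKrullDim X = m)
    (C : Scheme.{u}) [C.Over (Spec (CommRingCat.of k))] (hC : Curve.IsSmoothProperCurve k C (C ↘ Spec (CommRingCat.of k)))
    (h : C ⟶ X) (hh : h ≫ (X ↘ Spec (CommRingCat.of k)) = C ↘ Spec (CommRingCat.of k))
    (hnc : ¬ ∃ x : X, Set.range h.base ⊆ {x})
    (hdeg : Curv2.deg k C ((Scheme.Modules.pullback h).obj (Omega.sheaf (X ↘ Spec (CommRingCat.of k)))) m < 0) :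
    ∃ g : CohB1.ProjSpace 1 k ⟶ X, g ≫ (X ↘ Spec (CommRingCat.of k)) = CohB1.ProjSpace.toSpec 1 k ∧
      ¬ ∃ x : X, Set.range g.base ⊆ {x} :=
  K756.AsmSmooth.main k p X hproj m hm C hC h hh hdeg

end Groth.Agent.S11476
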