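import Groth.Statements.S11477
import Groth.Agent.Lift.K561.Main
import Groth.Agent.Lift.K960.Thr
import Groth.Agent.Lift.K934.NLift

set_option autoImplicit false
universe u
open CategoryTheory CategoryTheory.Limits AlgebraicGeometry
open Lift

namespace Groth.Agent.S11477

/-- Let k be an algebraically closed field of characteristic p ≥ 5. There is a nonsingular projective
threefold Z over k (integral, smooth over k, of dimension 3, with a closed immersion into some Pⁿ_k
over k) that cannot be lifted to characteristic zero even in the weak sense: whenever R is a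
Noetherian local integral domain of characteristic zero whose residue field is identified with k,
there is no scheme Z' proper and flat over Spec R whose closed fibre Z' ×_R k is k-isomorphic to Z.
(The published statement also excludes flat liftings over an arbitrary local integral domain of
characteristic zero; this row excludes proper flat liftings over Noetherian local domains.) -/
theorem result (k : Type u) [Field k] [IsAlgClosed k]
    (p : ℕ) [Fact p.Prime] [CharP k p] (hp : 5 ≤ p) :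
    ∃ (Z : Scheme.{u}) (g : Z ⟶ Spec (CommRingCat.of k)), Smooth g ∧ IsIntegral Z ∧ topologicalKrullDim Z = 3 ∧
      (∃ (n : ℕ) (ι : Z ⟶ CohB1.ProjSpace n k), IsClosedImmersion ι ∧ ι ≫ CohB1.ProjSpace.toSpec n k = g) ∧
      ∀ (R : Type u) [CommRing R] [IsDomain R] [IsLocalRing R] [IsNoetherianRing R] [CharZero R]
        (e : IsLocalRing.ResidueField R ≃+* k) (Z' : Scheme.{u}) (g' : Z' ⟶ Spec (CommRingCat.of R))
        [IsProper g'] [Flat g'] (i : Z ⟶ Z'),
        ¬ IsPullback i (g ≫ Spec.map (CommRingCat.ofHom e.toRingHom)) g'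
          (Spec.map (CommRingCat.ofHom (IsLocalRing.residue R))) := by
  obtain ⟨Y, Z, ι, g, q, ρ, hqg, hqf, hqe, hqs, hY, hZ, hsY, hsZ, ⟨M, j, hj, hjg⟩, hι, hquot, hlin, hfree, h1, h2, h1L,
    hsur⟩ := K934.NLift.exists_cover k p
  have hsmZ : Smooth g := SmoothOfRelativeDimension.smooth 3 g
  refine ⟨Z, g, hsmZ, hZ, ?_, ⟨M, j, hj, hjg⟩, ?_⟩
  · have := Groth.Agent.Sga4B.RelCurveFibre.topologicalKrullDim_eq g 3
    exact_mod_cast this
  intro R _ _ _ _ _ e Z' g' _ _ i
  have hinvq : ∀ γ, (ρ γ).hom ≫ q = q := hquot.inv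
  have hinvk : ∀ γ, (ρ γ).hom ≫ ι ≫ CohB1.ProjSpace.toSpec 7 k = ι ≫ CohB1.ProjSpace.toSpec 7 k := fun γ => by
    rw [← hqg, ← Category.assoc, hinvq]
  have hconn : ConnectedSpace Y := inferInstance
  have hp0 : 0 < p := (Fact.out : p.Prime).pos
  refine K561.NoLift.no_lift p g q (G := K934.NLift.G.{u} p) ?_ ρ hinvq
    (L := (Scheme.Modules.pullback ι).obj (Twist.twistProjSpace 7 k 1)) ?_ ?_ h1 h2 h1L 8
    (fun i => Groth.Agent.Fdesc.LocGen.pullSec ι (M := K654.AutPn.O1 7 k) (U := ⊤) (K654.AutPn.T 7 k i)) ?_ ?_ ?_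
    R e Z' g' i
  · intro γ
    apply ULift.ext
    change γ.down ^ p = 1
    apply Multiplicative.toAdd.injective
    rw [toAdd_pow, toAdd_one]
    funext i
    change p • (Multiplicative.toAdd γ.down i) = 0
    rw [nsmul_eq_mul, CharP.cast_eq_zero, zero_mul]
  · exact Groth.Agent.Fdesc.LocGen.isInvertible_pullback _
      (Groth.Agent.Ega2.VeryAmpleAmple.isInvertible_twistProjSpace 7 k 1)
  · intro γ
    obtain ⟨τ, hτi, hτ, hc⟩ := hlin γ
    obtain ⟨θ⟩ := K654.AutPn.exists_iso_O1 (n := 7) (k := k) (by norm_num) τ hτ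
    exact ⟨(Scheme.Modules.pullbackComp (ρ γ).hom ι).app _ ≪≫ (Scheme.Modules.pullbackCongr hc).app _ ≪≫
      ((Scheme.Modules.pullbackComp ι τ).app _).symm ≪≫ (Scheme.Modules.pullback ι).mapIso θ⟩
  · intro t
    obtain ⟨s, hs⟩ := hsur t
    obtain ⟨c, hc⟩ := K654.AutPn.lc_surjective (n := 7) (k := k) s
    refine ⟨fun i => ProjUP.toGlobal (ι ≫ CohB1.ProjSpace.toSpec 7 k) (c i), ?_⟩
    have h3 := K654.AutPn.pullSec_lcg (CohB1.ProjSpace.toSpec 7 k) ι rfl (K654.AutPn.T 7 k) c
    refine Eq.trans ?_ h3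
    refine hs.symm.trans ?_
    rw [← hc]
    rfl
  · change p ^ 14 < Nat.card (ULift (Multiplicative (Fin 15 → ZMod p)))
    rw [Nat.card_congr Equiv.ulift, Nat.card_congr Multiplicative.toAdd, Nat.card_fun, Nat.card_zmod,
      Nat.card_eq_fintype_card, Fintype.card_fin]
    exact Nat.pow_lt_pow_right (Fact.out : p.Prime).one_lt (by norm_num)
  · intro γ hγ
    obtain ⟨s, hs⟩ := K960.Thr.exists_sec ι ρ hinvk hfree γ hγ
    refine ⟨Groth.Agent.Fdesc.LocGen.sec s ⊤, ?_⟩
    intro h
    apply hs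
    rw [K561.Core.D, Groth.Agent.Fdesc.LocGen.homOf_sec] at h
    exact h

end Groth.Agent.S11477
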