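import Groth.Statements.S11478
import Groth.Agent.LefPen.K287.CIMain

set_option autoImplicit false
universe u
open CategoryTheory CategoryTheory.Limits AlgebraicGeometry
open LefPen

namespace Groth.Agent.S11478

/-- Let k be algebraically closed, F a form of degree d ≥ 1 in four variables whose hypersurface X =
V(F) ⊆ P³_k is a nonsingular surface (smooth over k, of dimension two), and C ⊆ X an effective
Cartier divisor: a closed subscheme of X of dimension one with locally principal ideal sheaf.
Suppose C has the degree and the arithmetic genus that the intersection of X with a surface of some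
degree m ≥ 1 would have: deg O_C(1) = d·m and 2·χ(O_C) = d·m·(4 - d - m). Then C is cut out on X by
one further surface: its ideal sheaf on X is the inverse image of the ideal sheaf of a hypersurface
V(G) of degree m in P³_k. -/
theorem result (k : Type u) [Field k] [IsAlgClosed k]
    (d : ℕ) (hd : 1 ≤ d) (F : LefPen.Form 3 k d)
    [Smooth ((LefPen.hypIdeal F).subschemeι ≫ CohB1.ProjSpace.toSpec 3 k)]
    (hX2 : topologicalKrullDim (LefPen.hypIdeal F).subscheme = 2)
    (C : (LefPen.hypIdeal F).subscheme.IdealSheafData) (hCloc : Curv2.IsLocPrincipal C)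
    (hC1 : topologicalKrullDim C.subscheme = 1) (m : ℕ) (hm : 1 ≤ m)
    (hdeg : @Curv2.deg k _ C.subscheme ⟨C.subschemeι ≫ (LefPen.hypIdeal F).subschemeι ≫ CohB1.ProjSpace.toSpec 3 k⟩
      ((Scheme.Modules.pullback (C.subschemeι ≫ (LefPen.hypIdeal F).subschemeι)).obj (Twist.twistProjSpace 3 k 1)) 1 =
        (d : ℤ) * m)
    (hchi : 2 * @Curv2.euler k _ C.subscheme ⟨C.subschemeι ≫ (LefPen.hypIdeal F).subschemeι ≫ CohB1.ProjSpace.toSpec 3 k⟩
      (Coh.structureModule C.subscheme) = (d : ℤ) * m * (4 - (d : ℤ) - m)) :
    ∃ G : LefPen.Form 3 k m, C = (LefPen.hypIdeal G).comap (LefPen.hypIdeal F).subschemeι :=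
  K287.CIMain.main k F hd hX2 C hCloc hC1 m hdeg hchi

end Groth.Agent.S11478
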