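import Groth.Statements.S11479
import Groth.Agent.Curves.K320.StableIso
import Groth.Agent.Curves.K320.HomSemi
import Groth.Agent.Curves.K320.CurvePts
import Groth.Agent.Grass.K652.LfRank
import Groth.Agent.Desc.FinLocFreeSections
import Groth.Agent.Sga67.LocBasisOps
import Groth.Agent.PerfB.FlatPull

set_option autoImplicit false
universe u
open CategoryTheory CategoryTheory.Limits AlgebraicGeometry
open Curves

namespace Groth.Agent.S11479

/-- Let X be a nonsingular projective curve over an algebraically closed field k (smooth, proper,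
integral, of dimension one), T a nonsingular integral curve over k and t₀ a k-point of T. Let E and
E' be locally free sheaves of rank r on X ×_k T, and for a k-point t of T write E_t for the pullback
of E along the fibre inclusion X → X ×_k T at t. Suppose E_t ≅ E'_t for every k-point t ≠ t₀, and
that E_{t₀} and E'_{t₀} are both stable: every locally free subsheaf G of rank s, 0 < s < r,
satisfies deg G / s < deg / r (written cross-multiplied, degrees computed as χ(G) − s·χ(O_X)). Then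
E_{t₀} ≅ E'_{t₀} (existence of an isomorphism). -/
theorem result (k : Type u) [Field k] [IsAlgClosed k] (X : Scheme.{u})
    [X.Over (Spec (CommRingCat.of k))] (hX : Curve.IsSmoothProperCurve k X (X ↘ Spec (CommRingCat.of k)))
    (T : Scheme.{u}) [T.Over (Spec (CommRingCat.of k))] [IsIntegral T] [Smooth (T ↘ Spec (CommRingCat.of k))]
    (hT : topologicalKrullDim T = 1) (t₀ : Spec (CommRingCat.of k) ⟶ T) (ht₀ : t₀ ≫ (T ↘ Spec (CommRingCat.of k)) = 𝟙 _)
    (r : ℕ) (E E' : (pullback (X ↘ Spec (CommRingCat.of k)) (T ↘ Spec (CommRingCat.of k))).Modules)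
    (hE : FlatMod.IsFinLocFreeOfRank r E) (hE' : FlatMod.IsFinLocFreeOfRank r E')
    (hiso : ∀ (t : Spec (CommRingCat.of k) ⟶ T) (j : X ⟶ pullback (X ↘ Spec (CommRingCat.of k)) (T ↘ Spec (CommRingCat.of k))),
      t ≫ (T ↘ Spec (CommRingCat.of k)) = 𝟙 _ → t ≠ t₀ → j ≫ pullback.fst _ _ = 𝟙 X →
      j ≫ pullback.snd _ _ = (X ↘ Spec (CommRingCat.of k)) ≫ t →
      Nonempty ((Scheme.Modules.pullback j).obj E ≅ (Scheme.Modules.pullback j).obj E'))
    (j₀ : X ⟶ pullback (X ↘ Spec (CommRingCat.of k)) (T ↘ Spec (CommRingCat.of k)))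
    (hj₀ : j₀ ≫ pullback.fst _ _ = 𝟙 X) (hj₀' : j₀ ≫ pullback.snd _ _ = (X ↘ Spec (CommRingCat.of k)) ≫ t₀)
    (hst : (∀ (G : X.Modules) (s : ℕ) (ι : G ⟶ ((Scheme.Modules.pullback j₀).obj E)), Mono ι →
        FlatMod.IsFinLocFreeOfRank s G → 0 < s → s < r → Curv2.deg k X G s * (r : ℤ) < Curv2.deg k X ((Scheme.Modules.pullback j₀).obj E) r * (s : ℤ)))
    (hst' : (∀ (G : X.Modules) (s : ℕ) (ι : G ⟶ ((Scheme.Modules.pullback j₀).obj E')), Mono ι →
        FlatMod.IsFinLocFreeOfRank s G → 0 < s → s < r → Curv2.deg k X G s * (r : ℤ) < Curv2.deg k X ((Scheme.Modules.pullback j₀).obj E') r * (s : ℤ))) :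
    Nonempty ((Scheme.Modules.pullback j₀).obj E ≅ (Scheme.Modules.pullback j₀).obj E') := by
  have hX' := hX
  obtain ⟨_, _, _, hdim⟩ := hX'
  have hpid := K321.SmoothPid.isPrincipalIdealRing hX
  have hnoeth : IsNoetherian X := K321.SubLoc.isNoetherian X k
  let p := X ↘ Spec (CommRingCat.of k)
  let q := T ↘ Spec (CommRingCat.of k)
  let f : pullback p q ⟶ T := pullback.snd p q
  have hfp : IsProper f := MorphismProperty.pullback_snd (P := @IsProper) p q inferInstance
  have hff : Flat f := MorphismProperty.pullback_snd (P := @Flat) p q inferInstance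
  have hfl : LocallyOfFinitePresentation f :=
    MorphismProperty.pullback_snd (P := @LocallyOfFinitePresentation) p q inferInstance
  have sq : ∀ (t : Spec (CommRingCat.of k) ⟶ T) (j : X ⟶ pullback p q), t ≫ q = 𝟙 _ → j ≫ pullback.fst p q = 𝟙 X →
      j ≫ pullback.snd p q = p ≫ t → IsPullback j p f t := by
    intro t j ht h1 h2
    refine IsPullback.of_right (h₁₂ := pullback.fst p q) (h₂₂ := q) (v₁₃ := p) ?_ h2 (IsPullback.of_hasPullback p q)
    rw [h1, ht]
    exact IsPullback.of_horiz_isIso ⟨by simp⟩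
  have hfr : ∀ (j : X ⟶ pullback p q), FlatMod.IsFinLocFreeOfRank r ((Scheme.Modules.pullback j).obj E) :=
    fun j => K652.LfRank.pullback j hE
  have hfr' : ∀ (j : X ⟶ pullback p q), FlatMod.IsFinLocFreeOfRank r ((Scheme.Modules.pullback j).obj E') :=
    fun j => K652.LfRank.pullback j hE'
  have flf := Groth.Agent.Krr.H487.KerRank.isFinLocFree_of_rank hE
  have flf' := Groth.Agent.Krr.H487.KerRank.isFinLocFree_of_rank hE'
  let pt : Spec (CommRingCat.of k) := IsLocalRing.closedPoint k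
  have hfin : ∀ (j : X ⟶ pullback p q) {M : (pullback p q).Modules}, FlatMod.IsFinLocFree M →
      Module.Finite k (Coh.HH X ((Scheme.Modules.pullback j).obj M) 0) := by
    intro j M hM
    exact Groth.Agent.S0002.result k X _ (Groth.Agent.PerfA.CohSerre.isCoh_of_isFinLocFree
      (Groth.Agent.PerfB.FlatPull.isFinLocFree_pullback j hM)) 0
  obtain ⟨D, ⟨hpair⟩⟩ := Groth.Agent.Dcoh.DualFLF.exists_exactPairing flf
  have hD : FlatMod.IsFinLocFree D := Groth.Agent.Dcoh.DualFLF.isFinLocFree_dual flf D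
  let H := CohB1.tensorMod E' D
  have hH : FlatMod.IsFinLocFree H := Groth.Agent.Sga67.LocBasis.isFinLocFree_tensorMod flf' hD
  have hfp' : ∀ {M : (pullback p q).Modules}, FlatMod.IsFinLocFree M → CohB1.IsFP M :=
    fun h => Groth.Agent.Desc.FinLocFreeSections.isFP_of_isFinLocFree h
  have hflat : ∀ {M : (pullback p q).Modules}, FlatMod.IsFinLocFree M → FlatMod.IsFlatOver f M :=
    fun h => K320.HomSemi.isFlatOver_of_flf f h
  have hq : ∀ {M : (pullback p q).Modules}, FlatMod.IsFinLocFree M → Coh.IsQCoh M :=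
    fun h => (Groth.Agent.PerfA.CohSerre.isCoh_of_isFinLocFree h).1
  have hb : ∀ (t : Spec (CommRingCat.of k) ⟶ T) (j : X ⟶ pullback p q), t ≫ q = 𝟙 _ → j ≫ pullback.fst p q = 𝟙 X →
      j ≫ pullback.snd p q = p ≫ t → (0 < PerfAux.betti f H (t pt) 0 ↔
        Nontrivial ((Scheme.Modules.pullback j).obj E ⟶ (Scheme.Modules.pullback j).obj E')) := by
    intro t j ht h1 h2
    have h3 := Groth.Agent.Pic13.H952.FibrePt.finrank_eq_betti f t j (sq t j ht h1 h2) (t pt) ⟨_, rfl⟩ H (hq hH) 0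
    have := hfin j hH
    rw [K320.HomSemi.nontrivial_iff j E E' D, ← h3, Module.finrank_pos_iff]
  have hopen : IsOpen {s : T | PerfAux.betti f H s 0 < 1} := Groth.Agent.S1025.result f H (hfp' hH) (hflat hH) 0 1
  have hz : ∀ {M : X.Modules}, FlatMod.IsFinLocFreeOfRank r M → (r = 0 ↔ IsZero M) := by
    intro M hM
    constructor
    · intro h0
      exact K321.SubLoc.isZero_of_rk hpid (K321.SubLoc.isCoh_of_rank hM) (K321.SubLoc.torsionFree_of_rank hM)
        (by rw [K321.SubLoc.rk_eq hM, h0])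
    · intro h0
      rw [← K321.SubLoc.rk_eq hM, Groth.Agent.VarietyA.DegRank.rk]
      have := Groth.Agent.VarietyA.StalkCrit.stalk_of_isZero h0 (genericPoint X)
      exact Module.finrank_zero_of_subsingleton
  by_cases hr : r = 0
  · exact ⟨((hz (hfr j₀)).1 hr).iso ((hz (hfr' j₀)).1 hr)⟩
  have hne : ∀ (j : X ⟶ pullback p q),
      ((Scheme.Modules.pullback j).obj E ≅ (Scheme.Modules.pullback j).obj E') →
      Nontrivial ((Scheme.Modules.pullback j).obj E ⟶ (Scheme.Modules.pullback j).obj E') := by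
    intro j e
    refine ⟨e.hom, 0, fun h => hr ((hz (hfr j)).2 ?_)⟩
    rw [IsZero.iff_id_eq_zero, ← e.hom_inv_id, h, zero_comp]
  have hlift : ∀ (t : Spec (CommRingCat.of k) ⟶ T), t ≫ q = 𝟙 _ → ∃ j : X ⟶ pullback p q,
      j ≫ pullback.fst p q = 𝟙 X ∧ j ≫ pullback.snd p q = p ≫ t := by
    intro t ht
    exact ⟨pullback.lift (𝟙 X) (p ≫ t) (by rw [Category.id_comp, Category.assoc, ht, Category.comp_id]),
      pullback.lift_fst _ _ _, pullback.lift_snd _ _ _⟩
  have hne0 : Nontrivial ((Scheme.Modules.pullback j₀).obj E ⟶ (Scheme.Modules.pullback j₀).obj E') := by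
    rw [← hb t₀ j₀ ht₀ hj₀ hj₀']
    by_contra hcon
    have hmem : t₀ pt ∈ {s : T | PerfAux.betti f H s 0 < 1} := by
      change PerfAux.betti f H (t₀ pt) 0 < 1
      omega
    obtain ⟨t, ht, htne, htU⟩ := K320.CurvePts.exists_point q hT t₀ ht₀ ⟨_, hopen⟩ ⟨_, hmem⟩
    obtain ⟨j, hj1, hj2⟩ := hlift t ht
    obtain ⟨e⟩ := hiso t j ht htne hj1 hj2
    have h1 := hne j e
    rw [← hb t j ht hj1 hj2] at h1
    have h2 : PerfAux.betti f H (t pt) 0 < 1 := htU
    omega
  have hχ : Curv2.euler k X ((Scheme.Modules.pullback j₀).obj E) =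
      Curv2.euler k X ((Scheme.Modules.pullback j₀).obj E') := by
    obtain ⟨t, ht, htne, -⟩ := K320.CurvePts.exists_point q hT t₀ ht₀ ⊤ ⟨t₀ pt, trivial⟩
    obtain ⟨j, hj1, hj2⟩ := hlift t ht
    obtain ⟨e⟩ := hiso t j ht htne hj1 hj2
    have key : ∀ {M : (pullback p q).Modules}, FlatMod.IsFinLocFree M →
        Curv2.euler k X ((Scheme.Modules.pullback j₀).obj M) = Curv2.euler k X ((Scheme.Modules.pullback j).obj M) := by
      intro M hM
      have h1 := K846.ChiPt.euler_pt f t₀ pt j₀ (X ↘ Spec (CommRingCat.of k)) (sq t₀ j₀ ht₀ hj₀ hj₀') M (hq hM)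
      have h2 := K846.ChiPt.euler_pt f t pt j (X ↘ Spec (CommRingCat.of k)) (sq t j ht hj1 hj2) M (hq hM)
      have h3 := K846.ChiPt.eulerChar_eq_of_specializes f M (hfp' hM) (hflat hM) (genericPoint_specializes (t₀ pt))
      have h4 := K846.ChiPt.eulerChar_eq_of_specializes f M (hfp' hM) (hflat hM) (genericPoint_specializes (t pt))
      exact h1.trans (h3.symm.trans (h4.trans h2.symm))
    rw [key flf, key flf', Groth.Agent.VarietyA.DegRank.euler_iso k e]
  obtain ⟨φ, hφ⟩ := exists_ne (0 : (Scheme.Modules.pullback j₀).obj E ⟶ (Scheme.Modules.pullback j₀).obj E')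
  have := K320.StableIso.isIso k X hX r _ _ (hfr j₀) (hfr' j₀) hχ hst hst' φ hφ
  exact ⟨asIso φ⟩

end Groth.Agent.S11479
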