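import Groth.Statements.S11480
import Groth.Agent.Curves.K538.Fam11480
import Groth.Agent.Curves.K493.SepAlg
import Groth.Agent.Curves.K405.SepGeo
import Groth.Agent.Curves.K101.Spread
import Groth.Agent.Picfga.CurvePts

set_option autoImplicit false
universe u
open CategoryTheory CategoryTheory.Limits AlgebraicGeometry
open Curves

namespace Groth.Agent.S11480

/-- Let k be algebraically closed and C₀ a nonsingular projective curve over k (smooth, proper,
integral, of dimension one) that is d-gonal: it carries a k-morphism to P¹_k which is finite locally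
free of degree d ≥ 1. Then there are a nonsingular integral curve T over k, a k-point t₀ of T and a
smooth proper family f : X → T whose fibre over t₀ is C₀ and whose fibre over every other k-point of
T is (d+1)-gonal, i.e. admits a k-morphism to P¹_k that is finite locally free of degree d + 1. -/
theorem result (k : Type u) [Field k] [IsAlgClosed k]
    (C₀ : Scheme.{u}) (g₀ : C₀ ⟶ Spec (CommRingCat.of k)) (hC₀ : Curve.IsSmoothProperCurve k C₀ g₀) (d : ℕ) (hd : 1 ≤ d)
    (π₀ : C₀ ⟶ CohB1.ProjSpace 1 k) (hπ₀ : π₀ ≫ CohB1.ProjSpace.toSpec 1 k = g₀) (hdeg : Mor2.IsFinLocFreeOfDeg d π₀) :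
    ∃ (T : Scheme.{u}) (q : T ⟶ Spec (CommRingCat.of k)) (t₀ : Spec (CommRingCat.of k) ⟶ T) (X : Scheme.{u}) (f : X ⟶ T) (i : C₀ ⟶ X),
      Smooth q ∧ IsIntegral T ∧ topologicalKrullDim T = 1 ∧ t₀ ≫ q = 𝟙 _ ∧ Smooth f ∧ IsProper f ∧
      IsPullback i g₀ f t₀ ∧
      ∀ (t : Spec (CommRingCat.of k) ⟶ T), t ≫ q = 𝟙 _ → t ≠ t₀ →
        ∃ π : pullback f t ⟶ CohB1.ProjSpace 1 k, π ≫ CohB1.ProjSpace.toSpec 1 k = pullback.snd f t ∧
          Mor2.IsFinLocFreeOfDeg (d + 1) π := by
  have hC := hC₀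
  obtain ⟨hpr, hsm, hint, hdim⟩ := hC
  let φ : CommRingCat.of k ⟶ C₀.functionField := Spec.preimage (C₀.fromSpecStalk (genericPoint C₀) ≫ g₀)
  have hφ : Spec.map φ = C₀.fromSpecStalk (genericPoint C₀) ≫ g₀ := Spec.map_preimage _
  let _ : Algebra k C₀.functionField := φ.hom.toAlgebra
  have hk : C₀.fromSpecStalk (genericPoint C₀) ≫ g₀ =
      Spec.map (CommRingCat.ofHom (algebraMap k C₀.functionField)) := hφ.symm
  obtain ⟨z, hz, hzd⟩ := K405.SepGeo.exists_of_map k C₀ g₀ hC₀ d hd π₀ hπ₀ hdeg hk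
  have hfin : FiniteDimensional (IntermediateField.adjoin k {z}) C₀.functionField :=
    Module.finite_of_finrank_pos (by rw [hzd]; exact hd)
  obtain ⟨x, hx, hxd⟩ := Groth.Agent.Curves.K493.SepAlg.exists_isSep_finrank k C₀.functionField z hz hfin
  have hv : ∀ x : C₀, ValuationRing (C₀.presheaf.stalk x) :=
    Groth.Agent.Picfga.CurvePts.valuationRing_stalk g₀ hdim.le
  obtain ⟨X, p, i, hp, hfl, hi, ρ, hρ, hρd⟩ := K538.Fam11480.exists_fam x hx d (hxd.trans hzd) C₀ g₀ hv
    (Iso.refl _) ((Category.id_comp _).trans hk.symm)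
  exact K101.Spread.spread k C₀ g₀ hC₀ (d + 1) X p i hi (FractionRing (PowerSeries k)) ρ hρ hρd

end Groth.Agent.S11480
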