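import Groth.Statements.S11481
import Groth.Agent.Curves.K310.DGonal

set_option autoImplicit false
universe u
open CategoryTheory CategoryTheory.Limits AlgebraicGeometry
open Curves

namespace Groth.Agent.S11481

/-- Let k be an algebraically closed field. For every g and every d ≥ 2 there exists a d-gonal curve of
genus g: a smooth, proper, integral curve X over k with dim H¹(X, O_X) = g together with a
k-morphism X → P¹_k that is finite locally free of degree d. -/
theorem result (k : Type u) [Field k] [IsAlgClosed k] (g d : ℕ) (hd : 2 ≤ d) :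
    ∃ (X : Scheme.{u}) (f : X ⟶ Spec (CommRingCat.of k)), Curve.IsSmoothProperCurve k X f ∧ @Curv2.genus k _ X ⟨f⟩ = g ∧
      ∃ π : X ⟶ CohB1.ProjSpace 1 k, π ≫ CohB1.ProjSpace.toSpec 1 k = f ∧ Mor2.IsFinLocFreeOfDeg d π :=
  K310.DGonal.exists_all k g d hd

end Groth.Agent.S11481
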