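import Groth.Statements.S11482
import Groth.Agent.Curves.K321.RankTwo

set_option autoImplicit false
universe u
open CategoryTheory CategoryTheory.Limits AlgebraicGeometry
open Curves

namespace Groth.Agent.S11482

open K321.SubLoc K321.RankTwo Groth.Agent.VarietyA.DegRank Groth.Agent.Dix.InterNum

theorem rk_of_isZero {X : Scheme.{u}} [IsIntegral X] {M : X.Modules} (h : IsZero M) : rk M = 0 := by
  have := VarietyA.StalkCrit.stalk_of_isZero h (genericPoint X)
  exact Module.finrank_zero_of_subsingleton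

/-- Fix an algebraically closed field k and a nonsingular projective curve X over k of genus g (smooth,
proper, integral, of dimension one, g = dim H¹(X, O_X)) and E a locally free sheaf of rank 2 and
degree d (degree = χ(E) − 2χ(O_X)) that is indecomposable: in any decomposition E ≅ E₁ ⊕ E₂ one
summand is zero. Then (a) every invertible subsheaf L ⊆ E has 2·deg L ≤ d + 2g − 2, and (b) there is
an invertible subsheaf L ⊆ E with d − 2g ≤ 2·deg L. (The published statement is that indecomposable
bundles of fixed rank and degree form a bounded family; this row states, in rank two, the degree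
bounds for invertible subsheaves on which its proof rests.) -/
theorem result (k : Type u) [Field k] [IsAlgClosed k]
    (X : Scheme.{u}) [X.Over (Spec (CommRingCat.of k))] (hX : Curve.IsSmoothProperCurve k X (X ↘ Spec (CommRingCat.of k)))
    (E : X.Modules) (hE : FlatMod.IsFinLocFreeOfRank 2 E)
    (hind : ∀ (E₁ E₂ : X.Modules), Nonempty (E ≅ E₁ ⊞ E₂) → IsZero E₁ ∨ IsZero E₂) :
    (∀ (L : X.Modules) (ι : L ⟶ E), PicF.IsInvertible L → Mono ι →
        2 * Curv2.deg k X L 1 ≤ Curv2.deg k X E 2 + 2 * (Curv2.genus k X : ℤ) - 2) ∧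
      ∃ (L : X.Modules) (ι : L ⟶ E), PicF.IsInvertible L ∧ Mono ι ∧
        Curv2.deg k X E 2 - 2 * (Curv2.genus k X : ℤ) ≤ 2 * Curv2.deg k X L 1 := by
  have hpid := K321.SmoothPid.isPrincipalIdealRing hX
  obtain ⟨_, _, _, hdim⟩ := hX
  have : IsNoetherian X := isNoetherian X k
  have hEc : Coh.IsCoh E := isCoh_of_rank hE
  have hEt : TorsionFree E := torsionFree_of_rank hE
  have h0 := VarietyA.CurveFin.finrank_h0_structure k X
  refine ⟨fun L ι hL hι => ?_, ?_⟩
  · have hL1 := Ega2.QCohLocal.isFinLocFreeOfRank_one_iff.2 hL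
    have hLc : Coh.IsCoh L := isCoh_of_rank hL1
    obtain ⟨L', a, i', hi', hai, hL'c, hMc, hMt, hrk⟩ := K321.Satur.exists_saturation ι hEc
    rw [rk_eq hL1] at hrk
    have hmono : Mono a := by
      have : Mono (a ≫ i') := by rw [hai]; exact hι
      exact mono_of_mono a i'
    have h1 := (euler_le_of_mono k hdim.le a hLc hL'c (by rw [hrk, rk_eq hL1])).1
    have hL't : TorsionFree L' := TorsionFree.of_mono i' hEt
    have hS := VarietyA.StalkCrit.shortExact_cokernel i'
    have h2 := rk_add _ hS hEc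
    change rk E = rk L' + rk (cokernel i') at h2
    rw [rk_eq hE, hrk] at h2
    have h3 : rk (cokernel i') = 1 := by
      generalize rk (cokernel i') = c at h2
      omega
    have hd := deg_add k _ hS hL'c hEc hMc 1 1
    change Curv2.deg k X E 2 = Curv2.deg k X L' 1 + Curv2.deg k X (cokernel i') 1 at hd
    have hL'1 := isFinLocFreeOfRank hpid hL'c hL't
    have hM1 := isFinLocFreeOfRank hpid hMc hMt
    rw [hrk] at hL'1
    rw [h3] at hM1
    have hL'i := Ega2.QCohLocal.isFinLocFreeOfRank_one_iff.1 hL'1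
    have hMi := Ega2.QCohLocal.isFinLocFreeOfRank_one_iff.1 hM1
    obtain ⟨A, hA, ⟨e⟩⟩ := exists_inverse_left hMi
    have hnt : Nontrivial (Coh.HH X (CohB1.tensorMod L' A) 1) := by
      rw [← not_subsingleton_iff_nontrivial]
      intro hsub
      obtain ⟨φ, hφ⟩ := exists_section hS e hsub
      rcases hind _ _ (nonempty_iso_biprod hS φ hφ) with hz | hz
      · have := rk_of_isZero hz
        change rk L' = 0 at this
        omega
      · have := rk_of_isZero hz
        change rk (cokernel i') = 0 at this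
        omega
    have h4 := deg_le_of_H1 k hdim h0 (Fdesc.LocGen.isInvertible_tensorMod hL'i hA) hnt
    rw [deg_tensor k X hdim hL'i hA, deg_inverse k X hdim ⟨e⟩] at h4
    have h5 : Curv2.deg k X L 1 ≤ Curv2.deg k X L' 1 := by
      unfold Curv2.deg
      exact sub_le_sub_right h1 _
    rw [hd]
    have key : ∀ a b c g : ℤ, a ≤ b → b + -c ≤ 2 * g - 2 → 2 * a ≤ b + c + 2 * g - 2 := by
      intro a b c g h h'
      omega
    exact key _ _ _ _ h5 h4
  · obtain ⟨N, hN, hn⟩ := exists_degree (X := X) k hdim ((2 * (Curv2.genus k X : ℤ) - Curv2.deg k X E 2) / 2)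
    obtain ⟨B, hB, ⟨e⟩⟩ := Grpsch.PicGrp.exists_inverse hN
    have hB1 := Ega2.QCohLocal.isFinLocFreeOfRank_one_iff.2 hB
    have hN1 := Ega2.QCohLocal.isFinLocFreeOfRank_one_iff.2 hN
    have h1 := euler_tensor_curve k hdim.le 2 E hE N (isCoh_of_rank hN1)
    rw [rk_eq hN1] at h1
    have h2 := CurvesB.CurveRR.euler_eq k X hdim.le (CohB1.tensorMod E N)
    have h3 := CurvesB.CurveRR.euler_eq k X hdim.le (Coh.structureModule X)
    rw [h0] at h3
    have h4 : Curv2.deg k X N 1 = Curv2.euler k X N - Curv2.euler k X (Coh.structureModule X) := by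
      unfold Curv2.deg
      norm_num
    have h5 : 0 < Module.finrank k (Coh.HH X (CohB1.tensorMod E N) 0) := by
      have key : ∀ (a b c : ℕ) (e d eN eO g dN : ℤ), e = ((1 : ℕ) : ℤ) * d + ((2 : ℕ) : ℤ) * eN → e = (a : ℤ) - b →
          eO = ((1 : ℕ) : ℤ) - c → (c : ℤ) = g → dN = eN - eO → dN = (2 * g - d) / 2 → 0 < a := by
        intro a b c e d eN eO g dN e1 e2 e3 e4 e5 e6
        omega
      exact key _ _ _ _ _ _ _ _ _ h1 h2 h3 rfl h4 hn
    have hnt : Nontrivial (Coh.HH X (CohB1.tensorMod E N) 0) := Module.nontrivial_of_finrank_pos (R := k) h5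
    obtain ⟨φ, hφ⟩ := exists_hom_ne_zero e hnt
    refine ⟨B, φ, hB, mono_of_ne_zero hpid φ hφ (isCoh_of_rank hB1) (torsionFree_of_rank hB1) (rk_eq hB1) hEc hEt, ?_⟩
    have h6 := deg_inverse k X hdim ⟨e⟩
    rw [hn] at h6
    generalize Curv2.deg k X B 1 = b at h6 ⊢
    generalize Curv2.deg k X E 2 = d at h6 ⊢
    omega

end Groth.Agent.S11482
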