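import Groth.Statements.S11483
import Groth.Agent.Curves.K321.SubLoc
import Groth.Agent.Curves.K321.SmoothPid

set_option autoImplicit false
universe u
open CategoryTheory CategoryTheory.Limits AlgebraicGeometry
open Curves

namespace Groth.Agent.S11483

open K321.SubLoc Groth.Agent.VarietyA.DegRank

/-- Stable bundles are simple. Let X be a nonsingular projective curve over an algebraically closed
field k (smooth, proper, integral, of dimension one) and E a locally free sheaf of rank r on X which
is stable: every locally free subsheaf G of rank s with 0 < s < r has deg G · r < deg E · s (degrees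
computed as χ − rank·χ(O_X)). Then every nonzero endomorphism of E is an isomorphism. (The published
statement concludes that the endomorphisms of E are exactly the scalars; over the algebraically
closed field k this is equivalent, the endomorphism ring being a finite-dimensional division
algebra, and the form stated here avoids the k-linear structure on endomorphisms.) -/
theorem result (k : Type u) [Field k] [IsAlgClosed k] (X : Scheme.{u})
    [X.Over (Spec (CommRingCat.of k))] (hX : Curve.IsSmoothProperCurve k X (X ↘ Spec (CommRingCat.of k))) (r : ℕ)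
    (E : X.Modules) (hE : FlatMod.IsFinLocFreeOfRank r E)
    (hst : ∀ (G : X.Modules) (s : ℕ) (ι : G ⟶ E), Mono ι → FlatMod.IsFinLocFreeOfRank s G → 0 < s → s < r →
      Curv2.deg k X G s * (r : ℤ) < Curv2.deg k X E r * (s : ℤ))
    (φ : E ⟶ E) (hφ : φ ≠ 0) : IsIso φ := by
  have hpid := K321.SmoothPid.isPrincipalIdealRing hX
  obtain ⟨_, _, _, hdim⟩ := hX
  have : IsNoetherian X := isNoetherian X k
  have hEc : Coh.IsCoh E := isCoh_of_rank hE
  have hEt : TorsionFree E := torsionFree_of_rank hE
  -- kernel and (co)image
  have hK : Coh.IsCoh (kernel φ) := Groth.Agent.Ega3B.DevQC.isCoh_kernel φ hEc hEc.1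
  have hKt : TorsionFree (kernel φ) := TorsionFree.of_mono (kernel.ι φ) hEt
  have hI : Coh.IsCoh (cokernel (kernel.ι φ)) := Groth.Agent.Ega3B.DevQC.isCoh_cokernel _ hK.1 hEc
  have hmono : Mono (Abelian.factorThruCoimage φ) := inferInstance
  have hIt : TorsionFree (cokernel (kernel.ι φ)) := TorsionFree.of_mono (Abelian.factorThruCoimage φ) hEt
  have hS := Groth.Agent.VarietyA.StalkCrit.shortExact_cokernel (kernel.ι φ)
  have hrk : rk E = rk (kernel φ) + rk (cokernel (kernel.ι φ)) := rk_add _ hS hEc
  rw [rk_eq hE] at hrk
  have hdeg := deg_add k _ hS hK hEc hI (rk (kernel φ)) (rk (cokernel (kernel.ι φ)))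
  rw [← hrk] at hdeg
  change Curv2.deg k X E r = Curv2.deg k X (kernel φ) _ + Curv2.deg k X (cokernel (kernel.ι φ)) _ at hdeg
  have hI0 : rk (cokernel (kernel.ι φ)) ≠ 0 := by
    intro h0
    have hz := isZero_of_rk hpid hI hIt h0
    apply hφ
    rw [← Abelian.coimage.fac φ]
    exact (show Abelian.coimage.π φ ≫ Abelian.factorThruCoimage φ = 0 from by
      rw [hz.eq_of_tgt (Abelian.coimage.π φ) 0, zero_comp])
  by_cases hK0 : rk (kernel φ) = 0
  · have hz := isZero_of_rk hpid hK hKt hK0
    have : Mono φ := Preadditive.mono_of_isZero_kernel φ hz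
    exact (euler_le_of_mono k hdim.le φ hEc hEc rfl).2 rfl
  · exfalso
    have h1 := hst (kernel φ) _ (kernel.ι φ) inferInstance (isFinLocFreeOfRank hpid hK hKt) (by omega) (by omega)
    have h2 := hst (cokernel (kernel.ι φ)) _ (Abelian.factorThruCoimage φ) inferInstance
      (isFinLocFreeOfRank hpid hI hIt) (by omega) (by omega)
    have h3 : (r : ℤ) = rk (kernel φ) + rk (cokernel (kernel.ι φ)) := by exact_mod_cast hrk
    have key : ∀ dE dK dI a b c : ℤ, dE = dK + dI → c = a + b → dK * c < dE * a → dI * c < dE * b → False := by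
      intro dE dK dI a b c e1 e2 e3 e4
      subst e1 e2
      linarith [mul_add (dK + dI) a b, add_mul dK dI (a + b)]
    exact key _ _ _ _ _ _ hdeg h3 h1 h2

end Groth.Agent.S11483
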