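import Groth.Statements.S11484
import Groth.Agent.VBPn.K697.ExtTw
import Groth.Agent.S0844

set_option autoImplicit false
universe u
open VBPn

namespace Groth.Agent.S11484

open CategoryTheory CategoryTheory.Limits AlgebraicGeometry in
/-- Let k be an algebraically closed field of characteristic zero and n ≥ 2. On P^n_k every short exact
sequence of O-modules whose first term is isomorphic to O(a) and whose third term is isomorphic to
O(b), for integers a and b, admits a splitting; in particular its middle term is isomorphic to O(a)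
⊕ O(b). -/
theorem result (k : Type u) [Field k] [IsAlgClosed k] [CharZero k]
    (n : ℕ) (hn : 2 ≤ n) (a b : ℤ) (S : ShortComplex (CohB1.ProjSpace n k).Modules) (hS : S.ShortExact)
    (ha : Nonempty (S.X₁ ≅ Twist.twistProjSpace n k a)) (hb : Nonempty (S.X₃ ≅ Twist.twistProjSpace n k b)) :
    Nonempty S.Splitting := by
  obtain ⟨e₁⟩ := ha
  obtain ⟨e₃⟩ := hb
  have := K697.ExtTw.hasExt (CohB1.ProjSpace n k)
  obtain ⟨e⟩ := K697.ExtTw.exists_extOO n k b a (a - b) (by ring) 1
  have h0 : Subsingleton (Coh.HH (CohB1.ProjSpace n k) (Twist.twistProjSpace n k (a - b)) 1) :=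
    Groth.Agent.S0844.result k n (a - b) 1 (by omega) (by omega)
  have h1 : Subsingleton (Abelian.Ext (Twist.twistProjSpace n k b) (Twist.twistProjSpace n k a) 1) :=
    e.toEquiv.subsingleton_congr.mpr h0
  have h2 : Subsingleton (Abelian.Ext S.X₃ S.X₁ 1) :=
    (K697.ExtTw.extIso e₃ e₁ 1).toEquiv.subsingleton_congr.mpr h1
  obtain ⟨g, hg⟩ := K697.ExtHom.exists_lift hS h2 (𝟙 S.X₃)
  have := hS.mono_f
  exact ⟨ShortComplex.Splitting.ofExactOfSection S hS.exact g hg this⟩

end Groth.Agent.S11484
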