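import Groth.Statements.S11486
import Groth.Agent.ProjDual.K272.Horrocks
import Groth.Agent.VBPn.K697.NegVan
import Groth.Agent.Omega.K935.CoprodRank
import Groth.Agent.Krr.H487.KerRank
import Groth.Agent.Lefpen.H717.ProjIrr
import Groth.Agent.S3581
import Groth.Agent.Grass.K652.LfRank

set_option autoImplicit false
universe u
open VBPn

namespace Groth.Agent.S11486

open CategoryTheory CategoryTheory.Limits AlgebraicGeometry Groth.Agent.Sga67.Sec Groth.Agent.Sga67.LocBasis in
theorem free_of_subsingleton {X : Scheme.{u}} [Subsingleton X] [Nonempty X] {r : ℕ} {E : X.Modules}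
    (hE : FlatMod.IsFinLocFreeOfRank r E) : Nonempty (E ≅ FlatMod.freeMod X r) := by
  obtain ⟨U, hU, e⟩ := hE (Classical.arbitrary X)
  obtain ⟨b, hb⟩ := nonempty_restrict_iso_iff.1 e
  have hT : U = ⊤ := by
    ext x
    simp only [TopologicalSpace.Opens.coe_top, Set.mem_univ, iff_true]
    rw [Subsingleton.elim x (Classical.arbitrary X)]
    exact hU
  subst hT
  exact nonempty_iso_free hb

open CategoryTheory CategoryTheory.Limits AlgebraicGeometry in
/-- Let k be a characteristic-zero algebraically closed field and E a finite locally free O-module of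
rank r on P^n_k. Then E splits as a direct sum of twisting sheaves O(a_1) ⊕ ⋯ ⊕ O(a_r) if and only
if H^i(P^n_k, E ⊗ O(d)) = 0 for every 0 < i < n and every integer d. -/
theorem result (k : Type u) [Field k] [IsAlgClosed k] [CharZero k]
    (n r : ℕ) (E : (CohB1.ProjSpace n k).Modules) (hE : FlatMod.IsFinLocFreeOfRank r E) :
    (∃ a : Fin r → ℤ, Nonempty (E ≅ ∐ fun j : Fin r => Twist.twistProjSpace n k (a j))) ↔
      ∀ (i : ℕ) (d : ℤ), 0 < i → i < n →
        Subsingleton (Coh.HH (CohB1.ProjSpace n k) (CohB1.tensorMod E (Twist.twistProjSpace n k d)) i) := by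
  have hlf : FlatMod.IsFinLocFree E := fun x => by
    obtain ⟨U, hU, e⟩ := hE x
    exact ⟨U, r, hU, e⟩
  have hcoh := K697.NegVan.isCoh_of_isFinLocFree hlf
  rcases Nat.eq_zero_or_pos n with rfl | hn
  · refine ⟨fun _ i d _ h => absurd h (by omega), fun _ => ⟨fun _ => 0, ?_⟩⟩
    have hiso : IsIso (CohB1.ProjSpace.toSpec 0 k) := Groth.Agent.S3581.result k
    let e : CohB1.ProjSpace 0 k ≃ₜ Spec (CommRingCat.of k) :=
      Scheme.homeoOfIso (asIso (CohB1.ProjSpace.toSpec 0 k))
    have hs : Subsingleton (Spec (CommRingCat.of k)) := inferInstanceAs (Subsingleton (PrimeSpectrum k))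
    have hne : Nonempty (Spec (CommRingCat.of k)) := inferInstanceAs (Nonempty (PrimeSpectrum k))
    have h1 : Subsingleton (CohB1.ProjSpace 0 k) := e.toEquiv.subsingleton
    have h2 : Nonempty (CohB1.ProjSpace 0 k) := e.toEquiv.nonempty
    obtain ⟨f⟩ := free_of_subsingleton hE
    exact ⟨f ≪≫ Sigma.mapIso fun _ => Groth.Agent.PerfB.TwistDer.twZero 0 k⟩
  · constructor
    · rintro ⟨a, ⟨e⟩⟩ i d h0 h1
      have h := K272.Horrocks.acm_of_splits hn hcoh (K272.Horrocks.splits_of_iso e)
      exact h.mid d i h0 h1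
    · intro h
      obtain ⟨d₀, hd₀⟩ := K697.NegVan.negVan hlf
      obtain ⟨r', a, ⟨e⟩⟩ := K272.Horrocks.nonempty_iso_of_splits (K272.Horrocks.splits_of_acm
        (F := E) ⟨hcoh, ⟨d₀, fun d hd => hd₀ d hd 0 hn⟩, fun d i h0 h1 => h i d h0 h1⟩)
      have : IsIntegral (CohB1.ProjSpace n k) := Groth.Agent.Lefpen.H717.ProjIrr.isIntegral_projSpace n k
      have h1 := K935.CoprodRank.isFinLocFreeOfRank_sigma (fun j => Twist.twistProjSpace n k (a j)) (fun _ => 1)
        (fun j => Groth.Agent.Ega2.QCohLocal.isFinLocFreeOfRank_one_iff.mpr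
          (Groth.Agent.PerfB.TwistDer.isInvertible_tw n k (a j)))
      have h2 := Groth.Agent.Krr.H487.KerRank.rank_unique (K652.LfRank.of_iso e hE) h1
      have h3 : r = r' := by simpa using h2
      subst h3
      exact ⟨a, ⟨e⟩⟩

end Groth.Agent.S11486
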