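import Groth.Statements.S11488
import Groth.Agent.VBPn.K697.Triv

set_option autoImplicit false
universe u
open VBPn

namespace Groth.Agent.S11488

open CategoryTheory CategoryTheory.Limits AlgebraicGeometry in
/-- Let k be an algebraically closed field of characteristic zero, E a finite locally free O-module of
rank r on P^n_k and x a closed point of P^n_k. If i^*E ≅ O^r for every line through x, that is for
every closed immersion of k-schemes i : P^1_k → P^n_k along which O(1) pulls back to O(1) and whose
image contains x, then E ≅ O^r. -/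
theorem result (k : Type u) [Field k] [IsAlgClosed k] [CharZero k]
    (n r : ℕ) (E : (CohB1.ProjSpace n k).Modules) (hE : FlatMod.IsFinLocFreeOfRank r E) (x : ↥(CohB1.ProjSpace n k))
    (hx : IsClosed ({x} : Set ↥(CohB1.ProjSpace n k)))
    (h : ∀ (i : CohB1.ProjSpace 1 k ⟶ CohB1.ProjSpace n k) [IsClosedImmersion i],
      i ≫ CohB1.ProjSpace.toSpec n k = CohB1.ProjSpace.toSpec 1 k →
      Nonempty ((Scheme.Modules.pullback i).obj (Twist.twistProjSpace n k 1) ≅ Twist.twistProjSpace 1 k 1) →
      x ∈ Set.range i.base →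
      Nonempty ((Scheme.Modules.pullback i).obj E ≅ FlatMod.freeMod (CohB1.ProjSpace 1 k) r)) :
    Nonempty (E ≅ FlatMod.freeMod (CohB1.ProjSpace n k) r) := by
  have hE' : FlatMod.IsFinLocFree E := Groth.Agent.Ega2.QCohLocal.isFinLocFree_of_rank hE
  rcases n with _ | n
  · exact K697.Point.free_P0 hE
  · obtain ⟨B, hB, hBx⟩ := K697.Point.exists_point x hx
    obtain ⟨e⟩ := K697.Triv.main r n B E hE' fun A hA B' hB' => by
      have hB's : Function.Surjective B' := by
        intro w
        obtain ⟨v, hv⟩ := hB w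
        exact ⟨A v, by rw [← hv, hB']; rfl⟩
      obtain ⟨e⟩ := h (K697.Lin.emb A hA) (K697.Lin.emb_toSpec A hA) ⟨K697.LinSeq.pullTw A hA 1⟩ (by
        let y : CohB1.ProjSpace 0 k := Groth.Agent.Sga5.ProjConn.genPt 0 k
        refine ⟨K697.Lin.emb B' hB's y, ?_⟩
        have h1 := hBx y
        subst hB'
        rw [K697.Lin.emb_comp B' A hB's hA hB] at h1
        exact h1)
      exact ⟨e ≪≫ K697.H0Neg.freeIso 1 r k⟩
    exact ⟨e ≪≫ (K697.H0Neg.freeIso (n + 1) r k).symm⟩

end Groth.Agent.S11488
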