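import Groth.Statements.S11490
import Groth.Agent.VBPn.K790.Uniform

set_option autoImplicit false
universe u
open VBPn

namespace Groth.Agent.S11490

open CategoryTheory CategoryTheory.Limits AlgebraicGeometry in
/-- Let k be an algebraically closed field of characteristic zero and r < n. Let E be a finite locally
free O-module of rank r on P^n_k which is uniform: for one fixed sequence of integers a_1, …, a_r
and every line, that is every closed immersion of k-schemes i : P^1_k → P^n_k along which O(1) pulls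
back to O(1), one has i^*E ≅ O(a_1) ⊕ ⋯ ⊕ O(a_r). Then E splits: E ≅ O(b_1) ⊕ ⋯ ⊕ O(b_r) for some
integers b_j. -/
theorem result (k : Type u) [Field k] [IsAlgClosed k] [CharZero k]
    (n r : ℕ) (hrn : r < n) (E : (CohB1.ProjSpace n k).Modules) (hE : FlatMod.IsFinLocFreeOfRank r E)
    (a : Fin r → ℤ)
    (huniform : ∀ (i : CohB1.ProjSpace 1 k ⟶ CohB1.ProjSpace n k) [IsClosedImmersion i],
      i ≫ CohB1.ProjSpace.toSpec n k = CohB1.ProjSpace.toSpec 1 k →
      Nonempty ((Scheme.Modules.pullback i).obj (Twist.twistProjSpace n k 1) ≅ Twist.twistProjSpace 1 k 1) →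
      Nonempty ((Scheme.Modules.pullback i).obj E ≅ ∐ fun j : Fin r => Twist.twistProjSpace 1 k (a j))) :
    ∃ b : Fin r → ℤ, Nonempty (E ≅ ∐ fun j : Fin r => Twist.twistProjSpace n k (b j)) := by
  have H : ∀ (A : (Fin (n + 1) → k) →ₗ[k] (Fin (1 + 1) → k)) (hA : Function.Surjective A),
      Nonempty (K790.LineSide.Spl (n := 1) (k := k) ((Scheme.Modules.pullback (Proj.map (K697.Lin.gr A)
        (Groth.Agent.Sga5.ProjSurj.irrelevant_le_map (K697.Lin.degSurj hA)))).obj E) a) := fun A hA => by
    obtain ⟨e⟩ := huniform (K697.Lin.emb A hA) (K697.Lin.emb_toSpec A hA) ⟨K697.LinSeq.pullTw A hA 1⟩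
    exact K790.Uniform.spl_of_iso e
  obtain ⟨T', _, b, hcard, ⟨S⟩⟩ := K790.Uniform.main r (Fin r) a (Fintype.card_fin r) hrn E hE H
  let σ : Fin r ≃ T' := (Fintype.equivFinOfCardEq hcard).symm
  exact ⟨fun j => b (σ j), K790.Uniform.iso_of_spl (K790.Uniform.Spl.reindex S σ)⟩

end Groth.Agent.S11490
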