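import Groth.Statements.S11492
import Groth.Agent.VBPn.K945.SubBun
import Groth.Agent.Lefpen.H717.ProjIrr
import Groth.Agent.Ega3B.ProjProper
import Groth.Agent.CohqA.ProjDim
import Groth.Agent.Sga67.SerreVB
import Groth.Agent.PerfB.TwistDer
import Groth.Agent.Krr.H478.Cosection
import Groth.Agent.PerfA.CohSerre

set_option autoImplicit false
universe u
open VBPn

namespace Groth.Agent.S11492

open CategoryTheory CategoryTheory.Limits AlgebraicGeometry Groth.Agent.PerfB.TwistDer in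
theorem aux (k : Type u) [Field k] [IsAlgClosed k]
    (n r : ℕ) (hrn : n < r) (E : (CohB1.ProjSpace n k).Modules) (hE : FlatMod.IsFinLocFreeOfRank r E) :
    ∃ (a : ℤ) (φ : (∐ fun _ : Fin (r - n) => Twist.twistProjSpace n k a) ⟶ E),
      Mono φ ∧ FlatMod.IsFinLocFreeOfRank n (cokernel φ) := by
  have : IsIntegral (CohB1.ProjSpace n k) := Groth.Agent.Lefpen.H717.ProjIrr.isIntegral_projSpace n k
  have : IsProper (CohB1.ProjSpace.toSpec n k) := inferInstance
  have : CompactSpace (CohB1.ProjSpace n k) :=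
    QuasiCompact.compactSpace_of_compactSpace (CohB1.ProjSpace.toSpec n k)
  have : Infinite k := IsAlgClosed.instInfinite
  have hr : n + (r - n) = r := by omega
  have hlf : FlatMod.IsFinLocFree E := fun x => by
    obtain ⟨U, hU, e⟩ := hE x
    exact ⟨U, r, hU, e⟩
  obtain ⟨a, ha⟩ := Groth.Agent.Sga67.SerreVB.exists_epi_twist n k
    (Groth.Agent.PerfA.CohSerre.isCoh_of_isFinLocFree hlf)
  obtain ⟨N, ψ, hψ⟩ : ∃ (N : ℕ) (ψ : FlatMod.freeMod (CohB1.ProjSpace n k) N ⟶
      CohB1.tensorMod E (Twist.twistProjSpace n k (a : ℤ))), Epi ψ := ha a le_rfl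
  have hone : ∀ d : ℤ, FlatMod.IsFinLocFreeOfRank 1 (Twist.twistProjSpace n k d) := by
    intro d
    exact Groth.Agent.Ega2.QCohLocal.isFinLocFreeOfRank_one_iff.mpr (isInvertible_tw n k d)
  have hE' : FlatMod.IsFinLocFreeOfRank (n + (r - n)) (CohB1.tensorMod E (Twist.twistProjSpace n k (a : ℤ))) := by
    have h := Groth.Agent.Krr.H478.Cosection.isFinLocFreeOfRank_tensorMod hE (hone a)
    rwa [mul_one, ← hr] at h
  obtain ⟨φ, h1, h2⟩ := K945.SubBun.exists_sub k (CohB1.ProjSpace.toSpec n k)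
    (Groth.Agent.CohqA.ProjDim.topologicalKrullDim_le k n) (r - n)
    (E := CohB1.tensorMod E (Twist.twistProjSpace n k (a : ℤ))) hE' ψ hψ
  let T := (twMEquiv n k (-(a : ℤ))).functor
  have : T.IsEquivalence := inferInstance
  -- `E(a)(-a) ≅ E`
  have eE : T.obj (CohB1.tensorMod E (Twist.twistProjSpace n k (a : ℤ))) ≅ E :=
    (twMComp n k a (-(a : ℤ)) 0 (by ring)).app E ≪≫ (twMZero n k).app E
  have eO : T.obj (Coh.structureModule (CohB1.ProjSpace n k)) ≅ Twist.twistProjSpace n k (-(a : ℤ)) :=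
    T.mapIso (twZero n k) ≪≫ twMul n k 0 (-(a : ℤ)) (-(a : ℤ)) (by ring)
  have eF : (∐ fun _ : Fin (r - n) => Twist.twistProjSpace n k (-(a : ℤ))) ≅
      T.obj (FlatMod.freeMod (CohB1.ProjSpace n k) (r - n)) :=
    (Sigma.mapIso fun _ => eO.symm) ≪≫ (PreservesCoproduct.iso T _).symm
  refine ⟨-(a : ℤ), eF.hom ≫ T.map (φ ≫ ψ) ≫ eE.hom, ?_, ?_⟩
  · have : Mono (T.map (φ ≫ ψ)) := T.map_mono _
    have h3 : Mono (T.map (φ ≫ ψ) ≫ eE.hom) := mono_comp _ _
    exact mono_comp _ _
  · have e1 : cokernel (eF.hom ≫ T.map (φ ≫ ψ) ≫ eE.hom) ≅ cokernel (T.map (φ ≫ ψ)) :=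
      cokernelEpiComp eF.hom _ ≪≫ cokernelCompIsIso _ _
    have e2 : cokernel (T.map (φ ≫ ψ)) ≅ T.obj (cokernel (φ ≫ ψ)) := (PreservesCokernel.iso T (φ ≫ ψ)).symm
    have h3 : FlatMod.IsFinLocFreeOfRank n (T.obj (cokernel (φ ≫ ψ))) := by
      have h := Groth.Agent.Krr.H478.Cosection.isFinLocFreeOfRank_tensorMod h2 (hone (-(a : ℤ)))
      rwa [mul_one] at h
    exact K652.LfRank.of_iso (e1 ≪≫ e2).symm h3

open CategoryTheory CategoryTheory.Limits AlgebraicGeometry in
/-- Let k be a characteristic-zero algebraically closed field and E a finite locally free O-module of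
rank r > n on P^n_k. Then for some integer a, E sits in a short exact sequence of vector bundles 0 →
O(a)^(r−n) → E → F → 0 with F of rank n: a monomorphism from the direct sum of r − n copies of O(a)
into E whose cokernel is finite locally free of rank n. -/
theorem result (k : Type u) [Field k] [IsAlgClosed k] [CharZero k]
    (n r : ℕ) (hrn : n < r) (E : (CohB1.ProjSpace n k).Modules) (hE : FlatMod.IsFinLocFreeOfRank r E) :
    ∃ (a : ℤ) (φ : (∐ fun _ : Fin (r - n) => Twist.twistProjSpace n k a) ⟶ E),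
      Mono φ ∧ FlatMod.IsFinLocFreeOfRank n (cokernel φ) :=
  aux k n r hrn E hE

end Groth.Agent.S11492
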