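import Groth.Statements.S11495
import Groth.Agent.CalgA.RegSerre
import Groth.Agent.VBPn.K697.ExtHom
import Mathlib.RingTheory.Regular.ProjectiveDimension

set_option autoImplicit false
universe u
open CategoryTheory
open VBPn

namespace Groth.Agent.S11495

open K697.ExtHom

/-- `Ext^i(M, A^n) = 0` if `Ext^i(M, A) = 0`. -/
theorem subsingleton_pi {A : Type u} [CommRing A] (M : ModuleCat.{u} A) (i : ℕ)
    (h : Subsingleton (Abelian.Ext M (ModuleCat.of A A) i)) (n : ℕ) :
    Subsingleton (Abelian.Ext M (ModuleCat.of A (Fin n → A)) i) := by
  induction n with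
  | zero =>
    refine subsingleton_of_forall fun x => ?_
    have h0 : 𝟙 (ModuleCat.of A (Fin 0 → A)) = 0 :=
      ModuleCat.hom_ext (LinearMap.ext fun v => Subsingleton.elim (α := Fin 0 → A) _ _)
    rw [← Abelian.Ext.comp_mk₀_id x, h0, Abelian.Ext.mk₀_zero, Abelian.Ext.comp_zero]
  | succ n ih =>
    let f : A →ₗ[A] (Fin (n + 1) → A) := LinearMap.single A (fun _ => A) 0
    let g : (Fin (n + 1) → A) →ₗ[A] (Fin n → A) := LinearMap.funLeft A A Fin.succ
    have hfg : g ∘ₗ f = 0 := by
      ext j
      simp [f, g, LinearMap.funLeft]
    let S : ShortComplex (ModuleCat.{u} A) := ShortComplex.mk (ModuleCat.ofHom f) (ModuleCat.ofHom g) (by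
      rw [← ModuleCat.ofHom_comp, hfg]; rfl)
    have hS : S.ShortExact := by
      refine ShortComplex.ShortExact.mk' ?_ ?_ ?_
      · rw [ShortComplex.moduleCat_exact_iff]
        intro x hx
        refine ⟨x 0, ?_⟩
        funext j
        refine Fin.cases ?_ (fun j => ?_) j
        · simp [S, f]
        · have := congrFun hx j
          change x j.succ = 0 at this
          simp [S, f, this]
      · rw [ModuleCat.mono_iff_injective]
        exact LinearMap.ker_eq_bot.mp (LinearMap.ker_single A (fun _ => A) 0)
      · rw [ModuleCat.epi_iff_surjective]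
        exact LinearMap.funLeft_surjective_of_injective A A Fin.succ (Fin.succ_injective n)
    exact subsingleton_cov_snd hS h ih

/-- Let A be a regular local ring and M a finitely generated A-module. For every q ≥ 0, the projective
(homological) dimension of M is at most q if and only if Ext^i_A(M, A) = 0 for all i > q. The
published statement is for stalks of coherent analytic sheaves on a complex manifold; this row is
stated for any regular local ring. -/
theorem result (A : Type u) [CommRing A] [IsRegularLocalRing A]
    (M : Type u) [AddCommGroup M] [Module A M] [Module.Finite A M] (q : ℕ) :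
    HasProjectiveDimensionLT (ModuleCat.of A M) (q + 1) ↔
      ∀ i : ℕ, q < i → Subsingleton (Abelian.Ext (ModuleCat.of A M) (ModuleCat.of A A) i) := by
  constructor
  · intro h i hi
    exact HasProjectiveDimensionLT.subsingleton (ModuleCat.of A M) (q + 1) i hi _
  · intro h
    obtain ⟨d, hd⟩ := Groth.Agent.CalgA.RegBasic.ringKrullDim_eq_natCast A
    have hpd : HasProjectiveDimensionLT (ModuleCat.of A M) (d + 1) :=
      Groth.Agent.CalgA.RegSerre.PD_of_isRegularLocalRing A d hd M
    have key : ∀ j : ℕ, ∀ i : ℕ, q < i → d < i + j → ∀ L : ModuleCat.{u} A, Module.Finite A L →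
        Subsingleton (Abelian.Ext (ModuleCat.of A M) L i) := by
      intro j
      induction j with
      | zero =>
        intro i _ hdi L _
        exact HasProjectiveDimensionLT.subsingleton (ModuleCat.of A M) (d + 1) i hdi _
      | succ j ih =>
        intro i hqi hdi L hL
        obtain ⟨n, f, hf⟩ := Module.Finite.exists_fin' A L
        have hS := LinearMap.shortExact_shortComplexKer hf
        have h1 : Subsingleton (Abelian.Ext (ModuleCat.of A M) (LinearMap.shortComplexKer f).X₁ (i + 1)) := by
          refine ih (i + 1) (by omega) (by omega) _ ?_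
          exact inferInstanceAs (Module.Finite A (LinearMap.ker f))
        exact subsingleton_cov_trd hS rfl (subsingleton_pi _ i (h i hqi) n) h1
    exact ModuleCat.hasProjectiveDimensionLT_of_forall_finite (ModuleCat.of A M) (q + 1)
      fun L hL => key d (q + 1) (by omega) (by omega) L hL

end Groth.Agent.S11495
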