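import Groth.Statements.S11493
import Groth.Agent.S11495
import Mathlib.RingTheory.LocalRing.Module

set_option autoImplicit false
universe u
open CategoryTheory
open VBPn

namespace Groth.Agent.S11493

open K697.ExtHom

/-- Let A be a Noetherian local ring and I an ideal with a free resolution of length 1, 0 → A^p → A^q →
I → 0 (equivalently: a surjection A^q → I with free kernel). Let 0 → A → M → I → 0 be an extension
with class e ∈ Ext^1(I, A). Then M is free if and only if e generates the A-module Ext^1(I, A); the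
A-module structure being through End(A) = A, this says every element of Ext^1(I, A) is the composite
of e with an endomorphism of A. -/
theorem result (A : Type u) [CommRing A] [IsNoetherianRing A] [IsLocalRing A]
    (I : Ideal A)
    (hres : ∃ (q : ℕ) (φ : (Fin q → A) →ₗ[A] ↥I), Function.Surjective φ ∧ Module.Free A ↥(LinearMap.ker φ))
    (S : ShortComplex (ModuleCat.{u} A)) (hS : S.ShortExact)
    (h₁ : Nonempty (S.X₁ ≅ ModuleCat.of A A)) (h₃ : Nonempty (S.X₃ ≅ ModuleCat.of A ↥I)) :
    Module.Free A S.X₂ ↔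
      ∀ x : Abelian.Ext S.X₃ S.X₁ 1, ∃ f : S.X₁ ⟶ S.X₁, hS.extClass.comp (Abelian.Ext.mk₀ f) (add_zero 1) = x := by
  obtain ⟨e₁⟩ := h₁
  obtain ⟨e₃⟩ := h₃
  obtain ⟨q, φ, hφ, hker⟩ := hres
  have hfin₁ : Module.Finite A S.X₁ := Module.Finite.equiv e₁.symm.toLinearEquiv
  have hfin₃ : Module.Finite A S.X₃ := Module.Finite.equiv e₃.symm.toLinearEquiv
  have hproj₁ : Projective S.X₁ := Projective.of_iso e₁.symm inferInstance
  have hfin₂ : Module.Finite A S.X₂ := by
    have h1 : Module.Finite A (LinearMap.range S.f.hom) := inferInstance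
    have h2 : (⊤ : Submodule A S.X₂).FG := by
      refine Submodule.fg_of_fg_map_of_fg_inf_ker S.g.hom ?_ ?_
      · exact IsNoetherian.noetherian _
      · rw [top_inf_eq, ← hS.exact.moduleCat_range_eq_ker]
        exact Module.Finite.iff_fg.mp h1
    exact ⟨h2⟩
  constructor
  · intro hfree x
    have hproj : Projective S.X₂ := inferInstance
    have h0 : Subsingleton (Abelian.Ext S.X₂ S.X₁ 1) := HasProjectiveDimensionLT.subsingleton S.X₂ 1 1 le_rfl _
    obtain ⟨y, hy⟩ := Abelian.Ext.contravariant_sequence_exact₃ hS S.X₁ x (Subsingleton.elim _ _) (add_zero 1)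
    obtain ⟨f, rfl⟩ := (Abelian.Ext.mk₀_bijective S.X₁ S.X₁).2 y
    exact ⟨f, hy⟩
  · intro hgen
    have hpd₃ : HasProjectiveDimensionLT S.X₃ 2 := by
      have hk := LinearMap.shortExact_shortComplexKer hφ
      have : Projective (LinearMap.shortComplexKer φ).X₁ :=
        inferInstanceAs (Projective (ModuleCat.of A (LinearMap.ker φ)))
      have h1 : HasProjectiveDimensionLT (ModuleCat.of A I) 2 :=
        (hk.hasProjectiveDimensionLT_X₃_iff 0 (inferInstanceAs (Projective (ModuleCat.of A (Fin q → A))))).mpr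
          inferInstance
      exact hasProjectiveDimensionLT_of_iso e₃.symm 2
    have hpd₂ : HasProjectiveDimensionLT S.X₂ 2 :=
      hS.hasProjectiveDimensionLT_X₂ 2 inferInstance hpd₃
    -- `Ext¹(M, A) = 0`
    have hext : Subsingleton (Abelian.Ext S.X₂ S.X₁ 1) := by
      refine subsingleton_of_forall fun x => ?_
      have h0 : Subsingleton (Abelian.Ext S.X₁ S.X₁ 1) :=
        HasProjectiveDimensionLT.subsingleton S.X₁ 1 1 le_rfl _
      obtain ⟨x₃, hx₃⟩ := Abelian.Ext.contravariant_sequence_exact₂ hS S.X₁ x (Subsingleton.elim _ _)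
      obtain ⟨f, hf⟩ := hgen x₃
      rw [← hx₃, ← hf]
      exact hS.comp_extClass_assoc (Abelian.Ext.mk₀ f) (add_zero 1)
    obtain ⟨n, f, hf⟩ := Module.Finite.exists_fin' A S.X₂
    have hk := LinearMap.shortExact_shortComplexKer hf
    have hpk : HasProjectiveDimensionLT (LinearMap.shortComplexKer f).X₁ 1 :=
      (hk.hasProjectiveDimensionLT_X₃_iff 0 (inferInstanceAs (Projective (ModuleCat.of A (Fin n → A))))).mp hpd₂
    have hpk' : Projective (ModuleCat.of A (LinearMap.ker f)) := projective_iff_hasProjectiveDimensionLT_one.mpr hpk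
    have hpk'' : Module.Projective A (LinearMap.ker f) := (IsProjective.iff_projective _).mpr hpk'
    have hkfree : Module.Free A (LinearMap.ker f) := Module.free_of_flat_of_isLocalRing
    obtain ⟨m, ⟨em⟩⟩ : ∃ m, Nonempty (ModuleCat.of A (LinearMap.ker f) ≅ ModuleCat.of A (Fin m → A)) := by
      have b := Module.finBasis A (LinearMap.ker f)
      exact ⟨_, ⟨b.equivFun.toModuleIso⟩⟩
    have h1 : Subsingleton (Abelian.Ext S.X₂ (ModuleCat.of A A) 1) := subsingleton_of_iso (Iso.refl _) e₁ hext
    have h2 : Subsingleton (Abelian.Ext S.X₂ (ModuleCat.of A (LinearMap.ker f)) 1) :=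
      subsingleton_of_iso (Iso.refl _) em.symm (Groth.Agent.S11495.subsingleton_pi S.X₂ 1 h1 m)
    obtain ⟨s, hs⟩ := exists_lift hk (X := S.X₂) h2 (𝟙 _)
    have hret : Retract S.X₂ (ModuleCat.of A (Fin n → A)) := ⟨s, ModuleCat.ofHom f, hs⟩
    have hproj : Projective S.X₂ := hret.projective
    have hproj' : Module.Projective A S.X₂ := (IsProjective.iff_projective _).mpr hproj
    exact Module.free_of_flat_of_isLocalRing

end Groth.Agent.S11493
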