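import Groth.Statements.S11494
import Groth.Agent.VBPn.K697.Jump
-- import your own Groth.Agent.* helpers here

set_option autoImplicit false
universe u
open VBPn

namespace Groth.Agent.S11494

open CategoryTheory CategoryTheory.Limits AlgebraicGeometry in
/-- Let k be an algebraically closed field of characteristic zero and x_1, …, x_m pairwise distinct
closed points of P^2_k. There is a rank-2 vector bundle E on P^2_k whose restriction to any line
containing exactly a of the points x_j splits as O(a) ⊕ O(−a): for every closed immersion of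
k-schemes i : P^1_k → P^2_k along which O(1) pulls back to O(1), with a the number of indices j such
that x_j lies in the image of i, one has i^*E ≅ O(a) ⊕ O(−a). (In particular the generic splitting
type, on lines through none of the points, is (0, 0).) -/
theorem result (k : Type u) [Field k] [IsAlgClosed k] [CharZero k]
    (m : ℕ) (x : Fin m → ↥(CohB1.ProjSpace 2 k)) (hx : Function.Injective x)
    (hcl : ∀ j, IsClosed ({x j} : Set ↥(CohB1.ProjSpace 2 k))) :
    ∃ E : (CohB1.ProjSpace 2 k).Modules, FlatMod.IsFinLocFreeOfRank 2 E ∧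
      ∀ (i : CohB1.ProjSpace 1 k ⟶ CohB1.ProjSpace 2 k) [IsClosedImmersion i],
        i ≫ CohB1.ProjSpace.toSpec 2 k = CohB1.ProjSpace.toSpec 1 k →
        Nonempty ((Scheme.Modules.pullback i).obj (Twist.twistProjSpace 2 k 1) ≅ Twist.twistProjSpace 1 k 1) →
        Nonempty ((Scheme.Modules.pullback i).obj E ≅
          Twist.twistProjSpace 1 k (Nat.card {j : Fin m // x j ∈ Set.range i.base} : ℤ) ⊞
            Twist.twistProjSpace 1 k (-(Nat.card {j : Fin m // x j ∈ Set.range i.base} : ℤ))) := by
  obtain ⟨T, hT⟩ := K697.Jump.exists_good (Finset.univ : Finset (Fin m)) x hx hcl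
  refine ⟨T.E, K697.Jump.isFinLocFreeOfRank_two hT.coh hT.rk, ?_⟩
  intro i _ hi hO
  obtain ⟨A, hA, rfl⟩ := K697.LinClass.exists_emb i hi hO
  obtain ⟨f, _, e, _⟩ := hT.line A hA
  have hc : K697.Jump.cnt (Finset.univ : Finset (Fin m)) x A hA =
      Nat.card {j : Fin m // x j ∈ Set.range (K697.Lin.emb A hA).base} := by
    classical
    rw [Nat.card_eq_fintype_card, Fintype.card_subtype]
    unfold K697.Jump.cnt
    congr 1
  rw [← hc]
  exact ⟨e⟩

end Groth.Agent.S11494
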