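import Groth.Statements.S11496
import Groth.Agent.S0564
import Groth.Agent.CalgA.RegSerre
import Mathlib.RingTheory.Ideal.Height
import Mathlib.RingTheory.KrullDimension.NonZeroDivisors

set_option autoImplicit false
universe u
open CategoryTheory
open VBPn

namespace Groth.Agent.S11496

/-- `ht p + dim S/p ≤ dim S`. -/
theorem height_add_ringKrullDim_quotient_le {S : Type*} [CommRing S] (p : Ideal S) [hp : p.IsPrime] :
    (p.height : WithBot ℕ∞) + ringKrullDim (S ⧸ p) ≤ ringKrullDim S := by
  have : Nonempty (PrimeSpectrum S) := ⟨⟨p, hp⟩⟩
  have h1 : (PrimeSpectrum.zeroLocus (p : Set S)) = Set.Ici (⟨p, hp⟩ : PrimeSpectrum S) := by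
    ext q
    rfl
  rw [ringKrullDim_quotient, h1, ← Order.coheight_eq_krullDim_Ici,
    show p.height = Order.height (⟨p, hp⟩ : PrimeSpectrum S) from
      PrimeSpectrum.height_eq_orderHeight ⟨p, hp⟩, ringKrullDim,
    Order.krullDim_eq_iSup_height_add_coheight_of_nonempty, ← WithBot.coe_add, WithBot.coe_le_coe]
  exact le_iSup (fun a : PrimeSpectrum S => Order.height a + Order.coheight a) ⟨p, hp⟩

/-- Let A be a regular local ring, M a finitely generated A-module and i ≥ 0. The support of Ext^i_A(M,
A) has dimension at most dim A − i: for every prime ideal p of A such that Ext^i over the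
localization A_p of M_p into A_p is nonzero (this Ext group is the localization at p of Ext^i_A(M,
A)), one has dim(A/p) + i ≤ dim A. The published statement is for coherent analytic sheaves on an
n-dimensional complex manifold; this row is stated for any regular local ring. -/
theorem result (A : Type u) [CommRing A] [IsRegularLocalRing A]
    (M : Type u) [AddCommGroup M] [Module A M] [Module.Finite A M] (i : ℕ) (p : Ideal A) [p.IsPrime]
    (h : Nontrivial (Abelian.Ext
      (ModuleCat.of (Localization.AtPrime p) (LocalizedModule p.primeCompl M))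
      (ModuleCat.of (Localization.AtPrime p) (Localization.AtPrime p)) i)) :
    ringKrullDim (A ⧸ p) + (i : WithBot ℕ∞) ≤ ringKrullDim A := by
  have hreg : IsRegularLocalRing (Localization.AtPrime p) := Groth.Agent.S0564.result A p
  obtain ⟨d, hd⟩ := Groth.Agent.CalgA.RegBasic.ringKrullDim_eq_natCast (Localization.AtPrime p)
  have hpd : HasProjectiveDimensionLT
      (ModuleCat.of (Localization.AtPrime p) (LocalizedModule p.primeCompl M)) (d + 1) :=
    Groth.Agent.CalgA.RegSerre.PD_of_isRegularLocalRing _ d hd _
  have hi : i ≤ d := by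
    by_contra hlt
    exact (not_subsingleton_iff_nontrivial.mpr h)
      (HasProjectiveDimensionLT.subsingleton _ (d + 1) i (by omega) _)
  have hle : (i : WithBot ℕ∞) ≤ p.height := by
    rw [← IsLocalization.AtPrime.ringKrullDim_eq_height p (Localization.AtPrime p), hd]
    exact_mod_cast hi
  calc ringKrullDim (A ⧸ p) + (i : WithBot ℕ∞) ≤ ringKrullDim (A ⧸ p) + p.height := by gcongr
    _ ≤ ringKrullDim A := by
      rw [add_comm]
      exact height_add_ringKrullDim_quotient_le p

end Groth.Agent.S11496
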