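import Groth.Statements.S11497
import Groth.Agent.VBPn.K697.ExtHom

set_option autoImplicit false
universe w v u
open CategoryTheory
open VBPn

namespace Groth.Agent.S11497

open K697.ExtHom Abelian Limits

section

variable {C : Type u} [Category.{v} C] [Abelian C]

/-- `0 → ker g → B → C → 0`. -/
noncomputable def cyc (M : ShortComplex C) : ShortComplex C := ShortComplex.mk M.iCycles M.g M.iCycles_g

theorem cyc_shortExact (M : ShortComplex C) [Epi M.g] : (cyc M).ShortExact where
  exact := (cyc M).exact_of_f_is_kernel M.cyclesIsKernel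
  mono_f := inferInstanceAs (Mono M.iCycles)
  epi_g := inferInstanceAs (Epi M.g)

/-- `0 → A → ker g → E → 0`. -/
noncomputable def hom (M : ShortComplex C) : ShortComplex C :=
  ShortComplex.mk M.toCycles M.homologyπ M.toCycles_comp_homologyπ

theorem mono_toCycles (M : ShortComplex C) [Mono M.f] : Mono M.toCycles :=
  mono_of_mono_fac M.toCycles_i

theorem hom_shortExact (M : ShortComplex C) [Mono M.f] : (hom M).ShortExact where
  exact := (hom M).exact_of_g_is_cokernel M.homologyIsCokernel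
  mono_f := mono_toCycles M
  epi_g := inferInstanceAs (Epi M.homologyπ)

theorem cyc_desc (M : ShortComplex C) [HasExt.{w} C] [Epi M.g] {Y : C} (h : Subsingleton (Ext M.X₃ Y 1))
    (f : M.cycles ⟶ Y) : ∃ g : M.X₂ ⟶ Y, M.iCycles ≫ g = f := exists_desc (cyc_shortExact M) h f

theorem hom_lift (M : ShortComplex C) [HasExt.{w} C] [Mono M.f] {X : C} (h : Subsingleton (Ext X M.X₁ 1))
    (f : X ⟶ M.homology) : ∃ g : X ⟶ M.cycles, g ≫ M.homologyπ = f := exists_lift (hom_shortExact M) h f

theorem cyc_fac (M : ShortComplex C) [Epi M.g] {Y : C} (g : M.X₂ ⟶ Y) (h : M.iCycles ≫ g = 0) :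
    ∃ γ : M.X₃ ⟶ Y, M.g ≫ γ = g :=
  have : Epi (cyc M).g := (cyc_shortExact M).epi_g
  ⟨(cyc_shortExact M).exact.desc g h, (cyc_shortExact M).exact.g_desc g h⟩

theorem hom_fac (M : ShortComplex C) [Mono M.f] {X : C} (g : X ⟶ M.cycles) (h : g ≫ M.homologyπ = 0) :
    ∃ α : X ⟶ M.X₁, α ≫ M.toCycles = g :=
  have : Mono (hom M).f := (hom_shortExact M).mono_f
  ⟨(hom_shortExact M).exact.lift g h, (hom_shortExact M).exact.lift_f g h⟩

end

/-- In an abelian category, let M : A → B → C and M' : A' → B' → C' be monads, i.e. short complexes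
whose first map is a monomorphism and whose second map is an epimorphism, with cohomology (homology)
objects E and E'. Suppose Hom(B, A') = 0, Hom(C, B') = 0 and Ext^1(C, A') = Ext^1(B, A') = Ext^1(C,
B') = Ext^2(C, A') = 0. Then the map sending a morphism of monads M → M' to the induced morphism E →
E' is bijective. The published statement is for monads of vector bundles on a complex manifold X,
with Ext^i(C, A') written H^i(X, C^* ⊗ A'); this row is stated in any abelian category. -/
theorem result {C : Type u} [Category.{v} C] [Abelian C] [HasExt.{w} C]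
    (M M' : ShortComplex C) [Mono M.f] [Epi M.g] [Mono M'.f] [Epi M'.g]
    (hBA : ∀ f : M.X₂ ⟶ M'.X₁, f = 0) (hCB : ∀ f : M.X₃ ⟶ M'.X₂, f = 0)
    (hCA₁ : Subsingleton (Abelian.Ext M.X₃ M'.X₁ 1)) (hBA₁ : Subsingleton (Abelian.Ext M.X₂ M'.X₁ 1))
    (hCB₁ : Subsingleton (Abelian.Ext M.X₃ M'.X₂ 1)) (hCA₂ : Subsingleton (Abelian.Ext M.X₃ M'.X₁ 2)) :
    Function.Bijective (fun φ : M ⟶ M' => ShortComplex.homologyMap φ) := by
  -- `Hom(K, A') = 0` and `Ext¹(K, A') = 0` for `K = ker (B → C)`
  have hKA : ∀ f : M.cycles ⟶ M'.X₁, f = 0 := by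
    intro f
    obtain ⟨g, hg⟩ := cyc_desc M hCA₁ f
    rw [← hg, hBA g]
    exact comp_zero
  have hKA₁ : Subsingleton (Ext M.cycles M'.X₁ 1) :=
    subsingleton_fst (cyc_shortExact M) (by norm_num) hBA₁ hCA₂
  constructor
  · intro φ ψ h
    replace h : ShortComplex.homologyMap φ = ShortComplex.homologyMap ψ := h
    have h1 : ShortComplex.cyclesMap φ = ShortComplex.cyclesMap ψ := by
      have h2 : (ShortComplex.cyclesMap φ - ShortComplex.cyclesMap ψ) ≫ M'.homologyπ = 0 := by
        rw [Preadditive.sub_comp, ← ShortComplex.homologyπ_naturality, ← ShortComplex.homologyπ_naturality, h,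
          sub_self]
      obtain ⟨α, hα⟩ := hom_fac M' _ h2
      rw [hKA α, zero_comp] at hα
      exact sub_eq_zero.mp hα.symm
    have h4 : φ.τ₂ = ψ.τ₂ := by
      have h5 : M.iCycles ≫ (φ.τ₂ - ψ.τ₂) = 0 := by
        rw [Preadditive.comp_sub, ← ShortComplex.cyclesMap_i, ← ShortComplex.cyclesMap_i, h1, sub_self]
      obtain ⟨γ, hγ⟩ := cyc_fac M _ h5
      rw [hCB γ, comp_zero] at hγ
      exact sub_eq_zero.mp hγ.symm
    ext
    · rw [← cancel_mono M'.f, φ.comm₁₂, ψ.comm₁₂, h4]
    · exact h4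
    · rw [← cancel_epi M.g, ← φ.comm₂₃, ← ψ.comm₂₃, h4]
  · intro θ
    obtain ⟨κ, hκ⟩ := hom_lift M' (X := M.cycles) hKA₁ (M.homologyπ ≫ θ)
    obtain ⟨β, hβ⟩ := cyc_desc M hCB₁ (κ ≫ M'.iCycles)
    obtain ⟨α, hα⟩ := hom_fac M' (M.toCycles ≫ κ) (by
      rw [Category.assoc, hκ, ← Category.assoc, M.toCycles_comp_homologyπ, zero_comp])
    obtain ⟨γ, hγ⟩ := cyc_fac M (β ≫ M'.g) (by
      rw [← Category.assoc, hβ, Category.assoc, M'.iCycles_g, comp_zero])
    let φ : M ⟶ M' :=
      { τ₁ := α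
        τ₂ := β
        τ₃ := γ
        comm₁₂ := by
          rw [← M'.toCycles_i, ← Category.assoc, hα, Category.assoc, ← hβ, ← Category.assoc, M.toCycles_i]
        comm₂₃ := hγ.symm }
    refine ⟨φ, ?_⟩
    change ShortComplex.homologyMap φ = θ
    have hc : ShortComplex.cyclesMap φ = κ := by
      rw [← cancel_mono M'.iCycles, ShortComplex.cyclesMap_i]
      exact hβ
    rw [← cancel_epi M.homologyπ, ShortComplex.homologyπ_naturality, hc, hκ]

end Groth.Agent.S11497
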