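import Groth.Statements.S11499
import Mathlib.RingTheory.Localization.BaseChange
import Mathlib.RingTheory.Localization.Integer
import Mathlib.LinearAlgebra.FreeModule.Finite.Matrix
import Mathlib.LinearAlgebra.Dimension.Free
import Mathlib.LinearAlgebra.Basis.VectorSpace
import Mathlib.RingTheory.TensorProduct.Finite

set_option autoImplicit false
universe u
open TensorProduct
open VBPn

namespace Groth.Agent.S11499

/-- Let A be an integral domain with fraction field K and M a finitely generated torsion-free A-module
of rank r (K ⊗_A M is r-dimensional over K). Then there is an injective A-linear map M → A^r. The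
published statement is for torsion-free coherent sheaves on a complex manifold, locally near a
point; this row is its statement for one stalk, over any domain. -/
theorem result (A : Type u) [CommRing A] [IsDomain A]
    (M : Type u) [AddCommGroup M] [Module A M] [Module.Finite A M] [NoZeroSMulDivisors A M] (r : ℕ)
    (hr : Module.finrank (FractionRing A) (FractionRing A ⊗[A] M) = r) :
    ∃ f : M →ₗ[A] (Fin r → A), Function.Injective f := by
  classical
  let K := FractionRing A
  let b : Module.Basis (Fin r) K (K ⊗[A] M) := Module.finBasisOfFinrankEq K _ hr
  let g : M →ₗ[A] (Fin r → K) := (b.equivFun.toLinearMap.restrictScalars A) ∘ₗ TensorProduct.mk A K M 1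
  have hloc : IsLocalizedModule (nonZeroDivisors A) (TensorProduct.mk A K M 1) :=
    (isLocalizedModule_iff_isBaseChange (nonZeroDivisors A) K _).mpr (TensorProduct.isBaseChange A M K)
  have hg : Function.Injective g := by
    have h1 : Function.Injective (TensorProduct.mk A K M 1) := by
      rw [injective_iff_map_eq_zero]
      intro m hm
      obtain ⟨c, hc⟩ := (IsLocalizedModule.eq_zero_iff (nonZeroDivisors A) (TensorProduct.mk A K M 1)).mp hm
      have : (c : A) • m = 0 := hc
      rcases smul_eq_zero.mp this with h | h
      · exact absurd h (nonZeroDivisors.coe_ne_zero c)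
      · exact h
    exact b.equivFun.injective.comp h1
  obtain ⟨s, hs⟩ := Module.Finite.fg_top (R := A) (M := M)
  obtain ⟨d, hd⟩ := IsLocalization.exist_integer_multiples_of_finset (nonZeroDivisors A)
    ((s ×ˢ (Finset.univ : Finset (Fin r))).image fun p => g p.1 p.2)
  let ι : (Fin r → A) →ₗ[A] (Fin r → K) := (Algebra.linearMap A K).compLeft (Fin r)
  have hι : Function.Injective ι := by
    intro x y h
    funext i
    exact IsFractionRing.injective A K (congrFun h i)
  have hrange : LinearMap.range ((d : A) • g) ≤ LinearMap.range ι := by
    rw [LinearMap.range_eq_map, ← hs, Submodule.map_span_le]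
    intro m hm
    have : ∀ i, ∃ a : A, algebraMap A K a = (d : A) • g m i := fun i =>
      hd (g m i) (Finset.mem_image.mpr ⟨(m, i), Finset.mem_product.mpr ⟨hm, Finset.mem_univ _⟩, rfl⟩)
    choose a ha using this
    exact ⟨a, funext fun i => ha i⟩
  let e := LinearEquiv.ofInjective ι hι
  refine ⟨e.symm.toLinearMap ∘ₗ Submodule.inclusion hrange ∘ₗ ((d : A) • g).rangeRestrict, ?_⟩
  refine e.symm.injective.comp ((Submodule.inclusion_injective hrange).comp ?_)
  intro x y hxy
  have h2 : (d : A) • g x = (d : A) • g y := congrArg Subtype.val hxy
  have h3 : g x = g y := by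
    funext i
    have h4 := congrFun h2 i
    simp only [Pi.smul_apply, Algebra.smul_def] at h4
    exact mul_left_cancel₀ (fun h0 => nonZeroDivisors.coe_ne_zero d (IsFractionRing.injective A K (h0.trans (map_zero _).symm))) h4
  exact hg h3

end Groth.Agent.S11499
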