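import Groth.Statements.S11502
import Groth.Agent.VBPn.K945.PnLine
import Groth.Agent.VBPn.K945.AffPn
import Groth.Agent.ArSurf.K482.Triv
import Groth.Agent.ArSurf.K482.ConRank
import Groth.Agent.Dual.H366.ExtQCoh
import Groth.Agent.AbSch.K451.DetMat
import Groth.Agent.VBPn.K697.ExtTw
import Groth.Agent.Grass.K652.LfRank

set_option autoImplicit false
universe u
open VBPn

namespace Groth.Agent.S11502

open CategoryTheory CategoryTheory.Limits AlgebraicGeometry
open Groth.Agent.PerfB.TwistDer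

variable {k : Type u} [Field k] {n : ℕ} {Y : Scheme.{u}}

theorem rank_tw (a : ℤ) : FlatMod.IsFinLocFreeOfRank 1 (Twist.twistProjSpace n k a) :=
  Groth.Agent.Ega2.QCohLocal.isFinLocFreeOfRank_one_iff.mpr (isInvertible_tw n k a)

/-- A morphism `Ψ : F ⟶ E` of bundles of rank two over the ideal sheaf of `Y` such that `E` and `F` surject onto the ideal
sheaf is an isomorphism. -/
theorem key (hn : 3 ≤ n) (i : Y ⟶ CohB1.ProjSpace n k) [IsClosedImmersion i]
    (hlci : RegImm.IsRegularImmersionOfCodim RegImm.Kind.regular 2 i) [Nonempty Y]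
    {F E : (CohB1.ProjSpace n k).Modules} (hF : FlatMod.IsFinLocFreeOfRank 2 F) (hE : FlatMod.IsFinLocFreeOfRank 2 E)
    (Ψ : F ⟶ E) (g : E ⟶ ClSub.idealMod i.ker) [Epi g] [Epi (Ψ ≫ g)] : IsIso Ψ := by
  have hC : FlatMod.IsFinLocFreeOfRank 2 ((Scheme.Modules.pullback i).obj (ClSub.idealMod i.ker)) :=
    K482.ConRank.isFinLocFreeOfRank_conormal i hlci
  have h1 : IsIso ((Scheme.Modules.pullback i).map g) :=
    Groth.Agent.Krr.H478.EpiIso.isIso_of_epi _ (K652.LfRank.pullback i hE) hC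
  have h2 : IsIso ((Scheme.Modules.pullback i).map (Ψ ≫ g)) :=
    Groth.Agent.Krr.H478.EpiIso.isIso_of_epi _ (K652.LfRank.pullback i hF) hC
  have h3 : IsIso ((Scheme.Modules.pullback i).map Ψ) := by
    rw [Functor.map_comp] at h2
    exact IsIso.of_isIso_comp_right _ ((Scheme.Modules.pullback i).map g)
  obtain ⟨LF, hLF⟩ := Groth.Agent.Dual.H366.ExtQCoh.exists_isExtPow 2
    (Groth.Agent.Ega2.QCohLocal.isQCoh_of_isFinLocFree (Groth.Agent.Krr.H495.Rank.isFinLocFree_of_rank hF))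
  obtain ⟨LE, hLE⟩ := Groth.Agent.Dual.H366.ExtQCoh.exists_isExtPow 2
    (Groth.Agent.Ega2.QCohLocal.isQCoh_of_isFinLocFree (Groth.Agent.Krr.H495.Rank.isFinLocFree_of_rank hE))
  have hLF' := K451.DetMat.isInvertible_of_isExtPow hF hLF
  have hLE' := K451.DetMat.isInvertible_of_isExtPow hE hLE
  obtain ⟨φ, hφ⟩ := Groth.Agent.Sga67.ExtSheaf.exists_phi hLF
  obtain ⟨ψ, hψ⟩ := Groth.Agent.Sga67.ExtSheaf.exists_phi hLE
  obtain ⟨γ, hγ⟩ := Groth.Agent.Sga67.ExtSheaf.exists_extMap Ψ φ hφ ψ hψ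
  rcases K945.PnLine.main (by omega) hLF' hLE' γ with h | ⟨d, a, hd, h⟩
  · exact K945.DetMap.isIso_of_det hF hE hφ hψ hγ
  · exfalso
    have h5 := K945.AffPn.isEmpty_of_le i (show 2 < n by omega) hlci hd a fun y => h (i y) (by
      obtain ⟨U, s, hy, -, hs⟩ := K945.DetMap.exists_gen_of_pull i hF hE hφ hψ hγ y
      exact ⟨U, s, hy, hs⟩)
    exact (not_isEmpty_iff.mpr ‹Nonempty Y›) h5

/-- `H^1` of a twist of a module isomorphic to `O(-c)`. -/
theorem h1_van (hn : 3 ≤ n) {M : (CohB1.ProjSpace n k).Modules} {c : ℤ} (e : M ≅ Twist.twistProjSpace n k c) (a : ℤ) :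
    Subsingleton (Coh.HH (CohB1.ProjSpace n k) (CohB1.tensorMod M (Twist.twistProjSpace n k a)) 1) := by
  have h1 : Subsingleton (Coh.HH (CohB1.ProjSpace n k) (Twist.twistProjSpace n k (c + a)) 1) :=
    Groth.Agent.S0844.result k n _ 1 (by omega) (by omega)
  exact Groth.Agent.Fga.HShift.subsingleton_of_iso ((twM n k a).mapIso e ≪≫ twMul n k c a _ rfl).symm 1 h1

theorem nonempty_split (hn : 3 ≤ n) (i : Y ⟶ CohB1.ProjSpace n k) [IsClosedImmersion i]
    (hlci : RegImm.IsRegularImmersionOfCodim RegImm.Kind.regular 2 i)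
    {S : ShortComplex (CohB1.ProjSpace n k).Modules} (hS : S.ShortExact) (hE : FlatMod.IsFinLocFreeOfRank 2 S.X₂)
    {c : ℤ} (e₁ : S.X₁ ≅ Twist.twistProjSpace n k c) (e₃ : S.X₃ ≅ ClSub.idealMod i.ker) (a b : ℤ)
    (ψ : Twist.twistProjSpace n k a ⊞ Twist.twistProjSpace n k b ⟶ ClSub.idealMod i.ker) [Epi ψ] :
    ∃ p q : ℤ, Nonempty (S.X₂ ≅ Twist.twistProjSpace n k p ⊞ Twist.twistProjSpace n k q) := by
  rcases isEmpty_or_nonempty Y with hY | hY
  · obtain ⟨e₄⟩ := K482.Triv.idealMod_top (X := CohB1.ProjSpace n k)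
    have h0 : i.ker = ⊤ := (Scheme.Hom.ker_eq_top_iff_isEmpty i).mpr hY
    have e₅ : S.X₃ ≅ Twist.twistProjSpace n k 0 := e₃ ≪≫ eqToIso (by rw [h0]) ≪≫ e₄ ≪≫ twZero n k
    obtain ⟨s, hs⟩ := K697.ExtTw.exists_lift n k hS 0 (h1_van hn e₁ _) e₅.inv
    have : Mono S.f := hS.mono_f
    let σ := ShortComplex.Splitting.ofExactOfSection S hS.exact (e₅.hom ≫ s) (by rw [Category.assoc, hs, Iso.hom_inv_id])
      hS.mono_f
    exact ⟨c, 0, ⟨σ.isoBinaryBiproduct ≪≫ biprod.mapIso e₁ e₅⟩⟩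
  · obtain ⟨s, hs⟩ := K697.ExtTw.exists_lift n k hS a (h1_van hn e₁ _) (biprod.inl ≫ ψ ≫ e₃.inv)
    obtain ⟨t, ht⟩ := K697.ExtTw.exists_lift n k hS b (h1_van hn e₁ _) (biprod.inr ≫ ψ ≫ e₃.inv)
    have : Epi S.g := hS.epi_g
    have h1 : biprod.desc s t ≫ (S.g ≫ e₃.hom) = ψ := by
      apply biprod.hom_ext'
      · rw [biprod.inl_desc_assoc, reassoc_of% hs]
        simp
      · rw [biprod.inr_desc_assoc, reassoc_of% ht]
        simp
    have h2 : Epi (biprod.desc s t ≫ (S.g ≫ e₃.hom)) := by rw [h1]; infer_instance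
    have h3 := key hn i hlci (Groth.Agent.Krr.H495.Rank.rank_biprod (rank_tw a) (rank_tw b)) hE (biprod.desc s t)
      (S.g ≫ e₃.hom)
    exact ⟨a, b, ⟨(asIso (biprod.desc s t)).symm⟩⟩

open CategoryTheory CategoryTheory.Limits AlgebraicGeometry in
/-- Let k be an algebraically closed field of characteristic zero, n ≥ 3, i : Y → P^n_k a closed
immersion which is a local complete intersection of codimension 2 (regular immersion of codimension
2) with ideal sheaf J_Y, and E a rank-2 vector bundle belonging to Y, that is a finite locally free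
O-module of rank 2 with a short exact sequence 0 → O → E → J_Y ⊗ O(c) → 0 for some integer c. Then E
splits as O(a') ⊕ O(b') for some integers a', b' if and only if Y is a global complete intersection:
J_Y is an epimorphic image of O(−a) ⊕ O(−b) for some integers a, b (Y is cut out
scheme-theoretically by two hypersurfaces). -/
theorem result (k : Type u) [Field k] [IsAlgClosed k] [CharZero k]
    (n : ℕ) (hn : 3 ≤ n) {Y : Scheme.{u}} (i : Y ⟶ CohB1.ProjSpace n k) [IsClosedImmersion i]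
    (hlci : RegImm.IsRegularImmersionOfCodim RegImm.Kind.regular 2 i) (c : ℤ)
    (S : ShortComplex (CohB1.ProjSpace n k).Modules) (hS : S.ShortExact) (hE : FlatMod.IsFinLocFreeOfRank 2 S.X₂)
    (h₁ : Nonempty (S.X₁ ≅ Coh.structureModule (CohB1.ProjSpace n k)))
    (h₃ : Nonempty (S.X₃ ≅ CohB1.tensorMod (ClSub.idealMod i.ker) (Twist.twistProjSpace n k c))) :
    (∃ a' b' : ℤ, Nonempty (S.X₂ ≅ Twist.twistProjSpace n k a' ⊞ Twist.twistProjSpace n k b')) ↔
      ∃ (a b : ℤ) (ψ : Twist.twistProjSpace n k (-a) ⊞ Twist.twistProjSpace n k (-b) ⟶ ClSub.idealMod i.ker),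
        Epi ψ := by
  obtain ⟨e₁⟩ := h₁
  obtain ⟨e₃⟩ := h₃
  let T : (CohB1.ProjSpace n k).Modules ⥤ (CohB1.ProjSpace n k).Modules := twM n k (-c)
  have hT : T.IsEquivalence := (twMEquiv n k (-c)).isEquivalence_functor
  have hadd : T.Additive := inferInstance
  let S' := S.map T
  have hS' : S'.ShortExact := hS.map_of_exact T
  let e₁' : S'.X₁ ≅ Twist.twistProjSpace n k (-c) :=
    T.mapIso (e₁ ≪≫ twZero n k) ≪≫ twMul n k 0 (-c) (-c) (by omega)
  let e₃' : S'.X₃ ≅ ClSub.idealMod i.ker :=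
    T.mapIso e₃ ≪≫ (twMComp n k c (-c) 0 (by omega)).app _ ≪≫ (twMZero n k).app _
  have key1 : ∀ (d : ℤ) (M : (CohB1.ProjSpace n k).Modules) (p q : ℤ),
      Nonempty (M ≅ Twist.twistProjSpace n k p ⊞ Twist.twistProjSpace n k q) →
      ∃ p' q' : ℤ, Nonempty ((twM n k d).obj M ≅ Twist.twistProjSpace n k p' ⊞ Twist.twistProjSpace n k q') := by
    rintro d M p q ⟨e⟩
    have : PreservesBinaryBiproducts (twM n k d) := preservesBinaryBiproducts_of_preservesBiproducts _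
    exact ⟨p + d, q + d, ⟨(twM n k d).mapIso e ≪≫ (twM n k d).mapBiprod _ _ ≪≫
      biprod.mapIso (twMul n k p d _ rfl) (twMul n k q d _ rfl)⟩⟩
  constructor
  · rintro ⟨p, q, hpq⟩
    obtain ⟨p', q', ⟨e⟩⟩ := key1 (-c) _ p q hpq
    have : Epi S'.g := hS'.epi_g
    have h : ∀ a b : ℤ, a = p' → b = q' →
        ∃ (ψ : Twist.twistProjSpace n k a ⊞ Twist.twistProjSpace n k b ⟶ ClSub.idealMod i.ker), Epi ψ := by
      rintro _ _ rfl rfl
      exact ⟨(e.inv ≫ S'.g) ≫ e₃'.hom, epi_comp' (epi_comp' inferInstance this) inferInstance⟩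
    exact ⟨-p', -q', h _ _ (neg_neg _) (neg_neg _)⟩
  · rintro ⟨a, b, ψ, hψ⟩
    have hE' : FlatMod.IsFinLocFreeOfRank 2 S'.X₂ := Groth.Agent.Krr.H495.Rank.rank_tensor hE (rank_tw (-c))
    obtain ⟨p, q, hpq⟩ := nonempty_split hn i hlci hS' hE' e₁' e₃' (-a) (-b) ψ
    obtain ⟨p', q', ⟨e⟩⟩ := key1 c _ p q hpq
    exact ⟨p', q', ⟨(twMZero n k).symm.app _ ≪≫ (twMComp n k (-c) c 0 (by omega)).symm.app _ ≪≫ e⟩⟩

end Groth.Agent.S11502
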