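import Groth.Statements.S11503
import Groth.Agent.VBPn.K698.Basic
import Groth.Agent.CohqA.ProjDim

set_option autoImplicit false
universe u
open VBPn

namespace K698.S11503

open CategoryTheory CategoryTheory.Limits AlgebraicGeometry Opposite
open Groth.Agent.Sga67.Sec Groth.Agent.Sga67.LocBasis K698.Basic

variable {X : Scheme.{u}}

theorem appS_unit {E : X.Modules} (s : Coh.structureModule X ⟶ E) (U : X.Opens)
    (a : Sec (Coh.structureModule X) U) : appS s U a = toO a • res E le_top (appS s ⊤ (one X ⊤)) := by
  conv_lhs => rw [← toO_smul_one a, map_smul]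
  rw [← appS_res, res_one]

theorem main [IsIntegral X] {r : ℕ} (hr : 1 < r) (E : X.Modules) (hE : FlatMod.IsFinLocFreeOfRank r E)
    (s : Coh.structureModule X ⟶ E) (hs : s ≠ 0) (t : E ⟶ Coh.structureModule X) (ht : t ≠ 0)
    (γ : Coh.Γtop X) (hγ : toGam X γ = 0 ∨ IsUnit (toGam X γ)) :
    (SheafOfModules.toSheaf X.ringCatSheaf).map (t ≫ s) ≠ Coh.smulAb E γ := by
  intro h
  have h1 : ∀ (U : X.Opens) (x : Sec E U), appS s U (appS t U x) = resO X (le_top : U ≤ ⊤) (toGam X γ) • x :=
    fun U x => appS_of_toSheaf_map_eq h U x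
  clear h
  have h2 : ∀ (U : X.Opens) (x : Sec E U),
      toO (appS t U x) • res E le_top (appS s ⊤ (one X ⊤)) = resO X (le_top : U ≤ ⊤) (toGam X γ) • x := by
    intro U x
    rw [← h1]
    exact (appS_unit s U (appS t U x)).symm
  rcases hγ with hγ | hγ
  · obtain ⟨U, x, hx⟩ : ∃ (U : X.Opens) (x : Sec E U), appS t U x ≠ 0 := by
      by_contra hcon
      push Not at hcon
      exact ht (hom_ext fun U x => hcon U x)
    have hU : (U : Set X).Nonempty := by
      by_contra hne
      apply hx
      apply eq_of_locally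
      intro y hy
      exact absurd ⟨y, hy⟩ hne
    obtain ⟨y, hy⟩ := hU
    obtain ⟨V, hVU, hyV, b, hb⟩ := exists_basis hE hy
    have hVne : (V : Set X).Nonempty := ⟨y, hyV⟩
    obtain ⟨a, ha⟩ := (hb V le_rfl).2 (res E le_top (appS s ⊤ (one X ⊤)))
    have hf : resO X hVU (toO (appS t U x)) ≠ 0 := by
      intro h0
      exact hx (resO_injective hVU hVne (h0.trans (map_zero _).symm))
    have h3 : resO X hVU (toO (appS t U x)) • comb b le_rfl a = 0 := by
      have := h2 V (res E hVU x)
      rw [hγ, map_zero, zero_smul, appS_res, ← ha] at this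
      rw [← this]
      rfl
    rw [← map_smul] at h3
    have h4 := (hb V le_rfl).1 (h3.trans (map_zero _).symm)
    have : Nonempty V := ⟨⟨y, hyV⟩⟩
    have : IsDomain Γ(X, V) := inferInstance
    have h5 : a = 0 := by
      funext i
      have := congrFun h4 i
      simp only [Pi.smul_apply, smul_eq_mul, Pi.zero_apply] at this
      exact (mul_eq_zero.mp this).resolve_left hf
    rw [h5, map_zero] at ha
    have h6 : appS s ⊤ (one X ⊤) = 0 :=
      res_injective (isFinLocFree_of_rank hE) le_top hVne (ha.symm.trans (map_zero _).symm)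
    apply hs
    apply hom_ext
    intro W w
    rw [appS_unit, h6, map_zero, smul_zero, appS_zero]
  · obtain ⟨y⟩ : Nonempty X := inferInstance
    obtain ⟨V, hVU, hyV, b, hb⟩ := exists_basis hE (U := ⊤) (x := y) trivial
    have : Nonempty V := ⟨⟨y, hyV⟩⟩
    have : IsDomain Γ(X, V) := inferInstance
    let i0 : Fin r := ⟨0, by omega⟩
    let i1 : Fin r := ⟨1, hr⟩
    have hinj := (hb V le_rfl).1
    have hcomb : ∀ i, comb b le_rfl (Pi.single i 1) = b i := by
      intro i
      rw [comb_apply]
      classical
      rw [Finset.sum_eq_single i]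
      · simp
      · intro j _ hj
        simp [hj]
      · intro h; exact absurd (Finset.mem_univ i) h
    have hu : IsUnit (resO X (le_top : V ≤ ⊤) (toGam X γ)) := hγ.map _
    set f0 := toO (appS t V (b i0)) with hf0
    set f1 := toO (appS t V (b i1))
    have e0 := h2 V (b i0)
    have e1 := h2 V (b i1)
    have e2 : f1 • resO X (le_top : V ≤ ⊤) (toGam X γ) • b i0 = f0 • resO X (le_top : V ≤ ⊤) (toGam X γ) • b i1 := by
      rw [← e0, ← e1, smul_smul, smul_smul, mul_comm]
    rw [← hcomb i0, ← hcomb i1, ← map_smul, ← map_smul, ← map_smul, ← map_smul] at e2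
    have e3 := congrFun (hinj e2) i1
    have h01 : i0 ≠ i1 := by
      intro h; simp [i0, i1, Fin.ext_iff] at h
    simp only [Pi.smul_apply, Pi.single_eq_same, Pi.single_eq_of_ne h01.symm,
      smul_eq_mul, mul_one, mul_zero] at e3
    have f00 : f0 = 0 := (mul_eq_zero.mp e3.symm).resolve_right hu.ne_zero
    have e6 : f0 • res E le_top (appS s ⊤ (one X ⊤)) = resO X (le_top : V ≤ ⊤) (toGam X γ) • b i0 := e0
    rw [f00, zero_smul, ← hcomb i0, ← map_smul] at e6
    have e5 := congrFun (hinj ((map_zero _).trans e6)) i0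
    simp only [Pi.smul_apply, Pi.single_eq_same, smul_eq_mul, mul_one, Pi.zero_apply] at e5
    exact hu.ne_zero e5.symm

end K698.S11503

namespace Groth.Agent.S11503

open CategoryTheory CategoryTheory.Limits AlgebraicGeometry in
/-- Let k be a characteristic-zero algebraically closed field and E a finite locally free O-module of
rank r > 1 on P^n_k. If E has a nonzero section (a nonzero morphism O → E) and its dual has a
nonzero section (a nonzero morphism E → O), then E is not simple: there is an endomorphism of E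
which is not a homothety, i.e. whose underlying map of abelian sheaves is not multiplication by any
scalar c ∈ k. -/
theorem result (k : Type u) [Field k] [IsAlgClosed k] [CharZero k]
    (n r : ℕ) (hr : 1 < r) (E : (CohB1.ProjSpace n k).Modules) (hE : FlatMod.IsFinLocFreeOfRank r E)
    (s : Coh.structureModule (CohB1.ProjSpace n k) ⟶ E) (hs : s ≠ 0)
    (t : E ⟶ Coh.structureModule (CohB1.ProjSpace n k)) (ht : t ≠ 0) :
    ∃ φ : E ⟶ E, ∀ c : k, (SheafOfModules.toSheaf (CohB1.ProjSpace n k).ringCatSheaf).map φ ≠
      Coh.smulAb E (Coh.toGlobal (CohB1.ProjSpace.toSpec n k) c) := by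
  refine ⟨t ≫ s, fun c => K698.S11503.main hr E hE s hs t ht _ ?_⟩
  rcases eq_or_ne c 0 with rfl | hc
  · exact Or.inl (by rw [map_zero, map_zero])
  · exact Or.inr (((isUnit_iff_ne_zero.mpr hc).map _).map _)

end Groth.Agent.S11503
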