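import Groth.Statements.S11506
import Groth.Agent.VBPn.K698.Simple

set_option autoImplicit false
universe u
open VBPn

namespace K698.S11506

open CategoryTheory CategoryTheory.Limits AlgebraicGeometry Opposite
open Groth.Agent.Sga67.Sec K698.Basic K698.Val K698.Wedge

theorem main {n : ℕ} {k : Type u} [Field k] (E : (PP n k).Modules) (hE : FlatMod.IsFinLocFreeOfRank 2 E)
    (c k₀ : ℤ) (L : (PP n k).Modules) (hL : ExtPow.IsExtPow 2 E L) (e : L ≅ OO n k c)
    (hk₀ : c + 2 * k₀ = 0 ∨ c + 2 * k₀ = -1)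
    (hsimple : ∀ φ : E ⟶ E, ∃ r : Coh.Γtop (PP n k), (toGam _ r = 0 ∨ IsUnit (toGam _ r)) ∧
      (SheafOfModules.toSheaf (PP n k).ringCatSheaf).map φ = Coh.smulAb E r)
    (v : OO n k (-k₀) ⟶ E) : v = 0 := by
  by_contra hv
  obtain ⟨f, hf⟩ := exists_wedge hL
  obtain ⟨φ, hφ, hvφ⟩ := Simple.exists_nilpotent hE (hf.comp_iso e) k₀ hk₀ v hv
  obtain ⟨r, hr, h⟩ := hsimple φ
  have h1 : ∀ (U : (PP n k).Opens) (s : Sec E U), appS φ U s = resO _ (le_top : U ≤ ⊤) (toGam _ r) • s :=
    fun U s => appS_of_toSheaf_map_eq h U s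
  rcases hr with hr | hr
  · apply hφ
    apply hom_ext
    intro U s
    rw [h1, hr, map_zero, zero_smul, appS_zero]
  · apply hv
    apply hom_ext
    intro U s
    have h2 : appS φ U (appS v U s) = 0 := by
      rw [← appS_comp, hvφ, appS_zero]
    rw [h1] at h2
    rw [appS_zero]
    exact ((hr.map (resO _ (le_top : U ≤ ⊤))).smul_eq_zero).mp h2

end K698.S11506

namespace Groth.Agent.S11506

open CategoryTheory CategoryTheory.Limits AlgebraicGeometry in
/-- Let k be a characteristic-zero algebraically closed field and E a finite locally free O-module of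
rank 2 on P^n_k with a second exterior power isomorphic to O(c), and let k₀ satisfy c + 2k₀ = 0 or c
+ 2k₀ = −1. If every endomorphism of E is a homothety (its underlying map of abelian sheaves is
multiplication by a scalar in k), then H^0(P^n_k, E ⊗ O(k₀)) = 0. The published statement concludes
stability; this row concludes the vanishing of H^0 of the normalised twist, which for rank 2 is
stability. -/
theorem result (k : Type u) [Field k] [IsAlgClosed k] [CharZero k]
    (n : ℕ) (E : (CohB1.ProjSpace n k).Modules) (hE : FlatMod.IsFinLocFreeOfRank 2 E) (c k₀ : ℤ)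
    (hdet : ∃ L : (CohB1.ProjSpace n k).Modules, ExtPow.IsExtPow 2 E L ∧ Nonempty (L ≅ Twist.twistProjSpace n k c))
    (hk₀ : c + 2 * k₀ = 0 ∨ c + 2 * k₀ = -1)
    (hsimple : ∀ φ : E ⟶ E, ∃ c' : k, (SheafOfModules.toSheaf (CohB1.ProjSpace n k).ringCatSheaf).map φ =
      Coh.smulAb E (Coh.toGlobal (CohB1.ProjSpace.toSpec n k) c')) :
    Subsingleton (Coh.HH (CohB1.ProjSpace n k) (CohB1.tensorMod E (Twist.twistProjSpace n k k₀)) 0) := by
  obtain ⟨L, hL, ⟨e⟩⟩ := hdet
  rw [K698.H0.hh0_iff']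
  intro v
  refine K698.S11506.main E hE c k₀ L hL e hk₀ (fun φ => ?_) v
  obtain ⟨c', hc'⟩ := hsimple φ
  exact ⟨_, K698.H0.scalar_cases _ c', hc'⟩

end Groth.Agent.S11506
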