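import Groth.Statements.S11516
import Groth.Agent.VBPn.K699.Euler

set_option autoImplicit false
universe u
open VBPn

namespace Groth.Agent.S11516

open CategoryTheory CategoryTheory.Limits AlgebraicGeometry in
/-- Let k be an algebraically closed field of characteristic zero, n ≥ 1, and i : P^{n−1}_k → P^n_k a
closed immersion of k-schemes along which O(1) pulls back to O(1), the embedding of a hyperplane H.
Then i^*Ω^1_{P^n_k} ≅ Ω^1_{P^{n−1}_k} ⊕ O(−1), where Ω^1 denotes the sheaf of differentials over k;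
dually, the restricted tangent bundle splits as T_{P^n}|H ≅ T_H ⊕ O_H(1). -/
theorem result (k : Type u) [Field k] [IsAlgClosed k] [CharZero k]
    (n : ℕ) (hn : 1 ≤ n) (i : CohB1.ProjSpace (n - 1) k ⟶ CohB1.ProjSpace n k) [IsClosedImmersion i]
    (hi : i ≫ CohB1.ProjSpace.toSpec n k = CohB1.ProjSpace.toSpec (n - 1) k)
    (hO : Nonempty ((Scheme.Modules.pullback i).obj (Twist.twistProjSpace n k 1) ≅ Twist.twistProjSpace (n - 1) k 1)) :
    Nonempty ((Scheme.Modules.pullback i).obj (Omega.sheaf (CohB1.ProjSpace.toSpec n k)) ≅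
      Omega.sheaf (CohB1.ProjSpace.toSpec (n - 1) k) ⊞ Twist.twistProjSpace (n - 1) k (-1)) := by
  obtain ⟨e⟩ := K699.Euler.nonempty_pullback_omega_iso (m := n - 1) (n := n) (k := k) i hO Unit (by
    rw [Nat.card_unique]; omega)
  let e1 : K699.GMat.OO (n - 1) k Unit (-1) ≅ Twist.twistProjSpace (n - 1) k (-1) :=
    biproductUniqueIso fun _ : Unit => K699.GMat.T (n - 1) k (-1)
  exact ⟨Iso.trans (C := (CohB1.ProjSpace (n - 1) k).Modules) e
    (biprod.mapIso (C := (CohB1.ProjSpace (n - 1) k).Modules) (Iso.refl _) e1)⟩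

end Groth.Agent.S11516
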