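import Groth.Statements.S11518
import Groth.Agent.VBPn.K699.WronSimple

set_option autoImplicit false
universe u
open VBPn

namespace Groth.Agent.S11518

open CategoryTheory CategoryTheory.Limits AlgebraicGeometry in
/-- Let k be an algebraically closed field of characteristic zero. For every n there is a finite locally
free O-module F of rank n − 1 on P^n_k which is simple, i.e. every endomorphism of F is a homothety
(its underlying map of abelian sheaves is multiplication by a scalar in k); in particular F is
indecomposable. (For n ≤ 2 the assertion is trivial. The published statement also gives the total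
Chern class (1 − 2h)/(1 − h)^{n+1}; this row does not state it.) -/
theorem result (k : Type u) [Field k] [IsAlgClosed k] [CharZero k] (n : ℕ) :
    ∃ F : (CohB1.ProjSpace n k).Modules, FlatMod.IsFinLocFreeOfRank (n - 1) F ∧
      ∀ φ : F ⟶ F, ∃ c : k, (SheafOfModules.toSheaf (CohB1.ProjSpace n k).ringCatSheaf).map φ =
        Coh.smulAb F (Coh.toGlobal (CohB1.ProjSpace.toSpec n k) c) := by
  rcases Nat.lt_or_ge n 3 with hn | hn
  · by_cases h2 : n = 2
    · subst h2
      exact ⟨K699.GMat.T 2 k 0, K699.RankOO.rank_T 0, fun φ => K699.WronSimple.simple_T 0 φ⟩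
    · have h0 : n - 1 = 0 := by omega
      rw [h0]
      exact ⟨K699.GMat.OO n k (Fin 0) 0, K699.RankOO.rank_OO (by simp) 0, fun φ => K699.WronSimple.simple_zero φ⟩
  · exact ⟨K699.WronSimple.E n k, K699.WronSimple.rank_E (by omega), fun φ => K699.WronSimple.simple hn φ⟩

end Groth.Agent.S11518
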