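import Groth.Statements.S11524
import Groth.Agent.S11527
import Groth.Agent.S8800
import Groth.Agent.AdicRing.K26.RPowB
import Mathlib.Algebra.Module.FinitePresentation

set_option autoImplicit false
universe u
open AdicRing

namespace Groth.Agent.S11524

/-- Let R be a base ring of class (N) or (V) for the ideal I, A an R-algebra topologically of finite
type and M a finite A-module which is flat over R. Then M is of finite presentation over A. (Class
(V) is taken here to consist of complete valuation rings of height one.) -/
theorem result
    (R : Type u) [CommRing R] (I : Ideal R) (hR : AdicRing.IsBase R I)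
    (A : Type u) [CommRing A] [Algebra R A] (hA : AdicRing.TopFiniteType R I A)
    (M : Type u) [AddCommGroup M] [Module A M] [Module R M] [IsScalarTower R A M]
    [Module.Finite A M] [Module.Flat R M] :
    Module.FinitePresentation A M := by
  obtain ⟨k, f, hf⟩ := Module.Finite.exists_fin' A M
  obtain ⟨hRI, ⟨hN, -⟩ | ⟨hdom, hval, hdim, t, ht, rfl⟩⟩ := id hR
  · obtain ⟨n, φ, hφ⟩ := hA
    have hI : I.FG := IsNoetherian.noetherian I
    have hD : IsAdicComplete (I.map (algebraMap R (RPow R I n))) (RPow R I n) :=
      K26.RPowB.isAdicComplete_map R I n hI
    have : IsNoetherianRing (RPow R I n) :=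
      Groth.Agent.S8800.result R I (RPow R I n) (K26.RPowB.finiteType_quot (AlgHom.id R _)
        Function.surjective_id hI)
    have : IsNoetherianRing A := isNoetherianRing_of_surjective _ _ φ.toRingHom hφ
    exact Module.finitePresentation_of_finite A M
  · refine Module.finitePresentation_of_free_of_surjective f hf ?_
    refine Groth.Agent.S11527.result R _ hR A hA (Fin k → A) (LinearMap.ker f) ?_
    intro x m hx
    rw [LinearMap.mem_ker]
    have h1 : t ^ m • f x = 0 := by
      have h2 := hx (t ^ m) (Ideal.pow_mem_pow (Ideal.mem_span_singleton_self t) m)
      rw [LinearMap.mem_ker, LinearMap.map_smul_of_tower] at h2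
      exact h2
    have h3 : Module.IsTorsionFree R M := inferInstance
    exact (smul_eq_zero_iff_right (pow_ne_zero m ht)).mp h1

end Groth.Agent.S11524
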