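import Groth.Statements.S11546
import Groth.Agent.AdicRing.K26.Compl
import Groth.Agent.AdicRing.K26.GenFib
import Mathlib.RingTheory.AdicCompletion.AsTensorProduct
import Mathlib.RingTheory.Flat.Stability
import Mathlib.RingTheory.Flat.TorsionFree
import Mathlib.RingTheory.PrincipalIdealDomain
import Mathlib.RingTheory.Polynomial.Basic

set_option autoImplicit false
universe u
open AdicRing

namespace Groth.Agent.S11546

/-- A nonzerodivisor stays a nonzerodivisor in the completion along it. -/
theorem eq_zero_of_mul_eq_zero {S : Type u} [CommRing S] (τ : S) (hτ : τ ∈ nonZeroDivisors S)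
    (x : AdicCompletion (Ideal.span {τ}) S)
    (hx : algebraMap S (AdicCompletion (Ideal.span {τ}) S) τ * x = 0) : x = 0 := by
  apply AdicCompletion.ext_evalₐ
  intro m
  rw [map_zero]
  obtain ⟨p, hp⟩ := Ideal.Quotient.mk_surjective (AdicCompletion.evalₐ (Ideal.span {τ}) (m + 1) x)
  have h1 := congrArg (AdicCompletion.evalₐ (Ideal.span {τ}) (m + 1)) hx
  rw [map_mul, map_zero, AlgHom.commutes, ← hp, Ideal.Quotient.algebraMap_eq, ← map_mul,
    Ideal.Quotient.eq_zero_iff_mem, Ideal.span_singleton_pow, Ideal.mem_span_singleton] at h1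
  obtain ⟨c, hc⟩ := h1
  have h2 : p = τ ^ m * c := by
    have h3 : τ * p = τ * (τ ^ m * c) := by rw [hc, pow_succ]; ring
    exact (mul_cancel_left_mem_nonZeroDivisors hτ).mp h3
  rw [K26.Compl.evalₐ_eq_mk_iff_of_le _ x (Nat.le_succ m) p hp.symm,
    Ideal.Quotient.eq_zero_iff_mem, Ideal.span_singleton_pow, Ideal.mem_span_singleton]
  exact ⟨c, h2⟩

/-- Let R be a base ring of class (N) or (V) for the ideal I. Then the restricted power series ring
R⟨ζ_1, ..., ζ_n⟩ is flat over R. -/
theorem result
    (R : Type u) [CommRing R] (I : Ideal R) (hR : AdicRing.IsBase R I) (n : ℕ) :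
    Module.Flat R (AdicRing.RPow R I n) := by
  obtain ⟨hcompl, ⟨hN, -⟩ | ⟨hdom, hval, hdim, t, ht, rfl⟩⟩ := hR
  · have h1 : Module.Flat (MvPolynomial (Fin n) R) (RPow R I n) :=
      AdicCompletion.flat_of_isNoetherian _
    exact Module.Flat.trans R (MvPolynomial (Fin n) R) (RPow R I n)
  · have hV : ValuationRing R := { }
    have htu : ¬ IsUnit t := K26.ComplVal.not_isUnit_of_isAdicComplete t
    have hnzd : (MvPolynomial.C t : MvPolynomial (Fin n) R) ∈
        nonZeroDivisors (MvPolynomial (Fin n) R) :=
      mem_nonZeroDivisors_of_ne_zero (MvPolynomial.C_ne_zero.mpr ht)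
    have hJ : (Ideal.span {t}).map (MvPolynomial.C : R →+* MvPolynomial (Fin n) R) =
        Ideal.span {MvPolynomial.C t} := by rw [Ideal.map_span, Set.image_singleton]
    have key : ∀ (J : Ideal (MvPolynomial (Fin n) R)), J = Ideal.span {MvPolynomial.C t} →
        ∀ x : AdicCompletion J (MvPolynomial (Fin n) R),
          algebraMap (MvPolynomial (Fin n) R) (AdicCompletion J (MvPolynomial (Fin n) R))
            (MvPolynomial.C t) * x = 0 → x = 0 := by
      rintro J rfl x hx
      exact eq_zero_of_mul_eq_zero _ hnzd x hx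
    have hmul : ∀ x : RPow R (Ideal.span {t}) n, algebraMap R _ t * x = 0 → x = 0 :=
      fun x hx => key _ hJ x hx
    have hT : NoPowTorsion (Ideal.span {t}) (RPow R (Ideal.span {t}) n) := by
      intro x k hx
      have h1 : (t ^ k) • x = 0 := hx _ (Ideal.pow_mem_pow (Ideal.mem_span_singleton_self t) k)
      clear hx
      induction k with
      | zero => simpa using h1
      | succ k ih =>
        apply ih
        apply hmul
        rw [← Algebra.smul_def, smul_smul, ← pow_succ']
        exact h1
    rw [Module.Flat.flat_iff_torsion_eq_bot_of_isBezout, eq_bot_iff]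
    rintro x ⟨⟨c, hc⟩, hx⟩
    exact K26.GenFib.eq_zero_of_smul_eq_zero t htu hT c (nonZeroDivisors.ne_zero hc) x hx

end Groth.Agent.S11546
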