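import Groth.Statements.S11526
import Groth.Agent.S11524
import Groth.Agent.S11546
import Groth.Agent.AdicRing.K26.RPowB
import Mathlib.Algebra.Module.FinitePresentation

set_option autoImplicit false
universe u
open scoped TensorProduct
open AdicRing

namespace Groth.Agent.S11526

/-- A module over a quotient ring which is finitely presented over the ring is finitely presented
over the quotient ring. -/
theorem finitePresentation_of_surjective {D A : Type u} [CommRing D] [CommRing A] [Algebra D A]
    (h : Function.Surjective (algebraMap D A)) (N : Type u) [AddCommGroup N] [Module D N]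
    [Module A N] [IsScalarTower D A N] [Module.FinitePresentation D N] :
    Module.FinitePresentation A N := by
  let l : A ⊗[D] N →ₗ[A] N := LinearMap.liftBaseChange A (LinearMap.id : N →ₗ[D] N)
  have hl : ∀ (a : A) (n : N), l (a ⊗ₜ[D] n) = a • n := fun a n => rfl
  have h1 : ∀ x : A ⊗[D] N, x = 1 ⊗ₜ[D] (l x) := by
    intro x
    induction x using TensorProduct.induction_on with
    | zero => rw [map_zero, TensorProduct.tmul_zero]
    | tmul a n =>
      obtain ⟨d, rfl⟩ := h a
      rw [hl, algebraMap_smul, TensorProduct.tmul_smul, TensorProduct.smul_tmul',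
        Algebra.smul_def, mul_one]
    | add x y hx hy => rw [map_add, TensorProduct.tmul_add, ← hx, ← hy]
  have h2 : Function.Injective l := by
    intro x y hxy
    rw [h1 x, h1 y, hxy]
  have h3 : Function.Surjective l := fun n => ⟨1 ⊗ₜ n, by rw [hl, one_smul]⟩
  refine Module.finitePresentation_of_surjective l h3 ?_
  rw [LinearMap.ker_eq_bot.mpr h2]
  exact Submodule.fg_bot

/-- Let R be a base ring of class (N) or (V) for the ideal I and A an R-algebra topologically of finite
presentation. Then A is a coherent ring: every finitely generated ideal of A is finitely presented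
as an A-module. -/
theorem result
    (R : Type u) [CommRing R] (I : Ideal R) (hR : AdicRing.IsBase R I)
    (A : Type u) [CommRing A] [Algebra R A] (hA : AdicRing.TopFinitePresentation R I A)
    (J : Ideal A) (hJ : J.FG) :
    Module.FinitePresentation A J := by
  obtain ⟨n, φ, hφ, hker⟩ := hA
  have hflat : Module.Flat R (RPow R I n) := Groth.Agent.S11546.result R I hR n
  have hDft : TopFiniteType R I (RPow R I n) := ⟨n, AlgHom.id R _, Function.surjective_id⟩
  obtain ⟨hRI, ⟨hN, -⟩ | ⟨hdom, hval, hdim, t, ht, rfl⟩⟩ := id hR
  · have hI : I.FG := IsNoetherian.noetherian I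
    have hD : IsAdicComplete (I.map (algebraMap R (RPow R I n))) (RPow R I n) :=
      K26.RPowB.isAdicComplete_map R I n hI
    have : IsNoetherianRing (RPow R I n) :=
      Groth.Agent.S8800.result R I (RPow R I n) (K26.RPowB.finiteType_quot (AlgHom.id R _)
        Function.surjective_id hI)
    have : IsNoetherianRing A := isNoetherianRing_of_surjective _ _ φ.toRingHom hφ
    exact Module.finitePresentation_of_finite A J
  · have : ValuationRing R := {}
    -- the preimage of `J`
    let K : Ideal (RPow R (Ideal.span {t}) n) := RingHom.ker φ.toRingHom
    let J' : Ideal (RPow R (Ideal.span {t}) n) := J.comap φ.toRingHom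
    have hJ' : J'.FG := by
      refine Ideal.fg_of_fg_map_of_fg_inf_ker_of_surjective (f := φ.toRingHom) ?_ ?_ hφ
      · rw [Ideal.map_comap_of_surjective φ.toRingHom hφ]; exact hJ
      · have h1 : J' ⊓ RingHom.ker φ.toRingHom = RingHom.ker φ.toRingHom := by
          rw [inf_eq_right]
          intro x hx
          change φ.toRingHom x ∈ J
          rw [RingHom.mem_ker] at hx
          rw [hx]
          exact J.zero_mem
        rw [h1]
        exact hker
    have : Module.Finite (RPow R (Ideal.span {t}) n) J' := Module.Finite.iff_fg.mpr hJ'
    have htf : Module.IsTorsionFree R (RPow R (Ideal.span {t}) n) := inferInstance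
    have htf' : Module.IsTorsionFree R J' :=
      Function.Injective.moduleIsTorsionFree (fun x : J' => (x : RPow R (Ideal.span {t}) n))
        Subtype.val_injective (fun _ _ => rfl)
    have hflat' : Module.Flat R J' := by
      rw [Module.Flat.flat_iff_torsion_eq_bot_of_isBezout,
        ← Submodule.isTorsionFree_iff_torsion_eq_bot]
      exact htf'
    have hfp : Module.FinitePresentation (RPow R (Ideal.span {t}) n) J' :=
      Groth.Agent.S11524.result R _ hR (RPow R (Ideal.span {t}) n) hDft J'
    let _ : Algebra (RPow R (Ideal.span {t}) n) A := φ.toRingHom.toAlgebra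
    let g : J' →ₗ[RPow R (Ideal.span {t}) n] J :=
      { toFun := fun x => ⟨φ x, x.2⟩
        map_add' := fun x y => Subtype.ext (map_add φ _ _)
        map_smul' := fun a x => Subtype.ext (by
          change φ (a * x) = φ a * φ x
          rw [map_mul]) }
    have hg : Function.Surjective g := by
      rintro ⟨y, hy⟩
      obtain ⟨x, rfl⟩ := hφ y
      exact ⟨⟨x, hy⟩, rfl⟩
    have hfp' : Module.FinitePresentation (RPow R (Ideal.span {t}) n) J := by
      refine Module.finitePresentation_of_surjective g hg ?_
      have h1 : (LinearMap.ker g).map (Submodule.subtype J') = RingHom.ker φ.toRingHom := by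
        ext x
        constructor
        · rintro ⟨y, hy, rfl⟩
          exact congrArg Subtype.val (LinearMap.mem_ker.mp hy)
        · intro hx
          have hx' : φ x = 0 := hx
          refine ⟨⟨x, ?_⟩, ?_, rfl⟩
          · change φ x ∈ J
            rw [hx']; exact J.zero_mem
          · exact LinearMap.mem_ker.mpr (Subtype.ext hx')
      have h2 : ((LinearMap.ker g).map (Submodule.subtype J')).FG := by rw [h1]; exact hker
      exact Submodule.fg_of_fg_map_injective _ (Submodule.injective_subtype _) h2
    exact finitePresentation_of_surjective hφ J

end Groth.Agent.S11526
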