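import Groth.Statements.S11533
import Groth.Agent.S11539
import Groth.Agent.AdicRing.K26.CLocFF

set_option autoImplicit false
universe u
open AdicRing

namespace Groth.Agent.S11533

theorem flat_adicCompletion
    (R : Type u) [CommRing R] (I : Ideal R) (hR : AdicRing.IsBase R I)
    (A : Type u) [CommRing A] [Algebra R A] (hA : AdicRing.TopFiniteType R I A)
    (C : Type u) [CommRing C] [Algebra R C] [Algebra A C] [IsScalarTower R A C]
    [Algebra.FiniteType A C] :
    Module.Flat C (AdicCompletion (I.map (algebraMap R C)) C) :=
  Groth.Agent.S11539.result R I hR A hA C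

theorem flat_cLoc
    (R : Type u) [CommRing R] (I : Ideal R) (hR : AdicRing.IsBase R I)
    (A : Type u) [CommRing A] [Algebra R A] (hA : AdicRing.TopFiniteType R I A) (f : A) :
    Module.Flat A (AdicRing.CLoc I f) := by
  have h0 : Algebra.FinitePresentation A (Localization.Away f) :=
    IsLocalization.Away.finitePresentation f
  have h1 : Module.Flat (Localization.Away f) (CLoc I f) :=
    flat_adicCompletion R I hR A hA (Localization.Away f)
  have h2 : Module.Flat A (Localization.Away f) := IsLocalization.flat _ (Submonoid.powers f)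
  exact Module.Flat.trans A (Localization.Away f) (CLoc I f)

/-- Let R be a base ring of class (N) or (V) for the ideal I, A an R-algebra topologically of finite
type and f_1, ..., f_r elements of A generating the unit ideal. Then every complete localization
A⟨f_i⁻¹⟩ is flat over A, and the product of the A⟨f_i⁻¹⟩ is faithfully flat over A. -/
theorem result
    (R : Type u) [CommRing R] (I : Ideal R) (hR : AdicRing.IsBase R I)
    (A : Type u) [CommRing A] [Algebra R A] (hA : AdicRing.TopFiniteType R I A)
    (r : ℕ) (f : Fin r → A) (hf : Ideal.span (Set.range f) = ⊤) :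
    (∀ i, Module.Flat A (AdicRing.CLoc I (f i))) ∧
      Module.FaithfullyFlat A (∀ i, AdicRing.CLoc I (f i)) := by
  have hI : I.FG := by
    obtain ⟨-, ⟨h, -⟩ | ⟨-, -, -, t, -, rfl⟩⟩ := hR
    · exact IsNoetherian.noetherian I
    · exact ⟨{t}, by simp⟩
  have h1 : ∀ i, Module.Flat A (AdicRing.CLoc I (f i)) := fun i => flat_cLoc R I hR A hA (f i)
  refine ⟨h1, ?_⟩
  obtain ⟨n, φ, hφ⟩ := hA
  exact K26.CLocFF.faithfullyFlat_pi I f hf (K26.RPowB.map_le_jacobson φ hφ hI) h1

end Groth.Agent.S11533
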