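import Groth.Statements.S11534
import Groth.Agent.AdicRing.K26.CLocQ
import Mathlib.RingTheory.RingHom.FiniteType
import Mathlib.RingTheory.RingHom.FinitePresentation

set_option autoImplicit false
universe u
open AdicRing

namespace Groth.Agent.S11534

theorem topFiniteType_iff_pow_one (R : Type u) [CommRing R] (I : Ideal R) (hI : I.FG)
    (B : Type u) [CommRing B] [Algebra R B] [IsAdicComplete (I.map (algebraMap R B)) B] :
    TopFiniteType R I B ↔ (algebraMap R (B ⧸ (I ^ 1).map (algebraMap R B))).FiniteType := by
  rw [RingHom.finiteType_algebraMap, pow_one]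
  exact K26.CLocQ.topFiniteType_iff R I hI B

/-- Let R be a base ring of class (N) or (V) for the ideal I, A an R-algebra which is complete and
separated for the I-adic topology, and f_1, ..., f_r elements generating the unit ideal of A. Then A
is topologically of finite type over R if and only if each complete localization A⟨f_i⁻¹⟩ is. -/
theorem result
    (R : Type u) [CommRing R] (I : Ideal R) (hR : AdicRing.IsBase R I)
    (A : Type u) [CommRing A] [Algebra R A] [IsAdicComplete (I.map (algebraMap R A)) A]
    (r : ℕ) (f : Fin r → A) (hf : Ideal.span (Set.range f) = ⊤) :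
    AdicRing.TopFiniteType R I A ↔ ∀ i, AdicRing.TopFiniteType R I (AdicRing.CLoc I (f i)) := by
  have hI : I.FG := by
    obtain ⟨-, ⟨h, -⟩ | ⟨-, -, -, t, -, rfl⟩⟩ := hR
    · exact IsNoetherian.noetherian I
    · exact ⟨{t}, by simp⟩
  have hc : ∀ i, IsAdicComplete (I.map (algebraMap R (CLoc I (f i)))) (CLoc I (f i)) :=
    fun i => K26.CLocQ.isAdicComplete_cLoc_map I (f i) hI
  have hcomp : ∀ i, algebraMap R (CLoc I (f i) ⧸ (I ^ 1).map (algebraMap R (CLoc I (f i)))) =
      (K26.CLocQ.truncMap I (f i) 1).comp (algebraMap R (A ⧸ (I ^ 1).map (algebraMap R A))) :=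
    fun i => rfl
  rw [topFiniteType_iff_pow_one R I hI A]
  constructor
  · intro h i
    rw [topFiniteType_iff_pow_one R I hI (CLoc I (f i)), hcomp]
    refine RingHom.FiniteType.comp ?_ h
    let _ := (K26.CLocQ.truncMap I (f i) 1).toAlgebra
    have h1 := K26.CLocQ.isLocalization_trunc I hI (f i) 1
    have h2 : Algebra.FinitePresentation (A ⧸ (I ^ 1).map (algebraMap R A))
        (CLoc I (f i) ⧸ (I ^ 1).map (algebraMap R (CLoc I (f i)))) :=
      IsLocalization.Away.finitePresentation (Ideal.Quotient.mk _ (f i))
    exact (inferInstance : Algebra.FiniteType (A ⧸ (I ^ 1).map (algebraMap R A))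
        (CLoc I (f i) ⧸ (I ^ 1).map (algebraMap R (CLoc I (f i)))))
  · intro h
    apply RingHom.finiteType_ofLocalizationSpanTarget.ofIsLocalization RingHom.finiteType_respectsIso
      _ (Set.range (fun i => Ideal.Quotient.mk ((I ^ 1).map (algebraMap R A)) (f i)))
    · have h1 : Set.range (fun i => Ideal.Quotient.mk ((I ^ 1).map (algebraMap R A)) (f i)) =
          Ideal.Quotient.mk ((I ^ 1).map (algebraMap R A)) '' Set.range f := by
        rw [← Set.range_comp]; rfl
      rw [h1, ← Ideal.map_span, hf, Ideal.map_top]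
    · rintro ⟨_, i, rfl⟩
      let _ := (K26.CLocQ.truncMap I (f i) 1).toAlgebra
      refine ⟨CLoc I (f i) ⧸ (I ^ 1).map (algebraMap R (CLoc I (f i))), inferInstance,
        inferInstance, K26.CLocQ.isLocalization_trunc I hI (f i) 1, ?_⟩
      have h1 := (topFiniteType_iff_pow_one R I hI (CLoc I (f i))).mp (h i)
      rw [hcomp] at h1
      exact h1

end Groth.Agent.S11534
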