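import Groth.Statements.S11535
import Groth.Agent.S11530
import Groth.Agent.AdicRing.K26.CLocQ
import Mathlib.RingTheory.RingHom.FinitePresentation

set_option autoImplicit false
universe u
open AdicRing

namespace Groth.Agent.S11535

theorem topFinitePresentation_iff
    (R : Type u) [CommRing R] (I : Ideal R) (hR : AdicRing.IsBase R I)
    (A : Type u) [CommRing A] [Algebra R A] [IsAdicComplete (I.map (algebraMap R A)) A] :
    AdicRing.TopFinitePresentation R I A ↔
      ∀ n : ℕ, (Ideal.quotientMap ((I ^ (n + 1)).map (algebraMap R A)) (algebraMap R A)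
        Ideal.le_comap_map).FinitePresentation :=
  Groth.Agent.S11530.result R I hR A

/-- Let R be a base ring of class (N) or (V) for the ideal I, A an R-algebra which is complete and
separated for the I-adic topology, and f_1, ..., f_r elements generating the unit ideal of A. Then A
is topologically of finite presentation over R if and only if each complete localization A⟨f_i⁻¹⟩
is. -/
theorem result
    (R : Type u) [CommRing R] (I : Ideal R) (hR : AdicRing.IsBase R I)
    (A : Type u) [CommRing A] [Algebra R A] [IsAdicComplete (I.map (algebraMap R A)) A]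
    (r : ℕ) (f : Fin r → A) (hf : Ideal.span (Set.range f) = ⊤) :
    AdicRing.TopFinitePresentation R I A ↔
      ∀ i, AdicRing.TopFinitePresentation R I (AdicRing.CLoc I (f i)) := by
  have hI : I.FG := by
    obtain ⟨-, ⟨h, -⟩ | ⟨-, -, -, t, -, rfl⟩⟩ := hR
    · exact IsNoetherian.noetherian I
    · exact ⟨{t}, by simp⟩
  have hc : ∀ i, IsAdicComplete (I.map (algebraMap R (CLoc I (f i)))) (CLoc I (f i)) :=
    fun i => K26.CLocQ.isAdicComplete_cLoc_map I (f i) hI
  have hcomp : ∀ (i : Fin r) (m : ℕ),
      (Ideal.quotientMap ((I ^ m).map (algebraMap R (CLoc I (f i)))) (algebraMap R (CLoc I (f i)))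
        Ideal.le_comap_map) = (K26.CLocQ.truncMap I (f i) m).comp
        (Ideal.quotientMap ((I ^ m).map (algebraMap R A)) (algebraMap R A) Ideal.le_comap_map) := by
    intro i m
    apply Ideal.Quotient.ringHom_ext
    rfl
  rw [topFinitePresentation_iff R I hR A]
  constructor
  · intro h i
    rw [topFinitePresentation_iff R I hR (CLoc I (f i))]
    intro n
    rw [hcomp]
    refine RingHom.FinitePresentation.comp ?_ (h n)
    let _ := (K26.CLocQ.truncMap I (f i) (n + 1)).toAlgebra
    have h1 := K26.CLocQ.isLocalization_trunc I hI (f i) (n + 1)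
    have h2 : Algebra.FinitePresentation (A ⧸ (I ^ (n + 1)).map (algebraMap R A))
        (CLoc I (f i) ⧸ (I ^ (n + 1)).map (algebraMap R (CLoc I (f i)))) :=
      IsLocalization.Away.finitePresentation (Ideal.Quotient.mk _ (f i))
    exact h2
  · intro h n
    apply RingHom.finitePresentation_ofLocalizationSpanTarget.ofIsLocalization
      RingHom.finitePresentation_respectsIso
      _ (Set.range (fun i => Ideal.Quotient.mk ((I ^ (n + 1)).map (algebraMap R A)) (f i)))
    · have h1 : Set.range (fun i => Ideal.Quotient.mk ((I ^ (n + 1)).map (algebraMap R A)) (f i)) =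
          Ideal.Quotient.mk ((I ^ (n + 1)).map (algebraMap R A)) '' Set.range f := by
        rw [← Set.range_comp]; rfl
      rw [h1, ← Ideal.map_span, hf, Ideal.map_top]
    · rintro ⟨_, i, rfl⟩
      let _ := (K26.CLocQ.truncMap I (f i) (n + 1)).toAlgebra
      refine ⟨CLoc I (f i) ⧸ (I ^ (n + 1)).map (algebraMap R (CLoc I (f i))), inferInstance,
        inferInstance, K26.CLocQ.isLocalization_trunc I hI (f i) (n + 1), ?_⟩
      have h1 := (topFinitePresentation_iff R I hR (CLoc I (f i))).mp (h i) n
      rw [hcomp] at h1
      exact h1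

end Groth.Agent.S11535
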