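import Groth.Statements.S11536
import Groth.Agent.S11535
import Groth.Agent.S11533
import Groth.Agent.AdicRing.K26.ChartTors
import Mathlib.RingTheory.Flat.FaithfullyFlat.Algebra

set_option autoImplicit false
universe u
open AdicRing

namespace Groth.Agent.S11536

theorem flat_and_faithfullyFlat
    (R : Type u) [CommRing R] (I : Ideal R) (hR : AdicRing.IsBase R I)
    (A : Type u) [CommRing A] [Algebra R A] (hA : AdicRing.TopFiniteType R I A)
    (r : ℕ) (f : Fin r → A) (hf : Ideal.span (Set.range f) = ⊤) :
    (∀ i, Module.Flat A (AdicRing.CLoc I (f i))) ∧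
      Module.FaithfullyFlat A (∀ i, AdicRing.CLoc I (f i)) :=
  Groth.Agent.S11533.result R I hR A hA r f hf

theorem topFinitePresentation_iff
    (R : Type u) [CommRing R] (I : Ideal R) (hR : AdicRing.IsBase R I)
    (A : Type u) [CommRing A] [Algebra R A] [IsAdicComplete (I.map (algebraMap R A)) A]
    (r : ℕ) (f : Fin r → A) (hf : Ideal.span (Set.range f) = ⊤) :
    AdicRing.TopFinitePresentation R I A ↔
      ∀ i, AdicRing.TopFinitePresentation R I (AdicRing.CLoc I (f i)) :=
  Groth.Agent.S11535.result R I hR A r f hf

theorem noPowTorsion_of_flat {R : Type u} [CommRing R] (I : Ideal R) (hI : I.FG)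
    (A B : Type u) [CommRing A] [CommRing B] [Algebra R A] [Algebra R B] [Algebra A B]
    [IsScalarTower R A B] [Module.Flat A B] (hA : NoPowTorsion I A) : NoPowTorsion I B := by
  intro x n hx
  obtain ⟨m, y, z, hy, hxyz⟩ := K26.ChartTors.exists_sum_of_forall_mul_eq_zero (C := A) (E := B)
    ((I ^ n).map (algebraMap R A)) ((Ideal.FG.pow hI).map _) x (by
      intro a ha
      induction ha using Submodule.span_induction with
      | mem a ha =>
        obtain ⟨b, hb, rfl⟩ := ha
        rw [← IsScalarTower.algebraMap_apply, ← Algebra.smul_def]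
        exact hx b hb
      | zero => rw [map_zero, zero_mul]
      | add a b _ _ ha hb => rw [map_add, add_mul, ha, hb, add_zero]
      | smul c a _ ha => rw [smul_eq_mul, map_mul, mul_assoc, ha, mul_zero])
  rw [hxyz]
  refine Finset.sum_eq_zero (fun j _ => ?_)
  have h1 : y j = 0 := by
    refine hA (y j) n (fun a ha => ?_)
    rw [Algebra.smul_def]
    exact hy j _ (Ideal.mem_map_of_mem _ ha)
  rw [h1, map_zero, zero_mul]

/-- Let R be a base ring of class (N) or (V) for the ideal I, A an R-algebra which is complete and
separated for the I-adic topology, and f_1, ..., f_r elements generating the unit ideal of A. Then A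
is admissible over R if and only if each complete localization A⟨f_i⁻¹⟩ is. -/
theorem result
    (R : Type u) [CommRing R] (I : Ideal R) (hR : AdicRing.IsBase R I)
    (A : Type u) [CommRing A] [Algebra R A] [IsAdicComplete (I.map (algebraMap R A)) A]
    (r : ℕ) (f : Fin r → A) (hf : Ideal.span (Set.range f) = ⊤) :
    AdicRing.Admissible R I A ↔ ∀ i, AdicRing.Admissible R I (AdicRing.CLoc I (f i)) := by
  have hI : I.FG := by
    obtain ⟨-, ⟨h, -⟩ | ⟨-, -, -, t, -, rfl⟩⟩ := hR
    · exact IsNoetherian.noetherian I
    · exact ⟨{t}, by simp⟩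
  have htft : TopFinitePresentation R I A → TopFiniteType R I A := by
    rintro ⟨n, φ, hφ, -⟩
    exact ⟨n, φ, hφ⟩
  constructor
  · rintro ⟨hfp, hT⟩ i
    refine ⟨(topFinitePresentation_iff R I hR A r f hf).mp hfp i, ?_⟩
    have hflat := (flat_and_faithfullyFlat R I hR A (htft hfp) r f hf).1 i
    exact noPowTorsion_of_flat I hI A (CLoc I (f i)) hT
  · intro h
    have hfp : TopFinitePresentation R I A :=
      (topFinitePresentation_iff R I hR A r f hf).mpr (fun i => (h i).1)
    refine ⟨hfp, ?_⟩
    have hff := (flat_and_faithfullyFlat R I hR A (htft hfp) r f hf).2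
    have hinj : Function.Injective (algebraMap A (∀ i, CLoc I (f i))) :=
      (Module.FaithfullyFlat.faithfulSMul (A := A) (B := ∀ i, CLoc I (f i))).algebraMap_injective _ _
    intro x n hx
    apply hinj
    rw [map_zero]
    funext i
    rw [Pi.zero_apply]
    refine (h i).2 _ n (fun a ha => ?_)
    have h1 : algebraMap A (∀ i, CLoc I (f i)) x i = algebraMap A (CLoc I (f i)) x := rfl
    rw [h1, Algebra.smul_def, IsScalarTower.algebraMap_apply R A (CLoc I (f i)), ← map_mul,
      ← Algebra.smul_def, hx a ha, map_zero]

end Groth.Agent.S11536
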