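import Groth.Statements.S11538
import Groth.Agent.AdicRing.K25.FlatLocal

set_option autoImplicit false
universe u v
open scoped TensorProduct
open AdicRing

namespace Groth.Agent.S11538

/-- Let A be a commutative ring, π an element of A which is not a zero divisor and M an A-module. Then M
is flat over A if and only if the π-power torsion of M vanishes, (A/πA) ⊗_A M is flat over A/πA, and
A[π⁻¹] ⊗_A M is flat over A[π⁻¹]. -/
theorem result
    (A : Type u) [CommRing A] (π : A) (hπ : π ∈ nonZeroDivisors A)
    (M : Type v) [AddCommGroup M] [Module A M] :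
    Module.Flat A M ↔
      (∀ (x : M) (n : ℕ), π ^ n • x = 0 → x = 0) ∧
        Module.Flat (A ⧸ Ideal.span {π}) ((A ⧸ Ideal.span {π}) ⊗[A] M) ∧
        Module.Flat (Localization.Away π) ((Localization.Away π) ⊗[A] M) := by
  constructor
  · intro h
    refine ⟨?_, inferInstance, inferInstance⟩
    intro x n hx
    have h1 : Function.Injective (LinearMap.lsmul A A (π ^ n)) := by
      rw [injective_iff_map_eq_zero]
      intro a ha
      exact (mul_left_mem_nonZeroDivisors_eq_zero_iff (pow_mem hπ n)).1 ha
    have h2 := Module.Flat.rTensor_preserves_injective_linearMap (M := M) _ h1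
    have h3 : ((LinearMap.lsmul A A (π ^ n)).rTensor M) ((1 : A) ⊗ₜ[A] x) = 0 := by
      rw [LinearMap.rTensor_tmul, LinearMap.lsmul_apply, TensorProduct.smul_tmul, hx,
        TensorProduct.tmul_zero]
    have h4 : (1 : A) ⊗ₜ[A] x = 0 := h2 (by rw [h3, map_zero])
    have h5 := congrArg (TensorProduct.lid A M) h4
    simpa using h5
  · rintro ⟨h1, h2, h3⟩
    exact K25.FlatLocal.flat_of_flat π hπ M h1 h2 h3

end Groth.Agent.S11538
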