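import Groth.Statements.S11540
import Groth.Agent.S11539
import Groth.Agent.AdicRing.K26.ChartTors

set_option autoImplicit false
universe u
open AdicRing

namespace Groth.Agent.S11540

theorem flat_adicCompletion
    (R : Type u) [CommRing R] (I : Ideal R) (hR : AdicRing.IsBase R I)
    (A : Type u) [CommRing A] [Algebra R A] (hA : AdicRing.TopFiniteType R I A)
    (C : Type u) [CommRing C] [Algebra R C] [Algebra A C] [IsScalarTower R A C]
    [Algebra.FiniteType A C] :
    Module.Flat C (AdicCompletion (I.map (algebraMap R C)) C) :=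
  Groth.Agent.S11539.result R I hR A hA C

/-- Let R be a base ring of class (N) or (V) for the ideal I, A an admissible R-algebra, f_0, ..., f_r
elements generating an open ideal of A, and C_i the I-adic completion of the chart algebra A[f_j/f_i
; j ≠ i]. In C_i the I-power torsion and the f_i-power torsion coincide. -/
theorem result
    (R : Type u) [CommRing R] (I : Ideal R) (hR : AdicRing.IsBase R I)
    (A : Type u) [CommRing A] [Algebra R A] (hA : AdicRing.Admissible R I A)
    (r : ℕ) (f : Fin (r + 1) → A) (k : ℕ)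
    (hopen : (I ^ k).map (algebraMap R A) ≤ Ideal.span (Set.range f)) (i : Fin (r + 1))
    (x : AdicRing.chartCompl I f i) :
    (∃ n : ℕ, ∀ a ∈ I ^ n, a • x = 0) ↔
      ∃ n : ℕ, algebraMap A (AdicRing.chartCompl I f i) (f i) ^ n * x = 0 := by
  classical
  have hI : I.FG := by
    obtain ⟨-, ⟨h, -⟩ | ⟨-, -, -, t, -, rfl⟩⟩ := hR
    · exact IsNoetherian.noetherian I
    · exact ⟨{t}, by simp⟩
  have hAft : TopFiniteType R I A := by
    obtain ⟨⟨m, φ, hφ, -⟩, -⟩ := hA
    exact ⟨m, φ, hφ⟩
  have hft : Algebra.FiniteType A (chartAlg f i) := inferInstance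
  have hflat : Module.Flat (chartAlg f i) (chartCompl I f i) :=
    flat_adicCompletion R I hR A hAft (chartAlg f i)
  have hmap : ∀ a : A, algebraMap A (chartCompl I f i) a =
      algebraMap (chartAlg f i) (chartCompl I f i) (algebraMap A (chartAlg f i) a) := fun _ => rfl
  have hmapR : ∀ a : R, algebraMap R (chartCompl I f i) a =
      algebraMap (chartAlg f i) (chartCompl I f i) (algebraMap R (chartAlg f i) a) := fun _ => rfl
  constructor
  · rintro ⟨n, hn⟩
    obtain ⟨m, y, z, hy, hxyz⟩ := K26.ChartTors.exists_sum_of_forall_mul_eq_zero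
      ((I ^ n).map (algebraMap R (chartAlg f i))) ((Ideal.FG.pow hI).map _) x (by
        intro a ha
        induction ha using Submodule.span_induction with
        | mem a ha =>
          obtain ⟨b, hb, rfl⟩ := ha
          rw [← hmapR, ← Algebra.smul_def]
          exact hn b hb
        | zero => rw [map_zero, zero_mul]
        | add a b _ _ ha hb => rw [map_add, add_mul, ha, hb, add_zero]
        | smul c a _ ha => rw [smul_eq_mul, map_mul, mul_assoc, ha, mul_zero])
    have h1 : ∀ j, ∃ N : ℕ, algebraMap A (chartAlg f i) (f i) ^ N * y j = 0 := by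
      intro j
      refine K26.ChartTors.exists_pow_mul_eq_zero_of_chart I hI hA.2 f i n (y j) (fun a ha => ?_)
      exact hy j _ (Ideal.mem_map_of_mem _ ha)
    choose N hN using h1
    refine ⟨∑ j, N j, ?_⟩
    rw [hxyz, Finset.mul_sum]
    refine Finset.sum_eq_zero (fun j _ => ?_)
    have h4 : N j ≤ ∑ j, N j := Finset.single_le_sum (f := N) (fun _ _ => Nat.zero_le _)
      (Finset.mem_univ j)
    obtain ⟨l, hl⟩ := Nat.exists_eq_add_of_le h4
    have h5 : algebraMap (chartAlg f i) (chartCompl I f i) (algebraMap A (chartAlg f i) (f i)) ^ N j *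
        algebraMap (chartAlg f i) (chartCompl I f i) (y j) = 0 := by
      rw [← map_pow, ← map_mul, hN j, map_zero]
    rw [hl, pow_add, mul_comm (_ ^ N j), mul_assoc, ← mul_assoc (_ ^ N j), hmap, h5, zero_mul,
      mul_zero]
  · rintro ⟨n, hn⟩
    refine ⟨k * n, fun a ha => ?_⟩
    have h1 : algebraMap R (chartAlg f i) a ∈
        Ideal.span {algebraMap A (chartAlg f i) (f i) ^ n} := by
      have h2 : algebraMap R A a ∈ (Ideal.span (Set.range f)) ^ n := by
        have h3 := Ideal.mem_map_of_mem (algebraMap R A) ha
        rw [pow_mul, Ideal.map_pow] at h3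
        exact Ideal.pow_right_mono hopen n h3
      have h4 := Ideal.mem_map_of_mem (algebraMap A (chartAlg f i)) h2
      rw [Ideal.map_pow, ← IsScalarTower.algebraMap_apply] at h4
      have h5 := Ideal.pow_right_mono (K26.ChartTors.map_span_le f i) n h4
      rwa [Ideal.span_singleton_pow] at h5
    obtain ⟨c, hc⟩ := Ideal.mem_span_singleton.mp h1
    rw [Algebra.smul_def, hmapR, hc, mul_comm (_ ^ n), map_mul, mul_assoc, map_pow, ← hmap, hn,
      mul_zero]

end Groth.Agent.S11540
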