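import Groth.Statements.S11541
import Groth.Agent.AdicRing.K26.RigPt
import Mathlib.RingTheory.Localization.Integral
import Mathlib.RingTheory.Algebraic.Integral

set_option autoImplicit false
universe u
open AdicRing

namespace Groth.Agent.S11541

/-- Let R be a complete valuation ring of height one with t a nonzero element generating an ideal of
definition, and B an admissible R-algebra which is a local integral domain of Krull dimension one.
Then B is a finite R-module whose integral closure inside its fraction field is a valuation ring. -/
theorem result
    (R : Type u) [CommRing R] [IsDomain R] [ValuationRing R] [Ring.KrullDimLE 1 R]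
    (t : R) (ht : t ≠ 0) [IsAdicComplete (Ideal.span {t}) R]
    (B : Type u) [CommRing B] [Algebra R B] [IsDomain B] [IsLocalRing B]
    (hB : AdicRing.Admissible R (Ideal.span {t}) B) (hdim : ringKrullDim B = 1) :
    Module.Finite R B ∧ ValuationRing (integralClosure B (FractionRing B)) := by
  obtain ⟨⟨n, φ, hφ, -⟩, htf⟩ := hB
  have htB : algebraMap R B t ≠ 0 := K26.RigPt.algebraMap_ne_zero htf
  have hfin : Module.Finite R B := K26.RigPt.moduleFinite t ht φ hφ htB hdim
  refine ⟨hfin, ?_⟩
  have hI : (Ideal.span {t}).FG := ⟨{t}, by simp⟩
  have hjac : algebraMap R B t ∈ Ideal.jacobson (⊥ : Ideal B) :=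
    K26.RPowB.map_le_jacobson φ hφ hI (Ideal.mem_map_of_mem _ (Ideal.mem_span_singleton_self t))
  have hinj : Function.Injective (algebraMap R B) := K26.RigPt.injective_algebraMap htB hjac
  have hH : HenselianLocalRing R := K26.ComplVal.henselianLocalRing t ht
  have hinjL : Function.Injective (algebraMap R (FractionRing B)) := by
    rw [IsScalarTower.algebraMap_eq R B (FractionRing B)]
    exact (IsFractionRing.injective B _).comp hinj
  have halg1 : Algebra.IsAlgebraic R B := inferInstance
  have halg2 : Algebra.IsAlgebraic B (FractionRing B) :=
    (IsFractionRing.comap_isAlgebraic_iff (A := B) (K := FractionRing B)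
      (C := FractionRing B)).mpr inferInstance
  have halg : Algebra.IsAlgebraic R (FractionRing B) := Algebra.IsAlgebraic.trans R B _
  have hfrac : IsFractionRing (integralClosure B (FractionRing B)) (FractionRing B) :=
    integralClosure.isFractionRing_of_algebraic
      (fun x hx => (map_eq_zero_iff _ (IsFractionRing.injective B (FractionRing B))).mp hx)
  rw [ValuationRing.iff_isInteger_or_isInteger _ (FractionRing B)]
  intro x
  rcases K26.ComplVal.isIntegral_or_isIntegral_inv R hinjL x (halg.isAlgebraic x) with h | h
  · left; exact ⟨⟨x, h.tower_top⟩, rfl⟩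
  · right; exact ⟨⟨x⁻¹, h.tower_top⟩, rfl⟩

end Groth.Agent.S11541
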