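import Groth.Statements.S11542
import Groth.Agent.AdicRing.K26.RigPt
import Groth.Agent.AdicRing.K26.GenFib
import Mathlib.RingTheory.Nakayama

set_option autoImplicit false
universe u
open AdicRing

namespace Groth.Agent.S11542

/-- Let R be a complete valuation ring of height one with t a nonzero element generating an ideal of
definition, A and B admissible R-algebras with B a local integral domain of Krull dimension one, f
an element of A and u a surjective R-algebra homomorphism from the complete localization A⟨f⁻¹⟩ onto
B. Then the composite of u with the canonical map A → A⟨f⁻¹⟩ is surjective. -/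
theorem result
    (R : Type u) [CommRing R] [IsDomain R] [ValuationRing R] [Ring.KrullDimLE 1 R]
    (t : R) (ht : t ≠ 0) [IsAdicComplete (Ideal.span {t}) R]
    (A : Type u) [CommRing A] [Algebra R A] (hA : AdicRing.Admissible R (Ideal.span {t}) A) (f : A)
    (B : Type u) [CommRing B] [Algebra R B] [IsDomain B] [IsLocalRing B]
    (hB : AdicRing.Admissible R (Ideal.span {t}) B) (hdim : ringKrullDim B = 1)
    (u : AdicRing.CLoc (Ideal.span {t}) f →ₐ[R] B) (hu : Function.Surjective u) :
    Function.Surjective
      (u.toRingHom.comp (algebraMap A (AdicRing.CLoc (Ideal.span {t}) f))) := by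
  obtain ⟨⟨n, φ, hφ, -⟩, htf⟩ := hB
  have htB : algebraMap R B t ≠ 0 := K26.RigPt.algebraMap_ne_zero htf
  have hfin : Module.Finite R B := K26.RigPt.moduleFinite t ht φ hφ htB hdim
  have htu : ¬ IsUnit t := K26.ComplVal.not_isUnit_of_isAdicComplete t
  have hI : (Ideal.span {t}).FG := ⟨{t}, by simp⟩
  let v : Localization.Away f →ₐ[R] B :=
    u.comp (IsScalarTower.toAlgHom R (Localization.Away f) (CLoc (Ideal.span {t}) f))
  let w : A →ₐ[R] B := v.comp (IsScalarTower.toAlgHom R A (Localization.Away f))
  have hw : ∀ a, w a = v (algebraMap A (Localization.Away f) a) := fun a => rfl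
  -- the image of A is closed under the inverse of f
  let b : B := v (IsLocalization.Away.invSelf f)
  have hfb : w f * b = 1 := by
    rw [hw, ← map_mul, IsLocalization.Away.mul_invSelf, map_one]
  have hbint : IsIntegral w.range b := by
    have h1 : IsIntegral R b := Algebra.IsIntegral.isIntegral b
    exact h1.tower_top
  have hwf : w f ∈ w.range := ⟨f, rfl⟩
  have hunit : IsUnit (⟨w f, hwf⟩ : w.range) := by
    refine K26.GenFib.isUnit_of_isIntegral_of_mul_eq_one (D := w.range) (E := B)
      Subtype.val_injective b hbint ⟨w f, hwf⟩ ?_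
    rw [mul_comm]
    exact hfb
  have hbmem : b ∈ w.range := by
    obtain ⟨c, hc⟩ := hunit.exists_right_inv
    have h1 : w f * (c : B) = 1 := congrArg Subtype.val hc
    have h2 : b = c := by
      calc b = b * (w f * (c : B)) := by rw [h1, mul_one]
        _ = (w f * b) * (c : B) := by ring
        _ = c := by rw [hfb, one_mul]
    rw [h2]
    exact c.2
  have hvmem : ∀ x : Localization.Away f, v x ∈ w.range := by
    intro x
    obtain ⟨m, a, hx⟩ := IsLocalization.Away.surj f x
    have h1 : v x = w a * b ^ m := by
      have h2 : v x * (w f) ^ m = w a := by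
        rw [hw, hw, ← map_pow, ← map_mul, hx]
      rw [← h2, mul_assoc, ← mul_pow, hfb, one_pow, mul_one]
    rw [h1]
    exact mul_mem ⟨a, rfl⟩ (pow_mem hbmem m)
  -- Nakayama
  have htop : (w.range.toSubmodule : Submodule R B) ⊔ (Ideal.span {t} • ⊤ : Submodule R B) = ⊤ := by
    rw [eq_top_iff]
    intro y _
    obtain ⟨z, rfl⟩ := hu y
    obtain ⟨s, hs⟩ := K26.Compl.exists_sub_of_mem _ (hI.map (algebraMap R (Localization.Away f))) z 1
    rw [pow_one, Ideal.map_map] at hs
    have h1 := Ideal.mem_map_of_mem (u : CLoc (Ideal.span {t}) f →+* B) hs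
    rw [Ideal.map_map] at h1
    have h2 : ((u : CLoc (Ideal.span {t}) f →+* B).comp
        ((algebraMap (Localization.Away f) (CLoc (Ideal.span {t}) f)).comp
          (algebraMap R (Localization.Away f)))) = algebraMap R B := u.comp_algebraMap
    rw [h2] at h1
    have h3 : u z = v s + (u z - v s) := by ring
    rw [h3]
    refine Submodule.add_mem_sup (hvmem s) ?_
    rw [Ideal.smul_top_eq_map, Submodule.restrictScalars_mem]
    have h4 : (u : CLoc (Ideal.span {t}) f →+* B) (z - AdicCompletion.of _ _ s) = u z - v s :=
      map_sub u _ _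
    rw [← h4]
    exact h1
  have hle : (⊤ : Submodule R B) ≤ w.range.toSubmodule := by
    apply Submodule.le_of_le_smul_of_le_jacobson_bot (I := Ideal.span {t}) hfin.fg_top
    · exact IsAdicComplete.le_jacobson_bot _
    · exact htop.ge
  intro y
  obtain ⟨a, ha⟩ := hle (Submodule.mem_top : y ∈ ⊤)
  exact ⟨a, ha⟩

end Groth.Agent.S11542
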