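import Groth.Statements.S11543
import Groth.Agent.AdicRing.K26.GenMax
import Groth.Agent.AdicRing.K26.GenFib
import Groth.Agent.AdicRing.K26.FinDom

set_option autoImplicit false
universe u
open scoped TensorProduct
open AdicRing

namespace Groth.Agent.S11543

/-- Let R be a complete valuation ring of height one with t a nonzero element generating an ideal of
definition and K its field of fractions, and let A be an admissible R-algebra. Then the non-open
prime ideals p of A (those not containing t) with A/p of Krull dimension one correspond bijectively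
to the maximal ideals of A ⊗_R K: the extension of such a p along A → A ⊗_R K is maximal and
contracts back to p, and every maximal ideal of A ⊗_R K contracts to such a prime and is the
extension of its contraction. -/
theorem result
    (R : Type u) [CommRing R] [IsDomain R] [ValuationRing R] [Ring.KrullDimLE 1 R]
    (t : R) (ht : t ≠ 0) [IsAdicComplete (Ideal.span {t}) R]
    (A : Type u) [CommRing A] [Algebra R A] (hA : AdicRing.Admissible R (Ideal.span {t}) A) :
    (∀ p : Ideal A, p.IsPrime → algebraMap R A t ∉ p → ringKrullDim (A ⧸ p) = 1 →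
        (p.map (Algebra.TensorProduct.includeLeftRingHom :
          A →+* A ⊗[R] FractionRing R)).IsMaximal ∧
        (p.map (Algebra.TensorProduct.includeLeftRingHom :
          A →+* A ⊗[R] FractionRing R)).comap (Algebra.TensorProduct.includeLeftRingHom :
          A →+* A ⊗[R] FractionRing R) = p) ∧
      (∀ m : Ideal (A ⊗[R] FractionRing R), m.IsMaximal →
        algebraMap R A t ∉ m.comap (Algebra.TensorProduct.includeLeftRingHom :
            A →+* A ⊗[R] FractionRing R) ∧
          ringKrullDim (A ⧸ m.comap (Algebra.TensorProduct.includeLeftRingHom :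
            A →+* A ⊗[R] FractionRing R)) = 1 ∧
          (m.comap (Algebra.TensorProduct.includeLeftRingHom :
            A →+* A ⊗[R] FractionRing R)).map (Algebra.TensorProduct.includeLeftRingHom :
            A →+* A ⊗[R] FractionRing R) = m) := by
  classical
  have htu : ¬ IsUnit t := K26.ComplVal.not_isUnit_of_isAdicComplete t
  have hI : (Ideal.span {t}).FG := ⟨{t}, by simp⟩
  have heq : (Algebra.TensorProduct.includeLeftRingHom : A →+* A ⊗[R] FractionRing R) =
      algebraMap A (A ⊗[R] FractionRing R) := RingHom.ext fun _ => rfl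
  rw [heq]
  obtain ⟨⟨n, φ, hφ, -⟩, -⟩ := hA
  let M := Algebra.algebraMapSubmonoid A (nonZeroDivisors R)
  have htE : IsUnit (algebraMap A (A ⊗[R] FractionRing R) (algebraMap R A t)) := by
    rw [← IsScalarTower.algebraMap_apply]
    exact K26.GenFib.isUnit_algebraMap t ht
  -- contractions of proper ideals do not contain `t`
  have htcomap : ∀ m : Ideal (A ⊗[R] FractionRing R), m ≠ ⊤ →
      algebraMap R A t ∉ m.comap (algebraMap A (A ⊗[R] FractionRing R)) := by
    intro m hm h
    exact hm (Ideal.eq_top_of_isUnit_mem _ h htE)
  constructor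
  · intro p hp htp hdim
    have hdisj : Disjoint (M : Set A) (p : Set A) := by
      rw [Set.disjoint_left]
      rintro _ ⟨c, hc, rfl⟩ hcp
      obtain ⟨k, d, hd⟩ := K26.ComplVal.exists_dvd_pow t htu c (nonZeroDivisors.ne_zero hc)
      apply htp
      apply hp.mem_of_pow_mem k
      rw [← map_pow, hd, map_mul]
      exact p.mul_mem_right _ hcp
    have hcm : (p.map (algebraMap A (A ⊗[R] FractionRing R))).comap
        (algebraMap A (A ⊗[R] FractionRing R)) = p :=
      IsLocalization.comap_map_of_isPrime_disjoint M _ hp hdisj
    refine ⟨?_, hcm⟩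
    have hne : p.map (algebraMap A (A ⊗[R] FractionRing R)) ≠ ⊤ := by
      intro h
      rw [h, Ideal.comap_top] at hcm
      exact hp.ne_top hcm.symm
    obtain ⟨N, hN, hpN⟩ := Ideal.exists_le_maximal _ hne
    have hq : N.comap (algebraMap A (A ⊗[R] FractionRing R)) = p := by
      apply le_antisymm
      · intro x hx
        by_contra hxp
        have hprime := (K26.DimOne.ringKrullDim_eq_one_iff.mp hdim).2
        have hjac : algebraMap R (A ⧸ p) t ∈ Ideal.jacobson (⊥ : Ideal (A ⧸ p)) :=
          K26.RPowB.map_le_jacobson ((Ideal.Quotient.mkₐ R p).comp φ)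
            (Ideal.Quotient.mk_surjective.comp hφ) hI
            (Ideal.mem_map_of_mem _ (Ideal.mem_span_singleton_self t))
        have hx0 : Ideal.Quotient.mk p x ≠ 0 := fun h => hxp (Ideal.Quotient.eq_zero_iff_mem.mp h)
        obtain ⟨k, y, hy⟩ := K26.RigPt.exists_pow_mem_span hprime _ hjac _ hx0
        obtain ⟨z, rfl⟩ := Ideal.Quotient.mk_surjective y
        have h1 : (algebraMap R A t) ^ k - x * z ∈ p := by
          rw [← Ideal.Quotient.eq, map_mul, ← hy, map_pow]
          rfl
        have h2 : (algebraMap R A t) ^ k ∈ N.comap (algebraMap A (A ⊗[R] FractionRing R)) := by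
          have h3 : (algebraMap R A t) ^ k = ((algebraMap R A t) ^ k - x * z) + x * z := by ring
          rw [h3]
          refine add_mem ?_ (Ideal.mul_mem_right _ _ hx)
          exact (Ideal.le_comap_map.trans (Ideal.comap_mono hpN)) h1
        have hNp : (N.comap (algebraMap A (A ⊗[R] FractionRing R))).IsPrime :=
          Ideal.comap_isPrime _ _
        exact htcomap N hN.ne_top (hNp.mem_of_pow_mem k h2)
      · exact Ideal.le_comap_map.trans (Ideal.comap_mono hpN)
    have h4 : p.map (algebraMap A (A ⊗[R] FractionRing R)) = N := by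
      rw [← hq]
      exact IsLocalization.map_comap M _ N
    rw [h4]
    exact hN
  · intro m hm
    have hmp : (m.comap (algebraMap A (A ⊗[R] FractionRing R))).IsPrime := Ideal.comap_isPrime _ _
    have htp := htcomap m hm.ne_top
    refine ⟨htp, ?_, IsLocalization.map_comap M _ m⟩
    set p := m.comap (algebraMap A (A ⊗[R] FractionRing R)) with hpdef
    have htB : algebraMap R (A ⧸ p) t ≠ 0 := fun h => htp (Ideal.Quotient.eq_zero_iff_mem.mp h)
    have hφ' : Function.Surjective ((Ideal.Quotient.mkₐ R p).comp φ) :=
      Ideal.Quotient.mk_surjective.comp hφ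
    have hjac : algebraMap R (A ⧸ p) t ∈ Ideal.jacobson (⊥ : Ideal (A ⧸ p)) :=
      K26.RPowB.map_le_jacobson _ hφ' hI
        (Ideal.mem_map_of_mem _ (Ideal.mem_span_singleton_self t))
    have hinj : Function.Injective (algebraMap R (A ⧸ p)) :=
      K26.RigPt.injective_algebraMap htB hjac
    have hdvd : ∀ x : A ⧸ p, x ≠ 0 → ∃ k : ℕ, x ∣ (algebraMap R (A ⧸ p) t) ^ k := by
      intro x hx
      obtain ⟨a, rfl⟩ := Ideal.Quotient.mk_surjective x
      have ha : algebraMap A (A ⊗[R] FractionRing R) a ∉ m := fun h =>
        hx (Ideal.Quotient.eq_zero_iff_mem.mpr h)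
      obtain ⟨y, i, hi, hy⟩ := hm.exists_inv ha
      obtain ⟨c, hc, b, hb⟩ := K26.GenFib.exists_smul_eq (R := R) y
      obtain ⟨k, d, hd⟩ := K26.ComplVal.exists_dvd_pow t htu c hc
      refine ⟨k, Ideal.Quotient.mk p (algebraMap R A d * b), ?_⟩
      have h1 : (algebraMap R A t) ^ k - a * (algebraMap R A d * b) ∈ p := by
        rw [hpdef, Ideal.mem_comap]
        rw [K26.GenFib.smul_def'] at hb
        have h2 : algebraMap A (A ⊗[R] FractionRing R)
            ((algebraMap R A t) ^ k - a * (algebraMap R A d * b)) =
            algebraMap R (A ⊗[R] FractionRing R) (t ^ k) * i := by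
          rw [map_sub, map_mul, map_mul, map_pow, ← IsScalarTower.algebraMap_apply,
            ← IsScalarTower.algebraMap_apply, ← hb]
          have h3 : i = 1 - y * algebraMap A (A ⊗[R] FractionRing R) a := by rw [← hy]; ring
          rw [h3, map_pow, mul_sub, mul_one]
          have h4 : algebraMap R (A ⊗[R] FractionRing R) t ^ k =
              algebraMap R (A ⊗[R] FractionRing R) c * algebraMap R (A ⊗[R] FractionRing R) d := by
            rw [← map_pow, hd, map_mul]
          congr 1
          rw [h4]
          ring
        rw [h2]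
        exact Ideal.mul_mem_left _ _ hi
      have h5 := Ideal.Quotient.eq.mpr h1
      rw [map_mul, map_pow] at h5
      exact h5
    have hfin : Module.Finite R (A ⧸ p) :=
      K26.GenMax.moduleFinite_of_forall_dvd t ht _ hφ' htB hdvd
    exact (K26.DimOne.ringKrullDim_eq_one_iff_of_isIntegral hinj).mp
      (K26.FinDom.ringKrullDim_eq_one R t ht htu)

end Groth.Agent.S11543
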