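import Groth.Statements.S11544
import Groth.Agent.AdicRing.K26.ComplVal
import Mathlib.RingTheory.Norm.Basic
import Mathlib.Algebra.Polynomial.Reverse
import Mathlib.Algebra.GCDMonoid.IntegrallyClosed
import Mathlib.RingTheory.PrincipalIdealDomain
import Mathlib.RingTheory.Valuation.ValuationRing

set_option autoImplicit false
universe u
open AdicRing

namespace Groth.Agent.S11544

open Polynomial

theorem aeval_inv_reverse {K L : Type*} [Field K] [Field L] [Algebra K L] (x : L) (hx0 : x ≠ 0)
    (p : K[X]) (hp : aeval x p = 0) : aeval x⁻¹ p.reverse = 0 := by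
  let _ : Invertible x := invertibleOfNonzero hx0
  have h := (eval₂_reverse_eq_zero_iff (algebraMap K L) x p).mpr hp
  rwa [invOf_eq_inv] at h

theorem natDegree_minpoly_inv_le {K L : Type*} [Field K] [Field L] [Algebra K L] (x : L)
    (hx0 : x ≠ 0) (hx : IsIntegral K x) :
    (minpoly K x⁻¹).natDegree ≤ (minpoly K x).natDegree := by
  have hr : aeval x⁻¹ (minpoly K x).reverse = 0 := aeval_inv_reverse x hx0 _ (minpoly.aeval K x)
  have hne : (minpoly K x).reverse ≠ 0 := by
    rw [Ne, reverse_eq_zero]
    exact minpoly.ne_zero hx
  exact (natDegree_le_natDegree (minpoly.degree_le_of_ne_zero K x⁻¹ hne hr)).trans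
    (reverse_natDegree_le _)

theorem reverse_minpoly {K L : Type*} [Field K] [Field L] [Algebra K L] (x : L)
    (hx0 : x ≠ 0) (hx : IsIntegral K x) :
    (minpoly K x).reverse = C ((minpoly K x).coeff 0) * minpoly K x⁻¹ := by
  have hxi : IsIntegral K x⁻¹ := by
    have h1 : IsAlgebraic K x := hx.isAlgebraic
    exact h1.inv.isIntegral
  have hdeg : (minpoly K x⁻¹).natDegree = (minpoly K x).natDegree := by
    apply le_antisymm (natDegree_minpoly_inv_le x hx0 hx)
    have := natDegree_minpoly_inv_le x⁻¹ (inv_ne_zero hx0) hxi
    rwa [inv_inv] at this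
  set n := (minpoly K x).natDegree with hn
  by_contra hcon
  have hne : (minpoly K x).reverse - C ((minpoly K x).coeff 0) * minpoly K x⁻¹ ≠ 0 :=
    sub_ne_zero.mpr hcon
  have h0 : aeval x⁻¹ ((minpoly K x).reverse - C ((minpoly K x).coeff 0) * minpoly K x⁻¹) = 0 := by
    rw [map_sub, map_mul, minpoly.aeval, mul_zero, sub_zero]
    exact aeval_inv_reverse x hx0 _ (minpoly.aeval K x)
  have h1 := natDegree_le_natDegree (minpoly.degree_le_of_ne_zero K x⁻¹ hne h0)
  rw [hdeg] at h1
  have hnpos : 0 < n := minpoly.natDegree_pos hx
  have h2 : ((minpoly K x).reverse - C ((minpoly K x).coeff 0) * minpoly K x⁻¹).natDegree < n := by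
    apply lt_of_le_of_ne
    · refine (natDegree_sub_le _ _).trans (max_le (reverse_natDegree_le _) ?_)
      exact (natDegree_C_mul_le _ _).trans hdeg.le
    · intro heq
      have h3 : ((minpoly K x).reverse - C ((minpoly K x).coeff 0) * minpoly K x⁻¹).coeff n = 0 := by
        rw [coeff_sub, coeff_C_mul, coeff_reverse, ← hn, revAt_le le_rfl, Nat.sub_self]
        have h4 : (minpoly K x⁻¹).coeff n = 1 := by
          rw [← hdeg]; exact minpoly.monic hxi
        rw [h4, mul_one, sub_self]
      rw [← heq] at h3
      exact hne (leadingCoeff_eq_zero.mp h3)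
  omega

/-- Let R be a complete valuation ring of height one with t a nonzero element generating an ideal of
definition, K its field of fractions, L an algebraic extension field of K and α an element of L.
Then α is integral over R if and only if the norm of α from K(α) down to K lies in R. -/
theorem result
    (R : Type u) [CommRing R] [IsDomain R] [ValuationRing R] [Ring.KrullDimLE 1 R]
    (t : R) (ht : t ≠ 0) [IsAdicComplete (Ideal.span {t}) R]
    (L : Type u) [Field L] [Algebra R L] [Algebra (FractionRing R) L]
    [IsScalarTower R (FractionRing R) L] [Algebra.IsAlgebraic (FractionRing R) L] (α : L) :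
    IsIntegral R α ↔
      Algebra.norm (FractionRing R) (IntermediateField.AdjoinSimple.gen (FractionRing R) α) ∈
        (algebraMap R (FractionRing R)).range := by
  classical
  have hH : HenselianLocalRing R := K26.ComplVal.henselianLocalRing t ht
  have halg : IsIntegral (FractionRing R) α := Algebra.IsIntegral.isIntegral α
  -- the norm is, up to sign, the constant coefficient of the minimal polynomial
  have hnorm : Algebra.norm (FractionRing R)
      (IntermediateField.AdjoinSimple.gen (FractionRing R) α) =
      (-1) ^ (minpoly (FractionRing R) α).natDegree * (minpoly (FractionRing R) α).coeff 0 := by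
    have h := Algebra.PowerBasis.norm_gen_eq_coeff_zero_minpoly
      (IntermediateField.adjoin.powerBasis halg)
    rw [IntermediateField.adjoin.powerBasis_gen, IntermediateField.minpoly_gen] at h
    rw [h]
    rfl
  have hiff : Algebra.norm (FractionRing R)
      (IntermediateField.AdjoinSimple.gen (FractionRing R) α) ∈
        (algebraMap R (FractionRing R)).range ↔
      (minpoly (FractionRing R) α).coeff 0 ∈ (algebraMap R (FractionRing R)).range := by
    rw [hnorm]
    rcases neg_one_pow_eq_or (FractionRing R) (minpoly (FractionRing R) α).natDegree with h | h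
    · rw [h, one_mul]
    · rw [h, neg_one_mul, neg_mem_iff]
  rw [hiff]
  constructor
  · intro hα
    rw [minpoly.isIntegrallyClosed_eq_field_fractions' (FractionRing R) hα, coeff_map]
    exact ⟨_, rfl⟩
  · intro h0
    rcases eq_or_ne α 0 with rfl | hα0
    · exact isIntegral_zero
    have hinj : Function.Injective (algebraMap R L) := by
      rw [IsScalarTower.algebraMap_eq R (FractionRing R) L]
      exact (algebraMap (FractionRing R) L).injective.comp (IsFractionRing.injective R _)
    have hαR : IsAlgebraic R α := (IsFractionRing.isAlgebraic_iff R (FractionRing R) L).mpr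
      halg.isAlgebraic
    rcases K26.ComplVal.isIntegral_or_isIntegral_inv R hinj α hαR with h | h
    · exact h
    have hrev := reverse_minpoly (K := FractionRing R) α hα0 halg
    rw [minpoly.isIntegrallyClosed_eq_field_fractions' (FractionRing R) h] at hrev
    -- all coefficients of the minimal polynomial lie in R
    have hcoeff : ∀ i, (minpoly (FractionRing R) α).coeff i ∈
        (algebraMap R (FractionRing R)).range := by
      intro i
      by_cases hi : i ≤ (minpoly (FractionRing R) α).natDegree
      · have h1 : (minpoly (FractionRing R) α).coeff i =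
            (minpoly (FractionRing R) α).reverse.coeff
              ((minpoly (FractionRing R) α).natDegree - i) := by
          rw [coeff_reverse, revAt_le (Nat.sub_le _ _), Nat.sub_sub_self hi]
        rw [h1, hrev, coeff_C_mul, coeff_map]
        exact mul_mem h0 ⟨_, rfl⟩
      · rw [coeff_eq_zero_of_natDegree_lt (not_le.mp hi)]
        exact zero_mem _
    have hlift : minpoly (FractionRing R) α ∈ lifts (algebraMap R (FractionRing R)) := by
      rw [lifts_iff_coeff_lifts]
      exact hcoeff
    obtain ⟨q, hq, -, hqm⟩ := lifts_and_natDegree_eq_and_monic hlift (minpoly.monic halg)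
    refine ⟨q, hqm, ?_⟩
    rw [← aeval_def, ← aeval_map_algebraMap (FractionRing R), hq, minpoly.aeval]

end Groth.Agent.S11544
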