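import Groth.Statements.S11545
import Groth.Agent.AdicRing.K26.Compl

set_option autoImplicit false
universe u
open AdicRing

namespace Groth.Agent.S11545

theorem fg_of_isBase (R : Type u) [CommRing R] (I : Ideal R) (hR : AdicRing.IsBase R I) :
    I.FG := by
  obtain ⟨-, ⟨h, -⟩ | ⟨-, -, -, t, -, rfl⟩⟩ := hR
  · exact IsNoetherian.noetherian I
  · exact ⟨{t}, by simp⟩

section chart

variable {R : Type u} [CommRing R] {A : Type u} [CommRing A] [Algebra R A] (r : ℕ)
  (f : Fin (r + 1) → A) (i : Fin (r + 1)) {B : Type u} [CommRing B] [Algebra R B]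
  (φ : A →ₐ[R] B) (b : {j : Fin (r + 1) // j ≠ i} → B)

/-- The map from the chart algebra determined by the quotients `b j` of `φ (f j)` by `φ (f i)`. -/
noncomputable def chartLift (hb : ∀ j, φ (f i) * b j = φ (f j.1)) : chartAlg f i →ₐ[R] B where
  toRingHom := Ideal.Quotient.lift _ (MvPolynomial.eval₂Hom (φ : A →+* B) b) (by
    intro a ha
    rw [← RingHom.mem_ker]
    refine (Ideal.span_le.mpr ?_) ha
    rintro _ ⟨j, rfl⟩
    simp only [SetLike.mem_coe, RingHom.mem_ker, map_sub, map_mul, MvPolynomial.eval₂Hom_C,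
      MvPolynomial.eval₂Hom_X', RingHom.coe_coe]
    rw [hb, sub_self])
  commutes' := by
    intro x
    change Ideal.Quotient.lift _ (MvPolynomial.eval₂Hom (φ : A →+* B) b) _
      (Ideal.Quotient.mk _ (MvPolynomial.C (algebraMap R A x))) = _
    rw [Ideal.Quotient.lift_mk, MvPolynomial.eval₂Hom_C]
    exact φ.commutes x

theorem chartLift_algebraMap (hb : ∀ j, φ (f i) * b j = φ (f j.1)) (a : A) :
    chartLift r f i φ b hb (algebraMap A _ a) = φ a := by
  change Ideal.Quotient.lift _ (MvPolynomial.eval₂Hom (φ : A →+* B) b) _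
      (Ideal.Quotient.mk _ (MvPolynomial.C a)) = _
  rw [Ideal.Quotient.lift_mk, MvPolynomial.eval₂Hom_C]
  rfl

end chart

/-- Let R be a base ring of class (N) or (V) for the ideal I, A an admissible R-algebra, f_0, ..., f_r
elements generating an open ideal 𝔞 of A, and A_i = C_i/(f_i-power torsion) the i-th chart algebra
of the formal blowing-up of 𝔞. Let B be an R-algebra complete and separated for the I-adic topology
and φ : A → B an R-algebra homomorphism such that the ideal 𝔞B is generated by φ(f_i), a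
non-zero-divisor of B. Then there is exactly one R-algebra homomorphism A_i → B whose composite with
A → A_i is φ. -/
theorem result
    (R : Type u) [CommRing R] (I : Ideal R) (hR : AdicRing.IsBase R I)
    (A : Type u) [CommRing A] [Algebra R A] (hA : AdicRing.Admissible R I A)
    (r : ℕ) (f : Fin (r + 1) → A) (k : ℕ)
    (hopen : (I ^ k).map (algebraMap R A) ≤ Ideal.span (Set.range f)) (i : Fin (r + 1))
    (B : Type u) [CommRing B] [Algebra R B] [IsAdicComplete (I.map (algebraMap R B)) B]
    (φ : A →ₐ[R] B) (hnzd : φ (f i) ∈ nonZeroDivisors B)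
    (hgen : (Ideal.span (Set.range f)).map φ = Ideal.span {φ (f i)}) :
    ∃! ψ : AdicRing.chartAdm I f i →ₐ[R] B,
      ψ.comp (IsScalarTower.toAlgHom R A (AdicRing.chartAdm I f i)) = φ := by
  classical
  have hI : I.FG := fg_of_isBase R I hR
  have hJ : (I.map (algebraMap R (chartAlg f i))).FG := hI.map _
  -- the quotients
  have hdvd : ∀ j : {j : Fin (r + 1) // j ≠ i}, ∃ b : B, φ (f i) * b = φ (f j.1) := by
    intro j
    have h1 : φ (f j.1) ∈ Ideal.span {φ (f i)} := by
      rw [← hgen]
      exact Ideal.mem_map_of_mem φ (Ideal.subset_span ⟨_, rfl⟩)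
    obtain ⟨b, hb⟩ := Ideal.mem_span_singleton.mp h1
    exact ⟨b, hb.symm⟩
  choose b hb using hdvd
  have hmapJ : ∀ (w : chartAlg f i →ₐ[R] B), ∀ x ∈ I.map (algebraMap R (chartAlg f i)),
      w x ∈ I.map (algebraMap R B) := by
    intro w x hx
    have h1 : (I.map (algebraMap R (chartAlg f i))).map (w : chartAlg f i →+* B) ≤
        I.map (algebraMap R B) := by
      rw [Ideal.map_map, w.comp_algebraMap]
    exact h1 (Ideal.mem_map_of_mem _ hx)
  let g : chartAlg f i →ₐ[R] B := chartLift r f i φ b hb
  let G : chartCompl I f i →ₐ[R] B :=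
    K26.Compl.lift (I.map (algebraMap R (chartAlg f i))) (I.map (algebraMap R B)) g (hmapJ g)
  have hG : ∀ s : chartAlg f i, G (AdicCompletion.of _ _ s) = g s :=
    fun s => K26.Compl.lift_of _ _ _ _ s
  have hGA : ∀ a : A, G (algebraMap A (chartCompl I f i) a) = φ a := by
    intro a
    have h1 : algebraMap A (chartCompl I f i) a =
        AdicCompletion.of _ _ (algebraMap A (chartAlg f i) a) := rfl
    rw [h1, hG]
    exact chartLift_algebraMap r f i φ b hb a
  have hkill : ∀ x ∈ (⨆ n : ℕ, Submodule.torsionBy (chartCompl I f i) (chartCompl I f i)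
      (algebraMap A (chartCompl I f i) (f i) ^ n) : Ideal (chartCompl I f i)), G x = 0 := by
    intro x hx
    have h1 : (⨆ n : ℕ, Submodule.torsionBy (chartCompl I f i) (chartCompl I f i)
      (algebraMap A (chartCompl I f i) (f i) ^ n) : Ideal (chartCompl I f i)) ≤
      RingHom.ker (G : chartCompl I f i →+* B) := by
      apply iSup_le
      intro n y hy
      rw [Submodule.mem_torsionBy_iff, smul_eq_mul] at hy
      have h2 : φ (f i) ^ n * G y = 0 := by
        rw [← hGA, ← map_pow, ← map_mul, hy, map_zero]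
      have h3 : φ (f i) ^ n ∈ nonZeroDivisors B := pow_mem hnzd n
      rw [RingHom.mem_ker]
      exact (mul_left_mem_nonZeroDivisors_eq_zero_iff h3).mp h2
    exact h1 hx
  let ψ : chartAdm I f i →ₐ[R] B := Ideal.Quotient.liftₐ _ G hkill
  have hψ : ∀ x : chartCompl I f i, ψ (Ideal.Quotient.mk _ x) = G x := fun x => rfl
  have hψA : ∀ a : A, ψ (algebraMap A (chartAdm I f i) a) = φ a := by
    intro a
    exact (hψ _).trans (hGA a)
  refine ⟨ψ, AlgHom.ext hψA, ?_⟩
  intro ψ' hψ'
  have hψ'A : ∀ a : A, ψ' (algebraMap A (chartAdm I f i) a) = φ a :=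
    fun a => DFunLike.congr_fun hψ' a
  -- compare on the completion
  let mkQ : chartCompl I f i →ₐ[R] chartAdm I f i := Ideal.Quotient.mkₐ R _
  have huniq : ∀ χ : chartAdm I f i →ₐ[R] B,
      (∀ a : A, χ (algebraMap A (chartAdm I f i) a) = φ a) →
      ∀ j : {j : Fin (r + 1) // j ≠ i}, χ (mkQ (algebraMap (chartAlg f i) (chartCompl I f i)
        (Ideal.Quotient.mk _ (MvPolynomial.X j)))) = b j := by
    intro χ hχ j
    have h1 : (algebraMap A (chartAlg f i) (f i)) *
        (Ideal.Quotient.mk _ (MvPolynomial.X j) : chartAlg f i) =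
        algebraMap A (chartAlg f i) (f j.1) := by
      change (Ideal.Quotient.mk _ (MvPolynomial.C (f i)) : chartAlg f i) *
        Ideal.Quotient.mk _ (MvPolynomial.X j) = Ideal.Quotient.mk _ (MvPolynomial.C (f j.1))
      rw [← map_mul, Ideal.Quotient.eq]
      exact Ideal.subset_span ⟨j, rfl⟩
    have h2 := congrArg (fun z => χ (mkQ (algebraMap (chartAlg f i) (chartCompl I f i) z))) h1
    simp only [map_mul] at h2
    have h3 : ∀ a : A, χ (mkQ (algebraMap (chartAlg f i) (chartCompl I f i)
        (algebraMap A (chartAlg f i) a))) = φ a := fun a => hχ a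
    rw [h3, h3, ← hb j] at h2
    exact (mul_cancel_left_mem_nonZeroDivisors hnzd).mp h2
  have key : ((ψ'.comp mkQ : chartCompl I f i →ₐ[R] B) : chartCompl I f i →+* B) =
      ((ψ.comp mkQ : chartCompl I f i →ₐ[R] B) : chartCompl I f i →+* B) := by
    apply K26.Compl.ringHom_ext (I.map (algebraMap R (chartAlg f i))) hJ (I.map (algebraMap R B))
    · have h1 : ((ψ'.comp mkQ : chartCompl I f i →ₐ[R] B) : chartCompl I f i →+* B).comp
          (algebraMap (chartAlg f i) (chartCompl I f i)) =
          ((ψ.comp mkQ : chartCompl I f i →ₐ[R] B) : chartCompl I f i →+* B).comp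
          (algebraMap (chartAlg f i) (chartCompl I f i)) := by
        apply Ideal.Quotient.ringHom_ext
        apply MvPolynomial.ringHom_ext
        · intro a
          exact (hψ'A a).trans (hψA a).symm
        · intro j
          exact (huniq ψ' hψ'A j).trans (huniq ψ hψA j).symm
      intro s
      exact RingHom.congr_fun h1 s
    · intro s hs
      exact hmapJ ((ψ'.comp mkQ).comp
        (IsScalarTower.toAlgHom R (chartAlg f i) (chartCompl I f i))) s hs
  apply AlgHom.ext
  intro x
  obtain ⟨y, rfl⟩ := Ideal.Quotient.mk_surjective x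
  exact RingHom.congr_fun key y

end Groth.Agent.S11545
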