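import Groth.Statements.S11547
import Groth.Agent.AdicRing.K26.RigPt
import Groth.Agent.AdicRing.K26.FinFree
import Mathlib.RingTheory.Flat.TorsionFree
import Mathlib.RingTheory.LocalRing.Module
import Mathlib.RingTheory.PrincipalIdealDomain

set_option autoImplicit false
universe u
open AdicRing

namespace Groth.Agent.S11547

/-- Let R be a complete valuation ring of height one with t a nonzero element generating an ideal of
definition, φ : A → A' a homomorphism of admissible R-algebras, and u' : A' → B' a surjective
R-algebra homomorphism onto an admissible R-algebra B' which is a local integral domain of Krull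
dimension one. Then the image of A in B' is an admissible R-algebra and a local integral domain of
Krull dimension one. -/
theorem result
    (R : Type u) [CommRing R] [IsDomain R] [ValuationRing R] [Ring.KrullDimLE 1 R]
    (t : R) (ht : t ≠ 0) [IsAdicComplete (Ideal.span {t}) R]
    (A : Type u) [CommRing A] [Algebra R A] (hA : AdicRing.Admissible R (Ideal.span {t}) A)
    (A' : Type u) [CommRing A'] [Algebra R A'] (hA' : AdicRing.Admissible R (Ideal.span {t}) A')
    (φ : A →ₐ[R] A')
    (B' : Type u) [CommRing B'] [Algebra R B'] [IsDomain B'] [IsLocalRing B']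
    (hB' : AdicRing.Admissible R (Ideal.span {t}) B') (hdim : ringKrullDim B' = 1)
    (u' : A' →ₐ[R] B') (hu' : Function.Surjective u') :
    AdicRing.Admissible R (Ideal.span {t}) ((u'.comp φ).range) ∧
      IsLocalRing ((u'.comp φ).range) ∧ ringKrullDim ((u'.comp φ).range) = 1 := by
  obtain ⟨⟨n, ψ, hψ, -⟩, htf⟩ := hB'
  have htB : algebraMap R B' t ≠ 0 := K26.RigPt.algebraMap_ne_zero htf
  have hfin : Module.Finite R B' := K26.RigPt.moduleFinite t ht ψ hψ htB hdim
  have hI : (Ideal.span {t}).FG := ⟨{t}, by simp⟩
  have hjac : algebraMap R B' t ∈ Ideal.jacobson (⊥ : Ideal B') :=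
    K26.RPowB.map_le_jacobson ψ hψ hI (Ideal.mem_map_of_mem _ (Ideal.mem_span_singleton_self t))
  have hinj : Function.Injective (algebraMap R B') := K26.RigPt.injective_algebraMap htB hjac
  have hH : HenselianLocalRing R := K26.ComplVal.henselianLocalRing t ht
  let B₀ : Subalgebra R B' := (u'.comp φ).range
  -- `B₀` is integral over `R` and `B'` is integral over `B₀`
  have hint : Algebra.IsIntegral R B' := inferInstance
  have hint₀ : Algebra.IsIntegral R B₀ :=
    Algebra.IsIntegral.of_injective B₀.val Subtype.val_injective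
  have hint₁ : Algebra.IsIntegral B₀ B' := ⟨fun x => (hint.isIntegral x).tower_top⟩
  obtain ⟨hHB, -⟩ := Groth.Agent.S1964.result R B₀
  have hloc : IsLocalRing B₀ := inferInstance
  have hdim₀ : ringKrullDim B₀ = 1 :=
    (K26.DimOne.ringKrullDim_eq_one_iff_of_isIntegral (D := B₀) (E := B')
      Subtype.val_injective).mpr hdim
  refine ⟨⟨?_, ?_⟩, hloc, hdim₀⟩
  · -- finite over `R`
    obtain ⟨⟨m, χ, hχ, -⟩, -⟩ := hA
    let ρ : RPow R (Ideal.span {t}) m →ₐ[R] B₀ := ((u'.comp φ).rangeRestrict).comp χ
    have hρ : Function.Surjective ρ := (AlgHom.rangeRestrict_surjective _).comp hχ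
    have htB₀ : algebraMap R B₀ t ≠ 0 := fun h => htB (congrArg Subtype.val h)
    have hfin₀ : Module.Finite R B₀ := K26.RigPt.moduleFinite t ht ρ hρ htB₀ hdim₀
    have hinj₀ : Function.Injective (algebraMap R B₀) := fun x y hxy =>
      hinj (congrArg Subtype.val hxy)
    have htf₀ : Module.IsTorsionFree R B₀ :=
      Module.isTorsionFree_iff_algebraMap_injective.mpr hinj₀
    have hflat : Module.Flat R B₀ := by
      rw [Module.Flat.flat_iff_torsion_eq_bot_of_isBezout, ← Submodule.isTorsionFree_iff_torsion_eq_bot]
      exact htf₀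
    have hfree : Module.Free R B₀ := Module.free_of_flat_of_isLocalRing
    exact K26.FinFree.topFinitePresentation R (Ideal.span {t}) hI B₀
  · intro x k hx
    apply Subtype.ext
    refine htf x.1 k (fun a ha => ?_)
    exact congrArg Subtype.val (hx a ha)

end Groth.Agent.S11547
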