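import Groth.Statements.S11548
import Groth.Agent.AdicRing.K26.LiftPt

set_option autoImplicit false
universe u
open AdicRing

namespace Groth.Agent.S11548

open IsLocalRing

/-- The residue field of a topologically finite type algebra at a maximal ideal containing `t` is
integral over the base. -/
theorem isIntegral_quot_maximal {R : Type u} [CommRing R] [IsDomain R] [ValuationRing R]
    [Ring.KrullDimLE 1 R] (t : R) (ht : t ≠ 0) {S : Type u} [CommRing S] [Algebra R S]
    (hft : Algebra.FiniteType R (S ⧸ (Ideal.span {t}).map (algebraMap R S)))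
    (m : Ideal S) [m.IsMaximal] (hm : algebraMap R S t ∈ m) :
    Algebra.IsIntegral R (S ⧸ m) ∧ ∀ r ∈ maximalIdeal R, algebraMap R (S ⧸ m) r = 0 := by
  let _ : Field (S ⧸ m) := Ideal.Quotient.field m
  have hmt : (Ideal.span {t}).map (algebraMap R S) ≤ m := by
    rw [K26.RigPt.map_span_eq, Ideal.span_singleton_le_iff_mem]
    exact hm
  have hft : Algebra.FiniteType R (S ⧸ m) :=
    Algebra.FiniteType.of_surjective (Ideal.Quotient.factorₐ R hmt)
      (Ideal.Quotient.factor_surjective hmt)
  have hker : RingHom.ker (algebraMap R (S ⧸ m)) = maximalIdeal R := by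
    have hp : (RingHom.ker (algebraMap R (S ⧸ m))).IsPrime := RingHom.ker_isPrime _
    have hmax : (RingHom.ker (algebraMap R (S ⧸ m))).IsMaximal := by
      apply Ideal.isMaximal_of_isPrime_of_ne_bot
      intro h
      have h1 : t ∈ RingHom.ker (algebraMap R (S ⧸ m)) := by
        rw [RingHom.mem_ker, IsScalarTower.algebraMap_apply R S (S ⧸ m)]
        exact Ideal.Quotient.eq_zero_iff_mem.mpr hm
      rw [h, Ideal.mem_bot] at h1
      exact ht h1
    exact IsLocalRing.eq_maximalIdeal hmax
  refine ⟨K26.RigPt.isIntegral_of_finiteType_field (by rw [hker]; infer_instance), ?_⟩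
  intro r hr
  rw [← hker] at hr
  exact hr

/-- Let R be a complete valuation ring of height one with t a nonzero element generating an ideal of
definition, and m a maximal ideal of R⟨ζ_1, ..., ζ_n⟩ containing t (a closed point of the special
fibre). Then there is a prime ideal p contained in m and not containing t such that R⟨ζ_1, ...,
ζ_n⟩/p has Krull dimension one. (This is the affine content of the surjectivity of the
specialization map onto closed points, for the formal affine space.) -/
theorem result
    (R : Type u) [CommRing R] [IsDomain R] [ValuationRing R] [Ring.KrullDimLE 1 R]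
    (t : R) (ht : t ≠ 0) [IsAdicComplete (Ideal.span {t}) R]
    (n : ℕ) (m : Ideal (AdicRing.RPow R (Ideal.span {t}) n)) [m.IsMaximal]
    (hm : algebraMap R (AdicRing.RPow R (Ideal.span {t}) n) t ∈ m) :
    ∃ p : Ideal (AdicRing.RPow R (Ideal.span {t}) n), p.IsPrime ∧ p ≤ m ∧
      algebraMap R (AdicRing.RPow R (Ideal.span {t}) n) t ∉ p ∧
      ringKrullDim (AdicRing.RPow R (Ideal.span {t}) n ⧸ p) = 1 := by
  classical
  have htu : ¬ IsUnit t := K26.ComplVal.not_isUnit_of_isAdicComplete t
  have hI : (Ideal.span {t}).FG := ⟨{t}, by simp⟩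
  have hft : Algebra.FiniteType R (RPow R (Ideal.span {t}) n ⧸
      (Ideal.span {t}).map (algebraMap R (RPow R (Ideal.span {t}) n))) :=
    K26.RPowB.finiteType_quot (AlgHom.id R _) Function.surjective_id hI
  obtain ⟨hint, hzero⟩ := isIntegral_quot_maximal t ht hft m hm
  let _ : Field (RPow R (Ideal.span {t}) n ⧸ m) := Ideal.Quotient.field m
  let q : RPow R (Ideal.span {t}) n →ₐ[R] RPow R (Ideal.span {t}) n ⧸ m := Ideal.Quotient.mkₐ R m
  let a : MvPolynomial (Fin n) R →ₐ[R] RPow R (Ideal.span {t}) n := IsScalarTower.toAlgHom R _ _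
  obtain ⟨V, _, _, _, g, hg, hfin, hinj, hlift⟩ :=
    K26.LiftPt.exists_lift t ht (F := RPow R (Ideal.span {t}) n ⧸ m) hzero
      (fun i => q (a (MvPolynomial.X i)))
  have hV : IsAdicComplete (Ideal.span {t}) V := K26.FinDom.isAdicComplete _ hinj
  have hV' : IsAdicComplete ((Ideal.span {t}).map (algebraMap R V)) V := by
    rw [IsAdicComplete.map_algebraMap_iff]; exact hV
  let G : RPow R (Ideal.span {t}) n →ₐ[R] V :=
    K26.Compl.lift _ ((Ideal.span {t}).map (algebraMap R V)) g (by
      intro x hx
      have h1 := Ideal.mem_map_of_mem (g : MvPolynomial (Fin n) R →+* V) hx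
      rw [Ideal.map_map] at h1
      have h2 : (g : MvPolynomial (Fin n) R →+* V).comp MvPolynomial.C = algebraMap R V :=
        g.comp_algebraMap
      rw [h2] at h1
      exact h1)
  have hG : ∀ p, G (a p) = g p := fun p => K26.Compl.lift_of _ _ _ _ p
  have hGs : Function.Surjective G := fun v => by
    obtain ⟨p, rfl⟩ := hg v
    exact ⟨_, hG p⟩
  have hqa : ∀ f, q (a f) = MvPolynomial.aeval (fun i => q (a (MvPolynomial.X i))) f := by
    intro f
    have h1 : q.comp a = MvPolynomial.aeval (fun i => q (a (MvPolynomial.X i))) := by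
      apply MvPolynomial.algHom_ext
      intro i
      simp only [AlgHom.comp_apply, MvPolynomial.aeval_X]
    exact DFunLike.congr_fun h1 f
  refine ⟨RingHom.ker G, RingHom.ker_isPrime _, ?_, ?_, ?_⟩
  · intro s hs
    obtain ⟨f, hf⟩ := K26.RPowB.exists_sub_mem R (Ideal.span {t}) n hI s
    rw [K26.RigPt.map_span_eq] at hf
    obtain ⟨s', hs'⟩ := Ideal.mem_span_singleton.mp hf
    have h1 : g f = algebraMap R V t * (-(G s')) := by
      have h2 : G (s - a f) = algebraMap R V t * G s' := by
        have h3 : s - a f = algebraMap R _ t * s' := hs'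
        rw [h3, map_mul, AlgHom.commutes]
      rw [map_sub, hG, (RingHom.mem_ker).mp hs, zero_sub] at h2
      rw [mul_neg, ← h2, neg_neg]
    have h2 := hlift f _ h1
    rw [← hqa] at h2
    have h3 : a f ∈ m := Ideal.Quotient.eq_zero_iff_mem.mp h2
    have h4 : s = a f + algebraMap R _ t * s' := by
      rw [← hs']
      change s = a f + (s - a f)
      ring
    rw [h4]
    exact add_mem h3 (Ideal.mul_mem_right _ _ hm)
  · intro h
    have h1 : G (algebraMap R _ t) = 0 := h
    rw [AlgHom.commutes] at h1
    exact ht ((map_eq_zero_iff _ hinj).mp h1)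
  · have e : (RPow R (Ideal.span {t}) n ⧸ RingHom.ker G) ≃+* V :=
      RingHom.quotientKerEquivOfSurjective (f := (G : RPow R (Ideal.span {t}) n →+* V)) hGs
    rw [ringKrullDim_eq_of_ringEquiv e]
    exact (K26.DimOne.ringKrullDim_eq_one_iff_of_isIntegral hinj).mp
      (K26.FinDom.ringKrullDim_eq_one R t ht htu)

end Groth.Agent.S11548
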