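import Groth.Statements.S17761
import Groth.Agent.Localalg.LCIface
import Groth.Agent.Localalg.LCIface2

set_option autoImplicit false
universe u
open LocCoh

namespace Groth.Agent.S17761

/-- Let R be a Noetherian local ring with maximal ideal m and M a finitely generated R-module whose
support has positive dimension n. Then the local cohomology module H^n_m(M) is not a finitely
generated R-module. -/
theorem result (R : Type u) [CommRing R] [IsNoetherianRing R] [IsLocalRing R] (M : Type u) [AddCommGroup M] [Module R M] [Module.Finite R M] (n : ℕ) (hn0 : 0 < n) (hn : Module.supportDim R M = n) : ¬ Module.Finite R (LocCoh.H (IsLocalRing.maximalIdeal R) n M) := by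
  intro hfin
  obtain ⟨n, rfl⟩ : ∃ k, n = k + 1 := ⟨n - 1, by omega⟩
  have hpt := (Groth.Agent.Localalg.LCIface2.iface (IsLocalRing.maximalIdeal R)).pt M (n + 1)
  have hkill : ∃ t : ℕ, ∀ a ∈ IsLocalRing.maximalIdeal R ^ t,
      ∀ x : LocCoh.H (IsLocalRing.maximalIdeal R) (n + 1) M, a • x = 0 := by
    obtain ⟨s, hs⟩ := hfin.fg_top
    choose k hk using hpt
    refine ⟨s.sup k, fun a ha x => ?_⟩
    have hx : x ∈ Submodule.span R (s : Set _) := hs ▸ Submodule.mem_top
    induction hx using Submodule.span_induction with
    | mem y hy => exact hk y a (Ideal.pow_le_pow_right (Finset.le_sup hy) ha)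
    | zero => exact smul_zero a
    | add y z _ _ hy hz => rw [smul_add, hy, hz, add_zero]
    | smul r y _ hy => rw [smul_comm, hy, smul_zero]
  obtain ⟨t, ht⟩ := hkill
  have h1 := Groth.Agent.Localalg.NonVan.subsingleton_of_pow_smul
    (Groth.Agent.Localalg.LCIface.iface _) M n hn t ht
  have h2 := Groth.Agent.Localalg.NonVan.nontrivial_H
    (Groth.Agent.Localalg.LCIface.iface (IsLocalRing.maximalIdeal R)) (n + 1) M hn
  exact not_subsingleton _ h1

end Groth.Agent.S17761
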