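-- Statement S16676: AbVar.universallyInjective_isogeny_iff_connected_kernel
import Groth.Statements.S16676
import Groth.Agent.Sga7.H783.Tors
import Mathlib.AlgebraicGeometry.Morphisms.UniversallyInjective
import Mathlib.AlgebraicGeometry.Morphisms.QuasiFinite
import Mathlib.AlgebraicGeometry.Artinian

set_option autoImplicit false
universe u
open CategoryTheory CategoryTheory.Limits MonoidalCategory CartesianMonoidalCategory MonObj GrpObj AlgebraicGeometry
open AbVar

namespace Groth.Agent.S16676

open Groth.Agent.Sga7.H783

theorem isPullback_secN {S : Scheme.{u}} {X N : Over S} (e : 𝟙_ (Over S) ⟶ N) :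
    IsPullback (lift (𝟙 X) (toUnit X ≫ e)) (toUnit X) (snd X N) e := by
  refine ⟨⟨?_⟩, ⟨PullbackCone.IsLimit.mk _ (fun t => t.fst ≫ fst _ _) ?_ ?_ ?_⟩⟩
  · rw [lift_snd]
  · intro t
    ext1
    · simp
    · have := t.condition
      rw [comp_lift, lift_snd, this, ← Category.assoc]
      congr 1
      exact toUnit_unique _ _
  · intro t
    exact toUnit_unique _ _
  · intro t m hm1 hm2
    rw [← hm1]
    simp

/-- The equivalence of its second and third conditions. Let X and Y be abelian varieties over a field k
(proper, geometrically integral k-group schemes), f : X → Y a homomorphism which is finite, flat and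
surjective (an isogeny), and i : N → X the kernel of f (the square formed by i, f, the unit section
of Y and the structure map of N is cartesian). Then f is universally injective (a purely inseparable
morphism) if and only if the scheme N is connected. (The published item also includes the equivalent
condition that the function field of X is purely inseparable over that of Y; that clause is not part
of this statement.) -/
theorem result (k : Type u) [Field k]
    (X Y : Over (Spec (CommRingCat.of k)))
    [GrpObj X] [IsProper X.hom] [GeometricallyIntegral X.hom]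
    [GrpObj Y] [IsProper Y.hom] [GeometricallyIntegral Y.hom]
    (f : X ⟶ Y) [IsMonHom f] [IsFinite f.left] [Flat f.left] [Surjective f.left]
    (N : Over (Spec (CommRingCat.of k))) (i : N ⟶ X) (hN : AlgGrp.IsKernel i f) :
    UniversallyInjective f.left ↔ ConnectedSpace ↥N.left := by
  have h1 : IsPullback i.left (toUnit N).left f.left η[Y].left := hN.map (Over.forget _)
  have h3 : N.hom = (toUnit N).left := by
    have := Over.w (toUnit N)
    rw [← this]
    exact Category.comp_id _
  -- the unit section of N
  have hunit : η[X] ≫ f = 𝟙 _ ≫ η[Y] := by simp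
  let e : 𝟙_ (Over (Spec (CommRingCat.of k))) ⟶ N := hN.lift η[X] (𝟙 _) hunit
  have he : e ≫ i = η[X] := hN.lift_fst _ _ _
  have hne : Nonempty ↥N.left := ⟨e.left (IsLocalRing.closedPoint k)⟩
  have hss : Subsingleton ↥(Spec (CommRingCat.of k)) := by
    change Subsingleton (PrimeSpectrum k)
    infer_instance
  constructor
  · intro h
    have h2 : UniversallyInjective N.hom := by
      rw [h3]; exact MorphismProperty.of_isPullback (P := @UniversallyInjective) h1 h
    have h4 : Subsingleton ↥N.left := ⟨fun a b => N.hom.injective (Subsingleton.elim _ _)⟩
    exact { toNonempty := hne, isPreconnected_univ := Set.subsingleton_univ.isPreconnected }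
  · intro h
    have hfin : IsFinite N.hom := by
      rw [h3]; exact MorphismProperty.of_isPullback (P := @IsFinite) h1 ‹_›
    have hart : IsLocallyArtinian N.left := IsLocallyArtinian.of_locallyQuasiFinite N.hom
    have hdisc : DiscreteTopology ↥N.left := inferInstance
    have hsub : Subsingleton ↥N.left := by
      have := PreconnectedSpace.isPreconnected_univ (α := ↥N.left)
      exact Set.subsingleton_univ_iff.1 this.subsingleton
    have hesurj : Surjective e.left := ⟨fun y => ⟨IsLocalRing.closedPoint k, Subsingleton.elim _ _⟩⟩
    have h5 : IsPullback (lift (𝟙 X) (toUnit X ≫ e)).left (toUnit X).left (snd X N).left e.left :=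
      (isPullback_secN e).map (Over.forget _)
    have h6 : Surjective (lift (𝟙 X) (toUnit X ≫ e)).left :=
      MorphismProperty.of_isPullback (P := @Surjective) h5.flip hesurj
    have h7 := Tors.isPullback_left hN
    have h8 : (lift (𝟙 X) (toUnit X ≫ e)) ≫ fst X N = 𝟙 X := lift_fst _ _
    have h9 : (lift (𝟙 X) (toUnit X ≫ e)) ≫ Tors.act i = 𝟙 X := by
      rw [Tors.lift_act, Category.assoc, he]
      change 𝟙 X * 1 = 𝟙 X
      exact _root_.mul_one _
    rw [UniversallyInjective.iff_diagonal]
    have h10 : pullback.diagonal f.left = (lift (𝟙 X) (toUnit X ≫ e)).left ≫ h7.isoPullback.hom := by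
      apply pullback.hom_ext
      · rw [Category.assoc, h7.isoPullback_hom_fst, pullback.diagonal_fst, ← Over.comp_left, h8]
        rfl
      · rw [Category.assoc, h7.isoPullback_hom_snd, pullback.diagonal_snd, ← Over.comp_left, h9]
        rfl
    rw [h10]
    infer_instance

end Groth.Agent.S16676
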