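import Groth.Statements.S12057
import Groth.Agent.Fga.CounitRestrict
import Groth.Agent.Fdesc.LocGenPullback

set_option autoImplicit false
universe u
open CategoryTheory CategoryTheory.Limits AlgebraicGeometry
open FGA

namespace Groth.Agent.S12057

open Groth.Agent.Fdesc.LocGen

/-- A trivialization of the pullback of `M` along an open immersion gives a generator over the image. -/
theorem exists_isGen {X C : Scheme.{u}} (g : C ⟶ X) [IsOpenImmersion g] {M : X.Modules}
    (φ : M.restrict g ≅ Coh.structureModule C) {U : X.Opens} (hU : U ≤ g.opensRange) :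
    ∃ e : Γ(M, U), IsGen e := by
  have h1 : IsGen (sec φ.inv ⊤) := (isIso_iff_isGen φ.inv).mp inferInstance
  obtain ⟨m, hm⟩ := (toRestrict (M := M) g (U := ⊤)).surjective (sec φ.inv ⊤)
  rw [← hm, isGen_toRestrict_iff] at h1
  exact ⟨res M (by rw [Scheme.Hom.image_top_eq_opensRange]; exact hU) m, h1.res _⟩

/-- Let f : X ⟶ S be a morphism of schemes such that for every open U of S the induced map from sections
of the structure sheaf of S over U to sections of the structure sheaf of X over the inverse image of
U is bijective. Let L be an invertible module on X which is trivial locally over S: every point of S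
has an open neighbourhood U such that the restriction of L to the inverse image of U is isomorphic
to the structure sheaf. Then L is isomorphic to the pullback along f of an invertible module on S.
(The relative Picard group here is the group of global sections of the first higher direct image of
the sheaf of units, so its elements vanishing are exactly the classes trivial locally over the
base.) -/
theorem result {X S : Scheme.{u}} (f : X ⟶ S)
    (hf : ∀ U : S.Opens, Function.Bijective (f.app U)) (L : X.Modules) (hL : PicF.IsInvertible L)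
    (hloc : ∀ s : S, ∃ U : S.Opens, s ∈ U ∧
      Nonempty ((Scheme.Modules.pullback (f ⁻¹ᵁ U).ι).obj L ≅ Coh.structureModule (f ⁻¹ᵁ U))) :
    ∃ N : S.Modules, PicF.IsInvertible N ∧ Nonempty (L ≅ (Scheme.Modules.pullback f).obj N) := by
  have hloc' : ∀ s : S, ∃ U : S.Opens, s ∈ U ∧
      Nonempty (L.restrict (f ⁻¹ᵁ U).ι ≅ Coh.structureModule ↑(f ⁻¹ᵁ U)) := fun s => by
    obtain ⟨U, hs, ⟨e⟩⟩ := hloc s
    exact ⟨U, hs, ⟨(Scheme.Modules.restrictFunctorIsoPullback (f ⁻¹ᵁ U).ι).app L ≪≫ e⟩⟩
  have hc := Fga.CounitRestrict.isIso_counit_of_locally_trivial f hf L hloc'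
  refine ⟨(Scheme.Modules.pushforward f).obj L, ?_,
    ⟨(asIso ((Scheme.Modules.pullbackPushforwardAdjunction f).counit.app L)).symm⟩⟩
  rw [isInvertible_iff]
  intro s
  obtain ⟨U, hs, ⟨e⟩⟩ := hloc' s
  obtain ⟨m, hm⟩ := exists_isGen (f ⁻¹ᵁ U).ι e (U := f ⁻¹ᵁ U) (by simp)
  refine ⟨U, m, hs, ?_⟩
  intro W' hW'
  exact (hm (f ⁻¹ᵁ W') (f.preimage_mono hW')).comp (hf W')

end Groth.Agent.S12057
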