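import Groth.Statements.S12058
import Groth.Agent.Cohder.PushoutSES
import Mathlib.Algebra.Homology.DerivedCategory.Ext.ExactSequences
import Mathlib.CategoryTheory.Abelian.Refinements

set_option autoImplicit false
universe w v u
open CategoryTheory CategoryTheory.Limits CategoryTheory.Abelian
open SGA3

namespace Groth.Agent.S12058

/-- In an abelian category, let 0 → A' → A → A'' → 0 be a short exact sequence, φ : A' ⟶ Q a morphism
and π : A'' ⟶ P an epimorphism with kernel C. Consider the quadruples (B, f, g, h) with 0 → Q → B →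
P → 0 short exact (maps f, g) and h : A ⟶ B such that the squares commute: (A' → A → B) = (A' → Q →
B) and (A → B → P) = (A → A'' → P). Such a quadruple exists if and only if the image in Ext¹(C, Q)
of the class of the given extension in Ext¹(A'', A') (push forward along φ, pull back along the
inclusion C → A'') is zero. -/
theorem result {C : Type u} [Category.{v} C] [Abelian C]
    [HasExt.{w} C] {S : ShortComplex C} (hS : S.ShortExact) {Q P : C} (φ : S.X₁ ⟶ Q) (π : S.X₃ ⟶ P) [Epi π] :
    (∃ (B : C) (f : Q ⟶ B) (g : B ⟶ P) (h : S.X₂ ⟶ B) (w : f ≫ g = 0),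
        (ShortComplex.mk f g w).ShortExact ∧ S.f ≫ h = φ ≫ f ∧ h ≫ g = S.g ≫ π) ↔
      (Ext.mk₀ (kernel.ι π)).comp (hS.extClass.comp (Ext.mk₀ φ) (add_zero 1)) (zero_add 1) = 0 := by
  constructor
  · rintro ⟨B, f, g, h, w, hB, h1, h2⟩
    let τ : S ⟶ ShortComplex.mk f g w := { τ₁ := φ, τ₂ := h, τ₃ := π, comm₁₂ := h1.symm, comm₂₃ := h2 }
    have h3 := ShortComplex.ShortExact.extClass_naturality hS hB τ
    change hS.extClass.comp (Ext.mk₀ φ) (add_zero 1) = (Ext.mk₀ π).comp hB.extClass (zero_add 1) at h3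
    rw [h3, ← Ext.comp_assoc (a₁₂ := 0) _ _ _ (by lia) (by lia) (by lia), Ext.mk₀_comp_mk₀,
      kernel.condition, Ext.mk₀_zero, Ext.zero_comp]
  · intro h0
    -- the pushout extension
    let E := pushout S.f φ
    let p : E ⟶ S.X₃ := pushout.desc S.g 0 (by rw [S.zero, comp_zero])
    have hp1 : pushout.inl S.f φ ≫ p = S.g := pushout.inl_desc _ _ _
    have hp2 : pushout.inr S.f φ ≫ p = 0 := pushout.inr_desc _ _ _
    have hE : (ShortComplex.mk (pushout.inr S.f φ) p hp2).ShortExact :=
      Groth.Agent.Cohder.PushoutSES.shortExact_of_isPushout (w := S.zero) hS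
        (IsPushout.of_hasPushout S.f φ) hp1 hp2
    let τ : S ⟶ ShortComplex.mk (pushout.inr S.f φ) p hp2 :=
      { τ₁ := φ, τ₂ := pushout.inl S.f φ, τ₃ := 𝟙 _, comm₁₂ := pushout.condition.symm,
        comm₂₃ := by dsimp; rw [hp1, Category.comp_id] }
    have h3 := ShortComplex.ShortExact.extClass_naturality hS hE τ
    change hS.extClass.comp (Ext.mk₀ φ) (add_zero 1) = (Ext.mk₀ (𝟙 _)).comp hE.extClass (zero_add 1) at h3
    rw [Ext.mk₀_id_comp] at h3
    rw [h3] at h0
    obtain ⟨x, hx⟩ := Ext.covariant_sequence_exact₃ (kernel π) hE (Ext.mk₀ (kernel.ι π)) (zero_add 1) h0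
    obtain ⟨s, rfl⟩ := Ext.mk₀_bijective _ _ |>.2 x
    have hs : s ≫ p = kernel.ι π := by
      apply (Ext.mk₀_bijective _ _).1
      rw [← hx, Ext.mk₀_comp_mk₀]
    have hsm : Mono s := by
      have : Mono (s ≫ p) := by rw [hs]; infer_instance
      exact mono_of_mono s p
    have hpe : Epi p := hE.epi_g
    have him : Mono (pushout.inr S.f φ) := hE.mono_f
    have hw1 : s ≫ (p ≫ π) = 0 := by rw [← Category.assoc, hs, kernel.condition]
    let q : E ⟶ cokernel s := cokernel.π s
    let g : cokernel s ⟶ P := cokernel.desc s (p ≫ π) hw1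
    have hqg : q ≫ g = p ≫ π := cokernel.π_desc _ _ _
    have hsq : (ShortComplex.mk s q (cokernel.condition s)).Exact :=
      ShortComplex.exact_of_g_is_cokernel _ (cokernelIsCokernel s)
    have w : (pushout.inr S.f φ ≫ q) ≫ g = 0 := by
      rw [Category.assoc, hqg, ← Category.assoc, hp2, zero_comp]
    refine ⟨cokernel s, pushout.inr S.f φ ≫ q, g, pushout.inl S.f φ ≫ q, w, ?_, ?_, ?_⟩
    · refine { exact := ?_, mono_f := ?_, epi_g := ?_ }
      · rw [ShortComplex.exact_iff_exact_up_to_refinements]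
        intro T y hy
        obtain ⟨T₁, ρ₁, hρ₁, e, he⟩ := surjective_up_to_refinements_of_epi q y
        have h4 : (e ≫ p) ≫ π = 0 := by
          rw [Category.assoc, ← hqg, ← Category.assoc, ← he, Category.assoc, hy, comp_zero]
        let c := kernel.lift π (e ≫ p) h4
        have hc : c ≫ kernel.ι π = e ≫ p := kernel.lift_ι _ _ _
        have h5 : (e - c ≫ s) ≫ p = 0 := by
          rw [Preadditive.sub_comp, Category.assoc, hs, hc, sub_self]
        obtain ⟨T₂, ρ₂, hρ₂, z, hz⟩ := hE.exact.exact_up_to_refinements (e - c ≫ s) h5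
        refine ⟨T₂, ρ₂ ≫ ρ₁, inferInstance, z, ?_⟩
        have h6 : (e - c ≫ s) ≫ q = e ≫ q := by
          rw [Preadditive.sub_comp, Category.assoc, cokernel.condition, comp_zero, sub_zero]
        dsimp at hz ⊢
        rw [Category.assoc, he, ← h6, ← Category.assoc, hz, Category.assoc]
      · refine Preadditive.mono_of_cancel_zero _ fun {T} x hx => ?_
        have h4 : (x ≫ pushout.inr S.f φ) ≫ q = 0 := by rw [Category.assoc]; exact hx
        obtain ⟨T₁, ρ₁, hρ₁, c, hc⟩ := hsq.exact_up_to_refinements _ h4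
        dsimp at hc
        have h5 : c ≫ kernel.ι π = 0 := by
          rw [← hs, ← Category.assoc, ← hc, Category.assoc, Category.assoc, hp2, comp_zero, comp_zero]
        have h6 : c = 0 := by
          rw [← cancel_mono (kernel.ι π), h5, zero_comp]
        rw [h6, zero_comp, ← Category.assoc] at hc
        rw [← cancel_epi ρ₁, ← cancel_mono (pushout.inr S.f φ), hc, comp_zero, zero_comp]
      · have : Epi (q ≫ g) := by rw [hqg]; infer_instance
        exact epi_of_epi q g
    · rw [← Category.assoc, ← Category.assoc, pushout.condition]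
    · rw [Category.assoc, hqg, ← Category.assoc, hp1]

end Groth.Agent.S12058
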