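import Groth.Statements.S12059
import Groth.Agent.Sga1.QuotBasic

set_option autoImplicit false
universe u
open CategoryTheory CategoryTheory.Limits AlgebraicGeometry
open SGA1

namespace Groth.Agent.S12059

open Groth.Agent.Sga1.QuotBasic

/-- Let a finite group G act on a commutative ring A by ring automorphisms σ_g, and let B → A be
injective, G-equivariant for the trivial action on B, with image containing all G-invariants (so B
is the ring of invariants A^G). Let ρ be an action of G on Spec A by scheme automorphisms whose
automorphisms are exactly the maps Spec(σ_g). Then Spec A ⟶ Spec B is a quotient of Spec A by G, and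
the structure sheaf of Spec B is the sheaf of G-invariants of the direct image of the structure
sheaf of Spec A: the map is affine and G-invariant, and for every open U of Spec B the sections of
the structure sheaf of Spec B over U map injectively onto the G-invariant sections of the structure
sheaf of Spec A over the inverse image of U. -/
theorem result (G : Type u) [Group G] [Finite G] (A B : Type u) [CommRing A] [CommRing B]
    [Algebra B A] [MulSemiringAction G A] [SMulCommClass G B A] [Algebra.IsInvariant B A G] [FaithfulSMul B A]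
    (ρ : G →* Aut (Spec (CommRingCat.of A)))
    (hρ : Set.range (fun g : G => (ρ g).hom) =
      Set.range (fun g : G => Spec.map (CommRingCat.ofHom (MulSemiringAction.toRingHom G A g)))) :
    SGA1.IsQuot ρ (Spec.map (CommRingCat.ofHom (algebraMap B A))) := by
  classical
  set φ : CommRingCat.of B ⟶ CommRingCat.of A := CommRingCat.ofHom (algebraMap B A) with hφ
  have hinv : ∀ g : G, (ρ g).hom ≫ Spec.map φ = Spec.map φ := by
    intro g
    have hg : (ρ g).hom ∈ Set.range (fun g : G =>
        Spec.map (CommRingCat.ofHom (MulSemiringAction.toRingHom G A g))) := hρ ▸ ⟨g, rfl⟩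
    obtain ⟨g', hg'⟩ := hg
    rw [← hg', ← Spec.map_comp, hφ, ← CommRingCat.ofHom_comp]
    congr 2
    ext b
    exact smul_algebraMap g' b
  have happ : (Spec.map φ).app ⊤ =
      (Scheme.ΓSpecIso (CommRingCat.of B)).hom ≫ φ ≫ (Scheme.ΓSpecIso (CommRingCat.of A)).inv := by
    rw [← Category.assoc, ← Scheme.ΓSpecIso_naturality, Category.assoc, Iso.hom_inv_id,
      Category.comp_id]
  refine isQuot_of_affine_cover hinv (fun y => ⟨⊤, trivial, isAffineOpen_top _, ?_, ?_⟩)
  · intro a b hab
    rw [happ] at hab
    have h1 : (Scheme.ΓSpecIso (CommRingCat.of B)).hom.hom a =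
        (Scheme.ΓSpecIso (CommRingCat.of B)).hom.hom b := by
      apply FaithfulSMul.algebraMap_injective B A
      exact (ConcreteCategory.bijective_of_isIso (C := CommRingCat)
        (Scheme.ΓSpecIso (CommRingCat.of A)).inv).1 hab
    exact (ConcreteCategory.bijective_of_isIso (C := CommRingCat)
        (Scheme.ΓSpecIso (CommRingCat.of B)).hom).1 h1
  · intro s hs
    obtain ⟨a, rfl⟩ := (ConcreteCategory.bijective_of_isIso (C := CommRingCat)
        (Scheme.ΓSpecIso (CommRingCat.of A)).inv).2 s
    have ha : ∀ g : G, g • a = a := by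
      intro g
      have hg : Spec.map (CommRingCat.ofHom (MulSemiringAction.toRingHom G A g)) ∈
        Set.range (fun g : G => (ρ g).hom) := hρ ▸ ⟨g, rfl⟩
      obtain ⟨g', hg'⟩ := hg
      have h1 := hs g'
      have h2 : ∀ (k : Spec (CommRingCat.of A) ⟶ Spec (CommRingCat.of A))
          (e : (ρ g').hom = k) (e' : ⊤ ≤ k ⁻¹ᵁ ⊤),
          (k.appLE ⊤ ⊤ e').hom ((Scheme.ΓSpecIso (CommRingCat.of A)).inv.hom a) =
            (Scheme.ΓSpecIso (CommRingCat.of A)).inv.hom a := by
        rintro k rfl e'
        exact h1
      have h3 := h2 _ hg' le_top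
      have h4 : (Spec.map (CommRingCat.ofHom (MulSemiringAction.toRingHom G A g))).appLE ⊤ ⊤ le_top =
          (Spec.map (CommRingCat.ofHom (MulSemiringAction.toRingHom G A g))).appTop :=
        (Scheme.Hom.app_eq_appLE _).symm
      rw [h4] at h3
      have h5 := congrArg (fun k => k.hom a) (Scheme.ΓSpecIso_inv_naturality
        (CommRingCat.ofHom (MulSemiringAction.toRingHom G A g)))
      have h6 := h5.trans h3
      exact (ConcreteCategory.bijective_of_isIso (C := CommRingCat)
        (Scheme.ΓSpecIso (CommRingCat.of A)).inv).1 h6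
    obtain ⟨b, hb⟩ := Algebra.IsInvariant.isInvariant (A := B) a ha
    refine ⟨(Scheme.ΓSpecIso (CommRingCat.of B)).inv.hom b, ?_⟩
    rw [happ]
    change (Scheme.ΓSpecIso (CommRingCat.of A)).inv.hom (algebraMap B A
      ((Scheme.ΓSpecIso (CommRingCat.of B)).hom.hom
        ((Scheme.ΓSpecIso (CommRingCat.of B)).inv.hom b))) = _
    have : (Scheme.ΓSpecIso (CommRingCat.of B)).hom.hom
        ((Scheme.ΓSpecIso (CommRingCat.of B)).inv.hom b) = b :=
      congrArg (fun k => k.hom b) (Scheme.ΓSpecIso (CommRingCat.of B)).inv_hom_id
    rw [this, hb]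

end Groth.Agent.S12059
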