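import Groth.Statements.S5286
import Groth.Agent.SGA3x.K8.TrivClopen

set_option autoImplicit false
open CategoryTheory MonoidalCategory CartesianMonoidalCategory MonObj GrpObj AlgebraicGeometry
universe u
open SGA3x

namespace Groth.Agent.S5286

/-- Let u : H ⟶ G be a homomorphism of S-groups, with H of multiplicative type and of finite type and G
separated over S; suppose S locally Noetherian or G of finite presentation over S. Then the set U of
points s ∈ S such that u_s : H_s ⟶ G_s is the unit homomorphism is open and closed in S, and the
homomorphism H|_U ⟶ G|_U induced above U is the unit homomorphism. -/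
theorem result {S : Scheme.{u}} (H G : Over S) [GrpObj H] [GrpObj G]
    (hH : SGA3x.IsMultTypeFT H) [IsSeparated G.hom]
    (hG : IsLocallyNoetherian S ∨ (LocallyOfFinitePresentation G.hom ∧ QuasiCompact G.hom ∧ QuasiSeparated G.hom))
    (u : H ⟶ G) [IsMonHom u] :
    ∃ U : S.Opens, IsClosed (U : Set S) ∧
      (∀ s : S, s ∈ U ↔ (Over.pullback (S.fromSpecResidueField s)).map u = 1) ∧
      (Over.pullback U.ι).map u = 1 := by
  have hG' : IsLocallyNoetherian S ∨ LocallyOfFiniteType G.hom :=
    hG.imp_right fun h => by
      have := h.1
      infer_instance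
  obtain ⟨U, h1, h2, h3⟩ := K8.TrivClopen.exists_clopen hH hG' u
  exact ⟨U, h1, fun s => (h2 s).trans (K8.TrivLocus.trivOver_iff_map _ _),
    (K8.TrivLocus.trivOver_iff_map _ _).1 h3⟩

end Groth.Agent.S5286
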