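import Groth.Statements.S8440
import Groth.Agent.SGA3x.K18.SubtorLift

set_option autoImplicit false
universe u
open CategoryTheory MonoidalCategory CartesianMonoidalCategory MonObj GrpObj AlgebraicGeometry
open SGA3x

namespace Groth.Agent.S8440

/-- Over an affine base: let A be a Noetherian ring, J a nilpotent ideal, S = Spec A, S₀ = Spec(A/J), G
an S-group scheme of finite type, T₀ a subtorus of G₀ = G ×_S S₀, q > 1 an integer invertible on S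
(the published statement writes q > 0), and, for n running through the powers q^k, (Mₙ) a coherent
family of subgroup schemes of G of multiplicative type (M_m = ₘ(Mₙ) when m divides n) lifting the
ₙT₀. Then there is one and only one subtorus T of G with T ×_S S₀ = T₀ and ₙT = Mₙ for all n
(uniqueness up to isomorphism over G). -/
theorem result (A : Type u) [CommRing A] [IsNoetherianRing A]
    (J : Ideal A) (hJ : IsNilpotent J) (G : Over (Spec (CommRingCat.of A))) [GrpObj G] [QuasiCompact G.hom] [LocallyOfFiniteType G.hom]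
    (T₀ : Over (Spec (CommRingCat.of (A ⧸ J)))) [GrpObj T₀] (j₀ : T₀ ⟶ Red.bc (Spec.map (CommRingCat.ofHom (Ideal.Quotient.mk J))) G) [IsMonHom j₀] [Mono j₀] (ht₀ : Red.IsTorus T₀)
    (q : ℕ) (hq : 1 < q) (hqu : IsUnit (q : A))
    (M : ℕ → Over (Spec (CommRingCat.of A))) (grp : ∀ k, GrpObj (M k)) (m : ∀ k, M k ⟶ G)
    (hm : ∀ k, IsMonHom (m k) ∧ Mono (m k) ∧ SGA3x.IsMultTypeFT (M k))
    (hcoh : ∀ j k : ℕ, j ≤ k → ∃ f : M j ⟶ M k, f ≫ m k = m j ∧ AlgGrp.IsKernel f ((𝟙 (M k) : M k ⟶ M k) ^ (q ^ j)))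
    (hlift : ∀ k, ∃ g : Red.bc (Spec.map (CommRingCat.ofHom (Ideal.Quotient.mk J))) (M k) ⟶ T₀, g ≫ j₀ = (Over.pullback (Spec.map (CommRingCat.ofHom (Ideal.Quotient.mk J)))).map (m k) ∧
      AlgGrp.IsKernel g ((𝟙 T₀ : T₀ ⟶ T₀) ^ (q ^ k))) :
    (∃ (T : Over (Spec (CommRingCat.of A))) (_ : GrpObj T) (j : T ⟶ G), IsMonHom j ∧ Mono j ∧ Red.IsTorus T ∧
      (∃ e : Red.bc (Spec.map (CommRingCat.ofHom (Ideal.Quotient.mk J))) T ≅ T₀, e.hom ≫ j₀ = (Over.pullback (Spec.map (CommRingCat.ofHom (Ideal.Quotient.mk J)))).map j) ∧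
      ∀ k, ∃ g : M k ⟶ T, g ≫ j = m k ∧ AlgGrp.IsKernel g ((𝟙 T : T ⟶ T) ^ (q ^ k))) ∧
    (∀ (T₁ T₂ : Over (Spec (CommRingCat.of A))) [GrpObj T₁] [GrpObj T₂] (j₁ : T₁ ⟶ G) (j₂ : T₂ ⟶ G) [IsMonHom j₁] [Mono j₁]
      [IsMonHom j₂] [Mono j₂], Red.IsTorus T₁ → Red.IsTorus T₂ →
      (∃ e : Red.bc (Spec.map (CommRingCat.ofHom (Ideal.Quotient.mk J))) T₁ ≅ T₀, e.hom ≫ j₀ = (Over.pullback (Spec.map (CommRingCat.ofHom (Ideal.Quotient.mk J)))).map j₁) →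
      (∃ e : Red.bc (Spec.map (CommRingCat.ofHom (Ideal.Quotient.mk J))) T₂ ≅ T₀, e.hom ≫ j₀ = (Over.pullback (Spec.map (CommRingCat.ofHom (Ideal.Quotient.mk J)))).map j₂) →
      (∀ k, ∃ g : M k ⟶ T₁, g ≫ j₁ = m k ∧ AlgGrp.IsKernel g ((𝟙 T₁ : T₁ ⟶ T₁) ^ (q ^ k))) →
      (∀ k, ∃ g : M k ⟶ T₂, g ≫ j₂ = m k ∧ AlgGrp.IsKernel g ((𝟙 T₂ : T₂ ⟶ T₂) ^ (q ^ k))) →
      ∃ φ : T₁ ≅ T₂, φ.hom ≫ j₂ = j₁) := by
  have hm' : ∀ k, IsMonHom (m k) ∧ Mono (m k) ∧ K7.MTHaar.IsMT (M k) := fun k =>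
    ⟨(hm k).1, (hm k).2.1, K18.SubtorLift.isMT_of_FT (hm k).2.2⟩
  refine ⟨?_, ?_⟩
  · obtain ⟨T, i1, j, h1, h2, h3, h4, h5⟩ := K18.SubtorLift.exists_subtorus hJ j₀ q hq M m hm' ht₀
      (fun j k h => by
        obtain ⟨f, hf, -⟩ := hcoh j k h
        exact ⟨f, hf⟩)
      (fun k => by
        obtain ⟨g, hg, hg'⟩ := hlift k
        exact ⟨g, hg, K18.TorsFam.isTor_of_isKernel g hg'⟩)
    refine ⟨T, i1, j, h1, h2, h3, h4, fun k => ?_⟩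
    obtain ⟨g, hg, hg'⟩ := h5 k
    exact ⟨g, hg, K18.TorsFam.isKernel_of_isTor hg'⟩
  · rintro T₁ T₂ _ _ j₁ j₂ _ _ _ _ h₁ h₂ ⟨e₁, he₁⟩ ⟨e₂, he₂⟩ hg₁ hg₂
    choose g₁ hg₁ hg₁' using hg₁
    choose g₂ hg₂ hg₂' using hg₂
    exact K18.SubtorLift.exists_iso_subtorus hJ j₀ q hq M m hm' j₁ j₂ h₁ h₂ e₁ he₁ e₂ he₂ g₁ hg₁
      (fun k => K18.TorsFam.isTor_of_isKernel (g₁ k) (hg₁' k)) g₂ hg₂

end Groth.Agent.S8440
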