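import Groth.Statements.S8438
import Groth.Agent.SGA3x.K211.Main
import Groth.Agent.SGA3x.K211.Conn
import Groth.Agent.SGA3x.K18.TorSpec
import Groth.Agent.SGA3x.K14.TorGenMain

set_option autoImplicit false
universe u
open CategoryTheory MonoidalCategory CartesianMonoidalCategory MonObj GrpObj AlgebraicGeometry
open SGA3x

namespace Groth.Agent.S8438

/-- Over a connected Noetherian affine base S = Spec A: let G be an S-group scheme of finite type, q > 1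
an integer invertible on S, r ≥ 0, and for every n = q^k let M(n) be a subgroup scheme of G of
multiplicative type and of type (ℤ/nℤ)^r. Assume: a) the family is coherent: for j ≤ k, M(q^j) is
the q^j-torsion subgroup of M(q^k); b) there are a point s ∈ S and a subtorus T_s of the fibre G_s
with M(n)_s = ₙT_s for all n; c) for every t ∈ S there is a closed affine subscheme of the geometric
fibre G_t̄ containing all the M(n)_t̄. Then there is one and only one subtorus T of G with ₙT = M(n)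
for every n = q^k (uniqueness up to isomorphism over G). (The published statement is over any
connected locally Noetherian base; this row is over a connected Noetherian affine base.) -/
theorem result (A : Type u) [CommRing A] [IsNoetherianRing A]
    [ConnectedSpace ↥(Spec (CommRingCat.of A))] (G : Over (Spec (CommRingCat.of A))) [GrpObj G] [QuasiCompact G.hom] [LocallyOfFiniteType G.hom]
    (q : ℕ) (hq : 1 < q) (hqu : IsUnit (q : A)) (r : ℕ)
    (M : ℕ → Over (Spec (CommRingCat.of A))) (grp : ∀ k, GrpObj (M k)) (m : ∀ k, M k ⟶ G)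
    (hm : ∀ k, IsMonHom (m k) ∧ Mono (m k) ∧ SGA3x.IsMultTypeFT (M k) ∧
      ∀ t : ↥(Spec (CommRingCat.of A)), Nonempty (Grp.mk (Red.geomFibre t (M k)) ≅
        Grp.mk (Red.DS (Spec (CommRingCat.of (AlgebraicClosure ((Spec (CommRingCat.of A)).residueField t)))) (Fin r → ZMod (q ^ k)))))
    (hcoh : ∀ j k : ℕ, j ≤ k → ∃ f : M j ⟶ M k, f ≫ m k = m j ∧ AlgGrp.IsKernel f ((𝟙 (M k) : M k ⟶ M k) ^ (q ^ j)))
    (hs : ∃ (s : ↥(Spec (CommRingCat.of A))) (Ts : Over (Spec ((Spec (CommRingCat.of A)).residueField s))) (_ : GrpObj Ts)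
      (js : Ts ⟶ Red.bc ((Spec (CommRingCat.of A)).fromSpecResidueField s) G), IsMonHom js ∧ Mono js ∧ Red.IsTorus Ts ∧
      ∀ k, ∃ g : Red.bc ((Spec (CommRingCat.of A)).fromSpecResidueField s) (M k) ⟶ Ts,
        g ≫ js = (Over.pullback ((Spec (CommRingCat.of A)).fromSpecResidueField s)).map (m k) ∧
        AlgGrp.IsKernel g ((𝟙 Ts : Ts ⟶ Ts) ^ (q ^ k)))
    (hc : ∀ t : ↥(Spec (CommRingCat.of A)), ∃ (F : Scheme.{u}) (f : F ⟶ (Red.geomFibre t G).left), IsClosedImmersion f ∧ IsAffine F ∧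
      ∀ k, ∃ g : (Red.geomFibre t (M k)).left ⟶ F, g ≫ f = ((Over.pullback (Red.geomPt t)).map (m k)).left) :
    (∃ (T : Over (Spec (CommRingCat.of A))) (_ : GrpObj T) (j : T ⟶ G), IsMonHom j ∧ Mono j ∧ Red.IsTorus T ∧
      ∀ k, ∃ g : M k ⟶ T, g ≫ j = m k ∧ AlgGrp.IsKernel g ((𝟙 T : T ⟶ T) ^ (q ^ k))) ∧
    (∀ (T₁ T₂ : Over (Spec (CommRingCat.of A))) [GrpObj T₁] [GrpObj T₂] (j₁ : T₁ ⟶ G) (j₂ : T₂ ⟶ G) [IsMonHom j₁] [Mono j₁]
      [IsMonHom j₂] [Mono j₂], Red.IsTorus T₁ → Red.IsTorus T₂ →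
      (∀ k, ∃ g : M k ⟶ T₁, g ≫ j₁ = m k ∧ AlgGrp.IsKernel g ((𝟙 T₁ : T₁ ⟶ T₁) ^ (q ^ k))) →
      (∀ k, ∃ g : M k ⟶ T₂, g ≫ j₂ = m k ∧ AlgGrp.IsKernel g ((𝟙 T₂ : T₂ ⟶ T₂) ^ (q ^ k))) →
      ∃ φ : T₁ ≅ T₂, φ.hom ≫ j₂ = j₁) := by
  have hm' : ∀ k, IsMonHom (m k) ∧ Mono (m k) ∧ SGA3x.IsMultTypeFT (M k) := fun k => ⟨(hm k).1, (hm k).2.1, (hm k).2.2.1⟩
  have hcoh' : ∀ j k : ℕ, j ≤ k → ∃ f : M j ⟶ M k, f ≫ m k = m j := fun j k h => (hcoh j k h).imp fun f hf => hf.1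
  refine ⟨K211.Main.exists_torus_of_fibres hq hqu (m := m) ⟨hm', hcoh⟩ fun s => ?_, ?_⟩
  · obtain ⟨s₀, hs₀⟩ := hs
    exact K211.Conn.forall_of_stable
      (fun t : ↥(Spec (CommRingCat.of A)) => K207.FibDesc.FD q m ((Spec (CommRingCat.of A)).fromSpecResidueField t))
      (fun t s hts ht => K18.TorSpec.main hq hqu M grp m hm' hcoh' hts ht)
      (fun t s hts hs => K14.TorGenMain.main hq hqu M grp m hm' hcoh hts (hc t) hs) hs₀ s
  · intro T₁ T₂ _ _ j₁ j₂ _ _ _ _ h₁ h₂ hk₁ hk₂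
    exact K207.SubTor.exists_iso hq j₁ j₂ h₁ h₂ M m hk₁ hk₂

end Groth.Agent.S8438
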