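import Groth.Statements.S16611
import Groth.Agent.SGA3x.K19.DSKit
import Groth.Agent.Sga3B.TorusEtSplit

set_option autoImplicit false
open CategoryTheory MonoidalCategory CartesianMonoidalCategory MonObj GrpObj AlgebraicGeometry
universe u
open SGA3x

namespace Groth.Agent.S16611

/-- Over an arbitrary scheme S, a monomorphism f : T ⟶ T' of S-tori with the same rank function (at
every point of S the geometric fibres of T and T' are split tori of the same rank) is an
isomorphism. -/
theorem result {S : Scheme.{u}} {T T' : Over S} [GrpObj T] [GrpObj T']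
    (hT : Red.IsTorus T) (hT' : Red.IsTorus T') (f : T ⟶ T') [IsMonHom f] [Mono f]
    (hrk : ∀ s : ↥S, ∃ r : ℕ, Red.IsSplitTorusWith (Fin r → ℤ) (Red.geomFibre s T) ∧
      Red.IsSplitTorusWith (Fin r → ℤ) (Red.geomFibre s T')) : IsIso f := by
  have h1 := Sga3B.TorusAlgClosed.smooth_of_isTorus hT
  have h2 := Sga3B.TorusAlgClosed.smooth_of_isTorus hT'
  refine Sga3B.TorusEtSplit.isIso_of_geomFibres f fun s => ?_
  obtain ⟨r, ha, hb⟩ := hrk s
  have h3 : IsMonHom ((Over.pullback (Red.geomPt s)).map f) := inferInstance
  exact K19.DSKit.isIso_of_mono_local le_rfl ha hb _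

end Groth.Agent.S16611
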