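import Groth.Statements.S12062
import Groth.Agent.SGA3x.K18.HomTor
import Groth.Agent.S8438

set_option autoImplicit false
universe u
open CategoryTheory MonoidalCategory CartesianMonoidalCategory MonObj GrpObj AlgebraicGeometry
open SGA3x

namespace Groth.Agent.S12062

/-- Let A be a Noetherian ring with Spec A connected, S = Spec A, G an S-group scheme of finite type, q
> 1 an integer invertible on S, T an S-torus, and for every n = q^k let u(n) : ₙT → G be a
homomorphism of S-groups defined on the n-torsion subgroup ₙT of T (the kernel of the n-th power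
map). Assume: a) the family is coherent: for j ≤ k the restriction of u(q^k) to the q^j-torsion is
u(q^j); b) there are a point s ∈ S and a homomorphism u_s : T_s → G_s of the fibres at s whose
restriction to ₙT_s is u(n)_s for every n; c) for every t ∈ S there is a closed affine subscheme of
the geometric fibre G_t̄ through which all the maps u(n)_t̄ factor. Then there is one and only one
homomorphism u : T → G whose restriction to ₙT is u(n) for every n = q^k. (The published statement
is over any connected locally Noetherian base; this row is over a connected Noetherian affine base.) -/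
theorem result (A : Type u) [CommRing A] [IsNoetherianRing A]
    [ConnectedSpace ↥(Spec (CommRingCat.of A))] (G : Over (Spec (CommRingCat.of A))) [GrpObj G] [QuasiCompact G.hom] [LocallyOfFiniteType G.hom]
    (q : ℕ) (hq : 1 < q) (hqu : IsUnit (q : A))
    (T : Over (Spec (CommRingCat.of A))) [GrpObj T] (hT : Red.IsTorus T)
    (N : ℕ → Over (Spec (CommRingCat.of A))) (grp : ∀ k, GrpObj (N k)) (i : ∀ k, N k ⟶ T)
    (hi : ∀ k, IsMonHom (i k) ∧ AlgGrp.IsKernel (i k) ((𝟙 T : T ⟶ T) ^ (q ^ k)))
    (u : ∀ k, N k ⟶ G) (hu : ∀ k, IsMonHom (u k))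
    (hcoh : ∀ j k : ℕ, j ≤ k → ∃ f : N j ⟶ N k, f ≫ i k = i j ∧ f ≫ u k = u j)
    (hs : ∃ (s : ↥(Spec (CommRingCat.of A))) (us : Red.bc ((Spec (CommRingCat.of A)).fromSpecResidueField s) T ⟶ Red.bc ((Spec (CommRingCat.of A)).fromSpecResidueField s) G),
      IsMonHom us ∧ ∀ k, (Over.pullback ((Spec (CommRingCat.of A)).fromSpecResidueField s)).map (i k) ≫ us =
        (Over.pullback ((Spec (CommRingCat.of A)).fromSpecResidueField s)).map (u k))
    (hc : ∀ t : ↥(Spec (CommRingCat.of A)), ∃ (F : Scheme.{u}) (f : F ⟶ (Red.geomFibre t G).left), IsClosedImmersion f ∧ IsAffine F ∧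
      ∀ k, ∃ g : (Red.geomFibre t (N k)).left ⟶ F, g ≫ f = ((Over.pullback (Red.geomPt t)).map (u k)).left) :
    ∃! v : T ⟶ G, IsMonHom v ∧ ∀ k, i k ≫ v = u k :=
  K18.HomTor.main hq hqu hT hi hu hcoh hs hc @Groth.Agent.S8438.result

end Groth.Agent.S12062
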