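import Groth.Statements.S12064
import Groth.Agent.SGA3x.K19.NormQuot
import Groth.Agent.SGA3x.K19.FinQuot

set_option autoImplicit false
universe u
open CategoryTheory MonoidalCategory CartesianMonoidalCategory MonObj GrpObj AlgebraicGeometry CategoryTheory.Limits
open SGA3x

namespace Groth.Agent.S12064

/-- Let G be an S-group scheme, smooth and affine over S, T a maximal torus of G, C = Centr_G(T) and N =
Norm_G(T), with C → N the inclusion. Suppose the Weyl group W(T) = N/C is finite over S: some w : N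
→ W represents the fppf quotient of N by C with W finite over S. Then if q′ : G → Q′ represents the
fppf quotient G/C, Q′ is affine over S. -/
theorem result (S : Scheme.{u}) (G : Over S) [GrpObj G]
    [IsAffineHom G.hom] [Smooth G.hom]
    (T : Over S) [GrpObj T] (i : T ⟶ G) (hT : Red.IsMaximalTorus i)
    (C : Over S) [GrpObj C] (c : C ⟶ G) (hC : Red.IsCentralizerOf i c)
    (N : Over S) [GrpObj N] (n : N ⟶ G) (hN : Red.IsNormalizerOf i n)
    (c' : C ⟶ N) [IsMonHom c'] (hc' : c' ≫ n = c)
    (W : Over S) (w : N ⟶ W) (hw : RedSub.IsQuotient c' w) [IsFinite W.hom]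
    (Q' : Over S) (q' : G ⟶ Q') (hq' : RedSub.IsQuotient c q') :
    IsAffineHom Q'.hom := by
  have hi1 : IsMonHom i := hT.1
  have hi2 : Mono i := hT.2.1
  have hn1 : IsMonHom n := hN.1
  have hn2 : Mono n := hN.2.1
  have h4 : IsClosedImmersion i.left :=
    Groth.Agent.Sga3B.TorClosed636.isClosedImmersion_of_isTorus i hT.2.2.1
  have hCq : QuasiCompact C.hom := by
    obtain ⟨⟨Z, _, z, hZ, hz, -⟩, -⟩ := Groth.Agent.S3006.result S G T i h4 hT.2.2.1
    have hm : Mono c := hC.2.1
    have hm' : Mono z := hZ.2.1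
    obtain ⟨a, ha⟩ := (hC.2.2 Z z).2 ((hZ.2.2 Z z).1 ⟨𝟙 _, Category.id_comp _⟩)
    obtain ⟨b, hb⟩ := (hZ.2.2 C c).2 ((hC.2.2 C c).1 ⟨𝟙 _, Category.id_comp _⟩)
    have hiso : IsIso b := ⟨a, by rw [← cancel_mono c, Category.assoc, ha, hb, Category.id_comp],
      by rw [← cancel_mono z, Category.assoc, hb, ha, Category.id_comp]⟩
    have hiso' : IsIso b.left := inferInstanceAs (IsIso ((Over.forget _).map b))
    rw [← Over.w b, ← Over.w z]
    infer_instance
  obtain ⟨M, q, h1, h2, h3, h5⟩ := K19.NormQuot.exists_quotient i hT n hN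
  obtain ⟨π, hπ⟩ := K19.FinQuot.exists_proj hc' h1 hq'
  have := Groth.Agent.S0084.result.{u}
  have h6 : IsFinite π.left := K19.FinQuot.prop_proj hc' hw h1 hq' hπ @IsFinite inferInstance
  rw [← Over.w π]
  infer_instance

end Groth.Agent.S12064
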