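import Groth.Statements.S12066
import Groth.Agent.S0238

set_option autoImplicit false
universe u
open CategoryTheory AlgebraicGeometry
open FSch

namespace Groth.Agent.S12066

open CategoryTheory.Limits

/-- The projection of a base change of finite etale covers. -/
noncomputable def pr {X Y : Scheme.{u}} (f : X ⟶ Y) (V : FEt.Cat Y) :
    ((FEt.restrict f).obj V).left ⟶ V.left := pullback.fst V.hom f

theorem isPullback_pr {X Y : Scheme.{u}} (f : X ⟶ Y) (V : FEt.Cat Y) :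
    IsPullback (pr f V) ((FEt.restrict f).obj V).hom V.hom f := IsPullback.of_hasPullback V.hom f

theorem restrict_map_pr {X Y : Scheme.{u}} (f : X ⟶ Y) {V V' : FEt.Cat Y} (Φ : V ⟶ V') :
    ((FEt.restrict f).map Φ).left ≫ pr f V' = pr f V ≫ Φ.left :=
  pullback.lift_fst _ _ _

theorem left_comp {X : Scheme.{u}} {U V W : FEt.Cat X} (a : U ⟶ V) (b : V ⟶ W) :
    (a ≫ b).left = a.left ≫ b.left := rfl

theorem left_id {X : Scheme.{u}} (U : FEt.Cat X) : (𝟙 U : U ⟶ U).left = 𝟙 _ := rfl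

theorem left_w {X : Scheme.{u}} {V W : FEt.Cat X} (e : V ⟶ W) : e.left ≫ W.hom = V.hom :=
  Over.w e.hom

/-- A cartesian square identifies a base change of finite etale covers. -/
noncomputable def bcIso {X Y : Scheme.{u}} (f : X ⟶ Y) (V : FEt.Cat Y) (W : FEt.Cat X)
    (g : W.left ⟶ V.left) (h : IsPullback g W.hom V.hom f) : (FEt.restrict f).obj V ≅ W :=
  MorphismProperty.Over.isoMk h.isoPullback.symm (by exact h.isoPullback_inv_snd)

theorem bcIso_inv_pr {X Y : Scheme.{u}} (f : X ⟶ Y) (V : FEt.Cat Y) (W : FEt.Cat X)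
    (g : W.left ⟶ V.left) (h : IsPullback g W.hom V.hom f) :
    (bcIso f V W g h).inv.left ≫ pr f V = g :=
  h.isoPullback_hom_fst

theorem bcIso_hom_pr {X Y : Scheme.{u}} (f : X ⟶ Y) (V : FEt.Cat Y) (W : FEt.Cat X)
    (g : W.left ⟶ V.left) (h : IsPullback g W.hom V.hom f) :
    (bcIso f V W g h).hom.left ≫ g = pr f V :=
  h.isoPullback_inv_fst

/-- Lifting morphisms of finite etale covers along a thickening. -/
theorem exists_lift {X Y : Scheme.{u}} (f : X ⟶ Y) [(FEt.restrict f).Full]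
    {V V' : FEt.Cat Y} {W W' : FEt.Cat X} (g : W.left ⟶ V.left) (h : IsPullback g W.hom V.hom f)
    (g' : W'.left ⟶ V'.left) (h' : IsPullback g' W'.hom V'.hom f) (φ : W ⟶ W') :
    ∃ Φ : V ⟶ V', g ≫ Φ.left = φ.left ≫ g' := by
  obtain ⟨Φ, hΦ⟩ := (FEt.restrict f).map_surjective
    ((bcIso f V W g h).hom ≫ φ ≫ (bcIso f V' W' g' h').inv)
  refine ⟨Φ, ?_⟩
  have h1 := restrict_map_pr f Φ
  rw [hΦ, left_comp, left_comp, Category.assoc, Category.assoc, bcIso_inv_pr,
    ← bcIso_hom_pr f V W g h, Category.assoc] at h1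
  have h2 := congrArg (fun t => (bcIso f V W g h).inv.left ≫ t) h1
  rw [← Category.assoc, ← left_comp, Iso.inv_hom_id, left_id, Category.id_comp,
    ← Category.assoc, ← left_comp, Iso.inv_hom_id, left_id, Category.id_comp] at h2
  exact h2.symm

theorem lift_unique {X Y : Scheme.{u}} (f : X ⟶ Y) [(FEt.restrict f).Faithful]
    {V V' : FEt.Cat Y} {W : FEt.Cat X} (g : W.left ⟶ V.left) (h : IsPullback g W.hom V.hom f)
    (Φ Ψ : V ⟶ V') (he : g ≫ Φ.left = g ≫ Ψ.left) : Φ = Ψ := by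
  apply (FEt.restrict f).map_injective
  apply MorphismProperty.Over.Hom.ext
  apply (isPullback_pr f V').hom_ext
  · rw [restrict_map_pr, restrict_map_pr, ← bcIso_hom_pr f V W g h, Category.assoc,
      Category.assoc, he]
  · rw [left_w, left_w]

variable (𝔛 : FSch.Sys.{u})

/-- The level `n` of an etale cover. -/
noncomputable abbrev lv (R : EtCov 𝔛) (n : ℕ) : FEt.Cat (𝔛.X n) := (EtCov.level 𝔛 n).obj R

/-- The transition maps of an etale cover. -/
noncomputable abbrev tr (R : EtCov 𝔛) (n : ℕ) : (lv 𝔛 R n).left ⟶ (lv 𝔛 R (n + 1)).left :=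
  R.obj.left.ι n

theorem isPullback_tr (R : EtCov 𝔛) (n : ℕ) :
    IsPullback (tr 𝔛 R n) (lv 𝔛 R n).hom (lv 𝔛 R (n + 1)).hom (𝔛.ι n) := R.property.1 n

theorem map_tr {R R' : EtCov 𝔛} (φ : R ⟶ R') (n : ℕ) :
    tr 𝔛 R n ≫ ((EtCov.level 𝔛 (n + 1)).map φ).left =
      ((EtCov.level 𝔛 n).map φ).left ≫ tr 𝔛 R' n :=
  ((φ.hom.left : Hom _ _).comm n).symm

/-- A compatible family of morphisms of levels gives a morphism of etale covers. -/
theorem exists_of_levels {R R' : EtCov 𝔛} (φ : ∀ n, lv 𝔛 R n ⟶ lv 𝔛 R' n)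
    (hφ : ∀ n, tr 𝔛 R n ≫ (φ (n + 1)).left = (φ n).left ≫ tr 𝔛 R' n) :
    ∃ Φ : R ⟶ R', ∀ n, (EtCov.level 𝔛 n).map Φ = φ n := by
  let a : R.obj.left ⟶ R'.obj.left :=
    (⟨fun n => (φ n).left, fun n => (hφ n).symm⟩ : Hom R.obj.left R'.obj.left)
  have ha : a ≫ R'.obj.hom = R.obj.hom := Hom.ext (funext fun n => left_w (φ n))
  refine ⟨ObjectProperty.homMk (Over.homMk a ha), fun n => ?_⟩
  apply MorphismProperty.Over.Hom.ext
  rfl

theorem hom_ext_levels {R R' : EtCov 𝔛} {Φ Ψ : R ⟶ R'}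
    (h : ∀ n, (EtCov.level 𝔛 n).map Φ = (EtCov.level 𝔛 n).map Ψ) : Φ = Ψ := by
  apply ObjectProperty.hom_ext
  apply Over.OverMorphism.ext
  refine Hom.ext (funext fun n => ?_)
  exact congrArg (fun t => t.left) (h n)

section Lift

variable (he : ∀ n, (FEt.restrict (𝔛.ι n)).IsEquivalence)

include he in
theorem faithful_zero : (EtCov.level 𝔛 0).Faithful where
  map_injective {R R'} Φ Ψ h := by
    apply hom_ext_levels
    intro n
    induction n with
    | zero => exact h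
    | succ n ih =>
      have := he n
      refine lift_unique (𝔛.ι n) (tr 𝔛 R n) (isPullback_tr 𝔛 R n) _ _ ?_
      rw [map_tr, map_tr, ih]

include he in
theorem full_zero : (EtCov.level 𝔛 0).Full where
  map_surjective {R R'} φ₀ := by
    have hl : ∀ n (φ : lv 𝔛 R n ⟶ lv 𝔛 R' n), ∃ Φ : lv 𝔛 R (n + 1) ⟶ lv 𝔛 R' (n + 1),
        tr 𝔛 R n ≫ Φ.left = φ.left ≫ tr 𝔛 R' n := fun n φ =>
      have := he n
      exists_lift (𝔛.ι n) (tr 𝔛 R n) (isPullback_tr 𝔛 R n) (tr 𝔛 R' n) (isPullback_tr 𝔛 R' n) φ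
    choose L hL using hl
    let φ : ∀ n, lv 𝔛 R n ⟶ lv 𝔛 R' n := fun n => Nat.rec φ₀ (fun n φ => L n φ) n
    obtain ⟨Φ, hΦ⟩ := exists_of_levels 𝔛 φ (fun n => hL n (φ n))
    exact ⟨Φ, hΦ 0⟩

/-- The successive lifts of a finite etale cover. -/
noncomputable def liftCov (C : FEt.Cat (𝔛.X 0)) : ∀ n, FEt.Cat (𝔛.X n)
  | 0 => C
  | n + 1 => have := he n; (FEt.restrict (𝔛.ι n)).objPreimage (liftCov C n)

/-- The comparison of the successive lifts. -/
noncomputable def liftIso (C : FEt.Cat (𝔛.X 0)) (n : ℕ) :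
    (FEt.restrict (𝔛.ι n)).obj (liftCov 𝔛 he C (n + 1)) ≅ liftCov 𝔛 he C n :=
  have := he n
  (FEt.restrict (𝔛.ι n)).objObjPreimageIso (liftCov 𝔛 he C n)

/-- The transition maps of the successive lifts. -/
noncomputable def liftTr (C : FEt.Cat (𝔛.X 0)) (n : ℕ) :
    (liftCov 𝔛 he C n).left ⟶ (liftCov 𝔛 he C (n + 1)).left :=
  (liftIso 𝔛 he C n).inv.left ≫ pr (𝔛.ι n) (liftCov 𝔛 he C (n + 1))

theorem isPullback_liftTr (C : FEt.Cat (𝔛.X 0)) (n : ℕ) :
    IsPullback (liftTr 𝔛 he C n) (liftCov 𝔛 he C n).hom (liftCov 𝔛 he C (n + 1)).hom (𝔛.ι n) := by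
  have h1 := isPullback_pr (𝔛.ι n) (liftCov 𝔛 he C (n + 1))
  have h2 : (liftIso 𝔛 he C n).hom.left ≫ (liftIso 𝔛 he C n).inv.left = 𝟙 _ := by
    rw [← left_comp, Iso.hom_inv_id, left_id]
  have h3 : (liftIso 𝔛 he C n).inv.left ≫ (liftIso 𝔛 he C n).hom.left = 𝟙 _ := by
    rw [← left_comp, Iso.inv_hom_id, left_id]
  refine IsPullback.of_iso h1 ⟨_, _, h2, h3⟩ (Iso.refl _) (Iso.refl _) (Iso.refl _) ?_ ?_ ?_ ?_
  · rw [Iso.refl_hom, Category.comp_id, liftTr, ← Category.assoc]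
    change pr _ _ = ((liftIso 𝔛 he C n).hom.left ≫ (liftIso 𝔛 he C n).inv.left) ≫ _
    rw [h2, Category.id_comp]
  · exact (Category.comp_id _).trans (left_w (liftIso 𝔛 he C n).hom).symm
  · simp
  · simp

include he in
theorem essSurj_zero : (EtCov.level 𝔛 0).EssSurj where
  mem_essImage C := by
    let R : FSch.Sys.{u} := ⟨fun n => (liftCov 𝔛 he C n).left, liftTr 𝔛 he C⟩
    let r : R ⟶ 𝔛 := (⟨fun n => (liftCov 𝔛 he C n).hom, fun n => (isPullback_liftTr 𝔛 he C n).w.symm⟩ :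
      Hom R 𝔛)
    have hr : IsEtaleCover r := ⟨isPullback_liftTr 𝔛 he C, fun n => (liftCov 𝔛 he C n).prop⟩
    refine ⟨⟨Over.mk r, hr⟩, ⟨MorphismProperty.Over.isoMk (Iso.refl _) ?_⟩⟩
    exact Category.id_comp _

end Lift

/-- Let 𝔛 be a locally Noetherian formal scheme with an ideal of definition, presented as the adic
system of its thickenings X_0 → X_1 → ⋯ (each X_n locally Noetherian). Then the functor "fibre over
X_0", from the category of étale covers of 𝔛 (adic systems R_n → X_n of finite étale covers) to the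
category of finite étale covers of the scheme X_0, is an equivalence of categories. -/
theorem result (𝔛 : FSch.Sys.{u}) (h𝔛 : 𝔛.IsLocNoethFormal) :
    (FSch.EtCov.level 𝔛 0).IsEquivalence := by
  have he : ∀ n, (FEt.restrict (𝔛.ι n)).IsEquivalence := fun n => by
    have h1 := (h𝔛.1 n).1
    have h2 : Surjective (𝔛.ι n) := ⟨(h𝔛.1 n).2⟩
    exact Groth.Agent.S0238.result (𝔛.ι n)
  have := faithful_zero 𝔛 he
  have := full_zero 𝔛 he
  have := essSurj_zero 𝔛 he
  exact {}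

end Groth.Agent.S12066
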