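import Groth.Statements.S12067
import Groth.Agent.Sga3A.ComodBasic

set_option autoImplicit false
universe u
open TensorProduct
open SGA3t2b

namespace Groth.Agent.S12067

open HopfRep Groth.Agent.Sga3A.ComodBasic

/-- One step: a proper subcomodule is contained in a subcomodule of dimension one more, with trivial
quotient. -/
lemma step {k A V : Type u} [Field k] [CommRing A] [HopfAlgebra k A]
    (hU : HopfRep.IsUnipotent k A) [AddCommGroup V] [Module k V] [HopfRep.Comod k A V]
    [Module.Finite k V] (W : Submodule k V) (hW : IsSubcomod (k := k) (A := A) W) (hne : W ≠ ⊤) :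
    ∃ W' : Submodule k V, W ≤ W' ∧ Module.finrank k W' = Module.finrank k W + 1 ∧
      ∀ v ∈ W', ∀ g : A →ₗ[k] k, T V g v - g 1 • v ∈ W := by
  letI : Comod k A (V ⧸ W) := quot W hW
  haveI : Nontrivial (V ⧸ W) := Submodule.Quotient.nontrivial_iff.mpr hne
  have h1 := hU (V ⧸ W) inferInstance inferInstance
  obtain ⟨x, hx, hx0⟩ := Submodule.exists_mem_ne_zero_of_ne_bot h1
  obtain ⟨v, rfl⟩ := W.mkQ_surjective x
  have hx' : Comod.coact (k := k) (A := A) (W.mkQ v) = (W.mkQ v) ⊗ₜ[k] (1 : A) := hx
  have hv : v ∉ W := by
    intro h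
    apply hx0
    rw [Submodule.mkQ_apply, Submodule.Quotient.mk_eq_zero]
    exact h
  have hcoact : ∀ z, Comod.coact (k := k) (A := A) (W.mkQ z) =
      W.mkQ.rTensor A (Comod.coact (k := k) (A := A) z) := by
    intro z
    change quotCoact W hW (W.mkQ z) = _
    rw [quotCoact, Submodule.mkQ_apply, Submodule.liftQ_apply]
    rfl
  have hT : ∀ (g : A →ₗ[k] k) z, W.mkQ (T V g z) = T (V ⧸ W) g (W.mkQ z) := by
    intro g z
    rw [T_apply, T_apply, hcoact]
    generalize (Comod.coact (k := k) (A := A) z) = t
    induction t with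
    | zero => simp
    | add x y hx hy => simp only [map_add, hx, hy]
    | tmul a b => simp
  have hfix : ∀ g : A →ₗ[k] k, T V g v - g 1 • v ∈ W := by
    intro g
    rw [← Submodule.Quotient.mk_eq_zero, ← Submodule.mkQ_apply, map_sub, hT, map_smul, T_apply, hx']
    simp
  refine ⟨W ⊔ Submodule.span k {v}, le_sup_left, ?_, ?_⟩
  · have hdisj : Disjoint W (Submodule.span k {v}) := by
      rw [Submodule.disjoint_span_singleton' (by rintro rfl; exact hv (zero_mem _))]
      exact hv
    have h2 := Submodule.finrank_sup_add_finrank_inf_eq W (Submodule.span k {v})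
    rw [hdisj.eq_bot, finrank_bot, add_zero, finrank_span_singleton] at h2
    · exact h2
    · rintro rfl; exact hv (zero_mem _)
  · intro w hw g
    obtain ⟨y, hy, z, hz, rfl⟩ := Submodule.mem_sup.mp hw
    obtain ⟨c, rfl⟩ := Submodule.mem_span_singleton.mp hz
    have hy' := (isSubcomod_iff W).mp hW g y hy
    have : T V g (y + c • v) - g 1 • (y + c • v) = (T V g y - g 1 • y) + c • (T V g v - g 1 • v) := by
      rw [map_add, map_smul, smul_add, smul_sub, smul_comm c (g 1) v]
      abel
    rw [this]
    exact add_mem (sub_mem hy' (Submodule.smul_mem _ _ hy)) (Submodule.smul_mem _ _ (hfix g))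

/-- In Hopf-algebra form, let k be a field and A a finitely generated commutative Hopf algebra over k
(an affine algebraic group G) which is unipotent: every nonzero finite-dimensional comodule has a
nonzero fixed vector. Then every finite-dimensional comodule V (a finite-dimensional representation
of G), of dimension n, has a flag of subcomodules 0 = V_0 ⊂ V_1 ⊂ ⋯ ⊂ V_n = V with one-dimensional
successive quotients on which G acts trivially: for v ∈ V_(i+1) the coaction of v is congruent to v
⊗ 1 modulo V_i ⊗ A. -/
theorem result (k : Type u) [Field k] (A : Type u) [CommRing A]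
    [HopfAlgebra k A] [Algebra.FiniteType k A] (hU : HopfRep.IsUnipotent k A)
    (V : Type u) [AddCommGroup V] [Module k V] [HopfRep.Comod k A V] [Module.Finite k V] :
    ∃ F : Fin (Module.finrank k V + 1) → Submodule k V,
      F 0 = ⊥ ∧ F (Fin.last _) = ⊤ ∧
      (∀ i : Fin (Module.finrank k V + 1), HopfRep.IsSubcomod (k := k) (A := A) (F i)) ∧
      ∀ i : Fin (Module.finrank k V), F i.castSucc ≤ F i.succ ∧
        Module.finrank k ↥(F i.succ) = Module.finrank k ↥(F i.castSucc) + 1 ∧
        ∀ v ∈ F i.succ, HopfRep.Comod.coact (k := k) (A := A) v - v ⊗ₜ[k] (1 : A) ∈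
          LinearMap.range ((F i.castSucc).subtype.rTensor A) := by
  classical
  let next : Submodule k V → Submodule k V := fun W =>
    if h : IsSubcomod (k := k) (A := A) W ∧ W ≠ ⊤ then (step hU W h.1 h.2).choose else ⊤
  let F : ℕ → Submodule k V := fun i => next^[i] ⊥
  have hF0 : F 0 = ⊥ := rfl
  have hFs : ∀ i, F (i + 1) = next (F i) := fun i => Function.iterate_succ_apply' next i ⊥
  have hspec : ∀ W : Submodule k V, IsSubcomod (k := k) (A := A) W → W ≠ ⊤ →
      W ≤ next W ∧ Module.finrank k (next W) = Module.finrank k W + 1 ∧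
      ∀ v ∈ next W, ∀ g : A →ₗ[k] k, T V g v - g 1 • v ∈ W := by
    intro W hW hne
    have : next W = (step hU W hW hne).choose := dif_pos ⟨hW, hne⟩
    rw [this]
    exact (step hU W hW hne).choose_spec
  have hsub : ∀ W : Submodule k V, IsSubcomod (k := k) (A := A) W → W ≠ ⊤ →
      IsSubcomod (k := k) (A := A) (next W) := by
    intro W hW hne
    obtain ⟨h1, h2, h3⟩ := hspec W hW hne
    rw [isSubcomod_iff]
    intro g w hw
    have := add_mem (h1 (h3 w hw g)) (Submodule.smul_mem _ (g 1) hw)
    rwa [sub_add_cancel] at this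
  have hne_top : ∀ W : Submodule k V, Module.finrank k W < Module.finrank k V → W ≠ ⊤ := by
    rintro W h rfl
    rw [finrank_top] at h
    exact lt_irrefl _ h
  have key : ∀ i, i ≤ Module.finrank k V →
      IsSubcomod (k := k) (A := A) (F i) ∧ Module.finrank k (F i) = i := by
    intro i
    induction i with
    | zero =>
      intro _
      refine ⟨?_, ?_⟩
      · rw [hF0, isSubcomod_iff]
        intro g w hw
        rw [Submodule.mem_bot] at hw
        subst hw
        simp
      · rw [hF0]; exact finrank_bot k V
    | succ i ih =>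
      intro hi
      obtain ⟨h1, h2⟩ := ih (by omega)
      have hne := hne_top (F i) (by omega)
      refine ⟨?_, ?_⟩
      · rw [hFs]; exact hsub _ h1 hne
      · rw [hFs, (hspec _ h1 hne).2.1, h2]
  refine ⟨fun i => F i, rfl, ?_, fun i => (key i (by omega)).1, ?_⟩
  · apply Submodule.eq_top_of_finrank_eq
    simpa using (key (Module.finrank k V) le_rfl).2
  · intro i
    have hi := i.2
    obtain ⟨h1, h2⟩ := key i (by omega)
    obtain ⟨h3, h4, h5⟩ := hspec (F i) h1 (hne_top _ (by omega))
    rw [← hFs] at h3 h4 h5
    simp only [Fin.val_succ, Fin.val_castSucc]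
    refine ⟨h3, h4, ?_⟩
    intro v hv
    rw [mem_range_rTensor_iff]
    intro g
    have := h5 v hv g
    rw [T_apply] at this
    rw [map_sub, map_sub]
    simpa using this

end Groth.Agent.S12067
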