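import Groth.Statements.S12069
import Groth.Agent.S4286
import Groth.Agent.Pic13.H951.PresentX

set_option autoImplicit false
universe u
open CategoryTheory CategoryTheory.Limits AlgebraicGeometry
open FGA

namespace Groth.Agent.S12069

section

variable (k : Type u) [Field k] {n : ℕ} {X : Scheme.{u}} (i : X ⟶ CohB1.ProjSpace n k)

open Groth.Agent.Sga67.SerreVB in
/-- `i^* (O(a) ⊗ O^N)` is a direct sum of `N` copies of `O_X(a)`. -/
theorem exists_cofan (a : ℤ) (N : ℕ) :
    ∃ c : Fin N → (Pic13.twistOn k i (Coh.structureModule X) a ⟶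
        (Scheme.Modules.pullback i).obj ((tw n k a).obj (FlatMod.freeMod (CohB1.ProjSpace n k) N))),
      Nonempty (IsColimit (Cofan.mk _ c)) := by
  let T : (CohB1.ProjSpace n k).Modules ⥤ X.Modules := tw n k a ⋙ Scheme.Modules.pullback i
  have hpc : PreservesFiniteLimits (tw n k a) ∧ PreservesFiniteColimits (tw n k a) :=
    ((Functor.exact_tfae (tw n k a)).out 0 3).1 fun S hS =>
      CohqB.SerTw.shortExact_tw (isInvertible_twist n k a) hS
  have hpc' := hpc.2
  have : PreservesColimitsOfSize.{0, 0} (Scheme.Modules.pullback i) :=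
    (Scheme.Modules.pullbackPushforwardAdjunction i).leftAdjoint_preservesColimits
  have : PreservesFiniteColimits (Scheme.Modules.pullback i) := inferInstance
  have : PreservesFiniteColimits T := comp_preservesFiniteColimits _ _
  obtain ⟨e1⟩ := Ega3B.PullTensor.nonempty_pullUnitIso i
  let e : Pic13.twistOn k i (Coh.structureModule X) a ≅ T.obj (Coh.structureModule (CohB1.ProjSpace n k)) :=
    Ega2.Tens.lunit _ ≪≫ (Scheme.Modules.pullback i).mapIso (Ega2.Tens.lunit _).symm
  let U : (CohB1.ProjSpace n k).Modules := Coh.structureModule (CohB1.ProjSpace n k)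
  let ι : Fin N → (U ⟶ FlatMod.freeMod (CohB1.ProjSpace n k) N) := fun j =>
    Sigma.ι (fun _ : Fin N => U) j
  have h0 : IsColimit (Cofan.mk (FlatMod.freeMod (CohB1.ProjSpace n k) N) ι) :=
    coproductIsCoproduct (fun _ : Fin N => U)
  have h1 : IsColimit (Cofan.mk (T.obj (FlatMod.freeMod (CohB1.ProjSpace n k) N)) fun j => T.map (ι j)) :=
    isColimitCofanMkObjOfIsColimit T _ ι h0
  refine ⟨fun j => e.hom ≫ T.map (ι j), ⟨?_⟩⟩
  refine mkCofanColimit _ (fun s => h1.desc (Cofan.mk s.pt fun j => e.inv ≫ s.inj j)) ?_ ?_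
  · intro s j
    have h2 := h1.fac (Cofan.mk s.pt fun j => e.inv ≫ s.inj j) ⟨j⟩
    change (e.hom ≫ T.map (ι j)) ≫ _ = _
    rw [Category.assoc]
    erw [h2]
    simp
  · intro s m hm
    refine h1.hom_ext fun ⟨j⟩ => ?_
    have h2 := h1.fac (Cofan.mk s.pt fun j => e.inv ≫ s.inj j) ⟨j⟩
    erw [h2]
    have h3 := hm j
    change (e.hom ≫ T.map (ι j)) ≫ m = s.inj j at h3
    change T.map (ι j) ≫ m = e.inv ≫ s.inj j
    rw [← h3]
    simp

open Groth.Agent.Sga67 Groth.Agent.Sga67.SerreVB in
/-- an `m`-regular module with `χ(F(m)) ≤ N` is a quotient of `O(-m)^N` -/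
theorem exists_epi [X.Over (Spec (CommRingCat.of k))] [IsClosedImmersion i]
    (hi : i ≫ CohB1.ProjSpace.toSpec n k = X ↘ Spec (CommRingCat.of k)) (m : ℤ) (N : ℕ) {F : X.Modules}
    (hF : Coh.IsCoh F) (hreg : Pic13.IsMRegular k i F m)
    (hN : FGA.eulerCharLE k X (Pic13.twistOn k i F m) n ≤ N) :
    ∃ p : (Scheme.Modules.pullback i).obj ((tw n k (-m)).obj (FlatMod.freeMod (CohB1.ProjSpace n k) N)) ⟶ F,
      Epi p := by
  let G := (Scheme.Modules.pushforward i).obj F
  have hG : Coh.IsCoh G := Pic13.H951.PresentX.isCoh_push k i hF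
  have hGreg : Curv2.IsMRegular k n G m := Pic13.H951.PresentX.isMRegular_push k i hreg
  have hGm : Coh.IsCoh ((tw n k m).obj G) := isCoh_tw n k hG m
  have hfin : Module.Finite k (Coh.HH (CohB1.ProjSpace n k) ((tw n k m).obj G) 0) := S0002.result k _ _ hGm 0
  have hvan : ∀ i : ℕ, 1 ≤ i → Subsingleton (Coh.HH (CohB1.ProjSpace n k) ((tw n k m).obj G) i) := fun i hi =>
    CMReg.subsingleton_HH hG.1 hGreg i hi m (by omega)
  have hh0 := Fga.MumReg.eulerCharLE_large G m hvan n
  have hle : Module.finrank k (Coh.HH (CohB1.ProjSpace n k) ((tw n k m).obj G) 0) ≤ N := by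
    have h1 := Pic13.H951.PresentX.euler_push k i hi F m n
    have h2 : (Module.finrank k (Coh.HH (CohB1.ProjSpace n k) ((tw n k m).obj G) 0) : ℤ) ≤ N := by
      refine le_trans (le_of_eq ?_) hN
      rw [← h1]
      exact_mod_cast hh0.symm
    exact_mod_cast h2
  obtain ⟨p, hp⟩ := Pic13.H951.Present.exists_epi_of_le (k := k)
    (CMReg.isGloballyGenerated hG.1 (m := m) hGreg m le_rfl) hfin hle
  obtain ⟨e₄⟩ := nonempty_tw_tw n k m (-m) G
  obtain ⟨e₅⟩ := nonempty_tw_zero n k G
  rw [add_neg_cancel] at e₄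
  have hp' := epi_tw_map (isInvertible_twist n k (-m)) p
  have : PreservesColimitsOfSize.{0, 0} (Scheme.Modules.pullback i) :=
    (Scheme.Modules.pullbackPushforwardAdjunction i).leftAdjoint_preservesColimits
  let q : (tw n k (-m)).obj (FlatMod.freeMod (CohB1.ProjSpace n k) N) ⟶ G :=
    (tw n k (-m)).map p ≫ e₄.hom ≫ e₅.hom
  have hq : Epi q := by
    dsimp only [q]
    infer_instance
  have hq' : Epi ((Scheme.Modules.pullback i).map q) := inferInstance
  exact ⟨(Scheme.Modules.pullback i).map q ≫ (Pic13.H951.PresentX.counitIso k i F).hom, inferInstance⟩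

end

/-- Over an algebraically closed field k, let X ⊆ P^n_k be a closed subscheme and P a bounded family of
coherent O_X-modules. Then there are integers m, N and an O_X-module E which is a direct sum of N
copies of O_X(-m) such that every member of the family is a quotient of E. (The published statement
is relative, for families of classes of sheaves on the fibres of a projective scheme over a
Noetherian base, and gives two necessary conditions for boundedness, which are then shown to be
sufficient together; this row is the necessity of the first condition in the case of the base Spec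
k. Finiteness of the set of Hilbert polynomials of the family, the other necessary condition, is a
separate result.) -/
theorem result (k : Type u) [Field k] [IsAlgClosed k] (n : ℕ) (X : Scheme.{u})
    [X.Over (Spec (CommRingCat.of k))] (i : X ⟶ CohB1.ProjSpace n k) [IsClosedImmersion i]
    (hi : i ≫ CohB1.ProjSpace.toSpec n k = X ↘ Spec (CommRingCat.of k))
    (P : X.Modules → Prop) (hP : ∀ F, P F → Coh.IsCoh F) (hb : Pic13.IsBounded k X P) :
    ∃ (m : ℤ) (N : ℕ) (E : X.Modules) (c : Fin N → (Pic13.twistOn k i (Coh.structureModule X) (-m) ⟶ E)),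
      Nonempty (IsColimit (Cofan.mk E c)) ∧ ∀ F, P F → ∃ p : E ⟶ F, Epi p := by
  obtain ⟨⟨m, hm⟩, s, hs⟩ := S4286.result k n X i hi P hP hb
  let N : ℕ := s.sup fun φ => ⌊φ.eval (m : ℚ)⌋.toNat
  obtain ⟨c, hc⟩ := exists_cofan k i (-m) N
  refine ⟨m, N, _, c, hc, fun F hF => exists_epi k i hi m N (hP F hF) (hm F hF) ?_⟩
  obtain ⟨φ, hφ, hφd⟩ := hs F hF
  have h1 : ⌊φ.eval (m : ℚ)⌋.toNat ≤ N := Finset.le_sup (f := fun φ : Polynomial ℚ => ⌊φ.eval (m : ℚ)⌋.toNat) hφ
  have h2 := hφd m
  have h3 : FGA.eulerCharLE k X (Pic13.twistOn k i F m) n = ⌊φ.eval (m : ℚ)⌋ := by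
    rw [← h2, Int.floor_intCast]
  rw [h3]
  omega

end Groth.Agent.S12069
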