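import Groth.Statements.S12071
import Mathlib.GroupTheory.Archimedean


set_option autoImplicit false
open RootD

namespace Groth.Agent.S12071

/-- Let G be the group generated by two elements x, y subject to x² = y² = 1 (the infinite dihedral
group; here Mathlib's DihedralGroup 0 with x = sr 0 and y = sr 1, so that x y = r 1). Then every
normal subgroup of G containing neither x nor y is generated by an element (x y)^n with n > 0; such
a subgroup is cyclic, generated by r n. (The published statement does not exclude the trivial
subgroup, for which no n > 0 works; this row assumes the subgroup nontrivial.) -/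
theorem result (N : Subgroup (DihedralGroup 0)) [N.Normal]
    (hN : N ≠ ⊥) (hx : DihedralGroup.sr (0 : ZMod 0) ∉ N) (hy : DihedralGroup.sr (1 : ZMod 0) ∉ N) :
    ∃ n : ℕ, 0 < n ∧ N = Subgroup.zpowers (DihedralGroup.r (n : ZMod 0)) := by
  have key : ∀ i : ℤ, DihedralGroup.sr (i : ZMod 0) ∉ N := by
    intro i hi
    have hc : ∀ j : ℤ, DihedralGroup.sr ((i - 2 * j : ℤ) : ZMod 0) ∈ N := by
      intro j
      have h := ‹N.Normal›.conj_mem _ hi (DihedralGroup.r (j : ZMod 0))
      rw [DihedralGroup.inv_r, DihedralGroup.r_mul_sr, DihedralGroup.sr_mul_r] at h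
      have e : ((i - 2 * j : ℤ) : ZMod 0) = (i : ZMod 0) - j + -j := by push_cast; ring
      rw [e]; exact h
    rcases Int.even_or_odd' i with ⟨m, hm | hm⟩
    · have := hc m
      rw [hm, sub_self] at this
      exact hx (by simpa using this)
    · have := hc m
      rw [hm, add_sub_cancel_left] at this
      exact hy (by simpa using this)
  let H : AddSubgroup ℤ :=
    { carrier := {k | DihedralGroup.r (k : ZMod 0) ∈ N}
      add_mem' := fun {a b} ha hb => by
        have := N.mul_mem ha hb
        rw [DihedralGroup.r_mul_r] at this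
        simpa using this
      zero_mem' := by
        have := N.one_mem
        rw [DihedralGroup.one_def] at this
        simpa using this
      neg_mem' := fun {a} ha => by
        have := N.inv_mem ha
        rw [DihedralGroup.inv_r] at this
        simpa using this }
  obtain ⟨a, ha⟩ := Int.subgroup_cyclic H
  have hH : ∀ k : ℤ, DihedralGroup.r (k : ZMod 0) ∈ N ↔ a ∣ k := by
    intro k
    rw [← Int.mem_zmultiples_iff, AddSubgroup.zmultiples_eq_closure, ← ha]
    rfl
  have hcast : ∀ k : ZMod 0, ∃ z : ℤ, (Int.cast z : ZMod 0) = k := fun k => ZMod.intCast_surjective k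
  refine ⟨a.natAbs, ?_, ?_⟩
  · rw [Int.natAbs_pos]
    rintro rfl
    apply hN
    rw [Subgroup.eq_bot_iff_forall]
    rintro (k | k) hk
    · obtain ⟨z, rfl⟩ := hcast k
      rw [hH, zero_dvd_iff] at hk
      subst hk
      rw [DihedralGroup.one_def]; simp
    · obtain ⟨z, rfl⟩ := hcast k
      exact absurd hk (key z)
  · have ha' : DihedralGroup.r ((a.natAbs : ℕ) : ZMod 0) ∈ N := by
      have := (hH (a.natAbs : ℤ)).2 (by simp)
      simpa using this
    apply le_antisymm
    · rintro (k | k) hk
      · obtain ⟨z, rfl⟩ := hcast k
        rw [hH] at hk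
        have hk' : (a.natAbs : ℤ) ∣ z := by simpa using hk
        obtain ⟨c, rfl⟩ := hk'
        rw [Subgroup.mem_zpowers_iff]
        refine ⟨c, ?_⟩
        rw [DihedralGroup.r_zpow, Int.cast_mul, Int.cast_natCast]
      · obtain ⟨z, rfl⟩ := hcast k
        exact absurd hk (key z)
    · rw [Subgroup.zpowers_le]
      exact ha'

end Groth.Agent.S12071
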