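import Groth.Statements.S12075
import Groth.Agent.SGA3x.K18.AdicTor
import Groth.Agent.S8438

set_option autoImplicit false
universe u
open CategoryTheory MonoidalCategory CartesianMonoidalCategory MonObj GrpObj AlgebraicGeometry
open SGA3x

namespace Groth.Agent.S12075

/-- Let A be a complete Noetherian local ring with maximal ideal I, S = Spec A, S_m = Spec (A/I^(m+1)),
G an S-group scheme of finite type, T an S-torus and q > 1 an integer invertible in A. Let u_m :
T_{S_m} → G_{S_m} (m ≥ 0) be homomorphisms of S_m-groups, and for every n = q^k let u(n) : ₙT → G be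
a homomorphism on the n-torsion subgroup of T (kernel of the n-th power map), the u(n) forming a
coherent family (u(q^j) is the restriction of u(q^k) for j ≤ k) whose base change to every S_m is
the restriction of u_m to ₙT_{S_m}. Assume the family is admissible: for every point t of S some
closed affine subscheme of the geometric fibre G_t̄ contains the images of all the u(n)_t̄. Then
there is exactly one homomorphism u : T → G whose base change to S_m is u_m for every m; moreover u
restricts to u(n) on ₙT for every n. (So the canonical map from Hom_{S-gr}(T, G) to the inverse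
limit of the Hom_{S_m-gr}(T_m, G_m) is a bijection onto the admissible coherent families.) -/
theorem result (A : Type u) [CommRing A] [IsNoetherianRing A] [IsLocalRing A]
    [IsAdicComplete (IsLocalRing.maximalIdeal A) A]
    (G : Over (Spec (CommRingCat.of A))) [GrpObj G] [QuasiCompact G.hom] [LocallyOfFiniteType G.hom]
    (q : ℕ) (hq : 1 < q) (hqu : IsUnit (q : A))
    (T : Over (Spec (CommRingCat.of A))) [GrpObj T] (hT : Red.IsTorus T)
    (um : ∀ m : ℕ, Red.bc (Spec.map (CommRingCat.ofHom (Ideal.Quotient.mk (IsLocalRing.maximalIdeal A ^ (m + 1))))) T ⟶ Red.bc (Spec.map (CommRingCat.ofHom (Ideal.Quotient.mk (IsLocalRing.maximalIdeal A ^ (m + 1))))) G) (hum : ∀ m, IsMonHom (um m))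
    (N : ℕ → Over (Spec (CommRingCat.of A))) (grp : ∀ k, GrpObj (N k)) (i : ∀ k, N k ⟶ T)
    (hi : ∀ k, IsMonHom (i k) ∧ AlgGrp.IsKernel (i k) ((𝟙 T : T ⟶ T) ^ (q ^ k)))
    (u : ∀ k, N k ⟶ G) (hu : ∀ k, IsMonHom (u k))
    (hcoh : ∀ j k : ℕ, j ≤ k → ∃ f : N j ⟶ N k, f ≫ i k = i j ∧ f ≫ u k = u j)
    (hcomp : ∀ (m k : ℕ), (Over.pullback (Spec.map (CommRingCat.ofHom (Ideal.Quotient.mk (IsLocalRing.maximalIdeal A ^ (m + 1)))))).map (i k) ≫ um m = (Over.pullback (Spec.map (CommRingCat.ofHom (Ideal.Quotient.mk (IsLocalRing.maximalIdeal A ^ (m + 1)))))).map (u k))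
    (hc : ∀ t : ↥(Spec (CommRingCat.of A)), ∃ (F : Scheme.{u}) (f : F ⟶ (Red.geomFibre t G).left), IsClosedImmersion f ∧ IsAffine F ∧
      ∀ k, ∃ g : (Red.geomFibre t (N k)).left ⟶ F, g ≫ f = ((Over.pullback (Red.geomPt t)).map (u k)).left) :
    (∃! v : T ⟶ G, IsMonHom v ∧ ∀ m : ℕ, (Over.pullback (Spec.map (CommRingCat.ofHom (Ideal.Quotient.mk (IsLocalRing.maximalIdeal A ^ (m + 1)))))).map v = um m) ∧
    (∀ v : T ⟶ G, IsMonHom v → (∀ m : ℕ, (Over.pullback (Spec.map (CommRingCat.ofHom (Ideal.Quotient.mk (IsLocalRing.maximalIdeal A ^ (m + 1)))))).map v = um m) → ∀ k, i k ≫ v = u k) :=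
  K18.AdicTor.main hq hT hi hcomp hqu hum hu hcoh hc @Groth.Agent.S8438.result

end Groth.Agent.S12075
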