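import Groth.Statements.S12076
import Mathlib.LinearAlgebra.RootSystem.Base
import Mathlib.Algebra.Order.Group.PiLex

set_option autoImplicit false
open RootD

namespace Groth.Agent.S12076

/-- Let Δ be a system of simple roots (a base b of a root pairing P over ℤ) and Γ₀ the subgroup
generated by the roots. Then Γ₀ has a structure of totally ordered group for which the roots > 0 are
exactly the positive roots defined by Δ and for which the height (the additive function with value 1
on each simple root) is monotone. The order is given here by its positive cone C ⊆ Γ₀: 0 ∉ C, C + C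
⊆ C, and for every x ≠ 0 exactly one of x, −x lies in C (x < y meaning y − x ∈ C). -/
theorem result {ι M N : Type*} [AddCommGroup M] [AddCommGroup N]
    (P : RootPairing ι ℤ M N) [Finite ι] (b : P.Base) :
    ∃ C : Set ↥(Submodule.span ℤ (Set.range P.root)),
      0 ∉ C ∧ (∀ x ∈ C, ∀ y ∈ C, x + y ∈ C) ∧ (∀ x, x ≠ 0 → (x ∈ C ∨ -x ∈ C)) ∧ (∀ x ∈ C, -x ∉ C) ∧
      (∀ i : ι, (⟨P.root i, Submodule.subset_span (Set.mem_range_self i)⟩ : ↥(Submodule.span ℤ (Set.range P.root))) ∈ C ↔
        b.IsPos i) ∧
      ∀ φ : ↥(Submodule.span ℤ (Set.range P.root)) →+ ℤ,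
        (∀ j ∈ b.support, φ ⟨P.root j, Submodule.subset_span (Set.mem_range_self j)⟩ = 1) →
        ∀ x y : ↥(Submodule.span ℤ (Set.range P.root)), y - x ∈ C → φ x ≤ φ y := by
  classical
  set Γ := Submodule.span ℤ (Set.range P.root) with hΓ
  let B : Module.Basis b.support ℤ Γ := b.toWeightBasisInt
  have hB : ∀ j : b.support, B j = ⟨P.root j, Submodule.subset_span (Set.mem_range_self (j : ι))⟩ := fun j =>
    Subtype.ext (b.coe_toWeightBasisInt_apply j)
  let h : Γ →ₗ[ℤ] ℤ := B.constr ℤ (fun _ => (1 : ℤ))
  have hhB : ∀ j, h (B j) = 1 := fun j => B.constr_basis ℤ _ j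
  let e : b.support ≃ Fin (Fintype.card b.support) := Fintype.equivFin _
  let F : Γ →+ Lex (Fin (Fintype.card b.support + 1) → ℤ) :=
    { toFun := fun x => toLex (Fin.cons (h x) fun i => B.repr x (e.symm i))
      map_zero' := by
        rw [map_zero, map_zero]
        refine congrArg toLex (funext fun i => ?_)
        refine Fin.cases ?_ (fun i => ?_) i <;> simp
      map_add' := fun x y => by
        rw [map_add, map_add, ← toLex_add]
        refine congrArg toLex (funext fun i => ?_)
        refine Fin.cases ?_ (fun i => ?_) i <;> simp }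
  have hF0 : ∀ x, F x 0 = h x := fun x => rfl
  have hFs : ∀ x i, F x (Fin.succ i) = B.repr x (e.symm i) := fun x i => rfl
  have hFpos : ∀ x, 0 < h x → 0 < F x := fun x hx => ⟨0, fun j hj => absurd hj (Fin.not_lt_zero j), hx⟩
  have hFnn : ∀ x, 0 < F x → 0 ≤ h x := by
    rintro x ⟨i, hi, hi'⟩
    by_cases h0 : i = 0
    · subst h0
      exact le_of_lt hi'
    · exact le_of_eq (hi 0 (Fin.pos_iff_ne_zero.2 h0))
  have hinj : ∀ x, F x = 0 → x = 0 := by
    intro x hx
    apply B.repr.injective
    ext j
    have h1 := hFs x (e j)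
    rw [hx, e.symm_apply_apply] at h1
    rw [← h1, map_zero]
    rfl
  have hroot : ∀ i : ι, h ⟨P.root i, Submodule.subset_span (Set.mem_range_self i)⟩ = b.height i := by
    intro i
    obtain ⟨f, -, -, hf⟩ := b.exists_root_eq_sum_int i
    have h1 : (⟨P.root i, Submodule.subset_span (Set.mem_range_self i)⟩ : Γ) = ∑ j : b.support, f j • B j := by
      apply Subtype.ext
      simp only [hB, Submodule.coe_sum, Submodule.coe_smul_of_tower]
      rw [hf, ← Finset.sum_coe_sort b.support (fun j => f j • P.root j)]
    rw [h1, map_sum, RootPairing.Base.height_eq_sum hf, ← Finset.sum_coe_sort b.support]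
    exact Finset.sum_congr rfl fun j _ => by rw [map_smul, hhB, smul_eq_mul, mul_one]
  refine ⟨{x | 0 < F x}, ?_, ?_, ?_, ?_, ?_, ?_⟩
  · rw [Set.mem_ofPred_eq, map_zero]
    exact lt_irrefl _
  · intro x hx y hy
    rw [Set.mem_ofPred_eq] at hx hy ⊢
    rw [map_add]
    exact add_pos hx hy
  · intro x hx
    rw [Set.mem_ofPred_eq, Set.mem_ofPred_eq, map_neg, Left.neg_pos_iff]
    rcases lt_trichotomy (F x) 0 with h1 | h1 | h1
    · exact Or.inr h1
    · exact absurd (hinj x h1) hx
    · exact Or.inl h1
  · intro x hx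
    rw [Set.mem_ofPred_eq] at hx ⊢
    rw [map_neg, Left.neg_pos_iff]
    exact not_lt.2 hx.le
  · intro i
    rw [Set.mem_ofPred_eq]
    constructor
    · intro h1
      have h2 := hFnn _ h1
      rw [hroot] at h2
      exact (RootPairing.Base.isPos_iff' b).2 h2
    · intro h1
      apply hFpos
      rw [hroot]
      exact h1
  · intro φ hφ x y hxy
    have h1 : ∀ z, φ z = h z := by
      have h2 : φ.toIntLinearMap = h := B.ext fun j => by
        rw [hhB, hB]
        exact hφ j j.2
      intro z
      exact LinearMap.congr_fun h2 z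
    have h3 := hFnn _ hxy
    rw [map_sub] at h3
    rw [h1, h1]
    omega

end Groth.Agent.S12076
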