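import Groth.Statements.S12079
import Mathlib.LinearAlgebra.Contraction
import Mathlib.Tactic

set_option autoImplicit false
universe u
open TensorProduct
open CAlg

namespace Groth.Agent.S12079

/-- naturality of the canonical map in the first module. -/
theorem natural_aux (R : Type u) [CommRing R]
    (M M' N L : Type u) [AddCommGroup M] [Module R M] [AddCommGroup M'] [Module R M']
    [AddCommGroup N] [Module R N] [AddCommGroup L] [Module R L] (f : M' →ₗ[R] M)
    (x : (M →ₗ[R] N) ⊗[R] L) :
    TensorProduct.rTensorHomToHomRTensor (RingHom.id R) M' N L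
        (LinearMap.rTensor L (LinearMap.lcomp R N f) x) =
      (TensorProduct.rTensorHomToHomRTensor (RingHom.id R) M N L x) ∘ₗ f := by
  induction x using TensorProduct.induction_on with
  | zero => simp
  | tmul g l => ext m; simp
  | add x y hx hy => rw [map_add, map_add, hx, hy, map_add, LinearMap.add_comp]

/-- For a finitely presented `R`-module `M`, any `R`-module `N` and a flat `R`-module `L`, the canonical
map `Hom_R(M, N) ⊗_R L → Hom_R(M, N ⊗_R L)` sending `f ⊗ l` to `m ↦ f m ⊗ l` is bijective. -/
theorem result (R : Type u) [CommRing R]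
    (M N L : Type u) [AddCommGroup M] [Module R M] [AddCommGroup N] [Module R N] [AddCommGroup L] [Module R L]
    [Module.FinitePresentation R M] [Module.Flat R L] :
    Function.Bijective (TensorProduct.rTensorHomToHomRTensor (RingHom.id R) M N L) := by
  obtain ⟨n, m, f, g, hf, hfg⟩ := Module.FinitePresentation.exists_fin' R M
  have hgf : f ∘ₗ g = 0 := hfg.linearMap_comp_eq_zero
  have hex : Function.Exact (LinearMap.lcomp R N f) (LinearMap.lcomp R N g) := by
    intro φ
    constructor
    · intro h
      have hker : LinearMap.ker f ≤ LinearMap.ker φ := by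
        intro x hx
        obtain ⟨y, rfl⟩ := (hfg x).mp hx
        exact LinearMap.congr_fun h y
      refine ⟨(LinearMap.ker f).liftQ φ hker ∘ₗ (f.quotKerEquivOfSurjective hf).symm.toLinearMap, ?_⟩
      ext1 i
      ext
      simp only [LinearMap.lcomp_apply, LinearMap.comp_apply, LinearEquiv.coe_coe]
      have : (f.quotKerEquivOfSurjective hf).symm (f ((LinearMap.single R (fun _ => R) i) 1)) =
          (LinearMap.ker f).mkQ ((LinearMap.single R (fun _ => R) i) 1) := by
        rw [LinearEquiv.symm_apply_eq]; rfl
      rw [this]
      rfl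
    · rintro ⟨ψ, rfl⟩
      ext1
      ext
      simp only [LinearMap.lcomp_apply, LinearMap.comp_apply]
      have := LinearMap.congr_fun hgf
      simp only [LinearMap.comp_apply, LinearMap.zero_apply] at this
      rw [this, map_zero]
      rfl
  have hinj : Function.Injective (LinearMap.lcomp R N f) := by
    intro φ ψ h
    ext x
    obtain ⟨y, rfl⟩ := hf x
    exact LinearMap.congr_fun h y
  have hexL := Module.Flat.rTensor_exact L hex
  have hinjL : Function.Injective (LinearMap.rTensor L (LinearMap.lcomp R N f)) :=
    Module.Flat.rTensor_preserves_injective_linearMap _ hinj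
  have hfree : ∀ k : ℕ, Function.Bijective
      (TensorProduct.rTensorHomToHomRTensor (RingHom.id R) (Fin k → R) N L) := by
    intro k
    rw [← rTensorHomEquivHomRTensor_toLinearMap]
    exact (rTensorHomEquivHomRTensor R (Fin k → R) N L).bijective
  constructor
  · intro x y hxy
    apply hinjL
    apply (hfree n).1
    rw [natural_aux, natural_aux, hxy]
  · intro φ
    obtain ⟨y, hy⟩ := (hfree n).2 (φ ∘ₗ f)
    have h0 : LinearMap.rTensor L (LinearMap.lcomp R N g) y = 0 := by
      apply (hfree m).1
      rw [natural_aux, hy, map_zero, LinearMap.comp_assoc, hgf, LinearMap.comp_zero]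
    obtain ⟨x, rfl⟩ := (hexL y).mp h0
    refine ⟨x, ?_⟩
    rw [natural_aux] at hy
    ext z
    obtain ⟨w, rfl⟩ := hf z
    exact LinearMap.congr_fun hy w

end Groth.Agent.S12079
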