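import Groth.Statements.S12080
import Groth.Agent.Sga4B.InvLocal
import Mathlib.RingTheory.LocalProperties.FinitePresentation
import Mathlib.RingTheory.LocalProperties.Exactness
import Mathlib.Tactic

set_option autoImplicit false
universe u
open TensorProduct
open CAlg

namespace Groth.Agent.S12080

/-- (1) ⇒ (2): let `M` be a finite locally free `R`-module of rank `1`, i.e. there is a set `s ⊆ R`
generating the unit ideal with `M_f ≅ R_f` as `R_f`-modules for every `f ∈ s`. Then the evaluation
map `Hom_R(M, R) ⊗_R M → R` is bijective, so `M` is invertible with inverse its dual. -/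
theorem result (R : Type u) [CommRing R] (M : Type u) [AddCommGroup M]
    [Module R M] (s : Set R) (hs : Ideal.span s = ⊤)
    (hfree : ∀ f ∈ s, Nonempty (LocalizedModule.Away f M ≃ₗ[Localization.Away f] Localization.Away f)) :
    Module.Invertible R M := by
  have hfp : Module.FinitePresentation R M := by
    refine Module.FinitePresentation.of_localizationSpan s hs fun g => ?_
    obtain ⟨e⟩ := hfree g.1 g.2
    exact Module.FinitePresentation.of_equiv e.symm
  have htop : ∀ I : Ideal R, (∀ r ∈ s, ∃ k : ℕ, r ^ k ∈ I) → I = ⊤ := by
    intro I hI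
    by_contra hne
    obtain ⟨m, hm, hle⟩ := Ideal.exists_le_maximal _ hne
    have : s ⊆ m := by
      intro r hr
      obtain ⟨k, hk⟩ := hI r hr
      exact hm.isPrime.mem_of_pow_mem _ (hle hk)
    exact hm.ne_top (top_le_iff.1 (hs ▸ Ideal.span_le.2 this))
  refine Groth.Agent.Sga4B.InvLocal.invertible_of_symm ?_ ?_
  · intro φ n n'
    rw [← sub_eq_zero]
    set x := φ n • n' - φ n' • n with hx
    have hann : ∀ r ∈ s, ∃ k : ℕ, r ^ k ∈ LinearMap.ker (LinearMap.toSpanSingleton R M x) := by
      intro r hr
      obtain ⟨e⟩ := hfree r hr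
      let φ' : LocalizedModule.Away r M →ₗ[Localization.Away r] Localization.Away r :=
        (IsLocalizedModule.map (Submonoid.powers r) (LocalizedModule.mkLinearMap (Submonoid.powers r) M)
          (Algebra.linearMap R (Localization.Away r)) φ).extendScalarsOfIsLocalization
            (Submonoid.powers r) (Localization.Away r)
      have hφ' : ∀ y, φ' (LocalizedModule.mkLinearMap (Submonoid.powers r) M y) =
          algebraMap R (Localization.Away r) (φ y) := fun y =>
        IsLocalizedModule.map_apply (Submonoid.powers r) _ (Algebra.linearMap R _) φ y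
      have hφ'' : ∀ y, φ' y = e y * φ' (e.symm 1) := by
        intro y
        have h1 : y = e y • e.symm 1 := by
          rw [← map_smul, smul_eq_mul, mul_one, e.symm_apply_apply]
        conv_lhs => rw [h1]
        rw [map_smul, smul_eq_mul]
      have hgx : LocalizedModule.mkLinearMap (Submonoid.powers r) M x =
          LocalizedModule.mkLinearMap (Submonoid.powers r) M 0 := by
        rw [map_zero]
        apply e.injective
        rw [map_zero, hx, map_sub, map_smul, map_smul, map_sub, ← algebraMap_smul (Localization.Away r) (φ n),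
          ← algebraMap_smul (Localization.Away r) (φ n'), map_smul, map_smul, ← hφ', ← hφ', hφ'',
          hφ'' (LocalizedModule.mkLinearMap (Submonoid.powers r) M n'), smul_eq_mul, smul_eq_mul]
        ring
      obtain ⟨c, hc⟩ := IsLocalizedModule.exists_of_eq (S := Submonoid.powers r)
        (f := LocalizedModule.mkLinearMap (Submonoid.powers r) M) hgx
      obtain ⟨k, hk⟩ := c.2
      refine ⟨k, ?_⟩
      rw [smul_zero] at hc
      change c.1 • x = 0 at hc
      rw [LinearMap.mem_ker, LinearMap.toSpanSingleton_apply]
      simp only at hk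
      rw [hk]
      exact hc
    have h1 := htop _ hann
    have h2 : (1 : R) ∈ LinearMap.ker (LinearMap.toSpanSingleton R M x) := h1 ▸ Submodule.mem_top
    rw [LinearMap.mem_ker, LinearMap.toSpanSingleton_apply, one_smul] at h2
    exact h2
  · rw [← LinearMap.range_eq_top]
    apply htop
    intro r hr
    obtain ⟨e⟩ := hfree r hr
    let g : M →ₗ[R] Localization.Away r := (e.restrictScalars R).toLinearMap ∘ₗ
      LocalizedModule.mkLinearMap (Submonoid.powers r) M
    obtain ⟨h, t, ht⟩ := Module.FinitePresentation.exists_lift_of_isLocalizedModule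
      (Submonoid.powers r) (Algebra.linearMap R (Localization.Away r)) g
    obtain ⟨⟨n₀, c⟩, hn₀⟩ := IsLocalizedModule.surj (Submonoid.powers r)
      (LocalizedModule.mkLinearMap (Submonoid.powers r) M) (e.symm 1)
    have h3 : algebraMap R (Localization.Away r) (h n₀) = algebraMap R (Localization.Away r) (t.1 * c.1) := by
      have h4 := LinearMap.congr_fun ht n₀
      simp only [LinearMap.comp_apply, Algebra.linearMap_apply, LinearMap.smul_apply] at h4
      rw [h4]
      change t.1 • e (LocalizedModule.mkLinearMap (Submonoid.powers r) M n₀) = _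
      simp only at hn₀
      rw [← hn₀]
      change t.1 • e (c.1 • e.symm 1) = _
      rw [← algebraMap_smul (Localization.Away r) c.1, map_smul, e.apply_symm_apply, smul_eq_mul, mul_one,
        Algebra.smul_def, map_mul]
    obtain ⟨d, hd⟩ := (IsLocalization.eq_iff_exists (Submonoid.powers r) (Localization.Away r)).1 h3
    obtain ⟨kt, hkt⟩ := t.2
    obtain ⟨kc, hkc⟩ := c.2
    obtain ⟨kd, hkd⟩ := d.2
    simp only at hkt hkc hkd
    refine ⟨kd + (kt + kc), ?_⟩
    rw [pow_add, pow_add, hkt, hkc, hkd, ← hd]
    exact Submodule.smul_mem _ _ ⟨h ⊗ₜ n₀, by rw [contractLeft_apply]⟩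

end Groth.Agent.S12080
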