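import Groth.Statements.S12081
import Mathlib.RingTheory.IsTensorProduct

set_option autoImplicit false
universe u
open TensorProduct
open EtAlg

namespace Groth.Agent.S12081

/-- Let `B' = B ×_A A'` be a fibre square of rings with `A' → A` surjective with kernel `I`, let `J =
Ker(B' → B)`, let `D'` be a `B'`-algebra and `C' = D' ⊗_{B'} A'`. Then the ideal `I C'` is, as a
subset of `C'`, the image of the ideal `J D'` under `D' → C'`; that is, the map `J D' → I C'` is
surjective. -/
theorem result (B' B A' A : Type u) [CommRing B'] [CommRing B] [CommRing A'] [CommRing A]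
    [Algebra B' B] [Algebra B' A'] [Algebra B A] [Algebra A' A] [Algebra B' A] [IsScalarTower B' B A] [IsScalarTower B' A' A]
    (hsq : EtMil.IsFibreSquare B' B A' A)
    (D' C' : Type u) [CommRing D'] [CommRing C'] [Algebra B' D'] [Algebra A' C']
    [Algebra D' C'] [Algebra B' C'] [IsScalarTower B' A' C'] [IsScalarTower B' D' C'] [Algebra.IsPushout B' A' D' C'] :
    (algebraMap D' C') '' ((RingHom.ker (algebraMap B' B)).map (algebraMap B' D') : Set D') =
      ((RingHom.ker (algebraMap A' A)).map (algebraMap A' C') : Set C') := by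
  -- every element of `I` comes from `J`
  have hJI : ∀ i ∈ RingHom.ker (algebraMap A' A), ∃ j ∈ RingHom.ker (algebraMap B' B),
      algebraMap B' A' j = i := by
    intro i hi
    obtain ⟨j, ⟨hj1, hj2⟩, -⟩ := hsq.2 0 i (by rw [map_zero]; exact ((RingHom.mem_ker).1 hi).symm)
    exact ⟨j, (RingHom.mem_ker).2 hj1, hj2⟩
  have hBA : ∀ b : B', algebraMap D' C' (algebraMap B' D' b) = algebraMap A' C' (algebraMap B' A' b) := by
    intro b
    rw [← IsScalarTower.algebraMap_apply, ← IsScalarTower.algebraMap_apply]
  have hJ : ∀ j ∈ RingHom.ker (algebraMap B' B), algebraMap B' A' j ∈ RingHom.ker (algebraMap A' A) := by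
    intro j hj
    rw [RingHom.mem_ker, ← IsScalarTower.algebraMap_apply, IsScalarTower.algebraMap_apply B' B A,
      (RingHom.mem_ker).1 hj, map_zero]
  -- multiplication by elements of `A'`
  have hA : ∀ (a : A') (y : D'), y ∈ (RingHom.ker (algebraMap B' B)).map (algebraMap B' D') →
      ∃ y' ∈ (RingHom.ker (algebraMap B' B)).map (algebraMap B' D'),
        algebraMap D' C' y' = algebraMap A' C' a * algebraMap D' C' y := by
    intro a y hy
    induction hy using Submodule.span_induction with
    | mem x hx =>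
      obtain ⟨j, hj, rfl⟩ := hx
      obtain ⟨j', hj', h⟩ := hJI (a * algebraMap B' A' j) (Ideal.mul_mem_left _ _ (hJ j hj))
      refine ⟨algebraMap B' D' j', Ideal.mem_map_of_mem _ hj', ?_⟩
      rw [hBA, hBA, h, map_mul]
    | zero => exact ⟨0, Submodule.zero_mem _, by simp⟩
    | add x y _ _ hx hy =>
      obtain ⟨x', hx', h1⟩ := hx
      obtain ⟨y', hy', h2⟩ := hy
      exact ⟨x' + y', Submodule.add_mem _ hx' hy', by rw [map_add, h1, h2, map_add, mul_add]⟩
    | smul d x _ hx =>
      obtain ⟨x', hx', h1⟩ := hx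
      refine ⟨d * x', Ideal.mul_mem_left _ _ hx', ?_⟩
      rw [map_mul, h1, smul_eq_mul, map_mul]; ring
  apply Set.Subset.antisymm
  · rintro _ ⟨y, hy, rfl⟩
    have : (RingHom.ker (algebraMap B' B)).map (algebraMap B' D') ≤
        ((RingHom.ker (algebraMap A' A)).map (algebraMap A' C')).comap (algebraMap D' C') := by
      rw [Ideal.map_le_iff_le_comap]
      intro j hj
      rw [Ideal.mem_comap, Ideal.mem_comap, hBA]
      exact Ideal.mem_map_of_mem _ (hJ j hj)
    exact this hy
  · intro x hx
    change x ∈ (RingHom.ker (algebraMap A' A)).map (algebraMap A' C') at hx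
    change ∃ y, y ∈ (RingHom.ker (algebraMap B' B)).map (algebraMap B' D') ∧ algebraMap D' C' y = x
    induction hx using Submodule.span_induction with
    | mem x hx =>
      obtain ⟨i, hi, rfl⟩ := hx
      obtain ⟨j, hj, rfl⟩ := hJI i hi
      exact ⟨algebraMap B' D' j, Ideal.mem_map_of_mem _ hj, hBA j⟩
    | zero => exact ⟨0, Submodule.zero_mem _, by simp⟩
    | add x y _ _ hx hy =>
      obtain ⟨x', hx', h1⟩ := hx
      obtain ⟨y', hy', h2⟩ := hy
      exact ⟨x' + y', Submodule.add_mem _ hx' hy', by rw [map_add, h1, h2]⟩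
    | smul c x _ hx =>
      obtain ⟨y, hy, rfl⟩ := hx
      rw [smul_eq_mul]
      have hbc : IsBaseChange A' (IsScalarTower.toAlgHom B' D' C').toLinearMap :=
        Algebra.IsPushout.out
      induction c using hbc.inductionOn with
      | zero => exact ⟨0, Submodule.zero_mem _, by simp⟩
      | tmul d =>
        refine ⟨d * y, Ideal.mul_mem_left _ _ hy, ?_⟩
        rw [map_mul]; rfl
      | smul a c hc =>
        obtain ⟨y', hy', h⟩ := hc
        obtain ⟨y'', hy'', h'⟩ := hA a y' hy'
        exact ⟨y'', hy'', by rw [h', h, Algebra.smul_def, mul_assoc]⟩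
      | add c c' hc hc' =>
        obtain ⟨x', hx', h1⟩ := hc
        obtain ⟨y', hy', h2⟩ := hc'
        exact ⟨x' + y', Submodule.add_mem _ hx' hy', by rw [map_add, h1, h2, add_mul]⟩

end Groth.Agent.S12081
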