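import Groth.Statements.S12082
import Groth.Agent.Synt.K563.DimLoc
import Groth.Agent.Ega4dB.StalkGen
import Mathlib.RingTheory.RingHom.Surjective

set_option autoImplicit false
universe u
open Synt

namespace Groth.Agent.S12082

/-- Let `S = k[x_1, …, x_n]/I` over a field `k`, `q` a prime of `S` with preimage `q'` in the polynomial
ring, `c` the natural number with `c + ht(q) = ht(q')`, and `J` the extension of `I` to the local
ring `R = k[x_1, …, x_n]_{q'}`. Any `c` elements of `J` whose images generate `J / q' J` form a
regular sequence in `R`. -/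
theorem result (k : Type u) [Field k] (n : ℕ)
    (I : Ideal (MvPolynomial (Fin n) k)) (q : Ideal (MvPolynomial (Fin n) k ⧸ I)) [q.IsPrime] (c : ℕ)
    (hc : (c : ℕ∞) + q.height = (q.comap (Ideal.Quotient.mk I)).height)
    (f : Fin c → Localization.AtPrime (q.comap (Ideal.Quotient.mk I)))
    (hf : ∀ i, f i ∈ I.map (algebraMap _ (Localization.AtPrime (q.comap (Ideal.Quotient.mk I)))))
    (hgen : Ideal.span (Set.range f) ⊔
        IsLocalRing.maximalIdeal (Localization.AtPrime (q.comap (Ideal.Quotient.mk I))) *
          I.map (algebraMap _ (Localization.AtPrime (q.comap (Ideal.Quotient.mk I)))) =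
      I.map (algebraMap _ (Localization.AtPrime (q.comap (Ideal.Quotient.mk I))))) :
    RingTheory.Sequence.IsRegular (Localization.AtPrime (q.comap (Ideal.Quotient.mk I))) (List.ofFn f) := by
  let R := Localization.AtPrime (q.comap (Ideal.Quotient.mk I))
  let J : Ideal R := I.map (algebraMap _ R)
  -- the surjection `R → S_q` with kernel `J`
  let f' : R →+* Localization.AtPrime q := Localization.localRingHom _ q (Ideal.Quotient.mk I) rfl
  have hf' : Function.Surjective f' :=
    RingHom.surjective_localRingHom_of_surjective _ Ideal.Quotient.mk_surjective q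
  have hker : RingHom.ker f' = J := by
    have h1 : RingHom.ker f' = (RingHom.ker (Ideal.Quotient.mk I)).map (algebraMap _ R) := by
      refine Groth.Agent.Ega4dB.StalkGen.ker_eq_map_of_isLocalization
        (A' := R) (B' := Localization.AtPrime q) (q.comap (Ideal.Quotient.mk I)).primeCompl q.primeCompl (Ideal.Quotient.mk I) f'
        Ideal.Quotient.mk_surjective (fun a ha => ha) ?_
      exact fun a => Localization.localRingHom_to_map _ _ _ rfl a
    rw [h1, Ideal.mk_ker]
  have hdimJ : ringKrullDim (R ⧸ J) = q.height := by
    rw [← hker, ringKrullDim_eq_of_ringEquiv (RingHom.quotientKerEquivOfSurjective hf')]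
    exact IsLocalization.AtPrime.ringKrullDim_eq_height q (Localization.AtPrime q)
  have hdimR : ringKrullDim R = (q.comap (Ideal.Quotient.mk I)).height :=
    IsLocalization.AtPrime.ringKrullDim_eq_height _ R
  -- Nakayama
  have hspan : Ideal.span (Set.range f) = J := by
    apply le_antisymm
    · rw [Ideal.span_le]
      rintro _ ⟨i, rfl⟩
      exact hf i
    · refine Submodule.le_of_le_smul_of_le_jacobson_bot (I := IsLocalRing.maximalIdeal R)
        (IsNoetherian.noetherian J) (IsLocalRing.maximalIdeal_le_jacobson _) ?_
      rw [smul_eq_mul]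
      exact hgen.ge
  have hofList : Ideal.ofList (List.ofFn f) = J := by
    rw [← hspan, Ideal.ofList]
    congr 1
    ext x
    simp only [Set.mem_ofPred_eq, List.mem_ofFn, Set.mem_range]
  have hJne : J ≠ ⊤ := by
    rw [← hker]
    exact RingHom.ker_ne_top f'
  refine Groth.Agent.Models.CMSeq.isRegular_of_ringKrullDim_le _ ?_ ?_
  · intro r hr
    refine IsLocalRing.le_maximalIdeal hJne ?_
    rw [← hofList]
    exact Ideal.subset_span hr
  · rw [hofList, hdimJ, hdimR, List.length_ofFn, ← hc, add_comm]
    push_cast
    rfl

end Groth.Agent.S12082
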