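import Groth.Statements.S12086
import Groth.Agent.PerfB.RingKFlat

set_option autoImplicit false
universe u
open CategoryTheory CategoryTheory.Limits MonoidalCategory CategoryTheory.Pretriangulated
open DRing

namespace Groth.Agent.S12086

open Groth.Agent.Dcoh.CxFun Groth.Agent.PerfB.RingKFlat in
private lemma key {R : Type u} [CommRing R] (L : DRing.Cx R)
    (K : HomotopyCategory (ModuleCat.{u} R) (ComplexShape.up ℤ)) :
    (∀ i : ℤ, IsZero ((L ⊗ K.as).homology i)) ↔
      acyclicMap ((TR R).map₂CochainComplex.obj L) K := by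
  obtain ⟨K, rfl⟩ := HomotopyCategory.quotient_obj_surjective K
  rw [acyclicMap_iff]
  exact forall_congr' fun i => (HomologicalComplex.exactAt_iff_isZero_homology _ i).symm

/-- Let `(K₁•, K₂•, K₃•)` be a distinguished triangle in the homotopy category `K(R)` of complexes of
`R`-modules. If two out of the three complexes are K-flat (tensoring with them carries acyclic
complexes to acyclic complexes), then so is the third. -/
theorem result (R : Type u) [CommRing R]
    (T : Pretriangulated.Triangle (HomotopyCategory (ModuleCat.{u} R) (ComplexShape.up ℤ)))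
    (hT : T ∈ Pretriangulated.distinguishedTriangles) :
    ((∀ L : DRing.Cx R, (∀ i : ℤ, IsZero (L.homology i)) → ∀ i : ℤ, IsZero ((L ⊗ T.obj₁.as).homology i)) → (∀ L : DRing.Cx R, (∀ i : ℤ, IsZero (L.homology i)) → ∀ i : ℤ, IsZero ((L ⊗ T.obj₂.as).homology i)) → (∀ L : DRing.Cx R, (∀ i : ℤ, IsZero (L.homology i)) → ∀ i : ℤ, IsZero ((L ⊗ T.obj₃.as).homology i))) ∧
    ((∀ L : DRing.Cx R, (∀ i : ℤ, IsZero (L.homology i)) → ∀ i : ℤ, IsZero ((L ⊗ T.obj₁.as).homology i)) → (∀ L : DRing.Cx R, (∀ i : ℤ, IsZero (L.homology i)) → ∀ i : ℤ, IsZero ((L ⊗ T.obj₃.as).homology i)) → (∀ L : DRing.Cx R, (∀ i : ℤ, IsZero (L.homology i)) → ∀ i : ℤ, IsZero ((L ⊗ T.obj₂.as).homology i))) ∧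
    ((∀ L : DRing.Cx R, (∀ i : ℤ, IsZero (L.homology i)) → ∀ i : ℤ, IsZero ((L ⊗ T.obj₂.as).homology i)) → (∀ L : DRing.Cx R, (∀ i : ℤ, IsZero (L.homology i)) → ∀ i : ℤ, IsZero ((L ⊗ T.obj₃.as).homology i)) → (∀ L : DRing.Cx R, (∀ i : ℤ, IsZero (L.homology i)) → ∀ i : ℤ, IsZero ((L ⊗ T.obj₁.as).homology i))) := by
  simp only [key]
  refine ⟨fun h1 h2 L hL => ?_, fun h1 h3 L hL => ?_, fun h2 h3 L hL => ?_⟩
  · exact ObjectProperty.ext_of_isTriangulatedClosed₃ _ _ hT (h1 L hL) (h2 L hL)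
  · exact ObjectProperty.ext_of_isTriangulatedClosed₂ _ _ hT (h1 L hL) (h3 L hL)
  · exact ObjectProperty.ext_of_isTriangulatedClosed₁ _ _ hT (h2 L hL) (h3 L hL)

end Groth.Agent.S12086
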