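import Groth.Statements.S12087
-- import your own Groth.Agent.* helpers here
import Groth.Agent.Perf.K370.CohRing
import Groth.Agent.PerfC.MasterSupp

set_option autoImplicit false
universe u
open CategoryTheory CategoryTheory.Limits AlgebraicGeometry
open Perf

namespace Groth.Agent.S12087

/-- Let `R` be a coherent ring (every finitely generated ideal is finitely presented), `X` a scheme of
finite presentation over `R` (quasi-compact, quasi-separated, locally of finite presentation over
`Spec R`), and `G` an `O_X`-module of finite presentation that is flat over `R` and whose support is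
proper over `R`. Then each `H^i(X, G)` is a coherent `R`-module, that is (over a coherent ring) a
finitely presented `R`-module. -/
theorem result (R : Type u) [CommRing R]
    (hR : ∀ I : Ideal R, I.FG → Module.FinitePresentation R I)
    (X : Scheme.{u}) [X.Over (Spec (CommRingCat.of R))]
    [QuasiCompact (X ↘ Spec (CommRingCat.of R))] [QuasiSeparated (X ↘ Spec (CommRingCat.of R))]
    [LocallyOfFinitePresentation (X ↘ Spec (CommRingCat.of R))]
    (G : X.Modules) (hG : CohB1.IsFP G) (hflat : FlatMod.IsFlatOver (X ↘ Spec (CommRingCat.of R)) G)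
    (hsupp : ClSub.IsProperOver (X ↘ Spec (CommRingCat.of R)) (CohB1.support G)) (i : ℕ) :
    Module.FinitePresentation R (Coh.HH X G i) := by
  obtain ⟨P, p1, -, p3⟩ := Groth.Agent.PerfC.MasterSupp.exists_complex R X G hG hflat hsupp
  obtain ⟨e⟩ := p3 i
  have h1 : ∀ j, Module.Finite R (P.X j) := fun j => (p1 j).1
  have h2 : ∀ j, Module.Projective R (P.X j) := fun j => (p1 j).2
  have h3 : Module.Finite R (P.sc (-(i : ℤ))).X₁ := h1 _
  have h4 : Module.Finite R (P.sc (-(i : ℤ))).X₂ := h1 _
  have h5 : Module.Projective R (P.sc (-(i : ℤ))).X₂ := h2 _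
  have h6 : Module.Finite R (P.sc (-(i : ℤ))).X₃ := h1 _
  have h7 : Module.Projective R (P.sc (-(i : ℤ))).X₃ := h2 _
  have h8 : Module.FinitePresentation R (P.homology (-(i : ℤ))) :=
    K370.CohRing.finitePresentation_homology hR (P.sc (-(i : ℤ)))
  exact Module.FinitePresentation.of_equiv e

end Groth.Agent.S12087
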