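import Groth.Statements.S12091
import Mathlib.RingTheory.Extension.Cotangent.Basic
import Mathlib.LinearAlgebra.SymmetricAlgebra.Basic

set_option autoImplicit false
universe u
open TensorProduct MvPolynomial
open FlatMor

namespace Groth.Agent.S12091

namespace Aux

variable {A : Type u} [CommRing A] {M : Type u} [AddCommGroup M] [Module A M] {m : ℕ} {x : Fin m → M}
  (G : Algebra.Generators A (SymmetricAlgebra A M) (Fin m))

/-- the linear form attached to a vector -/
noncomputable def lf (m : ℕ) : (Fin m → A) →ₗ[A] MvPolynomial (Fin m) A :=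
  Fintype.linearCombination A (fun j => (X j : MvPolynomial (Fin m) A))

theorem lf_apply (k : Fin m → A) : lf m k = ∑ j, C (k j) * X j := by
  simp [lf, Fintype.linearCombination_apply, MvPolynomial.smul_eq_C_mul]

theorem aeval_lf (hG : ∀ j, G.val j = SymmetricAlgebra.ι A M (x j)) (k : Fin m → A) :
    aeval G.val (lf m k) = SymmetricAlgebra.ι A M (Fintype.linearCombination A x k) := by
  simp [lf, Fintype.linearCombination_apply, map_sum, hG]

theorem mem_ker (hG : ∀ j, G.val j = SymmetricAlgebra.ι A M (x j))
    (k : LinearMap.ker (Fintype.linearCombination A x)) : lf m (k : Fin m → A) ∈ G.toExtension.ker := by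
  change lf m (k : Fin m → A) ∈ G.ker
  rw [Algebra.Generators.ker_eq_ker_aeval_val, RingHom.mem_ker, aeval_lf G hG,
    LinearMap.mem_ker.mp k.2, map_zero]

/-- the kernel is generated by the linear forms of the relations -/
theorem ker_le (hx : Function.Surjective (Fintype.linearCombination A x))
    (hG : ∀ j, G.val j = SymmetricAlgebra.ι A M (x j)) :
    G.ker ≤ Ideal.span (Set.range fun k : LinearMap.ker (Fintype.linearCombination A x) =>
      lf m (k : Fin m → A)) := by
  set I := Ideal.span (Set.range fun k : LinearMap.ker (Fintype.linearCombination A x) =>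
      lf m (k : Fin m → A)) with hI
  let q : MvPolynomial (Fin m) A →ₐ[A] (MvPolynomial (Fin m) A ⧸ I) := Ideal.Quotient.mkₐ A I
  let u : (Fin m → A) →ₗ[A] (MvPolynomial (Fin m) A ⧸ I) := q.toLinearMap ∘ₗ lf m
  have hu : LinearMap.ker (Fintype.linearCombination A x) ≤ LinearMap.ker u := by
    intro k hk
    rw [LinearMap.mem_ker]
    change Ideal.Quotient.mk I (lf m k) = 0
    rw [Ideal.Quotient.eq_zero_iff_mem]
    exact Ideal.subset_span ⟨⟨k, hk⟩, rfl⟩
  let v : M →ₗ[A] (MvPolynomial (Fin m) A ⧸ I) :=
    (Submodule.liftQ _ u hu) ∘ₗ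
      (LinearMap.quotKerEquivOfSurjective (Fintype.linearCombination A x) hx).symm.toLinearMap
  have hv : ∀ k, v (Fintype.linearCombination A x k) = u k := by
    intro k
    have : (LinearMap.quotKerEquivOfSurjective (Fintype.linearCombination A x) hx).symm
        (Fintype.linearCombination A x k) = Submodule.Quotient.mk k := by
      rw [LinearEquiv.symm_apply_eq]
      rfl
    change Submodule.liftQ _ u hu ((LinearMap.quotKerEquivOfSurjective _ hx).symm _) = u k
    rw [this]
    rfl
  have key : (SymmetricAlgebra.lift v).comp (aeval G.val) = q := by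
    apply MvPolynomial.algHom_ext
    intro j
    have h1 : lf m (Pi.single j (1 : A)) = (X j : MvPolynomial (Fin m) A) := by
      simp [lf]
    have h2 : Fintype.linearCombination A x (Pi.single j (1 : A)) = x j := by simp
    change SymmetricAlgebra.lift v (aeval G.val (X j)) = q (X j)
    rw [aeval_X, hG, SymmetricAlgebra.lift_ι_apply, ← h2, hv, ← h1]
    rfl
  intro p hp
  rw [Algebra.Generators.ker_eq_ker_aeval_val, RingHom.mem_ker] at hp
  rw [← Ideal.Quotient.eq_zero_iff_mem]
  change q p = 0
  rw [← key]
  change SymmetricAlgebra.lift v (aeval G.val p) = 0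
  rw [hp, map_zero]

/-- the linear map from relations to the conormal module -/
noncomputable def e₀ (hG : ∀ j, G.val j = SymmetricAlgebra.ι A M (x j)) :
    LinearMap.ker (Fintype.linearCombination A x) →ₗ[A] G.toExtension.Cotangent where
  toFun k := Algebra.Extension.Cotangent.mk ⟨lf m (k : Fin m → A), mem_ker G hG k⟩
  map_add' k l := by
    rw [← map_add]
    congr 1
    exact Subtype.ext (map_add (lf m) _ _)
  map_smul' a k := by
    rw [RingHom.id_apply]
    have h1 : (⟨lf m ((a • k : LinearMap.ker (Fintype.linearCombination A x)) : Fin m → A),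
        mem_ker G hG (a • k)⟩ : G.toExtension.ker) =
        (show G.toExtension.Ring from C a) •
          (⟨lf m (k : Fin m → A), mem_ker G hG k⟩ : G.toExtension.ker) := by
      refine Subtype.ext ?_
      change lf m (a • (k : Fin m → A)) = C a * lf m (k : Fin m → A)
      rw [map_smul, MvPolynomial.smul_eq_C_mul]
    rw [h1]
    refine (map_smul Algebra.Extension.Cotangent.mk _ _).trans ?_
    exact algebraMap_smul G.toExtension.Ring a _

theorem repr_lf (y : G.toExtension.Ring) (k : Fin m → A) (hy : y = lf m k) (j : Fin m) :
    G.cotangentSpaceBasis.equivFun (1 ⊗ₜ[G.toExtension.Ring] KaehlerDifferential.D A G.toExtension.Ring y) j =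
      algebraMap A _ (k j) := by
  subst hy
  rw [Module.Basis.equivFun_apply]
  refine (Algebra.Generators.cotangentSpaceBasis_repr_one_tmul G _ j).trans ?_
  change aeval G.val (pderiv j (lf m k)) = _
  rw [lf_apply, map_sum]
  simp only [Derivation.leibniz, pderiv_C, smul_zero, add_zero, pderiv_X, smul_eq_mul]
  rw [map_sum, Finset.sum_eq_single j]
  · simp
  · intro b _ hb
    simp [Pi.single_apply, hb.symm, hb]
  · simp

end Aux

/-- Let `x_1, …, x_m` generate the `A`-module `M`, let `K ⊆ A^m` be the module of relations, `C =
Sym_A(M)` and `α : A[y_1, …, y_m] → C` the presentation with `y_j ↦ x_j`, with kernel `J`. Then the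
`C`-linear map `C ⊗_A K → J/J²` sending `1 ⊗ k` to the class of `Σ_j k_j y_j` is surjective, and it
is bijective when `M` is a projective `A`-module (so that then `J/J² ≅ K ⊗_A C` and the naive
cotangent complex of `α` is `K ⊗_A C → ⊕_j C dy_j`). (The published statement asserts `J/J² ≅ K ⊗_A
C` for every `M`. For `A = ℤ`, `M = (ℤ/2)²`, `m = 2` and the two unit vectors, `K = 2ℤ²` and the
element `y_2 ⊗ (2, 0) - y_1 ⊗ (0, 2)` of `C ⊗_A K` is non-zero but maps to the class of `y_2 · 2y_1
- y_1 · 2y_2 = 0`; in degree `2` the graded piece of `J/J²` has `8` elements and that of `K ⊗_A C`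
has `16`. The published degree-by-degree computation does show that `J` is generated by the linear
forms coming from `K`, which is the surjectivity, and it is valid as written when `0 → K → A^m → M →
0` splits, which is the projective case.) -/
theorem result (A : Type u) [CommRing A] (M : Type u)
    [AddCommGroup M] [Module A M] (m : ℕ) (x : Fin m → M)
    (hx : Function.Surjective (Fintype.linearCombination A x))
    (G : Algebra.Generators A (SymmetricAlgebra A M) (Fin m))
    (hG : ∀ j, G.val j = SymmetricAlgebra.ι A M (x j)) :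
    ∃ e : SymmetricAlgebra A M ⊗[A] (LinearMap.ker (Fintype.linearCombination A x)) →ₗ[SymmetricAlgebra A M]
        G.toExtension.Cotangent,
      (∀ (k : LinearMap.ker (Fintype.linearCombination A x))
        (hk : (∑ j, C ((k : Fin m → A) j) * X j : MvPolynomial (Fin m) A) ∈ G.toExtension.ker),
        e (1 ⊗ₜ k) = Algebra.Extension.Cotangent.mk ⟨_, hk⟩) ∧
      Function.Surjective e ∧ (Module.Projective A M → Function.Bijective e) := by
  let e : SymmetricAlgebra A M ⊗[A] (LinearMap.ker (Fintype.linearCombination A x))
      →ₗ[SymmetricAlgebra A M] G.toExtension.Cotangent := (Aux.e₀ G hG).liftBaseChange _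
  have he : ∀ k, e (1 ⊗ₜ k) = Algebra.Extension.Cotangent.mk ⟨_, Aux.mem_ker G hG k⟩ := fun k => by
    simp only [e, LinearMap.liftBaseChange_tmul, one_smul]
    rfl
  have hsurj : Function.Surjective e := by
    intro y
    obtain ⟨p, rfl⟩ := Algebra.Extension.Cotangent.mk_surjective y
    obtain ⟨p, hp⟩ := p
    have hp' := Aux.ker_le G hx hG hp
    have : ∀ (q : MvPolynomial (Fin m) A), q ∈ Ideal.span (Set.range fun k :
        LinearMap.ker (Fintype.linearCombination A x) => Aux.lf m (k : Fin m → A)) →
        ∀ hq : q ∈ G.toExtension.ker, ∃ t, e t = Algebra.Extension.Cotangent.mk ⟨q, hq⟩ := by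
      intro q hq
      induction hq using Submodule.span_induction with
      | mem q h =>
        obtain ⟨k, rfl⟩ := h
        exact fun hq => ⟨1 ⊗ₜ k, he k⟩
      | zero => exact fun hq => ⟨0, by rw [map_zero]; exact (map_zero _).symm⟩
      | add a b ha hb iha ihb =>
        intro hq
        have hle : Ideal.span (Set.range fun k :
          LinearMap.ker (Fintype.linearCombination A x) => Aux.lf m (k : Fin m → A)) ≤
            G.toExtension.ker := by
          rw [Ideal.span_le]
          rintro _ ⟨k, rfl⟩
          exact Aux.mem_ker G hG k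
        obtain ⟨s, hs⟩ := iha (hle ha)
        obtain ⟨t, ht⟩ := ihb (hle hb)
        refine ⟨s + t, ?_⟩
        rw [map_add, hs, ht, ← map_add]
        rfl
      | smul r a ha iha =>
        intro hq
        have hle : Ideal.span (Set.range fun k :
          LinearMap.ker (Fintype.linearCombination A x) => Aux.lf m (k : Fin m → A)) ≤
            G.toExtension.ker := by
          rw [Ideal.span_le]
          rintro _ ⟨k, rfl⟩
          exact Aux.mem_ker G hG k
        obtain ⟨s, hs⟩ := iha (hle ha)
        refine ⟨(algebraMap G.toExtension.Ring (SymmetricAlgebra A M) r) • s, ?_⟩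
        rw [map_smul, hs, algebraMap_smul, ← map_smul]
        rfl
    exact this p hp' hp
  refine ⟨e, ?_, hsurj, ?_⟩
  · intro k hk
    rw [he]
    congr 1
    exact Subtype.ext (Aux.lf_apply _)
  · intro hproj
    refine ⟨?_, hsurj⟩
    obtain ⟨s, hs⟩ := Module.projective_lifting_property (Fintype.linearCombination A x)
      (LinearMap.id : M →ₗ[A] M) hx
    let r : (Fin m → A) →ₗ[A] LinearMap.ker (Fintype.linearCombination A x) :=
      LinearMap.codRestrict _ (LinearMap.id - s ∘ₗ (Fintype.linearCombination A x)) (fun k => by
        rw [LinearMap.mem_ker, LinearMap.sub_apply, map_sub]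
        change _ - ((Fintype.linearCombination A x) ∘ₗ s) _ = 0
        rw [hs]
        simp)
    have hr : ∀ k : LinearMap.ker (Fintype.linearCombination A x), r (k : Fin m → A) = k := by
      intro k
      refine Subtype.ext ?_
      change (k : Fin m → A) - s (Fintype.linearCombination A x (k : Fin m → A)) = k
      rw [LinearMap.mem_ker.mp k.2, map_zero, sub_zero]
    let L : G.toExtension.CotangentSpace →ₗ[SymmetricAlgebra A M]
        (SymmetricAlgebra A M ⊗[A] (LinearMap.ker (Fintype.linearCombination A x))) :=
      G.cotangentSpaceBasis.constr (SymmetricAlgebra A M) (fun j => 1 ⊗ₜ r (Pi.single j 1))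
    have key : L ∘ₗ G.toExtension.cotangentComplex ∘ₗ e = LinearMap.id := by
      apply TensorProduct.AlgebraTensorModule.curry_injective
      apply LinearMap.ext_ring
      refine LinearMap.ext fun k => ?_
      change L (G.toExtension.cotangentComplex (e (1 ⊗ₜ k))) = 1 ⊗ₜ k
      rw [he, Algebra.Extension.cotangentComplex_mk]
      change G.cotangentSpaceBasis.constr (SymmetricAlgebra A M) _ _ = _
      rw [Module.Basis.constr_apply_fintype]
      have h2 : ∀ j, (G.cotangentSpaceBasis.equivFun
          (1 ⊗ₜ[G.toExtension.Ring] KaehlerDifferential.D A G.toExtension.Ring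
            (⟨Aux.lf m (k : Fin m → A), Aux.mem_ker G hG k⟩ : G.toExtension.ker).1) j) •
            ((1 : SymmetricAlgebra A M) ⊗ₜ[A] r (Pi.single j 1)) =
            (1 : SymmetricAlgebra A M) ⊗ₜ[A] r (Pi.single j ((k : Fin m → A) j)) := by
        intro j
        rw [Aux.repr_lf G _ (k : Fin m → A) rfl j, algebraMap_smul, ← TensorProduct.tmul_smul,
          ← map_smul]
        congr 2
        rw [← Pi.single_smul, smul_eq_mul, mul_one]
      refine (Finset.sum_congr rfl fun j _ => h2 j).trans ?_
      rw [← TensorProduct.tmul_sum, ← map_sum, Finset.univ_sum_single, hr]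
    intro a b hab
    have h3 : ∀ t, (L ∘ₗ G.toExtension.cotangentComplex ∘ₗ e) t = t := fun t => by rw [key]; rfl
    rw [← h3 a, ← h3 b]
    change L (G.toExtension.cotangentComplex (e a)) = L (G.toExtension.cotangentComplex (e b))
    rw [hab]

end Groth.Agent.S12091
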