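import Groth.Statements.S12092
import Groth.Agent.DRing.K227.TorMore
import Groth.Agent.DRing.K228.FlatBC
import Groth.Agent.DRing.K232.ExactMax

set_option autoImplicit false
universe u
open CategoryTheory
attribute [local instance] HasDerivedCategory.standard
open DRing

namespace Groth.Agent.S12092

/-- (3) ⇒ (1): let `A → B` be a ring map and `K•` a complex of `B`-modules. Suppose that for every
maximal ideal `m ⊆ B`, with `p` its inverse image in `A`, the localization `K•_m`, viewed as a
complex of `A_p`-modules, has tor amplitude in `[a, b]`. Then `K•`, regarded over `A` by restriction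
of scalars, has tor amplitude in `[a, b]`. (Tor amplitude in the frozen sense: isomorphic in the
derived category to a complex of flat modules vanishing outside `[a, b]`.) -/
theorem result (A B : Type u) [CommRing A] [CommRing B]
    [Algebra A B] (K : DRing.Cx B) (a b : ℤ)
    (h3 : ∀ (m : Ideal B) [m.IsMaximal],
      DRing.HasTorAmplitudeIn (Localization.AtPrime (m.comap (algebraMap A B))) a b
        (DRing.toD ((DRing.restrictCx (Localization.localRingHom (m.comap (algebraMap A B)) m (algebraMap A B) rfl)).obj
          (((ModuleCat.extendScalars (algebraMap B (Localization.AtPrime m))).mapHomologicalComplex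
            (ComplexShape.up ℤ)).obj K)))) :
    DRing.HasTorAmplitudeIn A a b (DRing.toD ((DRing.restrictCx (algebraMap A B)).obj K)) := by
  refine K227.KTen.torAmp_of_exactAt _ a b fun M N hN hNp hNf ⟨e⟩ i hi => ?_
  rw [K227.KTen.exactAt_tensor_res_iff]
  refine K232.ExactMax.exactAt_of_forall_maximal _ i fun m hm => ?_
  let p : Ideal A := m.comap (algebraMap A B)
  let ψ : B →+* Localization.AtPrime m := algebraMap B (Localization.AtPrime m)
  let ψ' : A →+* Localization.AtPrime p := algebraMap A (Localization.AtPrime p)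
  let φ' : Localization.AtPrime p →+* Localization.AtPrime m :=
    Localization.localRingHom p m (algebraMap A B) rfl
  have hcomm : ψ.comp (algebraMap A B) = φ'.comp ψ' := by
    ext x
    exact (Localization.localRingHom_to_map p m (algebraMap A B) rfl x).symm
  have hfl : ψ'.Flat := by
    rw [RingHom.flat_algebraMap_iff]
    exact IsLocalization.flat _ p.primeCompl
  let N' : DRing.Cx (Localization.AtPrime p) := (Groth.Agent.LoccohB.ProjF.extCx ψ').obj N
  let K' : DRing.Cx (Localization.AtPrime m) := (Groth.Agent.LoccohB.ProjF.extCx ψ).obj K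
  have e3 := (Groth.Agent.LoccohB.LTenBC.extTenIso ψ K).app ((Groth.Agent.LoccohB.ProjF.extCx (algebraMap A B)).obj N)
  have e5 : (Groth.Agent.LoccohB.ProjF.extCx ψ).obj ((Groth.Agent.LoccohB.ProjF.extCx (algebraMap A B)).obj N) ≅
      (Groth.Agent.LoccohB.ProjF.extCx φ').obj N' :=
    (K227.TorMore.extCxComp (algebraMap A B) ψ N).symm ≪≫ eqToIso (by rw [hcomm]) ≪≫
      K227.TorMore.extCxComp ψ' φ' N
  have e4 := MonoidalCategory.whiskerRightIso e5 K'
  refine Groth.Agent.Flat2C.TorAmpRestr.exactAt_of_iso (DerivedCategory.Q.mapIso (e3 ≪≫ e4)) i ?_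
  rw [← K227.KTen.exactAt_tensor_res_iff]
  refine K227.KTen.exactAt_of_torAmp (h3 m) (N := N')
    (M := ModuleCat.of _ (TensorProduct A (Localization.AtPrime p) M)) ?_ ?_ i hi
  · refine K226.KFlat.kfl_of_boundedAbove N' 0 (fun j hj => ?_) fun j => ?_
    · exact Functor.map_isZero (ModuleCat.extendScalars.{u, u, u} ψ') (hN j hj)
    · exact K228.FlatBC.flat_ext ψ' _ (Groth.Agent.Flat2C.TorAmpRestr.flat_of_projective (hNp j))
  · exact (K228.FlatBC.flatBCQ ψ' hfl N).symm ≪≫ (Groth.Agent.LoccohB.FlatLBC.flatBC ψ' hfl).mapIso e ≪≫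
      K228.FlatBC.flatBCinD hfl M

end Groth.Agent.S12092
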