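import Groth.Statements.S12096
import Groth.Agent.Divis.BlowAlg2

set_option autoImplicit false
universe u
open BlowUp

namespace Groth.Agent.S12096

open Groth.Agent.Divis

/-- Néron's blowup is compatible with localization. For a ring `A`, an ideal `I`, elements `π, a ∈ A`,
`A' = A[I/π] ⊆ A_π` the affine blowup algebra and `(A_a)' = A_a[I A_a/π]` that of the localization,
the canonical map `A' → (A_a)'` (the restriction of `A_π → (A_a)_π`, given here as a datum with that
compatibility) identifies `(A_a)'` with the localization `A'_a`. In Néron's situation (`I` the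
inverse image of the maximal ideal of `Λ`, `π` a uniformizer, `a ∉ I`) this reads: the Néron blowup
of `A_a` is `A'_a`; the identity holds for arbitrary `A, I, π, a`. -/
theorem result (A : Type u) [CommRing A] (I : Ideal A) (π a : A) (hπ : π ∈ I)
    (ψ : BlowUp.affineAlgebra A I π →+*
      BlowUp.affineAlgebra (Localization.Away a) (I.map (algebraMap A (Localization.Away a))) (algebraMap A (Localization.Away a) π))
    (hψ : ∀ x : BlowUp.affineAlgebra A I π,
      ((ψ x : BlowUp.affineAlgebra (Localization.Away a) (I.map (algebraMap A (Localization.Away a))) (algebraMap A (Localization.Away a) π)) :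
          Localization.Away (algebraMap A (Localization.Away a) π)) =
        Localization.awayMap (algebraMap A (Localization.Away a)) π (x : Localization.Away π)) :
    letI := ψ.toAlgebra
    IsLocalization.Away (algebraMap A (BlowUp.affineAlgebra A I π) a)
      (BlowUp.affineAlgebra (Localization.Away a) (I.map (algebraMap A (Localization.Away a))) (algebraMap A (Localization.Away a) π)) := by
  let _ := ψ.toAlgebra
  have hπ' : algebraMap A (Localization.Away a) π ∈ I.map (algebraMap A (Localization.Away a)) :=
    Ideal.mem_map_of_mem _ hπ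
  -- `ψ` on constants
  have hψc : ∀ c : A, ψ (algebraMap A _ c) =
      algebraMap (Localization.Away a) _ (algebraMap A (Localization.Away a) c) := by
    intro c
    apply Subtype.ext
    rw [hψ]
    change Localization.awayMap (algebraMap A (Localization.Away a)) π (algebraMap A _ c) =
      algebraMap (Localization.Away a) (Localization.Away (algebraMap A (Localization.Away a) π)) _
    exact IsLocalization.map_eq _ _
  have hreg : algebraMap (Localization.Away a)
      (affineAlgebra (Localization.Away a) (I.map (algebraMap A (Localization.Away a)))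
        (algebraMap A (Localization.Away a) π)) (algebraMap A (Localization.Away a) π) ∈
      nonZeroDivisors _ := BlowAlg.algebraMap_mem_nonZeroDivisors _ _
  have hu : IsUnit (ψ (algebraMap A _ a)) := by
    rw [hψc]
    exact (IsLocalization.Away.algebraMap_isUnit a).map _
  refine (isLocalization_iff _ _).2 ⟨?_, ?_, ?_⟩
  · rintro ⟨_, n, rfl⟩
    change IsUnit (ψ (algebraMap A _ a ^ n))
    rw [map_pow]
    exact hu.pow n
  · intro z
    obtain ⟨n, m, hm, hz⟩ := BlowAlg2.exists_pow_mul_eq_mem _ _ hπ' z
    rw [← Ideal.map_pow] at hm
    obtain ⟨⟨⟨m', hm'⟩, ⟨_, k, rfl⟩⟩, hk⟩ :=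
      (IsLocalization.mem_map_algebraMap_iff (Submonoid.powers a) (Localization.Away a)).1 hm
    obtain ⟨q, hq⟩ := BlowAlg2.exists_eq_pow_mul I π hπ n hm'
    refine ⟨⟨q, ⟨_, k, rfl⟩⟩, ?_⟩
    change z * ψ (algebraMap A _ a ^ k) = ψ q
    refine (mul_cancel_left_mem_nonZeroDivisors (pow_mem hreg n)).1 ?_
    have h1 : ψ (algebraMap A _ m') = ψ (algebraMap A _ π) ^ n * ψ q := by
      rw [hq, map_mul, map_pow]
    rw [hψc, hψc] at h1
    rw [← h1, ← mul_assoc, hz, map_pow, hψc, ← map_pow, ← map_pow, ← map_mul]
    exact congrArg _ hk
  · intro x y hxy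
    change ψ x = ψ y at hxy
    obtain ⟨n, c, hc⟩ := BlowAlg.exists_pow_mul_eq I π x
    obtain ⟨m, d, hd⟩ := BlowAlg.exists_pow_mul_eq I π y
    -- compare `π ^ (n + m) x` and `π ^ (n + m) y` in `A_a`
    have h1 : algebraMap (Localization.Away a)
      (affineAlgebra (Localization.Away a) (I.map (algebraMap A (Localization.Away a)))
        (algebraMap A (Localization.Away a) π)) (algebraMap A (Localization.Away a) (π ^ m * c)) =
        algebraMap (Localization.Away a)
      (affineAlgebra (Localization.Away a) (I.map (algebraMap A (Localization.Away a)))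
        (algebraMap A (Localization.Away a) π)) (algebraMap A (Localization.Away a) (π ^ n * d)) := by
      rw [← hψc, ← hψc, map_mul (algebraMap A (affineAlgebra A I π)), map_mul (algebraMap A (affineAlgebra A I π)),
        ← hc, ← hd]
      simp only [map_mul, map_pow, hxy]
      ring
    -- so they agree in `(A_a)_π`
    have h2 := congrArg Subtype.val h1
    change algebraMap (Localization.Away a) (Localization.Away (algebraMap A (Localization.Away a) π)) _ =
      algebraMap (Localization.Away a) (Localization.Away (algebraMap A (Localization.Away a) π)) _ at h2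
    rw [IsLocalization.eq_iff_exists (Submonoid.powers (algebraMap A (Localization.Away a) π))] at h2
    obtain ⟨⟨_, k, rfl⟩, hk⟩ := h2
    change algebraMap A (Localization.Away a) π ^ k * _ = algebraMap A (Localization.Away a) π ^ k * _ at hk
    rw [← map_pow, ← map_mul, ← map_mul, IsLocalization.eq_iff_exists (Submonoid.powers a)] at hk
    obtain ⟨⟨_, l, rfl⟩, hl⟩ := hk
    change a ^ l * _ = a ^ l * _ at hl
    refine ⟨⟨_, l, rfl⟩, ?_⟩
    change algebraMap A _ a ^ l * x = algebraMap A _ a ^ l * y
    have hregA : algebraMap A (affineAlgebra A I π) π ∈ nonZeroDivisors _ :=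
      BlowAlg.algebraMap_mem_nonZeroDivisors _ _
    refine (mul_cancel_left_mem_nonZeroDivisors (pow_mem hregA (k + (n + m)))).1 ?_
    have h3 := congrArg (algebraMap A (affineAlgebra A I π)) hl
    simp only [map_mul, map_pow] at h3
    rw [← hc, ← hd] at h3
    calc algebraMap A (affineAlgebra A I π) π ^ (k + (n + m)) * (algebraMap A (affineAlgebra A I π) a ^ l * x)
        = algebraMap A (affineAlgebra A I π) a ^ l * (algebraMap A (affineAlgebra A I π) π ^ k *
          (algebraMap A (affineAlgebra A I π) π ^ m * (algebraMap A (affineAlgebra A I π) π ^ n * x))) := by ring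
      _ = algebraMap A (affineAlgebra A I π) a ^ l * (algebraMap A (affineAlgebra A I π) π ^ k *
          (algebraMap A (affineAlgebra A I π) π ^ n * (algebraMap A (affineAlgebra A I π) π ^ m * y))) := h3
      _ = _ := by ring

end Groth.Agent.S12096
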