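import Groth.Statements.S12097
import Groth.Agent.Divis.BlowAlg2

set_option autoImplicit false
universe u
open BlowUp

namespace Groth.Agent.S12097

open Groth.Agent.Divis

/-- Néron's blowup is compatible with closed immersions. For a surjective ring map `B → A` with kernel
`J`, an ideal `I ⊆ B` containing `π`, and the affine blowup algebras `B' = B[I/π] ⊆ B_π`, `A' =
A[IA/π] ⊆ A_π`, the canonical map `B' → A'` (the restriction of `B_π → A_π`, given as a datum with
that compatibility) is surjective with kernel the elements `x` such that `π^n x ∈ J B'` for some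
`n`: `A'` is the quotient of `B'/JB'` by its `π`-power torsion. In Néron's situation (`I` the
inverse image of the maximal ideal of `Λ`, `π` a uniformizer) this is the printed functoriality; the
identity holds for any surjection. -/
theorem result (B A : Type u) [CommRing B] [CommRing A] [Algebra B A]
    (hq : Function.Surjective (algebraMap B A)) (I : Ideal B) (π : B) (hπ : π ∈ I)
    (ψ : BlowUp.affineAlgebra B I π →+* BlowUp.affineAlgebra A (I.map (algebraMap B A)) (algebraMap B A π))
    (hψ : ∀ x : BlowUp.affineAlgebra B I π,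
      ((ψ x : BlowUp.affineAlgebra A (I.map (algebraMap B A)) (algebraMap B A π)) : Localization.Away (algebraMap B A π)) =
        Localization.awayMap (algebraMap B A) π (x : Localization.Away π)) :
    Function.Surjective ψ ∧
      ∀ x : BlowUp.affineAlgebra B I π, x ∈ RingHom.ker ψ ↔
        ∃ n : ℕ, algebraMap B (BlowUp.affineAlgebra B I π) π ^ n * x ∈
          (RingHom.ker (algebraMap B A)).map (algebraMap B (BlowUp.affineAlgebra B I π)) := by
  have hπ' : algebraMap B A π ∈ I.map (algebraMap B A) := Ideal.mem_map_of_mem _ hπ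
  have hψc : ∀ c : B, ψ (algebraMap B _ c) = algebraMap A _ (algebraMap B A c) := by
    intro c
    apply Subtype.ext
    rw [hψ]
    change Localization.awayMap (algebraMap B A) π (algebraMap B _ c) =
      algebraMap A (Localization.Away (algebraMap B A π)) _
    exact IsLocalization.map_eq _ _
  have hreg : algebraMap A (affineAlgebra A (I.map (algebraMap B A)) (algebraMap B A π))
      (algebraMap B A π) ∈ nonZeroDivisors _ := BlowAlg.algebraMap_mem_nonZeroDivisors _ _
  refine ⟨?_, fun x => ⟨fun hx => ?_, ?_⟩⟩
  · intro z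
    obtain ⟨n, m, hm, hz⟩ := BlowAlg2.exists_pow_mul_eq_mem _ _ hπ' z
    rw [← Ideal.map_pow] at hm
    obtain ⟨m', hm', rfl⟩ := (Ideal.mem_map_iff_of_surjective _ hq).1 hm
    obtain ⟨q, hqq⟩ := BlowAlg2.exists_eq_pow_mul I π hπ n hm'
    refine ⟨q, ?_⟩
    refine (mul_cancel_left_mem_nonZeroDivisors (pow_mem hreg n)).1 ?_
    rw [hz, ← hψc, ← hψc, hqq, map_mul, map_pow]
  · obtain ⟨n, c, hc⟩ := BlowAlg.exists_pow_mul_eq I π x
    rw [RingHom.mem_ker] at hx
    have h1 : algebraMap A (affineAlgebra A (I.map (algebraMap B A)) (algebraMap B A π))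
        (algebraMap B A c) = 0 := by
      rw [← hψc, ← hc, map_mul, hx, mul_zero]
    have h2 := congrArg Subtype.val h1
    change algebraMap A (Localization.Away (algebraMap B A π)) _ = 0 at h2
    rw [IsLocalization.map_eq_zero_iff (Submonoid.powers (algebraMap B A π))] at h2
    obtain ⟨⟨_, k, rfl⟩, hk⟩ := h2
    change algebraMap B A π ^ k * _ = 0 at hk
    refine ⟨k + n, ?_⟩
    have h3 : algebraMap B (affineAlgebra B I π) π ^ (k + n) * x =
        algebraMap B (affineAlgebra B I π) (π ^ k * c) := by
      rw [map_mul, ← hc, map_pow]; ring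
    rw [h3]
    apply Ideal.mem_map_of_mem
    rw [RingHom.mem_ker, map_mul, map_pow, hk]
  · rintro ⟨n, hn⟩
    have h1 : ψ (algebraMap B (affineAlgebra B I π) π ^ n * x) = 0 := by
      have h2 : (RingHom.ker (algebraMap B A)).map (algebraMap B (BlowUp.affineAlgebra B I π)) ≤
          RingHom.ker ψ := by
        rw [Ideal.map_le_iff_le_comap]
        intro c hc
        rw [RingHom.mem_ker] at hc
        rw [Ideal.mem_comap, RingHom.mem_ker, hψc, hc, map_zero]
      exact h2 hn
    rw [map_mul, map_pow, hψc] at h1
    rw [RingHom.mem_ker]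
    exact (mul_left_mem_nonZeroDivisors_eq_zero_iff (pow_mem hreg n)).1 h1

end Groth.Agent.S12097
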