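import Groth.Statements.S12098
import Groth.Agent.DRing.K232.LocIso
import Groth.Agent.DRing.K228.Basic

set_option autoImplicit false
universe u
open CategoryTheory CategoryTheory.Limits
attribute [local instance] HasDerivedCategory.standard
open DRing

namespace Groth.Agent.S12098

/-- Let `p ⊆ R` be a prime and `M•`, `N•` bounded complexes whose terms are finite projective
`R`-modules and which are isomorphic in `D(R)`. Then for some `f ∉ p` the localized complexes `M•_f`
and `N•_f` become isomorphic once a finite direct sum of trivial complexes is added to each: `M•_f ⊕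
P•` and `N•_f ⊕ Q•` are isomorphic as complexes, with `P•`, `Q•` finite direct sums of copies of `0
→ R_f = R_f → 0` (placed in arbitrary degrees), expressed here as: bounded, with finite free terms
and free boundary modules, and with null-homotopic identity. -/
theorem result (R : Type u) [CommRing R] (p : Ideal R) [p.IsPrime]
    (M N : DRing.Cx R) (a b : ℤ) (hM : DRing.VanishesOutside M a b) (hN : DRing.VanishesOutside N a b)
    (hMp : DRing.TermwiseFiniteProjective M) (hNp : DRing.TermwiseFiniteProjective N)
    (h : Nonempty (DRing.toD M ≅ DRing.toD N)) :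
    ∃ f : R, f ∉ p ∧ ∃ P Q : DRing.Cx (Localization.Away f),
      ((∃ a' b' : ℤ, DRing.VanishesOutside P a' b') ∧ DRing.TermwiseFiniteFree P ∧
          (∀ i : ℤ, Module.Free (Localization.Away f) (LinearMap.range (P.d i (i + 1)).hom)) ∧ Nonempty (Homotopy (𝟙 P) 0)) ∧
      ((∃ a' b' : ℤ, DRing.VanishesOutside Q a' b') ∧ DRing.TermwiseFiniteFree Q ∧
          (∀ i : ℤ, Module.Free (Localization.Away f) (LinearMap.range (Q.d i (i + 1)).hom)) ∧ Nonempty (Homotopy (𝟙 Q) 0)) ∧
      Nonempty ((((ModuleCat.extendScalars (algebraMap R (Localization.Away f))).mapHomologicalComplex (ComplexShape.up ℤ)).obj M) ⊞ P ≅ (((ModuleCat.extendScalars (algebraMap R (Localization.Away f))).mapHomologicalComplex (ComplexShape.up ℤ)).obj N) ⊞ Q) := by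
  classical
  obtain ⟨e⟩ := h
  have hM' : ∀ i, Projective (M.X i) := fun i => by
    have := (hMp i).2
    exact (IsProjective.iff_projective (R := R) (M.X i)).1 this
  have hN' : ∀ i, Projective (N.X i) := fun i => by
    have := (hNp i).2
    exact (IsProjective.iff_projective (R := R) (N.X i)).1 this
  have : M.IsStrictlyLE b := by
    rw [CochainComplex.isStrictlyLE_iff]
    exact fun i hi => hM i (Or.inr hi)
  have : M.IsKProjective := CochainComplex.isKProjective_of_projective M b
  obtain ⟨φ, hφ⟩ := K228.Basic.exists_Q_map e.hom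
  have : IsIso (DerivedCategory.Q.map φ) := by
    rw [hφ]
    infer_instance
  have : QuasiIso φ := by
    rwa [DerivedCategory.isIso_Q_map_iff_quasiIso] at this
  obtain ⟨h1, h2, ⟨iso⟩⟩ := K232.ContrSplit.nonempty_iso φ a b hM hN hM' hN'
  have hfin : ∀ i, Module.Finite R (N.X i ⊞ (M.X (i + 1) ⊞ M.X i) : ModuleCat.{u} R) := fun i => by
    have := (hMp i).1
    have := (hMp (i + 1)).1
    have := (hNp i).1
    have h3 : Module.Finite R (M.X (i + 1) ⊞ M.X i : ModuleCat.{u} R) :=
      Module.Finite.equiv (ModuleCat.biprodIsoProd (M.X (i + 1)) (M.X i)).toLinearEquiv.symm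
    exact Module.Finite.equiv (ModuleCat.biprodIsoProd (N.X i) (M.X (i + 1) ⊞ M.X i)).toLinearEquiv.symm
  have hZ : DRing.TermwiseFiniteProjective (K232.ContrSplit.Zc φ) := fun i => by
    refine ⟨?_, (IsProjective.iff_projective (R := R) _).2 (K232.ContrSplit.projective_Zc φ hM' hN' i)⟩
    obtain ⟨r⟩ := K232.ContrSplit.retract_Zc' φ i
    have := hfin i
    exact Module.Finite.of_surjective r.r.hom ((ModuleCat.epi_iff_surjective _).1 inferInstance)
  have hC : DRing.TermwiseFiniteProjective (CochainComplex.mappingCone (𝟙 M)) := fun i => by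
    refine ⟨?_, (IsProjective.iff_projective (R := R) _).2 (K232.ContrSplit.projective_coneX hM' i)⟩
    have := (hMp i).1
    have := (hMp (i + 1)).1
    exact Module.Finite.equiv ((K232.ContrSplit.coneX M i) ≪≫
      (ModuleCat.biprodIsoProd (M.X (i + 1)) (M.X i))).toLinearEquiv.symm
  obtain ⟨f, hf, H⟩ := K232.LocIso.exists_loc p (ι := Bool)
    (fun k => if k then K232.ContrSplit.Zc φ else CochainComplex.mappingCone (𝟙 M)) (a - 1) b
    (fun k => by
      cases k
      · exact fun i hi => K232.ContrSplit.isZero_coneX a b hM i hi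
      · exact fun i hi => K232.ContrSplit.isZero_Zc φ a b hM hN i hi)
    (fun k => by
      cases k
      · exact hC
      · exact hZ)
    (fun k => by
      cases k
      · exact h2
      · exact h1)
  haveI : Limits.PreservesBinaryBiproducts (K232.LocIso.extCx R (Localization.Away f)) :=
    preservesBinaryBiproducts_of_preservesBiproducts _
  refine ⟨f, hf, _, _, H true, H false, ⟨?_⟩⟩
  exact ((K232.LocIso.extCx R (Localization.Away f)).mapBiprod M (K232.ContrSplit.Zc φ)).symm ≪≫
    (K232.LocIso.extCx R (Localization.Away f)).mapIso iso ≪≫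
    (K232.LocIso.extCx R (Localization.Away f)).mapBiprod N (CochainComplex.mappingCone (𝟙 M))

end Groth.Agent.S12098
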