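import Groth.Statements.S12102
import Groth.Agent.PCoh.K225.PC3
import Mathlib.Algebra.Homology.Augment

set_option autoImplicit false
universe w v u
open CategoryTheory CategoryTheory.Limits
open PCoh

namespace Groth.Agent.S12102

/-- The short exact sequence `0 → Z_{i+1} → K_{i+1} → Z_i → 0`. -/
theorem cycles_ses {C : Type u} [Category.{v} C] [Abelian C] (K : ChainComplex C ℕ) (i : ℕ) (h : K.ExactAt i) :
    (ShortComplex.mk (K.iCycles (i + 1)) (K.toCycles (i + 1) i) (by
      rw [← cancel_mono (K.iCycles i)]; simp)).ShortExact := by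
  refine { exact := ?_, mono_f := by dsimp; infer_instance, epi_g := ?_ }
  · rw [ShortComplex.exact_iff_exact_up_to_refinements]
    intro A x hx
    dsimp at x hx
    have hx' : x ≫ K.d (i + 1) i = 0 := by
      rw [← K.toCycles_i (i + 1) i, ← Category.assoc, hx, zero_comp]
    refine ⟨A, 𝟙 A, inferInstance, K.liftCycles x i (by simp) hx', ?_⟩
    rw [Category.id_comp]
    exact (K.liftCycles_i x i _ hx').symm
  · dsimp
    rw [epi_iff_surjective_up_to_refinements]
    intro A y
    rw [K.exactAt_iff' (i + 1) i ((ComplexShape.down ℕ).next i) (by simp) rfl] at h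
    obtain ⟨A', π, hπ, x, hx⟩ := h.exact_up_to_refinements (y ≫ K.iCycles i) (by
      change (y ≫ K.iCycles i) ≫ K.d i _ = 0
      rw [Category.assoc, K.iCycles_d, comp_zero])
    change A' ⟶ K.X (i + 1) at x
    change π ≫ y ≫ K.iCycles i = x ≫ K.d (i + 1) i at hx
    refine ⟨A', π, hπ, x, ?_⟩
    rw [← cancel_mono (K.iCycles i), Category.assoc, hx, Category.assoc, K.toCycles_i]

theorem npc_of_complex {C : Type u} [Category.{v} C] [Abelian C] [HasDerivedCategory.{w} C] {P : ObjectProperty C}
    (hP : Groth.Agent.Pic13.H565.QLift.Hyp P) (n : ℕ) (K : ChainComplex C ℕ) (hK : ∀ j : ℕ, j ≤ n → K.ExactAt j)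
    (hKP : ∀ j : ℕ, 1 ≤ j → j ≤ n + 1 → P (K.X j)) :
    K225.PC.NPC P (-(n : ℤ)) ((DerivedCategory.singleFunctor C 0).obj (K.X 0)) := by
  have key : ∀ k j : ℕ, j + k = n → K225.PC.NPC P (-(k : ℤ)) ((DerivedCategory.singleFunctor C 0).obj (K.cycles j)) := by
    intro k
    induction k with
    | zero =>
      intro j hj
      refine (K225.PC.NPC.zero_iff hP _).2 ?_
      have h1 := (cycles_ses K j (hK j (by omega))).epi_g
      exact ⟨_, K.toCycles (j + 1) j, hKP (j + 1) (by omega) (by omega), h1⟩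
    | succ k ih =>
      intro j hj
      refine K225.PC.NPC.ses₃ hP _ (cycles_ses K j (hK j (by omega))) ?_ (K225.PC.NPC.of_mem hP _
        (hKP (j + 1) (by omega) (by omega)))
      have h1 : -((k + 1 : ℕ) : ℤ) + 1 = -(k : ℤ) := by push_cast; ring
      rw [h1]
      exact ih (j + 1) (by omega)
  have h1 : IsIso (K.iCycles 0) := K.isIso_iCycles 0 _ rfl (K.shape _ _ (by simp))
  exact (key n 0 (by omega)).of_iso ((DerivedCategory.singleFunctor C 0).mapIso (asIso (K.iCycles 0)))

theorem exists_complex {C : Type u} [Category.{v} C] [Abelian C] [HasDerivedCategory.{w} C] {P : ObjectProperty C}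
    (hP : Groth.Agent.Pic13.H565.QLift.Hyp P) (n : ℕ) : ∀ (F : C)
    (_ : K225.PC.NPC P (1 - (n : ℤ)) ((DerivedCategory.singleFunctor C 0).obj F)),
    ∃ K : ChainComplex C ℕ, Nonempty (K.X 0 ≅ F) ∧ (∀ j : ℕ, j < n → K.ExactAt j) ∧
        (∀ j : ℕ, n < j → IsZero (K.X j)) ∧ (∀ j : ℕ, 1 ≤ j → j ≤ n → P (K.X j)) := by
  induction n with
  | zero =>
    intro F _
    exact ⟨(HomologicalComplex.single C (ComplexShape.down ℕ) 0).obj F,
      ⟨HomologicalComplex.singleObjXSelf (ComplexShape.down ℕ) 0 F⟩, fun j hj => absurd hj (by omega),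
      fun j hj => HomologicalComplex.isZero_single_obj_X _ _ _ _ (by omega), fun j h1 h2 => absurd h1 (by omega)⟩
  | succ n ih =>
    intro F hF
    obtain ⟨E, π, hE, hπ⟩ := (K225.PC.NPC.zero_iff hP F).1 (hF.mono (by push_cast; omega))
    have hS : (ShortComplex.mk (kernel.ι π) π (kernel.condition π)).ShortExact :=
      { exact := ShortComplex.exact_kernel π }
    have hF' : K225.PC.NPC P (1 - (n : ℤ)) ((DerivedCategory.singleFunctor C 0).obj (kernel π)) := by
      have h1 := K225.PC.NPC.ses₁ hP (-(n : ℤ)) hS (K225.PC.NPC.of_mem hP _ hE) (hF.mono (by push_cast; omega))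
      exact h1.mono (by omega)
    obtain ⟨K, ⟨e⟩, hK, hKz, hKP⟩ := ih (kernel π) hF'
    let f₁ : (ChainComplex.truncate.obj K).X 0 ⟶ E := K.d 1 0 ≫ e.hom ≫ kernel.ι π
    have w₁ : (ChainComplex.truncate.obj K).d 1 0 ≫ f₁ = 0 := by
      change K.d 2 1 ≫ K.d 1 0 ≫ e.hom ≫ kernel.ι π = 0
      rw [K.d_comp_d_assoc, zero_comp]
    let L := ChainComplex.augment (ChainComplex.truncate.obj K) f₁ w₁
    have w₂ : L.d 1 0 ≫ π = 0 := by
      change (K.d 1 0 ≫ e.hom ≫ kernel.ι π) ≫ π = 0
      simp
    refine ⟨ChainComplex.augment L π w₂, ⟨Iso.refl _⟩, fun j hj => ?_, fun j hj => ?_, fun j h1 h2 => ?_⟩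
    · rcases j with _ | _ | _ | j
      · rw [HomologicalComplex.exactAt_iff' _ 1 0 0 (by simp) (by simp)]
        rw [ShortComplex.exact_iff_epi _ rfl]
        exact hπ
      · rw [HomologicalComplex.exactAt_iff' _ 2 1 0 (by simp) (by simp)]
        rw [ShortComplex.exact_iff_exact_up_to_refinements]
        intro A x hx
        change A ⟶ E at x
        change x ≫ π = 0 at hx
        have h0 := hK 0 (by omega)
        rw [HomologicalComplex.exactAt_iff' _ 1 0 0 (by simp) (by simp),
          ShortComplex.exact_iff_epi _ (K.shape _ _ (by simp))] at h0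
        have h0' : Epi (K.d 1 0) := h0
        obtain ⟨A', ρ, hρ, y, hy⟩ := surjective_up_to_refinements_of_epi (K.d 1 0) (kernel.lift π x hx ≫ e.inv)
        refine ⟨A', ρ, hρ, y, ?_⟩
        change ρ ≫ x = y ≫ K.d 1 0 ≫ e.hom ≫ kernel.ι π
        rw [← reassoc_of% hy]
        simp
      · rw [HomologicalComplex.exactAt_iff' _ 3 2 1 (by simp) (by simp)]
        rw [ShortComplex.exact_iff_exact_up_to_refinements]
        intro A x hx
        change A ⟶ K.X 1 at x
        change x ≫ K.d 1 0 ≫ e.hom ≫ kernel.ι π = 0 at hx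
        have h0 := hK 1 (by omega)
        rw [HomologicalComplex.exactAt_iff' _ 2 1 0 (by simp) (by simp)] at h0
        have hx' : x ≫ K.d 1 0 = 0 := by
          rw [← cancel_mono (e.hom ≫ kernel.ι π), Category.assoc, hx, zero_comp]
        obtain ⟨A', ρ, hρ, y, hy⟩ := h0.exact_up_to_refinements x hx'
        exact ⟨A', ρ, hρ, y, hy⟩
      · rw [HomologicalComplex.exactAt_iff' _ (j + 4) (j + 3) (j + 2) (by simp) (by simp)]
        have h0 := hK (j + 2) (by omega)
        rw [HomologicalComplex.exactAt_iff' _ (j + 3) (j + 2) (j + 1) (by simp) (by simp)] at h0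
        exact h0
    · rcases j with _ | _ | j
      · omega
      · omega
      · exact hKz (j + 1) (by omega)
    · rcases j with _ | _ | j
      · omega
      · exact hE
      · exact hKP (j + 1) (by omega) (by omega)

/-- Let C be an abelian category and C₀ a strictly full additive subcategory, quasi-stable under kernels
of epimorphisms and quasi-liftable; let F be an object of C and n a natural number. Then F is of
n-C₀-finite presentation (there is an exact sequence E_{n+1} → ⋯ → E_1 → F → 0 with all E_j in C₀;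
encoded as an ℕ-indexed chain complex K with K_0 ≅ F, exact at the indices 0, …, n, zero beyond
index n + 1, and K_1, …, K_{n+1} in C₀) if and only if F placed in degree 0 is (−n)-pseudo-coherent
(isomorphic in D(C) to a strictly (−n)-pseudo-coherent complex). -/
theorem result {C : Type u} [Category.{v} C] [Abelian C] [HasDerivedCategory.{w} C]
    (P : ObjectProperty C) [P.IsClosedUnderIsomorphisms] [P.ContainsZero] (hsum : ∀ X Y : C, P X → P Y → P (X ⨯ Y))
    (hqs : PCoh.IsQuasiStableUnderKernels P) (hql : PCoh.IsQuasiLiftable P)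
    (F : C) (n : ℕ) :
    (∃ K : ChainComplex C ℕ, Nonempty (K.X 0 ≅ F) ∧ (∀ j : ℕ, j ≤ n → K.ExactAt j) ∧
        (∀ j : ℕ, n + 1 < j → IsZero (K.X j)) ∧ (∀ j : ℕ, 1 ≤ j → j ≤ n + 1 → P (K.X j))) ↔
      (∃ E : CochainComplex C ℤ, PCoh.IsStrictPC P (-(n : ℤ)) E ∧
        Nonempty (DerivedCategory.Q.obj E ≅ (DerivedCategory.singleFunctor C 0).obj F)) := by
  have hP := Groth.Agent.Pic13.H565.QLift.Hyp.mk' P hsum hqs hql
  constructor
  · rintro ⟨K, ⟨e⟩, hK, -, hKP⟩
    exact (npc_of_complex hP n K hK hKP).of_iso ((DerivedCategory.singleFunctor C 0).mapIso e)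
  · intro h
    obtain ⟨K, e, hK, hKz, hKP⟩ := exists_complex hP (n + 1) F (K225.PC.NPC.mono (by push_cast; omega) h)
    exact ⟨K, e, fun j hj => hK j (by omega), hKz, hKP⟩

end Groth.Agent.S12102
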