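import Groth.Statements.S12103
import Groth.Agent.EtDl.K556.ToPush
import Groth.Agent.Etrest.ShriekBC2

set_option autoImplicit false
universe u
open CategoryTheory CategoryTheory.Limits AlgebraicGeometry Opposite
open EtDl

namespace Groth.Agent.S12103

open Groth.Agent.Etrest.ShriekComp K556.ToPush

/-- The comparison `(h ≫ g)_! F ≅ g_! h_! F` is compatible with the inclusions into direct images. -/
theorem comp_compat {X Y Z : Scheme.{u}} (h : X ⟶ Y) (g : Y ⟶ Z)
    [IsSeparated h] [LocallyOfFiniteType h] [IsSeparated g] [LocallyOfFiniteType g] (F : EtCoh.Ab X) :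
    (shriekSheafComp h g).hom.app F ≫ (incl g).app ((shriekSheaf h).obj F) ≫
        (EtCoh.push g).map ((incl h).app F) =
      (incl (h ≫ g)).app F ≫ (EtCoh.pushComp g h).inv.app F := by
  apply Sheaf.hom_ext
  ext W s
  exact (Groth.Agent.Etrest.ShriekBC.pushComp_inv_app g h F W.unop
    (((incl (h ≫ g)).app F).hom.app W s)).symm

/-- Let h : X ⟶ Y and g : Y ⟶ Z be separated and locally of finite type. There is one and only one
isomorphism of functors (h ≫ g)_! ≅ h_! ⋙ g_! on abelian étale sheaves which is compatible with the
inclusions into direct images: for every F, composing it with g_!(h_! F ⟶ h_* F) ⟶ g_* h_* F gives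
the inclusion (h ≫ g)_! F ⟶ (h ≫ g)_* F followed by the composition isomorphism (h ≫ g)_* ≅ g_* h_*.
(This pins the isomorphism; existence of some isomorphism of functors is a weaker statement.) -/
theorem result {X Y Z : Scheme.{u}} (h : X ⟶ Y) (g : Y ⟶ Z)
    [IsSeparated h] [LocallyOfFiniteType h] [IsSeparated g] [LocallyOfFiniteType g] :
    ∃! φ : EtShriek.lowerShriek (h ≫ g) ≅ EtShriek.lowerShriek h ⋙ EtShriek.lowerShriek g,
      ∀ F : EtCoh.Ab X,
        φ.hom.app F ≫ (EtShriek.lowerShriek g).map (EtShriek.lowerShriekToPush h F) ≫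
            EtShriek.lowerShriekToPush g ((EtCoh.push h).obj F) =
          EtShriek.lowerShriekToPush (h ≫ g) F ≫ (EtCoh.pushComp g h).inv.app F := by
  have hmono : ∀ F : EtCoh.Ab X, Mono ((EtShriek.lowerShriek g).map (EtShriek.lowerShriekToPush h F) ≫
      EtShriek.lowerShriekToPush g ((EtCoh.push h).obj F)) := by
    intro F
    rw [lowerShriekToPush_naturality]
    have : PreservesLimitsOfSize.{0, 0} (EtCoh.push g) :=
      (EtCoh.pullPushAdj g).rightAdjoint_preservesLimits
    have : (EtCoh.push g).PreservesMonomorphisms := inferInstance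
    infer_instance
  have hcomp : ∀ F : EtCoh.Ab X,
      (lowerShriekComp h g).hom.app F ≫ (EtShriek.lowerShriek g).map (EtShriek.lowerShriekToPush h F) ≫
            EtShriek.lowerShriekToPush g ((EtCoh.push h).obj F) =
          EtShriek.lowerShriekToPush (h ≫ g) F ≫ (EtCoh.pushComp g h).inv.app F := by
    intro F
    have h1 : (lowerShriekComp h g).hom.app F = (lowerShriekIso (h ≫ g)).hom.app F ≫
        (shriekSheafComp h g).hom.app F ≫ (shriekSheaf g).map ((lowerShriekIso h).inv.app F) ≫
          (lowerShriekIso g).inv.app ((EtShriek.lowerShriek h).obj F) := by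
      simp [lowerShriekComp]
    rw [lowerShriekToPush_naturality, h1]
    have h2 : (lowerShriekIso g).inv.app ((EtShriek.lowerShriek h).obj F) ≫
        EtShriek.lowerShriekToPush g ((EtShriek.lowerShriek h).obj F) =
          (incl g).app ((EtShriek.lowerShriek h).obj F) := by
      rw [← lowerShriekIso_hom_comp, ← Category.assoc, Iso.inv_hom_id_app]
      exact Category.id_comp _
    have h3 : (lowerShriekIso h).inv.app F ≫ EtShriek.lowerShriekToPush h F = (incl h).app F := by
      rw [← lowerShriekIso_hom_comp, ← Category.assoc, Iso.inv_hom_id_app]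
      exact Category.id_comp _
    calc ((lowerShriekIso (h ≫ g)).hom.app F ≫
        (shriekSheafComp h g).hom.app F ≫ (shriekSheaf g).map ((lowerShriekIso h).inv.app F) ≫
          (lowerShriekIso g).inv.app ((EtShriek.lowerShriek h).obj F)) ≫
          EtShriek.lowerShriekToPush g ((EtShriek.lowerShriek h).obj F) ≫
            (EtCoh.push g).map (EtShriek.lowerShriekToPush h F)
        = (lowerShriekIso (h ≫ g)).hom.app F ≫ (shriekSheafComp h g).hom.app F ≫
            (shriekSheaf g).map ((lowerShriekIso h).inv.app F) ≫
            ((lowerShriekIso g).inv.app ((EtShriek.lowerShriek h).obj F) ≫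
              EtShriek.lowerShriekToPush g ((EtShriek.lowerShriek h).obj F)) ≫
            (EtCoh.push g).map (EtShriek.lowerShriekToPush h F) := by simp only [Category.assoc]
      _ = (lowerShriekIso (h ≫ g)).hom.app F ≫ (shriekSheafComp h g).hom.app F ≫
            ((shriekSheaf g).map ((lowerShriekIso h).inv.app F) ≫
              (incl g).app ((EtShriek.lowerShriek h).obj F)) ≫
            (EtCoh.push g).map (EtShriek.lowerShriekToPush h F) := by
          rw [h2]; simp only [Category.assoc]
      _ = (lowerShriekIso (h ≫ g)).hom.app F ≫ (shriekSheafComp h g).hom.app F ≫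
            (incl g).app ((shriekSheaf h).obj F) ≫
              (EtCoh.push g).map ((lowerShriekIso h).inv.app F ≫ EtShriek.lowerShriekToPush h F) := by
          rw [(incl g).naturality, Functor.map_comp]; simp only [Category.assoc]
      _ = EtShriek.lowerShriekToPush (h ≫ g) F ≫ (EtCoh.pushComp g h).inv.app F := by
          rw [h3, comp_compat, ← Category.assoc, lowerShriekIso_hom_comp]
  refine ⟨lowerShriekComp h g, hcomp, ?_⟩
  · intro φ hφ
    apply Iso.ext
    apply NatTrans.ext
    funext F
    have := hmono F
    rw [← cancel_mono ((EtShriek.lowerShriek g).map (EtShriek.lowerShriekToPush h F) ≫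
      EtShriek.lowerShriekToPush g ((EtCoh.push h).obj F))]
    exact (hφ F).trans (hcomp F).symm

end Groth.Agent.S12103
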