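import Groth.Statements.S12104
import Groth.Agent.RedSub.K199.TypeRPull

set_option autoImplicit false
open CategoryTheory MonoidalCategory CartesianMonoidalCategory MonObj GrpObj AlgebraicGeometry
universe u
open RedSub

namespace Groth.Agent.S12104

/-- Let G be a reductive S-group and (M, h : H ⟶ G_M) a representing pair for the functor of subgroups
of type (RC) of G (type (R) with closed root sets on the geometric fibres; every such subgroup of a
base change G_{S'} has the same points as the pullback of h along exactly one S-morphism S' ⟶ M).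
Suppose (Cl₁, cl₁ : M ⟶ Cl₁) and (Cl₂, cl₂ : M ⟶ Cl₂) are two pairs with the following properties:
Clᵢ finite and etale over S; clᵢ smooth, surjective, quasi-compact, locally of finite presentation
and locally quasi-projective with connected geometric fibres; and two subgroups of type (RC) of
G_{S'} with classifying maps g₁, g₂ : S' ⟶ M have the same image under clᵢ if and only if at every
point of S' their geometric fibres are conjugate under a point of the geometric fibre of G. Then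
there is exactly one S-isomorphism e : Cl₁ ≅ Cl₂ with cl₁ ≫ e.hom = cl₂. -/
theorem result {S : Scheme.{u}} (G : Over S) [GrpObj G] (hG : Red.IsReductive G)
    (M : Over S) (H : Over M.left) [GrpObj H] (h : H ⟶ Red.bc M.hom G) (hh : RedSub.IsTypeR h)
    (hRC : (∀ (s : ↥M.left) (D' : Red.SplitRed (Red.geomFibre s (Red.bc M.hom G))) (t' : D'.T ⟶ Red.geomFibre s _),
        t' ≫ (Over.pullback (Red.geomPt s)).map h = D'.i →
        ∀ a b c : D'.idx, (∃ v, v ≫ (Over.pullback (Red.geomPt s)).map h = D'.u a) →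
          (∃ v, v ≫ (Over.pullback (Red.geomPt s)).map h = D'.u b) → D'.P.root a + D'.P.root b = D'.P.root c →
          ∃ v, v ≫ (Over.pullback (Red.geomPt s)).map h = D'.u c))
    (huniv : ∀ (S' : Scheme.{u}) (f : S' ⟶ S) (H' : Over S') [GrpObj H'] (h' : H' ⟶ Red.bc f G), RedSub.IsTypeR h' →
        (∀ (s : ↥S') (D' : Red.SplitRed (Red.geomFibre s (Red.bc f G))) (t' : D'.T ⟶ Red.geomFibre s _),
        t' ≫ (Over.pullback (Red.geomPt s)).map h' = D'.i →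
        ∀ a b c : D'.idx, (∃ v, v ≫ (Over.pullback (Red.geomPt s)).map h' = D'.u a) →
          (∃ v, v ≫ (Over.pullback (Red.geomPt s)).map h' = D'.u b) → D'.P.root a + D'.P.root b = D'.P.root c →
          ∃ v, v ≫ (Over.pullback (Red.geomPt s)).map h' = D'.u c) →
        ∃! g : S' ⟶ M.left, g ≫ M.hom = f ∧ RedSub.SamePoints G f h' M h g) 
    (Cl₁ : Over S) (cl₁ : M ⟶ Cl₁) (Cl₂ : Over S) (cl₂ : M ⟶ Cl₂)
    (hCl₁ : IsFinite Cl₁.hom ∧ Etale Cl₁.hom ∧ Smooth cl₁.left ∧ Surjective cl₁.left ∧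
      QuasiCompact cl₁.left ∧ LocallyOfFinitePresentation cl₁.left ∧ RedSub.IsLocallyQuasiProjective (Over.mk cl₁.left) ∧
      (∀ c : ↥Cl₁.left, ConnectedSpace ↥(Red.geomFibre c (Over.mk cl₁.left)).left) ∧
      ∀ (S' : Scheme.{u}) (f : S' ⟶ S) (H₁ H₂ : Over S') [GrpObj H₁] [GrpObj H₂] (h₁ : H₁ ⟶ Red.bc f G)
        (h₂ : H₂ ⟶ Red.bc f G) (g₁ g₂ : S' ⟶ M.left), RedSub.IsTypeR h₁ → RedSub.IsTypeR h₂ →
        g₁ ≫ M.hom = f → g₂ ≫ M.hom = f → RedSub.SamePoints G f h₁ M h g₁ → RedSub.SamePoints G f h₂ M h g₂ →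
        (g₁ ≫ cl₁.left = g₂ ≫ cl₁.left ↔
          ∀ s : ↥S', ∃ gpt : 𝟙_ _ ⟶ Red.geomFibre s (Red.bc f G),
            RedSub.ConjEq ((Over.pullback (Red.geomPt s)).map h₁) ((Over.pullback (Red.geomPt s)).map h₂) gpt))
    (hCl₂ : IsFinite Cl₂.hom ∧ Etale Cl₂.hom ∧ Smooth cl₂.left ∧ Surjective cl₂.left ∧
      QuasiCompact cl₂.left ∧ LocallyOfFinitePresentation cl₂.left ∧ RedSub.IsLocallyQuasiProjective (Over.mk cl₂.left) ∧
      (∀ c : ↥Cl₂.left, ConnectedSpace ↥(Red.geomFibre c (Over.mk cl₂.left)).left) ∧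
      ∀ (S' : Scheme.{u}) (f : S' ⟶ S) (H₁ H₂ : Over S') [GrpObj H₁] [GrpObj H₂] (h₁ : H₁ ⟶ Red.bc f G)
        (h₂ : H₂ ⟶ Red.bc f G) (g₁ g₂ : S' ⟶ M.left), RedSub.IsTypeR h₁ → RedSub.IsTypeR h₂ →
        g₁ ≫ M.hom = f → g₂ ≫ M.hom = f → RedSub.SamePoints G f h₁ M h g₁ → RedSub.SamePoints G f h₂ M h g₂ →
        (g₁ ≫ cl₂.left = g₂ ≫ cl₂.left ↔
          ∀ s : ↥S', ∃ gpt : 𝟙_ _ ⟶ Red.geomFibre s (Red.bc f G),
            RedSub.ConjEq ((Over.pullback (Red.geomPt s)).map h₁) ((Over.pullback (Red.geomPt s)).map h₂) gpt)) :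
    ∃! e : Cl₁ ≅ Cl₂, cl₁ ≫ e.hom = cl₂ := by
  obtain ⟨-, -, hsm₁, hsu₁, hqc₁, -, -, -, hiff₁⟩ := hCl₁
  obtain ⟨-, -, hsm₂, hsu₂, hqc₂, -, -, -, hiff₂⟩ := hCl₂
  have key : ∀ {T : Scheme.{u}} (a b : T ⟶ M.left), a ≫ M.hom = b ≫ M.hom →
      (a ≫ cl₁.left = b ≫ cl₁.left ↔ a ≫ cl₂.left = b ≫ cl₂.left) := by
    intro T a b hab
    obtain ⟨H₁, _, h₁, hR₁, hs₁⟩ := K199.TypeRPull.exists_pull hG h hh a (a ≫ M.hom) rfl
    obtain ⟨H₂, _, h₂, hR₂, hs₂⟩ := K199.TypeRPull.exists_pull hG h hh b (a ≫ M.hom) hab.symm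
    exact (hiff₁ T (a ≫ M.hom) H₁ H₂ h₁ h₂ a b hR₁ hR₂ rfl hab.symm hs₁ hs₂).trans
      (hiff₂ T (a ≫ M.hom) H₁ H₂ h₁ h₂ a b hR₁ hR₂ rfl hab.symm hs₁ hs₂).symm
  have hM₁ : cl₁.left ≫ Cl₁.hom = M.hom := Over.w cl₁
  have hM₂ : cl₂.left ≫ Cl₂.hom = M.hom := Over.w cl₂
  obtain ⟨φ, hφ⟩ := Groth.Agent.Sga3C.QuotRel.exists_desc cl₁.left cl₂.left (fun a b hab => by
    refine (key a b ?_).1 hab
    rw [← hM₁, ← Category.assoc, hab, Category.assoc])
  obtain ⟨ψ, hψ⟩ := Groth.Agent.Sga3C.QuotRel.exists_desc cl₂.left cl₁.left (fun a b hab => by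
    refine (key a b ?_).2 hab
    rw [← hM₂, ← Category.assoc, hab, Category.assoc])
  have e₁ : φ ≫ ψ = 𝟙 _ := by
    rw [← cancel_epi cl₁.left, ← Category.assoc, hφ, hψ, Category.comp_id]
  have e₂ : ψ ≫ φ = 𝟙 _ := by
    rw [← cancel_epi cl₂.left, ← Category.assoc, hψ, hφ, Category.comp_id]
  have hφ' : φ ≫ Cl₂.hom = Cl₁.hom := by
    rw [← cancel_epi cl₁.left, ← Category.assoc, hφ, hM₂, hM₁]
  refine ⟨Over.isoMk ⟨φ, ψ, e₁, e₂⟩ hφ', ?_, ?_⟩
  · apply Over.OverMorphism.ext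
    exact hφ
  · intro e he
    ext1
    apply Over.OverMorphism.ext
    rw [← cancel_epi cl₁.left]
    have h1 : cl₁.left ≫ e.hom.left = cl₂.left := by rw [← Over.comp_left, he]
    exact h1.trans hφ.symm

end Groth.Agent.S12104
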