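import Groth.Statements.S12107
import Groth.Agent.Sga4A.OpenClosed3

set_option autoImplicit false
universe u
open CategoryTheory
open SGA4

namespace Groth.Agent.S12107

open CategoryTheory.Limits in
/-- In the topos of sheaves of sets on a small site, let U be an open (a subobject of the final object)
and, for an object X, let X_CU be the pushout of U ← U × X → X along the two projections. For a
morphism m : X ⟶ X' let k : X_CU ⟶ X'_CU be the induced morphism (compatible with the maps from U
and with m). Then the square with sides m, k and the canonical maps X ⟶ X_CU, X' ⟶ X'_CU is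
cartesian if and only if id_U × m : U × X ⟶ U × X' is an isomorphism (that is, m restricts to an
isomorphism over U). -/
theorem result {C : Type u} [SmallCategory C] (J : GrothendieckTopology C)
    (U : Sheaf J (Type u)) (hU : SGA4.IsOpen U) {X X' : Sheaf J (Type u)} (m : X ⟶ X')
    (k : pushout (prod.fst : U ⨯ X ⟶ U) (prod.snd : U ⨯ X ⟶ X) ⟶
      pushout (prod.fst : U ⨯ X' ⟶ U) (prod.snd : U ⨯ X' ⟶ X'))
    (hk₁ : pushout.inl (prod.fst : U ⨯ X ⟶ U) (prod.snd : U ⨯ X ⟶ X) ≫ k =
      pushout.inl (prod.fst : U ⨯ X' ⟶ U) (prod.snd : U ⨯ X' ⟶ X'))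
    (hk₂ : pushout.inr (prod.fst : U ⨯ X ⟶ U) (prod.snd : U ⨯ X ⟶ X) ≫ k =
      m ≫ pushout.inr (prod.fst : U ⨯ X' ⟶ U) (prod.snd : U ⨯ X' ⟶ X')) :
    IsPullback m (pushout.inr (prod.fst : U ⨯ X ⟶ U) (prod.snd : U ⨯ X ⟶ X))
        (pushout.inr (prod.fst : U ⨯ X' ⟶ U) (prod.snd : U ⨯ X' ⟶ X')) k ↔
      IsIso (prod.map (𝟙 U) m) := by
  have hs := Groth.Agent.Sga4A.OpenClosed.subsingleton_of_isOpen hU
  -- `F U` is the functor `X ↦ X_CU`
  let F := Groth.Agent.Sga4A.OpenClosed.F U
  let inX := Groth.Agent.Sga4A.OpenClosed.inX U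
  let inU := Groth.Agent.Sga4A.OpenClosed.inU U
  have po : ∀ Y : Sheaf J (Type u), IsPushout (prod.fst : U ⨯ Y ⟶ U) prod.snd (inU Y) (inX Y) :=
    Groth.Agent.Sga4A.OpenClosed.isPushout_F hs
  have hcl : ∀ Y : Sheaf J (Type u), SGA4.closedCompl U (F.obj Y) :=
    Groth.Agent.Sga4A.OpenClosed.closedCompl_F
  have hnat : m ≫ inX X' = inX X ≫ F.map m :=
    Groth.Agent.Sga4A.OpenClosed.inX_naturality U m
  have hk : (po X).isoPushout.hom ≫ k = F.map m ≫ (po X').isoPushout.hom := by
    apply (po X).hom_ext
    · rw [IsPushout.inl_isoPushout_hom_assoc, hk₁]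
      have e : inU X ≫ F.map m = inU X' :=
        Groth.Agent.Sga4A.OpenClosed.uniqueU_eq (hcl X') _ _
      rw [← Category.assoc, e, IsPushout.inl_isoPushout_hom]
    · rw [IsPushout.inr_isoPushout_hom_assoc, hk₂, ← Category.assoc, ← hnat, Category.assoc,
        IsPushout.inr_isoPushout_hom]
  have hiff1 : IsPullback m (pushout.inr (prod.fst : U ⨯ X ⟶ U) (prod.snd : U ⨯ X ⟶ X))
        (pushout.inr (prod.fst : U ⨯ X' ⟶ U) (prod.snd : U ⨯ X' ⟶ X')) k ↔
      IsPullback m (inX X) (inX X') (F.map m) := by
    constructor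
    · intro h
      refine h.of_iso (Iso.refl _) (Iso.refl _) (po X).isoPushout.symm (po X').isoPushout.symm
        (by simp) ?_ ?_ ?_
      · simp
      · simp
      · rw [Iso.symm_hom, Iso.symm_hom, Iso.comp_inv_eq, Category.assoc, ← hk, Iso.inv_hom_id_assoc]
    · intro h
      refine h.of_iso (Iso.refl _) (Iso.refl _) (po X).isoPushout (po X').isoPushout
        (by simp) ?_ ?_ hk.symm
      · simp
      · simp
  have hstar : IsIso ((Over.star U).map (F.map m)) :=
    isIso_of_isTerminal (Groth.Agent.Sga4A.OpenClosed3.isTerminal_star (hcl X)).some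
      (Groth.Agent.Sga4A.OpenClosed3.isTerminal_star (hcl X')).some _
  have hiff2 : IsIso (prod.map (𝟙 U) m) ↔ IsIso ((Over.star U).map m) := by
    have e : (Over.forget U).map ((Over.star U).map m) = prod.map (𝟙 U) m := by simp
    rw [← e]
    exact isIso_iff_of_reflects_iso _ _
  rw [hiff1, hiff2]
  constructor
  · intro h
    exact (h.map (Over.star U)).isIso_fst_of_isIso
  · intro h
    have hp : IsIso (pullback.lift m (inX X) hnat : X ⟶ pullback (inX X') (F.map m)) := by
      rw [Groth.Agent.Sga4A.OpenClosed2.isIso_iff_of_adj hU _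
        (Groth.Agent.Sga4A.OpenClosed.adj hs)]
      have hP := IsPullback.of_hasPullback (inX X') (F.map m)
      constructor
      · have h1 : IsIso ((Over.star U).map (pullback.fst (inX X') (F.map m))) :=
          (hP.map (Over.star U)).isIso_fst_of_isIso
        have h2 : IsIso ((Over.star U).map (pullback.lift m (inX X) hnat) ≫
            (Over.star U).map (pullback.fst (inX X') (F.map m))) := by
          rw [← Functor.map_comp, pullback.lift_fst]
          exact h
        exact IsIso.of_isIso_comp_right _ ((Over.star U).map (pullback.fst (inX X') (F.map m)))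
      · have hin : ∀ Y, IsIso ((Groth.Agent.Sga4A.OpenClosed.L U).map (inX Y)) := fun Y => by
          have e : (Groth.Agent.Sga4A.OpenClosed.adj hs).unit.app Y = inX Y := by
            change inX Y ≫ 𝟙 _ = inX Y
            exact Category.comp_id _
          have h0 : IsIso ((Groth.Agent.Sga4A.OpenClosed.L U).map
            ((Groth.Agent.Sga4A.OpenClosed.adj hs).unit.app Y)) := inferInstance
          rw [e] at h0
          exact h0
        have := hin X'
        have h1 : IsIso ((Groth.Agent.Sga4A.OpenClosed.L U).map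
            (pullback.snd (inX X') (F.map m))) :=
          (hP.map (Groth.Agent.Sga4A.OpenClosed.L U)).isIso_snd_of_isIso
        have h2 : IsIso ((Groth.Agent.Sga4A.OpenClosed.L U).map (pullback.lift m (inX X) hnat) ≫
            (Groth.Agent.Sga4A.OpenClosed.L U).map (pullback.snd (inX X') (F.map m))) := by
          rw [← Functor.map_comp, pullback.lift_snd]
          exact hin X
        exact IsIso.of_isIso_comp_right _
          ((Groth.Agent.Sga4A.OpenClosed.L U).map (pullback.snd (inX X') (F.map m)))
    refine (IsPullback.of_hasPullback (inX X') (F.map m)).of_iso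
      (@asIso _ _ _ _ _ hp).symm (Iso.refl _) (Iso.refl _) (Iso.refl _) ?_ ?_ (by simp) (by simp)
    · rw [Iso.symm_hom, Iso.eq_inv_comp]
      simp [pullback.lift_fst]
    · rw [Iso.symm_hom, Iso.eq_inv_comp]
      simp [pullback.lift_snd]

end Groth.Agent.S12107
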