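import Groth.Statements.S12110
import Groth.Agent.Par.K546.RhoMain
-- import your own Groth.Agent.* helpers here

set_option autoImplicit false
open CategoryTheory MonoidalCategory CartesianMonoidalCategory MonObj GrpObj AlgebraicGeometry
universe u
open Par

namespace Groth.Agent.S12110

/-- Let S be a scheme, G a reductive S-group, p : P ⟶ G a parabolic subgroup with P ≠ G (p is not an
isomorphism), l : L ⟶ P a Levi subgroup, ZL ⟶ L the centre of L and r : Q ⟶ ZL a maximal torus of ZL
(so Q is the radical of the reductive group L). Then there is a homomorphism of S-groups Q ⟶ 𝔾_{m,S}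
distinct from the trivial one. -/
theorem result {S : Scheme.{u}} {G P L ZL Q : Over S}
    [GrpObj G] [GrpObj P] [GrpObj L] [GrpObj ZL] [GrpObj Q]
    (hG : Red.IsReductive G) (p : P ⟶ G) (hP : Red.IsParabolic p) (hne : ¬ IsIso p)
    (l : L ⟶ P) (hl : Par.IsLevi l) (jz : ZL ⟶ L) (hZL : Red.IsCentre jz) (r : Q ⟶ ZL) (hQ : Red.IsMaximalTorus r) :
    ∃ f : Q ⟶ Red.Gm S, IsMonHom f ∧ f ≠ 1 := by
  exact K546.RhoMain.main hG p hP hne l hl jz hZL r hQ

end Groth.Agent.S12110
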