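import Groth.Statements.S12112
import Groth.Agent.Pic13.K244.RegSeq
import Groth.Agent.PerfC.ClosedPush

set_option autoImplicit false
universe u
open CategoryTheory CategoryTheory.Limits AlgebraicGeometry
open Pic13

namespace Groth.Agent.S12112

open Groth.Agent in
/-- `dim_k H^q(X, F(d)) = dim_k H^q(P^n, (i_* F)(d))`. -/
theorem finrank_hh (k : Type u) [Field k] (n : ℕ) (X : Scheme.{u})
    [X.Over (Spec (CommRingCat.of k))] (i : X ⟶ CohB1.ProjSpace n k) [IsClosedImmersion i]
    (hi : i ≫ CohB1.ProjSpace.toSpec n k = X ↘ Spec (CommRingCat.of k)) (F : X.Modules) (d : ℤ) (q : ℕ) :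
    Module.finrank k (Coh.HH X (Pic13.twistOn k i F d) q) =
      Module.finrank k (K244.RegSeq.H k n ((Scheme.Modules.pushforward i).obj F) d q) :=
  ((CurvesC.CurveNum.hhPushₗ k i hi (Pic13.twistOn k i F d) q).trans
    (Fga.PicMon.hmapEquiv k (CohB1.ProjSpace n k) (Groth.Agent.Pic13.H951.PresentX.pushTwist k i F d) q)).finrank_eq

/-- Let k be an algebraically closed field, i : X ⟶ P^n_k a closed k-immersion, O_X(1) = i^*O(1), and F,
G coherent O_X-modules with a short exact sequence 0 → F(-1) → F → G → 0 and G m-regular. Then (i)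
H^q(X, F(n')) = 0 for q ≥ 2 and n' ≥ m - q; (ii) h^1(F(n' - 1)) ≥ h^1(F(n')) for n' ≥ m - 1, h^1
being the dimension over k; (iii) H^1(X, F(n')) = 0 for n' ≥ (m - 1) + h^1(F(m - 1)); in particular
F is (m + h^1(F(m - 1)))-regular. (The published statement takes F(-1) → F given by a section of
O_X(1); the printed argument uses only the short exact sequence and its twists, so any short exact
sequence of this shape is allowed here.) -/
theorem result (k : Type u) [Field k] [IsAlgClosed k] (n : ℕ) (X : Scheme.{u})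
    [X.Over (Spec (CommRingCat.of k))] (i : X ⟶ CohB1.ProjSpace n k) [IsClosedImmersion i]
    (hi : i ≫ CohB1.ProjSpace.toSpec n k = X ↘ Spec (CommRingCat.of k))
    (F G : X.Modules) (hF : Coh.IsCoh F) (hG : Coh.IsCoh G)
    (f : Pic13.twistOn k i F (-1) ⟶ F) (g : F ⟶ G) (hfg : f ≫ g = 0) (hS : (ShortComplex.mk f g hfg).ShortExact)
    (m : ℤ) (hGm : Pic13.IsMRegular k i G m) :
    (∀ (q : ℕ) (n' : ℤ), 2 ≤ q → m - q ≤ n' → Subsingleton (Coh.HH X (Pic13.twistOn k i F n') q)) ∧
    (∀ n' : ℤ, m - 1 ≤ n' →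
      Module.finrank k (Coh.HH X (Pic13.twistOn k i F n') 1) ≤ Module.finrank k (Coh.HH X (Pic13.twistOn k i F (n' - 1)) 1)) ∧
    (∀ n' : ℤ, (m - 1) + (Module.finrank k (Coh.HH X (Pic13.twistOn k i F (m - 1)) 1) : ℤ) ≤ n' →
      Subsingleton (Coh.HH X (Pic13.twistOn k i F n') 1)) ∧
    Pic13.IsMRegular k i F (m + Module.finrank k (Coh.HH X (Pic13.twistOn k i F (m - 1)) 1)) := by
  have hpfc : PreservesFiniteColimits (Scheme.Modules.pushforward i) :=
    Groth.Agent.PerfC.ClosedPush.preservesFiniteColimits i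
  set S : ShortComplex (CohB1.ProjSpace n k).Modules :=
    (ShortComplex.mk f g hfg).map (Scheme.Modules.pushforward i) with hSdef
  have hS' : S.ShortExact := hS.map_of_exact (Scheme.Modules.pushforward i)
  have e : S.X₁ ≅ CohB1.tensorMod S.X₂ (Twist.twistProjSpace n k (-1)) :=
    Groth.Agent.Pic13.H951.PresentX.pushTwist k i F (-1)
  have h₂ : Coh.IsCoh S.X₂ := Groth.Agent.Pic13.H951.PresentX.isCoh_push k i hF
  have h₃ : Coh.IsCoh S.X₃ := Groth.Agent.Pic13.H951.PresentX.isCoh_push k i hG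
  have hC : Curv2.IsMRegular k n S.X₃ m := Groth.Agent.Pic13.H951.PresentX.isMRegular_push k i hGm
  have hC' : ∀ q : ℕ, 1 ≤ q → ∀ t : ℤ, m - q ≤ t → Subsingleton (K244.RegSeq.H k n S.X₃ t q) := fun q hq t ht => by
    have := Groth.Agent.S1642.subsingleton_of_isMRegular h₃.1
      (K244.RegSeq.isMRegular_ge h₃ hC (t := t + q) (by omega)) q hq
    rwa [add_sub_cancel_right] at this
  have c1 : ∀ (q : ℕ) (n' : ℤ), 2 ≤ q → m - q ≤ n' → Subsingleton (Coh.HH X (Pic13.twistOn k i F n') q) :=
    fun q t hq ht => by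
      have h : Subsingleton (Coh.HH (CohB1.ProjSpace n k)
          (CohB1.tensorMod ((Scheme.Modules.pushforward i).obj F) (Twist.twistProjSpace n k t)) q) :=
        K244.RegSeq.van_two hS' e h₂ hC' q hq t ht
      exact (K244.Reg.hhTwist k i F t q).subsingleton
  have c3 : ∀ n' : ℤ, (m - 1) + (Module.finrank k (Coh.HH X (Pic13.twistOn k i F (m - 1)) 1) : ℤ) ≤ n' →
      Subsingleton (Coh.HH X (Pic13.twistOn k i F n') 1) := fun t ht => by
    rw [finrank_hh k n X i hi F] at ht
    have h : Subsingleton (Coh.HH (CohB1.ProjSpace n k)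
        (CohB1.tensorMod ((Scheme.Modules.pushforward i).obj F) (Twist.twistProjSpace n k t)) 1) :=
      K244.RegSeq.van_one hS' e h₂ h₃ hC t ht
    exact (K244.Reg.hhTwist k i F t 1).subsingleton
  refine ⟨c1, fun t ht => ?_, c3, fun q hq => ?_⟩
  · rw [finrank_hh k n X i hi F, finrank_hh k n X i hi F]
    exact K244.RegSeq.h1_le hS' e h₂ hC' t ht
  · rcases Nat.lt_or_ge q 2 with h | h
    · obtain rfl : q = 1 := by omega
      exact c3 _ (by push_cast; omega)
    · exact c1 q _ h (by push_cast; omega)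

end Groth.Agent.S12112
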