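import Groth.Statements.S12114
import Groth.Agent.EtDl.K556.QFAffine
import Groth.Agent.CalgB.CMPoly
import Groth.Agent.S0386
import Mathlib.AlgebraicGeometry.ZariskisMainTheorem

set_option autoImplicit false
universe u
open CategoryTheory CategoryTheory.Limits AlgebraicGeometry
open EtDl

namespace Groth.Agent.S12114

open K556.QFAffine in
set_option backward.isDefEq.respectTransparency false in
/-- flatness of the restriction to an open subset of the flat locus -/
theorem flat_restrict {X Y : Scheme.{u}} (f : X ⟶ Y) (U : X.Opens)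
    (h : ∀ x ∈ U, (f.stalkMap x).hom.Flat) : Flat (U.ι ≫ f) := by
  rw [Flat.iff_flat_stalkMap]
  intro x
  rw [Scheme.Hom.stalkMap_comp, CommRingCat.hom_comp,
    RingHom.Flat.respectsIso.cancel_right_isIso]
  exact h _ x.2

theorem lqf_restrict {X Y : Scheme.{u}} (f : X ⟶ Y) [LocallyOfFiniteType f] (U : X.Opens)
    (h : ∀ x ∈ U, f.QuasiFiniteAt x) : LocallyQuasiFinite (U.ι ≫ f) := by
  have hle : U ≤ f.quasiFiniteLocus := h
  rw [← X.homOfLE_ι hle, Category.assoc]
  infer_instance

theorem isCM_chart {X : Scheme.{u}} (A : CommRingCat.{u}) (j : Spec A ⟶ X) [IsOpenImmersion j]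
    (x : Spec A) (h : LocCoh.IsCohenMacaulayLocalRing (X.presheaf.stalk (j x))) :
    LocCoh.IsCohenMacaulayLocalRing (Localization.AtPrime x.asIdeal) :=
  CalgB.CMPoly.isCohenMacaulayLocalRing_of_ringEquiv
    ((asIso (j.stalkMap x)) ≪≫ Spec.stalkIso A x).commRingCatIsoToRingEquiv

theorem chart (k : Type u) [Field k] [IsAlgClosed k]
    (X : Scheme.{u}) (p : X ⟶ Spec (CommRingCat.of k)) [LocallyOfFiniteType p]
    (hCM : ∀ y : X, LocCoh.IsCohenMacaulayLocalRing (X.presheaf.stalk y)) (ι : Type u) [Finite ι]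
    (u v : X ⟶ AffineSpace ι (Spec (CommRingCat.of k)))
    (hu : u ≫ (AffineSpace ι (Spec (CommRingCat.of k)) ↘ Spec (CommRingCat.of k)) = p)
    (hv : v ≫ (AffineSpace ι (Spec (CommRingCat.of k)) ↘ Spec (CommRingCat.of k)) = p)
    [LocallyQuasiFinite u] [Flat u] [LocallyQuasiFinite v] [Flat v] (A : CommRingCat.{u})
    (j : Spec A ⟶ X) [IsOpenImmersion j] (x : Spec A) (hx : IsClosed ({j x} : Set X)) :
    ∃ (U : X.Opens), j x ∈ U ∧ ∃ (m : ℕ) (w : Fin (m + 1) → ((U : Scheme.{u}) ⟶ AffineSpace ι (Spec (CommRingCat.of k)))),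
      w 0 = U.ι ≫ u ∧ w (Fin.last m) = U.ι ≫ v ∧
      (∀ j : Fin (m + 1), LocallyQuasiFinite (w j) ∧ Flat (w j) ∧
        w j ≫ (AffineSpace ι (Spec (CommRingCat.of k)) ↘ Spec (CommRingCat.of k)) = U.ι ≫ p) ∧
      (∀ j : Fin m, ∃ i : ι, ∀ i' : ι, i' ≠ i →
        (w j.castSucc).appTop (AffineSpace.coord (Spec (CommRingCat.of k)) i') =
          (w j.succ).appTop (AffineSpace.coord (Spec (CommRingCat.of k)) i')) := by
  obtain ⟨ψ, hψ⟩ := Spec.map_surjective (j ≫ p)
  have hft : LocallyOfFiniteType (Spec.map ψ) := by rw [hψ]; infer_instance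
  have hft' : ψ.hom.FiniteType := (HasRingHomProperty.Spec_iff (P := @LocallyOfFiniteType)).mp hft
  have hx' : IsClosed ({x} : Set (Spec A)) := by
    have : j ⁻¹' {j x} = {x} := by
      ext y
      simp only [Set.mem_preimage, Set.mem_singleton_iff]
      exact j.injective.eq_iff
    rw [← this]
    exact hx.preimage j.continuous
  have hlqf : ∀ (w : X ⟶ AffineSpace ι (Spec (CommRingCat.of k))) [LocallyQuasiFinite w],
    LocallyQuasiFinite (j ≫ w) := fun w _ => inferInstance
  have hfl : ∀ (w : X ⟶ AffineSpace ι (Spec (CommRingCat.of k))) [Flat w],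
    Flat (j ≫ w) := fun w _ => inferInstance
  obtain ⟨n, w, h0, hl, hg, hs⟩ := K556.QFAffine.affine k ι A ψ hft' x hx' (isCM_chart A j x (hCM _))
    (j ≫ u) (j ≫ v) (by rw [Category.assoc, hu, hψ]) (by rw [Category.assoc, hv, hψ])
  have : IsLocallyNoetherian (AffineSpace ι (Spec (CommRingCat.of k))) :=
    LocallyOfFiniteType.isLocallyNoetherian (AffineSpace ι (Spec (CommRingCat.of k)) ↘ Spec (CommRingCat.of k))
  have hwft : ∀ i, LocallyOfFiniteType (w i) := by
    intro i
    have : LocallyOfFiniteType (w i ≫ (AffineSpace ι (Spec (CommRingCat.of k)) ↘ Spec (CommRingCat.of k))) := by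
      rw [(hg i).2.2]; exact hft
    exact locallyOfFiniteType_of_comp (w i) (AffineSpace ι (Spec (CommRingCat.of k)) ↘ Spec (CommRingCat.of k))
  have hwfp : ∀ i, LocallyOfFinitePresentation (w i) := fun i =>
    LocallyOfFinitePresentation.iff_locallyOfFiniteType.mpr (hwft i)
  let U₀ : (Spec A).Opens :=
    ⟨⋂ i, ((w i).quasiFiniteLocus ∩ {y | ((w i).stalkMap y).hom.Flat}),
      isOpen_iInter_of_finite fun i => (w i).quasiFiniteLocus.isOpen.inter (Groth.Agent.S0386.result (w i))⟩
  have hU₀ : ∀ y ∈ U₀, ∀ i, (w i).QuasiFiniteAt y ∧ ((w i).stalkMap y).hom.Flat := by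
    intro y hy i
    have := Set.mem_iInter.mp hy i
    exact this
  have hxU₀ : x ∈ U₀ := Set.mem_iInter.mpr fun i => ⟨(hg i).1, (hg i).2.1⟩
  have hW0 : (j.isoImage U₀).inv ≫ U₀.ι ≫ w 0 = (j ''ᵁ U₀).ι ≫ u := by
    rw [h0, ← j.isoImage_inv_ι U₀]
    simp only [Category.assoc]
  have hWl : (j.isoImage U₀).inv ≫ U₀.ι ≫ w (Fin.last n) = (j ''ᵁ U₀).ι ≫ v := by
    rw [hl, ← j.isoImage_inv_ι U₀]
    simp only [Category.assoc]
  refine ⟨j ''ᵁ U₀, ⟨x, hxU₀, rfl⟩, n, fun i => (j.isoImage U₀).inv ≫ U₀.ι ≫ w i, hW0, hWl, ?_, ?_⟩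
  · intro i
    have h1 := lqf_restrict (w i) U₀ (fun y hy => (hU₀ y hy i).1)
    have h2 := flat_restrict (w i) U₀ (fun y hy => (hU₀ y hy i).2)
    refine ⟨inferInstance, inferInstance, ?_⟩
    simp only [Category.assoc]
    rw [(hg i).2.2, hψ, ← j.isoImage_inv_ι U₀]
    simp only [Category.assoc]
  · intro i
    obtain ⟨a, ha⟩ := hs i
    refine ⟨a, fun a' ha' => ?_⟩
    simp only [Scheme.Hom.comp_appTop, CommRingCat.comp_apply, ha a' ha']

/-- Let k be an algebraically closed field, X a k-scheme of finite type whose local rings are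
Cohen–Macaulay, and u, v : X ⟶ 𝔸^ι_k (ι a finite index type) two k-morphisms which are locally
quasi-finite and flat. Every closed point x of X has an open neighbourhood U together with a finite
chain of k-morphisms w_0, …, w_m : U ⟶ 𝔸^ι_k (morphisms over Spec k, U carrying the structure map of
X), each locally quasi-finite and flat, with w_0 = u|_U, w_m = v|_U and such that w_{j+1} differs
from w_j in at most one coordinate function. (The published statement asks only for morphisms w_j,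
which would make the assertion trivial; the printed argument produces w_j that are quasi-finite and
flat near x, via systems of parameters of the local ring, and that is what is stated here.) -/
theorem result (k : Type u) [Field k] [IsAlgClosed k]
    (X : Scheme.{u}) [X.Over (Spec (CommRingCat.of k))] [LocallyOfFiniteType (X ↘ Spec (CommRingCat.of k))]
    [QuasiCompact (X ↘ Spec (CommRingCat.of k))]
    (hCM : ∀ y : X, LocCoh.IsCohenMacaulayLocalRing (X.presheaf.stalk y)) (ι : Type u) [Finite ι]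
    (u v : X ⟶ AffineSpace ι (Spec (CommRingCat.of k)))
    (hu : u ≫ (AffineSpace ι (Spec (CommRingCat.of k)) ↘ Spec (CommRingCat.of k)) = X ↘ Spec (CommRingCat.of k))
    (hv : v ≫ (AffineSpace ι (Spec (CommRingCat.of k)) ↘ Spec (CommRingCat.of k)) = X ↘ Spec (CommRingCat.of k))
    [LocallyQuasiFinite u] [Flat u] [LocallyQuasiFinite v] [Flat v] (x : X) (hx : IsClosed ({x} : Set X)) :
    ∃ (U : X.Opens), x ∈ U ∧ ∃ (m : ℕ) (w : Fin (m + 1) → ((U : Scheme.{u}) ⟶ AffineSpace ι (Spec (CommRingCat.of k)))),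
      w 0 = U.ι ≫ u ∧ w (Fin.last m) = U.ι ≫ v ∧
      (∀ j : Fin (m + 1), LocallyQuasiFinite (w j) ∧ Flat (w j) ∧
        w j ≫ (AffineSpace ι (Spec (CommRingCat.of k)) ↘ Spec (CommRingCat.of k)) = U.ι ≫ (X ↘ Spec (CommRingCat.of k))) ∧
      (∀ j : Fin m, ∃ i : ι, ∀ i' : ι, i' ≠ i →
        (w j.castSucc).appTop (AffineSpace.coord (Spec (CommRingCat.of k)) i') =
          (w j.succ).appTop (AffineSpace.coord (Spec (CommRingCat.of k)) i')) := by
  obtain ⟨R, j, hj, hxj⟩ : ∃ (R : CommRingCat.{u}) (j : Spec R ⟶ X), IsOpenImmersion j ∧ x ∈ Set.range j :=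
    ⟨_, X.affineCover.f (X.affineCover.idx x), X.affineCover.map_prop _, X.affineCover.covers x⟩
  obtain ⟨y, rfl⟩ := hxj
  exact chart k X (X ↘ Spec (CommRingCat.of k)) hCM ι u v hu hv _ j y hx

end Groth.Agent.S12114
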