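import Groth.Statements.S12118

set_option autoImplicit false
universe u v
open EGA41

namespace Groth.Agent.S12118

/-- Let A be a commutative ring, M an A-module, (M_k)_{k ≥ 0} a decreasing filtration of M by submodules
with M_0 = M and ⋂_k M_k = 0, and f an element of A which is a non-zero-divisor on every graded
piece M_k/M_{k+1} (equivalently on the associated graded module). Then (i) f is a non-zero-divisor
on M, and (ii) M_k ∩ fM = fM_k for every k ≥ 0. -/
theorem result {A : Type u} [CommRing A] {M : Type v} [AddCommGroup M] [Module A M]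
    (F : ℕ → Submodule A M) (hanti : Antitone F) (h0 : F 0 = ⊤) (hsep : ⨅ k, F k = ⊥) (f : A)
    (hreg : ∀ k : ℕ, IsSMulRegular (↥(F k) ⧸ Submodule.comap (F k).subtype (F (k + 1))) f) :
    IsSMulRegular M f ∧ ∀ k : ℕ, F k ⊓ (Ideal.span {f} • (⊤ : Submodule A M)) = Ideal.span {f} • F k := by
  have step : ∀ k (x : M), x ∈ F k → f • x ∈ F (k + 1) → x ∈ F (k + 1) := by
    intro k x hx hfx
    have h1 : f • (Submodule.Quotient.mk (p := Submodule.comap (F k).subtype (F (k + 1))) ⟨x, hx⟩) =
        f • 0 := by
      rw [smul_zero, ← Submodule.Quotient.mk_smul, Submodule.Quotient.mk_eq_zero]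
      exact hfx
    have h2 := hreg k h1
    rw [Submodule.Quotient.mk_eq_zero] at h2
    exact h2
  have key : ∀ k (x : M), f • x ∈ F k → x ∈ F k := by
    intro k x hfx
    have : ∀ j, j ≤ k → x ∈ F j := by
      intro j
      induction j with
      | zero => intro _; rw [h0]; trivial
      | succ j ih =>
        intro hj
        exact step j x (ih (by omega)) (hanti hj hfx)
    exact this k le_rfl
  constructor
  · intro x y hxy
    change f • x = f • y at hxy
    have h1 : ∀ k, x - y ∈ F k := fun k => key k _ (by rw [smul_sub, hxy, sub_self]; exact zero_mem _)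
    have h2 : x - y ∈ ⨅ k, F k := (Submodule.mem_iInf _).2 h1
    rw [hsep, Submodule.mem_bot, sub_eq_zero] at h2
    exact h2
  · intro k
    apply le_antisymm
    · rintro z ⟨hz, hz'⟩
      rw [SetLike.mem_coe, Submodule.ideal_span_singleton_smul] at hz'
      obtain ⟨x, -, rfl⟩ := hz'
      rw [Submodule.ideal_span_singleton_smul]
      exact ⟨x, key k x hz, rfl⟩
    · refine le_inf (Submodule.smul_le_right) (Submodule.smul_mono le_rfl le_top)

end Groth.Agent.S12118
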