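import Groth.Statements.S12121
import Groth.Agent.EGA4.K114.SkSeq
import Groth.Agent.S2668
import Groth.Agent.Ega4B.SkLocal

set_option autoImplicit false
universe u
open EGA4

namespace Groth.Agent.S12121

/-- Let A be a Noetherian ring, M a finite A-module (a coherent sheaf on X = Spec A) and k ≥ 1. Then M
has property (S_k) — depth M_p ≥ min(k, dim M_p) at every prime p — if and only if, for every basic
open set D(g) of X, every integer r < k and every M_g-regular sequence f_1, …, f_r in A_g, the
module M_g/(f_1, …, f_r)M_g has no embedded associated primes, i.e. no associated prime of it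
strictly contains another one. (The published statement quantifies over all open subsets of a
locally Noetherian scheme; both sides being local, over an affine scheme the basic open sets
suffice.) -/
theorem result (k : ℕ) (hk : 1 ≤ k) (A : Type u) [CommRing A] [IsNoetherianRing A]
    (M : Type u) [AddCommGroup M] [Module A M] [Module.Finite A M] :
    LocCoh.HasSk k A M ↔
      ∀ (g : A) (rs : List (Localization.Away g)), rs.length < k →
        RingTheory.Sequence.IsWeaklyRegular (LocalizedModule (Submonoid.powers g) M) rs →
        ∀ p ∈ associatedPrimes (Localization.Away g)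
            (LocalizedModule (Submonoid.powers g) M ⧸
              (Ideal.ofList rs • (⊤ : Submodule (Localization.Away g) (LocalizedModule (Submonoid.powers g) M)))),
          ∀ q ∈ associatedPrimes (Localization.Away g)
            (LocalizedModule (Submonoid.powers g) M ⧸
              (Ideal.ofList rs • (⊤ : Submodule (Localization.Away g) (LocalizedModule (Submonoid.powers g) M)))),
            p ≤ q → p = q := by
  constructor
  · intro h g rs hlen hreg P hP Q hQ hPQ
    have h1 : LocCoh.HasSk k (Localization.Away g) (LocalizedModule (Submonoid.powers g) M) :=
      Groth.Agent.Ega4B.SkLocal.hasSk_of_isLocalizedModule k (Submonoid.powers g)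
        (LocalizedModule.mkLinearMap (Submonoid.powers g) M) h
    have h2 := Groth.Agent.S2668.result k (Localization.Away g)
      (LocalizedModule (Submonoid.powers g) M) h1 rs hreg hlen.le
    have h3 : LocCoh.HasSk 1 (Localization.Away g)
        (LocalizedModule (Submonoid.powers g) M ⧸ (Ideal.ofList rs • (⊤ : Submodule
          (Localization.Away g) (LocalizedModule (Submonoid.powers g) M)))) := by
      intro p hp
      refine le_trans (min_le_min_right _ ?_) (h2 p)
      have : 1 ≤ k - rs.length := by omega
      exact_mod_cast this
    rw [← Groth.Agent.S2085.result] at h3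
    have hQmin := h3 Q hQ
    have hPmin := h3 P hP
    exact le_antisymm hPQ (hQmin.2 hPmin.1 hPQ)
  · intro h p hp
    by_contra hcon
    obtain ⟨rs, hlen, hreg, hpass, q, hqass, hqp⟩ := K114.SkSeq.exists_embedded k p hcon
    have hqprime : q.IsPrime := hqass.isPrime
    obtain ⟨g, hg, hS⟩ := Groth.Agent.Ega4dB.DepthOpen.exists_notMem_isWeaklyRegular p rs M hreg
    have hreg' := hS (Submonoid.powers g) ⟨g, Submonoid.mem_powers g, dvd_rfl⟩
    have hregg : RingTheory.Sequence.IsWeaklyRegular (LocalizedModule (Submonoid.powers g) M)
        (rs.map (algebraMap A (Localization.Away g))) :=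
      (RingTheory.Sequence.isWeaklyRegular_map_algebraMap_iff (Localization.Away g)
        (LocalizedModule (Submonoid.powers g) M) rs).mpr hreg'
    have hI : (Ideal.ofList rs).map (algebraMap A (Localization.Away g)) =
      Ideal.ofList (rs.map (algebraMap A (Localization.Away g))) := Ideal.map_ofList _ _
    let e : (LocalizedModule (Submonoid.powers g) M ⧸
        (Ideal.ofList (rs.map (algebraMap A (Localization.Away g))) • (⊤ : Submodule
          (Localization.Away g) (LocalizedModule (Submonoid.powers g) M)))) ≃ₗ[Localization.Away g]
        LocalizedModule (Submonoid.powers g) (M ⧸ (Ideal.ofList rs • (⊤ : Submodule A M))) :=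
      (Submodule.quotEquivOfEq _ _ (by rw [hI])).trans
        (Groth.Agent.Ega4B.DepthBasic.localizedQuotIdealSMulTopEquiv (Submonoid.powers g)
          (Ideal.ofList rs) M)
    have key : ∀ P ∈ associatedPrimes A (M ⧸ (Ideal.ofList rs • (⊤ : Submodule A M))), g ∉ P →
        (P.map (algebraMap A (Localization.Away g))).comap (algebraMap A (Localization.Away g)) = P ∧
        P.map (algebraMap A (Localization.Away g)) ∈ associatedPrimes (Localization.Away g)
          (LocalizedModule (Submonoid.powers g) M ⧸
          (Ideal.ofList (rs.map (algebraMap A (Localization.Away g))) • (⊤ : Submodule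
            (Localization.Away g) (LocalizedModule (Submonoid.powers g) M)))) := by
      intro P hP hgP
      have hPp : P.IsPrime := hP.isPrime
      have hdisj : Disjoint (Submonoid.powers g : Set A) P := by
        rw [Set.disjoint_left]
        rintro _ ⟨n, rfl⟩ hn
        exact hgP (hPp.mem_of_pow_mem n hn)
      have hcm := IsLocalization.under_map_of_isPrime_disjoint (Submonoid.powers g)
        (Localization.Away g) hPp hdisj
      refine ⟨hcm, ?_⟩
      rw [LinearEquiv.AssociatedPrimes.eq e]
      apply Module.associatedPrimes.mem_associatedPrimes_of_comap_mem_associatedPrimes_of_isLocalizedModule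
        (Submonoid.powers g) (LocalizedModule.mkLinearMap (Submonoid.powers g)
          (M ⧸ (Ideal.ofList rs • (⊤ : Submodule A M))))
      rw [show (P.map (algebraMap A (Localization.Away g))).comap
        (algebraMap A (Localization.Away g)) = P from hcm]
      exact hP
    obtain ⟨hp1, hp2⟩ := key p hpass hg
    obtain ⟨hq1, hq2⟩ := key q hqass (fun hgq => hg (hqp.le hgq))
    have := h g (rs.map (algebraMap A (Localization.Away g))) (by rwa [List.length_map]) hregg
      _ hq2 _ hp2 (Ideal.map_mono hqp.le)
    apply hqp.ne
    rw [← hp1, ← hq1, this]

end Groth.Agent.S12121
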