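import Groth.Statements.S12123
import Groth.Agent.Ega41.K105.Constr
import Mathlib.AlgebraicGeometry.Properties
import Mathlib.Topology.Homeomorph.Lemmas

set_option autoImplicit false
universe u
open EGA41

namespace Groth.Agent.S12123

open AlgebraicGeometry Topology in
/-- Let X be a quasi-separated scheme and X^cons its underlying set with the constructible topology,
generated by the quasi-compact open subsets and their complements (for X quasi-separated this is the
topology whose open sets are the ind-constructible subsets). Then X^cons is a Hausdorff, locally
compact, totally disconnected space. (The published statement also asserts that X^cons is Hausdorff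
only if X is quasi-separated; for the topology used here that converse fails when X is not
quasi-separated, where the two constructible topologies differ, so it is not part of this row.) -/
theorem result (X : Scheme.{u}) [QuasiSeparatedSpace X] :
    T2Space (WithConstructibleTopology X) ∧ LocallyCompactSpace (WithConstructibleTopology X) ∧
      TotallyDisconnectedSpace (WithConstructibleTopology X) := by
  let h : @Homeomorph (WithConstructibleTopology X) X _ (constructibleTopology X) :=
    @Homeomorph.mk (WithConstructibleTopology X) X _ (constructibleTopology X)
      ⟨WithTopology.ofTopology, WithTopology.toTopology _, fun _ => rfl, fun _ => rfl⟩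
      (WithTopology.continuous_ofTopology _) (WithTopology.continuous_toTopology _)
  have h1 : @T2Space X (constructibleTopology X) := K105.Constr.t2Space_constr
  have h2 : @TotallySeparatedSpace X (constructibleTopology X) := K105.Constr.totallySeparated_constr
  have h3 : @WeaklyLocallyCompactSpace X (constructibleTopology X) :=
    K105.Constr.weaklyLocallyCompact_constr
  have h4 : @LocallyCompactSpace X (constructibleTopology X) :=
    @WeaklyLocallyCompactSpace.locallyCompactSpace X (constructibleTopology X) _ h3
  have h5 : @TotallyDisconnectedSpace X (constructibleTopology X) :=
    @TotallySeparatedSpace.totallyDisconnectedSpace X (constructibleTopology X) h2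
  refine ⟨?_, ?_, ?_⟩
  · exact @Topology.IsEmbedding.t2Space _ _ _ (constructibleTopology X) h1 _ (@Homeomorph.isEmbedding _ _ _ (constructibleTopology X) h)
  · exact @Topology.IsClosedEmbedding.locallyCompactSpace _ _ _ (constructibleTopology X) h4 _
      (@Homeomorph.isClosedEmbedding _ _ _ (constructibleTopology X) h)
  · exact @Homeomorph.totallyDisconnectedSpace _ _ (constructibleTopology X) _ (@Homeomorph.symm _ _ _ (constructibleTopology X) h) h5

end Groth.Agent.S12123
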