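import Groth.Statements.S12125
import Groth.Agent.EGA4.K114.NagGen2

set_option autoImplicit false
universe u
open EGA4

namespace Groth.Agent.S12125

/-- Let A be a Noetherian ring. Then every quotient of A by a prime ideal is N-2 (i.e. A is a Nagata
ring) if and only if (1) for every maximal ideal m of A every quotient of A_m by a prime ideal is
N-2, and (2) for every prime p of A, writing B = A/p with fraction field K, for every finite purely
inseparable field extension K' of K and every sub-B-algebra B' of K' which is a finite B-module and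
has K' as its fraction field, there is a nonzero element f of B' such that B'_f is an integrally
closed domain. -/
theorem result (A : Type u) [CommRing A] [IsNoetherianRing A] :
    CAlg.IsNagata A ↔
      ((∀ (m : Ideal A) [m.IsMaximal] (P : Ideal (Localization.AtPrime m)) [P.IsPrime],
          CAlg.IsN2 (Localization.AtPrime m ⧸ P)) ∧
        ∀ (p : Ideal A) [p.IsPrime] (K' : Type u) [Field K'] [Algebra (A ⧸ p) K']
          [Algebra (FractionRing (A ⧸ p)) K'] [IsScalarTower (A ⧸ p) (FractionRing (A ⧸ p)) K']
          [FiniteDimensional (FractionRing (A ⧸ p)) K'] [IsPurelyInseparable (FractionRing (A ⧸ p)) K']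
          (B' : Subalgebra (A ⧸ p) K'), Module.Finite (A ⧸ p) B' → IsFractionRing B' K' →
            ∃ f : B', f ≠ 0 ∧ IsIntegrallyClosed (Localization.Away f)) := by
  constructor
  · intro hA
    refine ⟨fun m _ P _ => ?_, ?_⟩
    · exact (Groth.Agent.CalgA.NagataExt.isNagata_of_isLocalization
        (S := Localization.AtPrime m) m.primeCompl hA).2 P
    · intro p _ K' _ _ _ _ _ _ B' hB' hfr
      have h1 : Module.Finite (A ⧸ p) (integralClosure (A ⧸ p) K') := hA.2 p K' inferInstance
      exact K114.NagGen.exists_isIntegrallyClosed_away (A ⧸ p) K' h1 B'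
  · rintro ⟨h1, h2⟩
    refine ⟨inferInstance, fun p hp => ?_⟩
    apply Groth.Agent.CalgA.NagataBasic.isN2_of_forall_isPurelyInseparable (FractionRing (A ⧸ p))
    intro K' _ _ _ _ _ _
    obtain ⟨B', hB', hfr⟩ := K114.NagGen.exists_finite_subalgebra (A ⧸ p)
      (FractionRing (A ⧸ p)) K'
    obtain ⟨f', hf', hic⟩ := h2 p K' B' hB' hfr
    obtain ⟨g, hg0, P, hP, hPm⟩ :=
      K114.NagGen.exists_fg_of_isIntegrallyClosed_away (A ⧸ p) K' B' f' hf' hic
    have hinj : Function.Injective (algebraMap (A ⧸ p) K') := by
      rw [IsScalarTower.algebraMap_eq (A ⧸ p) (FractionRing (A ⧸ p)) K']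
      exact (algebraMap (FractionRing (A ⧸ p)) K').injective.comp (IsFractionRing.injective _ _)
    refine Groth.Agent.S2627.finite_of_localized g ?_
      (K114.NagGen.finite_localizedModule_of_fg _ P hP hPm) ?_
    · intro x y hxy
      apply Subtype.ext
      have h1 := congrArg Subtype.val hxy
      change g • (x : K') = g • (y : K') at h1
      rw [Algebra.smul_def, Algebra.smul_def] at h1
      exact mul_left_cancel₀ (by
        intro h0
        exact hg0 (hinj (h0.trans (map_zero _).symm))) h1
    · intro q hq
      obtain ⟨m, hm, hqm⟩ := Ideal.exists_le_maximal q hq.ne_top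
      have hmA : (m.comap (Ideal.Quotient.mk p)).IsMaximal :=
        Ideal.comap_isMaximal_of_surjective _ Ideal.Quotient.mk_surjective
      have hpm : p ≤ m.comap (Ideal.Quotient.mk p) := fun x hx => by
        rw [Ideal.mem_comap, Ideal.Quotient.eq_zero_iff_mem.mpr hx]
        exact m.zero_mem
      obtain ⟨P, hP, hPm⟩ := K114.NagGen.exists_fg_of_isN2_quotient_localization p
        (m.comap (Ideal.Quotient.mk p)) hpm (fun P _ => h1 (m.comap (Ideal.Quotient.mk p)) P) K'
      refine K114.NagGen.finite_localizedModule_of_fg _ P hP fun x => ?_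
      obtain ⟨s, ⟨a, ha, rfl⟩, hs⟩ := hPm x
      exact ⟨_, fun hq' => ha (hqm hq'), hs⟩

end Groth.Agent.S12125
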