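import Groth.Statements.S12127

set_option autoImplicit false
universe u
open EGA43

namespace Groth.Agent.S12127

/-- finite union of locally closed subsets -/
def QC {X : Type u} [TopologicalSpace X] (Z : Set X) : Prop :=
  ∃ T : Set (Set X), T.Finite ∧ (∀ t ∈ T, IsLocallyClosed t) ∧ Z = ⋃₀ T

theorem qc_of_isLocallyClosed {X : Type u} [TopologicalSpace X] {Z : Set X}
    (h : IsLocallyClosed Z) : QC Z :=
  ⟨{Z}, Set.finite_singleton _, by simpa using h, by simp⟩

theorem qc_empty {X : Type u} [TopologicalSpace X] : QC (∅ : Set X) :=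
  ⟨∅, Set.finite_empty, by simp, by simp⟩

theorem qc_union {X : Type u} [TopologicalSpace X] {Z Z' : Set X} (h : QC Z) (h' : QC Z') :
    QC (Z ∪ Z') := by
  obtain ⟨T, hT, hc, rfl⟩ := h
  obtain ⟨T', hT', hc', rfl⟩ := h'
  refine ⟨T ∪ T', hT.union hT', ?_, by rw [Set.sUnion_union]⟩
  rintro t (ht | ht)
  · exact hc t ht
  · exact hc' t ht

theorem qc_inter {X : Type u} [TopologicalSpace X] {Z Z' : Set X} (h : QC Z) (h' : QC Z') :
    QC (Z ∩ Z') := by
  obtain ⟨T, hT, hc, rfl⟩ := h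
  obtain ⟨T', hT', hc', rfl⟩ := h'
  refine ⟨Set.image2 (· ∩ ·) T T', hT.image2 _ hT', ?_, ?_⟩
  · rintro t ⟨a, ha, b, hb, rfl⟩
    exact (hc a ha).inter (hc' b hb)
  · ext x
    simp only [Set.mem_inter_iff, Set.mem_sUnion, Set.mem_image2]
    constructor
    · rintro ⟨⟨a, ha, hx⟩, ⟨b, hb, hx'⟩⟩
      exact ⟨a ∩ b, ⟨a, ha, b, hb, rfl⟩, hx, hx'⟩
    · rintro ⟨_, ⟨a, ha, b, hb, rfl⟩, hx, hx'⟩
      exact ⟨⟨a, ha, hx⟩, ⟨b, hb, hx'⟩⟩

theorem qc_compl_of_lc {X : Type u} [TopologicalSpace X] {Z : Set X} (h : IsLocallyClosed Z) :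
    QC Zᶜ := by
  obtain ⟨U, C, hU, hC, rfl⟩ := h
  rw [Set.compl_inter]
  exact qc_union (qc_of_isLocallyClosed hU.isClosed_compl.isLocallyClosed)
    (qc_of_isLocallyClosed hC.isOpen_compl.isLocallyClosed)

theorem qc_compl {X : Type u} [TopologicalSpace X] {Z : Set X} (h : QC Z) : QC Zᶜ := by
  obtain ⟨T, hT, hc, rfl⟩ := h
  induction T, hT using Set.Finite.induction_on with
  | empty =>
    simpa using qc_of_isLocallyClosed (isOpen_univ (X := X)).isLocallyClosed
  | @insert a s ha hs ih =>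
    rw [Set.sUnion_insert, Set.compl_union]
    exact qc_inter (qc_compl_of_lc (hc a (Set.mem_insert _ _)))
      (ih fun t ht => hc t (Set.mem_insert_of_mem _ ht))

theorem qc_preimage {X Y : Type u} [TopologicalSpace X] [TopologicalSpace Y] {f : X → Y}
    (hf : Continuous f) {Z : Set Y} (h : QC Z) : QC (f ⁻¹' Z) := by
  obtain ⟨T, hT, hc, rfl⟩ := h
  refine ⟨(fun t => f ⁻¹' t) '' T, hT.image _, ?_, ?_⟩
  · rintro _ ⟨t, ht, rfl⟩
    exact (hc t ht).preimage hf
  · rw [Set.preimage_sUnion, Set.sUnion_image]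

/-- for an open `V`, a subset of `V` is a finite union of locally closed subsets of `V` iff its
image in the space is -/
theorem qc_subtype_iff {X : Type u} [TopologicalSpace X] {V : Set X} (hV : IsOpen V) (Z : Set X) :
    QC (Subtype.val ⁻¹' Z : Set V) ↔ QC (Z ∩ V) := by
  constructor
  · rintro ⟨T, hT, hc, h⟩
    refine ⟨(fun t => Subtype.val '' t) '' T, hT.image _, ?_, ?_⟩
    · rintro _ ⟨t, ht, rfl⟩
      obtain ⟨U, C, hU, hC, rfl⟩ := hc t ht
      obtain ⟨U', hU', rfl⟩ := isOpen_induced_iff.mp hU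
      obtain ⟨C', hC', rfl⟩ := isClosed_induced_iff.mp hC
      refine ⟨U' ∩ V, C', hU'.inter hV, hC', ?_⟩
      ext x
      simp only [Set.mem_image, Set.mem_inter_iff, Set.mem_preimage, Subtype.exists,
        exists_and_right, exists_eq_right]
      constructor
      · rintro ⟨⟨hx, h1⟩, h2⟩
        exact ⟨⟨h1, hx⟩, h2⟩
      · rintro ⟨⟨h1, hx⟩, h2⟩
        exact ⟨⟨hx, h1⟩, h2⟩
    · rw [Set.sUnion_image, ← Set.image_iUnion₂, ← Set.sUnion_eq_biUnion, ← h,
        Subtype.image_preimage_coe, Set.inter_comm]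
  · intro h
    have := qc_preimage (f := (Subtype.val : V → X)) continuous_subtype_val h
    convert this using 1
    ext x
    simp

theorem empty_of_preimage_empty_lc {X Y : Type u} [TopologicalSpace X] [TopologicalSpace Y]
    {f : X → Y} (hf : Continuous f)
    (hq : Function.Bijective (fun U : TopologicalSpace.Opens Y =>
      (⟨f ⁻¹' (U : Set Y), U.isOpen.preimage hf⟩ : TopologicalSpace.Opens X)))
    {Z : Set Y} (hZ : IsLocallyClosed Z) (h : f ⁻¹' Z = ∅) : Z = ∅ := by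
  obtain ⟨U, C, hU, hC, rfl⟩ := hZ
  have h1 : (⟨U ∩ Cᶜ, hU.inter hC.isOpen_compl⟩ : TopologicalSpace.Opens Y) = ⟨U, hU⟩ := by
    apply hq.1
    ext x
    simp only [TopologicalSpace.Opens.coe_mk, Set.mem_preimage, Set.mem_inter_iff,
      Set.mem_compl_iff, SetLike.mem_coe, TopologicalSpace.Opens.mem_mk]
    constructor
    · exact fun hx => hx.1
    · intro hx
      refine ⟨hx, fun hx' => ?_⟩
      have : x ∈ f ⁻¹' (U ∩ C) := ⟨hx, hx'⟩
      rw [h] at this
      exact this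
  have h2 : U ∩ Cᶜ = U := congrArg TopologicalSpace.Opens.carrier h1
  ext y
  simp only [Set.mem_inter_iff, Set.mem_empty_iff_false, iff_false, not_and]
  intro hy hy'
  rw [← h2] at hy
  exact hy.2 hy'

theorem empty_of_preimage_empty {X Y : Type u} [TopologicalSpace X] [TopologicalSpace Y]
    {f : X → Y} (hf : Continuous f)
    (hq : Function.Bijective (fun U : TopologicalSpace.Opens Y =>
      (⟨f ⁻¹' (U : Set Y), U.isOpen.preimage hf⟩ : TopologicalSpace.Opens X)))
    {Z : Set Y} (hZ : QC Z) (h : f ⁻¹' Z = ∅) : Z = ∅ := by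
  obtain ⟨T, hT, hc, rfl⟩ := hZ
  rw [Set.sUnion_eq_empty]
  intro t ht
  refine empty_of_preimage_empty_lc hf hq (hc t ht) ?_
  rw [← Set.subset_empty_iff, ← h]
  exact Set.preimage_mono (Set.subset_sUnion_of_mem ht)

theorem injOn_qc {X Y : Type u} [TopologicalSpace X] [TopologicalSpace Y]
    {f : X → Y} (hf : Continuous f)
    (hq : Function.Bijective (fun U : TopologicalSpace.Opens Y =>
      (⟨f ⁻¹' (U : Set Y), U.isOpen.preimage hf⟩ : TopologicalSpace.Opens X)))
    {Z Z' : Set Y} (hZ : QC Z) (hZ' : QC Z') (h : f ⁻¹' Z = f ⁻¹' Z') : Z = Z' := by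
  apply Set.Subset.antisymm
  · have h1 : Z ∩ Z'ᶜ = ∅ := empty_of_preimage_empty hf hq (qc_inter hZ (qc_compl hZ')) (by
      rw [Set.preimage_inter, Set.preimage_compl, h, Set.inter_compl_self])
    rwa [← Set.sdiff_eq, Set.sdiff_eq_empty] at h1
  · have h1 : Z' ∩ Zᶜ = ∅ := empty_of_preimage_empty hf hq (qc_inter hZ' (qc_compl hZ)) (by
      rw [Set.preimage_inter, Set.preimage_compl, h, Set.inter_compl_self])
    rwa [← Set.sdiff_eq, Set.sdiff_eq_empty] at h1

theorem exists_isOpen {X Y : Type u} [TopologicalSpace X] [TopologicalSpace Y]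
    {f : X → Y} (hf : Continuous f)
    (hq : Function.Bijective (fun U : TopologicalSpace.Opens Y =>
      (⟨f ⁻¹' (U : Set Y), U.isOpen.preimage hf⟩ : TopologicalSpace.Opens X)))
    {U : Set X} (hU : IsOpen U) : ∃ W : Set Y, IsOpen W ∧ f ⁻¹' W = U := by
  obtain ⟨W, hW⟩ := hq.2 ⟨U, hU⟩
  exact ⟨W, W.isOpen, congrArg TopologicalSpace.Opens.carrier hW⟩

theorem surj_lc {X Y : Type u} [TopologicalSpace X] [TopologicalSpace Y]
    {f : X → Y} (hf : Continuous f)
    (hq : Function.Bijective (fun U : TopologicalSpace.Opens Y =>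
      (⟨f ⁻¹' (U : Set Y), U.isOpen.preimage hf⟩ : TopologicalSpace.Opens X)))
    {Z : Set X} (hZ : IsLocallyClosed Z) : ∃ T : Set Y, IsLocallyClosed T ∧ f ⁻¹' T = Z := by
  obtain ⟨U, C, hU, hC, rfl⟩ := hZ
  obtain ⟨W, hW, rfl⟩ := exists_isOpen hf hq hU
  obtain ⟨D, hD, h⟩ := exists_isOpen hf hq hC.isOpen_compl
  refine ⟨W ∩ Dᶜ, ⟨W, Dᶜ, hW, hD.isClosed_compl, rfl⟩, ?_⟩
  rw [Set.preimage_inter, Set.preimage_compl, h, compl_compl]

theorem surj_qc {X Y : Type u} [TopologicalSpace X] [TopologicalSpace Y]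
    {f : X → Y} (hf : Continuous f)
    (hq : Function.Bijective (fun U : TopologicalSpace.Opens Y =>
      (⟨f ⁻¹' (U : Set Y), U.isOpen.preimage hf⟩ : TopologicalSpace.Opens X)))
    {Z : Set X} (hZ : QC Z) : ∃ T : Set Y, QC T ∧ f ⁻¹' T = Z := by
  obtain ⟨T, hT, hc, rfl⟩ := hZ
  choose! g hg hg' using fun (Z : Set X) (hZ : IsLocallyClosed Z) => surj_lc hf hq hZ
  refine ⟨⋃₀ (g '' T), ⟨g '' T, hT.image _, ?_, rfl⟩, ?_⟩
  · rintro _ ⟨t, ht, rfl⟩
    exact hg t (hc t ht)
  · rw [Set.sUnion_image, Set.preimage_iUnion₂, Set.sUnion_eq_biUnion]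
    exact Set.iUnion₂_congr fun t ht => hg' t (hc t ht)

/-- Let f : X → Y be a quasi-homeomorphism, i.e. a continuous map such that U ↦ f⁻¹(U) is a bijection
from the open subsets of Y onto the open subsets of X. Call a subset quasi-constructible when it is
a finite union of locally closed subsets, and locally quasi-constructible when every point of the
space has an open neighbourhood V whose intersection with it is quasi-constructible in V. Then Z ↦
f⁻¹(Z) induces a bijection from the quasi-constructible subsets of Y onto those of X, and from the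
locally quasi-constructible subsets of Y onto those of X. -/
theorem result {X Y : Type u}
    [TopologicalSpace X] [TopologicalSpace Y] (f : X → Y) (hf : Continuous f)
    (hq : Function.Bijective (fun U : TopologicalSpace.Opens Y =>
      (⟨f ⁻¹' (U : Set Y), U.isOpen.preimage hf⟩ : TopologicalSpace.Opens X))) :
    Set.BijOn (fun Z : Set Y => f ⁻¹' Z)
        {Z : Set Y | ∃ T : Set (Set Y), T.Finite ∧ (∀ t ∈ T, IsLocallyClosed t) ∧ Z = ⋃₀ T}
        {Z : Set X | ∃ T : Set (Set X), T.Finite ∧ (∀ t ∈ T, IsLocallyClosed t) ∧ Z = ⋃₀ T} ∧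
      Set.BijOn (fun Z : Set Y => f ⁻¹' Z)
        {Z : Set Y | ∀ y : Y, ∃ V : Set Y, IsOpen V ∧ y ∈ V ∧
          ∃ T : Set (Set V), T.Finite ∧ (∀ t ∈ T, IsLocallyClosed t) ∧ (Subtype.val ⁻¹' Z : Set V) = ⋃₀ T}
        {Z : Set X | ∀ x : X, ∃ V : Set X, IsOpen V ∧ x ∈ V ∧
          ∃ T : Set (Set V), T.Finite ∧ (∀ t ∈ T, IsLocallyClosed t) ∧ (Subtype.val ⁻¹' Z : Set V) = ⋃₀ T} := by
  refine ⟨⟨?_, ?_, ?_⟩, ⟨?_, ?_, ?_⟩⟩
  · intro Z hZ
    exact qc_preimage hf hZ
  · intro Z hZ Z' hZ' h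
    exact injOn_qc hf hq hZ hZ' h
  · intro Z hZ
    obtain ⟨T, hT, h⟩ := surj_qc hf hq hZ
    exact ⟨T, hT, h⟩
  · intro Z hZ x
    obtain ⟨V, hV, hx, hq'⟩ := hZ (f x)
    refine ⟨f ⁻¹' V, hV.preimage hf, hx, ?_⟩
    refine (qc_subtype_iff (hV.preimage hf) (f ⁻¹' Z)).mpr ?_
    rw [← Set.preimage_inter]
    exact qc_preimage hf ((qc_subtype_iff hV Z).mp hq')
  · intro Z hZ Z' hZ' h
    change f ⁻¹' Z = f ⁻¹' Z' at h
    have key : ∀ y : Y, y ∈ Z ↔ y ∈ Z' := by
      intro y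
      obtain ⟨V, hV, hy, h1⟩ := hZ y
      obtain ⟨V', hV', hy', h1'⟩ := hZ' y
      have h2 : QC (Z ∩ V) := (qc_subtype_iff hV Z).mp h1
      have h2' : QC (Z' ∩ V') := (qc_subtype_iff hV' Z').mp h1'
      have h3 : Z ∩ V ∩ V' = Z' ∩ V' ∩ V := by
        refine injOn_qc hf hq (qc_inter h2 (qc_of_isLocallyClosed hV'.isLocallyClosed))
          (qc_inter h2' (qc_of_isLocallyClosed hV.isLocallyClosed)) ?_
        simp only [Set.preimage_inter]
        rw [h, Set.inter_right_comm]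
      constructor
      · intro hyZ
        have : y ∈ Z ∩ V ∩ V' := ⟨⟨hyZ, hy⟩, hy'⟩
        rw [h3] at this
        exact this.1.1
      · intro hyZ
        have : y ∈ Z' ∩ V' ∩ V := ⟨⟨hyZ, hy'⟩, hy⟩
        rw [← h3] at this
        exact this.1.1
    exact Set.ext key
  · intro Z hZ
    -- data for every point of `X`
    have h1 : ∀ x : X, ∃ (W T : Set Y), IsOpen W ∧ f x ∈ W ∧ QC T ∧ T ⊆ W ∧
        f ⁻¹' T = Z ∩ f ⁻¹' W := by
      intro x
      obtain ⟨V, hV, hx, hq'⟩ := hZ x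
      obtain ⟨W, hW, rfl⟩ := exists_isOpen hf hq hV
      obtain ⟨T, hT, hTZ⟩ := surj_qc hf hq ((qc_subtype_iff hV Z).mp hq')
      refine ⟨W, T ∩ W, hW, hx, qc_inter hT (qc_of_isLocallyClosed hW.isLocallyClosed),
        Set.inter_subset_right, ?_⟩
      rw [Set.preimage_inter, hTZ, Set.inter_assoc, Set.inter_self]
    choose W T hW hxW hT hTW hTZ using h1
    have hcov : ∀ y : Y, ∃ x : X, y ∈ W x := by
      have h2 : (⟨⋃ x, W x, isOpen_iUnion hW⟩ : TopologicalSpace.Opens Y) = ⊤ := by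
        apply hq.1
        ext x
        simp only [TopologicalSpace.Opens.coe_mk, Set.mem_preimage, Set.mem_iUnion,
          TopologicalSpace.Opens.coe_top, Set.mem_univ, iff_true, SetLike.mem_coe,
          TopologicalSpace.Opens.mem_mk]
        exact ⟨x, hxW x⟩
      intro y
      have : y ∈ (⟨⋃ x, W x, isOpen_iUnion hW⟩ : TopologicalSpace.Opens Y) := by
        rw [h2]; trivial
      exact Set.mem_iUnion.mp this
    have hcomp : ∀ x x' : X, T x' ∩ W x = T x ∩ W x' := by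
      intro x x'
      refine injOn_qc hf hq (qc_inter (hT x') (qc_of_isLocallyClosed (hW x).isLocallyClosed))
        (qc_inter (hT x) (qc_of_isLocallyClosed (hW x').isLocallyClosed)) ?_
      rw [Set.preimage_inter, Set.preimage_inter, hTZ, hTZ, Set.inter_right_comm]
    have hTint : ∀ x : X, (⋃ x', T x') ∩ W x = T x := by
      intro x
      ext y
      simp only [Set.mem_inter_iff, Set.mem_iUnion]
      constructor
      · rintro ⟨⟨x', hy⟩, hyx⟩
        have : y ∈ T x' ∩ W x := ⟨hy, hyx⟩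
        rw [hcomp] at this
        exact this.1
      · intro hy
        exact ⟨⟨x, hy⟩, hTW x hy⟩
    refine ⟨⋃ x, T x, ?_, ?_⟩
    · intro y
      obtain ⟨x, hx⟩ := hcov y
      refine ⟨W x, hW x, hx, ?_⟩
      refine (qc_subtype_iff (hW x) _).mpr ?_
      rw [hTint]
      exact hT x
    · change f ⁻¹' (⋃ x, T x) = Z
      ext x
      simp only [Set.mem_preimage, Set.mem_iUnion]
      constructor
      · rintro ⟨x', hx'⟩
        have : x ∈ f ⁻¹' (T x') := hx'
        rw [hTZ] at this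
        exact this.1
      · intro hx
        refine ⟨x, ?_⟩
        have : x ∈ Z ∩ f ⁻¹' (W x) := ⟨hx, hxW x⟩
        rw [← hTZ] at this
        exact this

end Groth.Agent.S12127
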