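import Groth.Statements.S12132
import Groth.Agent.AssSch.K109.LocLen
import Groth.Agent.S2517
import Groth.Agent.S2518
import Groth.Agent.S3406
import Mathlib.RingTheory.Ideal.MinimalPrime.Localization

set_option autoImplicit false
universe u
open AssSch

namespace Groth.Agent.S12132

open K109.LocLen

set_option linter.style.haveILetI false

theorem isArtinianRing_of_fin {B : Type u} [CommRing B] [IsNoetherianRing B] (t : B)
    (M : Type u) [AddCommGroup M] [Module B M] [Module.Finite B M]
    (hfin : Module.length B (M ⧸ (Ideal.span {t} • (⊤ : Submodule B M))) ≠ ⊤) :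
    IsArtinianRing ((B ⧸ Module.annihilator B M) ⧸
      Ideal.span {Ideal.Quotient.mk (Module.annihilator B M) t}) := by
  rw [isArtinianRing_iff_krullDimLE_zero, Ring.krullDimLE_zero_iff]
  intro Q hQ
  let φ : B →+* (B ⧸ Module.annihilator B M) ⧸
      Ideal.span {Ideal.Quotient.mk (Module.annihilator B M) t} :=
    (Ideal.Quotient.mk _).comp (Ideal.Quotient.mk _)
  have hφ : Function.Surjective φ :=
    Ideal.Quotient.mk_surjective.comp Ideal.Quotient.mk_surjective
  have hP : (Q.comap φ).IsPrime := Ideal.comap_isPrime _ _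
  have h1 : Module.annihilator B M ≤ Q.comap φ := by
    intro a ha
    have : φ a = 0 := by
      change Ideal.Quotient.mk _ (Ideal.Quotient.mk _ a) = 0
      rw [Ideal.Quotient.eq_zero_iff_mem.mpr ha, map_zero]
    rw [Ideal.mem_comap, this]
    exact Q.zero_mem
  have h2 : t ∈ Q.comap φ := by
    have : φ t = 0 := by
      change Ideal.Quotient.mk _ (Ideal.Quotient.mk _ t) = 0
      rw [Ideal.Quotient.eq_zero_iff_mem]
      exact Ideal.mem_span_singleton_self _
    rw [Ideal.mem_comap, this]
    exact Q.zero_mem
  have h3 : (⟨Q.comap φ, hP⟩ : PrimeSpectrum B) ∈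
      Module.support B (M ⧸ (Ideal.span {t} • (⊤ : Submodule B M))) := by
    rw [Module.support_quotient]
    refine ⟨?_, ?_⟩
    · rw [Module.support_eq_zeroLocus]
      exact h1
    · rw [PrimeSpectrum.mem_zeroLocus, SetLike.coe_subset_coe, Ideal.span_singleton_le_iff_mem]
      exact h2
  have h4 : (Q.comap φ).IsMaximal :=
    S3406.isMaximal_of_mem_support (Module.length_ne_top_iff.mp hfin) _ h3
  have h5 := Ideal.map_eq_top_or_isMaximal_of_surjective φ hφ h4
  rw [Ideal.map_comap_of_surjective φ hφ] at h5
  exact h5.resolve_left hQ.ne_top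

theorem sup_eq_iff {B : Type u} [CommRing B] [IsLocalRing B] (J : Ideal B) [IsLocalRing (B ⧸ J)]
    (t : B) (P : Ideal B) (hJP : J ≤ P) (hPm : P ≤ IsLocalRing.maximalIdeal B)
    (p : Ideal (B ⧸ J))
    (hp : P = p.comap (Ideal.Quotient.mk J)) :
    P ⊔ Ideal.span {t} = IsLocalRing.maximalIdeal B ↔
      p ⊔ Ideal.span {Ideal.Quotient.mk J t} = IsLocalRing.maximalIdeal (B ⧸ J) := by
  have hmp : p = P.map (Ideal.Quotient.mk J) := by
    rw [hp, Ideal.map_comap_of_surjective _ Ideal.Quotient.mk_surjective]
  have hmax : IsLocalRing.maximalIdeal (B ⧸ J) =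
      (IsLocalRing.maximalIdeal B).map (Ideal.Quotient.mk J) := by
    have h5 := Ideal.map_eq_top_or_isMaximal_of_surjective (Ideal.Quotient.mk J)
      Ideal.Quotient.mk_surjective (IsLocalRing.maximalIdeal.isMaximal B)
    refine (IsLocalRing.eq_maximalIdeal (h5.resolve_left fun h => ?_)).symm
    have h6 := congrArg (Ideal.comap (Ideal.Quotient.mk J)) h
    rw [Ideal.comap_map_of_surjective _ Ideal.Quotient.mk_surjective, ← RingHom.ker_eq_comap_bot,
      Ideal.mk_ker, sup_eq_left.mpr (hJP.trans hPm), Ideal.comap_top] at h6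
    exact (IsLocalRing.maximalIdeal.isMaximal B).ne_top h6
  have hsup : p ⊔ Ideal.span {Ideal.Quotient.mk J t} =
      (P ⊔ Ideal.span {t}).map (Ideal.Quotient.mk J) := by
    rw [Ideal.map_sup, hmp, Ideal.map_span, Set.image_singleton]
  rw [hsup, hmax]
  constructor
  · intro h; rw [h]
  · intro h
    have h6 := congrArg (Ideal.comap (Ideal.Quotient.mk J)) h
    rw [Ideal.comap_map_of_surjective _ Ideal.Quotient.mk_surjective,
      Ideal.comap_map_of_surjective _ Ideal.Quotient.mk_surjective, ← RingHom.ker_eq_comap_bot,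
      Ideal.mk_ker, sup_eq_left.mpr (hJP.trans hPm),
      sup_eq_left.mpr (hJP.trans le_sup_left)] at h6
    exact h6

theorem map_eq_span_iff {B : Type u} [CommRing B] [IsLocalRing B] (t : B)
    (ht : t ∈ IsLocalRing.maximalIdeal B) (P : Ideal B) (hP : P.IsPrime) :
    Ideal.map (Ideal.Quotient.mk P) (IsLocalRing.maximalIdeal B) =
        Ideal.span {Ideal.Quotient.mk P t} ↔ P ⊔ Ideal.span {t} = IsLocalRing.maximalIdeal B := by
  rw [← S2518.length_eq_one_iff t ht P hP, Module.length_eq_one_iff, isSimpleModule_iff_isCoatom]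
  constructor
  · intro h
    exact IsLocalRing.eq_maximalIdeal ⟨h⟩
  · intro h
    rw [h]
    exact (IsLocalRing.maximalIdeal.isMaximal B).out

/-- The minimal primes of `B/J` and those over `J`. -/
noncomputable def minPrimesEquiv {B : Type u} [CommRing B] (J : Ideal B) :
    minimalPrimes (B ⧸ J) ≃ J.minimalPrimes :=
  Equiv.ofBijective (fun p => ⟨p.1.comap (Ideal.Quotient.mk J), by
      rw [Ideal.minimalPrimes_eq_comap]; exact ⟨p.1, p.2, rfl⟩⟩)
    ⟨fun p q h => Subtype.ext (Ideal.comap_injective_of_surjective _
        Ideal.Quotient.mk_surjective (congrArg Subtype.val h)), by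
      rintro ⟨P, hP⟩
      have hP' := hP
      rw [Ideal.minimalPrimes_eq_comap] at hP'
      obtain ⟨p, hp, rfl⟩ := hP'
      exact ⟨⟨p, hp⟩, rfl⟩⟩

theorem length_quot_eq {B : Type u} [CommRing B] (J : Ideal B) (t : B)
    (M : Type u) [AddCommGroup M] [Module B M] [Module (B ⧸ J) M] [IsScalarTower B (B ⧸ J) M] :
    Module.length B (M ⧸ (Ideal.span {t} • (⊤ : Submodule B M))) =
    Module.length (B ⧸ J)
      (M ⧸ (Ideal.span {Ideal.Quotient.mk J t} • (⊤ : Submodule (B ⧸ J) M))) := by
  rw [← Module.length_eq_of_surjective (S := B) (R := B ⧸ J)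
    (M := M ⧸ (Ideal.span {Ideal.Quotient.mk J t} • (⊤ : Submodule (B ⧸ J) M)))
    Ideal.Quotient.mk_surjective]
  have h : (Ideal.span {t} • (⊤ : Submodule B M)) =
      (Ideal.span {Ideal.Quotient.mk J t} • (⊤ : Submodule (B ⧸ J) M)).restrictScalars B := by
    ext m
    rw [Submodule.restrictScalars_mem, Submodule.ideal_span_singleton_smul,
      Submodule.ideal_span_singleton_smul, Submodule.mem_smul_pointwise_iff_exists,
      Submodule.mem_smul_pointwise_iff_exists]
    refine exists_congr fun n => and_congr ⟨fun _ => trivial, fun _ => trivial⟩ ?_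
    rw [← Ideal.Quotient.algebraMap_eq, algebraMap_smul]
  exact (Submodule.quotEquivOfEq _ _ h).length_eq.trans rfl

/-- Let B be a Noetherian local ring (the local ring of X at the generic point z of an irreducible
component Z of the support of F/tF), t an element of its maximal ideal, and M a finite B-module (the
stalk F_z) such that the support of M has positive dimension (Z is not an irreducible component of
Supp F) and M/tM has finite length (z is a maximal point of Supp(F/tF)). Then the length of M/tM is
at least the sum, over the primes p of B minimal over the annihilator of M (the generic points of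
the irreducible components of Supp F through z), of the lengths of the B_p-modules M_p; and the two
are equal if and only if t is a non-zero-divisor on M and for every such p the image of t generates
the maximal ideal of B/p (so that B/p is a discrete valuation ring with uniformizer t). -/
theorem result {B : Type u} [CommRing B] [IsNoetherianRing B]
    [IsLocalRing B] (t : B) (ht : t ∈ IsLocalRing.maximalIdeal B)
    (M : Type u) [AddCommGroup M] [Module B M] [Module.Finite B M]
    (hdim : 0 < Module.supportDim B M)
    (hfin : Module.length B (M ⧸ (Ideal.span {t} • (⊤ : Submodule B M))) ≠ ⊤) :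
    (∑ᶠ p : (Module.annihilator B M).minimalPrimes,
        haveI : p.1.IsPrime := p.2.1.1
        Module.length (Localization.AtPrime p.1) (LocalizedModule p.1.primeCompl M)) ≤
      Module.length B (M ⧸ (Ideal.span {t} • (⊤ : Submodule B M))) ∧
    ((∑ᶠ p : (Module.annihilator B M).minimalPrimes,
        haveI : p.1.IsPrime := p.2.1.1
        Module.length (Localization.AtPrime p.1) (LocalizedModule p.1.primeCompl M)) =
      Module.length B (M ⧸ (Ideal.span {t} • (⊤ : Submodule B M))) ↔
    IsSMulRegular M t ∧
      ∀ p : (Module.annihilator B M).minimalPrimes,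
        Ideal.map (Ideal.Quotient.mk p.1) (IsLocalRing.maximalIdeal B) =
          Ideal.span {Ideal.Quotient.mk p.1 t}) := by
  classical
  have hM : Nontrivial M := by
    by_contra hn
    rw [not_nontrivial_iff_subsingleton] at hn
    rw [Module.supportDim_eq_bot_of_subsingleton] at hdim
    exact absurd hdim (by simp)
  set J := Module.annihilator B M with hJ
  have hJt : J ≠ ⊤ := fun h => not_subsingleton M ((Module.annihilator_eq_top_iff).mp h)
  haveI : Nontrivial (B ⧸ J) := Ideal.Quotient.nontrivial_iff.mpr hJt
  haveI : IsLocalRing (B ⧸ J) :=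
    IsLocalRing.of_surjective' (Ideal.Quotient.mk J) Ideal.Quotient.mk_surjective
  letI : Module (B ⧸ J) M := Module.quotientAnnihilator
  haveI : IsScalarTower B (B ⧸ J) M := by
    refine ⟨fun b c n => ?_⟩
    obtain ⟨c, rfl⟩ := Ideal.Quotient.mk_surjective c
    exact mul_smul b c n
  haveI : Module.Finite (B ⧸ J) M := Module.Finite.of_restrictScalars_finite B (B ⧸ J) M
  have hdim' : 0 < ringKrullDim (B ⧸ J) := by
    rwa [← Module.supportDim_eq_ringKrullDim_quotient_annihilator]
  have ht' : Ideal.Quotient.mk J t ∈ IsLocalRing.maximalIdeal (B ⧸ J) := by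
    haveI : IsLocalHom (Ideal.Quotient.mk J) :=
      IsLocalHom.of_surjective (Ideal.Quotient.mk J) Ideal.Quotient.mk_surjective
    rw [IsLocalRing.mem_maximalIdeal] at ht ⊢
    exact map_mem_nonunits_iff (Ideal.Quotient.mk J) t |>.mpr ht
  have hart := isArtinianRing_of_fin t M hfin
  have hle := S2517.result hdim' (Ideal.Quotient.mk J t) ht' hart M
  have heq := S2518.result hdim' (Ideal.Quotient.mk J t) ht' hart M
  have hsum : (∑ᶠ p : J.minimalPrimes,
        haveI : p.1.IsPrime := p.2.1.1
        Module.length (Localization.AtPrime p.1) (LocalizedModule p.1.primeCompl M)) =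
      ∑ᶠ p : minimalPrimes (B ⧸ J),
        haveI : p.1.IsPrime := p.2.1.1
        Module.length (Localization.AtPrime p.1) (LocalizedModule p.1.primeCompl M) := by
    rw [← finsum_comp_equiv (minPrimesEquiv J)]
    refine finsum_congr fun p => ?_
    haveI : p.1.IsPrime := p.2.1.1
    haveI : (minPrimesEquiv J p).1.IsPrime := (minPrimesEquiv J p).2.1.1
    exact length_localization_of_surjective Ideal.Quotient.mk_surjective p.1
      (minPrimesEquiv J p).1 rfl
  rw [hsum, length_quot_eq J t M]
  refine ⟨hle, heq.trans (and_congr ?_ ?_)⟩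
  · rw [IsSMulRegular, IsSMulRegular]
    rfl
  · have hne : ∀ p : minimalPrimes (B ⧸ J), (haveI : p.1.IsPrime := p.2.1.1
         Nontrivial (LocalizedModule p.1.primeCompl M)) := by
      intro p
      haveI : p.1.IsPrime := p.2.1.1
      have h1 : (⟨p.1, p.2.1.1⟩ : PrimeSpectrum (B ⧸ J)) ∈ Module.support (B ⧸ J) M := by
        rw [Module.support_eq_zeroLocus]
        have : Module.annihilator (B ⧸ J) M = ⊥ := by
          rw [eq_bot_iff]
          intro a ha
          obtain ⟨a, rfl⟩ := Ideal.Quotient.mk_surjective a
          rw [Submodule.mem_bot, Ideal.Quotient.eq_zero_iff_mem, hJ, Module.mem_annihilator]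
          intro m
          have := Module.mem_annihilator.mp ha m
          rwa [← Ideal.Quotient.algebraMap_eq, algebraMap_smul] at this
        rw [this]
        intro a ha
        rw [(ha : a = 0)]
        exact p.1.zero_mem
      exact (Module.mem_support_iff.mp h1)
    constructor
    · intro h P
      obtain ⟨p, rfl⟩ := (minPrimesEquiv J).surjective P
      have h1 := h p (hne p)
      rw [map_eq_span_iff _ ht' p.1 p.2.1.1] at h1
      rw [map_eq_span_iff t ht _ (minPrimesEquiv J p).2.1.1]
      exact (sup_eq_iff J t _ (minPrimesEquiv J p).2.1.2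
        (IsLocalRing.le_maximalIdeal (minPrimesEquiv J p).2.1.1.ne_top) p.1 rfl).mpr h1
    · intro h p _
      have h1 := h (minPrimesEquiv J p)
      rw [map_eq_span_iff t ht _ (minPrimesEquiv J p).2.1.1] at h1
      rw [map_eq_span_iff _ ht' p.1 p.2.1.1]
      exact (sup_eq_iff J t _ (minPrimesEquiv J p).2.1.2
        (IsLocalRing.le_maximalIdeal (minPrimesEquiv J p).2.1.1.ne_top) p.1 rfl).mp h1


end Groth.Agent.S12132
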