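import Groth.Statements.S12134
import Groth.Agent.EGA43.K132.GrStrat3

set_option autoImplicit false
universe u
open scoped TensorProduct
open EGA43

namespace Groth.Agent.S12134

open AlgebraicGeometry CategoryTheory in
/-- Suppose A₀ is a Noetherian ring and B₀ is a finitely generated A₀-algebra; fix an ideal J₀ ⊆ B₀ and
a finite B₀-module M₀. Then Spec A₀ admits finitely many affine subschemes S_1, …, S_m — presented
as immersions Spec A_i → Spec A₀ — whose underlying sets are mutually disjoint with union all of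
Spec A₀, such that each S_i is open in S_i ∪ S_{i+1} ∪ … ∪ S_m, and such that for each i, setting
N_i = A_i ⊗_{A₀} M₀, the graded module associated to the J₀-adic filtration on N_i is A_i-flat.
Concretely, for every n the A_i-module J₀ⁿN_i / J₀ⁿ⁺¹N_i is flat, where this quotient is encoded as
the image of J₀ⁿN_i inside N_i / J₀ⁿ⁺¹N_i, and J₀ⁿN_i denotes the image in N_i of A_i ⊗_{A₀} J₀ⁿM₀. -/
theorem result {A₀ : Type u} [CommRing A₀] [IsNoetherianRing A₀]
    {B₀ : Type u} [CommRing B₀] [Algebra A₀ B₀] [Algebra.FiniteType A₀ B₀] (J₀ : Ideal B₀)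
    (M₀ : Type u) [AddCommGroup M₀] [Module B₀ M₀] [Module A₀ M₀] [IsScalarTower A₀ B₀ M₀]
    [Module.Finite B₀ M₀] :
    ∃ (m : ℕ) (A : Fin m → Type u) (_ : ∀ i, CommRing (A i)) (_ : ∀ i, Algebra A₀ (A i)),
      (∀ i, IsImmersion (Spec.map (CommRingCat.ofHom (algebraMap A₀ (A i))))) ∧
      (∀ i j, i ≠ j → Disjoint (Set.range (Spec.map (CommRingCat.ofHom (algebraMap A₀ (A i)))))
        (Set.range (Spec.map (CommRingCat.ofHom (algebraMap A₀ (A j)))))) ∧
      (⋃ i, Set.range (Spec.map (CommRingCat.ofHom (algebraMap A₀ (A i)))) = Set.univ) ∧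
      (∀ i, ∃ U : Set (Spec (CommRingCat.of A₀)), IsOpen U ∧
        U ∩ (⋃ j, ⋃ (_ : i ≤ j), Set.range (Spec.map (CommRingCat.ofHom (algebraMap A₀ (A j))))) =
          Set.range (Spec.map (CommRingCat.ofHom (algebraMap A₀ (A i))))) ∧
      ∀ i (n : ℕ), Module.Flat (A i)
        ↥(Submodule.map
            (LinearMap.range (LinearMap.baseChange (A i)
              ((J₀ ^ (n + 1) • (⊤ : Submodule B₀ M₀)).restrictScalars A₀).subtype)).mkQ
            (LinearMap.range (LinearMap.baseChange (A i)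
              ((J₀ ^ n • (⊤ : Submodule B₀ M₀)).restrictScalars A₀).subtype))) := by
  obtain ⟨l, hl1, hl2, hl3⟩ := K132.GrStrat3.exists_list J₀ M₀ (⊥ : Ideal A₀)
  rw [List.pairwise_iff_getElem] at hl2
  refine ⟨l.length, fun i => K132.GrStrat3.Loc l[i], fun i => inferInstance, fun i => inferInstance,
    fun i => K132.GrStrat3.isImmersion _, ?_, ?_, ?_, ?_⟩
  · intro i j hij
    rw [K132.GrStrat3.range_specMap, K132.GrStrat3.range_specMap]
    refine Set.disjoint_left.mpr fun q hqi hqj => ?_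
    rcases lt_or_gt_of_ne hij with h | h
    · exact hqi.2 (hl2 i j i.2 j.2 h q hqj)
    · exact hqj.2 (hl2 j i j.2 i.2 h q hqi)
  · rw [Set.eq_univ_iff_forall]
    intro q
    obtain ⟨x, hx, hq⟩ := (hl1 q).mp bot_le
    obtain ⟨i, hi, rfl⟩ := List.getElem_of_mem hx
    rw [Set.mem_iUnion]
    refine ⟨⟨i, hi⟩, ?_⟩
    rw [K132.GrStrat3.range_specMap]
    exact hq
  · intro i
    refine ⟨(PrimeSpectrum.basicOpen (l[i]).1 : Set (PrimeSpectrum A₀)),
      (PrimeSpectrum.basicOpen (l[i]).1).isOpen, ?_⟩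
    simp only [K132.GrStrat3.range_specMap]
    ext q
    rw [Set.mem_inter_iff, Set.mem_iUnion]
    constructor
    · rintro ⟨hq, j, hj⟩
      rw [Set.mem_iUnion] at hj
      obtain ⟨hij, hj⟩ := hj
      rcases hij.lt_or_eq with h | h
      · exact absurd (hl2 i j i.2 j.2 h q hj) hq
      · rw [h]
        exact hj
    · intro hq
      refine ⟨hq.2, i, ?_⟩
      rw [Set.mem_iUnion]
      exact ⟨le_rfl, hq⟩
  · intro i n
    have hfl : ∀ m : ℕ, Module.Flat (K132.GrStrat3.Loc l[i]) (K132.GrStrat3.Loc l[i] ⊗[A₀]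
        (M₀ ⧸ ((J₀ ^ m • (⊤ : Submodule B₀ M₀)).restrictScalars A₀))) := by
      intro m
      have h1 := hl3 l[i] (List.getElem_mem _) m
      exact Module.Flat.of_linearEquiv (TensorProduct.AlgebraTensorModule.congr
        (LinearEquiv.refl _ _) (Submodule.Quotient.restrictScalarsEquiv A₀
          (J₀ ^ m • (⊤ : Submodule B₀ M₀))))
    have h1 := hfl n
    have h2 := hfl (n + 1)
    refine K132.GrStrat2.flat_map_mkQ M₀ (K132.GrStrat3.Loc l[i])
      ((J₀ ^ n • (⊤ : Submodule B₀ M₀)).restrictScalars A₀)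
      ((J₀ ^ (n + 1) • (⊤ : Submodule B₀ M₀)).restrictScalars A₀) ?_
    exact K132.GrStrat.pow_succ_smul_le J₀ M₀ n

end Groth.Agent.S12134
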