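import Groth.Statements.S12135
import Groth.Agent.Ega41.K105.Constr
import Mathlib.AlgebraicGeometry.Properties
import Mathlib.Topology.Maps.Proper.CompactlyGenerated

set_option autoImplicit false
universe u
open EGA41

namespace Groth.Agent.S12135

open Topology in
/-- The criterion for a proper map, with explicit topologies. -/
theorem isProperMap_iff {X Y : Type*} {tX : TopologicalSpace X} {tY : TopologicalSpace Y}
    (h2 : T2Space Y) (hc : WeaklyLocallyCompactSpace Y) (f : X → Y) :
    IsProperMap f ↔ Continuous f ∧ ∀ ⦃K⦄, IsCompact K → IsCompact (f ⁻¹' K) :=
  isProperMap_iff_isCompact_preimage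

open Topology in
theorem isClosed_preimage {X Y : Type*} {tX : TopologicalSpace X} {tY : TopologicalSpace Y}
    (h2 : T2Space Y) {f : X → Y} (hf : Continuous f) {K : Set Y} (hK : IsCompact K) :
    IsClosed (f ⁻¹' K) := hK.isClosed.preimage hf

open Topology in
theorem isCompact_of_subset {X : Type*} {tX : TopologicalSpace X} {K L : Set X}
    (hK : IsClosed K) (hL : IsCompact L) (h : K ⊆ L) : IsCompact K := hL.of_isClosed_subset hK h

open Topology in
theorem isCompact_of_le {X : Type*} {t t' : TopologicalSpace X} (h : t ≤ t') {K : Set X}
    (hK : @IsCompact X t K) : @IsCompact X t' K := by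
  have h1 := @IsCompact.image X X t t' K id hK (continuous_id_iff_le.2 h)
  rwa [Set.image_id] at h1

open Topology in
theorem constr_le {X : Type*} [t : TopologicalSpace X] [PrespectralSpace X] :
    constructibleTopology X ≤ t := by
  intro U hU
  refine Groth.Agent.Ega4fib.H121.ProConsBasic.isOpen_of_forall fun x hx => ?_
  obtain ⟨V, ⟨hVo, hVc⟩, hxV, hVU⟩ :=
    (PrespectralSpace.isTopologicalBasis (X := X)).exists_subset_of_mem_open hx hU
  exact ⟨V, hVU, K105.Constr.isOpen_constr hVo hVc, hxV⟩

open AlgebraicGeometry Topology in
/-- Let f : X → Y be a morphism of schemes with X and Y quasi-separated, and let X^cons, Y^cons denote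
the underlying sets with the constructible topology (generated by the quasi-compact open subsets and
their complements; for quasi-separated schemes the open sets are exactly the ind-constructible
subsets). Then f is quasi-compact if and only if the map X^cons → Y^cons underlying f is proper
(continuous and universally closed). (The published statement is for arbitrary schemes with the
ind-constructible topology; this row covers the quasi-separated case, where that topology is the one
used here.) -/
theorem result {X Y : Scheme.{u}} [QuasiSeparatedSpace X]
    [QuasiSeparatedSpace Y] (f : X ⟶ Y) :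
    QuasiCompact f ↔ @IsProperMap X Y (constructibleTopology X) (constructibleTopology Y) f := by
  rw [isProperMap_iff K105.Constr.t2Space_constr K105.Constr.weaklyLocallyCompact_constr]
  constructor
  · intro hf
    have hcont : @Continuous X Y (constructibleTopology X) (constructibleTopology Y) f := by
      refine continuous_generateFrom_iff.2 fun s hs => ?_
      rcases hs with ⟨hso, hsc⟩ | ⟨hso, hsc⟩
      · exact K105.Constr.isOpen_constr (hso.preimage f.continuous)
          (hf.isCompact_preimage s hso hsc)
      · apply IsCompact.isOpen_constructibleTopology_of_isClosed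
        · rw [← Set.preimage_compl]
          exact hf.isCompact_preimage sᶜ hso.isOpen_compl hsc
        · exact hso.preimage f.continuous
    refine ⟨hcont, fun K hK => ?_⟩
    have hcl := isClosed_preimage K105.Constr.t2Space_constr hcont hK
    -- cover `K` by finitely many compact opens
    have hbas := PrespectralSpace.isTopologicalBasis (X := Y)
    choose V hV hxV hVU using fun y : Y => hbas.exists_subset_of_mem_open (Set.mem_univ y) isOpen_univ
    obtain ⟨t, -, ht⟩ := @IsCompact.elim_nhds_subcover Y (constructibleTopology Y) K hK V
      (fun y _ => @IsOpen.mem_nhds Y (constructibleTopology Y) y (V y)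
        (K105.Constr.isOpen_constr (hV y).1 (hV y).2) (hxV y))
    have ho : IsOpen (⋃ y ∈ t, V y) := isOpen_biUnion fun y _ => (hV y).1
    have hc : IsCompact (⋃ y ∈ t, V y) := t.finite_toSet.isCompact_biUnion fun y _ => (hV y).2
    have hcc := K105.Constr.isCompact_constr (ho.preimage f.continuous)
      (hf.isCompact_preimage _ ho hc)
    exact @isCompact_of_subset X (constructibleTopology X) _ _ hcl hcc (Set.preimage_mono ht)
  · rintro ⟨-, h⟩
    refine ⟨fun V hVo hVc => ?_⟩
    have h1 := h (K105.Constr.isCompact_constr hVo hVc)
    exact isCompact_of_le constr_le h1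

end Groth.Agent.S12135
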