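import Groth.Statements.S12136
import Groth.Agent.Ega41.K105.AdicQuot2

set_option autoImplicit false
universe u
open TensorProduct KaehlerDifferential
open EGA41

namespace Groth.Agent.S12136

open K105.AdicQuot

theorem exists_equiv {B C' M : Type u} [CommRing B] [CommRing C'] [Algebra B C']
    [AddCommGroup M] [Module B M] (hs : Function.Surjective (algebraMap B C')) :
    ∃ e : C' ⊗[B] M ≃ₗ[B] M ⧸ (RingHom.ker (algebraMap B C') • ⊤ : Submodule B M),
      ∀ m : M, e (1 ⊗ₜ m) = Submodule.Quotient.mk m := by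
  let q : (B ⧸ RingHom.ker (Algebra.ofId B C')) ≃ₐ[B] C' :=
    Ideal.quotientKerAlgEquivOfSurjective (f := Algebra.ofId B C') hs
  let e : C' ⊗[B] M ≃ₗ[B] M ⧸ (RingHom.ker (algebraMap B C') • ⊤ : Submodule B M) :=
    (TensorProduct.congr q.symm.toLinearEquiv (LinearEquiv.refl B M)).trans
      (TensorProduct.quotTensorEquivQuotSMul M (RingHom.ker (algebraMap B C')))
  refine ⟨e, fun m => ?_⟩
  change TensorProduct.quotTensorEquivQuotSMul M (RingHom.ker (algebraMap B C')) (q.symm 1 ⊗ₜ m) = _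
  rw [map_one]
  exact TensorProduct.quotTensorEquivQuotSMul_mk_one_tmul _ _

theorem hasDer_iff {A B : Type u} [CommRing A] [CommRing B] [Algebra A B] (J : Ideal B)
    (Q : Ideal (B ⧸ J)) :
    HasDer A (RingHom.ker (algebraMap B (B ⧸ J))) (RingHom.ker (algebraMap B ((B ⧸ J) ⧸ Q))) ↔
      ∃ g : ((B ⧸ J) ⧸ Q) ⊗[B] ((B ⧸ J) ⊗[B] Ω[B⁄A]) →ₗ[(B ⧸ J) ⧸ Q]
          ((B ⧸ J) ⧸ Q) ⊗[B] (RingHom.ker (algebraMap B (B ⧸ J))).Cotangent,
        g ∘ₗ LinearMap.baseChange ((B ⧸ J) ⧸ Q) (KaehlerDifferential.kerCotangentToTensor A B (B ⧸ J)) =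
          LinearMap.id := by
  have hs : Function.Surjective (algebraMap B ((B ⧸ J) ⧸ Q)) := by
    intro c
    obtain ⟨c, rfl⟩ := Ideal.Quotient.mk_surjective c
    obtain ⟨c, rfl⟩ := Ideal.Quotient.mk_surjective c
    exact ⟨c, rfl⟩
  obtain ⟨e, he⟩ := exists_equiv (M := (RingHom.ker (algebraMap B (B ⧸ J))).Cotangent) hs
  constructor
  · rintro ⟨D, hD⟩
    let w' : Ω[B⁄A] →ₗ[B] ((B ⧸ J) ⧸ Q) ⊗[B] (RingHom.ker (algebraMap B (B ⧸ J))).Cotangent :=
      e.symm.toLinearMap ∘ₗ D.liftKaehlerDifferential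
    let w'' := w'.liftBaseChange (B ⧸ J)
    refine ⟨(w''.restrictScalars B).liftBaseChange ((B ⧸ J) ⧸ Q), ?_⟩
    ext x
    obtain ⟨y, rfl⟩ := Ideal.toCotangent_surjective _ x
    have h1 : w'' (KaehlerDifferential.kerCotangentToTensor A B (B ⧸ J)
        (Ideal.toCotangent _ y)) = 1 ⊗ₜ Ideal.toCotangent _ y := by
      rw [KaehlerDifferential.kerCotangentToTensor_toCotangent, LinearMap.liftBaseChange_tmul, one_smul]
      change e.symm (D.liftKaehlerDifferential (KaehlerDifferential.D A B y)) = _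
      rw [Derivation.liftKaehlerDifferential_comp_D, hD y y.2, LinearEquiv.symm_apply_eq, he]
    simp only [TensorProduct.AlgebraTensorModule.curry_apply, LinearMap.restrictScalars_self,
      TensorProduct.curry_apply, LinearMap.coe_restrictScalars, LinearMap.coe_comp,
      Function.comp_apply, LinearMap.baseChange_tmul, LinearMap.liftBaseChange_tmul, one_smul,
      LinearMap.id_coe, id_eq]
    exact h1
  · rintro ⟨g, hg⟩
    let f : Ω[B⁄A] →ₗ[B] (RingHom.ker (algebraMap B (B ⧸ J))).Cotangent ⧸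
        (RingHom.ker (algebraMap B ((B ⧸ J) ⧸ Q)) • ⊤ :
          Submodule B (RingHom.ker (algebraMap B (B ⧸ J))).Cotangent) :=
      e.toLinearMap ∘ₗ g.restrictScalars B ∘ₗ
        TensorProduct.mk B ((B ⧸ J) ⧸ Q) ((B ⧸ J) ⊗[B] Ω[B⁄A]) 1 ∘ₗ
          TensorProduct.mk B (B ⧸ J) Ω[B⁄A] 1
    refine ⟨f.compDer (KaehlerDifferential.D A B), fun x hx => ?_⟩
    change e (g (1 ⊗ₜ (1 ⊗ₜ KaehlerDifferential.D A B x))) = _
    have h1 := LinearMap.congr_fun hg (1 ⊗ₜ Ideal.toCotangent _ ⟨x, hx⟩)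
    rw [LinearMap.comp_apply, LinearMap.baseChange_tmul,
      KaehlerDifferential.kerCotangentToTensor_toCotangent, LinearMap.id_apply] at h1
    rw [h1, he]

/-- In the Noetherian adic case, which the published statement itself singles out, let A → B be a ring
homomorphism with B Noetherian, I and J ideals of B, and suppose B, with the I-adic topology, is
formally smooth over the discrete ring A. Put C = B/J with the quotient (IC-adic) topology and let Q
be an ideal of definition of C, i.e. an ideal containing a power of IC and a power of which lies in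
IC. Then C is formally smooth over A for the IC-adic topology if and only if the C/Q-linear map
(J/J²) ⊗ (C/Q) → Ω_{B/A} ⊗_B (C/Q), obtained by base change from the conormal map J/J² → Ω_{B/A} ⊗_B
C, x ↦ 1 ⊗ dx, has a C/Q-linear left inverse (is an isomorphism onto a direct summand). Here J is
written as the kernel of B → C and the tensor products are taken over B, which for these C-modules
is the same as over C. (The published statement allows A to be any topological ring with A → B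
continuous; this row takes A discrete.) -/
theorem result {A B : Type u} [CommRing A]
    [CommRing B] [Algebra A B] [IsNoetherianRing B] (I J : Ideal B) (hB : CAlgX.IsAdicFormallySmooth A B I)
    (Q : Ideal (B ⧸ J)) (hQ : ∃ n : ℕ, (I.map (Ideal.Quotient.mk J)) ^ n ≤ Q)
    (hQ' : ∃ m : ℕ, Q ^ m ≤ I.map (Ideal.Quotient.mk J)) :
    CAlgX.IsAdicFormallySmooth A (B ⧸ J) (I.map (Ideal.Quotient.mk J)) ↔
      ∃ g : ((B ⧸ J) ⧸ Q) ⊗[B] ((B ⧸ J) ⊗[B] Ω[B⁄A]) →ₗ[(B ⧸ J) ⧸ Q]
          ((B ⧸ J) ⧸ Q) ⊗[B] (RingHom.ker (algebraMap B (B ⧸ J))).Cotangent,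
        g ∘ₗ LinearMap.baseChange ((B ⧸ J) ⧸ Q) (KaehlerDifferential.kerCotangentToTensor A B (B ⧸ J)) =
          LinearMap.id := by
  obtain ⟨n, hn⟩ := hQ
  obtain ⟨m, hm⟩ := hQ'
  rw [← hasDer_iff]
  have hK : RingHom.ker (algebraMap B (B ⧸ J)) = J := Ideal.mk_ker
  rw [hK]
  have hmem : ∀ x, x ∈ RingHom.ker (algebraMap B ((B ⧸ J) ⧸ Q)) ↔ Ideal.Quotient.mk J x ∈ Q := fun x =>
    Ideal.Quotient.eq_zero_iff_mem (a := Ideal.Quotient.mk J x)
  have hJq : J ≤ RingHom.ker (algebraMap B ((B ⧸ J) ⧸ Q)) := fun x hx => by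
    rw [hmem, Ideal.Quotient.eq_zero_iff_mem.2 hx]
    exact zero_mem Q
  have hnq : ∀ k ≥ n, I ^ k ≤ RingHom.ker (algebraMap B ((B ⧸ J) ⧸ Q)) := fun k hk x hx => by
    rw [hmem]
    apply hn
    rw [← Ideal.map_pow]
    exact Ideal.mem_map_of_mem _ (Ideal.pow_le_pow_right hk hx)
  constructor
  · intro h
    exact K105.AdicQuot2.hasDer_of_isAdicFormallySmooth h hJq n (hnq n le_rfl)
  · intro h
    refine isAdicFormallySmooth_quotient hB n fun k hk => ?_
    refine HasDer.of_le hB le_sup_left (sup_le hJq (hnq k hk)) k le_sup_right (m * k) ?_ h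
    have h1 : RingHom.ker (algebraMap B ((B ⧸ J) ⧸ Q)) = Q.comap (Ideal.Quotient.mk J) := by
      ext x
      exact hmem x
    rw [h1]
    refine (Ideal.le_comap_pow _ (m * k)).trans ?_
    have h2 : Q ^ (m * k) ≤ (I ^ k).map (Ideal.Quotient.mk J) := by
      rw [pow_mul, Ideal.map_pow]
      exact Ideal.pow_right_mono hm k
    refine (Ideal.comap_mono h2).trans ?_
    intro x hx
    rw [Ideal.mem_comap, Ideal.mem_map_iff_of_surjective _ Ideal.Quotient.mk_surjective] at hx
    obtain ⟨y, hy, hxy⟩ := hx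
    have h3 : x - y ∈ J := Ideal.Quotient.eq.1 hxy.symm
    have h4 : x = (x - y) + y := by ring
    rw [h4]
    exact Submodule.add_mem_sup h3 hy

end Groth.Agent.S12136
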