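import Groth.Statements.S12160
import Groth.Agent.EGA2.K42.Dominant

set_option autoImplicit false
universe u
open CategoryTheory CategoryTheory.Limits AlgebraicGeometry TopologicalSpace Opposite
open scoped HomogeneousIdeal
noncomputable section
open EGA2

namespace Groth.Agent.S12160

/-- Let Y be a quasi-compact scheme, q : X → Y a quasi-compact morphism, L an invertible O_X-module with
𝒮L = ⊕ L^{⊗n} (whose Proj is X), 𝒮 = colim 𝒮^i a filtered colimit of quasi-coherent positively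
graded O_Y-algebras along graded homomorphisms φ_i : 𝒮^i → 𝒮 (colimit taken on sections over affine
opens), ψ♭ = u : 𝒮 → q_*𝒮L a graded q-morphism and ψ_i♭ = u ∘ φ_i; let r = r_{L,ψ} : G(ψ) → Proj(𝒮)
and r_i = r_{L,ψ_i} : G(ψ_i) → Proj(𝒮^i). If all the r_i are dominant then r is dominant; the
converse holds when the φ_i are injective. -/
theorem result {Y X P PL : Scheme.{u}} (q : X ⟶ Y)
    (L : X.Modules) (hL : PicF.IsInvertible L) (hLq : Coh.IsQCoh L)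
    (𝒮 : RelProj.QCGrAlg Y) (𝒮L : RelProj.QCGrAlg X) (j : L ⟶ 𝒮L.toModule) (hj : RelProj.IsGrSymAlg L 𝒮L j)
    (u : RelProj.QGrHom q 𝒮 𝒮L)
    (p : P ⟶ Y) (chart : ∀ (U : Y.Opens) (hU : IsAffineOpen U), (((p ⁻¹ᵁ U : P.Opens) : Scheme.{u}) ≅ Proj (𝒮.deg U hU)))
    (hP : RelProj.IsRelProj 𝒮 p chart)
    (pL : PL ⟶ X) (chartL : ∀ (U : X.Opens) (hU : IsAffineOpen U), (((pL ⁻¹ᵁ U : PL.Opens) : Scheme.{u}) ≅ Proj (𝒮L.deg U hU)))
    (hPL : RelProj.IsRelProj 𝒮L pL chartL)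
    [CompactSpace Y] [QuasiCompact q]
    (r : ((RelProj.domQ u pL chartL : PL.Opens) : Scheme.{u}) ⟶ P)
    (hr : RelProj.IsProjQMapOn u p chart pL chartL (RelProj.domQ u pL chartL) r)
    (Λ : Type u) [Preorder Λ] [IsDirected Λ (· ≤ ·)] [Nonempty Λ]
    (𝒮i : Λ → RelProj.QCGrAlg Y) (φ : ∀ i, (𝒮i i).toQCAlg ⟶ 𝒮.toQCAlg) (hφ : ∀ i, RelProj.IsGradedHom (φ i))
    (t : ∀ i j, i ≤ j → ((𝒮i i).toQCAlg ⟶ (𝒮i j).toQCAlg)) (ht : ∀ i j (h : i ≤ j), RelProj.IsGradedHom (t i j h))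
    (hφt : ∀ i j (h : i ≤ j), t i j h ≫ φ j = φ i)
    (hsurj : ∀ (U : Y.Opens), IsAffineOpen U → ∀ x : 𝒮.presheaf.obj (op U),
      ∃ (i : Λ) (y : (𝒮i i).presheaf.obj (op U)), ((φ i).hom.app (op U)).hom y = x)
    (hker : ∀ (U : Y.Opens), IsAffineOpen U → ∀ (i : Λ) (y : (𝒮i i).presheaf.obj (op U)),
      ((φ i).hom.app (op U)).hom y = 0 → ∃ (j : Λ) (h : i ≤ j), ((t i j h).hom.app (op U)).hom y = 0)
    (ui : ∀ i, RelProj.QGrHom q (𝒮i i) 𝒮L) (hui : ∀ i (U : Y.Opens), (ui i).app U = (φ i).hom.app (op U) ≫ u.app U)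
    (Pi : Λ → Scheme.{u}) (pi : ∀ i, Pi i ⟶ Y)
    (charti : ∀ i (U : Y.Opens) (hU : IsAffineOpen U), ((((pi i) ⁻¹ᵁ U : (Pi i).Opens) : Scheme.{u}) ≅ Proj ((𝒮i i).deg U hU)))
    (hPi : ∀ i, RelProj.IsRelProj (𝒮i i) (pi i) (charti i))
    (ri : ∀ i, ((RelProj.domQ (ui i) pL chartL : PL.Opens) : Scheme.{u}) ⟶ Pi i)
    (hri : ∀ i, RelProj.IsProjQMapOn (ui i) (pi i) (charti i) pL chartL (RelProj.domQ (ui i) pL chartL) (ri i)) :
    ((∀ i, IsDominant (ri i)) → IsDominant r) ∧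
      ((∀ i (U : Y.Opens), IsAffineOpen U → Function.Injective ((φ i).hom.app (op U)).hom) →
        IsDominant r → ∀ i, IsDominant (ri i)) := by
  classical
  have hcov : ∀ s : Y, ∃ U ∈ (Set.univ : Set Y.affineOpens), s ∈ (U : Y.Opens) := fun s => by
    obtain ⟨U, hU, hsU, -⟩ := exists_isAffineOpen_mem_and_subset (x := s) (U := ⊤) trivial
    exact ⟨⟨U, hU⟩, trivial, hsU⟩
  have hval : ∀ (i : Λ) (U : Y.Opens) (hU : IsAffineOpen U) (U' : X.Opens) (hU' : IsAffineOpen U')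
      (hle : U' ≤ q ⁻¹ᵁ U) (y : (𝒮i i).presheaf.obj (op U)),
      (ui i).gradedAt U hU U' hU' hle y = u.gradedAt U hU U' hU' hle (((φ i).hom.app (op U)).hom y) := by
    intro i U hU U' hU' hle y
    rw [RelProj.QGrHom.gradedAt_apply, RelProj.QGrHom.gradedAt_apply, RelSpec.QHom.appLE, RelSpec.QHom.appLE, hui i U]
    rfl
  constructor
  · intro hi
    rw [K42.Dominant.isDominant_iff u hP hPL hr Set.univ hcov]
    intro U _ d hd f hf hnil
    obtain ⟨i, y, hy⟩ := hsurj U.1 U.2 f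
    have hy' : ((φ i).hom.app (op U.1)).hom (DirectSum.decompose ((𝒮i i).deg U.1 U.2) y d : (𝒮i i).presheaf.obj (op U.1)) = f := by
      have h2 : RelProj.gradedHomAt (φ i) (hφ i) U.1 U.2 y = f := hy
      change RelProj.gradedHomAt (φ i) (hφ i) U.1 U.2 (DirectSum.decompose ((𝒮i i).deg U.1 U.2) y d : (𝒮i i).presheaf.obj (op U.1)) = f
      rw [GradedRingHom.map_directSumDecompose, h2, DirectSum.decompose_of_mem_same _ hf]
    have hn := (K42.Dominant.isDominant_iff (ui i) (hPi i) hPL (hri i) Set.univ hcov).mp (hi i) U trivial d hd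
      (DirectSum.decompose ((𝒮i i).deg U.1 U.2) y d : (𝒮i i).presheaf.obj (op U.1)) (SetLike.coe_mem _)
      (fun U' hU' hle => by rw [hval, hy']; exact hnil U' hU' hle)
    rw [← hy']
    exact hn.map ((φ i).hom.app (op U.1)).hom
  · intro hinj hdom i
    rw [K42.Dominant.isDominant_iff (ui i) (hPi i) hPL (hri i) Set.univ hcov]
    intro U _ d hd f hf hnil
    have hn := (K42.Dominant.isDominant_iff u hP hPL hr Set.univ hcov).mp hdom U trivial d hd
      (((φ i).hom.app (op U.1)).hom f) (hφ i U.1 U.2 d f hf)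
      (fun U' hU' hle => by rw [← hval]; exact hnil U' hU' hle)
    obtain ⟨n, hn⟩ := hn
    refine ⟨n, hinj i U.1 U.2 ?_⟩
    rw [map_pow, map_zero]; exact hn

end Groth.Agent.S12160
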