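import Groth.Statements.S12162
import Groth.Agent.EGA2.K41.GenSub
import Groth.Agent.EGA2.K41.RVAPack
import Groth.Agent.EGA2.K42.FamFin
import Groth.Agent.EGA2.K34.FtSub

set_option autoImplicit false
universe u
open CategoryTheory CategoryTheory.Limits AlgebraicGeometry TopologicalSpace Opposite
open scoped HomogeneousIdeal
noncomputable section
open EGA2

namespace Groth.Agent.S12162

/-- Let Y be a quasi-compact separated scheme or a scheme with Noetherian underlying space, q : X → Y a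
morphism of finite type, L an invertible O_X-module with 𝒮L = ⊕ L^{⊗n} (whose Proj is X), 𝒮 a
quasi-coherent positively graded O_Y-algebra, ψ♭ = u : 𝒮 → q_*𝒮L a graded q-morphism and r = r_{L,ψ}
: G(ψ) → Proj(𝒮). Then r is everywhere defined and an immersion if and only if there are n > 0 and a
quasi-coherent sub-O_Y-module E ⊆ 𝒮_n of finite type such that (a) q^*(E) → L^{⊗n} (induced by ψ_n)
is surjective and (b) for the graded sub-algebra 𝒮' of 𝒮 generated by E and ψ' = ψ ∘ q^*(𝒮' ⊆ 𝒮),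
r_{L,ψ'} is everywhere defined and an immersion. (Here E is written as the degree-n part of 𝒮',
which it equals; 𝒮' is given abstractly with an injective graded homomorphism into 𝒮 and degree-zero
part the image of O_Y; surjectivity in (a) is stated stalkwise: every point of X has an affine
neighbourhood V over which some section of E generates L^{⊗n}.) -/
theorem result {Y X P PL : Scheme.{u}} (q : X ⟶ Y)
    (L : X.Modules) (hL : PicF.IsInvertible L) (hLq : Coh.IsQCoh L)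
    (𝒮 : RelProj.QCGrAlg Y) (𝒮L : RelProj.QCGrAlg X) (j : L ⟶ 𝒮L.toModule) (hj : RelProj.IsGrSymAlg L 𝒮L j)
    (u : RelProj.QGrHom q 𝒮 𝒮L)
    (p : P ⟶ Y) (chart : ∀ (U : Y.Opens) (hU : IsAffineOpen U), (((p ⁻¹ᵁ U : P.Opens) : Scheme.{u}) ≅ Proj (𝒮.deg U hU)))
    (hP : RelProj.IsRelProj 𝒮 p chart)
    (pL : PL ⟶ X) (chartL : ∀ (U : X.Opens) (hU : IsAffineOpen U), (((pL ⁻¹ᵁ U : PL.Opens) : Scheme.{u}) ≅ Proj (𝒮L.deg U hU)))
    (hPL : RelProj.IsRelProj 𝒮L pL chartL)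
    (r : ((RelProj.domQ u pL chartL : PL.Opens) : Scheme.{u}) ⟶ P)
    (hr : RelProj.IsProjQMapOn u p chart pL chartL (RelProj.domQ u pL chartL) r)
    (hYs : (CompactSpace Y ∧ Y.IsSeparated) ∨ NoetherianSpace Y) [QuasiCompact q] [LocallyOfFiniteType q] :
    (RelProj.domQ u pL chartL = ⊤ ∧ IsImmersion r) ↔
      ∃ (n : ℕ) (_ : 0 < n) (𝒮' : RelProj.QCGrAlg Y) (j' : 𝒮'.toQCAlg ⟶ 𝒮.toQCAlg) (_ : RelProj.IsGradedHom j')
        (_ : ∀ (U : Y.Opens), IsAffineOpen U → Function.Injective (j'.hom.app (op U)).hom)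
        (_ : ∀ (U : Y.Opens) (hU : IsAffineOpen U),
          ((𝒮'.deg U hU 0 : AddSubgroup (𝒮'.presheaf.obj (op U))) : Set (𝒮'.presheaf.obj (op U))) =
            Set.range (𝒮'.str.app (op U)).hom)
        (_ : ∀ (U : Y.Opens) (hU : IsAffineOpen U),
          Subring.closure (((𝒮'.deg U hU 0 : AddSubgroup (𝒮'.presheaf.obj (op U))) : Set (𝒮'.presheaf.obj (op U))) ∪
            ((𝒮'.deg U hU n : AddSubgroup (𝒮'.presheaf.obj (op U))) : Set (𝒮'.presheaf.obj (op U)))) = ⊤)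
        (_ : 𝒮'.IsFTDeg n)
        (u' : RelProj.QGrHom q 𝒮' 𝒮L) (_ : ∀ U : Y.Opens, u'.app U = j'.hom.app (op U) ≫ u.app U),
        (∀ x : X, ∃ (U : Y.Opens) (hU : IsAffineOpen U) (e : 𝒮'.presheaf.obj (op U)) (_ : e ∈ 𝒮'.deg U hU n)
            (V : X.Opens) (hV : IsAffineOpen V) (hVU : V ≤ q ⁻¹ᵁ U), x ∈ V ∧
              ((𝒮L.deg V hV n : AddSubgroup (𝒮L.presheaf.obj (op V))) : Set (𝒮L.presheaf.obj (op V))) ⊆
                (Ideal.span {(u'.appLE U V hVU).hom e} : Set (𝒮L.presheaf.obj (op V)))) ∧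
        (∀ (P' : Scheme.{u}) (p' : P' ⟶ Y)
            (chart' : ∀ (U : Y.Opens) (hU : IsAffineOpen U), (((p' ⁻¹ᵁ U : P'.Opens) : Scheme.{u}) ≅ Proj (𝒮'.deg U hU)))
            (_ : RelProj.IsRelProj 𝒮' p' chart')
            (r' : ((RelProj.domQ u' pL chartL : PL.Opens) : Scheme.{u}) ⟶ P')
            (_ : RelProj.IsProjQMapOn u' p' chart' pL chartL (RelProj.domQ u' pL chartL) r'),
          RelProj.domQ u' pL chartL = ⊤ ∧ IsImmersion r') := by
  classical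
  have hB := K41.SymLine.isLineAlg hL hLq hj
  constructor
  · rintro ⟨htop, himm⟩
    obtain ⟨hc1, hc2⟩ := K41.RVAPack.qcqs_of hYs
    obtain ⟨F, hF, haff, hcov⟩ := K41.RColim2.exists_finite_affine_cover Y
    have : Finite F := hF
    have : Fintype F := Fintype.ofFinite F
    have h1 : ∀ U : F, ∃ (N₀ : ℕ) (_ : 0 < N₀), ∀ N : ℕ, 0 < N → N₀ ∣ N →
        ∃ G : Set (𝒮.presheaf.obj (op U.1)), G.Finite ∧ (∀ x ∈ G, x ∈ 𝒮.deg U.1 (haff _ U.2) N) ∧
        ∀ (𝒯 : RelProj.QCGrAlg Y) (v : 𝒯.toQCAlg ⟶ 𝒮.toQCAlg) (_ : RelProj.IsGradedHom v)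
          (u' : RelProj.QGrHom q 𝒯 𝒮L) (_ : ∀ U : Y.Opens, u'.app U = v.hom.app (op U) ≫ u.app U),
          (∀ x ∈ G, ∃ y ∈ 𝒯.deg U.1 (haff _ U.2) N, (v.hom.app (op U.1)).hom y = x) →
            ∃ (κ : Type u) (t : κ → 𝒯.presheaf.obj (op U.1)), K41.RImm.Fam u' U.1 (haff _ U.2) (fun _ => N) t := by
      intro U
      obtain ⟨ι, n, s, hFam⟩ := K41.RImm.exists_fam_imm u hP hPL hB hr htop himm U.1 (haff _ U.2)
      exact K42.FamFin.exists_finite u hB (q.isCompact_preimage (haff _ U.2).isCompact) hFam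
    choose N₀ hN₀ h1 using h1
    have hN : 0 < ∏ U : F, N₀ U := Finset.prod_pos fun U _ => hN₀ U
    choose G hGfin hGdeg hG using fun U => h1 U (∏ U : F, N₀ U) hN (Finset.dvd_prod_of_mem N₀ (Finset.mem_univ U))
    generalize hNe : (∏ U : F, N₀ U) = N at *
    have : ∀ U, Finite (G U) := fun U => hGfin U
    choose s hs using fun (k : Σ U : F, G U) => K43.Piece.exists_pieceι 𝒮 N (haff _ k.1.2) (hGdeg k.1 k.2.1 k.2.2)
    obtain ⟨E, i, hmono, hE, hft, ht⟩ := K34.FtSub.exists_ft_sub (K43.Piece.isQCoh_piece 𝒮 N)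
      (fun k : Σ U : F, G U => k.1.1) (fun k => haff _ k.1.2) s
    have hi : ∀ (U : Y.Opens) (hU : IsAffineOpen U) (e : Γ(E, U)),
        K36.SymAlg.jApp E 𝒮.toQCAlg (i ≫ K43.Piece.pieceι 𝒮 N) U e ∈ 𝒮.deg U hU N := fun U hU e =>
      K43.Piece.pieceι_mem 𝒮 N hU (i.app U e)
    obtain ⟨𝒮', j', hj', hinj, h0, hgen, hft', hlift⟩ := K41.GenSub.exists_genSub hE (i ≫ K43.Piece.pieceι 𝒮 N) hN hi
    have hFam : ∀ U : F, ∃ (κ : Type u) (t : κ → 𝒮'.presheaf.obj (op U.1)),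
        K41.RImm.Fam (K41.SymExt2.compHom j' hj' u) U.1 (haff _ U.2) (fun _ => N) t := by
      intro U
      refine hG U 𝒮' j' hj' (K41.SymExt2.compHom j' hj' u) (fun U => rfl) fun x hx => ?_
      obtain ⟨t, htt⟩ := ht ⟨U, x, hx⟩
      obtain ⟨y, hy, hyt⟩ := hlift U.1 (haff _ U.2) t
      refine ⟨y, hy, hyt.trans ?_⟩
      have h2 : K43.CanMap.jv (K43.Piece.pieceι 𝒮 N) (s ⟨U, x, hx⟩) = x := hs ⟨U, x, hx⟩
      refine Eq.trans ?_ h2
      rw [← htt]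
      rfl
    choose κ t hFt using hFam
    refine ⟨N, hN, 𝒮', j', hj', hinj, h0, hgen, hft' hft, K41.SymExt2.compHom j' hj' u, fun U => rfl, fun x => ?_, ?_⟩
    · obtain ⟨U, hU, hxU⟩ := hcov (q.base x)
      obtain ⟨a, ha⟩ := (hFt ⟨U, hU⟩).cov x hxU
      obtain ⟨V, hV, hVU, hxV, H⟩ := K41.NV.mem_nv.mp ha
      exact ⟨U, haff _ hU, t ⟨U, hU⟩ a, (hFt ⟨U, hU⟩).mem a, V, hV, hVU, hxV, H⟩
    · intro P' p' chart' hP' r' hr'
      refine K41.RImm.isImmersion_of_fam _ hP' hPL hB hr' fun y => ?_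
      obtain ⟨U, hU, hy⟩ := hcov y
      exact ⟨U, haff _ hU, _, _, _, hy, hFt ⟨U, hU⟩⟩
  · rintro ⟨n, hn, 𝒮', j', hj', -, -, -, -, u', hu', -, H⟩
    have hP' := K35.RelProjExists.isRelProj 𝒮'
    obtain ⟨r', hr'⟩ := K40.QGlue.exists_isProjQMapOn (u := u') hP' hPL
    obtain ⟨htop, himm⟩ := H _ _ _ hP' r' hr'
    refine K41.RImm.isImmersion_of_fam u hP hPL hB hr fun y => ?_
    obtain ⟨U, hU, hy, -⟩ := exists_isAffineOpen_mem_and_subset (x := y) (U := ⊤) trivial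
    obtain ⟨ι, m, s, hFam⟩ := K41.RImm.exists_fam_imm u' hP' hPL hB hr' htop himm U hU
    exact ⟨U, hU, ι, m, _, hy, K41.RComp.fam_comp u j' hj' u' hu' hFam⟩

end Groth.Agent.S12162
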