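import Groth.Statements.S12189
import Groth.Agent.AlgSp.K648.FGSp

set_option autoImplicit false
universe u
open CategoryTheory CategoryTheory.Limits AlgebraicGeometry
open AlgSp

namespace Groth.Agent.S12189

/-- Let f : Y → X be a quasi-compact quasi-separated morphism of algebraic spaces over S, Z → X a closed
immersion of finite presentation such that f⁻¹Z → Z is an isomorphism and f is flat at every point
of |f⁻¹Z|, U → X the open immersion onto the complement of Z, and V = U ×_X Y. Given affine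
morphisms U' → U, V' → V, Y' → Y of algebraic spaces together with cartesian squares making V' the
base change of U' along V → U and of Y' along V → Y, there exist an affine morphism X' → X and
morphisms U' → X', Y' → X' over X making U' = U ×_X X' and Y' = Y ×_X X' (cartesian squares) and
inducing the same morphism V' → X'. -/
theorem result {S : Scheme.{u}} {X Y Z FZ U V : AlgSp.Space S} (f : Y ⟶ X)
    (hqc : AlgSp.IsQuasiCompactMor f.hom) (hqs : AlgSp.IsQuasiSeparatedMor f.hom) (i : Z ⟶ X)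
    (hi : AlgSp.RepWith @IsClosedImmersion i.hom) (hifp : AlgSp.LocP @LocallyOfFinitePresentation i.hom)
    (iY : FZ ⟶ Y) (fZ : FZ ⟶ Z) (hFZ : IsPullback iY.hom fZ.hom f.hom i.hom) [IsIso fZ]
    (hflat : ∀ y ∈ Set.range (AlgSp.Points.map iY.hom), AlgSp.IsFlatAtMor f.hom y) (j : U ⟶ X)
    (hj : AlgSp.RepWith @IsOpenImmersion j.hom)
    (hU : Set.range (AlgSp.Points.map j.hom) = (Set.range (AlgSp.Points.map i.hom))ᶜ)
    (jV : V ⟶ Y) (fV : V ⟶ U) (hV : IsPullback jV.hom fV.hom f.hom j.hom)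
    {U' V' Y' : AlgSp.Space S} (pU : U' ⟶ U) (pV : V' ⟶ V) (pY : Y' ⟶ Y)
    (eU : V' ⟶ U') (eY : V' ⟶ Y') (hU' : IsPullback eU.hom pV.hom pU.hom fV.hom)
    (hY' : IsPullback eY.hom pV.hom pY.hom jV.hom)
    (hpU : AlgSp.IsAffineMor pU.hom) (hpV : AlgSp.IsAffineMor pV.hom) (hpY : AlgSp.IsAffineMor pY.hom) :
    ∃ (X' : AlgSp.Space S) (p : X' ⟶ X) (aU : U' ⟶ X') (aY : Y' ⟶ X'),
      AlgSp.IsAffineMor p.hom ∧ IsPullback aU.hom pU.hom p.hom j.hom ∧
        IsPullback aY.hom pY.hom p.hom f.hom ∧ eU ≫ aU = eY ≫ aY := by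
  rw [K597.Affine.isAffineMor_iff] at hpU hpY
  obtain ⟨X', p, aU, aY, h1, h2, h3, h4⟩ := K648.FGSp.exists_glue f i hi hifp iY fZ hFZ hflat j hj hU jV fV hV pU pV
    pY eU eY hU' hY' hpU hpY
  exact ⟨X', p, aU, aY, (K597.Affine.isAffineMor_iff).2 h1, h2, h3, h4⟩

end Groth.Agent.S12189
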