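import Groth.Statements.S12192
import Groth.Agent.AlgSp.K635.Modif
-- import your own Groth.Agent.* helpers here

set_option autoImplicit false
universe u
open CategoryTheory CategoryTheory.Limits AlgebraicGeometry
open AlgSp

namespace Groth.Agent.S12192

/-- Let f : Y' → Y be a proper morphism between algebraic spaces over the scheme S, i : Z → Y a closed
immersion, E = Z ×_Y Y', and assume f is an isomorphism over the open complement of Z. Let V₁, V₂ be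
etale over Y, with base changes V₁', V₂' to Y' and W₁, W₂ to Z, and let P₁ be the base change of V₁
to E (through both V₁' and W₁). Then a morphism m' : V₁' → V₂' over Y' and a morphism n : W₁ → W₂
over Z inducing the same morphism P₁ → V₂ are the base changes of exactly one morphism V₁ → V₂ over
Y. (The published statement asserts that the functor sending a space etale over Y to its base
changes to Y' and to Z, glued along E, is an equivalence of categories onto such glueing data; this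
row states that it is fully faithful.) -/
theorem result {S : Scheme.{u}}
    {Y Y' Z E U U' V₁ V₂ V₁' V₂' W₁ W₂ P₁ : AlgSp.Space S} (f : Y' ⟶ Y)
    (hf : AlgSp.IsProperMor f.hom) (i : Z ⟶ Y) (hi : AlgSp.RepWith @IsClosedImmersion i.hom) (j : E ⟶ Y')
    (g : E ⟶ Z) (hE : IsPullback j.hom g.hom f.hom i.hom) (jU : U ⟶ Y)
    (hjU : AlgSp.RepWith @IsOpenImmersion jU.hom)
    (hU : Set.range (AlgSp.Points.map jU.hom) = (Set.range (AlgSp.Points.map i.hom))ᶜ) (fU : U' ⟶ U)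
    (jU' : U' ⟶ Y') (hU' : IsPullback jU'.hom fU.hom f.hom jU.hom) [IsIso fU]
    (v₁ : V₁ ⟶ Y) (v₂ : V₂ ⟶ Y) (hv₁ : AlgSp.IsEtaleMor v₁.hom) (hv₂ : AlgSp.IsEtaleMor v₂.hom)
    (a₁ : V₁' ⟶ V₁) (p₁ : V₁' ⟶ Y') (ha₁ : IsPullback a₁.hom p₁.hom v₁.hom f.hom)
    (a₂ : V₂' ⟶ V₂) (p₂ : V₂' ⟶ Y') (ha₂ : IsPullback a₂.hom p₂.hom v₂.hom f.hom)
    (b₁ : W₁ ⟶ V₁) (q₁ : W₁ ⟶ Z) (hb₁ : IsPullback b₁.hom q₁.hom v₁.hom i.hom)
    (b₂ : W₂ ⟶ V₂) (q₂ : W₂ ⟶ Z) (hb₂ : IsPullback b₂.hom q₂.hom v₂.hom i.hom)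
    (r₁ : P₁ ⟶ V₁') (s₁ : P₁ ⟶ W₁) (e₁ : P₁ ⟶ E)
    (hr₁ : IsPullback r₁.hom e₁.hom p₁.hom j.hom) (hs₁ : IsPullback s₁.hom e₁.hom q₁.hom g.hom)
    (hP₁ : r₁ ≫ a₁ = s₁ ≫ b₁)
    (m' : V₁' ⟶ V₂') (hm' : m' ≫ p₂ = p₁) (n : W₁ ⟶ W₂) (hn : n ≫ q₂ = q₁)
    (hmn : r₁ ≫ m' ≫ a₂ = s₁ ≫ n ≫ b₂) :
    ∃! m : V₁ ⟶ V₂, m ≫ v₂ = v₁ ∧ a₁ ≫ m = m' ≫ a₂ ∧ b₁ ≫ m = n ≫ b₂ := by
  have hiM : Mono i.hom := K610.Factor.mono_of_isClosedImmersion hi
  have hb₁m : Mono b₁.hom := MorphismProperty.of_isPullback (P := MorphismProperty.monomorphisms (Sp S))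
    hb₁.flip hiM
  have hr₁w : r₁.hom ≫ p₁.hom = e₁.hom ≫ j.hom := hr₁.w
  have hPw : r₁.hom ≫ a₁.hom = s₁.hom ≫ b₁.hom := congrArg (·.hom) hP₁
  -- `P₁` is the fibre product of `V₁'` and `W₁` over `V₁`
  have hP : IsPullback s₁.hom r₁.hom b₁.hom a₁.hom := by
    have big : IsPullback s₁.hom (e₁.hom ≫ j.hom) (q₁.hom ≫ i.hom) f.hom := hs₁.paste_vert hE.flip
    rw [← hr₁w, ← hb₁.w] at big
    exact IsPullback.of_bot big hPw.symm ha₁
  have hm'₁ : m'.hom ≫ p₂.hom = p₁.hom := congrArg (·.hom) hm'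
  have hn₁ : n.hom ≫ q₂.hom = q₁.hom := congrArg (·.hom) hn
  have hmn₁ : r₁.hom ≫ m'.hom ≫ a₂.hom = s₁.hom ≫ n.hom ≫ b₂.hom := congrArg (·.hom) hmn
  have hfU : IsIso fU.hom := inferInstanceAs (IsIso ((ObjectProperty.ι (IsAlgSpace (S := S))).map fU))
  have hcase : ∀ y : Points Y.obj, y ∈ Set.range (Points.map jU.hom) ∨ y ∈ Set.range (Points.map i.hom) := by
    intro y
    by_cases h : y ∈ Set.range (Points.map i.hom)
    · exact Or.inr h
    · exact Or.inl (hU ▸ h)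
  have hcov : ∀ x : Points V₁.obj, x ∈ Set.range (Points.map a₁.hom) ∨ x ∈ Set.range (Points.map b₁.hom) := by
    intro x
    rcases hcase (Points.map v₁.hom x) with h | h
    · exact Or.inl (K635.Modif.mem_range_of_isPullback ha₁.flip.flip x
        (K635.Modif.mem_range_of_iso_over hU' hfU _ h))
    · exact Or.inr (K635.Modif.mem_range_of_isPullback hb₁ x h)
  have hva : m'.hom ≫ a₂.hom ≫ v₂.hom = a₁.hom ≫ v₁.hom := by
    rw [ha₂.w, ← Category.assoc, hm'₁, ha₁.w]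
  have hvb : n.hom ≫ b₂.hom ≫ v₂.hom = b₁.hom ≫ v₁.hom := by
    rw [hb₂.w, ← Category.assoc, hn₁, hb₁.w]
  have hab : ∀ (R : Sp S) (p : R ⟶ V₁'.obj) (q : R ⟶ W₁.obj), p ≫ a₁.hom = q ≫ b₁.hom →
      p ≫ m'.hom ≫ a₂.hom = q ≫ n.hom ≫ b₂.hom := by
    intro R p q h
    have h1 := hP.lift_snd q p h.symm
    have h2 := hP.lift_fst q p h.symm
    rw [← h1, Category.assoc, hmn₁, ← Category.assoc, h2]
  have haa : ∀ (R : Sp S) (p q : R ⟶ V₁'.obj), p ≫ a₁.hom = q ≫ a₁.hom →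
      p ≫ m'.hom ≫ a₂.hom = q ≫ m'.hom ≫ a₂.hom := by
    intro R p q h
    refine K635.EtTop.eq_of_points V₂.property Y.property hv₂ _ _ ?_ fun x => ?_
    · rw [Category.assoc, Category.assoc, Category.assoc, Category.assoc, hva, ← Category.assoc, h,
        Category.assoc]
    have hpq : (p ≫ p₁.hom) ≫ f.hom = (q ≫ p₁.hom) ≫ f.hom := by
      rw [Category.assoc, Category.assoc, ← ha₁.w, ← Category.assoc, h, Category.assoc]
    rcases hcase (Points.map ((p ≫ p₁.hom) ≫ f.hom) x) with hx | hx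
    · obtain ⟨R', t, x', hx', ht⟩ := K635.Modif.eqAt_of_iso_over hU' hfU _ _ hpq x hx
      refine ⟨R', t, x', hx', ?_⟩
      have : t ≫ p = t ≫ q := by
        apply ha₁.hom_ext
        · rw [Category.assoc, Category.assoc, h]
        · rw [Category.assoc, Category.assoc, ht]
      rw [← Category.assoc, this, Category.assoc]
    · obtain ⟨Q, c, d, z, hz, hcd⟩ := K635.Modif.exists_over _ i.hom x hx
      refine ⟨Q, c, z, hz, ?_⟩
      have e1 : (c ≫ p ≫ a₁.hom) ≫ v₁.hom = d ≫ i.hom := by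
        rw [← hcd, Category.assoc, Category.assoc, Category.assoc, ha₁.w]
      have e2 : ∃ w : Q ⟶ W₁.obj, w ≫ b₁.hom = c ≫ p ≫ a₁.hom := ⟨_, hb₁.lift_fst _ _ e1⟩
      obtain ⟨w, hw⟩ := e2
      have e3 := hab Q (c ≫ p) w (by rw [Category.assoc, hw])
      have e4 := hab Q (c ≫ q) w (by rw [Category.assoc, hw, h])
      rw [Category.assoc] at e3 e4
      rw [e3, e4]
  obtain ⟨m, hm1, hm2, hm3⟩ := K635.EtTop.glue₂ (v := v₂.hom) (t := v₁.hom) V₁.property V₂.property Y.property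
    hv₂ V₁'.property W₁.property a₁.hom b₁.hom
    (K596.ClosedQC.isUnivClosedMor_of_isPullback ha₁.flip hf.2.2)
    (K596.ClosedQC.isUnivClosedMor_of_isPullback hb₁.flip (K635.EtTop.isUnivClosedMor_of_closed hi))
    hcov (m'.hom ≫ a₂.hom) (n.hom ≫ b₂.hom) (by rw [Category.assoc, hva]) (by rw [Category.assoc, hvb])
    haa (fun R p q h => by
      rw [← (cancel_mono b₁.hom).1 h]) hab
  refine ⟨⟨m⟩, ⟨?_, ?_, ?_⟩, ?_⟩
  · exact ObjectProperty.hom_ext _ hm1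
  · exact ObjectProperty.hom_ext _ hm2
  · exact ObjectProperty.hom_ext _ hm3
  · rintro m₂ ⟨h1, h2, h3⟩
    apply ObjectProperty.hom_ext
    have h1' : m₂.hom ≫ v₂.hom = v₁.hom := congrArg (·.hom) h1
    have h2' : a₁.hom ≫ m₂.hom = m'.hom ≫ a₂.hom := congrArg (·.hom) h2
    have h3' : b₁.hom ≫ m₂.hom = n.hom ≫ b₂.hom := congrArg (·.hom) h3
    refine K635.EtTop.eq_of_points V₂.property Y.property hv₂ _ _ (by rw [h1', hm1]) fun x => ?_
    rcases hcov x with ⟨y, hy⟩ | ⟨y, hy⟩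
    · exact ⟨_, a₁.hom, y, hy, by rw [h2', hm2]⟩
    · exact ⟨_, b₁.hom, y, hy, by rw [h3', hm3]⟩

end Groth.Agent.S12192
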