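import Groth.Statements.S9966
import Groth.Agent.AlgSp.K598.Red

set_option autoImplicit false
universe u
open CategoryTheory CategoryTheory.Limits AlgebraicGeometry
open AlgSp

namespace Groth.Agent.S9966

/-- The scheme theoretic image of a morphism from a reduced algebraic space is the reduced induced
structure on the closure of its image. -/
theorem result {S : Scheme.{u}} {X Y Z : AlgSp.Space S} (f : X ⟶ Y) (i : Z ⟶ Y)
    (hX : AlgSp.IsReducedSp X.obj) (hZ : AlgSp.IsSchImage f.hom i.hom) :
    AlgSp.IsRedInduced (closure (Set.range (AlgSp.Points.map f.hom))) i.hom := by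
  obtain ⟨Z', i', hZ', hi'⟩ := K598.Red.exists_isRedInduced Y.property _
    (isClosed_closure (s := Set.range (AlgSp.Points.map f.hom)))
  have h1 := K598.Red.isSchImage_of_isReducedSp hX hi'
  have hm : Mono i.hom := K598.RepKit.mono_of_repWith_isClosedImmersion hZ.1
  have hm' : Mono i' := K598.RepKit.mono_of_repWith_isClosedImmersion hi'.1
  obtain ⟨k, hk⟩ := hZ.2.2 i' hZ' hi'.1 h1.2.1
  obtain ⟨l, hl⟩ := h1.2.2 i.hom Z.property hZ.1 hZ.2.1
  have : IsIso k := ⟨l, by rw [← cancel_mono i.hom, Category.assoc, hl, hk, Category.id_comp],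
    by rw [← cancel_mono i', Category.assoc, hk, hl, Category.id_comp]⟩
  exact K598.Red.isRedInduced_of_iso hi' k hk

end Groth.Agent.S9966
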