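import Groth.Statements.S12193
import Groth.Agent.S9966
import Groth.Agent.AlgSp.K610.EtaleMor
import Groth.Agent.AlgSp.K596.Pts

set_option autoImplicit false
universe u
open CategoryTheory CategoryTheory.Limits AlgebraicGeometry
open AlgSp

namespace Groth.Agent.S12193

open AlgSp in
theorem preimage_range {S : Scheme.{u}} {X Y V XV : AlgSp.Sp S} {f : X ⟶ Y} {b : V ⟶ Y}
    {f₁ : XV ⟶ X} {fV : XV ⟶ V} (sqX : IsPullback f₁ fV f b) :
    Points.map b ⁻¹' Set.range (Points.map f) = Set.range (Points.map fV) := by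
  ext v
  constructor
  · rintro ⟨x, hx⟩
    obtain ⟨w, -, hw⟩ := K596.Pts.exists_of_isPullback sqX x v hx
    exact ⟨w, hw⟩
  · rintro ⟨w, rfl⟩
    exact ⟨Points.map f₁ w, by rw [← Points.map_comp, ← Points.map_comp, sqX.w]⟩

open AlgSp in
theorem closure_range_bc {S : Scheme.{u}} {X Y V XV : AlgSp.Space S} (f : X ⟶ Y) (b : V ⟶ Y)
    (hb : AlgSp.IsEtaleMor b.hom) (f₁ : XV ⟶ X) (fV : XV ⟶ V) (sqX : IsPullback f₁.hom fV.hom f.hom b.hom) :
    Points.map b.hom ⁻¹' closure (Set.range (Points.map f.hom)) = closure (Set.range (Points.map fV.hom)) := by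
  have ho : IsOpenMap (Points.map b.hom) := by
    obtain ⟨T, a, ha, has⟩ := V.property.atlas
    have h1 := K609.Points.isOpenMap_ofPt (hb _ ha)
    have e : Points.ofPt (a ≫ b.hom) = Points.map b.hom ∘ Points.ofPt a := by
      funext x
      exact (Points.map_ofPt a b.hom x).symm
    rw [e] at h1
    intro W hW
    have h2 := h1 _ (hW.preimage (Points.continuous_ofPt a))
    rwa [Set.image_comp, Set.image_preimage_eq _ (K609.Points.surjective_ofPt_of_repWith_surjective has)] at h2
  rw [ho.preimage_closure_eq_closure_preimage (Points.continuous_map _), preimage_range sqX]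

open AlgSp in
theorem isReducedSp_of_etale {S : Scheme.{u}} {X XV : AlgSp.Space S} (g : XV ⟶ X) (hg : IsEtaleMor g.hom)
    (hX : IsReducedSp X.obj) : IsReducedSp XV.obj := by
  obtain ⟨T, a, ha, has⟩ := XV.property.atlas
  exact ⟨T, a, ha, has, K612.Reduced.isReduced_of_isReducedSp hX (a ≫ g.hom) (hg _ ha)⟩

/-- Let X be a reduced algebraic space over S, f : X → Y a morphism of algebraic spaces over S, and Z →
Y the scheme theoretic image of f. Then forming the scheme theoretic image commutes with etale base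
change: for every etale morphism V → Y of algebraic spaces and cartesian squares X ×_Y V, Z ×_Y V,
the closed subspace Z ×_Y V → V is the scheme theoretic image of X ×_Y V → V. -/
theorem result {S : Scheme.{u}} {X Y Z V XV ZV : AlgSp.Space S} (f : X ⟶ Y)
    (i : Z ⟶ Y) (hX : AlgSp.IsReducedSp X.obj) (hZ : AlgSp.IsSchImage f.hom i.hom) (b : V ⟶ Y)
    (hb : AlgSp.IsEtaleMor b.hom) (f₁ : XV ⟶ X) (fV : XV ⟶ V) (i₁ : ZV ⟶ Z) (iV : ZV ⟶ V)
    (sqX : IsPullback f₁.hom fV.hom f.hom b.hom) (sqZ : IsPullback i₁.hom iV.hom i.hom b.hom) :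
    AlgSp.IsSchImage fV.hom iV.hom := by
  have h0 := Groth.Agent.S9966.result f i hX hZ
  have he : AlgSp.IsEtaleMor f₁.hom :=
    K610.EtaleMor.isEtaleMor_baseChange V.property XV.property X.property sqX hb
  have he' : AlgSp.IsEtaleMor i₁.hom :=
    K610.EtaleMor.isEtaleMor_baseChange V.property ZV.property Z.property sqZ hb
  refine K598.Red.isSchImage_of_isReducedSp (isReducedSp_of_etale f₁ he hX) ⟨?_, ?_, isReducedSp_of_etale i₁ he' h0.2.2⟩
  · exact MorphismProperty.of_isPullback (P := AlgSp.RepWith @IsClosedImmersion) sqZ hZ.1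
  · rw [← closure_range_bc f b hb f₁ fV sqX, ← h0.2.1, preimage_range sqZ]

end Groth.Agent.S12193
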