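import Groth.Statements.S12194
import Groth.Agent.AlgSp.K610.Sub
import Groth.Agent.AlgSp.K649.EpiNbhd

set_option autoImplicit false
universe u
open CategoryTheory CategoryTheory.Limits AlgebraicGeometry Opposite
open AlgSp

set_option backward.isDefEq.respectTransparency false

namespace Groth.Agent.S12194

/-- Let X be a locally Noetherian algebraic space over S, φ : G ⟶ F a morphism of coherent O_X-modules
on the small etale site of X (of finite presentation, X being locally Noetherian) and x̄ a geometric
point of X. If the map φ_x̄ on stalks at x̄ (of the underlying abelian sheaves) is surjective, then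
there is an open subspace X' ⊂ X containing the image of x̄ such that φ|_{X'} is surjective: the
stalk map φ_ȳ is surjective for every geometric point ȳ of X lying over a point of |X'|. -/
theorem result {S : Scheme.{u}} (X : AlgSp.Space S)
    (hX : AlgSp.IsLocNoethSp X.obj) {G F : AlgSp.ModEt X.obj} [G.IsFinitePresentation] [F.IsFinitePresentation]
    (φ : G ⟶ F) (xbar : AlgSp.FieldPt X.obj) (hx : xbar.IsGeometric)
    (hsurj : Epi ((AlgSp.stalkEtFunctor AddCommGrpCat.{u + 1} xbar).map ((AlgSp.toAbEt X.obj).map φ))) :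
    ∃ (X' : AlgSp.Space S) (j : X' ⟶ X), AlgSp.RepWith @IsOpenImmersion j.hom ∧
      AlgSp.Points.mk xbar ∈ Set.range (AlgSp.Points.map j.hom) ∧
        ∀ ybar : AlgSp.FieldPt X.obj, ybar.IsGeometric →
          AlgSp.Points.mk ybar ∈ Set.range (AlgSp.Points.map j.hom) →
            Epi ((AlgSp.stalkEtFunctor AddCommGrpCat.{u + 1} ybar).map ((AlgSp.toAbEt X.obj).map φ)) := by
  obtain ⟨E, x, hE⟩ := K649.EpiNbhd.exists_nbhd X.2 φ xbar hx
    ((AddCommGrpCat.epi_iff_surjective _).1 hsurj)
  have hopen := K611.isOpenMap_ofPt E.property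
  obtain ⟨X', j, hj, hr⟩ := K610.Sub.exists_open_subspace X (Set.range (Points.ofPt E.obj.hom)) (by
    have := hopen Set.univ isOpen_univ
    rwa [Set.image_univ] at this)
  refine ⟨X', j, hj, ?_, fun ybar hy h => ?_⟩
  · rw [hr]
    exact ⟨x.1.left (IsLocalRing.closedPoint xbar.K), K611.ofPt_lift xbar x.1 x.2 _⟩
  · rw [hr] at h
    obtain ⟨v, hv⟩ := h
    have hcl : IsAlgClosed ybar.K := hy
    obtain ⟨l, hl, -⟩ := K611.exists_lift E.property ybar inferInstance v hv
    exact (AddCommGrpCat.epi_iff_surjective _).2 (hE ybar hy ⟨l, hl⟩)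

end Groth.Agent.S12194
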