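import Groth.Statements.S12195
import Groth.Agent.AlgSp.K649.EtLift

set_option autoImplicit false
universe u
open CategoryTheory CategoryTheory.Limits AlgebraicGeometry
open AlgSp

namespace Groth.Agent.S12195

/-- The closed subscheme `Spec (B ⧸ I B)` of `Spec B` is the preimage of `Spec (A ⧸ I)`. -/
theorem exists_factor {A B : Type u} [CommRing A] [CommRing B] (φ : A →+* B) (I : Ideal A)
    {V : Scheme.{u}} (p : V ⟶ Spec (.of (A ⧸ I))) (q : V ⟶ Spec (.of B))
    (h : p ≫ Spec.map (CommRingCat.ofHom (Ideal.Quotient.mk I)) = q ≫ Spec.map (CommRingCat.ofHom φ)) :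
    ∃ m : V ⟶ Spec (.of (B ⧸ I.map φ)),
      m ≫ Spec.map (CommRingCat.ofHom (Ideal.Quotient.mk (I.map φ))) = q ∧
      m ≫ Spec.map (CommRingCat.ofHom (Ideal.quotientMap (I.map φ) φ Ideal.le_comap_map)) = p := by
  have hpo : IsPushout (CommRingCat.ofHom φ) (CommRingCat.ofHom (Ideal.Quotient.mk I))
      (CommRingCat.ofHom (Ideal.Quotient.mk (I.map φ)))
      (CommRingCat.ofHom (Ideal.quotientMap (I.map φ) φ Ideal.le_comap_map)) := by
    have hker : ∀ s : PushoutCocone (CommRingCat.ofHom φ) (CommRingCat.ofHom (Ideal.Quotient.mk I)),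
        ∀ a ∈ I.map φ, s.inl.hom a = 0 := by
      intro s a ha
      have : I.map φ ≤ RingHom.ker s.inl.hom := by
        rw [Ideal.map_le_iff_le_comap]
        intro a ha
        have hc := congrArg (fun g => g.hom a) s.condition
        change s.inl.hom (φ a) = s.inr.hom (Ideal.Quotient.mk I a) at hc
        change s.inl.hom (φ a) = 0
        rw [hc, Ideal.Quotient.eq_zero_iff_mem.2 ha, map_zero]
      exact this ha
    refine IsPushout.of_isColimit' ⟨?_⟩ (PushoutCocone.IsColimit.mk _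
      (fun s => CommRingCat.ofHom (Ideal.Quotient.lift (I.map φ) s.inl.hom (hker s))) ?_ ?_ ?_)
    · apply CommRingCat.hom_ext
      ext a
      exact (Ideal.quotientMap_mk (I := I.map φ) (f := φ) (H := Ideal.le_comap_map) (x := a)).symm
    · intro s
      apply CommRingCat.hom_ext
      ext a
      rfl
    · intro s
      apply CommRingCat.hom_ext
      apply Ideal.Quotient.ringHom_ext
      ext a
      exact congrArg (fun g => g.hom a) s.condition
    · intro s m h1 h2
      apply CommRingCat.hom_ext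
      apply Ideal.Quotient.ringHom_ext
      exact congrArg CommRingCat.Hom.hom h1
  have hpb := isPullback_SpecMap_of_isPushout _ _ _ _ hpo
  exact ⟨hpb.lift q p h.symm, hpb.lift_fst _ _ _, hpb.lift_snd _ _ _⟩

theorem result {S : Scheme.{u}} {F G H : AlgSp.Sp S} (a : F ⟶ G)
    (b : G ⟶ H) (ha : AlgSp.RepWith @Etale a) (ha' : AlgSp.RepWith @Surjective a)
    (hab : AlgSp.IsFormallySmoothMor (a ≫ b)) (sq : AlgSp.InfSq b) (t : ↥sq.ptT'.left) :
    ∃ (U' : Over S) (g : U' ⟶ sq.ptT') (l : (AlgSp.yon S).obj U' ⟶ G),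
      IsAffine U'.left ∧ Etale g.left ∧ (∃ u : ↥U'.left, g.left u = t) ∧
        l ≫ b = (AlgSp.yon S).map g ≫ sq.bot ∧
          ∀ (V : Over S) (p : V ⟶ sq.ptT) (q : V ⟶ U'), p ≫ sq.j = q ≫ g →
            (AlgSp.yon S).map q ≫ l = (AlgSp.yon S).map p ≫ sq.top := by
  obtain ⟨W, w, fst, hW⟩ := ha.1 sq.top
  have hwe : Etale w.left := ha.2 _ _ _ hW
  have hws : Surjective w.left := ha'.2 _ _ _ hW
  -- `t` lifts to `T` and then to `W`
  have hj : Function.Surjective sq.j.left := by
    change Function.Surjective (Spec.map (CommRingCat.ofHom (Ideal.Quotient.mk sq.I)))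
    refine (PrimeSpectrum.comap_quotientMk_bijective_of_le_nilradical ?_).2
    intro x hx
    refine (mem_nilradical).2 ⟨2, ?_⟩
    have h2 : x ^ 2 ∈ sq.I ^ 2 := Ideal.pow_mem_pow hx 2
    rwa [sq.sq_zero] at h2
  obtain ⟨t₀, ht₀⟩ := hj t
  obtain ⟨v, hv⟩ := hws.surj t₀
  obtain ⟨B, _, φ, hφ, k, y, hk, hy⟩ := K649.EtLift.exists_lift_nhd sq.I w.left v
  let J : Ideal B := sq.I.map φ
  let U' : Over S := Over.mk (Spec.map (CommRingCat.ofHom φ) ≫ sq.str)
  let g : U' ⟶ sq.ptT' := Over.homMk (Spec.map (CommRingCat.ofHom φ)) rfl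
  let U : Over S := Over.mk (Spec.map (CommRingCat.ofHom (Ideal.Quotient.mk J)) ≫
    Spec.map (CommRingCat.ofHom φ) ≫ sq.str)
  let j' : U ⟶ U' := Over.homMk (Spec.map (CommRingCat.ofHom (Ideal.Quotient.mk J))) rfl
  have hqq : Spec.map (CommRingCat.ofHom (Ideal.quotientMap J φ Ideal.le_comap_map)) ≫
      Spec.map (CommRingCat.ofHom (Ideal.Quotient.mk sq.I)) =
      Spec.map (CommRingCat.ofHom (Ideal.Quotient.mk J)) ≫ Spec.map (CommRingCat.ofHom φ) := by
    rw [← Spec.map_comp, ← Spec.map_comp]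
    congr 1
  have hkW : k ≫ W.hom = U.hom := by
    rw [← Over.w w, ← Category.assoc, hk]
    change _ ≫ Spec.map (CommRingCat.ofHom (Ideal.Quotient.mk sq.I)) ≫ sq.str = _
    rw [← Category.assoc, hqq, Category.assoc]
    rfl
  let k' : U ⟶ W := Over.homMk k hkW
  have hk' : k' ≫ w ≫ sq.j = j' ≫ g := by
    apply Over.OverMorphism.ext
    change k ≫ w.left ≫ Spec.map (CommRingCat.ofHom (Ideal.Quotient.mk sq.I)) = _
    rw [← Category.assoc, hk, hqq]
    rfl
  let sq' : InfSq (a ≫ b) :=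
    { A := B
      I := J
      sq_zero := by
        rw [← Ideal.map_pow, sq.sq_zero, Ideal.map_bot]
      str := Spec.map (CommRingCat.ofHom φ) ≫ sq.str
      top := (yon S).map k' ≫ fst
      bot := (yon S).map g ≫ sq.bot
      comm := by
        change _ = (yon S).map j' ≫ (yon S).map g ≫ sq.bot
        rw [← Category.assoc ((yon S).map j'), ← Functor.map_comp, ← hk', Category.assoc,
          ← Category.assoc fst, hW.w, Functor.map_comp, Functor.map_comp]
        simp only [Category.assoc]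
        rw [sq.comm] }
  obtain ⟨l', hl1, hl2⟩ := hab sq'
  have hl1' : (yon S).map j' ≫ l' = (yon S).map k' ≫ fst := hl1
  have hl2' : l' ≫ a ≫ b = (yon S).map g ≫ sq.bot := hl2
  refine ⟨U', g, l' ≫ a, ?_, ?_, ?_, ?_, ?_⟩
  · change IsAffine (Spec (.of B))
    infer_instance
  · change Etale (Spec.map (CommRingCat.ofHom φ))
    rw [HasRingHomProperty.Spec_iff (P := @AlgebraicGeometry.Etale)]
    exact hφ
  · refine ⟨Spec.map (CommRingCat.ofHom (Ideal.Quotient.mk J)) y, ?_⟩
    change Spec.map (CommRingCat.ofHom φ) (Spec.map (CommRingCat.ofHom (Ideal.Quotient.mk J)) y) = t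
    rw [← Scheme.Hom.comp_apply, ← hqq, ← hk, Scheme.Hom.comp_apply, Scheme.Hom.comp_apply]
    erw [hy, hv]
    exact ht₀
  · rw [Category.assoc, hl2']
  · intro V p q hpq
    have hpq' : p.left ≫ Spec.map (CommRingCat.ofHom (Ideal.Quotient.mk sq.I)) =
        q.left ≫ Spec.map (CommRingCat.ofHom φ) := congrArg Over.Hom.left hpq
    obtain ⟨m, hm1, hm2⟩ := exists_factor φ sq.I p.left q.left hpq'
    let m' : V ⟶ U := Over.homMk m (by
      change m ≫ Spec.map (CommRingCat.ofHom (Ideal.Quotient.mk J)) ≫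
        Spec.map (CommRingCat.ofHom φ) ≫ sq.str = V.hom
      rw [← Category.assoc, hm1]
      exact Over.w q)
    have h1 : m' ≫ j' = q := Over.OverMorphism.ext hm1
    have h2 : m' ≫ k' ≫ w = p := by
      apply Over.OverMorphism.ext
      change m ≫ k ≫ w.left = p.left
      rw [hk, hm2]
    rw [← h1, Functor.map_comp, Category.assoc, ← Category.assoc ((yon S).map j'), hl1', ← h2,
      Functor.map_comp, Functor.map_comp]
    simp only [Category.assoc]
    rw [hW.w]

end Groth.Agent.S12195
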