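import Groth.Agent.Grpd.K394.FinMain
import Groth.Prelude.Def_Dual3
-- import your own Groth.Agent.* helpers here

set_option autoImplicit false
universe u
open CategoryTheory CategoryTheory.Limits AlgebraicGeometry
open Grpd

namespace Groth.Agent.S12202

/-- Let (U, R, s, t, c) be a groupoid scheme over S with U affine and s, t separated, flat and locally
of finite presentation, and let u ∈ U be a point such that s is quasi-finite at e(u). Then there
exist an etale morphism U' → U with U' affine and a point u' of U' lying over u with trivial residue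
field extension κ(u) = κ(u'), such that the restriction R' of R to U' (the groupoid scheme on U'
whose arrows form the base change of j = (t, s) : R → U ×_S U along U' ×_S U' → U ×_S U) is
quasi-split over u': there is an open subscheme P ⊂ R' which is a subgroupoid (the identity of U',
the inverse of P and the composition of composable pairs of P land in P) with s'|_P and t'|_P finite
(then e'(u') ∈ P automatically). -/
theorem result (S : Scheme.{u}) (G : Grpd.GroupoidScheme S) [IsAffine G.U]
    [IsSeparated G.s] [IsSeparated G.t] [Flat G.s] [Flat G.t]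
    [LocallyOfFinitePresentation G.s] [LocallyOfFinitePresentation G.t]
    (u : ↥G.U) (hqf : Dual3.QuasiFiniteAt G.s (G.e u)) :
    ∃ (G' : Grpd.GroupoidScheme S) (φ : Grpd.GroupoidScheme.Hom G' G) (u' : ↥G'.U),
      IsAffine G'.U ∧ Etale φ.fU ∧ φ.fU u' = u ∧ IsIso (φ.fU.residueFieldMap u') ∧
      IsPullback φ.fR G'.j G.j
        (pullback.map G'.pU G'.pU G.pU G.pU φ.fU φ.fU (𝟙 S)
          ((Category.comp_id _).trans φ.fU_over.symm) ((Category.comp_id _).trans φ.fU_over.symm)) ∧
      ∃ (P : Scheme.{u}) (ιP : P ⟶ G'.R), IsOpenImmersion ιP ∧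
        (∃ eP : G'.U ⟶ P, eP ≫ ιP = G'.e) ∧ (∃ iP : P ⟶ P, iP ≫ ιP = ιP ≫ G'.i) ∧
        (∃ cP : pullback (ιP ≫ G'.s) (ιP ≫ G'.t) ⟶ P,
          cP ≫ ιP = pullback.map (ιP ≫ G'.s) (ιP ≫ G'.t) G'.s G'.t ιP ιP (𝟙 G'.U)
            (Category.comp_id _) (Category.comp_id _) ≫ G'.c) ∧
        IsFinite (ιP ≫ G'.s) ∧ IsFinite (ιP ≫ G'.t) := by
  have hq : G.s.QuasiFiniteAt (G.e u) :=
    Scheme.Hom.quasiFiniteAt_iff_isOpen_singleton_asFiber.2 hqf
  have hes : G.s (G.e u) = u := by rw [← Scheme.Hom.comp_apply, G.e_s]; rfl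
  have het : G.t (G.e u) = u := by rw [← Scheme.Hom.comp_apply, G.e_t]; rfl
  obtain ⟨G', φ, u', h1, h2, h3, h4, h5, P, ιP, h6, h7, h8, h9, h10, h11, -⟩ :=
    K394.FinFam.split G u {G.e u} (Set.finite_singleton _)
      (by rintro r rfl; exact hes) (by rintro r rfl; exact het) (by rintro r rfl; exact hq) rfl (by
      intro K _ y z h hz
      have hz' : z (IsLocalRing.closedPoint K) = (G.U.fromSpecResidueField u ≫ G.e)
          (IsLocalRing.closedPoint (G.U.residueField u)) := by
        rw [Scheme.Hom.comp_apply, Scheme.fromSpecResidueField_apply]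
        exact hz
      obtain ⟨τ, hτ⟩ := K394.FinFam.exists_factor G.s u (G.U.fromSpecResidueField u ≫ G.e)
        (by rw [Category.assoc, G.e_s, Category.comp_id]) z hz'
      have h1 : Groth.Agent.Grpsch.Points.mul G y z h = y := by
        rw [← Category.assoc] at hτ
        rw [Groth.Agent.Grpsch.Points.mul_congr G h rfl hτ.symm, Groth.Agent.Grpsch.Points.mul_e]
      rw [h1])
  exact ⟨G', φ, u', h1, h2, h3, h4, h5, P, ιP, h6, h7, h8, h9, h10, h11⟩


end Groth.Agent.S12202
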