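import Groth.Statements.S12204
import Groth.Agent.S2535
import Groth.Agent.AlgSp.K649.RedChart

set_option autoImplicit false
universe u
open CategoryTheory CategoryTheory.Limits AlgebraicGeometry Topology TopologicalSpace
open AlgSp

namespace Groth.Agent.S12204

/-- (5) ⇒ (2): let k be a field of characteristic p > 0, k' a perfect closure of k (a perfect field
which is a purely inseparable extension of k) and X an algebraic space over k. If X_{k'} is reduced,
then X_K is reduced for every field extension K of k. -/
theorem result (k : Type u) [Field k] (p : ℕ) [Fact p.Prime] [CharP k p]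
    (X : AlgSp.Space (Spec (CommRingCat.of k))) (k' : Type u) [Field k'] [Algebra k k'] [PerfectField k']
    [IsPurelyInseparable k k']
    (h : AlgSp.EtaleLocally (fun U => IsReduced U) (X.obj ⨯ (AlgSp.yon (Spec (CommRingCat.of k))).obj (Over.mk (Spec.map (CommRingCat.ofHom (algebraMap k k'))))))
    (K : Type u) [Field K] [Algebra k K] : AlgSp.EtaleLocally (fun U => IsReduced U) (X.obj ⨯ (AlgSp.yon (Spec (CommRingCat.of k))).obj (Over.mk (Spec.map (CommRingCat.ofHom (algebraMap k K))))) := by
  obtain ⟨U, q, hq, hq'⟩ := X.property.atlas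
  let T' : Over (Spec (CommRingCat.of k)) := Over.mk (Spec.map (CommRingCat.ofHom (algebraMap k k')))
  let T : Over (Spec (CommRingCat.of k)) := Over.mk (Spec.map (CommRingCat.ofHom (algebraMap k K)))
  have h1 : IsReduced (U ⨯ T').left :=
    K649.RedChart.isReduced_of_etaleLocally h (K649.RedChart.prodChart q T')
      (K649.RedChart.repWith_prodChart _ q T' hq)
  have h2 : IsReduced (FBase.bc U.hom k') := by
    let e : FBase.bc U.hom k' ≅ (U ⨯ T').left := (Over.prodLeftIsoPullback U T').symm
    exact isReduced_of_isOpenImmersion e.hom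
  have h3 : GeometricallyReduced U.hom := Groth.Agent.S2535.result (Ω := k') U.hom
  have h4 : IsReduced (pullback U.hom T.hom) :=
    (geometricallyReduced_iff U.hom).1 h3 _ _ _ (IsPullback.of_hasPullback _ _)
  refine ⟨U ⨯ T, K649.RedChart.prodChart q T, K649.RedChart.repWith_prodChart _ q T hq,
    K649.RedChart.repWith_prodChart _ q T hq', ?_⟩
  let e : (U ⨯ T).left ≅ pullback U.hom T.hom := Over.prodLeftIsoPullback U T
  exact isReduced_of_isOpenImmersion e.hom

end Groth.Agent.S12204
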