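import Groth.Statements.S12206
import Mathlib.Algebra.Module.FinitePresentation

set_option autoImplicit false
universe u
open CAlg

namespace Groth.Agent.S12206

/-- Let φ : N → M be a linear map from a finite R-module N to a coherent R-module M, where coherent
means finitely generated with every finitely generated submodule finitely presented. Then the kernel
of φ is finitely generated, and the image of φ and the cokernel M/φ(N) are coherent. -/
theorem result (R : Type u) [CommRing R] {N M : Type u}
    [AddCommGroup N] [Module R N] [AddCommGroup M] [Module R M] [Module.Finite R N]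
    (hM : Module.Finite R M ∧ ∀ P : Submodule R M, P.FG → Module.FinitePresentation R P)
    (φ : N →ₗ[R] M) :
    (LinearMap.ker φ).FG ∧
    (Module.Finite R (LinearMap.range φ) ∧
      ∀ P : Submodule R (LinearMap.range φ), P.FG → Module.FinitePresentation R P) ∧
    (Module.Finite R (M ⧸ LinearMap.range φ) ∧
      ∀ P : Submodule R (M ⧸ LinearMap.range φ), P.FG → Module.FinitePresentation R P) := by
  obtain ⟨hMfin, hM⟩ := hM
  -- f.g. submodules of the range are f.p.
  have hsub : ∀ (L : Submodule R M) (P : Submodule R L), P.FG → Module.FinitePresentation R P := by
    intro L P hP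
    haveI := hM (P.map L.subtype) (hP.map _)
    exact Module.FinitePresentation.of_equiv
      (Submodule.equivMapOfInjective L.subtype L.injective_subtype P).symm
  have hrange : (LinearMap.range φ).FG := by
    rw [← Submodule.map_top]; exact (Module.Finite.fg_top).map φ
  haveI hfpr : Module.FinitePresentation R (LinearMap.range φ) := hM _ hrange
  refine ⟨?_, ⟨inferInstance, fun P hP => hsub _ P hP⟩, ⟨inferInstance, fun P hP => ?_⟩⟩
  · have := Module.FinitePresentation.fg_ker φ.rangeRestrict φ.surjective_rangeRestrict
    rwa [LinearMap.ker_rangeRestrict] at this
  · let P' : Submodule R M := P.comap (LinearMap.range φ).mkQ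
    have hP' : P'.FG := by
      apply Submodule.fg_of_fg_map_of_fg_inf_ker (LinearMap.range φ).mkQ
      · rw [Submodule.map_comap_eq_of_surjective (Submodule.mkQ_surjective _)]; exact hP
      · rw [Submodule.ker_mkQ]
        have hle : LinearMap.range φ ≤ P' := by
          intro x hx
          rw [Submodule.mem_comap]
          have : (LinearMap.range φ).mkQ x = 0 := by
            rw [Submodule.mkQ_apply, Submodule.Quotient.mk_eq_zero]; exact hx
          rw [this]; exact zero_mem _
        rw [inf_eq_right.mpr hle]; exact hrange
    haveI := hM P' hP'
    let l : P' →ₗ[R] P := (LinearMap.range φ).mkQ.restrict (fun x hx => hx)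
    have hl : Function.Surjective l := by
      rintro ⟨y, hy⟩
      obtain ⟨x, rfl⟩ := Submodule.mkQ_surjective _ y
      exact ⟨⟨x, hy⟩, rfl⟩
    apply Module.finitePresentation_of_surjective l hl
    have hker : LinearMap.ker l = (LinearMap.range φ).submoduleOf P' := by
      ext ⟨x, hx⟩
      rw [LinearMap.mem_ker]
      change _ ↔ x ∈ LinearMap.range φ
      constructor
      · intro h
        have h1 := congrArg Subtype.val h
        have h2 : (LinearMap.range φ).mkQ x = 0 := h1
        rwa [Submodule.mkQ_apply, Submodule.Quotient.mk_eq_zero] at h2
      · intro h
        apply Subtype.ext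
        change (LinearMap.range φ).mkQ x = 0
        rwa [Submodule.mkQ_apply, Submodule.Quotient.mk_eq_zero]
    rw [hker]
    have hle : LinearMap.range φ ≤ P' := by
      intro x hx
      rw [Submodule.mem_comap]
      have : (LinearMap.range φ).mkQ x = 0 := by
        rw [Submodule.mkQ_apply, Submodule.Quotient.mk_eq_zero]; exact hx
      rw [this]; exact zero_mem _
    haveI : Module.Finite R ((LinearMap.range φ).submoduleOf P') :=
      Module.Finite.equiv (Submodule.submoduleOfEquivOfLe hle).symm
    exact Module.Finite.iff_fg.mp inferInstance

end Groth.Agent.S12206
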