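import Groth.Statements.S12209
import Mathlib.RingTheory.Flat.EquationalCriterion
import Mathlib.Order.Directed
import Mathlib.Data.Fintype.Order

set_option autoImplicit false
universe u
open CAlg

namespace Groth.Agent.S12209

/-- Let (R_i) be a system of commutative rings over a nonempty directed preorder, with colimit R, and
let M be an R-module which is flat as an R_i-module for every i (the R_i-module structure being
restriction of scalars along R_i → R). Then M is flat as an R-module. -/
theorem result {ι : Type u} [Preorder ι] [Nonempty ι] [IsDirectedOrder ι]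
    (G : ι → Type u) [∀ i, CommRing (G i)] (f : ∀ i j, i ≤ j → G i →+* G j)
    [DirectedSystem G fun i j h => f i j h]
    (M : Type u) [AddCommGroup M] [Module (Ring.DirectLimit G fun i j h => f i j h) M]
    (hflat : ∀ i, letI : Module (G i) M := Module.compHom M (Ring.DirectLimit.of G (fun i j h => f i j h) i);
      Module.Flat (G i) M) :
    Module.Flat (Ring.DirectLimit G fun i j h => f i j h) M := by
  apply Module.Flat.of_forall_isTrivialRelation
  intro l c x hcx
  -- all coefficients come from one stage
  obtain ⟨k, c', hc'⟩ : ∃ (k : ι) (c' : Fin l → G k),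
      ∀ i, Ring.DirectLimit.of G (fun i j h => f i j h) k (c' i) = c i := by
    choose s a ha using fun i => Ring.DirectLimit.exists_of (c i)
    obtain ⟨k, hk⟩ := Finite.exists_le s
    exact ⟨k, fun i => f (s i) k (hk i) (a i), fun i => by
      rw [Ring.DirectLimit.of_f (f := fun i j h => f i j h), ha]⟩
  let φ := Ring.DirectLimit.of G (fun i j h => f i j h) k
  letI : Module (G k) M := Module.compHom M φ
  haveI : Module.Flat (G k) M := hflat k
  have hsm : ∀ (g : G k) (m : M), g • m = φ g • m := fun _ _ => rfl
  have h0 : ∑ i, c' i • x i = 0 := by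
    rw [← hcx]
    refine Finset.sum_congr rfl fun i _ => ?_
    rw [hsm, hc']
  obtain ⟨n, a, y, h1, h2⟩ := Module.Flat.isTrivialRelation_of_sum_smul_eq_zero h0
  refine ⟨n, fun i j => φ (a i j), y, fun i => ?_, fun j => ?_⟩
  · rw [h1 i]; rfl
  · rw [← map_zero φ, ← h2 j, map_sum]
    refine Finset.sum_congr rfl fun i _ => ?_
    rw [map_mul, ← hc']

end Groth.Agent.S12209
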