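import Groth.Statements.S12210
import Groth.Agent.S1573
import Groth.Agent.Sga3B.QCClosure

set_option autoImplicit false
universe u
open CategoryTheory CategoryTheory.Limits AlgebraicGeometry
open Divisors

namespace Groth.Agent.S12210

/-- Let X be locally Noetherian and U an open subscheme whose inclusion is an affine morphism. If ξ is a
point outside U which is maximal under generization among points outside U (a generic point of an
irreducible component of the complement) and ξ lies in the closure of U, then the local ring of X at
ξ has dimension exactly one. (The case X separated and U an affine open is the corresponding special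
case, since then the inclusion of U is affine.) -/
theorem result (X : Scheme.{u}) [IsLocallyNoetherian X]
    (U : X.Opens) [IsAffineHom U.ι] (ξ : X) (hξ : ξ ∉ U) (hgen : ∀ y : X, y ∉ U → y ⤳ ξ → y = ξ)
    (hcl : ξ ∈ closure (U : Set X)) :
    ringKrullDim (X.presheaf.stalk ξ) = 1 := by
  have h1 : ringKrullDim (X.presheaf.stalk ξ) ≤ 1 :=
    (Groth.Agent.S1573.result X U ξ hξ hgen).1
  refine le_antisymm h1 ?_
  by_contra hlt
  have h0 : ringKrullDim (X.presheaf.stalk ξ) < 1 := lt_of_not_ge hlt
  have : Ring.KrullDimLE 0 (X.presheaf.stalk ξ) := by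
    rw [Ring.krullDimLE_iff]
    exact (ENat.WithBot.lt_add_one_iff (n := ringKrullDim (X.presheaf.stalk ξ)) (m := 0)).mp (by simpa using h0)
  obtain ⟨y, hy⟩ := Groth.Agent.Sga3B.QCClosure.exists_specializes_of_mem_closure_range U.ι ξ
    (by rw [Scheme.Opens.range_ι]; exact hcl)
  have h2 : U.ι y ∈ Set.range (X.fromSpecStalk ξ) := by
    rw [Scheme.range_fromSpecStalk]; exact hy
  obtain ⟨z, hz⟩ := h2
  have h3 : z = IsLocalRing.closedPoint _ := by
    apply PrimeSpectrum.ext
    exact IsLocalRing.eq_maximalIdeal z.2.isMaximal'
  rw [h3, Scheme.fromSpecStalk_closedPoint] at hz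
  exact hξ (hz ▸ y.2)

end Groth.Agent.S12210
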