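import Groth.Statements.S12212
import Groth.Agent.IntMult.K304.Samuel2

set_option autoImplicit false
universe u
open IntMult

namespace Groth.Agent.S12212

/-- Suppose A is a local Noetherian ring with an ideal of definition I, take M to be a finite A-module,
and fix d with dim Supp(M) ≤ d. Then e_I(M, d) equals Σ_p length_{A_p}(M_p) · e_I(A/p, d), where p
ranges over the primes satisfying dim(A/p) = d (all but finitely many summands vanish); here e_I(N,
d) denotes the limit of d! · length_A(N/I^t N)/t^d, and the formal version says: assuming these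
limits e_p exist for the A-modules A/p, the limit attached to M is the sum shown. -/
theorem result (A : Type u) [CommRing A] [IsNoetherianRing A] [IsLocalRing A]
    (I : Ideal A) (hI : I ≤ IsLocalRing.maximalIdeal A ∧ ∃ n : ℕ, IsLocalRing.maximalIdeal A ^ n ≤ I)
    (M : Type u) [AddCommGroup M] [Module A M] [Module.Finite A M]
    (d : ℕ) (hd : Module.supportDim A M ≤ d) (e : PrimeSpectrum A → ℝ)
    (he : ∀ p : PrimeSpectrum A, ringKrullDim (A ⧸ p.asIdeal) = d →
      Filter.Tendsto (fun t : ℕ => (d.factorial : ℝ) *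
        ((Module.length A ((A ⧸ p.asIdeal) ⧸ (I ^ t • (⊤ : Submodule A (A ⧸ p.asIdeal))))).toNat : ℝ) / (t : ℝ) ^ d)
        Filter.atTop (nhds (e p))) :
    Filter.Tendsto (fun t : ℕ => (d.factorial : ℝ) * ((Module.length A (M ⧸ (I ^ t • (⊤ : Submodule A M)))).toNat : ℝ) / (t : ℝ) ^ d) Filter.atTop
      (nhds (∑ᶠ (p : PrimeSpectrum A) (_ : ringKrullDim (A ⧸ p.asIdeal) = d),
        ((Module.length (Localization.AtPrime p.asIdeal) (LocalizedModule p.asIdeal.primeCompl M)).toNat : ℝ) * e p)) := by
  classical
  have hfin := K304.Samuel2.finite_top hd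
  have h := K304.Samuel2.sam_sum hI d e he hfin.toFinset
    (fun p hp => ((Set.Finite.mem_toFinset hfin).1 hp).2) M hd
    (fun p hp hp' => (Set.Finite.mem_toFinset hfin).2 ⟨hp, hp'⟩)
  let F : PrimeSpectrum A → ℝ := fun p => ((Module.length (Localization.AtPrime p.asIdeal)
          (LocalizedModule p.asIdeal.primeCompl M)).toNat : ℝ) * e p
  have key : (∑ᶠ p ∈ {p : PrimeSpectrum A | ringKrullDim (A ⧸ p.asIdeal) = d}, F p) =
      ∑ p ∈ hfin.toFinset, (Groth.Agent.CycA.Devissage.ll p M : ℝ) * e p := by
    rw [finsum_mem_def, finsum_eq_sum_of_support_subset (s := hfin.toFinset)]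
    · refine Finset.sum_congr rfl fun p hp => ?_
      rw [Set.indicator_of_mem (show p ∈ {p : PrimeSpectrum A | ringKrullDim (A ⧸ p.asIdeal) = d} from
        ((Set.Finite.mem_toFinset hfin).1 hp).2)]
      rfl
    · intro p hp
      rw [Function.mem_support] at hp
      have hp1 : ringKrullDim (A ⧸ p.asIdeal) = d := by
        by_contra hcon
        apply hp
        exact Set.indicator_of_notMem (show p ∉ {p : PrimeSpectrum A |
          ringKrullDim (A ⧸ p.asIdeal) = d} from hcon) _
      rw [Set.indicator_of_mem (show p ∈ {p : PrimeSpectrum A |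
        ringKrullDim (A ⧸ p.asIdeal) = d} from hp1)] at hp
      rw [Finset.mem_coe, Set.Finite.mem_toFinset]
      refine ⟨?_, hp1⟩
      by_contra hcon
      apply hp
      change ((Module.length (Localization.AtPrime p.asIdeal)
          (LocalizedModule p.asIdeal.primeCompl M)).toNat : ℝ) * e p = 0
      rw [(Groth.Agent.CycA.LocLen.length_loc_eq_zero_iff p).2 hcon]
      simp
  change Filter.Tendsto _ Filter.atTop
    (nhds (∑ᶠ p ∈ {p : PrimeSpectrum A | ringKrullDim (A ⧸ p.asIdeal) = d}, F p))
  rw [key]
  exact h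

end Groth.Agent.S12212
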