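import Groth.Statements.S12214
import Groth.Agent.S1237
import Mathlib.RingTheory.LocalProperties.FinitePresentation

set_option autoImplicit false
universe u
open FlatMor

namespace Groth.Agent.S12214

/-- Let R → S be a ring map of finite presentation, M a finite S-module, and assume R has finitely many
weakly associated primes. Then for every g ∈ S whose basic open D(g) is contained in the flat locus
U = {q : M_q is flat over R}, the localization M_g is a finitely presented S_g-module which is flat
over R. (Openness of U is the companion statement.) -/
theorem result {R S : Type u} [CommRing R] [CommRing S] [Algebra R S]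
    [Algebra.FinitePresentation R S] (hR : (FlatCA.weakAss R R).Finite)
    (M : Type u) [AddCommGroup M] [Module S M] [Module R M] [IsScalarTower R S M] [Module.Finite S M]
    (g : S) (hg : ∀ (q : Ideal S) [q.IsPrime], g ∉ q → FlatCA.FlatAt R q M) :
    Module.FinitePresentation (Localization.Away g) (LocalizedModule (Submonoid.powers g) M) ∧
      Module.Flat R (LocalizedModule (Submonoid.powers g) M) := by
  have hfl : Module.Flat R (LocalizedModule (Submonoid.powers g) M) :=
    Flat2B.FlatLocusAux.flat_away_of_flatAt M g hg
  refine ⟨?_, hfl⟩
  have hfpB : Algebra.FinitePresentation R (Localization.Away g) := inferInstance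
  have key : ∀ q : PrimeSpectrum (Localization.Away g), ∃ b : Localization.Away g,
      b ∉ q.asIdeal ∧ Module.FinitePresentation (Localization.Away b)
        (LocalizedModule (Submonoid.powers b) (LocalizedModule (Submonoid.powers g) M)) := by
    intro q
    obtain ⟨b, hb, h1, -⟩ := Groth.Agent.S1237.exists_away (S := Localization.Away g) hR
      (LocalizedModule (Submonoid.powers g) M) q.asIdeal
      (Flat2B.FlatLocusAux.flatAt_of_flat q.asIdeal _)
    exact ⟨b, hb, h1⟩
  choose b hb hfp using key
  refine Module.FinitePresentation.of_localizationSpan (Set.range b) ?_ ?_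
  · by_contra hne
    obtain ⟨m, hm, hle⟩ := Ideal.exists_le_maximal _ hne
    exact hb ⟨m, hm.isPrime⟩ (hle (Ideal.subset_span ⟨_, rfl⟩))
  · rintro ⟨_, q, rfl⟩
    exact hfp q

end Groth.Agent.S12214
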