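import Groth.Statements.S12217
import Mathlib
import Groth.Agent.S0543
import Groth.Agent.S0344
import Groth.Agent.Models.H73.NodeLocal
-- import your own Groth.Agent.* helpers here

set_option autoImplicit false
universe u
open Curves

namespace Groth.Agent.S12217

/-- A field is Gorenstein. -/
theorem gorenstein_of_isField (K : Type u) [CommRing K] (hK : IsField K) :
    LocCoh.IsGorensteinLocalRing K := by
  letI := hK.toField
  haveI : IsNoetherianRing K := inferInstance
  haveI : IsLocalRing K := inferInstance
  refine { exists_hasInjectiveDimensionLT := ⟨1, ?_⟩ }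
  have : Module.Injective K K := by
    refine Module.Baer.injective fun I g => ?_
    obtain ⟨g', hg'⟩ := LinearMap.exists_extend g
    exact ⟨g', fun x hx => by rw [← hg']; rfl⟩
  have : CategoryTheory.Injective (ModuleCat.of K K) := (Module.injective_iff_injective_object K K).1 this
  infer_instance


/-- In this form A is the local ring of the curve at the point, and a Gorenstein scheme has Gorenstein
local rings. Let k be an algebraically closed field and A a Gorenstein local ring whose completion
with respect to its maximal ideal is isomorphic to the multicross ring with n ≥ 2 branches, the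
subring of (k[[t]])^n consisting of the n-tuples of power series having a common constant term. Then
n = 2: a Gorenstein multicross singularity is a node. The isomorphism is given as an injective ring
map from the completion to (k[[t]])^n with that subring as its range. -/
theorem result (k : Type u) [Field k] [IsAlgClosed k]
    (A : Type u) [CommRing A] [LocCoh.IsGorensteinLocalRing A] (n : ℕ) (hn : 2 ≤ n)
    (φ : AdicCompletion (IsLocalRing.maximalIdeal A) A →+* (Fin n → PowerSeries k))
    (hinj : Function.Injective φ)
    (hrange : Set.range φ = {f : Fin n → PowerSeries k | ∀ i j : Fin n, PowerSeries.constantCoeff (f i) = PowerSeries.constantCoeff (f j)}) :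
    n = 2 := by
  classical
  set O := AdicCompletion (IsLocalRing.maximalIdeal A) A with hO
  haveI : IsNoetherianRing O := Groth.Agent.S0543.result A (IsLocalRing.maximalIdeal A)
  haveI : Module.Flat A O := AdicCompletion.flat_of_isNoetherian _
  have hmap : (IsLocalRing.maximalIdeal A).map (algebraMap A O) = IsLocalRing.maximalIdeal O :=
    AdicCompletion.maximalIdeal_eq_map.symm
  haveI : IsLocalHom (algebraMap A O) :=
    ((IsLocalRing.local_hom_TFAE (algebraMap A O)).out 0 2 rfl rfl).mpr hmap.le
  have hGO : LocCoh.IsGorensteinLocalRing O := by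
    refine (Groth.Agent.S0344.result A O).mpr ⟨inferInstance, ?_⟩
    apply gorenstein_of_isField
    rw [hmap]
    exact (Ideal.Quotient.maximal_ideal_iff_isField_quotient _).mp inferInstance
  letI : Algebra O (Fin n → PowerSeries k) := φ.toAlgebra
  have hφ : ∀ x : O, algebraMap O (Fin n → PowerSeries k) x = φ x := fun x => rfl
  have hmem : ∀ g : Fin n → PowerSeries k, (∀ i j : Fin n, PowerSeries.constantCoeff (g i) = PowerSeries.constantCoeff (g j)) →
      ∃ x : O, φ x = g := by
    intro g hg
    have : g ∈ Set.range φ := by rw [hrange]; exact hg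
    exact this
  have hconst : ∀ (x : O) (i j : Fin n), PowerSeries.constantCoeff (φ x i) = PowerSeries.constantCoeff (φ x j) := by
    intro x
    have : φ x ∈ Set.range φ := ⟨x, rfl⟩
    rw [hrange] at this
    exact this
  have i0 : Fin n := ⟨0, by omega⟩
  have hmax : ∀ t ∈ IsLocalRing.maximalIdeal O, ∀ i, PowerSeries.constantCoeff (φ t i) = 0 := by
    intro t ht i
    by_contra hne
    have hne' : ∀ j, PowerSeries.constantCoeff (φ t j) ≠ 0 := fun j => by rw [hconst t j i]; exact hne
    obtain ⟨s, hs⟩ := hmem (fun j => (φ t j)⁻¹) (by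
      intro a b
      rw [PowerSeries.constantCoeff_inv, PowerSeries.constantCoeff_inv, hconst t a b])
    apply (IsLocalRing.mem_maximalIdeal _).mp ht
    refine IsUnit.of_mul_eq_one s (hinj ?_)
    rw [map_mul, map_one, hs]
    funext j
    exact PowerSeries.mul_inv_cancel _ (hne' j)
  obtain ⟨f, hf⟩ := hmem (fun _ => PowerSeries.X) (by intro i j; rfl)
  have hfm : f ∈ IsLocalRing.maximalIdeal O := by
    rw [IsLocalRing.mem_maximalIdeal]
    intro hu
    have h1 : IsUnit (φ f i0) := (hu.map φ).map (Pi.evalRingHom (fun _ : Fin n => PowerSeries k) i0)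
    rw [hf] at h1
    exact PowerSeries.X_prime.not_isUnit h1
  have hmA : ∀ t ∈ IsLocalRing.maximalIdeal O, ∀ a : Fin n → PowerSeries k, ∃ o : O, algebraMap O (Fin n → PowerSeries k) o = t • a := by
    intro t ht a
    obtain ⟨o, ho⟩ := hmem (φ t * a) (by
      intro i j
      simp only [Pi.mul_apply, map_mul, hmax t ht, zero_mul])
    exact ⟨o, ho⟩
  have hfA : ∀ a : Fin n → PowerSeries k, f • a = 0 → a = 0 := by
    intro a ha
    have h1 : φ f * a = 0 := ha
    rw [hf] at h1
    funext i
    have h2 := congrFun h1 i
    simpa using h2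
  -- every element of the maximal ideal has its square in `(f)`
  have hsq : ∀ t ∈ IsLocalRing.maximalIdeal O, t * t ∈ Ideal.span {f} := by
    intro t ht
    have h1 : ∀ i, ∃ g : PowerSeries k, φ t i = PowerSeries.X * g := by
      intro i
      exact (PowerSeries.X_dvd_iff.mpr (hmax t ht i))
    choose g hg using h1
    obtain ⟨o, ho⟩ := hmem (fun i => PowerSeries.X * g i * g i) (by
      intro i j
      simp)
    rw [Ideal.mem_span_singleton']
    refine ⟨o, hinj ?_⟩
    rw [map_mul, map_mul, ho, hf]
    funext i
    simp only [Pi.mul_apply, hg]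
    ring
  have hdim : ringKrullDim O ≤ 1 := by
    rw [← IsLocalRing.maximalIdeal_height_eq_ringKrullDim]
    have h1 : IsLocalRing.maximalIdeal O ∈ (Ideal.span {f}).minimalPrimes := by
      refine ⟨⟨inferInstance, (Ideal.span_singleton_le_iff_mem _).mpr hfm⟩, ?_⟩
      rintro p ⟨hp, hfp⟩ _
      intro t ht
      have := hfp (hsq t ht)
      exact (hp.mem_or_mem this).elim id id
    have h2 : (IsLocalRing.maximalIdeal O).height ≤ 1 :=
      Ideal.height_le_one_of_isPrincipal_of_mem_minimalPrimes (Ideal.span {f}) _ h1
    exact_mod_cast h2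
  by_contra hn2
  have hn3 : 3 ≤ n := by omega
  let j0 : Fin n := ⟨0, by omega⟩
  let j1 : Fin n := ⟨1, by omega⟩
  let j2 : Fin n := ⟨2, by omega⟩
  have h01 : j0 ≠ j1 := by simp [j0, j1]
  have h02 : j0 ≠ j2 := by simp [j0, j2]
  have h12 : j1 ≠ j2 := by simp [j1, j2]
  obtain ⟨c, o, hco⟩ := Groth.Agent.Models.H73.NodeLocal.exists_generator (O := O) (A := Fin n → PowerSeries k) hGO hdim hinj hfm hfA hmA
    (Pi.single j0 1) (by
      intro o ho
      have h1 : φ o = Pi.single j0 1 := ho
      have h2 := hconst o j0 j1
      rw [h1] at h2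
      simp [h01.symm] at h2) (Pi.single j1 1)
  have hco' : (Pi.single j1 1 : Fin n → PowerSeries k) = φ c * Pi.single j0 1 + φ o := hco
  have e1 := congrArg PowerSeries.constantCoeff (congrFun hco' j1)
  have e2 := congrArg PowerSeries.constantCoeff (congrFun hco' j2)
  simp [h01.symm, h02.symm, h12.symm] at e1 e2
  rw [hconst o j2 j1, ← e1] at e2
  exact zero_ne_one e2

end Groth.Agent.S12217
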