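import Groth.Statements.S12222
import Groth.Agent.S0502
import Mathlib.RingTheory.Unramified.LocalRing
import Mathlib.RingTheory.Unramified.LocalStructure
import Mathlib.RingTheory.Localization.Away.Lemmas
import Mathlib.RingTheory.Flat.Basic
import Mathlib.RingTheory.LocalRing.Module

set_option autoImplicit false
universe u
open Hensel

namespace Groth.Agent.S12222

open IsLocalRing

/-- A finite étale local algebra over a local ring with trivial residue field extension is the base
ring. -/
theorem bijective_of_local (R : Type u) [CommRing R] [IsLocalRing R] (T : Type u) [CommRing T]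
    [Algebra R T] [Module.Finite R T] [Algebra.Etale R T] [IsLocalRing T]
    (hs : Function.Surjective (algebraMap R (ResidueField T))) :
    Function.Bijective (algebraMap R T) := by
  have hm : (maximalIdeal T).comap (algebraMap R T) = maximalIdeal R := by
    have := Ideal.isMaximal_comap_of_isIntegral_of_isMaximal (R := R) (maximalIdeal T)
    exact eq_maximalIdeal this
  have hloc : IsLocalHom (algebraMap R T) := ((local_hom_TFAE (algebraMap R T)).out 0 4).mpr hm
  have hmap : (maximalIdeal R).map (algebraMap R T) = maximalIdeal T :=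
    Algebra.FormallyUnramified.map_maximalIdeal
  have hflat : Module.Flat R T := inferInstance
  have hfree : Module.Free R T := Module.free_of_flat_of_isLocalRing
  constructor
  · exact FaithfulSMul.algebraMap_injective R T
  · have h1 : (⊤ : Submodule R T) ≤ LinearMap.range (Algebra.linearMap R T) := by
      apply Submodule.le_of_le_smul_of_le_jacobson_bot (I := maximalIdeal R) Module.Finite.fg_top
        (jacobson_eq_maximalIdeal ⊥ bot_ne_top).ge
      intro t _
      obtain ⟨r, hr⟩ := hs (residue T t)
      have h2 : t - algebraMap R T r ∈ maximalIdeal T := by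
        rw [← residue_eq_zero_iff, map_sub, ← hr, sub_eq_zero]
        rfl
      rw [← hmap, ← Submodule.restrictScalars_mem R, ← Ideal.smul_top_eq_map] at h2
      have h3 : t = algebraMap R T r + (t - algebraMap R T r) := by ring
      rw [h3]
      exact Submodule.add_mem_sup ⟨r, rfl⟩ h2
    intro t
    obtain ⟨r, hr⟩ := h1 (Submodule.mem_top (x := t))
    exact ⟨r, hr⟩

theorem exists_retraction (R : Type u) [CommRing R] [IsLocalRing R]
    (h : ∀ (S : Type u) [CommRing S] [Algebra R S] [Algebra.FiniteType R S],
      ∃ e : S, IsIdempotentElem e ∧ Module.Finite R (S ⧸ Ideal.span ({1 - e} : Set S)) ∧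
        ∀ (q : Ideal (S ⧸ Ideal.span ({e} : Set S))) [q.IsPrime],
          q.LiesOver (IsLocalRing.maximalIdeal R) → ¬ Algebra.QuasiFiniteAt R q)
    (S : Type u) [CommRing S] [Algebra R S] [Algebra.Etale R S] (q : Ideal S) [q.IsPrime]
    (hq : q.LiesOver (IsLocalRing.maximalIdeal R))
    (hs : Function.Surjective (algebraMap R q.ResidueField)) : Nonempty (S →ₐ[R] R) := by
  obtain ⟨s, hsq, hs'⟩ := Ideal.exists_not_mem_forall_mem_of_ne_of_liesOver (maximalIdeal R) q
  let S' := Localization.Away s
  have : Algebra.Etale S S' := Algebra.Etale.of_isLocalizationAway s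
  have : Algebra.Etale R S' := Algebra.Etale.comp R S S'
  obtain ⟨e, he, hfin, hq'⟩ := h S'
  let T := S' ⧸ Ideal.span ({1 - e} : Set S')
  have : IsLocalization.Away e T := IsLocalization.Away.quotient_of_isIdempotentElem he
  have : Algebra.Etale S' T := Algebra.Etale.of_isLocalizationAway e
  have : Algebra.Etale R T := Algebra.Etale.comp R S' T
  have : Module.Finite R T := hfin
  have hST : IsScalarTower S S' T := inferInstance
  -- the prime of `S'` corresponding to `q`
  have hdisj : Disjoint (Submonoid.powers s : Set S) (q : Set S) :=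
    (Ideal.disjoint_powers_iff_notMem s (Ideal.IsPrime.isRadical ‹_›)).mpr hsq
  have hqS : (q.map (algebraMap S S')).IsPrime :=
    IsLocalization.isPrime_of_isPrime_disjoint (Submonoid.powers s) S' q ‹_› hdisj
  have hqc : (q.map (algebraMap S S')).comap (algebraMap S S') = q :=
    IsLocalization.under_map_of_isPrime_disjoint (Submonoid.powers s) S' ‹_› hdisj
  set Q := q.map (algebraMap S S') with hQ
  have hQover : Q.LiesOver (maximalIdeal R) := by
    constructor
    rw [hq.over, Ideal.under, Ideal.under, IsScalarTower.algebraMap_eq R S S', ← Ideal.comap_comap,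
      hqc]
  -- `e ∉ Q`
  have heQ : e ∉ Q := by
    intro he'
    have hle : Ideal.span ({e} : Set S') ≤ Q := by
      rwa [Ideal.span_le, Set.singleton_subset_iff]
    have hp : (Q.map (Ideal.Quotient.mk (Ideal.span ({e} : Set S')))).IsPrime :=
      Ideal.map_isPrime_of_surjective Ideal.Quotient.mk_surjective (by rwa [Ideal.mk_ker])
    refine hq' (Q.map (Ideal.Quotient.mk (Ideal.span ({e} : Set S')))) ?_ ?_
    · constructor
      rw [hQover.over, Ideal.under, Ideal.under,
        IsScalarTower.algebraMap_eq R S' (S' ⧸ Ideal.span ({e} : Set S')), ← Ideal.comap_comap]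
      congr 1
      rw [Ideal.Quotient.algebraMap_eq,
        Ideal.comap_map_of_surjective _ Ideal.Quotient.mk_surjective, ← RingHom.ker_eq_comap_bot,
        Ideal.mk_ker, sup_eq_left.mpr hle]
    · have : Algebra.QuasiFinite R (S' ⧸ Ideal.span ({e} : Set S')) := inferInstance
      infer_instance
  have h1e : 1 - e ∈ Q := by
    have : e * (1 - e) ∈ Q := by rw [he.mul_one_sub_self]; exact Q.zero_mem
    exact (hqS.mem_or_mem this).resolve_left heQ
  have hle : Ideal.span ({1 - e} : Set S') ≤ Q := by
    rwa [Ideal.span_le, Set.singleton_subset_iff]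
  -- primes of `T` over the maximal ideal
  have huniq : ∀ P : Ideal T, P.IsMaximal → P.comap (algebraMap S T) = q := by
    intro P hP
    have h1 : (P.comap (algebraMap R T)).IsMaximal :=
      Ideal.isMaximal_comap_of_isIntegral_of_isMaximal (R := R) P
    have h2 := eq_maximalIdeal h1
    by_contra hne
    have h3 : (P.comap (algebraMap S T)).IsPrime := inferInstance
    have h4 := hs' (P.comap (algebraMap S T)) h3 hne ⟨by
      rw [← h2, Ideal.under, Ideal.comap_comap, ← IsScalarTower.algebraMap_eq]⟩
    rw [Ideal.mem_comap, IsScalarTower.algebraMap_apply S S' T] at h4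
    have h5 : IsUnit (algebraMap S' T (algebraMap S S' s)) :=
      (IsLocalization.map_units S' (⟨s, Submonoid.mem_powers s⟩ : Submonoid.powers s)).map _
    exact hP.ne_top (Ideal.eq_top_of_isUnit_mem _ h4 h5)
  have hcomp : ∀ P : Ideal T, P.comap (algebraMap S T) =
      (P.comap (algebraMap S' T)).comap (algebraMap S S') := by
    intro P
    rw [Ideal.comap_comap, ← IsScalarTower.algebraMap_eq]
  have hinj : ∀ P₁ P₂ : Ideal T, P₁.IsMaximal → P₂.IsMaximal → P₁ = P₂ := by
    intro P₁ P₂ h₁ h₂
    have h3 := (huniq P₁ h₁).trans (huniq P₂ h₂).symm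
    rw [hcomp, hcomp] at h3
    have h4 : P₁.comap (algebraMap S' T) = P₂.comap (algebraMap S' T) := by
      rw [← IsLocalization.map_under (Submonoid.powers s) S' (P₁.comap (algebraMap S' T)),
        ← IsLocalization.map_under (Submonoid.powers s) S' (P₂.comap (algebraMap S' T))]
      exact congrArg _ h3
    exact Ideal.comap_injective_of_surjective _ Ideal.Quotient.mk_surjective h4
  have hnt : Nontrivial T := by
    rw [Ideal.Quotient.nontrivial_iff]
    exact ne_top_of_le_ne_top hqS.ne_top hle
  obtain ⟨M, hM⟩ := Ideal.exists_maximal T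
  have hT : IsLocalRing T := IsLocalRing.of_unique_max_ideal ⟨M, hM, fun P hP => hinj _ _ hP hM⟩
  have hres : Function.Surjective (algebraMap R (ResidueField T)) := by
    intro x
    obtain ⟨t, rfl⟩ := residue_surjective x
    obtain ⟨t, rfl⟩ := Ideal.Quotient.mk_surjective t
    obtain ⟨⟨a, b⟩, hab⟩ := IsLocalization.surj (Submonoid.powers s) t
    have hMq := huniq (maximalIdeal T) inferInstance
    -- `b` is a unit at `q`
    have hb : (b : S) ∉ q := by
      obtain ⟨n, hn⟩ := b.2
      rw [← hn]
      exact fun h => hsq (Ideal.IsPrime.mem_of_pow_mem ‹_› n h)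
    have key : ∀ z : S, ∃ r : R, z - algebraMap R S r ∈ q := by
      intro z
      obtain ⟨r, hr⟩ := hs (algebraMap S q.ResidueField z)
      refine ⟨r, ?_⟩
      rw [← Ideal.algebraMap_residueField_eq_zero, map_sub, ← hr, sub_eq_zero,
        ← IsScalarTower.algebraMap_apply]
    obtain ⟨r₁, hr₁⟩ := key a
    obtain ⟨r₂, hr₂⟩ := key b
    have hr₂u : IsUnit r₂ := by
      by_contra hcon
      have h1 : r₂ ∈ maximalIdeal R := hcon
      rw [hq.over] at h1
      exact hb (by simpa using q.add_mem hr₂ h1)
    obtain ⟨r₃, hr₃⟩ := hr₂u.exists_right_inv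
    refine ⟨r₁ * r₃, ?_⟩
    have hz : ∀ z ∈ q, algebraMap S (ResidueField T) z = 0 := by
      intro z hz
      rw [← hMq] at hz
      rw [IsScalarTower.algebraMap_apply S T (ResidueField T)]
      exact (residue_eq_zero_iff _).mpr hz
    have e1 : algebraMap S (ResidueField T) a = algebraMap R (ResidueField T) r₁ := by
      rw [IsScalarTower.algebraMap_apply R S (ResidueField T), ← sub_eq_zero, ← map_sub]
      exact hz _ hr₁
    have e2 : algebraMap S (ResidueField T) b = algebraMap R (ResidueField T) r₂ := by
      rw [IsScalarTower.algebraMap_apply R S (ResidueField T), ← sub_eq_zero, ← map_sub]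
      exact hz _ hr₂
    have e3 := congrArg (fun z => residue T (algebraMap S' T z)) hab
    simp only [map_mul] at e3
    change residue T (Ideal.Quotient.mk _ t) * algebraMap S (ResidueField T) b =
      algebraMap S (ResidueField T) a at e3
    rw [e1, e2] at e3
    rw [map_mul, ← e3, mul_assoc, ← map_mul, hr₃, map_one, mul_one]
  have hbij := bijective_of_local R T hres
  let E : R ≃ₐ[R] T := AlgEquiv.ofBijective (Algebra.ofId R T) hbij
  exact ⟨E.symm.toAlgHom.comp (IsScalarTower.toAlgHom R S T)⟩

/-- (11) ⇒ (1): let R be a local ring such that every finite-type R-algebra S can be written as a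
product A × B with A finite over R and R → B quasi-finite at no prime lying over the maximal ideal —
concretely, S has an idempotent e with S/(1 − e) finite over R and R → S/(e) quasi-finite at no
prime over the maximal ideal. Then R is henselian. -/
theorem result (R : Type u) [CommRing R] [IsLocalRing R]
    (h : ∀ (S : Type u) [CommRing S] [Algebra R S] [Algebra.FiniteType R S],
      ∃ e : S, IsIdempotentElem e ∧ Module.Finite R (S ⧸ Ideal.span ({1 - e} : Set S)) ∧
        ∀ (q : Ideal (S ⧸ Ideal.span ({e} : Set S))) [q.IsPrime],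
          q.LiesOver (IsLocalRing.maximalIdeal R) → ¬ Algebra.QuasiFiniteAt R q) :
    HenselianLocalRing R :=
  Groth.Agent.S0502.result R fun S _ _ _ q _ hq hs => exists_retraction R h S q hq hs

end Groth.Agent.S12222
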