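import Groth.Statements.S12227
import Mathlib.Algebra.Homology.DerivedCategory.Fractions

set_option autoImplicit false
universe w v u
open CategoryTheory CategoryTheory.Limits
open CohDer

namespace Groth.Agent.S12227

/-- Full faithfulness of K⁻(A)[Qis⁻¹] → D⁻(A), written in terms of roofs. Let A be an abelian category
and K, L complexes which are zero above some degree, viewed in the homotopy category. Then every
morphism Qh(K) → Qh(L) in the derived category is Qh(s)⁻¹ ≫ Qh(f) for some quasi-isomorphism s : K'
→ K and map f : K' → L of K(A) with K' again zero above some degree; and two maps f₁, f₂ : K → L of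
K(A) become equal in D(A) only if s ≫ f₁ = s ≫ f₂ for some quasi-isomorphism s : K' → K with K' zero
above some degree. (That the kernel of K⁻(A) → D(A) consists of the acyclic complexes and that the
essential image is D⁻(A) are separate statements.) -/
theorem result {A : Type u} [Category.{v} A] [Abelian A] [HasDerivedCategory.{w} A]
    (K L : HomotopyCategory A (ComplexShape.up ℤ)) (a b : ℤ) [CochainComplex.IsStrictlyLE K.as a] [CochainComplex.IsStrictlyLE L.as b] :
    (∀ φ : DerivedCategory.Qh.obj K ⟶ DerivedCategory.Qh.obj L,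
      ∃ (K' : HomotopyCategory A (ComplexShape.up ℤ)) (n : ℤ) (_ : CochainComplex.IsStrictlyLE K'.as n) (s : K' ⟶ K) (f : K' ⟶ L),
        HomotopyCategory.quasiIso A (ComplexShape.up ℤ) s ∧ DerivedCategory.Qh.map s ≫ φ = DerivedCategory.Qh.map f) ∧
    (∀ f₁ f₂ : K ⟶ L, DerivedCategory.Qh.map f₁ = DerivedCategory.Qh.map f₂ →
      ∃ (K' : HomotopyCategory A (ComplexShape.up ℤ)) (n : ℤ) (_ : CochainComplex.IsStrictlyLE K'.as n) (s : K' ⟶ K),
        HomotopyCategory.quasiIso A (ComplexShape.up ℤ) s ∧ s ≫ f₁ = s ≫ f₂) := by
  -- any quasi-isomorphism to `K` can be precomposed to get one with bounded above source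
  have key : ∀ (X : HomotopyCategory A (ComplexShape.up ℤ)) (s : X ⟶ K),
      HomotopyCategory.quasiIso A (ComplexShape.up ℤ) s →
      ∃ (K' : HomotopyCategory A (ComplexShape.up ℤ)) (_ : CochainComplex.IsStrictlyLE K'.as a)
        (r : K' ⟶ X), HomotopyCategory.quasiIso A (ComplexShape.up ℤ) (r ≫ s) := by
    intro X s hs
    obtain ⟨(X : CochainComplex A ℤ), rfl⟩ := HomotopyCategory.quotient_obj_surjective X
    have hle : X.IsLE a := by
      rw [CochainComplex.isLE_iff]
      intro i hi
      rw [HomologicalComplex.exactAt_iff_isZero_homology]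
      have h1 : IsIso ((HomotopyCategory.homologyFunctor A (ComplexShape.up ℤ) i).map s) :=
        (HomotopyCategory.mem_quasiIso_iff _).1 hs i
      have h2 : IsZero ((HomotopyCategory.homologyFunctor A (ComplexShape.up ℤ) i).obj K) := by
        have e := (HomotopyCategory.homologyFunctorFactors A (ComplexShape.up ℤ) i).app K.as
        refine IsZero.of_iso ?_ e
        exact (HomologicalComplex.exactAt_iff_isZero_homology _ _).1
          (HomologicalComplex.ExactAt.of_isZero (CochainComplex.isZero_of_isStrictlyLE _ a i hi))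
      have h3 := h2.of_iso (asIso ((HomotopyCategory.homologyFunctor A (ComplexShape.up ℤ) i).map s))
      exact h3.of_iso ((HomotopyCategory.homologyFunctorFactors A (ComplexShape.up ℤ) i).app X).symm
    refine ⟨(HomotopyCategory.quotient _ _).obj (X.truncLE a), inferInstanceAs
      (CochainComplex.IsStrictlyLE (X.truncLE a) a), (HomotopyCategory.quotient _ _).map
      (X.ιTruncLE a), ?_⟩
    rw [← DerivedCategory.isIso_Qh_map_iff] at hs ⊢
    have h4 : IsIso (DerivedCategory.Qh.map ((HomotopyCategory.quotient _ _).map (X.ιTruncLE a))) := by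
      rw [DerivedCategory.isIso_Qh_map_iff]
      rw [HomotopyCategory.quotient_map_mem_quasiIso_iff, HomologicalComplex.mem_quasiIso_iff]
      infer_instance
    rw [Functor.map_comp]
    infer_instance
  constructor
  · intro φ
    obtain ⟨ψ, hψ⟩ := Localization.exists_rightFraction DerivedCategory.Qh
      (HomotopyCategory.quasiIso A _) φ
    obtain ⟨K', hK', r, hr⟩ := key _ ψ.s ψ.hs
    refine ⟨K', a, hK', r ≫ ψ.s, r ≫ ψ.f, hr, ?_⟩
    rw [Functor.map_comp, Functor.map_comp, Category.assoc, hψ,
      MorphismProperty.RightFraction.map_s_comp_map]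
  · intro f₁ f₂ hf
    rw [MorphismProperty.map_eq_iff_precomp DerivedCategory.Qh (HomotopyCategory.quasiIso A _)] at hf
    obtain ⟨X, s, hs, hs'⟩ := hf
    obtain ⟨K', hK', r, hr⟩ := key _ s hs
    exact ⟨K', a, hK', r ≫ s, hr, by rw [Category.assoc, Category.assoc, hs']⟩

end Groth.Agent.S12227
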