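import Groth.Statements.S12228
import Mathlib.Algebra.Homology.DerivedCategory.Fractions

set_option autoImplicit false
universe w v u
open CategoryTheory CategoryTheory.Limits
open CohDer

namespace Groth.Agent.S12228

section

variable {A : Type u} [Category.{v} A] [Abelian A] [HasDerivedCategory.{w} A]

/-- fractions with bounded auxiliary object -/
lemma exists_fraction (X L : CochainComplex A ℤ) (n a' b' : ℤ) [X.IsStrictlyLE n]
    [L.IsStrictlyGE a'] [L.IsStrictlyLE b']
    (φ : DerivedCategory.Qh.obj ((HomotopyCategory.quotient A (ComplexShape.up ℤ)).obj X) ⟶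
      DerivedCategory.Qh.obj ((HomotopyCategory.quotient A (ComplexShape.up ℤ)).obj L)) :
    ∃ (L' : CochainComplex A ℤ) (m n : ℤ) (_ : L'.IsStrictlyGE m) (_ : L'.IsStrictlyLE n)
      (f : X ⟶ L') (t : L ⟶ L'),
        IsIso (DerivedCategory.Qh.map ((HomotopyCategory.quotient A (ComplexShape.up ℤ)).map t)) ∧
        φ ≫ DerivedCategory.Qh.map ((HomotopyCategory.quotient A (ComplexShape.up ℤ)).map t) =
          DerivedCategory.Qh.map ((HomotopyCategory.quotient A (ComplexShape.up ℤ)).map f) := by
  have i1 : X.IsStrictlyLE (max n b') := X.isStrictlyLE_of_le n _ (le_max_left _ _)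
  have i4 : L.IsStrictlyLE (max n b') := L.isStrictlyLE_of_le b' _ (le_max_right _ _)
  let φ' : DerivedCategory.Q.obj X ⟶ DerivedCategory.Q.obj L :=
    (DerivedCategory.quotientCompQhIso A).inv.app X ≫ φ ≫
      (DerivedCategory.quotientCompQhIso A).hom.app L
  obtain ⟨Y, hY, hY', g, s, hs, fac⟩ :=
    DerivedCategory.left_fac_of_isStrictlyLE_of_isStrictlyGE a' (max n b') φ'
  have hs' : IsIso (DerivedCategory.Qh.map ((HomotopyCategory.quotient A (.up ℤ)).map s)) := by
    have := DerivedCategory.quotientCompQhIso_hom_naturality s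
    have h2 : IsIso (DerivedCategory.Qh.map ((HomotopyCategory.quotient A (.up ℤ)).map s) ≫
      (DerivedCategory.quotientCompQhIso A).hom.app Y) := by rw [this]; infer_instance
    exact IsIso.of_isIso_comp_right _ ((DerivedCategory.quotientCompQhIso A).hom.app Y)
  refine ⟨Y, a', max n b', hY, hY', g, s, hs', ?_⟩
  rw [← cancel_mono ((DerivedCategory.quotientCompQhIso A).hom.app Y), Category.assoc,
    DerivedCategory.quotientCompQhIso_hom_naturality, DerivedCategory.quotientCompQhIso_hom_naturality]
  have e1 : φ ≫ (DerivedCategory.quotientCompQhIso A).hom.app L =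
      (DerivedCategory.quotientCompQhIso A).hom.app X ≫ φ' := by
    simp only [φ']
    rw [Iso.hom_inv_id_app_assoc]
  rw [← Category.assoc, e1, fac, Category.assoc, Category.assoc, IsIso.inv_hom_id, Category.comp_id]

omit [HasDerivedCategory.{w} A] in
lemma isStrictlyLE_mappingCone {F K : CochainComplex A ℤ} (f : F ⟶ K) (n n' : ℤ)
    [F.IsStrictlyLE n] [K.IsStrictlyLE n'] :
    (CochainComplex.mappingCone f).IsStrictlyLE (max n n') := by
  rw [CochainComplex.isStrictlyLE_iff]
  intro i hi
  rw [CochainComplex.mappingCone.isZero_X_iff]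
  exact ⟨F.isZero_of_isStrictlyLE n (i + 1) (by have := le_max_left n n'; lia),
    K.isZero_of_isStrictlyLE n' i (by have := le_max_right n n'; lia)⟩

end

/-- Full faithfulness of Kᵇ(A)[Qis⁻¹] → Dᵇ(A), written in terms of roofs. Let A be an abelian category
and K, L bounded complexes (zero outside a finite range of degrees), viewed in the homotopy
category. Then every morphism Qh(K) → Qh(L) in the derived category is Qh(f) ≫ Qh(t)⁻¹ for some map
f : K → L' and quasi-isomorphism t : L → L' of K(A) with L' again bounded; and two maps f₁, f₂ : K →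
L of K(A) become equal in D(A) only if f₁ ≫ t = f₂ ≫ t for some quasi-isomorphism t : L → L' with L'
bounded. -/
theorem result {A : Type u} [Category.{v} A] [Abelian A] [HasDerivedCategory.{w} A]
    (K L : HomotopyCategory A (ComplexShape.up ℤ)) (a b a' b' : ℤ) [CochainComplex.IsStrictlyGE K.as a] [CochainComplex.IsStrictlyLE K.as b]
    [CochainComplex.IsStrictlyGE L.as a'] [CochainComplex.IsStrictlyLE L.as b'] :
    (∀ φ : DerivedCategory.Qh.obj K ⟶ DerivedCategory.Qh.obj L,
      ∃ (L' : HomotopyCategory A (ComplexShape.up ℤ)) (m n : ℤ) (_ : CochainComplex.IsStrictlyGE L'.as m) (_ : CochainComplex.IsStrictlyLE L'.as n) (f : K ⟶ L') (t : L ⟶ L'),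
        HomotopyCategory.quasiIso A (ComplexShape.up ℤ) t ∧ φ ≫ DerivedCategory.Qh.map t = DerivedCategory.Qh.map f) ∧
    (∀ f₁ f₂ : K ⟶ L, DerivedCategory.Qh.map f₁ = DerivedCategory.Qh.map f₂ →
      ∃ (L' : HomotopyCategory A (ComplexShape.up ℤ)) (m n : ℤ) (_ : CochainComplex.IsStrictlyGE L'.as m) (_ : CochainComplex.IsStrictlyLE L'.as n) (t : L ⟶ L'),
        HomotopyCategory.quasiIso A (ComplexShape.up ℤ) t ∧ f₁ ≫ t = f₂ ≫ t) := by
  obtain ⟨(K : CochainComplex A ℤ), rfl⟩ := HomotopyCategory.quotient_obj_surjective K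
  obtain ⟨(L : CochainComplex A ℤ), rfl⟩ := HomotopyCategory.quotient_obj_surjective L
  have iK : K.IsStrictlyLE b := inferInstanceAs (CochainComplex.IsStrictlyLE
    ((HomotopyCategory.quotient A (ComplexShape.up ℤ)).obj K).as b)
  have iL : L.IsStrictlyLE b' := inferInstanceAs (CochainComplex.IsStrictlyLE
    ((HomotopyCategory.quotient A (ComplexShape.up ℤ)).obj L).as b')
  have iL' : L.IsStrictlyGE a' := inferInstanceAs (CochainComplex.IsStrictlyGE
    ((HomotopyCategory.quotient A (ComplexShape.up ℤ)).obj L).as a')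
  constructor
  · intro φ
    obtain ⟨L', m, n, hm, hn, f, t, ht, h⟩ := exists_fraction K L b a' b' φ
    exact ⟨(HomotopyCategory.quotient A (ComplexShape.up ℤ)).obj L', m, n, hm, hn,
      (HomotopyCategory.quotient A (ComplexShape.up ℤ)).map f,
      (HomotopyCategory.quotient A (ComplexShape.up ℤ)).map t,
      (DerivedCategory.isIso_Qh_map_iff _).1 ht, h⟩
  · intro f₁ f₂ hf
    obtain ⟨f, hf'⟩ := (HomotopyCategory.quotient A (ComplexShape.up ℤ)).map_surjective (f₁ - f₂)
    have hf0 : DerivedCategory.Qh.map ((HomotopyCategory.quotient A (ComplexShape.up ℤ)).map f) = 0 := by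
      rw [hf', Functor.map_sub, hf, sub_self]
    -- the cone of `f`
    have hT := HomotopyCategory.mappingCone_triangleh_distinguished f
    have hT' := DerivedCategory.Qh.map_distinguished _ hT
    obtain ⟨r, hr⟩ : ∃ r : DerivedCategory.Qh.obj ((HomotopyCategory.quotient A
        (ComplexShape.up ℤ)).obj (CochainComplex.mappingCone f)) ⟶
        DerivedCategory.Qh.obj ((HomotopyCategory.quotient A (ComplexShape.up ℤ)).obj L),
        𝟙 _ = DerivedCategory.Qh.map ((HomotopyCategory.quotient A (ComplexShape.up ℤ)).map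
          (CochainComplex.mappingCone.inr f)) ≫ r :=
      Pretriangulated.Triangle.yoneda_exact₂ _ hT' (𝟙 _)
        ((Category.comp_id (DerivedCategory.Qh.map
          ((HomotopyCategory.quotient A (ComplexShape.up ℤ)).map f))).trans hf0)
    have iC := isStrictlyLE_mappingCone f b b'
    obtain ⟨L', m, n, hm, hn, g, t, ht, h⟩ :=
      exists_fraction (CochainComplex.mappingCone f) L (max b b') a' b' r
    have h1 : DerivedCategory.Qh.map
        ((HomotopyCategory.quotient A (ComplexShape.up ℤ)).map (CochainComplex.mappingCone.inr f)) ≫ r = 𝟙 _ :=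
      hr.symm
    have h2 : DerivedCategory.Qh.map ((HomotopyCategory.quotient A (ComplexShape.up ℤ)).map
        (CochainComplex.mappingCone.inr f) ≫ (HomotopyCategory.quotient A (ComplexShape.up ℤ)).map g) =
        DerivedCategory.Qh.map ((HomotopyCategory.quotient A (ComplexShape.up ℤ)).map t) := by
      rw [Functor.map_comp, ← h, reassoc_of% h1]
    refine ⟨(HomotopyCategory.quotient A (ComplexShape.up ℤ)).obj L', m, n, hm, hn,
      (HomotopyCategory.quotient A (ComplexShape.up ℤ)).map (CochainComplex.mappingCone.inr f) ≫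
        (HomotopyCategory.quotient A (ComplexShape.up ℤ)).map g,
      (DerivedCategory.isIso_Qh_map_iff _).1 (by rw [h2]; exact ht), ?_⟩
    have h3 : (HomotopyCategory.quotient A (ComplexShape.up ℤ)).map f ≫
        (HomotopyCategory.quotient A (ComplexShape.up ℤ)).map (CochainComplex.mappingCone.inr f) = 0 :=
      Pretriangulated.comp_distTriang_mor_zero₁₂ _ hT
    rw [hf'] at h3
    rw [← sub_eq_zero, ← Preadditive.sub_comp, reassoc_of% h3, zero_comp]

end Groth.Agent.S12228
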