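import Groth.Statements.S12233
import Groth.Agent.CAlg.K82.FlatBase

set_option autoImplicit false
universe u
open scoped TensorProduct
open CAlg

namespace Groth.Agent.S12233

/-- Let R → S, R → R', S → S' and R' → S' be local homomorphisms of Noetherian local rings forming a
commutative square, I ⊊ R an ideal, M a finite S-module, I' = IR' and M' = M ⊗_S S' (given through a
base-change map f : M → M'). Assume (1) S' is a localization of S ⊗_R R' via the induced map, (2)
M/IM is flat over R/I, and (3) the map Tor_1^R(M, R/I) → Tor_1^{R'}(M', R'/I') is zero — with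
Tor_1(−, R/I) computed as the kernel of I ⊗_R M → M, this says that every element of that kernel
goes to zero under the natural map I ⊗_R M → I' ⊗_{R'} M'. Then M' is flat over R'. -/
theorem result
    (R S R' S' : Type u) [CommRing R] [CommRing S] [CommRing R'] [CommRing S']
    [IsLocalRing R] [IsLocalRing S] [IsLocalRing R'] [IsLocalRing S']
    [IsNoetherianRing R] [IsNoetherianRing S] [IsNoetherianRing R'] [IsNoetherianRing S']
    [Algebra R S] [Algebra R R'] [Algebra S S'] [Algebra R' S'] [Algebra R S']
    [IsScalarTower R S S'] [IsScalarTower R R' S']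
    [IsLocalHom (algebraMap R S)] [IsLocalHom (algebraMap R R')] [IsLocalHom (algebraMap S S')]
    [IsLocalHom (algebraMap R' S')]
    (I : Ideal R) (hI : I ≠ ⊤) (M : Type u) [AddCommGroup M] [Module S M] [Module R M] [IsScalarTower R S M]
    [Module.Finite S M]
    (M' : Type u) [AddCommGroup M'] [Module S' M'] [Module R' M'] [IsScalarTower R' S' M']
    [Module S M'] [IsScalarTower S S' M'] [Module R M'] [IsScalarTower R R' M'] [IsScalarTower R S M']
    (f : M →ₗ[S] M') (hf : IsBaseChange S' f)
    (h1 : ∃ W : Submonoid (S ⊗[R] R'),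
      letI : Algebra (S ⊗[R] R') S' :=
        (Algebra.TensorProduct.lift (IsScalarTower.toAlgHom R S S') (IsScalarTower.toAlgHom R R' S')
          (fun s r => Commute.all _ _)).toRingHom.toAlgebra;
      IsLocalization W S')
    (h2 : Module.Flat (R ⧸ I) ((R ⧸ I) ⊗[R] M))
    (h3 : ∀ x : ↥I ⊗[R] M, (Submodule.subtype I).rTensor M x = 0 →
      (TensorProduct.mapOfCompatibleSMul R' R R ↥(I.map (algebraMap R R')) M')
        ((TensorProduct.map (Algebra.idealMap R' I) (f.restrictScalars R)) x) = 0) :
    Module.Flat R' M' := by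
  obtain ⟨W, hW⟩ := h1
  letI algT : Algebra (S ⊗[R] R') S' :=
    (Algebra.TensorProduct.lift (IsScalarTower.toAlgHom R S S') (IsScalarTower.toAlgHom R R' S')
      (fun s r => Commute.all _ _)).toRingHom.toAlgebra
  haveI : IsLocalization W S' := hW
  letI : Algebra R' (S ⊗[R] R') := Algebra.TensorProduct.rightAlgebra
  haveI : IsScalarTower R R' (S ⊗[R] R') := IsScalarTower.of_algebraMap_eq (fun r => by
    change _ = (1 : S) ⊗ₜ[R] (algebraMap R R' r)
    rw [Algebra.TensorProduct.algebraMap_apply, Algebra.algebraMap_eq_smul_one,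
      Algebra.algebraMap_eq_smul_one, TensorProduct.smul_tmul])
  haveI : IsScalarTower S (S ⊗[R] R') S' := IsScalarTower.of_algebraMap_eq (fun s => by
    change _ = Algebra.TensorProduct.lift (IsScalarTower.toAlgHom R S S')
      (IsScalarTower.toAlgHom R R' S') (fun s r => Commute.all _ _) (s ⊗ₜ[R] (1 : R'))
    simp)
  haveI : IsScalarTower R' (S ⊗[R] R') S' := IsScalarTower.of_algebraMap_eq (fun s => by
    change _ = Algebra.TensorProduct.lift (IsScalarTower.toAlgHom R S S')
      (IsScalarTower.toAlgHom R R' S') (fun s r => Commute.all _ _) ((1 : S) ⊗ₜ[R] s)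
    simp)
  letI : Module (S ⊗[R] R') M' := Module.compHom M' (algebraMap (S ⊗[R] R') S')
  haveI : IsScalarTower (S ⊗[R] R') S' M' := IsScalarTower.of_algebraMap_smul (fun t m => rfl)
  haveI : IsScalarTower S (S ⊗[R] R') M' := IsScalarTower.of_algebraMap_smul (fun s m => by
    change (algebraMap (S ⊗[R] R') S' (algebraMap S (S ⊗[R] R') s)) • m = s • m
    rw [← IsScalarTower.algebraMap_apply, algebraMap_smul])
  haveI : IsScalarTower R' (S ⊗[R] R') M' := IsScalarTower.of_algebraMap_smul (fun s m => by
    change (algebraMap (S ⊗[R] R') S' (algebraMap R' (S ⊗[R] R') s)) • m = s • m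
    rw [← IsScalarTower.algebraMap_apply, algebraMap_smul])
  haveI : Algebra.IsPushout R R' S (S ⊗[R] R') := inferInstance
  let g : (S ⊗[R] R') ⊗[S] M →ₗ[S ⊗[R] R'] M' := LinearMap.liftBaseChange (S ⊗[R] R') f
  have hg : IsBaseChange S' g :=
    IsBaseChange.of_comp (TensorProduct.isBaseChange S M (S ⊗[R] R')) (h := g) (by
      have : (g : (S ⊗[R] R') ⊗[S] M →ₗ[S] M') ∘ₗ (TensorProduct.mk S (S ⊗[R] R') M 1) = f := by
        ext m
        simp [g]
      rw [this]
      exact hf)
  haveI : IsLocalizedModule W g := (isLocalizedModule_iff_isBaseChange W S' g).2 hg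
  let e := Algebra.IsPushout.cancelBaseChange R R' S (S ⊗[R] R') M
  have hfin : Module.Finite S' M' :=
    Module.Finite.equiv hf.equiv
  have hinj := K82.FlatBase.rTensor_injective (R' := R') (M' := M') I e W g
    (f.restrictScalars R) (fun m => by simp [e, g]) h3
  have hN : Module.Flat (R' ⧸ I.map (algebraMap R R'))
      ((R' ⧸ I.map (algebraMap R R')) ⊗[R'] ((S ⊗[R] R') ⊗[S] M)) := by
    haveI := K82.FlatBase.flat_quotient_baseChange (R' := R') I h2
    exact Module.Flat.of_linearEquiv
      (e.baseChange R' (R' ⧸ I.map (algebraMap R R')) _ _)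
  have hM' : Module.Flat (R' ⧸ I.map (algebraMap R R'))
      ((R' ⧸ I.map (algebraMap R R')) ⊗[R'] M') :=
    K82.FlatBase.flat_baseChange_localized (R' ⧸ I.map (algebraMap R R')) W g hN
  refine Groth.Agent.FlatA.LocalCriterion.flat_of_injective_of_flat_quotient (B := S')
    (I.map (algebraMap R R')) ?_ hinj hM'
  rw [Ideal.map_map, ← IsScalarTower.algebraMap_eq]
  rw [IsLocalRing.jacobson_eq_maximalIdeal (⊥ : Ideal S') bot_ne_top]
  rw [Ideal.map_le_iff_le_comap]
  intro r hr
  rw [Ideal.mem_comap, IsLocalRing.mem_maximalIdeal, mem_nonunits_iff]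
  rw [IsScalarTower.algebraMap_apply R S S']
  rw [isUnit_map_iff (algebraMap S S'), isUnit_map_iff (algebraMap R S)]
  intro hu
  exact hI (Ideal.eq_top_of_isUnit_mem I hr hu)

end Groth.Agent.S12233
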