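import Groth.Statements.S12234
import Groth.Agent.BigSite.K299.BigComp
import Groth.Agent.Etrest.AcycTors
import Groth.Agent.S0157
import Groth.Agent.S0001

set_option autoImplicit false
open CategoryTheory CategoryTheory.Limits AlgebraicGeometry Opposite
universe u
open BigSite

namespace Groth.Agent.S12234

/-- Let f : T → S be a proper morphism of schemes and F a torsion abelian sheaf on the small étale site
of T. Then for every q the abelian sheaves π_S⁻¹(R^q f_small,* F) and R^q f_big,*(π_T⁻¹ F) on the
big étale site of S are isomorphic, where π⁻¹ is the pullback from the small to the big étale site.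
Existence of an isomorphism only; this is what the comparison π_S⁻¹ Rf_small,* K = Rf_big,* π_T⁻¹ K
for complexes K with torsion cohomology gives on cohomology sheaves for K = F placed in degree 0. -/
theorem result {T S : Scheme.{u}} (f : T ⟶ S) [IsProper f]
    (F : EtCoh.Ab T) (hF : EtCoh.IsTorsion F) (q : ℕ) :
    Nonempty ((BigSite.piEtPull Scheme.etalePrecoverage S).obj ((EtCoh.Rpush f q).obj F) ≅
      (BigSite.RpushBig Scheme.etalePrecoverage f q).obj ((BigSite.piEtPull Scheme.etalePrecoverage T).obj F)) := by
  refine K299.BigComp.nonempty_iso_of_effaceable f ?_ EtCoh.IsTorsion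
    (fun p _ h => Groth.Agent.Etrest.TorsEt.isTorsion_of_epi p h) ?_ F hF q
  · intro F T' X' t f' t' hp
    exact Groth.Agent.S0157.result f f' t' t hp F
  · intro F hF
    obtain ⟨J, _, i, hi⟩ := Groth.Agent.Etrest.AcycTors.exists_mono_tor F hF
    refine ⟨_, i, hi, Groth.Agent.Etrest.TorsEt.isTorsion_tor J, fun q hq => ?_⟩
    have h1 : IsZero ((EtCoh.Rpush f q).obj (Groth.Agent.Etrest.Tors.tor.obj J)) :=
      Groth.Agent.Etrest.AcycTors.isZero_Rpush_tor f J q hq
    refine ⟨h1, ?_⟩
    intro T' X' t f' t' hp
    obtain ⟨e⟩ := (Groth.Agent.S0001.result T S X' T' f t f' t' hp _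
      (Groth.Agent.Etrest.TorsEt.isTorsion_tor J)).1 q
    exact IsZero.of_iso ((EtCoh.pull t).map_isZero h1) e.symm

end Groth.Agent.S12234
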