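import Groth.Statements.S12235
import Groth.Agent.Curves.K323.NormGeo

set_option autoImplicit false
universe u
open CategoryTheory CategoryTheory.Limits AlgebraicGeometry
open Curves

namespace Groth.Agent.S12235

/-- Let k be a field, X a proper geometrically irreducible curve over k (proper over k, integral, of
dimension one), K/k a field extension and Y_K the normalization of the reduction of X_K (that
reduction is integral). If Y_K is smooth over K then H^0(Y_K, O) = K: the global functions of Y_K
form a one-dimensional K-vector space. (Stated for proper X; the instance hypotheses on (X_K)_red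
always hold.) -/
theorem result (k : Type u) [Field k] (X : Scheme.{u})
    [X.Over (Spec (CommRingCat.of k))] [IsIntegral X] [IsProper (X ↘ (Spec (CommRingCat.of k)))]
    [GeometricallyIrreducible (X ↘ (Spec (CommRingCat.of k)))] (hdim : topologicalKrullDim X = 1)
    (K : Type u) [Field K] [Algebra k K] [IsIntegral ((Curv2.bc k X K).nilradical).subscheme]
    [QuasiCompact ((((Curv2.bc k X K).nilradical).subscheme).fromSpecStalk (genericPoint ((Curv2.bc k X K).nilradical).subscheme))]
    [QuasiSeparated ((((Curv2.bc k X K).nilradical).subscheme).fromSpecStalk (genericPoint ((Curv2.bc k X K).nilradical).subscheme))]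
    (hsm : Smooth (Curv2.normalizationι ((Curv2.bc k X K).nilradical).subscheme ≫ ((Curv2.bc k X K).nilradical).subschemeι ≫ Curv2.bcSnd k X K)) :
    letI : (Curv2.normalization ((Curv2.bc k X K).nilradical).subscheme).Over (Spec (CommRingCat.of K)) := ⟨(Curv2.normalizationι ((Curv2.bc k X K).nilradical).subscheme ≫ ((Curv2.bc k X K).nilradical).subschemeι ≫ Curv2.bcSnd k X K)⟩
    Module.finrank K (Coh.HH (Curv2.normalization ((Curv2.bc k X K).nilradical).subscheme) (Coh.structureModule (Curv2.normalization ((Curv2.bc k X K).nilradical).subscheme)) 0) = 1 := by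
  let XK := Curv2.bc k X K
  let Z := XK.nilradical.subscheme
  let ι : Z ⟶ XK := XK.nilradical.subschemeι
  let f : XK ⟶ Spec (CommRingCat.of K) := Curv2.bcSnd k X K
  let ν := Curv2.normalizationι Z
  have hf : IsProper f := inferInstance
  have hgf : GeometricallyIrreducible f := inferInstance
  have hs : Surjective ι := by
    refine ⟨Set.range_eq_univ.mp ?_⟩
    rw [Scheme.IdealSheafData.range_subschemeι, Scheme.support_nilradical]
    rfl
  have hg1 : GeometricallyIrreducible (ι ≫ f) :=
    Groth.Agent.Curves.K323.NormGeo.geometricallyIrreducible_closed K f ι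
  let _ : Z.Over (Spec (CommRingCat.of K)) := ⟨ι ≫ f⟩
  have hft : LocallyOfFiniteType (Z ↘ (Spec (CommRingCat.of K))) :=
    inferInstanceAs (LocallyOfFiniteType (ι ≫ f))
  obtain ⟨hfin, -, ⟨V, hV, hiso⟩, hint, -⟩ := Groth.Agent.S1585.result K Z
  have hfin' : IsFinite ν := hfin
  have hint' : IsIntegral (Curv2.normalization Z) := hint
  have hiso' : IsIso (ν ∣_ V) := hiso
  have hg2 : GeometricallyIrreducible (ν ≫ ι ≫ f) :=
    Groth.Agent.Curves.K323.NormGeo.geometricallyIrreducible_modification K (ι ≫ f) ν V hV
  have hsm' : Smooth (ν ≫ ι ≫ f) := hsm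
  let g : Curv2.normalization Z ⟶ Spec (CommRingCat.of K) := ν ≫ ι ≫ f
  have h1 : IsProper g := inferInstanceAs (IsProper (ν ≫ ι ≫ f))
  have h2 : GeometricallyReduced g := Groth.Agent.Curves.K323.NormGeo.geometricallyReduced_of_smooth K g
  have h3 : GeometricallyConnected g :=
    Groth.Agent.Curves.K323.NormGeo.geometricallyConnected_of_irreducible K g
  let inst : (Curv2.normalization Z).Over (Spec (CommRingCat.of K)) := ⟨g⟩
  have h1' : IsProper (Curv2.normalization Z ↘ Spec (CommRingCat.of K)) := h1
  have h2' : GeometricallyReduced (Curv2.normalization Z ↘ Spec (CommRingCat.of K)) := h2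
  have h3' : GeometricallyConnected (Curv2.normalization Z ↘ Spec (CommRingCat.of K)) := h3
  exact Groth.Agent.S1536.result K (Curv2.normalization Z)

end Groth.Agent.S12235
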