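import Groth.Statements.S12244
import Groth.Agent.FlatMor.K261.PointsBC

set_option autoImplicit false
universe u
open FlatMor

namespace Groth.Agent.S12244

open Groth.Agent.Flat2B.PointBC Groth.Agent.Flat2B.FibreBC Groth.Agent.Flat2B.BCTools
  Groth.Agent.Flat2B.StepBC


open TensorProduct in
/-- All schemes are affine. Let R → S be of finite type, N a finite S-module, p ⊆ R and q ⊆ S primes, 𝒟
a complete dévissage of N/S/R over p in the prelude's algebraic form and 𝒜 a datum making it a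
complete dévissage at q (primes qB_i ⊆ B_i over p with purely transcendental residue fields, unique
primes qA_i ⊆ A_i over them, threaded through q and through the maps B_i → A_{i+1}, relative
dimensions d_i of R → B_i equal to the local dimension of the fibre support of M_i at qB_i). Let R →
R' be a ring map and p' a prime over p with κ(p) → κ(p') bijective, S' the base change of S, N' = N
⊗_S S', and q' a prime of S' over q and over p'. Let 𝒟' be a complete dévissage of N'/S'/R' over p'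
of the same length whose rings A'_i, B'_i (i below the length) are base changes of A_i, B_i along R
→ R' compatibly with B_i → A_i, B_i → A_{i+1}, S → A_0 and S' → A'_0, and whose modules M'_i are
base changes of M_i along A_i → A'_i compatibly with N ≅ M_0 and N' ≅ M'_0. Assume moreover that at
every index at or beyond the length the ring B'_i has a prime over p' and A'_i a prime over that one
(the structure's families run over all natural numbers and constrain nothing at those indices, while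
a datum at a point asks for such primes at every index; the condition touches only this
unconstrained tail and holds, for instance, when the tail repeats the last genuine step — without it
the zero ring could sit there and no datum would exist). Then 𝒟' is a complete dévissage at q' with
the same relative dimensions: there is a datum 𝒜' for (𝒟', q') with d' = d whose primes qB'_i, qA'_i
lie over qB_i, qA_i for every step i below the length. -/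
theorem result
    (R S : Type u) [CommRing R] [CommRing S] [Algebra R S] [Algebra.FiniteType R S]
    (N : Type u) [AddCommGroup N] [Module S N] [Module.Finite S N]
    (p : Ideal R) [p.IsPrime] (q : Ideal S) [q.IsPrime] (𝒟 : FlatCA.CompleteDevissage R S N p)
    (𝒜 : FlatCA.CompleteDevissageAt R S N p q 𝒟)
    (R' : Type u) [CommRing R'] [Algebra R R'] (p' : Ideal R') [p'.IsPrime] [hp' : p'.LiesOver p]
    (hκ : Function.Bijective (Ideal.ResidueField.mapₐ p p' (Algebra.ofId R R') hp'.over))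
    (S' : Type u) [CommRing S'] [Algebra R' S'] [Algebra R S'] [Algebra S S'] [IsScalarTower R R' S']
    [IsScalarTower R S S'] [Algebra.IsPushout R R' S S']
    (N' : Type u) [AddCommGroup N'] [Module S' N'] [Module S N'] [IsScalarTower S S' N']
    (f : N →ₗ[S] N') (hf : IsBaseChange S' f)
    (q' : Ideal S') [q'.IsPrime] [q'.LiesOver q] [q'.LiesOver p']
    (𝒟' : FlatCA.CompleteDevissage R' S' N' p') (hn : 𝒟'.n = 𝒟.n)
    (htail : ∀ i, 𝒟.n ≤ i → ∃ (Q : Ideal (𝒟'.B i)) (P : Ideal (𝒟'.A i)),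
      Q.IsPrime ∧ P.IsPrime ∧ Q.LiesOver p' ∧ P.LiesOver Q)
    [aA : ∀ i : Fin 𝒟.n, Algebra (𝒟.A i) (𝒟'.A i)] [rA : ∀ i : Fin 𝒟.n, Algebra R (𝒟'.A i)]
      [∀ i : Fin 𝒟.n, IsScalarTower R (R') (𝒟'.A i)] [∀ i : Fin 𝒟.n, IsScalarTower R (𝒟.A i) (𝒟'.A i)]
      [aB : ∀ i : Fin 𝒟.n, Algebra (𝒟.B i) (𝒟'.B i)] [rB : ∀ i : Fin 𝒟.n, Algebra R (𝒟'.B i)]
      [∀ i : Fin 𝒟.n, IsScalarTower R (R') (𝒟'.B i)] [∀ i : Fin 𝒟.n, IsScalarTower R (𝒟.B i) (𝒟'.B i)]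
      [bA : ∀ i : Fin 𝒟.n, Algebra (𝒟.B i) (𝒟'.A i)] [∀ i : Fin 𝒟.n, IsScalarTower (𝒟.B i) (𝒟.A i) (𝒟'.A i)]
      [∀ i : Fin 𝒟.n, IsScalarTower (𝒟.B i) (𝒟'.B i) (𝒟'.A i)]
      [bA' : ∀ i : Fin 𝒟.n, Algebra (𝒟.B i) (𝒟'.A (i + 1))]
      [∀ i : Fin 𝒟.n, IsScalarTower (𝒟.B i) (𝒟'.B i) (𝒟'.A (i + 1))]
      [sA : Algebra S (𝒟'.A 0)] [IsScalarTower S (S') (𝒟'.A 0)]
      [mA : ∀ i : Fin 𝒟.n, Module (𝒟.A i) (𝒟'.M i)] [∀ i : Fin 𝒟.n, IsScalarTower (𝒟.A i) (𝒟'.A i) (𝒟'.M i)]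
      (gM : ∀ i : Fin 𝒟.n, 𝒟.M i →ₗ[𝒟.A i] 𝒟'.M i)
    (hbc : (letI := aA ⟨0, 𝒟.pos⟩; IsScalarTower S (𝒟.A 0) (𝒟'.A 0)) ∧
      (∀ x : N, 𝒟'.isoN (f x) = gM ⟨0, 𝒟.pos⟩ (𝒟.isoN x)) ∧
      (∀ (i : Fin 𝒟.n) (h : (i : ℕ) + 1 < 𝒟.n),
        letI := aA ⟨i + 1, h⟩; IsScalarTower (𝒟.B i) (𝒟.A (i + 1)) (𝒟'.A (i + 1))) ∧
      ∀ i : Fin 𝒟.n,
        Algebra.IsPushout R R' (𝒟.A i) (𝒟'.A i) ∧ Algebra.IsPushout R R' (𝒟.B i) (𝒟'.B i) ∧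
        IsBaseChange (𝒟'.A i) (gM i)) :
    ∃ 𝒜' : FlatCA.CompleteDevissageAt R' S' N' p' q' 𝒟', 𝒜'.d = 𝒜.d ∧
      ∀ i : Fin 𝒟.n, (𝒜'.qB i).LiesOver (𝒜.qB i) ∧ (𝒜'.qA i).LiesOver (𝒜.qA i) := by
  classical
  have hp : ResTriv p p' := ⟨hp', hκ⟩
  obtain ⟨hSA, hiso, hBA', hpo⟩ := hbc
  -- instances of `𝒜`
  have iqB : ∀ i, (𝒜.qB i).IsPrime := 𝒜.hqB
  have iqA : ∀ i, (𝒜.qA i).IsPrime := 𝒜.hqA
  have ioB : ∀ i, (𝒜.qB i).LiesOver p := 𝒜.overB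
  have ioA : ∀ i, (𝒜.qA i).LiesOver (𝒜.qB i) := 𝒜.overA
  -- the points at each index
  have key : ∀ i : Fin 𝒟.n, ∃ (Q : Ideal (𝒟'.B i)) (P : Ideal (𝒟'.A i)) (_ : Q.IsPrime) (_ : P.IsPrime),
      ResTriv (𝒜.qB i) Q ∧ ResTriv (𝒜.qA i) P ∧ Q.LiesOver p' ∧ P.LiesOver p' ∧ P.LiesOver Q ∧
      (∀ (Q₁ : Ideal (𝒟'.B i)) [Q₁.IsPrime], Q₁.LiesOver (𝒜.qB i) → Q₁.LiesOver p' → Q₁ = Q) ∧
      (∀ (Q₁ : Ideal (𝒟'.A i)) [Q₁.IsPrime], Q₁.LiesOver (𝒜.qA i) → Q₁.LiesOver p' → Q₁ = P) ∧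
      (∀ (Q₁ : Ideal (𝒟'.A i)) [Q₁.IsPrime], Q₁.LiesOver Q → Q₁ = P) := by
    intro i
    obtain ⟨h1, h2, h3, h4⟩ := hpo i
    have h1' : Algebra.IsPushout R (𝒟.A i) R' (𝒟'.A i) := Algebra.IsPushout.symm inferInstance
    have h2' : Algebra.IsPushout R (𝒟.B i) R' (𝒟'.B i) := Algebra.IsPushout.symm inferInstance
    exact K261.PointsBC.exists_points hp (𝒜.qB i) (𝒜.qA i) (𝒜.uniq i i.2)
  obtain ⟨qB', qA', key', ktail⟩ : ∃ (qB' : ∀ i, Ideal (𝒟'.B i)) (qA' : ∀ i, Ideal (𝒟'.A i)),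
      (∀ i : Fin 𝒟.n, ∃ (_ : (qB' i).IsPrime) (_ : (qA' i).IsPrime),
      ResTriv (𝒜.qB i) (qB' i) ∧ ResTriv (𝒜.qA i) (qA' i) ∧ (qB' i).LiesOver p' ∧
      (qA' i).LiesOver p' ∧ (qA' i).LiesOver (qB' i) ∧
      (∀ (Q₁ : Ideal (𝒟'.B i)) [Q₁.IsPrime], Q₁.LiesOver (𝒜.qB i) → Q₁.LiesOver p' → Q₁ = qB' i) ∧
      (∀ (Q₁ : Ideal (𝒟'.A i)) [Q₁.IsPrime], Q₁.LiesOver (𝒜.qA i) → Q₁.LiesOver p' → Q₁ = qA' i) ∧
      (∀ (Q₁ : Ideal (𝒟'.A i)) [Q₁.IsPrime], Q₁.LiesOver (qB' i) → Q₁ = qA' i)) ∧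
      (∀ i, (qB' i).IsPrime ∧ (qA' i).IsPrime ∧ (qB' i).LiesOver p' ∧ (qA' i).LiesOver (qB' i)) := by
    choose Q P hQ hP hprops using key
    choose Qt Pt ht using htail
    refine ⟨fun i => if h : i < 𝒟.n then Q ⟨i, h⟩ else Qt i (not_lt.mp h),
      fun i => if h : i < 𝒟.n then P ⟨i, h⟩ else Pt i (not_lt.mp h), ?_, ?_⟩
    · rintro ⟨i, hi⟩
      simp only [dif_pos hi]
      exact ⟨hQ ⟨i, hi⟩, hP ⟨i, hi⟩, hprops ⟨i, hi⟩⟩
    · intro i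
      by_cases hi : i < 𝒟.n
      · simp only [dif_pos hi]
        exact ⟨hQ ⟨i, hi⟩, hP ⟨i, hi⟩, (hprops ⟨i, hi⟩).2.2.1, (hprops ⟨i, hi⟩).2.2.2.2.1⟩
      · simp only [dif_neg hi]
        exact ht i (not_lt.mp hi)
  have jB : ∀ i, (qB' i).IsPrime := fun i => (ktail i).1
  have jA : ∀ i, (qA' i).IsPrime := fun i => (ktail i).2.1
  have joB : ∀ i, (qB' i).LiesOver p' := fun i => (ktail i).2.2.1
  have joA : ∀ i, (qA' i).LiesOver (qB' i) := fun i => (ktail i).2.2.2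
  have k1 : ∀ i : Fin 𝒟.n, ResTriv (𝒜.qB i) (qB' i) := fun i => (key' i).2.2.1
  have k2 : ∀ i : Fin 𝒟.n, ResTriv (𝒜.qA i) (qA' i) := fun i => (key' i).2.2.2.1
  have k3 : ∀ i : Fin 𝒟.n, (qA' i).LiesOver p' := fun i => (key' i).2.2.2.2.2.1
  refine ⟨{
    qB := qB'
    qA := qA'
    hqB := jB
    hqA := jA
    overB := joB
    overA := joA
    pureTrans := ?_
    uniq := ?_
    q0 := ?_
    qStep := ?_
    d := 𝒜.d
    relDim := ?_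
    locDim := ?_ }, rfl, fun i => ⟨(k1 i).liesOver, (k2 i).liesOver⟩⟩
  · intro i hi
    rw [hn] at hi
    exact purelyTranscendental_of_resTriv hp (k1 ⟨i, hi⟩) (𝒜.pureTrans i hi)
  · intro i hi
    rw [hn] at hi
    exact fun Q _ hQ => (key' ⟨i, hi⟩).2.2.2.2.2.2.2.2.2 Q hQ
  · let a0 : Algebra (𝒟.A 0) (𝒟'.A 0) := aA ⟨0, 𝒟.pos⟩
    have tSA : IsScalarTower S (𝒟.A 0) (𝒟'.A 0) := hSA
    have ho : (𝒜.qA 0) = (qA' 0).comap (algebraMap (𝒟.A 0) (𝒟'.A 0)) :=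
      ((k2 ⟨0, 𝒟.pos⟩).liesOver).over
    have hop : p' = (qA' 0).comap (algebraMap R' (𝒟'.A 0)) := (k3 ⟨0, 𝒟.pos⟩).over
    have hqp : q.LiesOver p := by
      refine ⟨?_⟩
      have hAp : (𝒜.qA 0).LiesOver p := Ideal.LiesOver.trans (𝒜.qA 0) (𝒜.qB 0) p
      have h1 := hAp.over
      rw [Ideal.under_def, IsScalarTower.algebraMap_eq R S (𝒟.A 0), ← Ideal.comap_comap, 𝒜.q0] at h1
      exact h1
    have poS : Algebra.IsPushout R S R' S' := Algebra.IsPushout.symm inferInstance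
    obtain ⟨q₂, hq₂, hq₂r, hq₂p, hq₂u⟩ := exists_point (X₁ := S') hp q
    have e1 : q' = q₂ := hq₂u q' inferInstance inferInstance
    have hpr : ((qA' 0).comap (algebraMap S' (𝒟'.A 0))).IsPrime := Ideal.IsPrime.comap _
    rw [e1]
    refine hq₂u _ ⟨?_⟩ ⟨?_⟩
    · rw [Ideal.under_def, Ideal.comap_comap, ← IsScalarTower.algebraMap_eq S S' (𝒟'.A 0),
        IsScalarTower.algebraMap_eq S (𝒟.A 0) (𝒟'.A 0), ← Ideal.comap_comap, ← ho, 𝒜.q0]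
    · rw [Ideal.under_def, Ideal.comap_comap, ← IsScalarTower.algebraMap_eq R' S' (𝒟'.A 0)]
      exact hop
  · intro i hi
    rw [hn] at hi
    have hi' : i < 𝒟.n := by omega
    let a1 : Algebra (𝒟.A (i + 1)) (𝒟'.A (i + 1)) := aA ⟨i + 1, hi⟩
    let a2 : Algebra (𝒟.B i) (𝒟'.B i) := aB ⟨i, hi'⟩
    let a3 : Algebra (𝒟.B i) (𝒟'.A (i + 1)) := bA' ⟨i, hi'⟩
    have t1 : IsScalarTower (𝒟.B i) (𝒟.A (i + 1)) (𝒟'.A (i + 1)) := hBA' ⟨i, hi'⟩ hi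
    have t2 : IsScalarTower (𝒟.B i) (𝒟'.B i) (𝒟'.A (i + 1)) :=
      (inferInstance : IsScalarTower (𝒟.B (⟨i, hi'⟩ : Fin 𝒟.n)) (𝒟'.B (⟨i, hi'⟩ : Fin 𝒟.n))
        (𝒟'.A ((⟨i, hi'⟩ : Fin 𝒟.n) + 1)))
    have ho : (𝒜.qA (i + 1)) = (qA' (i + 1)).comap (algebraMap (𝒟.A (i + 1)) (𝒟'.A (i + 1))) :=
      ((k2 ⟨i + 1, hi⟩).liesOver).over
    have hop : p' = (qA' (i + 1)).comap (algebraMap R' (𝒟'.A (i + 1))) := (k3 ⟨i + 1, hi⟩).over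
    have hpr : ((qA' (i + 1)).comap (algebraMap (𝒟'.B i) (𝒟'.A (i + 1)))).IsPrime :=
      Ideal.IsPrime.comap _
    refine (key' ⟨i, hi'⟩).2.2.2.2.2.2.2.1 _ ⟨?_⟩ ⟨?_⟩
    · rw [Ideal.under_def]
      change _ = Ideal.comap (algebraMap (𝒟.B i) (𝒟'.B i)) _
      rw [Ideal.comap_comap, ← IsScalarTower.algebraMap_eq (𝒟.B i) (𝒟'.B i) (𝒟'.A (i + 1)),
        IsScalarTower.algebraMap_eq (𝒟.B i) (𝒟.A (i + 1)) (𝒟'.A (i + 1)), ← Ideal.comap_comap,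
        ← ho]
      exact (𝒜.qStep i hi).symm
    · rw [Ideal.under_def]
      change _ = Ideal.comap (algebraMap R' (𝒟'.B i)) _
      rw [Ideal.comap_comap, ← IsScalarTower.algebraMap_eq R' (𝒟'.B i) (𝒟'.A (i + 1))]
      exact hop
  · intro i hi
    rw [hn] at hi
    obtain ⟨h1, h2, h3⟩ := hpo ⟨i, hi⟩
    have h2' : Algebra.IsPushout R (𝒟.B (⟨i, hi⟩ : Fin 𝒟.n)) R' (𝒟'.B (⟨i, hi⟩ : Fin 𝒟.n)) :=
      Algebra.IsPushout.symm inferInstance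
    exact smoothRelDim_of_isPushout R (𝒟.B (⟨i, hi⟩ : Fin 𝒟.n)) R' (𝒟'.B (⟨i, hi⟩ : Fin 𝒟.n))
      (𝒜.d i) (𝒜.relDim i hi)
  · intro i hi
    rw [hn] at hi
    obtain ⟨h1, h2, h3⟩ := hpo ⟨i, hi⟩
    have h1' : Algebra.IsPushout R (𝒟.A (⟨i, hi⟩ : Fin 𝒟.n)) R' (𝒟'.A (⟨i, hi⟩ : Fin 𝒟.n)) :=
      Algebra.IsPushout.symm inferInstance
    have h2' : Algebra.IsPushout R (𝒟.B (⟨i, hi⟩ : Fin 𝒟.n)) R' (𝒟'.B (⟨i, hi⟩ : Fin 𝒟.n)) :=
      Algebra.IsPushout.symm inferInstance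
    have ho := (k1 ⟨i, hi⟩).liesOver
    exact K261.PointsBC.locDim_pair (B := 𝒟.B (⟨i, hi⟩ : Fin 𝒟.n)) (B' := 𝒟'.B (⟨i, hi⟩ : Fin 𝒟.n))
      (A := 𝒟.A (⟨i, hi⟩ : Fin 𝒟.n)) (A' := 𝒟'.A (⟨i, hi⟩ : Fin 𝒟.n))
      (gM ⟨i, hi⟩) h3 hp (𝒜.qB (⟨i, hi⟩ : Fin 𝒟.n)) (qB' (⟨i, hi⟩ : Fin 𝒟.n)) (𝒜.d i)
      (𝒜.locDim i hi)

end Groth.Agent.S12244
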