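import Groth.Statements.S12247
import Groth.Agent.FlatMor.K262.ShrAsm

set_option autoImplicit false
universe u
open FlatMor

namespace Groth.Agent.S12247

open TensorProduct in
/-- All schemes are affine and standard opens are rendered as localizations away from one element. Let R
→ S be of finite type, N a finite S-module, p ⊆ R and q ⊆ S primes, and (𝒟, 𝒜) a complete dévissage
of N/S/R at q in the prelude's algebraic form, of length m (rings A_i, smooth R-algebras B_i,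
modules M_i, maps α_i, points qA_i, qB_i, relative dimensions d_i, for i < m). Then for every w in
the last smooth algebra B_{m-1} outside its point qB_{m-1} there is a standard shrinking whose last
smooth piece is D(w) restricted over the shrunken base: g ∉ p and hX ∉ q, compatible structures
making S[1/hX] and N[1/hX] live over R[1/g], and a complete dévissage (𝒟', 𝒜') of N[1/hX] over
S[1/hX] relative to R[1/g] at the extended prime of q, of the same length, ranks and relative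
dimensions, whose rings A'_i, B'_i are localizations of A_i, B_i away from single elements a_i ∉
qA_i, b_i ∉ qB_i with b_{m-1} the product of w and the image of g (as algebras compatible with R →
R[1/g], with B_i → A_i, B_i → A_{i+1}, S → A_0 and S[1/hX] → A'_0), whose modules M'_i are the
corresponding localizations of M_i (compatibly with N ≅ M_0), whose points lie over the qA_i, qB_i,
and with the image of α_i generating the image of α'_i. (The cokernel identifications of 𝒟' are not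
pinned.) -/
theorem result
    (R S : Type u) [CommRing R] [CommRing S] [Algebra R S] [Algebra.FiniteType R S]
    (N : Type u) [AddCommGroup N] [Module S N] [Module.Finite S N]
    (p : Ideal R) [p.IsPrime] (q : Ideal S) [q.IsPrime] (𝒟 : FlatCA.CompleteDevissage R S N p)
    (𝒜 : FlatCA.CompleteDevissageAt R S N p q 𝒟)
    (w : 𝒟.B (𝒟.n - 1)) (hw : w ∉ 𝒜.qB (𝒟.n - 1)) :
    ∃ (g : R) (hX : S), g ∉ p ∧ hX ∉ q ∧
      ∃ (_ : Algebra (Localization.Away g) (Localization.Away hX)) (_ : IsScalarTower R (Localization.Away g) (Localization.Away hX))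
        (_ : Module (Localization.Away g) (LocalizedModule (Submonoid.powers hX) N)) (_ : IsScalarTower (Localization.Away g) (Localization.Away hX) (LocalizedModule (Submonoid.powers hX) N))
        (_ : (Ideal.map (algebraMap R (Localization.Away g)) p).IsPrime) (_ : (Ideal.map (algebraMap S (Localization.Away hX)) q).IsPrime)
        (𝒟' : FlatCA.CompleteDevissage (Localization.Away g) (Localization.Away hX) (LocalizedModule (Submonoid.powers hX) N) (Ideal.map (algebraMap R (Localization.Away g)) p))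
        (𝒜' : FlatCA.CompleteDevissageAt (Localization.Away g) (Localization.Away hX) (LocalizedModule (Submonoid.powers hX) N) (Ideal.map (algebraMap R (Localization.Away g)) p) (Ideal.map (algebraMap S (Localization.Away hX)) q) 𝒟')
        (a : ∀ i : Fin 𝒟.n, 𝒟.A i) (b : ∀ i : Fin 𝒟.n, 𝒟.B i)
      (aA : ∀ i : Fin 𝒟.n, Algebra (𝒟.A i) (𝒟'.A i)) (rA : ∀ i : Fin 𝒟.n, Algebra R (𝒟'.A i))
      (_t1 : ∀ i : Fin 𝒟.n, IsScalarTower R (Localization.Away g) (𝒟'.A i)) (_t2 : ∀ i : Fin 𝒟.n, IsScalarTower R (𝒟.A i) (𝒟'.A i))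
      (aB : ∀ i : Fin 𝒟.n, Algebra (𝒟.B i) (𝒟'.B i)) (rB : ∀ i : Fin 𝒟.n, Algebra R (𝒟'.B i))
      (_t3 : ∀ i : Fin 𝒟.n, IsScalarTower R (Localization.Away g) (𝒟'.B i)) (_t4 : ∀ i : Fin 𝒟.n, IsScalarTower R (𝒟.B i) (𝒟'.B i))
      (bA : ∀ i : Fin 𝒟.n, Algebra (𝒟.B i) (𝒟'.A i)) (_t5 : ∀ i : Fin 𝒟.n, IsScalarTower (𝒟.B i) (𝒟.A i) (𝒟'.A i))
      (_t6 : ∀ i : Fin 𝒟.n, IsScalarTower (𝒟.B i) (𝒟'.B i) (𝒟'.A i))
      (bA' : ∀ i : Fin 𝒟.n, Algebra (𝒟.B i) (𝒟'.A (i + 1)))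
      (_t7 : ∀ i : Fin 𝒟.n, IsScalarTower (𝒟.B i) (𝒟'.B i) (𝒟'.A (i + 1)))
      (sA : Algebra S (𝒟'.A 0)) (_t8 : IsScalarTower S (Localization.Away hX) (𝒟'.A 0))
      (mA : ∀ i : Fin 𝒟.n, Module (𝒟.A i) (𝒟'.M i)) (_t9 : ∀ i : Fin 𝒟.n, IsScalarTower (𝒟.A i) (𝒟'.A i) (𝒟'.M i))
      (gM : ∀ i : Fin 𝒟.n, 𝒟.M i →ₗ[𝒟.A i] 𝒟'.M i),
        𝒟'.n = 𝒟.n ∧ 𝒟'.r = 𝒟.r ∧ 𝒜'.d = 𝒜.d ∧
        (letI := aA ⟨0, 𝒟.pos⟩; IsScalarTower S (𝒟.A 0) (𝒟'.A 0)) ∧
      (∀ x : N, 𝒟'.isoN (LocalizedModule.mkLinearMap (Submonoid.powers hX) N x) = gM ⟨0, 𝒟.pos⟩ (𝒟.isoN x)) ∧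
      (∀ (i : Fin 𝒟.n) (h : (i : ℕ) + 1 < 𝒟.n),
        letI := aA ⟨i + 1, h⟩; IsScalarTower (𝒟.B i) (𝒟.A (i + 1)) (𝒟'.A (i + 1))) ∧
        b ⟨𝒟.n - 1, Nat.sub_one_lt_of_lt 𝒟.pos⟩ = w * algebraMap R (𝒟.B (𝒟.n - 1)) g ∧
        ∀ i : Fin 𝒟.n,
          a i ∉ 𝒜.qA i ∧ b i ∉ 𝒜.qB i ∧
          IsLocalization.Away (a i) (𝒟'.A i) ∧ IsLocalization.Away (b i) (𝒟'.B i) ∧
          IsLocalizedModule (Submonoid.powers (a i)) (gM i) ∧
          (𝒜'.qA i).LiesOver (𝒜.qA i) ∧ (𝒜'.qB i).LiesOver (𝒜.qB i) ∧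
          LinearMap.range (𝒟'.α i) =
            Submodule.span (𝒟'.B i) ((gM i) '' (LinearMap.range (𝒟.α i) : Set (𝒟.M i))) := by
  classical
  have hn : 0 < 𝒟.n := 𝒟.pos
  have hV3 : ∀ i, i + 1 < 𝒟.n → algebraMap (𝒟.B i) (𝒟.A (i + 1))
      (Function.update (fun i => (1 : 𝒟.B i)) (𝒟.n - 1) w i) ∣
      algebraMap (𝒟.B (i + 1)) (𝒟.A (i + 1))
        (Function.update (fun i => (1 : 𝒟.B i)) (𝒟.n - 1) w (i + 1)) := by
    intro i hi
    rw [Function.update_of_ne (by omega), map_one]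
    exact one_dvd _
  obtain ⟨W, h, hlast, hdvd, hhq, hW, hh, hm⟩ := K262.ShrFun.exists_family 𝒟 𝒜
    (Function.update (fun i => (1 : 𝒟.B i)) (𝒟.n - 1) w) hV3 (by rwa [Function.update_self]) 1
    (by rw [map_one]; exact one_dvd _)
  rw [Function.update_self] at hlast
  obtain ⟨g, hg, H⟩ := K262.ShrFun.exists_base 𝒟 𝒜 W hW
  let Z : K262.ShrFam.ShrData 𝒟 := ⟨g, W, hm⟩
  have iqA : ∀ i, (𝒜.qA i).IsPrime := 𝒜.hqA
  have iqB : ∀ i, (𝒜.qB i).IsPrime := 𝒜.hqB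
  have ioA : ∀ i, (𝒜.qA i).LiesOver (𝒜.qB i) := 𝒜.overA
  have ioB : ∀ i, (𝒜.qB i).LiesOver p := 𝒜.overB
  have hZX : algebraMap S (𝒟.A 0) (h * algebraMap R S g) = Z.a 0 := by
    change _ = algebraMap (𝒟.B 0) (𝒟.A 0) (W 0 * algebraMap R (𝒟.B 0) g)
    rw [map_mul, map_mul, hh, ← IsScalarTower.algebraMap_apply R S (𝒟.A 0),
      ← IsScalarTower.algebraMap_apply R (𝒟.B 0) (𝒟.A 0)]
  have hXq : h * algebraMap R S g ∉ q := by
    intro h0
    rw [← 𝒜.q0, Ideal.mem_comap, hZX] at h0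
    have h4 : W 0 * algebraMap R (𝒟.B 0) g ∈ 𝒜.qB 0 :=
      (Ideal.over_def (𝒜.qA 0) (𝒜.qB 0)).ge h0
    rcases Ideal.IsPrime.mem_or_mem inferInstance h4 with h5 | h5
    · exact hW 0 𝒟.pos h5
    · exact hg ((Ideal.over_def (𝒜.qB 0) p).ge h5)
  refine ⟨g, h * algebraMap R S g, hg, hXq, ?_⟩
  obtain ⟨x1, x2, x3, x4, x5, x6, 𝒟', 𝒜', aA, rA, t1, t2, aB, rB, t3, t4, bA, t5, t6, bA', t7, sA, t8,
    mA, t9, gM, y1, y2, y3, y4, y5, y6, y7⟩ := K262.ShrAsm.exists_shrink R S N p q 𝒟 𝒜 Z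
      (h * algebraMap R S g) hZX (dvd_mul_left _ _) hXq hg hW H
  refine ⟨x1, x2, x3, x4, x5, x6, 𝒟', 𝒜', fun i => Z.a i, fun i => Z.b i, aA, rA, t1, t2, aB, rB, t3,
    t4, bA, t5, t6, bA', t7, sA, t8, mA, t9, gM, y1, y2, y3, y4, y5, y6, ?_, y7⟩
  change W (𝒟.n - 1) * algebraMap R (𝒟.B (𝒟.n - 1)) g = _
  rw [hlast]

end Groth.Agent.S12247
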