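import Groth.Statements.S12259
import Groth.Agent.S12255
import Groth.Agent.S1613
import Groth.Agent.Pi1.H382.Trait

set_option autoImplicit false
universe u
open CategoryTheory CategoryTheory.Limits AlgebraicGeometry
open Deform

namespace Groth.Agent.S12259

/-- Let k be an algebraically closed field and X a nonsingular connected projective curve over k, i.e. X
is smooth over k, connected, of dimension one and a closed subscheme of some projective space P^n_k,
and assume its genus g = dim_k H^1(X, O_X) is at least 2. Then the local moduli functor Def_X
(isomorphism classes of deformations of X over local Artinian k-algebras with residue field k) is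
prorepresentable by a complete local Noetherian k-algebra with residue field k. (The published
statement treats every genus and identifies the prorepresenting ring with a power series ring in 0,
1 or 3g − 3 variables; this row is the prorepresentability for g ≥ 2 only.) -/
theorem result
    {k : Type u} [Field k] [IsAlgClosed k] (X : Scheme.{u}) [X.Over (Spec (CommRingCat.of k))]
    [Smooth (X ↘ Spec (CommRingCat.of k))] [IsSeparated (X ↘ Spec (CommRingCat.of k))]
    [QuasiCompact (X ↘ Spec (CommRingCat.of k))] [ConnectedSpace X]
    (hdim : topologicalKrullDim X = 1)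
    (hproj : ∃ (n : ℕ) (c : X ⟶ CohB1.ProjSpaceOver n (Spec (CommRingCat.of k))),
      IsClosedImmersion c ∧ c ≫ CohB1.ProjSpaceOver.toBase n (Spec (CommRingCat.of k)) = X ↘ Spec (CommRingCat.of k))
    (hg : 2 ≤ Curv2.genus k X) :
    ArtFun.IsProrepresentable (ArtFun.defFunctor (Λ := k) X (X ↘ Spec (CommRingCat.of k))) := by
  haveI hpr : IsProper (X ↘ (Spec (CommRingCat.of k))) := K680.RigPro.isProper_of_proj hproj
  haveI : IsIntegral X := Groth.Agent.Pi1.H382.Trait.isIntegral_of_smooth (X ↘ (Spec (CommRingCat.of k)))
  exact Groth.Agent.S12255.result X (X ↘ (Spec (CommRingCat.of k))) hproj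
    ⟨fun a b => (Groth.Agent.S1613.result k X ⟨hpr, ‹_›, ‹_›, hdim⟩ hg a).trans
      (Groth.Agent.S1613.result k X ⟨hpr, ‹_›, ‹_›, hdim⟩ hg b).symm⟩

end Groth.Agent.S12259
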