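import Groth.Statements.S12261
import Groth.Agent.S12253
import Groth.Agent.S12260
import Groth.Agent.S12274
import Groth.Agent.S12726
import Groth.Agent.Deform.K723.NormalFin

set_option autoImplicit false
universe u
open CategoryTheory CategoryTheory.Limits AlgebraicGeometry
open Deform

namespace Groth.Agent.S12261

/-- Let k be an algebraically closed field, Y a separated k-scheme of finite type and X ⊆ Y the closed
subscheme of a quasi-coherent ideal sheaf I₀; assume X is projective over k, i.e. X admits a closed
immersion over k into some projective space P^n_k. Then the local Hilbert functor of X in Y (closed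
subschemes of Y ×_k Spec A flat over Spec A restricting to X on the closed fibre, for A local
Artinian with residue field k) is prorepresentable by a complete local Noetherian k-algebra with
residue field k. (The published statement assumes only that the space of global sections of the
normal sheaf of X in Y is finite-dimensional, X projective being the named instance; this row states
the projective case.) -/
theorem result
    {k : Type u} [Field k] [IsAlgClosed k] (Y : Scheme.{u}) (y : Y ⟶ Spec (CommRingCat.of k))
    [LocallyOfFiniteType y] [IsSeparated y] [QuasiCompact y] (I₀ : Y.IdealSheafData)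
    (hproj : ∃ (n : ℕ) (c : I₀.subscheme ⟶ CohB1.ProjSpaceOver n (Spec (CommRingCat.of k))),
      IsClosedImmersion c ∧ c ≫ CohB1.ProjSpaceOver.toBase n (Spec (CommRingCat.of k)) = I₀.subschemeι ≫ y) :
    ArtFun.IsProrepresentable (ArtFun.localHilb Y y I₀) := by
  letI : Y.Over (Spec (CommRingCat.of k)) := ⟨y⟩
  letI : I₀.subscheme.Over (Spec (CommRingCat.of k)) := ⟨I₀.subschemeι ≫ y⟩
  haveI : LocallyOfFiniteType (Y ↘ Spec (CommRingCat.of k)) := inferInstanceAs (LocallyOfFiniteType y)
  haveI : IsSeparated (Y ↘ Spec (CommRingCat.of k)) := inferInstanceAs (IsSeparated y)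
  haveI : QuasiCompact (Y ↘ Spec (CommRingCat.of k)) := inferInstanceAs (QuasiCompact y)
  haveI : IsLocallyNoetherian Y := LocallyOfFiniteType.isLocallyNoetherian y
  haveI : IsProper (I₀.subscheme ↘ Spec (CommRingCat.of k)) := K723.NormalFin.isProper_of_proj (I₀.subschemeι ≫ y) hproj
  haveI := Groth.Agent.Sga2.PnHomAdj.hasSheafHom (Omega.conormal I₀.subschemeι)
  obtain ⟨h0, h2, -, -⟩ := Groth.Agent.S12260.result Y y I₀
  obtain ⟨TS⟩ := Groth.Agent.S12726.result (ArtFun.localHilb Y y I₀) h0 h2
  letI := TS
  haveI : IsAdicComplete (IsLocalRing.maximalIdeal k) k := by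
    rw [IsLocalRing.maximalIdeal_eq_bot]
    infer_instance
  refine (Groth.Agent.S12253.result (Λ := k) (ArtFun.localHilb Y y I₀) h0).2 ⟨K680.LHFib.isLeftExact y I₀, ?_⟩
  letI : ArtFun.TangentStr (ArtFun.localHilb Y (Y ↘ Spec (CommRingCat.of k)) I₀) := TS
  obtain ⟨e⟩ := Groth.Agent.S12274.result (k := k) Y I₀ rfl
  have hfin := K723.NormalFin.finite_HH_normal k I₀.subschemeι 0
  exact Module.Finite.equiv e.symm

end Groth.Agent.S12261
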