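import Groth.Statements.S12269
import Groth.Agent.Deform.K681.ExtOne
import Groth.Agent.Deform.K681.KosRel

set_option autoImplicit false
universe u
open CategoryTheory
open Deform

namespace Groth.Agent.S12269

open CotT TensorProduct K681.KosRel

variable {k : Type u} [Field k] {B₀ : Type u} [CommRing B₀] [Algebra k B₀] {ι σ : Type u}
    (P : Algebra.Presentation k B₀ ι σ)

local notation "RR" => P.toExtension.Ring

lemma mem_trivRel_of_mem_TR {q : relMod P} (hq : q ∈ TR (rel P)) : q ∈ trivRel P := by
  have : TR (rel P) ≤ trivRel P := by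
    refine Submodule.span_le.2 ?_
    rintro _ ⟨s, t, rfl⟩
    refine Submodule.subset_span ⟨Finsupp.single s 1, Finsupp.single t 1, ?_⟩
    rw [jmap_single, jmap_single, one_mul, one_mul]
  exact this hq

lemma algebraMap_surj : Function.Surjective (algebraMap RR B₀) := P.toExtension.algebraMap_surjective

lemma exists_rep (x : L2 P) : ∃ q : relKer P, x = Submodule.Quotient.mk ((1 : B₀) ⊗ₜ q) := by
  obtain ⟨y, rfl⟩ := Submodule.Quotient.mk_surjective _ x
  obtain ⟨q, rfl⟩ := TensorProduct.mk_surjective RR (relKer P) B₀ (algebraMap_surj P) y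
  exact ⟨q, rfl⟩

lemma coeff_mem (q : relMod P) (h : (1 : B₀) ⊗ₜ[RR] q = (0 : L1 P)) (s : σ) :
    q s ∈ RingHom.ker (algebraMap RR B₀) := by
  have h1 := congrArg (fun z => (Algebra.TensorProduct.basis B₀
    (Finsupp.basisSingleOne : Module.Basis σ RR (relMod P))).repr z s) h
  simpa using h1

lemma mk_smul (m : RR) (q : relKer P) :
    (Submodule.Quotient.mk ((1 : B₀) ⊗ₜ (m • q)) : L2 P) =
      algebraMap RR B₀ m • (Submodule.Quotient.mk ((1 : B₀) ⊗ₜ q) : L2 P) := by
  rw [← Submodule.Quotient.mk_smul, TensorProduct.smul_tmul', ← TensorProduct.smul_tmul, Algebra.smul_def]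
  simp

lemma mk_eq_zero (q : relKer P) (hq : (q : relMod P) ∈ trivRel P) :
    (Submodule.Quotient.mk ((1 : B₀) ⊗ₜ q) : L2 P) = 0 := by
  rw [Submodule.Quotient.mk_eq_zero]
  exact ⟨(1 : B₀) ⊗ₜ (⟨q, hq⟩ : trivRelKer P), by simp⟩

theorem key [Finite ι] [IsReduced B₀] (φ : L2 P →ₗ[B₀] B₀) (x : L2 P) (hx : d2 P x = 0) : φ x = 0 := by
  classical
  obtain ⟨q, rfl⟩ := exists_rep P x
  rw [d2_mk_tmul] at hx
  have hqI := coeff_mem P (q : relMod P) hx
  have hker : RingHom.ker (algebraMap RR B₀) = Ideal.span (Set.range (rel P)) :=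
    P.span_range_relation_eq_ker.symm
  have hrad : (RingHom.ker (algebraMap RR B₀)).radical = RingHom.ker (algebraMap RR B₀) := by
    refine Ideal.IsRadical.radical ?_
    rintro r ⟨n, hn⟩
    rw [RingHom.mem_ker, map_pow] at hn
    exact IsReduced.eq_zero _ ⟨n, hn⟩
  have hreg : IsRegularRing RR := inferInstanceAs (IsRegularRing (MvPolynomial ι k))
  -- it suffices to show that φ x lies in every minimal prime
  have hmain : ∀ p ∈ minimalPrimes B₀, φ (Submodule.Quotient.mk ((1 : B₀) ⊗ₜ q)) ∈ p := by
    intro p hp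
    have hpp : p.IsPrime := hp.1.1
    let P' : Ideal RR := p.comap (algebraMap RR B₀)
    have hP' : P' ∈ (RingHom.ker (algebraMap RR B₀)).minimalPrimes :=
      Ideal.minimalPrimes_comap_of_surjective (algebraMap_surj P) hp
    let S := Localization.AtPrime P'
    have hmax : (RingHom.ker (algebraMap RR B₀)).map (algebraMap RR S) = IsLocalRing.maximalIdeal S := by
      have h1 : ((RingHom.ker (algebraMap RR B₀)).map (algebraMap RR S)).radical = P'.map (algebraMap RR S) :=
        IsLocalization.AtPrime.radical_map_of_mem_minimalPrimes S P' _ hP'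
      rw [← Localization.AtPrime.map_eq_maximalIdeal, ← h1, ← IsLocalization.map_radical P'.primeCompl, hrad]
    have hSreg : IsRegularLocalRing S := IsRegularRing.isRegularLocalRing_localization P'
    -- a regular system of parameters
    obtain ⟨c, y, hy1, hy2⟩ : ∃ (c : ℕ) (y : Fin c → S), Ideal.span (Set.range y) = IsLocalRing.maximalIdeal S ∧
        CAlgX.IsH1Regular y := by
      have hfg := (IsLocalRing.maximalIdeal S).fg_of_isNoetherianRing
      have hfin := Submodule.FG.finite_generators hfg
      let rs : List S := hfin.toFinset.toList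
      have hl : rs.length = (IsLocalRing.maximalIdeal S).spanFinrank := by
        have h1 : (IsLocalRing.maximalIdeal S).generators.ncard = (IsLocalRing.maximalIdeal S).spanFinrank :=
          Submodule.FG.generators_ncard hfg
        rw [Finset.length_toList, ← h1, Set.ncard_eq_toFinset_card _ hfin]
      have hspan : Ideal.ofList rs = IsLocalRing.maximalIdeal S := by
        have h1 : {x | x ∈ rs} = (IsLocalRing.maximalIdeal S).generators := by
          ext x
          simp [rs]
        rw [Ideal.ofList, h1]
        exact Submodule.span_generators _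
      have hr := Groth.Agent.CalgA.RegBasic.isRegular_of_ofList_eq _ S rs hl
        (IsRegularLocalRing.spanFinrank_maximalIdeal (R := S)).symm hspan
      refine ⟨rs.length, rs.get, ?_, ?_⟩
      · rw [← hspan, Ideal.ofList]
        congr 1
        ext z
        simp [List.mem_iff_get]
      · refine Groth.Agent.CalgB.H1OfRegular.isH1Regular_of_isWeaklyRegular _ ?_
        rw [List.ofFn_get]
        exact hr.toIsWeaklyRegular
    have hspan : Ideal.span (Set.range fun s => algebraMap RR S (rel P s)) = Ideal.span (Set.range y) := by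
      rw [hy1, ← hmax, hker, Ideal.map_span, ← Set.range_comp]
      rfl
    have h2 : (q : relMod P).mapRange (algebraMap RR S) (map_zero _) ∈ TR (fun s => algebraMap RR S (rel P s)) := by
      refine mem_TR_of_isH1Regular hy2 hspan ?_ ?_
      · have h3 : ev (fun s => algebraMap RR S (rel P s)) ((q : relMod P).mapRange (algebraMap RR S) (map_zero _)) =
            algebraMap RR S (jmap P q) := by
          rw [ev, Finsupp.linearCombination_apply, Finsupp.sum_mapRange_index (by simp), jmap,
            Finsupp.linearCombination_apply, Finsupp.sum, Finsupp.sum, map_sum]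
          simp
        have h4 : jmap P (q : relMod P) = 0 := q.2
        rw [h3, h4, map_zero]
      · intro s
        rw [hspan, hy1, ← hmax, Finsupp.mapRange_apply]
        exact Ideal.mem_map_of_mem _ (hqI s)
    obtain ⟨m, hm, hmq⟩ := exists_smul_mem_TR_of_localization P'.primeCompl S (rel P) (q : relMod P) h2
    have h5 : algebraMap RR B₀ m • (Submodule.Quotient.mk ((1 : B₀) ⊗ₜ q) : L2 P) = 0 := by
      rw [← mk_smul]
      exact mk_eq_zero P _ (mem_trivRel_of_mem_TR P hmq)
    have h6 : algebraMap RR B₀ m * φ (Submodule.Quotient.mk ((1 : B₀) ⊗ₜ q)) = 0 := by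
      rw [← smul_eq_mul, ← map_smul, h5, map_zero]
    have h7 : algebraMap RR B₀ m ∉ p := hm
    exact (hpp.mem_or_mem (h6 ▸ p.zero_mem)).resolve_left h7
  have h8 : φ (Submodule.Quotient.mk ((1 : B₀) ⊗ₜ q)) ∈ sInf (minimalPrimes B₀) := by
    rw [Submodule.mem_sInf]
    exact hmain
  have h9 : sInf (minimalPrimes B₀) = (⊥ : Ideal B₀).radical := Ideal.sInf_minimalPrimes
  rw [h9] at h8
  have h10 : (⊥ : Ideal B₀).radical = ⊥ := by
    have := nilradical_eq_zero B₀
    exact this
  rw [h10] at h8
  exact h8

lemma exists_jmap_eq_of_mem_sq (z : RR) (hz : z ∈ P.toExtension.ker ^ 2) :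
    ∃ g : relMod P, jmap P g = z ∧ (1 : B₀) ⊗ₜ[RR] g = (0 : L1 P) := by
  rw [sq] at hz
  induction hz using Submodule.mul_induction_on' with
  | mem_mul_mem a ha b hb =>
    have hb' : b ∈ LinearMap.range (jmap P) := by rw [range_jmap]; exact hb
    obtain ⟨g, rfl⟩ := hb'
    refine ⟨a • g, by rw [map_smul, smul_eq_mul], ?_⟩
    have ha' : algebraMap RR B₀ a = 0 := ha
    rw [← TensorProduct.smul_tmul, Algebra.smul_def, ha', zero_mul, TensorProduct.zero_tmul]
  | add x hx y hy h1 h2 =>
    obtain ⟨g, hg, hg'⟩ := h1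
    obtain ⟨g', hg1, hg1'⟩ := h2
    exact ⟨g + g', by rw [map_add, hg, hg1], by rw [TensorProduct.tmul_add, hg', hg1', add_zero]⟩

theorem exact_toCot : Function.Exact (d2 P) (toCot P) := by
  intro x
  constructor
  · intro hx
    obtain ⟨f, rfl⟩ := TensorProduct.mk_surjective RR (relMod P) B₀ (algebraMap_surj P) x
    rw [TensorProduct.mk_apply, toCot_tmul, one_smul, Algebra.Extension.Cotangent.mk_eq_zero_iff] at hx
    obtain ⟨g, hg, hg'⟩ := exists_jmap_eq_of_mem_sq P _ hx
    have hq : f - g ∈ relKer P := by
      change jmap P (f - g) = 0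
      rw [map_sub, hg, jker_apply, sub_self]
    have h1 : d2 P (Submodule.Quotient.mk (1 ⊗ₜ ⟨f - g, hq⟩)) = TensorProduct.mk RR B₀ (relMod P) 1 f := by
      rw [d2_mk_tmul, TensorProduct.tmul_sub, hg', sub_zero]
      rfl
    exact ⟨_, h1⟩
  · rintro ⟨y, rfl⟩
    exact LinearMap.congr_fun (toCot_comp_d2 P) y

theorem toCot_surjective : Function.Surjective (toCot P) := by
  intro x
  obtain ⟨x, rfl⟩ := Algebra.Extension.Cotangent.mk_surjective x
  have hx : (x : RR) ∈ LinearMap.range (jmap P) := by
    rw [range_jmap]; exact x.2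
  obtain ⟨f, hf⟩ := hx
  refine ⟨1 ⊗ₜ f, ?_⟩
  rw [toCot_tmul, one_smul]
  congr 1
  exact Subtype.ext hf

/-- Let k be an algebraically closed field and B₀ a reduced k-algebra given with a finite presentation P
= k[X_i]/I (finitely many variables and relations); let T² = T²(B₀/k, B₀) be the second cotangent
module computed from P and I/I² the conormal module of the presentation. Then T² and Ext¹_{B₀}(I/I²,
B₀) are isomorphic B₀-modules (existence of a B₀-linear isomorphism; the published one is induced by
the chosen presentation). (The published statement allows the quotient of any smooth k-algebra; this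
row takes a polynomial presentation.) -/
theorem result
    {k : Type u} [Field k] [IsAlgClosed k] (B₀ : Type u) [CommRing B₀] [Algebra k B₀] {ι σ : Type u} [Finite ι] [Finite σ]
    (P : Algebra.Presentation k B₀ ι σ) [IsReduced B₀] :
    Nonempty (CotT.T2 P B₀ ≃ₗ[B₀]
      Abelian.Ext (ModuleCat.of B₀ P.toExtension.Cotangent) (ModuleCat.of B₀ B₀) 1) := by
  have hfree : Module.Free B₀ (L1 P) := Module.Free.of_basis (L1basis P)
  exact K681.ExtOne.nonempty_quot_equiv_ext_one' (N := B₀) (d2 P) (toCot P) (exact_toCot P) (toCot_surjective P)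
    (key P)

end Groth.Agent.S12269
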