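import Groth.Statements.S12272
import Groth.Agent.S12276
import Groth.Agent.Deform.K680.LHFib
import Groth.Agent.SGA7.K565.ArtTools
import Groth.Agent.SGA7.K566.VersalLift
import Groth.Agent.Sga2.PnHomAdj
import Groth.Agent.Dcoh.MonClosed
import Groth.Agent.CurvesB.HZero
import Groth.Agent.Fga.HShift

set_option autoImplicit false
universe u
open CategoryTheory CategoryTheory.Limits AlgebraicGeometry
attribute [local instance] HasDerivedCategory.standard
open Deform

namespace Groth.Agent.S12272

/-- `H⁰(X, Hom(M, N)) = 0` iff `Hom(M, N) = 0`. -/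
theorem subsingleton_hh_iff {X : Scheme.{u}} (M N : X.Modules) [DCoh.HasSheafHom M] :
    Subsingleton (Coh.HH X ((DCoh.sheafHom M).obj N) 0) ↔ Subsingleton (M ⟶ N) := by
  have e : (DCoh.sheafHom M).obj N ≅ Groth.Agent.CohqB.HomSheaf.homSheaf M N :=
    (Groth.Agent.Sga2.PnHomAdj.sheafHomIso M).app N
  have e0 : Coh.HH X (Groth.Agent.CohqB.HomSheaf.homSheaf M N) 0 ≃ (M ⟶ N) :=
    ((Groth.Agent.CurvesB.HZero.equivAdd _).trans (Groth.Agent.CohqB.HomSheaf.topEquiv M N)).toEquiv
  constructor
  · intro h
    have h1 := Groth.Agent.Fga.HShift.subsingleton_of_iso e 0 h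
    exact e0.symm.subsingleton
  · intro h
    exact Groth.Agent.Fga.HShift.subsingleton_of_iso e.symm 0 e0.subsingleton

/-- Maps out of the conormal module. -/
theorem subsingleton_conormal_iff {X Y : Scheme.{u}} (i : X ⟶ Y) :
    Subsingleton (Omega.conormal i ⟶ Coh.structureModule X) ↔
      Subsingleton (ClSub.idealMod i.ker ⟶ (Scheme.Modules.pushforward i).obj (Coh.structureModule X)) :=
  ((Scheme.Modules.pullbackPushforwardAdjunction i).homEquiv _ _).subsingleton_congr

theorem isIso_unitToPush {Z Z' : Scheme.{u}} (e : Z ⟶ Z') [IsIso e] :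
    IsIso (C := Z'.Modules) (ClSub.unitToPush e) := by
  rw [Scheme.Modules.Hom.isIso_iff_isIso_app]
  intro U
  rw [ConcreteCategory.isIso_iff_bijective]
  exact ConcreteCategory.bijective_of_isIso (e.app U)

/-- The two models of the closed subscheme. -/
theorem nonempty_pushforward_iso {X Z Y : Scheme.{u}} (θ : X ⟶ Z) [IsIso θ] (j : Z ⟶ Y) :
    Nonempty ((Scheme.Modules.pushforward (θ ≫ j)).obj (Coh.structureModule X) ≅
      (Scheme.Modules.pushforward j).obj (Coh.structureModule Z)) := by
  have := isIso_unitToPush θ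
  exact ⟨(Scheme.Modules.pushforwardComp θ j).symm.app (Coh.structureModule X) ≪≫
    (Scheme.Modules.pushforward j).mapIso (asIso (ClSub.unitToPush θ)).symm⟩

theorem conormal_transport {X Y : Scheme.{u}} (i : X ⟶ Y) [IsClosedImmersion i] :
    Subsingleton (Omega.conormal i ⟶ Coh.structureModule X) ↔
      Subsingleton (Omega.conormal i.ker.subschemeι ⟶ Coh.structureModule i.ker.subscheme) := by
  have hk : i.ker.subschemeι.ker = i.ker := i.ker.ker_subschemeι
  rw [subsingleton_conormal_iff i, subsingleton_conormal_iff i.ker.subschemeι, hk]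
  let θ : X ⟶ i.ker.subscheme := IsClosedImmersion.lift i.ker.subschemeι i hk.le
  have hθ : IsIso θ := IsClosedImmersion.isIso_lift _ _ hk
  have hfac : θ ≫ i.ker.subschemeι = i := IsClosedImmersion.lift_fac _ _ _
  obtain ⟨e⟩ := nonempty_pushforward_iso θ i.ker.subschemeι
  let e' := (Scheme.Modules.pushforwardCongr hfac).symm.app (Coh.structureModule X) ≪≫ e
  exact (e'.homToEquiv (Z := ClSub.idealMod i.ker)).subsingleton_congr

/-- A tensor product of nonzero spaces is nonzero. -/
theorem subsingleton_of_tensor {k V W : Type u} [Field k] [AddCommGroup V] [Module k V] [AddCommGroup W]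
    [Module k W] (t : W) (ht : t ≠ 0) (h : Subsingleton (TensorProduct k V W)) : Subsingleton V := by
  obtain ⟨l, hl⟩ : ∃ l : W →ₗ[k] k, l t = 1 := by
    obtain ⟨l, hl⟩ := LinearMap.exists_leftInverse_of_injective (LinearMap.toSpanSingleton k W t)
      (LinearMap.ker_toSpanSingleton k ht)
    refine ⟨l, ?_⟩
    have h2 := LinearMap.congr_fun hl (1 : k)
    simpa using h2
  refine ⟨fun a b => ?_⟩
  have h1 : (TensorProduct.rid k V) (LinearMap.lTensor V l (TensorProduct.tmul k a t)) =
      (TensorProduct.rid k V) (LinearMap.lTensor V l (TensorProduct.tmul k b t)) := by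
    rw [Subsingleton.elim (TensorProduct.tmul k a t) (TensorProduct.tmul k b t)]
  simpa [hl] using h1

/-- Let k be an algebraically closed field, Y a separated k-scheme of finite type and i : X → Y a
regular closed immersion over k with X projective over k; let N = Hom_{O_X}(I/I², O_X) be the normal
sheaf (sheaf Hom of the conormal sheaf of i, as a right adjoint, assumed to exist). Then X is rigid
in Y, meaning that for every local Artinian k-algebra A with residue field k there is at most one
closed subscheme of Y ×_k Spec A flat over Spec A restricting to X on the closed fibre (necessarily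
X ×_k Spec A), if and only if H⁰(X, N) = 0. -/
theorem result
    {k : Type u} [Field k] [IsAlgClosed k] (Y : Scheme.{u}) (y : Y ⟶ Spec (CommRingCat.of k))
    [LocallyOfFiniteType y] [IsSeparated y] [QuasiCompact y]
    (X : Scheme.{u}) [X.Over (Spec (CommRingCat.of k))] (i : X ⟶ Y) [IsClosedImmersion i] (hi : i ≫ y = X ↘ (Spec (CommRingCat.of k)))
    (hreg : Mor2.IsRegularClosedImmersion i)
    (hproj : ∃ (n : ℕ) (c : X ⟶ CohB1.ProjSpaceOver n (Spec (CommRingCat.of k))),
      IsClosedImmersion c ∧ c ≫ CohB1.ProjSpaceOver.toBase n (Spec (CommRingCat.of k)) = X ↘ (Spec (CommRingCat.of k)))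
    [DCoh.HasSheafHom (Omega.conormal i)] :
    (∀ A : ArtFun.Art k k, Subsingleton ((ArtFun.localHilb Y y i.ker).obj A)) ↔
      Subsingleton (Coh.HH X ((DCoh.sheafHom (Omega.conormal i)).obj (Coh.structureModule X)) 0) := by
  classical
  rw [subsingleton_hh_iff, conormal_transport i]
  letI : i.ker.subscheme.Over (Spec (CommRingCat.of k)) := ⟨i.ker.subschemeι ≫ y⟩
  letI : Y.Over (Spec (CommRingCat.of k)) := ⟨y⟩
  have hsh : DCoh.HasSheafHom (Omega.conormal i.ker.subschemeι) := Groth.Agent.Dcoh.MonClosed.hasSheafHom _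
  rw [← subsingleton_hh_iff]
  have key : ∀ {C' C : ArtFun.Art k k} (p : C' ⟶ C) (hp : ArtFun.Art.IsSemismallExt p)
      (I : (ArtFun.localHilb Y y i.ker).obj C) (I' : (ArtFun.localHilb Y y i.ker).obj C')
      (_ : (ArtFun.localHilb Y y i.ker).map p I' = I),
      Nonempty ({I' : (ArtFun.localHilb Y y i.ker).obj C' //
        (ArtFun.localHilb Y y i.ker).map p I' = I} ≃
      (TensorProduct k (Coh.HH i.ker.subscheme ((DCoh.sheafHom (Omega.conormal i.ker.subschemeι)).obj
        (Coh.structureModule i.ker.subscheme)) 0)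
        ↥(RingHom.ker p.toAlgHom))) := fun {C' C} p hp I I' h =>
    Groth.Agent.S12276.result Y i.ker rfl p hp I ⟨I', h⟩
  have h0 := K680.LHFib.h0 y i.ker
  have hsurj : ∀ A : ArtFun.Art k k, Function.Surjective (ArtFun.Art.toBase A) := fun A c => by
    refine ⟨algebraMap k A c, ?_⟩
    exact (ArtFun.Art.toBase A).toAlgHom.commutes c
  constructor
  · intro h
    have hs := K566.VersalLift.isSmallExt_dual (Λ := k) (k := k)
    obtain ⟨t, ht, ht0, -⟩ := K565.ArtTools.IsSmallExt.exists_gen hs
    obtain ⟨I₀⟩ := (h0).1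
    have hmem : t ∈ RingHom.ker (ArtFun.Art.toBase (ArtFun.Art.dual k k)).toAlgHom := ht0
    obtain ⟨I', hI'⟩ : ∃ I' : (ArtFun.localHilb Y y i.ker).obj (ArtFun.Art.dual k k),
        (ArtFun.localHilb Y y i.ker).map (ArtFun.Art.toBase (ArtFun.Art.dual k k)) I' = I₀ := by
      refine ⟨(ArtFun.localHilb Y y i.ker).map ArtFun.Art.baseToDual I₀, ?_⟩
      exact h0.2.elim _ _
    obtain ⟨e⟩ := key (ArtFun.Art.toBase (ArtFun.Art.dual k k)) hs.isSemismallExt I₀ I' hI'
    have hsub := h (ArtFun.Art.dual k k)
    have h1 := e.symm.subsingleton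
    exact subsingleton_of_tensor (⟨t, hmem⟩ : ↥(RingHom.ker (ArtFun.Art.toBase (ArtFun.Art.dual k k)).toAlgHom))
      (fun h2 => ht (congrArg Subtype.val h2)) h1
  · intro h A
    have hinj : Function.Injective ((ArtFun.localHilb Y y i.ker).map (ArtFun.Art.toBase A)) := by
      refine K565.ArtTools.smallExt_induction
        (P := fun ⦃A B⦄ p => Function.Injective ((ArtFun.localHilb Y y i.ker).map p)) ?_ ?_ ?_
        (ArtFun.Art.toBase A) (hsurj A)
      · intro A B e he
        exact (((ArtFun.localHilb Y y i.ker).mapIso (asIso e)).toEquiv).injective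
      · intro A B p hp I₁ I₂ h12
        obtain ⟨e⟩ := key p hp.isSemismallExt _ I₂ rfl
        have h3 : Subsingleton (TensorProduct k (Coh.HH i.ker.subscheme ((DCoh.sheafHom
            (Omega.conormal i.ker.subschemeι)).obj (Coh.structureModule i.ker.subscheme)) 0)
            ↥(RingHom.ker p.toAlgHom)) := by
          refine ⟨fun a b => ?_⟩
          have h4 : ∀ a : TensorProduct k (Coh.HH i.ker.subscheme ((DCoh.sheafHom
            (Omega.conormal i.ker.subschemeι)).obj (Coh.structureModule i.ker.subscheme)) 0)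
            ↥(RingHom.ker p.toAlgHom), a = 0 := by
            intro a
            induction a using TensorProduct.induction_on with
            | zero => rfl
            | tmul x y => rw [Subsingleton.elim x 0, TensorProduct.zero_tmul]
            | add x y hx hy => rw [hx, hy, add_zero]
          rw [h4 a, h4 b]
        have h5 := e.subsingleton
        exact congrArg Subtype.val (h5.elim ⟨I₁, h12⟩ ⟨I₂, rfl⟩)
      · intro A B C p q _ _ hp hq
        rw [CategoryTheory.Functor.map_comp]
        exact hq.comp hp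
    refine ⟨fun I₁ I₂ => hinj (h0.2.elim _ _)⟩

end Groth.Agent.S12272
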