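import Groth.Statements.S12290
import Groth.Agent.DefT.K694.SmoothVan
import Groth.Agent.CalgC.RegSmooth

set_option autoImplicit false
universe u w m
open scoped TensorProduct
open DefT

namespace Groth.Agent.S12290

/-- Let k be an algebraically closed field and B a finitely generated k-algebra, X = Spec B. Then X is
nonsingular (localizing B at any prime ideal gives a regular local ring) exactly when T^1(B/k, M)
vanishes for every B-module M; and when X is nonsingular, T^2(B/k, M) vanishes too, for every
B-module M. Here T^1, T^2 are computed from the choice-free presentation of B over k. -/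
theorem result
    (k B : Type u) [Field k] [IsAlgClosed k] [CommRing B] [Algebra k B] [Algebra.FiniteType k B] :
    ((∀ (p : Ideal B) [p.IsPrime], IsRegularLocalRing (Localization.AtPrime p)) ↔
      ∀ (M : Type u) [AddCommGroup M] [Module B M], Subsingleton (CotT.T1 (CotT.canon k B) M)) ∧
    ((∀ (p : Ideal B) [p.IsPrime], IsRegularLocalRing (Localization.AtPrime p)) →
      ∀ (M : Type u) [AddCommGroup M] [Module B M], Subsingleton (CotT.T2 (CotT.canon k B) M)) := by
  have key : (∀ (p : Ideal B) [p.IsPrime], IsRegularLocalRing (Localization.AtPrime p)) ↔
      Algebra.FormallySmooth k B := by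
    have : Algebra.FinitePresentation k B := Algebra.FinitePresentation.of_finiteType.mp inferInstance
    rw [← Algebra.smoothLocus_eq_univ_iff]
    constructor
    · intro h
      ext p
      refine ⟨fun _ => trivial, fun _ => ?_⟩
      exact (Groth.Agent.CalgC.RegSmooth.isSmoothAt_iff_isRegularLocalRing_of_perfectField p.asIdeal).mpr
        (h p.asIdeal)
    · intro h p hp
      have h1 : (⟨p, hp⟩ : PrimeSpectrum B) ∈ Algebra.smoothLocus k B := by rw [h]; trivial
      exact (Groth.Agent.CalgC.RegSmooth.isSmoothAt_iff_isRegularLocalRing_of_perfectField p).mp h1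
  refine ⟨?_, ?_⟩
  · rw [key]
    constructor
    · intro h M _ _
      exact K694.Smooth1.subsingleton_T1 _ M
    · intro h
      exact K694.Smooth1.formallySmooth_of_T1 (CotT.canon k B) (h _)
  · intro h M _ _
    have : IsNoetherianRing B := Algebra.FiniteType.isNoetherianRing k B
    have : IsRegularRing B := ⟨fun p _ => h p⟩
    have := key.mp h
    exact K694.SmoothVan.subsingleton_T2_of_formallySmooth (CotT.canon k B) M

end Groth.Agent.S12290
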