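import Groth.Statements.S12291
import Groth.Agent.DefT.K694.LciT2
import Groth.Agent.DefT.K694.Tower
import Groth.Agent.Models.CMSeq

set_option autoImplicit false
universe u w m
open scoped TensorProduct
open DefT

namespace Groth.Agent.S12291

/-- Let k be an algebraically closed field and A a regular local k-algebra with residue field k such
that T^1(A/k, N) = 0 and T^2(A/k, N) = 0 for all A-modules N; let I be a proper ideal of A and B =
A/I. Then B is cut out of A as a local complete intersection — meaning I is generated by some list
of r elements with r + dim B = dim A, i.e. by dim A − dim B elements — exactly when T^2(B/k, M)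
vanishes for each B-module M. The T^i are computed from the choice-free presentations. (The
published statement assumes only that A is a regular local k-algebra with residue field k; its proof
uses the vanishing of T^1(A/k, −) and T^2(A/k, −), which holds when A is essentially of finite type
over k and which this row carries as a hypothesis.) -/
theorem result
    (k A : Type u) [Field k] [IsAlgClosed k] [CommRing A] [IsRegularLocalRing A] [Algebra k A]
    (hres : Function.Surjective (algebraMap k (IsLocalRing.ResidueField A)))
    (hT : ∀ (N : Type u) [AddCommGroup N] [Module A N],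
      Subsingleton (CotT.T1 (CotT.canon k A) N) ∧ Subsingleton (CotT.T2 (CotT.canon k A) N))
    (I : Ideal A) (hI : I ≠ ⊤) :
    (∃ rs : List A, Ideal.ofList rs = I ∧ (rs.length : WithBot ℕ∞) + ringKrullDim (A ⧸ I) = ringKrullDim A) ↔
      ∀ (M : Type u) [AddCommGroup M] [Module (A ⧸ I) M], Subsingleton (CotT.T2 (CotT.canon k (A ⧸ I)) M) := by
  constructor
  · rintro ⟨rs, hrs, hdim⟩ M _ _
    have hreg : RingTheory.Sequence.IsRegular A rs := by
      refine Groth.Agent.Models.CMSeq.isRegular_of_ringKrullDim_le rs (fun r hr => ?_) ?_
      · exact IsLocalRing.le_maximalIdeal hI (hrs ▸ Ideal.subset_span hr)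
      · rw [hrs, add_comm]
        exact hdim.le
    let _ : Module A M := Module.compHom M (algebraMap A (A ⧸ I))
    have : IsScalarTower A (A ⧸ I) M := IsScalarTower.of_compHom A _ M
    exact K694.Tower.subsingleton_T2 (CotT.canon k A) (CotT.canon A (A ⧸ I)) (CotT.canon k (A ⧸ I)) M (hT M).2
      (K694.Quot.subsingleton_T2_regular Ideal.Quotient.mk_surjective rs hreg.toIsWeaklyRegular
        ((Ideal.mk_ker).trans hrs.symm) _ M)
  · intro h
    have h2 : ∀ (M : Type u) [AddCommGroup M] [Module (A ⧸ I) M],
        Subsingleton (CotT.T2 (CotT.canon A (A ⧸ I)) M) := by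
      intro M _ _
      let _ : Module A M := Module.compHom M (algebraMap A (A ⧸ I))
      have : IsScalarTower A (A ⧸ I) M := IsScalarTower.of_compHom A _ M
      exact K694.Tower.subsingleton_T2_upper (CotT.canon k A) (CotT.canon A (A ⧸ I))
        (CotT.canon k (A ⧸ I)) M (hT M).1 (h M)
    obtain ⟨rs, hrs, hreg⟩ := K694.LciT2.exists_regular I hI h2
    refine ⟨rs, hrs, ?_⟩
    rw [← ringKrullDim_add_length_eq_ringKrullDim_of_isRegular rs hreg, hrs, add_comm]

end Groth.Agent.S12291
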