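import Groth.Statements.S12298
import Groth.Agent.Curves.K65.LnCore
import Groth.Agent.Curves.K65.LnBase
import Groth.Agent.Curves.K65.LnGlue
import Groth.Agent.Sga3.H780.PointedProd
import Groth.Agent.FBase.K106.Dim

set_option autoImplicit false
universe u
open CategoryTheory CategoryTheory.Limits AlgebraicGeometry
open Curves

namespace Groth.Agent.S12298

/-- Let X be a nonsingular projective curve over an algebraically closed field k, T a nonsingular
integral curve over k, t₀ a k-point of T and U ⊆ T the open complement of t₀; write V = X ×_k U ⊆ X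
×_k T. Let E' be a locally free sheaf of rank 2 on V whose fibre over every k-point t ≠ t₀ (pullback
along the fibre inclusion X → V at t) is semistable: every invertible subsheaf has 2·deg ≤ deg of
the fibre. Then E' extends: there is a locally free sheaf E of rank 2 on X ×_k T whose restriction
to V is isomorphic to E' and whose fibre at t₀ is semistable. -/
theorem result (k : Type u) [Field k] [IsAlgClosed k] (X : Scheme.{u})
    [X.Over (Spec (CommRingCat.of k))] (hX : Curve.IsSmoothProperCurve k X (X ↘ Spec (CommRingCat.of k)))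
    (T : Scheme.{u}) [T.Over (Spec (CommRingCat.of k))] [IsIntegral T] [Smooth (T ↘ Spec (CommRingCat.of k))]
    (hT : topologicalKrullDim T = 1) (t₀ : Spec (CommRingCat.of k) ⟶ T) (ht₀ : t₀ ≫ (T ↘ Spec (CommRingCat.of k)) = 𝟙 _)
    (U : T.Opens) (hU : (U : Set T) = {t₀.base (IsLocalRing.closedPoint k)}ᶜ)
    (E' : (↑((pullback.snd (X ↘ Spec (CommRingCat.of k)) (T ↘ Spec (CommRingCat.of k))) ⁻¹ᵁ U) : Scheme.{u}).Modules)
    (hE' : FlatMod.IsFinLocFreeOfRank 2 E')
    (hss : ∀ (t : Spec (CommRingCat.of k) ⟶ T) (j : X ⟶ ↑((pullback.snd (X ↘ Spec (CommRingCat.of k)) (T ↘ Spec (CommRingCat.of k))) ⁻¹ᵁ U)),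
      t ≫ (T ↘ Spec (CommRingCat.of k)) = 𝟙 _ → t ≠ t₀ →
      (j ≫ ((pullback.snd (X ↘ Spec (CommRingCat.of k)) (T ↘ Spec (CommRingCat.of k))) ⁻¹ᵁ U).ι) ≫ pullback.fst _ _ = 𝟙 X →
      (j ≫ ((pullback.snd (X ↘ Spec (CommRingCat.of k)) (T ↘ Spec (CommRingCat.of k))) ⁻¹ᵁ U).ι) ≫ pullback.snd _ _ = (X ↘ Spec (CommRingCat.of k)) ≫ t →
      (∀ (G : X.Modules) (s : ℕ) (ι : G ⟶ ((Scheme.Modules.pullback j).obj E')), Mono ι →
        FlatMod.IsFinLocFreeOfRank s G → 0 < s → s < 2 → Curv2.deg k X G s * (2 : ℤ) ≤ Curv2.deg k X ((Scheme.Modules.pullback j).obj E') 2 * (s : ℤ)))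
    (j₀ : X ⟶ pullback (X ↘ Spec (CommRingCat.of k)) (T ↘ Spec (CommRingCat.of k))) (hj₀ : j₀ ≫ pullback.fst _ _ = 𝟙 X) (hj₀' : j₀ ≫ pullback.snd _ _ = (X ↘ Spec (CommRingCat.of k)) ≫ t₀) :
    ∃ E : (pullback (X ↘ Spec (CommRingCat.of k)) (T ↘ Spec (CommRingCat.of k))).Modules, FlatMod.IsFinLocFreeOfRank 2 E ∧
      Nonempty (E.restrict ((pullback.snd (X ↘ Spec (CommRingCat.of k)) (T ↘ Spec (CommRingCat.of k))) ⁻¹ᵁ U).ι ≅ E') ∧
      (∀ (G : X.Modules) (s : ℕ) (ι : G ⟶ ((Scheme.Modules.pullback j₀).obj E)), Mono ι →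
        FlatMod.IsFinLocFreeOfRank s G → 0 < s → s < 2 → Curv2.deg k X G s * (2 : ℤ) ≤ Curv2.deg k X ((Scheme.Modules.pullback j₀).obj E) 2 * (s : ℤ)) := by
  obtain ⟨hXp, hXs, hXi, hXd⟩ := hX
  let q : T ⟶ Spec (CommRingCat.of k) := T ↘ Spec (CommRingCat.of k)
  let pX : X ⟶ Spec (CommRingCat.of k) := X ↘ Spec (CommRingCat.of k)
  let P : Scheme.{u} := pullback pX q
  let fst : P ⟶ X := pullback.fst pX q
  let snd : P ⟶ T := pullback.snd pX q
  let V : P.Opens := snd ⁻¹ᵁ U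
  let pt : Spec (CommRingCat.of k) := IsLocalRing.closedPoint k
  have C : K707.Base.Crv k X := K707.Base.Crv.of_smooth hXd
  obtain ⟨A, _, hNR, hDom, w, τ₀, π, hw, hτw, hker, hπ, hdimA⟩ := K65.LnBase.exists_chart' k q hT t₀ ht₀
  let s : Spec (CommRingCat.of A) ⟶ Spec (CommRingCat.of k) := w ≫ q
  have hsm : Smooth s := inferInstance
  have hslft : LocallyOfFiniteType s := inferInstance
  have hτ₀ : Spec.map (CommRingCat.ofHom τ₀) ≫ s = 𝟙 _ := by
    rw [← Category.assoc, hτw]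
    exact ht₀
  have hπ0 : τ₀ π = 0 := by
    rw [← RingHom.mem_ker, hker]; exact Ideal.mem_span_singleton_self _
  -- the chart of the product
  let Y : Scheme.{u} := pullback pX s
  let p₁ : Y ⟶ X := pullback.fst pX s
  let f₁ : Y ⟶ Spec (CommRingCat.of A) := pullback.snd pX s
  have H : IsPullback p₁ f₁ pX s := IsPullback.of_hasPullback _ _
  let a : Y ⟶ P := pullback.map pX s pX q (𝟙 X) w (𝟙 _) (by simp) (by simp [s])
  have ha : IsOpenImmersion a := inferInstance
  have ha1 : a ≫ fst = p₁ := (pullback.lift_fst _ _ _).trans (Category.comp_id _)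
  have ha2 : a ≫ snd = f₁ ≫ w := pullback.lift_snd _ _ _
  let j₁ : X ⟶ Y := pullback.lift (𝟙 X) (pX ≫ Spec.map (CommRingCat.ofHom τ₀)) (by
    rw [Category.assoc, hτ₀, Category.id_comp, Category.comp_id])
  have hj1 : j₁ ≫ p₁ = 𝟙 X := pullback.lift_fst _ _ _
  have hj1' : j₁ ≫ f₁ = pX ≫ Spec.map (CommRingCat.ofHom τ₀) := pullback.lift_snd _ _ _
  have hja : j₁ ≫ a = j₀ := by
    apply pullback.hom_ext
    · exact (Category.assoc _ _ _).trans ((congrArg (j₁ ≫ ·) ha1).trans (hj1.trans hj₀.symm))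
    · refine (Category.assoc _ _ _).trans ((congrArg (j₁ ≫ ·) ha2).trans ?_)
      rw [← Category.assoc, hj1', Category.assoc, hτw]
      exact hj₀'.symm
  have Hj := K65.LnGeom.isPullback_section H hτ₀ hj1 hj1'
  let V₁ : Y.Opens := a ⁻¹ᵁ V
  have hmem : ∀ y : Y, y ∈ V₁ ↔ w (f₁ y) ≠ t₀ pt := by
    intro y
    have h1 : snd (a y) = w (f₁ y) := by
      rw [← Scheme.Hom.comp_apply, ha2, Scheme.Hom.comp_apply]
    have h2 : y ∈ V₁ ↔ snd (a y) ∈ (U : Set T) := Iff.rfl
    rw [h2, h1, hU]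
    exact Iff.rfl
  have hwt : w (Spec.map (CommRingCat.ofHom τ₀) pt) = t₀ pt := by
    rw [← Scheme.Hom.comp_apply, hτw]
  have hV₁ : (V₁ : Set Y) = (Set.range j₁)ᶜ := by
    ext y
    refine (hmem y).trans (not_congr ⟨fun h => ?_, ?_⟩)
    · refine K65.LnGeom.exists_preimage Hj y pt ?_
      apply hw.base_open.injective
      exact h.trans hwt.symm
    · rintro ⟨x, rfl⟩
      have h3 : f₁ (j₁ x) = Spec.map (CommRingCat.ofHom τ₀) pt := by
        rw [← Scheme.Hom.comp_apply, hj1', Scheme.Hom.comp_apply, Subsingleton.elim (pX x) pt]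
      rw [h3]
      exact hwt
  have hrank : FlatMod.IsFinLocFreeOfRank 2 (E'.restrict (a ∣_ V)) :=
    K707.Slope.rank_iso ((Scheme.Modules.restrictFunctorIsoPullback (a ∣_ V)).app E').symm
      (Groth.Agent.PerfB.FibreConc.isFinLocFreeOfRank_pullback (a ∣_ V) hE')
  have hint : IsIntegral (Spec (CommRingCat.of A)) := inferInstance
  have hYint : IsIntegral Y := by
    have i1 : IsIntegral (Over.mk pX).left := hXi
    have i2 : IsIntegral (Over.mk s).left := hint
    have i3 : Smooth (Over.mk pX).hom := hXs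
    have i4 : Smooth (Over.mk s).hom := hsm
    exact Groth.Agent.Sga3.H780.PointedProd.isIntegral_tensor (Over.mk pX) (Over.mk s)
  have hYsm : Smooth (f₁ ≫ s) := inferInstance
  have hreg : ∀ y : Y, IsRegularLocalRing (Y.presheaf.stalk y) := by
    intro y
    let _ : Y.Over (Spec (CommRingCat.of k)) := ⟨f₁ ≫ s⟩
    have : Smooth (Y ↘ Spec (CommRingCat.of k)) := hYsm
    exact Groth.Agent.S1535.result k Y y
  have hYdim : topologicalKrullDim Y = 2 := by
    have h1 := K106.Dim.topologicalKrullDim_pullback_eq_add pX s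
    rw [hXd, hdimA] at h1
    exact h1.trans one_add_one_eq_two
  obtain ⟨E₁, ⟨hE₁, ⟨e₁⟩⟩, hss₁⟩ := K65.LnCore.main s τ₀ hτ₀ π hker hπ C p₁ f₁ H hreg hYdim j₁ hj1 hj1'
    V₁ hV₁ (E'.restrict (a ∣_ V)) hrank (by
      intro τ j hτ hτπ h1 h2
      have hι : (a ∣_ V) ≫ V.ι = V₁.ι ≫ a := morphismRestrict_ι a V
      have hιj : (j ≫ (a ∣_ V)) ≫ V.ι = (j ≫ V₁.ι) ≫ a := by
        rw [Category.assoc, hι, Category.assoc]
      have h3 : K65.LnDest.SS2 k ((Scheme.Modules.pullback (j ≫ (a ∣_ V))).obj E') := by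
        refine hss (Spec.map (CommRingCat.ofHom τ) ≫ w) (j ≫ (a ∣_ V)) ?_ ?_ ?_ ?_
        · rw [Category.assoc]
          exact hτ
        · intro h
          rw [← hτw, cancel_mono] at h
          have h4 : τ = τ₀ := congrArg CommRingCat.Hom.hom (Spec.map_injective h)
          exact hτπ (h4 ▸ hπ0)
        · refine (congrArg (· ≫ fst) hιj).trans ?_
          rw [Category.assoc, ha1]
          exact h1
        · refine (congrArg (· ≫ snd) hιj).trans ?_
          rw [Category.assoc, ha2, ← Category.assoc, h2, Category.assoc]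
      refine K65.LnDest.SS2.of_iso ?_ h3
        (Groth.Agent.PerfB.FibreConc.isFinLocFreeOfRank_pullback (j ≫ (a ∣_ V)) hE')
      exact (K65.LnQuot.tr j (a ∣_ V) _ rfl E').symm ≪≫ (Scheme.Modules.pullback j).mapIso
        ((Scheme.Modules.restrictFunctorIsoPullback (a ∣_ V)).app E').symm)
  obtain ⟨K, hK, ⟨iU⟩, ⟨iV⟩⟩ := K65.LnGlue.exists_glue a V (fun y hy => by
      have h1 : snd y = t₀ pt := by
        by_contra hne
        apply hy
        change snd y ∈ (U : Set T)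
        rw [hU]
        exact hne
      have Ha : IsPullback a f₁ snd w := by
        refine IsPullback.of_right (h₁₂ := fst) (h₂₂ := q) (v₁₃ := pX) ?_ ha2 (IsPullback.of_hasPullback _ _)
        rw [ha1]
        exact H
      exact K65.LnGeom.exists_preimage Ha y (Spec.map (CommRingCat.ofHom τ₀) pt) (h1.trans hwt.symm))
    hE₁ hE' e₁
  refine ⟨K, hK, ⟨iV⟩, ?_⟩
  have hfin : K65.LnDest.SS2 k ((Scheme.Modules.pullback j₀).obj K) := by
    refine K65.LnDest.SS2.of_iso ?_ hss₁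
      (Groth.Agent.PerfB.FibreConc.isFinLocFreeOfRank_pullback j₁ hE₁)
    exact (Scheme.Modules.pullback j₁).mapIso
      (iU.symm ≪≫ (Scheme.Modules.restrictFunctorIsoPullback a).app K) ≪≫ K65.LnQuot.tr j₁ a j₀ hja K
  exact hfin

end Groth.Agent.S12298
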