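import Groth.Statements.S12306
import Groth.Agent.CotT.K96.Trivial
import Mathlib.RingTheory.Jacobson.Ring
import Mathlib.RingTheory.Flat.TorsionFree
import Mathlib.RingTheory.KrullDimension.Field
import Mathlib.FieldTheory.IsAlgClosed.Basic

set_option autoImplicit false
universe u
open CotT

namespace Groth.Agent.S12306

open TensorProduct Algebra K96.Trivial K96.Split K96.Section

/-- a smoothing of a rigid algebra forces smoothness -/
theorem smooth_of_smoothing {k A B B₀ : Type u} [Field k] [CommRing A] [CommRing B] [CommRing B₀]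
    [IsDomain A] [Algebra k A] [Algebra k B] [Algebra k B₀] [Algebra A B] [IsScalarTower k A B] (t : A)
    (htu : ¬ IsUnit t) (ht0 : t ≠ 0) (hA : ∀ a : A, ∃ (c : k) (a' : A), a = algebraMap k A c + t * a')
    (hrigid : Subsingleton (CotT.T1 (CotT.canon k B₀) B₀)) (hτ : IsSMulRegular B (algebraMap A B t))
    (e : (B ⧸ Ideal.span {algebraMap A B t}) ≃ₐ[k] B₀) {m : ℕ} (P : Generators A B (Fin m)) (N : ℕ)
    (hN : SplitBy P.toExtension ((algebraMap A B t) ^ N)) : FormallySmooth k B₀ := by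
  obtain ⟨σ, hσ⟩ := exists_section hrigid hτ e N
  let T := A ⧸ Ideal.span {t ^ (N + 1)}
  let ρ : (T ⊗[k] B₀) ≃ₐ[k] (B ⧸ Ideal.span {(algebraMap A B t) ^ (N + 1)}) :=
    AlgEquiv.ofBijective (rho N σ) ⟨rho_injective N hA hσ hτ, rho_surjective N hσ⟩
  have hρ : ∀ y, ρ y = rho N σ y := fun y => rfl
  let _ : Algebra B (T ⊗[k] B₀) := (ρ.symm.toRingEquiv.toRingHom.comp (Ideal.Quotient.mk _)).toAlgebra
  have hB' : ∀ b : B, algebraMap B (T ⊗[k] B₀) b = ρ.symm (Ideal.Quotient.mk _ b) := fun b => rfl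
  have _ : IsScalarTower A B (T ⊗[k] B₀) := IsScalarTower.of_algebraMap_eq fun a => by
    rw [hB', AlgEquiv.eq_symm_apply]
    have h1 : algebraMap A (T ⊗[k] B₀) a = (Ideal.Quotient.mk _ a) ⊗ₜ[k] (1 : B₀) := rfl
    rw [h1, hρ, rho_tmul, map_one, mul_one, quotMap_mk]
  have hsA : Function.Surjective (algebraMap A T) := Ideal.Quotient.mk_surjective
  have hsB : Function.Surjective (algebraMap B (T ⊗[k] B₀)) := ρ.symm.surjective.comp Ideal.Quotient.mk_surjective
  have h1 := K96.Push.push_quot (A' := T) (B' := T ⊗[k] B₀) P hsA hsB (by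
    intro b hb
    rw [hB', map_eq_zero_iff _ ρ.symm.injective, Ideal.Quotient.eq_zero_iff_mem, mem_span_pow] at hb
    obtain ⟨c, rfl⟩ := hb
    refine ⟨t ^ (N + 1), c, ?_, by rw [map_pow]⟩
    exact Ideal.Quotient.eq_zero_iff_mem.2 (Ideal.mem_span_singleton_self _)) hN
  have h2 : algebraMap B (T ⊗[k] B₀) ((algebraMap A B t) ^ N) = (Ideal.Quotient.mk _ (t ^ N)) ⊗ₜ[k] (1 : B₀) := by
    rw [hB', AlgEquiv.symm_apply_eq, hρ, rho_tmul, map_one, mul_one, quotMap_mk_pow]
  rw [h2] at h1
  let P₀ := Generators.self k B₀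
  have h3 : SplitBy (P₀.toExtension.baseChange (T := T)) ((Ideal.Quotient.mk _ (t ^ N)) ⊗ₜ[k] (1 : B₀)) :=
    h1.transfer (((P₀.baseChange T).defaultHom (K96.Push.quotGen (A' := T) P hsB)).toExtensionHom.comp
      (P₀.baseChangeFromBaseChange T))
      ((P₀.baseChangeToBaseChange T).comp
        ((K96.Push.quotGen (A' := T) P hsB).defaultHom (P₀.baseChange T)).toExtensionHom)
  -- the functional
  have h4 : (Ideal.Quotient.mk _ (t ^ N) : T) ≠ 0 := by
    intro h
    rw [Ideal.Quotient.eq_zero_iff_mem, Ideal.mem_span_singleton'] at h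
    obtain ⟨c, hc⟩ := h
    apply htu
    have : t ^ N * (c * t) = t ^ N * 1 := by
      rw [mul_one, ← mul_assoc, mul_comm (t ^ N) c, mul_assoc, ← pow_succ]
      exact hc
    have := mul_left_cancel₀ (pow_ne_zero N ht0) this
    exact IsUnit.of_mul_eq_one_right _ this
  obtain ⟨lam, hlam⟩ : ∃ lam : Module.Dual k T, lam (Ideal.Quotient.mk _ (t ^ N)) ≠ 0 := by
    by_contra hcon
    push Not at hcon
    exact h4 ((Module.forall_dual_apply_eq_zero_iff k _).1 hcon)
  exact K96.Descent.formallySmooth_of_splitBy_tensor P₀.toExtension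
    ((lam (Ideal.Quotient.mk _ (t ^ N)))⁻¹ • lam) _ (by
      rw [LinearMap.smul_apply, smul_eq_mul, inv_mul_cancel₀ hlam]) h3

theorem result
    {k : Type u} [Field k] [IsAlgClosed k] (B₀ : Type u) [CommRing B₀] [Algebra k B₀] [Algebra.FiniteType k B₀]
    (hsing : ¬ Algebra.Smooth k B₀) (hrigid : Subsingleton (CotT.T1 (CotT.canon k B₀) B₀))
    (A B : Type u) [CommRing A] [CommRing B] [IsDomain A] [Algebra k A] [Algebra.FiniteType k A]
    [Algebra.Smooth k A] (hdim : ringKrullDim A = 1) (t : A) (ht : (Ideal.span {t}).IsMaximal)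
    [Algebra A B] [Algebra.FiniteType A B] [Module.Flat A B] [Algebra k B] [IsScalarTower k A B]
    (e : (B ⧸ Ideal.span {algebraMap A B t}) ≃ₐ[k] B₀) :
    ∃ q : PrimeSpectrum B, algebraMap A B t ∉ q.asIdeal ∧ q ∉ Algebra.smoothLocus A B := by
  by_contra hcon
  push Not at hcon
  have hAN : IsNoetherianRing A := Algebra.FiniteType.isNoetherianRing k A
  obtain ⟨m, ⟨P⟩⟩ := K96.SplitFT.exists_generators A B
  obtain ⟨N, hN⟩ := (K96.SplitFT.exists_splitBy_iff P (algebraMap A B t)).1 hcon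
  have ht0 : t ≠ 0 := by
    rintro rfl
    rw [Ideal.span_singleton_zero] at ht
    have h1 : IsField A := by
      by_contra hf
      exact Ring.ne_bot_of_isMaximal_of_not_isField ht hf rfl
    rw [ringKrullDim_eq_zero_of_isField h1] at hdim
    exact zero_ne_one hdim
  have htu : ¬ IsUnit t := fun h => ht.ne_top (Ideal.span_singleton_eq_top.2 h)
  have hA : ∀ a : A, ∃ (c : k) (a' : A), a = algebraMap k A c + t * a' := by
    intro a
    let _ : Field (A ⧸ Ideal.span {t}) := Ideal.Quotient.field _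
    have _ : Algebra.FiniteType k (A ⧸ Ideal.span {t}) :=
      Algebra.FiniteType.of_surjective (Ideal.Quotient.mkₐ k _) (Ideal.Quotient.mkₐ_surjective k _)
    have _ : Module.Finite k (A ⧸ Ideal.span {t}) := finite_of_finite_type_of_isJacobsonRing k _
    obtain ⟨c, hc⟩ := (IsAlgClosed.algebraMap_bijective_of_isIntegral (k := k) (K := A ⧸ Ideal.span {t})).2
      (Ideal.Quotient.mk _ a)
    have h1 : Ideal.Quotient.mk (Ideal.span {t}) (algebraMap k A c) = Ideal.Quotient.mk _ a := hc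
    rw [eq_comm, Ideal.Quotient.mk_eq_mk_iff_sub_mem, Ideal.mem_span_singleton'] at h1
    obtain ⟨a', ha'⟩ := h1
    exact ⟨c, a', by linear_combination -ha'⟩
  have hτ : IsSMulRegular B (algebraMap A B t) := by
    have h1 : IsSMulRegular B t := Module.Flat.isSMulRegular_of_nonZeroDivisors (mem_nonZeroDivisors_of_ne_zero ht0)
    intro x y hxy
    exact h1 (by simpa only [Algebra.smul_def, smul_eq_mul, Algebra.algebraMap_self_apply] using hxy)
  have hfs := smooth_of_smoothing t htu ht0 hA hrigid hτ e P N hN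
  have hfp : Algebra.FinitePresentation k B₀ := Algebra.FinitePresentation.of_finiteType.1 inferInstance
  exact hsing ⟨hfs, hfp⟩

end Groth.Agent.S12306
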