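import Groth.Statements.S12310
import Groth.Agent.SGA7.K565.LamLift
import Groth.Agent.SGA7.K565.LciT2
import Groth.Agent.Dual.H366.SmoothLCI
import Groth.Agent.ArtFun.K724.AdicSmooth

set_option autoImplicit false
universe u
open CategoryTheory AlgebraicGeometry
open SGA7

namespace Groth.Agent.S12310

/-- Suppose Λ is a Noetherian local ring, complete for its maximal-ideal-adic topology, whose residue
field is k (so Λ → k is surjective), and work with functors defined on local Artinian Λ-algebras
having residue field k. Take a finite-type k-algebra A₀ that is a local complete intersection over k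
(meaning it admits a presentation as a quotient of a polynomial algebra in finitely many variables
whose kernel is Koszul-regular), and put X₀ = Spec A₀. Then X₀ has a smooth deformation functor (the
functor of isomorphism classes of schemes flat over Spec A whose closed fibre is X₀): given any
surjection A' → A, each deformation over A can be lifted to one over A'. -/
theorem result (Λ k : Type u) [CommRing Λ] [IsLocalRing Λ] [IsNoetherianRing Λ]
    [IsAdicComplete (IsLocalRing.maximalIdeal Λ) Λ] [Field k] [Algebra Λ k]
    (hk : Function.Surjective (algebraMap Λ k))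
    (A₀ : Type u) [CommRing A₀] [Algebra k A₀] (hA : LCI.IsLCI k A₀) :
    ArtFun.IsSmoothFunctor (ArtFun.defFunctor (Λ := Λ) (Spec (CommRingCat.of A₀))
      (Spec.map (CommRingCat.ofHom (algebraMap k A₀)))) := by
  have hft : Algebra.FiniteType k A₀ := hA.1
  have hfp : Algebra.FinitePresentation k A₀ := Algebra.FinitePresentation.of_finiteType.1 hft
  let P₀ := Algebra.Presentation.ofFinitePresentation k A₀
  let P := P₀.reindex Equiv.ulift.{u} Equiv.ulift.{u}
  have hN : IsNoetherianRing P.toExtension.Ring := inferInstanceAs (IsNoetherianRing (MvPolynomial (ULift (Fin _)) k))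
  have hsm : Algebra.Smooth k P.toExtension.Ring :=
    { formallySmooth := inferInstanceAs (Algebra.FormallySmooth k (MvPolynomial (ULift (Fin _)) k))
      finitePresentation := inferInstanceAs (Algebra.FinitePresentation k (MvPolynomial (ULift (Fin _)) k)) }
  have hI : LCI.IsKoszulRegularIdeal P.toExtension.ker :=
    Dual.H366.SmoothLCI.isKoszulRegularIdeal_ker_of_smooth hA
      (IsScalarTower.toAlgHom k P.toExtension.Ring A₀) P.toExtension.algebraMap_surjective
  have hT2 := K565.LciT2.subsingleton_T2 P hI A₀
  have key : ∀ ⦃B A : ArtFun.Art Λ k⦄ (μ : B ⟶ A), ArtFun.Art.IsSmallExt μ → Function.Surjective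
      ((ArtFun.defFunctor (Λ := Λ) (Spec (CommRingCat.of A₀))
        (Spec.map (CommRingCat.ofHom (algebraMap k A₀)))).map μ) := by
    intro B A μ hμ x
    obtain ⟨ξ, rfl⟩ : ∃ ξ : ArtFun.DefSch (Spec (CommRingCat.of A₀)) (Spec.map (CommRingCat.ofHom (algebraMap k A₀))) A,
      ξ.cl = x := Quotient.exists_rep x
    obtain ⟨D, ⟨e⟩⟩ := K681.AlgDef.exists_iso_toDefSch ξ
    obtain ⟨D', ⟨e'⟩⟩ := K565.LamRep.exists_lift_of_T2 P hT2 hμ D
    exact ⟨D'.toDefSch.cl, Quotient.sound ⟨e'.trans e.symm⟩⟩
  exact K724.AdicSmooth.isSmoothFunctor_of_smallExt _ key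

end Groth.Agent.S12310
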