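import Groth.Statements.S12312
import Groth.Agent.SGA7.K222.Main2

set_option autoImplicit false
universe u
open CategoryTheory CategoryTheory.Limits AlgebraicGeometry MonObj
open SGA7

namespace Groth.Agent.S12312

/-- Last assertion: Let R be a henselian discrete valuation ring with fraction field K and residue field
k, Ω a separable closure of K, W a valuation subring of Ω lying over R, and A an abelian variety
over K (a proper, geometrically integral commutative group scheme). For a prime ℓ invertible in k,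
let T_ℓ(A) be the ℓ-adic Tate module of the Ω-points of A (a ℤ_ℓ-module, assumed free of finite rank
as it is), and for each K-automorphism τ of Ω let ρ_ℓ(τ) be the ℤ_ℓ-linear endomorphism of T_ℓ(A)
acting on every component by the Galois action of τ on Ω-points (this pins ρ_ℓ). Then for every σ in
the inertia group at W the characteristic polynomial of ρ_ℓ(σ) has rational integer coefficients
independent of ℓ: given two such primes ℓ₁, ℓ₂ there is a polynomial P over ℤ whose images are the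
characteristic polynomials of ρ_{ℓ₁}(σ) and of ρ_{ℓ₂}(σ). -/
theorem result (R K Ω : Type u) [CommRing R] [IsDomain R] [IsDiscreteValuationRing R] [HenselianLocalRing R]
    [Field K] [Algebra R K] [IsFractionRing R K] [Field Ω] [Algebra K Ω] [IsSepClosure K Ω]
    (W : ValuationSubring Ω) (hW : SGA7.LiesOver K R W)
    (A : Over (Spec (CommRingCat.of K))) [GrpObj A] [IsCommMonObj A] [IsProper A.hom] [GeometricallyIntegral A.hom]
    (l₁ l₂ : ℕ) [Fact l₁.Prime] [Fact l₂.Prime]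
    (h₁ : (l₁ : IsLocalRing.ResidueField R) ≠ 0) (h₂ : (l₂ : IsLocalRing.ResidueField R) ≠ 0)
    [Module.Free ℤ_[l₁] (AbDual.TateMod A l₁ (SGA7.pt Ω))] [Module.Finite ℤ_[l₁] (AbDual.TateMod A l₁ (SGA7.pt Ω))]
    [Module.Free ℤ_[l₂] (AbDual.TateMod A l₂ (SGA7.pt Ω))] [Module.Finite ℤ_[l₂] (AbDual.TateMod A l₂ (SGA7.pt Ω))]
    (ρ₁ : (Ω ≃ₐ[K] Ω) → Module.End ℤ_[l₁] (AbDual.TateMod A l₁ (SGA7.pt Ω)))
    (hρ₁ : ∀ (τ : Ω ≃ₐ[K] Ω) (z : AbDual.TateMod A l₁ (SGA7.pt Ω)) (m : ℕ),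
      (AbDual.TateMod.component A l₁ (SGA7.pt Ω) m (ρ₁ τ z)).toMul =
        SGA7.galAct τ (AbDual.TateMod.component A l₁ (SGA7.pt Ω) m z).toMul)
    (ρ₂ : (Ω ≃ₐ[K] Ω) → Module.End ℤ_[l₂] (AbDual.TateMod A l₂ (SGA7.pt Ω)))
    (hρ₂ : ∀ (τ : Ω ≃ₐ[K] Ω) (z : AbDual.TateMod A l₂ (SGA7.pt Ω)) (m : ℕ),
      (AbDual.TateMod.component A l₂ (SGA7.pt Ω) m (ρ₂ τ z)).toMul =
        SGA7.galAct τ (AbDual.TateMod.component A l₂ (SGA7.pt Ω) m z).toMul)
    (σ : Ω ≃ₐ[K] Ω) (hσ : SGA7.IsInertia W σ) :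
    ∃ P : Polynomial ℤ, (ρ₁ σ).charpoly = P.map (Int.castRingHom ℤ_[l₁]) ∧
      (ρ₂ σ).charpoly = P.map (Int.castRingHom ℤ_[l₂]) := by
  exact K222.Main2.main2 R K Ω W hW A l₁ l₂ h₁ h₂ ρ₁ hρ₁ ρ₂ hρ₂ 1 (Or.inl rfl) σ fun y hy => by
    rw [pow_one]
    exact hσ y hy

end Groth.Agent.S12312
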