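import Groth.Statements.S12313
import Groth.Agent.SGA7.K222.Main2
import Mathlib.FieldTheory.Finite.Basic

set_option autoImplicit false
universe u
open CategoryTheory CategoryTheory.Limits AlgebraicGeometry MonObj
open SGA7

namespace Groth.Agent.S12313

/-- Non-negative Frobenius powers: Let R be a henselian discrete valuation ring with fraction field K
and residue field k, Ω a separable closure of K, W a valuation subring of Ω lying over R, and A an
abelian variety over K (a proper, geometrically integral commutative group scheme). For a prime ℓ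
invertible in k, let T_ℓ(A) be the ℓ-adic Tate module of the Ω-points of A (a ℤ_ℓ-module, assumed
free of finite rank as it is), and for each K-automorphism τ of Ω let ρ_ℓ(τ) be the ℤ_ℓ-linear
endomorphism of T_ℓ(A) acting on every component by the Galois action of τ on Ω-points (this pins
ρ_ℓ). Suppose moreover that k is finite with q elements, and let σ be a K-automorphism of Ω mapping
W into itself and inducing on the residue field of W the map y ↦ y^(q^n) for some natural number n.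
Then the characteristic polynomial of ρ_ℓ(σ) has rational integer coefficients independent of ℓ:
given two primes ℓ₁, ℓ₂ invertible in k there is a polynomial P over ℤ whose images are the
characteristic polynomials of ρ_{ℓ₁}(σ) and of ρ_{ℓ₂}(σ). (For elements whose image in the Galois
group of k is a negative power of the Frobenius the coefficients are only rational; that case is not
stated.) -/
theorem result (R K Ω : Type u) [CommRing R] [IsDomain R] [IsDiscreteValuationRing R] [HenselianLocalRing R]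
    [Field K] [Algebra R K] [IsFractionRing R K] [Field Ω] [Algebra K Ω] [IsSepClosure K Ω]
    (W : ValuationSubring Ω) (hW : SGA7.LiesOver K R W) [Finite (IsLocalRing.ResidueField R)]
    (A : Over (Spec (CommRingCat.of K))) [GrpObj A] [IsCommMonObj A] [IsProper A.hom] [GeometricallyIntegral A.hom]
    (l₁ l₂ : ℕ) [Fact l₁.Prime] [Fact l₂.Prime]
    (h₁ : (l₁ : IsLocalRing.ResidueField R) ≠ 0) (h₂ : (l₂ : IsLocalRing.ResidueField R) ≠ 0)
    [Module.Free ℤ_[l₁] (AbDual.TateMod A l₁ (SGA7.pt Ω))] [Module.Finite ℤ_[l₁] (AbDual.TateMod A l₁ (SGA7.pt Ω))]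
    [Module.Free ℤ_[l₂] (AbDual.TateMod A l₂ (SGA7.pt Ω))] [Module.Finite ℤ_[l₂] (AbDual.TateMod A l₂ (SGA7.pt Ω))]
    (ρ₁ : (Ω ≃ₐ[K] Ω) → Module.End ℤ_[l₁] (AbDual.TateMod A l₁ (SGA7.pt Ω)))
    (hρ₁ : ∀ (τ : Ω ≃ₐ[K] Ω) (z : AbDual.TateMod A l₁ (SGA7.pt Ω)) (m : ℕ),
      (AbDual.TateMod.component A l₁ (SGA7.pt Ω) m (ρ₁ τ z)).toMul =
        SGA7.galAct τ (AbDual.TateMod.component A l₁ (SGA7.pt Ω) m z).toMul)
    (ρ₂ : (Ω ≃ₐ[K] Ω) → Module.End ℤ_[l₂] (AbDual.TateMod A l₂ (SGA7.pt Ω)))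
    (hρ₂ : ∀ (τ : Ω ≃ₐ[K] Ω) (z : AbDual.TateMod A l₂ (SGA7.pt Ω)) (m : ℕ),
      (AbDual.TateMod.component A l₂ (SGA7.pt Ω) m (ρ₂ τ z)).toMul =
        SGA7.galAct τ (AbDual.TateMod.component A l₂ (SGA7.pt Ω) m z).toMul)
    (n : ℕ) (σ : Ω ≃ₐ[K] Ω)
    (hσ : ∀ y : Ω, y ∈ W → σ y ∈ W ∧
      W.valuation (σ y - y ^ (Nat.card (IsLocalRing.ResidueField R) ^ n)) < 1) :
    ∃ P : Polynomial ℤ, (ρ₁ σ).charpoly = P.map (Int.castRingHom ℤ_[l₁]) ∧
      (ρ₂ σ).charpoly = P.map (Int.castRingHom ℤ_[l₂]) := by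
  refine K222.Main2.main2 R K Ω W hW A l₁ l₂ h₁ h₂ ρ₁ hρ₁ ρ₂ hρ₂ _ (Or.inr ?_) σ hσ
  obtain ⟨p, hp⟩ := CharP.exists (IsLocalRing.ResidueField R)
  have : Fintype (IsLocalRing.ResidueField R) := Fintype.ofFinite _
  obtain ⟨f, hpp, hf⟩ := FiniteField.card (IsLocalRing.ResidueField R) p
  refine ⟨p, f * n, hpp, CharP.cast_eq_zero _ _, ?_⟩
  rw [Nat.card_eq_fintype_card, hf, pow_mul]

end Groth.Agent.S12313
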