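import Groth.Statements.S12314
-- import your own Groth.Agent.* helpers here

set_option autoImplicit false
universe u
open CategoryTheory CategoryTheory.Limits AlgebraicGeometry MonObj
open SGA7

namespace Groth.Agent.S12314

/-- Let R be a henselian discrete valuation ring with fraction field K and residue field k, Ω a
separable closure of K, W a valuation subring of Ω lying over R, A and C abelian varieties over K
(proper, geometrically integral commutative group schemes), and u : C → A an isogeny, in the form: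
there are a homomorphism v : A → C and an integer n > 0 with v ∘ u = n and u ∘ v = n. Let ℓ be a
prime invertible in k and consider the ℓ-adic Tate modules of the Ω-points of C and A; call an
element fixed when all its components are fixed by the inertia group at W (for such ℓ the fixed part
is the inertia invariants). Then T_ℓ(u) maps the fixed part of T_ℓ(C) into the fixed part of T_ℓ(A)
and induces an isogeny between them: T_ℓ(u) is injective, and n times every fixed element of T_ℓ(A)
is the image of a fixed element of T_ℓ(C). (The case of a prime equal to the residue characteristic,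
where the fixed part is defined through the Néron model, is not stated.) -/
theorem result (R K Ω : Type u) [CommRing R] [IsDomain R] [IsDiscreteValuationRing R] [HenselianLocalRing R]
    [Field K] [Algebra R K] [IsFractionRing R K] [Field Ω] [Algebra K Ω] [IsSepClosure K Ω]
    (W : ValuationSubring Ω) (hW : SGA7.LiesOver K R W)
    (A C : Over (Spec (CommRingCat.of K))) [GrpObj A] [IsCommMonObj A] [IsProper A.hom] [GeometricallyIntegral A.hom]
    [GrpObj C] [IsCommMonObj C] [IsProper C.hom] [GeometricallyIntegral C.hom]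
    (u : C ⟶ A) [IsMonHom u] (v : A ⟶ C) [IsMonHom v] (n : ℕ) (hn : 0 < n)
    (huv : u ≫ v = (𝟙 C) ^ n) (hvu : v ≫ u = (𝟙 A) ^ n)
    (l : ℕ) (hl : l.Prime) (hlp : (l : IsLocalRing.ResidueField R) ≠ 0) :
    (∀ z : AbDual.TateMod C l (SGA7.pt Ω),
      (∀ (τ : Ω ≃ₐ[K] Ω) (m : ℕ), SGA7.IsInertia W τ →
        SGA7.galAct τ (AbDual.TateMod.component C l (SGA7.pt Ω) m z).toMul =
          (AbDual.TateMod.component C l (SGA7.pt Ω) m z).toMul) →
      (∀ (τ : Ω ≃ₐ[K] Ω) (m : ℕ), SGA7.IsInertia W τ →
        SGA7.galAct τ (AbDual.TateMod.component A l (SGA7.pt Ω) m (AbDual.tateMap u z)).toMul =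
          (AbDual.TateMod.component A l (SGA7.pt Ω) m (AbDual.tateMap u z)).toMul)) ∧
    (∀ z : AbDual.TateMod C l (SGA7.pt Ω), AbDual.tateMap (l := l) (T := SGA7.pt Ω) u z = 0 → z = 0) ∧
    (∀ y : AbDual.TateMod A l (SGA7.pt Ω),
      (∀ (τ : Ω ≃ₐ[K] Ω) (m : ℕ), SGA7.IsInertia W τ →
        SGA7.galAct τ (AbDual.TateMod.component A l (SGA7.pt Ω) m y).toMul =
          (AbDual.TateMod.component A l (SGA7.pt Ω) m y).toMul) →
      ∃ z : AbDual.TateMod C l (SGA7.pt Ω),
        (∀ (τ : Ω ≃ₐ[K] Ω) (m : ℕ), SGA7.IsInertia W τ →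
        SGA7.galAct τ (AbDual.TateMod.component C l (SGA7.pt Ω) m z).toMul =
          (AbDual.TateMod.component C l (SGA7.pt Ω) m z).toMul) ∧
        AbDual.tateMap (l := l) (T := SGA7.pt Ω) u z = n • y) := by
  classical
  have hgal : ∀ (B B' : Over (Spec (CommRingCat.of K))) (τ : Ω ≃ₐ[K] Ω) (p : SGA7.Pts Ω B) (f : B ⟶ B'),
      SGA7.galAct τ (p ≫ f) = SGA7.galAct τ p ≫ f := by
    intro B B' τ p f
    exact (Category.assoc _ _ _).symm
  -- torsion-freeness of the Tate module
  have htf : ∀ z : AbDual.TateMod C l (SGA7.pt Ω), n • z = 0 → z = 0 := by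
    intro z hz
    obtain ⟨a, b, hb, rfl⟩ := Nat.exists_eq_pow_mul_and_not_dvd hn.ne' l hl.ne_one
    have hcop : Nat.Coprime b l := ((Nat.Prime.coprime_iff_not_dvd hl).2 hb).symm
    apply AbDual.TateMod.ext
    intro m
    -- component m is l^a times component m + a
    have hpow : ∀ (j i : ℕ), (l ^ j) • (z : ℕ → Additive (SGA7.pt Ω ⟶ C)) (i + j) =
        (z : ℕ → Additive (SGA7.pt Ω ⟶ C)) i := by
      intro j
      induction j with
      | zero => intro i; simp
      | succ j ih =>
        intro i
        rw [pow_succ, mul_nsmul', ← Nat.add_assoc, AbDual.TateMod.compat, ih]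
    have h1 : (l ^ a * b) • (z : ℕ → Additive (SGA7.pt Ω ⟶ C)) (m + a) = 0 := by
      have := congrArg (fun w : AbDual.TateMod C l (SGA7.pt Ω) =>
        (w : ℕ → Additive (SGA7.pt Ω ⟶ C)) (m + a)) hz
      simpa using this
    have h2 : b • (z : ℕ → Additive (SGA7.pt Ω ⟶ C)) m = 0 := by
      rw [← hpow a m, ← mul_nsmul', mul_comm, h1]
    have h3 : (l ^ m) • (z : ℕ → Additive (SGA7.pt Ω ⟶ C)) m = 0 := AbDual.TateMod.torsion z m
    have h4 : addOrderOf ((z : ℕ → Additive (SGA7.pt Ω ⟶ C)) m) ∣ 1 := by
      have d1 := addOrderOf_dvd_of_nsmul_eq_zero h2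
      have d2 := addOrderOf_dvd_of_nsmul_eq_zero h3
      have := Nat.dvd_gcd d1 d2
      rwa [(Nat.Coprime.pow_right m hcop).gcd_eq_one] at this
    have h5 := addOrderOf_dvd_iff_nsmul_eq_zero.1 h4
    rw [one_nsmul] at h5
    exact h5
  refine ⟨fun z hz τ m hτ => ?_, fun z hz => ?_, fun y hy => ?_⟩
  · rw [AbDual.tateMap_component, hgal, hz τ m hτ]
  · apply htf
    apply AbDual.TateMod.ext
    intro m
    have h := congrArg (fun w : AbDual.TateMod A l (SGA7.pt Ω) =>
      (AbDual.TateMod.component A l (SGA7.pt Ω) m w).toMul) hz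
    change (AbDual.TateMod.component A l (SGA7.pt Ω) m (AbDual.tateMap u z)).toMul = _ at h
    rw [AbDual.tateMap_component] at h
    have h' : (AbDual.TateMod.component C l (SGA7.pt Ω) m z).toMul ≫ u = 1 := h
    have h2 : (AbDual.TateMod.component C l (SGA7.pt Ω) m z).toMul ^ n = 1 := by
      have : (AbDual.TateMod.component C l (SGA7.pt Ω) m z).toMul ≫ (u ≫ v) = 1 := by
        rw [← Category.assoc, h', MonObj.one_comp]
      rw [huv, MonObj.comp_pow, Category.comp_id] at this
      exact this
    exact congrArg Additive.ofMul h2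
  · refine ⟨AbDual.tateMap v y, fun τ m hτ => ?_, ?_⟩
    · rw [AbDual.tateMap_component, hgal, hy τ m hτ]
    · apply AbDual.TateMod.ext
      intro m
      change Additive.ofMul (((AbDual.TateMod.component A l (SGA7.pt Ω) m y).toMul ≫ v) ≫ u) = _
      rw [Category.assoc, hvu, MonObj.comp_pow, Category.comp_id]
      rfl

end Groth.Agent.S12314
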