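import Groth.Statements.S12316
import Groth.Agent.SGA7.K565.SmallTangent

set_option autoImplicit false
universe u v
open CategoryTheory
open SGA7

namespace Groth.Agent.S12316

/-- Suppose Λ is a Noetherian local ring, complete for its maximal ideal, whose residue field is k (so Λ
→ k is surjective), and work with functors defined on the category of local Artinian Λ-algebras
having residue field k. Take morphisms φ : F → G and ψ : G → H of such functors. Assume that each of
F(k), G(k), H(k) consists of a single point; that for G the comparison map on fibre products A₁ ×_A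
A₂ is surjective as soon as A₂ → A is surjective, and is bijective for products of the form A' ×_k
k[ε]; that for H the comparison map is bijective on every fibre product A₁ ×_A A₂ with A₂ → A
surjective; and that the induced map on tangent spaces G(k[ε]) → H(k[ε]) coming from ψ is injective.
Under these assumptions, φ ≫ ψ is smooth if and only if both φ and ψ are smooth. (The published
statement is for functors of cofibred groupoids with G semi-homogeneous and H homogeneous; this row
is the case of set-valued functors.) -/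
theorem result (Λ k : Type u) [CommRing Λ] [IsLocalRing Λ] [IsNoetherianRing Λ]
    [IsAdicComplete (IsLocalRing.maximalIdeal Λ) Λ] [Field k] [Algebra Λ k]
    (hk : Function.Surjective (algebraMap Λ k))
    {F G H : ArtFun.Art Λ k ⥤ Type v} (φ : F ⟶ G) (ψ : G ⟶ H)
    (hF : ArtFun.H0 F) (hG : ArtFun.H0 G ∧ ArtFun.S1 G ∧ ArtFun.Heps G) (hH0 : ArtFun.H0 H)
    (hH : ∀ ⦃B A A' A'' : ArtFun.Art Λ k⦄ (p' : B ⟶ A') (p'' : B ⟶ A'') (f' : A' ⟶ A) (f'' : A'' ⟶ A)
      (h : ArtFun.Art.IsFibreProd p' p'' f' f''), Function.Surjective f'' → Function.Bijective (ArtFun.cmp H h))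
    (hψ : Function.Injective (ArtFun.TangentSpace.map ψ)) :
    ArtFun.IsSmooth (φ ≫ ψ) ↔ (ArtFun.IsSmooth φ ∧ ArtFun.IsSmooth ψ) := by
  constructor
  · intro hφψ
    have hφ : ArtFun.IsSmooth φ := by
      rintro B A μ hμ ⟨⟨a, g⟩, hag⟩
      have hag' : φ.app A a = G.map μ g := hag
      obtain ⟨f, hf⟩ := hφψ μ hμ ⟨(a, ψ.app B g), by
        change ψ.app A (φ.app A a) = H.map μ (ψ.app B g)
        rw [hag', NatTrans.naturality_apply]⟩
      have h1 : F.map μ f = a := congrArg (fun x => x.1.1) hf
      have h2 : ψ.app B (φ.app B f) = ψ.app B g := congrArg (fun x => x.1.2) hf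
      refine ⟨f, Subtype.ext (Prod.ext h1 ?_)⟩
      refine K565.SmallTangent.eq_of_tangent_injective hk ψ hG.2.1 hG.2.2
        (fun _ _ _ _ p' p'' f' f'' h hf'' => (hH p' p'' f' f'' h hf'').1) hψ μ hμ _ _ ?_ h2
      change G.map μ (φ.app B f) = G.map μ g
      rw [← NatTrans.naturality_apply, h1, hag']
    refine ⟨hφ, ?_⟩
    -- `φ` is surjective on objects
    have hφs : ∀ A : ArtFun.Art Λ k, Function.Surjective (φ.app A) := by
      intro A g
      obtain ⟨x⟩ := hF.1
      have := hG.1.2
      obtain ⟨f, hf⟩ := hφ (ArtFun.Art.toBase A) A.res_surjective ⟨(x, g), Subsingleton.elim _ _⟩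
      exact ⟨f, congrArg (fun x => x.1.2) hf⟩
    rintro B A μ hμ ⟨⟨g, h⟩, hgh⟩
    have hgh' : ψ.app A g = H.map μ h := hgh
    obtain ⟨f, rfl⟩ := hφs A g
    obtain ⟨f', hf'⟩ := hφψ μ hμ ⟨(f, h), hgh'⟩
    have h1 : F.map μ f' = f := congrArg (fun x => x.1.1) hf'
    have h2 : ψ.app B (φ.app B f') = h := congrArg (fun x => x.1.2) hf'
    refine ⟨φ.app B f', Subtype.ext (Prod.ext ?_ h2)⟩
    change G.map μ (φ.app B f') = φ.app A f
    rw [← NatTrans.naturality_apply, h1]
  · rintro ⟨hφ, hψs⟩ B A μ hμ ⟨⟨a, h⟩, hah⟩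
    have hah' : ψ.app A (φ.app A a) = H.map μ h := hah
    obtain ⟨g, hg⟩ := hψs μ hμ ⟨(φ.app A a, h), hah'⟩
    have h1 : G.map μ g = φ.app A a := congrArg (fun x => x.1.1) hg
    have h2 : ψ.app B g = h := congrArg (fun x => x.1.2) hg
    obtain ⟨f, hf⟩ := hφ μ hμ ⟨(a, g), h1.symm⟩
    have h3 : F.map μ f = a := congrArg (fun x => x.1.1) hf
    have h4 : φ.app B f = g := congrArg (fun x => x.1.2) hf
    refine ⟨f, Subtype.ext (Prod.ext h3 ?_)⟩
    change ψ.app B (φ.app B f) = h
    rw [h4, h2]

end Groth.Agent.S12316
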