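import Groth.Statements.S12318
import Groth.Agent.SGA7.K566.FixedCompl
import Groth.Agent.SGA7.K566.PrimeAux
import Groth.Agent.Sga7.H733.PtsBasic
import Groth.Agent.S4048
import Groth.Agent.S4054

set_option autoImplicit false
universe u
open CategoryTheory CategoryTheory.Limits AlgebraicGeometry MonObj
open SGA7

namespace Groth.Agent.S12318

/-- Let R be a discrete valuation ring with fraction field K and residue field k, Ω a separable closure
of K, W a valuation subring of Ω lying over R, A an abelian variety over K (proper, geometrically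
integral commutative group scheme) with semistable reduction over R, and ℓ a prime invertible in k.
Let T be the ℓ-adic Tate module of the Ω-points of A, ρ(τ) the ℤ_ℓ-linear endomorphism of T acting
componentwise by the Galois action of τ (this pins ρ), and call an element fixed when every ρ(σ)
with σ in the inertia group at W fixes it. If the fixed part has an inertia-stable complement up to
isogeny — a ℤ_ℓ-submodule N of T stable under the inertia group, meeting the fixed part in 0, with
m·T contained in N plus the fixed part for some m > 0 (equivalently the fixed part of T ⊗ ℚ_ℓ has an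
inertia-stable complement) — then A has good reduction over R. (Stated for ℓ prime to the residue
characteristic, where the fixed part is the inertia invariants.) -/
theorem result (R K Ω : Type u) [CommRing R] [IsDomain R] [IsDiscreteValuationRing R]
    [Field K] [Algebra R K] [IsFractionRing R K] [Field Ω] [Algebra K Ω] [IsSepClosure K Ω]
    (W : ValuationSubring Ω) (hW : SGA7.LiesOver K R W)
    (A : Over (Spec (CommRingCat.of K))) [GrpObj A] [IsCommMonObj A] [IsProper A.hom] [GeometricallyIntegral A.hom]
    (hss : SGA7.HasSemistableReduction R K A)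
    (l : ℕ) [Fact l.Prime] (hlp : (l : IsLocalRing.ResidueField R) ≠ 0)
    (ρ : (Ω ≃ₐ[K] Ω) → Module.End ℤ_[l] (AbDual.TateMod A l (SGA7.pt Ω)))
    (hρ : ∀ (τ : Ω ≃ₐ[K] Ω) (z : AbDual.TateMod A l (SGA7.pt Ω)) (m : ℕ),
      (AbDual.TateMod.component A l (SGA7.pt Ω) m (ρ τ z)).toMul =
        SGA7.galAct τ (AbDual.TateMod.component A l (SGA7.pt Ω) m z).toMul)
    (N : Submodule ℤ_[l] (AbDual.TateMod A l (SGA7.pt Ω)))
    (hN : ∀ σ : Ω ≃ₐ[K] Ω, SGA7.IsInertia W σ → ∀ z ∈ N, ρ σ z ∈ N)
    (hcap : ∀ z ∈ N, (∀ σ : Ω ≃ₐ[K] Ω, SGA7.IsInertia W σ → ρ σ z = z) → z = 0)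
    (hsum : ∃ m : ℕ, 0 < m ∧ ∀ y : AbDual.TateMod A l (SGA7.pt Ω), ∃ z ∈ N, ∃ w : AbDual.TateMod A l (SGA7.pt Ω),
      (∀ σ : Ω ≃ₐ[K] Ω, SGA7.IsInertia W σ → ρ σ w = w) ∧ m • y = z + w) :
    SGA7.HasGoodReduction R K A := by
  have hl : l.Prime := Fact.out
  have hlK : (l : K) ≠ 0 :=
    K566.PrimeAux.ne_zero_of_residue R K (IsFractionRing.injective R K) hlp
  haveI : IsSepClosed Ω := IsSepClosure.sep_closed K
  refine Groth.Agent.S4054.result R K Ω W hW l hl hlp A fun ν => ?_
  exact K566.FixedCompl.inertiaTrivialOn W A l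
    (fun x => Groth.Agent.Sga7.H733.PtsBasic.exists_pow_eq A hlK x)
    ((Groth.Agent.S4048.result R K Ω W hW l hl hlp A).1 hss) ρ hρ N hN hcap hsum ν

end Groth.Agent.S12318
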