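import Groth.Statements.S15055
import Groth.Agent.BTGrp.K787.QuotDeg

set_option autoImplicit false
universe u
open CategoryTheory CategoryTheory.Limits MonoidalCategory CartesianMonoidalCategory MonObj GrpObj AlgebraicGeometry
open BTGrp

namespace Groth.Agent.S15055

/-- Let R be a Noetherian ring, ℓ a prime and G = (G_ν)_ν an ℓ-divisible (Barsotti–Tate) group of height
h over Spec R, given as the system of its finite locally free layers G_ν of order ℓ^{νh} with
inclusions exhibiting G_ν as the ℓ^ν-torsion of G_{ν+1} and projections j_t : G_{t+1} → G_t through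
which multiplication by ℓ on G_{t+1} factors. Let i_t : G_1 → G_{t+1} be the iterated inclusions
(i_0 = id, i_{t+1} = i_t followed by G_{t+1} → G_{t+2}). Then for every t the sequence 1 → G_1 →
G_{t+1} → G_t → 1 is exact: i_t is the kernel of j_t, and j_t is finite locally free of degree ℓ^h
and surjective; in particular multiplication by ℓ is an epimorphism of fppf sheaves on the
ℓ-divisible group, with kernel of order ℓ^h. (The published statement treats the sequence 0 → G_v →
G_{v+t} → G_t → 0 for every v; this row is its case v = 1, combined with the consequence, stated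
separately in the text, that multiplication by ℓ on the ℓ-divisible group is finite locally free of
degree ℓ^h and surjective.) -/
theorem result (R : Type u) [CommRing R] [IsNoetherianRing R] (ℓ h : ℕ)
    [Fact ℓ.Prime] (G : BTGrp.ProBT ℓ (Spec (CommRingCat.of R)) h)
    (i : (t : ℕ) → (G.G 1 ⟶ G.G (t + 1))) (hi0 : i 0 = 𝟙 (G.G 1))
    (hi : ∀ t : ℕ, i (t + 1) = i t ≫ G.incl (t + 1)) (t : ℕ) :
    AlgGrp.IsKernel (i t) (G.proj t) ∧ Mor2.IsFinLocFreeOfDeg (ℓ ^ h) (G.proj t).left ∧
      Surjective (G.proj t).left := by
  have hkl := K787.BTKer.isKernel_inclIter G i hi0 hi t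
  have hmono := K787.BTKer.mono_iter G i hi0 hi t
  have hker : AlgGrp.IsKernel (i t) (G.proj t) := by
    apply K787.BTKer.isKernel_of_points
    · rw [← cancel_mono (G.incl t), Category.assoc, G.proj_incl, K787.BTKer.comp_eq_one hkl,
        MonObj.one_comp]
    · intro T x hx
      apply K787.BTKer.exists_lift hkl
      rw [← G.proj_incl, ← Category.assoc, hx, MonObj.one_comp]
  refine ⟨hker, ?_⟩
  have h1 : Mor2.IsFinLocFreeOfDeg (ℓ ^ h) (G.G 1).hom := by
    have := G.finLocFree 1
    rwa [Nat.one_mul] at this
  have h2 : Mor2.IsFinLocFreeOfDeg (ℓ ^ h * ℓ ^ (t * h)) (G.G (t + 1)).hom := by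
    have := G.finLocFree (t + 1)
    rwa [Nat.add_mul, Nat.one_mul, pow_add, Nat.mul_comm] at this
  exact K787.BTKer.isFinLocFreeOfDeg_of_isKernel (i t) (G.proj t) hker
    (Nat.pow_pos (Fact.out : ℓ.Prime).pos) h1 h2 (G.finLocFree t)

end Groth.Agent.S15055
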