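import Groth.Statements.S12319
import Groth.Agent.SGA7.K564.Tate.ViaMain
import Groth.Agent.SGA7.K566.GoodMain

set_option autoImplicit false
universe u
open CategoryTheory CategoryTheory.Limits AlgebraicGeometry MonObj
open SGA7

namespace Groth.Agent.S12319

/-- Let R be a discrete valuation ring with fraction field K and residue field k, A an abelian variety
over K (proper, geometrically integral commutative group scheme) and ℓ a prime; when ℓ is the
characteristic of k assume K has characteristic zero. Let (P_ν, i_ν, t_ν) be the ℓ-adic Tate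
projective system of A: i_ν : P_ν → A is the kernel of multiplication by ℓ^ν and t_ν : P_{ν+1} → P_ν
the homomorphisms with i_ν ∘ t_ν = ℓ · i_{ν+1}. Suppose this system extends to an ℓ-divisible group
over Spec R: there are an ℓ-divisible group G over Spec R (finite locally free layers G_ν of order
ℓ^(νh) with inclusions and projections) and isomorphisms of K-group schemes G_ν ×_R K ≅ P_ν carrying
the projections of G to the t_ν and the inclusions of G to the inclusions A[ℓ^ν] ⊆ A[ℓ^(ν+1)] inside
A. Then A has good reduction over R: it extends to an abelian scheme over Spec R. (The converse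
direction is not stated.) -/
theorem result (R K : Type u) [CommRing R] [IsDomain R] [IsDiscreteValuationRing R]
    [Field K] [Algebra R K] [IsFractionRing R K]
    (A : Over (Spec (CommRingCat.of K))) [GrpObj A] [IsCommMonObj A] [IsProper A.hom] [GeometricallyIntegral A.hom]
    (l : ℕ) [Fact l.Prime] (hlK : (l : IsLocalRing.ResidueField R) = 0 → CharZero K)
    (P : ℕ → Over (Spec (CommRingCat.of K))) [∀ ν, GrpObj (P ν)] (i : ∀ ν, P ν ⟶ A) (t : ∀ ν, P (ν + 1) ⟶ P ν)
    (hP : BTGrp.IsTatePro A l P i t)
    (h : ℕ) (G : BTGrp.ProBT l (Spec (CommRingCat.of R)) h)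
    (e : ∀ ν, Red.bc (Spec.map (CommRingCat.ofHom (algebraMap R K))) (G.G ν) ≅ P ν)
    (he : ∀ ν, IsMonHom (e ν).hom)
    (het : ∀ ν, (SGA7.genFib R K).map (G.proj ν) ≫ (e ν).hom = (e (ν + 1)).hom ≫ t ν)
    (hei : ∀ ν, (SGA7.genFib R K).map (G.incl ν) ≫ (e (ν + 1)).hom ≫ i (ν + 1) = (e ν).hom ≫ i ν) :
    SGA7.HasGoodReduction R K A :=
  K565.TateFinal.final K564.TateVia.viaMain
    (fun R K Ω _ _ _ _ _ _ _ _ _ _ W hW l _ hl A _ _ _ _ E hE1 hE2 hgood P _ i t hP h G e he het hei =>
      Groth.Agent.SGA7.K566.GoodMain.good R K Ω W hW l hl A E hgood P i t hP h G e he het hei)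
    R K A l hlK P i t hP h G e he het hei

end Groth.Agent.S12319
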