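import Groth.Statements.S12321
import Groth.Agent.SGA7.K566.Semismall

set_option autoImplicit false
universe u v
open CategoryTheory
open SGA7

namespace Groth.Agent.S12321

/-- Suppose Λ is a Noetherian local ring that is complete, and k is its residue field, so the map Λ → k
is surjective. We look at functors on the category of local Artinian Λ-algebras whose residue field
is k. Take such a functor F for which F(k) is a single point, the comparison map F(A₁ ×_A A₂) →
F(A₁) ×_{F(A)} F(A₂) is surjective whenever A₂ → A is surjective, and this map is bijective for A'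
×_k k[ε]. Call an element a ∈ F(R) versal for small prolongations of the base point when, for each
object R₀ whose augmentation R₀ → k is a small extension and each b ∈ F(R₀), some morphism R → R₀
sends a to b. Assume a ∈ F(R) has this property. Then one can find an object R', a morphism q : R' →
R and an element a' ∈ F(R') whose image is a, satisfying the following. First, q is surjective and
the maximal ideal annihilates its kernel. Second, q induces an isomorphism m_{R'}/(m_{R'}² + m_Λ R')
→ m_R/(m_R² + m_Λ R) between relative cotangent spaces (only injectivity is stated; surjectivity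
comes for free). Third, a' is versal for small prolongations of a: given any small extension π₁ : R₁
→ R and any a₁ ∈ F(R₁) with image a, there is f : R' → R₁ satisfying f ≫ π₁ = q and sending a' to
a₁. (The published statement concerns semi-homogeneous cofibred groupoids; this row treats the case
of set-valued functors.) -/
theorem result (Λ k : Type u) [CommRing Λ] [IsLocalRing Λ] [IsNoetherianRing Λ]
    [IsAdicComplete (IsLocalRing.maximalIdeal Λ) Λ] [Field k] [Algebra Λ k]
    (hk : Function.Surjective (algebraMap Λ k))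
    (F : ArtFun.Art Λ k ⥤ Type v) (hF : ArtFun.H0 F ∧ ArtFun.S1 F ∧ ArtFun.Heps F)
    (R : ArtFun.Art Λ k) (a : F.obj R)
    (hvers : ∀ (R₀ : ArtFun.Art Λ k), ArtFun.Art.IsSmallExt (ArtFun.Art.toBase R₀) →
      ∀ b : F.obj R₀, ∃ φ : R ⟶ R₀, F.map φ a = b) :
    ∃ (R' : ArtFun.Art Λ k) (q : R' ⟶ R) (a' : F.obj R'), F.map q a' = a ∧
      ArtFun.Art.IsSemismallExt q ∧
      (∀ x' : R', x' ∈ IsLocalRing.maximalIdeal (R' : Type u) →
        q x' ∈ (IsLocalRing.maximalIdeal (R : Type u)) ^ 2 ⊔ (IsLocalRing.maximalIdeal Λ).map (algebraMap Λ R) →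
        x' ∈ (IsLocalRing.maximalIdeal (R' : Type u)) ^ 2 ⊔ (IsLocalRing.maximalIdeal Λ).map (algebraMap Λ R')) ∧
      ∀ (R₁ : ArtFun.Art Λ k) (π₁ : R₁ ⟶ R), ArtFun.Art.IsSmallExt π₁ →
        ∀ a₁ : F.obj R₁, F.map π₁ a₁ = a → ∃ f : R' ⟶ R₁, f ≫ π₁ = q ∧ F.map f a' = a₁ := by
  obtain ⟨E, p, hp, hcot, hlift⟩ := K566.Semismall.exists_univ hk R
  obtain ⟨I, hI, y, hy, hmin⟩ := K566.Semismall.exists_minimal F p hp.1 a
  have hIm := hI.trans (K565.ArtTools.ker_le_maximalIdeal p)
  refine ⟨ArtFun.Art.quot E I hIm, ArtFun.Art.quotFactor hIm p hI, y, hy, ⟨?_, ?_⟩, ?_, ?_⟩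
  · exact K565.ArtTools.quotFactor_surjective _ _ _ hp.1
  · rw [eq_bot_iff, Ideal.mul_le]
    intro x hx z hz
    obtain ⟨x, rfl⟩ := ArtFun.Art.quotMk_surjective E I hIm x
    obtain ⟨z, rfl⟩ := ArtFun.Art.quotMk_surjective E I hIm z
    have hx' : x ∈ IsLocalRing.maximalIdeal E := by
      rw [ArtFun.Art.mem_maximalIdeal_iff] at hx ⊢
      exact hx
    have h1 : x * z ∈ IsLocalRing.maximalIdeal E * RingHom.ker p.toAlgHom := Ideal.mul_mem_mul hx' hz
    rw [hp.2] at h1
    have h2 : x * z = 0 := h1
    change ArtFun.Art.quotMk E I hIm x * ArtFun.Art.quotMk E I hIm z = 0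
    refine (map_mul (ArtFun.Art.quotMk E I hIm).toAlgHom x z).symm.trans ?_
    rw [h2, map_zero]
  · intro x hx hxR
    obtain ⟨x, rfl⟩ := ArtFun.Art.quotMk_surjective E I hIm x
    have h1 : x ∈ K566.Semismall.NN Λ E (IsLocalRing.maximalIdeal E) := hcot x hxR
    have hle : (K566.Semismall.NN Λ E (IsLocalRing.maximalIdeal E)).map (ArtFun.Art.quotMk E I hIm).toAlgHom ≤
        K566.Semismall.NN Λ (ArtFun.Art.quot E I hIm) (IsLocalRing.maximalIdeal (ArtFun.Art.quot E I hIm)) := by
      rw [K566.Semismall.NN, Ideal.map_sup]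
      refine sup_le_sup ?_ ?_
      · rw [Ideal.map_pow]
        refine Ideal.pow_right_mono (Ideal.map_le_iff_le_comap.2 fun w hw => ?_) 2
        rw [Ideal.mem_comap, ArtFun.Art.mem_maximalIdeal_iff]
        exact (ArtFun.Art.mem_maximalIdeal_iff E w).1 hw
      · rw [Ideal.map_le_iff_le_comap, Ideal.map_le_iff_le_comap]
        intro l hl
        rw [Ideal.mem_comap, Ideal.mem_comap, AlgHom.commutes]
        exact Ideal.mem_map_of_mem _ hl
    exact hle (Ideal.mem_map_of_mem _ h1)
  · intro R₁ π₁ hπ a₁ h₁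
    obtain ⟨φ, hφ⟩ := hlift π₁ hπ
    obtain ⟨f₀, hf₀⟩ := K566.Semismall.exists_map hk F hF.2.1 p hp.1 a I hI y hy hmin π₁ hπ φ hφ a₁ h₁
    exact K566.VersalLift.exists_corrected hk F hF.2.1 hF.2.2 π₁ hπ _ a a₁ y h₁ hy
      (hvers _ K566.VersalLift.isSmallExt_dual) f₀ hf₀

end Groth.Agent.S12321
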