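import Groth.Statements.S12417
import Mathlib.AlgebraicGeometry.Morphisms.QuasiSeparated

set_option autoImplicit false
universe u
open CategoryTheory AlgebraicGeometry
open Props

namespace Groth.Agent.S12417

/-- Let X be a quasi-compact quasi-separated scheme and P a property of opens of X such that (a) P holds
for every affine open, and (b) whenever a quasi-compact open U has a finite affine open covering U =
V_1 ∪ … ∪ V_n with P holding for every intersection V_i ∩ V_j, P holds for U. Then P holds for every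
quasi-compact open of X. -/
theorem result (X : Scheme.{u}) [CompactSpace X] [QuasiSeparatedSpace X]
    (P : X.Opens → Prop) (ha : ∀ U : X.Opens, IsAffineOpen U → P U)
    (hb : ∀ (U : X.Opens) (n : ℕ) (V : Fin n → X.Opens), IsCompact (U : Set X) →
      (∀ i, IsAffineOpen (V i)) → ⨆ i, V i = U → (∀ i j, P (V i ⊓ V j)) → P U)
    (U : X.Opens) (hU : IsCompact (U : Set X)) : P U := by
  -- finite covers of quasi-compact opens
  have hcov : ∀ (Q : X.Opens → Prop) (U : X.Opens), IsCompact (U : Set X) →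
      (∀ x ∈ U, ∃ V : X.Opens, x ∈ V ∧ V ≤ U ∧ Q V) →
      ∃ (n : ℕ) (V : Fin n → X.Opens), (∀ i, Q (V i) ∧ V i ≤ U) ∧ ⨆ i, V i = U := by
    classical
    intro Q U hU h
    choose! V hxV hVU hQ using h
    obtain ⟨t, ht, hcover⟩ := hU.elim_nhds_subcover (fun x => (V x : Set X))
      (fun x hx => (V x).isOpen.mem_nhds (hxV x hx))
    refine ⟨t.card, fun i => V (t.equivFin.symm i), fun i => ⟨hQ _ (ht _ (t.equivFin.symm i).2),
      hVU _ (ht _ (t.equivFin.symm i).2)⟩, le_antisymm
      (iSup_le fun i => hVU _ (ht _ (t.equivFin.symm i).2)) fun x hx => ?_⟩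
    obtain ⟨y, hy⟩ := Set.mem_iUnion.1 (hcover hx)
    obtain ⟨hyt, hxy⟩ := Set.mem_iUnion.1 hy
    refine TopologicalSpace.Opens.mem_iSup.2 ⟨t.equivFin ⟨y, hyt⟩, ?_⟩
    change x ∈ V ↑(t.equivFin.symm (t.equivFin ⟨y, hyt⟩))
    rw [Equiv.symm_apply_apply]
    exact hxy
  -- quasi-compact opens inside an affine open
  have h1 : ∀ W : X.Opens, IsAffineOpen W → ∀ U : X.Opens, IsCompact (U : Set X) → U ≤ W → P U := by
    intro W hW U hU hUW
    obtain ⟨n, V, hV, hVU⟩ := hcov (fun V => ∃ f : Γ(X, W), V = X.basicOpen f) U hU (by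
      intro x hx
      obtain ⟨f, hf, hxf⟩ := hW.exists_basicOpen_le (⟨x, hx⟩ : U) (hUW hx)
      exact ⟨X.basicOpen f, hxf, hf, f, rfl⟩)
    refine hb U n V hU ?_ hVU ?_
    · intro i
      obtain ⟨f, hf⟩ := (hV i).1
      rw [hf]
      exact hW.basicOpen f
    · intro i j
      obtain ⟨f, hf⟩ := (hV i).1
      obtain ⟨g, hg⟩ := (hV j).1
      rw [hf, hg, ← X.basicOpen_mul]
      exact ha _ (hW.basicOpen _)
  obtain ⟨n, V, hV, hVU⟩ := hcov (fun V => IsAffineOpen V) U hU (by
    intro x hx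
    obtain ⟨V, hV, hxV, hVU⟩ := exists_isAffineOpen_mem_and_subset (X := X) (x := x) (U := U) hx
    exact ⟨V, hxV, hVU, hV⟩)
  refine hb U n V hU (fun i => (hV i).1) hVU fun i j => ?_
  refine h1 (V i) (hV i).1 (V i ⊓ V j) ?_ inf_le_left
  exact QuasiSeparatedSpace.inter_isCompact _ _ (V i).isOpen (hV i).1.isCompact (V j).isOpen
    (hV j).1.isCompact

end Groth.Agent.S12417
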