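import Groth.Statements.S12418
-- import your own Groth.Agent.* helpers here

set_option autoImplicit false
universe u
open CAlg

namespace Groth.Agent.S12418

/-- Let R be a Noetherian ring and b ∈ R; for x outside the ideal (b) put I_x = ((b) : x), the ideal of
r with r x ∈ (b). If s ∉ (b) and I_s is maximal among the I_x (x ∉ (b)), then I_s is prime. -/
theorem result {R : Type u} [CommRing R] [IsNoetherianRing R]
    (b s : R) (hs : s ∉ Ideal.span {b})
    (hmax : ∀ x : R, x ∉ Ideal.span {b} →
      Submodule.colon (Ideal.span {b}) (Ideal.span {s}) ≤ Submodule.colon (Ideal.span {b}) (Ideal.span {x}) →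
      Submodule.colon (Ideal.span {b}) (Ideal.span {x}) = Submodule.colon (Ideal.span {b}) (Ideal.span {s})) :
    (Submodule.colon (Ideal.span {b}) (Ideal.span ({s} : Set R))).IsPrime := by
  have hmem : ∀ x r : R, r ∈ Submodule.colon (Ideal.span {b}) (Ideal.span ({x} : Set R)) ↔
      r * x ∈ Ideal.span {b} := fun x r => Ideal.mem_colon_span_singleton
  refine ⟨fun h => ?_, fun {x y} hxy => ?_⟩
  · have h1 : (1 : R) ∈ Submodule.colon (Ideal.span {b}) (Ideal.span ({s} : Set R)) := by
      rw [h]; trivial
    rw [hmem, one_mul] at h1
    exact hs h1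
  · by_cases hy : y ∈ Submodule.colon (Ideal.span {b}) (Ideal.span ({s} : Set R))
    · exact Or.inr hy
    · refine Or.inl ?_
      rw [hmem] at hy
      have hle : Submodule.colon (Ideal.span {b}) (Ideal.span ({s} : Set R)) ≤
          Submodule.colon (Ideal.span {b}) (Ideal.span ({y * s} : Set R)) := by
        intro r hr
        rw [hmem] at hr ⊢
        have : r * (y * s) = y * (r * s) := by ring
        rw [this]
        exact Ideal.mul_mem_left _ _ hr
      have := hmax (y * s) hy hle
      rw [← this, hmem]
      rw [hmem] at hxy
      rwa [← mul_assoc]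

end Groth.Agent.S12418
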