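import Groth.Statements.S12419
import Groth.Agent.CAlg.K82.FlatDescent
import Groth.Agent.FlatA.LocalCriterion

set_option autoImplicit false
universe u
open TensorProduct
open CAlg

namespace Groth.Agent.S12419

/-- Let A → B be a local homomorphism of Noetherian local rings, m the maximal ideal of A, and φ : A →
A' a ring homomorphism to a semi-local Noetherian ring A' with Jacobson radical r', such that
φ⁻¹(r') = m and such that every power m^n contains φ⁻¹(r'^N) for some N. Then B is flat over A if
and only if A' ⊗_A B is flat over A'. (Given φ⁻¹(r') = m, the condition on powers says that the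
m-adic topology of A is induced by the r'-adic topology of A', equivalently that the induced
homomorphism of adic completions is injective, which is how the published statement phrases this
hypothesis.) -/
theorem result (A B A' : Type u) [CommRing A] [CommRing B]
    [CommRing A'] [IsNoetherianRing A] [IsLocalRing A] [IsNoetherianRing B] [IsLocalRing B]
    [Algebra A B] [IsLocalHom (algebraMap A B)] [IsNoetherianRing A'] [Finite (MaximalSpectrum A')]
    [Algebra A A']
    (hrad : (Ideal.jacobson (⊥ : Ideal A')).comap (algebraMap A A') = IsLocalRing.maximalIdeal A)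
    (htop : ∀ n : ℕ, ∃ N : ℕ,
      ((Ideal.jacobson (⊥ : Ideal A')) ^ N).comap (algebraMap A A') ≤ (IsLocalRing.maximalIdeal A) ^ n) :
    Module.Flat A B ↔ Module.Flat A' (A' ⊗[A] B) := by
  constructor
  · intro h; infer_instance
  · intro h
    have hm : IsLocalRing.maximalIdeal A ≤ ((Ideal.jacobson (⊥ : Ideal A'))).comap (algebraMap A A') := hrad.ge
    refine Groth.Agent.FlatA.LocalCriterion.flat_of_forall_flat_quotient_pow (B := B)
      (IsLocalRing.maximalIdeal A) ?_ fun n hn => ?_
    · rw [IsLocalRing.jacobson_eq_maximalIdeal ⊥ bot_ne_top]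
      rw [Ideal.map_le_iff_le_comap]
      intro x hx
      rw [Ideal.mem_comap]
      exact (IsLocalRing.mem_maximalIdeal _).mpr fun h1 =>
        (IsLocalRing.mem_maximalIdeal _).mp hx ((isUnit_map_iff (algebraMap A B) x).mp h1)
    · obtain ⟨N, hN⟩ := htop n
      set a : Ideal A := ((Ideal.jacobson (⊥ : Ideal A')) ^ N).comap (algebraMap A A') with ha
      have haN : IsLocalRing.maximalIdeal A ^ N ≤ a := by
        rw [ha, ← Ideal.map_le_iff_le_comap, Ideal.map_pow]
        exact Ideal.pow_right_mono (Ideal.map_le_iff_le_comap.mpr hm) N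
      have htopn : a ≠ ⊤ := by
        intro h1
        rw [h1, top_le_iff] at hN
        exact Ideal.IsPrime.ne_top (I := IsLocalRing.maximalIdeal A) inferInstance
          (top_le_iff.mp (hN ▸ Ideal.pow_le_self hn.ne'))
      let R₀ := A ⧸ a
      let R₀' := A' ⧸ ((Ideal.jacobson (⊥ : Ideal A')) ^ N)
      have : Nontrivial R₀ := Ideal.Quotient.nontrivial_iff.mpr htopn
      have : IsLocalRing R₀ := IsLocalRing.of_surjective' (Ideal.Quotient.mk a)
        Ideal.Quotient.mk_surjective
      have hnil : IsLocalRing.maximalIdeal R₀ ^ N = ⊥ := by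
        have h1 : IsLocalRing.maximalIdeal R₀ ≤ (IsLocalRing.maximalIdeal A).map (Ideal.Quotient.mk a) := by
          intro x hx
          obtain ⟨y, rfl⟩ := Ideal.Quotient.mk_surjective x
          refine Ideal.mem_map_of_mem _ ((IsLocalRing.mem_maximalIdeal _).mpr fun hy => ?_)
          exact (IsLocalRing.mem_maximalIdeal _).mp hx (hy.map (Ideal.Quotient.mk a))
        rw [eq_bot_iff]
        refine (Ideal.pow_right_mono h1 N).trans ?_
        rw [← Ideal.map_pow, Ideal.map_le_iff_le_comap, ← RingHom.ker_eq_comap_bot, Ideal.mk_ker]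
        exact haN
      let _ : Algebra R₀ R₀' :=
        (Ideal.quotientMap ((Ideal.jacobson (⊥ : Ideal A')) ^ N) (algebraMap A A') le_rfl).toAlgebra
      have : IsScalarTower A R₀ R₀' := IsScalarTower.of_algebraMap_eq fun x => rfl
      have hinj : Function.Injective (algebraMap R₀ R₀') := Ideal.quotientMap_injective
      have e : R₀' ⊗[R₀] (R₀ ⊗[A] B) ≃ₗ[R₀'] R₀' ⊗[A'] (A' ⊗[A] B) :=
        (AlgebraTensorModule.cancelBaseChange A R₀ R₀' R₀' B).trans
          (AlgebraTensorModule.cancelBaseChange A A' R₀' R₀' B).symm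
      have : Module.Flat R₀' (R₀' ⊗[R₀] (R₀ ⊗[A] B)) := Module.Flat.of_linearEquiv e
      have h0 : Module.Flat R₀ (R₀ ⊗[A] B) :=
        K82.FlatDescent.flat_of_injective R₀ hnil R₀' hinj (R₀ ⊗[A] B)
      let _ : Algebra R₀ (A ⧸ IsLocalRing.maximalIdeal A ^ n) := (Ideal.Quotient.factor hN).toAlgebra
      have : IsScalarTower A R₀ (A ⧸ IsLocalRing.maximalIdeal A ^ n) := IsScalarTower.of_algebraMap_eq fun x => rfl
      exact Module.Flat.of_linearEquiv (AlgebraTensorModule.cancelBaseChange A R₀
        (A ⧸ IsLocalRing.maximalIdeal A ^ n) (A ⧸ IsLocalRing.maximalIdeal A ^ n) B).symm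

end Groth.Agent.S12419
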