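import Groth.Statements.S12421
import Mathlib.RingTheory.Flat.FaithfullyFlat.Algebra
-- import your own Groth.Agent.* helpers here

set_option autoImplicit false
universe u
open TensorProduct
open Desc

namespace Groth.Agent.S12421

/-- Let R → R' be faithfully flat and M an R-module. With δ¹ : M ⊗ R' → M ⊗ (R' ⊗ R'), m ⊗ r ↦ m ⊗ (1 ⊗
r) − m ⊗ (r ⊗ 1), and δ² : M ⊗ (R' ⊗ R') → M ⊗ (R' ⊗ (R' ⊗ R')), m ⊗ x ↦ m ⊗ (1 ⊗ x) − m ⊗ (ins₁ x)
+ m ⊗ (ins₂ x), where ins₁ (r₁ ⊗ r₂) = r₁ ⊗ (1 ⊗ r₂) and ins₂ (r₁ ⊗ r₂) = r₁ ⊗ (r₂ ⊗ 1), the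
sequence M ⊗ R' → M ⊗ R'^{⊗2} → M ⊗ R'^{⊗3} is exact: the kernel of δ² is the image of δ¹. (The
published statement asserts exactness of the whole complex; this row states exactness at M ⊗ R′ ⊗ R′
only.) -/
theorem result (R R' : Type u) [CommRing R] [CommRing R'] [Algebra R R']
    [Module.FaithfullyFlat R R'] (M : Type u) [AddCommGroup M] [Module R M] :
    Function.Exact
      (LinearMap.lTensor M (Algebra.TensorProduct.includeRight : R' →ₐ[R] R' ⊗[R] R').toLinearMap -
        LinearMap.lTensor M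
          (Algebra.TensorProduct.includeLeft : R' →ₐ[R] R' ⊗[R] R').toLinearMap)
      (LinearMap.lTensor M
          (Algebra.TensorProduct.includeRight : R' ⊗[R] R' →ₐ[R] R' ⊗[R] (R' ⊗[R] R')).toLinearMap -
        LinearMap.lTensor M
          (Algebra.TensorProduct.map (AlgHom.id R R')
            (Algebra.TensorProduct.includeRight : R' →ₐ[R] R' ⊗[R] R')).toLinearMap +
        LinearMap.lTensor M
          (Algebra.TensorProduct.map (AlgHom.id R R')
            (Algebra.TensorProduct.includeLeft : R' →ₐ[R] R' ⊗[R] R')).toLinearMap) := by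
  classical
  -- the contraction `a ⊗ m ⊗ b ⊗ z ↦ ab ⊗ m ⊗ z`
  let s (N : Type u) [AddCommGroup N] [Module R N] :
      R' ⊗[R] (M ⊗[R] (R' ⊗[R] N)) →ₗ[R] R' ⊗[R] (M ⊗[R] N) :=
    (LinearMap.rTensor (M ⊗[R] N) (LinearMap.mul' R R')) ∘ₗ
      (TensorProduct.assoc R R' R' (M ⊗[R] N)).symm.toLinearMap ∘ₗ
      LinearMap.lTensor R' (TensorProduct.leftComm R M R' N).toLinearMap
  have hs (N : Type u) [AddCommGroup N] [Module R N] (a b : R') (m : M) (z : N) :
      s N (a ⊗ₜ[R] (m ⊗ₜ[R] (b ⊗ₜ[R] z))) = (a * b) ⊗ₜ[R] (m ⊗ₜ[R] z) := by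
    simp [s]
  rw [← Module.FaithfullyFlat.lTensor_exact_iff_exact R R']
  -- `s` for the free factor `R`
  have key : ∀ y : R' ⊗[R] (M ⊗[R] (R' ⊗[R] R')),
      s (R' ⊗[R] R') (LinearMap.lTensor R' (LinearMap.lTensor M
          (Algebra.TensorProduct.includeRight : R' ⊗[R] R' →ₐ[R] R' ⊗[R] (R' ⊗[R] R')).toLinearMap -
        LinearMap.lTensor M
          (Algebra.TensorProduct.map (AlgHom.id R R')
            (Algebra.TensorProduct.includeRight : R' →ₐ[R] R' ⊗[R] R')).toLinearMap +
        LinearMap.lTensor M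
          (Algebra.TensorProduct.map (AlgHom.id R R')
            (Algebra.TensorProduct.includeLeft : R' →ₐ[R] R' ⊗[R] R')).toLinearMap) y) +
      LinearMap.lTensor R' (LinearMap.lTensor M
          (Algebra.TensorProduct.includeRight : R' →ₐ[R] R' ⊗[R] R').toLinearMap -
        LinearMap.lTensor M
          (Algebra.TensorProduct.includeLeft : R' →ₐ[R] R' ⊗[R] R').toLinearMap) (s R' y) = y := by
    intro y
    have : (s (R' ⊗[R] R')) ∘ₗ (LinearMap.lTensor R' (LinearMap.lTensor M
          (Algebra.TensorProduct.includeRight : R' ⊗[R] R' →ₐ[R] R' ⊗[R] (R' ⊗[R] R')).toLinearMap -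
        LinearMap.lTensor M
          (Algebra.TensorProduct.map (AlgHom.id R R')
            (Algebra.TensorProduct.includeRight : R' →ₐ[R] R' ⊗[R] R')).toLinearMap +
        LinearMap.lTensor M
          (Algebra.TensorProduct.map (AlgHom.id R R')
            (Algebra.TensorProduct.includeLeft : R' →ₐ[R] R' ⊗[R] R')).toLinearMap)) +
      (LinearMap.lTensor R' (LinearMap.lTensor M
          (Algebra.TensorProduct.includeRight : R' →ₐ[R] R' ⊗[R] R').toLinearMap -
        LinearMap.lTensor M
          (Algebra.TensorProduct.includeLeft : R' →ₐ[R] R' ⊗[R] R').toLinearMap)) ∘ₗ (s R') =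
        LinearMap.id := by
      ext a m b c
      simp [hs, TensorProduct.tmul_sub, TensorProduct.tmul_add]
    exact LinearMap.congr_fun this y
  intro y
  constructor
  · intro hy
    have := key y
    rw [hy, map_zero, zero_add] at this
    exact ⟨_, this⟩
  · rintro ⟨z, rfl⟩
    have e3 : (LinearMap.lTensor R' (LinearMap.lTensor M
          (Algebra.TensorProduct.includeRight : R' ⊗[R] R' →ₐ[R] R' ⊗[R] (R' ⊗[R] R')).toLinearMap -
        LinearMap.lTensor M
          (Algebra.TensorProduct.map (AlgHom.id R R')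
            (Algebra.TensorProduct.includeRight : R' →ₐ[R] R' ⊗[R] R')).toLinearMap +
        LinearMap.lTensor M
          (Algebra.TensorProduct.map (AlgHom.id R R')
            (Algebra.TensorProduct.includeLeft : R' →ₐ[R] R' ⊗[R] R')).toLinearMap)) ∘ₗ
        (LinearMap.lTensor R' (LinearMap.lTensor M
          (Algebra.TensorProduct.includeRight : R' →ₐ[R] R' ⊗[R] R').toLinearMap -
        LinearMap.lTensor M
          (Algebra.TensorProduct.includeLeft : R' →ₐ[R] R' ⊗[R] R').toLinearMap)) = 0 := by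
      ext a m b
      simp only [TensorProduct.AlgebraTensorModule.curry_apply, TensorProduct.curry_apply,
        LinearMap.coe_restrictScalars, LinearMap.comp_apply, LinearMap.lTensor_tmul,
        LinearMap.sub_apply, LinearMap.add_apply, AlgHom.toLinearMap_apply,
        Algebra.TensorProduct.includeRight_apply, Algebra.TensorProduct.includeLeft_apply,
        map_sub, map_add, Algebra.TensorProduct.map_tmul, AlgHom.id_apply, map_one,
        Algebra.TensorProduct.one_def, TensorProduct.tmul_sub, TensorProduct.tmul_add,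
        LinearMap.zero_apply]
      simp
    exact LinearMap.congr_fun e3 z

end Groth.Agent.S12421
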