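import Groth.Statements.S12424
import Groth.Agent.Cubic.K655.Plane
import Groth.Agent.Cubic.K656.Bridge
import Mathlib.Algebra.MvPolynomial.NoZeroDivisors
import Mathlib.LinearAlgebra.Matrix.Rank

set_option autoImplicit false
universe u
open Cubic

namespace Groth.Agent.S12424

open K656.Trilin K656.Eckardt K656.Bridge K655.Plane

private lemma eval_of_totalDegree_le_one {k : Type u} [Field k] {n : ℕ}
    (x : MvPolynomial (Fin n) k) (hx : x.totalDegree ≤ 1) :
    ∃ (c : k) (m : (Fin n → k) →ₗ[k] k), ∀ y, MvPolynomial.eval y x = c + m y := by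
  have h := MvPolynomial.sum_homogeneousComponent x
  have hle : Finset.range (x.totalDegree + 1) ⊆ Finset.range 2 :=
    Finset.range_subset_range.mpr (by omega)
  rw [Finset.sum_subset hle (fun i _ hi => MvPolynomial.homogeneousComponent_eq_zero _ _ (by
    simpa using hi)), Finset.sum_range_succ, Finset.sum_range_one] at h
  refine ⟨MvPolynomial.eval 0 (MvPolynomial.homogeneousComponent 0 x),
    ∑ i, MvPolynomial.eval 0 (MvPolynomial.pderiv i (MvPolynomial.homogeneousComponent 1 x)) •
      (LinearMap.proj i : (Fin n → k) →ₗ[k] k), fun y => ?_⟩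
  conv_lhs => rw [← h]
  rw [map_add, eval_euler1 (MvPolynomial.homogeneousComponent_isHomogeneous 1 x)]
  congr 1
  · rw [eq_C_of_hom0 (MvPolynomial.homogeneousComponent_isHomogeneous 0 x)]; simp
  · simp [LinearMap.sum_apply]

/-- Let k be an algebraically closed field of characteristic zero and S = V_+(f) ⊂ P^3_k a smooth cubic
surface, f a nonzero homogeneous cubic in four variables with the Jacobian condition at every
nonzero zero. For every hyperplane H of P^3_k the scheme-theoretic intersection S ∩ H is reduced;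
concretely, for every 4 × 3 matrix A of rank 3 over k (a linear parametrisation of H), the ternary
cubic obtained from f by substituting X_i ↦ Σ_j A_{ij} Y_j is squarefree. -/
theorem result (k : Type u) [Field k] [IsAlgClosed k] [CharZero k]
    (f : MvPolynomial (Fin 4) k) (hf : f.IsHomogeneous 3) (hf0 : f ≠ 0)
    (hsm : ∀ v : Fin 4 → k, v ≠ 0 → MvPolynomial.eval v f = 0 →
      ∃ i : Fin 4, MvPolynomial.eval v (MvPolynomial.pderiv i f) ≠ 0)
    (A : Matrix (Fin 4) (Fin 3) k) (hA : A.rank = 3) :
    Squarefree (MvPolynomial.aeval (fun i : Fin 4 => ∑ j : Fin 3, MvPolynomial.C (A i j) * MvPolynomial.X j) f) := by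
  have hT := tri_sym f
  have hS : Smooth (tri f) := smooth_tri hf hsm
  have hinf : Infinite k := Infinite.of_injective (Nat.cast : ℕ → k) Nat.cast_injective
  set G := MvPolynomial.aeval (fun i : Fin 4 => ∑ j : Fin 3, MvPolynomial.C (A i j) *
    MvPolynomial.X j) f with hG
  have hGe : ∀ y, MvPolynomial.eval y G = tri f (A.mulVec y) (A.mulVec y) (A.mulVec y) := by
    intro y; rw [hG, eval_aeval_linear, tri_diag hf]
  have hinj : Function.Injective (Matrix.toLin' A) := by
    rw [← LinearMap.ker_eq_bot]
    have h1 := LinearMap.finrank_range_add_finrank_ker (Matrix.toLin' A)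
    have h2 : Module.finrank k ↥(LinearMap.range (Matrix.toLin' A)) = 3 := by
      exact hA
    rw [h2, Module.finrank_fin_fun] at h1
    exact Submodule.finrank_eq_zero.mp (by omega)
  have key : ∀ m n : (Fin 3 → k) →ₗ[k] k, (∀ y, MvPolynomial.eval y G = m y ^ 2 * n y) → False := by
    intro m n h
    exact no_double finrank4 hT hS (by simp) (Matrix.toLin' A) hinj m n fun y => by
      rw [Matrix.toLin'_apply, ← hGe, h]
  have hG0 : G ≠ 0 := by
    intro h0
    exact key 0 0 fun y => by rw [h0]; simp
  have hGt : ∀ (t : k) y, MvPolynomial.eval (t • y) G = t ^ 3 * MvPolynomial.eval y G := by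
    intro t y
    rw [hGe, hGe, Matrix.mulVec_smul]
    simp only [map_smul, LinearMap.smul_apply, smul_eq_mul]; ring
  have hGdeg : G.totalDegree ≤ 3 := by
    rw [hG, MvPolynomial.aeval_def]
    refine (MvPolynomial.IsHomogeneous.totalDegree_le ?_)
    have := hf.eval₂ (algebraMap k (MvPolynomial (Fin 3) k))
      (fun i : Fin 4 => ∑ j : Fin 3, MvPolynomial.C (A i j) * MvPolynomial.X j) (n := 1)
      (fun r => MvPolynomial.isHomogeneous_C _ _) (fun i =>
        MvPolynomial.IsHomogeneous.sum _ _ _ fun j _ => by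
          have := (MvPolynomial.isHomogeneous_C (Fin 3) (A i j)).mul
            (MvPolynomial.isHomogeneous_X k j)
          rwa [zero_add] at this)
    simpa using this
  intro x hx
  obtain ⟨q, hq⟩ := hx
  have hx0 : x ≠ 0 := by rintro rfl; rw [zero_mul, zero_mul] at hq; exact hG0 hq
  have hq0 : q ≠ 0 := by rintro rfl; rw [mul_zero] at hq; exact hG0 hq
  have hdeg : x.totalDegree + x.totalDegree + q.totalDegree ≤ 3 := by
    rw [← MvPolynomial.totalDegree_mul_of_isDomain hx0 hx0,
      ← MvPolynomial.totalDegree_mul_of_isDomain (mul_ne_zero hx0 hx0) hq0, ← hq]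
    exact hGdeg
  by_cases hxd : x.totalDegree = 0
  · rw [MvPolynomial.totalDegree_eq_zero_iff_eq_C] at hxd
    rw [hxd] at hx0 ⊢
    have hc : MvPolynomial.coeff 0 x ≠ 0 := fun h => hx0 (by rw [h, map_zero])
    exact (IsUnit.mk0 _ hc).map MvPolynomial.C
  · exfalso
    obtain ⟨c, m, hm⟩ := eval_of_totalDegree_le_one x (by omega)
    obtain ⟨d, n, hn⟩ := eval_of_totalDegree_le_one q (by omega)
    refine key m n fun y => ?_
    have hfun : ∀ t : k, t ^ 3 * MvPolynomial.eval y G = (c + t * m y) ^ 2 * (d + t * n y) := by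
      intro t
      rw [← hGt, hq, map_mul, map_mul, hm, hn, map_smul, map_smul, smul_eq_mul, smul_eq_mul]
      ring
    have h6 : (6 : k) ≠ 0 := by norm_num
    apply mul_left_cancel₀ h6
    have e2 := hfun 2
    have e1 := hfun 1
    have e0 := hfun 0
    have e3 := hfun (-1)
    linear_combination e2 - 3 * e1 + 3 * e0 - e3

end Groth.Agent.S12424
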