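import Groth.Statements.S12428
import Groth.Agent.AGF.K495.ExtAlong

set_option autoImplicit false
universe u
open CategoryTheory MonoidalCategory CartesianMonoidalCategory MonObj GrpObj AlgebraicGeometry
open scoped TensorProduct
open AGF

namespace Groth.Agent.S12428

/-- Let k be an algebraically closed field, G a linear algebraic group over k (an affine smooth group
scheme over k), i : H → G a closed subgroup (smooth closed subgroup scheme), j : G° → G the identity
component (a connected open subgroup scheme), and K = H ∩ G° the intersection subgroup scheme, with
homomorphisms a : K → H and b : K → G° whose underlying square of schemes is a pullback of i and j.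
Then H is observable in G if and only if K is observable in G°. -/
theorem result (k : Type u) [Field k] [IsAlgClosed k]
    (G : Over (Spec (CommRingCat.of k))) [GrpObj G] [IsAffine G.left] [Smooth G.hom]
    (H : Over (Spec (CommRingCat.of k))) [GrpObj H] [Smooth H.hom] (i : H ⟶ G) [IsMonHom i]
    [IsClosedImmersion i.left]
    (G₀ : Over (Spec (CommRingCat.of k))) [GrpObj G₀] [ConnectedSpace G₀.left] (j : G₀ ⟶ G) [IsMonHom j]
    [IsOpenImmersion j.left]
    (K : Over (Spec (CommRingCat.of k))) [GrpObj K] (a : K ⟶ H) [IsMonHom a] (b : K ⟶ G₀) [IsMonHom b]
    (hK : IsPullback a.left b.left i.left j.left) :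
    AGF.IsObservableIn k i ↔ AGF.IsObservableIn k b := by
  have ha : IsOpenImmersion a.left :=
    MorphismProperty.of_isPullback (P := @IsOpenImmersion) hK.flip inferInstance
  have hb : IsClosedImmersion b.left :=
    MorphismProperty.of_isPullback (P := @IsClosedImmersion) hK inferInstance
  have hj : IsClosedImmersion j.left := K495.OpenSub.isClosedImmersion_of_open j
  have hac : IsClosedImmersion a.left := K495.OpenSub.isClosedImmersion_of_open a
  have hG₀ : IsAffine G₀.left := K495.OpenSub.isAffine_of_open j
  have hG₀s : Smooth G₀.hom := K495.OpenSub.smooth_of_open j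
  have hH : IsAffine H.left := isAffine_of_isAffineHom i.left
  have hKa : IsAffine K.left := isAffine_of_isAffineHom b.left
  have hKs : Smooth K.hom := K495.OpenSub.smooth_of_open a
  have hw : a ≫ i = b ≫ j := Over.OverMorphism.ext hK.w
  have hjo : AGF.IsObservableIn k j := K495.ExtAlong.isObservableIn_of_open j
  have hao : AGF.IsObservableIn k a := K495.ExtAlong.isObservableIn_of_open a
  constructor
  · intro h
    have h1 := K495.ExtAlong.isObservableIn_comp i a hao h
    rw [hw] at h1
    exact K495.ExtAlong.isObservableIn_of_comp j b h1
  · intro h
    have h1 := K495.ExtAlong.isObservableIn_comp j b h hjo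
    rw [← hw] at h1
    exact K495.ExtAlong.isObservableIn_of_open_sub i a h1

end Groth.Agent.S12428
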