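import Groth.Statements.S12431
import Groth.Agent.Curves.K323.NormExt

set_option autoImplicit false
universe u
open CategoryTheory CategoryTheory.Limits AlgebraicGeometry
open Curves

namespace Groth.Agent.S12431

/-- Uniqueness, e = 0 case: let C be an elliptic curve over an algebraically closed field k — integral,
proper over k, of dimension one, all local rings regular, of genus 1 — and let E and E′ be locally
free O_C-modules of rank 2 which are normalized (H^0(C, E) ≠ 0 while H^0(C, E ⊗ M) = 0 for every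
invertible M of negative degree; likewise for E′), indecomposable (not isomorphic to a direct sum of
two invertible modules) and of degree 0, where deg E = χ(E) − 2χ(O_C). Then E and E′ are isomorphic:
there is exactly one elliptic ruled surface with invariant e = 0 and indecomposable E. -/
theorem result (k : Type u) [Field k] [IsAlgClosed k] (C : Scheme.{u}) [C.Over (Spec (CommRingCat.of k))]
    [IsIntegral C] [IsProper (C ↘ (Spec (CommRingCat.of k)))] (hdimC : topologicalKrullDim C = 1)
    (hregC : ∀ x : C, IsRegularLocalRing (C.presheaf.stalk x)) (hg : Curv2.genus k C = 1)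
    (E : C.Modules) (hE : FlatMod.IsFinLocFreeOfRank 2 E)
    (hE0 : Nontrivial (Coh.HH C E 0))
    (hEneg : ∀ M : C.Modules, PicF.IsInvertible M → Curv2.deg k C M 1 < 0 → Subsingleton (Coh.HH C (CohB1.tensorMod E M) 0))
    (hEind : ∀ L₁ L₂ : C.Modules, PicF.IsInvertible L₁ → PicF.IsInvertible L₂ → IsEmpty (E ≅ L₁ ⊞ L₂))
    (hEdeg : Curv2.deg k C E 2 = 0)
    (E' : C.Modules) (hE' : FlatMod.IsFinLocFreeOfRank 2 E')
    (hE'0 : Nontrivial (Coh.HH C E' 0))
    (hE'neg : ∀ M : C.Modules, PicF.IsInvertible M → Curv2.deg k C M 1 < 0 → Subsingleton (Coh.HH C (CohB1.tensorMod E' M) 0))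
    (hE'ind : ∀ L₁ L₂ : C.Modules, PicF.IsInvertible L₁ → PicF.IsInvertible L₂ → IsEmpty (E' ≅ L₁ ⊞ L₂))
    (hE'deg : Curv2.deg k C E' 2 = 0) :
    Nonempty (E ≅ E') := by
  have hno := Groth.Agent.Curves.K323.PtDeg.isNoetherian k C
  have hχ : Curv2.euler k C (Coh.structureModule C) = 0 := by
    rw [Groth.Agent.Curves.K323.GenusOneExt.euler_eq k hdimC,
      Groth.Agent.VarietyA.CurveFin.finrank_h0_structure k C]
    have : Module.finrank k (Coh.HH C (Coh.structureModule C) 1) = 1 := hg
    rw [this]
    norm_num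
  obtain ⟨N, s, p, w, hS, hN, hd⟩ := Groth.Agent.Curves.K323.NormExt.exists_ext k C hdimC hregC E hE hE0 hEneg
  obtain ⟨N', s', p', w', hS', hN', hd'⟩ :=
    Groth.Agent.Curves.K323.NormExt.exists_ext k C hdimC hregC E' hE' hE'0 hE'neg
  have hO : PicF.IsInvertible (Coh.structureModule C) :=
    Groth.Agent.CurvesB.GenStalk.isInvertible_structureModule
  exact Groth.Agent.Curves.K323.GenusOneExt.nonempty_iso k hdimC hχ hg (ShortComplex.mk s p w)
    (ShortComplex.mk s' p' w') hS hS' (Iso.refl _) (Iso.refl _) hN hN' (hd.trans hEdeg) (hd'.trans hE'deg)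
    ⟨fun σ => (hEind _ _ hO hN).false σ.isoBinaryBiproduct⟩
    ⟨fun σ => (hE'ind _ _ hO hN').false σ.isoBinaryBiproduct⟩

end Groth.Agent.S12431
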