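import Groth.Statements.S12432
import Groth.Agent.Curves.K319.VA
import Groth.Agent.Curves.K323.Nondeg
import Groth.Agent.Ega3B.ProjTwist

set_option autoImplicit false
universe u
open CategoryTheory CategoryTheory.Limits AlgebraicGeometry
open Curves

namespace Groth.Agent.S12432

/-- In degree d = 6 the curve is canonical. Take k algebraically closed and suppose X is a curve over k
(integral, proper over k, one-dimensional, with every local ring regular), equipped with a closed
immersion i : X → P^3_k over k whose image lies in no plane — that is, any nonzero global section of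
O(1) on P^3_k pulls back to a nonzero global section of i^*O(1). Assume the hyperplane section is
special, meaning H^1(X, i^*O(1)) ≠ 0, and that deg i^*O(1) = 6. Then i^*O(1) is isomorphic to the
canonical sheaf Ω_{X/k}, and X has genus 4 (so X is a canonical curve of genus 4; the isomorphism is
asserted to exist as O_X-modules). -/
theorem result (k : Type u) [Field k] [IsAlgClosed k] (X : Scheme.{u}) [X.Over (Spec (CommRingCat.of k))]
    [IsIntegral X] [IsProper (X ↘ (Spec (CommRingCat.of k)))] (hdim : topologicalKrullDim X = 1)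
    (hreg : ∀ x : X, IsRegularLocalRing (X.presheaf.stalk x))
    (i : X ⟶ CohB1.ProjSpace 3 k) [IsClosedImmersion i] (hi : i ≫ CohB1.ProjSpace.toSpec 3 k = (X ↘ (Spec (CommRingCat.of k))))
    (hplane : ∀ s : LinSer.Sect (CohB1.ProjSpace 3 k) (Twist.twistProjSpace 3 k 1), s ≠ 0 →
      OmegaSh.pullSect i (Twist.twistProjSpace 3 k 1) ⊤ s ≠ 0)
    (hspecial : Nontrivial (Coh.HH X ((Scheme.Modules.pullback i).obj (Twist.twistProjSpace 3 k 1)) 1))
    (hdeg : Curv2.deg k X ((Scheme.Modules.pullback i).obj (Twist.twistProjSpace 3 k 1)) 1 = 6) :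
    Nonempty (((Scheme.Modules.pullback i).obj (Twist.twistProjSpace 3 k 1)) ≅ Omega.sheaf (X ↘ (Spec (CommRingCat.of k)))) ∧ Curv2.genus k X = 4 := by
  have hX : K319.PicCD.Reg X := ⟨hdim, hreg⟩
  have hC := hX.isCurve (k := k)
  have hΩ := K532.CurvePic.isInvertible_omega hC
  have hL : PicF.IsInvertible ((Scheme.Modules.pullback i).obj (Twist.twistProjSpace 3 k 1)) :=
    Groth.Agent.Fdesc.LocGen.isInvertible_pullback i (Groth.Agent.Ega3B.ProjTwist.isInvertible_twistProjSpace 3 k 1)
  have hfin := K532.CurvePic.finite_HH hC hL 0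
  have h4 := Groth.Agent.Curves.K323.Nondeg.succ_le_finrank k 3 X i hi hplane
  have hVA : K319.VA.IsVA k X ((Scheme.Modules.pullback i).obj (Twist.twistProjSpace 3 k 1)) :=
    ⟨3, i, inferInstance, hi, ⟨Iso.refl _⟩⟩
  have hVA' := (K319.VA.isVA_iff k X hX hL).mp hVA
  set C := K319.PicCD.cd k X hX with hCdef
  set a : Additive (Groth.Agent.Grpsch.PicGrp.Pic X) := Additive.ofMul (Groth.Agent.Grpsch.PicGrp.mk _ hL) with ha
  have ha0 : C.h a = Module.finrank k (Coh.HH X ((Scheme.Modules.pullback i).obj (Twist.twistProjSpace 3 k 1)) 0) :=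
    K532.CurvePic.h_mk k X 0 hL
  have had : C.deg a = 6 := (K532.CurvePic.deg_mk k X hX.dim hL).trans hdeg
  have hsp : C.h (C.K - a) ≠ 0 := by
    have h1 := K532.CurvePic.serre hC (Groth.Agent.Grpsch.PicGrp.mk _ hL)
    have h2 := (K532.CurvePic.nontrivial_iff hC hL 1).mp hspecial
    rw [h1] at h2
    change K532.CurvePic.h k X 0 (K532.CurvePic.om hC / Groth.Agent.Grpsch.PicGrp.mk _ hL) ≠ 0
    rw [div_eq_mul_inv]
    exact h2.ne'
  have h5 := (C.clifford a (by omega) hsp).2
  rw [had] at h5
  have h6 : C.h a = 4 := by omega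
  have haK : a = C.K := by
    by_contra hne
    obtain ⟨c, hc1, hc2, hc3⟩ := C.clifford_eq a (by omega) hsp
      (by intro h0; rw [h0, C.h_zero] at h6; omega) hne (by rw [h6, had]; norm_num)
    obtain ⟨x, hx⟩ := C.exists_pt c (by omega) (by omega)
    obtain ⟨y, hy⟩ := C.exists_pt (c - C.p x) hx (by rw [C.deg_sub_p, hc1]; norm_num)
    have h7 := C.eq_zero (c - C.p x - C.p y) (by rw [C.deg_sub_p, C.deg_sub_p, hc1]; norm_num) hy
    have h8 := hVA' x y
    rw [h6] at h8
    have h9 : a - C.p x - C.p y = c + c := by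
      have h10 : c = C.p x + C.p y := by
        rw [sub_sub, sub_eq_zero] at h7
        exact h7
      rw [hc3, h6]
      have h11 : (4 - 1 : ℕ) • c = c + c + c := by
        change 3 • c = _
        rw [succ_nsmul, two_nsmul]
      rw [h11, sub_sub, ← h10]
      abel
    rw [h9] at h8
    have h12 := C.hopf c c (by omega) (by omega)
    omega
  constructor
  · exact (Groth.Agent.Grpsch.PicGrp.mk_eq_iff hL hΩ).mp haK
  · have h7 := C.deg_K
    rw [← haK, had] at h7
    have h8 : C.g = Curv2.genus k X := rfl
    omega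

end Groth.Agent.S12432
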