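import Groth.Statements.S12433
import Groth.Agent.Dual.K175.NoethProj
import Groth.Agent.PerfC.LpullTens
import Groth.Agent.PerfC.ThetaShift
import Groth.Agent.PerfC.LTXRestr

set_option autoImplicit false
universe u
open CategoryTheory CategoryTheory.Limits AlgebraicGeometry Opposite
attribute [local instance] HasDerivedCategory.standard
open Dual

namespace Groth.Agent.S12433

/-- The projection map is an isomorphism for `E` with arbitrary cohomology if `X` is Noetherian of finite dimension. -/
theorem isIso_theta_app {X Y : Scheme.{u}} (f : X ⟶ Y) [AlgebraicGeometry.IsNoetherian X] [QuasiCompact f]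
    (d : ℕ) (hd : topologicalKrullDim X ≤ d) [DCoh.HasRpush f]
    [DCoh.HasLpull f] (E : DCoh.D X) (K : DCoh.D Y) (hK : DCoh.IsQCohD K) :
    IsIso ((PerfC.LpullTens.theta f E).app K) := by
  refine K175.NoethProj.isIso_app (fun j _ A B => ⟨PerfC.LTXRestr.restrTensObj j A B⟩) f ?_
    (PerfC.LpullTens.theta f E) (fun n => ?_) hK
  · intro V _ _ J
    have hN1 : IsLocallyNoetherian (f ⁻¹ᵁ V).toScheme :=
      isLocallyNoetherian_of_isOpenImmersion (f ⁻¹ᵁ V).ι
    have hN2 : CompactSpace (f ⁻¹ᵁ V).toScheme :=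
      isCompact_iff_compactSpace.1 (TopologicalSpace.NoetherianSpace.isCompact _)
    have hN : AlgebraicGeometry.IsNoetherian (f ⁻¹ᵁ V).toScheme := { }
    have hdim : topologicalKrullDim (f ⁻¹ᵁ V).toScheme ≤ d :=
      ((f ⁻¹ᵁ V).ι.isOpenEmbedding.isInducing.topologicalKrullDim_le).trans hd
    exact K175.NoethPush.preservesCoproducts_Rpush (f ∣_ V) d hdim J
  · have h := PerfC.LpullTens.isIso_theta_shift f E n
    exact (NatTrans.isIso_app_iff_of_iso (PerfC.LpullTens.theta f E) ((shiftFunctor (DCoh.D Y) n).mapIso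
      ((DerivedCategory.singleFunctorIsoCompQ Y.Modules 0).symm.app (Coh.structureModule Y)))).1 h

/-- Let f : X → Y be a morphism of Noetherian schemes of finite Krull dimension (f is then quasi-compact
and quasi-separated), F ∈ D⁻(X) a bounded-above object with arbitrary (not necessarily
quasi-coherent) cohomology, K a bounded-above cochain complex of O_Y-modules whose image in D(O_Y)
has quasi-coherent cohomology, and M a complex of O_X-modules representing Lf^*K. Assuming the
derived functors involved exist, Rf_*(F) ⊗^L K and Rf_*(F ⊗^L M) are isomorphic in D(O_Y). (Only the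
existence of an isomorphism is asserted; the published statement says the canonical projection map
is an isomorphism.) -/
theorem result {X Y : Scheme.{u}} (f : X ⟶ Y)
    [AlgebraicGeometry.IsNoetherian X] [AlgebraicGeometry.IsNoetherian Y]
    (dX dY : ℕ) (hX : topologicalKrullDim X ≤ dX) (hY : topologicalKrullDim Y ≤ dY)
    [QuasiCompact f] [QuasiSeparated f] [DCoh.HasRpush f] [DCoh.HasLpull f]
    (E : DCoh.D X) (a : ℤ) [E.IsLE a] (K : CochainComplex Y.Modules ℤ) (b : ℤ) [(DCoh.toD Y K).IsLE b]
    (hK : DCoh.IsQCohD (DCoh.toD Y K)) [DCoh.HasLTensorCx K]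
    (M : CochainComplex X.Modules ℤ) (hM : Nonempty (DCoh.toD X M ≅ (DCoh.Lpull f).obj (DCoh.toD Y K))) [DCoh.HasLTensorCx M] :
    Nonempty ((DCoh.LTensorCx K).obj ((DCoh.Rpush f).obj E) ≅ (DCoh.Rpush f).obj ((DCoh.LTensorCx M).obj E)) := by
  obtain ⟨eM⟩ := hM
  have h := isIso_theta_app f dX hX E (DCoh.toD Y K) hK
  exact ⟨(PerfC.DTens.LTXcxObj ((DCoh.Rpush f).obj E) K).symm ≪≫
    @asIso _ _ _ _ ((PerfC.LpullTens.theta f E).app (DCoh.toD Y K)) h ≪≫
    (DCoh.Rpush f).mapIso (((PerfC.DTens.LTX X).obj E).mapIso eM.symm ≪≫ PerfC.DTens.LTXcxObj E M)⟩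

end Groth.Agent.S12433
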