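import Groth.Statements.S12434
import Groth.Agent.Coherent.K48.IndecDecomp
import Groth.Agent.Coherent.K48.NoethShriek
import Groth.Agent.Coherent.K48.InjLocal

set_option autoImplicit false
universe u
open CategoryTheory CategoryTheory.Limits AlgebraicGeometry
open Coherent

namespace Groth.Agent.S12434

/-- On a locally Noetherian scheme X every injective O_X-module (injective object of the category of all
O_X-modules) is isomorphic to a direct sum of indecomposable injective O_X-modules — a coproduct of
a family of injective modules J_i, each nonzero and such that in any decomposition J_i ≅ A ⊞ B one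
of A, B is zero. (The published statement also asserts uniqueness of the decomposition, not restated
here.) -/
theorem result {X : Scheme.{u}} [IsLocallyNoetherian X]
    (I : X.Modules) (hI : Injective I) :
    ∃ (ι : Type u) (J : ι → X.Modules), (∀ i, Injective (J i)) ∧ (∀ i, ¬ IsZero (J i)) ∧
      (∀ i (A B : X.Modules), Nonempty (J i ≅ A ⊞ B) → IsZero A ∨ IsZero B) ∧ Nonempty (I ≅ ∐ J) := by
  have := K48.InjLocal.isGrothendieckAbelian X
  have : ∀ U : X.affineOpens, IsNoetherianObject (Groth.Agent.PerfA.ExtZero.OU U.1) :=
    fun U => K48.NoethShriek.isNoetherianObject_OU X U.1 U.2.isCompact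
  obtain ⟨ι, J, h1, h2, h3⟩ := K48.IndecDecomp.exists_decomposition.{u}
    (fun U : X.affineOpens => Groth.Agent.PerfA.ExtZero.OU U.1)
    (fun p _ h => K48.NoethShriek.isIso_of_affine p h) I
  exact ⟨ι, J, h1, fun i => (h2 i).1, fun i => (h2 i).2, h3⟩

end Groth.Agent.S12434
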