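import Groth.Statements.S12436
import Groth.Agent.Surf.K456.Ruled

set_option autoImplicit false
universe u
open CategoryTheory CategoryTheory.Limits AlgebraicGeometry TopologicalSpace
open Surf

namespace Groth.Agent.S12436

open K456.Base K456.IntTwo K456.FibDiv K456.Ruled Groth.Agent.Dix.InterNum
  Groth.Agent.Dix.InterSurf Groth.Agent.Dix.IdealModCartier

/-- Let π : X → C be a ruled surface over an algebraically closed field k — X a surface (integral, of
dimension two, all local rings regular, with a closed immersion into some P^n_k over k), C a curve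
(integral, proper over k, of dimension one, all local rings regular), π a surjective k-morphism with
every closed fibre isomorphic to P^1_k, σ a section — let C₀ = σ(C) with ideal sheaf ker σ, and let
f = π⁻¹(y) be the fibre over a closed point y, with ideal m_y·O_X. Then C₀.f = 1 and f² = 0; in
terms of the intersection number (L·M) = χ(O) − χ(L) − χ(M) + χ(L ⊗ M) of the ideal sheaves,
(I_{C₀}·I_f) = 1 and (I_f·I_f) = 0. -/
theorem result (k : Type u) [Field k] [IsAlgClosed k] (X : Scheme.{u}) [X.Over (Spec (CommRingCat.of k))]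
    [IsIntegral X] (hdim : topologicalKrullDim X = 2) (hreg : ∀ x : X, IsRegularLocalRing (X.presheaf.stalk x))
    (hproj : ∃ (n : ℕ) (ι : X ⟶ CohB1.ProjSpace n k), IsClosedImmersion ι ∧ ι ≫ CohB1.ProjSpace.toSpec n k = (X ↘ (Spec (CommRingCat.of k))))
    (C : Scheme.{u}) [C.Over (Spec (CommRingCat.of k))]
    [IsIntegral C] [IsProper (C ↘ (Spec (CommRingCat.of k)))] (hdimC : topologicalKrullDim C = 1)
    (hregC : ∀ x : C, IsRegularLocalRing (C.presheaf.stalk x))
    (π : X ⟶ C) (hπ : π ≫ (C ↘ (Spec (CommRingCat.of k))) = (X ↘ (Spec (CommRingCat.of k)))) (hsurj : Function.Surjective π)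
    (hfib : ∀ y : C, IsClosed ({y} : Set C) → Nonempty (pullback π (C.fromSpecResidueField y) ≅ CohB1.ProjSpace 1 k))
    (σ : C ⟶ X) (hσ : σ ≫ π = 𝟙 C)
    [HasInjectiveResolutions X.Modules] (y : C) (hy : IsClosed ({y} : Set C)) :
    FGA.intNum k X 2 ![ClSub.idealMod σ.ker, (ClSub.idealMod ((Scheme.IdealSheafData.vanishingIdeal ⟨{y}, hy⟩).comap π))] (Coh.structureModule X) = 1 ∧
      FGA.intNum k X 2 ![(ClSub.idealMod ((Scheme.IdealSheafData.vanishingIdeal ⟨{y}, hy⟩).comap π)), (ClSub.idealMod ((Scheme.IdealSheafData.vanishingIdeal ⟨{y}, hy⟩).comap π))] (Coh.structureModule X) = 0 := by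
  obtain ⟨n, ι, hι, hιf⟩ := hproj
  have hS : IsProper (X ↘ (Spec (CommRingCat.of k))) := by
    rw [← hιf]
    infer_instance
  have hπp : IsProper π := isProper_of_comp k π hπ
  have hCn : IsLocallyNoetherian C :=
    LocallyOfFiniteType.isLocallyNoetherian (C ↘ (Spec (CommRingCat.of k)))
  have hs : Surjective π := ⟨hsurj⟩
  have hdom : IsDominant π := inferInstance
  obtain ⟨e⟩ := pullback_ideal_point π y hdimC hregC hy
  have hI := isInvertible_idealMod (isEff_fiber π y hdimC hregC hy)
  rw [comap_vanishingIdeal]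
  refine ⟨?_, ?_⟩
  · have hσc : IsClosedImmersion σ := by
      have : IsClosedImmersion (σ ≫ π) := by rw [hσ]; infer_instance
      exact IsClosedImmersion.of_comp σ π
    have hσk : σ ≫ (X ↘ (Spec (CommRingCat.of k))) = C ↘ (Spec (CommRingCat.of k)) := by
      rw [← hπ, reassoc_of% hσ]
    rw [intNum_ker k hdim.le σ hσk hI]
    have e2 : (Scheme.Modules.pullback σ).obj (ClSub.idealMod (π.fiberι y).ker) ≅
        ClSub.idealMod (C.fromSpecResidueField y).ker :=
      (Scheme.Modules.pullback σ).mapIso e.symm ≪≫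
        (Scheme.Modules.pullbackComp σ π).app _ ≪≫
        (Scheme.Modules.pullbackCongr hσ).app _ ≪≫ (Scheme.Modules.pullbackId C).app _
    rw [deg_congr k C hdimC e2, deg_point k C hdimC hregC y hy]
    norm_num
  · have hcl : IsClosedImmersion (C.fromSpecResidueField y) :=
      isClosed_singleton_iff_isClosedImmersion.mp hy
    have hfc : IsClosedImmersion (π.fiberι y) :=
      inferInstanceAs (IsClosedImmersion (pullback.fst π (C.fromSpecResidueField y)))
    letI : (π.fiber y).Over (Spec (CommRingCat.of k)) :=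
      ⟨π.fiberι y ≫ (X ↘ (Spec (CommRingCat.of k)))⟩
    rw [intNum_ker k hdim.le (π.fiberι y) rfl hI]
    obtain ⟨e3⟩ := trivial_on_fiber π y (isInvertible_idealMod (isEff_point hdimC hregC y hy))
    have e2 : (Scheme.Modules.pullback (π.fiberι y)).obj (ClSub.idealMod (π.fiberι y).ker) ≅
        Coh.structureModule (π.fiber y) := (Scheme.Modules.pullback _).mapIso e.symm ≪≫ e3
    rw [Curv2.deg, VarietyA.EulerAdd.euler_congr k e2, Nat.cast_one, one_mul, sub_self, neg_zero]

end Groth.Agent.S12436
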