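import Groth.Statements.S12437
import Groth.Agent.Cubic.K655.EsymmB

set_option autoImplicit false
universe u
open Cubic

namespace Groth.Agent.S12437

private lemma esymm_two (k : Type u) [CommRing k] : MvPolynomial.esymm (Fin 5) k 2 =
    MvPolynomial.X 0 * MvPolynomial.X 1 + MvPolynomial.X 0 * MvPolynomial.X 2 +
    MvPolynomial.X 0 * MvPolynomial.X 3 + MvPolynomial.X 0 * MvPolynomial.X 4 +
    MvPolynomial.X 1 * MvPolynomial.X 2 + MvPolynomial.X 1 * MvPolynomial.X 3 +
    MvPolynomial.X 1 * MvPolynomial.X 4 + MvPolynomial.X 2 * MvPolynomial.X 3 +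
    MvPolynomial.X 2 * MvPolynomial.X 4 + MvPolynomial.X 3 * MvPolynomial.X 4 := by
  have h : (Finset.univ : Finset (Fin 5)).powersetCard 2 =
    {{0,1},{0,2},{0,3},{0,4},{1,2},{1,3},{1,4},{2,3},{2,4},{3,4}} := by decide
  rw [MvPolynomial.esymm, h]
  repeat rw [Finset.sum_insert (by decide)]
  rw [Finset.sum_singleton]
  repeat rw [Finset.prod_insert (by decide)]
  simp only [Finset.prod_singleton]
  ring

private lemma esymm_four (k : Type u) [CommRing k] : MvPolynomial.esymm (Fin 5) k 4 =
    MvPolynomial.X 0 * MvPolynomial.X 1 * MvPolynomial.X 2 * MvPolynomial.X 3 +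
    MvPolynomial.X 0 * MvPolynomial.X 1 * MvPolynomial.X 2 * MvPolynomial.X 4 +
    MvPolynomial.X 0 * MvPolynomial.X 1 * MvPolynomial.X 3 * MvPolynomial.X 4 +
    MvPolynomial.X 0 * MvPolynomial.X 2 * MvPolynomial.X 3 * MvPolynomial.X 4 +
    MvPolynomial.X 1 * MvPolynomial.X 2 * MvPolynomial.X 3 * MvPolynomial.X 4 := by
  have h : (Finset.univ : Finset (Fin 5)).powersetCard 4 =
    {{0,1,2,3},{0,1,2,4},{0,1,3,4},{0,2,3,4},{1,2,3,4}} := by decide
  rw [MvPolynomial.esymm, h]
  repeat rw [Finset.sum_insert (by decide)]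
  rw [Finset.sum_singleton]
  repeat rw [Finset.prod_insert (by decide)]
  simp only [Finset.prod_singleton]
  ring

private lemma transport {A B : Type u} [CommRing A] [CommRing B] (e : A →+* B)
    (he : Function.Bijective e) (a b : A)
    (h : (Ideal.span {e a, e b}).radical.IsPrime) : (Ideal.span {a, b}).radical.IsPrime := by
  have hI : Ideal.span ({a, b} : Set A) = Ideal.comap e (Ideal.span {e a, e b}) := by
    have h1 : ({e a, e b} : Set B) = e '' {a, b} := (Set.image_pair e a b).symm
    rw [h1, ← Ideal.map_span, Ideal.comap_map_of_bijective _ he]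
  rw [hI, ← Ideal.comap_radical]
  exact Ideal.comap_isPrime e _

/-- Over an algebraically closed field k of characteristic zero, the closed subscheme V(σ₂, σ₄) of A^5_k
cut out by the elementary symmetric polynomials of degrees 2 and 4 in five variables — the affine
cone over the surface H = V_+(σ₂, σ₄) ⊂ P^4_k — is irreducible: the radical of the ideal (σ₂, σ₄) of
k[X_0, …, X_4] is a prime ideal. -/
theorem result (k : Type u) [Field k] [IsAlgClosed k] [CharZero k] :
    (Ideal.span ({MvPolynomial.esymm (Fin 5) k 2, MvPolynomial.esymm (Fin 5) k 4} :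
      Set (MvPolynomial (Fin 5) k))).radical.IsPrime := by
  let e1' : MvPolynomial (Fin 5) k →+* Polynomial (MvPolynomial (Fin 4) k) :=
    (MvPolynomial.finSuccEquiv k 4 : MvPolynomial (Fin 5) k →+* Polynomial (MvPolynomial (Fin 4) k))
  let e2' : MvPolynomial (Fin 4) k →+* Polynomial (MvPolynomial (Fin 3) k) :=
    (MvPolynomial.finSuccEquiv k 3 : MvPolynomial (Fin 4) k →+* Polynomial (MvPolynomial (Fin 3) k))
  have he1' : Function.Bijective e1' := (MvPolynomial.finSuccEquiv k 4).bijective
  have he2' : Function.Bijective e2' := (MvPolynomial.finSuccEquiv k 3).bijective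
  let e : MvPolynomial (Fin 5) k →+* Polynomial (Polynomial (MvPolynomial (Fin 3) k)) :=
    (Polynomial.mapRingHom e2').comp e1'
  have he : Function.Bijective e := by
    refine (Function.Bijective.comp ?_ he1' : _)
    exact ⟨Polynomial.map_injective _ he2'.1, Polynomial.map_surjective _ he2'.2⟩
  have e0 : e (MvPolynomial.X 0) = Polynomial.X := by
    simp [e, e1', MvPolynomial.finSuccEquiv_X_zero]
  have eS : ∀ i : Fin 4, e (MvPolynomial.X i.succ) =
      Polynomial.C (MvPolynomial.finSuccEquiv k 3 (MvPolynomial.X i)) := by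
    intro i
    simp [e, e1', e2', MvPolynomial.finSuccEquiv_X_succ]
  have e1 : e (MvPolynomial.X 1) = Polynomial.C Polynomial.X := by
    have := eS 0
    rwa [MvPolynomial.finSuccEquiv_X_zero] at this
  have e2 : e (MvPolynomial.X 2) = Polynomial.C (Polynomial.C (MvPolynomial.X 0)) := by
    have := eS (Fin.succ 0)
    rwa [MvPolynomial.finSuccEquiv_X_succ] at this
  have e3 : e (MvPolynomial.X 3) = Polynomial.C (Polynomial.C (MvPolynomial.X 1)) := by
    have := eS (Fin.succ 1)
    rwa [MvPolynomial.finSuccEquiv_X_succ] at this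
  have e4 : e (MvPolynomial.X 4) = Polynomial.C (Polynomial.C (MvPolynomial.X 2)) := by
    have := eS (Fin.succ 2)
    rwa [MvPolynomial.finSuccEquiv_X_succ] at this
  have h2 : e (MvPolynomial.esymm (Fin 5) k 2) =
      Polynomial.C (K655.Esymm.s1 k) * Polynomial.X + Polynomial.C (K655.Esymm.s2 k) := by
    rw [esymm_two]
    simp only [map_add, map_mul, e0, e1, e2, e3, e4, K655.Esymm.s1,
      K655.Esymm.s2, K655.Esymm.e1, K655.Esymm.e2]
    ring
  have h4 : e (MvPolynomial.esymm (Fin 5) k 4) =
      Polynomial.C (K655.Esymm.s3 k) * Polynomial.X + Polynomial.C (K655.Esymm.s4 k) := by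
    rw [esymm_four]
    simp only [map_add, map_mul, e0, e1, e2, e3, e4, K655.Esymm.s3,
      K655.Esymm.s4, K655.Esymm.e3, K655.Esymm.e2]
    ring
  refine @transport (MvPolynomial (Fin 5) k) (Polynomial (Polynomial (MvPolynomial (Fin 3) k)))
    _ _ e he _ _ ?_
  rw [h2, h4]
  exact K655.Esymm.isPrime_radical_I k

end Groth.Agent.S12437
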