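import Groth.Statements.S12438
import Groth.Agent.AGF.K499.WtSch

set_option autoImplicit false
universe u
open CategoryTheory MonoidalCategory CartesianMonoidalCategory MonObj GrpObj AlgebraicGeometry
open scoped TensorProduct
open AGF

namespace Groth.Agent.S12438

/-- Let k be an algebraically closed field of characteristic zero, G a connected reductive linear
algebraic group over k, B a Borel subgroup with unipotent radical U, T a maximal torus of G inside
B, and ω, ω′ characters of T. Write E(ω) for the space of global functions f on G with f(x·u) = f(x)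
for u in U and f(x·t) = ω(t)·f(x) for t in T, and assume E(ω) and E(ω′) are nonzero (equivalently ω
and ω′ are dominant). Then the multiplication map E(ω) ⊗ E(ω′) → E(ω + ω′) is surjective: every
function in the weight space of the product character ω·ω′ is a finite sum of products a·b with a ∈
E(ω) and b ∈ E(ω′). -/
theorem result (k : Type u) [Field k] [IsAlgClosed k] [CharZero k]
    (G : Over (Spec (CommRingCat.of k))) [GrpObj G] (hG : Red.IsReductiveOver k G)
    (Bo : Over (Spec (CommRingCat.of k))) [GrpObj Bo] (iB : Bo ⟶ G) (hB : Red.IsBorelOver k iB)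
    (U : Over (Spec (CommRingCat.of k))) [GrpObj U] (u : U ⟶ Bo) (hU : Par.IsUnipotentRadical u)
    (T : Over (Spec (CommRingCat.of k))) [GrpObj T] (t : T ⟶ Bo) [IsMonHom t] (hT : AGF.IsMaxTorus (t ≫ iB))
    (ω ω' : T ⟶ Red.Gm (Spec (CommRingCat.of k))) [IsMonHom ω] [IsMonHom ω']
    (hω : ∃ a : Γ(G.left, ⊤), a ≠ 0 ∧ (((G ◁ (u ≫ iB)) ≫ μ[G]).left.appTop a = (fst G U).left.appTop a ∧
        ((G ◁ (t ≫ iB)) ≫ μ[G]).left.appTop a = (fst G T).left.appTop a * (snd G T).left.appTop (Red.gmFn ω)))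
    (hω' : ∃ b : Γ(G.left, ⊤), b ≠ 0 ∧ (((G ◁ (u ≫ iB)) ≫ μ[G]).left.appTop b = (fst G U).left.appTop b ∧
        ((G ◁ (t ≫ iB)) ≫ μ[G]).left.appTop b = (fst G T).left.appTop b * (snd G T).left.appTop (Red.gmFn ω')))
    (f : Γ(G.left, ⊤)) (hf : (((G ◁ (u ≫ iB)) ≫ μ[G]).left.appTop f = (fst G U).left.appTop f ∧
        ((G ◁ (t ≫ iB)) ≫ μ[G]).left.appTop f = (fst G T).left.appTop f * (snd G T).left.appTop (Red.gmFn ω * Red.gmFn ω'))) :
    ∃ s : Finset (Γ(G.left, ⊤) × Γ(G.left, ⊤)),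
      (∀ p ∈ s, (((G ◁ (u ≫ iB)) ≫ μ[G]).left.appTop p.1 = (fst G U).left.appTop p.1 ∧
        ((G ◁ (t ≫ iB)) ≫ μ[G]).left.appTop p.1 = (fst G T).left.appTop p.1 * (snd G T).left.appTop (Red.gmFn ω)) ∧ (((G ◁ (u ≫ iB)) ≫ μ[G]).left.appTop p.2 = (fst G U).left.appTop p.2 ∧
        ((G ◁ (t ≫ iB)) ≫ μ[G]).left.appTop p.2 = (fst G T).left.appTop p.2 * (snd G T).left.appTop (Red.gmFn ω'))) ∧
      f = ∑ p ∈ s, p.1 * p.2 := by
  classical
  have hGa : IsAffine G.left := hG.1
  have hGs : Smooth G.hom := hG.2.1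
  obtain ⟨A, _, _, e, he, hft, hdom, hred⟩ :=
    Groth.Agent.Sga3B.RG.BrHc.exists_hopf_of_isReductiveOver G hG
  have hBm : IsMonHom iB := hB.1
  have hBc : IsClosedImmersion iB.left := hB.2.1
  have hBs : Smooth Bo.hom := hB.2.2.1
  have hTm : IsMonHom (t ≫ iB) := hT.1
  have hTmono : Mono (t ≫ iB) := hT.2.1
  have hTt : Red.IsTorus T := hT.2.2.1
  have hTc : IsClosedImmersion (t ≫ iB).left :=
    Groth.Agent.Agf.H614.AlgDict.isClosedImmersion_of_isTorus e (t ≫ iB) hTt
  have hTa : IsAffine T.left := isAffine_of_isAffineHom (t ≫ iB).left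
  have hTs : Smooth T.hom := Groth.Agent.Sga3B.TorusAlgClosed.smooth_of_isTorus hTt
  have hBpt : Groth.Agent.Sga3B.Parab.BorelPts172.IsBorelPt (K495.Bridge.psub e iB) := by
    rw [K496.URDict.psub_eq_ptsSub]
    exact Groth.Agent.Agf.H614.AlgDict.isBorelPt e hB
  have hTpt : Groth.Agent.Sga3B.RG.IsMaxTorusSub (K495.Bridge.psub e (t ≫ iB)) := by
    rw [K496.URDict.psub_eq_ptsSub]
    exact Groth.Agent.Agf.H614.AlgDict.isMaxTorusSub e hT
  have hdec := K499.WtPt.dec_of_isBorelPt hBpt hTpt (K495.Bridge.psub_comp_le e iB t)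
  have hlr := K798.LinRed.isLinearlyReductive hred
  have key := K499.WtSch.mem_Wt_iff e (t ≫ iB) hB hU
  have hne : ∀ w : Γ(T.left, ⊤), (∃ a : Γ(G.left, ⊤), a ≠ 0 ∧
      (((G ◁ (u ≫ iB)) ≫ μ[G]).left.appTop a = (fst G U).left.appTop a ∧
        ((G ◁ (t ≫ iB)) ≫ μ[G]).left.appTop a = (fst G T).left.appTop a *
          (snd G T).left.appTop w)) →
      K499.WtPt.Wt (K495.Bridge.psub e iB) (K495.Bridge.psub e (t ≫ iB))
        (K499.WtSch.chiPt e (t ≫ iB) w) ≠ ⊥ := by
    rintro w ⟨a, ha0, ha⟩ h0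
    have h1 := (key a w).1 ha
    rw [h0, Submodule.mem_bot] at h1
    exact ha0 ((K495.Bridge.fn e).injective (h1.trans (map_zero _).symm))
  have hf' := (key f _).1 hf
  rw [K499.WtSch.chiPt_mul] at hf'
  obtain ⟨s, α, h1, h2, h3, h4⟩ := K499.WtPt.exists_sum _ _
    (K499.WtPt.mem_span_mul hlr hBpt hdec (hne _ hω) (hne _ hω') hf')
  refine ⟨s.image fun b => ((K495.Bridge.fn e).symm (α b), (K495.Bridge.fn e).symm b), ?_, ?_⟩
  · intro p hp
    obtain ⟨b, hb, rfl⟩ := Finset.mem_image.1 hp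
    constructor
    · rw [key, RingEquiv.apply_symm_apply]
      exact h2 b
    · rw [key, RingEquiv.apply_symm_apply]
      exact h1 b hb
  · rw [Finset.sum_image (fun b _ b' _ h => (K495.Bridge.fn e).symm.injective
      (congrArg Prod.snd h))]
    apply (K495.Bridge.fn e).injective
    rw [h4, map_sum]
    refine Finset.sum_congr rfl fun b _ => ?_
    rw [map_mul, RingEquiv.apply_symm_apply, RingEquiv.apply_symm_apply]

end Groth.Agent.S12438
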