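import Groth.Statements.S12444
import Groth.Agent.PtTop.K417.CatOrder

set_option autoImplicit false
universe u
open PtTop

namespace Groth.Agent.S12444

open K417.CatOrder TopologicalSpace

variable {X : Type u} [TopologicalSpace X]

/-- The closure embedding. -/
def j (S : Set X) : IrreducibleCloseds S ↪o IrreducibleCloseds X where
  toFun Z := ⟨closure (Subtype.val '' (Z : Set S)),
    (Z.isIrreducible.image _ continuous_subtype_val.continuousOn).closure, isClosed_closure⟩
  inj' := by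
    intro Z Z' h
    have h1 : closure (Subtype.val '' (Z : Set S)) = closure (Subtype.val '' (Z' : Set S)) :=
      congrArg (fun W : IrreducibleCloseds X => (W : Set X)) h
    apply IrreducibleCloseds.ext
    change (Z : Set S) = Z'
    rw [← Z.isClosed.closure_eq, ← Z'.isClosed.closure_eq,
      Topology.IsInducing.subtypeVal.closure_eq_preimage_closure_image, h1,
      ← Topology.IsInducing.subtypeVal.closure_eq_preimage_closure_image]
  map_rel_iff' := by
    intro Z Z'
    constructor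
    · intro h
      have h1 : closure (Subtype.val '' (Z : Set S)) ⊆ closure (Subtype.val '' (Z' : Set S)) := h
      change (Z : Set S) ⊆ Z'
      rw [← Z.isClosed.closure_eq, ← Z'.isClosed.closure_eq,
        Topology.IsInducing.subtypeVal.closure_eq_preimage_closure_image,
        Topology.IsInducing.subtypeVal.closure_eq_preimage_closure_image]
      exact Set.preimage_mono h1
    · intro h
      change closure (Subtype.val '' (Z : Set S)) ⊆ closure (Subtype.val '' (Z' : Set S))
      exact closure_mono (Set.image_mono h)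

lemma mem_range {S : Set X} (hS : IsLocallyClosed S) (A B : IrreducibleCloseds S)
    (W : IrreducibleCloseds X) (h1 : j S A ≤ W) (h2 : W ≤ j S B) : W ∈ Set.range (j S) := by
  obtain ⟨U, C, hU, hC, rfl⟩ := hS
  have hWC : (W : Set X) ⊆ C := by
    refine (show (W : Set X) ⊆ closure _ from h2).trans (closure_minimal ?_ hC)
    rintro _ ⟨x, -, rfl⟩
    exact x.2.2
  obtain ⟨a, ha⟩ := A.isIrreducible.nonempty
  have h1' : closure (Subtype.val '' (A : Set ↥(U ∩ C))) ⊆ (W : Set X) := h1
  have haW : (a : X) ∈ (W : Set X) := h1' (subset_closure ⟨a, ha, rfl⟩)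
  have hirr : IsIrreducible ((Subtype.val : ↥(U ∩ C) → X) ⁻¹' W) := by
    refine ⟨⟨a, haW⟩, ?_⟩
    rintro V1 V2 hV1 hV2 ⟨x, hxW, hxV⟩ ⟨y, hyW, hyV⟩
    obtain ⟨O1, hO1, rfl⟩ := isOpen_induced_iff.mp hV1
    obtain ⟨O2, hO2, rfl⟩ := isOpen_induced_iff.mp hV2
    obtain ⟨z, hzW, ⟨hz1, hzU⟩, hz2, -⟩ := W.isIrreducible.isPreirreducible (O1 ∩ U) (O2 ∩ U)
      (hO1.inter hU) (hO2.inter hU) ⟨x, hxW, hxV, x.2.1⟩ ⟨y, hyW, hyV, y.2.1⟩
    exact ⟨⟨z, hzU, hWC hzW⟩, hzW, hz1, hz2⟩
  refine ⟨⟨_, hirr, W.isClosed.preimage continuous_subtype_val⟩, ?_⟩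
  apply IrreducibleCloseds.ext
  change closure (Subtype.val '' ((Subtype.val : ↥(U ∩ C) → X) ⁻¹' W)) = (W : Set X)
  rw [Subtype.image_preimage_coe]
  have h3 : (U ∩ C) ∩ (W : Set X) = (W : Set X) ∩ U := by
    ext x
    constructor
    · rintro ⟨⟨h1, -⟩, h2⟩; exact ⟨h2, h1⟩
    · rintro ⟨h1, h2⟩; exact ⟨⟨h2, hWC h1⟩, h1⟩
  rw [h3]
  apply subset_antisymm
  · exact closure_minimal Set.inter_subset_left W.isClosed
  · exact subset_closure_inter_of_isPreirreducible_of_isOpen W.isIrreducible.isPreirreducible hU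
      ⟨a, haW, a.2.1⟩

/-- A topological space X is catenary if and only if it has an open covering by catenary subspaces
(here: every point has a catenary open neighbourhood); and if X is catenary then so is every locally
closed subspace of X. -/
theorem result (X : Type u) [TopologicalSpace X] :
    (PtTop.IsCatenarySpace X ↔
      ∀ x : X, ∃ U : TopologicalSpace.Opens X, x ∈ U ∧ PtTop.IsCatenarySpace U) ∧
    (PtTop.IsCatenarySpace X → ∀ S : Set X, IsLocallyClosed S → PtTop.IsCatenarySpace S) := by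
  have hlc : PtTop.IsCatenarySpace X → ∀ S : Set X, IsLocallyClosed S → PtTop.IsCatenarySpace S := by
    intro hX S hS T T' hTT'
    exact (catAt_iff_of_embedding (j S) (fun w h1 h2 => mem_range hS T T' w h1 h2)).mp
      (hX _ _ ((j S).monotone hTT'))
  refine ⟨⟨fun h x => ⟨⊤, trivial, hlc h _ (isOpen_univ.isLocallyClosed)⟩, ?_⟩, hlc⟩
  intro h T T' hTT'
  obtain ⟨x, hx⟩ := T.isIrreducible.nonempty
  obtain ⟨U, hxU, hU⟩ := h x
  have hpre : ∀ W : IrreducibleCloseds X, x ∈ (W : Set X) →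
      ∃ W' : IrreducibleCloseds (U : Set X), j (U : Set X) W' = W := by
    intro W hxW
    have hirr : IsIrreducible ((Subtype.val : ↥(U : Set X) → X) ⁻¹' W) := by
      refine ⟨⟨⟨x, hxU⟩, hxW⟩, ?_⟩
      rintro V1 V2 hV1 hV2 ⟨a, haW, haV⟩ ⟨b, hbW, hbV⟩
      obtain ⟨O1, hO1, rfl⟩ := isOpen_induced_iff.mp hV1
      obtain ⟨O2, hO2, rfl⟩ := isOpen_induced_iff.mp hV2
      obtain ⟨z, hzW, ⟨hz1, hzU⟩, hz2, -⟩ := W.isIrreducible.isPreirreducible (O1 ∩ U) (O2 ∩ U)
        (hO1.inter U.2) (hO2.inter U.2) ⟨a, haW, haV, a.2⟩ ⟨b, hbW, hbV, b.2⟩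
      exact ⟨⟨z, hzU⟩, hzW, hz1, hz2⟩
    refine ⟨⟨_, hirr, W.isClosed.preimage continuous_subtype_val⟩, ?_⟩
    apply IrreducibleCloseds.ext
    change closure (Subtype.val '' ((Subtype.val : ↥(U : Set X) → X) ⁻¹' W)) = (W : Set X)
    rw [Subtype.image_preimage_coe, Set.inter_comm]
    apply subset_antisymm
    · exact closure_minimal Set.inter_subset_left W.isClosed
    · exact subset_closure_inter_of_isPreirreducible_of_isOpen W.isIrreducible.isPreirreducible U.2
        ⟨x, hxW, hxU⟩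
  obtain ⟨A, rfl⟩ := hpre T hx
  obtain ⟨B, rfl⟩ := hpre T' (hTT' hx)
  refine (catAt_iff_of_embedding (j (U : Set X)) (fun w h1 h2 => hpre w (h1 hx))).mpr ?_
  exact hU A B ((j (U : Set X)).le_iff_le.mp hTT')

end Groth.Agent.S12444
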