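import Groth.Statements.S12447
import Groth.Agent.Props.K593.CatScheme
import Groth.Agent.Props.K593.DimFun

set_option autoImplicit false
universe u
open CategoryTheory AlgebraicGeometry
open Props

namespace Groth.Agent.S12447

/-- Let S be a locally Noetherian scheme. Then the underlying topological space of S is catenary if and
only if locally in the Zariski topology there is a dimension function, i.e. every point has an open
neighbourhood U carrying a function δ : U → ℤ which strictly decreases along nontrivial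
specializations and drops by exactly one along immediate specializations. -/
theorem result (S : Scheme.{u}) [IsLocallyNoetherian S] :
    PtTop.IsCatenarySpace S ↔
      ∀ s : S, ∃ U : S.Opens, s ∈ U ∧ ∃ δ : U → ℤ, PtTop.IsDimensionFunction δ := by
  constructor
  · intro h s
    obtain ⟨U, hU, hs, -⟩ := exists_isAffineOpen_mem_and_subset (X := S) (x := s) (U := ⊤) trivial
    have hcat : PtTop.IsCatenarySpace (U : Scheme.{u}) :=
      Groth.Agent.Props.K593.CatScheme.isCatenarySpace_of_isOpenImmersion U.ι h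
    have : IsAffine (U : Scheme.{u}) := hU
    have : CompactSpace (U : Scheme.{u}) := inferInstance
    have : IsLocallyNoetherian (U : Scheme.{u}) := isLocallyNoetherian_of_isOpenImmersion U.ι
    have : IsNoetherian (U : Scheme.{u}) := {}
    obtain ⟨V, hV, hsV, δ, h1, h2⟩ :=
      Groth.Agent.Props.K593.DimFun.exists_isDimensionFunction hcat ⟨s, hs⟩
    have hVo : IsOpen ((Subtype.val : U → S) '' V) :=
      U.2.isOpenEmbedding_subtypeVal.isOpenMap _ hV
    have hmem : ∀ y : ((⟨_, hVo⟩ : S.Opens) : Set S), y.1 ∈ U := by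
      rintro ⟨_, y, hy, rfl⟩
      exact y.2
    have hmemV : ∀ y : ((⟨_, hVo⟩ : S.Opens) : Set S), (⟨y.1, hmem y⟩ : U) ∈ V := by
      rintro ⟨_, y, hy, rfl⟩
      exact hy
    have hsp : ∀ y z : ((⟨_, hVo⟩ : S.Opens) : Set S), y ⤳ z ↔
        (⟨y.1, hmem y⟩ : U) ⤳ (⟨z.1, hmem z⟩ : U) := by
      intro y z
      rw [← Topology.IsInducing.subtypeVal.specializes_iff,
        ← (Topology.IsInducing.subtypeVal (t := (U : Set S))).specializes_iff]
    have hinj : ∀ y z : ((⟨_, hVo⟩ : S.Opens) : Set S), (⟨y.1, hmem y⟩ : U) = ⟨z.1, hmem z⟩ →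
        y = z := by
      intro y z he
      exact Subtype.ext (congrArg (Subtype.val (p := fun a => a ∈ U)) he)
    refine ⟨⟨_, hVo⟩, ⟨⟨s, hs⟩, hsV, rfl⟩, fun y => δ ⟨y.1, hmem y⟩, ?_, ?_⟩
    · intro y z hyz hne
      exact h1 _ _ (hmemV z) ((hsp y z).mp hyz) fun he => hne (hinj y z he)
    · intro y z hyz
      refine h2 _ _ (hmemV z) ⟨(hsp y z).mp hyz.1, fun he => hyz.2.1 (hinj y z he),
        fun w hw1 hw2 => ?_⟩
      have hwV : w ∈ V := hw2.mem_open hV (hmemV z)
      let w' : ((⟨_, hVo⟩ : S.Opens) : Set S) := ⟨w.1, w, hwV, rfl⟩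
      rcases hyz.2.2 w' ((hsp y w').mpr hw1) ((hsp w' z).mpr hw2) with he | he
      · left
        have e : w.1 = y.1 := congrArg (fun a => a.1) he
        exact Subtype.ext e
      · right
        have e : w.1 = z.1 := congrArg (fun a => a.1) he
        exact Subtype.ext e
  · intro h
    rw [Groth.Agent.Props.K593.CatSpace.isCatenarySpace_iff_cl]
    intro x
    obtain ⟨U, hxU, δ, hδ⟩ := h x
    exact Groth.Agent.Props.K593.DimFun.cat_Ici_of_isDimensionFunction (U : Set S) U.2 δ hδ x hxU

end Groth.Agent.S12447
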