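import Groth.Statements.S12456
-- import your own Groth.Agent.* helpers here
import Groth.Agent.S1434
import Groth.Agent.CohqB.QAffThick

set_option autoImplicit false
universe u
open CategoryTheory AlgebraicGeometry
open OmegaSh

namespace Groth.Agent.S12456

theorem inclusion_thick {X : Scheme.{u}} (I : X.IdealSheafData) (h : I ^ 2 ≤ I) :
    MoreMor.IsFirstOrderThickening (Scheme.IdealSheafData.inclusion h) := by
  refine ⟨⟨?_, ⟨fun y ↦ ?_⟩⟩, ?_⟩
  · have : IsClosedImmersion (Scheme.IdealSheafData.inclusion h ≫ (I ^ 2).subschemeι) := by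
      rw [Scheme.IdealSheafData.inclusion_subschemeι]
      infer_instance
    exact IsClosedImmersion.of_comp_isClosedImmersion _ (I ^ 2).subschemeι
  · have hy : (I ^ 2).subschemeι y ∈ Set.range I.subschemeι := by
      rw [Scheme.IdealSheafData.range_subschemeι, ← Scheme.IdealSheafData.support_pow I 2 two_ne_zero,
        ← Scheme.IdealSheafData.range_subschemeι]
      exact ⟨y, rfl⟩
    obtain ⟨z, hz⟩ := hy
    refine ⟨z, ?_⟩
    apply (I ^ 2).subschemeι.isEmbedding.injective
    rw [← Scheme.Hom.comp_apply, Scheme.IdealSheafData.inclusion_subschemeι]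
    exact hz
  · ext V : 2
    rw [Scheme.IdealSheafData.ideal_mul, Pi.mul_apply, Scheme.IdealSheafData.ideal_bot, Pi.bot_apply,
      eq_bot_iff, Ideal.mul_le]
    intro x hx y hy
    have : QuasiCompact (Scheme.IdealSheafData.inclusion h) := by
      have : QuasiCompact (Scheme.IdealSheafData.inclusion h ≫ (I ^ 2).subschemeι) := by
        rw [Scheme.IdealSheafData.inclusion_subschemeι]
        infer_instance
      exact QuasiCompact.of_comp _ (I ^ 2).subschemeι
    rw [Scheme.Hom.ker_apply, RingHom.mem_ker] at hx hy
    exact Groth.Agent.CohqB.QAffThick.inclusion_sq I h V.1 x y hx hy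

/-- Let i : Z → X be an immersion, written as the closed subscheme of an open U ⊆ X cut out by an ideal
sheaf I followed by the inclusion of U. Then the first order infinitesimal neighbourhood of Z in X —
the closed subscheme of U cut out by I² — together with Z ⊂ V(I²) and V(I²) → U → X is a universal
first order thickening of Z over X. (The inequality I² ≤ I is carried as an argument h; it always
holds.) -/
theorem result {X : Scheme.{u}} (U : X.Opens) (I : (U : Scheme.{u}).IdealSheafData)
    (h : I ^ 2 ≤ I) :
    OmegaSh.IsUnivThickening (I.subschemeι ≫ U.ι) (Scheme.IdealSheafData.inclusion h)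
      ((I ^ 2).subschemeι ≫ U.ι) := by
  refine ⟨inclusion_thick I h, ?_, ?_⟩
  · rw [← Category.assoc, Scheme.IdealSheafData.inclusion_subschemeι]
  · intro T T' j b a hj w
    have hsurj : Surjective j := hj.1.2
    have hrange : Set.range b ⊆ Set.range U.ι := by
      rintro _ ⟨t, rfl⟩
      obtain ⟨s, rfl⟩ := hsurj.surj t
      rw [← Scheme.Hom.comp_apply, w, ← Category.assoc, Scheme.Hom.comp_apply]
      exact ⟨_, rfl⟩
    obtain ⟨b', hb'⟩ : ∃ b' : T' ⟶ (U : Scheme.{u}), b' ≫ U.ι = b :=
      ⟨IsOpenImmersion.lift U.ι b hrange, IsOpenImmersion.lift_fac _ _ _⟩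
    subst hb'
    have w' : a ≫ I.subschemeι = j ≫ b' := by
      rw [← cancel_mono U.ι, Category.assoc, Category.assoc, w]
    obtain ⟨a', ha', hu⟩ := Groth.Agent.S1434.result I j hj a b' w'
    refine ⟨a', ⟨?_, ?_⟩, ?_⟩
    · rw [← cancel_mono (I ^ 2).subschemeι, Category.assoc, Category.assoc, ha',
        Scheme.IdealSheafData.inclusion_subschemeι, w']
    · rw [← Category.assoc, ha']
    · rintro a'' ⟨-, h2⟩
      apply hu
      rw [← cancel_mono U.ι, Category.assoc, h2]

end Groth.Agent.S12456
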