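import Groth.Statements.S12457
import Groth.Agent.Resolve.K373.ExcSym
import Groth.Agent.Resolve.K373.P1Sec

set_option autoImplicit false
universe u
open CategoryTheory CategoryTheory.Limits AlgebraicGeometry
open Resolve

namespace Groth.Agent.S12457

open K373 K373.ExcRel Groth.Agent.Fdesc.LocGen


/-- Let X be a Noetherian scheme and ι : E → X a closed immersion which is an exceptional curve of the
first kind, with ideal I, and let E_n ⊂ X be the closed subscheme cut out by I^n. Then the limit A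
of the rings Γ(E_n, O_{E_n}) is a complete regular local Noetherian ring of dimension 2 and the
kernel of A → Γ(E_n, O_{E_n}) is the n-th power of its maximal ideal. Stated as: there exist such a
ring A and compatible surjections A → Γ(E_n, O_{E_n}) with kernels m_A^n (this determines A as the
limit). (The inequalities I^{n+2} ≤ I^{n+1} are carried as an argument hle; they always hold.) -/
theorem result {E X : Scheme.{u}} [IsNoetherian X] (ι : E ⟶ X) [IsClosedImmersion ι]
    (hE : Models.IsExcCurve ι) (hle : ∀ n : ℕ, ι.ker ^ (n + 2) ≤ ι.ker ^ (n + 1)) :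
    ∃ (A : Type u) (_ : CommRing A) (_ : IsRegularLocalRing A),
      IsAdicComplete (IsLocalRing.maximalIdeal A) A ∧ ringKrullDim A = 2 ∧
      ∃ φ : ∀ n : ℕ, A →+* Γ((ι.ker ^ (n + 1)).subscheme, ⊤),
        (∀ n, Function.Surjective (φ n)) ∧
        (∀ n, RingHom.ker (φ n) = IsLocalRing.maximalIdeal A ^ (n + 1)) ∧
        ∀ n, ((Scheme.IdealSheafData.inclusion (hle n)).appTop.hom).comp (φ (n + 1)) = φ n := by
  obtain ⟨hEff, k, _, e, ⟨ψ⟩⟩ := hE
  have hker : (e.hom ≫ ι).ker = ι.ker := Scheme.Hom.ker_comp_of_isIso _ _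
  have hcl : IsClosedImmersion (e.hom ≫ ι) := inferInstance
  have hemb := (e.hom ≫ ι).isClosedEmbedding
  -- opens of `X` with prescribed trace
  have hopen : ∀ W : (CohB1.ProjSpace 1 k).Opens, ∃ U : X.Opens, (e.hom ≫ ι) ⁻¹ᵁ U = W := by
    intro W
    obtain ⟨U, hU, hUW⟩ := hemb.isInducing.isOpen_iff.1 W.2
    exact ⟨⟨U, hU⟩, TopologicalSpace.Opens.ext hUW⟩
  obtain ⟨U₀, hU₀⟩ := hopen (CohB1.genLocus _ (homOf (P1Sec.T ψ 0)))
  obtain ⟨U₁, hU₁⟩ := hopen (CohB1.genLocus _ (homOf (P1Sec.T ψ 1)))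
  have hr : ∀ n, Function.Surjective (ExcLim.tr hle n) := fun n =>
    ExcLim.rr_surjective hker hEff (hle n) U₀ U₁ (hU₀ ▸ P1Sec.isAffineOpen_genLocus ψ 0)
      (hU₁ ▸ P1Sec.isAffineOpen_genLocus ψ 1) (by rw [hU₀, hU₁]; exact P1Sec.genLocus_sup ψ)
      (P1Sec.subsingleton_H1 ψ (n + 1))
  obtain ⟨A, hA1, hA2, hc, hd, φ, h1, h2, h3⟩ := ExcLim.limit_main hker hEff hr (P1Sec.T ψ 0) (P1Sec.T ψ 1)
    (fun n g => P1Sec.exists_comb ψ n g)
    (fun n σ h => P1Sec.eq_zero_of_tmul ψ (isInvertible_tensorPow (P1Sec.isInvertible ψ) n) 0 σ h)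
    (fun n α => P1Sec.pow_ne ψ n α) (ExcLim.isField_zero hker (Groth.Agent.Dix.Cast2.wp2_isField k))
  refine ⟨A, hA1, hA2, hc, hd, φ, h1, h2, fun n => ?_⟩
  have h4 : (Scheme.IdealSheafData.inclusion (hle n)).appTop.hom = ExcLim.tr hle n :=
    congrArg CommRingCat.Hom.hom (Scheme.Hom.app_eq_appLE (Scheme.IdealSheafData.inclusion (hle n)) (U := ⊤))
  rw [h4]
  exact h3 n

end Groth.Agent.S12457
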