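import Groth.Statements.S12463
import Groth.Agent.Variety.K428.Wedge

set_option autoImplicit false
universe u
open Variety

namespace Groth.Agent.S12463

/-- Let (A, m) be a strictly henselian reduced Nagata local ring of dimension one with δ-invariant equal
to the number of geometric branches minus one, and A' the integral closure of A in its total ring of
fractions. Then A is a wedge of discrete valuation rings: for every maximal ideal m' of A' the
localization A'_{m'} is a discrete valuation ring whose residue field is the image of A, and A
consists exactly of the elements of A' congruent to an element of A modulo every maximal ideal of A'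
(the displayed inclusion; the reverse inclusion is trivial). (The inequality δ ≥ branches − 1 of the
published statement holds for every reduced Nagata local ring of dimension one and is not restated.) -/
theorem result (A : Type u) [CommRing A] [HenselianLocalRing A]
    [IsSepClosed (IsLocalRing.ResidueField A)] [IsReduced A] (hN : CAlg.IsNagata A) (hdim : ringKrullDim A = 1)
    (heq : Curv2.deltaInv A + 1 = Brnch.numGeomBranches A) :
    (∀ m' : MaximalSpectrum ↥(integralClosure A (FractionRing A)),
        (∃ _ : IsDomain (Localization.AtPrime m'.asIdeal), IsDiscreteValuationRing (Localization.AtPrime m'.asIdeal)) ∧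
        Function.Surjective (⇑(IsLocalRing.residue (Localization.AtPrime m'.asIdeal)) ∘
          ⇑(algebraMap ↥(integralClosure A (FractionRing A)) (Localization.AtPrime m'.asIdeal)) ∘
          ⇑(algebraMap A ↥(integralClosure A (FractionRing A))))) ∧
    ∀ a' : ↥(integralClosure A (FractionRing A)),
      (∃ a : A, ∀ m' : MaximalSpectrum ↥(integralClosure A (FractionRing A)),
          a' - algebraMap A _ a ∈ m'.asIdeal) →
      a' ∈ (algebraMap A ↥(integralClosure A (FractionRing A))).range := by
  have hNoeth : IsNoetherianRing A := hN.1
  have hfin : Module.Finite A (integralClosure A (FractionRing A)) := K421.NormCl.finite_cl A hN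
  have hms : Finite (MaximalSpectrum (K421.NormCl.Cl A)) :=
    K421.DeltaBranch.finite_maximalSpectrum A (K421.NormCl.Cl A)
  have hfms : Fintype (MaximalSpectrum (K421.NormCl.Cl A)) := Fintype.ofFinite _
  have h1 := K428.Wedge.numGeomBranches_le A hN
  rw [← heq, ENat.card_eq_coe_fintype_card] at h1
  have h2 := K428.Wedge.main A (K421.NormCl.Cl A) (fun m => by
    have := m.isMaximal
    exact K421.NormCl.comap_eq_maximalIdeal A m.asIdeal) h1
  refine ⟨fun m' => ⟨?_, ?_⟩, h2.2⟩
  · have := m'.isMaximal
    exact K421.NormCl.isDiscreteValuationRing_cl A hdim m'.asIdeal
  · intro x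
    have := m'.isMaximal
    obtain ⟨y, hy⟩ := (Ideal.bijective_algebraMap_quotient_residueField m'.asIdeal).2 x
    obtain ⟨a, ha⟩ := h2.1 m' y
    refine ⟨a, ?_⟩
    rw [← hy, ← ha]
    rfl

end Groth.Agent.S12463
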