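import Groth.Statements.S12477
import Groth.Agent.EGA2.K43.VABackward
import Groth.Agent.EGA2.K43.VACoprod

set_option autoImplicit false
universe u
open CategoryTheory CategoryTheory.Limits AlgebraicGeometry TopologicalSpace Opposite
open scoped HomogeneousIdeal
open EGA2

namespace Groth.Agent.S12477

/-- Let X and X' be schemes with disjoint union X ⨿ X', let f'' : X ⨿ X' → Y be a morphism (given by a
morphism f on X and a morphism f' on X') and L'' an invertible module on X ⨿ X' (given by an
invertible O_X-module L and an invertible O_{X'}-module L'). Then L'' is very ample relative to f''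
(isomorphic to the inverse image of O(1) along a Y-immersion of X into the projective bundle P(E) of
a quasi-coherent O_Y-module E) if and only if L, the inverse image of L'' on X, is very ample
relative to f and L', the inverse image of L'' on X', is very ample relative to f'. -/
theorem result {X X' Y : Scheme.{u}} (f'' : X ⨿ X' ⟶ Y) (L'' : (X ⨿ X').Modules)
    (hL'' : PicF.IsInvertible L'') :
    RelProj.IsRelVeryAmple f'' L'' ↔
      RelProj.IsRelVeryAmple (coprod.inl ≫ f'') ((Scheme.Modules.pullback (coprod.inl : X ⟶ X ⨿ X')).obj L'') ∧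
        RelProj.IsRelVeryAmple (coprod.inr ≫ f'') ((Scheme.Modules.pullback (coprod.inr : X' ⟶ X ⨿ X')).obj L'') := by
  have hM := fun U => K43.VAForward.locGen_of_isInvertible hL'' U
  constructor
  · intro h
    obtain ⟨E, hE, φ, hφ⟩ := K43.VAForward.exists_va h
    exact ⟨K43.VABackward.isRelVeryAmple_of_va _ (Groth.Agent.Fdesc.LocGen.isInvertible_pullback _ hL'') hE _
        (K43.VAImm.va_pullHom _ f'' _ rfl φ (𝟙 _) hM hφ),
      K43.VABackward.isRelVeryAmple_of_va _ (Groth.Agent.Fdesc.LocGen.isInvertible_pullback _ hL'') hE _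
        (K43.VAImm.va_pullHom _ f'' _ rfl φ (𝟙 _) hM hφ)⟩
  · rintro ⟨h, h'⟩
    obtain ⟨E, hE, φ, hφ⟩ := K43.VACoprod.exists_va_coprod f'' hM (K43.VAForward.exists_va h)
      (K43.VAForward.exists_va h')
    exact K43.VABackward.isRelVeryAmple_of_va _ hL'' hE φ hφ

end Groth.Agent.S12477
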