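import Groth.Statements.S12479
import Groth.Agent.EGA2.K43.VABackward
import Groth.Agent.Mor.K386.VATw

set_option autoImplicit false
universe u
open CategoryTheory CategoryTheory.Limits AlgebraicGeometry TopologicalSpace Opposite
open scoped HomogeneousIdeal
open EGA2

namespace Groth.Agent.S12479

/-- Let Y be a quasi-compact scheme, f : X → Y a morphism of finite type, L an invertible O_X-module
which is ample relative to f and L' an invertible O_X-module. Then there is an integer n₀ such that
for every n ≥ n₀ the module L^{⊗n} ⊗ L' is very ample relative to f (isomorphic to the inverse image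
of O(1) along a Y-immersion of X into the projective bundle P(E) of a quasi-coherent O_Y-module E). -/
theorem result {X Y : Scheme.{u}} [CompactSpace Y] (f : X ⟶ Y)
    [QuasiCompact f] [LocallyOfFiniteType f] (L L' : X.Modules) (hL : PicF.IsInvertible L) (hL' : PicF.IsInvertible L')
    (h : RelAmple.IsRelAmple f L) :
    ∃ n₀ : ℕ, ∀ n : ℕ, n₀ ≤ n → RelProj.IsRelVeryAmple f (CohB1.tensorMod (CohB1.tensorPow L n) L') := by
  have hqs : QuasiSeparated f := K34.RelAmpQuot.quasiSeparated_of_isRelAmple f h
  obtain ⟨n₀, hn₀⟩ := K386.VATw.exists_va_pow_tensor f hL' h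
  refine ⟨n₀, fun n hn => ?_⟩
  have hinv := Groth.Agent.Fdesc.LocGen.isInvertible_tensorMod (Groth.Agent.Fdesc.LocGen.isInvertible_tensorPow hL n) hL'
  exact K43.VABackward.isRelVeryAmple_of_va f hinv
    (K34.FinVA.isQCoh_push f (Groth.Agent.PerfB.TensInv.isQCoh_of_isInvertible hinv)) _ (hn₀ n hn)

end Groth.Agent.S12479
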