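import Groth.Statements.S12491
import Groth.Agent.S0563
import Groth.Agent.S0564
import Mathlib.Algebra.Category.ModuleCat.Projective
import Mathlib.CategoryTheory.Abelian.Projective.Dimension
import Mathlib.Algebra.Module.LocalizedModule.Exact
import Mathlib.RingTheory.LocalRing.Module
import Mathlib.RingTheory.LocalProperties.Projective

set_option autoImplicit false
universe u
open VBPn

namespace Groth.Agent.S12491

open CategoryTheory

section

variable {R : Type u} [CommRing R]

/-- The short exact sequence `0 → K → M → M / K → 0`. -/
theorem ses_sub {M : Type u} [AddCommGroup M] [Module R M] (K : Submodule R M) :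
    (ShortComplex.mk (ModuleCat.ofHom K.subtype) (ModuleCat.ofHom K.mkQ)
      (by ext x; simp)).ShortExact where
  exact := by
    rw [ShortComplex.moduleCat_exact_iff_range_eq_ker]
    simp
  mono_f := by
    rw [ModuleCat.mono_iff_injective]
    exact K.subtype_injective
  epi_g := by
    rw [ModuleCat.epi_iff_surjective]
    exact K.mkQ_surjective

theorem pd_range (h : ℕ)
    (hR : ∀ (M : Type u) [AddCommGroup M] [Module R M], HasProjectiveDimensionLT (ModuleCat.of R M) (h + 1))
    (k : ℕ) (N : ℕ → Type u) [∀ i, AddCommGroup (N i)] [∀ i, Module R (N i)]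
    (hproj : ∀ i, 1 ≤ i → i ≤ k → Module.Projective R (N i))
    (d : ∀ i, N i →ₗ[R] N (i + 1))
    (hex : ∀ i, i + 1 < k → LinearMap.range (d i) = LinearMap.ker (d (i + 1)))
    (m : ℕ) : ∀ j : ℕ, j + (m + 1) = k →
      HasProjectiveDimensionLT (ModuleCat.of R (LinearMap.range (d j))) (h - (m + 1) + 1) := by
  induction m with
  | zero =>
    intro j hj
    have := hproj (j + 1) (by omega) (by omega)
    have h2 : Projective (ModuleCat.of R (N (j + 1))) := inferInstance
    have h2' : HasProjectiveDimensionLT (ModuleCat.of R (N (j + 1))) 1 := inferInstance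
    refine (ses_sub (LinearMap.range (d j))).hasProjectiveDimensionLT_X₁ (h - (0 + 1) + 1)
      (hasProjectiveDimensionLT_of_ge _ 1 _ (by omega)) ?_
    have h3 := hR (N (j + 1) ⧸ LinearMap.range (d j))
    exact hasProjectiveDimensionLT_of_ge _ (h + 1) _ (by omega)
  | succ m ih =>
    intro j hj
    have := hproj (j + 1) (by omega) (by omega)
    have h2 : Projective (ModuleCat.of R (N (j + 1))) := inferInstance
    have h2' : HasProjectiveDimensionLT (ModuleCat.of R (N (j + 1))) 1 := inferInstance
    have h3 := ih (j + 1) (by omega)
    have e : (N (j + 1) ⧸ LinearMap.range (d j)) ≃ₗ[R] LinearMap.range (d (j + 1)) :=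
      (Submodule.quotEquivOfEq _ _ (hex j (by omega))).trans (d (j + 1)).quotKerEquivRange
    have h4 : HasProjectiveDimensionLT (ModuleCat.of R (N (j + 1) ⧸ LinearMap.range (d j))) (h - (m + 1) + 1) :=
      hasProjectiveDimensionLT_of_iso e.toModuleIso.symm _
    refine (ses_sub (LinearMap.range (d j))).hasProjectiveDimensionLT_X₁ (h - (m + 1 + 1) + 1)
      (hasProjectiveDimensionLT_of_ge _ 1 _ (by omega)) ?_
    exact hasProjectiveDimensionLT_of_ge _ (h - (m + 1) + 1) _ (by omega)

end

/-- Let A be a regular local ring, k ≥ 0, and N_0, N_1, … A-modules with N_0 finitely generated and N_1,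
…, N_k finitely generated and free, with linear maps d_i : N_i → N_{i+1} such that d_0 is injective
and the sequence 0 → N_0 → N_1 → ⋯ → N_k is exact. Then for every prime ideal p of A of height at
most k the localization of N_0 at p is a free module over A_p. The published statement is for a
coherent analytic sheaf on a complex manifold that is locally a k-th syzygy sheaf and says its set
of non-free stalks has codimension greater than k; this row is the statement at one stalk, over any
regular local ring. -/
theorem result (A : Type u) [CommRing A] [IsRegularLocalRing A]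
    (k : ℕ) (N : ℕ → Type u) [∀ i, AddCommGroup (N i)] [∀ i, Module A (N i)] [Module.Finite A (N 0)]
    (hfree : ∀ i, 1 ≤ i → i ≤ k → Module.Free A (N i) ∧ Module.Finite A (N i))
    (d : ∀ i, N i →ₗ[A] N (i + 1)) (hinj : Function.Injective (d 0))
    (hex : ∀ i, i + 1 < k → LinearMap.range (d i) = LinearMap.ker (d (i + 1)))
    (p : Ideal A) [p.IsPrime] (hp : p.height ≤ k) :
    Module.Free (Localization.AtPrime p) (LocalizedModule p.primeCompl (N 0)) := by
  have := Groth.Agent.S0564.result A p
  have hdim : ringKrullDim (Localization.AtPrime p) = p.height :=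
    IsLocalization.AtPrime.ringKrullDim_eq_height p _
  obtain ⟨h, hh⟩ : ∃ h : ℕ, p.height = h := ENat.ne_top_iff_exists.mp (ne_top_of_le_ne_top (ENat.natCast_ne_top k) hp) |>.imp fun _ h => h.symm
  rw [hh] at hdim hp
  have hhk : h ≤ k := by exact_mod_cast hp
  have hR := Groth.Agent.S0563.result (Localization.AtPrime p) h (by rw [hdim]; rfl)
  let L : ℕ → Type u := fun i => LocalizedModule p.primeCompl (N i)
  let δ : ∀ i, L i →ₗ[Localization.AtPrime p] L (i + 1) := fun i =>
    (LocalizedModule.map p.primeCompl (d i))
  have hδ : ∀ i, ∀ x, δ i x = IsLocalizedModule.map p.primeCompl (LocalizedModule.mkLinearMap p.primeCompl (N i))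
    (LocalizedModule.mkLinearMap p.primeCompl (N (i + 1))) (d i) x := fun i x => rfl
  have hex' : ∀ i, i + 1 < k → LinearMap.range (δ i) = LinearMap.ker (δ (i + 1)) := by
    intro i hi
    have h1 : Function.Exact (d i) (d (i + 1)) := LinearMap.exact_iff.mpr (hex i hi).symm
    have h2 := LocalizedModule.map_exact p.primeCompl (d i) (d (i + 1)) h1
    ext x
    constructor
    · rintro ⟨y, rfl⟩
      exact (h2 _).mpr ⟨y, rfl⟩
    · intro hx
      obtain ⟨y, hy⟩ := (h2 x).mp hx
      exact ⟨y, hy⟩
  have hproj : ∀ i, 1 ≤ i → i ≤ k → Module.Projective (Localization.AtPrime p) (L i) := by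
    intro i h1 h2
    have := (hfree i h1 h2).1
    have : Module.Free (Localization.AtPrime p) (L i) :=
      Module.free_of_isLocalizedModule p.primeCompl (LocalizedModule.mkLinearMap p.primeCompl (N i))
    infer_instance
  have hpd : HasProjectiveDimensionLT (ModuleCat.of (Localization.AtPrime p) (L 0)) 1 := by
    rcases k with _ | k
    · obtain rfl : h = 0 := by omega
      exact hR _
    · have h1 := pd_range h (fun M => hR M) (k + 1) L hproj δ hex' k 0 (by omega)
      have hinj' : Function.Injective (δ 0) :=
        IsLocalizedModule.map_injective p.primeCompl (LocalizedModule.mkLinearMap p.primeCompl (N 0))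
          (LocalizedModule.mkLinearMap p.primeCompl (N 1)) (d 0) hinj
      have e : L 0 ≃ₗ[Localization.AtPrime p] LinearMap.range (δ 0) := LinearEquiv.ofInjective _ hinj'
      have h2 : HasProjectiveDimensionLT (ModuleCat.of (Localization.AtPrime p) (L 0)) (h - (k + 1) + 1) :=
        hasProjectiveDimensionLT_of_iso e.toModuleIso.symm _
      obtain h3 : h - (k + 1) = 0 := by omega
      rwa [h3] at h2
  have h5 : Projective (ModuleCat.of (Localization.AtPrime p) (L 0)) :=
    projective_iff_hasProjectiveDimensionLT_one.mpr hpd
  have h6 : Module.Projective (Localization.AtPrime p) (L 0) :=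
    (IsProjective.iff_projective (P := L 0)).mpr h5
  have h7 : Module.Finite (Localization.AtPrime p) (L 0) := inferInstance
  exact Module.free_of_flat_of_isLocalRing

end Groth.Agent.S12491
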