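import Groth.Statements.S12498
import Mathlib.RingTheory.Flat.EquationalCriterion

set_option autoImplicit false
universe u
open Deform

namespace Groth.Agent.S12498

theorem ann_mem {A : Type u} [CommRing A] [IsLocalRing A] (t : A) (ht0 : t ≠ 0)
    {B : Type u} [CommRing B] [Algebra A B] [Module.Flat A B] (c : B) (hc : algebraMap A B t * c = 0) :
    c ∈ (IsLocalRing.maximalIdeal A).map (algebraMap A B) := by
  have h : ∑ i : Fin 1, (fun _ => t : Fin 1 → A) i • (fun _ => c : Fin 1 → B) i = 0 := by
    simp [Algebra.smul_def, hc]
  obtain ⟨n, a, y, h1, h2⟩ := Module.Flat.isTrivialRelation_of_sum_smul_eq_zero h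
  have h1' := h1 0
  change c = _ at h1'
  rw [h1']
  refine Ideal.sum_mem _ fun j _ => ?_
  rw [Algebra.smul_def]
  refine Ideal.mul_mem_right _ _ (Ideal.mem_map_of_mem _ ?_)
  have h2' := h2 j
  simp only [Fin.isValue, Finset.univ_unique, Fin.default_eq_zero, Finset.sum_singleton] at h2'
  rw [IsLocalRing.mem_maximalIdeal, mem_nonunits_iff]
  intro hu
  exact ht0 ((hu.mul_left_eq_zero).1 h2')

/-- Let k be an algebraically closed field, A a local Artinian k-algebra with residue field k, and t a
nonzero element of the maximal ideal m_A annihilated by m_A, so that A → A/tA is a small extension.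
Let B be a flat A-algebra (a deformation over A of its closed fibre B_0 = B/m_A B), and σ an
A-algebra automorphism of B/tB inducing the identity on B_0. Fix an A-algebra automorphism τ of B
inducing σ (so τ induces the identity on B_0). Then the A-algebra automorphisms η of B inducing σ
correspond bijectively to the k-derivations d of B_0 through the rule η = τ + t·d, meaning η(b) =
τ(b) + t b′ for all b ∈ B and all b′ ∈ B lifting d applied to the image of b in B_0: every such η
determines a unique d, and every d comes from some such η. (The published statement phrases the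
conclusion as a free and transitive action of Der_k(B_0, B_0) on the nonempty set of lifts of σ; the
condition that σ induces the identity on B_0 is expressed here through the chosen lift τ.) -/
theorem result
    {k : Type u} [Field k] [IsAlgClosed k]
    {A : Type u} [CommRing A] [Algebra k A] [IsLocalRing A] [IsArtinianRing A]
    (hres : ∀ a : A, ∃ c : k, a - algebraMap k A c ∈ IsLocalRing.maximalIdeal A)
    (t : A) (ht : t ∈ IsLocalRing.maximalIdeal A) (ht0 : t ≠ 0)
    (htm : ∀ a ∈ IsLocalRing.maximalIdeal A, a * t = 0)
    {B : Type u} [CommRing B] [Algebra A B] [Module.Flat A B] [Algebra k B] [IsScalarTower k A B]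
    (σ : (B ⧸ Ideal.span {algebraMap A B t}) ≃ₐ[A] (B ⧸ Ideal.span {algebraMap A B t}))
    (τ : B ≃ₐ[A] B)
    (hτ : ∀ b : B, Ideal.Quotient.mk (Ideal.span {algebraMap A B t}) (τ b) =
      σ (Ideal.Quotient.mk (Ideal.span {algebraMap A B t}) b))
    (hτ0 : ∀ b : B, τ b - b ∈ (IsLocalRing.maximalIdeal A).map (algebraMap A B)) :
    (∀ η : B ≃ₐ[A] B, (∀ b : B, Ideal.Quotient.mk (Ideal.span {algebraMap A B t}) (η b) =
        σ (Ideal.Quotient.mk (Ideal.span {algebraMap A B t}) b)) →
      ∃! d : Derivation k (B ⧸ (IsLocalRing.maximalIdeal A).map (algebraMap A B))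
          (B ⧸ (IsLocalRing.maximalIdeal A).map (algebraMap A B)),
        ∀ b b' : B, Ideal.Quotient.mk ((IsLocalRing.maximalIdeal A).map (algebraMap A B)) b' =
            d (Ideal.Quotient.mk ((IsLocalRing.maximalIdeal A).map (algebraMap A B)) b) →
          η b = τ b + algebraMap A B t * b') ∧
    (∀ d : Derivation k (B ⧸ (IsLocalRing.maximalIdeal A).map (algebraMap A B))
        (B ⧸ (IsLocalRing.maximalIdeal A).map (algebraMap A B)),
      ∃ η : B ≃ₐ[A] B, (∀ b : B, Ideal.Quotient.mk (Ideal.span {algebraMap A B t}) (η b) =
          σ (Ideal.Quotient.mk (Ideal.span {algebraMap A B t}) b)) ∧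
        ∀ b b' : B, Ideal.Quotient.mk ((IsLocalRing.maximalIdeal A).map (algebraMap A B)) b' =
            d (Ideal.Quotient.mk ((IsLocalRing.maximalIdeal A).map (algebraMap A B)) b) →
          η b = τ b + algebraMap A B t * b') := by
  have hmB : ∀ x ∈ (IsLocalRing.maximalIdeal A).map (algebraMap A B), algebraMap A B t * x = 0 := by
    intro x hx
    refine Submodule.span_induction (p := fun x _ => algebraMap A B t * x = 0) ?_ ?_ ?_ ?_ hx
    · rintro _ ⟨a, ha, rfl⟩
      rw [← map_mul, mul_comm t a, htm a ha, map_zero]
    · exact mul_zero _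
    · intro x y _ _ h1 h2
      rw [mul_add, h1, h2, add_zero]
    · intro a x _ h
      rw [smul_eq_mul, mul_left_comm, h, mul_zero]
  have htB : algebraMap A B t ∈ (IsLocalRing.maximalIdeal A).map (algebraMap A B) :=
    Ideal.mem_map_of_mem _ ht
  have hcong : ∀ x y : B, algebraMap A B t * x = algebraMap A B t * y ↔
      Ideal.Quotient.mk ((IsLocalRing.maximalIdeal A).map (algebraMap A B)) x =
        Ideal.Quotient.mk ((IsLocalRing.maximalIdeal A).map (algebraMap A B)) y := by
    intro x y
    rw [Ideal.Quotient.eq]
    constructor
    · intro h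
      exact ann_mem t ht0 _ (by rw [mul_sub, h, sub_self])
    · intro h
      have := hmB _ h
      rwa [mul_sub, sub_eq_zero] at this
  constructor
  · intro η hη
    have hdiff : ∀ b, ∃ c, η b - τ b = algebraMap A B t * c := by
      intro b
      have : Ideal.Quotient.mk (Ideal.span {algebraMap A B t}) (η b) =
        Ideal.Quotient.mk (Ideal.span {algebraMap A B t}) (τ b) := by rw [hη, hτ]
      rw [Ideal.Quotient.eq, Ideal.mem_span_singleton] at this
      exact this
    choose c hc using hdiff
    have hceq : ∀ b x, η b - τ b = algebraMap A B t * x →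
        Ideal.Quotient.mk ((IsLocalRing.maximalIdeal A).map (algebraMap A B)) (c b) =
        Ideal.Quotient.mk ((IsLocalRing.maximalIdeal A).map (algebraMap A B)) x := by
      intro b x h
      exact (hcong _ _).1 (by rw [← h, hc])
    let f : B →+ (B ⧸ (IsLocalRing.maximalIdeal A).map (algebraMap A B)) :=
      { toFun := fun b => Ideal.Quotient.mk ((IsLocalRing.maximalIdeal A).map (algebraMap A B)) (c b)
        map_zero' := by
          rw [hceq 0 0 (by simp), map_zero]
        map_add' := fun x y => by
          rw [← map_add]
          refine hceq _ _ ?_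
          rw [mul_add, ← hc, ← hc, map_add, map_add]
          ring }
    have hfmul : ∀ x y, f (x * y) = Ideal.Quotient.mk _ x * f y + Ideal.Quotient.mk _ y * f x := by
      intro x y
      change Ideal.Quotient.mk _ (c (x * y)) = Ideal.Quotient.mk _ x * Ideal.Quotient.mk _ (c y) +
        Ideal.Quotient.mk _ y * Ideal.Quotient.mk _ (c x)
      rw [← map_mul, ← map_mul, ← map_add]
      refine hceq _ _ ?_
      rw [map_mul, map_mul]
      have hx : η x = τ x + algebraMap A B t * c x := by rw [← hc]; ring
      have hy : η y = τ y + algebraMap A B t * c y := by rw [← hc]; ring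
      rw [hx, hy]
      have e1 : algebraMap A B t * (τ x - x) = 0 := hmB _ (hτ0 x)
      have e2 : algebraMap A B t * (τ y - y) = 0 := hmB _ (hτ0 y)
      have e3 : algebraMap A B t * algebraMap A B t = 0 := hmB _ htB
      linear_combination (c y) * e1 + (c x) * e2 + (c x) * (c y) * e3
    have hfA : ∀ (a : A) (x : B), f (algebraMap A B a * x) = Ideal.Quotient.mk _ (algebraMap A B a) * f x := by
      intro a x
      change Ideal.Quotient.mk _ (c (algebraMap A B a * x)) = Ideal.Quotient.mk _ (algebraMap A B a) * Ideal.Quotient.mk _ (c x)
      rw [← map_mul]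
      refine hceq _ _ ?_
      rw [map_mul, map_mul, AlgEquiv.commutes, AlgEquiv.commutes]
      linear_combination (algebraMap A B a) * hc x
    have hker : ∀ x ∈ (IsLocalRing.maximalIdeal A).map (algebraMap A B), f x = 0 := by
      intro x hx
      refine Submodule.span_induction (p := fun x _ => f x = 0) ?_ ?_ ?_ ?_ hx
      · rintro _ ⟨a, ha, rfl⟩
        have := hfA a 1
        rw [mul_one] at this
        rw [this, Ideal.Quotient.eq_zero_iff_mem.2 (Ideal.mem_map_of_mem _ ha), zero_mul]
      · exact map_zero f
      · intro x y _ _ h1 h2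
        rw [map_add, h1, h2, add_zero]
      · intro a x hx h
        have hx' : x ∈ (IsLocalRing.maximalIdeal A).map (algebraMap A B) := hx
        rw [smul_eq_mul, hfmul, h, mul_zero, zero_add]
        rw [Ideal.Quotient.eq_zero_iff_mem.2 hx', zero_mul]
    let g : (B ⧸ (IsLocalRing.maximalIdeal A).map (algebraMap A B)) →+
        (B ⧸ (IsLocalRing.maximalIdeal A).map (algebraMap A B)) :=
      QuotientAddGroup.lift _ f hker
    have hg : ∀ x : B, g (Ideal.Quotient.mk _ x) = f x := fun x => rfl
    have hgleib : ∀ x y, g (x * y) = x * g y + y * g x := by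
      intro x y
      obtain ⟨x, rfl⟩ := Ideal.Quotient.mk_surjective x
      obtain ⟨y, rfl⟩ := Ideal.Quotient.mk_surjective y
      rw [← map_mul, hg, hg, hg, hfmul]
    have hgk : ∀ (r : k) x, g (r • x) = r • g x := by
      intro r x
      obtain ⟨x, rfl⟩ := Ideal.Quotient.mk_surjective x
      have h1 : r • (Ideal.Quotient.mk ((IsLocalRing.maximalIdeal A).map (algebraMap A B)) x) =
        Ideal.Quotient.mk ((IsLocalRing.maximalIdeal A).map (algebraMap A B))
          (algebraMap A B (algebraMap k A r) * x) := by
        rw [← IsScalarTower.algebraMap_apply k A B, ← Algebra.smul_def]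
        rfl
      rw [h1, hg, hfA, hg, ← IsScalarTower.algebraMap_apply k A B]
      rw [Algebra.smul_def]
      rfl
    let d : Derivation k (B ⧸ (IsLocalRing.maximalIdeal A).map (algebraMap A B))
          (B ⧸ (IsLocalRing.maximalIdeal A).map (algebraMap A B)) :=
      Derivation.mk' { toFun := g, map_add' := map_add g, map_smul' := hgk } hgleib
    have hd : ∀ x : B, d (Ideal.Quotient.mk _ x) = Ideal.Quotient.mk _ (c x) := fun x => rfl
    refine ⟨d, fun b b' hb => ?_, fun d' hd' => ?_⟩
    · rw [hd] at hb
      rw [(hcong b' (c b)).2 hb, ← hc]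
      ring
    · ext x
      obtain ⟨x, rfl⟩ := Ideal.Quotient.mk_surjective x
      obtain ⟨y, hy⟩ := Ideal.Quotient.mk_surjective (d' (Ideal.Quotient.mk _ x))
      have := hd' x y hy
      rw [← hy, hd]
      refine (hceq _ _ ?_).symm
      rw [this]
      ring
  · intro d
    choose s hs using Ideal.Quotient.mk_surjective (I := (IsLocalRing.maximalIdeal A).map (algebraMap A B))
    -- `e b = t * lift (d b)`
    let e : B → B := fun b => algebraMap A B t * s (d (Ideal.Quotient.mk _ b))
    have he : ∀ b b', Ideal.Quotient.mk ((IsLocalRing.maximalIdeal A).map (algebraMap A B)) b' =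
            d (Ideal.Quotient.mk ((IsLocalRing.maximalIdeal A).map (algebraMap A B)) b) →
            e b = algebraMap A B t * b' := by
      intro b b' h
      refine (hcong _ _).2 ?_
      rw [hs, h]
    have hdA : ∀ a : A, d (Ideal.Quotient.mk _ (algebraMap A B a)) = 0 := by
      intro a
      obtain ⟨r, hr⟩ := hres a
      have : Ideal.Quotient.mk ((IsLocalRing.maximalIdeal A).map (algebraMap A B)) (algebraMap A B a) =
        algebraMap k _ r := by
        have h2 : (algebraMap k (B ⧸ (IsLocalRing.maximalIdeal A).map (algebraMap A B)) r) =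
          Ideal.Quotient.mk ((IsLocalRing.maximalIdeal A).map (algebraMap A B)) (algebraMap A B (algebraMap k A r)) := by
          rw [← IsScalarTower.algebraMap_apply k A B]
          rfl
        rw [h2, Ideal.Quotient.eq, ← map_sub]
        exact Ideal.mem_map_of_mem _ hr
      rw [this, d.map_algebraMap]
    have heA : ∀ a : A, e (algebraMap A B a) = 0 := by
      intro a
      rw [he _ 0 (by rw [hdA, map_zero]), mul_zero]
    have headd : ∀ x y, e (x + y) = e x + e y := by
      intro x y
      rw [he (x + y) (s (d (Ideal.Quotient.mk _ x)) + s (d (Ideal.Quotient.mk _ y)))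
        (by rw [map_add, map_add, map_add, hs, hs]), mul_add]
    have hemul : ∀ x y, e (x * y) = x * e y + y * e x := by
      intro x y
      rw [he (x * y) (x * s (d (Ideal.Quotient.mk _ y)) + y * s (d (Ideal.Quotient.mk _ x)))
        (by rw [map_add, map_mul, map_mul, map_mul, hs, hs, d.leibniz]; rfl)]
      simp only [e]
      ring
    have hem : ∀ x ∈ (IsLocalRing.maximalIdeal A).map (algebraMap A B), e x = 0 := by
      intro x hx
      rw [he x 0 (by rw [Ideal.Quotient.eq_zero_iff_mem.2 hx, map_zero, map_zero]), mul_zero]
    have hee : ∀ x y, e x * e y = 0 := by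
      intro x y
      have e3 : algebraMap A B t * algebraMap A B t = 0 := hmB _ htB
      simp only [e]
      linear_combination s (d (Ideal.Quotient.mk _ x)) * s (d (Ideal.Quotient.mk _ y)) * e3
    have hτe : ∀ x y, τ x * e y = x * e y := by
      intro x y
      have e1 : algebraMap A B t * (τ x - x) = 0 := hmB _ (hτ0 x)
      simp only [e]
      linear_combination s (d (Ideal.Quotient.mk _ y)) * e1
    let η₀ : B →ₐ[A] B :=
      { toFun := fun b => τ b + e b
        map_one' := by
          have := heA 1
          rw [map_one] at this
          rw [map_one, this, add_zero]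
        map_mul' := fun x y => by
          change τ (x * y) + e (x * y) = (τ x + e x) * (τ y + e y)
          rw [map_mul, hemul]
          linear_combination -(hτe x y) - (hτe y x) - hee x y
        map_zero' := by
          have := heA 0
          rw [map_zero] at this
          rw [map_zero, this, add_zero]
        map_add' := fun x y => by
          change τ (x + y) + e (x + y) = (τ x + e x) + (τ y + e y)
          rw [map_add, headd]
          ring
        commutes' := fun a => by
          change τ (algebraMap A B a) + e (algebraMap A B a) = algebraMap A B a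
          rw [AlgEquiv.commutes, heA, add_zero] }
    have hη₀ : ∀ b, η₀ b = τ b + e b := fun _ => rfl
    have hbij : Function.Bijective η₀ := by
      constructor
      · rw [injective_iff_map_eq_zero]
        intro b hb
        rw [hη₀] at hb
        have h1 : b = algebraMap A B t * (τ.symm (- s (d (Ideal.Quotient.mk _ b)))) := by
          apply τ.injective
          rw [map_mul, AlgEquiv.commutes, AlgEquiv.apply_symm_apply]
          simp only [e] at hb
          linear_combination hb
        have h2 : b ∈ (IsLocalRing.maximalIdeal A).map (algebraMap A B) := by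
          rw [h1]
          exact Ideal.mul_mem_right _ _ htB
        rw [hem b h2, add_zero] at hb
        exact τ.injective (by rw [hb, map_zero])
      · intro y
        refine ⟨τ.symm y - algebraMap A B t * τ.symm (s (d (Ideal.Quotient.mk _ (τ.symm y)))), ?_⟩
        rw [map_sub, hη₀, hη₀, hem _ (Ideal.mul_mem_right _ _ htB), map_mul, AlgEquiv.commutes,
          AlgEquiv.apply_symm_apply, AlgEquiv.apply_symm_apply]
        simp only [e]
        ring
    refine ⟨AlgEquiv.ofBijective η₀ hbij, fun b => ?_, fun b b' hb => ?_⟩
    · rw [← hτ]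
      change Ideal.Quotient.mk _ (τ b + e b) = _
      rw [Ideal.Quotient.eq]
      rw [add_sub_cancel_left]
      exact Ideal.mul_mem_right _ _ (Ideal.subset_span rfl)
    · change τ b + e b = _
      rw [he b b' hb]

end Groth.Agent.S12498
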