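import Groth.Statements.S12500
import Groth.Agent.Neron.K485.DimOneGrp
import Groth.Agent.S1627
import Groth.Agent.Ega3B.ProjProper
import Groth.Agent.Fdesc.GeomAlgClosed
import Groth.Agent.Sga3C.GeomRedPerf

set_option autoImplicit false
universe u
open CategoryTheory AlgebraicGeometry
open Neron

namespace Groth.Agent.S12500

/-- Let k be an algebraically closed field and G a k-group scheme whose underlying scheme is integral,
separated and of finite type over k and has dimension one. Then either G is isomorphic to G_a as a
k-group scheme, or G is isomorphic to G_m as a k-group scheme, or G is proper over k and its group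
law is commutative. (The published third alternative says G is an elliptic curve, i.e. a smooth
proper curve of genus one whose group-variety law is the elliptic-curve addition with origin the
identity; this row records properness and the commutativity that the printed proof establishes.) -/
theorem result (k : Type u) [Field k] [IsAlgClosed k]
    (G : Over (Spec (CommRingCat.of k))) [GrpObj G] [IsIntegral G.left]
    [IsSeparated G.hom] [LocallyOfFiniteType G.hom] [QuasiCompact G.hom]
    (hdim : topologicalKrullDim ↥G.left = 1) :
    Nonempty (Grp.mk G ≅ Grp.mk (Red.Ga (Spec (CommRingCat.of k)))) ∨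
      Nonempty (Grp.mk G ≅ Grp.mk (Red.Gm (Spec (CommRingCat.of k)))) ∨
      (IsProper G.hom ∧ IsCommMonObj G) := by
  let _ : G.left.Over (Spec (CommRingCat.of k)) := ⟨G.hom⟩
  have hs : IsSeparated (G.left ↘ (Spec (CommRingCat.of k))) := ‹IsSeparated G.hom›
  have hf : LocallyOfFiniteType (G.left ↘ (Spec (CommRingCat.of k))) := ‹LocallyOfFiniteType G.hom›
  have hq : QuasiCompact (G.left ↘ (Spec (CommRingCat.of k))) := ‹QuasiCompact G.hom›
  rcases Groth.Agent.S1627.result k G.left hdim with h | ⟨d, c, hc, hck⟩
  · rcases K485.DimOneGrp.ga_or_gm G hdim with h1 | h1
    · exact Or.inl h1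
    · exact Or.inr (Or.inl h1)
  · right
    right
    have hprop : IsProper G.hom := by
      have e : c ≫ CohB1.ProjSpace.toSpec d k = G.hom := hck
      rw [← e]
      have := Groth.Agent.Ega3B.ProjProper.isProper_toSpec d k
      infer_instance
    have h1 : GeometricallyReduced G.hom :=
      Groth.Agent.Sga3C.GeomRedPerf.geometricallyReduced_of_isReduced G.hom
    have h2 : GeometricallyIrreducible G.hom :=
      Groth.Agent.Fdesc.GeomAlgClosed.geometricallyIrreducible_of_irreducibleSpace G.hom
    have h3 : GeometricallyIntegral G.hom :=
      GeometricallyIntegral.of_geometricallyReduced_of_geometricallyIrreducible _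
    exact ⟨hprop, isCommMonObj_of_isProper_of_geometricallyIntegral G⟩

end Groth.Agent.S12500
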