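import Groth.Statements.S12504
import Groth.Agent.CohDer.K237.ExactAdj
import Groth.Agent.LoccohB.KDer

set_option autoImplicit false
universe v u
open CategoryTheory CategoryTheory.Limits
attribute [local instance] HasDerivedCategory.standard
open CohDer

namespace Groth.Agent.S12504

section

variable {A : Type u} [Category.{v} A] [Abelian A] {B : Type u} [Category.{v} B] [Abelian B]
    (G : B ⥤ A) [G.Additive]
    {RG : DerivedCategory B ⥤ DerivedCategory A}
    (α : G.mapHomologicalComplex (ComplexShape.up ℤ) ⋙ DerivedCategory.Q ⟶ DerivedCategory.Q ⋙ RG)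

/-- A natural transformation on complexes descends to the homotopy category. -/
noncomputable def desc :
    G.mapHomotopyCategory (ComplexShape.up ℤ) ⋙ DerivedCategory.Qh ⟶ DerivedCategory.Qh ⋙ RG where
  app K := (DerivedCategory.quotientCompQhIso A).hom.app
      ((G.mapHomologicalComplex (ComplexShape.up ℤ)).obj K.as) ≫ α.app K.as ≫
        RG.map ((DerivedCategory.quotientCompQhIso B).inv.app K.as)
  naturality K L f := by
    obtain ⟨K, rfl⟩ := HomotopyCategory.quotient_obj_surjective K
    obtain ⟨L, rfl⟩ := HomotopyCategory.quotient_obj_surjective L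
    obtain ⟨f, rfl⟩ := (HomotopyCategory.quotient _ _).map_surjective f
    have h1 := (DerivedCategory.quotientCompQhIso A).hom.naturality
      ((G.mapHomologicalComplex (ComplexShape.up ℤ)).map f)
    have h2 := α.naturality f
    have h3 := (DerivedCategory.quotientCompQhIso B).inv.naturality f
    change DerivedCategory.Qh.map ((HomotopyCategory.quotient A _).map
      ((G.mapHomologicalComplex (ComplexShape.up ℤ)).map f)) ≫
        (DerivedCategory.quotientCompQhIso A).hom.app
          ((G.mapHomologicalComplex (ComplexShape.up ℤ)).obj L) ≫ α.app L ≫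
            RG.map ((DerivedCategory.quotientCompQhIso B).inv.app L) =
      ((DerivedCategory.quotientCompQhIso A).hom.app
          ((G.mapHomologicalComplex (ComplexShape.up ℤ)).obj K) ≫ α.app K ≫
            RG.map ((DerivedCategory.quotientCompQhIso B).inv.app K)) ≫
        RG.map (DerivedCategory.Qh.map ((HomotopyCategory.quotient B _).map f))
    have h1' : DerivedCategory.Qh.map ((HomotopyCategory.quotient A _).map
      ((G.mapHomologicalComplex (ComplexShape.up ℤ)).map f)) ≫
        (DerivedCategory.quotientCompQhIso A).hom.app
          ((G.mapHomologicalComplex (ComplexShape.up ℤ)).obj L) =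
        (DerivedCategory.quotientCompQhIso A).hom.app
          ((G.mapHomologicalComplex (ComplexShape.up ℤ)).obj K) ≫
          DerivedCategory.Q.map ((G.mapHomologicalComplex (ComplexShape.up ℤ)).map f) := h1
    have h2' : DerivedCategory.Q.map ((G.mapHomologicalComplex (ComplexShape.up ℤ)).map f) ≫
      α.app L = α.app K ≫ RG.map (DerivedCategory.Q.map f) := h2
    have h3' : DerivedCategory.Q.map f ≫ (DerivedCategory.quotientCompQhIso B).inv.app L =
        (DerivedCategory.quotientCompQhIso B).inv.app K ≫
          DerivedCategory.Qh.map ((HomotopyCategory.quotient B _).map f) := h3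
    rw [reassoc_of% h1', reassoc_of% h2', ← Functor.map_comp, h3', Functor.map_comp]
    simp only [Category.assoc]

lemma isIso_desc_app (K : CochainComplex B ℤ) [IsIso (α.app K)] :
    IsIso ((desc G α).app ((HomotopyCategory.quotient B (ComplexShape.up ℤ)).obj K)) := by
  change IsIso ((DerivedCategory.quotientCompQhIso A).hom.app
          ((G.mapHomologicalComplex (ComplexShape.up ℤ)).obj K) ≫ α.app K ≫
            RG.map ((DerivedCategory.quotientCompQhIso B).inv.app K))
  infer_instance

end

/-- Let A and B be abelian categories with B a Grothendieck category, F : A → B an exact additive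
functor with right adjoint G, and RG : D(B) → D(A) a right derived functor of G on the unbounded
derived categories, i.e. a functor equipped with a natural transformation α from the composite 'G
termwise on cochain complexes, then localisation' to 'localisation, then RG' that makes (RG, α) a
right derived functor with respect to quasi-isomorphisms. Then the functor D(A) → D(B) induced by F
is left adjoint to RG (existence of an adjunction; the existence of RG itself is assumed, as a
binder). -/
theorem result
    {A : Type u} [Category.{v} A] [Abelian A] {B : Type u} [Category.{v} B] [Abelian B]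
    [IsGrothendieckAbelian.{v} B]
    (F : A ⥤ B) (G : B ⥤ A) (adj : F ⊣ G) [F.Additive] [G.Additive]
    [PreservesFiniteLimits F] [PreservesFiniteColimits F]
    (RG : DerivedCategory B ⥤ DerivedCategory A)
    (α : G.mapHomologicalComplex (ComplexShape.up ℤ) ⋙ DerivedCategory.Q ⟶ DerivedCategory.Q ⋙ RG)
    [RG.IsRightDerivedFunctor α (HomologicalComplex.quasiIso B (ComplexShape.up ℤ))] :
    Nonempty (F.mapDerivedCategory ⊣ RG) := by
  have hK := K237.ExactAdj.hasKInj B
  have hF : ∀ ⦃K L : CochainComplex B ℤ⦄ (f g : K ⟶ L), Homotopy f g →
      (G.mapHomologicalComplex (ComplexShape.up ℤ) ⋙ DerivedCategory.Q).map f =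
        (G.mapHomologicalComplex (ComplexShape.up ℤ) ⋙ DerivedCategory.Q).map g := by
    intro K L f g h
    rw [Functor.comp_map, Functor.comp_map,
      ← cancel_epi ((DerivedCategory.quotientCompQhIso A).hom.app _),
      ← DerivedCategory.quotientCompQhIso_hom_naturality,
      ← DerivedCategory.quotientCompQhIso_hom_naturality,
      HomotopyCategory.eq_of_homotopy _ _ (G.mapHomotopy h)]
  have hd : RG.IsRightDerivedFunctor (desc G α)
      (HomotopyCategory.quasiIso B (ComplexShape.up ℤ)) := by
    apply Groth.Agent.Dcoh.DerHo.isRightDerivedFunctor_of_isIso_app hK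
    intro I hI
    have := Groth.Agent.LoccohB.KDer.isIso_unitCx _ hF hK α I
    exact isIso_desc_app G α I
  obtain ⟨dadj, -, -⟩ := K237.ExactAdj.exists_adj adj hK RG (desc G α)
  exact ⟨dadj⟩

end Groth.Agent.S12504
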