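import Groth.Statements.S12515
import Groth.Agent.FunFld.K666.Quad

set_option autoImplicit false
open FunFld

namespace Groth.Agent.S12515

/-- If `char k ≠ 2` and `K` has degree `2` over the rational function field `k(x)`, then `K = k(x)(y)`
for some `y` with `y² = f(x)`, `f` a squarefree polynomial over `k`. -/
theorem result (k K : Type*) [Field k] [Field K] (h2 : ringChar k ≠ 2)
    [Algebra (RatFunc k) K] (hdeg : Module.finrank (RatFunc k) K = 2) :
    ∃ (y : K) (f : Polynomial k), Squarefree f ∧
      y ^ 2 = algebraMap (RatFunc k) K (algebraMap (Polynomial k) (RatFunc k) f) ∧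
      IntermediateField.adjoin (RatFunc k) ({y} : Set K) = ⊤ := by
  classical
  have hp2 : (2 : k) ≠ 0 := by
    intro h
    have h3 : CharP k 2 := CharTwo.of_one_ne_zero_of_two_eq_zero one_ne_zero h
    exact h2 (ringChar.eq k 2)
  have h2K : (2 : RatFunc k) ≠ 0 := by
    intro h
    apply hp2
    apply (algebraMap k (RatFunc k)).injective
    rw [map_zero, map_ofNat, h]
  obtain ⟨z, hz⟩ := K666.Quad.exists_not_mem_range hdeg
  obtain ⟨b, c, hbc⟩ := K666.Quad.exists_quadratic hdeg z
  set d : RatFunc k := b ^ 2 / 4 - c with hd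
  have h4 : (4 : RatFunc k) ≠ 0 := by
    have : (4 : RatFunc k) = 2 * 2 := by norm_num
    rw [this]; exact mul_ne_zero h2K h2K
  have hw : (z + algebraMap (RatFunc k) K (b / 2)) ^ 2 = algebraMap (RatFunc k) K d := by
    have e1 : (z + algebraMap (RatFunc k) K (b / 2)) ^ 2 - algebraMap (RatFunc k) K d =
        z ^ 2 + algebraMap (RatFunc k) K b * z + algebraMap (RatFunc k) K c := by
      have hbb : algebraMap (RatFunc k) K b = 2 * algebraMap (RatFunc k) K (b / 2) := by
        rw [← map_ofNat (algebraMap (RatFunc k) K) 2, ← map_mul, mul_div_cancel₀ b h2K]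
      have hcc : algebraMap (RatFunc k) K d =
          (algebraMap (RatFunc k) K (b / 2)) ^ 2 - algebraMap (RatFunc k) K c := by
        rw [← map_pow, ← map_sub]
        congr 1
        rw [hd]; field_simp
        ring
      rw [hcc, hbb]; ring
    rw [hbc] at e1
    exact sub_eq_zero.mp e1
  set w := z + algebraMap (RatFunc k) K (b / 2) with hwdef
  have hwr : w ∉ Set.range (algebraMap (RatFunc k) K) := by
    rintro ⟨v, hv⟩
    exact hz ⟨v - b / 2, by rw [map_sub, hv, hwdef]; ring⟩
  have hd0 : d ≠ 0 := by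
    intro h
    rw [h, map_zero] at hw
    exact hwr ⟨0, by rw [map_zero]; exact (pow_eq_zero_iff two_ne_zero |>.mp hw).symm⟩
  obtain ⟨a, f, ha, haf, hf⟩ := K666.Quad.exists_sq_mul_squarefree (d.num * d.denom)
    (mul_ne_zero (RatFunc.num_ne_zero hd0) d.denom_ne_zero)
  have hq0 : algebraMap (Polynomial k) (RatFunc k) d.denom ≠ 0 := by
    rw [Ne, FaithfulSMul.algebraMap_eq_zero_iff]; exact d.denom_ne_zero
  have ha0 : algebraMap (Polynomial k) (RatFunc k) a ≠ 0 := by
    rw [Ne, FaithfulSMul.algebraMap_eq_zero_iff]; exact ha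
  have hdf : d * (algebraMap (Polynomial k) (RatFunc k) d.denom /
      algebraMap (Polynomial k) (RatFunc k) a) ^ 2 = algebraMap (Polynomial k) (RatFunc k) f := by
    have e1 : d * algebraMap (Polynomial k) (RatFunc k) d.denom =
        algebraMap (Polynomial k) (RatFunc k) d.num := by
      have h := RatFunc.num_div_denom d
      rw [div_eq_iff hq0] at h
      exact h.symm
    have e2 : algebraMap (Polynomial k) (RatFunc k) d.num *
        algebraMap (Polynomial k) (RatFunc k) d.denom =
        (algebraMap (Polynomial k) (RatFunc k) a) ^ 2 * algebraMap (Polynomial k) (RatFunc k) f := by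
      rw [← map_mul, haf, map_mul, map_pow]
    rw [div_pow, ← mul_div_assoc, div_eq_iff (pow_ne_zero 2 ha0)]
    calc _ = (d * algebraMap (Polynomial k) (RatFunc k) d.denom) *
          algebraMap (Polynomial k) (RatFunc k) d.denom := by ring
      _ = _ := by rw [e1, e2]; ring
  set r : RatFunc k := algebraMap (Polynomial k) (RatFunc k) d.denom /
      algebraMap (Polynomial k) (RatFunc k) a with hr
  have hr0 : r ≠ 0 := div_ne_zero hq0 ha0
  refine ⟨w * algebraMap (RatFunc k) K r, f, hf, ?_, ?_⟩
  · rw [mul_pow, hw, ← map_pow, ← map_mul, hdf]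
  · apply K666.Quad.adjoin_eq_top_of_finrank_two hdeg
    rintro ⟨v, hv⟩
    apply hwr
    refine ⟨v / r, ?_⟩
    rw [map_div₀, hv, mul_div_assoc, div_self, mul_one]
    rw [Ne, FaithfulSMul.algebraMap_eq_zero_iff]; exact hr0

end Groth.Agent.S12515
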