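import Groth.Statements.S12516
import Groth.Agent.FunFld.K666.Hyper

set_option autoImplicit false
open FunFld

namespace Groth.Agent.S12516

/-- Let `char k ≠ 2`, `K` of degree `2` over `k(x)`, `y ∈ K` with `y² = f(x)` for a squarefree
polynomial `f` of degree `≥ 1`, and `P∞` the place of `k(x)` at which `x` has a pole. If `deg f` is
odd there is a unique place of `K` above `P∞`; it has ramification index `2` and degree `1`. If `deg
f` is even, every place of `K` above `P∞` is unramified and the conorm of `P∞` has degree `2` (so it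
is one place of degree `2` or the sum of two places of degree `1`). -/
theorem result (k K : Type*) [Field k] [Field K] (h2 : ringChar k ≠ 2) [Algebra k K]
    [Algebra (RatFunc k) K] [IsScalarTower k (RatFunc k) K]
    (hdeg : Module.finrank (RatFunc k) K = 2) (y : K) (f : Polynomial k) (hf : Squarefree f)
    (hd : 1 ≤ f.natDegree)
    (heq : y ^ 2 = algebraMap (RatFunc k) K (algebraMap (Polynomial k) (RatFunc k) f))
    (Pinf : FunFld.Place k (RatFunc k)) (hinf : Pinf.ord (RatFunc.X : RatFunc k) < 0) :
    (Odd f.natDegree → (∃! P : FunFld.Place k K, FunFld.IsOver P Pinf) ∧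
      ∀ P : FunFld.Place k K, FunFld.IsOver P Pinf → FunFld.IsOverWith P Pinf 2 ∧ P.deg = 1) ∧
    (Even f.natDegree → (FunFld.conorm K (Finsupp.single Pinf 1)).deg = 2 ∧
      ∀ P : FunFld.Place k K, FunFld.IsOver P Pinf → FunFld.IsOverWith P Pinf 1) := by
  have hK : FunFld.IsFunctionField k (RatFunc k) := K666.RatPl.isFunctionField
  have hfin : FiniteDimensional (RatFunc k) K := Module.finite_of_finrank_eq_succ hdeg
  have hX : 1 < Pinf.1 (RatFunc.X : RatFunc k) := by rwa [K664.one_lt_val_iff_ord_neg]
  have hf0 : f ≠ 0 := hf.ne_zero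
  have hfK : algebraMap (Polynomial k) (RatFunc k) f ≠ 0 := by
    rw [Ne, FaithfulSMul.algebraMap_eq_zero_iff]; exact hf0
  have hordf : Pinf.ord (algebraMap (Polynomial k) (RatFunc k) f) = -(f.natDegree : ℤ) := by
    rw [K666.RatPl.inf_ord Pinf hX, RatFunc.intDegree_polynomial]
  have hdegP : Pinf.deg = 1 := K666.RatPl.inf_deg Pinf hX
  have hy := K666.Hyper.not_mem_range y f hf hd heq
  constructor
  · intro hodd
    have main := fun (P : FunFld.Place k K) hP => K666.QuadPl.ramIdx_eq_two hK hdeg P Pinf hP
      (algebraMap (Polynomial k) (RatFunc k) f)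
      (by rw [hordf]; exact (by exact_mod_cast hodd : Odd (f.natDegree : ℤ)).neg)
      (by rw [← heq, K664.ord_pow]; exact ⟨P.ord y, by push_cast; ring⟩)
    obtain ⟨P, hP⟩ := K666.Ext.exists_over (K' := K) hK Pinf
    refine ⟨⟨P, hP, fun P' hP' => (main P hP).2.2 P' hP'⟩, fun P' hP' => ⟨?_, ?_⟩⟩
    · have := K661.Place.isOverWith_ramIdx hP'
      rwa [(main P' hP').1] at this
    · rw [(main P' hP').2.1, hdegP]
  · rintro ⟨m, hm⟩
    constructor
    · rw [K666.Hyper.deg_conorm_single hK, hdeg, hdegP]; norm_num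
    · intro P hP
      obtain ⟨σ, hσ⟩ := K666.Hyper.exists_neg h2 hdeg y _ hy heq
      have hXK : algebraMap (RatFunc k) K RatFunc.X ≠ 0 := by
        rw [Ne, FaithfulSMul.algebraMap_eq_zero_iff]; exact RatFunc.X_ne_zero
      have hy0 : y ≠ 0 := by
        rintro rfl
        exact hy ⟨0, map_zero _⟩
      set u : K := y / (algebraMap (RatFunc k) K RatFunc.X) ^ m with hu
      have hXord : Pinf.ord (RatFunc.X : RatFunc k) = -1 := by
        rw [K666.RatPl.inf_ord Pinf hX, RatFunc.intDegree_X]
      have hu0 : u ≠ 0 := div_ne_zero hy0 (pow_ne_zero _ hXK)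
      have hordy : 2 * P.ord y = FunFld.ramIdx P Pinf * -(f.natDegree : ℤ) := by
        rw [← hordf, ← K661.Place.ord_algebraMap hP, ← heq, K664.ord_pow]; norm_num
      have hordu : P.ord u = 0 := by
        rw [hu, K664.ord_div P hy0 (pow_ne_zero _ hXK), K664.ord_pow,
          K661.Place.ord_algebraMap hP, hXord]
        rw [hm] at hordy
        push_cast at hordy
        linarith
      have hPu : P.1 u = 1 := by
        rw [K664.val_eq_exp P hu0, hordu, neg_zero, WithZero.exp_zero]
      have hσu : σ u - u = -(algebraMap k K 2 * u) := by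
        rw [hu, map_div₀, hσ, map_pow, AlgEquiv.commutes, map_ofNat]; ring
      have h1 := K666.QuadPl.ramIdx_eq_one hK hdeg P Pinf hP σ u hPu.le (by
        rw [hσu, Valuation.map_neg, map_mul, hPu, mul_one]
        exact K664.val_algebraMap P (K666.Hyper.two_ne_zero_of h2))
      have h5 := K661.Place.isOverWith_ramIdx hP
      rwa [h1] at h5

end Groth.Agent.S12516
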