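import Groth.Statements.S12517
import Groth.Agent.FunFld.K666.Quad
import Mathlib.FieldTheory.PurelyInseparable.Basic

set_option autoImplicit false
open FunFld

namespace Groth.Agent.S12517

/-- If `k` is perfect of characteristic `2` and `K` is a separable extension of degree `2` of the
rational function field `k(x)`, then `K = k(x)(y)` for some `y` with `y² + y = f(x)`, `f ∈ k(x)`.
The correspondence between such extensions and cosets of `{a² + a}` in `k(x)` is not stated. -/
theorem result (k K : Type*) [Field k] [Field K] [PerfectField k]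
    (h2 : ringChar k = 2) [Algebra (RatFunc k) K] (hdeg : Module.finrank (RatFunc k) K = 2)
    [Algebra.IsSeparable (RatFunc k) K] :
    ∃ (y : K) (f : RatFunc k), y ^ 2 + y = algebraMap (RatFunc k) K f ∧
      IntermediateField.adjoin (RatFunc k) ({y} : Set K) = ⊤ := by
  classical
  have : CharP k 2 := by rw [← h2]; exact ringChar.charP k
  have : CharP (RatFunc k) 2 := charP_of_injective_algebraMap (algebraMap k (RatFunc k)).injective 2
  have : CharP K 2 := charP_of_injective_algebraMap (algebraMap (RatFunc k) K).injective 2
  obtain ⟨z, hz⟩ := K666.Quad.exists_not_mem_range hdeg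
  obtain ⟨b, c, hbc⟩ := K666.Quad.exists_quadratic hdeg z
  have hb : b ≠ 0 := by
    rintro rfl
    -- z is purely inseparable
    rw [map_zero, zero_mul, add_zero] at hbc
    apply hz
    have hsep : IsSeparable (RatFunc k) z := Algebra.IsSeparable.isSeparable _ z
    have hdvd : minpoly (RatFunc k) z ∣ Polynomial.X ^ 2 + Polynomial.C c := by
      apply minpoly.dvd
      simpa using hbc
    have hz2 : z ^ 2 = algebraMap (RatFunc k) K c := by
      have h := hbc
      rw [add_eq_zero_iff_eq_neg, CharTwo.neg_eq] at h
      exact h
    have hins : z ∈ (algebraMap (RatFunc k) K).range := by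
      have h1 : (minpoly (RatFunc k) z).natSepDegree = 1 := by
        rw [minpoly.natSepDegree_eq_one_iff_pow_mem 2]
        exact ⟨1, ⟨c, by rw [pow_one]; exact hz2.symm⟩⟩
      have h2 : (minpoly (RatFunc k) z).natSepDegree = (minpoly (RatFunc k) z).natDegree :=
        hsep.natSepDegree_eq_natDegree
      rw [h2] at h1
      exact minpoly.mem_range_of_degree_eq_one (RatFunc k) z
        (by rw [Polynomial.degree_eq_natDegree (minpoly.ne_zero (hsep.isIntegral)), h1]; rfl)
    exact hins
  have hbK : algebraMap (RatFunc k) K b ≠ 0 := by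
    rw [Ne, FaithfulSMul.algebraMap_eq_zero_iff]; exact hb
  refine ⟨z / algebraMap (RatFunc k) K b, c / b ^ 2, ?_, ?_⟩
  · have h := hbc
    rw [add_eq_zero_iff_eq_neg, CharTwo.neg_eq] at h
    rw [map_div₀, map_pow, ← h]
    field_simp
  · apply K666.Quad.adjoin_eq_top_of_finrank_two hdeg
    rintro ⟨v, hv⟩
    apply hz
    exact ⟨v * b, by rw [map_mul, hv, div_mul_cancel₀ _ hbK]⟩

end Groth.Agent.S12517
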