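import Groth.Statements.S12518
import Groth.Agent.S12517
import Groth.Agent.FunFld.K666.ASRed

set_option autoImplicit false
open FunFld

namespace Groth.Agent.S12518

/-- If `k` is perfect of characteristic `2` and `K` is a separable extension of degree `2` of `k(x)`,
then `K = k(x)(y)` for some `y` with `y² + y = f(x)` such that every pole of `f`, at any place of
`k(x)/k` including the infinite one, has odd order. -/
theorem result (k K : Type*) [Field k] [Field K] [PerfectField k] (h2 : ringChar k = 2)
    [Algebra k K] [Algebra (RatFunc k) K] [IsScalarTower k (RatFunc k) K]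
    (hdeg : Module.finrank (RatFunc k) K = 2) [Algebra.IsSeparable (RatFunc k) K] :
    ∃ (y : K) (f : RatFunc k), y ^ 2 + y = algebraMap (RatFunc k) K f ∧
      IntermediateField.adjoin (RatFunc k) ({y} : Set K) = ⊤ ∧
      ∀ P : FunFld.Place k (RatFunc k), P.ord f < 0 → Odd (P.ord f) := by
  have hch : CharP k 2 := by rw [← h2]; exact ringChar.charP k
  obtain ⟨y, f₀, hy, hadj⟩ := Groth.Agent.S12517.result k K h2 hdeg
  obtain ⟨a, ha⟩ := K666.ASRed.exists_odd_poles f₀
  have hchK : CharP K 2 :=
    charP_of_injective_ringHom ((algebraMap (RatFunc k) K).comp (algebraMap k (RatFunc k))).injective 2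
  refine ⟨y + algebraMap (RatFunc k) K a, f₀ + (a ^ 2 + a), ?_, ?_, ha⟩
  · rw [map_add, map_add, map_pow, ← hy]
    have : (2 : K) = 0 := CharTwo.two_eq_zero
    linear_combination (y * algebraMap (RatFunc k) K a) * this
  · apply K666.Quad.adjoin_eq_top_of_finrank_two hdeg
    rintro ⟨v, hv⟩
    have h3 : y ∈ (⊥ : IntermediateField (RatFunc k) K) := by
      rw [IntermediateField.mem_bot]
      exact ⟨v - a, by rw [map_sub, hv]; ring⟩
    have h4 : IntermediateField.adjoin (RatFunc k) ({y} : Set K) = ⊥ := by
      rw [IntermediateField.adjoin_simple_eq_bot_iff]; exact h3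
    rw [hadj] at h4
    have h5 : Module.finrank (RatFunc k) K = 1 := by
      rw [← IntermediateField.finrank_top', h4, IntermediateField.finrank_bot]
    omega

end Groth.Agent.S12518
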