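import Groth.Statements.S12520
import Groth.Agent.S11002
import Groth.Agent.FunFld.K660.Sep

set_option autoImplicit false
universe u v
open FunFld

namespace Groth.Agent.S12520

/-- For a geometric function field of one variable `K/k` of characteristic `p > 0` and a geometric
function field `K₀/k₀` with `K₀ ⊆ K` of finite index (and `k₀ ⊆ k` compatibly), the map `Ω_{K₀/k₀} →
Ω_{K/k}` induced by the inclusion vanishes when `K₀ ⊆ kK^p` and is injective otherwise. -/
theorem result (k₀ k : Type u) (K₀ K : Type v) [Field k₀] [Field k] [Field K₀] [Field K]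
    [Algebra k₀ k] [Algebra k₀ K₀] [Algebra k₀ K] [Algebra k K] [Algebra K₀ K]
    [IsScalarTower k₀ k K] [IsScalarTower k₀ K₀ K] [FiniteDimensional K₀ K]
    (p : ℕ) [Fact p.Prime] [CharP K p]
    (hK : FunFld.IsFunctionField k K) (hg : FunFld.IsGeometric k K)
    (hK₀ : FunFld.IsFunctionField k₀ K₀) (hg₀ : FunFld.IsGeometric k₀ K₀) :
    (Set.range (algebraMap K₀ K) ⊆ ↑(IntermediateField.adjoin k (Set.range fun y : K => y ^ p)) →
      KaehlerDifferential.map k₀ k K₀ K = 0) ∧
    (¬ Set.range (algebraMap K₀ K) ⊆ ↑(IntermediateField.adjoin k (Set.range fun y : K => y ^ p)) →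
      Function.Injective (KaehlerDifferential.map k₀ k K₀ K)) := by
  have hcase : ∀ x : K, x ∈ IntermediateField.adjoin k (Set.range fun y : K => y ^ p) ↔
      KaehlerDifferential.D k K x = 0 := fun x => (Groth.Agent.S11002.result k K p hK hg x).1
  constructor
  · intro hsub
    ext x
    have hx : KaehlerDifferential.map k₀ k K₀ K (KaehlerDifferential.D k₀ K₀ x) = 0 := by
      rw [KaehlerDifferential.map_D, (hcase _).mp (hsub ⟨x, rfl⟩)]
    simpa using hx
  · intro hnot
    obtain ⟨_, ⟨y, rfl⟩, hy⟩ := Set.not_subset.mp hnot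
    have hDy : KaehlerDifferential.D k K (algebraMap K₀ K y) ≠ 0 := fun h => hy ((hcase _).mpr h)
    have h1 : Module.finrank K₀ (KaehlerDifferential k₀ K₀) = 1 := by
      obtain ⟨t, ht, hsep⟩ := K660.Sep.exists_isSeparable hK₀ hg₀
      exact K660.Sep.finrank_kaehler ht hsep
    have hDy0 : KaehlerDifferential.D k₀ K₀ y ≠ 0 := by
      intro h
      apply hDy
      rw [← KaehlerDifferential.map_D k₀ k K₀ K, h, map_zero]
    rw [injective_iff_map_eq_zero]
    intro ω hω
    obtain ⟨a, rfl⟩ := (finrank_eq_one_iff_of_nonzero' _ hDy0).1 h1 ω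
    rw [map_smul, KaehlerDifferential.map_D, ← algebraMap_smul K a, smul_eq_zero] at hω
    rcases hω with h | h
    · rw [FaithfulSMul.algebraMap_eq_zero_iff] at h
      rw [h, zero_smul]
    · exact absurd h hDy

end Groth.Agent.S12520
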