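import Groth.Statements.S12521
import Groth.Agent.FunFld.K662.Inertia

set_option autoImplicit false
open FunFld

namespace Groth.Agent.S12521

/-- For a finite Galois extension `K'/K` of a geometric function field of one variable, a place `Q` of
`K'` with residue field separable over `k`, and `K₁` the inertia field of `Q` (fixed field of the
inertia group), `K'/K₁` is totally ramified at `Q`: the place of `K₁` under `Q` has ramification
index `[K' : K₁]`. (The published hypothesis is that the residue field of `Q` is separable over the
residue field of the place of `K` below `Q`; this row assumes the stronger condition that the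
residue field of `Q` is separable over `k`.) -/
theorem result (k K K' : Type*) [Field k] [Field K] [Field K'] [Algebra k K] [Algebra K K'] [Algebra k K']
    [IsScalarTower k K K'] [FiniteDimensional K K'] (hK : FunFld.IsFunctionField k K) (hg : FunFld.IsGeometric k K)
    [IsGalois K K'] (Q : FunFld.Place k K') [Algebra.IsSeparable k (IsLocalRing.ResidueField Q.O)] :
    let K₁ : IntermediateField K K' := IntermediateField.fixedField
        (((Q.O).inertiaSubgroup K).map ((Q.O).decompositionSubgroup K).subtype)
    ∃ Q₁ : FunFld.Place k K₁, FunFld.IsOverWith Q Q₁ (Module.finrank K₁ K') := by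
  intro K₁
  have t1 : IsScalarTower k K₁ K' := IsScalarTower.of_algebraMap_eq fun _ => rfl
  have t0 : IsScalarTower k K K₁ := IsScalarTower.of_algebraMap_eq fun c => Subtype.ext (IsScalarTower.algebraMap_apply k K K' c)
  have hfd : FiniteDimensional K₁ K' := inferInstance
  have hgal : IsGalois K₁ K' := inferInstance
  obtain ⟨t, ht⟩ := K660.Places.exists_isGen hK
  have hG : ∃ t : K₁, K660.Places.IsGen k K₁ t := ⟨_, K661.OverFF.isGen_algebraMap ht⟩
  obtain ⟨Q₁, e, he⟩ := K661.Place.exists_below (K := K₁) Q
  refine ⟨Q₁, ?_⟩
  have hcard := K662.Inertia.card_inertia' hG he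
  -- every automorphism over `K₁` is in the inertia group
  have hin : ∀ σ : K' ≃ₐ[K₁] K', ∃ τ ∈ (Q.O).inertiaSubgroup K, ∀ x, σ x = τ.1 x := by
    intro σ
    have h1 : σ.restrictScalars K ∈ K₁.fixingSubgroup := by
      rw [IntermediateField.mem_fixingSubgroup_iff]
      intro x hx
      exact σ.commutes ⟨x, hx⟩
    rw [IntermediateField.fixingSubgroup_fixedField] at h1
    obtain ⟨τ, hτ, hτ2⟩ := h1
    refine ⟨τ, hτ, fun x => ?_⟩
    have := DFunLike.congr_fun hτ2 x
    exact this.symm
  have hdec : (Q.O).decompositionSubgroup K₁ = ⊤ := by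
    rw [eq_top_iff]
    intro σ _
    rw [K662.Galois.mem_decomp_iff]
    obtain ⟨τ, hτ, h2⟩ := hin σ
    intro x
    rw [h2]
    exact K662.Galois.mem_decomp_iff.1 τ.2 x
  have hine : (Q.O).inertiaSubgroup K₁ = ⊤ := by
    rw [eq_top_iff]
    intro σ _
    rw [K662.Galois.mem_inertia_iff]
    obtain ⟨τ, hτ, h2⟩ := hin σ.1
    intro x hx
    rw [h2]
    exact K662.Galois.mem_inertia_iff.1 hτ x hx
  rw [hine, Subgroup.card_top, hdec, Subgroup.card_top, IsGalois.card_aut_eq_finrank] at hcard
  rw [hcard]
  exact he

end Groth.Agent.S12521
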