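import Groth.Statements.S12526
import Groth.Agent.FunFld.K666.ConstR

set_option autoImplicit false
universe u v
open FunFld

namespace Groth.Agent.S12526

/-- Let `K/k` be a geometric function field of one variable, `P` a place of `K`, `k'/k` finite and `K' =
k' ⊗_k K`; let `R` be the integral closure of `O_P` in `K'` and `R̃ = k' ⊗_k O_P = O_P[k']`. Then
`R/R̃` is finite-dimensional over `k`, and `R̃` contains a nonzero ideal of `R`. -/
theorem result (k k' : Type u) (K K' : Type v) [Field k] [Field k'] [Field K] [Field K']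
    [Algebra k k'] [FiniteDimensional k k'] [Algebra k K] [Algebra K K'] [Algebra k' K'] [Algebra k K']
    [IsScalarTower k k' K'] [IsScalarTower k K K']
    (h : Function.Bijective (Algebra.TensorProduct.productMap
      (IsScalarTower.toAlgHom k k' K') (IsScalarTower.toAlgHom k K K')))
    (hK : FunFld.IsFunctionField k K) (hg : FunFld.IsGeometric k K)
    (P : FunFld.Place k K) [Algebra P.O K'] [IsScalarTower P.O K K'] :
    (∃ V : Submodule k K', FiniteDimensional k V ∧ ∀ r ∈ integralClosure P.O K',
        ∃ s ∈ Algebra.adjoin P.O (Set.range (algebraMap k' K')), r - s ∈ V) ∧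
    (∃ c ∈ integralClosure P.O K', c ≠ 0 ∧ ∀ r ∈ integralClosure P.O K',
        c * r ∈ Algebra.adjoin P.O (Set.range (algebraMap k' K'))) := by
  refine ⟨K666.ConstR.exists_finite_complement h hK P, ?_⟩
  obtain ⟨t, ht⟩ := K664.exists_uniformizer P
  obtain ⟨n, hn⟩ := K666.ConstR.exists_conductor h hK P t ht
  have htn : P.1 (t ^ n) = WithZero.exp (-(n : ℤ)) := by
    rw [map_pow, ht, ← WithZero.exp_nsmul]; simp
  have ht0 : t ^ n ≠ 0 := by
    intro h0; rw [h0, map_zero] at htn; exact WithZero.exp_ne_zero htn.symm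
  have hle : P.1 (t ^ n) ≤ 1 := by
    rw [htn, ← WithZero.exp_zero, WithZero.exp_le_exp]; omega
  refine ⟨algebraMap K K' (t ^ n), ?_, ?_, fun r hr => hn r hr⟩
  · have : algebraMap K K' (t ^ n) = algebraMap P.O K' ⟨_, hle⟩ :=
      (IsScalarTower.algebraMap_apply P.O K K' ⟨_, hle⟩).symm
    rw [this]
    exact isIntegral_algebraMap
  · rw [Ne, FaithfulSMul.algebraMap_eq_zero_iff]; exact ht0

end Groth.Agent.S12526
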