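import Groth.Statements.S12527
import Groth.Agent.FunFld.K666.DualAdj

set_option autoImplicit false
universe u v
open scoped TensorProduct
open FunFld

namespace Groth.Agent.S12527

/-- A geometric function field of one variable `K/k` has at most finitely many singular places, i.e.
places `P` for which, for some finite extension `k'/k`, the integral closure of `O_P` in `k' ⊗_k K`
is strictly larger than `k' ⊗_k O_P`. The existence of a purely inseparable finite `k'` making `k'
⊗_k K` nonsingular is not stated. -/
theorem result (k : Type u) (K : Type v) [Field k] [Field K] [Algebra k K]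
    (hK : FunFld.IsFunctionField k K) (hg : FunFld.IsGeometric k K) :
    {P : FunFld.Place k K | ∃ (k' : Type u) (_ : Field k') (_ : Algebra k k'), FiniteDimensional k k' ∧
      integralClosure (P.O.toSubring.map (Algebra.TensorProduct.includeRight : K →ₐ[k] k' ⊗[k] K).toRingHom) (k' ⊗[k] K) ≠
        Algebra.adjoin (P.O.toSubring.map (Algebra.TensorProduct.includeRight : K →ₐ[k] k' ⊗[k] K).toRingHom)
          (Set.range (Algebra.TensorProduct.includeLeftRingHom : k' →+* k' ⊗[k] K))}.Finite := by
  obtain ⟨d⟩ := K666.DualAdj.exists_data hK hg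
  refine d.finite_bad.subset ?_
  rintro P ⟨k', _, _, hfin, hne⟩ ⟨ht, hδ⟩
  apply hne
  have hF : IsField (k' ⊗[k] K) := hg k' hfin
  have hnt : Nontrivial (k' ⊗[k] K) := hF.nontrivial
  rw [K666.IntOver.eq_adjoin_iff]
  · intro z hz
    letI F : Field (k' ⊗[k] K) := hF.toField
    letI a1 : Algebra K (k' ⊗[k] K) := (Algebra.TensorProduct.includeRight : K →ₐ[k] k' ⊗[k] K).toRingHom.toAlgebra
    haveI s1 : IsScalarTower k K (k' ⊗[k] K) := IsScalarTower.of_algebraMap_eq fun c => by
      exact ((Algebra.TensorProduct.includeRight : K →ₐ[k] k' ⊗[k] K).commutes c).symm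
    refine d.mem_closure (k' := k') (K' := k' ⊗[k] K) ?_ P ht hδ hz
    have hid : ∀ w : k' ⊗[k] K, K661.Scalar.mulMap k k' K (k' ⊗[k] K) w = w := by
      intro w
      induction w with
      | zero => exact map_zero _
      | add a b ha hb => rw [map_add, ha, hb]
      | tmul c x =>
        rw [K661.Scalar.mulMap_tmul]
        change (c ⊗ₜ[k] (1 : K)) * ((1 : k') ⊗ₜ[k] x) = _
        rw [Algebra.TensorProduct.tmul_mul_tmul, mul_one, one_mul]
    exact ⟨fun a b hab => by rw [← hid a, hab, hid], fun w => ⟨w, hid w⟩⟩
  · rintro _ ⟨c, rfl⟩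
    refine K666.IntOver.intOver_of_isIntegral (k := k) (fun c => P.2.1 c) _ (fun c => ?_) ?_
    · exact (Algebra.TensorProduct.includeRight : K →ₐ[k] k' ⊗[k] K).commutes c
    · exact (Algebra.IsIntegral.isIntegral (R := k) c).map
        (Algebra.TensorProduct.includeLeft : k' →ₐ[k] k' ⊗[k] K)

end Groth.Agent.S12527
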