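import Groth.Statements.S12532
import Groth.Agent.FunFld.K665.Nonsing
import Groth.Agent.FunFld.K665.MapDiv
import Groth.Agent.FunFld.K665.FiniteIC
import Groth.Agent.FunFld.K664.Basic

set_option autoImplicit false
open FunFld

namespace Groth.Agent.S12532

/-- Over an algebraically closed field `k`, let `φ = (φ₀, …, φₙ)`, `n ≥ 1`, be a birational projective
map of the function field `K/k` and `P` a place with image point `a = φ(P)`. Then for some `N`,
every `z ∈ K` with `ord_Q z ≥ N` at all places `Q` over `a` belongs to the local ring `O_a` of `φ`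
at `P` (quotients of polynomials in the ratios `φᵢ/φⱼ` with denominator a unit at `P`). (The
published statement asserts that each nonzero ideal of `O_a` includes some nonzero ideal of the
integral closure `R_a`, with `R_a/I` finite-dimensional; this row states the inclusion the printed
proof establishes, from which those follow.) -/
theorem result (k K : Type*) [Field k] [IsAlgClosed k] [Field K] [Algebra k K]
    (hK : FunFld.IsFunctionField k K) {n : ℕ} (hn : 1 ≤ n)
    (φ : Fin (n + 1) → K) (hφ : LinearIndependent k φ)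
    (hbir : IntermediateField.adjoin k (Set.range fun i => φ i / φ 0) = ⊤) (P : FunFld.Place k K) :
    ∃ N : ℕ, ∀ z : K, (∀ Q : FunFld.Place k K, FunFld.SameImage φ P Q → Q.1 z ≤ WithZero.exp (-(N : ℤ))) →
      FunFld.InLocRing φ P z := by
  classical
  have hφ0 : ∀ i, φ i ≠ 0 := fun i => hφ.ne_zero i
  obtain ⟨j, hj0, hj⟩ := K665.LocRing.exists_min_entry φ P 0 (hφ0 0)
  obtain ⟨d, hd, hd0, hcond⟩ := K665.FiniteIC.exists_conductor hK (K665.LocRing.chart (k := k) φ j)
    (K665.Nonsing.chart_fg φ j) (K665.Nonsing.chart_frac φ hj0 hbir)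
  have hfin := K665.MapDiv.finite_fibre hK hn φ hφ P
  refine ⟨hfin.toFinset.sup (fun Q => (Q.ord d).toNat), fun z hz => ?_⟩
  rw [K665.LocRing.inLocRing_iff φ P hj0 hj]
  have h1 := hcond P (z / d) (fun Q hQ => by
    have hsame : FunFld.SameImage φ P Q := by
      apply K665.Nonsing.sameImage_of_le hK φ hφ0 P Q
      intro w hw
      exact hQ w ((K665.LocRing.inLocRing_iff φ P hj0 hj w).mp hw)
    have h2 := hz Q hsame
    have h3 : (Q.ord d).toNat ≤ hfin.toFinset.sup (fun Q => (Q.ord d).toNat) :=
      Finset.le_sup (f := fun Q : FunFld.Place k K => (Q.ord d).toNat) (by simpa using hsame)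
    rw [map_div₀]
    have hQd : Q.1 d = WithZero.exp (-(Q.ord d)) := K664.val_eq_exp Q hd0
    rw [hQd]
    rw [div_le_one₀ (by simp)]
    refine h2.trans ?_
    rw [WithZero.exp_le_exp]
    omega)
  rwa [mul_div_cancel₀ _ hd0] at h1

end Groth.Agent.S12532
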