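import Groth.Statements.S12534
import Groth.Agent.FunFld.K666.NsTower

set_option autoImplicit false
universe u v
open FunFld

namespace Groth.Agent.S12534

/-- Let `K/k` be a geometric function field of one variable, `P` a place of `K`, and `k ⊆ k' ⊆ k''`
finite extensions, `K' = k' ⊗_k K`, `K'' = k'' ⊗_{k'} K'`. Then `P` is nonsingular with respect to
`k''` if and only if `P` is nonsingular with respect to `k'` and every place `Q` of `K'` above `P`
is nonsingular with respect to `k''`. Here 'nonsingular with respect to `k'`' means that the
integral closure of the valuation ring in `K'` is the ring generated over it by `k'`, both taken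
inside `K'` over the image of the valuation ring. -/
theorem result (k k' k'' : Type u) (K K' K'' : Type v) [Field k] [Field k'] [Field k''] [Field K] [Field K'] [Field K'']
    [Algebra k k'] [Algebra k' k''] [Algebra k k''] [IsScalarTower k k' k'']
    [FiniteDimensional k k'] [FiniteDimensional k' k'']
    [Algebra k K] [Algebra K K'] [Algebra k' K'] [Algebra k K'] [IsScalarTower k k' K'] [IsScalarTower k K K']
    [Algebra K' K''] [Algebra k'' K''] [Algebra k' K''] [Algebra k K''] [Algebra K K'']
    [IsScalarTower k' k'' K''] [IsScalarTower k' K' K''] [IsScalarTower K K' K''] [IsScalarTower k K K'']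
    (h1 : Function.Bijective (Algebra.TensorProduct.productMap
      (IsScalarTower.toAlgHom k k' K') (IsScalarTower.toAlgHom k K K')))
    (h2 : Function.Bijective (Algebra.TensorProduct.productMap
      (IsScalarTower.toAlgHom k' k'' K'') (IsScalarTower.toAlgHom k' K' K'')))
    (hK : FunFld.IsFunctionField k K) (hg : FunFld.IsGeometric k K) (P : FunFld.Place k K) :
    (integralClosure (P.O.toSubring.map (algebraMap K K'')) K'' =
        Algebra.adjoin (P.O.toSubring.map (algebraMap K K'')) (Set.range (algebraMap k'' K''))) ↔
      (integralClosure (P.O.toSubring.map (algebraMap K K')) K' =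
          Algebra.adjoin (P.O.toSubring.map (algebraMap K K')) (Set.range (algebraMap k' K')) ∧
        ∀ Q : FunFld.Place k K', FunFld.IsOver Q P →
          integralClosure (Q.O.toSubring.map (algebraMap K' K'')) K'' =
            Algebra.adjoin (Q.O.toSubring.map (algebraMap K' K'')) (Set.range (algebraMap k'' K''))) := by
  have t1 : IsScalarTower k k'' K'' := IsScalarTower.of_algebraMap_eq fun c => by
    rw [IsScalarTower.algebraMap_apply k K K'', IsScalarTower.algebraMap_apply K K' K'',
      ← IsScalarTower.algebraMap_apply k K K', IsScalarTower.algebraMap_apply k k' K',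
      ← IsScalarTower.algebraMap_apply k' K' K'', IsScalarTower.algebraMap_apply k' k'' K'',
      ← IsScalarTower.algebraMap_apply k k' k'']
  have hfd : FiniteDimensional K K' := by
    obtain ⟨B', -⟩ := K666.IntOver.exists_basis (K := K) (K' := K') (Module.finBasis k k') h1
    exact Module.Finite.of_basis B'
  have hkk : FiniteDimensional k k'' := FiniteDimensional.trans k k' k''
  have hkP : ∀ c : k, algebraMap k K c ∈ P.O.toSubring := fun c => P.2.1 c
  rw [K666.IntOver.eq_adjoin_iff, K666.IntOver.eq_adjoin_iff]
  · have h3 : (∀ Q : FunFld.Place k K', FunFld.IsOver Q P →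
          integralClosure (Q.O.toSubring.map (algebraMap K' K'')) K'' =
            Algebra.adjoin (Q.O.toSubring.map (algebraMap K' K'')) (Set.range (algebraMap k'' K''))) ↔
        ∀ Q : FunFld.Place k K', FunFld.IsOver Q P →
          ∀ z : K'', K666.IntOver.IntOver Q.O.toSubring (algebraMap K' K'') z →
          z ∈ Subring.closure (algebraMap K' K'' '' Q.O.toSubring ∪
            Set.range (algebraMap k'' K'')) := by
      refine forall_congr' fun Q => forall_congr' fun hQ => ?_
      rw [K666.IntOver.eq_adjoin_iff]
      rintro _ ⟨c, rfl⟩
      have hkQ : ∀ c : k, algebraMap k K' c ∈ Q.O.toSubring := fun c => Q.2.1 c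
      have t2 : IsScalarTower k K' K'' := IsScalarTower.of_algebraMap_eq fun c => by
        rw [IsScalarTower.algebraMap_apply k K K'', IsScalarTower.algebraMap_apply K K' K'',
          ← IsScalarTower.algebraMap_apply k K K']
      exact K666.IntOver.intOver_of_isIntegral hkQ (algebraMap K' K'')
        (fun c => (IsScalarTower.algebraMap_apply k K' K'' c).symm)
        (Algebra.IsIntegral.isIntegral (R := k) c).algebraMap
    rw [h3]
    exact K666.NsTower.main h1 h2 hK P
  · rintro _ ⟨c, rfl⟩
    exact K666.IntOver.intOver_of_isIntegral hkP (algebraMap K K')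
      (fun c => (IsScalarTower.algebraMap_apply k K K' c).symm)
      (Algebra.IsIntegral.isIntegral (R := k) c).algebraMap
  · rintro _ ⟨c, rfl⟩
    exact K666.IntOver.intOver_of_isIntegral hkP (algebraMap K K'')
      (fun c => (IsScalarTower.algebraMap_apply k K K'' c).symm)
      (Algebra.IsIntegral.isIntegral (R := k) c).algebraMap

end Groth.Agent.S12534
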