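import Groth.Statements.S12535
import Groth.Agent.FunFld.K666.Hyper

set_option autoImplicit false
open FunFld

namespace Groth.Agent.S12535

/-- Let `char k ≠ 2`, `K` of degree `2` over `k(x)`, and `y ∈ K` with `y² = f(x)`, `f` a squarefree
polynomial of degree `≥ 1`. Then a place `P` of `K` is a zero of `y` exactly when it lies over a
finite place of `k(x)` where `f` has a zero, and in that case `ord_P(y) = 1`: the divisor of zeros
of `y` is `Σ P_i`, one place over each irreducible factor of `f`, with multiplicity one. -/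
theorem result (k K : Type*) [Field k] [Field K] (h2 : ringChar k ≠ 2) [Algebra k K]
    [Algebra (RatFunc k) K] [IsScalarTower k (RatFunc k) K]
    (hdeg : Module.finrank (RatFunc k) K = 2) (y : K) (f : Polynomial k) (hf : Squarefree f)
    (hd : 1 ≤ f.natDegree)
    (heq : y ^ 2 = algebraMap (RatFunc k) K (algebraMap (Polynomial k) (RatFunc k) f)) (P : FunFld.Place k K) :
    (0 < P.ord y → P.ord y = 1) ∧
    (0 < P.ord y ↔ ∃ P₀ : FunFld.Place k (RatFunc k), FunFld.IsOver P P₀ ∧ 0 ≤ P₀.ord (RatFunc.X : RatFunc k) ∧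
      0 < P₀.ord (algebraMap (Polynomial k) (RatFunc k) f)) := by
  have hK : FunFld.IsFunctionField k (RatFunc k) := K666.RatPl.isFunctionField
  have hfin : FiniteDimensional (RatFunc k) K := Module.finite_of_finrank_eq_succ hdeg
  have hf0 : f ≠ 0 := hf.ne_zero
  have hfK : algebraMap (Polynomial k) (RatFunc k) f ≠ 0 := by
    rw [Ne, FaithfulSMul.algebraMap_eq_zero_iff]; exact hf0
  obtain ⟨P₀, hP₀⟩ := K661.Place.exists_below (K := RatFunc k) P
  have he1 := K661.Place.ramIdx_pos hP₀
  have he2 := K666.Ext.ramIdx_le hK P₀ P hP₀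
  rw [hdeg] at he2
  have hord : ∀ P₁ : FunFld.Place k (RatFunc k), FunFld.IsOver P P₁ →
      2 * P.ord y = FunFld.ramIdx P P₁ * P₁.ord (algebraMap (Polynomial k) (RatFunc k) f) := by
    intro P₁ hP₁
    rw [← K661.Place.ord_algebraMap hP₁, ← heq, K664.ord_pow]; norm_num
  have key : 0 < P.ord y → P.ord y = 1 ∧ 0 ≤ P₀.ord (RatFunc.X : RatFunc k) ∧
      0 < P₀.ord (algebraMap (Polynomial k) (RatFunc k) f) := by
    intro hpos
    have h1 := hord P₀ hP₀
    rcases lt_or_ge 1 (P₀.1 (RatFunc.X : RatFunc k)) with hX | hX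
    · exfalso
      rw [K666.RatPl.inf_ord P₀ hX, RatFunc.intDegree_polynomial] at h1
      have h2 : (FunFld.ramIdx P P₀ : ℤ) * -(f.natDegree : ℤ) ≤ 0 := by
        have : (0 : ℤ) ≤ (FunFld.ramIdx P P₀ : ℤ) * (f.natDegree : ℤ) := by positivity
        linarith
      omega
    · obtain ⟨π, hπ, hπ1, hπ2⟩ := K666.RatPl.fin_exists P₀ hX
      obtain ⟨n, q, hq, hfq⟩ := WfDvdMonoid.max_power_factor hf0 hπ
      have hn : n ≤ 1 := by
        by_contra hcon
        push Not at hcon
        exact hπ.not_isUnit (hf π ((pow_two π ▸ pow_dvd_pow π hcon).trans ⟨q, hfq⟩))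
      have hv := K666.RatPl.fin_val P₀ hπ1 hπ2 f q n hq hfq
      have ho : P₀.ord (algebraMap (Polynomial k) (RatFunc k) f) = n := by
        rw [FunFld.Place.ord, hv, WithZero.log_exp, neg_neg]
      rw [ho] at h1 ⊢
      have hX' : 0 ≤ P₀.ord (RatFunc.X : RatFunc k) := by
        rwa [← K664.val_le_one_iff_ord_nonneg]
      interval_cases n
      · push_cast at h1; omega
      · push_cast at h1
        refine ⟨by omega, hX', by norm_num⟩
  refine ⟨fun h => (key h).1, fun h => ⟨P₀, hP₀, (key h).2⟩, ?_⟩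
  rintro ⟨P₁, hP₁, -, hpos⟩
  have h1 := hord P₁ hP₁
  have h2 := K661.Place.ramIdx_pos hP₁
  have h3 : 0 < (FunFld.ramIdx P P₁ : ℤ) * P₁.ord (algebraMap (Polynomial k) (RatFunc k) f) :=
    mul_pos (by exact_mod_cast h2) hpos
  omega

end Groth.Agent.S12535
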