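import Groth.Statements.S12536
-- import your own Groth.Agent.* helpers here
import Groth.Agent.Dual3.K478.CurveInj
import Groth.Agent.Dual.H342.HypField
import Groth.Agent.Dual.H342.NormSch

set_option autoImplicit false
universe u
open CategoryTheory CategoryTheory.Limits AlgebraicGeometry Opposite
attribute [local instance] HasDerivedCategory.standard
open Dual3

namespace Groth.Agent.S12536

/-- Let `X` be proper and reduced over a field `k`, of pure dimension `1`, with dualizing module `ω =
H^{-1}(a(O))` (`a` right adjoint to `Rf_*` on `D_QCoh`, `O` the structure sheaf of `Spec k` in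
degree `0`), and let `U ⊆ X` be an open subscheme containing every non-closed point. Then `ω →
j_*(ω|_U)` is injective: for every open `V`, restriction of sections `ω(V) → ω(V ∩ U)` is injective.
(The published statement takes `U` to be the dense open smooth locus of a generically smooth `X`;
this row allows any open `U` containing the generic points, which is what the printed proof uses:
the kernel is supported at finitely many closed points.) -/
theorem result (k : Type u) [Field k] (X : Scheme.{u}) (f : X ⟶ Spec (CommRingCat.of k))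
    [IsProper f] [IsReduced X]
    (hdim : ∀ Z ∈ irreducibleComponents X, topologicalKrullDim ↥Z = (1 : WithBot ℕ∞))
    [DCoh.HasRpush f] (hf : DCoh.RpushPreservesQCoh f)
    (a : DCoh.DQCoh (Spec (CommRingCat.of k)) ⥤ DCoh.DQCoh X) (adj : DCoh.RpushQ f hf ⊣ a)
    (O : DCoh.DQCoh (Spec (CommRingCat.of k)))
    (hO : Nonempty (O.obj ≅ DCoh.inD (Spec (CommRingCat.of k)) (Coh.structureModule (Spec (CommRingCat.of k)))))
    (U : X.Opens) (hU : ∀ x : X, ¬ IsClosed ({x} : Set X) → x ∈ U) (V : X.Opens) :
    Function.Injective ((DCoh.HD (a.obj O).obj (-(1 : ℤ))).presheaf.map (homOfLE (inf_le_left : V ⊓ U ≤ V)).op) := by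
  have hK := Groth.Agent.Dual.H342.HypField.hyp k X f hf a adj O hO
  have : CompactSpace X := QuasiCompact.compactSpace_of_compactSpace f
  have : IsLocallyNoetherian X := LocallyOfFiniteType.isLocallyNoetherian f
  have hcoh : Coh.IsCoh (DCoh.HD (a.obj O).obj (-(1 : ℤ))) :=
    Groth.Agent.Dual.H342.HypField.isCohD k X f hf a adj O hO _
  have hle : topologicalKrullDim X ≤ ((1 : ℕ) : WithBot ℕ∞) := by
    by_contra hcon
    have h2 : ((2 : ℕ) : WithBot ℕ∞) ≤ topologicalKrullDim X := by
      have h3 := ENat.WithBot.add_one_le_iff.2 (not_le.1 hcon)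
      exact_mod_cast h3
    have h3 : ((2 : ℕ) : WithBot ℕ∞) ≤ topologicalKrullDim (Set.univ : Set X) := by
      rw [IsHomeomorph.topologicalKrullDim_eq _ (Homeomorph.Set.univ X).isHomeomorph]
      exact h2
    obtain ⟨t, -, ht⟩ := Groth.Agent.Dual.H342.TopChain.exists_chain_of_dim Set.univ
      isClosed_univ 2 h3
    obtain ⟨Z, hZ, hqZ⟩ := exists_mem_irreducibleComponents_subset_of_isIrreducible
      (closure {t 0}) isIrreducible_singleton.closure
    have hmem : ∀ i, t i ∈ Z := fun i => by
      refine hqZ (specializes_iff_mem_closure.1 ?_)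
      rcases (Fin.zero_le i).lt_or_eq with h | h
      · exact (ht 0 i h).1
      · rw [← h]
    have h4 := Groth.Agent.Dual.H342.TopChain.le_topologicalKrullDim_subset Z 2 t hmem ht
    rw [hdim Z hZ] at h4
    have h5 : (2 : ℕ) ≤ 1 := by exact_mod_cast h4
    omega
  refine K478.CurveInj.injective_restrict _ hcoh
    (Groth.Agent.Dual.H342.NormSch.hasSk_two hK 1 hle) (fun x hx => ?_) U hU V
  obtain ⟨Z, hZ, hxZ⟩ := exists_mem_irreducibleComponents_subset_of_isIrreducible
    ({x} : Set X) isIrreducible_singleton
  have hZcl : IsClosed Z := isClosed_of_mem_irreducibleComponents Z hZ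
  obtain ⟨ξ, hξ⟩ := QuasiSober.sober hZ.1 hZcl
  have hξx : ξ ⤳ x := by
    rw [specializes_iff_mem_closure, hξ.def]
    exact hxZ rfl
  refine ⟨ξ, hξx, ?_, ?_⟩
  · rintro rfl
    have h6 : Z = {ξ} := by rw [← hξ.def, hx.closure_eq]
    have h7 := hdim Z hZ
    have : DiscreteTopology Z := by
      have : Subsingleton Z := by rw [h6]; infer_instance
      infer_instance
    have h8 := topologicalKrullDim_zero_of_discreteTopology Z
    rw [h7] at h8
    have h9 : (1 : ℕ) ≤ 0 := by exact_mod_cast h8
    omega
  · have hd : topologicalKrullDim X = ((1 : ℕ) : WithBot ℕ∞) := by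
      refine le_antisymm hle ?_
      have h6 := topologicalKrullDim_subspace_le X Z
      rw [hdim Z hZ] at h6
      exact_mod_cast h6
    have h6 := Groth.Agent.Dual.H342.NormSch.support_lowest_eq hK 1 hd
    have h7 : ξ ∈ {x : X | Nontrivial ((DCoh.HD (a.obj O).obj (-((1 : ℕ) : ℤ))).presheaf.stalk x)} := by
      rw [h6]
      refine Set.mem_iUnion₂.2 ⟨Z, ⟨hZ, ?_⟩, ?_⟩
      · rw [hdim Z hZ]; rfl
      · have := hξ.mem
        exact this
    exact h7

end Groth.Agent.S12536
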