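import Groth.Statements.S19603
import Groth.Agent.InvQ.K701.Orbit3
import Groth.Agent.GIT.K691.HomogInv

set_option autoImplicit false
universe u
open GIT

namespace Groth.Agent.S19603

/-- For the whole projective space U = P(V), let k be an algebraically closed field of arbitrary
characteristic and G = Spec A a linearly reductive affine algebraic group acting linearly on affine
ι-space, and let v be a vector. Then some invariant homogeneous polynomial of positive degree is
non-zero at v (the point of v is semistable) if and only if the origin is not in the closure of the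
orbit of v. -/
theorem result (k : Type u) [Field k] [IsAlgClosed k]
    (A : Type u) [CommRing A] [HopfAlgebra k A] [Algebra.FiniteType k A] (hG : HopfRep.IsLinearlyReductive k A)
    (ι : Type u) [Fintype ι] [HopfRep.Comod k A (MvPolynomial ι k)] [GLin.IsCoactAlg k A (MvPolynomial ι k)]
    (hlin : GLin.IsLinear k A ι) (v : ι → k) :
    GLin.IsSemistableVec k A v ↔
      ¬ GLin.InOrbitClosure k A (GLin.vecPt k ι v) (GLin.vecPt k ι (fun _ => (0 : k))) := by
  have hinv : ∀ (x z : MvPolynomial ι k →ₐ[k] k), GLin.InOrbitClosure k A x z →
      ∀ f ∈ GLin.invariants k A (MvPolynomial ι k), z f = x f := by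
    intro x z hz f hf
    exact K701.Orbit.eq_of_ker_orbitHom_le x z (fun g hg => hz hg) hf
  have hzero : ∀ (F : MvPolynomial ι k) (d : ℕ), 0 < d → F.IsHomogeneous d →
      GLin.vecPt k ι (fun _ => (0 : k)) F = 0 := by
    intro F d hd hF
    have h1 : GLin.vecPt k ι (fun _ => (0 : k)) F = MvPolynomial.eval (fun _ => (0 : k)) F := by
      rw [GLin.vecPt, MvPolynomial.aeval_eq_eval]
    rw [h1]
    have h3 : MvPolynomial.eval (fun _ => (0 : k)) F = MvPolynomial.constantCoeff F := by
      have := MvPolynomial.eval_zero (σ := ι) (R := k)
      exact congrArg (fun φ => φ F) this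
    rw [h3, MvPolynomial.constantCoeff_eq]
    exact hF.coeff_eq_zero (by simpa using hd.ne)
  constructor
  · intro hss hcl
    apply hss
    intro F hF d hd hFd
    have h1 := hinv _ _ hcl F hF
    rw [hzero F d hd hFd] at h1
    rw [← MvPolynomial.aeval_eq_eval]
    exact h1.symm
  · intro hcl hnull
    apply hcl
    obtain ⟨z, h1, h2⟩ := K701.Orbit3.exists_common_point hG (GLin.vecPt k ι v)
      (GLin.vecPt k ι (fun _ => (0 : k))) (fun f hf => by
        rw [← MvPolynomial.sum_homogeneousComponent f, map_sum, map_sum]
        refine Finset.sum_congr rfl fun d _ => ?_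
        rcases Nat.eq_zero_or_pos d with rfl | hd
        · rw [MvPolynomial.homogeneousComponent_zero, MvPolynomial.aeval_C, MvPolynomial.aeval_C]
        · rw [hzero _ d hd (MvPolynomial.homogeneousComponent_isHomogeneous d f)]
          have h3 := hnull _ (K691.HomogInv.homogeneousComponent_mem_invariants hlin d hf) d hd
            (MvPolynomial.homogeneousComponent_isHomogeneous d f)
          rw [← MvPolynomial.aeval_eq_eval] at h3
          exact h3)
    have hz : z = GLin.vecPt k ι (fun _ => (0 : k)) := by
      apply MvPolynomial.algHom_ext
      intro i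
      have h3 := h2 (MvPolynomial.X i) (by
        rw [RingHom.mem_ker]
        change GLin.orbitHom k A _ (MvPolynomial.X i) = 0
        rw [K691.HomogInv.orbitHom_origin hlin]
        simp)
      rw [h3]
      simp
    rw [hz] at h1
    exact fun f hf => h1 f hf

end Groth.Agent.S19603
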