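import Groth.Statements.S12542
import Groth.Agent.GIT.K687.HM
import Groth.Agent.GIT.K687.SLForms
import Groth.Agent.S19603

set_option autoImplicit false
universe u
open TensorProduct LaurentPolynomial
open GIT

namespace Groth.Agent.S12542

/-- Let k be an algebraically closed field of characteristic zero and G = Spec A a linearly reductive
affine algebraic group (A a finitely generated commutative Hopf algebra whose finite-dimensional
comodules are all semisimple) acting linearly on affine ι-space, and let v ≠ 0 be a vector. Then v
is semistable (some invariant homogeneous polynomial of positive degree is non-zero at v) if and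
only if μ(v, λ) ≥ 0 for every one-parameter subgroup λ of G, where μ(v, λ) = m means that t^m · (v
moved by λ(t)) tends to a non-zero vector as t → 0. (The published result concerns a reductive group
acting on any proper scheme with an ample linearised invertible sheaf; this row is the case of
projective space with the hyperplane bundle, to which the published proof reduces, stated on the
affine cone.) -/
theorem result (k : Type u) [Field k] [IsAlgClosed k] [CharZero k]
    (A : Type u) [CommRing A] [HopfAlgebra k A] [Algebra.FiniteType k A] (hG : HopfRep.IsLinearlyReductive k A)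
    (ι : Type u) [Fintype ι] [HopfRep.Comod k A (MvPolynomial ι k)] [GLin.IsCoactAlg k A (MvPolynomial ι k)]
    (hlin : GLin.IsLinear k A ι) (v : ι → k) (hv : v ≠ 0) :
    GLin.IsSemistableVec k A v ↔
      ∀ (lam : A →ₐc[k] k[T;T⁻¹]) (m : ℤ), GLin.IsMu k A lam v m → 0 ≤ m := by
  rw [Groth.Agent.S19603.result k A hG ι hlin v]
  constructor
  · intro hcl lam m hm
    by_contra hm0
    push Not at hm0
    apply hcl
    have h0 : ∀ i, ∀ n : ℤ, n ≤ 0 → (K687.orbCoord lam v i).coeff n = 0 :=
      fun i n hn => ((K687.isMu_iff lam v m).mp hm).1 i n (by omega)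
    have hlim : GLin.IsLimit k A lam (GLin.vecPt k ι v) (GLin.vecPt k ι (fun _ => (0 : k))) :=
      (K687.isLimit_iff lam v _).mpr ⟨fun i n hn => h0 i n hn.le, fun i => h0 i 0 le_rfl⟩
    intro f hf
    rw [RingHom.mem_ker] at hf ⊢
    rw [(K687.wt_of_isLimit hlim).2, ← K687.coeff_lamOrbit]
    have h1 : GLin.lamOrbit k A lam (GLin.vecPt k ι v) f = 0 := by
      change lam (GLin.orbitHom k A (GLin.vecPt k ι v) f) = 0
      rw [hf, map_zero]
    rw [h1]
    rfl
  · intro H hcl
    obtain ⟨lam, y, hy, hyI⟩ := K687.hm hG (K687.originIdeal k ι) (K687.isStable_originIdeal hlin) _ _ hcl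
      K687.vecPt_zero_mem
    have hy0 : y = GLin.vecPt k ι (fun _ => (0 : k)) := by
      apply MvPolynomial.algHom_ext
      intro i
      rw [hyI _ (Ideal.subset_span ⟨i, rfl⟩), MvPolynomial.aeval_X]
    rw [hy0, K687.isLimit_iff] at hy
    obtain ⟨m, hm⟩ := K687.exists_isMu lam v hv
    have h1 := H lam m hm
    obtain ⟨i, hi⟩ := ((K687.isMu_iff lam v m).mp hm).2
    apply hi
    rcases h1.lt_or_eq with h2 | h2
    · exact hy.1 i (-m) (by omega)
    · rw [← h2, neg_zero]
      exact hy.2 i

end Groth.Agent.S12542
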