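import Groth.Statements.S12543
import Groth.Agent.GIT.K687.HM
import Groth.Agent.GIT.K687.Stable

set_option autoImplicit false
universe u
open TensorProduct LaurentPolynomial
open GIT

namespace Groth.Agent.S12543

/-- Let k be an algebraically closed field of characteristic zero and G = Spec A a linearly reductive
affine algebraic group acting linearly on affine ι-space, and let v ≠ 0. Then v is stable for the
affine action (its orbit is closed and its stabiliser finite, i.e. the point [v] of projective space
is properly stable) if and only if μ(v, λ) > 0 for every non-trivial one-parameter subgroup λ of G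
(one that does not factor through the counit), where μ(v, λ) = m means that t^m · (v moved by λ(t))
tends to a non-zero vector as t → 0. (The published result concerns a reductive group acting on any
proper scheme with an ample linearised invertible sheaf and its properly stable points; this row is
the case of projective space with the hyperplane bundle, to which the published proof reduces,
stated on the affine cone. The published statement also lets λ range over all one-parameter
subgroups; along the trivial one μ = 0 for every v ≠ 0, so that reading fails for every stable
vector and the trivial subgroup is excluded here, as the published proof in fact produces a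
non-trivial one.) -/
theorem result (k : Type u) [Field k] [IsAlgClosed k] [CharZero k]
    (A : Type u) [CommRing A] [HopfAlgebra k A] [Algebra.FiniteType k A] (hG : HopfRep.IsLinearlyReductive k A)
    (ι : Type u) [Fintype ι] [HopfRep.Comod k A (MvPolynomial ι k)] [GLin.IsCoactAlg k A (MvPolynomial ι k)]
    (hlin : GLin.IsLinear k A ι) (v : ι → k) (hv : v ≠ 0) :
    GLin.IsStableVec k A v ↔
      ∀ lam : A →ₐc[k] k[T;T⁻¹], ¬ SGA3t2b.IsTrivialBialgHom lam →
        ∀ m : ℤ, GLin.IsMu k A lam v m → 0 < m := by
  constructor
  · intro hst lam hlam m hm
    by_contra hm0
    push Not at hm0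
    apply hlam
    obtain ⟨y, hy⟩ := (K687.hasLimit_iff lam v).mpr (fun i n hn => ((K687.isMu_iff lam v m).mp hm).1 i n (by omega))
    exact K687.isTrivial_of_isStablePt_of_isLimit hst lam ⟨y, hy, rfl⟩
  · intro H
    apply K687.isStablePt_of_dvr
    intro O _ _ _ _ g h hgh
    obtain ⟨lam, y, hy, _, htriv⟩ := K687.hm_dvr (K := FractionRing O) hG (⊥ : Ideal (MvPolynomial ι k))
      (fun f hf => by
        rw [Ideal.mem_bot.mp hf, map_zero]
        exact Ideal.zero_mem _) (GLin.vecPt k ι v) g h hgh (fun f hf => by
        rw [Ideal.mem_bot.mp hf, map_zero]
        exact Ideal.zero_mem _)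
    apply htriv
    by_contra hlam
    obtain ⟨m, hm⟩ := K687.exists_isMu lam v hv
    have h1 := H lam hlam m hm
    obtain ⟨i, hi⟩ := ((K687.isMu_iff lam v m).mp hm).2
    apply hi
    obtain ⟨q, hq, _⟩ := hy
    exact (K687.hasLimit_iff lam v).mp ⟨q, hq⟩ i (-m) (by omega)

end Groth.Agent.S12543
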