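import Groth.Statements.S12545
import Groth.Agent.GIT.K687.Mu

set_option autoImplicit false
universe u
open TensorProduct LaurentPolynomial
open GIT

namespace Groth.Agent.S12545

/-- Let a commutative bialgebra A over a field k coact linearly on affine ι-space, let λ be a
one-parameter subgroup (a bialgebra map to the Laurent polynomial ring) and v ≠ 0 a vector; write
μ(v, λ) = m when t^m · (v moved by λ(t)) extends to the affine line with non-zero value at t = 0.
Then v moved by λ(t) has no limit as t → 0 exactly when μ(v, λ) > 0, has a limit different from the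
origin exactly when μ(v, λ) = 0, and tends to the origin exactly when μ(v, λ) < 0. -/
theorem result (k : Type u) [Field k] (A : Type u) [CommRing A] [Bialgebra k A]
    (ι : Type u) [Fintype ι] [HopfRep.Comod k A (MvPolynomial ι k)] [GLin.IsCoactAlg k A (MvPolynomial ι k)]
    (hlin : GLin.IsLinear k A ι) (lam : A →ₐc[k] k[T;T⁻¹]) (v : ι → k) (hv : v ≠ 0) :
    (¬ GLin.HasLimit k A lam (GLin.vecPt k ι v) ↔ ∃ m : ℤ, GLin.IsMu k A lam v m ∧ 0 < m) ∧
      ((GLin.HasLimit k A lam (GLin.vecPt k ι v) ∧
          ¬ GLin.IsLimit k A lam (GLin.vecPt k ι v) (GLin.vecPt k ι (fun _ => (0 : k)))) ↔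
        GLin.IsMu k A lam v 0) ∧
      (GLin.IsLimit k A lam (GLin.vecPt k ι v) (GLin.vecPt k ι (fun _ => (0 : k))) ↔
        ∃ m : ℤ, GLin.IsMu k A lam v m ∧ m < 0) := by
  obtain ⟨m, hm⟩ := K687.exists_isMu lam v hv
  have hex : ∀ P : ℤ → Prop, (∃ m' : ℤ, GLin.IsMu k A lam v m' ∧ P m') ↔ P m := by
    intro P
    constructor
    · rintro ⟨m', h1, h2⟩
      rwa [K687.isMu_unique lam v h1 hm] at h2
    · intro h
      exact ⟨m, hm, h⟩
  have hm0 := (K687.isMu_iff lam v m).mp hm
  have hlim : GLin.HasLimit k A lam (GLin.vecPt k ι v) ↔ m ≤ 0 := by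
    rw [K687.hasLimit_iff]
    constructor
    · intro h
      by_contra hcon
      obtain ⟨i, hi⟩ := hm0.2
      exact hi (h i (-m) (by omega))
    · intro h i n hn
      exact hm0.1 i n (by omega)
  have hzero : GLin.IsLimit k A lam (GLin.vecPt k ι v) (GLin.vecPt k ι (fun _ => (0 : k))) ↔ m < 0 := by
    rw [K687.isLimit_iff]
    constructor
    · rintro ⟨h1, h2⟩
      by_contra hcon
      obtain ⟨i, hi⟩ := hm0.2
      rcases eq_or_ne m 0 with h0 | h0
      · subst h0
        exact hi (by simpa using h2 i)
      · exact hi (h1 i (-m) (by omega))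
    · intro h
      exact ⟨fun i n hn => hm0.1 i n (by omega), fun i => hm0.1 i 0 (by omega)⟩
  refine ⟨?_, ?_, ?_⟩
  · rw [hex (fun m => 0 < m), hlim, not_le]
  · rw [hlim, hzero, not_lt]
    constructor
    · intro h
      have : m = 0 := le_antisymm h.1 h.2
      rwa [this] at hm
    · intro h
      have : m = 0 := K687.isMu_unique lam v hm h
      subst this
      exact ⟨le_refl _, le_refl _⟩
  · rw [hex (fun m => m < 0), hzero]

end Groth.Agent.S12545
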