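import Groth.Statements.S12546
import Groth.Agent.GIT.K687.Binary
import Groth.Agent.InvQ.K702.FormsStab

set_option autoImplicit false
universe u
open TensorProduct LaurentPolynomial
open GIT

namespace Groth.Agent.S12546

/-- Let k be an algebraically closed field of characteristic zero and let SL_2 act by substitution on
binary forms of degree d, a form being the point a = (a_0, …, a_d) with F = Σ_i (d choose i) a_i
x^(d−i) y^i. For a ≠ 0: a is stable (closed orbit, finite stabiliser) if and only if every non-zero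
linear form ℓ and every m with ℓ^m dividing F satisfy 2m < d, i.e. F has no root on the projective
line of multiplicity d/2 or more. -/
theorem result (k : Type u) [Field k] [IsAlgClosed k] [CharZero k]
    (d : ℕ) (a : Fin (d + 1) → k) (ha : a ≠ 0) :
    @GLin.IsStableVec k _ (CoordGrp.SLn 2 k) _ _ (CoordGrp.FormIdx 2 d) (GLin.comodAlong ((CoordGrp.SLn.mkHom 2 k).comp (CoordGrp.Mat.toGLn 2 k)) (CoordGrp.formsCoact k 2 d))
      (GLin.isCoactAlg_comodAlong ((CoordGrp.SLn.mkHom 2 k).comp (CoordGrp.Mat.toGLn 2 k)) (CoordGrp.formsCoact k 2 d)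
        (CoordGrp.formsCoact_isCoactAlg k 2 d))
      (CoordGrp.binVec d a) ↔
      ∀ ℓ : MvPolynomial (Fin 2) k, ℓ.IsHomogeneous 1 → ℓ ≠ 0 →
        ∀ m : ℕ, ℓ ^ m ∣ CoordGrp.formPoly (CoordGrp.binVec d a) → 2 * m < d := by
  have hdeg : ∀ (M : Matrix (Fin 2) (Fin 2) k) (e : Fin 2 →₀ ℕ),
      MvPolynomial.coeff e (K702.Forms.sub M (CoordGrp.formPoly (CoordGrp.binVec d a))) ≠ 0 → e 0 + e 1 = d := by
    intro M e he
    have h1 := K687.degree_of_coeff_ne_zero (K687.isHomogeneous_sub M (K687.isHomogeneous_formPoly _)) he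
    rwa [Finsupp.degree_eq_sum, Fin.sum_univ_two] at h1
  refine (K702.FormsStab.isStableVec_iff (by exact_mod_cast Nat.factorial_ne_zero d) (CoordGrp.binVec d a)).trans ?_
  constructor
  · intro h ℓ hℓ hℓ0 m hm
    by_contra hc
    obtain ⟨M, hM, he⟩ := K687.exists_sub_of_pow_dvd hℓ hℓ0 hm
    have h1 := h M hM ![1, -1] (by simp [Fin.sum_univ_two]) (by
      intro e he0
      have h2 := he e.1 he0
      have h3 := hdeg M e.1 he0
      rw [Fin.sum_univ_two]
      simp only [Matrix.cons_val_zero, Matrix.cons_val_one]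
      have h4 : (e.1 0 : ℤ) + e.1 1 = d := by exact_mod_cast h3
      have h5 : (d : ℤ) ≤ 2 * m := by exact_mod_cast (not_lt.mp hc)
      have h6 : (m : ℤ) ≤ e.1 0 := by exact_mod_cast h2
      linarith)
    have h2 := congrFun h1 0
    simp at h2
  · intro h M hM r hr hpos
    by_contra hr0
    rw [Fin.sum_univ_two] at hr
    have hr0' : r 0 ≠ 0 := by
      intro h0
      apply hr0
      ext i
      fin_cases i
      · exact h0
      · change r 1 = 0
        linarith
    have hpos' : ∀ e : Fin 2 →₀ ℕ, MvPolynomial.coeff e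
        (K702.Forms.sub M (CoordGrp.formPoly (CoordGrp.binVec d a))) ≠ 0 → 0 ≤ ((e 0 : ℤ) - e 1) * r 0 := by
      intro e he
      have h1 := hpos ⟨e, K687.degree_of_coeff_ne_zero
        (K687.isHomogeneous_sub M (K687.isHomogeneous_formPoly _)) he⟩ he
      rw [Fin.sum_univ_two] at h1
      have h2 : r 1 = - r 0 := by linarith
      simp only [h2] at h1
      linarith
    rcases lt_or_gt_of_ne hr0' with hlt | hgt
    · obtain ⟨ℓ, h1, h2, h3⟩ := K687.exists_lin_pow_dvd (F := CoordGrp.formPoly (CoordGrp.binVec d a)) M hM 1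
        ((d + 1) / 2) (by
          intro e he
          have h4 := hpos' e he
          have h5 := hdeg M e he
          have h6 : (e 0 : ℤ) - e 1 ≤ 0 := by
            by_contra hc
            push Not at hc
            nlinarith
          omega)
      have := h ℓ h1 h2 _ h3
      omega
    · obtain ⟨ℓ, h1, h2, h3⟩ := K687.exists_lin_pow_dvd (F := CoordGrp.formPoly (CoordGrp.binVec d a)) M hM 0
        ((d + 1) / 2) (by
          intro e he
          have h4 := hpos' e he
          have h5 := hdeg M e he
          have h6 : 0 ≤ (e 0 : ℤ) - e 1 := by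
            by_contra hc
            push Not at hc
            nlinarith
          omega)
      have := h ℓ h1 h2 _ h3
      omega

end Groth.Agent.S12546
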