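import Groth.Statements.S12547
import Groth.Agent.GIT.K687.SLForms

set_option autoImplicit false
universe u
open TensorProduct LaurentPolynomial
open GIT

namespace Groth.Agent.S12547

/-- Let k be an algebraically closed field of characteristic zero and let SL_2 act by substitution on
binary forms of degree d, a form being the point a = (a_0, …, a_d) with F = Σ_i (d choose i) a_i
x^(d−i) y^i. For a ≠ 0: a is semistable (some invariant homogeneous polynomial of positive degree in
the coefficients is non-zero at a) if and only if every non-zero linear form ℓ and every m with ℓ^m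
dividing F satisfy 2m ≤ d, i.e. F has no root on the projective line of multiplicity more than d/2. -/
theorem result (k : Type u) [Field k] [IsAlgClosed k] [CharZero k]
    (d : ℕ) (a : Fin (d + 1) → k) (ha : a ≠ 0) :
    @GLin.IsSemistableVec k _ (CoordGrp.SLn 2 k) _ _ (CoordGrp.FormIdx 2 d) (GLin.comodAlong ((CoordGrp.SLn.mkHom 2 k).comp (CoordGrp.Mat.toGLn 2 k)) (CoordGrp.formsCoact k 2 d))
      (GLin.isCoactAlg_comodAlong ((CoordGrp.SLn.mkHom 2 k).comp (CoordGrp.Mat.toGLn 2 k)) (CoordGrp.formsCoact k 2 d)
        (CoordGrp.formsCoact_isCoactAlg k 2 d))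
      (CoordGrp.binVec d a) ↔
      ∀ ℓ : MvPolynomial (Fin 2) k, ℓ.IsHomogeneous 1 → ℓ ≠ 0 →
        ∀ m : ℕ, ℓ ^ m ∣ CoordGrp.formPoly (CoordGrp.binVec d a) → 2 * m ≤ d := by
  have hdeg : ∀ (M : Matrix (Fin 2) (Fin 2) k) (e : Fin 2 →₀ ℕ),
      MvPolynomial.coeff e (K702.Forms.sub M (CoordGrp.formPoly (CoordGrp.binVec d a))) ≠ 0 → e 0 + e 1 = d := by
    intro M e he
    have h1 := K687.degree_of_coeff_ne_zero (K687.isHomogeneous_sub M (K687.isHomogeneous_formPoly _)) he
    rwa [Finsupp.degree_eq_sum, Fin.sum_univ_two] at h1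
  constructor
  · intro h ℓ hℓ hℓ0 m hm
    by_contra hc
    obtain ⟨M, hM, he⟩ := K687.exists_sub_of_pow_dvd hℓ hℓ0 hm
    obtain ⟨c, hc2⟩ := IsAlgClosed.exists_pow_nat_eq (M.det)⁻¹ (n := 2) (by norm_num)
    have hdet : (c • M).det = 1 := by
      rw [Matrix.det_smul, Fintype.card_fin, hc2, inv_mul_cancel₀ hM]
    refine h (K702.FormsStab.isNullform_of_pos (by exact_mod_cast Nat.factorial_ne_zero d) (CoordGrp.binVec d a)
      (c • M) hdet ![1, -1] (by simp [Fin.sum_univ_two]) ?_)
    intro e he0
    have h1 : MvPolynomial.coeff e.1 (K702.Forms.sub M (CoordGrp.formPoly (CoordGrp.binVec d a))) ≠ 0 := by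
      intro h0
      apply he0
      rw [K702.FormsStab.coeff_sub_smul, h0, mul_zero]
    have h2 := he e.1 h1
    have h3 := hdeg M e.1 h1
    rw [Fin.sum_univ_two]
    simp only [Matrix.cons_val_zero, Matrix.cons_val_one]
    have h4 : (e.1 0 : ℤ) + e.1 1 = d := by exact_mod_cast h3
    have h5 : (d : ℤ) < 2 * m := by exact_mod_cast (not_le.mp hc)
    have h6 : (m : ℤ) ≤ e.1 0 := by exact_mod_cast h2
    linarith
  · intro h
    by_contra hns
    obtain ⟨M, hM1, r, hr, hpos⟩ := K687.exists_pos_of_not_isSemistableVec (CoordGrp.binVec d a) hns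
    have hM : M.det ≠ 0 := by rw [hM1]; exact one_ne_zero
    rw [Fin.sum_univ_two] at hr
    have hpos' : ∀ e : Fin 2 →₀ ℕ, MvPolynomial.coeff e
        (K702.Forms.sub M (CoordGrp.formPoly (CoordGrp.binVec d a))) ≠ 0 → 0 < ((e 0 : ℤ) - e 1) * r 0 := by
      intro e he
      have h1 := hpos ⟨e, K687.degree_of_coeff_ne_zero
        (K687.isHomogeneous_sub M (K687.isHomogeneous_formPoly _)) he⟩ he
      rw [Fin.sum_univ_two] at h1
      have h2 : r 1 = - r 0 := by linarith
      simp only [h2] at h1
      linarith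
    rcases lt_trichotomy (r 0) 0 with hlt | h0 | hgt
    · obtain ⟨ℓ, h1, h2, h3⟩ := K687.exists_lin_pow_dvd (F := CoordGrp.formPoly (CoordGrp.binVec d a)) M hM 1
        (d / 2 + 1) (by
          intro e he
          have h4 := hpos' e he
          have h5 := hdeg M e he
          have h6 : (e 0 : ℤ) - e 1 < 0 := by
            by_contra hc
            push Not at hc
            nlinarith
          omega)
      have := h ℓ h1 h2 _ h3
      omega
    · obtain ⟨ℓ, h1, h2, h3⟩ := K687.exists_lin_pow_dvd (F := CoordGrp.formPoly (CoordGrp.binVec d a)) M hM 0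
        (d + 1) (by
          intro e he
          have h4 := hpos' e he
          rw [h0, mul_zero] at h4
          exact absurd h4 (lt_irrefl _))
      have := h ℓ h1 h2 _ h3
      omega
    · obtain ⟨ℓ, h1, h2, h3⟩ := K687.exists_lin_pow_dvd (F := CoordGrp.formPoly (CoordGrp.binVec d a)) M hM 0
        (d / 2 + 1) (by
          intro e he
          have h4 := hpos' e he
          have h5 := hdeg M e he
          have h6 : 0 < (e 0 : ℤ) - e 1 := by
            by_contra hc
            push Not at hc
            nlinarith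
          omega)
      have := h ℓ h1 h2 _ h3
      omega

end Groth.Agent.S12547
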