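import Groth.Statements.S12549
import Mathlib.Tactic

set_option autoImplicit false
universe u
open GIT

namespace Groth.Agent.S12549

/-- Dynamic programming: the optimal values of the chains from `0`. -/
theorem exists_opt (w : ℕ → ℕ → ℝ) :
    ∃ (V : ℕ → ℝ) (p : ℕ → ℕ), V 0 = 0 ∧ ∀ c, 1 ≤ c →
      p c < c ∧ V c = V (p c) + w (p c) c ∧ ∀ b < c, V c ≤ V b + w b c := by
  classical
  have step : ∀ (c : ℕ) (f : (m : ℕ) → m < c → ℝ), 1 ≤ c →
      ∃ q : ℕ, ∃ hq : q < c, ∀ b, ∀ hb : b < c, f q hq + w q c ≤ f b hb + w b c := by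
    intro c f hc
    obtain ⟨q, _, hq⟩ := Finset.exists_min_image (Finset.univ : Finset (Fin c))
      (fun i => f i.1 i.2 + w i.1 c) ⟨⟨0, hc⟩, Finset.mem_univ _⟩
    exact ⟨q.1, q.2, fun b hb => hq ⟨b, hb⟩ (Finset.mem_univ _)⟩
  let F : (c : ℕ) → ((m : ℕ) → m < c → ℝ) → ℝ := fun c f =>
    if hc : 1 ≤ c then f (step c f hc).choose (step c f hc).choose_spec.choose +
      w (step c f hc).choose c else 0
  let V : ℕ → ℝ := fun c => Nat.strongRec (motive := fun _ => ℝ) F c
  have hV : ∀ c, V c = F c (fun m _ => V m) := by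
    intro c
    change Nat.strongRec (motive := fun _ => ℝ) F c = _
    rw [Nat.strongRec_eq]
  refine ⟨V, fun c => if hc : 1 ≤ c then (step c (fun m _ => V m) hc).choose else 0, ?_, ?_⟩
  · rw [hV]
    simp [F]
  · intro c hc
    have h1 := (step c (fun m _ => V m) hc).choose_spec
    simp only [hc, dif_pos]
    refine ⟨h1.choose, ?_, ?_⟩
    · conv_lhs => rw [hV]
      simp only [F, hc, dif_pos]
    · intro b hb
      rw [hV c]
      simp only [F, hc, dif_pos]
      exact h1.choose_spec b hb

/-- The key estimate for the optimal values (the area under the lower convex hull). -/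
theorem opt_bound (t r : ℕ → ℝ) (C : ℝ) (hC : 0 ≤ C) (ht0 : t 0 = 0) (n : ℕ)
    (ht : ∀ i j, i < j → j ≤ n → t i < t j)
    (hr : ∀ i j, i ≤ j → j ≤ n → r j ≤ r i)
    (V : ℕ → ℝ) (p : ℕ → ℕ) (hV0 : V 0 = 0)
    (hp : ∀ c, 1 ≤ c → p c < c)
    (hVp : ∀ c, 1 ≤ c → V c = V (p c) + (t c - t (p c)) * (r c + r (p c)))
    (hVmin : ∀ c, 1 ≤ c → ∀ b < c, V c ≤ V b + (t c - t b) * (r c + r b))
    (W : ℕ → ℝ) (hW : ∀ s, W s = t s ^ 2 - 2 * C * ∑ i ∈ Finset.range s, (t s - t i))
    (hWneg : ∀ s, 1 ≤ s → s ≤ n → W s < 0) :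
    ∀ c, 1 ≤ c → c ≤ n →
      (V c - 2 * C * ∑ i ∈ Finset.range c, (r i - r c) - 2 * t c * r c) * (t c - t (p c)) ≤
        (r (p c) - r c) * W c ∧
      (V c - 2 * C * ∑ i ∈ Finset.range c, (r i - r c) - 2 * t c * r c < 0 ∨ r 0 = r c) := by
  intro c
  induction c using Nat.strong_induction_on with
  | _ c ih =>
    intro hc hcn
    set b := p c with hb
    have hbc : b < c := hp c hc
    have htbc : 0 < t c - t b := sub_pos.mpr (ht b c hbc hcn)
    -- the slope
    set D : ℝ := (r b - r c) / (t c - t b) with hD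
    have hDnn : 0 ≤ D := div_nonneg (sub_nonneg.mpr (hr b c hbc.le hcn)) htbc.le
    have hrb : r b - r c = D * (t c - t b) := by
      rw [hD]; field_simp
    -- points between are above the segment
    have habove : ∀ i, b ≤ i → i < c → D * (t c - t i) ≤ r i - r c := by
      intro i hbi hic
      rcases eq_or_lt_of_le hbi with h | h
      · rw [← h, hrb]
      · have h1 := hVmin c hc i hic
        have h2 := hVmin i (by omega) b h
        have h3 := hVp c hc
        rw [← hb] at h3
        rw [h3] at h1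
        have h4 : (t c - t b) * (r c + r b) ≤ (t i - t b) * (r i + r b) + (t c - t i) * (r c + r i) := by
          linarith
        -- r i (t c - t b) ≥ (t c - t i) r b + (t i - t b) r c
        have h5 : (t c - t i) * r b + (t i - t b) * r c ≤ r i * (t c - t b) := by nlinarith
        have h6 : D * (t c - t i) * (t c - t b) ≤ (r i - r c) * (t c - t b) := by
          have : D * (t c - t i) * (t c - t b) = (D * (t c - t b)) * (t c - t i) := by ring
          rw [this, ← hrb]
          nlinarith
        exact le_of_mul_le_mul_right h6 htbc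
    -- increment
    have hsum : ∑ i ∈ Finset.range c, (r i - r c) =
        ∑ i ∈ Finset.range b, (r i - r b) + b * (r b - r c) + ∑ i ∈ Finset.Ico b c, (r i - r c) := by
      rw [← Finset.sum_range_add_sum_Ico _ hbc.le]
      congr 1
      have : ∀ i ∈ Finset.range b, r i - r c = (r i - r b) + (r b - r c) := fun i _ => by ring
      rw [Finset.sum_congr rfl this, Finset.sum_add_distrib, Finset.sum_const, Finset.card_range,
        nsmul_eq_mul]
    have hsumt : ∑ i ∈ Finset.range c, (t c - t i) =
        ∑ i ∈ Finset.range b, (t b - t i) + b * (t c - t b) + ∑ i ∈ Finset.Ico b c, (t c - t i) := by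
      rw [← Finset.sum_range_add_sum_Ico _ hbc.le]
      congr 1
      have : ∀ i ∈ Finset.range b, t c - t i = (t b - t i) + (t c - t b) := fun i _ => by ring
      rw [Finset.sum_congr rfl this, Finset.sum_add_distrib, Finset.sum_const, Finset.card_range,
        nsmul_eq_mul]
    have hIco : D * ∑ i ∈ Finset.Ico b c, (t c - t i) ≤ ∑ i ∈ Finset.Ico b c, (r i - r c) := by
      rw [Finset.mul_sum]
      apply Finset.sum_le_sum
      intro i hi
      rw [Finset.mem_Ico] at hi
      exact habove i hi.1 hi.2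
    have hVc := hVp c hc
    rw [← hb] at hVc
    set Φ : ℕ → ℝ := fun c => V c - 2 * C * ∑ i ∈ Finset.range c, (r i - r c) - 2 * t c * r c with hΦ
    have hstep : Φ c ≤ Φ b + D * (W c - W b) := by
      have hWc := hW c
      have hWb := hW b
      simp only [hΦ]
      rw [hVc, hsum, hWc, hWb, hsumt]
      have e1 : 2 * C * (D * ∑ i ∈ Finset.Ico b c, (t c - t i)) ≤
          2 * C * ∑ i ∈ Finset.Ico b c, (r i - r c) :=
        mul_le_mul_of_nonneg_left hIco (by linarith)
      have e2 : (b : ℝ) * (r b - r c) = b * (D * (t c - t b)) := by rw [hrb]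
      have e3 : r b = r c + D * (t c - t b) := by linarith
      rw [e2]
      have e4 : (t c - t b) * (r c + r b) - 2 * t c * r c + 2 * t b * r b =
          D * (t c ^ 2 - t b ^ 2) := by
        rw [e3]; ring
      have e5 : 2 * C * (D * ∑ i ∈ Finset.Ico b c, (t c - t i)) =
          D * (2 * C * ∑ i ∈ Finset.Ico b c, (t c - t i)) := by ring
      linarith
    change Φ c * (t c - t b) ≤ (r b - r c) * W c ∧ (Φ c < 0 ∨ r 0 = r c)
    have hWc := hWneg c hc hcn
    rcases Nat.eq_zero_or_pos b with h0 | h0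
    · -- first node
      have hΦb : Φ b = 0 := by
        simp only [hΦ, h0, hV0, ht0]
        simp
      have hWb : W b = 0 := by
        rw [hW b, h0, ht0]; simp
      rw [hΦb, hWb] at hstep
      have h1 : Φ c ≤ D * W c := by linarith
      refine ⟨?_, ?_⟩
      · rw [hrb]
        have := mul_le_mul_of_nonneg_right h1 htbc.le
        linarith
      · rcases eq_or_lt_of_le hDnn with h | h
        · right
          rw [← h, h0] at hrb
          linarith
        · left
          have := mul_neg_of_pos_of_neg h hWc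
          linarith
    · obtain ⟨ih1, ih2⟩ := ih b hbc h0 (by omega)
      change Φ b * (t b - t (p b)) ≤ (r (p b) - r b) * W b at ih1
      change Φ b < 0 ∨ r 0 = r b at ih2
      set a := p b with ha
      have hab : a < b := hp b h0
      have htab : 0 < t b - t a := sub_pos.mpr (ht a b hab (by omega))
      have hWb := hWneg b h0 (by omega)
      set E : ℝ := (r a - r b) / (t b - t a) with hE
      have hra : r a - r b = E * (t b - t a) := by
        rw [hE]; field_simp
      have hΦb : Φ b ≤ E * W b := by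
        rw [hra] at ih1
        have : Φ b * (t b - t a) ≤ (E * W b) * (t b - t a) := by linarith
        exact le_of_mul_le_mul_right this htab
      -- convexity at b
      have hDE : D ≤ E := by
        have h1 := hVmin c hc a (by omega)
        have h3 := hVp b h0
        rw [← ha] at h3
        rw [hVc, h3] at h1
        have h4 : (t b - t a) * (r b + r a) + (t c - t b) * (r c + r b) ≤ (t c - t a) * (r c + r a) := by
          linarith
        have e3 : r b = r c + D * (t c - t b) := by linarith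
        have e4 : r a = r c + D * (t c - t b) + E * (t b - t a) := by linarith
        rw [e4, e3] at h4
        have h5 : 0 ≤ (E - D) * ((t c - t b) * (t b - t a)) := by linarith
        have h6 : 0 < (t c - t b) * (t b - t a) := mul_pos htbc htab
        have := nonneg_of_mul_nonneg_left h5 h6
        linarith
      have h7 : (E - D) * W b ≤ 0 := mul_nonpos_of_nonneg_of_nonpos (sub_nonneg.mpr hDE) hWb.le
      have h1 : Φ c ≤ D * W c := by linarith
      refine ⟨?_, ?_⟩
      · rw [hrb]
        have := mul_le_mul_of_nonneg_right h1 htbc.le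
        linarith
      · rcases eq_or_lt_of_le hDnn with h | h
        · rw [← h] at hrb hstep
          have hrbc : r b = r c := by linarith
          rcases ih2 with h2 | h2
          · left
            linarith
          · right
            rw [h2, hrbc]
        · left
          have := mul_neg_of_pos_of_neg h hWc
          linarith

/-- The extreme values of `e`. -/
noncomputable def tt (n g : ℕ) (i : ℕ) : ℝ := if i ≤ n - g then (i : ℝ) else (i : ℝ) + g

theorem sum_range_tt_le (n g s : ℕ) (hs : s ≤ n - g) :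
    ∑ i ∈ Finset.range s, (tt n g s - tt n g i) = (s : ℝ) * (s + 1) / 2 := by
  have h1 : ∀ i ∈ Finset.range s, tt n g s - tt n g i = (s : ℝ) - i := by
    intro i hi
    rw [Finset.mem_range] at hi
    rw [tt, tt, if_pos hs, if_pos (by omega)]
  rw [Finset.sum_congr rfl h1]
  have h2 : ∀ m : ℕ, ∑ i ∈ Finset.range m, ((m : ℝ) - i) = (m : ℝ) * (m + 1) / 2 := by
    intro m
    induction m with
    | zero => simp
    | succ m ih =>
      rw [Finset.sum_range_succ]
      have : ∀ i ∈ Finset.range m, (((m + 1 : ℕ) : ℝ) - i) = ((m : ℝ) - i) + 1 := by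
        intro i _; push_cast; ring
      rw [Finset.sum_congr rfl this, Finset.sum_add_distrib, ih]
      simp
      ring
  exact h2 s

theorem sum_range_tt_gt (n g : ℕ) (hgn : g ≤ n) : ∀ s : ℕ, n - g ≤ s →
    ∑ i ∈ Finset.range (s + 1), (((s + 1 : ℕ) : ℝ) + g - tt n g i) =
      ((s + 1 : ℕ) : ℝ) * ((s + 1 : ℕ) + 1) / 2 + g * ((n : ℝ) - g + 1) := by
  intro s hs
  induction s, hs using Nat.le_induction with
  | base =>
    have h1 : ∀ i ∈ Finset.range (n - g + 1), ((((n - g) + 1 : ℕ) : ℝ) + g - tt n g i) =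
        (n : ℝ) + 1 - i := by
      intro i hi
      rw [Finset.mem_range] at hi
      rw [tt, if_pos (by omega)]
      push_cast [Nat.cast_sub hgn]
      ring
    rw [Finset.sum_congr rfl h1]
    have h2 : ∀ m : ℕ, ∑ i ∈ Finset.range m, ((n : ℝ) + 1 - i) = (m : ℝ) * (n + 1) - m * (m - 1) / 2 := by
      intro m
      induction m with
      | zero => simp
      | succ m ih =>
        rw [Finset.sum_range_succ, ih]
        push_cast
        ring
    rw [h2]
    push_cast [Nat.cast_sub hgn]
    ring
  | succ s hs ih =>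
    rw [Finset.sum_range_succ]
    have h1 : ∀ i ∈ Finset.range (s + 1), ((((s + 1) + 1 : ℕ) : ℝ) + g - tt n g i) =
        ((((s + 1) : ℕ) : ℝ) + g - tt n g i) + 1 := by
      intro i _; push_cast; ring
    rw [Finset.sum_congr rfl h1, Finset.sum_add_distrib, ih, tt, if_neg (by omega)]
    simp
    ring

theorem W_neg (n g : ℕ) (hg : 1 ≤ g) (hn : 2 * g ≤ n) (s : ℕ) (hs : 1 ≤ s) (hsn : s ≤ n) :
    tt n g s ^ 2 - 2 * (((n : ℝ) + g) / (n + 1)) * ∑ i ∈ Finset.range s, (tt n g s - tt n g i) < 0 := by
  have hn1 : (0 : ℝ) < (n : ℝ) + 1 := by positivity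
  have hg' : (1 : ℝ) ≤ g := by exact_mod_cast hg
  have hs' : (1 : ℝ) ≤ s := by exact_mod_cast hs
  rcases le_or_gt s (n - g) with h | h
  · rw [sum_range_tt_le n g s h, tt, if_pos h]
    have h1 : 1 ≤ ((n : ℝ) + g) / (n + 1) := by
      rw [le_div_iff₀ hn1]; linarith
    have h2 : (0 : ℝ) ≤ (s : ℝ) * (s + 1) := by positivity
    have h3 : (s : ℝ) * (s + 1) ≤ ((n : ℝ) + g) / (n + 1) * ((s : ℝ) * (s + 1)) := by
      have := mul_le_mul_of_nonneg_right h1 h2
      linarith
    nlinarith
  · obtain ⟨s, rfl⟩ : ∃ s', s = s' + 1 := ⟨s - 1, by omega⟩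
    have hts : tt n g (s + 1) = ((s + 1 : ℕ) : ℝ) + g := by
      rw [tt, if_neg (by omega)]
    rw [hts, sum_range_tt_gt n g (by omega) s (by omega)]
    obtain ⟨x, hx⟩ : ∃ x : ℕ, s + 1 + x = n := ⟨n - (s + 1), by omega⟩
    have hxr : ((s + 1 : ℕ) : ℝ) = n - x := by
      rw [← hx]; push_cast; ring
    rw [hxr]
    have hnr : 2 * (g : ℝ) ≤ n := by exact_mod_cast hn
    have hx0 : (0 : ℝ) ≤ x := by positivity
    have key : ((n : ℝ) - x + g) ^ 2 - 2 * (((n : ℝ) + g) / (n + 1)) *
        (((n : ℝ) - x) * ((n - x) + 1) / 2 + g * ((n : ℝ) - g + 1)) =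
        -(g * ((n + 1) - 2 * g) * (n + g) + (g - 1) * x ^ 2 + x * (n + g)) / (n + 1) := by
      field_simp
      ring
    rw [key]
    apply div_neg_of_neg_of_pos _ hn1
    have h1 : 0 < (g : ℝ) * ((n + 1) - 2 * g) * (n + g) := by
      apply mul_pos (mul_pos (by linarith) (by linarith)) (by linarith)
    have h2 : 0 ≤ ((g : ℝ) - 1) * x ^ 2 := mul_nonneg (by linarith) (sq_nonneg _)
    have h3 : 0 ≤ (x : ℝ) * (n + g) := mul_nonneg hx0 (by linarith)
    linarith

/-- Let g ≥ 1 and n ≥ 2g, and let e_0, …, e_n be natural numbers with e_0 = 0, e_n = n + g, e_0 ≤ … ≤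
e_n, e_i ≤ i for i ≤ n − g and e_i ≤ i + g for all i. Then for all real r_0 ≥ r_1 ≥ … ≥ r_n with Σ
r_i = 0, not all zero, some chain 0 = c_0 < c_1 < … < c_μ = n has Σ_j (e_(c_(j+1)) − e_(c_j)) ·
(r_(c_(j+1)) + r_(c_j)) < 0. -/
theorem result (n g : ℕ) (hg : 1 ≤ g) (hn : 2 * g ≤ n)
    (e : Fin (n + 1) → ℕ) (he0 : e 0 = 0) (hen : e (Fin.last n) = n + g) (hmono : Monotone e)
    (hle : ∀ i : Fin (n + 1), (i : ℕ) ≤ n - g → e i ≤ (i : ℕ)) (hle' : ∀ i : Fin (n + 1), e i ≤ (i : ℕ) + g)
    (r : Fin (n + 1) → ℝ) (hanti : Antitone r) (hsum : ∑ i, r i = 0) (hr : r ≠ 0) :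
    ∃ (μ : ℕ) (c : Fin (μ + 1) → Fin (n + 1)), StrictMono c ∧ c 0 = 0 ∧ c (Fin.last μ) = Fin.last n ∧
      ∑ j : Fin μ, ((e (c j.succ) : ℝ) - (e (c j.castSucc) : ℝ)) * (r (c j.succ) + r (c j.castSucc)) < 0 := by
  classical
  let R : ℕ → ℝ := fun i => r ⟨min i n, by omega⟩
  let E : ℕ → ℝ := fun i => (e ⟨min i n, by omega⟩ : ℝ)
  let t : ℕ → ℝ := tt n g
  have hRr : ∀ i : Fin (n + 1), R i = r i := by
    intro i
    change r ⟨min (i : ℕ) n, _⟩ = r i
    congr 1
    apply Fin.ext
    simp; omega
  have hEe : ∀ i : Fin (n + 1), E i = (e i : ℝ) := by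
    intro i
    change (e ⟨min (i : ℕ) n, _⟩ : ℝ) = _
    congr 2
    apply Fin.ext
    simp; omega
  have hRanti : ∀ i j, i ≤ j → j ≤ n → R j ≤ R i := by
    intro i j hij _
    apply hanti
    rw [Fin.le_def]
    change min i n ≤ min j n
    omega
  have htmono : ∀ i j, i < j → j ≤ n → t i < t j := by
    intro i j hij _
    change tt n g i < tt n g j
    have h1 : (i : ℝ) < j := by exact_mod_cast hij
    have h2 : (0 : ℝ) ≤ g := by positivity
    unfold tt
    split_ifs <;> first | linarith | omega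
  have ht0 : t 0 = 0 := by
    change tt n g 0 = 0
    rw [tt, if_pos (by omega)]; simp
  have htn : t n = (n : ℝ) + g := by
    change tt n g n = _
    rw [tt, if_neg (by omega)]
  have hEt : ∀ i, i ≤ n → E i ≤ t i := by
    intro i hi
    change (e ⟨min i n, _⟩ : ℝ) ≤ tt n g i
    have hi' : (⟨min i n, by omega⟩ : Fin (n + 1)) = ⟨i, by omega⟩ := Fin.ext (by simp; omega)
    rw [hi', tt]
    split_ifs with h
    · exact_mod_cast hle ⟨i, by omega⟩ h
    · exact_mod_cast hle' ⟨i, by omega⟩
  have hE0 : E 0 = 0 := by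
    have := hEe 0
    rw [he0] at this
    simpa using this
  have hEn : E n = (n : ℝ) + g := by
    have := hEe (Fin.last n)
    rw [hen] at this
    simpa using this
  have hRsum : ∑ i ∈ Finset.range (n + 1), R i = 0 := by
    rw [Finset.sum_range, ← hsum]
    exact Finset.sum_congr rfl fun i _ => hRr i
  have hR0n : R n < R 0 := by
    rcases lt_or_ge (R n) (R 0) with h | h
    · exact h
    · exfalso
      have hconst : ∀ i : Fin (n + 1), r i = R 0 := by
        intro i
        rw [← hRr i]
        apply le_antisymm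
        · exact hRanti 0 i (by omega) (by omega)
        · exact h.trans (hRanti i n (by omega) (le_refl _))
      have h0 : ∑ i : Fin (n + 1), r i = (n + 1) * R 0 := by
        rw [Finset.sum_congr rfl fun i _ => hconst i]
        simp
      rw [hsum] at h0
      have h1 : R 0 = 0 := by
        have : ((n : ℝ) + 1) ≠ 0 := by positivity
        rcases mul_eq_zero.mp h0.symm with h | h
        · exact absurd h this
        · exact h
      apply hr
      funext i
      rw [hconst i, h1]
      rfl
  obtain ⟨V, p, hV0, hVp⟩ := exists_opt (fun b c => (t c - t b) * (R c + R b))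
  set C : ℝ := ((n : ℝ) + g) / (n + 1) with hC
  have hn1 : (0 : ℝ) < (n : ℝ) + 1 := by positivity
  have hbound := opt_bound t R C (by rw [hC]; positivity) ht0 n htmono hRanti V p hV0
    (fun c hc => (hVp c hc).1) (fun c hc => (hVp c hc).2.1) (fun c hc => (hVp c hc).2.2)
    (fun s => t s ^ 2 - 2 * C * ∑ i ∈ Finset.range s, (t s - t i)) (fun s => rfl)
    (fun s hs hsn => W_neg n g hg hn s hs hsn) n (by omega) (le_refl n)
  have hVn : V n < 0 := by
    rcases hbound.2 with h | h
    · rw [htn] at h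
      have h1 : ∑ i ∈ Finset.range n, (R i - R n) = -((n : ℝ) + 1) * R n := by
        rw [Finset.sum_range_succ] at hRsum
        rw [Finset.sum_sub_distrib]
        simp only [Finset.sum_const, Finset.card_range, nsmul_eq_mul]
        linarith
      rw [h1] at h
      have h2 : 2 * C * (-((n : ℝ) + 1) * R n) = -2 * ((n : ℝ) + g) * R n := by
        rw [hC]; field_simp
      rw [h2] at h
      linarith
    · exact absurd h (ne_of_gt hR0n)
  -- the chain
  have hchain : ∀ m, m ≤ n → ∃ (μ : ℕ) (c : Fin (μ + 1) → Fin (n + 1)), StrictMono c ∧ c 0 = 0 ∧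
      ((c (Fin.last μ) : Fin (n + 1)) : ℕ) = m ∧
      ∑ j : Fin μ, ((e (c j.succ) : ℝ) - (e (c j.castSucc) : ℝ)) * (r (c j.succ) + r (c j.castSucc)) ≤
        V m - 2 * (t m - E m) * R m := by
    intro m
    induction m using Nat.strong_induction_on with
    | _ m ih =>
      intro hm
      rcases Nat.eq_zero_or_pos m with h0 | h0
      · subst h0
        refine ⟨0, fun _ => 0, ?_, rfl, rfl, ?_⟩
        · intro i j hij
          exfalso
          have h1 := i.2
          have h2 := j.2
          rw [Fin.lt_def] at hij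
          omega
        · simp [hV0, ht0, hE0]
      · obtain ⟨hb, hVm, _⟩ := hVp m h0
        obtain ⟨μ, c, hc1, hc2, hc3, hc4⟩ := ih (p m) hb (by omega)
        have hmlt : m < n + 1 := by omega
        refine ⟨μ + 1, Fin.snoc c (⟨m, hmlt⟩ : Fin (n + 1)), ?_, ?_, ?_, ?_⟩
        · rw [Fin.strictMono_iff_lt_succ]
          intro i
          refine Fin.lastCases ?_ (fun j => ?_) i
          · rw [Fin.snoc_castSucc, Fin.succ_last, Fin.snoc_last, Fin.lt_def, hc3]
            exact hb
          · rw [Fin.snoc_castSucc, Fin.succ_castSucc, Fin.snoc_castSucc]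
            exact hc1 (Fin.castSucc_lt_succ)
        · rw [← Fin.castSucc_zero, Fin.snoc_castSucc, hc2]
        · rw [Fin.snoc_last]
        · rw [Fin.sum_univ_castSucc]
          have h1 : ∀ j : Fin μ, (Fin.snoc c (⟨m, hmlt⟩ : Fin (n + 1)) : Fin (μ + 1 + 1) → Fin (n + 1))
              (j.castSucc.succ) = c j.succ := by
            intro j
            rw [Fin.succ_castSucc, Fin.snoc_castSucc]
          have h2 : ∀ j : Fin μ, (Fin.snoc c (⟨m, hmlt⟩ : Fin (n + 1)) : Fin (μ + 1 + 1) → Fin (n + 1))
              (j.castSucc.castSucc) = c j.castSucc := by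
            intro j
            rw [Fin.snoc_castSucc]
          simp only [h1, h2, Fin.succ_last, Fin.snoc_last, Fin.snoc_castSucc]
          have hlast : c (Fin.last μ) = ⟨p m, by omega⟩ := Fin.ext hc3
          have e1 : (e (c (Fin.last μ)) : ℝ) = E (p m) := by
            rw [← hEe, hc3]
          have e2 : r (c (Fin.last μ)) = R (p m) := by
            rw [← hRr, hc3]
          have e3 : (e ⟨m, hmlt⟩ : ℝ) = E m := by
            rw [← hEe]
          have e4 : r ⟨m, hmlt⟩ = R m := by
            rw [← hRr]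
          rw [e1, e2, e3, e4, hVm]
          have h5 : 0 ≤ (t (p m) - E (p m)) * (R (p m) - R m) :=
            mul_nonneg (sub_nonneg.mpr (hEt _ (by omega))) (sub_nonneg.mpr (hRanti _ _ hb.le hm))
          have h6 : 0 ≤ (t m - E m) * (R (p m) - R m) :=
            mul_nonneg (sub_nonneg.mpr (hEt _ hm)) (sub_nonneg.mpr (hRanti _ _ hb.le hm))
          linarith
  obtain ⟨μ, c, hc1, hc2, hc3, hc4⟩ := hchain n (le_refl n)
  refine ⟨μ, c, hc1, hc2, Fin.ext hc3, lt_of_le_of_lt hc4 ?_⟩
  rw [htn, hEn]
  linarith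

end Groth.Agent.S12549
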