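import Groth.Statements.S12551
import Groth.Agent.GIT.K875.Quartic

set_option autoImplicit false
universe u
open TensorProduct LaurentPolynomial
open GIT

namespace Groth.Agent.S12551

/-- Let k be an algebraically closed field of characteristic zero and let SL_3 act by substitution on
ternary quartic forms, the point a having the form F = Σ_e (4; e) a_e x^e. Then a fails to be stable
(closed orbit and finite stabiliser) if and only if there is a matrix M of determinant 1 such that
the form F'(x) = F(Mx) = Σ b_ij x_0^(4−i−j) x_1^i x_2^j has b_00 = b_10 = b_01 = b_20 = b_11 = 0 and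
in addition b_02 = 0 or b_30 = 0: in suitable coordinates the quartic curve has a triple point at
(1:0:0), or a tacnode there with tangent line x_2 = 0. -/
theorem result (k : Type u) [Field k] [IsAlgClosed k] [CharZero k]
    (a : CoordGrp.FormIdx 3 4 → k) :
    ¬ @GLin.IsStableVec k _ (CoordGrp.SLn 3 k) _ _ (CoordGrp.FormIdx 3 4) (GLin.comodAlong ((CoordGrp.SLn.mkHom 3 k).comp (CoordGrp.Mat.toGLn 3 k)) (CoordGrp.formsCoact k 3 4))
      (GLin.isCoactAlg_comodAlong ((CoordGrp.SLn.mkHom 3 k).comp (CoordGrp.Mat.toGLn 3 k)) (CoordGrp.formsCoact k 3 4)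
        (CoordGrp.formsCoact_isCoactAlg k 3 4))
      a ↔
      ∃ M : Matrix (Fin 3) (Fin 3) k, M.det = 1 ∧
        ∃ F' : MvPolynomial (Fin 3) k,
          F' = MvPolynomial.aeval (fun i : Fin 3 => ∑ j : Fin 3, MvPolynomial.C (M i j) * MvPolynomial.X j)
              (CoordGrp.formPoly a) ∧
          (∀ ij : ℕ × ℕ, ij ∈ ({(0, 0), (1, 0), (0, 1), (2, 0), (1, 1)} : Finset (ℕ × ℕ)) →
            F'.coeff (Finsupp.single 0 (4 - ij.1 - ij.2) + Finsupp.single 1 ij.1 + Finsupp.single 2 ij.2) = 0) ∧
          (F'.coeff (Finsupp.single 0 2 + Finsupp.single 2 2) = 0 ∨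
            F'.coeff (Finsupp.single 0 1 + Finsupp.single 1 3) = 0) := by
  rw [K875.Quartic.not_isStableVec_iff]
  refine exists_congr fun M => and_congr_right fun _ => ?_
  have hex : ∀ i j : ℕ, K875.Quartic.ex i j =
    Finsupp.single 0 (4 - i - j) + Finsupp.single 1 i + Finsupp.single 2 j := fun _ _ => rfl
  constructor
  · rintro ⟨⟨h00, h10, h01, h20, h11⟩, h⟩
    refine ⟨_, rfl, ?_, ?_⟩
    · intro ij hij
      simp only [Finset.mem_insert, Finset.mem_singleton] at hij
      rcases hij with rfl | rfl | rfl | rfl | rfl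
      · exact h00
      · exact h10
      · exact h01
      · exact h20
      · exact h11
    · rcases h with h | h
      · left
        have h2 : (Finsupp.single 0 2 + Finsupp.single 2 2 : Fin 3 →₀ ℕ) = K875.Quartic.ex 0 2 := by
          rw [hex]; simp
        rw [h2]; exact h
      · right
        have h2 : (Finsupp.single 0 1 + Finsupp.single 1 3 : Fin 3 →₀ ℕ) = K875.Quartic.ex 3 0 := by
          rw [hex]; simp
        rw [h2]; exact h
  · rintro ⟨F', rfl, h1, h⟩
    refine ⟨⟨h1 (0, 0) (by simp), h1 (1, 0) (by simp), h1 (0, 1) (by simp), h1 (2, 0) (by simp),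
      h1 (1, 1) (by simp)⟩, ?_⟩
    rcases h with h | h
    · left
      have h2 : (Finsupp.single 0 2 + Finsupp.single 2 2 : Fin 3 →₀ ℕ) = K875.Quartic.ex 0 2 := by
        rw [hex]; simp
      rw [h2] at h; exact h
    · right
      have h2 : (Finsupp.single 0 1 + Finsupp.single 1 3 : Fin 3 →₀ ℕ) = K875.Quartic.ex 3 0 := by
        rw [hex]; simp
      rw [h2] at h; exact h

end Groth.Agent.S12551
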