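import Groth.Statements.S12554
import Groth.Agent.GIT.K610.MgEnd

set_option autoImplicit false
universe u
open CategoryTheory AlgebraicGeometry
open GIT

namespace Groth.Agent.S12554

/-- Let g ≥ 2 and let M_g be the moduli problem over Spec ℚ of curves of genus g (smooth proper families
every geometric fibre of which is an irreducible curve of genus g, modulo isomorphism over the base,
pulled back by fibre product), tested on Noetherian schemes. Then a coarse moduli scheme exists: a
scheme M over Spec ℚ and a morphism φ from M_g to the functor of points of M, bijective on points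
with values in every algebraically closed field and universal for morphisms from M_g to
representable functors; and M has a point over every algebraically closed field of characteristic
zero (curves of every genus exist, so M is not the empty scheme). (The published result is stated
over the integers, where its proof relies on results the text only cites; this row is the
characteristic-zero case over the rationals, which the text proves.) -/
theorem result (g : ℕ) (hg : 2 ≤ g) :
    ∃ (M : Over (Spec (CommRingCat.of (ULift.{u} ℚ))))
      (φ : (ModFun.Mg (Spec (CommRingCat.of (ULift.{u} ℚ))) g).Hom (fun T => IsNoetherian T.left) M),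
      ModFun.IsCoarseModuli (fun T => IsNoetherian T.left) (ModFun.Mg (Spec (CommRingCat.of (ULift.{u} ℚ))) g) M φ ∧
        ∀ (Ω : Type u) [Field Ω] [IsAlgClosed Ω] (t : Spec (CommRingCat.of Ω) ⟶ Spec (CommRingCat.of (ULift.{u} ℚ))),
          Nonempty (Over.mk t ⟶ M) := by
  have h1 : IsNoetherian (Spec (CommRingCat.of (ULift.{u} ℚ))) := by
    have : IsNoetherianRing (ULift.{u} ℚ) := isNoetherianRing_of_ringEquiv ℚ ULift.ringEquiv.symm
    infer_instance
  have h2 : IsReduced (Spec (CommRingCat.of (ULift.{u} ℚ))) := by
    have : _root_.IsReduced (ULift.{u} ℚ) := isReduced_of_injective ULift.ringEquiv ULift.ringEquiv.injective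
    infer_instance
  exact K610.Mg.exists_coarse_of_AgInput hg (K610.MgStack.stackInputs _ hg) (K610.MgKM.km _) K610.MgEnd.nodeA0
    K507.NodeB.main
    (Spec.map (CommRingCat.ofHom (((ULift.ringEquiv.symm : ℚ ≃+* ULift.{u} ℚ).toRingHom.comp (Int.castRingHom ℚ)).comp
      (ULift.ringEquiv : ULift.{u} ℤ ≃+* ℤ).toRingHom))) (K610.MgEnd.agInput g hg)
    (K610.MgEnd.nonempty_fiber _ g)

end Groth.Agent.S12554
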