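import Groth.Statements.S12556
import Groth.Agent.GIT.K688.Reynolds

set_option autoImplicit false
universe u
open TensorProduct
open GIT

namespace Groth.Agent.S12556

/-- Let k be a field, G = Spec A a linearly reductive affine group (A a commutative Hopf algebra whose
finite-dimensional comodules are all semisimple) acting on the affine scheme Spec R (a
multiplicative coaction of A on the commutative k-algebra R), and E : R → R a linear map commuting
with the coaction, idempotent, and fixing exactly the invariant elements. Then E(x · y) = E(x) · y
for all x in R and all invariant y. -/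
theorem result (k : Type u) [Field k] (A : Type u) [CommRing A] [HopfAlgebra k A]
    (hG : HopfRep.IsLinearlyReductive k A)
    (R : Type u) [CommRing R] [Algebra k R] [HopfRep.Comod k A R] [GLin.IsCoactAlg k A R]
    (E : R →ₗ[k] R) (h₁ : Hoch.IsComodHom A E) (h₂ : E ∘ₗ E = E)
    (h₃ : ∀ x : R, E x = x ↔ x ∈ GLin.invariants k A R)
    (x y : R) (hy : y ∈ GLin.invariants k A R) : E (x * y) = E x * y := by
  have h₁' := (K688.Reynolds.isComodHom_iff E).1 h₁
  have hmul : Groth.Agent.Books.ComodHom.IsComodHom k A (LinearMap.mulRight k y) := by
    intro g
    have hy' : HopfRep.Comod.coact (k := k) (A := A) y = y ⊗ₜ[k] (1 : A) := hy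
    rw [LinearMap.mulRight_apply, GLin.IsCoactAlg.coact_mul, hy']
    generalize HopfRep.Comod.coact (k := k) (A := A) g = z
    induction z with
    | zero => simp
    | tmul x a => simp
    | add x y hx hy => rw [add_mul, map_add, hx, hy]
  exact K688.Reynolds.reynolds_comm hG h₁' h₂ h₃ h₁' h₂ h₃ hmul x

end Groth.Agent.S12556
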