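import Groth.Statements.S12557
import Groth.Agent.GIT.K688.Reynolds

set_option autoImplicit false
universe u
open TensorProduct
open GIT

namespace Groth.Agent.S12557

/-- Let k be a field, G = Spec A a linearly reductive affine group (A a commutative Hopf algebra whose
finite-dimensional comodules are all semisimple) acting on the affine scheme Spec R, R_0 ⊆ R the
ring of invariants, and (𝔄_i) a family of ideals of R each stable under the coaction. Then the sum
of the 𝔄_i meets R_0 in the sum of the intersections 𝔄_i ∩ R_0. -/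
theorem result (k : Type u) [Field k] (A : Type u) [CommRing A] [HopfAlgebra k A]
    (hG : HopfRep.IsLinearlyReductive k A)
    (R : Type u) [CommRing R] [Algebra k R] [HopfRep.Comod k A R] [GLin.IsCoactAlg k A R]
    (ι : Type u) (𝔄 : ι → Ideal R) (h𝔄 : ∀ i, HopfRep.IsSubcomod (k := k) (A := A) ((𝔄 i).restrictScalars k)) :
    (⨆ i, (𝔄 i).restrictScalars k) ⊓ Subalgebra.toSubmodule (GLin.invariants k A R) =
      ⨆ i, ((𝔄 i).restrictScalars k ⊓ Subalgebra.toSubmodule (GLin.invariants k A R)) := by
  obtain ⟨E, ⟨h₁, h₂, h₃⟩, -⟩ := K688.Reynolds.existsUnique_reynolds (k := k) (A := A) (V := R) hG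
  refine le_antisymm ?_ ?_
  · rintro x ⟨hx, hx'⟩
    have hx'' : E x = x := (h₃ x).2 hx'
    rw [← hx'']
    have h4 : x ∈ (⨆ i, (𝔄 i).restrictScalars k) := hx
    have h5 : (⨆ i, (𝔄 i).restrictScalars k) ≤
        (⨆ i, ((𝔄 i).restrictScalars k ⊓ Subalgebra.toSubmodule (GLin.invariants k A R))).comap E := by
      refine iSup_le fun i z hz => ?_
      refine Submodule.mem_iSup_of_mem i ⟨?_, ?_⟩
      · exact K688.Reynolds.apply_mem_subcomod hG h₁ h₂ h₃ _ (h𝔄 i) hz
      · exact K688.Reynolds.apply_mem h₂ h₃ z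
    exact h5 h4
  · refine iSup_le fun i => ?_
    exact inf_le_inf_right _ (le_iSup (fun i => (𝔄 i).restrictScalars k) i)

end Groth.Agent.S12557
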