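import Groth.Statements.S12570
import Groth.Agent.FunFld.K666.DiffEx
import Groth.Agent.FunFld.K660.Sep

set_option autoImplicit false
universe u v w
open FunFld

namespace Groth.Agent.S12570

/-- For a place `Q` of a finite separable extension `K'` of a geometric function field of one variable
`K/k`, lying over `P` with ramification index `e`, both places having Laurent expansions over `k` in
local parameters (separable places), and `x` with `dx` of finite order above and below: the
different exponent `d(Q|P)`, computed on `dx`, is `e - 1` if `char K` does not divide `e`, and is `≥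
e` otherwise. (The published statement allows any finite extension along which differentials of `K`
pull back injectively; this row takes `K'` separable over `K`.) -/
theorem result (k : Type u) (K K' : Type v) [Field k] [Field K] [Field K'] [Algebra k K] [Algebra K K'] [Algebra k K']
    [IsScalarTower k K K'] [FiniteDimensional K K'] [Algebra.IsSeparable K K']
    (hK : FunFld.IsFunctionField k K) (hg : FunFld.IsGeometric k K)
    (F F' : Type w) [Field F] [Algebra k F] [Field F'] [Algebra k F']
    (P : FunFld.Place k K) (Q : FunFld.Place k K') (e : ℕ) (he : FunFld.IsOverWith Q P e)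
    (φ : K →ₐ[k] LaurentSeries F) (hφ : LocRes.IsExpansionAt P.1 φ)
    (ψ : K' →ₐ[k] LaurentSeries F') (hψ : LocRes.IsExpansionAt Q.1 ψ)
    (x : K) (hx : LocRes.vDiff φ 1 x ≠ 0) (hx' : LocRes.vDiff ψ 1 (algebraMap K K' x) ≠ 0) :
    (¬ (ringChar K ∣ e) → LocRes.diffExp φ ψ e x = (e : ℤ) - 1) ∧
    (ringChar K ∣ e → (e : ℤ) ≤ LocRes.diffExp φ ψ e x) := by
  have h1 : Module.finrank K (KaehlerDifferential k K) = 1 := by
    obtain ⟨t, ht, hsep⟩ := K660.Sep.exists_isSeparable hK hg
    exact K660.Sep.finrank_kaehler ht hsep
  have hb := K666.DiffEx.diffExp_bounds he hφ hψ h1 x hx hx'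
  have hiff : ringChar K ∣ e ↔ (e : F') = 0 := by
    rw [← ringChar.spec]
    have e1 : (e : K) = 0 ↔ (ψ (algebraMap K K' (e : K))) = 0 := by
      rw [map_eq_zero, map_eq_zero]
    rw [e1, map_natCast, map_natCast, ← map_natCast (HahnSeries.C (Γ := ℤ) (R := F')) e,
      map_eq_zero]
  rw [hiff]
  exact hb

end Groth.Agent.S12570
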