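import Groth.Statements.S12572
import Groth.Agent.FunFld.K666.DiffEx
import Groth.Agent.FunFld.K666.MinpUnif
import Groth.Agent.FunFld.K660.Sep

set_option autoImplicit false
universe u v w
open FunFld

namespace Groth.Agent.S12572

/-- Let `Q` be a place of a finite separable extension `K'` of a geometric function field of one
variable `K/k`, over `P` with ramification index `e` and residue degree `1`, both places with
Laurent expansions over `k` in local parameters; if `s` with `v_Q(s) = 1` is a unit at every other
place of `K'` above `P`, then `K'` is generated over `K` by `s`, and `d(Q|P) = v_Q(f'(s))` for the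
minimal polynomial `f` of `s` over `K` (the different exponent computed on `dx`). -/
theorem result (k : Type u) (K K' : Type v) [Field k] [Field K] [Field K'] [Algebra k K] [Algebra K K'] [Algebra k K']
    [IsScalarTower k K K'] [FiniteDimensional K K'] [Algebra.IsSeparable K K']
    (hK : FunFld.IsFunctionField k K) (hg : FunFld.IsGeometric k K)
    (F F' : Type w) [Field F] [Algebra k F] [Field F'] [Algebra k F']
    (P : FunFld.Place k K) (Q : FunFld.Place k K') (e : ℕ) (he : FunFld.IsOverWith Q P e)
    (φ : K →ₐ[k] LaurentSeries F) (hφ : LocRes.IsExpansionAt P.1 φ)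
    (ψ : K' →ₐ[k] LaurentSeries F') (hψ : LocRes.IsExpansionAt Q.1 ψ)
    (x : K) (hx : LocRes.vDiff φ 1 x ≠ 0) (hx' : LocRes.vDiff ψ 1 (algebraMap K K' x) ≠ 0)
    [P.1.HasExtension Q.1]
    (hf : Function.Surjective (algebraMap (IsLocalRing.ResidueField P.O) (IsLocalRing.ResidueField Q.O)))
    (s : K') (hs : Q.1 s = WithZero.exp (-1))
    (hs' : ∀ Q' : FunFld.Place k K', FunFld.IsOver Q' P → Q' ≠ Q → Q'.1 s = 1) :
    IntermediateField.adjoin K ({s} : Set K') = ⊤ ∧
    Q.ord (Polynomial.aeval s (Polynomial.derivative (minpoly K s))) = LocRes.diffExp φ ψ e x := by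
  have h1 : Module.finrank K (KaehlerDifferential k K) = 1 := by
    obtain ⟨t, ht, hsep⟩ := K660.Sep.exists_isSeparable hK hg
    exact K660.Sep.finrank_kaehler ht hsep
  have hQP : FunFld.IsOver Q P := ⟨e, he⟩
  -- the degrees agree
  have hdeg : Q.deg = P.deg := by
    apply le_antisymm _ (K666.Ext.deg_le_of_isOver hK P Q hQP)
    have hfP := K660.Compare.finite_residue hK P
    have hsurj : Function.Surjective (K666.Ext.resLin Q P hQP) := by
      intro r
      obtain ⟨a, rfl⟩ := hf r
      obtain ⟨b, rfl⟩ := IsLocalRing.residue_surjective a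
      refine ⟨IsLocalRing.residue P.O b, ?_⟩
      rfl
    exact LinearMap.finrank_le_finrank_of_surjective hsurj
  obtain ⟨h2, h3, h4⟩ := K666.MinpUnif.main hK hg P Q hQP hdeg s hs hs'
  exact ⟨h2, K666.DiffEx.ord_deriv_eq_diffExp he hφ hψ h1 x hx hx' (minpoly K s) s (minpoly.aeval K s)
    h3 h4 hs⟩

end Groth.Agent.S12572
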