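import Groth.Statements.S12573
import Groth.Agent.FunFld.K666.DiffEx
import Groth.Agent.FunFld.K666.MinpUnif
import Groth.Agent.FunFld.K660.Sep

set_option autoImplicit false
universe u v w
open FunFld

namespace Groth.Agent.S12573

/-- For a place `Q` of a finite separable extension `K'` of a geometric function field of one variable
`K/k`, lying over `P` with ramification index `e = [K' : K]`, both places with Laurent expansions
over `k` in local parameters, and any local parameter `s` at `Q` with minimal polynomial `f` over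
`K`: `v_Q(f'(s)) = d(Q|P)` (computed on `dx`). -/
theorem result (k : Type u) (K K' : Type v) [Field k] [Field K] [Field K'] [Algebra k K] [Algebra K K'] [Algebra k K']
    [IsScalarTower k K K'] [FiniteDimensional K K'] [Algebra.IsSeparable K K']
    (hK : FunFld.IsFunctionField k K) (hg : FunFld.IsGeometric k K)
    (F F' : Type w) [Field F] [Algebra k F] [Field F'] [Algebra k F']
    (P : FunFld.Place k K) (Q : FunFld.Place k K') (e : ℕ) (he : FunFld.IsOverWith Q P e)
    (φ : K →ₐ[k] LaurentSeries F) (hφ : LocRes.IsExpansionAt P.1 φ)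
    (ψ : K' →ₐ[k] LaurentSeries F') (hψ : LocRes.IsExpansionAt Q.1 ψ)
    (x : K) (hx : LocRes.vDiff φ 1 x ≠ 0) (hx' : LocRes.vDiff ψ 1 (algebraMap K K' x) ≠ 0)
    (hn : e = Module.finrank K K') (s : K') (hs : Q.1 s = WithZero.exp (-1)) :
    Q.ord (Polynomial.aeval s (Polynomial.derivative (minpoly K s))) = LocRes.diffExp φ ψ e x := by
  have h1 : Module.finrank K (KaehlerDifferential k K) = 1 := by
    obtain ⟨t, ht, hsep⟩ := K660.Sep.exists_isSeparable hK hg
    exact K660.Sep.finrank_kaehler ht hsep
  have hQP : FunFld.IsOver Q P := ⟨e, he⟩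
  obtain ⟨hdeg, huniq⟩ := K666.Ext.total_ram hK P Q hQP (by rw [K661.Place.ramIdx_eq he, hn])
  obtain ⟨h2, h3, h4⟩ := K666.MinpUnif.main hK hg P Q hQP hdeg s hs
    (fun Q' hQ' hne => absurd (huniq Q' hQ') hne)
  exact K666.DiffEx.ord_deriv_eq_diffExp he hφ hψ h1 x hx hx' (minpoly K s) s (minpoly.aeval K s)
    h3 h4 hs

end Groth.Agent.S12573
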