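import Groth.Statements.S12574
import Groth.Agent.FunFld.K666.DiffEx
import Groth.Agent.FunFld.K666.MinpUnif
import Groth.Agent.FunFld.K666.TraceDual
import Groth.Agent.FunFld.K660.Sep

set_option autoImplicit false
universe u v w
open FunFld

namespace Groth.Agent.S12574

/-- Let `Q` be a place of a finite separable extension `K'` of a geometric function field of one
variable `K/k`, over `P` with ramification index `e` and residue degree `1`, both with Laurent
expansions over `k` in local parameters, and let `R^*` be the dual, under the trace form of `K'/K`,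
of the integral closure of `O_P` in `K'`. Then `min_{y ∈ R^*} v_Q(y) = -d(Q|P)`: in multiplicative
notation every `y ∈ R^*` has `v_Q(y) ≤ exp d(Q|P)` and equality is attained. -/
theorem result (k : Type u) (K K' : Type v) [Field k] [Field K] [Field K'] [Algebra k K] [Algebra K K'] [Algebra k K']
    [IsScalarTower k K K'] [FiniteDimensional K K'] [Algebra.IsSeparable K K']
    (hK : FunFld.IsFunctionField k K) (hg : FunFld.IsGeometric k K)
    (F F' : Type w) [Field F] [Algebra k F] [Field F'] [Algebra k F']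
    (P : FunFld.Place k K) (Q : FunFld.Place k K') (e : ℕ) (he : FunFld.IsOverWith Q P e)
    (φ : K →ₐ[k] LaurentSeries F) (hφ : LocRes.IsExpansionAt P.1 φ)
    (ψ : K' →ₐ[k] LaurentSeries F') (hψ : LocRes.IsExpansionAt Q.1 ψ)
    (x : K) (hx : LocRes.vDiff φ 1 x ≠ 0) (hx' : LocRes.vDiff ψ 1 (algebraMap K K' x) ≠ 0)
    [P.1.HasExtension Q.1]
    (hf : Function.Surjective (algebraMap (IsLocalRing.ResidueField P.O) (IsLocalRing.ResidueField Q.O)))
    [Algebra P.O K'] [IsScalarTower P.O K K'] :
    (∀ y : K', (∀ z : K', IsIntegral P.O z → P.1 (Algebra.trace K K' (y * z)) ≤ 1) →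
      Q.1 y ≤ WithZero.exp (LocRes.diffExp φ ψ e x)) ∧
    ∃ y : K', (∀ z : K', IsIntegral P.O z → P.1 (Algebra.trace K K' (y * z)) ≤ 1) ∧
      Q.1 y = WithZero.exp (LocRes.diffExp φ ψ e x) := by
  classical
  have h1 : Module.finrank K (KaehlerDifferential k K) = 1 := by
    obtain ⟨t, ht, hsep⟩ := K660.Sep.exists_isSeparable hK hg
    exact K660.Sep.finrank_kaehler ht hsep
  have hQP : FunFld.IsOver Q P := ⟨e, he⟩
  -- the degrees agree
  have hdeg : Q.deg = P.deg := by
    apply le_antisymm _ (K666.Ext.deg_le_of_isOver hK P Q hQP)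
    have hfP := K660.Compare.finite_residue hK P
    have hsurj : Function.Surjective (K666.Ext.resLin Q P hQP) := by
      intro r
      obtain ⟨a, rfl⟩ := hf r
      obtain ⟨b, rfl⟩ := IsLocalRing.residue_surjective a
      refine ⟨IsLocalRing.residue P.O b, ?_⟩
      rfl
    exact LinearMap.finrank_le_finrank_of_surjective hsurj
  -- the element `s`
  have hfin := K666.Ext.finite_over (K' := K') hK P
  obtain ⟨s, hs⟩ := K664.weak_approx_eq hfin.toFinset (fun _ => (0 : K'))
    (fun Q' => if Q' = Q then 1 else 0)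
  simp only [sub_zero] at hs
  have hs1 : Q.1 s = WithZero.exp (-1 : ℤ) := by
    have := hs Q (by simpa using hQP)
    rwa [if_pos rfl] at this
  have hs' : ∀ Q' : FunFld.Place k K', FunFld.IsOver Q' P → Q' ≠ Q → Q'.1 s = 1 := by
    intro Q' hQ' hne
    have := hs Q' (by simpa using hQ')
    rwa [if_neg hne, neg_zero, WithZero.exp_zero] at this
  obtain ⟨h2, h3, h4⟩ := K666.MinpUnif.main hK hg P Q hQP hdeg s hs1 hs'
  have hint : IsIntegral P.O s := K666.MinpUnif.isIntegral_of_forall hK P s (by
    intro Q' hQ'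
    by_cases hne : Q' = Q
    · rw [hne, hs1, ← WithZero.exp_zero, WithZero.exp_le_exp]; omega
    · exact (hs' Q' hQ' hne).le)
  have h5 := K666.DiffEx.ord_deriv_eq_diffExp he hφ hψ h1 x hx hx' (minpoly K s) s
    (minpoly.aeval K s) h3 h4 hs1
  have h6 : Polynomial.aeval s (Polynomial.derivative (minpoly K s)) ≠ 0 :=
    (Algebra.IsSeparable.isSeparable K s).aeval_derivative_ne_zero (minpoly.aeval K s)
  have h7 : (Q.1 (Polynomial.aeval s (Polynomial.derivative (minpoly K s))))⁻¹ =
      WithZero.exp (LocRes.diffExp φ ψ e x) := by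
    rw [← h5, K664.val_eq_exp Q h6, ← WithZero.exp_neg, neg_neg]
  have h8 := K666.TraceDual.traceDual P hQP
    (K661.OverFF.finite_O (K' := K') (K660.Places.exists_isGen hK) P) hint hs1 h4 h2
  rw [h7] at h8
  exact h8

end Groth.Agent.S12574
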