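import Groth.Statements.S12575
import Groth.Agent.S12574
import Groth.Agent.FunFld.K666.NsTower

set_option autoImplicit false
universe u v w
open FunFld

namespace Groth.Agent.S12575

/-- Let `Q` be a place of a finite separable extension `K' = K(y)` of a geometric function field of one
variable `K/k`, over `P` with ramification index `e` and residue degree `1`, both with Laurent
expansions over `k` in local parameters, with `y` integral over `O_P` and `g` its minimal polynomial
over `K`. Then `v_Q(g'(y)) ≥ d(Q|P)`, and when equality holds `O_Q` is the localisation of `O_P[y]`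
at `Q`. -/
theorem result (k : Type u) (K K' : Type v) [Field k] [Field K] [Field K'] [Algebra k K] [Algebra K K'] [Algebra k K']
    [IsScalarTower k K K'] [FiniteDimensional K K'] [Algebra.IsSeparable K K']
    (hK : FunFld.IsFunctionField k K) (hg : FunFld.IsGeometric k K)
    (F F' : Type w) [Field F] [Algebra k F] [Field F'] [Algebra k F']
    (P : FunFld.Place k K) (Q : FunFld.Place k K') (e : ℕ) (he : FunFld.IsOverWith Q P e)
    (φ : K →ₐ[k] LaurentSeries F) (hφ : LocRes.IsExpansionAt P.1 φ)
    (ψ : K' →ₐ[k] LaurentSeries F') (hψ : LocRes.IsExpansionAt Q.1 ψ)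
    (x : K) (hx : LocRes.vDiff φ 1 x ≠ 0) (hx' : LocRes.vDiff ψ 1 (algebraMap K K' x) ≠ 0)
    [P.1.HasExtension Q.1]
    (hf : Function.Surjective (algebraMap (IsLocalRing.ResidueField P.O) (IsLocalRing.ResidueField Q.O)))
    [Algebra P.O K'] [IsScalarTower P.O K K']
    (y : K') (hy : IntermediateField.adjoin K ({y} : Set K') = ⊤) (hyi : IsIntegral P.O y) :
    LocRes.diffExp φ ψ e x ≤ Q.ord (Polynomial.aeval y (Polynomial.derivative (minpoly K y))) ∧
    (Q.ord (Polynomial.aeval y (Polynomial.derivative (minpoly K y))) = LocRes.diffExp φ ψ e x →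
      ∀ z : K', Q.1 z ≤ 1 → ∃ a ∈ Algebra.adjoin P.O ({y} : Set K'), ∃ b ∈ Algebra.adjoin P.O ({y} : Set K'),
        Q.1 b = 1 ∧ z * b = a) := by
  classical
  have hQP : FunFld.IsOver Q P := ⟨e, he⟩
  have hfin : Module.Finite P.O (integralClosure P.O K') :=
    K661.OverFF.finite_O (K' := K') (K660.Places.exists_isGen hK) P
  have hded := K661.Over.isDedekind P hfin
  obtain ⟨-, y0, hy0, hy0v⟩ := Groth.Agent.S12574.result k K K' hK hg F F' P Q e he φ hφ ψ hψ x hx hx' hf
  have hsK : IsIntegral K y := Algebra.IsIntegral.isIntegral y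
  have htop' : Algebra.adjoin K ({y} : Set K') = ⊤ := by
    rw [← IntermediateField.adjoin_simple_toSubalgebra_of_isAlgebraic hsK.isAlgebraic, hy,
      IntermediateField.top_toSubalgebra]
  have hdual := traceForm_dualSubmodule_adjoin P.O K htop' hyi
  have hone : ∀ a : K, a ∈ (1 : Submodule P.O K) ↔ P.1 a ≤ 1 := by
    intro a
    rw [Submodule.mem_one]
    constructor
    · rintro ⟨r, rfl⟩; exact r.2
    · intro h; exact ⟨⟨a, h⟩, rfl⟩
  have hle : Algebra.adjoin P.O ({y} : Set K') ≤ integralClosure P.O K' :=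
    Algebra.adjoin_le (Set.singleton_subset_iff.mpr hyi)
  have hle1 : ∀ b : K', b ∈ Algebra.adjoin P.O ({y} : Set K') → Q.1 b ≤ 1 := fun b hb =>
    K661.Over.integralClosure_le P hQP (hle hb)
  have hmem : ∀ a : K', (∀ z : K', IsIntegral P.O z → P.1 (Algebra.trace K K' (a * z)) ≤ 1) →
      ∃ b ∈ Algebra.adjoin P.O ({y} : Set K'),
        a = (Polynomial.aeval y (Polynomial.derivative (minpoly K y)))⁻¹ * b := by
    intro a ha
    have h1 : a ∈ (Algebra.traceForm K K').dualSubmodule
        (Subalgebra.toSubmodule (Algebra.adjoin P.O ({y} : Set K'))) := by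
      rw [LinearMap.BilinForm.mem_dualSubmodule]
      intro b hb
      rw [Algebra.traceForm_apply, hone]
      exact ha b (hle hb)
    rw [hdual, Submodule.mem_smul_pointwise_iff_exists] at h1
    obtain ⟨b, hb, hb2⟩ := h1
    exact ⟨b, hb, by rw [← hb2, smul_eq_mul]⟩
  have h6 : Polynomial.aeval y (Polynomial.derivative (minpoly K y)) ≠ 0 :=
    (Algebra.IsSeparable.isSeparable K y).aeval_derivative_ne_zero (minpoly.aeval K y)
  obtain ⟨b, hb, hyb⟩ := hmem y0 hy0
  have hv : Q.1 b = WithZero.exp (LocRes.diffExp φ ψ e x -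
      Q.ord (Polynomial.aeval y (Polynomial.derivative (minpoly K y)))) := by
    have h7 : b = Polynomial.aeval y (Polynomial.derivative (minpoly K y)) * y0 := by
      rw [hyb, mul_inv_cancel_left₀ h6]
    rw [h7, map_mul, hy0v, K664.val_eq_exp Q h6, ← WithZero.exp_add]
    congr 1; ring
  constructor
  · have h8 := hle1 b hb
    rw [hv, ← WithZero.exp_zero, WithZero.exp_le_exp] at h8
    omega
  · intro heq z hz
    have hb1 : Q.1 b = 1 := by rw [hv, heq, sub_self, WithZero.exp_zero]
    have hcond : ∀ r : K', IsIntegral P.O r → b * r ∈ Algebra.adjoin P.O ({y} : Set K') := by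
      intro r hr
      obtain ⟨b', hb', h9⟩ := hmem (y0 * r) (fun z hz => by
        rw [mul_assoc]; exact hy0 _ (hr.mul hz))
      have h10 : b * r = b' := by
        have h11 : Polynomial.aeval y (Polynomial.derivative (minpoly K y)) * (y0 * r) = b' := by
          rw [h9, mul_inv_cancel_left₀ h6]
        rw [← h11, hyb]
        field_simp
      rw [h10]; exact hb'
    obtain ⟨s, hs1, hs2, hs3⟩ := K666.NsTower.exists_mul_isIntegral P hfin hQP hz
    refine ⟨b * (s * z), hcond _ hs3, b * s, hcond _ hs2, ?_, by ring⟩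
    rw [map_mul, hb1, hs1, one_mul]

end Groth.Agent.S12575
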