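import Groth.Statements.S12580
import Groth.Agent.FunFld.K667.Nondeg
import Groth.Agent.S10970

set_option autoImplicit false
universe u v w
open FunFld

namespace Groth.Agent.S12580

theorem finsupp (k : Type u) (K : Type v) [Field k] [Field K] [Algebra k K] (hK : FunFld.IsFunctionField k K)
    (x : K) : (Function.support fun P : FunFld.Place k K => P.ord x).Finite :=
  Groth.Agent.S10970.result k K hK x

/-- In a function field of one variable `K/k`, `Res_P(u dv) = 0` when `u, v ∈ O_P` (already before the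
trace), and for a repartition `α` and `v ∈ K`, `Res_P(α_P dv) = 0` for almost all `P`; residues read
through Laurent expansions over `k` at every place. -/
theorem result (k : Type u) (K : Type v) [Field k] [Field K] [Algebra k K] (hK : FunFld.IsFunctionField k K)
    (F : FunFld.Place k K → Type w) [∀ P, Field (F P)] [∀ P, Algebra k (F P)] [∀ P, FiniteDimensional k (F P)]
    (φ : ∀ P, K →ₐ[k] LaurentSeries (F P)) (hφ : ∀ P, LocRes.IsExpansionAt P.1 (φ P)) :
    (∀ (P : FunFld.Place k K) (u v : K), P.1 u ≤ 1 → P.1 v ≤ 1 → LocRes.resExp (φ P) u v = 0) ∧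
    ∀ (a : FunFld.Place k K → K), a ∈ FunFld.adele k K → ∀ v : K,
      {P : FunFld.Place k K | LocRes.resExp (φ P) (a P) v ≠ 0}.Finite := by
  have h1 : ∀ (P : FunFld.Place k K) (u v : K), P.1 u ≤ 1 → P.1 v ≤ 1 →
      LocRes.resExp (φ P) u v = 0 := fun P u v hu hv =>
    K667.Nondeg.resExp_eq_zero_of_le (K667.Nondeg.vDiff_le_one_of_le (hφ P) hu hv)
  refine ⟨h1, fun a ha v => ?_⟩
  by_cases hv : v = 0
  · have : {P : FunFld.Place k K | LocRes.resExp (φ P) (a P) v ≠ 0} = ∅ := by
      ext P
      simp [hv, LocRes.resExp]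
    rw [this]; exact Set.finite_empty
  have h2 : {P : FunFld.Place k K | ¬ P.1 (a P) ≤ 1}.Finite := ha
  refine (h2.union (finsupp k K hK v)).subset ?_
  intro P hP
  by_contra h3
  rw [Set.mem_union, not_or] at h3
  obtain ⟨h4, h5⟩ := h3
  simp only [Set.mem_setOf_eq, not_not, Function.mem_support] at h4 h5
  apply hP
  refine h1 P _ _ h4 ?_
  have h6 : P.1 v ≠ 0 := (Valuation.ne_zero_iff _).2 hv
  rw [FunFld.Place.ord, neg_eq_zero] at h5
  rw [← WithZero.exp_log h6, h5, WithZero.exp_zero]

end Groth.Agent.S12580
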