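import Groth.Statements.S12583
import Groth.Agent.FunFld.K667.HasseExp
import Groth.Agent.FunFld.K660.Sep

set_option autoImplicit false
universe u v w
open FunFld

namespace Groth.Agent.S12583

theorem finrankOmega (k : Type u) (K : Type v) [Field k] [Field K] [Algebra k K]
    (hK : FunFld.IsFunctionField k K) (hg : FunFld.IsGeometric k K) :
    Module.finrank K (KaehlerDifferential k K) = 1 := by
  obtain ⟨t, ht, hsep⟩ := K660.Sep.exists_isSeparable hK hg
  exact K660.Sep.finrank_kaehler ht hsep

/-- At a separable place `P` of a geometric function field of one variable `K/k` with local parameter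
`t`, if `x ∈ O_P` has expansion `∑ a_m t^m` then the Hasse derivative `D_t^{(n)}(x)` expands as the
series with coefficients `C(m,n) a_m` in degree `m - n`; in particular `D_t^{(n)}(O_P) ⊆ O_P`. Here
`φ` is a Laurent expansion over `k` at `P` with `φ t = X` and `H` is the total Hasse derivative with
respect to `t`. -/
theorem result (k : Type u) (K : Type v) [Field k] [Field K] [Algebra k K] (hK : FunFld.IsFunctionField k K) (hg : FunFld.IsGeometric k K)
    (P : FunFld.Place k K) (F : Type w) [Field F] [Algebra k F]
    (φ : K →ₐ[k] LaurentSeries F) (hφ : LocRes.IsExpansionAt P.1 φ)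
    (t : K) (ht : φ t = HahnSeries.single 1 1)
    (H : K →ₐ[k] PowerSeries K) (hH : LocRes.IsHasseFamily t H)
    (x : K) (hx : P.1 x ≤ 1) (n : ℕ) :
    φ (LocRes.hasseD H n x) = LaurentSeries.hasseDeriv F n (φ x) := by
  have h1 := finrankOmega k K hK hg
  have hDt : KaehlerDifferential.D k K t ≠ 0 := by
    refine K667.DiffOrd.D_uniformizer_ne_zero hφ ?_
    rw [← hφ.1, ht, K667.DiffOrd.v_single _ one_ne_zero]
  have e1 : ∀ c : k, (φ : K →+* LaurentSeries F) (algebraMap k K c) =
      HahnSeries.C (algebraMap k F c) := LocRes.map_algebraMap φ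
  have key := K667.HasseExp.hom_ext (k := k) (L := LaurentSeries F) (φ : K →+* LaurentSeries F)
    (K667.HasseExp.der_eq_zero h1 hDt (φ : K →+* LaurentSeries F))
    (K667.HasseExp.taylor.comp (φ : K →+* LaurentSeries F))
    ((PowerSeries.map (φ : K →+* LaurentSeries F)).comp (H : K →+* PowerSeries K))
    ?_ ?_ ?_ ?_
  · have h3 := congrArg (fun g : K →+* PowerSeries (LaurentSeries F) => PowerSeries.coeff n (g x)) key
    simp only [RingHom.comp_apply, K667.HasseExp.coeff_taylor, PowerSeries.coeff_map] at h3
    exact h3.symm
  · intro c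
    ext n : 1
    rw [RingHom.comp_apply, K667.HasseExp.coeff_taylor, RingHom.comp_apply, PowerSeries.coeff_map]
    have e2 : (H : K →+* PowerSeries K) (algebraMap k K c) = PowerSeries.C (algebraMap k K c) := by
      have := H.commutes c
      rw [PowerSeries.algebraMap_apply] at this
      exact this
    rw [e1, e2, PowerSeries.coeff_C, HahnSeries.C_apply, LaurentSeries.hasseDeriv_single]
    by_cases hn : n = 0
    · subst hn
      simp only [if_true, Ring.choose_zero_right, one_smul]
      rw [e1, HahnSeries.C_apply]; simp
    · rw [if_neg hn, Ring.choose_zero_pos ℤ (Nat.pos_of_ne_zero hn), zero_smul, map_zero]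
      simp
  · intro y
    rw [RingHom.comp_apply, ← PowerSeries.coeff_zero_eq_constantCoeff_apply,
      K667.HasseExp.coeff_taylor, LaurentSeries.hasseDeriv_zero]
    rfl
  · intro y
    rw [RingHom.comp_apply, ← PowerSeries.coeff_zero_eq_constantCoeff_apply,
      PowerSeries.coeff_map, PowerSeries.coeff_zero_eq_constantCoeff_apply]
    have := hH.2 y
    change (φ : K →+* LaurentSeries F) (PowerSeries.constantCoeff (H y)) = _
    rw [this]
  · ext n : 1
    rw [RingHom.comp_apply, K667.HasseExp.coeff_taylor, RingHom.comp_apply, PowerSeries.coeff_map]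
    have e3 : (φ : K →+* LaurentSeries F) t = HahnSeries.single 1 1 := ht
    have e2 : (H : K →+* PowerSeries K) t = PowerSeries.C t + PowerSeries.X := hH.1
    rw [e3, e2, map_add, PowerSeries.coeff_C, PowerSeries.coeff_X, LaurentSeries.hasseDeriv_single]
    rcases n with _ | _ | n
    · simp [e3]
    · simp
    · have h4 : Ring.choose (1 : ℤ) (n + 1 + 1) = 0 := by
        have := Ring.choose_natCast (R := ℤ) 1 (n + 1 + 1)
        rw [Nat.choose_eq_zero_of_lt (by omega)] at this
        simpa using this
      rw [h4, zero_smul, if_neg (by omega), if_neg (by omega), map_zero, add_zero, map_zero]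

end Groth.Agent.S12583
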