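import Groth.Statements.S12589
import Groth.Agent.FunFld.K667.IntCl

set_option autoImplicit false
universe u v
open FunFld

namespace Groth.Agent.S12589

/-- If a place `P` of a geometric function field of one variable `K/k` is nonsingular with respect to
the finite extension `k'/k` (the integral closure of `O_P` in `K' = k' ⊗_k K` is `O_P[k']`) and `Q`
is a place of `K'` above `P`, then `F_Q = k' F_P`. -/
theorem result (k k' : Type u) (K K' : Type v) [Field k] [Field k'] [Field K] [Field K']
    [Algebra k k'] [FiniteDimensional k k'] [Algebra k K] [Algebra K K'] [Algebra k' K'] [Algebra k K']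
    [IsScalarTower k k' K'] [IsScalarTower k K K']
    (h : Function.Bijective (Algebra.TensorProduct.productMap
      (IsScalarTower.toAlgHom k k' K') (IsScalarTower.toAlgHom k K K')))
    (hK : FunFld.IsFunctionField k K) (hg : FunFld.IsGeometric k K)
    (P : FunFld.Place k K) [Algebra P.O K'] [IsScalarTower P.O K K']
    (hns : (integralClosure P.O K').toSubring = (Algebra.adjoin P.O (Set.range (algebraMap k' K'))).toSubring)
    (Q : FunFld.Place k K') [P.1.HasExtension Q.1] (hk' : ∀ c : k', Q.1 (algebraMap k' K' c) ≤ 1) :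
    Algebra.adjoin (IsLocalRing.ResidueField P.O)
      (Set.range fun c : k' => IsLocalRing.residue Q.O ⟨algebraMap k' K' c, hk' c⟩) = ⊤ := by
  set S := Algebra.adjoin (IsLocalRing.ResidueField P.O)
      (Set.range fun c : k' => IsLocalRing.residue Q.O ⟨algebraMap k' K' c, hk' c⟩) with hS
  -- `K'` is algebraic over `K`
  have halg : ∀ z : K', IsAlgebraic K z := by
    intro z
    obtain ⟨y, rfl⟩ := h.2 z
    induction y using TensorProduct.induction_on with
    | zero => rw [map_zero]; exact isAlgebraic_zero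
    | tmul a b =>
      rw [Algebra.TensorProduct.productMap_apply_tmul]
      refine IsAlgebraic.mul ?_ (isAlgebraic_algebraMap b)
      have h1 : IsAlgebraic k (IsScalarTower.toAlgHom k k' K' a) :=
        IsAlgebraic.algHom (IsScalarTower.toAlgHom k k' K') (Algebra.IsAlgebraic.isAlgebraic (R := k) a)
      exact h1.tower_top K
    | add a b ha hb => rw [map_add]; exact ha.add hb
  -- integral elements are integral at Q
  have hint : ∀ z : K', IsIntegral P.O z → Q.1 z ≤ 1 := by
    intro z hz
    have := K667.IntCl.mem_of_isIntegral hz Q.O (fun a => by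
      rw [IsScalarTower.algebraMap_apply P.O K K']
      exact (Valuation.HasExtension.val_map_le_one_iff P.1 Q.1 _).2 a.2)
    exact this
  -- residues of integral elements lie in `S`
  have hres : ∀ (z : K') (hz : IsIntegral P.O z), IsLocalRing.residue Q.O ⟨z, hint z hz⟩ ∈ S := by
    have h1 : ∀ z : K', z ∈ Algebra.adjoin P.O (Set.range (algebraMap k' K')) →
        ∃ hz : Q.1 z ≤ 1, IsLocalRing.residue Q.O ⟨z, hz⟩ ∈ S := by
      intro z hz
      induction hz using Algebra.adjoin_induction with
      | mem x hx =>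
        obtain ⟨c, rfl⟩ := hx
        exact ⟨hk' c, Algebra.subset_adjoin ⟨c, rfl⟩⟩
      | algebraMap r =>
        have h2 : algebraMap P.O K' r = algebraMap K K' (r : K) := by
          rw [IsScalarTower.algebraMap_apply P.O K K']; rfl
        have h3 : Q.1 (algebraMap P.O K' r) ≤ 1 := by
          rw [h2]
          exact (Valuation.HasExtension.val_map_le_one_iff P.1 Q.1 _).2 r.2
        refine ⟨h3, ?_⟩
        have h4 : IsLocalRing.residue Q.O ⟨algebraMap P.O K' r, h3⟩ =
            algebraMap (IsLocalRing.ResidueField P.O) (IsLocalRing.ResidueField Q.O)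
              (IsLocalRing.residue P.O r) := by
          rw [Valuation.HasExtension.algebraMap_residue_eq_residue_algebraMap]
          congr 1
          exact Subtype.ext h2
        rw [h4]
        exact S.algebraMap_mem _
      | add x y _ _ hx hy =>
        obtain ⟨hx1, hx2⟩ := hx
        obtain ⟨hy1, hy2⟩ := hy
        refine ⟨(Q.1.map_add x y).trans (max_le hx1 hy1), ?_⟩
        have : (⟨x + y, (Q.1.map_add x y).trans (max_le hx1 hy1)⟩ : Q.O) = ⟨x, hx1⟩ + ⟨y, hy1⟩ := rfl
        rw [this, map_add]
        exact add_mem hx2 hy2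
      | mul x y _ _ hx hy =>
        obtain ⟨hx1, hx2⟩ := hx
        obtain ⟨hy1, hy2⟩ := hy
        have h5 : Q.1 (x * y) ≤ 1 := by rw [map_mul]; exact mul_le_one' hx1 hy1
        refine ⟨h5, ?_⟩
        have : (⟨x * y, h5⟩ : Q.O) = ⟨x, hx1⟩ * ⟨y, hy1⟩ := rfl
        rw [this, map_mul]
        exact mul_mem hx2 hy2
    intro z hz
    have h6 : z ∈ (Algebra.adjoin P.O (Set.range (algebraMap k' K'))).toSubring := by
      rw [← hns]; exact hz
    exact (h1 z h6).2
  rw [eq_top_iff]
  rintro x -
  obtain ⟨⟨z, hz⟩, rfl⟩ := IsLocalRing.residue_surjective x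
  obtain ⟨b, c, hb, hc, hb1, hbc⟩ := K667.IntCl.exists_integral_mul_eq P.1 Q.1
    (fun x => Valuation.HasExtension.val_map_le_one_iff P.1 Q.1 x) hz (halg z)
  have hb2 := hres b hb
  have hc2 := hres c hc
  set rb := IsLocalRing.residue Q.O ⟨b, hint b hb⟩ with hrb
  have hrb0 : rb ≠ 0 := by
    intro h0
    rw [hrb, IsLocalRing.residue_eq_zero_iff, Valuation.mem_maximalIdeal_iff] at h0
    exact absurd hb1 (ne_of_lt h0)
  have hprod : IsLocalRing.residue Q.O ⟨z, hz⟩ * rb = IsLocalRing.residue Q.O ⟨c, hint c hc⟩ := by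
    rw [hrb, ← map_mul]
    congr 1
    exact Subtype.ext hbc
  -- inverse of `rb` lies in `S`
  have hrbint : IsIntegral (IsLocalRing.ResidueField P.O) rb := by
    obtain ⟨p, hp1, hp2⟩ := hb
    refine ⟨p.map (IsLocalRing.residue P.O), hp1.map _, ?_⟩
    rw [Polynomial.eval₂_map]
    have h7 : (algebraMap (IsLocalRing.ResidueField P.O) (IsLocalRing.ResidueField Q.O)).comp
        (IsLocalRing.residue P.O) = (IsLocalRing.residue Q.O).comp (algebraMap P.O Q.O) := by
      ext a; rfl
    rw [h7, hrb, ← Polynomial.hom_eval₂]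
    have h8 : Polynomial.eval₂ (algebraMap P.O Q.O) ⟨b, hint b ⟨p, hp1, hp2⟩⟩ p = 0 := by
      apply Subtype.ext
      have h9 := Polynomial.hom_eval₂ p (algebraMap P.O Q.O) Q.O.subtype ⟨b, hint b ⟨p, hp1, hp2⟩⟩
      change Q.O.subtype (Polynomial.eval₂ (algebraMap P.O Q.O) _ p) = 0
      rw [h9]
      have h10 : Q.O.subtype.comp (algebraMap P.O Q.O) = algebraMap P.O K' := by
        ext a
        rw [IsScalarTower.algebraMap_apply P.O K K']; rfl
      rw [h10]; exact hp2
    rw [h8, map_zero]
  have hinv : rb⁻¹ ∈ S := by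
    have h11 : rb⁻¹ ∈ Algebra.adjoin (IsLocalRing.ResidueField P.O) {rb} := hrbint.inv_mem_adjoin
    exact Algebra.adjoin_le (S := S) (by simpa using hb2) h11
  have hfin : IsLocalRing.residue Q.O ⟨z, hz⟩ = IsLocalRing.residue Q.O ⟨c, hint c hc⟩ * rb⁻¹ := by
    rw [← hprod]; field_simp
  rw [hfin]
  exact mul_mem hc2 hinv

end Groth.Agent.S12589
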