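import Groth.Statements.S12593
import Groth.Agent.FunFld.K668.ConstExt

set_option autoImplicit false
universe u v
open FunFld

namespace Groth.Agent.S12593

/-- Every divisor of `K̄ = k̄ ⊗_k K`, for a geometric function field of one variable `K/k`, is defined
over a finite extension `k'` of `k`; stated for a single place `Q` of `K̄/k̄`: for some finite `k' ⊆
k̄`, the field `K' = k'K ⊆ K̄` contains a local parameter at `Q` and `Q` is the only place of `K̄`
above its restriction to `K'` (so `Q` is the conorm of the point `Q ∩ K'`). -/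
theorem result (k kbar : Type u) (K Kbar : Type v) [Field k] [Field kbar] [Field K] [Field Kbar]
    [Algebra k kbar] [IsAlgClosure k kbar] [Algebra k K] [Algebra K Kbar] [Algebra kbar Kbar] [Algebra k Kbar]
    [IsScalarTower k kbar Kbar] [IsScalarTower k K Kbar]
    (h : Function.Bijective (Algebra.TensorProduct.productMap
      (IsScalarTower.toAlgHom k kbar Kbar) (IsScalarTower.toAlgHom k K Kbar)))
    (hK : FunFld.IsFunctionField k K) (hg : FunFld.IsGeometric k K) (Q : FunFld.Place kbar Kbar) :
    ∃ k' : IntermediateField k kbar, FiniteDimensional k k' ∧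
      (∃ z ∈ Algebra.adjoin K (Set.range fun c : k' => algebraMap kbar Kbar c), Q.1 z = WithZero.exp (-1)) ∧
      ∀ Q' : FunFld.Place kbar Kbar,
        (∃ e : ℕ, ∀ z ∈ Algebra.adjoin K (Set.range fun c : k' => algebraMap kbar Kbar c), Q'.1 z = Q.1 z ^ e) → Q' = Q := by
  classical
  have hcl : IsAlgClosed kbar := IsAlgClosure.isAlgClosed k
  have halg : Algebra.IsAlgebraic k kbar := IsAlgClosure.isAlgebraic
  have hKbar : FunFld.IsFunctionField kbar Kbar :=
    K668.ConstExt.isFunctionField_of_isAlgClosed (k := k) (K := K) h hK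
  obtain ⟨z, hz⟩ := Q.2.2 (WithZero.exp (-1))
  obtain ⟨f, hf, hf'⟩ := K668.ConstExt.exists_only_pole hKbar Q
  obtain ⟨E, hE, hES⟩ := K668.ConstExt.exists_finite_mem_finset (k := k) (K := K) h {z, f}
  refine ⟨E, hE, ⟨z, hES z (by simp), hz⟩, ?_⟩
  rintro Q' ⟨e, he⟩
  have h0 := he 0 (zero_mem _)
  have he0 : e ≠ 0 := by
    rintro rfl
    rw [map_zero, map_zero, pow_zero] at h0
    exact zero_ne_one h0
  by_contra hne
  have h1 := hf' Q' hne
  rw [he f (hES f (by simp))] at h1
  exact absurd h1 (not_le.2 (one_lt_pow₀ hf he0))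

end Groth.Agent.S12593
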