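import Groth.Statements.S12594
import Groth.Agent.FunFld.K668.NonsingExt

set_option autoImplicit false
universe u v
open FunFld

namespace Groth.Agent.S12594

/-- For a geometric function field of one variable `K/k` there is a finite purely inseparable extension
`k'/k` such that `k' ⊗_k K` is nonsingular: every place of it is nonsingular with respect to every
finite extension `k''/k'` (the integral closure of its valuation ring in `k'' ⊗_{k'} (k' ⊗_k K)` is
generated by `k''`). -/
theorem result (k : Type u) (K : Type v) [Field k] [Field K] [Algebra k K]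
    (hK : FunFld.IsFunctionField k K) (hg : FunFld.IsGeometric k K) :
    ∃ (k' : Type u) (_ : Field k') (_ : Algebra k k'), FiniteDimensional k k' ∧ IsPurelyInseparable k k' ∧
      ∀ (K' : Type v) [Field K'] [Algebra K K'] [Algebra k' K'] [Algebra k K']
        [IsScalarTower k k' K'] [IsScalarTower k K K'],
        Function.Bijective (Algebra.TensorProduct.productMap
          (IsScalarTower.toAlgHom k k' K') (IsScalarTower.toAlgHom k K K')) →
        ∀ (Q : FunFld.Place k' K') (k'' : Type u) [Field k''] [Algebra k' k''] [FiniteDimensional k' k'']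
          (K'' : Type v) [Field K''] [Algebra K' K''] [Algebra k'' K''] [Algebra k' K'']
          [IsScalarTower k' k'' K''] [IsScalarTower k' K' K''],
          Function.Bijective (Algebra.TensorProduct.productMap
            (IsScalarTower.toAlgHom k' k'' K'') (IsScalarTower.toAlgHom k' K' K'')) →
          integralClosure (Q.O.toSubring.map (algebraMap K' K'')) K'' =
            Algebra.adjoin (Q.O.toSubring.map (algebraMap K' K'')) (Set.range (algebraMap k'' K'')) := by
  obtain ⟨x, hx⟩ := K660.Places.exists_isGen hK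
  obtain ⟨E₁, _, _, ⟨e₁⟩, f₁, p₁, S₁, hS₁, g₁⟩ :=
    K668.NonsingExt.gen_abs.{u, v, u, u} hg hx (AlgebraicClosure k)
  obtain ⟨E₂, _, _, ⟨e₂⟩, f₂, p₂, S₂, hS₂, g₂⟩ :=
    K668.NonsingExt.gen_abs.{u, v, u, u} hg hx.inv (AlgebraicClosure k)
  obtain ⟨k', i₁, i₂, hfin, hpi, -, ⟨j₁⟩, ⟨j₂⟩⟩ :=
    K668.NonsingExt.exists_pair (AlgebraicClosure k) e₁ e₂ f₁ p₁ f₂ p₂
  exact ⟨k', i₁, i₂, hfin, hpi, @K668.NonsingExt.final k K _ _ _ x hx E₁ _ _ (S₁ : Set (TensorProduct k E₁ K))
    (fun s hs => hS₁ s (Finset.mem_coe.1 hs)) E₂ _ _ (S₂ : Set (TensorProduct k E₂ K))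
    (fun s hs => hS₂ s (Finset.mem_coe.1 hs)) (@g₁) (@g₂) k' i₁ i₂ hfin j₁ j₂⟩

end Groth.Agent.S12594
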