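import Groth.Statements.S12595
import Groth.Agent.FunFld.K668.Orders

set_option autoImplicit false
open FunFld

namespace Groth.Agent.S12595

/-- Over an algebraically closed constant field, let `φ` be a birational projective map of the function
field `K` (the ratios `φ i / φ 0` generate `K`), `τ` a `k`-endomorphism of `K` and `H` a total Hasse
derivative. Then the first `τ`-order of `φ` is positive — the column `φ` of `0`-th Hasse derivatives
lies in the `K`-span of the leading column `τ(φ)` — exactly when `τ` is the identity. -/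
theorem result
    (k K : Type*) [Field k] [IsAlgClosed k] [Field K] [Algebra k K]
    (hK : FunFld.IsFunctionField k K) {n : ℕ} (φ : Fin (n + 1) → K) (h0 : φ 0 ≠ 0)
    (hbir : IntermediateField.adjoin k (Set.range fun i => φ i / φ 0) = ⊤)
    (τ : K →ₐ[k] K) (s : K) (H : K →ₐ[k] PowerSeries K) (hH : LocRes.IsHasseFamily s H) :
    ¬ FunFld.IsJump K (FunFld.hcol τ H φ) 1 ↔ τ = AlgHom.id k K := by
  have h1 : FunFld.hcol τ H φ 1 = φ := by
    funext i
    change PowerSeries.coeff 0 (H (φ i)) = φ i
    rw [PowerSeries.coeff_zero_eq_constantCoeff_apply]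
    exact hH.2 (φ i)
  have h2 : (FunFld.hcol τ H φ) '' Set.Iio 1 = {fun i => τ (φ i)} := by
    have : Set.Iio 1 = ({0} : Set ℕ) := by ext x; simp
    rw [this, Set.image_singleton]
    rfl
  rw [FunFld.IsJump, not_not, h1, h2, Submodule.mem_span_singleton]
  constructor
  · rintro ⟨y, hy⟩
    have hy' : ∀ i, y * τ (φ i) = φ i := fun i => congrFun hy i
    have hy0 : y ≠ 0 := by
      rintro rfl
      exact h0 (by rw [← hy' 0, zero_mul])
    have hτi : ∀ i, τ (φ i) = y⁻¹ * φ i := fun i => by
      rw [eq_inv_mul_iff_mul_eq₀ hy0]; exact hy' i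
    have hfix : ∀ x ∈ IntermediateField.adjoin k (Set.range fun i => φ i / φ 0), τ x = x := by
      intro x hx
      induction hx using IntermediateField.adjoin_induction with
      | mem x hx =>
        obtain ⟨i, rfl⟩ := hx
        change τ (φ i / φ 0) = φ i / φ 0
        rw [map_div₀, hτi, hτi, mul_div_mul_left _ _ (inv_ne_zero hy0)]
      | algebraMap x => exact τ.commutes x
      | add x y _ _ hx hy => rw [map_add, hx, hy]
      | inv x _ hx => rw [map_inv₀, hx]
      | mul x y _ _ hx hy => rw [map_mul, hx, hy]
    refine AlgHom.ext fun x => hfix x ?_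
    rw [hbir]
    exact IntermediateField.mem_top
  · rintro rfl
    exact ⟨1, by simp⟩

end Groth.Agent.S12595
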