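import Groth.Statements.S12599
import Groth.Agent.FunFld.K668.HasseLoc

set_option autoImplicit false
open FunFld

namespace Groth.Agent.S12599

/-- Over an algebraically closed constant field, for a place `P` with local parameter `t`, and a
linearly independent tuple `φ = (φ₀, …, φₙ)` of functions integral at `P`, the matrix of values at
`P` of the Hasse derivatives `D_t^(j)(φᵢ)`, `j = 0, 1, …`, has rank `n + 1`: its rows are linearly
independent over the residue field. -/
theorem result
    (k K : Type*) [Field k] [IsAlgClosed k] [Field K] [Algebra k K]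
    (hK : FunFld.IsFunctionField k K) {n : ℕ} (φ : Fin (n + 1) → K) (hφ : LinearIndependent k φ)
    (P : FunFld.Place k K) (hint : ∀ i, P.1 (φ i) ≤ 1) (t : K) (ht : P.1 t = WithZero.exp (-1))
    (Ht : K →ₐ[k] PowerSeries K) (hHt : LocRes.IsHasseFamily t Ht) :
    LinearIndependent (IsLocalRing.ResidueField P.O)
      (fun i : Fin (n + 1) => fun j : ℕ => FunFld.evalP P (LocRes.hasseD Ht j (φ i))) := by
  have hsep := K668.Hasse.isSeparable hK hHt
  obtain ⟨ψ, h⟩ := K668.Loc.exists_isExp hK P t ht
  rw [Fintype.linearIndependent_iff]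
  intro g hg
  have hsurj := h.surjective_algebraMap_res
  choose c hc using fun i => hsurj (g i)
  have h1 : ∀ j : ℕ, ∑ i, c i * (ψ (φ i)).coeff (j : ℤ) = 0 := by
    intro j
    have h2 := congrFun hg j
    rw [Finset.sum_apply] at h2
    apply K668.Loc.injective_algebraMap_res P
    rw [map_zero, map_sum]
    refine Eq.trans (Finset.sum_congr rfl fun i _ => ?_) h2
    rw [map_mul, hc]
    change _ = g i • FunFld.evalP P (LocRes.hasseD Ht j (φ i))
    rw [h.evalP_hasseD hHt j (hint i), smul_eq_mul]
  have h3 : ψ (∑ i, c i • φ i) = 0 := by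
    ext n
    rw [map_sum, HahnSeries.coeff_sum, HahnSeries.coeff_zero]
    have h4 : ∀ i, (ψ (c i • φ i)).coeff n = c i * (ψ (φ i)).coeff n := fun i => by
      rw [Algebra.smul_def, map_mul, LocRes.map_algebraMap]
      rw [HahnSeries.C_mul_eq_smul, HahnSeries.coeff_smul, smul_eq_mul]; rfl
    simp_rw [h4]
    rcases lt_or_ge n 0 with hn | hn
    · refine Finset.sum_eq_zero fun i _ => ?_
      rw [h.le_one_iff.1 (hint i) n hn, mul_zero]
    · obtain ⟨m, rfl⟩ := Int.eq_ofNat_of_zero_le hn
      exact h1 m
  rw [map_eq_zero] at h3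
  rw [Fintype.linearIndependent_iff] at hφ
  intro i
  rw [← hc i, hφ c h3 i, map_zero]

end Groth.Agent.S12599
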