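import Groth.Statements.S12602
import Groth.Agent.FunFld.K668.OrdersCons
import Groth.Agent.S12595

set_option autoImplicit false
open FunFld

namespace Groth.Agent.S12602

/-- Over an algebraically closed constant field, for a birational projective map `φ = (φ₀, …, φₙ)`, `n ≥
1`, with orders `j₁ < ⋯ < jₙ`, and `τ ≠ 1`, the `τ`-orders of `φ` are `(0, j₁, …, j_{m-1}, j_{m+1},
…, jₙ)` for some `m`: the jump indices of `[τ(φ) | D^(0) φ | D^(1) φ | ⋯]` after the leading column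
are `0` and the `jₗ` with `l ≠ m`. -/
theorem result
    (k K : Type*) [Field k] [IsAlgClosed k] [Field K] [Algebra k K]
    (hK : FunFld.IsFunctionField k K) {n : ℕ} (hn : 0 < n) (φ : Fin (n + 1) → K) (hφ : LinearIndependent k φ)
    (h0 : φ 0 ≠ 0) (hbir : IntermediateField.adjoin k (Set.range fun i => φ i / φ 0) = ⊤)
    (τ : K →ₐ[k] K) (hτ : τ ≠ AlgHom.id k K) (s : K) (H : K →ₐ[k] PowerSeries K) (hH : LocRes.IsHasseFamily s H)
    (J : Fin n → ℕ) (hJ : FunFld.IsOrders K (FunFld.hcol (AlgHom.id k K) H φ) J) :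
    ∃ m : Fin n, ∀ j : ℕ,
      FunFld.IsJump K (FunFld.hcol τ H φ) (j + 1) ↔ (j = 0 ∨ ∃ l, l ≠ m ∧ J l = j) := by
  classical
  have hφ0 : φ ≠ 0 := fun h => h0 (by rw [h]; rfl)
  have hc := K668.Orders.hcol_eq τ H φ
  have hc1 : FunFld.hcol (AlgHom.id k K) H φ = K668.Orders.consSeq φ (K668.Orders.dcol H φ) :=
    K668.Orders.hcol_eq (AlgHom.id k K) H φ
  have hD0 : K668.Orders.dcol H φ 0 = φ := by
    funext i
    change PowerSeries.coeff 0 (H (φ i)) = φ i
    rw [PowerSeries.coeff_zero_eq_constantCoeff_apply]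
    exact hH.2 (φ i)
  have hφV : ∀ j, φ ∈ (K668.Orders.V (K668.Orders.dcol H φ) (j + 1) :
      Submodule K (Fin (n + 1) → K)) := fun j => by
    have := K668.Orders.mem_V (R := K) (K668.Orders.dcol H φ) (Nat.succ_pos j)
    rwa [hD0] at this
  have hVc1 : ∀ j, (K668.Orders.V (FunFld.hcol (AlgHom.id k K) H φ) (j + 2) :
      Submodule K (Fin (n + 1) → K)) = K668.Orders.V (K668.Orders.dcol H φ) (j + 1) := fun j => by
    rw [hc1, K668.Orders.V_consSeq]
    exact sup_eq_right.2 ((Submodule.span_singleton_le_iff_mem _ _).2 (hφV j))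
  have hJ0 : ∀ l, J l ≠ 0 := fun l hl => by
    have h1 := (hJ.2 0).1 ⟨l, hl⟩
    apply h1
    have : FunFld.hcol (AlgHom.id k K) H φ 1 = FunFld.hcol (AlgHom.id k K) H φ 0 := by
      rw [hc1]
      exact hD0
    rw [show (0 : ℕ) + 1 = 1 from rfl, this]
    exact Submodule.subset_span ⟨0, by simp, rfl⟩
  have hJD : ∀ j, FunFld.IsJump K (K668.Orders.dcol H φ) j ↔ (j = 0 ∨ ∃ l, J l = j) := by
    intro j
    cases j with
    | zero =>
      rw [K668.Orders.isJump_zero_iff, hD0]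
      exact ⟨fun _ => Or.inl rfl, fun _ => hφ0⟩
    | succ j =>
      have h1 : FunFld.IsJump K (FunFld.hcol (AlgHom.id k K) H φ) (j + 1 + 1) ↔
          FunFld.IsJump K (K668.Orders.dcol H φ) (j + 1) := by
        have h2 := hVc1 j
        change _ ∉ K668.Orders.V (FunFld.hcol (AlgHom.id k K) H φ) (j + 2) ↔
          _ ∉ K668.Orders.V (K668.Orders.dcol H φ) (j + 1)
        rw [h2, hc1]
        rfl
      rw [← h1, ← hJ.2]
      constructor
      · rintro ⟨l, hl⟩
        exact Or.inr ⟨l, hl⟩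
      · rintro (h | ⟨l, hl⟩)
        · exact absurd h (Nat.succ_ne_zero j)
        · exact ⟨l, hl⟩
  have hc10 : FunFld.hcol (AlgHom.id k K) H φ 0 ≠ 0 := by rw [hc1]; exact hφ0
  have hE1 := (K668.Orders.enum_jmp_iff hc10 J).2 hJ
  obtain ⟨N, hN⟩ := hE1.exists_V_eq_top
  have hex : ∃ N, (fun i => τ (φ i)) ∈ (K668.Orders.V (K668.Orders.dcol H φ) N :
      Submodule K (Fin (n + 1) → K)) := by
    refine ⟨N + 1, ?_⟩
    rw [← hVc1 N, hN (N + 2) (by omega)]
    exact Submodule.mem_top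
  have hτφ0 : (fun i => τ (φ i)) ≠ 0 := fun h => by
    have : τ (φ 0) = 0 := congrFun h 0
    rw [map_eq_zero] at this
    exact h0 this
  obtain ⟨m0, hm0⟩ : ∃ m0, Nat.find hex = m0 + 1 := by
    refine Nat.exists_eq_succ_of_ne_zero fun h => ?_
    have h1 := Nat.find_spec hex
    rw [h] at h1
    have h2 : Set.Iio 0 = (∅ : Set ℕ) := by ext; simp
    rw [K668.Orders.V, h2, Set.image_empty, Submodule.span_empty, Submodule.mem_bot] at h1
    exact hτφ0 h1
  have hm1 := Nat.find_spec hex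
  rw [hm0] at hm1
  have hm2 : (fun i => τ (φ i)) ∉ (K668.Orders.V (K668.Orders.dcol H φ) m0 :
      Submodule K (Fin (n + 1) → K)) := Nat.find_min hex (by omega)
  obtain ⟨hj1, hj2⟩ := K668.Orders.isJump_consSeq_iff _ _ m0 hm1 hm2
  have hm00 : m0 ≠ 0 := by
    rintro rfl
    apply hτ
    rw [← Groth.Agent.S12595.result k K hK φ h0 hbir τ s H hH]
    rw [hc]
    intro hjump
    apply hjump
    have h2 : Set.Iio 1 = ({0} : Set ℕ) := by ext x; simp
    rw [zero_add, K668.Orders.V, h2, Set.image_singleton, Submodule.mem_span_singleton, hD0] at hm1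
    obtain ⟨a, ha⟩ := hm1
    have ha0 : a ≠ 0 := by
      rintro rfl
      exact hτφ0 (by rw [← ha, zero_smul])
    change K668.Orders.dcol H φ 0 ∈ _
    rw [h2, Set.image_singleton, Submodule.mem_span_singleton, hD0]
    refine ⟨a⁻¹, ?_⟩
    change a⁻¹ • (fun i => τ (φ i)) = φ
    rw [← ha, smul_smul, inv_mul_cancel₀ ha0, one_smul]
  obtain h | ⟨m, hm⟩ := (hJD m0).1 hj1
  · exact absurd h hm00
  · refine ⟨m, fun j => ?_⟩
    rw [hc, hj2, hJD]
    constructor
    · rintro ⟨h | ⟨l, hl⟩, hne⟩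
      · exact Or.inl h
      · refine Or.inr ⟨l, ?_, hl⟩
        rintro rfl
        exact hne (hl.symm.trans hm)
    · rintro (h | ⟨l, hl, hl'⟩)
      · exact ⟨Or.inl h, by rw [h]; exact hm00.symm⟩
      · refine ⟨Or.inr ⟨l, hl'⟩, ?_⟩
        rintro rfl
        exact hl (hJ.1.injective (hl'.trans hm.symm))

end Groth.Agent.S12602
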