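import Groth.Statements.S12605
import Groth.Agent.FunFld.K668.WrLocal

set_option autoImplicit false
open FunFld

namespace Groth.Agent.S12605

/-- Over an algebraically closed constant field, let `τ` be a `k`-endomorphism of `K`, `P` a fixed point
of `τ`, `φ = (φ₀, …, φₙ)` an effective projective map normalized at `P`, `t` a local parameter at
`P`, `J = (j₁ < ⋯ < jₙ)` the orders of `φ` at `P` and `I = (i₁ < ⋯ < iₙ)` strictly increasing. Then
the order at `P` of `det [τ(φ) | D_t^(i₁) φ | ⋯ | D_t^(iₙ) φ]` is at least `Σ (jₗ - iₗ)`; if all `iₗ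
> 0` or `P` is a strong fixed point of `τ`, it equals `Σ (jₗ - iₗ)` exactly when the matrix of
binomial coefficients `(j_r choose i_s)`, read in `k`, has nonzero determinant. -/
theorem result
    (k K : Type*) [Field k] [IsAlgClosed k] [Field K] [Algebra k K]
    (hK : FunFld.IsFunctionField k K) (τ : K →ₐ[k] K) (P : FunFld.Place k K) (hP : FunFld.IsFixedPt τ P)
    {n : ℕ} (φ : Fin (n + 1) → K) (hφ : LinearIndependent k φ)
    (heff : (1 : K) ∈ Submodule.span k (Set.range φ)) (hnorm : ∀ i, P.1 (φ i) ≤ 1)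
    (t : K) (ht : P.1 t = WithZero.exp (-1))
    (Ht : K →ₐ[k] PowerSeries K) (hHt : LocRes.IsHasseFamily t Ht)
    (J : Fin n → ℕ) (hJ : FunFld.IsOrders (IsLocalRing.ResidueField P.O) (FunFld.hcolAt P Ht φ) J)
    (I : Fin n → ℕ) (hI : StrictMono I) :
    P.1 (FunFld.wrMat τ Ht φ I).det ≤ WithZero.exp (-(∑ l, ((J l : ℤ) - I l))) ∧
    (((∀ l, 0 < I l) ∨ FunFld.IsStrongFixedPt τ P) →
      (P.1 (FunFld.wrMat τ Ht φ I).det = WithZero.exp (-(∑ l, ((J l : ℤ) - I l))) ↔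
        (FunFld.binomMat k J I).det ≠ 0)) := by
  classical
  have hsep := K668.Hasse.isSeparable hK hHt
  obtain ⟨ψ, h⟩ := K668.Loc.exists_isExp hK P t ht
  obtain ⟨hJpos, hE⟩ := h.enum_of_isOrders hHt hnorm (K668.Loc.coeff_zero_ne_zero heff) hJ
  obtain ⟨B, hB, hφ'⟩ := h.exists_adapted hnorm hE
  set φ' : Fin (n + 1) → K := fun r => ∑ s, B r s • φ s with hφ'def
  have hlow : ∀ r, ∀ i < (K668.Orders.cz J r : ℤ), (ψ (φ' r)).coeff i = 0 := fun r => (hφ' r).1
  have hlead : ∀ r, (ψ (φ' r)).coeff (K668.Orders.cz J r) = 1 := fun r => (hφ' r).2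
  have hval : ∀ r, P.1 (φ' r) ≤ WithZero.exp (-(K668.Orders.cz J r : ℤ)) := fun r =>
    h.le_iff.2 (hlow r)
  have hτ : ∀ r, P.1 (τ (φ' r)) ≤ WithZero.exp (-(K668.Orders.cz J r : ℤ)) := fun r =>
    K668.Loc.val_map_le hK hP ht (hval r)
  have hdet := (Groth.Agent.S12596.result k K hK φ hφ τ t Ht hHt B hB φ' (fun _ => rfl)).2 I
  have hvdet : P.1 (FunFld.wrMat τ Ht φ' I).det = P.1 (FunFld.wrMat τ Ht φ I).det := by
    rw [hdet, map_mul, K660.Ord.val_algebraMap P hB, one_mul]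
  obtain ⟨hA, hC⟩ := h.det_wrMat hHt τ φ' (K668.Orders.cz J) hlow hlead hτ I
  have hsum : ∑ r, (K668.Orders.cz J r : ℤ) - ∑ l, (I l : ℤ) = ∑ l, ((J l : ℤ) - I l) := by
    rw [Fin.sum_univ_succ, Finset.sum_sub_distrib]
    simp
  rw [hsum] at hA hC
  have h0 : (ψ (τ (φ' 0))).coeff 0 = 1 := by
    rw [h.coeff_zero_map hP (by simpa using hval 0)]
    exact hlead 0
  rw [← hvdet]
  refine ⟨h.le_iff.2 hA, fun hcase => ?_⟩
  rw [h.eq_iff hA, hC]
  rcases hcase with hI0 | hstr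
  · rw [K668.Loc.det_leadMat_of_pos τ φ' h0 hI0]
  · rw [K668.Loc.det_leadMat_of_strong τ φ' h0]
    intro l
    have h1 := K668.Loc.val_map_le_strong hK hstr ht (hval l.succ)
    rw [K668.Orders.cz_succ] at h1
    exact h.le_iff.1 h1 (J l) (by have := hJpos l; push_cast; omega)

end Groth.Agent.S12605
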