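import Groth.Statements.S12618
import Groth.Agent.FunFld.K663.WeierDiv
import Groth.Agent.S12603

set_option autoImplicit false
open FunFld

namespace Groth.Agent.S12618

/-- Over an algebraically closed constant field of characteristic `0` or greater than `2g - 2`, let `K`
have genus `g > 1` and let the Weierstrass points of `K` be the support of the Weierstrass divisor
`W(φ)` of the canonical map `φ` (a basis of `L(C)`, `C` canonical; the divisor of `ds` in `W` read
through a family of Laurent expansions). Then either the number of Weierstrass points exceeds `2g +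
2` and the automorphism group of `K/k` acts faithfully on them, or that number is exactly `2g + 2`
and the automorphisms fixing all of them are exactly those fixing some `x` with `[K : k(x)] = 2`. -/
theorem result
    (k K : Type*) [Field k] [IsAlgClosed k] [Field K] [Algebra k K]
    (hK : FunFld.IsFunctionField k K) (hg : 1 < FunFld.genus k K)
    (hchar : ringChar k = 0 ∨ 2 * FunFld.genus k K - 2 < ringChar k)
    (C : FunFld.Divisor k K) (hC : FunFld.IsCanonical k K C)
    {n : ℕ} (φ : Fin (n + 1) → K) (hφ : LinearIndependent k φ)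
    (hspan : Submodule.span k (Set.range φ) = FunFld.L C)
    (s : K) (H : K →ₐ[k] PowerSeries K) (hH : LocRes.IsHasseFamily s H)
    (J : Fin n → ℕ) (hJ : FunFld.IsOrders K (FunFld.hcol (AlgHom.id k K) H φ) J)
    (Φ : FunFld.Place k K → (K →ₐ[k] LaurentSeries k))
    (hΦ : ∀ P : FunFld.Place k K, LocRes.IsExpansionAt P.1 (Φ P)) :
    (2 * FunFld.genus k K + 2 < Set.ncard {P : FunFld.Place k K | FunFld.wDiv (AlgHom.id k K) H Φ s φ J P ≠ 0} ∧
      ∀ σ : K ≃ₐ[k] K, (∀ P : FunFld.Place k K, FunFld.wDiv (AlgHom.id k K) H Φ s φ J P ≠ 0 →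
        FunFld.IsFixedPt (σ : K →ₐ[k] K) P) → σ = AlgEquiv.refl) ∨
    (Set.ncard {P : FunFld.Place k K | FunFld.wDiv (AlgHom.id k K) H Φ s φ J P ≠ 0} = 2 * FunFld.genus k K + 2 ∧
      ∃ x : K, Module.finrank (IntermediateField.adjoin k ({x} : Set K)) K = 2 ∧
        ∀ σ : K ≃ₐ[k] K, (∀ P : FunFld.Place k K, FunFld.wDiv (AlgHom.id k K) H Φ s φ J P ≠ 0 →
          FunFld.IsFixedPt (σ : K →ₐ[k] K) P) ↔ σ x = x) := by
  classical
  open K663.Weier K663.WeierDiv in
  have hdegW := (Groth.Agent.S12603.result k K hK φ hφ (AlgHom.id k K) s H hH J hJ Φ hΦ).2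
  have hsum := sum_wt s H hK hC hφ hspan hchar hH J hJ Φ hΦ hdegW
  set W := (FunFld.wDiv (AlgHom.id k K) H Φ s φ J).support with hWdef
  have hW : ∀ P, P ∈ W ↔ wt P ≠ 0 := fun P => mem_support_iff s H hK hC hφ hspan hchar hH J hJ Φ hΦ P
  have hset : {P : FunFld.Place k K | FunFld.wDiv (AlgHom.id k K) H Φ s φ J P ≠ 0} = (W : Set _) := by
    ext P
    rw [hWdef, Finset.mem_coe, Finsupp.mem_support_iff]
    rfl
  have hfix : ∀ σ : K ≃ₐ[k] K, (∀ P : FunFld.Place k K, FunFld.wDiv (AlgHom.id k K) H Φ s φ J P ≠ 0 →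
      FunFld.IsFixedPt (σ : K →ₐ[k] K) P) ↔ ∀ P ∈ W, K663.AlgC.comapPlace σ P = P := by
    intro σ
    refine forall_congr' fun P => ?_
    rw [isFixedPt_iff, hWdef, Finsupp.mem_support_iff]
  rw [hset, Set.ncard_coe_finset]
  rcases dichotomy hK hg W hW hsum with ⟨h1, h2⟩ | ⟨h1, x, hx, h2⟩
  · exact Or.inl ⟨h1, fun σ hσ => h2 σ ((hfix σ).1 hσ)⟩
  · exact Or.inr ⟨h1, x, hx, fun σ => (hfix σ).trans (h2 σ)⟩

end Groth.Agent.S12618
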