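import Groth.Statements.S12624
import Groth.Agent.CAlg.K82.SigmaDiff

set_option autoImplicit false
universe u v
open CAlg

namespace Groth.Agent.S12624

/-- For a perfect field `K` of characteristic `p > 0` and a commutative `K`-algebra `A`, put `δ_i(x) =
x^(p^i - 1) dx` in `Ω_{A/K}` and let the subsets `Σ^i ⊆ Ω_{A/K}` be given by `Σ^0 = {0}` and
`Σ^(i+1) = {δ_i(x) + σ | x ∈ A, σ ∈ Σ^i}`; then each `Σ^i` is the underlying set of a `K`-submodule
of `Ω_{A/K}` (closed under addition and under multiplication by elements of `K`; the latter uses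
that `K` is perfect). -/
theorem result (K : Type u) (A : Type v) [Field K] [PerfectField K] (p : ℕ) [Fact p.Prime] [CharP K p]
    [CommRing A] [Algebra K A] (i : ℕ) :
    ∃ S : Submodule K (Ω[A⁄K]), (S : Set (Ω[A⁄K])) = W4bk4bump814p2.sigma K A p i := by
  refine ⟨{ K82.SigmaDiff.G K A p i with smul_mem' := ?_ }, ?_⟩
  · intro c ω hω
    have hω' : ω ∈ K82.SigmaDiff.G K A p i := hω
    obtain ⟨c', rfl⟩ : ∃ c' : K, c' ^ (p ^ i) = c := by
      obtain ⟨c', hc'⟩ := (PerfectRing.bijective_frobenius (R := K) (p := p)).surjective.iterate i c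
      exact ⟨c', by rw [← hc', pow_iterate]⟩
    rw [algebra_compatible_smul A, map_pow]
    exact K82.SigmaDiff.pow_smul_mem K A p _ hω'
  · rw [K82.SigmaDiff.sigma_eq]; rfl

end Groth.Agent.S12624
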