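import Groth.Statements.S12631
import Groth.Agent.S12581
import Groth.Agent.FunFld.K667.DiffOrd
import Groth.Agent.FunFld.K660.Sep
import Groth.Agent.FunFld.K670.Gen

set_option autoImplicit false
set_option linter.style.haveILetI false
set_option linter.unusedVariables false
universe u v w
open FunFld

namespace Groth.Agent.S12631

/-- Let `K/k` be a geometric function field of one variable of genus one all of whose places carry a
Laurent expansion over `k` in a local parameter (so every place is separable), and `v ∈ K` with `dv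
≠ 0`. Then there is a nonzero `u ∈ K` whose differential `u dv` has divisor zero — the order of
`φ_P(u) · (φ_P v)′` is `0` at every place `P` — and such a `u` is unique up to a factor from `k`.
(The published statement concerns elliptic curves over algebraically closed fields; this row is the
form for any constant field under the stated separability of all places.) -/
theorem result (k : Type u) (K : Type v) [Field k] [Field K] [Algebra k K]
    (hK : FunFld.IsFunctionField k K) (hg : FunFld.IsGeometric k K) (h1 : FunFld.genus k K = 1)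
    (F : FunFld.Place k K → Type w) [∀ P, Field (F P)] [∀ P, Algebra k (F P)] [∀ P, FiniteDimensional k (F P)]
    (φ : ∀ P, K →ₐ[k] LaurentSeries (F P)) (hφ : ∀ P, LocRes.IsExpansionAt P.1 (φ P))
    (v : K) (hv : KaehlerDifferential.D k K v ≠ 0) :
    (∃ u : K, u ≠ 0 ∧ ∀ P, LocRes.vDiff (φ P) u v = 1) ∧
      ∀ u u' : K, u ≠ 0 → (∀ P, LocRes.vDiff (φ P) u v = 1) → (∀ P, LocRes.vDiff (φ P) u' v = 1) →
        ∃ c : k, u' = c • u := by
  have hΩ : Module.finrank K (Ω[K⁄k]) = 1 := by
    obtain ⟨t, ht, hsep⟩ := K660.Sep.exists_isSeparable hK hg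
    exact K660.Sep.finrank_kaehler ht hsep
  have hfin : ∀ P : FunFld.Place k K, 0 < P.deg := by
    intro P
    haveI := K670.Base.finiteDimensional_residueField hK P
    exact Module.finrank_pos
  obtain ⟨ω, -, -, hω0, hsupp, hdiv⟩ := Groth.Agent.S12581.result k K hK hg F φ hφ 1 v one_ne_zero hv
  set C : FunFld.Divisor k K := Finsupp.ofSupportFinite _ hsupp with hC
  have hCP : ∀ P, C P = LocRes.ordDiff (φ P) 1 v := fun P => rfl
  have hcan : FunFld.IsCanonical k K C := ⟨ω, hω0, hdiv C hCP⟩
  obtain ⟨hell, hdeg⟩ := (K670.Base.isCanonical_iff hK C).mp hcan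
  rw [h1] at hell hdeg
  have hdeg0 : C.deg = 0 := by rw [hdeg]; norm_num
  have hne : FunFld.L C ≠ ⊥ := by
    intro h0
    unfold FunFld.ell at hell
    rw [h0, finrank_bot] at hell
    norm_num at hell
  have hval : ∀ P, LocRes.vDiff (φ P) 1 v = WithZero.exp (-(C P)) := by
    intro P
    have h2 := K667.DiffOrd.vDiff_ne_zero hΩ (hφ P) (u := (1 : K)) one_ne_zero hv
    rw [hCP, LocRes.ordDiff, neg_neg, WithZero.exp_log h2]
  have hvD : ∀ (u : K) P, LocRes.vDiff (φ P) u v = P.1 u * WithZero.exp (-(C P)) := by
    intro u P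
    rw [K667.DiffOrd.vDiff_eq_mul_one, (hφ P).1, hval]
  constructor
  · obtain ⟨y, hy, hy0⟩ := Submodule.exists_mem_ne_zero_of_ne_bot hne
    have hdy := K670.Gen.div_eq_neg_of_mem_L_of_deg_zero hK hy0 hy hdeg0 hfin
    refine ⟨y, hy0, fun P => ?_⟩
    rw [hvD, K670.Gen.v_eq_exp P hy0, ← K670.Gen.div_apply hK, hdy, Finsupp.neg_apply, neg_neg,
      ← WithZero.exp_add, add_neg_cancel, WithZero.exp_zero]
  · intro u u' hu h2 h3
    have hP : Nonempty (FunFld.Place k K) := by
      obtain ⟨t, ht, -⟩ := hK.1
      obtain ⟨⟨P, -⟩, -⟩ := K670.Base.exists_zero_and_exists_pole hK t (by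
        rintro ⟨c, rfl⟩
        exact ht (isAlgebraic_algebraMap c))
      exact ⟨P⟩
    have hu' : u' ≠ 0 := by
      rintro rfl
      obtain ⟨P⟩ := hP
      have := h3 P
      rw [hvD, map_zero, zero_mul] at this
      exact zero_ne_one this
    apply K670.Base.exists_eq_smul_of_ord_eq hK u' u hu' hu
    intro P
    have h4 := h2 P
    have h5 := h3 P
    rw [hvD, K670.Gen.v_eq_exp P hu, ← WithZero.exp_add, ← WithZero.exp_zero, WithZero.exp_inj] at h4
    rw [hvD, K670.Gen.v_eq_exp P hu', ← WithZero.exp_add, ← WithZero.exp_zero, WithZero.exp_inj] at h5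
    linarith

end Groth.Agent.S12631
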