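import Groth.Statements.S12661
import Groth.Agent.Cyc.K307.Chern

set_option autoImplicit false
universe u
open CategoryTheory CategoryTheory.Limits AlgebraicGeometry
open Cyc

namespace Groth.Agent.S12661

/-- Chern class caps commute with the Gysin map of an effective Cartier divisor: for E finite locally
free of rank r on X, (L, s, i : D → X) with L invertible, s a global section of L and i the closed
immersion of its zero scheme Z(s) (Cyc.IsZeroSchemeOf), and α ∈ CH_k(X): c_j(E|_D) ∩ i^*α =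
i^*(c_j(E) ∩ α) in CH_{k-1-j}(D). The Gysin map i^* : Z_k(X) → CH_{k-1}(D) is computed on
coefficient functions as c_1(L) ∩ - with the rational sections s where s is nonzero and a nonzero
fallback w elsewhere (Cyc.gysinChoice), restricted to the points of D; the caps of E|_D are taken
through P_D = D ×_X P (a cartesian square) with the pullback of O_P(1), D and P_D carrying the
restricted dimension functions. Setting: (X, δ) with Cyc.IsSetup stands for a scheme locally of
finite type over the base (S, δ) (X locally Noetherian with universally catenary local rings, δ a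
dimension function); (p : P → X, O_P(1), q) is the projective bundle of E given by its universal
property (KRR.IsProjBundle), p is proper and δP is the induced dimension function (Cyc.DeltaCompat);
a tuple γ with Cyc.IsChernCap represents (c_0(E) ∩ α, …, c_r(E) ∩ α) through the defining relation
Σ_i (-1)^i c_1(O_P(1))^i ∩ p^*(γ_{r-i}) ∼_rat 0 on P, and classes are compared up to rational
equivalence of representing cycles. -/
theorem result (X : Scheme.{u}) (δ : X → ℤ) (hX : Cyc.IsSetup X δ) (r : ℕ) (E : X.Modules) (hPE : FlatMod.IsFinLocFreeOfRank r E) (P : Scheme.{u}) (p : P ⟶ X) (O1 : P.Modules) (q : (Scheme.Modules.pullback p).obj E ⟶ O1) (hP : KRR.IsProjBundle p E O1 q) [IsProper p] (δP : P → ℤ) (hPs : Cyc.IsSetup P δP) (hδ : Cyc.DeltaCompat p δP δ) (L : X.Modules) (hL : PicF.IsInvertible L) (s : L.presheaf.obj (Opposite.op ⊤)) (D : Scheme.{u}) (i : D ⟶ X) [IsClosedImmersion i] (hD : Cyc.IsZeroSchemeOf i L s) (PD : Scheme.{u}) (pD : PD ⟶ D) (i' : PD ⟶ P) (hsq : IsPullback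 i' pD p i) (w : (ξ : X) → Cyc.secFibre L ξ) (hw : ∀ ξ, w ξ ≠ 0) (k : ℤ) (α : AlgebraicCycle X ℤ) (hα : α ∈ Cyc.Zk X δ k) (γ : Fin (r + 1) → AlgebraicCycle X ℤ) (hγ : Cyc.IsChernCap p δ δP O1 r k α γ) (αD : AlgebraicCycle D ℤ) (hαD : ∀ d, αD d = Cyc.c1CapFun δ L ⇑α (Cyc.gysinChoice L s w) (i d)) (γ' : Fin (r + 1) → AlgebraicCycle D ℤ) (hγ' : Cyc.IsChernCap pD (fun d => δ (i d)) (fun y => δP (i' y)) ((Scheme.Modules.pullback i').obj O1) r (k - 1) αD γ') (ζ : Fin (r + 1) → AlgebraicCycle D ℤ) (hζ : ∀ j d, ζ j d = Cyc.c1CapFun δ L ⇑(γ j) (Cyc.gysinChoice L s w) (i d)) (j : Fin (r + 1)) : Cyc.RatEquiv (fun d => δ (i d)) (k - 1 - ((j : ℕ) : ℤ)) (ζ j) (γ' j) := by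
  let B : K307.Bun X δ r := ⟨E, P, p, O1, q, δP, hX, hPE, hP, hδ⟩
  have hD' : DeltaCompat i (fun d => δ (i d)) δ := K930.PushPull.deltaCompat_closed i
  have hDs : IsSetup D (fun d => δ (i d)) := K930.PushPull.setup_of i hX hD'
  have hi' : IsClosedImmersion i' := MorphismProperty.of_isPullback hsq.flip ‹_›
  have hPD : DeltaCompat i' (fun y => δP (i' y)) δP := K930.PushPull.deltaCompat_closed i'
  have hpD : IsProper pD := MorphismProperty.of_isPullback hsq ‹_›
  have hPD' : DeltaCompat pD (fun y => δP (i' y)) (fun d => δ (i d)) :=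
    K930.PushPull.deltaCompat_of_comm hsq.w hPD hδ hD'
  let B' : K307.Bun D (fun d => δ (i d)) r := B.bc hsq hDs hPD'
  obtain ⟨_, σ', hσ'⟩ := B.exists_gys_top B' hsq hL hD
  have h2 := B'.cl_map_eq B (K307.Gys.gys i hX hD' hL hD)
    (K307.Gys.gys i' B.setup hPD _ hσ')
    (B.gys_pl B' hsq hD' hL hD hPD hσ')
    (K307.Gys.gys_c1 B.setup B'.setup hPD _ hσ' B.inv B'.inv (Iso.refl _))
    B'.injective_pb hγ hγ' (K307.Gys.gys_cl hX hD' hL hD hw hαD) j
  rw [K307.Gys.gys_cl hX hD' hL hD hw (hζ j)] at h2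
  refine (K308.Grp.cl_eq_iff (k := k - 1 - ((j : ℕ) : ℤ)) ?_ (hγ'.2.1 j)).1 h2
  intro d hd
  rw [hζ]
  exact K307.Bun.c1CapFun_eq_zero (hγ.2.1 j) _ _ (by intro h; apply hd; change δ (i d) = _; rw [h]; ring)

end Groth.Agent.S12661
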