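import Groth.Statements.S12664
import Groth.Agent.Cyc.K308.PBAllPf

set_option autoImplicit false
universe u
open CategoryTheory CategoryTheory.Limits AlgebraicGeometry
open Cyc

namespace Groth.Agent.S12664

open K308.Grp K308

/-- If 0 → L → E → F → 0 is a short exact sequence on X with L invertible and E, F finite locally free
of ranks m + 1, m, then c(E) = c(L) c(F), that is c_i(E) = c_i(F) + c_1(L) c_{i-1}(F) for i = 1, …,
m and c_{m+1}(E) = c_1(L) c_m(F), as cap operations on every k-cycle α, with c_1(L) ∩ - computed on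
coefficient functions from any nonzero rational sections (Cyc.c1CapFun) applied to the
representatives of c_{i-1}(F) ∩ α. Setting: (X, δ) with Cyc.IsSetup stands for a scheme locally of
finite type over the base (S, δ) (X locally Noetherian with universally catenary local rings, δ a
dimension function); (p : P → X, O_P(1), q) is the projective bundle of E given by its universal
property (KRR.IsProjBundle), p is proper and δP is the induced dimension function (Cyc.DeltaCompat);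
a tuple γ with Cyc.IsChernCap represents (c_0(E) ∩ α, …, c_r(E) ∩ α) through the defining relation
Σ_i (-1)^i c_1(O_P(1))^i ∩ p^*(γ_{r-i}) ∼_rat 0 on P, and classes are compared up to rational
equivalence of representing cycles. -/
theorem result (X : Scheme.{u}) (δ : X → ℤ) (hX : Cyc.IsSetup X δ) (m : ℕ) (E : X.Modules) (hPE : FlatMod.IsFinLocFreeOfRank (m + 1) E) (P : Scheme.{u}) (p : P ⟶ X) (O1 : P.Modules) (q : (Scheme.Modules.pullback p).obj E ⟶ O1) (hP : KRR.IsProjBundle p E O1 q) [IsProper p] (δP : P → ℤ) (hPs : Cyc.IsSetup P δP) (hδ : Cyc.DeltaCompat p δP δ) (F : X.Modules) (hQE : FlatMod.IsFinLocFreeOfRank m F) (Q : Scheme.{u}) (p' : Q ⟶ X) (O1' : Q.Modules) (q' : (Scheme.Modules.pullback p').obj F ⟶ O1') (hQ : KRR.IsProjBundle p' F O1' q') [IsProper p'] (δQ : Q → ℤ) (hQs : Cyc.IsSetup Q δQ) (hδ' : Cyc.DeltaCompat p' δQ δ) (L : X.Modules) (hL : PicF.IsInvertible L) (a : L ⟶ E) (b : E ⟶ F) (hab : a ≫ b = 0) (hex : (ShortComplex.mk a b hab).ShortExact)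 (k : ℤ) (α : AlgebraicCycle X ℤ) (hα : α ∈ Cyc.Zk X δ k) (γ : Fin (m + 2) → AlgebraicCycle X ℤ) (hγ : Cyc.IsChernCap p δ δP O1 (m + 1) k α γ) (γ' : Fin (m + 1) → AlgebraicCycle X ℤ) (hγ' : Cyc.IsChernCap p' δ δQ O1' m k α γ') (t : (ξ : X) → Cyc.secFibre L ξ) (ht : ∀ ξ, t ξ ≠ 0) (ζ : Fin (m + 1) → AlgebraicCycle X ℤ) (hζ : ∀ j, ⇑(ζ j) = Cyc.c1CapFun δ L ⇑(γ' j) t) : (∀ j : Fin m, Cyc.RatEquiv δ (k - ((j : ℕ) : ℤ) - 1) (γ (Fin.succ (Fin.castSucc j))) (γ' (Fin.succ j) + ζ (Fin.castSucc j))) ∧ Cyc.RatEquiv δ (k - (m : ℤ) - 1) (γ (Fin.last (m + 1))) (ζ (Fin.last m)) := by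
  have hrk : ∀ i, FlatMod.IsFinLocFreeOfRank (![m] i) (![F] i) := by
    intro i
    fin_cases i
    exact hQE
  obtain ⟨S⟩ := exists_splitting pbAll hX ![F] ![m] hrk
  have := Groth.Agent.Sga67.FlatPre.preservesFiniteLimits_pullback S.π
  have hS := hex.map_of_exact (Scheme.Modules.pullback S.π)
  have hepi : Epi ((Scheme.Modules.pullback S.π).map b) := hS.epi_g
  have hF1 : SF (S.Ls 0) ((Scheme.Modules.pullback S.π).obj F) := S.filt 0
  have hlen1 : (S.Ls 0).length = m := S.length 0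
  have hF0 : RF [(Scheme.Modules.pullback S.π).obj L] ((Scheme.Modules.pullback S.π).obj L) :=
    ⟨𝟙 _, isZero_cokernel_of_epi (𝟙 _)⟩
  have hF : RF ([(Scheme.Modules.pullback S.π).obj L] ++ (S.Ls 0).reverse)
      ((Scheme.Modules.pullback S.π).obj E) :=
    RF.ext hF0 hF1.rf _ _ _ hS.exact
  have hinv : ∀ N ∈ [(Scheme.Modules.pullback S.π).obj L] ++ (S.Ls 0).reverse,
      PicF.IsInvertible N := by
    intro N hN
    rw [List.mem_append, List.mem_reverse, List.mem_singleton] at hN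
    rcases hN with rfl | h
    · exact Groth.Agent.CycB.C1Pull.isInvertible_pullback _ hL
    · exact S.inv 0 N h
  have hlen : ([(Scheme.Modules.pullback S.π).obj L] ++ (S.Ls 0).reverse).length = m + 1 := by
    rw [List.length_append, List.length_reverse, hlen1, List.length_singleton, add_comm]
  have h1 : ∀ j, S.pb (cl δ (γ j)) = _ := fun j =>
    S.pb_chernCap' pbAll hinv hF hlen hPE hPs hδ hP hγ j
  have h2 : ∀ j, S.pb (cl δ (γ' j)) = ec S.δ (S.Ls 0) j (S.pb (cl δ α)) := fun j =>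
    S.pb_chernCap pbAll hrk 0 hQs hδ' hQ hγ' j
  have h3 : ∀ j, S.pb (cl δ (ζ j)) = C1 S.δ ((Scheme.Modules.pullback S.π).obj L)
      (S.pb (cl δ (γ' j))) := fun j => by
    rw [← S.pb_c1 hL, C1_eq hX hL, c1_cl hX hL (fun ξ _ => ht ξ) (hζ j)]
  have hm1 := hγ.2.1
  have hm2 := hγ'.2.1
  have hm3 : ∀ j : Fin (m + 1), ζ j ∈ Zk X δ (k - ((j : ℕ) : ℤ) - 1) := fun j =>
    Zk_cap (by rw [sub_add_cancel]; exact hm2 j) (hζ j)
  constructor
  · intro j
    have e1 : γ (Fin.succ (Fin.castSucc j)) ∈ Zk X δ (k - ((j : ℕ) : ℤ) - 1) := by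
      have := hm1 (Fin.succ (Fin.castSucc j))
      rw [Fin.val_succ, Fin.val_castSucc] at this
      have e : k - (((j : ℕ) + 1 : ℕ) : ℤ) = k - ((j : ℕ) : ℤ) - 1 := by push_cast; ring
      rwa [e] at this
    have e2 : γ' (Fin.succ j) ∈ Zk X δ (k - ((j : ℕ) : ℤ) - 1) := by
      have := hm2 (Fin.succ j)
      rw [Fin.val_succ] at this
      have e : k - (((j : ℕ) + 1 : ℕ) : ℤ) = k - ((j : ℕ) : ℤ) - 1 := by push_cast; ring
      rwa [e] at this
    rw [← cl_eq_iff e1 (Zk_add e2 (hm3 (Fin.castSucc j)))]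
    apply S.pb_injective
    rw [h1, map_add, map_add, h2, h3, h2, Fin.val_succ, Fin.val_succ, Fin.val_castSucc,
      List.singleton_append, ec_cons_succ, ec_reverse, ec_reverse]
    rfl
  · have e1 : γ (Fin.last (m + 1)) ∈ Zk X δ (k - (m : ℤ) - 1) := by
      have := hm1 (Fin.last (m + 1))
      rw [Fin.val_last] at this
      have e : k - ((m + 1 : ℕ) : ℤ) = k - (m : ℤ) - 1 := by push_cast; ring
      rwa [e] at this
    have e3 := hm3 (Fin.last m)
    rw [Fin.val_last] at e3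
    rw [← cl_eq_iff e1 e3]
    apply S.pb_injective
    rw [h1, h3, h2, Fin.val_last, Fin.val_last, List.singleton_append, ec_cons_succ, ec_reverse,
      ec_reverse, ec_eq_zero S.δ (S.Ls 0) (by omega), zero_add]
    rfl

end Groth.Agent.S12664
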