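import Groth.Statements.S12663
import Groth.Agent.S12664
import Groth.Agent.Cyc.K305.StructCap

set_option autoImplicit false
universe u
open CategoryTheory CategoryTheory.Limits AlgebraicGeometry
open Cyc

namespace Groth.Agent.S12663

/-- If E, F are finite locally free of ranks m + 1, m on X sitting in a short exact sequence 0 → O_X → E
→ F → 0, then c_{m+1}(E) = 0 and c_j(E) = c_j(F) for j = 0, …, m, as cap operations: for every
k-cycle α, c_{m+1}(E) ∩ α ∼_rat 0 and c_j(E) ∩ α ∼_rat c_j(F) ∩ α. Setting: (X, δ) with Cyc.IsSetup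
stands for a scheme locally of finite type over the base (S, δ) (X locally Noetherian with
universally catenary local rings, δ a dimension function); (p : P → X, O_P(1), q) is the projective
bundle of E given by its universal property (KRR.IsProjBundle), p is proper and δP is the induced
dimension function (Cyc.DeltaCompat); a tuple γ with Cyc.IsChernCap represents (c_0(E) ∩ α, …,
c_r(E) ∩ α) through the defining relation Σ_i (-1)^i c_1(O_P(1))^i ∩ p^*(γ_{r-i}) ∼_rat 0 on P, and
classes are compared up to rational equivalence of representing cycles. -/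
theorem result (X : Scheme.{u}) (δ : X → ℤ) (hX : Cyc.IsSetup X δ) (m : ℕ) (E : X.Modules) (hPE : FlatMod.IsFinLocFreeOfRank (m + 1) E) (P : Scheme.{u}) (p : P ⟶ X) (O1 : P.Modules) (q : (Scheme.Modules.pullback p).obj E ⟶ O1) (hP : KRR.IsProjBundle p E O1 q) [IsProper p] (δP : P → ℤ) (hPs : Cyc.IsSetup P δP) (hδ : Cyc.DeltaCompat p δP δ) (F : X.Modules) (hQE : FlatMod.IsFinLocFreeOfRank m F) (Q : Scheme.{u}) (p' : Q ⟶ X) (O1' : Q.Modules) (q' : (Scheme.Modules.pullback p').obj F ⟶ O1') (hQ : KRR.IsProjBundle p' F O1' q') [IsProper p'] (δQ : Q → ℤ) (hQs : Cyc.IsSetup Q δQ) (hδ' : Cyc.DeltaCompat p' δQ δ) (a : Coh.structureModule X ⟶ E) (b : E ⟶ F) (hab : a ≫ b = 0) (hex : (ShortComplex.mk a b hab).ShortExact) (k : ℤ) (α : AlgebraicCycle X ℤ) (hα : α ∈ Cyc.Zk X δ k) (γ : Fin (m + 2) → AlgebraicCycle X ℤ) (hγ : Cyc.IsChernCap p δ δP O1 (m + 1) k α γ) (γ' : Fin (m + 1) → AlgebraicCycle X ℤ) (hγ' : Cyc.IsChernCap p' δ δQ O1' m k α γ') : Cyc.RatEquivZero δ (k - ((m :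 ℤ) + 1)) (γ (Fin.last (m + 1))) ∧ ∀ j : Fin (m + 1), Cyc.RatEquiv δ (k - ((j : ℕ) : ℤ)) (γ (Fin.castSucc j)) (γ' j) := by
  have ht : ∀ ξ : X, Groth.Agent.CycB.C1Basic.cl (Coh.structureModule X) ξ
      (K305.StructCap.one ξ) ≠ 0 :=
    fun ξ => Groth.Agent.CycB.C1Basic.cl_ne_zero (K305.StructCap.isGen_one ξ)
  obtain ⟨h1, h2⟩ := Groth.Agent.S12664.result X δ hX m E hPE P p O1 q hP δP hPs hδ F hQE Q p' O1'
    q' hQ δQ hQs hδ' (Coh.structureModule X) (K305.StructCap.isInvertible_structureModule X)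
    a b hab hex k α hα γ hγ γ' hγ' (fun ξ => Groth.Agent.CycB.C1Basic.cl _ ξ
      (K305.StructCap.one ξ)) ht (fun _ => 0) (fun j => by
      rw [K305.StructCap.c1CapFun_one]; rfl)
  refine ⟨?_, fun j => ?_⟩
  · have e : k - ((m : ℤ) + 1) = k - m - 1 := by ring
    rw [e]
    exact Groth.Agent.CycB.DivFun.ratEquiv_zero_iff.1 h2
  · induction j using Fin.cases with
    | zero =>
      have e : γ (Fin.castSucc 0) = γ' 0 := by
        rw [hγ'.1, ← hγ.1]
        rfl
      rw [e]
      exact Groth.Agent.CycB.DivFun.ratEquiv_refl _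
    | succ j =>
      have h3 := h1 j
      rw [add_zero] at h3
      have e : k - (((Fin.succ j : Fin (m + 1)) : ℕ) : ℤ) = k - ((j : ℕ) : ℤ) - 1 := by
        rw [Fin.val_succ]
        push_cast
        ring
      rw [e]
      exact h3

end Groth.Agent.S12663
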