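import Groth.Statements.S12665
import Groth.Agent.Cyc.K308.PBAllPf
import Groth.Agent.Cyc.K308.SumAnti

set_option autoImplicit false
universe u
open CategoryTheory CategoryTheory.Limits AlgebraicGeometry
open Cyc

namespace Groth.Agent.S12665

open K308.Grp K308

/-- For a short exact sequence 0 → E₁ → E → E₂ → 0 of finite locally free modules of ranks r₁, r₁ + r₂,
r₂ on X, c(E) = c(E₁) c(E₂), that is c_j(E) ∩ α ∼_rat Σ_{a+b=j} c_a(E₁) ∩ (c_b(E₂) ∩ α) for every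
k-cycle α and every j; the inner caps are represented by a tuple for E₂ over α and, for each of its
components, a tuple for E₁ over it. Setting: (X, δ) with Cyc.IsSetup stands for a scheme locally of
finite type over the base (S, δ) (X locally Noetherian with universally catenary local rings, δ a
dimension function); (p : P → X, O_P(1), q) is the projective bundle of E given by its universal
property (KRR.IsProjBundle), p is proper and δP is the induced dimension function (Cyc.DeltaCompat);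
a tuple γ with Cyc.IsChernCap represents (c_0(E) ∩ α, …, c_r(E) ∩ α) through the defining relation
Σ_i (-1)^i c_1(O_P(1))^i ∩ p^*(γ_{r-i}) ∼_rat 0 on P, and classes are compared up to rational
equivalence of representing cycles. -/
theorem result (X : Scheme.{u}) (δ : X → ℤ) (hX : Cyc.IsSetup X δ) (r₁ r₂ : ℕ) (E₁ : X.Modules) (hP₁E : FlatMod.IsFinLocFreeOfRank r₁ E₁) (P₁ : Scheme.{u}) (p₁ : P₁ ⟶ X) (O₁ : P₁.Modules) (q₁ : (Scheme.Modules.pullback p₁).obj E₁ ⟶ O₁) (hP₁ : KRR.IsProjBundle p₁ E₁ O₁ q₁) [IsProper p₁] (δ₁ : P₁ → ℤ) (hP₁s : Cyc.IsSetup P₁ δ₁) (hδ₁ : Cyc.DeltaCompat p₁ δ₁ δ) (E : X.Modules) (hPE : FlatMod.IsFinLocFreeOfRank (r₁ + r₂) E) (P : Scheme.{u}) (p : P ⟶ X) (O1 : P.Modules) (q : (Scheme.Modules.pullback p).obj E ⟶ O1) (hP : KRR.IsProjBundle p E O1 q) [IsProper p] (δP : P → ℤ) (hPs : Cyc.IsSetup P δP) (hδ : Cyc.DeltaCompat p δP δ) (E₂ : X.Modules) (hP₂E : FlatMod.IsFinLocFreeOfRank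 r₂ E₂) (P₂ : Scheme.{u}) (p₂ : P₂ ⟶ X) (O₂ : P₂.Modules) (q₂ : (Scheme.Modules.pullback p₂).obj E₂ ⟶ O₂) (hP₂ : KRR.IsProjBundle p₂ E₂ O₂ q₂) [IsProper p₂] (δ₂ : P₂ → ℤ) (hP₂s : Cyc.IsSetup P₂ δ₂) (hδ₂ : Cyc.DeltaCompat p₂ δ₂ δ) (a : E₁ ⟶ E) (b : E ⟶ E₂) (hab : a ≫ b = 0) (hex : (ShortComplex.mk a b hab).ShortExact) (k : ℤ) (α : AlgebraicCycle X ℤ) (hα : α ∈ Cyc.Zk X δ k) (γ₂ : Fin (r₂ + 1) → AlgebraicCycle X ℤ) (hγ₂ : Cyc.IsChernCap p₂ δ δ₂ O₂ r₂ k α γ₂) (ε : Fin (r₂ + 1) → Fin (r₁ + 1) → AlgebraicCycle X ℤ) (hε : ∀ b : Fin (r₂ + 1), Cyc.IsChernCap p₁ δ δ₁ O₁ r₁ (k - ((b : ℕ) : ℤ)) (γ₂ b) (ε b)) (γ : Fin (r₁ + r₂ + 1) → AlgebraicCycle X ℤ) (hγ : Cyc.IsChernCap p δ δP O1 (r₁ + r₂) k α γ) (j : Fin (r₁ + r₂ + 1)) : Cyc.RatEquiv δ (k - ((j : ℕ) : ℤ)) (γ j) (∑ a : Fin (r₁ + 1), ∑ b : Fin (r₂ + 1), if (a : ℕ) + (b : ℕ) = (j : ℕ) then ε b a else 0) := by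
  have hrk : ∀ i, FlatMod.IsFinLocFreeOfRank (![r₁, r₂] i) (![E₁, E₂] i) := by
    intro i
    fin_cases i
    · exact hP₁E
    · exact hP₂E
  obtain ⟨S⟩ := exists_splitting pbAll hX ![E₁, E₂] ![r₁, r₂] hrk
  have := Groth.Agent.Sga67.FlatPre.preservesFiniteLimits_pullback S.π
  have hS := hex.map_of_exact (Scheme.Modules.pullback S.π)
  have hepi : Epi ((Scheme.Modules.pullback S.π).map b) := hS.epi_g
  have hF1 : SF (S.Ls 0) ((Scheme.Modules.pullback S.π).obj E₁) := S.filt 0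
  have hF2 : SF (S.Ls 1) ((Scheme.Modules.pullback S.π).obj E₂) := S.filt 1
  have hlen1 : (S.Ls 0).length = r₁ := S.length 0
  have hlen2 : (S.Ls 1).length = r₂ := S.length 1
  have hF : RF ((S.Ls 0).reverse ++ (S.Ls 1).reverse) ((Scheme.Modules.pullback S.π).obj E) :=
    RF.ext hF1.rf hF2.rf _ _ _ hS.exact
  have hinv : ∀ L ∈ (S.Ls 0).reverse ++ (S.Ls 1).reverse, PicF.IsInvertible L := by
    intro L hL
    rw [List.mem_append, List.mem_reverse, List.mem_reverse] at hL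
    rcases hL with h | h
    · exact S.inv 0 L h
    · exact S.inv 1 L h
  have hlen : ((S.Ls 0).reverse ++ (S.Ls 1).reverse).length = r₁ + r₂ := by
    rw [List.length_append, List.length_reverse, List.length_reverse, hlen1, hlen2]
  have h1 := S.pb_chernCap' pbAll hinv hF hlen hPE hPs hδ hP hγ j
  have h2 : ∀ b, S.pb (cl δ (γ₂ b)) = ec S.δ (S.Ls 1) b (S.pb (cl δ α)) := fun b =>
    S.pb_chernCap pbAll hrk 1 hP₂s hδ₂ hP₂ hγ₂ b
  have h3 : ∀ b a, S.pb (cl δ (ε b a)) = ec S.δ (S.Ls 0) a (S.pb (cl δ (γ₂ b))) := fun b a =>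
    S.pb_chernCap pbAll hrk 0 hP₁s hδ₁ hP₁ (hε b) a
  have hm1 : γ j ∈ Zk X δ (k - ((j : ℕ) : ℤ)) := hγ.2.1 j
  have hm2 : (∑ a : Fin (r₁ + 1), ∑ b : Fin (r₂ + 1),
      if (a : ℕ) + (b : ℕ) = (j : ℕ) then ε b a else 0) ∈ Zk X δ (k - ((j : ℕ) : ℤ)) := by
    refine Zk_sum _ fun a _ => Zk_sum _ fun b _ => ?_
    split_ifs with h
    · have := (hε b).2.1 a
      have e : k - ((b : ℕ) : ℤ) - ((a : ℕ) : ℤ) = k - ((j : ℕ) : ℤ) := by rw [← h]; push_cast; ring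
      rwa [e] at this
    · exact fun _ _ => rfl
  rw [← cl_eq_iff hm1 hm2]
  apply S.pb_injective
  rw [h1, ec_append, ← AddMonoid.End.sum_apply', map_sum, map_sum]
  have h4 := K308.SumAnti.sum_antidiagonal_eq r₁ r₂ j
    (fun a b => (ec S.δ (S.Ls 0).reverse a * ec S.δ (S.Ls 1).reverse b) (S.pb (cl δ α)))
    (fun a b h => by
      rw [ec_eq_zero S.δ (S.Ls 0).reverse (by rwa [List.length_reverse, hlen1]), zero_mul]
      rfl)
    (fun a b h => by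
      rw [ec_eq_zero S.δ (S.Ls 1).reverse (by rwa [List.length_reverse, hlen2]), mul_zero]
      rfl)
  rw [h4]
  refine Finset.sum_congr rfl fun a _ => ?_
  rw [map_sum, map_sum]
  refine Finset.sum_congr rfl fun b _ => ?_
  split_ifs with h
  · rw [h3, h2, ec_reverse, ec_reverse]
    rfl
  · rw [map_zero, map_zero]

end Groth.Agent.S12665
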