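import Groth.Statements.S12666
import Groth.Agent.Cyc.K307.ShiftSymm
import Groth.Agent.Cyc.K307.Chern
import Groth.Agent.Cyc.K308.RFTensor
import Groth.Agent.Cyc.K308.PBAllPf

set_option autoImplicit false
universe u
open CategoryTheory CategoryTheory.Limits AlgebraicGeometry
open Cyc

namespace Groth.Agent.S12666

open K308.Grp K308 K308.ListSymm

/-- For E finite locally free of rank r and L invertible on X, c_i(E ⊗ L) = Σ_{j=0}^{i} C(r-i+j, j)
c_{i-j}(E) c_1(L)^j for i ≤ r, as cap operations on every k-cycle α: c_i(E ⊗ L) ∩ α ∼_rat Σ_j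
C(r-i+j, j) c_1(L)^j ∩ (c_{i-j}(E) ∩ α), where c_1(L)^j ∩ - is the j-fold iterated cap on
coefficient functions with any nonzero rational sections (Cyc.c1PowFun) and E ⊗ L is the tensor
product of O_X-modules (CohB1.tensorMod). Setting: (X, δ) with Cyc.IsSetup stands for a scheme
locally of finite type over the base (S, δ) (X locally Noetherian with universally catenary local
rings, δ a dimension function); (p : P → X, O_P(1), q) is the projective bundle of E given by its
universal property (KRR.IsProjBundle), p is proper and δP is the induced dimension function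
(Cyc.DeltaCompat); a tuple γ with Cyc.IsChernCap represents (c_0(E) ∩ α, …, c_r(E) ∩ α) through the
defining relation Σ_i (-1)^i c_1(O_P(1))^i ∩ p^*(γ_{r-i}) ∼_rat 0 on P, and classes are compared up
to rational equivalence of representing cycles. -/
theorem result (X : Scheme.{u}) (δ : X → ℤ) (hX : Cyc.IsSetup X δ) (r : ℕ) (E : X.Modules) (hPE : FlatMod.IsFinLocFreeOfRank r E) (P : Scheme.{u}) (p : P ⟶ X) (O1 : P.Modules) (q : (Scheme.Modules.pullback p).obj E ⟶ O1) (hP : KRR.IsProjBundle p E O1 q) [IsProper p] (δP : P → ℤ) (hPs : Cyc.IsSetup P δP) (hδ : Cyc.DeltaCompat p δP δ) (L : X.Modules) (hL : PicF.IsInvertible L) (hP'E : FlatMod.IsFinLocFreeOfRank r (CohB1.tensorMod E L)) (P' : Scheme.{u}) (p' : P' ⟶ X) (O1' : P'.Modules) (q' : (Scheme.Modules.pullback p').obj (CohB1.tensorMod E L) ⟶ O1') (hP' : KRR.IsProjBundle p' (CohB1.tensorMod E L) O1' q') [IsProper p'] (δP' : P' → ℤ) (hPs' : Cyc.IsSetup P' δP') (hδ' : Cyc.DeltaCompat p' δP' δ) (k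 : ℤ) (α : AlgebraicCycle X ℤ) (hα : α ∈ Cyc.Zk X δ k) (γ : Fin (r + 1) → AlgebraicCycle X ℤ) (hγ : Cyc.IsChernCap p δ δP O1 r k α γ) (γ' : Fin (r + 1) → AlgebraicCycle X ℤ) (hγ' : Cyc.IsChernCap p' δ δP' O1' r k α γ') (t : ℕ → (ξ : X) → Cyc.secFibre L ξ) (ht : ∀ m ξ, t m ξ ≠ 0) (i : Fin (r + 1)) (ζ : Fin (r + 1) → AlgebraicCycle X ℤ) (hζ : ∀ j : Fin (r + 1), (j : ℕ) ≤ (i : ℕ) → ⇑(ζ j) = Cyc.c1PowFun δ L t j ⇑(γ ⟨(i : ℕ) - (j : ℕ), Nat.lt_of_le_of_lt (Nat.sub_le _ _) i.isLt⟩)) : Cyc.RatEquiv δ (k - ((i : ℕ) : ℤ)) (γ' i) (∑ j : Fin (r + 1), if (j : ℕ) ≤ (i : ℕ) then ((Nat.choose (r - i + j) j : ℕ) : ℤ) • ζ j else 0) := by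
  obtain ⟨S⟩ := exists_splitting pbAll hX (fun _ : Fin 1 => E) (fun _ => r) (fun _ => hPE)
  have hF1 : SF (S.Ls 0) ((Scheme.Modules.pullback S.π).obj E) := S.filt 0
  have hlen : (S.Ls 0).length = r := S.length 0
  set L' := (Scheme.Modules.pullback S.π).obj L with hL'def
  have hL' : PicF.IsInvertible L' := Groth.Agent.CycB.C1Pull.isInvertible_pullback S.π hL
  -- the filtration of the pullback of `E ⊗ L`
  have hRL : RF [L'] L' := ⟨𝟙 L', isZero_cokernel_of_epi (𝟙 L')⟩
  have hRF : RF (tensL (S.Ls 0).reverse [L'])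
      ((Scheme.Modules.pullback S.π).obj (CohB1.tensorMod E L)) :=
    (hF1.rf.tensor hRL).iso (Groth.Agent.Krr.H482.PullTens.pullTensorIso S.π E L).symm
  have hinv1 : ∀ M ∈ (S.Ls 0).reverse, PicF.IsInvertible M :=
    fun M hM => S.inv 0 M (List.mem_reverse.1 hM)
  have hinv2 : ∀ M ∈ [L'], PicF.IsInvertible M := fun M hM => by
    rw [List.mem_singleton] at hM
    rw [hM]
    exact hL'
  have hlen2 : (tensL (S.Ls 0).reverse [L']).length = r := by
    rw [length_tensL, List.length_reverse, hlen, List.length_singleton, mul_one]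
  have h1 := S.pb_chernCap' pbAll (invertible_tensL hinv1 hinv2) hRF hlen2 hP'E hPs' hδ' hP' hγ' i
  have h2 : ∀ j : Fin (r + 1), S.pb (cl δ (γ j)) = ec S.δ (S.Ls 0) j (S.pb (cl δ α)) := fun j =>
    S.pb_chernCap pbAll (fun _ => hPE) 0 hPs hδ hP hγ j
  have hi := i.isLt
  -- the right-hand side
  have hζcl : ∀ j : Fin (r + 1), ∀ hj : (j : ℕ) ≤ (i : ℕ), cl δ (ζ j) =
      (C1 δ L ^ (j : ℕ)) (cl δ (γ ⟨(i : ℕ) - (j : ℕ), Nat.lt_of_le_of_lt (Nat.sub_le _ _) i.isLt⟩)) := by
    intro j hj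
    rw [C1_eq hX hL]
    exact K307.Bun.cl_c1Pow hX hL ht (hζ j hj)
  have hmem : ∀ j : Fin (r + 1), ∀ hj : (j : ℕ) ≤ (i : ℕ), ζ j ∈ Zk X δ (k - ((i : ℕ) : ℤ)) := by
    intro j hj x hx
    rw [hζ j hj]
    refine K307.Bun.c1PowFun_eq_zero (k := k - (((i : ℕ) - (j : ℕ) : ℕ) : ℤ)) ?_ t j x ?_
    · exact hγ.2.1 ⟨(i : ℕ) - (j : ℕ), Nat.lt_of_le_of_lt (Nat.sub_le _ _) i.isLt⟩
    · intro h
      apply hx
      rw [h]
      push_cast [Nat.cast_sub hj]
      ring
  refine (cl_eq_iff (hγ'.2.1 i) ?_).1 ?_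
  · refine Zk_sum _ fun j _ => ?_
    split_ifs with hj
    · exact Zk_zsmul _ (hmem j hj)
    · exact fun _ _ => rfl
  · apply S.pb_injective
    have hC1 : ∀ (m : ℕ) (a : G X δ), S.pb ((C1 δ L ^ m) a) = (C1 S.δ L' ^ m) (S.pb a) := by
      intro m
      induction m with
      | zero => intro a; rfl
      | succ m ih =>
        intro a
        rw [pow_succ', pow_succ', end_mul_apply, end_mul_apply, S.pb_c1 hL, ih]
    rw [h1, map_sum, map_sum]
    have hec : ec S.δ (tensL (S.Ls 0).reverse [L']) i = ∑ j ∈ Finset.range ((i : ℕ) + 1),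
        ((r - (i : ℕ) + j).choose j : AddMonoid.End (G S.Y S.δ)) * C1 S.δ L' ^ j *
          ec S.δ (S.Ls 0) ((i : ℕ) - j) := by
      unfold ec
      rw [map_tensL S.setup hinv1 hinv2]
      have e1 : sumL ((S.Ls 0).reverse.map (c1R S.δ)) ([L'].map (c1R S.δ)) =
          ((S.Ls 0).reverse.map (c1R S.δ)).map (fun x => x + c1R S.δ L') := by
        generalize (S.Ls 0).reverse.map (c1R S.δ) = l
        induction l with
        | nil => rfl
        | cons x l ih =>
          rw [sumL_cons, ih]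
          rfl
      rw [e1, K307.ShiftSymm.eL_shift _ _ _ (by
        rw [List.length_map, List.length_reverse, hlen]
        omega), List.length_map, List.length_reverse, hlen, AddSubmonoidClass.coe_finsetSum]
      refine Finset.sum_congr rfl fun j _ => ?_
      rw [eL_perm (((S.Ls 0).reverse_perm).map (c1R S.δ))]
      push_cast
      rfl
    rw [hec, ← AddMonoid.End.sum_apply']
    set g : ℕ → G S.Y S.δ := fun j => if j ≤ (i : ℕ) then
      ((Nat.choose (r - i + j) j : ℕ) : ℤ) • (C1 S.δ L' ^ j)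
        (ec S.δ (S.Ls 0) ((i : ℕ) - j) (S.pb (cl δ α))) else 0 with hg
    have e2 : ∀ j : Fin (r + 1), S.pb (cl δ (if (j : ℕ) ≤ (i : ℕ) then
        ((Nat.choose (r - i + j) j : ℕ) : ℤ) • ζ j else 0)) = g j := by
      intro j
      rw [hg]
      by_cases hj : (j : ℕ) ≤ (i : ℕ)
      · simp only [if_pos hj]
        rw [map_zsmul, map_zsmul, hζcl j hj, hC1, h2]
      · simp only [if_neg hj]
        rw [map_zero, map_zero]
    rw [Finset.sum_congr rfl fun j _ => e2 j, Fin.sum_univ_eq_sum_range g (r + 1)]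
    have e3 : ∑ j ∈ Finset.range ((i : ℕ) + 1), g j = ∑ j ∈ Finset.range (r + 1), g j := by
      refine Finset.sum_subset (Finset.range_mono (by omega)) fun j _ hj => ?_
      rw [Finset.mem_range] at hj
      rw [hg]
      exact if_neg (by omega)
    rw [← e3]
    refine Finset.sum_congr rfl fun j hj => ?_
    rw [Finset.mem_range] at hj
    rw [hg]
    simp only [if_pos (Nat.lt_succ_iff.1 hj)]
    rw [end_mul_apply, end_mul_apply, AddMonoid.End.natCast_apply, natCast_zsmul]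

end Groth.Agent.S12666
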