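import Groth.Statements.S12668
import Groth.Agent.Cyc.K308.PBAllPf
import Groth.Agent.Cyc.K308.RFTensor

set_option autoImplicit false
universe u
open CategoryTheory CategoryTheory.Limits AlgebraicGeometry
open Cyc

namespace Groth.Agent.S12668

open K308.Grp K308

/-- For E, F finite locally free of ranks r, s on X, c_1(E ⊗ F) = r c_1(F) + s c_1(E), as cap operations
on every k-cycle α; E ⊗ F is the tensor product of O_X-modules (CohB1.tensorMod), of rank rs, and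
enters through its own projective bundle. Stated for r, s ≥ 1. Setting: (X, δ) with Cyc.IsSetup
stands for a scheme locally of finite type over the base (S, δ) (X locally Noetherian with
universally catenary local rings, δ a dimension function); (p : P → X, O_P(1), q) is the projective
bundle of E given by its universal property (KRR.IsProjBundle), p is proper and δP is the induced
dimension function (Cyc.DeltaCompat); a tuple γ with Cyc.IsChernCap represents (c_0(E) ∩ α, …,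
c_r(E) ∩ α) through the defining relation Σ_i (-1)^i c_1(O_P(1))^i ∩ p^*(γ_{r-i}) ∼_rat 0 on P, and
classes are compared up to rational equivalence of representing cycles. -/
theorem result (X : Scheme.{u}) (δ : X → ℤ) (hX : Cyc.IsSetup X δ) (r s : ℕ) (hr : 1 ≤ r) (hs : 1 ≤ s) (E : X.Modules) (hPE : FlatMod.IsFinLocFreeOfRank r E) (P : Scheme.{u}) (p : P ⟶ X) (O1 : P.Modules) (q : (Scheme.Modules.pullback p).obj E ⟶ O1) (hP : KRR.IsProjBundle p E O1 q) [IsProper p] (δP : P → ℤ) (hPs : Cyc.IsSetup P δP) (hδ : Cyc.DeltaCompat p δP δ) (F : X.Modules) (hQE : FlatMod.IsFinLocFreeOfRank s F) (Q : Scheme.{u}) (p' : Q ⟶ X) (O1' : Q.Modules) (q' : (Scheme.Modules.pullback p').obj F ⟶ O1') (hQ : KRR.IsProjBundle p' F O1' q') [IsProper p'] (δQ : Q → ℤ) (hQs : Cyc.IsSetup Q δQ) (hδ' : Cyc.DeltaCompat p' δQ δ) (hTE : FlatMod.IsFinLocFreeOfRank (r * s) (CohB1.tensorMod E F)) (T : Scheme.{u}) (p'' : T ⟶ X) (O1'' : T.Modules)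 (q'' : (Scheme.Modules.pullback p'').obj (CohB1.tensorMod E F) ⟶ O1'') (hT : KRR.IsProjBundle p'' (CohB1.tensorMod E F) O1'' q'') [IsProper p''] (δT : T → ℤ) (hTs : Cyc.IsSetup T δT) (hδ'' : Cyc.DeltaCompat p'' δT δ) (k : ℤ) (α : AlgebraicCycle X ℤ) (hα : α ∈ Cyc.Zk X δ k) (ε : Fin (r + 1) → AlgebraicCycle X ℤ) (hε : Cyc.IsChernCap p δ δP O1 r k α ε) (φ : Fin (s + 1) → AlgebraicCycle X ℤ) (hφ : Cyc.IsChernCap p' δ δQ O1' s k α φ) (τ : Fin (r * s + 1) → AlgebraicCycle X ℤ) (hτ : Cyc.IsChernCap p'' δ δT O1'' (r * s) k α τ) : Cyc.RatEquiv δ (k - 1) (τ ⟨1, Nat.lt_succ_of_le (Nat.mul_pos hr hs)⟩) (((r : ℕ) : ℤ) • φ ⟨1, Nat.lt_succ_of_le hs⟩ + ((s : ℕ) : ℤ) • ε ⟨1, Nat.lt_succ_of_le hr⟩) := by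
  have hrk : ∀ i, FlatMod.IsFinLocFreeOfRank (![r, s] i) (![E, F] i) := by
    intro i
    fin_cases i
    · exact hPE
    · exact hQE
  obtain ⟨S⟩ := exists_splitting pbAll hX ![E, F] ![r, s] hrk
  have hF1 : SF (S.Ls 0) ((Scheme.Modules.pullback S.π).obj E) := S.filt 0
  have hF2 : SF (S.Ls 1) ((Scheme.Modules.pullback S.π).obj F) := S.filt 1
  have hlen1 : (S.Ls 0).length = r := S.length 0
  have hlen2 : (S.Ls 1).length = s := S.length 1
  have hF : RF (tensL (S.Ls 0).reverse (S.Ls 1).reverse)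
      ((Scheme.Modules.pullback S.π).obj (CohB1.tensorMod E F)) :=
    (hF1.rf.tensor hF2.rf).iso (Groth.Agent.Krr.H482.PullTens.pullTensorIso S.π E F).symm
  have hi0 : ∀ L ∈ (S.Ls 0).reverse, PicF.IsInvertible L := fun L hL =>
    S.inv 0 L (List.mem_reverse.1 hL)
  have hi1 : ∀ L ∈ (S.Ls 1).reverse, PicF.IsInvertible L := fun L hL =>
    S.inv 1 L (List.mem_reverse.1 hL)
  have hlen : (tensL (S.Ls 0).reverse (S.Ls 1).reverse).length = r * s := by
    rw [length_tensL, List.length_reverse, List.length_reverse, hlen1, hlen2]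
  have h1 : ∀ j, S.pb (cl δ (τ j)) = _ := fun j =>
    S.pb_chernCap' pbAll (invertible_tensL hi0 hi1) hF hlen hTE hTs hδ'' hT hτ j
  have h2 : ∀ j, S.pb (cl δ (ε j)) = ec S.δ (S.Ls 0) j (S.pb (cl δ α)) := fun j =>
    S.pb_chernCap pbAll hrk 0 hPs hδ hP hε j
  have h3 : ∀ j, S.pb (cl δ (φ j)) = ec S.δ (S.Ls 1) j (S.pb (cl δ α)) := fun j =>
    S.pb_chernCap pbAll hrk 1 hQs hδ' hQ hφ j
  have hm1 : τ ⟨1, Nat.lt_succ_of_le (Nat.mul_pos hr hs)⟩ ∈ Zk X δ (k - 1) :=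
    hτ.2.1 ⟨1, Nat.lt_succ_of_le (Nat.mul_pos hr hs)⟩
  have hm2 : φ ⟨1, Nat.lt_succ_of_le hs⟩ ∈ Zk X δ (k - 1) :=
    hφ.2.1 ⟨1, Nat.lt_succ_of_le hs⟩
  have hm3 : ε ⟨1, Nat.lt_succ_of_le hr⟩ ∈ Zk X δ (k - 1) :=
    hε.2.1 ⟨1, Nat.lt_succ_of_le hr⟩
  rw [← cl_eq_iff hm1 (Zk_add (Zk_zsmul _ hm2) (Zk_zsmul _ hm3))]
  apply S.pb_injective
  rw [h1, map_add, map_add, map_zsmul, map_zsmul, map_zsmul, map_zsmul, h2, h3]
  have h4 := ec_tensL_one S.setup hi0 hi1 (S.pb (cl δ α))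
  rw [List.length_reverse, List.length_reverse, hlen1, hlen2, ec_reverse, ec_reverse] at h4
  exact h4

end Groth.Agent.S12668
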