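import Groth.Statements.S12669
import Groth.Agent.Cyc.K308.PBAllPf
import Groth.Agent.Cyc.K308.RFTensor

set_option autoImplicit false
universe u
open CategoryTheory CategoryTheory.Limits AlgebraicGeometry
open Cyc

namespace Groth.Agent.S12669

open K308.Grp K308

/-- For E, F finite locally free of ranks r, s on X, c_2(E ⊗ F) = r c_2(F) + s c_2(E) + C(r,2) c_1(F)^2
+ (rs - 1) c_1(F) c_1(E) + C(s,2) c_1(E)^2, as cap operations on every k-cycle α; products of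
classes are iterated caps represented by nested tuples (a tuple for F, resp. E, over the first
component of a tuple for F; a tuple for E over the first component of a tuple for E), c_2 of a
module of rank < 2 is 0, and E ⊗ F (CohB1.tensorMod, rank rs) enters through its own projective
bundle. Stated for r, s ≥ 1. Setting: (X, δ) with Cyc.IsSetup stands for a scheme locally of finite
type over the base (S, δ) (X locally Noetherian with universally catenary local rings, δ a dimension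
function); (p : P → X, O_P(1), q) is the projective bundle of E given by its universal property
(KRR.IsProjBundle), p is proper and δP is the induced dimension function (Cyc.DeltaCompat); a tuple
γ with Cyc.IsChernCap represents (c_0(E) ∩ α, …, c_r(E) ∩ α) through the defining relation Σ_i
(-1)^i c_1(O_P(1))^i ∩ p^*(γ_{r-i}) ∼_rat 0 on P, and classes are compared up to rational
equivalence of representing cycles. -/
theorem result (X : Scheme.{u}) (δ : X → ℤ) (hX : Cyc.IsSetup X δ) (r s : ℕ) (hr : 1 ≤ r) (hs : 1 ≤ s) (E : X.Modules) (hPE : FlatMod.IsFinLocFreeOfRank r E) (P : Scheme.{u}) (p : P ⟶ X) (O1 : P.Modules) (q : (Scheme.Modules.pullback p).obj E ⟶ O1) (hP : KRR.IsProjBundle p E O1 q) [IsProper p] (δP : P → ℤ) (hPs : Cyc.IsSetup P δP) (hδ : Cyc.DeltaCompat p δP δ) (F : X.Modules) (hQE : FlatMod.IsFinLocFreeOfRank s F) (Q : Scheme.{u}) (p' : Q ⟶ X) (O1' : Q.Modules)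 (q' : (Scheme.Modules.pullback p').obj F ⟶ O1') (hQ : KRR.IsProjBundle p' F O1' q') [IsProper p'] (δQ : Q → ℤ) (hQs : Cyc.IsSetup Q δQ) (hδ' : Cyc.DeltaCompat p' δQ δ) (hTE : FlatMod.IsFinLocFreeOfRank (r * s) (CohB1.tensorMod E F)) (T : Scheme.{u}) (p'' : T ⟶ X) (O1'' : T.Modules) (q'' : (Scheme.Modules.pullback p'').obj (CohB1.tensorMod E F) ⟶ O1'') (hT : KRR.IsProjBundle p'' (CohB1.tensorMod E F) O1'' q'') [IsProper p''] (δT : T → ℤ) (hTs : Cyc.IsSetup T δT) (hδ'' : Cyc.DeltaCompat p'' δT δ) (k : ℤ) (α : AlgebraicCycle X ℤ) (hα : α ∈ Cyc.Zk X δ k) (ε : Fin (r + 1) → AlgebraicCycle X ℤ) (hε : Cyc.IsChernCap p δ δP O1 r k α ε) (φ : Fin (s + 1) → AlgebraicCycle X ℤ) (hφ : Cyc.IsChernCap p' δ δQ O1' s k α φ) (τ : Fin (r * s + 1) → AlgebraicCycle X ℤ) (hτ : Cyc.IsChernCap p'' δ δT O1'' (r * s) k α τ) (φφ : Fin (s + 1) → AlgebraicCycle X ℤ) (hφφ : Cyc.IsChernCap p' δ δQ O1' s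 (k - 1) (φ ⟨1, Nat.lt_succ_of_le hs⟩) φφ) (εφ : Fin (r + 1) → AlgebraicCycle X ℤ) (hεφ : Cyc.IsChernCap p δ δP O1 r (k - 1) (φ ⟨1, Nat.lt_succ_of_le hs⟩) εφ) (εε : Fin (r + 1) → AlgebraicCycle X ℤ) (hεε : Cyc.IsChernCap p δ δP O1 r (k - 1) (ε ⟨1, Nat.lt_succ_of_le hr⟩) εε) : Cyc.RatEquiv δ (k - 2) (if h2 : 2 ≤ r * s then τ ⟨2, Nat.lt_succ_of_le h2⟩ else 0) (((r : ℕ) : ℤ) • (if h2 : 2 ≤ s then φ ⟨2, Nat.lt_succ_of_le h2⟩ else 0) + ((s : ℕ) : ℤ) • (if h2 : 2 ≤ r then ε ⟨2, Nat.lt_succ_of_le h2⟩ else 0) + ((Nat.choose r 2 : ℕ) : ℤ) • φφ ⟨1, Nat.lt_succ_of_le hs⟩ + (((r * s : ℕ) : ℤ) - 1) • εφ ⟨1, Nat.lt_succ_of_le hr⟩ + ((Nat.choose s 2 : ℕ) : ℤ) • εε ⟨1, Nat.lt_succ_of_le hr⟩) := by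
  have hrk : ∀ i, FlatMod.IsFinLocFreeOfRank (![r, s] i) (![E, F] i) := by
    intro i
    fin_cases i
    · exact hPE
    · exact hQE
  obtain ⟨S⟩ := exists_splitting pbAll hX ![E, F] ![r, s] hrk
  have hF1 : SF (S.Ls 0) ((Scheme.Modules.pullback S.π).obj E) := S.filt 0
  have hF2 : SF (S.Ls 1) ((Scheme.Modules.pullback S.π).obj F) := S.filt 1
  have hlen1 : (S.Ls 0).length = r := S.length 0
  have hlen2 : (S.Ls 1).length = s := S.length 1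
  have hF : RF (tensL (S.Ls 0).reverse (S.Ls 1).reverse)
      ((Scheme.Modules.pullback S.π).obj (CohB1.tensorMod E F)) :=
    (hF1.rf.tensor hF2.rf).iso (Groth.Agent.Krr.H482.PullTens.pullTensorIso S.π E F).symm
  have hi0 : ∀ L ∈ (S.Ls 0).reverse, PicF.IsInvertible L := fun L hL =>
    S.inv 0 L (List.mem_reverse.1 hL)
  have hi1 : ∀ L ∈ (S.Ls 1).reverse, PicF.IsInvertible L := fun L hL =>
    S.inv 1 L (List.mem_reverse.1 hL)
  have hlen : (tensL (S.Ls 0).reverse (S.Ls 1).reverse).length = r * s := by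
    rw [length_tensL, List.length_reverse, List.length_reverse, hlen1, hlen2]
  have h1 : ∀ j, S.pb (cl δ (τ j)) = _ := fun j =>
    S.pb_chernCap' pbAll (invertible_tensL hi0 hi1) hF hlen hTE hTs hδ'' hT hτ j
  have h2 : ∀ j, S.pb (cl δ (ε j)) = ec S.δ (S.Ls 0) j (S.pb (cl δ α)) := fun j =>
    S.pb_chernCap pbAll hrk 0 hPs hδ hP hε j
  have h3 : ∀ j, S.pb (cl δ (φ j)) = ec S.δ (S.Ls 1) j (S.pb (cl δ α)) := fun j =>
    S.pb_chernCap pbAll hrk 1 hQs hδ' hQ hφ j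
  have h4 : ∀ j, S.pb (cl δ (φφ j)) = ec S.δ (S.Ls 1) j (S.pb (cl δ (φ ⟨1, _⟩))) := fun j =>
    S.pb_chernCap pbAll hrk 1 hQs hδ' hQ hφφ j
  have h5 : ∀ j, S.pb (cl δ (εφ j)) = ec S.δ (S.Ls 0) j (S.pb (cl δ (φ ⟨1, _⟩))) := fun j =>
    S.pb_chernCap pbAll hrk 0 hPs hδ hP hεφ j
  have h6 : ∀ j, S.pb (cl δ (εε j)) = ec S.δ (S.Ls 0) j (S.pb (cl δ (ε ⟨1, _⟩))) := fun j =>
    S.pb_chernCap pbAll hrk 0 hPs hδ hP hεε j
  have m1 : (if h2 : 2 ≤ r * s then τ ⟨2, Nat.lt_succ_of_le h2⟩ else 0) ∈ Zk X δ (k - 2) := by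
    split_ifs with h
    · exact hτ.2.1 ⟨2, Nat.lt_succ_of_le h⟩
    · exact fun _ _ => rfl
  have m2 : (if h2 : 2 ≤ s then φ ⟨2, Nat.lt_succ_of_le h2⟩ else 0) ∈ Zk X δ (k - 2) := by
    split_ifs with h
    · exact hφ.2.1 ⟨2, Nat.lt_succ_of_le h⟩
    · exact fun _ _ => rfl
  have m3 : (if h2 : 2 ≤ r then ε ⟨2, Nat.lt_succ_of_le h2⟩ else 0) ∈ Zk X δ (k - 2) := by
    split_ifs with h
    · exact hε.2.1 ⟨2, Nat.lt_succ_of_le h⟩
    · exact fun _ _ => rfl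
  have e2 : k - 1 - 1 = k - 2 := by ring
  have m4 : φφ ⟨1, Nat.lt_succ_of_le hs⟩ ∈ Zk X δ (k - 2) := by
    have : φφ ⟨1, Nat.lt_succ_of_le hs⟩ ∈ Zk X δ (k - 1 - 1) :=
      hφφ.2.1 ⟨1, Nat.lt_succ_of_le hs⟩
    rwa [e2] at this
  have m5 : εφ ⟨1, Nat.lt_succ_of_le hr⟩ ∈ Zk X δ (k - 2) := by
    have : εφ ⟨1, Nat.lt_succ_of_le hr⟩ ∈ Zk X δ (k - 1 - 1) :=
      hεφ.2.1 ⟨1, Nat.lt_succ_of_le hr⟩
    rwa [e2] at this
  have m6 : εε ⟨1, Nat.lt_succ_of_le hr⟩ ∈ Zk X δ (k - 2) := by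
    have : εε ⟨1, Nat.lt_succ_of_le hr⟩ ∈ Zk X δ (k - 1 - 1) :=
      hεε.2.1 ⟨1, Nat.lt_succ_of_le hr⟩
    rwa [e2] at this
  have c1 : S.pb (cl δ (if h2 : 2 ≤ r * s then τ ⟨2, Nat.lt_succ_of_le h2⟩ else 0)) =
      ec S.δ (tensL (S.Ls 0).reverse (S.Ls 1).reverse) 2 (S.pb (cl δ α)) := by
    split_ifs with h
    · exact h1 ⟨2, Nat.lt_succ_of_le h⟩
    · rw [ec_eq_zero _ _ (by rw [hlen]; omega), map_zero, map_zero]
      rfl
  have c2 : S.pb (cl δ (if h2 : 2 ≤ s then φ ⟨2, Nat.lt_succ_of_le h2⟩ else 0)) =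
      ec S.δ (S.Ls 1) 2 (S.pb (cl δ α)) := by
    split_ifs with h
    · exact h3 ⟨2, Nat.lt_succ_of_le h⟩
    · rw [ec_eq_zero _ _ (by rw [hlen2]; omega), map_zero, map_zero]
      rfl
  have c3 : S.pb (cl δ (if h2 : 2 ≤ r then ε ⟨2, Nat.lt_succ_of_le h2⟩ else 0)) =
      ec S.δ (S.Ls 0) 2 (S.pb (cl δ α)) := by
    split_ifs with h
    · exact h2 ⟨2, Nat.lt_succ_of_le h⟩
    · rw [ec_eq_zero _ _ (by rw [hlen1]; omega), map_zero, map_zero]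
      rfl
  rw [← cl_eq_iff m1 (Zk_add (Zk_add (Zk_add (Zk_add (Zk_zsmul _ m2) (Zk_zsmul _ m3))
    (Zk_zsmul _ m4)) (Zk_zsmul _ m5)) (Zk_zsmul _ m6))]
  apply S.pb_injective
  rw [c1]
  simp only [map_add, map_zsmul]
  rw [c2, c3, h4, h5, h6, h3, h2]
  have h7 := ec_tensL_two S.setup hi0 hi1 (S.pb (cl δ α))
  rw [List.length_reverse, List.length_reverse, hlen1, hlen2] at h7
  simp only [ec_reverse] at h7
  exact h7

end Groth.Agent.S12669
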