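import Groth.Statements.S12670
import Groth.Agent.Cyc.K308.PBAllPf
import Groth.Agent.Cyc.K308.Dual
import Groth.Agent.Krr.H482.PullTens
import Groth.Agent.Htor.H255.ThetaIso

set_option autoImplicit false
universe u
open CategoryTheory CategoryTheory.Limits AlgebraicGeometry
attribute [local instance] HasDerivedCategory.standard
open Cyc

namespace Groth.Agent.S12670

open K308.Grp K308

/-- For E finite locally free of rank r on X with dual E^∨, c_j(E^∨) = (-1)^j c_j(E), as cap operations
on every k-cycle α. The dual is Hom_{O_X}(E, O_X), the value at O_X of the right adjoint of - ⊗ E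
(DCoh.sheafHom, its existence carried as a hypothesis), finite locally free of rank r, and enters
through its own projective bundle. Setting: (X, δ) with Cyc.IsSetup stands for a scheme locally of
finite type over the base (S, δ) (X locally Noetherian with universally catenary local rings, δ a
dimension function); (p : P → X, O_P(1), q) is the projective bundle of E given by its universal
property (KRR.IsProjBundle), p is proper and δP is the induced dimension function (Cyc.DeltaCompat);
a tuple γ with Cyc.IsChernCap represents (c_0(E) ∩ α, …, c_r(E) ∩ α) through the defining relation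
Σ_i (-1)^i c_1(O_P(1))^i ∩ p^*(γ_{r-i}) ∼_rat 0 on P, and classes are compared up to rational
equivalence of representing cycles. -/
theorem result (X : Scheme.{u}) (δ : X → ℤ) (hX : Cyc.IsSetup X δ) (r : ℕ) (E : X.Modules) (hPE : FlatMod.IsFinLocFreeOfRank r E) (P : Scheme.{u}) (p : P ⟶ X) (O1 : P.Modules) (q : (Scheme.Modules.pullback p).obj E ⟶ O1) (hP : KRR.IsProjBundle p E O1 q) [IsProper p] (δP : P → ℤ) (hPs : Cyc.IsSetup P δP) (hδ : Cyc.DeltaCompat p δP δ) [DCoh.HasSheafHom E] (hP'E : FlatMod.IsFinLocFreeOfRank r ((DCoh.sheafHom E).obj (Coh.structureModule X))) (P' : Scheme.{u}) (p' : P' ⟶ X) (O1' : P'.Modules) (q' : (Scheme.Modules.pullback p').obj ((DCoh.sheafHom E).obj (Coh.structureModule X)) ⟶ O1') (hP' : KRR.IsProjBundle p' ((DCoh.sheafHom E).obj (Coh.structureModule X)) O1' q') [IsProper p'] (δP' : P' → ℤ) (hPs' : Cyc.IsSetup P' δP') (hδ' : Cyc.DeltaCompat p' δP' δ) (k : ℤ) (α : AlgebraicCycle X ℤ) (hα : α ∈ Cyc.Zk X δ k) (γ : Fin (r + 1) → AlgebraicCycle X ℤ) (hγ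 : Cyc.IsChernCap p δ δP O1 r k α γ) (γ' : Fin (r + 1) → AlgebraicCycle X ℤ) (hγ' : Cyc.IsChernCap p' δ δP' O1' r k α γ') (j : Fin (r + 1)) : Cyc.RatEquiv δ (k - ((j : ℕ) : ℤ)) (γ' j) ((-1 : ℤ) ^ (j : ℕ) • γ j) := by
  have hrk : ∀ i, FlatMod.IsFinLocFreeOfRank (![r] i) (![E] i) := by
    intro i
    fin_cases i
    exact hPE
  obtain ⟨S⟩ := exists_splitting pbAll hX ![E] ![r] hrk
  have hF1 : SF (S.Ls 0) ((Scheme.Modules.pullback S.π).obj E) := S.filt 0
  have hlen1 : (S.Ls 0).length = r := S.length 0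
  have hEf : FlatMod.IsFinLocFree E := Groth.Agent.Ega2.QCohLocal.isFinLocFree_of_rank hPE
  have hrkE : FlatMod.IsFinLocFreeOfRank r ((Scheme.Modules.pullback S.π).obj E) :=
    Groth.Agent.Vancyc.H878.Triv.isFinLocFreeOfRank_pullback S.π hPE
  have e0 := (Groth.Agent.Htor.H255.ThetaIso.thetaIso S.π E
    (Groth.Agent.Ega2.QCohLocal.isQCoh_of_isFinLocFree hEf)
    (Groth.Agent.Desc.FinLocFreeSections.isFP_of_isFinLocFree hEf)).app (Coh.structureModule X)
  have e1 : dl ((Scheme.Modules.pullback S.π).obj E) ≅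
      (Scheme.Modules.pullback S.π).obj ((DCoh.sheafHom E).obj (Coh.structureModule X)) :=
    (Groth.Agent.Dcoh.MonClosed.homFunctor ((Scheme.Modules.pullback S.π).obj E)).mapIso
      (Groth.Agent.Krr.H482.PullTens.pullUnitIso S.π).symm ≪≫ e0.symm ≪≫
        (Scheme.Modules.pullback S.π).mapIso
          ((Groth.Agent.Sga2.PnHomAdj.sheafHomIso E).app (Coh.structureModule X)).symm
  have hF : RF ((S.Ls 0).map dl)
      ((Scheme.Modules.pullback S.π).obj ((DCoh.sheafHom E).obj (Coh.structureModule X))) :=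
    (hF1.dual (S.inv 0) hrkE hlen1).iso e1
  have hinv : ∀ L ∈ (S.Ls 0).map dl, PicF.IsInvertible L := by
    intro L hL
    rw [List.mem_map] at hL
    obtain ⟨N, hN, rfl⟩ := hL
    exact isInvertible_dl (S.inv 0 N hN)
  have h1 := S.pb_chernCap' pbAll hinv hF (by rw [List.length_map, hlen1]) hP'E hPs' hδ' hP' hγ' j
  have h2 : S.pb (cl δ (γ j)) = ec S.δ (S.Ls 0) j (S.pb (cl δ α)) :=
    S.pb_chernCap pbAll hrk 0 hPs hδ hP hγ j
  rw [← cl_eq_iff (hγ'.2.1 j) (Zk_zsmul _ (hγ.2.1 j))]
  apply S.pb_injective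
  rw [h1, map_zsmul, map_zsmul, h2]
  exact ec_dual S.setup (S.inv 0) j _

end Groth.Agent.S12670
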