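import Groth.Statements.S12671
import Groth.Agent.Cyc.K308.PBAllPf
import Groth.Agent.Cyc.K308.Chain

set_option autoImplicit false
universe u
open CategoryTheory CategoryTheory.Limits AlgebraicGeometry
open Cyc

namespace Groth.Agent.S12671

open K308.Grp K308

/-- Let E be a locally free O_X-module of rank r with a filtration 0 = E_0 ⊂ E_1 ⊂ … ⊂ E_r = E such that
E_i/E_{i-1} ≅ L_i is invertible for i = 1, …, r. Then c(E) = Π_i (1 + c_1(L_i)), that is c_p(E) ∩ α
∼_rat Σ_{I ⊆ {1,…,r}, |I| = p} (Π_{i ∈ I} c_1(L_i)) ∩ α for every k-cycle α, where the product over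
I is the iterated cap applied in increasing order of i on coefficient functions with any nonzero
rational sections (Cyc.c1CapFun); the filtration is given by short exact sequences 0 → E_{i-1} → E_i
→ L_i → 0 with E_0 = 0 and E_r ≅ E. Setting: (X, δ) with Cyc.IsSetup stands for a scheme locally of
finite type over the base (S, δ) (X locally Noetherian with universally catenary local rings, δ a
dimension function); (p : P → X, O_P(1), q) is the projective bundle of E given by its universal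
property (KRR.IsProjBundle), p is proper and δP is the induced dimension function (Cyc.DeltaCompat);
a tuple γ with Cyc.IsChernCap represents (c_0(E) ∩ α, …, c_r(E) ∩ α) through the defining relation
Σ_i (-1)^i c_1(O_P(1))^i ∩ p^*(γ_{r-i}) ∼_rat 0 on P, and classes are compared up to rational
equivalence of representing cycles. -/
theorem result (X : Scheme.{u}) (δ : X → ℤ) (hX : Cyc.IsSetup X δ) (r : ℕ) (E : X.Modules) (hPE : FlatMod.IsFinLocFreeOfRank r E) (P : Scheme.{u}) (p : P ⟶ X) (O1 : P.Modules) (q : (Scheme.Modules.pullback p).obj E ⟶ O1) (hP : KRR.IsProjBundle p E O1 q) [IsProper p] (δP : P → ℤ) (hPs : Cyc.IsSetup P δP) (hδ : Cyc.DeltaCompat p δP δ) (M : Fin (r + 1) → X.Modules) (h0 : IsZero (M 0)) (e : M (Fin.last r) ≅ E) (L : Fin r → X.Modules) (hL : ∀ i, PicF.IsInvertible (L i)) (a : ∀ i : Fin r, M (Fin.castSucc i) ⟶ M (Fin.succ i)) (b : ∀ i : Fin r, M (Fin.succ i) ⟶ L i) (hab : ∀ i, a i ≫ b i = 0) (hex : ∀ i, (ShortComplex.mk (a i) (b i) (hab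 i)).ShortExact) (k : ℤ) (α : AlgebraicCycle X ℤ) (hα : α ∈ Cyc.Zk X δ k) (γ : Fin (r + 1) → AlgebraicCycle X ℤ) (hγ : Cyc.IsChernCap p δ δP O1 r k α γ) (t : (i : Fin r) → (ξ : X) → Cyc.secFibre (L i) ξ) (ht : ∀ i ξ, t i ξ ≠ 0) (κ : Finset (Fin r) → AlgebraicCycle X ℤ) (hκ0 : κ ∅ = α) (hκ : ∀ (I : Finset (Fin r)) (i : Fin r), (∀ i' ∈ I, i' < i) → ⇑(κ (insert i I)) = Cyc.c1CapFun δ (L i) ⇑(κ I) (t i)) (n : Fin (r + 1)) : Cyc.RatEquiv δ (k - ((n : ℕ) : ℤ)) (γ n) (∑ I ∈ Finset.powersetCard n Finset.univ, κ I) := by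
  have hfl := PB.flat' hPE hP
  have he := PB.shift hPE hP hδ
  have hO := PB.invertible hP
  have hE : RF (List.ofFn L) E := (rf_of_chain M h0 L a b hab hex).iso e
  have hLs : ∀ N ∈ List.ofFn L, PicF.IsInvertible N := by
    intro N hN
    rw [List.mem_ofFn] at hN
    obtain ⟨i, rfl⟩ := hN
    exact hL i
  obtain ⟨h1, h2, h3⟩ := (isChernCap_iff hPs hX p he hO).1 hγ
  have hepi := hP.epi
  have hlen : (List.ofFn L).length = r := List.length_ofFn
  have h4 : ∀ j ≤ r, clT δ γ j = ec δ (List.ofFn L) j (clT δ γ 0) :=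
    chernRel_unique (pbAll hX hPs hPE hP hδ he) h3
      (by simpa only [hlen] using chernRel_ec hPs hX he hO q hLs hE (clT δ γ 0))
      (by rw [ec_zero]; rfl)
  have h5 := h4 n (by omega)
  rw [clT_fin, clT_of_lt γ (Nat.succ_pos r), ec_ofFn_apply] at h5
  have h6 : γ ⟨0, Nat.succ_pos r⟩ = α := h1
  rw [h6] at h5
  -- the iterated caps
  have h7 : ∀ I : Finset (Fin r), cl δ (κ I) = pc δ L I (cl δ α) ∧
      κ I ∈ Cyc.Zk X δ (k - (I.card : ℤ)) := by
    intro I
    induction I using Finset.induction_on_max with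
    | empty =>
      rw [hκ0, pc_empty, Finset.card_empty, Nat.cast_zero, sub_zero]
      exact ⟨rfl, hα⟩
    | insert i I hi ih =>
      have hiI : i ∉ I := fun h => lt_irrefl _ (hi i h)
      rw [pc_insert δ L hiI, end_mul_apply, ← ih.1, C1_eq hX (hL i)]
      refine ⟨(c1_cl hX (hL i) (fun ξ _ => ht i ξ) (hκ I i hi)).symm, ?_⟩
      rw [Finset.card_insert_of_notMem hiI]
      refine Zk_cap (k := k - ((I.card + 1 : ℕ) : ℤ)) ?_ (hκ I i hi)
      have e : k - ((I.card + 1 : ℕ) : ℤ) + 1 = k - (I.card : ℤ) := by push_cast; ring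
      rw [e]
      exact ih.2
  have h8 : (∑ I ∈ Finset.powersetCard n Finset.univ, κ I) ∈
      Cyc.Zk X δ (k - ((n : ℕ) : ℤ)) := by
    refine Zk_sum _ fun I hI => ?_
    have := (h7 I).2
    rwa [(Finset.mem_powersetCard.1 hI).2] at this
  rw [← cl_eq_iff (h2 n) h8, h5, map_sum]
  exact Finset.sum_congr rfl fun I _ => (h7 I).1.symm

end Groth.Agent.S12671
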