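import Groth.Statements.S12672
import Groth.Agent.Cyc.K308.DegVB2

set_option autoImplicit false
universe u
open CategoryTheory CategoryTheory.Limits AlgebraicGeometry
open Cyc

namespace Groth.Agent.S12672

open K308.Grp K308

/-- Let X be proper over a field K with dim X ≤ 1 and E a finite locally free O_X-module of constant
rank r. Then deg(E) = deg(c_1(E) ∩ [X]_1), where deg(E) = χ(X, E) - r·χ(X, O_X) (Curv2.deg) and the
right side is the degree (ChowOps.deg, pushforward to the point) of a representative of c_1(E) ∩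
[X]_1, [X]_1 being the 1-cycle of X (Cyc.subschemeFun); for r = 0 both sides are 0. Dimension
function: transcendence degree over K. (This is the general constant-rank case; the invertible case
is a separate result stated with c_1(L) ∩ - of an invertible module.) Setting: (X, δ) with
Cyc.IsSetup stands for a scheme locally of finite type over the base (S, δ) (X locally Noetherian
with universally catenary local rings, δ a dimension function); (p : P → X, O_P(1), q) is the
projective bundle of E given by its universal property (KRR.IsProjBundle), p is proper and δP is the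
induced dimension function (Cyc.DeltaCompat); a tuple γ with Cyc.IsChernCap represents (c_0(E) ∩ α,
…, c_r(E) ∩ α) through the defining relation Σ_i (-1)^i c_1(O_P(1))^i ∩ p^*(γ_{r-i}) ∼_rat 0 on P,
and classes are compared up to rational equivalence of representing cycles. -/
theorem result (K : Type u) [Field K] (X : Scheme.{u}) [X.Over (Spec (CommRingCat.of K))] [IsProper (X ↘ Spec (CommRingCat.of K))] (hdim : topologicalKrullDim X ≤ 1) (δ : X → ℤ) (hX : Cyc.IsSetup X δ) (hK : Cyc.DeltaCompat (X ↘ Spec (CommRingCat.of K)) δ (fun _ => 0)) (r : ℕ) (E : X.Modules) (hPE : FlatMod.IsFinLocFreeOfRank r E) (P : Scheme.{u}) (p : P ⟶ X) (O1 : P.Modules) (q : (Scheme.Modules.pullback p).obj E ⟶ O1) (hP : KRR.IsProjBundle p E O1 q) [IsProper p] (δP : P → ℤ) (hPs : Cyc.IsSetup P δP) (hδ : Cyc.DeltaCompat p δP δ) (α : AlgebraicCycle X ℤ) (hα : ⇑α = Cyc.subschemeFun δ 1 (𝟙 X)) (γ : Fin (r + 1) → AlgebraicCycle X ℤ) (hγ : Cyc.IsChernCap p δ δP O1 r 1 α γ) : Curv2.deg K X E r = (if h : 1 ≤ r then ChowOps.deg (X ↘ Spec (CommRingCat.of K)) δ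 (γ ⟨1, Nat.lt_succ_of_le h⟩) else 0) := by
  by_cases hr : 1 ≤ r
  · rw [dif_pos hr, ← deg_general hdim hX hK hr hPE hα, ← degG_cl _ hX hK]
    congr 1
    let B : K307.Bun X δ r := ⟨E, P, p, O1, q, δP, hX, hPE, hP, hδ⟩
    have h1 : B.ch 1 = K307.chE hX hPE 1 := B.ch_eq hPE ⟨Iso.refl _⟩ 1
    rw [← h1]
    exact (B.cl_eq_chern B.pbf hγ ⟨1, Nat.lt_succ_of_le hr⟩).symm
  · rw [dif_neg hr]
    obtain rfl : r = 0 := by omega
    have hz : IsZero E := Groth.Agent.Krr.H495.Rank.isZero_of_rank_zero hPE
    have h1 := deg_chain (K := K) (X := X) (r := 0) (fun _ => E) hz (fun i => i.elim0)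
      (fun i => i.elim0) (fun i => i.elim0)
    rw [h1]
    simp

end Groth.Agent.S12672
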