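import Groth.Statements.S12674
import Groth.Agent.Cyc.K305.VBTop
import Groth.Agent.Cyc.K305.DualMate
import Groth.Agent.Krr.H463.DualLam
import Groth.Agent.Cyc.K309.Base

set_option autoImplicit false
universe u
open CategoryTheory CategoryTheory.Limits AlgebraicGeometry
attribute [local instance] HasDerivedCategory.standard
open Cyc

namespace Groth.Agent.S12674

open K308.Grp K305.VBCap K305.VBCap.VB

/-- For a short exact sequence 0 → N' → N → E → 0 of finite locally free O_X-modules of constant ranks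
r', r' + e and e, write π : V = Spec Sym(N^∨) → X and π' : V' = Spec Sym((N')^∨) → X for the
associated vector bundles and i : V' → V for the closed immersion induced by the dual map N^∨ →
(N')^∨. Then i_*((π')^*α) = π^*(c_e(E) ∩ α) in CH_{k+r'}(V) for every k-cycle α on X (c_e = c_top
for constant rank e). The duals are Hom_{O_X}(-, O_X) (DCoh.sheafHom, existence carried as
hypotheses), the vector bundles are the relative spectra of their symmetric algebras
(RelSpec.IsSymAlg, RelSpec.QCAlg.spec), i is RelSpec.QCAlg.specMap of the algebra map extending the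
dual N^∨ → (N')^∨ of N' → N (the mate of N' ⊗ - → N ⊗ - under the tensor-Hom adjunctions), its being
a closed immersion is carried as a hypothesis, and flat pullbacks are coefficientwise with the
induced dimension functions. (The published statement allows nonconstant ranks through c_top;
constant ranks are stated here.) Setting: (X, δ) with Cyc.IsSetup stands for a scheme locally of
finite type over the base (S, δ) (X locally Noetherian with universally catenary local rings, δ a
dimension function); (p : P → X, O_P(1), q) is the projective bundle of E given by its universal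
property (KRR.IsProjBundle), p is proper and δP is the induced dimension function (Cyc.DeltaCompat);
a tuple γ with Cyc.IsChernCap represents (c_0(E) ∩ α, …, c_r(E) ∩ α) through the defining relation
Σ_i (-1)^i c_1(O_P(1))^i ∩ p^*(γ_{r-i}) ∼_rat 0 on P, and classes are compared up to rational
equivalence of representing cycles. -/
theorem result (X : Scheme.{u}) (δ : X → ℤ) (hX : Cyc.IsSetup X δ) (r' e : ℕ) (N' N E : X.Modules) (hN' : FlatMod.IsFinLocFreeOfRank r' N') (hN : FlatMod.IsFinLocFreeOfRank (r' + e) N) (hPE : FlatMod.IsFinLocFreeOfRank e E) (P : Scheme.{u}) (p : P ⟶ X) (O1 : P.Modules) (q : (Scheme.Modules.pullback p).obj E ⟶ O1) (hP : KRR.IsProjBundle p E O1 q) [IsProper p] (δP : P → ℤ) (hPs : Cyc.IsSetup P δP) (hδ : Cyc.DeltaCompat p δP δ) (a : N' ⟶ N) (b : N ⟶ E) (hab : a ≫ b = 0) (hex : (ShortComplex.mk a b hab).ShortExact) [DCoh.HasSheafHom N] [DCoh.HasSheafHom N'] (hqN : Coh.IsQCoh ((DCoh.sheafHom N).obj (Coh.structureModule X))) (hqN' : Coh.IsQCoh ((DCoh.sheafHom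 N').obj (Coh.structureModule X))) (A : RelSpec.QCAlg X) (j : ((DCoh.sheafHom N).obj (Coh.structureModule X)) ⟶ A.toModule) (hA : RelSpec.IsSymAlg ((DCoh.sheafHom N).obj (Coh.structureModule X)) A j) (A' : RelSpec.QCAlg X) (j' : ((DCoh.sheafHom N').obj (Coh.structureModule X)) ⟶ A'.toModule) (hA' : RelSpec.IsSymAlg ((DCoh.sheafHom N').obj (Coh.structureModule X)) A' j') (φ : A ⟶ A') (hφ : j ≫ RelSpec.QCAlg.Hom.toModuleMap φ = ((CategoryTheory.conjugateEquiv (DCoh.sheafHomAdj N) (DCoh.sheafHomAdj N')) ((DCoh.tensorBi (X := X)).map a)).app (Coh.structureModule X) ≫ j') [IsClosedImmersion (RelSpec.QCAlg.specMap φ)] (δV : ↥A.spec → ℤ) (hV : Cyc.IsSetup A.spec δV) (hpδ : Cyc.DeltaCompat A.π δV δ) (δV' : ↥A'.spec → ℤ) (hV' : Cyc.IsSetup A'.spec δV') (hp'δ : Cyc.DeltaCompat A'.π δV' δ) (k : ℤ) (α : AlgebraicCycle X ℤ) (hα : α ∈ Cyc.Zk X δ k) (γ : Fin (e + 1) → AlgebraicCycle X ℤ) (hγ : Cyc.IsChernCap p δ δP O1 e k α γ) (β' : AlgebraicCycle A'.spec ℤ) (hβ' : ⇑β' = Cyc.pullFun A'.π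 δV' δ (r' : ℤ) ⇑α) (β : AlgebraicCycle A.spec ℤ) (hβ : ⇑β = Cyc.pullFun A.π δV δ ((r' : ℤ) + e) ⇑(γ (Fin.last e))) : Cyc.RatEquiv δV (k + r') (AlgebraicCycle.map (RelSpec.QCAlg.specMap φ) δV' δV β') β := by
  let iN : (DCoh.sheafHom N).obj (Coh.structureModule X) ≅ dl N :=
    (Groth.Agent.Sga2.PnHomAdj.sheafHomIso N).app (Coh.structureModule X)
  let iN' : (DCoh.sheafHom N').obj (Coh.structureModule X) ≅ dl N' :=
    (Groth.Agent.Sga2.PnHomAdj.sheafHomIso N').app (Coh.structureModule X)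
  let aD : dl N ⟶ dl N' := Groth.Agent.Sga2.PnHomAdj.homMapLeft a (Coh.structureModule X)
  let bD : dl E ⟶ dl N := Groth.Agent.Sga2.PnHomAdj.homMapLeft b (Coh.structureModule X)
  let mt : (DCoh.sheafHom N).obj (Coh.structureModule X) ⟶
      (DCoh.sheafHom N').obj (Coh.structureModule X) :=
    ((CategoryTheory.conjugateEquiv (DCoh.sheafHomAdj N) (DCoh.sheafHomAdj N'))
      ((DCoh.tensorBi (X := X)).map a)).app (Coh.structureModule X)
  have hmt : mt ≫ iN'.hom = iN.hom ≫ aD := K305.DualMate.mate a (Coh.structureModule X)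
  -- the dual sequence
  have hz : bD ≫ aD = 0 := (Groth.Agent.Sga2.PnHomExact.homSC (ShortComplex.mk a b hab)
      (Coh.structureModule X)).zero
  have hex' : (ShortComplex.mk bD aD hz).ShortExact :=
    Groth.Agent.Sga2.PnHomExact.shortExact_homSC hex
    (K305.VBInj.isQCoh_of_rank hN') (K305.VBInj.isQCoh_of_rank hN)
    (Groth.Agent.Ega2.QCohLocal.isFinLocFree_of_rank hPE) (Coh.structureModule X)
  have hk0 : (bD ≫ iN.inv) ≫ mt = 0 := by
    rw [← cancel_mono iN'.hom, Category.assoc, hmt, Category.assoc, Iso.inv_hom_id_assoc, hz,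
      zero_comp]
  have hS : (ShortComplex.mk (bD ≫ iN.inv) mt hk0).ShortExact :=
    ShortComplex.shortExact_of_iso
      (ShortComplex.isoMk (S₁ := ShortComplex.mk bD aD hz)
        (S₂ := ShortComplex.mk (bD ≫ iN.inv) mt hk0) (Iso.refl _) iN.symm iN'.symm
        (by simp) (by
          change iN.inv ≫ mt = aD ≫ iN'.inv
          rw [Iso.inv_comp_eq, ← Category.assoc, ← hmt, Category.assoc, Iso.hom_inv_id,
            Category.comp_id])) hex'
  have hrN : FlatMod.IsFinLocFreeOfRank (e + r') ((DCoh.sheafHom N).obj (Coh.structureModule X)) := by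
    rw [add_comm]
    exact Groth.Agent.Krr.H463.DualLam.isFinLocFreeOfRank_dual hN
  have hrN' : FlatMod.IsFinLocFreeOfRank r' ((DCoh.sheafHom N').obj (Coh.structureModule X)) :=
    Groth.Agent.Krr.H463.DualLam.isFinLocFreeOfRank_dual hN'
  let V : VB X δ ((DCoh.sheafHom N).obj (Coh.structureModule X)) (e + r') :=
    ⟨hX, hrN, A, j, hA, δV, hpδ⟩
  let V' : VB X δ ((DCoh.sheafHom N').obj (Coh.structureModule X)) r' :=
    ⟨hX, hrN', A', j', hA', δV', hp'δ⟩
  have flV : Flat A.π := V.flat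
  have flV' : Flat A'.π := V'.flat
  obtain ⟨Sp⟩ := exists_splitting pbAll hX (fun _ : Fin 1 => E) (fun _ => e) (fun _ => hPE)
  have hc : Sp.pb (cl δ (γ (Fin.last e))) = ec Sp.δ (Sp.Ls 0) e (Sp.pb (cl δ α)) :=
    Sp.pb_chernCap pbAll (fun _ => hPE) 0 hPs hδ hP hγ (Fin.last e)
  have key := K305.VBTop.main hX hPE (Iso.refl (dl E)) (bD ≫ iN.inv) mt hk0 hS V V' φ hφ Sp (cl δ α)
    (cl δ (γ (Fin.last e))) hc
  have e1 : V'.pl (cl δ α) = cl δV' β' := pull_cl V'.setup V'.base V'.A.π V'.shift hβ'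
  have e2 : V.pl (cl δ (γ (Fin.last e))) = cl δV β := by
    refine pull_cl V.setup V.base V.A.π V.shift ?_
    rw [hβ]
    push_cast
    rw [add_comm (r' : ℤ)]
  have hβ'm : β' ∈ Zk A'.spec δV' (k + r') :=
    Groth.Agent.CycB.GenLocFin.pullFun_mem_Zk A'.π hα hβ'
  have hβm : β ∈ Zk A.spec δV (k + r') := by
    have h1 := Groth.Agent.CycB.GenLocFin.pullFun_mem_Zk A.π (hγ.2.1 (Fin.last e)) hβ
    have h2 : k - ((Fin.last e : Fin (e + 1)) : ℕ) + ((r' : ℤ) + e) = k + r' := by
      rw [Fin.val_last]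
      ring
    rwa [h2] at h1
  rw [e1, e2] at key
  have key' : cl δV (AlgebraicCycle.map (RelSpec.QCAlg.specMap φ) δV' δV β') = cl δV β := key
  exact (cl_eq_iff (K309.Base.map_mem_Zk (RelSpec.QCAlg.specMap φ) hβ'm) hβm).1 key'

end Groth.Agent.S12674
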