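import Groth.Statements.S12675
import Groth.Agent.Cyc.K308.PBAllPf
import Groth.Agent.Cyc.K308.Chain

set_option autoImplicit false
universe u
open CategoryTheory CategoryTheory.Limits AlgebraicGeometry
open Cyc

namespace Groth.Agent.S12675

open K308.Grp K308

/-- Suppose X is integral of δ-dimension n and L is an O_X-module that is invertible; then L's first
Chern class on X, taken in the sense of the projective-bundle characterisation (rank r = 1), agrees
with the Weil divisor class c_1(L) ∩ [X] of L (the divisor of a nonzero rational section,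
Cyc.c1CapFun on the cycle [X]_n). The projective bundle of L is given abstractly by its universal
property, so the identification P(L) = X, O(1) = L is part of what is asserted. Setting: (X, δ) with
Cyc.IsSetup stands for a scheme locally of finite type over the base (S, δ) (X locally Noetherian
with universally catenary local rings, δ a dimension function); (p : P → X, O_P(1), q) is the
projective bundle of E given by its universal property (KRR.IsProjBundle), p is proper and δP is the
induced dimension function (Cyc.DeltaCompat); a tuple γ with Cyc.IsChernCap represents (c_0(E) ∩ α,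
…, c_r(E) ∩ α) through the defining relation Σ_i (-1)^i c_1(O_P(1))^i ∩ p^*(γ_{r-i}) ∼_rat 0 on P,
and classes are compared up to rational equivalence of representing cycles. -/
theorem result (X : Scheme.{u}) (δ : X → ℤ) (hX : Cyc.IsSetup X δ) [IsIntegral X] (n : ℤ) (hn : δ (genericPoint X) = n) (L : X.Modules) (hL : PicF.IsInvertible L) (hPE : FlatMod.IsFinLocFreeOfRank 1 L) (P : Scheme.{u}) (p : P ⟶ X) (O1 : P.Modules) (q : (Scheme.Modules.pullback p).obj L ⟶ O1) (hP : KRR.IsProjBundle p L O1 q) [IsProper p] (δP : P → ℤ) (hPs : Cyc.IsSetup P δP) (hδ : Cyc.DeltaCompat p δP δ) (α : AlgebraicCycle X ℤ) (hα : ⇑α = Cyc.subschemeFun δ n (𝟙 X)) (γ : Fin 2 → AlgebraicCycle X ℤ) (hγ : Cyc.IsChernCap p δ δP O1 1 n α γ) (s : (ξ : X) → Cyc.secFibre L ξ) (hs : ∀ ξ, s ξ ≠ 0) (β : AlgebraicCycle X ℤ) (hβ : ⇑β = Cyc.c1CapFun δ L ⇑α s) : Cyc.RatEquiv δ (n - 1) (γ 1) β := by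
  have hfl := PB.flat' hPE hP
  have he := PB.shift hPE hP hδ
  have hO := PB.invertible hP
  have hE : RF [L] L := ⟨𝟙 _, isZero_cokernel_of_epi (𝟙 _)⟩
  have hLs : ∀ N ∈ [L], PicF.IsInvertible N := by
    intro N hN
    rw [List.mem_singleton.1 hN]
    exact hL
  obtain ⟨h1, h2, h3⟩ := (isChernCap_iff hPs hX p he hO).1 hγ
  have hepi := hP.epi
  have h4 : ∀ j ≤ 1, clT δ γ j = ec δ [L] j (clT δ γ 0) :=
    chernRel_unique (pbAll hX hPs hPE hP hδ he) h3
      (by simpa only [List.length_singleton] using chernRel_ec hPs hX he hO q hLs hE (clT δ γ 0))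
      (by rw [ec_zero]; rfl)
  have h5 := h4 1 le_rfl
  have h0 : γ ⟨0, Nat.succ_pos 1⟩ = α := h1
  have hc1 : clT δ γ 1 = cl δ (γ 1) := clT_fin (δX := δ) γ 1
  rw [hc1, clT_of_lt γ (Nat.succ_pos 1), h0, ec_one, List.map_singleton, List.sum_singleton,
    C1_eq hX hL, c1_cl hX hL (fun ξ _ => hs ξ) hβ] at h5
  have h6 : γ 1 ∈ Zk X δ (n - 1) := h2 1
  have hαn : α ∈ Zk X δ n := by
    have := h2 0
    rw [h1, Fin.val_zero, Nat.cast_zero, sub_zero] at this
    exact this
  have h7 : β ∈ Zk X δ (n - 1) := Zk_cap (by rw [sub_add_cancel]; exact hαn) hβ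
  exact (cl_eq_iff h6 h7).1 h5

end Groth.Agent.S12675
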