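import Groth.Statements.S12676
import Groth.Agent.IntMult.K304.NPVChow

set_option autoImplicit false
universe u
open CategoryTheory CategoryTheory.Limits AlgebraicGeometry
attribute [local instance] HasDerivedCategory.standard
open IntMult

namespace Groth.Agent.S12676

/-- Let f : X → Y be a morphism of nonsingular projective varieties over an algebraically closed field
and define f^*α = pr_{X,*}(Γ_f · pr_Y^*α) on Chow groups, with Γ_f ⊂ X × Y the graph and · the
intersection product of the nonsingular projective variety X × Y. If f is flat, f^*α agrees with the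
flat pullback of α (relative dimension dim X - dim Y). Here X, Y and X × Y are nonsingular varieties
over the algebraically closed field K (smooth, separated, quasi-compact, integral) embedded as
closed subschemes of projective spaces over K, with dimension functions the transcendence degree
(Cyc.IsSetup, Cyc.DeltaCompat to Spec K with value 0) and dimensions pinned at the generic points;
the product on CH_*(X × Y) is any mul with ChowOps.IsChowMul (it agrees with the Tor-formula product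
IntMult.interProd on properly meeting cycles, which determines it); [Γ_f] is the prime cycle of the
image of the generic point of X under the graph morphism, pr_Y^* and f^* are coefficientwise flat
pullbacks (Cyc.pullFun), pr_{X,*} is the proper pushforward of a representing cycle, and the two
sides are compared up to rational equivalence on X. (Parts (1)–(3) of the published statement — f^*
is a ring map, functoriality, projection formula — are not stated here.) -/
theorem result (K : Type u) [Field K] [IsAlgClosed K] (X : Scheme.{u}) (fX : X ⟶ Spec (CommRingCat.of K)) [Smooth fX] [IsSeparated fX] [QuasiCompact fX] [IsIntegral X] (δX : X → ℤ) (hX : Cyc.IsSetup X δX) (hδX : Cyc.DeltaCompat fX δX (fun _ => 0)) (dX : ℕ) (hdX : δX (genericPoint X) = dX) (NX : ℕ) (ιX : X ⟶ CohB1.ProjSpace NX K) [IsClosedImmersion ιX] (hιX : ιX ≫ CohB1.ProjSpace.toSpec NX K = fX) (Y : Scheme.{u}) (fY : Y ⟶ Spec (CommRingCat.of K)) [Smooth fY] [IsSeparated fY] [QuasiCompact fY] [IsIntegral Y]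 (δY : Y → ℤ) (hY : Cyc.IsSetup Y δY) (hδY : Cyc.DeltaCompat fY δY (fun _ => 0)) (dY : ℕ) (hdY : δY (genericPoint Y) = dY) (NY : ℕ) (ιY : Y ⟶ CohB1.ProjSpace NY K) [IsClosedImmersion ιY] (hιY : ιY ≫ CohB1.ProjSpace.toSpec NY K = fY) (f : X ⟶ Y) (hf : f ≫ fY = fX) [Flat f] [IsIntegral (pullback fX fY)] (δW : ↥(pullback fX fY) → ℤ) (hW : Cyc.IsSetup (pullback fX fY) δW) (hδW : Cyc.DeltaCompat (pullback.fst fX fY ≫ fX) δW (fun _ => 0)) (hdW : δW (genericPoint ↥(pullback fX fY)) = (dX : ℤ) + (dY : ℤ)) (NW : ℕ) (ιW : (pullback fX fY) ⟶ CohB1.ProjSpace NW K) [IsClosedImmersion ιW] (hιW : ιW ≫ CohB1.ProjSpace.toSpec NW K = pullback.fst fX fY ≫ fX) (mul : (r s : ℤ) → ChowOps.CH (pullback fX fY) δW r → ChowOps.CH (pullback fX fY) δW s → ChowOps.CH (pullback fX fY) δW (r + s - ((dX : ℤ) + (dY : ℤ)))) (hmul : ChowOps.IsChowMul (pullback fX fY) δW ((dX : ℤ) + (dY : ℤ)) mul) (γ : AlgebraicCycle (pullback fX fY) ℤ) (hγ : ⇑γ = Set.indicator {(pullback.lift (𝟙 X) f (Eq.trans (Category.id_comp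 fX) hf.symm)) (genericPoint X)} 1) (hγk : γ ∈ Cyc.Zk (pullback fX fY) δW (dX : ℤ)) (k : ℤ) (α : AlgebraicCycle Y ℤ) (hα : α ∈ Cyc.Zk Y δY k) (αW : AlgebraicCycle (pullback fX fY) ℤ) (hαW : ⇑αW = Cyc.pullFun (pullback.snd fX fY) δW δY (dX : ℤ) ⇑α) (hαWk : αW ∈ Cyc.Zk (pullback fX fY) δW (k + dX)) (ζ : AlgebraicCycle (pullback fX fY) ℤ) (hζk : ζ ∈ Cyc.Zk (pullback fX fY) δW ((dX : ℤ) + (k + dX) - ((dX : ℤ) + (dY : ℤ)))) (hζ : ChowOps.cl ζ hζk = mul (dX : ℤ) (k + dX) (ChowOps.cl γ hγk) (ChowOps.cl αW hαWk)) (αX : AlgebraicCycle X ℤ) (hαX : ⇑αX = Cyc.pullFun f δX δY ((dX : ℤ) - (dY : ℤ)) ⇑α) : Cyc.RatEquiv δX (k + dX - dY) (AlgebraicCycle.map (pullback.fst fX fY) δW δX ζ) αX := by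
  let VX : K304.NPV K := { X := X, f := fX, δ := δX, hδ := hδX, N := NX, ι := ιX, w := hιX }
  let VY : K304.NPV K := { X := Y, f := fY, δ := δY, hδ := hδY, N := NY, ι := ιY, w := hιY }
  let VW : K304.NPV K := { X := pullback fX fY, f := pullback.fst fX fY ≫ fX, δ := δW, hδ := hδW,
                           N := NW, ι := ιW, w := hιW }
  have hnX : VX.n = dX := hdX
  have hnY : VY.n = dY := hdY
  have hnW : VW.n = (dX : ℤ) + (dY : ℤ) := hdW
  let g : VX.X ⟶ VW.X := pullback.lift (𝟙 X) f (Eq.trans (Category.id_comp fX) hf.symm)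
  let p : VW.X ⟶ VX.X := pullback.fst fX fY
  let q : VW.X ⟶ VY.X := pullback.snd fX fY
  have hgp : g ≫ p = 𝟙 VX.X := pullback.lift_fst _ _ _
  have hgq : g ≫ q = f := pullback.lift_snd _ _ _
  have hq : q ≫ VY.f = VW.f := pullback.condition.symm
  have hp : p ≫ VX.f = VW.f := rfl
  have hg : g ≫ VW.f = VX.f := by
    rw [← hp, ← Category.assoc, hgp, Category.id_comp]
  have : IsClosedImmersion g := by
    have : IsClosedImmersion (g ≫ p) := by rw [hgp]; infer_instance
    have : IsSeparated p := inferInstanceAs (IsSeparated (pullback.fst fX fY))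
    exact IsClosedImmersion.of_comp g p
  have : Flat p := inferInstanceAs (Flat (pullback.fst fX fY))
  have : Flat q := inferInstanceAs (Flat (pullback.snd fX fY))
  have hfl : Flat (g ≫ q) := by rw [hgq]; infer_instance
  have hαZ : ⇑α ∈ VY.Z k := K304.NPV.cycle_mem_Z hα
  have h1 := K304.NPV.eqv_mul_of_isChowMul (V := VW) hnW hmul hγk hαWk hζk hζ
  have h2 := K304.NPV.gp_eqv_pull g hg p hp hgp q hq hαZ
  have e1 : ⇑γ = K304.NPV.Γ g := hγ
  have e2 : ⇑αW = K304.NPV.pull q ⇑α := by
    rw [hαW]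
    unfold K304.NPV.pull
    rw [hnW, hnY, add_sub_cancel_right]
  rw [e1, e2] at h1
  have hΓ := K304.NPV.Γ_mem_Z g hg
  have hm : VW.mul dX (K304.NPV.Γ g) (K304.NPV.pull q ⇑α) ∈
      VW.Z ((dX : ℤ) + (k + dX) - ((dX : ℤ) + dY)) := by
    have := K304.NPV.mul_mem_Z hΓ (K304.NPV.pull_mem_Z q hq hαZ)
    rw [hnX, hnW, hnY] at this
    exact K304.NPV.mem_Z_cast this (by ring)
  have h3 := h1.push p hp hm
  have h4 : VX.Eqv (k + dX - dY) (K304.NPV.push p ⇑ζ) (K304.NPV.gp g p q ⇑α) := by
    unfold K304.NPV.gp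
    rw [hnX]
    exact h3.cast (by ring)
  refine K304.NPV.ratEquiv_iff (V := VX).2 (h4.trans ((h2.cast (by rw [hnX, hnY]; ring)).trans
    (K304.NPV.Eqv.of_eq ?_)))
  rw [hαX, hgq]
  unfold K304.NPV.pull
  rw [hnX, hnY]

end Groth.Agent.S12676
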