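import Groth.Statements.S12677
import Groth.Agent.IntMult.K304.NPVChow
import Groth.Agent.IntMult.K304.NPVGraph2

set_option autoImplicit false
universe u
open CategoryTheory CategoryTheory.Limits AlgebraicGeometry
attribute [local instance] HasDerivedCategory.standard
open IntMult

namespace Groth.Agent.S12677

/-- Let f : X → Y be a morphism of nonsingular projective varieties over an algebraically closed field,
with f^*β = pr_{X,*}(Γ_f · pr_Y^*β) the pullback on Chow groups defined through the graph Γ_f ⊂ X ×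
Y and the intersection product of X × Y. Then the projection formula f_*(α) · β = f_*(α · f^*β)
holds in CH_{a+b-dim Y}(Y) for α ∈ CH_a(X), β ∈ CH_b(Y). Here X, Y and X × Y are nonsingular
varieties over the algebraically closed field K (smooth, separated, quasi-compact, integral)
embedded as closed subschemes of projective spaces over K, with dimension functions the
transcendence degree (Cyc.IsSetup, Cyc.DeltaCompat to Spec K with value 0) and dimensions dX, dY, dX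
+ dY pinned at the generic points; the products on CH_*(X), CH_*(Y), CH_*(X × Y) are any mulX, mulY,
mul with ChowOps.IsChowMul; [Γ_f] is the prime cycle of the image of the generic point of X under
the graph morphism; pr_Y^* is the coefficientwise flat pullback, f_* and pr_{X,*} are proper
pushforwards of representing cycles (f is proper, carried as a hypothesis), and classes are compared
through representing cycles up to rational equivalence. (Parts (1), (2), (4) of the published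
statement are separate.) -/
theorem result (K : Type u) [Field K] [IsAlgClosed K] (X : Scheme.{u}) (fX : X ⟶ Spec (CommRingCat.of K)) [Smooth fX] [IsSeparated fX] [QuasiCompact fX] [IsIntegral X] (δX : X → ℤ) (hX : Cyc.IsSetup X δX) (hδX : Cyc.DeltaCompat fX δX (fun _ => 0)) (dX : ℕ) (hdX : δX (genericPoint X) = dX) (NX : ℕ) (ιX : X ⟶ CohB1.ProjSpace NX K) [IsClosedImmersion ιX] (hιX : ιX ≫ CohB1.ProjSpace.toSpec NX K = fX) (Y : Scheme.{u}) (fY : Y ⟶ Spec (CommRingCat.of K)) [Smooth fY] [IsSeparated fY] [QuasiCompact fY] [IsIntegral Y] (δY : Y → ℤ) (hY : Cyc.IsSetup Y δY) (hδY : Cyc.DeltaCompat fY δY (fun _ => 0)) (dY : ℕ) (hdY : δY (genericPoint Y) = dY) (NY : ℕ) (ιY : Y ⟶ CohB1.ProjSpace NY K) [IsClosedImmersion ιY] (hιY : ιY ≫ CohB1.ProjSpace.toSpec NY K = fY) (mulX : (r s : ℤ) → ChowOps.CH X δX r → ChowOps.CH X δX s → ChowOps.CH X δX (r + s - (dX : ℤ))) (hmulX : ChowOps.IsChowMul X δX (dX : ℤ) mulX) (mulY : (r s : ℤ) → ChowOps.CH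 Y δY r → ChowOps.CH Y δY s → ChowOps.CH Y δY (r + s - (dY : ℤ))) (hmulY : ChowOps.IsChowMul Y δY (dY : ℤ) mulY) (f : X ⟶ Y) (hf : f ≫ fY = fX) [IsIntegral (pullback fX fY)] (δW : ↥(pullback fX fY) → ℤ) (hW : Cyc.IsSetup (pullback fX fY) δW) (hδW : Cyc.DeltaCompat (pullback.fst fX fY ≫ fX) δW (fun _ => 0)) (hdW : δW (genericPoint ↥(pullback fX fY)) = (dX : ℤ) + (dY : ℤ)) (NW : ℕ) (ιW : (pullback fX fY) ⟶ CohB1.ProjSpace NW K) [IsClosedImmersion ιW] (hιW : ιW ≫ CohB1.ProjSpace.toSpec NW K = pullback.fst fX fY ≫ fX) (mul : (r s : ℤ) → ChowOps.CH (pullback fX fY) δW r → ChowOps.CH (pullback fX fY) δW s → ChowOps.CH (pullback fX fY) δW (r + s - ((dX : ℤ) + (dY : ℤ)))) (hmul : ChowOps.IsChowMul (pullback fX fY) δW ((dX : ℤ) + (dY : ℤ)) mul) (γ : AlgebraicCycle (pullback fX fY) ℤ) (hγ : ⇑γ = Set.indicator {(pullback.lift (𝟙 X) f (Eq.trans (Category.id_comp fX) hf.symm)) (genericPoint X)} 1) (hγk : γ ∈ Cyc.Zk (pullback fX fY) δW (dX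 : ℤ)) [IsProper f] (a b : ℤ) (α : AlgebraicCycle X ℤ) (hα : α ∈ Cyc.Zk X δX a) (β : AlgebraicCycle Y ℤ) (hβ : β ∈ Cyc.Zk Y δY b) (hfα : AlgebraicCycle.map f δX δY α ∈ Cyc.Zk Y δY a) (θ : AlgebraicCycle Y ℤ) (hθk : θ ∈ Cyc.Zk Y δY (a + b - (dY : ℤ))) (hθ : ChowOps.cl θ hθk = mulY a b (ChowOps.cl (AlgebraicCycle.map f δX δY α) hfα) (ChowOps.cl β hβ)) (βW : AlgebraicCycle (pullback fX fY) ℤ) (hβW : ⇑βW = Cyc.pullFun (pullback.snd fX fY) δW δY (dX : ℤ) ⇑β) (hβWk : βW ∈ Cyc.Zk (pullback fX fY) δW (b + dX)) (ζ : AlgebraicCycle (pullback fX fY) ℤ) (hζk : ζ ∈ Cyc.Zk (pullback fX fY) δW ((dX : ℤ) + (b + dX) - ((dX : ℤ) + (dY : ℤ)))) (hζ : ChowOps.cl ζ hζk = mul (dX : ℤ) (b + dX) (ChowOps.cl γ hγk) (ChowOps.cl βW hβWk)) (hβX : AlgebraicCycle.map (pullback.fst fX fY) δW δX ζ ∈ Cyc.Zk X δX ((dX : ℤ) + (b + dX) - ((dX : ℤ) + (dY : ℤ)))) (η : AlgebraicCycle X ℤ) (hηk : η ∈ Cyc.Zk X δX (a + ((dX : ℤ) + (b + dX) - ((dX : ℤ) + (dY : ℤ))) - (dX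 : ℤ))) (hη : ChowOps.cl η hηk = mulX a ((dX : ℤ) + (b + dX) - ((dX : ℤ) + (dY : ℤ))) (ChowOps.cl α hα) (ChowOps.cl (AlgebraicCycle.map (pullback.fst fX fY) δW δX ζ) hβX)) : Cyc.RatEquiv δY (a + b - dY) θ (AlgebraicCycle.map f δX δY η) := by
  let VX : K304.NPV K := { X := X, f := fX, δ := δX, hδ := hδX, N := NX, ι := ιX, w := hιX }
  let VY : K304.NPV K := { X := Y, f := fY, δ := δY, hδ := hδY, N := NY, ι := ιY, w := hιY }
  let VW : K304.NPV K := { X := pullback fX fY, f := pullback.fst fX fY ≫ fX, δ := δW, hδ := hδW,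
                           N := NW, ι := ιW, w := hιW }
  have hnX : VX.n = dX := hdX
  have hnY : VY.n = dY := hdY
  have hnW : VW.n = (dX : ℤ) + (dY : ℤ) := hdW
  let g : VX.X ⟶ VW.X := pullback.lift (𝟙 X) f (Eq.trans (Category.id_comp fX) hf.symm)
  let p : VW.X ⟶ VX.X := pullback.fst fX fY
  let q : VW.X ⟶ VY.X := pullback.snd fX fY
  have hgp : g ≫ p = 𝟙 VX.X := pullback.lift_fst _ _ _
  have hgq : g ≫ q = f := pullback.lift_snd _ _ _
  have hq : q ≫ VY.f = VW.f := pullback.condition.symm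
  have hp : p ≫ VX.f = VW.f := rfl
  have hg : g ≫ VW.f = VX.f := by
    rw [← hp, ← Category.assoc, hgp, Category.id_comp]
  have : IsClosedImmersion g := by
    have : IsClosedImmersion (g ≫ p) := by rw [hgp]; infer_instance
    have : IsSeparated p := inferInstanceAs (IsSeparated (pullback.fst fX fY))
    exact IsClosedImmersion.of_comp g p
  have : Flat p := inferInstanceAs (Flat (pullback.fst fX fY))
  have : Flat q := inferInstanceAs (Flat (pullback.snd fX fY))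
  have hαZ : ⇑α ∈ VX.Z a := K304.NPV.cycle_mem_Z hα
  have hβZ : ⇑β ∈ VY.Z b := K304.NPV.cycle_mem_Z hβ
  have e1 : ⇑γ = K304.NPV.Γ g := hγ
  have e2 : ⇑βW = K304.NPV.pull q ⇑β := by
    rw [hβW]
    unfold K304.NPV.pull
    rw [hnW, hnY, add_sub_cancel_right]
  have hΓ := K304.NPV.Γ_mem_Z g hg
  have hpβ := K304.NPV.pull_mem_Z q hq hβZ
  have hf' : f ≫ VY.f = VX.f := hf
  -- the three products
  have h1 := K304.NPV.eqv_mul_of_isChowMul (V := VY) hnY hmulY hfα hβ hθk hθ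
  have h2 := K304.NPV.eqv_mul_of_isChowMul (V := VW) hnW hmul hγk hβWk hζk hζ
  have h3 := K304.NPV.eqv_mul_of_isChowMul (V := VX) hnX hmulX hα hβX hηk hη
  rw [e1, e2] at h2
  have hm : VW.mul dX (K304.NPV.Γ g) (K304.NPV.pull q ⇑β) ∈
      VW.Z ((dX : ℤ) + (b + dX) - ((dX : ℤ) + dY)) := by
    have := K304.NPV.mul_mem_Z hΓ hpβ
    rw [hnX, hnW, hnY] at this
    exact K304.NPV.mem_Z_cast this (by ring)
  have h4 : VX.Eqv ((dX : ℤ) + (b + dX) - ((dX : ℤ) + dY))
      ⇑(AlgebraicCycle.map (pullback.fst fX fY) δW δX ζ) (K304.NPV.gp g p q ⇑β) := by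
    unfold K304.NPV.gp
    rw [hnX]
    exact h2.push p hp hm
  have hgpZ : K304.NPV.gp g p q ⇑β ∈ VX.Z ((dX : ℤ) + (b + dX) - ((dX : ℤ) + dY)) := by
    have := K304.NPV.gp_mem_Z g hg p q hq hβZ
    rw [hnX, hnW, hnY] at this
    exact K304.NPV.mem_Z_cast this (by ring)
  have h5 := (K304.NPV.mul_congr (K304.NPV.Eqv.refl (⇑α)) h4 hαZ hgpZ)
  rw [hnX] at h5
  have h6 := (h3.trans h5).push (W := VY) f hf' (by
    have := K304.NPV.mul_mem_Z hαZ hgpZ
    rwa [hnX] at this)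
  have h7 := K304.NPV.push_mul_gp g hg p hp hgp q hq hαZ hβZ
  rw [hgq, hnY] at h7
  have h8 : VY.Eqv (a + b - dY) ⇑θ (K304.NPV.push f (VX.mul a ⇑α (K304.NPV.gp g p q ⇑β))) :=
    h1.trans h7
  exact K304.NPV.ratEquiv_iff (V := VY).2 (h8.trans (h6.symm.cast (by ring)))

end Groth.Agent.S12677
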