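import Groth.Statements.S12678
import Groth.Agent.IntMult.K304.NPVChow
import Groth.Agent.IntMult.K304.NPVGraph2

set_option autoImplicit false
universe u
open CategoryTheory CategoryTheory.Limits AlgebraicGeometry
attribute [local instance] HasDerivedCategory.standard
open IntMult

namespace Groth.Agent.S12678

/-- Let f : X → Y be a morphism of nonsingular projective varieties over an algebraically closed field
and f^*α = pr_{X,*}(Γ_f · pr_Y^*α) the pullback on Chow groups defined through the graph Γ_f ⊂ X × Y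
and the intersection product of X × Y. Then f^*(α · β) = f^*(α) · f^*(β) for α ∈ CH_a(Y), β ∈
CH_b(Y). Here X, Y and X × Y are nonsingular varieties over the algebraically closed field K
(smooth, separated, quasi-compact, integral) embedded as closed subschemes of projective spaces over
K, with dimension functions the transcendence degree (Cyc.IsSetup, Cyc.DeltaCompat to Spec K with
value 0) and dimensions dX, dY, dX + dY pinned at the generic points; the products on CH_*(X),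
CH_*(Y), CH_*(X × Y) are any mulX, mulY, mul with ChowOps.IsChowMul; [Γ_f] is the prime cycle of the
image of the generic point of X under the graph morphism; pr_Y^* is the coefficientwise flat
pullback and pr_{X,*} the proper pushforward of representing cycles, and classes are compared
through representing cycles up to rational equivalence. (The published part (1) says f^* is a ring
map; the compatibility with the unit and additivity are not stated here; parts (2)–(4) are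
separate.) -/
theorem result (K : Type u) [Field K] [IsAlgClosed K] (X : Scheme.{u}) (fX : X ⟶ Spec (CommRingCat.of K)) [Smooth fX] [IsSeparated fX] [QuasiCompact fX] [IsIntegral X] (δX : X → ℤ) (hX : Cyc.IsSetup X δX) (hδX : Cyc.DeltaCompat fX δX (fun _ => 0)) (dX : ℕ) (hdX : δX (genericPoint X) = dX) (NX : ℕ) (ιX : X ⟶ CohB1.ProjSpace NX K) [IsClosedImmersion ιX] (hιX : ιX ≫ CohB1.ProjSpace.toSpec NX K = fX) (Y : Scheme.{u}) (fY : Y ⟶ Spec (CommRingCat.of K)) [Smooth fY] [IsSeparated fY] [QuasiCompact fY] [IsIntegral Y] (δY : Y → ℤ) (hY : Cyc.IsSetup Y δY) (hδY : Cyc.DeltaCompat fY δY (fun _ => 0)) (dY : ℕ) (hdY : δY (genericPoint Y) = dY) (NY : ℕ) (ιY : Y ⟶ CohB1.ProjSpace NY K) [IsClosedImmersion ιY] (hιY : ιY ≫ CohB1.ProjSpace.toSpec NY K = fY) (mulX : (r s : ℤ) → ChowOps.CH X δX r → ChowOps.CH X δX s → ChowOps.CH X δX (r + s - (dX : ℤ))) (hmulX : ChowOps.IsChowMul X δX (dX : ℤ) mulX) (mulY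 : (r s : ℤ) → ChowOps.CH Y δY r → ChowOps.CH Y δY s → ChowOps.CH Y δY (r + s - (dY : ℤ))) (hmulY : ChowOps.IsChowMul Y δY (dY : ℤ) mulY) (f : X ⟶ Y) (hf : f ≫ fY = fX) [IsIntegral (pullback fX fY)] (δW : ↥(pullback fX fY) → ℤ) (hW : Cyc.IsSetup (pullback fX fY) δW) (hδW : Cyc.DeltaCompat (pullback.fst fX fY ≫ fX) δW (fun _ => 0)) (hdW : δW (genericPoint ↥(pullback fX fY)) = (dX : ℤ) + (dY : ℤ)) (NW : ℕ) (ιW : (pullback fX fY) ⟶ CohB1.ProjSpace NW K) [IsClosedImmersion ιW] (hιW : ιW ≫ CohB1.ProjSpace.toSpec NW K = pullback.fst fX fY ≫ fX) (mul : (r s : ℤ) → ChowOps.CH (pullback fX fY) δW r → ChowOps.CH (pullback fX fY) δW s → ChowOps.CH (pullback fX fY) δW (r + s - ((dX : ℤ) + (dY : ℤ)))) (hmul : ChowOps.IsChowMul (pullback fX fY) δW ((dX : ℤ) + (dY : ℤ)) mul) (γ : AlgebraicCycle (pullback fX fY) ℤ) (hγ : ⇑γ = Set.indicator {(pullback.lift (𝟙 X) f (Eq.trans (Category.id_comp fX) hf.symm)) (genericPoint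 X)} 1) (hγk : γ ∈ Cyc.Zk (pullback fX fY) δW (dX : ℤ)) (a b : ℤ) (α : AlgebraicCycle Y ℤ) (hα : α ∈ Cyc.Zk Y δY a) (β : AlgebraicCycle Y ℤ) (hβ : β ∈ Cyc.Zk Y δY b) (ρ : AlgebraicCycle Y ℤ) (hρk : ρ ∈ Cyc.Zk Y δY (a + b - (dY : ℤ))) (hρ : ChowOps.cl ρ hρk = mulY a b (ChowOps.cl α hα) (ChowOps.cl β hβ)) (αW : AlgebraicCycle (pullback fX fY) ℤ) (hαW : ⇑αW = Cyc.pullFun (pullback.snd fX fY) δW δY (dX : ℤ) ⇑α) (hαWk : αW ∈ Cyc.Zk (pullback fX fY) δW (a + dX)) (ζα : AlgebraicCycle (pullback fX fY) ℤ) (hζαk : ζα ∈ Cyc.Zk (pullback fX fY) δW ((dX : ℤ) + (a + dX) - ((dX : ℤ) + (dY : ℤ)))) (hζα : ChowOps.cl ζα hζαk = mul (dX : ℤ) (a + dX) (ChowOps.cl γ hγk) (ChowOps.cl αW hαWk)) (hαX : AlgebraicCycle.map (pullback.fst fX fY) δW δX ζα ∈ Cyc.Zk X δX ((dX : ℤ) + (a + dX) - ((dX : ℤ) + (dY : ℤ)))) (βW : AlgebraicCycle (pullback fX fY) ℤ) (hβW : ⇑βW = Cyc.pullFun (pullback.snd fX fY) δW δY (dX : ℤ) ⇑β) (hβWk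 : βW ∈ Cyc.Zk (pullback fX fY) δW (b + dX)) (ζβ : AlgebraicCycle (pullback fX fY) ℤ) (hζβk : ζβ ∈ Cyc.Zk (pullback fX fY) δW ((dX : ℤ) + (b + dX) - ((dX : ℤ) + (dY : ℤ)))) (hζβ : ChowOps.cl ζβ hζβk = mul (dX : ℤ) (b + dX) (ChowOps.cl γ hγk) (ChowOps.cl βW hβWk)) (hβX : AlgebraicCycle.map (pullback.fst fX fY) δW δX ζβ ∈ Cyc.Zk X δX ((dX : ℤ) + (b + dX) - ((dX : ℤ) + (dY : ℤ)))) (ρW : AlgebraicCycle (pullback fX fY) ℤ) (hρW : ⇑ρW = Cyc.pullFun (pullback.snd fX fY) δW δY (dX : ℤ) ⇑ρ) (hρWk : ρW ∈ Cyc.Zk (pullback fX fY) δW ((a + b - (dY : ℤ)) + dX)) (ζρ : AlgebraicCycle (pullback fX fY) ℤ) (hζρk : ζρ ∈ Cyc.Zk (pullback fX fY) δW ((dX : ℤ) + ((a + b - (dY : ℤ)) + dX) - ((dX : ℤ) + (dY : ℤ)))) (hζρ : ChowOps.cl ζρ hζρk = mul (dX : ℤ) ((a + b - (dY : ℤ)) + dX) (ChowOps.cl γ hγk) (ChowOps.cl ρW hρWk)) (hρX : AlgebraicCycle.map (pullback.fst fX fY) δW δX ζρ ∈ Cyc.Zk X δX ((dX : ℤ) + ((a + b - (dY :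 ℤ)) + dX) - ((dX : ℤ) + (dY : ℤ)))) (η : AlgebraicCycle X ℤ) (hηk : η ∈ Cyc.Zk X δX (((dX : ℤ) + (a + dX) - ((dX : ℤ) + (dY : ℤ))) + ((dX : ℤ) + (b + dX) - ((dX : ℤ) + (dY : ℤ))) - (dX : ℤ))) (hη : ChowOps.cl η hηk = mulX ((dX : ℤ) + (a + dX) - ((dX : ℤ) + (dY : ℤ))) ((dX : ℤ) + (b + dX) - ((dX : ℤ) + (dY : ℤ))) (ChowOps.cl (AlgebraicCycle.map (pullback.fst fX fY) δW δX ζα) hαX) (ChowOps.cl (AlgebraicCycle.map (pullback.fst fX fY) δW δX ζβ) hβX)) : Cyc.RatEquiv δX (a + b + dX - 2 * dY) (AlgebraicCycle.map (pullback.fst fX fY) δW δX ζρ) η := by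
  let VX : K304.NPV K := { X := X, f := fX, δ := δX, hδ := hδX, N := NX, ι := ιX, w := hιX }
  let VY : K304.NPV K := { X := Y, f := fY, δ := δY, hδ := hδY, N := NY, ι := ιY, w := hιY }
  let VW : K304.NPV K := { X := pullback fX fY, f := pullback.fst fX fY ≫ fX, δ := δW, hδ := hδW,
                           N := NW, ι := ιW, w := hιW }
  have hnX : VX.n = dX := hdX
  have hnY : VY.n = dY := hdY
  have hnW : VW.n = (dX : ℤ) + (dY : ℤ) := hdW
  let g : VX.X ⟶ VW.X := pullback.lift (𝟙 X) f (Eq.trans (Category.id_comp fX) hf.symm)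
  let p : VW.X ⟶ VX.X := pullback.fst fX fY
  let q : VW.X ⟶ VY.X := pullback.snd fX fY
  have hgp : g ≫ p = 𝟙 VX.X := pullback.lift_fst _ _ _
  have hgq : g ≫ q = f := pullback.lift_snd _ _ _
  have hq : q ≫ VY.f = VW.f := pullback.condition.symm
  have hp : p ≫ VX.f = VW.f := rfl
  have hg : g ≫ VW.f = VX.f := by
    rw [← hp, ← Category.assoc, hgp, Category.id_comp]
  have : IsClosedImmersion g := by
    have : IsClosedImmersion (g ≫ p) := by rw [hgp]; infer_instance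
    have : IsSeparated p := inferInstanceAs (IsSeparated (pullback.fst fX fY))
    exact IsClosedImmersion.of_comp g p
  have : Flat p := inferInstanceAs (Flat (pullback.fst fX fY))
  have : Flat q := inferInstanceAs (Flat (pullback.snd fX fY))
  have hαZ : ⇑α ∈ VY.Z a := K304.NPV.cycle_mem_Z hα
  have hβZ : ⇑β ∈ VY.Z b := K304.NPV.cycle_mem_Z hβ
  have hρZ : ⇑ρ ∈ VY.Z (a + b - (dY : ℤ)) := K304.NPV.cycle_mem_Z hρk
  have e1 : ⇑γ = K304.NPV.Γ g := hγ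
  have hΓ := K304.NPV.Γ_mem_Z g hg
  have epull : ∀ (σ : Y → ℤ) , Cyc.pullFun (pullback.snd fX fY) δW δY (dX : ℤ) σ =
      K304.NPV.pull (V := VW) (W := VY) q σ := by
    intro σ
    unfold K304.NPV.pull
    rw [hnW, hnY, add_sub_cancel_right]
  have hm : ∀ {k : ℤ} {σ : Y → ℤ}, σ ∈ VY.Z k → VW.mul dX (K304.NPV.Γ g) (K304.NPV.pull q σ) ∈
      VW.Z ((dX : ℤ) + (k + dX) - ((dX : ℤ) + dY)) := by
    intro k σ hσ
    have := K304.NPV.mul_mem_Z hΓ (K304.NPV.pull_mem_Z q hq hσ)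
    rw [hnX, hnW, hnY] at this
    exact K304.NPV.mem_Z_cast this (by ring)
  have hgpZ : ∀ {k : ℤ} {σ : Y → ℤ}, σ ∈ VY.Z k → K304.NPV.gp g p q σ ∈
      VX.Z ((dX : ℤ) + (k + dX) - ((dX : ℤ) + dY)) := by
    intro k σ hσ
    have := K304.NPV.gp_mem_Z g hg p q hq hσ
    rw [hnX, hnW, hnY] at this
    exact K304.NPV.mem_Z_cast this (by ring)
  have key : ∀ {k : ℤ} {σ : Y → ℤ} (ζ : AlgebraicCycle (pullback fX fY) ℤ), σ ∈ VY.Z k →
      VW.Eqv ((dX : ℤ) + (k + dX) - ((dX : ℤ) + dY)) ⇑ζ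
        (VW.mul dX (K304.NPV.Γ g) (K304.NPV.pull q σ)) →
      VX.Eqv ((dX : ℤ) + (k + dX) - ((dX : ℤ) + dY))
      ⇑(AlgebraicCycle.map (pullback.fst fX fY) δW δX ζ) (K304.NPV.gp g p q σ) := by
    intro k σ ζ hσ h
    unfold K304.NPV.gp
    rw [hnX]
    exact h.push p hp (hm hσ)
  -- the products
  have h1 := K304.NPV.eqv_mul_of_isChowMul (V := VY) hnY hmulY hα hβ hρk hρ
  have h2 := K304.NPV.eqv_mul_of_isChowMul (V := VW) hnW hmul hγk hαWk hζαk hζα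
  have h3 := K304.NPV.eqv_mul_of_isChowMul (V := VW) hnW hmul hγk hβWk hζβk hζβ
  have h4 := K304.NPV.eqv_mul_of_isChowMul (V := VW) hnW hmul hγk hρWk hζρk hζρ
  have h5 := K304.NPV.eqv_mul_of_isChowMul (V := VX) hnX hmulX hαX hβX hηk hη
  rw [e1, hαW, epull] at h2
  rw [e1, hβW, epull] at h3
  rw [e1, hρW, epull] at h4
  have k2 := key ζα hαZ h2
  have k3 := key ζβ hβZ h3
  have k4 := key ζρ hρZ h4
  -- replace `ρ` by the product
  have hαβ := K304.NPV.mul_mem_Z hαZ hβZ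
  rw [hnY] at hαβ
  have h6 := (K304.NPV.mul_congr (K304.NPV.Eqv.refl (K304.NPV.Γ g)) (h1.pull q hq) hΓ
    (K304.NPV.pull_mem_Z q hq hαβ))
  rw [hnX, hnW, hnY] at h6
  have h7 := (h6.cast (show _ = (dX : ℤ) + (a + b - dY + dX) - ((dX : ℤ) + dY) by ring)).push p hp
    (hm hαβ)
  have h8 := K304.NPV.gp_mul g hg p hp hgp q hq hαZ hβZ
  have h9 := K304.NPV.mul_congr k2 k3 (hgpZ hαZ) (hgpZ hβZ)
  rw [hnX] at h9
  have h10 := h5.trans h9
  have h11 : VX.Eqv (a + b + dX - 2 * dY)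
      ⇑(AlgebraicCycle.map (pullback.fst fX fY) δW δX ζρ)
      (K304.NPV.gp g p q (VY.mul a ⇑α ⇑β)) := by
    refine (k4.cast (by ring)).trans ?_
    unfold K304.NPV.gp
    rw [hnX]
    exact h7.cast (by ring)
  rw [hnX, hnW, hnY] at h8
  refine K304.NPV.ratEquiv_iff (V := VX).2 (h11.trans ((h8.cast (by ring)).trans ?_))
  have e5 : (dX : ℤ) + (a + ((dX : ℤ) + dY - dY)) - ((dX : ℤ) + dY) =
      (dX : ℤ) + (a + dX) - ((dX : ℤ) + dY) := by ring
  rw [e5]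
  exact h10.symm.cast (by ring)

end Groth.Agent.S12678
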