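import Groth.Statements.S12693
import Groth.Agent.Variety.K428.KerSec
import Groth.Agent.Variety.K428.KerProj

set_option autoImplicit false
universe u
open CategoryTheory CategoryTheory.Limits AlgebraicGeometry TopologicalSpace Opposite
open scoped HomogeneousIdeal
noncomputable section
open Variety

namespace Groth.Agent.S12693

open Groth.Agent.Fdesc.LocGen Groth.Agent.VarietyB.ProjGlue K428.KerSec K428.KerProj K861.ProjSec in
theorem generatedBy {X Z : Scheme.{u}} (M : X.Modules) (U : X.Opens) (i : Z ⟶ X)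
    (h : ∀ x ∈ U, ∃ v : Coh.structureModule X ⟶ M, x ∈ CohB1.genLocus M v ∧
      Groth.Agent.Fdesc.LocGen.pullSec i (sec v ⊤) = 0) :
    ProjUP.GeneratedBy (M.restrict U.ι)
      (fun v : {s : ProjUP.Γm M // ProjUP.pullSec i M s = 0} => rs M U v.1) := by
  intro x
  obtain ⟨v, hxv, hv⟩ := h (U.ι x) x.2
  have hx : x ∈ CohB1.genLocus (M.restrict U.ι) (homOf (rs M U (sec v ⊤))) := by
    rw [genLocus_rs]
    exact hxv
  have h1 := isGen_sec_genLocus (homOf (rs M U (sec v ⊤)))
  rw [sec_homOf] at h1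
  have h2 := Groth.Agent.Ega1.GlobGenPt.span_germ_eq_top h1 x hx
  rw [eq_top_iff, ← h2, Submodule.span_le]
  rintro _ rfl
  rw [Groth.Agent.Ega1.GlobGenPt.germ_res]
  exact Submodule.subset_span ⟨⟨sec v ⊤, hv⟩, rfl⟩

open Groth.Agent.VarietyB.ProjGlue in
theorem exists_finite_gen {k : Type u} [Field k] {X : Scheme.{u}} (f : X ⟶ Spec (CommRingCat.of k))
    [LocallyOfFiniteType f] (V : X.Opens) (hV : IsAffineOpen V) :
    ∃ S : Set Γ(X, V), S.Finite ∧ Subring.closure (S ∪ Set.range (CoordData.baseHom f V)) = ⊤ := by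
  have h1 : (f.appLE ⊤ V le_top).hom.FiniteType :=
    LocallyOfFiniteType.finiteType_appLE f (isAffineOpen_top _) hV le_top
  algebraize [(f.appLE ⊤ V le_top).hom]
  obtain ⟨S, hS⟩ := (inferInstance : Algebra.FiniteType Γ(Spec (CommRingCat.of k), ⊤) Γ(X, V)).out
  refine ⟨S, S.finite_toSet, ?_⟩
  have h2 := Algebra.adjoin_eq_ring_closure (R := Γ(Spec (CommRingCat.of k), ⊤)) (S : Set Γ(X, V))
  rw [hS, Set.union_comm] at h2
  rw [eq_top_iff]
  refine Eq.trans_le (show (⊤ : Subring Γ(X, V)) = _ from h2) (Subring.closure_mono (Set.union_subset_union_right _ ?_))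
  rintro _ ⟨a, rfl⟩
  refine ⟨(Scheme.ΓSpecIso (CommRingCat.of k)).hom a, ?_⟩
  have h3 : (Scheme.ΓSpecIso (CommRingCat.of k)).inv ((Scheme.ΓSpecIso (CommRingCat.of k)).hom a) = a :=
    congr($((Scheme.ΓSpecIso (CommRingCat.of k)).hom_inv_id) a)
  change (X.presheaf.map (homOfLE le_top).op).hom (f.appTop.hom
    ((Scheme.ΓSpecIso (CommRingCat.of k)).inv ((Scheme.ΓSpecIso (CommRingCat.of k)).hom a))) = _
  rw [h3]
  rfl

/-- Let k be a field, X a scheme proper over k, L an ample invertible O_X-module, i : Z → X a closed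
immersion and U the open complement of its image. Then there is an integer n₀ such that for every n
≥ n₀: the subspace V_n of those global sections of L^{⊗n} whose inverse image on Z vanishes
generates the restriction of L^{⊗n} to U, and the canonical k-morphism U → P(V_n) is an immersion —
stated through a basis: for every k-linearly independent family s_0, …, s_r of V_n spanning V_n over
k (scalars acting through k → Γ(X, O_X)), every k-morphism φ from U to projective r-space over k
together with an isomorphism φ^*O(1) ≅ L^{⊗n}|_U carrying the inverse image of the coordinate T_j to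
s_j|_U for each j is an immersion. -/
theorem result {k : Type u} [Field k] {X Z : Scheme.{u}}
    (f : X ⟶ Spec (CommRingCat.of k)) [IsProper f] (L : X.Modules) (hLa : CohB1.IsAmple L)
    (i : Z ⟶ X) [IsClosedImmersion i] (U : X.Opens) (hU : (U : Set X) = (Set.range i.base)ᶜ) :
    ∃ n₀ : ℕ, ∀ n : ℕ, n₀ ≤ n →
      ProjUP.GeneratedBy ((CohB1.tensorPow L n).restrict U.ι)
        (fun v : {s : ProjUP.Γm (CohB1.tensorPow L n) // ProjUP.pullSec i (CohB1.tensorPow L n) s = 0} =>
          ((CohB1.tensorPow L n).restrictAppIso U.ι ⊤).inv (((CohB1.tensorPow L n).presheaf.map (homOfLE le_top).op) v.1)) ∧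
      ∀ (r : ℕ) (s : Fin (r + 1) → ProjUP.Γm (CohB1.tensorPow L n)),
        (∀ j, ProjUP.pullSec i (CohB1.tensorPow L n) (s j) = 0) →
        (∀ c : Fin (r + 1) → k, (∑ j, ProjUP.toGlobal f (c j) • s j) = 0 → c = 0) →
        (∀ v : ProjUP.Γm (CohB1.tensorPow L n), ProjUP.pullSec i (CohB1.tensorPow L n) v = 0 →
          ∃ c : Fin (r + 1) → k, v = ∑ j, ProjUP.toGlobal f (c j) • s j) →
        ∀ (φ : (U : Scheme.{u}) ⟶ CohB1.ProjSpace r k) (_ : φ ≫ CohB1.ProjSpace.toSpec r k = U.ι ≫ f)
          (τ : (Scheme.Modules.pullback φ).obj (Twist.twistProjSpace r k 1) ≅ (CohB1.tensorPow L n).restrict U.ι)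
          (_ : ∀ j, τ.hom.app ⊤ (ProjUP.pullSec φ (Twist.twistProjSpace r k 1) (ProjUP.coord r k j)) =
            ((CohB1.tensorPow L n).restrictAppIso U.ι ⊤).inv (((CohB1.tensorPow L n).presheaf.map (homOfLE le_top).op) (s j))),
          IsImmersion φ := by
  classical
  have hft : ∀ V : X.Opens, IsAffineOpen V → ∃ S : Set Γ(X, V), S.Finite ∧
      Subring.closure (S ∪ Set.range (Groth.Agent.VarietyB.ProjGlue.CoordData.baseHom f V)) = ⊤ :=
    fun V hV => exists_finite_gen f V hV
  choose! C hCfin hCgen using hft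
  have hqs : QuasiSeparatedSpace X := quasiSeparatedSpace_of_quasiSeparated f
  have hUc : IsCompact (U : Set X) := by
    have : IsLocallyNoetherian X := LocallyOfFiniteType.isLocallyNoetherian f
    have : CompactSpace X := hLa.2.1
    have : IsNoetherian X := {}
    exact NoetherianSpace.isCompact _
  have hcZ : CompactSpace Z := by
    have : CompactSpace X := hLa.2.1
    exact i.isClosedEmbedding.compactSpace
  have hiU : ∀ z, i z ∉ U := by
    intro z hz
    have hz' : i z ∈ (U : Set X) := hz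
    rw [hU] at hz'
    exact hz' ⟨z, rfl⟩
  obtain ⟨n₀, hn₀⟩ := K428.KerSec.exists_family i hLa U hUc hiU C hCfin
  refine ⟨n₀, fun n hn => ⟨?_, ?_⟩⟩
  · refine generatedBy _ U i fun x hx => ?_
    obtain ⟨V, hxV, -, -, v, hv, hv0, -⟩ := hn₀ n hn x hx
    exact ⟨v, hv.symm ▸ hxV, hv0⟩
  · intro r s hs hind hspan φ hφ τ hτ
    have hspan' : ∀ v : Coh.structureModule X ⟶ CohB1.tensorPow L n,
        Groth.Agent.Fdesc.LocGen.pullSec i (Groth.Agent.Fdesc.LocGen.sec v ⊤) = 0 →
        ∃ c : Fin (r + 1) → k, Groth.Agent.Fdesc.LocGen.sec v ⊤ =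
          ∑ j, (ProjUP.toGlobal f (c j) : Γ(X, ⊤)) • (show Γ(CohB1.tensorPow L n, ⊤) from s j) :=
      fun v hv => hspan _ hv
    choose! V hxV hVU hV v hv hv0 hC using hn₀ n hn
    choose! c hc using hspan'
    have hpre : ∀ x : (U : Scheme.{u}), φ ⁻¹ᵁ Proj.basicOpen (CohB1.polyGrading r k)
        (K861.ProjSec.lin (c (v x.1))).1 = U.ι ⁻¹ᵁ V x.1 := fun x => by
      have h1 := K428.KerProj.preimage_basicOpen f (CohB1.tensorPow L n) U s φ hφ τ hτ (c (v x.1)) (v x.1)
        (hc _ (hv0 _ x.2))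
      rw [hv _ x.2] at h1
      exact h1
    refine Groth.Agent.Ega2.ImmCrit.isImmersion_of_affine_family φ (ι := (U : Scheme.{u}))
      (fun x => Proj.basicOpen (CohB1.polyGrading r k) (K861.ProjSec.lin (c (v x.1))).1) (fun x => ?_) (fun x => ?_) ?_
      (fun x => ?_)
    · exact Proj.isAffineOpen_basicOpen _ _ (K861.ProjSec.lin (c (v x.1))).2 Nat.one_pos
    · rw [hpre x]
      exact (hV _ x.2).preimage_of_isOpenImmersion U.ι (by simpa using hVU _ x.2)
    · rw [eq_top_iff]
      intro x _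
      refine Opens.mem_iSup.mpr ⟨x, ?_⟩
      rw [hpre x]
      exact hxV _ x.2
    · refine K428.KerProj.app_surjective f (CohB1.tensorPow L n) U s φ hφ τ hτ (hVU _ x.2) (c (v x.1)) (v x.1)
        (hv _ x.2) (hc _ (hv0 _ x.2)) (C (V x.1)) (hCgen _ (hV _ x.2)) (fun a ha => ?_)
      obtain ⟨w, hw0, hw⟩ := hC _ x.2 a ha
      exact ⟨w, c w, hc _ hw0, hw⟩

end Groth.Agent.S12693
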