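import Groth.Statements.S12702
import Groth.Agent.VBPn.K824.Schw

set_option autoImplicit false
universe u
open CategoryTheory CategoryTheory.Limits AlgebraicGeometry
open VBPn

namespace Groth.Agent.S12702

/-- Stated over an algebraically closed field k of characteristic zero in place of the complex numbers.
Let E be a locally free O-module of rank 2 on P^2 with projective bundle of rank-one quotients (π :
P → P^2, O_P(1), q), π proper, dimension functions induced from Spec k, P^2 and P carried with the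
standing cycle set-up (locally Noetherian, universally catenary local rings, dimension functions);
let (γ_0, γ_1, γ_2) represent (c_0(E) ∩ [P^2], c_1(E) ∩ [P^2], c_2(E) ∩ [P^2]) and let c, c_2 be the
integers with γ_1 ∼_rat c · [line] and γ_2 ∼_rat c_2 · [point] (a line cut out by one nonzero linear
form, a point by two independent ones). Let k_0 be the integer with c + 2k_0 ∈ {0, −1}, so that
E(k_0) is the normalised twist. If H^0(P^2, E(k_0)) = 0 — for rank two this is stability of E — then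
c^2 − 4c_2 < 0; if H^0(P^2, E(−(c + k_0 + 1))) = 0 — semistability — then c^2 − 4c_2 ≤ 0. -/
theorem result (k : Type u) [Field k] [IsAlgClosed k] [CharZero k]
    (E : (CohB1.ProjSpace 2 k).Modules) (hE : FlatMod.IsFinLocFreeOfRank 2 E)
    (P : Scheme.{u}) (p : P ⟶ CohB1.ProjSpace 2 k) (O1 : P.Modules) (q : (Scheme.Modules.pullback p).obj E ⟶ O1)
    (hP : KRR.IsProjBundle p E O1 q) [IsProper p]
    (δ : CohB1.ProjSpace 2 k → ℤ) (hXs : Cyc.IsSetup (CohB1.ProjSpace 2 k) δ) (hδ : Cyc.DeltaCompat (CohB1.ProjSpace.toSpec 2 k) δ (fun _ => 0))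
    (δP : P → ℤ) (hPs : Cyc.IsSetup P δP) (hδP : Cyc.DeltaCompat p δP δ)
    (X2 : AlgebraicCycle (CohB1.ProjSpace 2 k) ℤ) (hX2 : ⇑X2 = Cyc.subschemeFun δ 2 (𝟙 (CohB1.ProjSpace 2 k)))
    (γ : Fin 3 → AlgebraicCycle (CohB1.ProjSpace 2 k) ℤ) (hγ : Cyc.IsChernCap p δ δP O1 2 2 X2 γ)
    (ℓ : Fin 1 → LefPen.Form 2 k 1) (hℓ : LinearIndependent k ℓ)
    (ℓ' : Fin 2 → LefPen.Form 2 k 1) (hℓ' : LinearIndependent k ℓ')
    (line pt : AlgebraicCycle (CohB1.ProjSpace 2 k) ℤ)
    (hline : ⇑line = Cyc.subschemeFun δ 1 (LefPen.ciIdeal (a := fun _ : Fin 1 => 1) ℓ).subschemeι)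
    (hpt : ⇑pt = Cyc.subschemeFun δ 0 (LefPen.ciIdeal (a := fun _ : Fin 2 => 1) ℓ').subschemeι)
    (c c2 : ℤ) (hc : Cyc.RatEquiv δ 1 (γ 1) (c • line)) (hc2 : Cyc.RatEquiv δ 0 (γ 2) (c2 • pt))
    (k0 : ℤ) (hk0 : c + 2 * k0 = 0 ∨ c + 2 * k0 = -1) :
    (Subsingleton ((CohB1.tensorMod E (Twist.twistProjSpace 2 k k0)).presheaf.obj (Opposite.op ⊤)) →
        c ^ 2 - 4 * c2 < 0) ∧
      (Subsingleton ((CohB1.tensorMod E (Twist.twistProjSpace 2 k (-(c + k0 + 1)))).presheaf.obj (Opposite.op ⊤)) →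
        c ^ 2 - 4 * c2 ≤ 0) := by
  let B : K307.Bun (CohB1.ProjSpace 2 k) δ 2 := ⟨E, P, p, O1, q, δP, hXs, hE, hP, hδP⟩
  have hB : ∀ j : Fin 3, K308.Grp.cl δ (γ j) = K307.chE hXs hE j (K308.Grp.cl δ X2) := fun j => by
    have h1 := B.cl_eq_chern B.pbf (k := 2) (α := X2) (γ := γ) hγ j
    have h2 : B.chern B.pbf j = K307.chE hXs hE j := B.ch_eq hE ⟨Iso.refl _⟩ j
    rw [h1, h2]
  have h1 : K307.chE hXs hE 1 (K308.Grp.cl δ X2) = c • K308.Grp.cl δ line := by
    have := K308.Grp.cl_eq_of_ratEquiv hc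
    rw [map_zsmul, hB 1] at this
    exact this
  have h2 : K307.chE hXs hE 2 (K308.Grp.cl δ X2) = c2 • K308.Grp.cl δ pt := by
    have := K308.Grp.cl_eq_of_ratEquiv hc2
    rw [map_zsmul, hB 2] at this
    exact this
  have key := fun t => K824.Schw.main hXs hδ hX2 hℓ hℓ' hline hpt hE h1 h2 t
  constructor
  · intro h
    have h3 := key k0 (by omega) (K824.Schw.h0_of_sec h)
    rcases hk0 with hk | hk
    · obtain rfl : c = -2 * k0 := by omega
      nlinarith
    · obtain rfl : c = -1 - 2 * k0 := by omega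
      nlinarith
  · intro h
    have h3 := key (-(c + k0 + 1)) (by omega) (K824.Schw.h0_of_sec h)
    rcases hk0 with hk | hk
    · obtain rfl : c = -2 * k0 := by omega
      nlinarith
    · obtain rfl : c = -1 - 2 * k0 := by omega
      nlinarith

end Groth.Agent.S12702
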