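import Groth.Statements.S12711
import Groth.Agent.ArtFun.K724.Basic

set_option autoImplicit false
universe u v
open CategoryTheory
open ArtFun ArtFun.Art

namespace Groth.Agent.S12711

/-- If B together with p₁ : B → A₁ and p₂ : B → A₂ is the fibre product A₁ ×_A A₂ in the category of
Artinian local Λ-algebras with residue field k, and f₂ : A₂ → A is a small extension, then the
projection p₁ : B → A₁ is a small extension. -/
theorem result {Λ : Type u} {k : Type u} [CommRing Λ] [Field k] [Algebra Λ k]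
    [IsNoetherianRing Λ] [Module.Finite Λ k]
    {B A A₁ A₂ : ArtFun.Art Λ k} {p₁ : B ⟶ A₁} {p₂ : B ⟶ A₂} {f₁ : A₁ ⟶ A} {f₂ : A₂ ⟶ A}
    (h : ArtFun.Art.IsFibreProd p₁ p₂ f₁ f₂) (hf₂ : ArtFun.Art.IsSmallExt f₂) :
    ArtFun.Art.IsSmallExt p₁ := by
  obtain ⟨hsurj, hne, hpr, hm⟩ := hf₂
  have hp₁ : Function.Surjective p₁ := K724.Basic.IsFibreProd.surjective_fst h hsurj
  obtain ⟨⟨x, hx⟩⟩ := hpr
  rw [Ideal.submodule_span_eq] at hx
  have hx0 : x ≠ 0 := by
    rintro rfl
    rw [Ideal.span_singleton_zero] at hx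
    exact hne hx
  have hxk : f₂ x = 0 := by
    have : x ∈ RingHom.ker f₂.toAlgHom := by rw [hx]; exact Ideal.mem_span_singleton_self x
    exact this
  have hmx : ∀ a : A₂, A₂.res a = 0 → ∀ y, f₂ y = 0 → a * y = 0 := by
    intro a ha y hy
    have h1 : a * y ∈ IsLocalRing.maximalIdeal A₂ * RingHom.ker f₂.toAlgHom :=
      Ideal.mul_mem_mul ((mem_maximalIdeal_iff A₂ a).2 ha) hy
    rw [hm] at h1
    exact (Ideal.mem_bot).1 h1
  obtain ⟨b, hb₁, hb₂⟩ := h.surj 0 x (by rw [hxk]; exact map_zero f₁.toAlgHom)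
  have hker : RingHom.ker p₁.toAlgHom = Ideal.span {b} := by
    apply le_antisymm
    · intro c hc
      have hc' : p₁ c = 0 := hc
      have h2 : f₂ (p₂ c) = 0 := by
        rw [← h.w_apply, hc']
        exact map_zero f₁.toAlgHom
      have h3 : p₂ c ∈ Ideal.span {x} := by rw [← hx]; exact h2
      obtain ⟨a, ha⟩ := Ideal.mem_span_singleton'.1 h3
      obtain ⟨d, hd⟩ := B.res_surjective (A₂.res a)
      have h4 : (a - p₂ d) * x = 0 := by
        apply hmx _ _ _ hxk
        rw [map_sub, Art.res_app, hd, sub_self]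
      rw [Ideal.mem_span_singleton']
      refine ⟨d, h.inj _ _ ?_ ?_⟩
      · rw [hc', map_mul, hb₁, mul_zero]
      · rw [map_mul, hb₂, ← ha]
        rw [sub_mul, sub_eq_zero] at h4
        exact h4.symm
    · rw [Ideal.span_singleton_le_iff_mem]
      exact hb₁
  refine ⟨hp₁, ?_, ⟨⟨b, by rw [Ideal.submodule_span_eq]; exact hker⟩⟩, ?_⟩
  · rw [hker]
    intro h0
    have hb0 : b = 0 := Ideal.span_singleton_eq_bot.1 h0
    apply hx0
    rw [← hb₂, hb0]
    exact map_zero p₂.toAlgHom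
  · rw [eq_bot_iff, Ideal.mul_le]
    intro r hr s hs
    have hs' : p₁ s = 0 := hs
    rw [Ideal.mem_bot]
    refine h.inj _ _ ?_ ?_
    · rw [map_mul, hs', mul_zero]
      exact (map_zero p₁.toAlgHom).symm
    · rw [map_mul]
      refine (hmx _ ?_ _ ?_).trans (map_zero p₂.toAlgHom).symm
      · rw [Art.res_app]
        exact (mem_maximalIdeal_iff B r).1 hr
      · rw [← h.w_apply, hs']
        exact map_zero f₁.toAlgHom


end Groth.Agent.S12711
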