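import Groth.Statements.S12712
import Groth.Agent.ArtFun.K724.Hensel

set_option autoImplicit false
universe u v
open CategoryTheory
open ArtFun ArtFun.Art

namespace Groth.Agent.S12712

/-- If k is separable over the image of Λ → k, then for any two morphisms f₁ : A₁ → A and f₂ : A₂ → A in
the category of Artinian local Λ-algebras with residue field k the set-theoretic fibre product A₁
×_A A₂ is again an object of the category. -/
theorem result {Λ : Type u} {k : Type u} [CommRing Λ] [Field k] [Algebra Λ k]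
    [IsNoetherianRing Λ] [Module.Finite Λ k]
    [Algebra.IsSeparable (↥(algebraMap Λ k).range) k]
    {A A₁ A₂ : ArtFun.Art Λ k} (f₁ : A₁ ⟶ A) (f₂ : A₂ ⟶ A) :
    ∃ (B : ArtFun.Art Λ k) (p₁ : B ⟶ A₁) (p₂ : B ⟶ A₂), ArtFun.Art.IsFibreProd p₁ p₂ f₁ f₂ := by
  apply K724.Basic.exists_isFibreProd_of_res
  intro c
  obtain ⟨P, h1, h2⟩ := K724.Hensel.exists_poly_of_isSeparable (Λ := Λ) c (Algebra.IsSeparable.isSeparable _ c)
  obtain ⟨a₁, ⟨ha₁, ha₁'⟩, -⟩ := K724.Hensel.existsUnique_root A₁ P c h1 h2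
  obtain ⟨a₂, ⟨ha₂, ha₂'⟩, -⟩ := K724.Hensel.existsUnique_root A₂ P c h1 h2
  refine ⟨a₁, a₂, ha₁, (K724.Hensel.existsUnique_root A P c h1 h2).unique ⟨?_, ?_⟩ ⟨?_, ?_⟩⟩
  · rw [Art.res_app, ha₁]
  · rw [Polynomial.aeval_algHom_apply, ha₁', map_zero]
  · rw [Art.res_app, ha₂]
  · rw [Polynomial.aeval_algHom_apply, ha₂', map_zero]


end Groth.Agent.S12712
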