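import Groth.Statements.S12713
import Groth.Agent.ArtFun.K724.Basic

set_option autoImplicit false
universe u v
open CategoryTheory
open ArtFun ArtFun.Art

namespace Groth.Agent.S12713

/-- A small extension f : B → A in the category of Artinian local Λ-algebras with residue field k is not
an essential surjection (some morphism g : C → B is non-surjective although the composite C → A is
surjective) if and only if f has a section A → B in the category. -/
theorem result {Λ : Type u} {k : Type u} [CommRing Λ] [Field k] [Algebra Λ k]
    [IsNoetherianRing Λ] [Module.Finite Λ k]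
    {A B : ArtFun.Art Λ k} (f : B ⟶ A) (hf : ArtFun.Art.IsSmallExt f) :
    (∃ (C : ArtFun.Art Λ k) (g : C ⟶ B), Function.Surjective (g ≫ f) ∧ ¬ Function.Surjective g) ↔
      ∃ s : A ⟶ B, s ≫ f = 𝟙 A := by
  obtain ⟨hsurj, hne, hpr, hm⟩ := hf
  obtain ⟨⟨x, hx⟩⟩ := hpr
  rw [Ideal.submodule_span_eq] at hx
  have hmx : ∀ a : B, B.res a = 0 → ∀ y, f y = 0 → a * y = 0 := by
    intro a ha y hy
    have h1 : a * y ∈ IsLocalRing.maximalIdeal B * RingHom.ker f.toAlgHom :=
      Ideal.mul_mem_mul ((mem_maximalIdeal_iff B a).2 ha) hy
    rw [hm] at h1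
    exact (Ideal.mem_bot).1 h1
  constructor
  · rintro ⟨C, g, hgf, hg⟩
    -- the image of `g` meets the kernel trivially
    have hinj : ∀ c : C, f (g c) = 0 → g c = 0 := by
      intro c hc
      by_contra hc0
      apply hg
      have hgc : g c ∈ Ideal.span {x} := by rw [← hx]; exact hc
      obtain ⟨a, ha⟩ := Ideal.mem_span_singleton'.1 hgc
      have hkx : f x = 0 := by
        have : x ∈ RingHom.ker f.toAlgHom := by rw [hx]; exact Ideal.mem_span_singleton_self x
        exact this
      have hau : B.res a ≠ 0 := by
        intro h0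
        exact hc0 (by rw [← ha]; exact hmx a h0 x hkx)
      -- the kernel is in the image
      have hker : ∀ y : B, f y = 0 → ∃ d : C, g d = y := by
        intro y hy
        have hy' : y ∈ Ideal.span {x} := by rw [← hx]; exact hy
        obtain ⟨b, hb⟩ := Ideal.mem_span_singleton'.1 hy'
        obtain ⟨d, hd⟩ := C.res_surjective (B.res b * (B.res a)⁻¹)
        refine ⟨d * c, ?_⟩
        rw [map_mul, ← ha, ← hb, ← mul_assoc]
        have h4 : (g d * a - b) * x = 0 := by
          apply hmx _ _ _ hkx
          rw [map_sub, map_mul, Art.res_app, hd, mul_assoc, inv_mul_cancel₀ hau, mul_one, sub_self]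
        rw [sub_mul, sub_eq_zero] at h4
        exact h4
      intro y
      obtain ⟨d, hd⟩ := hgf (f y)
      have hd' : f (g d) = f y := hd
      obtain ⟨e, he⟩ := hker (y - g d) (by rw [map_sub, hd', sub_self])
      exact ⟨d + e, by rw [map_add, he, add_sub_cancel]⟩
    -- the section
    have hinj' : ∀ c d : C, f (g c) = f (g d) → g c = g d := by
      intro c d h
      have := hinj (c - d) (by rw [map_sub, map_sub, h, sub_self])
      rwa [map_sub, sub_eq_zero] at this
    choose σ hσ using hgf
    have hσ' : ∀ a, f (g (σ a)) = a := hσ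
    have key : ∀ (a : A) (c : C), f (g c) = a → g (σ a) = g c := by
      intro a c h
      apply hinj'
      rw [hσ', h]
    let s : A →ₐ[Λ] B :=
      { toFun := fun a => g (σ a)
        map_one' := by rw [key 1 1 (by rw [map_one, map_one]), map_one]
        map_mul' := fun a b => by
          rw [key (a * b) (σ a * σ b) (by rw [map_mul, map_mul, hσ', hσ']), map_mul]
        map_zero' := by rw [key 0 0 (by rw [map_zero, map_zero]), map_zero]
        map_add' := fun a b => by
          rw [key (a + b) (σ a + σ b) (by rw [map_add, map_add, hσ', hσ']), map_add]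
        commutes' := fun r => by
          rw [key _ (algebraMap Λ C r) (by rw [AlgHom.commutes, AlgHom.commutes]), AlgHom.commutes] }
    refine ⟨⟨s, ?_⟩, ?_⟩
    · apply AlgHom.ext
      intro a
      change B.res (g (σ a)) = A.res a
      conv_rhs => rw [← hσ' a]
      rw [Art.res_app f]
    · apply Art.hom_ext
      apply AlgHom.ext
      intro a
      exact hσ' a
  · rintro ⟨s, hs⟩
    refine ⟨A, s, ?_, ?_⟩
    · rw [hs]
      exact Function.surjective_id
    · intro hsur
      apply hne
      rw [eq_bot_iff]
      intro y hy
      obtain ⟨a, rfl⟩ := hsur y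
      have h1 : (s ≫ f) a = 0 := hy
      rw [hs] at h1
      have h2 : a = 0 := h1
      rw [h2, map_zero]
      exact Submodule.zero_mem _


end Groth.Agent.S12713
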