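import Groth.Statements.S12714
import Groth.Agent.ArtFun.K724.Complete

set_option autoImplicit false
universe u v
open CategoryTheory
open ArtFun ArtFun.CRing

namespace Groth.Agent.S12714

/-- For a morphism f : R → S of complete local Noetherian Λ-algebras with residue field k (compatible
with the augmentations to k), the following are equivalent: (1) f is surjective; (2) m_R/m_R² →
m_S/m_S² is surjective, written as f(m_R)S + m_S² = m_S; (3) the map of cotangent spaces relative to
Λ is surjective, written as m_Λ S + f(m_R)S + m_S² = m_S with m_Λ the kernel of Λ → k. -/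
theorem result {Λ : Type u} {k : Type u} [CommRing Λ] [Field k] [Algebra Λ k]
    [IsNoetherianRing Λ] [Module.Finite Λ k]
    (R S : ArtFun.CRing Λ k) (f : R.carrier →ₐ[Λ] S.carrier) (hf : S.res.comp f = R.res) :
    List.TFAE [Function.Surjective f,
      Ideal.map f (IsLocalRing.maximalIdeal R.carrier) ⊔ IsLocalRing.maximalIdeal S.carrier ^ 2 =
        IsLocalRing.maximalIdeal S.carrier,
      Ideal.map (algebraMap Λ S.carrier) (RingHom.ker (algebraMap Λ k)) ⊔
        Ideal.map f (IsLocalRing.maximalIdeal R.carrier) ⊔ IsLocalRing.maximalIdeal S.carrier ^ 2 =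
        IsLocalRing.maximalIdeal S.carrier] := by
  have hiso : IsPrecomplete (IsLocalRing.maximalIdeal R.carrier) R.carrier := R.isAdicComplete.toIsPrecomplete
  have hle := K724.Complete.map_le_maximalIdeal R.res R.res_surjective S.res S.res_surjective f hf
  have hle2 : IsLocalRing.maximalIdeal S.carrier ^ 2 ≤ IsLocalRing.maximalIdeal S.carrier :=
    Ideal.pow_le_self two_ne_zero
  have hker := K724.Complete.map_ker_le (S := S.carrier) R.res R.res_surjective f
  tfae_have 1 → 2 := by
    intro h
    refine le_antisymm (sup_le hle hle2) ?_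
    intro s hs
    obtain ⟨r, rfl⟩ := h s
    refine Ideal.mem_sup_left (Ideal.mem_map_of_mem _ ?_)
    rw [K724.Basic.mem_maximalIdeal_iff' S.res S.res_surjective] at hs
    rw [K724.Basic.mem_maximalIdeal_iff' R.res R.res_surjective, ← hf]
    exact hs
  tfae_have 2 → 1 := by
    intro h
    exact K724.Complete.surjective_of_cotangent (f : R.carrier →+* S.carrier)
      (K724.Complete.exists_sub_mem R.res R.res_surjective S.res S.res_surjective f hf) h
  tfae_have 2 ↔ 3 := by
    rw [sup_eq_right.2 hker]
  tfae_finish


end Groth.Agent.S12714
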