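import Groth.Statements.S12716
import Groth.Agent.ArtFun.K724.Deriv

set_option autoImplicit false
universe u v
open CategoryTheory
open ArtFun

namespace Groth.Agent.S12716

/-- Let f : R → S be a morphism of complete local Noetherian Λ-algebras with residue field k (Λ
Noetherian, Λ → k finite). If the restriction map Der_Λ(S, k) → Der_Λ(R, k) is injective — two
Λ-derivations S → k that agree after composing with f are equal — then f is surjective. -/
theorem result {Λ : Type u} {k : Type u} [CommRing Λ] [Field k] [Algebra Λ k]
    [IsNoetherianRing Λ] [Module.Finite Λ k]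
    (R : ArtFun.CRing Λ k)
    (S : Type u) [CommRing S] [Algebra Λ S] [IsLocalRing S] [IsNoetherianRing S]
    [IsAdicComplete (IsLocalRing.maximalIdeal S) S] [Algebra S k] [IsScalarTower Λ S k]
    (hres : Function.Surjective (algebraMap S k))
    (f : R.carrier →ₐ[Λ] S) (hf : (IsScalarTower.toAlgHom Λ S k).comp f = R.res)
    (hinj : ∀ D₁ D₂ : Derivation Λ S k, (∀ r : R.carrier, D₁ (f r) = D₂ (f r)) → D₁ = D₂) :
    Function.Surjective f := by
  have hiso : IsPrecomplete (IsLocalRing.maximalIdeal R.carrier) R.carrier := R.isAdicComplete.toIsPrecomplete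
  exact K724.Complete.surjective_of_cotangent (f : R.carrier →+* S)
      (K724.Complete.exists_sub_mem R.res R.res_surjective (IsScalarTower.toAlgHom Λ S k) hres f hf)
      (K724.Deriv.map_sup_eq_of_derivation_injective hres R.res R.res_surjective f hf hinj)


end Groth.Agent.S12716
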