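import Groth.Statements.S12736
import Groth.Agent.ArtFun.K725.Fib

set_option autoImplicit false
universe u v
open CategoryTheory
open ArtFun

namespace Groth.Agent.S12736

/-- For functors, let φ : F → G be a morphism of functors on Artinian local Λ-algebras with residue
field k whose values at k are points and which satisfy (S2), with the natural vector space
structures on their tangent spaces. Then the differential dφ : F(k[ε]) → G(k[ε]) is k-linear. -/
theorem result {Λ : Type u} {k : Type u} [CommRing Λ] [Field k] [Algebra Λ k]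
    [IsNoetherianRing Λ] [Module.Finite Λ k]
    {F G : ArtFun.Art Λ k ⥤ Type v} [ArtFun.TangentStr F] [ArtFun.TangentStr G]
    (hF0 : ArtFun.H0 F) (hF2 : ArtFun.Heps F) (hG0 : ArtFun.H0 G) (hG2 : ArtFun.Heps G) (φ : F ⟶ G) :
    ∃ f : ArtFun.TangentSpace F →ₗ[k] ArtFun.TangentSpace G, ⇑f = ArtFun.TangentSpace.map φ := by
  refine ⟨{ toFun := TangentSpace.map φ, map_add' := fun x y => ?_, map_smul' := fun c x => ?_ }, rfl⟩
  · obtain ⟨z, hz1, hz2⟩ := ((K725.Fib.cmp_bijective_iff F Art.isFibreProd_dual2).1
      (hF2 _ _ Art.isFibreProd_dual2)).2 x y (hF0.2.elim _ _)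
    have e1 : x + y = F.map Art.plus z := by
      rw [← TangentStr.add_eq z, hz1, hz2]; rfl
    have e2 : TangentSpace.map φ x + TangentSpace.map φ y = G.map Art.plus (φ.app _ z) := by
      rw [← TangentStr.add_eq (φ.app _ z), ← K725.Fib.nat φ, ← K725.Fib.nat φ, hz1, hz2]; rfl
    rw [e2, e1]
    exact K725.Fib.nat φ _ _
  · have e1 : c • x = F.map (Art.scale c) x := TangentStr.smul_eq c x
    have e2 : c • TangentSpace.map φ x = G.map (Art.scale c) (φ.app _ x) := TangentStr.smul_eq c _
    rw [RingHom.id_apply, e2, e1]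
    exact K725.Fib.nat φ _ _

end Groth.Agent.S12736
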