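import Groth.Statements.S12740
import Groth.Agent.ArtFun.K725.Coprod

set_option autoImplicit false
universe u v
open CategoryTheory
open scoped TensorProduct
open ArtFun ArtFun.CRing

namespace Groth.Agent.S12740

/-- The category of complete local Noetherian Λ-algebras with residue field k (Λ Noetherian, Λ → k
finite; morphisms the Λ-algebra maps compatible with the augmentations) admits pushouts: for R → S₁
and R → S₂ there is an object P with morphisms from S₁ and S₂ agreeing on R, through which every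
compatible pair S₁ → T ← S₂ agreeing on R factors by a unique morphism P → T. -/
theorem result {Λ : Type u} {k : Type u} [CommRing Λ] [Field k] [Algebra Λ k]
    [IsNoetherianRing Λ] [Module.Finite Λ k]
    (R S₁ S₂ : ArtFun.CRing Λ k)
    (f₁ : R.carrier →ₐ[Λ] S₁.carrier) (hf₁ : S₁.res.comp f₁ = R.res)
    (f₂ : R.carrier →ₐ[Λ] S₂.carrier) (hf₂ : S₂.res.comp f₂ = R.res) :
    ∃ (P : ArtFun.CRing Λ k) (i₁ : S₁.carrier →ₐ[Λ] P.carrier) (i₂ : S₂.carrier →ₐ[Λ] P.carrier),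
      P.res.comp i₁ = S₁.res ∧ P.res.comp i₂ = S₂.res ∧ i₁.comp f₁ = i₂.comp f₂ ∧
      ∀ (T : ArtFun.CRing Λ k) (g₁ : S₁.carrier →ₐ[Λ] T.carrier) (g₂ : S₂.carrier →ₐ[Λ] T.carrier),
        T.res.comp g₁ = S₁.res → T.res.comp g₂ = S₂.res → g₁.comp f₁ = g₂.comp f₂ →
          ∃! h : P.carrier →ₐ[Λ] T.carrier, T.res.comp h = P.res ∧ h.comp i₁ = g₁ ∧ h.comp i₂ = g₂ := by
  have key : ∀ (T : CRing Λ k) (g₁ : S₁.carrier →ₐ[Λ] T.carrier) (g₂ : S₂.carrier →ₐ[Λ] T.carrier),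
      Ideal.span (Set.range fun r : R.carrier => (f₁ r ⊗ₜ[Λ] (1 : S₂.carrier) - (1 : S₁.carrier) ⊗ₜ[Λ] f₂ r)) ≤
        RingHom.ker (Algebra.TensorProduct.lift g₁ g₂ (fun _ _ => Commute.all _ _)) ↔ g₁.comp f₁ = g₂.comp f₂ := by
    intro T g₁ g₂
    rw [Ideal.span_le]
    constructor
    · intro h
      ext r
      have := h ⟨r, rfl⟩
      simpa [sub_eq_zero] using this
    · rintro h _ ⟨r, rfl⟩
      have := DFunLike.congr_fun h r
      simpa [sub_eq_zero] using this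
  obtain ⟨P, i₁, i₂, h₁, h₂, hJ, h⟩ := K725.Coprod.exists_universal S₁ S₂
    (Ideal.span (Set.range fun r : R.carrier => (f₁ r ⊗ₜ[Λ] (1 : S₂.carrier) - (1 : S₁.carrier) ⊗ₜ[Λ] f₂ r))) (by
      rw [Ideal.span_le]
      rintro _ ⟨r, rfl⟩
      have e₁ := DFunLike.congr_fun hf₁ r
      have e₂ := DFunLike.congr_fun hf₂ r
      simp only [AlgHom.comp_apply] at e₁ e₂
      simp [K725.Coprod.aug, e₁, e₂])
  exact ⟨P, i₁, i₂, h₁, h₂, (key P i₁ i₂).1 hJ, fun T g₁ g₂ e₁ e₂ e => h T g₁ g₂ e₁ e₂ ((key T g₁ g₂).2 e)⟩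

end Groth.Agent.S12740
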