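import Groth.Statements.S12744
import Groth.Agent.ArtFun.K725.Fib

set_option autoImplicit false
universe u v
open CategoryTheory
open ArtFun

namespace Groth.Agent.S12744

/-- For functors, if η : F → G is a smooth morphism of functors on Artinian local Λ-algebras with
residue field k and F(k) → G(k) is surjective, then for every complete local Noetherian R with
residue field k the induced map on formal elements over R (compatible systems of elements over the
truncations R/m^(n+1)) is surjective. -/
theorem result {Λ : Type u} {k : Type u} [CommRing Λ] [Field k] [Algebra Λ k]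
    [IsNoetherianRing Λ] [Module.Finite Λ k]
    {F G : ArtFun.Art Λ k ⥤ Type v} (η : F ⟶ G) (hη : ArtFun.IsSmooth η)
    (h0 : Function.Surjective (η.app (ArtFun.Art.base Λ k))) (R : ArtFun.CRing Λ k) :
    Function.Surjective (fun u : ArtFun.FormalElt F R => u.map η) := by
  intro w
  have step0 : ∃ u : F.obj (R.trunc 0), η.app _ u = w.elt 0 := by
    obtain ⟨a, ha⟩ := h0 (G.map (Art.toBase (R.trunc 0)) (w.elt 0))
    obtain ⟨u, hu⟩ := hη (Art.toBase (R.trunc 0)) (R.trunc 0).res_surjective ⟨(a, w.elt 0), ha⟩
    exact ⟨u, congrArg (fun t => t.1.2) hu⟩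
  have step : ∀ (n : ℕ) (u : F.obj (R.trunc n)), η.app _ u = w.elt n →
      ∃ u' : F.obj (R.trunc (n + 1)), F.map (R.truncMap n) u' = u ∧ η.app _ u' = w.elt (n + 1) := by
    intro n u hu
    have hsurj : Function.Surjective (R.truncMap n) := by
      intro x
      obtain ⟨a, rfl⟩ := Ideal.Quotient.mk_surjective x
      exact ⟨Ideal.Quotient.mk _ a, rfl⟩
    obtain ⟨u', hu'⟩ := hη (R.truncMap n) hsurj ⟨(u, w.elt (n + 1)), by rw [hu, w.compat]⟩
    exact ⟨u', congrArg (fun t => t.1.1) hu', congrArg (fun t => t.1.2) hu'⟩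
  let U : ∀ n : ℕ, {u : F.obj (R.trunc n) // η.app _ u = w.elt n} := fun n =>
    Nat.rec ⟨step0.choose, step0.choose_spec⟩
      (fun n u => ⟨(step n u.1 u.2).choose, (step n u.1 u.2).choose_spec.2⟩) n
  refine ⟨⟨fun n => (U n).1, fun n => (step n (U n).1 (U n).2).choose_spec.1⟩, ?_⟩
  exact FormalElt.ext' fun n => (U n).2

end Groth.Agent.S12744
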