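import Groth.Statements.S12746
import Groth.Agent.ArtFun.K725.Fib

set_option autoImplicit false
universe u v
open CategoryTheory
open ArtFun

namespace Groth.Agent.S12746

/-- For functors, if F, G, H are functors on Artinian local Λ-algebras with residue field k satisfying
(RS) and f : H → F, g : G → F are morphisms, then the fibre product functor H ×_F G satisfies (RS). -/
theorem result {Λ : Type u} {k : Type u} [CommRing Λ] [Field k] [Algebra Λ k]
    [IsNoetherianRing Λ] [Module.Finite Λ k]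
    {F G H : ArtFun.Art Λ k ⥤ Type v} (f : H ⟶ F) (g : G ⟶ F)
    (hF : (∀ ⦃B A A' A'' : ArtFun.Art Λ k⦄ (p' : B ⟶ A') (p'' : B ⟶ A'') (f' : A' ⟶ A) (f'' : A'' ⟶ A)
        (h : ArtFun.Art.IsFibreProd p' p'' f' f''), Function.Surjective f'' → Function.Bijective (ArtFun.cmp F h))) (hG : (∀ ⦃B A A' A'' : ArtFun.Art Λ k⦄ (p' : B ⟶ A') (p'' : B ⟶ A'') (f' : A' ⟶ A) (f'' : A'' ⟶ A)
        (h : ArtFun.Art.IsFibreProd p' p'' f' f''), Function.Surjective f'' → Function.Bijective (ArtFun.cmp G h))) (hH : (∀ ⦃B A A' A'' : ArtFun.Art Λ k⦄ (p' : B ⟶ A') (p'' : B ⟶ A'') (f' : A' ⟶ A) (f'' : A'' ⟶ A)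
        (h : ArtFun.Art.IsFibreProd p' p'' f' f''), Function.Surjective f'' → Function.Bijective (ArtFun.cmp H h))) :
    (∀ ⦃B A A' A'' : ArtFun.Art Λ k⦄ (p' : B ⟶ A') (p'' : B ⟶ A'') (f' : A' ⟶ A) (f'' : A'' ⟶ A)
        (h : ArtFun.Art.IsFibreProd p' p'' f' f''), Function.Surjective f'' → Function.Bijective (ArtFun.cmp (CategoryTheory.Limits.pullback f g) h)) := by
  intro B A A' A'' p' p'' f' f'' h hs
  rw [K725.Fib.cmp_bijective_iff]
  have HF := (K725.Fib.cmp_bijective_iff F h).1 (hF _ _ _ _ h hs)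
  have HG := (K725.Fib.cmp_bijective_iff G h).1 (hG _ _ _ _ h hs)
  have HH := (K725.Fib.cmp_bijective_iff H h).1 (hH _ _ _ _ h hs)
  constructor
  · intro z₁ z₂ e1 e2
    apply K725.Fib.pullback_ext
    · apply HH.1
      · rw [← K725.Fib.nat, ← K725.Fib.nat, e1]
      · rw [← K725.Fib.nat, ← K725.Fib.nat, e2]
    · apply HG.1
      · rw [← K725.Fib.nat, ← K725.Fib.nat, e1]
      · rw [← K725.Fib.nat, ← K725.Fib.nat, e2]
  · intro x y e
    obtain ⟨a, ha1, ha2⟩ := HH.2 ((Limits.pullback.fst f g).app _ x) ((Limits.pullback.fst f g).app _ y) (by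
      rw [← K725.Fib.nat, ← K725.Fib.nat, e])
    obtain ⟨b, hb1, hb2⟩ := HG.2 ((Limits.pullback.snd f g).app _ x) ((Limits.pullback.snd f g).app _ y) (by
      rw [← K725.Fib.nat, ← K725.Fib.nat, e])
    obtain ⟨z, hz1, hz2⟩ := K725.Fib.exists_pullback f g a b (by
      apply HF.1
      · rw [← K725.Fib.nat, ← K725.Fib.nat, ha1, hb1, K725.Fib.pullback_condition_apply]
      · rw [← K725.Fib.nat, ← K725.Fib.nat, ha2, hb2, K725.Fib.pullback_condition_apply])
    refine ⟨z, ?_, ?_⟩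
    · apply K725.Fib.pullback_ext
      · rw [K725.Fib.nat, hz1, ha1]
      · rw [K725.Fib.nat, hz2, hb1]
    · apply K725.Fib.pullback_ext
      · rw [K725.Fib.nat, hz1, ha2]
      · rw [K725.Fib.nat, hz2, hb2]

end Groth.Agent.S12746
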