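import Groth.Statements.S12747
import Groth.Agent.ArtFun.K725.TangentLift

set_option autoImplicit false
universe u v
open CategoryTheory
open ArtFun

namespace Groth.Agent.S12747

/-- For functors, let H₁ → G, H₂ → G and q : G → F be morphisms of functors on Artinian local Λ-algebras
with residue field k where F and G are deformation functors (value at k a point, condition (RS)) and
q is injective on tangent spaces. Then the induced morphism H₁ ×_G H₂ → H₁ ×_F H₂ is smooth. (The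
published statement also assumes that infinitesimal automorphisms of G map onto those of F; for
functors that condition is empty.) -/
theorem result {Λ : Type u} {k : Type u} [CommRing Λ] [Field k] [Algebra Λ k]
    [IsNoetherianRing Λ] [Module.Finite Λ k]
    {F G H₁ H₂ : ArtFun.Art Λ k ⥤ Type v} (p₁ : H₁ ⟶ G) (p₂ : H₂ ⟶ G) (q : G ⟶ F)
    (hF0 : ArtFun.H0 F) (hF : (∀ ⦃B A A' A'' : ArtFun.Art Λ k⦄ (p' : B ⟶ A') (p'' : B ⟶ A'') (f' : A' ⟶ A) (f'' : A'' ⟶ A)
        (h : ArtFun.Art.IsFibreProd p' p'' f' f''), Function.Surjective f'' → Function.Bijective (ArtFun.cmp F h)))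
    (hG0 : ArtFun.H0 G) (hG : (∀ ⦃B A A' A'' : ArtFun.Art Λ k⦄ (p' : B ⟶ A') (p'' : B ⟶ A'') (f' : A' ⟶ A) (f'' : A'' ⟶ A)
        (h : ArtFun.Art.IsFibreProd p' p'' f' f''), Function.Surjective f'' → Function.Bijective (ArtFun.cmp G h)))
    (hq : Function.Injective (ArtFun.TangentSpace.map q)) :
    ArtFun.IsSmooth (CategoryTheory.Limits.pullback.map p₁ p₂ (p₁ ≫ q) (p₂ ≫ q) (𝟙 H₁) (𝟙 H₂) q
      (CategoryTheory.Category.id_comp _).symm (CategoryTheory.Category.id_comp _).symm) := by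
  intro B A μ hμ
  rw [K724.Smooth.relCmp_surjective_iff]
  intro z y hzy
  have hm1 : ∀ (C : ArtFun.Art Λ k) (w : (Limits.pullback p₁ p₂).obj C),
      (Limits.pullback.fst (p₁ ≫ q) (p₂ ≫ q)).app C ((Limits.pullback.map p₁ p₂ (p₁ ≫ q) (p₂ ≫ q) (𝟙 H₁) (𝟙 H₂) q
        (Category.id_comp _).symm (Category.id_comp _).symm).app C w) = (Limits.pullback.fst p₁ p₂).app C w := by
    intro C w
    have := congrArg (fun t : Limits.pullback p₁ p₂ ⟶ H₁ => t.app C w)
      (Limits.pullback.lift_fst (f := p₁ ≫ q) (g := p₂ ≫ q) (Limits.pullback.fst p₁ p₂ ≫ 𝟙 H₁)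
        (Limits.pullback.snd p₁ p₂ ≫ 𝟙 H₂) (by simp [Limits.pullback.condition_assoc]))
    exact this
  have hm2 : ∀ (C : ArtFun.Art Λ k) (w : (Limits.pullback p₁ p₂).obj C),
      (Limits.pullback.snd (p₁ ≫ q) (p₂ ≫ q)).app C ((Limits.pullback.map p₁ p₂ (p₁ ≫ q) (p₂ ≫ q) (𝟙 H₁) (𝟙 H₂) q
        (Category.id_comp _).symm (Category.id_comp _).symm).app C w) = (Limits.pullback.snd p₁ p₂).app C w := by
    intro C w
    have := congrArg (fun t : Limits.pullback p₁ p₂ ⟶ H₂ => t.app C w)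
      (Limits.pullback.lift_snd (f := p₁ ≫ q) (g := p₂ ≫ q) (Limits.pullback.fst p₁ p₂ ≫ 𝟙 H₁)
        (Limits.pullback.snd p₁ p₂ ≫ 𝟙 H₂) (by simp [Limits.pullback.condition_assoc]))
    exact this
  set y1 := (Limits.pullback.fst (p₁ ≫ q) (p₂ ≫ q)).app B y with hy1
  set y2 := (Limits.pullback.snd (p₁ ≫ q) (p₂ ≫ q)).app B y with hy2
  have hq12 : q.app B (p₁.app B y1) = q.app B (p₂.app B y2) :=
    K725.Fib.pullback_condition_apply (p₁ ≫ q) (p₂ ≫ q) y
  have e1 : H₁.map μ y1 = (Limits.pullback.fst p₁ p₂).app A z := by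
    rw [← hm1, hzy, K725.Fib.nat]
  have e2 : H₂.map μ y2 = (Limits.pullback.snd p₁ p₂).app A z := by
    rw [← hm2, hzy, K725.Fib.nat]
  have hg : p₁.app B y1 = p₂.app B y2 := by
    refine K725.TangentLift.eq_of_tangent_injective q hG hF hq μ hμ _ _ ?_ hq12
    rw [← K725.Fib.nat p₁ μ y1, ← K725.Fib.nat p₂ μ y2, e1, e2]
    exact K725.Fib.pullback_condition_apply p₁ p₂ z
  obtain ⟨w, hw1, hw2⟩ := K725.Fib.exists_pullback p₁ p₂ y1 y2 hg
  refine ⟨w, ?_, ?_⟩
  · apply K725.Fib.pullback_ext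
    · rw [K725.Fib.nat, hw1, e1]
    · rw [K725.Fib.nat, hw2, e2]
  · apply K725.Fib.pullback_ext
    · rw [hm1, hw1]
    · rw [hm2, hw2]

end Groth.Agent.S12747
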