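import Groth.Statements.S12748
import Groth.Agent.ArtFun.K726.PowRing
import Groth.Agent.ArtFun.K725.Tangent

set_option autoImplicit false
universe u v
open CategoryTheory
open ArtFun ArtFun.CRing

namespace Groth.Agent.S12748

/-- Let R' → R be a morphism of complete local Noetherian Λ-algebras with residue field k with an
R'-algebra retraction ρ : R → R', so that R = R' ⊕ I for the ideal I = ker ρ; let x₁, …, x_r ∈ I map
to a basis of I/m_R I and let φ : R'[[X₁, …, X_r]] → R be an R'-algebra map sending X_i to x_i. If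
for all large n the induced map R'[[X]]/m^n → R/m_R^n has a left inverse — a Λ-algebra map g_n : R →
R'[[X]]/m^n with g_n ∘ φ equal to the quotient map — then φ is an isomorphism. -/
theorem result {Λ : Type u} {k : Type u} [CommRing Λ] [Field k] [Algebra Λ k]
    [IsNoetherianRing Λ] [Module.Finite Λ k]
    (R' R : ArtFun.CRing Λ k) [Algebra R'.carrier R.carrier] [IsScalarTower Λ R'.carrier R.carrier]
    (hc : R.res.comp (IsScalarTower.toAlgHom Λ R'.carrier R.carrier) = R'.res)
    (ρ : R.carrier →ₐ[R'.carrier] R'.carrier)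
    (r : ℕ) (x : Fin r → R.carrier) (hxI : ∀ i, ρ (x i) = 0)
    (hspan : Ideal.span (Set.range x) ⊔ IsLocalRing.maximalIdeal R.carrier * RingHom.ker ρ = RingHom.ker ρ)
    (hli : ∀ c : Fin r → R.carrier, (∑ i, c i * x i) ∈ IsLocalRing.maximalIdeal R.carrier * RingHom.ker ρ →
      ∀ i, c i ∈ IsLocalRing.maximalIdeal R.carrier)
    (φ : MvPowerSeries (Fin r) R'.carrier →ₐ[R'.carrier] R.carrier) (hφ : ∀ i, φ (MvPowerSeries.X i) = x i)
    (hinv : ∃ N : ℕ, ∀ n, N ≤ n →
      ∃ g : R.carrier →ₐ[Λ] (MvPowerSeries (Fin r) R'.carrier ⧸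
          IsLocalRing.maximalIdeal (MvPowerSeries (Fin r) R'.carrier) ^ n),
        ∀ s, g (φ s) = Ideal.Quotient.mk _ s) :
    Function.Bijective φ := by
  classical
  have hkm : RingHom.ker ρ ≤ IsLocalRing.maximalIdeal R.carrier := by
    intro a ha
    rw [IsLocalRing.mem_maximalIdeal, mem_nonunits_iff]
    intro hu
    have h1 : IsUnit (ρ a) := hu.map ρ
    rw [RingHom.mem_ker.1 ha] at h1
    exact not_isUnit_zero h1
  have hkr : ∀ a : R.carrier, ρ a = 0 → R.res a = 0 := fun a ha =>
    (CRing.mem_maximalIdeal_iff R a).1 (hkm ha)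
  let φΛ : (K726.PowRing.ps R' r).carrier →ₐ[Λ] R.carrier := φ.restrictScalars Λ
  have hres : R.res.comp φΛ = (K726.PowRing.ps R' r).res := by
    haveI : IsHausdorff (⊥ : Ideal k) k := inferInstance
    refine K726.PowRing.hom_ext (⊥ : Ideal k) R' r _ _ ?_ ?_ ?_
    · intro i
      rw [Submodule.mem_bot]
      change R.res (φ (MvPowerSeries.X i)) = 0
      rw [hφ]
      exact hkr _ (hxI i)
    · intro i
      change R.res (φ (MvPowerSeries.X i)) = R'.res (MvPowerSeries.constantCoeff (MvPowerSeries.X i))
      rw [hφ, hkr _ (hxI i), MvPowerSeries.constantCoeff_X, map_zero]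
    · apply AlgHom.ext
      intro c
      have h1 : (K726.PowRing.ps R' r).res (K726.PowRing.constHom R' r c) = R'.res c :=
        DFunLike.congr_fun (K726.PowRing.res_comp_constHom R' r) c
      have h2 : φ (algebraMap R'.carrier (MvPowerSeries (Fin r) R'.carrier) c) = algebraMap R'.carrier R.carrier c :=
        φ.commutes c
      change R.res (φ (algebraMap R'.carrier (MvPowerSeries (Fin r) R'.carrier) c)) = _
      rw [h2]
      exact (DFunLike.congr_fun hc c).trans h1.symm
  constructor
  · rw [injective_iff_map_eq_zero]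
    intro s hs
    obtain ⟨N, hN⟩ := hinv
    haveI := (K726.PowRing.ps R' r).isAdicComplete
    refine IsHausdorff.haus (I := IsLocalRing.maximalIdeal (K726.PowRing.ps R' r).carrier)
      (M := (K726.PowRing.ps R' r).carrier) inferInstance s fun n => ?_
    rw [SModEq.zero, smul_eq_mul, Ideal.mul_top]
    obtain ⟨g, hg⟩ := hN (max N n) (le_max_left _ _)
    have h1 := hg s
    rw [hs, map_zero] at h1
    exact Ideal.pow_le_pow_right (le_max_right N n) (Ideal.Quotient.eq_zero_iff_mem.1 h1.symm)
  · haveI := K725.Completion.isAdicComplete_ker_res (K726.PowRing.ps R' r)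
    haveI := K725.Completion.isAdicComplete_ker_res R
    have key : Function.Surjective φΛ := by
      refine K725.Tangent.surjective_of_map_sup_sq (K726.PowRing.ps R' r).res R.res φΛ hres
        (K726.PowRing.ps R' r).res_surjective (IsNoetherian.noetherian _) ?_
      intro a ha
      rw [RingHom.mem_ker] at ha
      have hb : a - algebraMap R'.carrier R.carrier (ρ a) ∈ RingHom.ker ρ := by
        rw [RingHom.mem_ker, map_sub, AlgHom.commutes]
        exact sub_self _
      have hρa : R'.res (ρ a) = 0 := by
        have h1 : R.res (algebraMap R'.carrier R.carrier (ρ a)) = R'.res (ρ a) := DFunLike.congr_fun hc (ρ a)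
        have h2 := hkr _ (RingHom.mem_ker.1 hb)
        rw [map_sub, ha, zero_sub, neg_eq_zero] at h2
        rw [← h1, h2]
      rw [← add_sub_cancel (algebraMap R'.carrier R.carrier (ρ a)) a]
      refine Ideal.add_mem _ (Submodule.mem_sup_left ?_) ?_
      · have h3 : φΛ (K726.PowRing.constHom R' r (ρ a)) = algebraMap R'.carrier R.carrier (ρ a) := φ.commutes (ρ a)
        rw [← h3]
        refine Ideal.mem_map_of_mem φΛ ?_
        rw [RingHom.mem_ker]
        exact (DFunLike.congr_fun (K726.PowRing.res_comp_constHom R' r) (ρ a)).trans hρa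
      · rw [← hspan] at hb
        refine (sup_le_sup ?_ ?_ : _ ≤ Ideal.map φΛ (RingHom.ker (K726.PowRing.ps R' r).res) ⊔ RingHom.ker R.res ^ 2) hb
        · rw [Ideal.span_le]
          rintro _ ⟨i, rfl⟩
          rw [← hφ i]
          refine Ideal.mem_map_of_mem φΛ ?_
          rw [RingHom.mem_ker]
          exact (CRing.mem_maximalIdeal_iff _ _).1 (K726.PowRing.X_mem R' r i)
        · rw [K725.Completion.ker_res_eq, pow_two]
          exact Ideal.mul_mono le_rfl hkm
    exact key

end Groth.Agent.S12748
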