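import Groth.Statements.S12749
import Groth.Agent.ArtFun.K725.MinTangent3
import Groth.Agent.ArtFun.K724.HullConds

set_option autoImplicit false
universe u v
open CategoryTheory
open ArtFun

namespace Groth.Agent.S12749

/-- For functors, suppose k admits no nonzero Λ-derivation into itself (that is, k is separable over the
image of Λ in k). Let F be a functor on Artinian local Λ-algebras with residue field k with F(k) a
point which satisfies (S2), and let ξ be a minimal versal family of F over a complete local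
Noetherian R with residue field k: ξ is versal, and every morphism of such coefficient rings R' → R
along which some formal element of F over R' pushes forward to the formal element of ξ is
surjective. Then ξ is a hull of F: it is moreover bijective on tangent spaces. (The published
statement, for arbitrary k, concludes that the tangent map of the minimal versal family is bijective
on orbits under the Λ-derivations of k; when k has no nonzero Λ-derivation into itself the orbits
are points and this is plain bijectivity, which is the case stated here.) -/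
theorem result {Λ : Type u} {k : Type u} [CommRing Λ] [Field k] [Algebra Λ k]
    [IsNoetherianRing Λ] [Module.Finite Λ k]
    (hk : Subsingleton (Derivation Λ k k))
    {F : ArtFun.Art Λ k ⥤ Type v} (h0 : ArtFun.H0 F) (h2 : ArtFun.Heps F)
    {R : ArtFun.CRing Λ k} (ξ : ArtFun.Family R.carrier R.res F) (hξ : ξ.IsMinimalVersal) :
    ArtFun.IsMiniversal ξ := by
  refine ⟨hξ.1, ?_, K724.Smooth.surjective_app_of_isVersal h0 ξ hξ.1 _⟩
  intro δ₁ δ₂ e
  have hS1 := K724.Smooth.s1_of_isVersal h0 ξ hξ.1
  have hbase : HomSet.map (Art.toBase (Art.dual Λ k)) δ₁ = HomSet.map (Art.toBase (Art.dual Λ k)) δ₂ :=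
    Subtype.ext (δ₁.2.trans δ₂.2.symm)
  let z : HomSet R.carrier R.res (Art.dual2 Λ k) := K724.Basic.IsFibreProd.lift Art.isFibreProd_dual2 δ₁ δ₂ hbase
  have hz₁ : HomSet.map Art.pr₁ z = δ₁ := K724.Basic.IsFibreProd.lift_fst Art.isFibreProd_dual2 δ₁ δ₂ hbase
  have hz₂ : HomSet.map Art.pr₂ z = δ₂ := K724.Basic.IsFibreProd.lift_snd Art.isFibreProd_dual2 δ₁ δ₂ hbase
  let minus : Art.dual2 Λ k ⟶ Art.dual Λ k :=
    ⟨Art.tszeMap (LinearMap.fst k k k - LinearMap.snd k k k), AlgHom.ext fun _ => rfl⟩
  let diag : Art.dual Λ k ⟶ Art.dual2 Λ k :=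
    ⟨Art.tszeMap (LinearMap.prod LinearMap.id LinearMap.id), AlgHom.ext fun _ => rfl⟩
  have hd₁ : diag ≫ Art.pr₁ = 𝟙 _ := Art.hom_ext (AlgHom.ext fun _ => rfl)
  have hd₂ : diag ≫ Art.pr₂ = 𝟙 _ := Art.hom_ext (AlgHom.ext fun _ => rfl)
  have hdm : diag ≫ minus = Art.toBase _ ≫ Art.baseToDual := by
    apply Art.hom_ext
    apply AlgHom.ext
    intro x
    refine TrivSqZeroExt.ext rfl ?_
    change TrivSqZeroExt.snd (x : DualNumber k) - TrivSqZeroExt.snd (x : DualNumber k) = 0
    exact sub_self _
  have hξz : ξ.app _ z = F.map diag (ξ.app _ δ₁) := by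
    apply (K724.Smooth.cmp_injective_iff F Art.isFibreProd_dual2).1 (h2 _ _ Art.isFibreProd_dual2).1
    · rw [← ξ.natural, hz₁, K724.Basic.map_comp_apply, hd₁, K724.Basic.map_id_apply]
    · rw [← ξ.natural, hz₂, K724.Basic.map_comp_apply, hd₂, K724.Basic.map_id_apply, e]
  let δ : HomSet R.carrier R.res (Art.dual Λ k) := HomSet.map minus z
  have hδ : ξ.app _ δ = F.map Art.baseToDual (F.map (Art.toBase _) (ξ.app _ δ₁)) := by
    change ξ.app _ (HomSet.map minus z) = _
    rw [ξ.natural, hξz, K724.Basic.map_comp_apply, K724.Basic.map_comp_apply, hdm]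
  have hsnd : ∀ r, (δ.1 r : DualNumber k).snd = (δ₁.1 r : DualNumber k).snd - (δ₂.1 r : DualNumber k).snd := by
    intro r
    rw [← hz₁, ← hz₂]
    rfl
  have hker : ∀ b, R.res b = 0 → (δ.1 b : DualNumber k).snd = 0 := by
    intro b hb
    by_contra hb'
    obtain ⟨S, u, g, hg, hpush, h3⟩ := K725.MinTangent.exists_restricted R δ hS1 ξ _ hδ b hb hb'
    obtain ⟨s, rfl⟩ := hξ.2 S u g hg hpush b
    exact hb' (h3 s)
  let π : HomSet R.carrier R.res (Art.base Λ k) := ⟨R.res, AlgHom.id_comp _⟩
  obtain ⟨g, hg⟩ := K725.MinTangent.exists_desc π R.res_surjective δ (by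
    intro b hb
    have hb' : R.res b = 0 := hb
    rw [RingHom.mem_ker]
    exact TrivSqZeroExt.ext ((K725.MinTangent.fst_eq R δ b).trans hb') (hker b hb'))
  have hsub : ∀ h h' : HomSet k (IsScalarTower.toAlgHom Λ k k) (Art.dual Λ k), h = h' := by
    intro h h'
    obtain ⟨D, rfl⟩ := K724.HullConds.ofDer_surjective (Λ := Λ) (k := k) (R := k) h
    obtain ⟨D', rfl⟩ := K724.HullConds.ofDer_surjective (Λ := Λ) (k := k) (R := k) h'
    rw [Subsingleton.elim D D']
  have hg' : ∀ c : k, (g.toAlgHom c : DualNumber k) = TrivSqZeroExt.inl c := by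
    have h3 := hsub ⟨g.toAlgHom, g.res_comp⟩ ⟨Art.baseToDual.toAlgHom, Art.baseToDual.res_comp⟩
    intro c
    exact DFunLike.congr_fun (congrArg Subtype.val h3) c
  apply Subtype.ext
  apply AlgHom.ext
  intro r
  refine TrivSqZeroExt.ext ((K725.MinTangent.fst_eq R δ₁ r).trans (K725.MinTangent.fst_eq R δ₂ r).symm) ?_
  rw [← sub_eq_zero, ← hsnd, ← hg]
  exact congrArg TrivSqZeroExt.snd (hg' (R.res r))

end Groth.Agent.S12749
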