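import Groth.Statements.S12750
import Groth.Agent.ArtFun.K725.Essential

set_option autoImplicit false
universe u v
open CategoryTheory
open ArtFun ArtFun.Art

namespace Groth.Agent.S12750

/-- (1) ⇔ (3): let f : B → A be a morphism in the category of Artinian local Λ-algebras with residue
field k, and let q_B : B → B', q_A : A → A' be the quotients by m_Λ B + m_B² and m_Λ A + m_A² (m_Λ
the kernel of Λ → k), realised as surjective morphisms with these kernels, with f' : B' → A' the
induced morphism. Then f is an essential surjection — surjective, and every morphism g into B whose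
composite with f is surjective is itself surjective — if and only if f' is. (The intermediate
equivalence with the map B/m_B² → A/m_A² is the special case Λ-structure trivialised and follows by
applying this one twice.) -/
theorem result {Λ : Type u} {k : Type u} [CommRing Λ] [Field k] [Algebra Λ k]
    [IsNoetherianRing Λ] [Module.Finite Λ k]
    {A B A' B' : ArtFun.Art Λ k} (f : B ⟶ A)
    (qB : B ⟶ B') (hqB : Function.Surjective qB)
    (hkB : RingHom.ker qB.toAlgHom = Ideal.map (algebraMap Λ B) (RingHom.ker (algebraMap Λ k)) ⊔ IsLocalRing.maximalIdeal B ^ 2)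
    (qA : A ⟶ A') (hqA : Function.Surjective qA)
    (hkA : RingHom.ker qA.toAlgHom = Ideal.map (algebraMap Λ A) (RingHom.ker (algebraMap Λ k)) ⊔ IsLocalRing.maximalIdeal A ^ 2)
    (f' : B' ⟶ A') (hf' : qB ≫ f' = f ≫ qA) :
    (Function.Surjective f ∧ ∀ (C : ArtFun.Art Λ k) (g : C ⟶ B), Function.Surjective (g ≫ f) → Function.Surjective g) ↔ (Function.Surjective f' ∧ ∀ (C : ArtFun.Art Λ k) (g : C ⟶ B'), Function.Surjective (g ≫ f') → Function.Surjective g) := by
  have key : ∀ {C D D' : ArtFun.Art Λ k} (q : D ⟶ D') (_ : RingHom.ker q.toAlgHom =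
      Ideal.map (algebraMap Λ D) (RingHom.ker (algebraMap Λ k)) ⊔ IsLocalRing.maximalIdeal D ^ 2) (h : C ⟶ D),
      Function.Surjective (h ≫ q) → Function.Surjective h := by
    intro C D D' q hk h hs
    refine K725.Tangent.surjective_of_map_sup_sq C.res D.res h.toAlgHom h.res_comp C.res_surjective
      (K725.Essential.ker_fg D) ?_
    rw [K725.Completion.art_ker_res_eq, K725.Completion.art_ker_res_eq]
    have hΛ' : Ideal.map (algebraMap Λ D) (RingHom.ker (algebraMap Λ k)) ≤
        Ideal.map h.toAlgHom (IsLocalRing.maximalIdeal C) := by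
      rw [Ideal.map_le_iff_le_comap]
      intro r hr
      rw [Ideal.mem_comap, ← AlgHom.commutes h.toAlgHom]
      refine Ideal.mem_map_of_mem _ ?_
      rw [Art.mem_maximalIdeal_iff, AlgHom.commutes]
      exact hr
    intro x hx
    obtain ⟨c, hc⟩ := hs (q x)
    have hcm : c ∈ IsLocalRing.maximalIdeal C := by
      rw [Art.mem_maximalIdeal_iff, ← Art.res_app (h ≫ q), hc, Art.res_app]
      rwa [Art.mem_maximalIdeal_iff] at hx
    have h1 : x - h c ∈ RingHom.ker q.toAlgHom := by
      rw [RingHom.mem_ker, map_sub, sub_eq_zero]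
      exact hc.symm
    rw [hk] at h1
    have h5 : x = (x - h c) + h c := by ring
    rw [h5]
    exact add_mem ((sup_le_sup_right hΛ' _) h1) (Ideal.mem_sup_left (Ideal.mem_map_of_mem _ hcm))
  have hfq : ∀ b, f' (qB b) = qA (f b) := fun b => by
    change (qB ≫ f') b = (f ≫ qA) b
    rw [hf']
  constructor
  · rintro ⟨hs, he⟩
    refine ⟨?_, ?_⟩
    · intro a
      obtain ⟨a, rfl⟩ := hqA a
      obtain ⟨b, rfl⟩ := hs a
      exact ⟨qB b, hfq b⟩
    · intro C g hg
      obtain ⟨D, p₁, p₂, hD⟩ := K724.Basic.exists_isFibreProd g qB hqB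
      have hp₁ : Function.Surjective p₁ := K724.Basic.IsFibreProd.surjective_fst hD hqB
      have h1 : Function.Surjective ((p₂ ≫ f) ≫ qA) := by
        rw [Category.assoc, ← hf', ← Category.assoc, ← hD.w, Category.assoc]
        exact hg.comp hp₁
      have h2 := he D p₂ (key qA hkA (p₂ ≫ f) h1)
      intro b
      obtain ⟨b, rfl⟩ := hqB b
      obtain ⟨d, rfl⟩ := h2 b
      exact ⟨p₁ d, hD.w_apply d⟩
  · rintro ⟨hs, he⟩
    refine ⟨key qA hkA f ?_, fun C g hg => key qB hkB g (he C (g ≫ qB) ?_)⟩
    · rw [← hf']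
      exact hs.comp hqB
    · rw [Category.assoc, hf', ← Category.assoc]
      exact hqA.comp hg

end Groth.Agent.S12750
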