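import Groth.Statements.S12751
import Groth.Agent.ArtFun.K725.Essential

set_option autoImplicit false
universe u v
open CategoryTheory
open scoped TensorProduct
open ArtFun ArtFun.Art

namespace Groth.Agent.S12751

/-- A morphism f : B → A in the category of Artinian local Λ-algebras with residue field k is surjective
if and only if Ω_{B/Λ} ⊗_B k → Ω_{A/Λ} ⊗_A k is surjective; by right exactness of the sequence
Ω_{B/Λ} ⊗_B A → Ω_{A/Λ} → Ω_{A/B} → 0 this surjectivity is the vanishing of Ω_{A/B} ⊗_A k, which is
how it is written here (A a B-algebra through f, k an A-module through the augmentation). -/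
theorem result {Λ : Type u} {k : Type u} [CommRing Λ] [Field k] [Algebra Λ k]
    [IsNoetherianRing Λ] [Module.Finite Λ k]
    {A B : ArtFun.Art Λ k} (f : B ⟶ A) :
    letI : Algebra B A := f.toAlgHom.toRingHom.toAlgebra
    letI : Algebra A k := A.res.toRingHom.toAlgebra
    Function.Surjective f ↔ Subsingleton (k ⊗[A] Ω[A⁄B]) := by
  letI i1 : Algebra B A := f.toAlgHom.toRingHom.toAlgebra
  letI i2 : Algebra A k := A.res.toRingHom.toAlgebra
  constructor
  · intro h
    haveI : Subsingleton Ω[A⁄B] := KaehlerDifferential.subsingleton_of_surjective B A h
    infer_instance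
  · intro h
    refine K725.Essential.surjective_of_derSub f fun D hD hDf => ?_
    letI i3 : Algebra B k := ((algebraMap A k).comp (algebraMap B A)).toAlgebra
    haveI : IsScalarTower B A k := IsScalarTower.of_algebraMap_eq fun _ => rfl
    let D' : Derivation B A k := Derivation.mk'
      { toFun := D
        map_add' := hD.1
        map_smul' := fun b x => by
          rw [Algebra.smul_def, hD.2.1]
          have : D (algebraMap B A b) = 0 := hDf b
          rw [this, mul_zero, add_zero, RingHom.id_apply, Algebra.smul_def]
          rfl }
      (fun x y => by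
        change D (x * y) = _
        rw [hD.2.1, Algebra.smul_def, Algebra.smul_def]; rfl)
    funext a
    have h1 : (D'.liftKaehlerDifferential.liftBaseChange k) (1 ⊗ₜ[A] KaehlerDifferential.D B A a) = D a := by
      rw [LinearMap.liftBaseChange_tmul, one_smul, Derivation.liftKaehlerDifferential_comp_D]
      rfl
    rw [← h1, Subsingleton.elim ((1 : k) ⊗ₜ[A] KaehlerDifferential.D B A a) 0, map_zero]
    rfl

end Groth.Agent.S12751
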