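import Groth.Statements.S12752
import Groth.Agent.ArtFun.K725.Essential
import Groth.Agent.S12751

set_option autoImplicit false
universe u v
open CategoryTheory
open scoped TensorProduct
open ArtFun ArtFun.Art

namespace Groth.Agent.S12752

/-- (a) ⇔ (c): a morphism f : B → A in the category of Artinian local Λ-algebras with residue field k is
an essential surjection (surjective, and any morphism g into B with g followed by f surjective is
surjective) if and only if the map Ω_{B/Λ} ⊗_B k → Ω_{A/Λ} ⊗_A k is an isomorphism of k-vector
spaces. These spaces are finite-dimensional, so the isomorphism condition is written as: the map is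
surjective (that is, Ω_{A/B} ⊗_A k = 0) and the two spaces have equal dimension. -/
theorem result {Λ : Type u} {k : Type u} [CommRing Λ] [Field k] [Algebra Λ k]
    [IsNoetherianRing Λ] [Module.Finite Λ k]
    {A B : ArtFun.Art Λ k} (f : B ⟶ A) :
    letI : Algebra B A := f.toAlgHom.toRingHom.toAlgebra
    letI : Algebra A k := A.res.toRingHom.toAlgebra
    letI : Algebra B k := B.res.toRingHom.toAlgebra
    (Function.Surjective f ∧ ∀ (C : ArtFun.Art Λ k) (g : C ⟶ B), Function.Surjective (g ≫ f) → Function.Surjective g) ↔
      (Subsingleton (k ⊗[A] Ω[A⁄B]) ∧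
        Module.finrank k (k ⊗[B] Ω[B⁄Λ]) = Module.finrank k (k ⊗[A] Ω[A⁄Λ])) := by
  letI i1 : Algebra B A := f.toAlgHom.toRingHom.toAlgebra
  letI i2 : Algebra A k := A.res.toRingHom.toAlgebra
  letI i3 : Algebra B k := B.res.toRingHom.toAlgebra
  haveI : IsScalarTower Λ A k := IsScalarTower.of_algebraMap_eq fun r => (A.res.commutes r).symm
  haveI : IsScalarTower Λ B k := IsScalarTower.of_algebraMap_eq fun r => (B.res.commutes r).symm
  have eA : IsScalarTower.toAlgHom Λ A k = A.res := AlgHom.ext fun _ => rfl
  have eB : IsScalarTower.toAlgHom Λ B k = B.res := AlgHom.ext fun _ => rfl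
  have h1 := Groth.Agent.S12751.result f
  have h2 : Module.finrank k (k ⊗[B] Ω[B⁄Λ]) = Module.finrank k (K725.Essential.derSub B.res) := by
    rw [K725.Essential.finrank_kaehler B B.res_surjective, eB]
  have h3 : Module.finrank k (k ⊗[A] Ω[A⁄Λ]) = Module.finrank k (K725.Essential.derSub A.res) := by
    rw [K725.Essential.finrank_kaehler A A.res_surjective, eA]
  haveI : Module.Finite k (Derivation Λ A k) := K724.Deriv.finite_derivation A A.res_surjective
  haveI : Module.Finite k (Derivation Λ B k) := K724.Deriv.finite_derivation B B.res_surjective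
  haveI hfA : Module.Finite k (K725.Essential.derSub A.res) := by
    rw [← eA]; exact Module.Finite.equiv (K725.Essential.derSubEquiv A)
  haveI hfB : Module.Finite k (K725.Essential.derSub B.res) := by
    rw [← eB]; exact Module.Finite.equiv (K725.Essential.derSubEquiv B)
  refine (K725.Essential.isEssential_iff f).trans ?_
  rw [h2, h3]
  refine ⟨fun h => ⟨h1.1 h.1, ?_⟩, fun h => ⟨h1.2 h.1, ?_⟩⟩
  · exact (LinearEquiv.ofBijective (K725.Essential.pull f) ⟨K725.Essential.pull_injective f h.1,
      (K725.Essential.pull_surjective_iff f h.1).2 h.2⟩).finrank_eq.symm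
  · have hs := h1.2 h.1
    exact (K725.Essential.pull_surjective_iff f hs).1
      ((LinearMap.injective_iff_surjective_of_finrank_eq_finrank h.2.symm).1 (K725.Essential.pull_injective f hs))

end Groth.Agent.S12752
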