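import Groth.Statements.S12753
import Groth.Agent.ArtFun.K725.Separable

set_option autoImplicit false
universe u v
open CategoryTheory
open ArtFun ArtFun.Art

namespace Groth.Agent.S12753

/-- Suppose k is separable over the image of Λ → k. A morphism f : B → A in the category of Artinian
local Λ-algebras with residue field k is an essential surjection (surjective, and any morphism g
into B with g followed by f surjective is surjective) if and only if the map of cotangent spaces
relative to Λ, m_B/(m_Λ B + m_B²) → m_A/(m_Λ A + m_A²), is an isomorphism; surjectivity and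
injectivity are written out in terms of ideals, m_Λ being the kernel of Λ → k. -/
theorem result {Λ : Type u} {k : Type u} [CommRing Λ] [Field k] [Algebra Λ k]
    [IsNoetherianRing Λ] [Module.Finite Λ k]
    [Algebra.IsSeparable (↥(algebraMap Λ k).range) k]
    {A B : ArtFun.Art Λ k} (f : B ⟶ A) :
    (Function.Surjective f ∧ ∀ (C : ArtFun.Art Λ k) (g : C ⟶ B), Function.Surjective (g ≫ f) → Function.Surjective g) ↔
      (Ideal.map (algebraMap Λ A) (RingHom.ker (algebraMap Λ k)) ⊔ Ideal.map f.toAlgHom (IsLocalRing.maximalIdeal B) ⊔ IsLocalRing.maximalIdeal A ^ 2 =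
          IsLocalRing.maximalIdeal A ∧
        ∀ b ∈ IsLocalRing.maximalIdeal B, f b ∈ Ideal.map (algebraMap Λ A) (RingHom.ker (algebraMap Λ k)) ⊔ IsLocalRing.maximalIdeal A ^ 2 →
          b ∈ Ideal.map (algebraMap Λ B) (RingHom.ker (algebraMap Λ k)) ⊔ IsLocalRing.maximalIdeal B ^ 2) := by
  have kA := K725.Completion.art_ker_res_eq A
  have kB := K725.Completion.art_ker_res_eq B
  have hΛ : ∀ {C : ArtFun.Art Λ k} (g : C ⟶ A), Ideal.map (algebraMap Λ A) (RingHom.ker (algebraMap Λ k)) ≤
      Ideal.map g.toAlgHom (IsLocalRing.maximalIdeal C) := by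
    intro C g
    rw [Ideal.map_le_iff_le_comap]
    intro r hr
    rw [Ideal.mem_comap, ← AlgHom.commutes g.toAlgHom]
    refine Ideal.mem_map_of_mem _ ?_
    rw [Art.mem_maximalIdeal_iff, AlgHom.commutes]
    exact hr
  have hsurj : ∀ {C D : ArtFun.Art Λ k} (g : C ⟶ D), IsLocalRing.maximalIdeal D ≤
      Ideal.map (algebraMap Λ D) (RingHom.ker (algebraMap Λ k)) ⊔ Ideal.map g.toAlgHom (IsLocalRing.maximalIdeal C) ⊔
        IsLocalRing.maximalIdeal D ^ 2 → Function.Surjective g := by
    intro C D g h
    have hΛ' : Ideal.map (algebraMap Λ D) (RingHom.ker (algebraMap Λ k)) ≤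
        Ideal.map g.toAlgHom (IsLocalRing.maximalIdeal C) := by
      rw [Ideal.map_le_iff_le_comap]
      intro r hr
      rw [Ideal.mem_comap, ← AlgHom.commutes g.toAlgHom]
      refine Ideal.mem_map_of_mem _ ?_
      rw [Art.mem_maximalIdeal_iff, AlgHom.commutes]
      exact hr
    refine K725.Tangent.surjective_of_map_sup_sq C.res D.res g.toAlgHom g.res_comp C.res_surjective
      (K725.Essential.ker_fg D) ?_
    rw [K725.Completion.art_ker_res_eq, K725.Completion.art_ker_res_eq]
    rwa [sup_eq_right.2 hΛ'] at h
  constructor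
  · rintro hf
    have hfs := hf.1
    refine ⟨?_, ?_⟩
    · refine le_antisymm ?_ ?_
      · refine sup_le (sup_le ?_ ?_) (Ideal.pow_le_self two_ne_zero)
        · refine (hΛ f).trans ?_
          rw [← kA, ← kB]
          exact K725.Tangent.map_ker_le B.res A.res f.toAlgHom f.res_comp
        · rw [← kA, ← kB]
          exact K725.Tangent.map_ker_le B.res A.res f.toAlgHom f.res_comp
      · intro a ha
        obtain ⟨b, rfl⟩ := hfs a
        refine Ideal.mem_sup_left (Ideal.mem_sup_right (Ideal.mem_map_of_mem f.toAlgHom ?_))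
        rw [Art.mem_maximalIdeal_iff, Art.res_app] at ha
        rwa [Art.mem_maximalIdeal_iff]
    · intro b hb hfb
      by_contra hcon
      -- move `b` into the kernel of `f`
      have hmap : Ideal.map (algebraMap Λ A) (RingHom.ker (algebraMap Λ k)) ⊔ IsLocalRing.maximalIdeal A ^ 2 ≤
          Ideal.map f.toAlgHom (Ideal.map (algebraMap Λ B) (RingHom.ker (algebraMap Λ k)) ⊔
            IsLocalRing.maximalIdeal B ^ 2) := by
        rw [Ideal.map_sup, Ideal.map_pow]
        refine sup_le_sup ?_ (Ideal.pow_right_mono ?_ 2)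
        · rw [Ideal.map_le_iff_le_comap]
          intro r hr
          rw [Ideal.mem_comap, ← AlgHom.commutes f.toAlgHom]
          exact Ideal.mem_map_of_mem _ (Ideal.mem_map_of_mem _ hr)
        · intro a ha
          obtain ⟨b, rfl⟩ := hfs a
          refine Ideal.mem_map_of_mem f.toAlgHom ?_
          rw [Art.mem_maximalIdeal_iff, Art.res_app] at ha
          rwa [Art.mem_maximalIdeal_iff]
      obtain ⟨b', hb', hbb'⟩ := (Ideal.mem_map_iff_of_surjective f.toAlgHom hfs).1 (hmap hfb)
      have hbm : b' ∈ IsLocalRing.maximalIdeal B := by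
        rw [Art.mem_maximalIdeal_iff, ← Art.res_app f]
        have : f b' = f b := hbb'
        rw [this, Art.res_app, ← Art.mem_maximalIdeal_iff]
        exact hb
      obtain ⟨D, hD, hDne⟩ := K725.Separable.exists_derSub B.res B.res_surjective (b - b')
        (by rw [kB]; exact sub_mem hb hbm) (by
          intro h
          rw [kB] at h
          exact hcon (by have := add_mem h hb'; rwa [sub_add_cancel] at this))
      refine hDne (K725.Essential.derSub_eq_zero_of_isEssential f hf D hD _ ?_)
      change f.toAlgHom (b - b') = 0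
      rw [map_sub, hbb', sub_self]
  · rintro ⟨h1, h2⟩
    have hfs : Function.Surjective f := hsurj f h1.ge
    refine ⟨hfs, fun C g hg => hsurj g ?_⟩
    intro b hb
    obtain ⟨c, hc⟩ := hg (f b)
    have hcm : c ∈ IsLocalRing.maximalIdeal C := by
      rw [Art.mem_maximalIdeal_iff, ← Art.res_app (g ≫ f), hc, Art.res_app]
      rwa [Art.mem_maximalIdeal_iff] at hb
    have h3 : f (b - g c) = 0 := by
      change f.toAlgHom (b - g c) = 0
      rw [map_sub, sub_eq_zero]
      exact hc.symm
    have hgc : g c ∈ IsLocalRing.maximalIdeal B := by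
      rw [Art.mem_maximalIdeal_iff, Art.res_app]
      rwa [Art.mem_maximalIdeal_iff] at hcm
    have h4 := h2 (b - g c) (sub_mem hb hgc) (by rw [h3]; exact zero_mem _)
    have h5 : b = (b - g c) + g c := by ring
    rw [h5]
    refine add_mem ?_ (Ideal.mem_sup_left (Ideal.mem_sup_right (Ideal.mem_map_of_mem _ hcm)))
    exact (sup_le_sup_right (le_sup_left (b := Ideal.map g.toAlgHom (IsLocalRing.maximalIdeal C))) (IsLocalRing.maximalIdeal B ^ 2)) h4

end Groth.Agent.S12753
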