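import Groth.Statements.S12754
import Mathlib.Algebra.Category.ModuleCat.Monoidal.Basic
import Mathlib.LinearAlgebra.FreeModule.Finite.Basic
import Mathlib.LinearAlgebra.TensorProduct.Basic
import Mathlib.Algebra.Category.FGModuleCat.Abelian

set_option autoImplicit false
universe u
open CategoryTheory
open ArtFun

open scoped TensorProduct
namespace Groth.Agent.S12754

/-- A K-linear functor L from finite-dimensional K-vector spaces to K-vector spaces (K a field) is
isomorphic to the functor V ↦ L(K) ⊗_K V. (Existence of an isomorphism of functors, which is how the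
published statement reads; the natural choice sends x ⊗ v to L(f_v)(x) with f_v : K → V, 1 ↦ v.) -/
theorem result (K : Type u) [Field K]
    (L : FGModuleCat.{u} K ⥤ ModuleCat.{u} K) [L.Additive] [Functor.Linear K L] :
    Nonempty (L ≅ (ModuleCat.isFG.{u} K).ι ⋙ MonoidalCategory.tensorLeft (L.obj (FGModuleCat.of K K))) := by
  classical
  -- the morphism `K → V`, `1 ↦ v`
  let f : ∀ (V : FGModuleCat.{u} K), V → (FGModuleCat.of K K ⟶ V) := fun V v =>
    (ConcreteCategory.ofHom (LinearMap.toSpanSingleton K V v) : FGModuleCat.of K K ⟶ V)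
  have hf_apply : ∀ (V : FGModuleCat.{u} K) (v : V) (c : K), (f V v).hom.hom c = c • v := fun V v c => rfl
  have hf_add : ∀ (V : FGModuleCat.{u} K) (v w : V), f V (v + w) = f V v + f V w := by
    intro V v w
    apply FGModuleCat.hom_ext
    apply LinearMap.ext
    intro c
    exact smul_add c v w
  have hf_smul : ∀ (V : FGModuleCat.{u} K) (c : K) (v : V), f V (c • v) = c • f V v := by
    intro V c v
    apply FGModuleCat.hom_ext
    apply LinearMap.ext
    intro d
    exact smul_comm d c v
  have hf_comp : ∀ {V W : FGModuleCat.{u} K} (g : V ⟶ W) (v : V), f V v ≫ g = f W (g.hom.hom v) := by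
    intro V W g v
    apply FGModuleCat.hom_ext
    apply LinearMap.ext
    intro d
    exact map_smul g.hom.hom d v
  -- the natural map
  let α : ∀ V : FGModuleCat.{u} K, (L.obj (FGModuleCat.of K K)) ⊗[K] V →ₗ[K] L.obj V := fun V =>
    TensorProduct.lift (LinearMap.flip
      { toFun := fun v => (L.map (f V v)).hom
        map_add' := fun v w => by rw [hf_add, L.map_add]; rfl
        map_smul' := fun c v => by rw [hf_smul, L.map_smul]; rfl })
  have hα : ∀ (V : FGModuleCat.{u} K) (x : L.obj (FGModuleCat.of K K)) (v : V),
      α V (x ⊗ₜ[K] v) = (L.map (f V v)).hom x := fun V x v => rfl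
  have hbij : ∀ V, Function.Bijective (α V) := by
    intro V
    let b := Module.Free.chooseBasis K V
    let π : ∀ i, V ⟶ FGModuleCat.of K K := fun i => (ConcreteCategory.ofHom (b.coord i) : V ⟶ FGModuleCat.of K K)
    have hπ : ∀ i (v : V), (π i).hom.hom v = b.repr v i := fun i v => rfl
    let β : L.obj V →ₗ[K] (L.obj (FGModuleCat.of K K)) ⊗[K] V :=
      ∑ i, ((TensorProduct.mk K (L.obj (FGModuleCat.of K K)) V).flip (b i)) ∘ₗ (L.map (π i)).hom
    have hβ : ∀ y, β y = ∑ i, ((L.map (π i)).hom y) ⊗ₜ[K] b i := by
      intro y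
      simp only [β, LinearMap.sum_apply]
      rfl
    have hid : ∑ i, π i ≫ f V (b i) = 𝟙 V := by
      apply FGModuleCat.hom_ext
      apply LinearMap.ext
      intro v
      have h1 : (∑ i, π i ≫ f V (b i)).hom.hom v = ∑ i, (b.repr v i) • b i := by
        have h2 : (∑ i, π i ≫ f V (b i)).hom.hom = ∑ i, (f V (b i)).hom.hom ∘ₗ (π i).hom.hom := by
          have h3 : (ModuleCat.isFG.{u} K).ι.map (∑ i, π i ≫ f V (b i)) =
              ∑ i, (ModuleCat.isFG.{u} K).ι.map (π i ≫ f V (b i)) := Functor.map_sum _ _ _
          have h4 := congrArg ModuleCat.Hom.hom h3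
          rw [ModuleCat.hom_sum] at h4
          exact h4
        rw [h2, LinearMap.sum_apply]
        rfl
      rw [h1, b.sum_repr]
      rfl
    refine Function.bijective_iff_has_inverse.2 ⟨β, ?_, ?_⟩
    · intro z
      induction z using TensorProduct.induction_on with
      | zero => rw [map_zero, map_zero]
      | add z w hz hw => rw [map_add, map_add, hz, hw]
      | tmul x v =>
        rw [hα, hβ]
        have h1 : ∀ i, (L.map (π i)).hom ((L.map (f V v)).hom x) = b.repr v i • x := by
          intro i
          have h2 : f V v ≫ π i = (b.repr v i) • 𝟙 (FGModuleCat.of K K) := by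
            rw [hf_comp, hπ]
            apply FGModuleCat.hom_ext
            apply LinearMap.ext
            intro c
            exact mul_comm c (b.repr v i)
          have h3 : L.map (f V v) ≫ L.map (π i) = (b.repr v i) • 𝟙 _ := by
            rw [← L.map_comp, h2, L.map_smul, L.map_id]
          have h4 := congrArg (fun g => g.hom x) h3
          exact h4
        simp only [h1, TensorProduct.smul_tmul]
        rw [← TensorProduct.tmul_sum, b.sum_repr]
    · intro y
      rw [hβ, map_sum]
      simp only [hα]
      have h1 : ∑ i, L.map (π i) ≫ L.map (f V (b i)) = 𝟙 (L.obj V) := by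
        rw [← L.map_id, ← hid, L.map_sum]
        simp only [L.map_comp]
      have h2 := congrArg (fun g => g.hom y) h1
      have h3 : (∑ i, L.map (π i) ≫ L.map (f V (b i))).hom y =
          ∑ i, (L.map (f V (b i))).hom ((L.map (π i)).hom y) := by
        rw [ModuleCat.hom_sum, LinearMap.sum_apply]
        rfl
      rw [← h3]
      exact h2
  refine ⟨(NatIso.ofComponents (fun V => (LinearEquiv.ofBijective (α V) (hbij V)).toModuleIso) ?_).symm⟩
  intro V W g
  apply ModuleCat.hom_ext
  apply TensorProduct.ext'
  intro x v
  change (L.map (f W (g.hom.hom v))).hom x = (L.map g).hom ((L.map (f V v)).hom x)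
  rw [← hf_comp, L.map_comp]
  rfl

end Groth.Agent.S12754
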