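import Groth.Statements.S12821
import Groth.Agent.AlgSt.K735.Top

set_option autoImplicit false
universe u
open CategoryTheory AlgebraicGeometry
open AlgSt

namespace Groth.Agent.S12821

/-- For an algebraic stack `𝒳` over `S`, an algebraic space `U` over `S` and a morphism `u : U ⟶ 𝒳` that
is flat and locally of finite presentation, the map `|u| : |U| → |𝒳|` is open. -/
theorem result {S : Scheme.{u}} {𝒳 : AlgSt.Cat S}
    (h𝒳 : AlgSt.IsAlgStack Scheme.fppfPrecoverage 𝒳) (U : AlgSp.Space S) (u : AlgSt.ofSp U.obj ⥤ᵇ 𝒳)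
    (hu₁ : AlgSt.RepByAlgSpWith (AlgSp.LocP @Flat) u)
    (hu₂ : AlgSt.RepByAlgSpWith (AlgSp.LocP @LocallyOfFinitePresentation) u) :
    IsOpenMap (AlgSt.Points.map u) := by
  have := K735.Top.locP_respectsIso (S := S) @LocallyOfFinitePresentation
  have h : AlgSt.RepByAlgSpWith (AlgSp.LocP (@Flat ⊓ @LocallyOfFinitePresentation)) u :=
    K735.Rep.AlgSt_RepByAlgSpWith_mono
      (fun _ _ _ hf _ _ a b c ha hb e => ⟨hf.1 a b c ha hb e, hf.2 a b c ha hb e⟩)
      (K735.Top.repByAlgSpWith_inf (Q := AlgSp.LocP @LocallyOfFinitePresentation) hu₁ hu₂)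
  exact K735.Top.isOpenMap_map K735.Top.isOpenMap_of_flat_lfp h𝒳.isStack.1 (K735.Rep.isFibGrpd_ofSp _)
    (K735.Top.chartCont_ofSp U.property) h

end Groth.Agent.S12821
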