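import Groth.Statements.S12822
import Groth.Agent.AlgSt.K735.Top

set_option autoImplicit false
universe u
open CategoryTheory AlgebraicGeometry
open AlgSt

namespace Groth.Agent.S12822

/-- For an algebraic stack `𝒳` over `S` and a morphism `x : U ⟶ 𝒳` from a scheme that is flat and
locally of finite presentation, the map `U → |𝒳|`, `t ↦ x(Spec κ(t))`, is continuous and open. -/
theorem result {S : Scheme.{u}} {𝒳 : AlgSt.Cat S}
    (h𝒳 : AlgSt.IsAlgStack Scheme.fppfPrecoverage 𝒳) (U : Over S) (x : FibCat.overCat U ⥤ᵇ 𝒳)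
    (hx₁ : AlgSt.RepByAlgSpWith (AlgSp.LocP @Flat) x)
    (hx₂ : AlgSt.RepByAlgSpWith (AlgSp.LocP @LocallyOfFinitePresentation) x) :
    Continuous (AlgSt.Points.ofChart x) ∧ IsOpenMap (AlgSt.Points.ofChart x) := by
  have := K735.Top.locP_respectsIso (S := S) @LocallyOfFinitePresentation
  have h : AlgSt.RepByAlgSpWith (AlgSp.LocP (@Flat ⊓ @LocallyOfFinitePresentation)) x :=
    K735.Rep.AlgSt_RepByAlgSpWith_mono
      (fun _ _ _ hf _ _ a b c ha hb e => ⟨hf.1 a b c ha hb e, hf.2 a b c ha hb e⟩)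
      (K735.Top.repByAlgSpWith_inf (Q := AlgSp.LocP @LocallyOfFinitePresentation) hx₁ hx₂)
  exact ⟨K735.Top.chartCont_of_isAlgStack h𝒳 U x, K735.Top.isOpenMap_ofChart x
    (K735.Top.isOpenMap_map K735.Top.isOpenMap_of_flat_lfp h𝒳.isStack.1 (K735.Fp.isFibGrpd_overCat U)
      (K735.Top.chartCont_overCat U) h)⟩

end Groth.Agent.S12822
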