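import Groth.Statements.S12823
import Groth.Agent.AlgSt.K735.Top
import Groth.Agent.S12821

set_option autoImplicit false
universe u
open CategoryTheory AlgebraicGeometry
open AlgSt

namespace Groth.Agent.S12823

/-- For an algebraic stack `𝒳` over `S` and any surjective, flat, locally finitely presented `p : U ⟶ 𝒳`
from an algebraic space, a subset of `|𝒳|` is open if and only if its preimage under `|p|` is open
in `|U|`; so the topology of `|𝒳|` does not depend on the chart used to define it. -/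
theorem result {S : Scheme.{u}} {𝒳 : AlgSt.Cat S}
    (h𝒳 : AlgSt.IsAlgStack Scheme.fppfPrecoverage 𝒳) (U : AlgSp.Space S) (p : AlgSt.ofSp U.obj ⥤ᵇ 𝒳)
    (hp₁ : AlgSt.RepByAlgSpWith (AlgSp.LocP @Flat) p)
    (hp₂ : AlgSt.RepByAlgSpWith (AlgSp.LocP @LocallyOfFinitePresentation) p)
    (hp₃ : AlgSt.RepByAlgSpWith AlgSp.IsSurjectiveMor p) (W : Set (AlgSt.Points 𝒳)) :
    IsOpen W ↔ IsOpen (AlgSt.Points.map p ⁻¹' W) := by
  have h1 : IsOpenMap (AlgSt.Points.map p) := Groth.Agent.S12821.result h𝒳 U p hp₁ hp₂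
  have h2 : Continuous (AlgSt.Points.map p) := K735.Top.continuous_map (K735.Top.chartCont_of_isAlgStack h𝒳) p
  have h3 : Function.Surjective (AlgSt.Points.map p) :=
    K735.Top.surjective_of_repByAlgSpWith h𝒳.isStack.1 (K735.Rep.isFibGrpd_ofSp _) hp₃
  exact ((h1.isQuotientMap h2 h3).isOpen_preimage).symm

end Groth.Agent.S12823
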