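import Groth.Statements.S12830
import Groth.Agent.AlgSt.K735.UnivSt
import Groth.Agent.S12763
import Groth.Agent.S12772

set_option autoImplicit false
universe u
open CategoryTheory AlgebraicGeometry
open AlgSt

namespace Groth.Agent.S12830

/-- For a morphism `f : 𝒳 ⟶ 𝒴` of algebraic stacks over `S` that is representable by algebraic spaces,
every base change of `f` to a scheme is a universal homeomorphism as a morphism of algebraic spaces
exactly when, for each morphism of algebraic stacks `𝒵 ⟶ 𝒴`, the induced map on points `|𝒵 ×_𝒴 𝒳| →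
|𝒵|` is a homeomorphism. -/
theorem result {S : Scheme.{u}} {𝒳 𝒴 : AlgSt.Cat S}
    (h𝒳 : AlgSt.IsAlgStack Scheme.fppfPrecoverage 𝒳) (h𝒴 : AlgSt.IsAlgStack Scheme.fppfPrecoverage 𝒴) (f : 𝒳 ⥤ᵇ 𝒴) (hf : AlgSt.RepByAlgSp1 f) :
    AlgSt.RepByAlgSpWith AlgSp.IsUnivHomeoMor f ↔ AlgSt.IsUnivHomeo Scheme.fppfPrecoverage f :=
  K735.UnivSt.iff_homeo
    ⟨h𝒴.isStack.1, h𝒳.isStack.1, fun _ h𝒵 g => Groth.Agent.S12763.result h𝒴.isStack h𝒴.diag h𝒵 h𝒳 g f,
      fun Z => (Groth.Agent.S12772.result (K735.Rep.isFibGrpd_ofSp Z.obj)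
        ⟨Z, BasedFunctor.id _, K735.Fib.isEquivOver_id⟩).1⟩ hf

end Groth.Agent.S12830
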