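import Groth.Statements.S12837
import Groth.Agent.NonAbH1.K551.Tors
import Groth.Agent.NonAbH1.K554.Fpqc

set_option autoImplicit false
universe u
open CategoryTheory AlgebraicGeometry
open NonAbH1

namespace Groth.Agent.S12837

/-- Let `G` be a group scheme over `S` which is flat and locally of finite presentation over `S`, acting
on an `S`-scheme `X`. If `X` is a principal homogeneous space under `G` — a pseudo-torsor which
acquires sections on the members of some fpqc covering family of `S` — then `X` is a `G`-torsor for
the fppf topology: it acquires sections on the members of some fppf covering family of `S`. (The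
published statement is the equivalence of the stack of fppf torsors with the stack of principal
homogeneous spaces for a group algebraic space `G` flat and locally of finite presentation over an
algebraic space `B`, torsors being algebraic spaces; this row is its content for `B = S`, `G` a
scheme and a torsor that is a scheme, the other inclusion being the comparison of the two
topologies.) -/
theorem result {S : Scheme.{u}}
    (G X : Over S) [GrpObj G] [Flat G.hom] [LocallyOfFinitePresentation G.hom] (a : AlgGrp.Action G X)
    (h : NonAbH1.IsTorsorFor Scheme.fpqcPrecoverage a) :
    NonAbH1.IsTorsorFor Scheme.fppfPrecoverage a := by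
  have z1 : IsZariskiLocalAtTarget (@Flat : MorphismProperty Scheme.{u}) :=
    HasRingHomProperty.instIsZariskiLocalAtTarget _
  have z2 : IsZariskiLocalAtTarget (@LocallyOfFinitePresentation : MorphismProperty Scheme.{u}) :=
    HasRingHomProperty.instIsZariskiLocalAtTarget _
  have z3 := Groth.Agent.Sga3.H804.EtFam.flat_descends.{u}
  have h1 : Flat X.hom := K554.Fpqc.prop_of_isTorsorFor @Flat h inferInstance
  have h2 : LocallyOfFinitePresentation X.hom :=
    K554.Fpqc.prop_of_isTorsorFor @LocallyOfFinitePresentation h inferInstance
  have hG : Surjective G.hom := by
    have h3 : (MonObj.one (X := G)).left ≫ G.hom = 𝟙 S := Over.w (MonObj.one (X := G))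
    have : Surjective ((MonObj.one (X := G)).left ≫ G.hom) := by
      rw [h3]
      exact ⟨fun x => ⟨x, rfl⟩⟩
    exact Surjective.of_comp (MonObj.one (X := G)).left G.hom
  have h3 : Surjective X.hom := K554.Fpqc.prop_of_isTorsorFor @Surjective h hG
  exact ⟨h.1, K551.Tors.isLocallyTrivialFor_fppf X.hom ⟨𝟙 _, Category.id_comp _⟩⟩

end Groth.Agent.S12837
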