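import Groth.Statements.S12856
import Groth.Agent.AlgSt.K737.Atlas
-- import your own Groth.Agent.* helpers here

set_option autoImplicit false
open CategoryTheory AlgebraicGeometry
universe u
open AlgSt

namespace Groth.Agent.S12856

/-- (2) ⇔ (4): an algebraic stack `𝒳` over `S` admits a surjective smooth morphism from an affine scheme
if and only if it admits a surjective smooth morphism from a quasi-compact algebraic space. -/
theorem result {S : Scheme.{u}} {𝒳 : AlgSt.Cat S}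
    (h𝒳 : AlgSt.IsAlgStack Scheme.fppfPrecoverage 𝒳) :
    AlgSt.IsQuasiCompact 𝒳 ↔
      ∃ (U : AlgSp.Space S) (x : AlgSt.ofSp U.obj ⥤ᵇ 𝒳), AlgSp.IsQuasiCompactSp U.obj ∧
        AlgSt.RepByAlgSpWith (AlgSp.LocP @Smooth) x ∧ AlgSt.RepByAlgSpWith AlgSp.IsSurjectiveMor x := by
  constructor
  · rintro ⟨U, x, hU, hx, hx'⟩
    refine ⟨(AlgSp.ofScheme S).obj U, BasedFunctor.comp (AlgSt.toOverCat U) x, ?_, ?_, ?_⟩
    · exact ⟨U, 𝟙 _, AlgSp.repWith_id _ U, AlgSp.repWith_id _ U, inferInstanceAs (CompactSpace U.left)⟩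
    · exact K735.Rep.repByAlgSpWith_of_sq _ x (BasedFunctor.comp (AlgSt.toOverCat U) x) (AlgSt.toOverCat U)
        (BasedFunctor.id _) (K735.Rep.isEquivOver_toOverCat U) K735.Fib.isEquivOver_id (Iso.refl _) hx
    · exact K735.Rep.repByAlgSpWith_of_sq _ x (BasedFunctor.comp (AlgSt.toOverCat U) x) (AlgSt.toOverCat U)
        (BasedFunctor.id _) (K735.Rep.isEquivOver_toOverCat U) K735.Fib.isEquivOver_id (Iso.refl _) hx'
  · rintro ⟨U, x, ⟨W, p, hp, hp', hW⟩, hx, hx'⟩
    rw [K737.Atlas.isQuasiCompact_iff h𝒳.isStack.1 h𝒳.atlas]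
    have h1 : Function.Surjective (AlgSt.Points.map x) :=
      K735.Top.surjective_of_repByAlgSpWith h𝒳.isStack.1 (Stk.isFibGrpd_ofPsh (P := U.obj.obj)) hx'
    have h2 : Function.Surjective (AlgSt.Points.ofChart (K735.SpFp.chart p)) :=
      (K737.Atlas.surjective_iff (Stk.isFibGrpd_ofPsh (P := U.obj.obj)) (K735.Top.repByAlgSpWith_smooth_chart hp)).1
        (K735.Top.repByAlgSpWith_surjective_chart hp')
    exact K737.Atlas.compactSpace_of_chart (K735.Top.chartCont_of_isAlgStack h𝒳)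
      (BasedFunctor.comp (K735.SpFp.chart p) x) (h1.comp h2)

end Groth.Agent.S12856
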