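import Groth.Statements.S12857
import Groth.Agent.AlgSt.K737.Atlas
-- import your own Groth.Agent.* helpers here

set_option autoImplicit false
open CategoryTheory AlgebraicGeometry
universe u
open AlgSt

namespace Groth.Agent.S12857

/-- (2) ⇔ (3): an algebraic stack `𝒳` over `S` admits a surjective smooth morphism from an affine scheme
if and only if it admits one from a quasi-compact scheme. -/
theorem result {S : Scheme.{u}} {𝒳 : AlgSt.Cat S}
    (h𝒳 : AlgSt.IsAlgStack Scheme.fppfPrecoverage 𝒳) :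
    AlgSt.IsQuasiCompact 𝒳 ↔
      ∃ (U : Over S) (x : FibCat.overCat U ⥤ᵇ 𝒳), CompactSpace ↥U.left ∧
        AlgSt.RepByAlgSpWith (AlgSp.LocP @Smooth) x ∧ AlgSt.RepByAlgSpWith AlgSp.IsSurjectiveMor x := by
  constructor
  · rintro ⟨U, x, hU, hx, hx'⟩
    exact ⟨U, x, inferInstance, hx, hx'⟩
  · rintro ⟨U, x, hU, hx, hx'⟩
    rw [K737.Atlas.isQuasiCompact_iff h𝒳.isStack.1 h𝒳.atlas]
    exact K737.Atlas.compactSpace_of_chart (K735.Top.chartCont_of_isAlgStack h𝒳) x
      ((K737.Atlas.surjective_iff h𝒳.isStack.1 hx).1 hx')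

end Groth.Agent.S12857
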