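import Groth.Statements.S12858
import Groth.Agent.AlgSt.K737.Atlas
-- import your own Groth.Agent.* helpers here

set_option autoImplicit false
open CategoryTheory AlgebraicGeometry
universe u
open AlgSt

namespace Groth.Agent.S12858

/-- (5) ⇒ (2): let `f : 𝒰 ⟶ 𝒳` be a 1-morphism of algebraic stacks over `S` inducing a surjective map on
points. If `𝒰` is quasi-compact (admits a surjective smooth morphism from an affine scheme), so is
`𝒳`. -/
theorem result {S : Scheme.{u}} {𝒰 𝒳 : AlgSt.Cat S}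
    (h𝒰 : AlgSt.IsAlgStack Scheme.fppfPrecoverage 𝒰) (h𝒳 : AlgSt.IsAlgStack Scheme.fppfPrecoverage 𝒳) (f : 𝒰 ⥤ᵇ 𝒳) (hf : AlgSt.IsSurjective f)
    (h𝒰' : AlgSt.IsQuasiCompact 𝒰) : AlgSt.IsQuasiCompact 𝒳 := by
  have hc := K735.Top.chartCont_of_isAlgStack h𝒳
  have : CompactSpace (AlgSt.Points 𝒰) := (K737.Atlas.isQuasiCompact_iff h𝒰.isStack.1 h𝒰.atlas).1 h𝒰'
  have h1 : Continuous (AlgSt.Points.map f) := K735.Top.continuous_map hc f
  rw [K737.Atlas.isQuasiCompact_iff h𝒳.isStack.1 h𝒳.atlas]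
  refine ⟨?_⟩
  rw [← hf.range_eq]
  exact isCompact_range h1

end Groth.Agent.S12858
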