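import Groth.Statements.S12859
import Groth.Agent.AlgSt.K737.OpenSt

set_option autoImplicit false
open CategoryTheory AlgebraicGeometry
universe u
open AlgSt

namespace Groth.Agent.S12859

/-- Let `𝒳` be an algebraic stack over `S`. The rule sending an open substack `𝒰 ⊂ 𝒳` (a predicate on
objects closed under isomorphisms whose full subcategory is an algebraic stack with open-immersion
inclusion) to `|𝒰| ⊂ |𝒳|` is a bijection from open substacks onto open subsets of `|𝒳|`, and `𝒰 ⊂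
𝒰'` holds exactly when `|𝒰| ⊂ |𝒰'|`. -/
theorem result {S : Scheme.{u}} {𝒳 : AlgSt.Cat S}
    (h𝒳 : AlgSt.IsAlgStack Scheme.fppfPrecoverage 𝒳) :
    Set.BijOn (fun Q : 𝒳.obj → Prop => Set.range (AlgSt.Points.map (AlgSt.subIncl 𝒳 Q)))
        {Q | AlgSt.IsOpenSubstack 𝒳 Q Scheme.fppfPrecoverage} {T | IsOpen T} ∧
      ∀ (Q Q' : 𝒳.obj → Prop), AlgSt.IsOpenSubstack 𝒳 Q Scheme.fppfPrecoverage → AlgSt.IsOpenSubstack 𝒳 Q' Scheme.fppfPrecoverage →
        ((∀ y, Q y → Q' y) ↔ Set.range (AlgSt.Points.map (AlgSt.subIncl 𝒳 Q)) ⊆ Set.range (AlgSt.Points.map (AlgSt.subIncl 𝒳 Q'))) := by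
  have hG := h𝒳.isStack.1
  refine ⟨⟨?_, ?_, ?_⟩, ?_⟩
  · intro Q hQ
    exact K737.OpenSt.isOpen_range_of_isOpenSubstack h𝒳 hQ
  · intro Q hQ Q' hQ' heq
    have heq : Set.range (AlgSt.Points.map (AlgSt.subIncl 𝒳 Q)) = Set.range (AlgSt.Points.map (AlgSt.subIncl 𝒳 Q')) := heq
    funext x
    apply propext
    rw [K737.OpenSt.iff_predOf h𝒳 hQ, K737.OpenSt.iff_predOf h𝒳 hQ', heq]
  · intro T hT
    obtain ⟨h1, h2⟩ := K737.OpenSt.isOpenSubstack_predOf h𝒳 hT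
    exact ⟨K737.Open.predOf T, h1, h2⟩
  · intro Q Q' hQ hQ'
    constructor
    · rintro h _ ⟨t, rfl⟩
      obtain ⟨p, rfl⟩ := AlgSt.Points.mk_surjective t
      obtain ⟨hQ', H'⟩ := (K737.OpenSt.isOpenSubstack_iff h𝒳 Q').1 hQ'
      exact (H'.mk_mem_range_iff K737.Open.openImm_le_mono hG hQ' (p.map (AlgSt.subIncl 𝒳 Q))).2 (h _ p.obj.property)
    · intro h y hy
      exact (K737.OpenSt.iff_predOf h𝒳 hQ' y).2
        (K737.Open.predOf_mono h ((K737.OpenSt.iff_predOf h𝒳 hQ y).1 hy))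

end Groth.Agent.S12859
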