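import Groth.Statements.S12860
import Groth.Agent.AlgSt.K737.Image
-- import your own Groth.Agent.* helpers here

set_option autoImplicit false
open CategoryTheory AlgebraicGeometry
universe u
open AlgSt

namespace Groth.Agent.S12860

/-- Let `𝒳` be an algebraic stack over `S`, `U` an algebraic space with a surjective smooth `u : U ⟶ 𝒳`,
and `j : V ⟶ U` an open immersion of algebraic spaces. Then there are an algebraic stack `𝒴`, an
open immersion `i : 𝒴 ⟶ 𝒳` and a surjective smooth `g : V ⟶ 𝒴` such that `i ∘ g` is 2-isomorphic to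
`u ∘ j` (the compatibility is part of the published proof, which constructs `𝒴` as the image of
`V`). -/
theorem result {S : Scheme.{u}} {𝒳 : AlgSt.Cat S}
    (h𝒳 : AlgSt.IsAlgStack Scheme.fppfPrecoverage 𝒳) (U : AlgSp.Space S) (u : AlgSt.ofSp U.obj ⥤ᵇ 𝒳)
    (hu₁ : AlgSt.RepByAlgSpWith (AlgSp.LocP @Smooth) u) (hu₂ : AlgSt.RepByAlgSpWith AlgSp.IsSurjectiveMor u)
    (V : AlgSp.Space S) (j : V ⟶ U) (hj : AlgSp.RepWith @IsOpenImmersion j.hom) :
    ∃ (𝒴 : AlgSt.Cat S) (i : 𝒴 ⥤ᵇ 𝒳) (g : AlgSt.ofSp V.obj ⥤ᵇ 𝒴),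
      AlgSt.IsAlgStack Scheme.fppfPrecoverage 𝒴 ∧ AlgSt.IsOpenImm i ∧
        AlgSt.RepByAlgSpWith (AlgSp.LocP @Smooth) g ∧ AlgSt.RepByAlgSpWith AlgSp.IsSurjectiveMor g ∧
          Nonempty (BasedFunctor.comp g i ≅ BasedFunctor.comp (AlgSt.ofSpMap j.hom) u) := by
  have hG := h𝒳.isStack.1
  have hGV : FibCat.IsFibGrpd (AlgSt.ofSp V.obj).p := Stk.isFibGrpd_ofPsh _
  have hGU : FibCat.IsFibGrpd (AlgSt.ofSp U.obj).p := Stk.isFibGrpd_ofPsh _
  have : (AlgSp.LocP (S := S) @Smooth).RespectsIso := K735.Top.locP_respectsIso _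
  -- the composite is smooth
  have hj' : AlgSt.RepByAlgSpWith (AlgSp.LocP @Smooth) (AlgSt.ofSpMap j.hom) :=
    K735.Top.repByAlgSpWith_ofSpMap_of_repWith (P := @IsOpenImmersion)
      (fun _ _ f hf => K597.locP_of_repWith (P := @Smooth) K597.etLoc_smooth.precomp
        (K597.repWith_mono (P := @IsOpenImmersion) (Q := @Smooth) (fun _ _ f (hf : IsOpenImmersion f) =>
          (inferInstance : Smooth f)) hf)) hj
  let w := BasedFunctor.comp (AlgSt.ofSpMap j.hom) u
  have hw : AlgSt.RepByAlgSpWith (AlgSp.LocP @Smooth) w := K737.Atlas.smooth_comp hGV hGU hj' hu₁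
  have hop : IsOpenMap (AlgSt.Points.map w) := K735.Top.isOpenMap_map K735.Top.isOpenMap_of_smooth hG hGV
    (K735.Top.chartCont_ofSp V.property) hw
  let T := Set.range (AlgSt.Points.map w)
  have hT : IsOpen T := hop.isOpen_range
  have hlift : ∀ a, K737.Open.predOf T (w.obj a) := K737.Image.exists_corestriction hG hGV w subset_rfl
  obtain ⟨⟨-, h1, h2⟩, -⟩ := K737.OpenSt.isOpenSubstack_predOf h𝒳 hT
  refine ⟨AlgSt.fullSub 𝒳 (K737.Open.predOf T), AlgSt.subIncl 𝒳 _, K737.Image.lift w hlift, h1, h2,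
    K737.Image.repByAlgSpWith_lift w hlift _ hw, ?_, ⟨Iso.refl _⟩⟩
  rw [← K735.Top.repByAlgSpWith_surjective_iff h1.isStack.1 hGV
    (K735.Rep.repByAlgSp1_of_with (K737.Image.repByAlgSpWith_lift w hlift _ hw))]
  exact K737.Image.surjective_map_lift hG w hlift subset_rfl

end Groth.Agent.S12860
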