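import Groth.Statements.S12878
import Groth.Agent.AlgSt.K738.ImmImage

set_option autoImplicit false
open CategoryTheory AlgebraicGeometry
universe u
open AlgSt

namespace Groth.Agent.S12878

/-- Let `i : 𝒵 ⟶ 𝒳` be an immersion of algebraic stacks over `S`. Then there is a unique locally closed
substack `𝒳' ⊂ 𝒳` (a predicate on objects closed under isomorphisms, with algebraic full subcategory
and immersion inclusion) such that `i` is 2-isomorphic to an equivalence `𝒵 ⟶ 𝒳'` over `(Sch/S)`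
followed by the inclusion `𝒳' ⟶ 𝒳`; moreover `𝒳'` is closed (resp. open) as a substack whenever `i`
is a closed (resp. open) immersion. -/
theorem result {S : Scheme.{u}} {𝒵 𝒳 : AlgSt.Cat S}
    (h𝒵 : AlgSt.IsAlgStack Scheme.fppfPrecoverage 𝒵) (h𝒳 : AlgSt.IsAlgStack Scheme.fppfPrecoverage 𝒳) (i : 𝒵 ⥤ᵇ 𝒳) (hi : AlgSt.IsImm i) :
    ∃ Q : 𝒳.obj → Prop,
      (AlgSt.IsLocClosedSubstack 𝒳 Q Scheme.fppfPrecoverage ∧
        (∃ i' : 𝒵 ⥤ᵇ AlgSt.fullSub 𝒳 Q, FibCat.IsEquivOver i' ∧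
          Nonempty (BasedFunctor.comp i' (AlgSt.subIncl 𝒳 Q) ≅ i)) ∧
        (AlgSt.IsClosedImm i → AlgSt.IsClosedSubstack 𝒳 Q Scheme.fppfPrecoverage) ∧
        (AlgSt.IsOpenImm i → AlgSt.IsOpenSubstack 𝒳 Q Scheme.fppfPrecoverage)) ∧
      ∀ Q' : 𝒳.obj → Prop, AlgSt.IsLocClosedSubstack 𝒳 Q' Scheme.fppfPrecoverage →
        (∃ i' : 𝒵 ⥤ᵇ AlgSt.fullSub 𝒳 Q', FibCat.IsEquivOver i' ∧
          Nonempty (BasedFunctor.comp i' (AlgSt.subIncl 𝒳 Q') ≅ i)) → Q' = Q := by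
  have hm : AlgSt.IsMono i := K737.RepW.isMono_of_repWith (fun {X Y} g hg => by
    have : IsImmersion g := hg
    infer_instance) i hi
  obtain ⟨hfull, hfaith⟩ := K740.Mono.full_faithful_of_isMono h𝒳.isStack.1 i hm
  have he := K738.ImmImage.isEquivOver_toIm h𝒵.isStack.1 i hfull hfaith
  have hst : AlgSt.IsAlgStack Scheme.fppfPrecoverage (AlgSt.fullSub 𝒳 (K738.ImmImage.im i)) :=
    (K740.Inv.isAlgStack_iff _ he).1 h𝒵
  have hr : ∀ {P : MorphismProperty (AlgSp.Sp S)}, AlgSt.RepByAlgSpWith P i →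
      AlgSt.RepByAlgSpWith P (AlgSt.subIncl 𝒳 (K738.ImmImage.im i)) := fun h =>
    K738.ImmImage.repByAlgSpWith_subIncl h𝒵.isStack.1 i hfull hfaith h
  refine ⟨K738.ImmImage.im i, ⟨⟨K738.ImmImage.im_iso i, hst, hr hi⟩, ⟨K738.ImmImage.toIm i, he, ⟨Iso.refl _⟩⟩,
    fun h => ⟨K738.ImmImage.im_iso i, hst, hr h⟩, fun h => ⟨K738.ImmImage.im_iso i, hst, hr h⟩⟩, ?_⟩
  rintro Q' ⟨hQ', -, -⟩ ⟨i', hi', ⟨e⟩⟩
  funext x
  exact propext (K738.ImmImage.iff_im hQ' hi' e x)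

end Groth.Agent.S12878
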