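import Groth.Statements.S12889
import Groth.Agent.ExtSupp.K787.HZExt
import Groth.Agent.ExtSupp.K787.GammaZ
import Groth.Agent.ExtSupp.K787.SSFinal
import Groth.Agent.ExtSupp.K787.FlatAcyc
import Groth.Agent.S0491

set_option autoImplicit false
universe u
open CategoryTheory CategoryTheory.Limits
open ModSite

namespace Groth.Agent.S12889

/-- On a small ringed site (C, J, O) with O commutative, let U be an object with Z the closed complement
of the open it generates, and M an O-module. There is an E₂ spectral sequence of abelian groups with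
E₂^{p,q} ≅ H^p(C, ℋ^q_Z(M)) for p, q ≥ 0 (and 0 otherwise), bounded, abutting with finite
filtrations to H^n_Z(M) (n ≥ 0; 0 for n < 0); here ℋ^q_Z are the right derived functors of sections
with support on O-modules, H^p(C, -) is the cohomology of the site with values in the underlying
abelian sheaf, and H^n_Z(M) are the Ext groups out of ℤ/ℤ_U into the underlying abelian sheaf.
(Existence only: the E₂ identifications and the abutment are some isomorphisms. The direct image
along the localisation at U and injective resolutions of O-modules are the stated instance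
hypotheses, both true.) -/
theorem result {C : Type u} [SmallCategory C] {J : GrothendieckTopology C}
    (O : Sheaf J CommRingCat.{u}) (U : C) (M : ModSite.Mod O)
    [ModSite.HasPushOver O U] [HasInjectiveResolutions (ModSite.Mod O)] :
    ∃ (E : E₂CohomologicalSpectralSequence AddCommGrpCat.{u})
      (a : SpSeq.Abutment E (fun n : ℤ =>
        if 0 ≤ n then AddCommGrpCat.of (ModSite.HZ U M n.toNat) else AddCommGrpCat.of PUnit.{u + 1})),
      (∀ n : ℤ, a.IsFinite n) ∧ SpSeq.IsBounded E ∧
      ∀ p q : ℤ, Nonempty ((E.page 2 le_rfl).X (p, q) ≅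
        (if 0 ≤ p ∧ 0 ≤ q then AddCommGrpCat.of (ModSite.HC O ((ModSite.HZsh O U q.toNat).obj M) p.toNat)
          else AddCommGrpCat.of PUnit.{u + 1})) := by
  have : EnoughInjectives (ModSite.Mod O) := K787.RestrAb.hasEnoughInjectives O
  have : HasExt.{u} (ModSite.Mod O) := hasExt_of_enoughInjectives _
  have : (ModSite.quotOn O U).PreservesMonomorphisms := ⟨fun f _ => inferInstance⟩
  let e₀ : ModSite.sectOn O U ⋙ preadditiveCoyoneda.obj (Opposite.op (ModSite.unit O)) ≅
      preadditiveCoyoneda.obj (Opposite.op ((ModSite.quotOn O U).obj (ModSite.unit O))) :=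
    K787.GammaZ.sectIso U (ModSite.unit O)
  refine K787.SSFinal.exists_of_comp (ModSite.sectOn O U)
    (preadditiveCoyoneda.obj (Opposite.op (ModSite.unit O)))
    (fun Q hQ q hq => ?_) M (fun n => AddCommGrpCat.of (ModSite.HZ U M n)) (fun n => ?_)
    (fun p q => AddCommGrpCat.of (ModSite.HC O ((ModSite.HZsh O U q).obj M) p)) (fun p q => ?_)
  · obtain ⟨m, rfl⟩ := Nat.exists_eq_succ_of_ne_zero hq.ne'
    have : Injective ((ModSite.sectOn O U).obj Q) :=
      Injective.injective_of_adjoint (K787.QuotSect.adj O U) Q
    exact Functor.isZero_rightDerived_obj_injective_succ _ m _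
  · have hl : PreservesFiniteLimits (ModSite.sectOn O U ⋙
        preadditiveCoyoneda.obj (Opposite.op (ModSite.unit O))) :=
      preservesFiniteLimits_of_natIso e₀.symm
    obtain ⟨e⟩ := K787.RDExt.nonempty_rightDerived_iso _
      (ModSite.sectOn O U ⋙ preadditiveCoyoneda.obj (Opposite.op (ModSite.unit O))) e₀ n
    obtain ⟨f⟩ := K787.HZExt.nonempty_extEquiv U M n
    exact ⟨e.app M ≪≫ f.toAddCommGrpIso⟩
  · obtain ⟨e⟩ := K787.RDExt.nonempty_rightDerived_iso (ModSite.unit O)
      (preadditiveCoyoneda.obj (Opposite.op (ModSite.unit O))) (Iso.refl _) p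
    obtain ⟨f⟩ := Groth.Agent.S0491.result J (ModSite.ringSh O) ((ModSite.HZsh O U q).obj M) p
    exact ⟨e.app _ ≪≫ f.toAddCommGrpIso⟩

end Groth.Agent.S12889
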