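import Groth.Statements.S12895
import Groth.Agent.ModSite.K787.LeftUnit
import Groth.Agent.ExtSupp.K787.SSFinal
import Groth.Agent.ExtSupp.K787.FlatAcyc
import Groth.Agent.S0491

set_option autoImplicit false
universe u
open CategoryTheory CategoryTheory.Limits
open ModSite

namespace Groth.Agent.S12895

/-- The local-to-global Ext sequence: on a small ringed site (C, J, O) with O commutative, for O-modules
M and N there is an E₂ spectral sequence of abelian groups with E₂^{p,q} ≅ H^p(C, ℰxt^q_O(M, N)) for
p, q ≥ 0 (and 0 otherwise), bounded, abutting with finite filtrations to Ext^n_O(M, N) (n ≥ 0; 0 for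
n < 0); here ℰxt^q_O(M, -) are the right derived functors of the internal Hom ℋom_O(M, -), H^p(C, -)
is the cohomology of the site with values in the underlying abelian sheaf, and Ext^n_O is computed
in the category of O-modules. (Existence only: the E₂ identifications and the abutment are some
isomorphisms. The internal Hom of M, injective resolutions of O-modules and smallness of the Ext
groups of O-modules are the stated instance hypotheses, all true.) -/
theorem result {C : Type u} [SmallCategory C] {J : GrothendieckTopology C}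
    (O : Sheaf J CommRingCat.{u}) (M N : ModSite.Mod O)
    [ModSite.HasSheafHom M] [HasInjectiveResolutions (ModSite.Mod O)] [HasExt.{u} (ModSite.Mod O)] :
    ∃ (E : E₂CohomologicalSpectralSequence AddCommGrpCat.{u})
      (a : SpSeq.Abutment E (fun n : ℤ =>
        if 0 ≤ n then AddCommGrpCat.of (Abelian.Ext.{u} M N n.toNat) else AddCommGrpCat.of PUnit.{u + 1})),
      (∀ n : ℤ, a.IsFinite n) ∧ SpSeq.IsBounded E ∧
      ∀ p q : ℤ, Nonempty ((E.page 2 le_rfl).X (p, q) ≅
        (if 0 ≤ p ∧ 0 ≤ q then AddCommGrpCat.of (ModSite.HC O ((ModSite.extSh M q.toNat).obj N) p.toNat)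
          else AddCommGrpCat.of PUnit.{u + 1})) := by
  have : EnoughInjectives (ModSite.Mod O) := K787.RestrAb.hasEnoughInjectives O
  let e₀ : ModSite.sheafHom M ⋙ preadditiveCoyoneda.obj (Opposite.op (ModSite.unit O)) ≅
      preadditiveCoyoneda.obj (Opposite.op M) :=
    K787.GammaZ.homIso M (ModSite.unit O) ≪≫ K787.RDExt.coyoIso (K787.LeftUnit.unitTensorIso M)
  refine K787.SSFinal.exists_of_comp (ModSite.sheafHom M)
    (preadditiveCoyoneda.obj (Opposite.op (ModSite.unit O)))
    (fun Q hQ q hq => ?_) N (fun n => AddCommGrpCat.of (Abelian.Ext.{u} M N n)) (fun n => ?_)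
    (fun p q => AddCommGrpCat.of (ModSite.HC O ((ModSite.extSh M q).obj N) p)) (fun p q => ?_)
  · obtain ⟨m, rfl⟩ := Nat.exists_eq_succ_of_ne_zero hq.ne'
    obtain ⟨e⟩ := K787.RDExt.nonempty_rightDerived_iso (ModSite.unit O)
      (preadditiveCoyoneda.obj (Opposite.op (ModSite.unit O))) (Iso.refl _) (m + 1)
    refine IsZero.of_iso ?_ (e.app _)
    have : Subsingleton (Abelian.Ext.{u} (ModSite.unit O) ((ModSite.sheafHom M).obj Q) (m + 1)) :=
      subsingleton_of_forall_eq 0
        (K787.FlatAcyc.ext_sheafHom_eq_zero M Q m (ModSite.unit O) (K291.Flat.isFlat_unit O))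
    exact AddCommGrpCat.isZero_of_subsingleton (AddCommGrpCat.of (Abelian.Ext.{u} (ModSite.unit O)
        ((ModSite.sheafHom M).obj Q) (m + 1)))
  · have hl : PreservesFiniteLimits (ModSite.sheafHom M ⋙
        preadditiveCoyoneda.obj (Opposite.op (ModSite.unit O))) :=
      preservesFiniteLimits_of_natIso e₀.symm
    obtain ⟨e⟩ := K787.RDExt.nonempty_rightDerived_iso _
      (ModSite.sheafHom M ⋙ preadditiveCoyoneda.obj (Opposite.op (ModSite.unit O))) e₀ n
    exact ⟨e.app N⟩
  · obtain ⟨e⟩ := K787.RDExt.nonempty_rightDerived_iso (ModSite.unit O)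
      (preadditiveCoyoneda.obj (Opposite.op (ModSite.unit O))) (Iso.refl _) p
    obtain ⟨f⟩ := Groth.Agent.S0491.result J (ModSite.ringSh O) ((ModSite.extSh M q).obj N) p
    exact ⟨e.app _ ≪≫ f.toAddCommGrpIso⟩

end Groth.Agent.S12895
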