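import Groth.Statements.S12911
import Groth.Agent.Variety.K360.ENSheaf
import Groth.Agent.SDiv.K474.FittBlow

set_option autoImplicit false
universe u
open CategoryTheory CategoryTheory.Limits AlgebraicGeometry
open Variety

namespace Groth.Agent.S12911

/-- Let k be a field and φ : O(-1)^n → O^m a morphism of modules on P^r_k, that is an m × n matrix of
linear forms; let F be its cokernel and I = Fitt_0(F) the zeroth Fitting ideal sheaf of F, the
quasi-coherent ideal sheaf generated locally by the m × m minors of φ. If the closed subset of P^r_k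
cut out by I has Krull dimension at most 1, then I, viewed as an O-module, is m-regular: H^j(P^r_k,
I(m - j)) = 0 for 1 ≤ j ≤ r. -/
theorem result (k : Type u) [Field k] (r m n : ℕ)
    (φ : (∐ fun _ : Fin n => Twist.twistProjSpace r k (-1)) ⟶ FlatMod.freeMod (CohB1.ProjSpace r k) m)
    (hdim : topologicalKrullDim ((Fitt.sheafIdeal (cokernel φ) 0).support : Set (CohB1.ProjSpace r k)) ≤ 1) :
    Curv2.IsMRegular k r (ClSub.idealMod (Fitt.sheafIdeal (cokernel φ) 0)) m := by
  let X := CohB1.ProjSpace r k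
  have hbp : HasFiniteBiproducts X.Modules := Abelian.hasFiniteBiproducts
  let e1 : K360.TwMat.sumO r k (Fin n) (-1) ≅ ∐ fun _ : Fin n => Twist.twistProjSpace r k (-1) :=
    biproduct.isoCoproduct _
  let e2 : FlatMod.freeMod X m ≅ K360.TwMat.sumO r k (Fin m) 0 :=
    (biproduct.isoCoproduct fun _ : Fin m => Coh.structureModule X).symm ≪≫ biproduct.mapIso fun _ =>
      Groth.Agent.VarietyB.TwistMul.zeroIso (K360.TwMat.gr r k)
  obtain ⟨N, hN, hφ⟩ := K360.TwMat.exists_matMap (d := 1) (show (-1 : ℤ) + ((1 : ℕ) : ℤ) = 0 by norm_num) (e1.hom ≫ φ ≫ e2.hom)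
  have e : cokernel φ ≅ cokernel (K360.ENSheaf.lin (fun i l => N i l) hN) :=
    cokernel.mapIso φ (K360.ENSheaf.lin (fun i l => N i l) hN) e1.symm e2 (by
      have h : K360.ENSheaf.lin (fun i l => N i l) hN = e1.hom ≫ φ ≫ e2.hom := hφ.symm
      rw [h, Iso.symm_hom, Iso.inv_hom_id_assoc])
  have hc : Coh.IsCoh (cokernel (K360.ENSheaf.lin (fun i l => N i l) hN)) :=
    Groth.Agent.Sga67.CohBasic.isCoh_cokernel _ (K360.ENReg.isCoh_sumO' (Fin n) (-1)).1
      (K360.ENReg.isCoh_sumO' (Fin m) 0)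
  have hc' : Coh.IsCoh (cokernel φ) := Groth.Agent.Sga67.CohBasic.isCoh_of_iso e.symm hc
  have h2 : Fitt.sheafIdeal (cokernel φ) 0 = K360.ENSheaf.fit (fun i l => N i l) hN :=
    Groth.Agent.SDiv.K474.FittBlow.sheafIdeal_iso e hc'.1 hc.1 hc'.2 hc.2 0
  rw [h2] at hdim ⊢
  exact K360.ENSheaf.isMRegular_fit _ hN hdim

end Groth.Agent.S12911
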