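import Groth.Statements.S12909
import Groth.Agent.CAlgX.K581.RowMat

set_option autoImplicit false
universe u
open CAlgX

namespace Groth.Agent.S12909

/-- Let R be a Noetherian ring and I a nonzero ideal with a finite free resolution 0 → R^{n_e} → … →
R^{n_1} → R^{n_0} → I → 0 with e ≥ 1: the map R^{n_{i+1}} → R^{n_i} is the matrix A_i, the map π :
R^{n_0} → R is linear with image I, the kernel of π is the image of A_0, the kernel of A_i is the
image of A_{i+1} for 0 ≤ i ≤ e - 2, and A_{e-1} is injective. Then I contains a non-zero-divisor of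
R. (The hypothesis that I is nonzero is implicit in the published statement: the zero ideal of a
domain has a finite free resolution and contains no non-zero-divisor.) -/
theorem result {R : Type u} [CommRing R] [IsNoetherianRing R]
    (e : ℕ) (he : 1 ≤ e) (n : ℕ → ℕ) (A : (i : ℕ) → Matrix (Fin (n i)) (Fin (n (i + 1))) R)
    (π : (Fin (n 0) → R) →ₗ[R] R) (hI : LinearMap.range π ≠ ⊥)
    (h0 : LinearMap.ker π = LinearMap.range (A 0).mulVecLin)
    (hA : ∀ i, i + 2 ≤ e → LinearMap.ker (A i).mulVecLin = LinearMap.range (A (i + 1)).mulVecLin)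
    (hlast : LinearMap.ker (A (e - 1)).mulVecLin = ⊥) :
    ∃ x : R, x ∈ LinearMap.range π ∧ x ∈ nonZeroDivisors R := by
  obtain ⟨e, rfl⟩ : ∃ e', e = e' + 1 := ⟨e - 1, by omega⟩
  have hmul : ∀ {a b c : ℕ} (X : Matrix (Fin a) (Fin b) R) (Y : Matrix (Fin b) (Fin c) R),
      LinearMap.range Y.mulVecLin ≤ LinearMap.ker X.mulVecLin → X * Y = 0 := by
    intro a b c X Y h
    apply Matrix.mulVec_injective
    ext1 v
    rw [← Matrix.mulVec_mulVec, Matrix.zero_mulVec]
    exact h ⟨v, rfl⟩
  have hker : ∀ v, v ∈ LinearMap.ker (K581.RowMat.row π).mulVecLin ↔ v ∈ LinearMap.ker π := by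
    intro v
    rw [LinearMap.mem_ker, LinearMap.mem_ker]
    exact K581.RowMat.row_mulVec_eq_zero π v
  obtain ⟨_, x, hx, hx'⟩ := K581.FFR.main e n A (K581.RowMat.row π)
    (hmul _ _ fun v hv => (hker v).2 (by rw [h0]; exact hv))
    (fun v hv => by
      have h1 : v ∈ LinearMap.ker π := (hker v).1 hv
      rw [h0] at h1
      exact h1)
    (fun i hi => hmul _ _ (hA i (by omega)).ge)
    (fun i hi v hv => by
      have h1 : v ∈ LinearMap.ker (A i).mulVecLin := hv
      rw [hA i (by omega)] at h1
      exact h1)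
    (fun v hv => by
      have h1 : v ∈ LinearMap.ker (A (e + 1 - 1)).mulVecLin := hv
      rw [hlast] at h1
      exact h1)
    (K581.RowMat.row_ne_zero π hI)
  exact ⟨x, by rwa [K581.RowMat.minorIdeal_row] at hx, hx'⟩

end Groth.Agent.S12909
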