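import Groth.Statements.S12912
import Groth.Agent.Curves.K323.Nondeg
import Groth.Agent.S1564
import Groth.Agent.VarietyA.CurveFin

set_option autoImplicit false
universe u
open CategoryTheory CategoryTheory.Limits AlgebraicGeometry
open Curves

namespace Groth.Agent.S12912

/-- Let k be an algebraically closed field and X a curve over k (integral, proper over k, of dimension
one) with a closed immersion i : X → P^r_k over k whose image lies in no hyperplane: every nonzero
global section of O(1) on P^r_k pulls back to a nonzero global section of i^* O(1). Then deg i^*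
O(1) ≥ r. -/
theorem result (k : Type u) [Field k] [IsAlgClosed k] (r : ℕ)
    (X : Scheme.{u}) [X.Over (Spec (CommRingCat.of k))] [IsIntegral X] [IsProper (X ↘ (Spec (CommRingCat.of k)))]
    (hdim : topologicalKrullDim X = 1)
    (i : X ⟶ CohB1.ProjSpace r k) [IsClosedImmersion i]
    (hi : i ≫ CohB1.ProjSpace.toSpec r k = (X ↘ (Spec (CommRingCat.of k))))
    (hplane : ∀ s : LinSer.Sect (CohB1.ProjSpace r k) (Twist.twistProjSpace r k 1), s ≠ 0 →
      OmegaSh.pullSect i (Twist.twistProjSpace r k 1) ⊤ s ≠ 0) :
    (r : ℤ) ≤ Curv2.deg k X ((Scheme.Modules.pullback i).obj (Twist.twistProjSpace r k 1)) 1 := by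
  have hL : PicF.IsInvertible ((Scheme.Modules.pullback i).obj (Twist.twistProjSpace r k 1)) :=
    Agent.Fdesc.LocGen.isInvertible_pullback i (Agent.FormalB.TwistGen.isInvertible_twistProjSpace r k 1)
  have h0 : Module.finrank k (Coh.HH X (Coh.structureModule X) 0) = 1 :=
    Agent.VarietyA.CurveFin.finrank_h0_structure k X
  have hfin : Module.Finite k
      (Coh.HH X ((Scheme.Modules.pullback i).obj (Twist.twistProjSpace r k 1)) 0) :=
    Agent.Old.H24.LinearSeries.finite_H k hL 0
  have h1 := Agent.Curves.K323.Nondeg.succ_le_finrank k r X i hi hplane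
  have hnt : Nontrivial (Coh.HH X ((Scheme.Modules.pullback i).obj (Twist.twistProjSpace r k 1)) 0) := by
    by_contra h
    rw [not_nontrivial_iff_subsingleton] at h
    have h2 := Module.finrank_zero_of_subsingleton (R := k)
      (M := Coh.HH X ((Scheme.Modules.pullback i).obj (Twist.twistProjSpace r k 1)) 0)
    omega
  have h2 := (Agent.S1564.result k X hdim h0 _ hL hnt).1
  omega

end Groth.Agent.S12912
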