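import Groth.Statements.S12913
import Groth.Agent.Curves.K324.NegFilt
import Groth.Agent.Curves.K324.RegPid

set_option autoImplicit false
universe u
open CategoryTheory CategoryTheory.Limits AlgebraicGeometry
open Curves

namespace Groth.Agent.S12913

/-- Let k be an algebraically closed field, C a curve over k (integral, proper over k, of dimension one,
all local rings regular), and N a locally free O_C-module of rank r which admits a monomorphism into
O_C^m for some m and has no nonzero global section. Then there is a filtration N = N_0 ⊃ N_1 ⊃ ⋯ ⊃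
N_r = 0 whose successive quotients are invertible sheaves of strictly negative degree; it is given
here as modules M_0, …, M_r with M_0 ≅ N, M_r = 0 and monomorphisms M_{j+1} → M_j whose cokernels
are invertible of negative degree. -/
theorem result (k : Type u) [Field k] [IsAlgClosed k]
    (C : Scheme.{u}) [C.Over (Spec (CommRingCat.of k))] [IsIntegral C] [IsProper (C ↘ (Spec (CommRingCat.of k)))]
    (hdim : topologicalKrullDim C = 1) (hreg : ∀ x : C, IsRegularLocalRing (C.presheaf.stalk x))
    (N : C.Modules) (r : ℕ) (hN : FlatMod.IsFinLocFreeOfRank r N) (m : ℕ) (ι : N ⟶ FlatMod.freeMod C m) [Mono ι]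
    (h0 : ∀ s : LinSer.Sect C N, s = 0) :
    ∃ (M : Fin (r + 1) → C.Modules) (f : (j : Fin r) → (M j.succ ⟶ M j.castSucc)),
      Nonempty (M 0 ≅ N) ∧ IsZero (M (Fin.last r)) ∧
        ∀ j : Fin r, Mono (f j) ∧ PicF.IsInvertible (cokernel (f j)) ∧ Curv2.deg k C (cokernel (f j)) 1 < 0 := by
  have hc := K707.Base.isCoh_of_rank hN
  obtain ⟨M, f, h1, h2, h3⟩ := K324.NegFilt.filtration k hdim
    (K324.RegPid.isPrincipalIdealRing_stalk hdim.le hreg) r N hc (K707.Base.rk_of_rank hN)
    ⟨m, _, K324.NegFilt.jmono_of_mono ι⟩ (fun s => by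
      apply Groth.Agent.Fdesc.LocGen.hom_ext_sec
      exact h0 _)
  exact ⟨fun j => M j.1, fun j => f j.1, h1, h2, fun j => h3 j.1 j.2⟩

end Groth.Agent.S12913
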