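import Groth.Statements.S12914
-- import your own Groth.Agent.* helpers here
import Groth.Agent.S12907
import Groth.Agent.CAlgX.K581.PointsRes

set_option autoImplicit false
universe u
open CAlgX

namespace Groth.Agent.S12914

/-- Let k be a field, Z a finite set of nonzero vectors in k^3, regarded as points of the projective
plane, and I the homogeneous vanishing ideal of Z in k[x_0, x_1, x_2]: a polynomial belongs to I
exactly when every one of its homogeneous components vanishes at every vector of Z. If Z lies on a
curve of degree d, that is I contains a nonzero homogeneous form of degree d, then I is generated by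
at most d + 1 elements. -/
theorem result (k : Type u) [Field k]
    (Z : Finset (Fin 3 → k)) (hZ : ∀ p ∈ Z, p ≠ 0) (I : Ideal (MvPolynomial (Fin 3) k))
    (hI : ∀ f : MvPolynomial (Fin 3) k, f ∈ I ↔
      ∀ p ∈ Z, ∀ j : ℕ, MvPolynomial.eval p (MvPolynomial.homogeneousComponent j f) = 0)
    (d : ℕ) (hf : ∃ f ∈ I, MvPolynomial.IsHomogeneous f d ∧ f ≠ 0) :
    Submodule.spanFinrank I ≤ d + 1 := by
  obtain ⟨m, t, Ψ, π, h1, h2, h3, h4⟩ := K581.PointsRes.exists_minimal_resolution I
    (K581.PointsRes.graded Z I hI) (K581.PointsRes.socle Z hZ I hI)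
  obtain ⟨hm, ⟨a, -, ha⟩, -⟩ := Groth.Agent.S12907.result t m Ψ π h1 h2
    (by rw [h3]; exact K581.PointsRes.ne_bot Z hZ I hI)
  subst hm
  -- `I` is generated by `t + 1` elements
  have hgen : Submodule.spanFinrank I ≤ t + 1 := by
    have h5 : I = Submodule.span _ (Set.range fun i : Fin (t + 1) => π (Pi.single i 1)) := by
      rw [← h3]
      apply le_antisymm
      · rintro _ ⟨v, rfl⟩
        rw [LinearMap.pi_apply_eq_sum_univ π v]
        refine Submodule.sum_mem _ fun i _ => Submodule.smul_mem _ _ (Submodule.subset_span ⟨i, ?_⟩)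
        simp only
        congr 1
        funext j
        by_cases h : i = j
        · subst h; simp
        · simp [h, Ne.symm h]
      · rw [Submodule.span_le]
        rintro _ ⟨i, rfl⟩
        exact ⟨_, rfl⟩
    rw [h5]
    refine (Submodule.spanFinrank_span_le_ncard_of_finite (Set.finite_range _)).trans ?_
    rw [← Set.image_univ]
    refine (Set.ncard_image_le Set.finite_univ).trans ?_
    rw [Set.ncard_univ, Nat.card_eq_fintype_card, Fintype.card_fin]
  -- `I ⊆ 𝔪ᵗ`
  have hle : I ≤ MvPolynomial.idealOfVars (Fin 3) k ^ t := by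
    rw [← h3, ha]
    refine Ideal.mul_le_right.trans ?_
    refine Ideal.span_le.mpr ?_
    rintro _ ⟨fg, rfl⟩
    change (Ψ.submatrix fg.1 fg.2).det ∈ _
    rw [Matrix.det_apply]
    refine Ideal.sum_mem _ fun σ _ => ?_
    rw [Units.smul_def, zsmul_eq_mul]
    refine Ideal.mul_mem_left _ _ ?_
    have h6 : ∏ i : Fin t, (Ψ.submatrix fg.1 fg.2) (σ i) i ∈
        ∏ _i : Fin t, MvPolynomial.idealOfVars (Fin 3) k := by
      refine Ideal.prod_mem_prod fun i _ => ?_
      rw [← pow_one (MvPolynomial.idealOfVars (Fin 3) k), MvPolynomial.mem_pow_idealOfVars_iff']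
      intro x hx
      have hx0 : x = 0 := by
        rw [Nat.lt_one_iff] at hx
        exact (Finsupp.degree_eq_zero_iff x).mp hx
      rw [hx0]
      exact h4 _ _
    rw [Finset.prod_const, Finset.card_univ, Fintype.card_fin] at h6
    exact h6
  obtain ⟨f, hfI, hfd, hf0⟩ := hf
  have htd : t ≤ d := by
    by_contra hlt
    apply hf0
    have h7 := hle hfI
    rw [MvPolynomial.mem_pow_idealOfVars_iff'] at h7
    ext x
    rw [MvPolynomial.coeff_zero]
    by_cases hx : x.degree = d
    · exact h7 x (by omega)
    · exact hfd.coeff_eq_zero hx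
  omega

end Groth.Agent.S12914
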