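import Groth.Statements.S12915
import Groth.Agent.CAlgX.K581.HomDim
import Mathlib.LinearAlgebra.Dimension.RankNullity
import Mathlib.LinearAlgebra.FiniteDimensional.Lemmas
import Mathlib.RingTheory.MvPolynomial.Basic

set_option autoImplicit false
universe u
open CAlgX

namespace Groth.Agent.S12915

/-- Let k be a field, S = k[x_0, …, x_r], and f a nonzero homogeneous polynomial of degree m. For every
t ≥ m the image in S/(f) of the homogeneous polynomials of degree t is a k-vector space of dimension
C(t + r, r) - C(t + r - m, r). (The published clause states that the hypersurface f = 0 in P^r has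
degree m; its proof computes exactly this Hilbert function, whose polynomial has leading term m
t^(r-1)/(r-1)!, and that computation is what is stated here.) -/
theorem result (k : Type u) [Field k] (r m : ℕ)
    (f : MvPolynomial (Fin (r + 1)) k) (hf : f.IsHomogeneous m) (hf0 : f ≠ 0) (t : ℕ) (ht : m ≤ t) :
    Module.finrank k
        (Submodule.map ((Ideal.Quotient.mkₐ k (Ideal.span {f})).toLinearMap)
          (MvPolynomial.homogeneousSubmodule (Fin (r + 1)) k t)) =
      Nat.choose (t + r) r - Nat.choose (t + r - m) r := by
  classical
  have hfin := K581.HomDim.finite_homogeneous k r t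
  set q : MvPolynomial (Fin (r + 1)) k →ₗ[k] MvPolynomial (Fin (r + 1)) k ⧸ Ideal.span {f} :=
    (Ideal.Quotient.mkₐ k (Ideal.span {f})).toLinearMap with hq
  let St := MvPolynomial.homogeneousSubmodule (Fin (r + 1)) k t
  let ψ : St →ₗ[k] MvPolynomial (Fin (r + 1)) k ⧸ Ideal.span {f} := q.domRestrict St
  have hrange : LinearMap.range ψ = Submodule.map q St := LinearMap.range_domRestrict _ _
  have h1 := LinearMap.finrank_range_add_finrank_ker ψ
  rw [hrange] at h1
  -- multiplication by `f`
  let φ : MvPolynomial.homogeneousSubmodule (Fin (r + 1)) k (t - m) →ₗ[k] St :=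
    LinearMap.codRestrict St
      ((LinearMap.mulLeft k f).domRestrict (MvPolynomial.homogeneousSubmodule (Fin (r + 1)) k (t - m)))
      (fun g => by
        have h2 := hf.mul (show (g : MvPolynomial (Fin (r + 1)) k).IsHomogeneous (t - m) from g.2)
        rw [Nat.add_sub_cancel' ht] at h2
        exact h2)
  have hφinj : Function.Injective φ := by
    intro a b hab
    have h2 : f * (a : MvPolynomial (Fin (r + 1)) k) = f * (b : MvPolynomial (Fin (r + 1)) k) := congrArg Subtype.val hab
    exact Subtype.ext (mul_left_cancel₀ hf0 h2)
  have hker : LinearMap.ker ψ = LinearMap.range φ := by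
    apply le_antisymm
    · intro g hg
      have h2 : (g : MvPolynomial (Fin (r + 1)) k) ∈ Ideal.span {f} := Ideal.Quotient.eq_zero_iff_mem.1 hg
      obtain ⟨h, hh⟩ := Ideal.mem_span_singleton'.1 h2
      refine ⟨⟨MvPolynomial.homogeneousComponent (t - m) h,
        MvPolynomial.homogeneousComponent_isHomogeneous _ _⟩, Subtype.ext ?_⟩
      change f * MvPolynomial.homogeneousComponent (t - m) h = g
      rw [← K581.HomDim.homogeneousComponent_mul f h hf (t - m), Nat.add_sub_cancel' ht, mul_comm f h,
        hh]
      exact MvPolynomial.homogeneousComponent_eq_self g.2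
    · rintro _ ⟨g, rfl⟩
      change Ideal.Quotient.mk (Ideal.span {f}) (f * (g : MvPolynomial (Fin (r + 1)) k)) = 0
      rw [Ideal.Quotient.eq_zero_iff_mem]
      exact Ideal.mul_mem_right _ _ (Ideal.mem_span_singleton_self f)
  have h3 : Module.finrank k (LinearMap.ker ψ) = Nat.choose (t + r - m) r := by
    rw [hker, LinearMap.finrank_range_of_inj hφinj, K581.HomDim.finrank_homogeneous]
    congr 1
    omega
  have h4 : Module.finrank k St = Nat.choose (t + r) r := K581.HomDim.finrank_homogeneous k r t
  rw [h3, h4] at h1
  exact Nat.eq_sub_of_add_eq h1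

end Groth.Agent.S12915
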