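import Groth.Statements.S12916
import Groth.Agent.S3406
import Mathlib.GroupTheory.CosetCover
import Mathlib.RingTheory.MvPolynomial.Ideal
import Mathlib.RingTheory.Ideal.AssociatedPrime.Finiteness
import Mathlib.RingTheory.Ideal.AssociatedPrime.Localization
import Mathlib.RingTheory.Polynomial.Basic

set_option autoImplicit false
universe u
open CAlgX

namespace Groth.Agent.S12916

open MvPolynomial in
/-- a prime containing all variables is maximal -/
lemma isMaximal_of_X_mem {σ : Type} [Finite σ] {k : Type u} [Field k] (p : Ideal (MvPolynomial σ k))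
    (hp : p.IsPrime) (h : ∀ i, (X i : MvPolynomial σ k) ∈ p) : p.IsMaximal := by
  classical
  have hle : idealOfVars σ k ≤ p := by
    rw [Ideal.span_le]
    rintro _ ⟨i, rfl⟩
    exact h i
  refine ⟨⟨hp.ne_top, fun J hJ => ?_⟩⟩
  obtain ⟨g, hgJ, hgp⟩ := SetLike.exists_of_lt hJ
  have h1 : g - C (coeff 0 g) ∈ idealOfVars σ k := by
    have := (mem_pow_idealOfVars_iff' (σ := σ) (R := k) 1 (g - C (coeff 0 g))).2 (by
      intro x hx
      have hx0 : x = 0 := by
        rw [Nat.lt_one_iff] at hx
        exact (Finsupp.degree_eq_zero_iff x).1 hx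
      rw [hx0, coeff_sub, coeff_C]
      simp)
    rwa [pow_one] at this
  have h2 : coeff 0 g ≠ 0 := by
    intro h0
    rw [h0, C_0, sub_zero] at h1
    exact hgp (hle h1)
  have h3 : C (coeff 0 g) ∈ J := by
    have h4 := J.sub_mem hgJ (hJ.le (hle h1))
    rwa [sub_sub_cancel] at h4
  exact Ideal.eq_top_of_isUnit_mem _ h3 ((isUnit_iff_ne_zero.2 h2).map C)

/-- Let k be an infinite field, S = k[x_0, …, x_r], M a finitely generated S-module and d a natural
number. Then some nonzero homogeneous polynomial f of degree d is quasi-regular on M: the submodule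
(0 :_M f) of elements of M annihilated by f has finite length. (The published statement assumes M
graded; this row assumes only that M is finitely generated.) -/
theorem result (k : Type u) [Field k] [Infinite k] (r d : ℕ)
    (M : Type u) [AddCommGroup M] [Module (MvPolynomial (Fin (r + 1)) k) M] [Module.Finite (MvPolynomial (Fin (r + 1)) k) M] :
    ∃ f : MvPolynomial (Fin (r + 1)) k, f.IsHomogeneous d ∧ f ≠ 0 ∧
      IsFiniteLength (MvPolynomial (Fin (r + 1)) k) ↥(Submodule.torsionBy (MvPolynomial (Fin (r + 1)) k) M f) := by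
  classical
  rcases Nat.eq_zero_or_pos d with rfl | hd
  · refine ⟨1, MvPolynomial.isHomogeneous_one _ _, one_ne_zero, ?_⟩
    have : Subsingleton ↥(Submodule.torsionBy (MvPolynomial (Fin (r + 1)) k) M
        (1 : MvPolynomial (Fin (r + 1)) k)) := by
      refine ⟨fun x y => ?_⟩
      have hx := x.2
      have hy := y.2
      rw [Submodule.mem_torsionBy_iff, one_smul] at hx hy
      exact Subtype.ext (hx.trans hy.symm)
    exact IsFiniteLength.of_subsingleton
  · let Ps : Set (Ideal (MvPolynomial (Fin (r + 1)) k)) :=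
      {p | p ∈ associatedPrimes (MvPolynomial (Fin (r + 1)) k) M ∧ ¬ p.IsMaximal} ∪ {⊥}
    have hfin : Ps.Finite := ((associatedPrimes.finite _ M).subset fun p hp => hp.1).union
      (Set.finite_singleton _)
    have : Finite Ps := hfin
    let E := MvPolynomial.homogeneousSubmodule (Fin (r + 1)) k d
    obtain ⟨f, hf⟩ : ∃ f : E, ∀ p ∈ Ps, (f : MvPolynomial (Fin (r + 1)) k) ∉ p := by
      by_contra hcon
      push Not at hcon
      obtain ⟨⟨p, hp⟩, htop⟩ := Subspace.exists_eq_top_of_iUnion_eq_univ (k := k) (E := E)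
        (p := fun p : Ps => (p.1.restrictScalars k).comap E.subtype) (by
          rw [Set.eq_univ_iff_forall]
          intro f
          obtain ⟨p, hp, hfp⟩ := hcon f
          exact Set.mem_iUnion.2 ⟨⟨p, hp⟩, hfp⟩)
      have hE : ∀ f : MvPolynomial (Fin (r + 1)) k, f.IsHomogeneous d → f ∈ p := by
        intro f hf
        have h1 : (⟨f, hf⟩ : E) ∈ (⊤ : Submodule k E) := trivial
        rw [← htop] at h1
        exact h1
      have hX : ∀ i, (MvPolynomial.X i : MvPolynomial (Fin (r + 1)) k) ^ d ∈ p := fun i =>
        hE _ (by simpa using (MvPolynomial.isHomogeneous_X k i).pow d)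
      rcases hp with ⟨hp1, hp2⟩ | hp
      · have hpp : p.IsPrime := hp1.isPrime
        exact hp2 (isMaximal_of_X_mem p hpp fun i => hpp.mem_of_pow_mem _ (hX i))
      · rw [Set.mem_singleton_iff] at hp
        subst hp
        have h2 := hX 0
        rw [Ideal.mem_bot] at h2
        exact pow_ne_zero d (MvPolynomial.X_ne_zero _) h2
    have hf0 : (f : MvPolynomial (Fin (r + 1)) k) ≠ 0 := fun h =>
      hf ⊥ (Or.inr rfl) (by rw [h]; exact Ideal.zero_mem _)
    refine ⟨f, f.2, hf0, ?_⟩
    let T := Submodule.torsionBy (MvPolynomial (Fin (r + 1)) k) M (f : MvPolynomial (Fin (r + 1)) k)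
    have hmax : ∀ q ∈ Module.support (MvPolynomial (Fin (r + 1)) k) T, q.asIdeal.IsMaximal := by
      intro q hq
      have hq1 : Module.annihilator _ T ≤ q.asIdeal := Module.mem_support_iff_of_finite.1 hq
      obtain ⟨p, hp, hpq⟩ := Ideal.exists_minimalPrimes_le hq1
      have hpass : p ∈ associatedPrimes _ T :=
        Module.associatedPrimes.minimalPrimes_annihilator_subset_associatedPrimes _ _ hp
      have hpM : p ∈ associatedPrimes (MvPolynomial (Fin (r + 1)) k) M :=
        associatedPrimes.subset_of_injective T.injective_subtype hpass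
      have hfp : (f : MvPolynomial (Fin (r + 1)) k) ∈ p := by
        apply hp.1.2
        rw [Module.mem_annihilator]
        intro m
        exact Subtype.ext ((Submodule.mem_torsionBy_iff _ _).1 m.2)
      have hpm : p.IsMaximal := by
        by_contra hcon
        exact hf p (Or.inl ⟨hpM, hcon⟩) hfp
      rwa [← hpm.eq_of_le q.2.ne_top hpq]
    refine Groth.Agent.S3406.isFiniteLength_of_supportDim_le_zero ?_
    rw [Module.supportDim, Order.krullDim_nonpos_iff_forall_isMax]
    rintro ⟨q, hq⟩ ⟨q', hq'⟩ hle
    have h1 := (hmax q hq).eq_of_le q'.2.ne_top hle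
    exact (Subtype.ext (PrimeSpectrum.ext h1)).ge

end Groth.Agent.S12916
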