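import Groth.Statements.S12917
-- import your own Groth.Agent.* helpers here
import Groth.Agent.S12907
import Groth.Agent.CAlgX.K581.PointsRes

set_option autoImplicit false
universe u
open CAlgX

namespace Groth.Agent.S12917

/-- Let k be a field, Z a finite set of nonzero vectors in k^3, regarded as points of the projective
plane, and I the homogeneous vanishing ideal of Z in S = k[x_0, x_1, x_2]: a polynomial belongs to I
exactly when each of its homogeneous components vanishes at every vector of Z. Then I has a free
resolution of length one: for some t there are a (t+1) × t matrix Ψ over S, injective as a map S^t →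
S^{t+1}, and an S-linear map π : S^{t+1} → S with ker π = im Ψ and im π = I. (The published
statement speaks of the minimal free resolution of I having length 1; stated here as the existence
of such a resolution.) -/
theorem result (k : Type u) [Field k]
    (Z : Finset (Fin 3 → k)) (hZ : ∀ p ∈ Z, p ≠ 0) (I : Ideal (MvPolynomial (Fin 3) k))
    (hI : ∀ f : MvPolynomial (Fin 3) k, f ∈ I ↔
      ∀ p ∈ Z, ∀ j : ℕ, MvPolynomial.eval p (MvPolynomial.homogeneousComponent j f) = 0) :
    ∃ (t : ℕ) (Ψ : Matrix (Fin (t + 1)) (Fin t) (MvPolynomial (Fin 3) k)) (π : (Fin (t + 1) → MvPolynomial (Fin 3) k) →ₗ[MvPolynomial (Fin 3) k] MvPolynomial (Fin 3) k),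
      LinearMap.ker Ψ.mulVecLin = ⊥ ∧ LinearMap.ker π = LinearMap.range Ψ.mulVecLin ∧ LinearMap.range π = I := by
  obtain ⟨m, t, Ψ, π, h1, h2, h3, -⟩ := K581.PointsRes.exists_minimal_resolution I
    (K581.PointsRes.graded Z I hI) (K581.PointsRes.socle Z hZ I hI)
  have hm : m = t + 1 := (Groth.Agent.S12907.result t m Ψ π h1 h2
    (by rw [h3]; exact K581.PointsRes.ne_bot Z hZ I hI)).1
  subst hm
  exact ⟨t, Ψ, π, h1, h2, h3⟩

end Groth.Agent.S12917
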