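import Groth.Statements.S12918
import Groth.Agent.HopfRep.K189.Lam

set_option autoImplicit false
universe u v w
open HopfRep

namespace Groth.Agent.S12918

/-- Let `k` be a commutative ring, `A` a commutative Hopf algebra over `k`, flat as a `k`-module and `B`
a commutative `k`-algebra with a coaction `ρ : B → B ⊗ A` that is an algebra map (an action of the
affine group scheme `Spec A` on `Spec B`). Then the action admits a total integral — a comodule map
`α : A → B`, for the regular coaction on `A`, with `α 1 = 1` — if and only if `ρ` has a left inverse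
`B ⊗ A → B` which is a comodule map for the coaction `id ⊗ Δ` on `B ⊗ A`. -/
theorem result
    (k : Type u) [CommRing k] (A : Type v) [CommRing A] [HopfAlgebra k A] [Module.Flat k A]
    (B : Type w) [CommRing B] [Algebra k B] [HopfRep.Comod k A B] [GLin.IsCoactAlg k A B] :
    (∃ α : A →ₗ[k] B, Hoch.IsComodHom A α ∧ α 1 = 1) ↔
      ∃ lam : Hoch.Ind k A B →ₗ[k] B, Hoch.IsComodHom A lam ∧ lam ∘ₗ Hoch.toInd k A B = LinearMap.id := by
  constructor
  · rintro ⟨α, hα, hα1⟩
    exact K189.Lam.exists_left_inverse hα hα1
  · rintro ⟨lam, hlam, hinv⟩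
    let lam' : TensorProduct k B A →ₗ[k] B := lam ∘ₗ (Hoch.Ind.equiv k A B).toLinearMap
    refine ⟨lam' ∘ₗ TensorProduct.mk k B A 1, ?_, ?_⟩
    · rw [K189.Basic.isComodHom_iff] at hlam ⊢
      intro a
      have h1 : HopfRep.Comod.coact (k := k) (A := A) (lam' (TensorProduct.tmul k 1 a)) =
          lam'.rTensor A ((TensorProduct.assoc k B A A).symm (TensorProduct.tmul k (1 : B)
            (CoalgebraStruct.comul (R := k) a))) := hlam _
      rw [LinearMap.comp_apply, TensorProduct.mk_apply, h1]
      have h2 : ∀ z : TensorProduct k A A, lam'.rTensor A ((TensorProduct.assoc k B A A).symm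
          (TensorProduct.tmul k (1 : B) z)) = (lam' ∘ₗ TensorProduct.mk k B A 1).rTensor A z := by
        intro z
        induction z with
        | zero => simp
        | tmul u v => simp
        | add u v hu hv => rw [TensorProduct.tmul_add, map_add, map_add, hu, hv, map_add]
      exact h2 _
    · have h : lam' (HopfRep.Comod.coact (k := k) (A := A) (1 : B)) = 1 :=
        LinearMap.congr_fun hinv (1 : B)
      rw [GLin.IsCoactAlg.coact_one (k := k) (A := A) (R := B), Algebra.TensorProduct.one_def] at h
      exact h

end Groth.Agent.S12918
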