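import Groth.Statements.S12924
import Groth.Agent.HopfRep.K189.StabIdeal
import Groth.Agent.GrpQ.H766.AffineBase
import Groth.Agent.GIT.K687.Desc


set_option autoImplicit false
universe u
open CategoryTheory AlgebraicGeometry
open HopfRep

namespace Groth.Agent.S12924


open Groth.Agent.GrpQ.H766.GeomQuotDef Groth.Agent.GrpQ.H766.GeomQuotLocal Groth.Agent.GrpQ.H766.AffineBase

/-- Let `k` be a commutative ring, `A` a commutative Hopf algebra over `k`, flat as a `k`-module, `B` a
commutative `k`-algebra with a coaction `ρ : B → B ⊗ A` that is an algebra map and admits a total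
integral (a comodule map `α : A → B` with `α 1 = 1`), and `C = B^A`. Then `Spec B → Spec C` is a
categorical quotient of the action in the category of schemes: for every scheme `Z` and every
morphism `ψ : Spec B → Z` which is invariant, i.e. has the same composite with `Spec (B ⊗ A) → Spec
B` induced by `ρ` and by `b ↦ b ⊗ 1`, there is exactly one morphism `Spec C → Z` through which `ψ`
factors. (The published statement assumes only that taking invariants is exact on `(B, A)`-modules;
a total integral, assumed here, gives that exactness.) -/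
theorem result
    (k : Type u) [CommRing k] (A : Type u) [CommRing A] [HopfAlgebra k A] [Module.Flat k A]
    (B : Type u) [CommRing B] [Algebra k B] [HopfRep.Comod k A B] [GLin.IsCoactAlg k A B]
    (htame : ∃ α : A →ₗ[k] B, Hoch.IsComodHom A α ∧ α 1 = 1)
    (Z : Scheme.{u}) (ψ : Spec (CommRingCat.of B) ⟶ Z)
    (hψ : Spec.map (CommRingCat.ofHom (GLin.coactAlgHom k A B).toRingHom) ≫ ψ =
      Spec.map (CommRingCat.ofHom
        (Algebra.TensorProduct.includeLeftRingHom : B →+* TensorProduct k B A)) ≫ ψ) :
    ∃! χ : Spec (CommRingCat.of (GLin.invariants k A B)) ⟶ Z,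
      Spec.map (CommRingCat.ofHom (algebraMap (GLin.invariants k A B) B)) ≫ χ = ψ := by
  obtain ⟨α, hα, hα1⟩ := htame
  let φ : Spec (CommRingCat.of B) ⟶ Spec (CommRingCat.of (GLin.invariants k A B)) :=
    Spec.map (CommRingCat.ofHom (algebraMap (GLin.invariants k A B) B))
  let σ : Spec (CommRingCat.of (TensorProduct k B A)) ⟶ Spec (CommRingCat.of B) :=
    Spec.map (CommRingCat.ofHom (GLin.coactAlgHom k A B).toRingHom)
  let p : Spec (CommRingCat.of (TensorProduct k B A)) ⟶ Spec (CommRingCat.of B) :=
    Spec.map (CommRingCat.ofHom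
        (Algebra.TensorProduct.includeLeftRingHom : B →+* TensorProduct k B A))
  change σ ≫ ψ = p ≫ ψ at hψ
  have w : p ≫ φ = σ ≫ φ := by
    simp only [p, σ, φ, ← Spec.map_comp, ← CommRingCat.ofHom_comp]
    congr 2
    ext c
    exact c.2.symm
  have happ : ∀ {R S : Type u} [CommRing R] [CommRing S] (f : R →+* S)
      (x : Γ(Spec (CommRingCat.of R), ⊤)),
      (Scheme.ΓSpecIso (CommRingCat.of S)).hom ((Spec.map (CommRingCat.ofHom f)).appTop x) =
        f ((Scheme.ΓSpecIso (CommRingCat.of R)).hom x) := by
    intro R S _ _ f x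
    have := Scheme.ΓSpecIso_naturality (CommRingCat.ofHom f)
    exact congrArg (fun g => g.hom x) this
  have hbij : ∀ (R : Type u) [CommRing R], Function.Bijective
      (Scheme.ΓSpecIso (CommRingCat.of R)).hom :=
    fun R _ => ConcreteCategory.bijective_of_isIso (Scheme.ΓSpecIso (CommRingCat.of R)).hom
  have hinjTop : Function.Injective φ.appTop := by
    intro x y hxy
    apply (hbij _).1
    apply Subtype.val_injective
    have h1 := happ (algebraMap (GLin.invariants k A B) B) x
    have h2 := happ (algebraMap (GLin.invariants k A B) B) y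
    exact h1.symm.trans ((congrArg _ hxy).trans h2)
  have hsec : ∀ a : Γ(Spec (CommRingCat.of B), ⊤), σ.appTop a = p.appTop a →
      ∃ b : Γ(Spec (CommRingCat.of (GLin.invariants k A B)), ⊤), φ.appTop b = a := by
    intro a ha
    have h1 : (Scheme.ΓSpecIso (CommRingCat.of B)).hom a ∈ GLin.invariants k A B :=
      (happ (GLin.coactAlgHom k A B).toRingHom a).symm.trans ((congrArg _ ha).trans
        (happ (Algebra.TensorProduct.includeLeftRingHom : B →+* TensorProduct k B A) a))
    obtain ⟨b, hb⟩ := (hbij (GLin.invariants k A B)).2 ⟨_, h1⟩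
    refine ⟨b, (hbij B).1 ?_⟩
    refine (happ (algebraMap (GLin.invariants k A B) B) b).trans ?_
    exact congrArg (algebraMap (GLin.invariants k A B) B) hb
  have hbasis : ∀ (W : (Spec (CommRingCat.of (GLin.invariants k A B))).Opens)
      (y : Spec (CommRingCat.of (GLin.invariants k A B))), y ∈ W →
      ∃ f : Γ(Spec (CommRingCat.of (GLin.invariants k A B)), ⊤),
        y ∈ (Spec (CommRingCat.of (GLin.invariants k A B))).basicOpen f ∧
      (Spec (CommRingCat.of (GLin.invariants k A B))).basicOpen f ≤ W := fun W y hy => by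
    obtain ⟨f, h1, h2⟩ := (isAffineOpen_top _).exists_basicOpen_le (V := W) ⟨y, hy⟩ trivial
    exact ⟨f, h2, h1⟩
  have hinj : ∀ U, Function.Injective (φ.app U) := inj_of_local φ fun W y hy => by
    obtain ⟨f, h1, h2⟩ := hbasis W y hy
    exact ⟨_, h1, h2, inj_basicOpen φ hinjTop f⟩
  have hrange := sec_of_local σ p φ hinj fun W y hy => by
      obtain ⟨f, h1, h2⟩ := hbasis W y hy
      exact ⟨_, h1, h2, sec_basicOpen σ p φ w hsec f⟩
  refine K687.existsUnique_desc φ σ p ?_ hinj hrange ψ hψ ?_
  · exact K189.StabIdeal.comap_surjective hα hα1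
  · intro y
    let W : Z.affineOpens → Set (PrimeSpectrum B) := fun V => (ψ.base ⁻¹' (V.1 : Set Z))ᶜ
    have hW : ∀ V, IsClosed (W V) := fun V =>
      ((V.1.isOpen).preimage ψ.continuous).isClosed_compl
    let I : Z.affineOpens → Ideal B := fun V => PrimeSpectrum.vanishingIdeal (W V)
    have hI : ∀ V, PrimeSpectrum.zeroLocus (I V : Set B) = W V := fun V => by
      rw [PrimeSpectrum.zeroLocus_vanishingIdeal_eq_closure, (hW V).closure_eq]
    have hpt : ∀ g : PrimeSpectrum (TensorProduct k B A),
        ψ.base (PrimeSpectrum.comap (GLin.coactAlgHom k A B).toRingHom g) =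
        ψ.base (PrimeSpectrum.comap (Algebra.TensorProduct.includeLeftRingHom :
          B →+* TensorProduct k B A) g) := by
      intro g
      exact congrArg (fun f : Spec (CommRingCat.of (TensorProduct k B A)) ⟶ Z => f.base g) hψ
    have hstab : ∀ V, PrimeSpectrum.zeroLocus (K189.StabIdeal.core k A (I V) : Set B) = W V := by
      intro V
      rw [K189.StabIdeal.zeroLocus_core, hI]
      rw [hI]
      intro g hg hcon
      apply hg
      change ψ.base _ ∈ (V.1 : Set Z)
      rw [← hpt g]
      exact hcon
    have htop : ⨆ V, K189.StabIdeal.core k A (I V) = ⊤ := by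
      rw [← PrimeSpectrum.zeroLocus_empty_iff_eq_top, PrimeSpectrum.zeroLocus_iSup]
      ext x
      simp only [hstab, Set.mem_iInter, Set.mem_empty_iff_false, iff_false]
      intro hx
      obtain ⟨V, hV, hxV, _⟩ := exists_isAffineOpen_mem_and_subset (x := ψ.base x) (U := ⊤) trivial
      exact hx ⟨V, hV⟩ hxV
    obtain ⟨V, f, hf, hfy⟩ := K189.StabIdeal.exists_invariant hα hα1
      (fun V => K189.StabIdeal.core k A (I V)) (fun V => K189.StabIdeal.isSubcomod_core (I V)) htop
      y.asIdeal y.2.ne_top
    refine ⟨PrimeSpectrum.basicOpen f, hfy, V.1, V.2, ?_⟩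
    intro x hx
    by_contra hcon
    have h1 : x ∈ PrimeSpectrum.zeroLocus (K189.StabIdeal.core k A (I V) : Set B) := by
      rw [hstab]
      exact hcon
    exact hx (h1 hf)

end Groth.Agent.S12924
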