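import Groth.Statements.S12925

set_option autoImplicit false
universe u w
open HopfRep

namespace Groth.Agent.S12925

/-- Let `k` be a commutative ring, `M` a commutative group and `B` a commutative `k`-algebra with a
coaction of the group algebra `k[M]` that is an algebra map (an action of the diagonalizable group
scheme `D(M) = Spec k[M]` on `Spec B`). Then the action is tame: there is a comodule map `α : k[M] →
B`, for the regular coaction on `k[M]`, with `α 1 = 1`. -/
theorem result
    (k : Type u) [CommRing k] (M : Type u) [CommGroup M]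
    (B : Type w) [CommRing B] [Algebra k B] [HopfRep.Comod k (MonoidAlgebra k M) B]
    [GLin.IsCoactAlg k (MonoidAlgebra k M) B] :
    ∃ α : MonoidAlgebra k M →ₗ[k] B, Hoch.IsComodHom (MonoidAlgebra k M) α ∧ α 1 = 1 := by
  classical
  let α : MonoidAlgebra k M →ₗ[k] B := Algebra.linearMap k B ∘ₗ (Finsupp.lapply 1 : (M →₀ k) →ₗ[k] k) ∘ₗ
    (MonoidAlgebra.coeffLinearEquiv k).toLinearMap
  have hα : ∀ (m : M) (r : k), α (MonoidAlgebra.single m r) = if m = 1 then algebraMap k B r else 0 := by
    intro m r
    by_cases h : m = 1 <;> simp [α, h, Finsupp.single_apply]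
  refine ⟨α, ?_, ?_⟩
  · refine MonoidAlgebra.lhom_ext' fun m => LinearMap.ext_ring ?_
    simp only [LinearMap.comp_apply, MonoidAlgebra.lsingle_apply]
    change HopfRep.Comod.coact (k := k) (A := MonoidAlgebra k M) (α (MonoidAlgebra.single m 1)) =
      α.rTensor (MonoidAlgebra k M) (CoalgebraStruct.comul (R := k) (MonoidAlgebra.single m 1))
    have h1 : CoalgebraStruct.comul (R := k) (MonoidAlgebra.single m (1 : k)) =
        TensorProduct.tmul k (MonoidAlgebra.single m (1 : k)) (MonoidAlgebra.single m (1 : k)) := by
      rw [MonoidAlgebra.comul_single]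
      simp
    rw [h1, LinearMap.rTensor_tmul, hα]
    by_cases h : m = 1
    · subst h
      rw [if_pos rfl, map_one, GLin.IsCoactAlg.coact_one (k := k), Algebra.TensorProduct.one_def]
      rfl
    · rw [if_neg h, map_zero, TensorProduct.zero_tmul]
  · have := hα 1 1
    rw [if_pos rfl, map_one] at this
    exact this

end Groth.Agent.S12925
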