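import Groth.Statements.S12926

set_option autoImplicit false
universe u v
open HopfRep

namespace Groth.Agent.S12926

/-- Let `k` be a commutative ring and `A` a commutative bialgebra over `k`, flat as a `k`-module. If the
submodule `k · 1` of the regular comodule `A` has a complement `H` which is a subcomodule — the case
used when `A` is cosemisimple, i.e. every subcomodule of every comodule is a direct summand as a
comodule — then the trivial action of `Spec A` on `Spec k` is tame: there is a comodule map `α : A →
k`, for the regular coaction on `A` and the trivial coaction `r ↦ r ⊗ 1` on `k`, with `α 1 = 1`. -/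
theorem result
    (k : Type u) [CommRing k] (A : Type v) [CommRing A] [Bialgebra k A] [Module.Flat k A]
    (H : Submodule k A) (hH : HopfRep.IsSubcomod (k := k) (A := A) H)
    (hc : IsCompl (Submodule.span k {(1 : A)}) H) :
    ∃ α : A →ₗ[k] k, @Hoch.IsComodHom k _ A _ _ _ A _ _ _ k _ _ (HopfRep.Comod.trivial k A k) α ∧ α 1 = 1 := by
  let p := Submodule.projectionOnto (Submodule.span k {(1 : A)}) H hc
  let α : A →ₗ[k] k := CoalgebraStruct.counit (R := k) (A := A) ∘ₗ
    (Submodule.span k {(1 : A)}).subtype ∘ₗ p
  have hα0 : ∀ x ∈ H, α x = 0 := by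
    intro x hx
    have : p x = 0 := (Submodule.projectionOnto_apply_eq_zero_iff hc).2 hx
    change CoalgebraStruct.counit (R := k) ((p x : Submodule.span k {(1 : A)}) : A) = 0
    rw [this]
    simp
  have hα1 : α 1 = 1 := by
    have h1 : (1 : A) ∈ Submodule.span k {(1 : A)} := Submodule.mem_span_singleton_self _
    have := Submodule.projectionOnto_apply_of_mem_left hc h1
    change CoalgebraStruct.counit (R := k) ((p 1 : Submodule.span k {(1 : A)}) : A) = 1
    rw [this]
    simp
  refine ⟨α, ?_, hα1⟩
  have key : ∀ x : A, x ∈ Submodule.span k {(1 : A)} ⊔ H →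
      TensorProduct.tmul k (α x) (1 : A) = α.rTensor A (CoalgebraStruct.comul (R := k) x) := by
    intro x hx
    obtain ⟨y, hy, z, hz, rfl⟩ := Submodule.mem_sup.1 hx
    rw [map_add, map_add, map_add, TensorProduct.add_tmul]
    congr 1
    · obtain ⟨c, rfl⟩ := Submodule.mem_span_singleton.1 hy
      rw [map_smul, map_smul, map_smul, hα1, Bialgebra.comul_one, Algebra.TensorProduct.one_def,
        LinearMap.rTensor_tmul, hα1, TensorProduct.smul_tmul']
    · obtain ⟨w, hw⟩ := hH z hz
      rw [hα0 z hz]
      change _ = α.rTensor A (HopfRep.Comod.coact (k := k) (A := A) z)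
      rw [← hw, ← LinearMap.comp_apply, ← LinearMap.rTensor_comp]
      have : α ∘ₗ H.subtype = 0 := LinearMap.ext fun w => hα0 w w.2
      rw [this]
      simp
  refine LinearMap.ext fun x => ?_
  exact key x (by rw [hc.sup_eq_top]; trivial)

end Groth.Agent.S12926
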