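import Groth.Statements.S12931
import Mathlib.Algebra.BigOperators.Pi

set_option autoImplicit false
universe u v w
open HopfRep

namespace Groth.Agent.S12931

/-- Let `R` be a commutative ring, `Γ` a finite set and `T` a commutative `R`-algebra which is
connected: nonzero, with no idempotents other than `0` and `1`. Then `γ ↦ (evaluation at γ : (Γ → R)
→ R → T)` is a bijection from `Γ` onto the `R`-algebra maps `(Γ → R) → T`: every such map sends
exactly one of the indicator functions to `1` and the others to `0`. (Only the bijection of sets is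
stated; when `Γ` is a group, the compatibility with the group structures on both sides is not.) -/
theorem result
    (R : Type u) [CommRing R] (Γ : Type v) [Finite Γ]
    (T : Type w) [CommRing T] [Algebra R T] [Nontrivial T]
    (hT : ∀ e : T, IsIdempotentElem e → e = 0 ∨ e = 1) :
    Function.Bijective (fun γ : Γ => (Algebra.ofId R T).comp (Pi.evalAlgHom R (fun _ : Γ => R) γ)) := by
  classical
  have := Fintype.ofFinite Γ
  constructor
  · intro a b hab
    by_contra hne
    have h := DFunLike.congr_fun hab (Pi.single a 1)
    simp [Pi.single_eq_of_ne' hne] at h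
  · intro f
    have hid : ∀ γ : Γ, f (Pi.single γ 1) = 0 ∨ f (Pi.single γ 1) = 1 := by
      intro γ
      apply hT
      unfold IsIdempotentElem
      rw [← map_mul, ← Pi.single_mul, one_mul]
    have hsum : ∑ γ : Γ, f (Pi.single γ 1) = 1 := by
      rw [← map_sum]
      have : ∑ γ : Γ, (Pi.single γ (1 : R) : Γ → R) = 1 := by
        have := Finset.univ_sum_single (1 : Γ → R)
        simpa using this
      rw [this, map_one]
    obtain ⟨γ, hγ⟩ : ∃ γ : Γ, f (Pi.single γ 1) ≠ 0 := by
      by_contra hcon
      rw [Finset.sum_eq_zero (fun γ _ => by_contra fun h => hcon ⟨γ, h⟩)] at hsum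
      exact zero_ne_one hsum
    have hγ1 : f (Pi.single γ 1) = 1 := (hid γ).resolve_left hγ
    refine ⟨γ, ?_⟩
    ext x
    have h1 : f x = f (x * Pi.single γ 1) := by rw [map_mul, hγ1, mul_one]
    have h2 : x * Pi.single γ 1 = algebraMap R (Γ → R) (x γ) * Pi.single γ 1 := by
      ext y
      by_cases hy : y = γ
      · subst hy; simp
      · simp [Pi.single_eq_of_ne hy]
    rw [h1, h2, map_mul, hγ1, mul_one, AlgHom.commutes]
    simp [Algebra.ofId_apply]

end Groth.Agent.S12931
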