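import Groth.Statements.S12932
import Groth.Agent.InvTh.K672.Decomp
import Mathlib.RingTheory.Invariant.Basic
import Mathlib.RingTheory.Ideal.GoingUp
import Mathlib.GroupTheory.Coset.Basic
import Mathlib.Tactic

set_option autoImplicit false
universe u v
open scoped BigOperators
open InvTh

namespace Groth.Agent.S12932

/-- Let `B` be a commutative ring with an action of a finite group `Γ` by ring automorphisms, and call a
prime ideal `P` of `B` tame when the order of its inertia group `{γ | γ • x - x ∈ P for all x}` is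
not divisible by the characteristic of `B/P` (its ramification group is trivial). Then every prime
of `B` is tame if and only if the trace `b ↦ Σ_γ γ • b`, which takes values in the invariant ring
`B^Γ` and is `B^Γ`-linear, is onto `B^Γ` — equivalently, some element of `B` has trace `1`. -/
theorem result
    (B : Type u) [CommRing B] (Γ : Type v) [Group Γ] [Fintype Γ] [MulSemiringAction Γ B] :
    (∃ b : B, ∑ γ : Γ, γ • b = 1) ↔
      ∀ P : Ideal B, P.IsPrime → ((Nat.card (P.inertia Γ) : ℕ) : B ⧸ P) ≠ 0 := by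
  classical
  constructor
  · rintro ⟨b, hb⟩ P hP h0
    have h1 : ∑ γ : Γ, Ideal.Quotient.mk P (γ⁻¹ • b) = 1 := by
      rw [← map_sum, ← map_one (Ideal.Quotient.mk P), ← hb]
      congr 1
      exact Fintype.sum_equiv (Equiv.inv Γ) _ _ fun γ => rfl
    let T := P.inertia Γ
    have h2 : ∑ γ : Γ, Ideal.Quotient.mk P (γ⁻¹ • b) =
        ∑ qt : (Γ ⧸ T) × T, Ideal.Quotient.mk P (((qt.1.out * (qt.2 : Γ) : Γ))⁻¹ • b) := by
      refine (Fintype.sum_bijective (fun qt : (Γ ⧸ T) × T => (qt.1.out * (qt.2 : Γ) : Γ))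
        ⟨?_, ?_⟩ _ _ fun _ => rfl).symm
      · rintro ⟨q, t⟩ ⟨q', t'⟩ hqt
        have hq : ∀ (q : Γ ⧸ T) (t : T), ((q.out * (t : Γ) : Γ) : Γ ⧸ T) = q := by
          intro q t
          conv_rhs => rw [← QuotientGroup.out_eq' q]
          rw [QuotientGroup.eq, mul_inv_rev, inv_mul_cancel_right]
          exact T.inv_mem t.2
        have h5 : q = q' := by
          rw [← hq q t, ← hq q' t']
          exact congrArg _ hqt
        subst h5
        have h6 : (t : Γ) = t' := mul_left_cancel hqt
        rw [Subtype.ext h6]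
      · intro γ
        have h5 : ((γ : Γ ⧸ T).out)⁻¹ * γ ∈ T := by
          rw [← QuotientGroup.eq, QuotientGroup.out_eq']
        exact ⟨((γ : Γ ⧸ T), ⟨_, h5⟩), mul_inv_cancel_left _ _⟩
    rw [h2, Fintype.sum_prod_type] at h1
    have h3 : ∀ q : Γ ⧸ T, ∑ t : T, Ideal.Quotient.mk P (((q.out * (t : Γ) : Γ))⁻¹ • b) = 0 := by
      intro q
      have h4 : ∀ t : T, Ideal.Quotient.mk P (((q.out * (t : Γ) : Γ))⁻¹ • b) =
          Ideal.Quotient.mk P ((q.out : Γ)⁻¹ • b) := by
        intro t
        rw [mul_inv_rev, mul_smul, Ideal.Quotient.eq]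
        exact T.inv_mem t.2 _
      simp_rw [h4]
      rw [Finset.sum_const, Finset.card_univ, ← Nat.card_eq_fintype_card, nsmul_eq_mul, h0, zero_mul]
    simp_rw [h3] at h1
    rw [Finset.sum_const_zero] at h1
    have := Ideal.Quotient.nontrivial_iff.2 hP.ne_top
    exact zero_ne_one h1
  · intro h
    let A := FixedPoints.subring B Γ
    have : Algebra.IsInvariant A B Γ := ⟨fun b hb => ⟨⟨b, hb⟩, rfl⟩⟩
    have : Algebra.IsIntegral A B := Algebra.IsInvariant.isIntegral A B Γ
    let I : Ideal A :=
      { carrier := {a : A | ∃ b : B, ∑ γ : Γ, γ • b = a}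
        add_mem' := by
          rintro a a' ⟨b, hb⟩ ⟨b', hb'⟩
          refine ⟨b + b', ?_⟩
          simp only [smul_add, Finset.sum_add_distrib, hb, hb']
          rfl
        zero_mem' := ⟨0, by simp⟩
        smul_mem' := by
          rintro c a ⟨b, hb⟩
          refine ⟨(c : B) * b, ?_⟩
          have : ∀ γ : Γ, γ • ((c : B) * b) = (c : B) * γ • b := by
            intro γ
            rw [smul_mul']
            congr 1
            exact c.2 γ
          simp_rw [this]
          rw [← Finset.mul_sum, hb]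
          rfl }
    suffices hI : I = ⊤ by
      obtain ⟨b, hb⟩ := (Ideal.eq_top_iff_one I).1 hI
      exact ⟨b, hb⟩
    by_contra hI
    obtain ⟨m, hm, hIm⟩ := Ideal.exists_le_maximal I hI
    obtain ⟨P, hP, hPm⟩ := Ideal.exists_ideal_over_maximal_of_isIntegral (S := B) m (by
      intro a ha
      have : a = 0 := Subtype.ext ha
      rw [this]
      exact m.zero_mem)
    obtain ⟨b, hb⟩ := K672.Decomp.exists_sum_not_mem (Γ := Γ) P (h P hP.isPrime)
    apply hb
    have hfix : ∀ γ : Γ, γ • (∑ δ : Γ, δ • b) = ∑ δ : Γ, δ • b := by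
      intro γ
      rw [Finset.smul_sum]
      simp_rw [smul_smul]
      exact Fintype.sum_equiv (Equiv.mulLeft γ) _ _ (fun x => rfl)
    have h5 : (⟨∑ δ : Γ, δ • b, hfix⟩ : A) ∈ I := ⟨b, rfl⟩
    have h6 := hIm h5
    rw [← hPm] at h6
    exact h6

end Groth.Agent.S12932
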