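import Groth.Statements.S12934
import Mathlib.RingTheory.RootsOfUnity.PrimitiveRoots
import Mathlib.GroupTheory.Sylow
import Mathlib.Algebra.CharP.Lemmas
import Mathlib.Tactic

set_option autoImplicit false
universe u v
open InvTh

namespace Groth.Agent.S12934

open IsLocalRing

/-- Let `B` be a local commutative ring with maximal ideal `m` and residue field `k`, and `Γ` a finite
group acting faithfully on `B` by ring automorphisms, such that every element of `Γ` acts trivially
modulo `m` (the whole group is inertia) and maps each principal ideal of `B` into itself (every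
ideal is stable). Let `S ⊆ Γ` be the set of `γ` with `γ b ∈ b + b m` for all `b`. Then: if `k` has
characteristic `0`, `S = {1}`; if `k` has characteristic `p > 0`, `S` is (the underlying set of) a
Sylow `p`-subgroup; every commutator of `Γ` lies in `S`, so `Γ/S` is abelian; and whenever the class
of `γ` in `Γ/S` has order `n` (`γ^n ∈ S`, no smaller positive power in `S`), `k` contains a
primitive `n`-th root of unity. (The published statement also bounds the number of generators of
`Γ/S` by the number of generators of the monoid of principal ideals; that clause is not included.) -/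
theorem result
    (B : Type u) [CommRing B] [IsLocalRing B]
    (Γ : Type v) [Group Γ] [Finite Γ] [MulSemiringAction Γ B] [FaithfulSMul Γ B]
    (hin : ∀ (γ : Γ) (b : B), γ • b - b ∈ IsLocalRing.maximalIdeal B)
    (hst : ∀ (γ : Γ) (b : B), ∃ u : B, γ • b = b * u)
    (S : Set Γ)
    (hS : ∀ γ : Γ, γ ∈ S ↔ ∀ b : B, ∃ x ∈ IsLocalRing.maximalIdeal B, γ • b = b + b * x) :
    (ringChar (IsLocalRing.ResidueField B) = 0 → S = {1}) ∧
      (∀ (p : ℕ) [Fact p.Prime], ringChar (IsLocalRing.ResidueField B) = p →
        ∃ Q : Sylow p Γ, (Q : Set Γ) = S) ∧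
      (∀ γ δ : Γ, γ * δ * γ⁻¹ * δ⁻¹ ∈ S) ∧
      (∀ (γ : Γ) (n : ℕ), 0 < n → γ ^ n ∈ S → (∀ i : ℕ, 0 < i → i < n → γ ^ i ∉ S) →
        ∃ ζ : IsLocalRing.ResidueField B, IsPrimitiveRoot ζ n) := by
  cases nonempty_fintype Γ
  classical
  choose u hu using hst
  let res := residue B
  have hres : ∀ v w : B, res v = res w ↔ v - w ∈ maximalIdeal B := by
    intro v w
    rw [← sub_eq_zero, ← map_sub]
    exact Ideal.Quotient.eq_zero_iff_mem
  have hcancel : ∀ b : B, b ≠ 0 → ∀ v w : B, b * v = b * w → res v = res w := by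
    intro b hb v w h
    rw [hres, mem_maximalIdeal, mem_nonunits_iff]
    intro hunit
    apply hb
    have h2 : b * (v - w) = 0 := by rw [mul_sub, h, sub_self]
    exact (hunit.mul_left_eq_zero).1 h2
  have hresγ : ∀ (γ : Γ) (b : B), res (γ • b) = res b := fun γ b => (hres _ _).2 (hin γ b)
  let θ : {b : B // b ≠ 0} → Γ →* ResidueField B := fun b =>
    { toFun := fun γ => res (u γ b)
      map_one' := by
        rw [← map_one res]
        apply hcancel b b.2
        rw [← hu, one_smul, mul_one]
      map_mul' := by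
        intro γ δ
        rw [← map_mul]
        have h1 : res (u γ b * u δ b) = res (u γ b * γ • u δ b) := by
          rw [map_mul, map_mul, hresγ]
        rw [h1]
        apply hcancel b b.2
        rw [← hu, mul_smul, hu δ, smul_mul', hu γ b, mul_assoc] }
  have hθ : ∀ b γ, θ b γ = res (u γ b) := fun b γ => rfl
  let Θ : Γ →* ({b : B // b ≠ 0} → (ResidueField B)ˣ) := MonoidHom.pi fun b => (θ b).toHomUnits
  let N : Subgroup Γ := Θ.ker
  have hN : ∀ γ, γ ∈ N ↔ ∀ b, θ b γ = 1 := by
    intro γ
    change Θ γ = 1 ↔ _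
    rw [funext_iff]
    refine forall_congr' fun b => ?_
    rw [Units.ext_iff]
    rfl
  have hNS : (N : Set Γ) = S := by
    ext γ
    rw [SetLike.mem_coe, hN, hS]
    constructor
    · intro h b
      by_cases hb : b = 0
      · exact ⟨0, (maximalIdeal B).zero_mem, by simp [hb]⟩
      · refine ⟨u γ b - 1, ?_, by rw [hu γ b]; ring⟩
        rw [← hres, map_one]
        exact h ⟨b, hb⟩
    · rintro h ⟨b, hb⟩
      obtain ⟨x, hx, hxb⟩ := h b
      rw [hθ, ← map_one res]
      have h1 : res (u γ b) = res (1 + x) := by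
        apply hcancel b hb
        rw [← hu, hxb]; ring
      rw [h1, hres]
      simpa using hx
  -- a subgroup of `N` of order prime to the residue characteristic is trivial
  have hkey : ∀ H : Subgroup Γ, H ≤ N → ((Nat.card H : ℕ) : ResidueField B) ≠ 0 → H = ⊥ := by
    intro H hH hcard
    have hunit : IsUnit ((Nat.card H : ℕ) : B) := by
      have : IsUnit (res ((Nat.card H : ℕ) : B)) := by
        rw [map_natCast]
        exact isUnit_iff_ne_zero.2 hcard
      exact (isUnit_map_iff res _).1 this
    have h1 : ∀ b : B, ((Nat.card H : ℕ) : B) * b = ∑ h : H, (h : Γ) • b := by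
      intro b
      by_contra hne
      set c : B := ((Nat.card H : ℕ) : B) * b - ∑ h : H, (h : Γ) • b with hc
      have hc0 : c ≠ 0 := sub_ne_zero.2 hne
      have h2 : ∑ h : H, (h : Γ) • c = 0 := by
        have h3 : ∀ h : H, (h : Γ) • c = ((Nat.card H : ℕ) : B) * ((h : Γ) • b) -
            ∑ h : H, (h : Γ) • b := by
          intro h
          rw [hc, smul_sub, smul_mul']
          congr 1
          · congr 1
            exact map_natCast (MulSemiringAction.toRingHom Γ B (h : Γ)) _
          · rw [Finset.smul_sum]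
            simp_rw [smul_smul]
            exact Fintype.sum_equiv (Equiv.mulLeft h) _ _ (fun x => rfl)
        simp_rw [h3]
        rw [Finset.sum_sub_distrib, ← Finset.mul_sum, Finset.sum_const, Finset.card_univ,
          ← Nat.card_eq_fintype_card, nsmul_eq_mul, sub_self]
      have h4 : ∑ h : H, (h : Γ) • c = c * ∑ h : H, u (h : Γ) c := by
        rw [Finset.mul_sum]
        exact Finset.sum_congr rfl fun h _ => hu _ _
      have h5 : res (∑ h : H, u (h : Γ) c) = ((Nat.card H : ℕ) : ResidueField B) := by
        rw [map_sum]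
        have : ∀ h : H, res (u (h : Γ) c) = 1 := fun h => (hN _).1 (hH h.2) ⟨c, hc0⟩
        simp_rw [this]
        simp
      have h6 : IsUnit (∑ h : H, u (h : Γ) c) := by
        apply (isUnit_map_iff res _).1
        rw [h5]
        exact isUnit_iff_ne_zero.2 hcard
      rw [h4] at h2
      exact hc0 ((h6.mul_left_eq_zero).1 h2)
    rw [Subgroup.eq_bot_iff_forall]
    intro h hh
    apply FaithfulSMul.eq_of_smul_eq_smul (M := Γ) (α := B)
    intro b
    rw [one_smul]
    apply hunit.mul_left_cancel
    rw [h1 b]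
    have h7 : ((Nat.card H : ℕ) : B) * h • b = h • (((Nat.card H : ℕ) : B) * b) := by
      rw [smul_mul']
      congr 1
      exact (map_natCast (MulSemiringAction.toRingHom Γ B (h : Γ)) _).symm
    rw [h7, h1 b, Finset.smul_sum]
    simp_rw [smul_smul]
    exact Fintype.sum_equiv (Equiv.mulLeft (⟨h, hh⟩ : H)) _ _ (fun x => rfl)
  refine ⟨fun h0 => ?_, fun p hp hchar => ?_, fun γ δ => ?_, fun γ n hn hγn hmin => ?_⟩
  · have hcz : CharP (ResidueField B) 0 := h0 ▸ ringChar.charP _
    have := CharP.charP_to_charZero (ResidueField B)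
    have h1 : N = ⊥ := hkey N le_rfl (Nat.cast_ne_zero.2 Nat.card_pos.ne')
    rw [← hNS, h1, Subgroup.coe_bot]
  · have hcp : CharP (ResidueField B) p := hchar ▸ ringChar.charP _
    have hpN : IsPGroup p N := by
      have hpow : ∀ {ℓ : ℕ}, ℓ.Prime → ℓ ∣ Nat.card N → ℓ = p := by
        intro ℓ hℓ hdvd
        have : Fact ℓ.Prime := ⟨hℓ⟩
        obtain ⟨x, hx⟩ := exists_prime_orderOf_dvd_card' ℓ hdvd
        by_contra hne
        have hbot : Subgroup.zpowers (x : Γ) = ⊥ := by
          apply hkey
          · rw [Subgroup.zpowers_le]; exact x.2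
          · rw [Nat.card_zpowers, Subgroup.orderOf_coe, hx]
            intro h
            have h2 := (CharP.cast_eq_zero_iff (ResidueField B) p ℓ).1 h
            exact hne ((Nat.prime_dvd_prime_iff_eq hp.out hℓ).1 h2).symm
        rw [Subgroup.zpowers_eq_bot] at hbot
        have h3 : x = 1 := Subtype.ext hbot
        rw [h3, orderOf_one] at hx
        exact hℓ.one_lt.ne hx
      refine IsPGroup.of_card (n := (Nat.card N).primeFactorsList.length) ?_
      exact Nat.eq_prime_pow_of_unique_prime_dvd Nat.card_pos.ne' hpow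
    have hidx : ¬ p ∣ N.index := by
      intro hdvd
      rw [Subgroup.index_eq_card] at hdvd
      obtain ⟨q, hq⟩ := exists_prime_orderOf_dvd_card' p hdvd
      obtain ⟨γ, rfl⟩ := QuotientGroup.mk_surjective q
      have h1 : (γ : Γ ⧸ N) ^ p = 1 := by rw [← hq]; exact pow_orderOf_eq_one _
      rw [← QuotientGroup.mk_pow, QuotientGroup.eq_one_iff] at h1
      have h2 : γ ∈ N := by
        rw [hN] at h1 ⊢
        intro b
        have h3 := h1 b
        rw [map_pow] at h3
        have h4 : (θ b γ - 1) ^ p = 0 := by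
          rw [sub_pow_char, h3, one_pow, sub_self]
        exact sub_eq_zero.1 (pow_eq_zero_iff hp.out.ne_zero |>.1 h4)
      rw [(QuotientGroup.eq_one_iff γ).2 h2, orderOf_one] at hq
      exact hp.out.one_lt.ne hq
    exact ⟨hpN.toSylow hidx, hNS⟩
  · rw [← hNS, SetLike.mem_coe]
    change Θ _ = 1
    rw [map_mul, map_mul, map_mul, map_inv, map_inv, mul_comm (Θ γ) (Θ δ), mul_inv_cancel_right,
      mul_inv_cancel]
  · have : NeZero n := ⟨hn.ne'⟩
    obtain ⟨ζ, hζ⟩ := IsCyclic.exists_ofOrder_eq_natCard (α := rootsOfUnity n (ResidueField B))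
    set m := Nat.card (rootsOfUnity n (ResidueField B)) with hm
    have hm0 : 0 < m := Nat.card_pos
    have hγn' : Θ (γ ^ n) = 1 := by
      rw [← hNS] at hγn
      exact hγn
    have h1 : γ ^ m ∈ S := by
      rw [← hNS, SetLike.mem_coe]
      change Θ _ = 1
      rw [map_pow]
      funext b
      rw [Pi.pow_apply, Pi.one_apply]
      have h2 : Θ γ b ∈ rootsOfUnity n (ResidueField B) := by
        rw [mem_rootsOfUnity, ← Pi.pow_apply, ← map_pow, hγn', Pi.one_apply]
      have h3 : (⟨Θ γ b, h2⟩ : rootsOfUnity n (ResidueField B)) ^ m = 1 := pow_card_eq_one'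
      exact congrArg Subtype.val h3
    have hmn : m ∣ n := by
      rw [← hζ]
      apply orderOf_dvd_of_pow_eq_one
      exact Subtype.ext ((mem_rootsOfUnity n _).1 ζ.2)
    have hmn' : m = n := by
      by_contra hne
      exact hmin m hm0 (lt_of_le_of_ne (Nat.le_of_dvd hn hmn) hne) h1
    refine ⟨((ζ : (ResidueField B)ˣ) : ResidueField B), ?_⟩
    rw [IsPrimitiveRoot.iff_orderOf, orderOf_units, Subgroup.orderOf_coe, hζ, hmn']

end Groth.Agent.S12934
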