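import Groth.Statements.S12935
import Groth.Agent.InvTh.K672.Conj
import Mathlib.RingTheory.Invariant.Basic
import Mathlib.Tactic

set_option autoImplicit false
universe u v
open InvTh

namespace Groth.Agent.S12935

open scoped Pointwise in
/-- Let `B` be a commutative ring with an action of a finite group `Γ` by ring automorphisms, `Ω` a
normal subgroup of `Γ`, `B^Ω` the subring of `Ω`-invariants (stable under `Γ`, with the induced
action of `Γ/Ω`), and `P` a prime ideal of `B`. Then (decomposition groups) an element `γ` maps `P ∩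
B^Ω` onto itself if and only if `γω` maps `P` onto itself for some `ω ∈ Ω`; and (inertia groups) `γ`
fixes `B^Ω` modulo `P ∩ B^Ω` if and only if `γω` fixes `B` modulo `P` for some `ω ∈ Ω`. In other
words the decomposition and inertia groups of `P ∩ B^Ω` under `Γ/Ω` are the images of those of `P`.
(The published statement also asserts the same for the ramification groups, the Sylow subgroups of
the inertia groups at the residue characteristic; that clause is not included here.) -/
theorem result
    (B : Type u) [CommRing B] (Γ : Type v) [Group Γ] [Finite Γ] [MulSemiringAction Γ B]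
    (Ω : Subgroup Γ) [Ω.Normal] (P : Ideal B) [P.IsPrime] (γ : Γ) :
    ((∀ x : B, (∀ ω ∈ Ω, ω • x = x) → (x ∈ P ↔ γ • x ∈ P)) ↔
        ∃ ω ∈ Ω, ∀ x : B, x ∈ P ↔ (γ * ω) • x ∈ P) ∧
      ((∀ x : B, (∀ ω ∈ Ω, ω • x = x) → γ • x - x ∈ P) ↔
        ∃ ω ∈ Ω, ∀ x : B, (γ * ω) • x - x ∈ P) := by
  constructor
  · constructor
    · intro h
      have : Algebra.IsInvariant (FixedPoints.subring B Ω) B Ω :=
        ⟨fun b hb => ⟨⟨b, hb⟩, rfl⟩⟩
      obtain ⟨ω, hω⟩ := Algebra.IsInvariant.exists_smul_of_under_eq (FixedPoints.subring B Ω) B Ω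
        P (γ⁻¹ • P) (by
          ext c
          change (c : B) ∈ P ↔ (c : B) ∈ γ⁻¹ • P
          rw [Ideal.mem_inv_pointwise_smul_iff]
          exact h c fun ω hω => c.2 ⟨ω, hω⟩)
      refine ⟨ω, ω.2, fun x => ?_⟩
      have h1 : P = (γ * (ω : Γ)) • P := by
        have h2 : (ω : Γ) • P = γ⁻¹ • P := hω.symm
        rw [mul_smul, h2, smul_inv_smul]
      conv_rhs => rw [h1]
      rw [Ideal.smul_mem_pointwise_smul_iff]
    · rintro ⟨ω, hω, h⟩ x hx
      rw [h x, mul_smul, hx ω hω]
  · constructor
    · intro h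
      obtain ⟨ω, hω⟩ := K672.Conj.exists_smul_eq (Γ := Ω)
        ((Ideal.Quotient.mk P).comp (MulSemiringAction.toRingHom Γ B γ)) (Ideal.Quotient.mk P)
        (fun b hb => by
          change Ideal.Quotient.mk P (γ • b) = Ideal.Quotient.mk P b
          rw [Ideal.Quotient.eq]
          exact h b fun ω hω => hb ⟨ω, hω⟩)
      refine ⟨ω, ω.2, fun x => ?_⟩
      have := hω x
      change Ideal.Quotient.mk P x = Ideal.Quotient.mk P (γ • ((ω : Γ) • x)) at this
      rw [mul_smul, ← Ideal.Quotient.eq, this]
    · rintro ⟨ω, hω, h⟩ x hx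
      have := h x
      rwa [mul_smul, hx ω hω] at this

end Groth.Agent.S12935
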