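import Groth.Statements.S12936
import Mathlib.RingTheory.Ideal.Pointwise
import Mathlib.RingTheory.Ideal.Operations
import Mathlib.GroupTheory.QuotientGroup.Basic
import Mathlib.Tactic

set_option autoImplicit false
universe u v
open InvTh

namespace Groth.Agent.S12936

open scoped Pointwise in
/-- Let `B` be a commutative ring with an action of a finite group `Γ` by ring automorphisms and `P` a
maximal ideal of `B`, with decomposition group `D_P = {γ | γP = P}` and decomposition ring `D =
B^{D_P}`. Then `D = B^Γ + (P ∩ D)`: every element of `B` fixed by `D_P` is congruent modulo `P` to a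
`Γ`-invariant element. Hence the residue field of `D` at `P ∩ D` is that of `B^Γ` at `P ∩ B^Γ`; for
an arbitrary prime `P` the same equality of residue fields follows by localising at `P ∩ B^Γ`. (The
published statement prints this residue field as `k(P)`; the proof establishes the equality with the
residue field of `B^Γ` stated here.) -/
theorem result
    (B : Type u) [CommRing B] (Γ : Type v) [Group Γ] [Finite Γ] [MulSemiringAction Γ B]
    (P : Ideal B) [P.IsMaximal] (x : B)
    (hx : ∀ γ : Γ, (∀ y : B, y ∈ P ↔ γ • y ∈ P) → γ • x = x) :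
    ∃ c : B, (∀ γ : Γ, γ • c = c) ∧ x - c ∈ P := by
  cases nonempty_fintype Γ
  classical
  let D : Subgroup Γ := MulAction.stabilizer Γ P
  have hD : ∀ γ, γ ∈ D ↔ γ • P = P := fun γ => Iff.rfl
  have hxD : ∀ γ ∈ D, γ • x = x := by
    intro γ hγ
    apply hx
    intro y
    conv_rhs => rw [← (hD γ).1 hγ]
    rw [Ideal.smul_mem_pointwise_smul_iff]
  -- an element `e'` congruent to one modulo `P` and in the other conjugates
  let J : Ideal B := Finset.inf (Finset.univ.filter (fun γ : Γ => γ • P ≠ P)) (fun γ => γ • P)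
  have hJ : ¬ J ≤ P := by
    rw [Ideal.IsPrime.inf_le' inferInstance]
    rintro ⟨γ, hγ, hγ'⟩
    have hmax : (γ • P).IsMaximal := by
      rw [Ideal.pointwise_smul_eq_comap]
      exact Ideal.comap_isMaximal_of_equiv _
    exact (Finset.mem_filter.1 hγ).2 (hmax.eq_of_le (Ideal.IsMaximal.ne_top inferInstance) hγ')
  obtain ⟨e', he'J, he'P⟩ : ∃ e' ∈ J, e' - 1 ∈ P := by
    obtain ⟨a, haJ, haP⟩ := SetLike.not_le_iff_exists.1 hJ
    have hu : Ideal.Quotient.mk P a ≠ 0 := by
      rwa [Ne, Ideal.Quotient.eq_zero_iff_mem]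
    letI := Ideal.Quotient.field P
    obtain ⟨b, hb⟩ := Ideal.Quotient.mk_surjective ((Ideal.Quotient.mk P a)⁻¹)
    refine ⟨b * a, J.mul_mem_left b haJ, ?_⟩
    rw [← Ideal.Quotient.eq_zero_iff_mem, map_sub, map_mul, hb, map_one, inv_mul_cancel₀ hu, sub_self]
  have he'J' : ∀ γ : Γ, γ • P ≠ P → e' ∈ γ • P := fun γ hγ =>
    (Finset.inf_le (Finset.mem_filter.mpr ⟨Finset.mem_univ γ, hγ⟩) : J ≤ γ • P) he'J
  -- a `D`-fixed such element
  let e : B := ∏ δ : D, (δ : Γ) • e'
  have heD : ∀ γ ∈ D, γ • e = e := by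
    intro γ hγ
    simp only [e, Finset.smul_prod', smul_smul]
    exact Fintype.prod_equiv (Equiv.mulLeft (⟨γ, hγ⟩ : D)) _ _ (fun x => rfl)
  have heP : e - 1 ∈ P := by
    rw [← Ideal.Quotient.eq_zero_iff_mem, map_sub, map_one, sub_eq_zero]
    simp only [e, map_prod]
    refine Finset.prod_eq_one fun δ _ => ?_
    rw [← sub_eq_zero, ← map_one (Ideal.Quotient.mk P), ← map_sub, Ideal.Quotient.eq_zero_iff_mem]
    have : (δ : Γ) • e' - 1 = (δ : Γ) • (e' - 1) := by rw [smul_sub, smul_one]
    rw [this, ← (hD δ).1 δ.2, Ideal.smul_mem_pointwise_smul_iff]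
    exact he'P
  have heJ : ∀ γ : Γ, γ • P ≠ P → e ∈ γ • P := by
    intro γ hγ
    refine Ideal.mem_of_dvd _ (Finset.dvd_prod_of_mem _ (Finset.mem_univ (1 : D))) ?_
    rw [Subgroup.coe_one, one_smul]
    exact he'J' γ hγ
  let y : B := x * e
  have hyD : ∀ γ ∈ D, γ • y = y := fun γ hγ => by
    simp only [y, smul_mul', hxD γ hγ, heD γ hγ]
  have hyP : y - x ∈ P := by
    have : y - x = x * (e - 1) := by simp only [y]; ring
    rw [this]; exact P.mul_mem_left x heP
  have hyJ : ∀ γ : Γ, γ • P ≠ P → γ • y ∈ P := by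
    intro γ hγ
    have h1 : γ⁻¹ • P ≠ P := fun h => hγ (by rw [← h, smul_inv_smul, h])
    have h2 : y ∈ γ⁻¹ • P := Ideal.mul_mem_left _ x (heJ _ h1)
    rwa [Ideal.mem_inv_pointwise_smul_iff] at h2
  -- the relative trace
  let t : Γ ⧸ D → B := Quotient.lift (fun γ : Γ => γ • y) (by
    intro a b hab
    have h : a⁻¹ * b ∈ D := QuotientGroup.leftRel_apply.1 hab
    have h2 := hyD _ h
    change a • y = b • y
    conv_lhs => rw [← h2]
    rw [smul_smul, mul_inv_cancel_left])
  have ht : ∀ γ : Γ, t (γ : Γ ⧸ D) = γ • y := fun γ => rfl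
  refine ⟨∑ q : Γ ⧸ D, t q, fun γ => ?_, ?_⟩
  · rw [Finset.smul_sum]
    refine Fintype.sum_equiv (MulAction.toPerm γ) _ _ fun q => ?_
    induction q using QuotientGroup.induction_on with
    | H δ =>
      change γ • t (δ : Γ ⧸ D) = t ((γ * δ : Γ) : Γ ⧸ D)
      rw [ht, ht, mul_smul]
  · have h1 : ∑ q : Γ ⧸ D, t q - y ∈ P := by
      rw [← Finset.add_sum_erase _ t (Finset.mem_univ ((1 : Γ) : Γ ⧸ D)), ht, one_smul,
        add_sub_cancel_left]
      refine Ideal.sum_mem _ fun q hq => ?_
      induction q using QuotientGroup.induction_on with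
      | H δ =>
        rw [ht]
        apply hyJ
        intro h
        apply (Finset.mem_erase.1 hq).1
        rw [eq_comm, QuotientGroup.eq, inv_one, one_mul]
        exact (hD δ).2 h
    have : x - ∑ q : Γ ⧸ D, t q = -(y - x) - (∑ q : Γ ⧸ D, t q - y) := by ring
    rw [this]
    exact P.sub_mem (P.neg_mem hyP) h1

end Groth.Agent.S12936
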