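import Groth.Statements.S12937
import Groth.Agent.S12936
import Groth.Agent.InvTh.K672.Conj
import Mathlib.RingTheory.Invariant.Basic
import Mathlib.RingTheory.Ideal.GoingUp
import Mathlib.Algebra.Polynomial.Lifts
import Mathlib.FieldTheory.Separable
import Mathlib.FieldTheory.Minpoly.Field
import Mathlib.Tactic

set_option autoImplicit false
universe u v
open InvTh

namespace Groth.Agent.S12937

open scoped Pointwise
open Polynomial

section

variable {B : Type u} [CommRing B] {Γ : Type v} [Group Γ] [Finite Γ] [MulSemiringAction Γ B]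
  (P : Ideal B) [P.IsMaximal]

omit [Finite Γ] [P.IsMaximal] in
theorem smul_mem_iff {δ : Γ} (hδ : δ • P = P) (y : B) : δ • y ∈ P ↔ y ∈ P := by
  conv_lhs => rw [← hδ]
  rw [Ideal.smul_mem_pointwise_smul_iff]

omit [Finite Γ] [P.IsMaximal] in
theorem inertia_conj {δ : Γ} (hδ : δ • P = P) {τ : Γ} (hτ : τ ∈ P.inertia Γ) :
    δ⁻¹ * τ * δ ∈ P.inertia Γ := by
  intro x
  have h := hτ (δ • x)
  have h2 : δ⁻¹ • (τ • (δ • x) - δ • x) ∈ P :=
    (smul_mem_iff P (by rw [inv_smul_eq_iff, hδ]) _).2 h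
  rwa [smul_sub, inv_smul_smul, smul_smul, smul_smul] at h2

omit [Finite Γ] [P.IsMaximal] in
theorem smul_fixed {δ : Γ} (hδ : δ • P = P) {u : B} (hu : ∀ τ ∈ P.inertia Γ, τ • u = u) :
    ∀ τ ∈ P.inertia Γ, τ • (δ • u) = δ • u := by
  intro τ hτ
  have h := hu _ (inertia_conj P hδ hτ)
  rw [mul_assoc, mul_smul, mul_smul, inv_smul_eq_iff] at h
  exact h

/-- The invariants of the decomposition group on the residue field of the inertia ring come from `B^Γ`. -/
theorem exists_fixed {y : B} (hyT : ∀ τ ∈ P.inertia Γ, τ • y = y)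
    (hyD : ∀ δ : Γ, δ • P = P → δ • y - y ∈ P) :
    ∃ c : B, (∀ γ : Γ, γ • c = c) ∧ y - c ∈ P := by
  cases nonempty_fintype Γ
  classical
  let T : Subgroup Γ := P.inertia Γ
  let D : Subgroup Γ := MulAction.stabilizer Γ P
  have hD : ∀ δ, δ ∈ D ↔ δ • P = P := fun δ => Iff.rfl
  let Q := D ⧸ (T.subgroupOf D)
  let A := FixedPoints.subring B T
  have hA : ∀ u : A, ∀ τ ∈ P.inertia Γ, τ • (u : B) = u := fun u τ hτ => u.2 ⟨τ, hτ⟩
  let δ_ : Q → Γ := fun q => (q.out : Γ)
  -- the relative trace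
  let tr : B → B := fun u => ∑ q : Q, δ_ q • u
  have hδq : ∀ (δ : Γ) (hδ : δ ∈ D) (q : Q), ∃ τ ∈ T, δ * δ_ q = δ_ ((⟨δ, hδ⟩ : D) • q) * τ := by
    intro δ hδ q
    refine ⟨(δ_ ((⟨δ, hδ⟩ : D) • q))⁻¹ * (δ * δ_ q), ?_, by rw [mul_inv_cancel_left]⟩
    have h1 : ((((⟨δ, hδ⟩ : D) • q).out)⁻¹ * ((⟨δ, hδ⟩ : D) * q.out) : D) ∈ T.subgroupOf D := by
      rw [← QuotientGroup.eq, QuotientGroup.out_eq']
      conv_lhs => rw [← QuotientGroup.out_eq' q]
      rfl
    exact h1
  have htrD : ∀ u : B, (∀ τ ∈ T, τ • u = u) → ∀ δ : Γ, δ • P = P → δ • tr u = tr u := by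
    intro u hu δ hδ
    simp only [tr, Finset.smul_sum]
    refine Fintype.sum_equiv (MulAction.toPerm (⟨δ, hδ⟩ : D)) _ _ fun q => ?_
    obtain ⟨τ, hτ, h⟩ := hδq δ hδ q
    rw [smul_smul, h, mul_smul, hu τ hτ]
    rfl
  -- an element of nonzero trace
  obtain ⟨u, hu⟩ : ∃ u : A, tr u ∉ P := by
    by_contra hcon
    push Not at hcon
    let χ : Q → (A →* B ⧸ P) := fun q =>
      (((Ideal.Quotient.mk P).comp (MulSemiringAction.toRingHom Γ B (δ_ q))).comp A.subtype :
        A →+* B ⧸ P)
    have hχ : ∀ q u, χ q u = Ideal.Quotient.mk P (δ_ q • (u : B)) := fun q u => rfl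
    have hinj : Function.Injective χ := by
      intro q q' h
      have h1 : ∀ u : B, (∀ τ : T, τ • u = u) →
          Ideal.Quotient.mk P (((δ_ q')⁻¹ * δ_ q) • u) = Ideal.Quotient.mk P u := by
        intro u hu
        have h2 := DFunLike.congr_fun h (⟨u, hu⟩ : A)
        rw [hχ, hχ, Ideal.Quotient.eq] at h2
        rw [Ideal.Quotient.eq]
        have h3 : (δ_ q')⁻¹ • (δ_ q • u - δ_ q' • u) ∈ P := by
          refine (smul_mem_iff P ?_ _).2 h2
          exact (inv_mem q'.out.2 : (δ_ q')⁻¹ ∈ D)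
        rwa [smul_sub, inv_smul_smul, smul_smul] at h3
      obtain ⟨τ, hτ⟩ := K672.Conj.exists_smul_eq (Γ := T) (Ideal.Quotient.mk P)
        ((Ideal.Quotient.mk P).comp (MulSemiringAction.toRingHom Γ B ((δ_ q')⁻¹ * δ_ q)))
        (fun b hb => (h1 b hb).symm)
      have h4 : (δ_ q')⁻¹ * δ_ q ∈ T := by
        intro x
        have h5 := hτ x
        change Ideal.Quotient.mk P (((δ_ q')⁻¹ * δ_ q) • x) = Ideal.Quotient.mk P ((τ : Γ) • x) at h5
        change _ ∈ P
        rw [← Ideal.Quotient.eq, h5, Ideal.Quotient.eq]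
        exact τ.2 x
      have h6 : ((q'.out)⁻¹ * q.out : D) ∈ T.subgroupOf D := h4
      rw [← QuotientGroup.eq, QuotientGroup.out_eq', QuotientGroup.out_eq'] at h6
      exact h6.symm
    have h0 : ∑ q : Q, (1 : B ⧸ P) • (χ q : A → B ⧸ P) = 0 := by
      funext u
      have := hcon u
      rw [← Ideal.Quotient.eq_zero_iff_mem] at this
      simp only [tr, map_sum] at this
      simp only [Finset.sum_apply, one_smul, hχ]
      exact this
    have hli := (linearIndependent_monoidHom A (B ⧸ P)).comp χ hinj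
    have := (Fintype.linearIndependent_iff.1 hli) (fun _ => 1) h0 ((1 : D) : Q)
    exact one_ne_zero this
  have htrP : tr u * y - tr (u * y) ∈ P := by
    simp only [tr, Finset.sum_mul, ← Finset.sum_sub_distrib]
    refine Ideal.sum_mem _ fun q _ => ?_
    have : δ_ q • (u : B) * y - δ_ q • ((u : B) * y) = -(δ_ q • (u : B) * (δ_ q • y - y)) := by
      rw [smul_mul']; ring
    rw [this]
    exact P.neg_mem (P.mul_mem_left _ (hyD _ q.out.2))
  have hstab : ∀ γ : Γ, (∀ y : B, y ∈ P ↔ γ • y ∈ P) → γ • P = P := by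
    intro γ hγ
    ext z
    rw [Ideal.mem_pointwise_smul_iff_inv_smul_mem, hγ (γ⁻¹ • z), smul_inv_smul]
  obtain ⟨t, ht, htP⟩ := Groth.Agent.S12936.result B Γ P (tr u)
    (fun γ hγ => htrD u (hA u) γ (hstab γ hγ))
  obtain ⟨w, hw, hwP⟩ := Groth.Agent.S12936.result B Γ P (tr (u * y))
    (fun γ hγ => htrD (u * y) (fun τ hτ => by rw [smul_mul', hA u τ hτ, hyT τ hτ]) γ (hstab γ hγ))
  have htP' : t ∉ P := fun h => hu (by
    have := P.add_mem htP h
    rwa [sub_add_cancel] at this)
  -- inverse of `t` in the invariants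
  obtain ⟨d, hd, hdP⟩ : ∃ d : B, (∀ γ : Γ, γ • d = d) ∧ d * t - 1 ∈ P := by
    let A' := FixedPoints.subring B Γ
    have : Algebra.IsInvariant A' B Γ := ⟨fun b hb => ⟨⟨b, hb⟩, rfl⟩⟩
    have : Algebra.IsIntegral A' B := Algebra.IsInvariant.isIntegral A' B Γ
    have hmax : (P.comap (algebraMap A' B)).IsMaximal :=
      Ideal.isMaximal_comap_of_isIntegral_of_isMaximal P
    obtain ⟨d, i, hi, hdi⟩ := hmax.exists_inv (x := (⟨t, ht⟩ : A')) htP'
    refine ⟨d, d.2, ?_⟩
    have h1 : (d : B) * t + i = 1 := congrArg Subtype.val hdi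
    have h2 : (d : B) * t - 1 = -i := by rw [← h1]; ring
    rw [h2]
    exact P.neg_mem hi
  refine ⟨d * w, fun γ => by rw [smul_mul', hd, hw], ?_⟩
  have : y - d * w = -(y * (d * t - 1)) - d * (y * (tr u - t)) + d * (tr u * y - tr (u * y)) +
      d * (tr (u * y) - w) := by ring
  rw [this]
  exact P.add_mem (P.add_mem (P.sub_mem (P.neg_mem (P.mul_mem_left _ hdP))
    (P.mul_mem_left _ (P.mul_mem_left _ htP))) (P.mul_mem_left _ htrP)) (P.mul_mem_left _ hwP)

end

/-- Let `B` be a commutative ring with an action of a finite group `Γ` by ring automorphisms, `P` a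
maximal ideal of `B`, `T = {γ | γ x - x ∈ P for all x}` its inertia group, `B^T` the inertia ring
and `B^Γ` the ring of invariants, so that `k(P ∩ B^Γ) ⊆ k(P ∩ B^T) ⊆ k(P) = B/P`. Then `k(P ∩ B^T)`
is the largest separable extension of `k(P ∩ B^Γ)` inside `k(P)`: an element `x` of `B` is congruent
modulo `P` to a `T`-invariant element if and only if `x mod P` is a root of some polynomial with
`Γ`-invariant coefficients whose reduction modulo `P` is separable. (The published statement is for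
every prime ideal `P`, as an equality of residue fields; this row takes `P` maximal, the case to
which the published proof reduces by localising at `P ∩ B^Γ`.) -/
theorem result
    (B : Type u) [CommRing B] (Γ : Type v) [Group Γ] [Finite Γ] [MulSemiringAction Γ B]
    (P : Ideal B) [P.IsMaximal] (x : B) :
    (∃ y : B, (∀ γ : Γ, γ ∈ P.inertia Γ → γ • y = y) ∧ x - y ∈ P) ↔
      ∃ g : Polynomial B, (∀ (i : ℕ) (γ : Γ), γ • g.coeff i = g.coeff i) ∧
        (g.map (Ideal.Quotient.mk P)).Separable ∧ Polynomial.aeval x g ∈ P := by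
  cases nonempty_fintype Γ
  classical
  let K := B ⧸ P
  let mk : B →+* B ⧸ P := Ideal.Quotient.mk P
  let : Field (B ⧸ P) := Ideal.Quotient.field P
  constructor
  · rintro ⟨y, hyT, hxy⟩
    let D : Subgroup Γ := MulAction.stabilizer Γ P
    have hD : ∀ δ, δ ∈ D ↔ δ • P = P := fun δ => Iff.rfl
    let O : Finset (B ⧸ P) := Finset.univ.image (fun δ : D => mk ((δ : Γ) • y))
    let h : (B ⧸ P)[X] := ∏ c ∈ O, (X - C c)
    have hsep : h.Separable := by
      rw [separable_prod_X_sub_C_iff']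
      intro a _ b _ hab
      exact hab
    let A := FixedPoints.subring B (P.inertia Γ)
    have hA : ∀ i, ∃ a : A, mk a = h.coeff i := by
      have : h ∈ Polynomial.lifts (mk.comp A.subtype) := by
        rw [lifts_iff_liftsRing]
        refine Subring.prod_mem _ fun c hc => ?_
        obtain ⟨δ, -, rfl⟩ := Finset.mem_image.1 hc
        refine Subring.sub_mem _ ?_ ?_
        · rw [← lifts_iff_liftsRing]; exact X_mem_lifts _
        · rw [← lifts_iff_liftsRing]
          exact C'_mem_lifts (f := mk.comp A.subtype)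
            ⟨(⟨(δ : Γ) • y, fun τ => smul_fixed P δ.2 hyT τ τ.2⟩ : A), rfl⟩
      intro i
      obtain ⟨a, ha⟩ := (Polynomial.lifts_iff_coeff_lifts _).1 this i
      exact ⟨a, ha⟩
    have hDO : ∀ δ : Γ, ∀ hδ : δ • P = P, ∀ (i : ℕ) (a : B), mk a = h.coeff i → mk (δ • a) = mk a := by
      intro δ hδ i a ha
      let σ : B ⧸ P →+* B ⧸ P := Ideal.quotientMap P (MulSemiringAction.toRingHom Γ B δ) (by
        intro z hz
        exact (smul_mem_iff P hδ z).2 hz)
      have hσ : ∀ b, σ (mk b) = mk (δ • b) := fun b => Ideal.quotientMap_mk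
      have hσinj : Function.Injective σ := σ.injective
      have hσh : h.map σ = h := by
        simp only [h, Polynomial.map_prod, Polynomial.map_sub, map_X, map_C]
        have hmaps : Set.MapsTo σ O O := by
          intro c hc
          obtain ⟨ε, -, rfl⟩ := Finset.mem_image.1 (Finset.mem_coe.1 hc)
          refine Finset.mem_coe.2 (Finset.mem_image.2 ⟨⟨δ, hδ⟩ * ε, Finset.mem_univ _, ?_⟩)
          rw [hσ, smul_smul]
          rfl
        refine Finset.prod_nbij σ hmaps hσinj.injOn ?_ fun c _ => rfl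
        exact Finset.surjOn_of_injOn_of_card_le σ hmaps hσinj.injOn le_rfl
      rw [ha, ← hσ, ha, ← coeff_map, hσh]
    let A' := FixedPoints.subring B Γ
    have hlift : h ∈ Polynomial.lifts (mk.comp A'.subtype) := by
      rw [Polynomial.lifts_iff_coeff_lifts]
      intro i
      obtain ⟨a, ha⟩ := hA i
      obtain ⟨c, hc, hac⟩ := exists_fixed (Γ := Γ) P (y := a) (fun τ hτ => a.2 ⟨τ, hτ⟩)
        (fun δ hδ => by
          have := hDO δ hδ i a ha
          rwa [Ideal.Quotient.eq] at this)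
      refine ⟨⟨c, hc⟩, ?_⟩
      rw [← ha]
      exact ((Ideal.Quotient.eq).2 hac).symm
    obtain ⟨g', hg'⟩ := (Polynomial.mem_lifts _).1 hlift
    refine ⟨g'.map A'.subtype, fun i γ => ?_, ?_, ?_⟩
    · rw [coeff_map]
      exact (g'.coeff i).2 γ
    · rw [Polynomial.map_map, hg']
      exact hsep
    · have h1 : mk (aeval x (g'.map A'.subtype)) = 0 := by
        rw [coe_aeval_eq_eval, eval_map, hom_eval₂, ← eval_map, hg']
        have h2 : mk x = mk y := (Ideal.Quotient.eq).2 hxy
        rw [h2, eval_prod]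
        refine Finset.prod_eq_zero (i := mk y) ?_ (by simp)
        refine Finset.mem_image.2 ⟨1, Finset.mem_univ _, ?_⟩
        simp
      exact Ideal.Quotient.eq_zero_iff_mem.1 h1
  · rintro ⟨g, hgΓ, hgsep, hgx⟩
    let T := P.inertia Γ
    let A := FixedPoints.subring B T
    have : Algebra.IsInvariant A B T := ⟨fun b hb => ⟨⟨b, hb⟩, rfl⟩⟩
    have : Algebra.IsIntegral A B := Algebra.IsInvariant.isIntegral A B T
    let p : Ideal A := P.under A
    have hmax : p.IsMaximal := Ideal.isMaximal_comap_of_isIntegral_of_isMaximal P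
    let : Field (A ⧸ p) := Ideal.Quotient.field p
    have hcomp : ∀ a : A, algebraMap (A ⧸ p) (B ⧸ P) (Ideal.Quotient.mk p a) = mk a := fun a => rfl
    have hcomp' : (algebraMap (A ⧸ p) (B ⧸ P)).comp (Ideal.Quotient.mk p) = mk.comp A.subtype :=
      RingHom.ext hcomp
    -- the characteristic polynomial
    obtain ⟨f, hf⟩ := (Polynomial.mem_lifts _).1 (Algebra.IsInvariant.charpoly_mem_lifts A B T x)
    have hf2 : (f.map (Ideal.Quotient.mk p)).map (algebraMap (A ⧸ p) (B ⧸ P)) =
        (X - C (mk x)) ^ Fintype.card T := by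
      rw [Polynomial.map_map, hcomp', ← Polynomial.map_map]
      have : f.map A.subtype = MulSemiringAction.charpoly T x := hf
      rw [this, MulSemiringAction.charpoly_eq, Polynomial.map_prod]
      simp only [Polynomial.map_sub, map_X, map_C]
      rw [Finset.prod_eq_pow_card (b := X - C (mk x)), Finset.card_univ]
      intro τ _
      have : mk (τ • x) = mk x := (Ideal.Quotient.eq).2 (τ.2 x)
      rw [this]
    have hdvd : minpoly (A ⧸ p) (mk x) ∣ f.map (Ideal.Quotient.mk p) := by
      apply minpoly.dvd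
      rw [← aeval_map_algebraMap (B ⧸ P), hf2]
      simp [Fintype.card_ne_zero]
    -- the separable polynomial
    have hglift : g ∈ Polynomial.lifts A.subtype := by
      rw [Polynomial.lifts_iff_coeff_lifts]
      intro i
      exact ⟨⟨g.coeff i, fun τ => hgΓ i τ⟩, rfl⟩
    obtain ⟨g', hg'⟩ := (Polynomial.mem_lifts _).1 hglift
    have hg2 : (g'.map (Ideal.Quotient.mk p)).map (algebraMap (A ⧸ p) (B ⧸ P)) = g.map mk := by
      rw [Polynomial.map_map, hcomp', ← Polynomial.map_map, hg']
    have hgsep' : (g'.map (Ideal.Quotient.mk p)).Separable := by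
      rw [← separable_map (algebraMap (A ⧸ p) (B ⧸ P)), hg2]
      exact hgsep
    have hdvd2 : minpoly (A ⧸ p) (mk x) ∣ g'.map (Ideal.Quotient.mk p) := by
      apply minpoly.dvd
      rw [← aeval_map_algebraMap (B ⧸ P), hg2, coe_aeval_eq_eval, eval_map, eval₂_at_apply,
        ← coe_aeval_eq_eval]
      exact Ideal.Quotient.eq_zero_iff_mem.2 hgx
    have hmsep : ((minpoly (A ⧸ p) (mk x)).map (algebraMap (A ⧸ p) (B ⧸ P))).Separable :=
      (hgsep'.of_dvd hdvd2).map
    have hmdvd : (minpoly (A ⧸ p) (mk x)).map (algebraMap (A ⧸ p) (B ⧸ P)) ∣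
        (X - C (mk x)) ^ Fintype.card T := by
      rw [← hf2]
      exact Polynomial.map_dvd _ hdvd
    obtain ⟨i, -, hi⟩ := (dvd_prime_pow (prime_X_sub_C (mk x)) _).1 hmdvd
    have hi1 : i ≤ 1 := by
      by_contra hi2
      push Not at hi2
      have h1 : (X - C (mk x)) * (X - C (mk x)) ∣
          (minpoly (A ⧸ p) (mk x)).map (algebraMap (A ⧸ p) (B ⧸ P)) := by
        rw [← pow_two]
        exact (pow_dvd_pow _ hi2).trans hi.symm.dvd
      exact (prime_X_sub_C (mk x)).not_isUnit (hmsep.squarefree _ h1)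
    have hint : IsIntegral (A ⧸ p) (mk x) := by
      have h1 : f.Monic := by
        have h2 : (f.map A.subtype).Monic := by
          have : f.map A.subtype = MulSemiringAction.charpoly T x := hf
          rw [this]; exact MulSemiringAction.monic_charpoly T x
        exact (Function.Injective.monic_map_iff A.subtype_injective).2 h2
      refine ⟨f.map (Ideal.Quotient.mk p), h1.map _, ?_⟩
      rw [← eval_map, hf2]
      simp [Fintype.card_ne_zero]
    have hdeg : (minpoly (A ⧸ p) (mk x)).natDegree = 1 := by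
      apply le_antisymm
      · rw [← natDegree_map (algebraMap (A ⧸ p) (B ⧸ P)), natDegree_eq_of_degree_eq (degree_eq_degree_of_associated hi),
          natDegree_pow, natDegree_X_sub_C, mul_one]
        exact hi1
      · exact minpoly.natDegree_pos hint
    obtain ⟨z, hz⟩ := minpoly.natDegree_eq_one_iff.1 hdeg
    obtain ⟨a, rfl⟩ := Ideal.Quotient.mk_surjective z
    refine ⟨a, fun τ hτ => a.2 ⟨τ, hτ⟩, ?_⟩
    rw [hcomp] at hz
    exact (Ideal.Quotient.eq).1 hz.symm

end Groth.Agent.S12937
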