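import Groth.Statements.S12956
import Groth.Agent.AlgSt.K739.Alg
-- import your own Groth.Agent.* helpers here

set_option autoImplicit false
universe u
open CategoryTheory AlgebraicGeometry
open AlgSt

namespace Groth.Agent.S12956

/-- If the composite of f : 𝒳 → 𝒴 and g : 𝒴 → 𝒵 (morphisms of algebraic stacks) is DM, then f is DM. -/
theorem result
    (S : Scheme.{u}) (𝒳 : AlgSt.Cat S) (𝒴 : AlgSt.Cat S) (𝒵 : AlgSt.Cat S)
    (h𝒳 : AlgSt.IsAlgStack Scheme.fppfPrecoverage 𝒳)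
    (h𝒴 : AlgSt.IsAlgStack Scheme.fppfPrecoverage 𝒴)
    (h𝒵 : AlgSt.IsAlgStack Scheme.fppfPrecoverage 𝒵)
    (f : 𝒳 ⥤ᵇ 𝒴) (g : 𝒴 ⥤ᵇ 𝒵) :
    AlgSt.IsDMMor (BasedFunctor.comp f g) → AlgSt.IsDMMor f := by
  intro h
  exact K739.DiagComp.repByAlgSpWith_diag_of_comp f g h𝒳.isStack.1 h𝒴.isStack.1 h𝒵.isStack.1
    (K739.Rep.isoInv_of_baseChange _ K739.Props.bc_unram) K739.Alg.isoInv_top K739.Props.bc_unram (K739.Props.cancel_unram ⊤) h
    (K739.Alg.repByAlgSpWith_top (K739.Alg.repByAlgSp1_diag_of_isAlgStack h𝒴 h𝒵 g))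

end Groth.Agent.S12956
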