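import Groth.Statements.S12971
import Groth.Agent.AlgSt.K740.Mono
import Groth.Agent.AlgSt.K740.Second
import Groth.Agent.AlgSt.K740.SpIso

set_option autoImplicit false
universe u
open CategoryTheory AlgebraicGeometry
open AlgSt

namespace Groth.Agent.S12971

/-- A monomorphism of algebraic stacks (representable by algebraic spaces and a monomorphism) is
separated and DM. -/
theorem result
    (S : Scheme.{u}) (𝒳 : AlgSt.Cat S) (𝒴 : AlgSt.Cat S)
    (h𝒳 : AlgSt.IsAlgStack Scheme.fppfPrecoverage 𝒳)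
    (h𝒴 : AlgSt.IsAlgStack Scheme.fppfPrecoverage 𝒴)
    (f : 𝒳 ⥤ᵇ 𝒴) :
    AlgSt.IsMono f → AlgSt.IsSeparatedMor f ∧ AlgSt.IsDMMor f := by
  intro h
  obtain ⟨h1, h2⟩ := K740.Mono.full_faithful_of_isMono h𝒴.isStack.1 f h
  have h3 := K740.Second.isEquivOver_diag_of_fullyFaithful f
  exact ⟨K740.SpIso.repByAlgSpWith_of_isEquivOver K740.SpIso.isProperMor_id h3,
    K740.SpIso.repByAlgSpWith_of_isEquivOver (fun U => K740.SpIso.locP_unramified_id _) h3⟩

end Groth.Agent.S12971
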