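import Groth.Statements.S12974
import Groth.Agent.S12939
import Groth.Agent.AlgSt.K740.LocSelf

set_option autoImplicit false
universe u
open CategoryTheory AlgebraicGeometry
open AlgSt

namespace Groth.Agent.S12974

/-- For a morphism f : 𝒳 → 𝒴 of algebraic stacks, the relative inertia 𝓘_{𝒳/𝒴} → 𝒳 is unramified if and
only if f is DM. -/
theorem result
    (S : Scheme.{u}) (𝒳 : AlgSt.Cat S) (𝒴 : AlgSt.Cat S)
    (h𝒳 : AlgSt.IsAlgStack Scheme.fppfPrecoverage 𝒳)
    (h𝒴 : AlgSt.IsAlgStack Scheme.fppfPrecoverage 𝒴)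
    (f : 𝒳 ⥤ᵇ 𝒴) :
    AlgSt.RepByAlgSpWith (AlgSp.LocP (@LocallyOfFiniteType ⊓ @FormallyUnramified)) (FibCat.inertiaToBase f) ↔
      AlgSt.IsDMMor f := by
  refine ⟨fun h => ?_, fun h => K740.Inertia.repByAlgSpWith_inertiaToBase f h⟩
  refine K740.LocSelf.repByAlgSpWith_diag_of_inertia
    (P := (@LocallyOfFiniteType ⊓ @FormallyUnramified : MorphismProperty Scheme.{u})) ?_ ?_ f
    (Groth.Agent.S12939.result S 𝒳 𝒴 h𝒳 h𝒴 f) h
  · intro X Y g hg h1
    exact ⟨hg, K740.SelfSch.formallyUnramified_of_self g h1.2⟩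
  · intro X Y Z g g' h1
    have h2 : LocallyOfFiniteType (g ≫ g') := h1.1
    have h3 : FormallyUnramified (g ≫ g') := h1.2
    exact ⟨locallyOfFiniteType_of_comp g g', FormallyUnramified.of_comp g g'⟩

end Groth.Agent.S12974
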