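import Groth.Statements.S12979
import Groth.Agent.S12763
import Groth.Agent.S12939
import Groth.Agent.S12943
import Groth.Agent.S9925
import Groth.Agent.AlgSt.K740.SpIso

set_option autoImplicit false
universe u
open CategoryTheory AlgebraicGeometry
open AlgSt

namespace Groth.Agent.S12979

/-- If the first and second diagonals of a morphism f of algebraic stacks are both universally closed
(as morphisms representable by algebraic spaces), then f is separated. (The published statement is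
an equivalence; this row states the implication from the two diagonals to separatedness.) -/
theorem result
    (S : Scheme.{u}) (𝒳 : AlgSt.Cat S) (𝒴 : AlgSt.Cat S)
    (h𝒳 : AlgSt.IsAlgStack Scheme.fppfPrecoverage 𝒳)
    (h𝒴 : AlgSt.IsAlgStack Scheme.fppfPrecoverage 𝒴)
    (f : 𝒳 ⥤ᵇ 𝒴) :
    AlgSt.RepByAlgSpWith AlgSp.IsUnivClosedMor (FibCat.diag f) →
      AlgSt.RepByAlgSpWith AlgSp.IsUnivClosedMor (FibCat.diag (FibCat.diag f)) → AlgSt.IsSeparatedMor f := by
  intro h1 h2
  have hA : AlgSt.IsAlgStack Scheme.fppfPrecoverage (FibCat.fp f f) :=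
    Groth.Agent.S12763.result h𝒴.isStack h𝒴.diag h𝒳 h𝒳 f f
  have h3 := Groth.Agent.S12939.result S 𝒳 𝒴 h𝒳 h𝒴 f
  have e := Groth.Agent.S12943.result S 𝒳 (FibCat.fp f f) h𝒳 hA (FibCat.diag f)
    (K735.Rep.repByAlgSp1_of_with h3)
  have h4 : AlgSt.RepByAlgSpWith AlgSp.IsSeparatedMor (FibCat.diag f) := (e.out 3 0).1 h2
  have h5 := K740.SpIso.repByAlgSpWith_inf (K740.SpIso.repByAlgSpWith_inf h1 h3) h4
  refine K740.SpIso.repByAlgSpWith_imp h5 ?_
  rintro F U q ⟨⟨ha, hb⟩, hc⟩
  exact ⟨hc, ⟨hb, Groth.Agent.S9925.result (X := F) (Y := ⟨(AlgSp.yon S).obj U, AlgSp.IsAlgSpace.yon_obj U⟩)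
    (ObjectProperty.homMk q) ha⟩, ha⟩

end Groth.Agent.S12979
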