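import Groth.Statements.S12980
import Groth.Agent.S12763
import Groth.Agent.S12939
import Groth.Agent.S12944
import Groth.Agent.AlgSt.K740.SpIso

set_option autoImplicit false
universe u
open CategoryTheory AlgebraicGeometry
open AlgSt

namespace Groth.Agent.S12980

/-- A morphism f of algebraic stacks is quasi-separated if and only if its first and second diagonals
are both quasi-compact (as morphisms representable by algebraic spaces). -/
theorem result
    (S : Scheme.{u}) (𝒳 : AlgSt.Cat S) (𝒴 : AlgSt.Cat S)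
    (h𝒳 : AlgSt.IsAlgStack Scheme.fppfPrecoverage 𝒳)
    (h𝒴 : AlgSt.IsAlgStack Scheme.fppfPrecoverage 𝒴)
    (f : 𝒳 ⥤ᵇ 𝒴) :
    AlgSt.IsQuasiSeparatedMor f ↔
      AlgSt.RepByAlgSpWith AlgSp.IsQuasiCompactMor (FibCat.diag f) ∧
        AlgSt.RepByAlgSpWith AlgSp.IsQuasiCompactMor (FibCat.diag (FibCat.diag f)) := by
  have hA : AlgSt.IsAlgStack Scheme.fppfPrecoverage (FibCat.fp f f) :=
    Groth.Agent.S12763.result h𝒴.isStack h𝒴.diag h𝒳 h𝒳 f f
  have h3 := Groth.Agent.S12939.result S 𝒳 𝒴 h𝒳 h𝒴 f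
  have e := Groth.Agent.S12944.result S 𝒳 (FibCat.fp f f) h𝒳 hA (FibCat.diag f)
    (K735.Rep.repByAlgSp1_of_with h3)
  have e1 : AlgSt.RepByAlgSpWith AlgSp.IsQuasiSeparatedMor (FibCat.diag f) ↔
      AlgSt.RepByAlgSpWith AlgSp.IsQuasiCompactMor (FibCat.diag (FibCat.diag f)) := e.out 0 1
  exact ⟨fun h => ⟨K740.SpIso.repByAlgSpWith_imp h (fun _ _ _ h => h.1),
    e1.1 (K740.SpIso.repByAlgSpWith_imp h (fun _ _ _ h => h.2))⟩,
    fun h => K740.SpIso.repByAlgSpWith_inf h.1 (e1.2 h.2)⟩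

end Groth.Agent.S12980
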