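import Groth.Statements.S13001
import Groth.Agent.AlgSt.K742.LN

set_option autoImplicit false
universe u
open CategoryTheory AlgebraicGeometry
open AlgSt

namespace Groth.Agent.S13001

/-- Let 𝒳 → 𝒴 → 𝒵 be morphisms of algebraic stacks with 𝒳 → 𝒵 locally of finite type and with 𝒳 → 𝒴
flat, surjective, locally of finite presentation and representable by algebraic spaces. In this
situation 𝒴 → 𝒵 is also locally of finite type. -/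
theorem result
    (S : Scheme.{u}) (𝒳 : AlgSt.Cat S) (𝒴 : AlgSt.Cat S) (𝒵 : AlgSt.Cat S)
    (h𝒳 : AlgSt.IsAlgStack Scheme.fppfPrecoverage 𝒳)
    (h𝒴 : AlgSt.IsAlgStack Scheme.fppfPrecoverage 𝒴)
    (h𝒵 : AlgSt.IsAlgStack Scheme.fppfPrecoverage 𝒵)
    (f : 𝒳 ⥤ᵇ 𝒴) (g : 𝒴 ⥤ᵇ 𝒵)
    (hf₁ : AlgSt.RepByAlgSpWith (AlgSp.LocP @Flat) f)
    (hf₂ : AlgSt.RepByAlgSpWith (AlgSp.LocP @LocallyOfFinitePresentation) f)
    (hf₃ : AlgSt.RepByAlgSpWith AlgSp.IsSurjectiveMor f) :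
    AlgSt.LocQ (AlgSp.LocP @LocallyOfFiniteType) (BasedFunctor.comp f g) → AlgSt.LocQ (AlgSp.LocP @LocallyOfFiniteType) g := by
  exact K742.EvQ.locQ_of_comp_surjective₂ K742.nice_flat K742.nice_lfp K742.nice_lft K742.nice_lft
    (fun _ _ _ a b ha ha' hs hc => K629.SchDesc.lft a b ha ha' hs hc) h𝒳.isStack.1 h𝒴.isStack.1 h𝒵.isStack.1
    h𝒳.atlas h𝒴.atlas h𝒵.atlas f g (K742.EvQ.locQ_of_rep K742.nice_flat h𝒳.isStack.1 h𝒴.isStack.1 h𝒳.atlas h𝒴.atlas f hf₁)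
    (K742.EvQ.locQ_of_rep K742.nice_lfp h𝒳.isStack.1 h𝒴.isStack.1 h𝒳.atlas h𝒴.atlas f hf₂)
    (K735.Top.surjective_of_repByAlgSpWith h𝒴.isStack.1 h𝒳.isStack.1 hf₃)

end Groth.Agent.S13001
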