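import Groth.Statements.S13002
import Groth.Agent.AlgSt.K742.LN

set_option autoImplicit false
universe u
open CategoryTheory AlgebraicGeometry
open AlgSt

namespace Groth.Agent.S13002

/-- If f : 𝒳 → 𝒴 and g : 𝒴 → 𝒵 are morphisms of algebraic stacks whose composite is locally of finite
type, then f itself is locally of finite type. -/
theorem result
    (S : Scheme.{u}) (𝒳 : AlgSt.Cat S) (𝒴 : AlgSt.Cat S) (𝒵 : AlgSt.Cat S)
    (h𝒳 : AlgSt.IsAlgStack Scheme.fppfPrecoverage 𝒳)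
    (h𝒴 : AlgSt.IsAlgStack Scheme.fppfPrecoverage 𝒴)
    (h𝒵 : AlgSt.IsAlgStack Scheme.fppfPrecoverage 𝒵)
    (f : 𝒳 ⥤ᵇ 𝒴) (g : 𝒴 ⥤ᵇ 𝒵) :
    AlgSt.LocQ (AlgSp.LocP @LocallyOfFiniteType) (BasedFunctor.comp f g) → AlgSt.LocQ (AlgSp.LocP @LocallyOfFiniteType) f := by
  exact fun h => by
    obtain ⟨W, U, V, x, y, z, a, b, hx, hy, hz, hxs, hys, ha, hb, hc, -⟩ := K742.EvQ.exists_chain h𝒳.isStack.1 h𝒴.isStack.1
      h𝒵.isStack.1 h𝒳.atlas h𝒴.atlas h𝒵.atlas f g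
    refine K742.EvQ.locQ_of_goodSq K742.nice_lft h𝒳.isStack.1 ha hx hxs hy ?_
    have h1 : LocallyOfFiniteType (a.left ≫ b.left) := K742.EvQ.goodSq_of_locQ K742.nice_lft h𝒳.isStack.1 h𝒵.isStack.1 _ h
      x z (K735.Rep.repByAlgSp1_of_with hz) (a ≫ b) hc
    exact locallyOfFiniteType_of_comp a.left b.left

end Groth.Agent.S13002
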