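import Groth.Statements.S13035
import Groth.Agent.AlgSt.K743.Chart
import Groth.Agent.AlgSt.K743.Val

set_option autoImplicit false
universe u
open CategoryTheory AlgebraicGeometry
open AlgSt

namespace Groth.Agent.S13035

/-- Let f : 𝒳 → 𝒴 be a flat morphism of algebraic stacks and Spec A → 𝒴 a morphism with A a valuation
ring whose closed point maps into the image of |𝒳| → |𝒴|. Then there are an extension of valuation
rings A → A' (an injective local homomorphism of valuation rings) and a morphism Spec A' → 𝒳 making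
the square with Spec A' → Spec A → 𝒴 2-commute. -/
theorem result
    (S : Scheme.{u}) (𝒳 : AlgSt.Cat S) (𝒴 : AlgSt.Cat S)
    (h𝒳 : AlgSt.IsAlgStack Scheme.fppfPrecoverage 𝒳)
    (h𝒴 : AlgSt.IsAlgStack Scheme.fppfPrecoverage 𝒴)
    (f : 𝒳 ⥤ᵇ 𝒴)
    (hf : AlgSt.LocQ (AlgSp.LocP @Flat) f)
    (A : Type u) [CommRing A] [IsDomain A] [ValuationRing A] (sA : Spec (CommRingCat.of A) ⟶ S)
    (a : FibCat.overCat (Over.mk sA) ⥤ᵇ 𝒴)
    (ha : AlgSt.Points.ofChart a (IsLocalRing.closedPoint A) ∈ Set.range (AlgSt.Points.map f)) :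
    ∃ (A' : Type u) (_ : CommRing A') (_ : IsDomain A') (_ : ValuationRing A') (φ : A →+* A'),
      Function.Injective φ ∧ IsLocalHom φ ∧
      ∃ x : FibCat.overCat (Over.mk (Spec.map (CommRingCat.ofHom φ) ≫ sA)) ⥤ᵇ 𝒳,
        Nonempty (BasedFunctor.comp x f ≅
          BasedFunctor.comp (AlgSt.overMap (Over.homMk (Spec.map (CommRingCat.ofHom φ)) rfl :
            Over.mk (Spec.map (CommRingCat.ofHom φ) ≫ sA) ⟶ Over.mk sA)) a) := by
  obtain ⟨W, h, w, ⟨α⟩, hh, hW⟩ := K743.Chart.exists_lift_of_locQ (P := @Flat)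
    (fun X Y f _ => inferInstance) h𝒳.isStack.1 h𝒴.isStack.1 hf a
  obtain ⟨w₀, hw₀⟩ := hW (IsLocalRing.closedPoint A) ha
  have : Flat h.left := hh
  obtain ⟨A', _, _, _, φ, g, hφ, hφl, hg⟩ := K743.Val.exists_valuationRing_of_flat (A := A) h.left w₀ hw₀
  have hgo : g ≫ W.hom = Spec.map (CommRingCat.ofHom φ) ≫ sA := by
    rw [← hg, Category.assoc]
    congr 1
    exact (Over.w h).symm
  let g' : Over.mk (Spec.map (CommRingCat.ofHom φ) ≫ sA) ⟶ W := Over.homMk g hgo
  have hg' : g' ≫ h = (Over.homMk (Spec.map (CommRingCat.ofHom φ)) rfl :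
      Over.mk (Spec.map (CommRingCat.ofHom φ) ≫ sA) ⟶ Over.mk sA) := Over.OverMorphism.ext hg
  refine ⟨A', inferInstance, inferInstance, inferInstance, φ, hφ, hφl,
    BasedFunctor.comp (AlgSt.overMap g') w, ⟨?_⟩⟩
  rw [← hg']
  exact (K735.Fib.whiskerLeftIso (AlgSt.overMap g') α :
    BasedFunctor.comp (AlgSt.overMap g') (BasedFunctor.comp w f) ≅
    BasedFunctor.comp (AlgSt.overMap g') (BasedFunctor.comp (AlgSt.overMap h) a)) ≪≫
    (K735.Fib.whiskerRightIso (K743.Chart.overMapComp g' h) a :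
    BasedFunctor.comp (BasedFunctor.comp (AlgSt.overMap g') (AlgSt.overMap h)) a ≅ _)

end Groth.Agent.S13035
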