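import Groth.Statements.S13037
import Groth.Agent.AlgSt.K743.Locus
import Groth.Agent.AlgSt.K737.OpenSt
import Groth.Agent.S0115

set_option autoImplicit false
universe u
open CategoryTheory AlgebraicGeometry
open AlgSt

namespace Groth.Agent.S13037

/-- For a morphism f : 𝒳 → 𝒴 of algebraic stacks there is a largest open substack of 𝒳 on which f is
smooth: a strictly full open substack 𝒰 with 𝒰 → 𝒳 → 𝒴 smooth, containing every open substack with
that property. (The compatibilities of its formation with smooth precomposition and flat base change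
are not part of this statement.) -/
theorem result
    (S : Scheme.{u}) (𝒳 : AlgSt.Cat S) (𝒴 : AlgSt.Cat S)
    (h𝒳 : AlgSt.IsAlgStack Scheme.fppfPrecoverage 𝒳)
    (h𝒴 : AlgSt.IsAlgStack Scheme.fppfPrecoverage 𝒴)
    (f : 𝒳 ⥤ᵇ 𝒴) :
    ∃ Q : 𝒳.obj → Prop, AlgSt.IsOpenSubstack 𝒳 Q Scheme.fppfPrecoverage ∧
      AlgSt.LocQ (AlgSp.LocP @Smooth) (BasedFunctor.comp (AlgSt.subIncl 𝒳 Q) f) ∧
      ∀ Q' : 𝒳.obj → Prop, AlgSt.IsOpenSubstack 𝒳 Q' Scheme.fppfPrecoverage →
        AlgSt.LocQ (AlgSp.LocP @Smooth) (BasedFunctor.comp (AlgSt.subIncl 𝒳 Q') f) → ∀ a, Q' a → Q a := by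
  obtain ⟨T, hT, h1, h2⟩ := K743.Locus.exists_largest (P := @Smooth) K597.etLoc_smooth (fun _ _ _ h => h)
    (fun A B C e g he hs h => by
      have : Smooth e := he
      have : Surjective e := hs
      have : Smooth (e ≫ g) := h
      exact Groth.Agent.S0115.result e g) h𝒳 h𝒴 f
  exact ⟨K737.Open.predOf T, (K737.OpenSt.isOpenSubstack_predOf h𝒳 hT).1, h1,
    fun Q' hQ' hf' a ha => h2 Q' hQ'.1 hQ'.2.2 hf' a ha⟩

end Groth.Agent.S13037
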