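import Groth.Statements.S13038
import Groth.Agent.AlgSt.K743.LocQComp

set_option autoImplicit false
universe u
open CategoryTheory AlgebraicGeometry
open AlgSt

namespace Groth.Agent.S13038

/-- Suppose P, a property of morphisms between algebraic spaces, is local on source and target for the
smooth topology and is preserved by composition of algebraic spaces. Then the induced property of
morphisms of algebraic stacks, read on one square of smooth charts, is stable under composition. -/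
theorem result
    (S : Scheme.{u}) (P : MorphismProperty (AlgSp.Sp S)) (hP : AlgSp.IsSmoothLocalST P)
    (hPc : ∀ ⦃X₁ Y₁ Z₁ : AlgSp.Sp S⦄, AlgSp.IsAlgSpace X₁ → AlgSp.IsAlgSpace Y₁ → AlgSp.IsAlgSpace Z₁ →
      ∀ (a : X₁ ⟶ Y₁) (b : Y₁ ⟶ Z₁), P a → P b → P (a ≫ b))
    (𝒳 : AlgSt.Cat S) (𝒴 : AlgSt.Cat S) (𝒵 : AlgSt.Cat S)
    (h𝒳 : AlgSt.IsAlgStack Scheme.fppfPrecoverage 𝒳)
    (h𝒴 : AlgSt.IsAlgStack Scheme.fppfPrecoverage 𝒴)
    (h𝒵 : AlgSt.IsAlgStack Scheme.fppfPrecoverage 𝒵)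
    (f : 𝒳 ⥤ᵇ 𝒴) (g : 𝒴 ⥤ᵇ 𝒵) :
    AlgSt.LocQ P f → AlgSt.LocQ P g → AlgSt.LocQ P (BasedFunctor.comp f g) := by
  intro hf hg
  have hY : ∀ U : Over S, AlgSp.IsAlgSpace ((AlgSp.yon S).obj U) := fun U => AlgSp.IsAlgSpace.yon_obj U
  refine K743.LocQComp.locQ_comp ?_ ?_ ?_ h𝒴.isStack.1 f g hf hg
  · intro U V W a b ha hb
    rw [Functor.map_comp]
    exact hP.precomp (hY _) (hY _) (hY _) _ _ (K743.Comp.locP_yon_map_of K597.etLoc_smooth a ha) hb
  · intro U V U' V' a b a' b' sq hb ha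
    exact hP.baseChange (hY _) (hY _) (hY _) (hY _) _ _ _ _ (sq.map (AlgSp.yon S))
      (K743.Comp.locP_yon_map_of K597.etLoc_smooth b hb) ha
  · intro U V W a b ha hb
    rw [Functor.map_comp]
    exact hPc (hY _) (hY _) (hY _) _ _ ha hb

end Groth.Agent.S13038
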