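import Groth.Statements.S13041
import Mathlib.RingTheory.Flat.TorsionFree
import Mathlib.RingTheory.Localization.BaseChange

set_option autoImplicit false
universe u
open MaxMod
open scoped TensorProduct

namespace Groth.Agent.S13041

/-- Let R be a domain with fraction field K, let A → B be a homomorphism of commutative R-algebras that
are flat over R, with B module-finite over A, such that the induced map K ⊗_R A → K ⊗_R B is
bijective. If the A-linear map Hom_A(B, A) → A evaluating at 1 is surjective, then A → B is
bijective. (The published statement concerns a finite morphism of flat schemes over a discrete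
valuation ring, with locally free relative dualizing sheaves, that is an isomorphism over a
schematically dense open and whose trace map on dualizing sheaves is surjective; this row is the
statement about rings to which the printed proof reduces it and which that proof establishes, and
the argument uses only that R is a domain.) -/
theorem result
    (R K A B : Type u) [CommRing R] [IsDomain R] [Field K] [Algebra R K] [IsFractionRing R K]
    [CommRing A] [CommRing B] [Algebra R A] [Algebra R B] [Algebra A B] [IsScalarTower R A B]
    [Module.Flat R A] [Module.Flat R B] [Module.Finite A B]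
    (hK : Function.Bijective
      (Algebra.TensorProduct.map (AlgHom.id R K) (IsScalarTower.toAlgHom R A B)))
    (htr : Function.Surjective (fun u : B →ₗ[A] A => u 1)) :
    Function.Bijective (algebraMap A B) := by
  obtain ⟨v, hv⟩ := htr 1
  have hv : v 1 = 1 := hv
  -- the injectivity is clear
  have hval : ∀ a : A, v (algebraMap A B a) = a := fun a => by
    rw [Algebra.algebraMap_eq_smul_one, map_smul, hv, smul_eq_mul, mul_one]
  refine ⟨fun a a' h => by rw [← hval a, h, hval a'], ?_⟩
  -- every element of `B` comes from `A` after multiplication with a nonzero element of `R`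
  have key : ∀ b : B, ∃ r ∈ nonZeroDivisors R, ∃ a : A, r • b = algebraMap A B a := by
    intro b
    haveI hA : IsLocalizedModule (nonZeroDivisors R) (TensorProduct.mk R K A 1) :=
      (isLocalizedModule_iff_isBaseChange (nonZeroDivisors R) K _).2
        (TensorProduct.isBaseChange R A K)
    haveI hB : IsLocalizedModule (nonZeroDivisors R) (TensorProduct.mk R K B 1) :=
      (isLocalizedModule_iff_isBaseChange (nonZeroDivisors R) K _).2
        (TensorProduct.isBaseChange R B K)
    obtain ⟨x, hx⟩ := hK.2 ((1 : K) ⊗ₜ[R] b)
    obtain ⟨⟨a, s⟩, hs⟩ := IsLocalizedModule.surj (nonZeroDivisors R) (TensorProduct.mk R K A 1) x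
    have h1 : (TensorProduct.mk R K B 1) ((s : R) • b) =
        (TensorProduct.mk R K B 1) (algebraMap A B a) := by
      have h2 := congrArg (Algebra.TensorProduct.map (AlgHom.id R K) (IsScalarTower.toAlgHom R A B))
        hs
      rw [map_smul, TensorProduct.mk_apply] 
      have h3 : (Algebra.TensorProduct.map (AlgHom.id R K) (IsScalarTower.toAlgHom R A B))
        (s • x) = (s : R) • ((1 : K) ⊗ₜ[R] b) := by
        rw [← hx, ← map_smul]; rfl
      rw [h3] at h2
      rw [h2]
      simp
    obtain ⟨c, hc⟩ := IsLocalizedModule.exists_of_eq (S := nonZeroDivisors R) h1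
    refine ⟨c * s, (c * s).2, (c : R) • a, ?_⟩
    rw [mul_smul]
    refine hc.trans ?_
    change (c : R) • algebraMap A B a = algebraMap A B ((c : R) • a)
    rw [Algebra.smul_def (c : R) a, map_mul, ← IsScalarTower.algebraMap_apply, ← Algebra.smul_def]
  intro b
  refine ⟨v b, ?_⟩
  obtain ⟨r, hr, a, ha⟩ := key (b - algebraMap A B (v b))
  have h0 : v (b - algebraMap A B (v b)) = 0 := by rw [map_sub, hval, sub_self]
  have h1 : a = 0 := by
    have h2 := congrArg v ha
    rw [hval, ← algebraMap_smul A r (b - algebraMap A B (v b)), map_smul, h0, smul_zero] at h2
    exact h2.symm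
  rw [h1, map_zero] at ha
  have h3 : IsSMulRegular B r := Module.Flat.isSMulRegular_of_nonZeroDivisors hr
  have h4 : b - algebraMap A B (v b) = 0 := h3 (by simpa using ha)
  exact (sub_eq_zero.1 h4).symm

end Groth.Agent.S13041
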