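import Groth.Statements.S13043
import Groth.Agent.S1573
import Groth.Agent.CoPerf.K722.GenPts

set_option autoImplicit false
universe u
open CoPerf

namespace Groth.Agent.S13043

open AlgebraicGeometry in
/-- For a Noetherian scheme S that is separated, and a dense open subset U ⊆ S that is not empty, only
finitely many open subsets V ⊇ U have an affine inclusion morphism V → S, and among them there is
one contained in all the others (a least element for inclusion). -/
theorem result
    (S : Scheme.{u}) [IsNoetherian S] [S.IsSeparated] (U : S.Opens)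
    (hne : (U : Set S).Nonempty) (hU : Dense (U : Set S)) :
    Set.Finite {V : S.Opens | U ≤ V ∧ IsAffineHom V.ι} ∧
      ∃ V₀ : S.Opens, (U ≤ V₀ ∧ IsAffineHom V₀.ι) ∧
        ∀ V : S.Opens, U ≤ V → IsAffineHom V.ι → V₀ ≤ V := by
  classical
  -- intersections
  have hinf : ∀ V W : S.Opens, IsAffineHom V.ι → IsAffineHom W.ι → IsAffineHom (V ⊓ W).ι := by
    intro V W hV hW
    have h1 : IsAffineHom (S.homOfLE (inf_le_left : V ⊓ W ≤ V)) :=
      CategoryTheory.MorphismProperty.of_isPullback (P := @IsAffineHom)
        (isPullback_opens_inf V W).flip hW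
    rw [← S.homOfLE_ι (inf_le_left : V ⊓ W ≤ V)]
    infer_instance
  have htop : IsAffineHom (⊤ : S.Opens).ι := by
    have : CategoryTheory.IsIso (⊤ : S.Opens).ι := by
      rw [← Scheme.topIso_hom]; infer_instance
    infer_instance
  let A : Set S.Opens := {V : S.Opens | U ≤ V ∧ IsAffineHom V.ι}
  have hfin : A.Finite := by
    let T : Set S := {ξ : S | ξ ∈ (U : Set S)ᶜ ∧ ∀ η ∈ (U : Set S)ᶜ, η ⤳ ξ → η = ξ}
    have hT : T.Finite := K722.GenPts.finite_maximal _ U.2.isClosed_compl
    have hpow : (Set.powerset T).Finite := hT.finite_subsets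
    -- the generic points of the complement of a member of `A` are in `T`
    have key : ∀ V ∈ A, ∀ z : S, z ∉ V → ∃ ξ ∈ T, ξ ∉ V ∧ ξ ⤳ z := by
      rintro V ⟨hUV, hV⟩ z hz
      obtain ⟨ξ, hξ, hξz, hmax⟩ := K722.GenPts.exists_maximal ((V : Set S)ᶜ)
        V.2.isClosed_compl z hz
      have hdim : ringKrullDim (S.presheaf.stalk ξ) ≤ 1 :=
        (Groth.Agent.S1573.result S V ξ hξ hmax).1
      refine ⟨ξ, ⟨fun h => hξ (hUV h), fun η hη hηξ => ?_⟩, hξ, hξz⟩
      by_contra hne
      -- `η` is a generic point of `S`
      have hηgen : ∀ y : S, y ⤳ η → y = η := by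
        intro y hy
        by_contra hne'
        have hr : ∀ a : S, a ⤳ ξ → ∃ p : PrimeSpectrum (S.presheaf.stalk ξ),
            S.fromSpecStalk ξ p = a := by
          intro a ha
          have : a ∈ Set.range (S.fromSpecStalk ξ) := by
            rw [Scheme.range_fromSpecStalk]; exact ha
          exact this
        obtain ⟨p, hp⟩ := hr y (hy.trans hηξ)
        obtain ⟨q, hq⟩ := hr η hηξ
        have hsp : ∀ a b : PrimeSpectrum (S.presheaf.stalk ξ),
            S.fromSpecStalk ξ a ⤳ S.fromSpecStalk ξ b → S.fromSpecStalk ξ a ≠ S.fromSpecStalk ξ b →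
              a < b := by
          intro a b hab hne
          have h1 : a ⤳ b := (S.fromSpecStalk ξ).isEmbedding.isInducing.specializes_iff.1 hab
          rw [← PrimeSpectrum.le_iff_specializes] at h1
          refine lt_of_le_of_ne h1 ?_
          rintro rfl
          exact hne rfl
        have hpq : p < q := hsp p q (by rw [hp, hq]; exact hy) (by rw [hp, hq]; exact hne')
        have hqm : q < IsLocalRing.closedPoint (S.presheaf.stalk ξ) :=
          hsp q _ (by rw [hq, Scheme.fromSpecStalk_closedPoint]; exact hηξ)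
            (by rw [hq, Scheme.fromSpecStalk_closedPoint]; exact hne)
        have h2 : (2 : WithBot ℕ∞) ≤ ringKrullDim (S.presheaf.stalk ξ) := by
          let ch : LTSeries (PrimeSpectrum (S.presheaf.stalk ξ)) :=
            { length := 2
              toFun := ![p, q, IsLocalRing.closedPoint (S.presheaf.stalk ξ)]
              step := by
                intro i
                fin_cases i
                · exact hpq
                · exact hqm }
          exact le_iSup (fun s : LTSeries (PrimeSpectrum (S.presheaf.stalk ξ)) =>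
            (s.length : WithBot ℕ∞)) ch
        have h3 := h2.trans hdim
        exact absurd h3 (by norm_num)
      exact hη (Groth.Agent.S1573.mem_of_dense S U hU η hηgen)
    refine Set.Finite.of_finite_image (f := fun V : S.Opens => T ∩ (V : Set S)ᶜ)
      (hpow.subset ?_) ?_
    · rintro _ ⟨V, _, rfl⟩
      exact Set.inter_subset_left
    · have hle : ∀ V ∈ A, ∀ W : S.Opens, T ∩ (V : Set S)ᶜ = T ∩ (W : Set S)ᶜ → W ≤ V := by
        intro V hV W h z hz
        by_contra hzV
        obtain ⟨ξ, hξT, hξV, hξz⟩ := key V hV z hzV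
        have h1 : ξ ∈ T ∩ (W : Set S)ᶜ := by
          rw [← h]; exact ⟨hξT, hξV⟩
        exact h1.2 (hξz.mem_open W.2 hz)
      intro V hV W hW h
      exact le_antisymm (hle W hW V h.symm) (hle V hV W h)
  refine ⟨hfin, ?_⟩
  have hfs : ∀ s : Finset S.Opens, (↑s : Set S.Opens) ⊆ A → s.inf id ∈ A := by
    intro s
    induction s using Finset.induction_on with
    | empty => intro _; exact ⟨le_top, htop⟩
    | insert V s _ ih =>
      intro h
      rw [Finset.inf_insert]
      have h1 : V ∈ A := h (by simp)
      have h2 : s.inf id ∈ A := ih (fun x hx => h (by simp [Finset.mem_coe.1 hx]))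
      exact ⟨le_inf h1.1 h2.1, hinf _ _ h1.2 h2.2⟩
  refine ⟨hfin.toFinset.inf id, hfs _ (by simp), fun V hUV hV => ?_⟩
  exact Finset.inf_le (f := id) (hfin.mem_toFinset.2 (⟨hUV, hV⟩ : V ∈ A))

end Groth.Agent.S13043
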