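import Groth.Statements.S13047
import Mathlib.Algebra.QuadraticAlgebra.Defs
import Mathlib.RingTheory.Ideal.Quotient.Operations
import Mathlib.Algebra.Polynomial.Eval.Coeff
import Mathlib.Tactic.LinearCombination

set_option autoImplicit false
universe u
open FrobAlg

namespace Groth.Agent.S13047

open Polynomial TensorProduct W4c1imperftorsors

section tools

variable (p : ℕ) [Fact p.Prime] (R : Type u) [CommRing R] [CharP R p]
  (A : Type u) [CommRing A] [Algebra R A]

/-- The additive map `r ⊗ a ↦ r * g a` out of the Frobenius twist, for a ring map `g` which is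
semilinear with respect to the iterated Frobenius. -/
noncomputable def twistMap (i : ℕ) {Q : Type u} [CommRing Q] (c : R →+* Q) (g : A →+* Q)
    (hg : ∀ s : R, g (algebraMap R A s) = c (s ^ p ^ i)) : Twist p R A i →+ Q :=
  TensorProduct.liftAddHom
    { toFun := fun r =>
        { toFun := fun a => c r * g (aEquiv p R A i a)
          map_zero' := by rw [map_zero, map_zero, mul_zero]
          map_add' := fun a b => by rw [map_add, map_add, mul_add] }
      map_zero' := by
        ext a
        change c 0 * _ = 0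
        rw [map_zero, zero_mul]
      map_add' := fun r s => by
        ext a
        change c (r + s) * _ = c r * _ + c s * _
        rw [map_add, add_mul] }
    (fun s r a => by
      change c (s • r) * g (aEquiv p R A i a) = c r * g (aEquiv p R A i (s • a))
      rw [Algebra.smul_def, Algebra.smul_def, algebraMap_src, algebraMap_aSrc, map_mul, map_mul,
        map_mul, RingEquiv.apply_symm_apply, hg]
      ring)

theorem twistMap_tmul (i : ℕ) {Q : Type u} [CommRing Q] (c : R →+* Q) (g : A →+* Q)
    (hg : ∀ s : R, g (algebraMap R A s) = c (s ^ p ^ i)) (r : R) (a : ASrc p R A i) :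
    twistMap p R A i c g hg (r ⊗ₜ a) = c r * g (aEquiv p R A i a) := rfl

/-- `r ⊗ (s a) = (s ^ q r) ⊗ a`. -/
theorem tmul_algebraMap_mul (i : ℕ) (r s : R) (a : A) :
    (r ⊗ₜ[Src p R i] ((aEquiv p R A i).symm (algebraMap R A s * a)) : Twist p R A i) =
      (s ^ p ^ i * r) ⊗ₜ[Src p R i] ((aEquiv p R A i).symm a) := by
  have h1 : (s ^ p ^ i * r) = ((srcEquiv p R i).symm s) • r := by
    rw [Algebra.smul_def, algebraMap_src, RingEquiv.apply_symm_apply]
  have h2 : (aEquiv p R A i).symm (algebraMap R A s * a) =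
      ((srcEquiv p R i).symm s) • ((aEquiv p R A i).symm a) := by
    rw [Algebra.smul_def, algebraMap_aSrc, RingEquiv.apply_symm_apply, map_mul]
  rw [h1, h2, TensorProduct.smul_tmul]

theorem relFrob_tmul [CharP A p] (i : ℕ) (r : R) (a : A) :
    W4c1imperftorsors.relFrob p R A i (r ⊗ₜ ((aEquiv p R A (i + 1)).symm a)) =
      r ⊗ₜ ((aEquiv p R A i).symm (a ^ p)) := by
  change relFrobAux p R A i (r ⊗ₜ ((aEquiv p R A (i + 1)).symm a)) = _
  rw [relFrobAux, Algebra.TensorProduct.lift_tmul]
  change (r ⊗ₜ 1) * ((1 : R) ⊗ₜ ((aEquiv p R A i).symm (frobenius A p a))) = _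
  rw [Algebra.TensorProduct.tmul_mul_tmul, mul_one, one_mul, frobenius_def]

end tools

section main

variable (p : ℕ) [Fact p.Prime] (R : Type u) [CommRing R] [CharP R p] (u v : R)

/-- The ring `R[α]/(uα, α² − v²)`. -/
abbrev B : Type u := R[X] ⧸ Ideal.span {(C u * X : R[X]), X ^ 2 - C (v ^ 2)}

/-- The class of `X`. -/
noncomputable def al : B R u v := Ideal.Quotient.mk _ X

theorem al_sq : (al R u v) ^ 2 = algebraMap R (B R u v) (v ^ 2) := by
  rw [al, ← map_pow, ← sub_eq_zero]
  change Ideal.Quotient.mk _ (X ^ 2) - Ideal.Quotient.mk _ (C (v ^ 2)) = 0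
  rw [← map_sub, Ideal.Quotient.eq_zero_iff_mem]
  exact Ideal.subset_span (by simp)

theorem u_mul_al : algebraMap R (B R u v) u * (al R u v) = 0 := by
  change Ideal.Quotient.mk _ (C u) * Ideal.Quotient.mk _ X = 0
  rw [← map_mul, Ideal.Quotient.eq_zero_iff_mem]
  exact Ideal.subset_span (by simp)

theorem exists_eq (x : B R u v) : ∃ a b : R, x = algebraMap R _ a + algebraMap R _ b * al R u v := by
  obtain ⟨f, rfl⟩ := Ideal.Quotient.mk_surjective x
  induction f using Polynomial.induction_on' with
  | add f g hf hg =>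
    obtain ⟨a, b, h1⟩ := hf
    obtain ⟨c, d, h2⟩ := hg
    exact ⟨a + c, b + d, by rw [map_add, h1, h2, map_add, map_add]; ring⟩
  | monomial n a =>
    induction n with
    | zero => exact ⟨a, 0, by rw [map_zero, zero_mul, add_zero]; rfl⟩
    | succ n ih =>
      obtain ⟨c, d, h⟩ := ih
      refine ⟨d * v ^ 2, c, ?_⟩
      have h1 : (monomial (n + 1) a : R[X]) = monomial n a * X := by
        rw [monomial_mul_X]
      rw [h1, map_mul, h]
      change _ * al R u v = _
      rw [map_mul]
      linear_combination (algebraMap R (B R u v) d) * (al_sq R u v)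

/-- Ring maps out of `B`. -/
noncomputable def bLift {Q : Type u} [CommRing Q] (c : R →+* Q) (w : Q) (h1 : c u * w = 0)
    (h2 : w ^ 2 = c (v ^ 2)) : B R u v →+* Q :=
  Ideal.Quotient.lift _ (Polynomial.eval₂RingHom c w) (by
    have : Ideal.span {(C u * X : R[X]), X ^ 2 - C (v ^ 2)} ≤
        RingHom.ker (Polynomial.eval₂RingHom c w) := by
      rw [Ideal.span_le]
      rintro f hf
      rcases hf with rfl | hf
      · simp [h1]
      · rw [Set.mem_singleton_iff] at hf
        subst hf
        change Polynomial.eval₂ c w (X ^ 2 - C (v ^ 2)) = 0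
        rw [eval₂_sub, eval₂_pow, eval₂_X, eval₂_C, h2, sub_self]
    exact fun a ha => RingHom.mem_ker.1 (this ha))

theorem bLift_algebraMap {Q : Type u} [CommRing Q] (c : R →+* Q) (w : Q) (h1 : c u * w = 0)
    (h2 : w ^ 2 = c (v ^ 2)) (r : R) : bLift R u v c w h1 h2 (algebraMap R _ r) = c r := by
  refine (Ideal.Quotient.lift_mk _ _ _).trans ?_
  simp

theorem bLift_al {Q : Type u} [CommRing Q] (c : R →+* Q) (w : Q) (h1 : c u * w = 0)
    (h2 : w ^ 2 = c (v ^ 2)) : bLift R u v c w h1 h2 (al R u v) = w := by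
  refine (Ideal.Quotient.lift_mk _ _ _).trans ?_
  simp

/-- The element `a ⊗ 1 + b ⊗ α` of the twist. -/
noncomputable def el (i : ℕ) (a b : R) : Twist p R (B R u v) i :=
  a ⊗ₜ ((aEquiv p R (B R u v) i).symm 1) + b ⊗ₜ ((aEquiv p R (B R u v) i).symm (al R u v))

theorem exists_el (i : ℕ) (x : Twist p R (B R u v) i) : ∃ a b, x = el p R u v i a b := by
  induction x using TensorProduct.induction_on with
  | zero => exact ⟨0, 0, by rw [el, TensorProduct.zero_tmul, TensorProduct.zero_tmul, add_zero]⟩
  | add x y hx hy =>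
    obtain ⟨a, b, rfl⟩ := hx
    obtain ⟨c, d, rfl⟩ := hy
    exact ⟨a + c, b + d, by rw [el, el, el, TensorProduct.add_tmul, TensorProduct.add_tmul]; abel⟩
  | tmul r y =>
    obtain ⟨a, b, h⟩ := exists_eq R u v (aEquiv p R (B R u v) i y)
    refine ⟨a ^ p ^ i * r, b ^ p ^ i * r, ?_⟩
    rw [el, ← tmul_algebraMap_mul, ← tmul_algebraMap_mul, ← TensorProduct.tmul_add, ← map_add,
      mul_one, ← h, RingEquiv.symm_apply_apply]

/-- Equality of two elements of the twist, detected by the retraction `α ↦ v` and by the quotient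
modulo `u ^ q`. -/
theorem el_eq (huv : u * v = 0) (i : ℕ) (a b c d : R)
    (h : el p R u v i a b = el p R u v i c d) :
    a = c ∧ b - d ∈ Ideal.span {u ^ p ^ i} := by
  have hq : p ^ i ≠ 0 := pow_ne_zero _ (Fact.out : p.Prime).ne_zero
  -- the quotient modulo `u ^ q`
  have key : b - d ∈ Ideal.span {u ^ p ^ i} := by
    let Rb := R ⧸ Ideal.span {u ^ p ^ i}
    let Q := QuadraticAlgebra Rb ((Ideal.Quotient.mk _ (v ^ p ^ i)) ^ 2 : Rb) (0 : Rb)
    let c0 : R →+* Q := (algebraMap Rb Q).comp (Ideal.Quotient.mk _)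
    have hc0 : ∀ r, c0 r = ⟨Ideal.Quotient.mk _ r, 0⟩ := fun r => rfl
    let w : Q := ⟨0, 1⟩
    have h1 : (c0.comp (iterateFrobenius R p i)) u * w = 0 := by
      rw [RingHom.comp_apply, iterateFrobenius_def, hc0]
      have : (Ideal.Quotient.mk (Ideal.span {u ^ p ^ i})) (u ^ p ^ i) = 0 :=
        Ideal.Quotient.eq_zero_iff_mem.2 (Ideal.subset_span rfl)
      rw [this]
      change (0 : Q) * w = 0
      rw [zero_mul]
    have h2 : w ^ 2 = (c0.comp (iterateFrobenius R p i)) (v ^ 2) := by
      rw [RingHom.comp_apply, iterateFrobenius_def, hc0, pow_two]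
      change (⟨0, 1⟩ : Q) * ⟨0, 1⟩ = _
      rw [QuadraticAlgebra.mk_mul_mk]
      ext
      · simp only [zero_mul, mul_one, zero_add, mul_zero, add_zero]
        rw [← map_pow, ← pow_mul, ← pow_mul, mul_comm]
      · simp
    let g := bLift R u v (c0.comp (iterateFrobenius R p i)) w h1 h2
    have hg : ∀ s : R, g (algebraMap R (B R u v) s) = c0 (s ^ p ^ i) := fun s => by
      rw [bLift_algebraMap, RingHom.comp_apply, iterateFrobenius_def]
    have hD : ∀ a b, twistMap p R (B R u v) i c0 g hg (el p R u v i a b) =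
        ⟨Ideal.Quotient.mk _ a, Ideal.Quotient.mk _ b⟩ := by
      intro a b
      rw [el, map_add, twistMap_tmul, twistMap_tmul, RingEquiv.apply_symm_apply,
        RingEquiv.apply_symm_apply, map_one, mul_one, bLift_al, hc0, hc0]
      change (⟨_, _⟩ : Q) + (⟨_, _⟩ : Q) * ⟨0, 1⟩ = _
      rw [QuadraticAlgebra.mk_mul_mk]
      ext <;> simp
    have h3 := congrArg (twistMap p R (B R u v) i c0 g hg) h
    rw [hD, hD, QuadraticAlgebra.mk.injEq] at h3
    exact Ideal.Quotient.eq.1 h3.2
  refine ⟨?_, key⟩
  -- the retraction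
  have h1 : (iterateFrobenius R p i) u * v ^ p ^ i = 0 := by
    rw [iterateFrobenius_def, ← mul_pow, huv, zero_pow hq]
  have h2 : (v ^ p ^ i) ^ 2 = (iterateFrobenius R p i) (v ^ 2) := by
    rw [iterateFrobenius_def, ← pow_mul, ← pow_mul, mul_comm]
  let g := bLift R u v (iterateFrobenius R p i) (v ^ p ^ i) h1 h2
  have hg : ∀ s : R, g (algebraMap R (B R u v) s) = (RingHom.id R) (s ^ p ^ i) := fun s => by
    rw [bLift_algebraMap, iterateFrobenius_def, RingHom.id_apply]
  have hD : ∀ a b, twistMap p R (B R u v) i (RingHom.id R) g hg (el p R u v i a b) =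
      a + b * v ^ p ^ i := by
    intro a b
    rw [el, map_add, twistMap_tmul, twistMap_tmul, RingEquiv.apply_symm_apply,
      RingEquiv.apply_symm_apply, map_one, mul_one, bLift_al]
    rfl
  have h3 := congrArg (twistMap p R (B R u v) i (RingHom.id R) g hg) h
  rw [hD, hD] at h3
  obtain ⟨e, he⟩ := Ideal.mem_span_singleton'.1 key
  have h4 : (b - d) * v ^ p ^ i = 0 := by
    rw [← he, mul_assoc, ← mul_pow, huv, zero_pow hq, mul_zero]
  linear_combination h3 - h4

end main

open Polynomial in
/-- Let p be an odd prime, R a commutative ring of characteristic p and u, v ∈ R with uv = 0, such that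
for every N ≥ 1 an element of R lying in (v^n) + (u^N) for all n lies in (u^N) (v-adic separatedness
of R/(u^N)). Let B = R[α]/(uα, α² − v²), an R-algebra of characteristic p, with Frobenius twists
B^{p^i/R} = R ⊗_{F^i,R} B and preperfection B^{p^∞/R} = lim_i B^{p^i/R} along the relative Frobenius
maps. Then the structure map R → B^{p^∞/R} is bijective: the preperfection of B is R. (The published
statement is for R = F_p[[u, v]]/(uv), where B arises as the preperfection of R[x, y, 1/(x − y)]/(xy
− u), so that the second preperfection of that algebra is R although the first is not perfect; the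
printed computation uses only the hypotheses listed here, which that R satisfies.) -/
theorem result
    (p : ℕ) [Fact p.Prime] (hp : p ≠ 2) (R : Type u) [CommRing R] [CharP R p]
    (u v : R) (huv : u * v = 0)
    (hsep : ∀ N : ℕ, 1 ≤ N → ∀ g : R,
      (∀ n : ℕ, g ∈ Ideal.span {v ^ n} ⊔ Ideal.span {u ^ N}) → g ∈ Ideal.span {u ^ N})
    [CharP (R[X] ⧸ Ideal.span {(C u * X : R[X]), X ^ 2 - C (v ^ 2)}) p] :
    Function.Bijective
      (algebraMap R ↥(W4c1imperftorsors.prePerf p R
        (R[X] ⧸ Ideal.span {(C u * X : R[X]), X ^ 2 - C (v ^ 2)}))) := by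
  have hmem : ∀ x : (Π j : ℕ, W4c1imperftorsors.Twist p R (B R u v) j),
      x ∈ W4c1imperftorsors.prePerf p R (B R u v) ↔
        ∀ i, W4c1imperftorsors.relFrob p R (B R u v) i (x (i + 1)) = x i := by
    intro x
    unfold W4c1imperftorsors.prePerf
    rw [Algebra.mem_iInf]
    rfl
  have hel : ∀ i (a : R), algebraMap R (W4c1imperftorsors.Twist p R (B R u v) i) a =
      el p R u v i a 0 := by
    intro i a
    rw [el, TensorProduct.zero_tmul, add_zero]
    rfl
  -- the relative Frobenius
  have halp : (al R u v) ^ p = algebraMap R (B R u v) (v ^ (p - 1)) * al R u v := by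
    obtain ⟨m, hm⟩ := (Fact.out : p.Prime).odd_of_ne_two hp
    have hm' : p - 1 = 2 * m := by omega
    rw [hm', hm, pow_succ, pow_mul, al_sq, ← map_pow, pow_mul]
  have hF : ∀ i a b, W4c1imperftorsors.relFrob p R (B R u v) i (el p R u v (i + 1) a b) =
      el p R u v i a (b * v ^ ((p - 1) * p ^ i)) := by
    intro i a b
    rw [el, map_add, relFrob_tmul, relFrob_tmul, one_pow, halp, tmul_algebraMap_mul, el,
      ← pow_mul, mul_comm b]
  constructor
  · intro a b hab
    have h1 : algebraMap R (W4c1imperftorsors.Twist p R (B R u v) 0) a =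
        algebraMap R (W4c1imperftorsors.Twist p R (B R u v) 0) b :=
      congrFun (congrArg Subtype.val hab) 0
    rw [hel, hel] at h1
    exact (el_eq p R u v huv 0 _ _ _ _ h1).1
  · intro x
    choose a b hab using fun i => exists_el p R u v i (x.1 i)
    have hrel : ∀ i, a i = a (i + 1) ∧
        b i - b (i + 1) * v ^ ((p - 1) * p ^ i) ∈ Ideal.span {u ^ p ^ i} := by
      intro i
      apply el_eq p R u v huv i
      rw [← hF, ← hab, ← hab]
      exact ((hmem x.1).1 x.2 i).symm
    have ha : ∀ i, a i = a 0 := by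
      intro i
      induction i with
      | zero => rfl
      | succ i ih => rw [← (hrel i).1, ih]
    have hp1 : 1 ≤ p := (Fact.out : p.Prime).one_le
    have hb1 : ∀ n i, b i ∈ Ideal.span {v ^ n} ⊔ Ideal.span {u ^ p ^ i} := by
      intro n
      induction n with
      | zero =>
        intro i
        rw [pow_zero, Ideal.span_singleton_one]
        exact Ideal.mem_sup_left Submodule.mem_top
      | succ n ih =>
        intro i
        have h1 : b i = (b i - b (i + 1) * v ^ ((p - 1) * p ^ i)) +
          b (i + 1) * v ^ ((p - 1) * p ^ i) := by ring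
        rw [h1]
        refine add_mem (Ideal.mem_sup_right (hrel i).2) ?_
        obtain ⟨y, hy, z, hz, hyz⟩ := Submodule.mem_sup.1 (ih (i + 1))
        obtain ⟨y', rfl⟩ := Ideal.mem_span_singleton'.1 hy
        obtain ⟨z', rfl⟩ := Ideal.mem_span_singleton'.1 hz
        have hpos : 1 ≤ (p - 1) * p ^ i :=
          Nat.one_le_iff_ne_zero.2 (Nat.mul_ne_zero (by
            have := (Fact.out : p.Prime).two_le
            omega) (pow_ne_zero _ (Fact.out : p.Prime).ne_zero))
        obtain ⟨m, hm⟩ := Nat.exists_eq_add_of_le hpos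
        rw [← hyz, add_mul]
        refine Submodule.add_mem_sup (Ideal.mem_span_singleton'.2 ⟨y' * v ^ m, ?_⟩)
          (Ideal.mem_span_singleton'.2 ⟨z' * u ^ (p ^ (i + 1) - p ^ i) *
            v ^ ((p - 1) * p ^ i), ?_⟩)
        · rw [hm]; ring
        · have : u ^ p ^ (i + 1) = u ^ (p ^ (i + 1) - p ^ i) * u ^ (p ^ i) := by
            rw [← pow_add, Nat.sub_add_cancel (Nat.pow_le_pow_right hp1 (Nat.le_succ i))]
          rw [this]; ring
    have hb : ∀ i, b i ∈ Ideal.span {u ^ p ^ i} := fun i =>
      hsep _ (Nat.one_le_iff_ne_zero.2 (pow_ne_zero _ (Fact.out : p.Prime).ne_zero)) _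
        (fun n => hb1 n i)
    refine ⟨a 0, Subtype.ext (funext fun i => ?_)⟩
    change algebraMap R (W4c1imperftorsors.Twist p R (B R u v) i) (a 0) = x.1 i
    obtain ⟨c, hc⟩ := Ideal.mem_span_singleton'.1 (hb i)
    rw [hab, ha i, hel, el, el, TensorProduct.zero_tmul, ← hc, mul_comm c, ← tmul_algebraMap_mul,
      u_mul_al, map_zero, TensorProduct.tmul_zero]

end Groth.Agent.S13047
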