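import Groth.Statements.S13048
import Mathlib.RingTheory.Nullstellensatz
import Mathlib.Algebra.CharP.Algebra
import Mathlib.FieldTheory.IsAlgClosed.Basic
import Mathlib.RingTheory.Filtration
import Mathlib.RingTheory.Jacobson.Ring

set_option autoImplicit false
universe u
open FrobAlg

namespace Groth.Agent.S13048

/-- In a Noetherian ring, an element of a maximal ideal `m` which is a `p^n`-th power of elements
for all `n` is killed by an element outside `m`. -/
theorem exists_mul_eq_zero (p : ℕ) [Fact p.Prime] (A : Type u) [CommRing A] [IsNoetherianRing A]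
    (m : Ideal A) [m.IsMaximal] (y : A) (hy : ∀ n : ℕ, ∃ a ∈ m, a ^ p ^ n = y) :
    ∃ s, s ∉ m ∧ s * y = 0 := by
  have h1 : y ∈ (⨅ i : ℕ, m ^ i • (⊤ : Submodule A A)) := by
    rw [Submodule.mem_iInf]
    intro i
    obtain ⟨a, ha, rfl⟩ := hy i
    rw [smul_eq_mul, Ideal.mul_top]
    exact Ideal.pow_le_pow_right (Nat.lt_pow_self (Fact.out : p.Prime).one_lt).le
      (Ideal.pow_mem_pow ha _)
  rw [Ideal.mem_iInf_smul_pow_eq_bot_iff] at h1
  obtain ⟨r, hr⟩ := h1
  refine ⟨1 - r, fun h => ?_, ?_⟩
  · exact (Ideal.ne_top_iff_one m).1 (Ideal.IsMaximal.ne_top ‹_›) (by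
      have := m.add_mem h r.2
      rwa [sub_add_cancel] at this)
  · rw [sub_mul, one_mul, sub_eq_zero]
    exact hr.symm

/-- Let k be an algebraically closed field of characteristic p > 0 and let A be a reduced finitely
generated commutative k-algebra with connected spectrum (A ≠ 0 and 0, 1 are its only idempotents).
If x ∈ A is a p^n-th power in A for every n ≥ 0, then x lies in the image of k; that is, ⋂_n A^{p^n}
= k. (The published statement is: for an artinian local ring R of characteristic p and a flat
R-algebra A of finite type, the maps A^ét → O(π₀(A)) → A^{p^∞/R} from the largest étale subalgebra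
to the preperfection are isomorphisms. This row is the case R = k algebraically closed and A reduced
with connected spectrum, where A^ét = k and the preperfection is ⋂_n A^{p^n}; the printed proof
reduces to this case and its last step proves it.) -/
theorem result
    (p : ℕ) [Fact p.Prime] (k : Type u) [Field k] [IsAlgClosed k] [CharP k p]
    (A : Type u) [CommRing A] [Algebra k A] [Algebra.FiniteType k A] [IsReduced A] [Nontrivial A]
    (hconn : ∀ e : A, IsIdempotentElem e → e = 0 ∨ e = 1)
    (x : A) (hx : ∀ n : ℕ, ∃ a : A, a ^ p ^ n = x) :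
    x ∈ (algebraMap k A).range := by
  have hnoeth : IsNoetherianRing A := Algebra.FiniteType.isNoetherianRing k A
  obtain ⟨m, hm⟩ := Ideal.exists_maximal A
  -- the residue field is `k`
  have hres : ∀ (m : Ideal A) [m.IsMaximal], Function.Surjective (algebraMap k (A ⧸ m)) := by
    intro m hm
    let _ : Field (A ⧸ m) := Ideal.Quotient.field m
    have : Algebra.FiniteType k (A ⧸ m) := inferInstance
    have hfin : Module.Finite k (A ⧸ m) := finite_of_finite_type_of_isJacobsonRing k (A ⧸ m)
    have : Algebra.IsIntegral k (A ⧸ m) := inferInstance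
    exact (IsAlgClosed.algebraMap_bijective_of_isIntegral (k := k) (K := A ⧸ m)).2
  obtain ⟨c, hc⟩ := hres m (Ideal.Quotient.mk m x)
  have hperf : ∀ (c : k) (n : ℕ), ∃ b : k, b ^ p ^ n = c := fun c n =>
    IsAlgClosed.exists_pow_nat_eq c (pow_pos (Fact.out : p.Prime).pos n)
  have : CharP A p := charP_of_injective_algebraMap (algebraMap k A).injective p
  set y := x - algebraMap k A c with hy
  have hypow : ∀ n : ℕ, ∃ a : A, a ^ p ^ n = y := by
    intro n
    obtain ⟨a, ha⟩ := hx n
    obtain ⟨b, hb⟩ := hperf c n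
    refine ⟨a - algebraMap k A b, ?_⟩
    rw [sub_pow_char_pow, ha, ← map_pow, hb]
  have hann : ∀ (m : Ideal A) [m.IsMaximal], y ∈ m → ∃ s, s ∉ m ∧ s * y = 0 := by
    intro m hm hym
    refine exists_mul_eq_zero p A m y fun n => ?_
    obtain ⟨a, ha⟩ := hypow n
    exact ⟨a, (hm.isPrime).mem_of_pow_mem _ (ha ▸ hym), ha⟩
  have hym : y ∈ m := by
    rw [← Ideal.Quotient.eq_zero_iff_mem, hy, map_sub, ← hc, sub_eq_zero]
    rfl
  -- the ideal `(y) + Ann y` is the unit ideal
  have htop : Ideal.span {y} ⊔ (⊥ : Ideal A).colon {y} = ⊤ := by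
    by_contra hne
    obtain ⟨m', hm', hle⟩ := Ideal.exists_le_maximal _ hne
    obtain ⟨s, hs, hs0⟩ := hann m' (hle (Ideal.mem_sup_left (Ideal.subset_span rfl)))
    apply hs
    apply hle
    apply Ideal.mem_sup_right
    rw [Submodule.mem_colon_singleton]
    exact hs0
  obtain ⟨a, ha, s, hs, has⟩ := Submodule.mem_sup.1 ((Ideal.eq_top_iff_one _).1 htop)
  obtain ⟨r, rfl⟩ := Ideal.mem_span_singleton'.1 ha
  rw [Submodule.mem_colon_singleton] at hs
  have hs' : s * y = 0 := hs
  have hidem : IsIdempotentElem (r * y) := by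
    unfold IsIdempotentElem
    have : r * y = 1 - s := by rw [← has]; ring
    linear_combination (r * y) * this - r * hs'
  rcases hconn _ hidem with h0 | h1
  · have hs1 : s = 1 := by rw [← has, h0, zero_add]
    rw [hs1, one_mul] at hs'
    exact ⟨c, (sub_eq_zero.1 (hy.symm.trans hs')).symm⟩
  · exact absurd (m.mul_mem_left r hym) (by rw [h1]; exact (Ideal.ne_top_iff_one m).1 hm.ne_top)

end Groth.Agent.S13048
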