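import Groth.Statements.S13049
import Mathlib.RingTheory.Perfection

set_option autoImplicit false
universe u
open FrobAlg

namespace Groth.Agent.S13049

/-- Let p be a prime and A a commutative ring of characteristic p whose nilradical N satisfies x^(p^e) =
0 for all x ∈ N and some fixed e (for instance A Noetherian). Then the map between the inverse-limit
perfections along the absolute Frobenius, lim (⋯ → A → A) → lim (⋯ → A/N → A/N), induced by the
projection A → A/N, is bijective. (The published argument takes A of finite type over a field, where
the nilradical is finitely generated; this row assumes only that the nilradical is killed by one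
fixed iterate of Frobenius, which is all that argument uses.) -/
theorem result
    (p : ℕ) [Fact p.Prime] (A : Type u) [CommRing A] [CharP A p]
    [CharP (A ⧸ nilradical A) p] (e : ℕ) (he : ∀ x ∈ nilradical A, x ^ p ^ e = 0) :
    Function.Bijective (Perfection.map p (Ideal.Quotient.mk (nilradical A))) := by
  have hpow : ∀ x y : A, x - y ∈ nilradical A → x ^ p ^ e = y ^ p ^ e := fun x y hxy => by
    have h1 := he _ hxy
    rw [sub_pow_char_pow] at h1
    exact sub_eq_zero.1 h1
  constructor
  · rw [injective_iff_map_eq_zero]
    intro f hf
    refine Perfection.ext fun n => ?_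
    have h1 : Perfection.coeff A p (n + e) f ∈ nilradical A := by
      have h2 := congrArg (Perfection.coeff (A ⧸ nilradical A) p (n + e)) hf
      rwa [Perfection.coeff_map, map_zero, Ideal.Quotient.eq_zero_iff_mem] at h2
    have h3 := he _ h1
    have h4 : ∀ m, Perfection.coeff A p (n + m) f ^ p ^ m = Perfection.coeff A p n f := by
      intro m
      induction m with
      | zero => simp
      | succ m ih =>
        rw [pow_succ', pow_mul, ← add_assoc, Perfection.coeff_pow_p', ih]
    rw [← h4 e, h3, map_zero]
  · intro g
    have h4 : ∀ n m, Perfection.coeff (A ⧸ nilradical A) p (n + m) g ^ p ^ m =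
        Perfection.coeff (A ⧸ nilradical A) p n g := by
      intro n m
      induction m with
      | zero => simp
      | succ m ih =>
        rw [pow_succ', pow_mul, ← add_assoc, Perfection.coeff_pow_p', ih]
    choose a ha using fun n => Ideal.Quotient.mk_surjective
      (Perfection.coeff (A ⧸ nilradical A) p n g)
    refine ⟨⟨fun n => a (n + e) ^ p ^ e, fun n => ?_⟩, ?_⟩
    · rw [← pow_mul, mul_comm, pow_mul]
      apply hpow
      rw [← Ideal.Quotient.eq, map_pow, ha, ha, show n + 1 + e = n + e + 1 by ring,
        Perfection.coeff_pow_p']
    · refine Perfection.ext fun n => ?_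
      change Ideal.Quotient.mk (nilradical A) (a (n + e) ^ p ^ e) = _
      rw [map_pow, ha, h4]

end Groth.Agent.S13049
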