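import Groth.Statements.S13051
import Groth.Agent.Zeta.K466.Count

set_option autoImplicit false
universe u
open CategoryTheory AlgebraicGeometry
open Zeta

namespace Groth.Agent.S13051

open Groth.Agent.MiscA.ZetaAbsCx in
theorem aux_logD {k : Type u} [Field k] {X : Scheme.{u}} (f : X ⟶ Spec (CommRingCat.of k)) (n : ℕ) :
    LogD (Zeta.zetaFun f * ∏ r ∈ Finset.Icc 1 n, (1 - PowerSeries.X ^ r) ^ Zeta.degCount f r)
      ((PowerSeries.mk fun m => (Zeta.nPts f m : ℚ)) +
        ∑ r ∈ Finset.Icc 1 n, ((Zeta.degCount f r : PowerSeries ℚ) *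
          (PowerSeries.mk fun m => if m ≠ 0 ∧ r ∣ m then - (r : ℚ) else 0))) := by
  refine (K466.Basic.logD_zetaFun f).mul (LogD.prod _ _ _ fun r hr => ?_)
  exact K466.LogD.pow (K466.LogD.one_sub_X_pow r (Finset.mem_Icc.mp hr).1) _

theorem aux_const {k : Type u} [Field k] {X : Scheme.{u}} (f : X ⟶ Spec (CommRingCat.of k)) (n : ℕ) :
    PowerSeries.constantCoeff
      (Zeta.zetaFun f * ∏ r ∈ Finset.Icc 1 n, (1 - PowerSeries.X ^ r) ^ Zeta.degCount f r) = 1 := by
  rw [map_mul, K466.Basic.constantCoeff_zetaFun, one_mul, map_prod]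
  refine Finset.prod_eq_one fun r hr => ?_
  have hr1 := (Finset.mem_Icc.mp hr).1
  rw [map_pow, map_sub, map_one, map_pow, PowerSeries.constantCoeff_X, zero_pow (by omega),
    sub_zero, one_pow]


/-- For a scheme X of finite type over a finite field k, Z(X, t) = ∏ over the closed points x of (1 −
t^{deg x})^{−1}, that is ∏_{r ≥ 1} (1 − t^r)^{−a_r} with a_r the number of closed points of residue
degree r; equivalently, for every n the product Z(X, t) · ∏_{r = 1}^{n} (1 − t^r)^{a_r} is ≡ 1
modulo t^{n+1}. In particular Z(X, t) has integer coefficients. (Stated for any scheme of finite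
type over k; reducedness plays no role.) -/
theorem result {k : Type u} [Field k] [Finite k] {X : Scheme.{u}}
    (f : X ⟶ Spec (CommRingCat.of k)) [LocallyOfFiniteType f] [QuasiCompact f] :
    (∀ n : ℕ, PowerSeries.trunc (n + 1)
        (Zeta.zetaFun f * ∏ r ∈ Finset.Icc 1 n, (1 - PowerSeries.X ^ r) ^ Zeta.degCount f r) = 1) ∧
      ∀ n : ℕ, ∃ z : ℤ, PowerSeries.coeff n (Zeta.zetaFun f) = (z : ℚ) := by
  constructor
  · intro n
    refine K466.LogD.trunc_eq_one (aux_logD f n) (aux_const f n) n fun m hm => ?_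
    rw [map_add, PowerSeries.coeff_mk, map_sum]
    have h1 : ∀ r ∈ Finset.Icc 1 n, PowerSeries.coeff m ((Zeta.degCount f r : PowerSeries ℚ) *
          (PowerSeries.mk fun m => if m ≠ 0 ∧ r ∣ m then - (r : ℚ) else 0)) =
        - (if m ≠ 0 ∧ r ∣ m then (r : ℚ) * Zeta.degCount f r else 0) := by
      intro r _
      rw [← nsmul_eq_mul, map_nsmul, PowerSeries.coeff_mk, nsmul_eq_mul]
      split_ifs <;> ring
    rw [Finset.sum_congr rfl h1, Finset.sum_neg_distrib, ← Finset.sum_filter, add_neg_eq_zero]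
    rcases Nat.eq_zero_or_pos m with rfl | hm0
    · simp [K466.Basic.nPts_zero]
    · have h2 : (Finset.Icc 1 n).filter (fun r => m ≠ 0 ∧ r ∣ m) = m.divisors := by
        ext r
        simp only [Finset.mem_filter, Finset.mem_Icc, Nat.mem_divisors]
        constructor
        · rintro ⟨_, h, h'⟩
          exact ⟨h', h⟩
        · rintro ⟨h, h'⟩
          have := Nat.le_of_dvd hm0 h
          have := Nat.pos_of_dvd_of_pos h hm0
          exact ⟨⟨by omega, by omega⟩, h', h⟩
      rw [h2, Zeta.nPts]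
      push_cast
      rfl
  · intro n
    refine ⟨(Groth.Agent.MiscA.ZetaAbsCount.A (K466.Count.cdeg f) n : ℤ), ?_⟩
    rw [K466.Count.zetaFun_eq_map_A, PowerSeries.coeff_map, PowerSeries.coeff_mk]
    rfl

end Groth.Agent.S13051
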