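import Groth.Statements.S13052
import Groth.Agent.Zeta.K466.Count

set_option autoImplicit false
universe u
open CategoryTheory AlgebraicGeometry
open Zeta

namespace Groth.Agent.S13052

theorem aux_nPts {k : Type u} [Field k] [Finite k]
    {X Y : Scheme.{u}} (f : X ⟶ Spec (CommRingCat.of k)) [LocallyOfFiniteType f] [QuasiCompact f]
    (U : X.Opens) (i : Y ⟶ X) [IsClosedImmersion i] (hY : Set.range i.base = (U : Set X)ᶜ) (m : ℕ) :
    Zeta.nPts f m = Zeta.nPts (i ≫ f) m + Zeta.nPts (U.ι ≫ f) m := by
  let Z : Bool → Scheme.{u} := fun b => if b then Y else U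
  let g : ∀ b, Z b ⟶ X := fun b => match b with
    | true => i
    | false => U.ι
  have h1 : ∀ b, IsPreimmersion (g b) := by
    rintro (_ | _)
    · exact inferInstanceAs (IsPreimmersion U.ι)
    · exact inferInstanceAs (IsPreimmersion i)
  have h2 : ∀ b, LocallyOfFiniteType (g b ≫ f) := by
    rintro (_ | _)
    · exact inferInstanceAs (LocallyOfFiniteType (U.ι ≫ f))
    · exact inferInstanceAs (LocallyOfFiniteType (i ≫ f))
  have hr1 : Set.range (g true) = (U : Set X)ᶜ := hY
  have hr2 : Set.range (g false) = (U : Set X) := by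
    change Set.range U.ι = _
    simp
  have h3 := K466.Count.nPts_eq_sum_of_pieces f Z g
    (fun x _ => by
      by_cases hx : x ∈ U
      · exact ⟨false, by rw [hr2]; exact hx⟩
      · exact ⟨true, by rw [hr1]; exact hx⟩)
    (by
      rintro (_ | _) (_ | _) hij x _ hx hx'
      · exact hij rfl
      · rw [hr2] at hx; rw [hr1] at hx'; exact hx' hx
      · rw [hr2] at hx'; rw [hr1] at hx; exact hx hx'
      · exact hij rfl) m
  rw [h3, Fintype.sum_bool]


/-- If X is a scheme of finite type over a finite field k, Y ↪ X a closed subscheme and U = X ∖ Y its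
open complement, then Z(X, t) = Z(Y, t) · Z(U, t). Here Y is any scheme with a closed immersion into
X whose image is the complement of U (its scheme structure plays no role), and Y, U are k-schemes
through X. -/
theorem result {k : Type u} [Field k] [Finite k]
    {X Y : Scheme.{u}} (f : X ⟶ Spec (CommRingCat.of k)) [LocallyOfFiniteType f] [QuasiCompact f]
    (U : X.Opens) (i : Y ⟶ X) [IsClosedImmersion i] (hY : Set.range i.base = (U : Set X)ᶜ) :
    Zeta.zetaFun f = Zeta.zetaFun (i ≫ f) * Zeta.zetaFun (U.ι ≫ f) := by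
  rw [K466.Basic.zetaFun_eq_iff]
  constructor
  · have h := (K466.Basic.logD_zetaFun (i ≫ f)).mul (K466.Basic.logD_zetaFun (U.ι ≫ f))
    convert h using 1
    ext m
    rw [map_add, PowerSeries.coeff_mk, PowerSeries.coeff_mk, PowerSeries.coeff_mk,
      aux_nPts f U i hY m, Nat.cast_add]
  · rw [map_mul, K466.Basic.constantCoeff_zetaFun, K466.Basic.constantCoeff_zetaFun, mul_one]

end Groth.Agent.S13052
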