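import Groth.Statements.S13053
import Groth.Agent.Zeta.K466.Count
import Groth.Agent.Lefpen.H720.PtCount
import Groth.Agent.CohqB.ProjBC
import Groth.Agent.Ega3B.ProjProper

set_option autoImplicit false
universe u
open CategoryTheory AlgebraicGeometry
open Zeta

namespace Groth.Agent.S13053

open LefPen Groth.Agent.Lefpen.H720.AffPt Groth.Agent.Lefpen.H720.HomPt Groth.Agent.Lefpen.H720.PtCount in
theorem card_points (K : Type u) [Field K] [Finite K] (n : ℕ) :
    SgaExt.pointCount (CohB1.ProjSpace.toSpec n K) K * (Nat.card K - 1) + 1 = Nat.card K ^ (n + 1) := by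
  let G : Form n K 1 := 0
  have h1 := card_zeros G one_ne_zero
  have hG : ∀ v : Fin (n + 1) → K, MvPolynomial.eval v G.1 = 0 := by
    intro v
    change MvPolynomial.eval v 0 = 0
    rw [map_zero]
  have h2 : Nat.card {v : Fin (n + 1) → K // MvPolynomial.eval v G.1 = 0} = Nat.card K ^ (n + 1) := by
    rw [Nat.card_congr (Equiv.subtypeUnivEquiv hG), Nat.card_pi]
    simp
  have h3 : SgaExt.pointCount (CohB1.ProjSpace.toSpec n K) K = Nat.card (XK G) := by
    unfold SgaExt.pointCount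
    symm
    refine Nat.card_congr (Equiv.ofBijective
      (fun g => ⟨g.1 ≫ (hypIdeal G).subschemeι, by rw [Category.assoc]; exact g.2⟩) ⟨?_, ?_⟩)
    · rintro ⟨g, hg⟩ ⟨g', hg'⟩ h
      have h4 : g ≫ (hypIdeal G).subschemeι = g' ≫ (hypIdeal G).subschemeι := congrArg Subtype.val h
      rw [cancel_mono] at h4
      exact Subtype.ext h4
    · rintro ⟨g, hg⟩
      obtain ⟨j, a, rfl⟩ := exists_eq_apt g hg
      have h0 : MvPolynomial.aeval a (Groth.Agent.Sga5.ProjChart.dehom n K j G.1) = 0 := by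
        have : G.1 = 0 := rfl
        rw [this, map_zero, map_zero]
      obtain ⟨g', hg'⟩ := exists_lift_apt G j a h0
      refine ⟨⟨g', ?_⟩, Subtype.ext hg'⟩
      rw [← Category.assoc, hg', apt_toSpec]
  rw [h3, ← h1, h2]

theorem nPts_projSpace (k : Type u) [Field k] [Finite k] (n m : ℕ) (hm : m ≠ 0) :
    (Zeta.nPts (CohB1.ProjSpace.toSpec n k) m : ℚ) =
      ∑ i ∈ Finset.range (n + 1), ((Nat.card k : ℚ) ^ i) ^ m := by
  obtain ⟨K, _, _, _, hK⟩ := Groth.Agent.MiscA.PointCount.exists_extension k m hm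
  have hpr : IsProper (CohB1.ProjSpace.toSpec n k) := Groth.Agent.Ega3B.ProjProper.isProper_toSpec n k
  have hft : LocallyOfFiniteType (CohB1.ProjSpace.toSpec n k) := inferInstance
  have hqc : QuasiCompact (CohB1.ProjSpace.toSpec n k) := inferInstance
  have h1 := K466.Count.pointCount_baseChange
    (Groth.Agent.CohqB.ProjBC.isPullback_pmap (algebraMap k K) n) K
  rw [K466.Basic.pointCount_eq_nPts (CohB1.ProjSpace.toSpec n k), hK] at h1
  have h2 := card_points K n
  rw [h1] at h2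
  have hcard : Nat.card K = Nat.card k ^ m := by
    rw [← hK]
    exact Module.natCard_eq_pow_finrank (K := k) (V := K)
  have hq : 1 < Nat.card K := Finite.one_lt_card
  have h3 : (Zeta.nPts (CohB1.ProjSpace.toSpec n k) m : ℚ) * ((Nat.card K : ℚ) - 1) =
      (Nat.card K : ℚ) ^ (n + 1) - 1 := by
    have h4 : ((Zeta.nPts (CohB1.ProjSpace.toSpec n k) m * (Nat.card K - 1) + 1 : ℕ) : ℚ) =
      ((Nat.card K ^ (n + 1) : ℕ) : ℚ) := by rw [h2]
    push_cast [Nat.cast_sub hq.le] at h4
    linarith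
  have hne : ((Nat.card K : ℚ) - 1) ≠ 0 := by
    have : (1 : ℚ) < Nat.card K := by exact_mod_cast hq
    linarith
  have h5 : ∑ i ∈ Finset.range (n + 1), ((Nat.card k : ℚ) ^ i) ^ m =
      ∑ i ∈ Finset.range (n + 1), (Nat.card K : ℚ) ^ i := by
    refine Finset.sum_congr rfl fun i _ => ?_
    rw [hcard]
    push_cast
    rw [← pow_mul, ← pow_mul, mul_comm]
  rw [h5]
  apply mul_right_cancel₀ hne
  rw [h3, geom_sum_mul]


/-- For a finite field k with q elements, Z(P^n_k, t) = 1 / ((1 − t)(1 − qt) ⋯ (1 − q^n t)); stated as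
Z(P^n_k, t) · ∏_{i = 0}^{n} (1 − q^i t) = 1 in ℚ⟦t⟧. -/
theorem result (k : Type u) [Field k] [Finite k] (n : ℕ) :
    Zeta.zetaFun (CohB1.ProjSpace.toSpec n k) *
        ∏ i ∈ Finset.range (n + 1), (1 - PowerSeries.C ((Nat.card k : ℚ) ^ i) * PowerSeries.X) = 1 := by
  have h1 := (K466.Basic.logD_zetaFun (CohB1.ProjSpace.toSpec n k)).mul
    (Groth.Agent.MiscA.ZetaAbsCx.LogD.prod (Finset.range (n + 1))
      (fun i => 1 - PowerSeries.C ((Nat.card k : ℚ) ^ i) * PowerSeries.X) _
      (fun i _ => Groth.Agent.MiscA.ZetaAbsCx.logD_one_sub ((Nat.card k : ℚ) ^ i)))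
  have h2 := Groth.Agent.MiscA.ZetaAbsCx.LogD.one (R := ℚ)
  refine K466.LogD.ext h1 ?_ ?_ ?_
  · convert h2 using 1
    ext m
    rw [map_add, PowerSeries.coeff_mk, map_sum, map_zero]
    simp only [PowerSeries.coeff_mk]
    rcases Nat.eq_zero_or_pos m with rfl | hm
    · simp [K466.Basic.nPts_zero]
    · simp only [if_neg hm.ne']
      rw [nPts_projSpace k n m hm.ne', Finset.sum_neg_distrib, add_neg_cancel]
  · rw [map_mul, K466.Basic.constantCoeff_zetaFun, one_mul, map_prod]
    refine Finset.prod_eq_one fun i _ => ?_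
    simp
  · simp

end Groth.Agent.S13053
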