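import Groth.Statements.S13054
import Groth.Agent.Zeta.K466.Count
import Mathlib.RingTheory.RootsOfUnity.PrimitiveRoots

set_option autoImplicit false
universe u
open CategoryTheory AlgebraicGeometry Limits
open Zeta

namespace Groth.Agent.S13054

open PowerSeries Groth.Agent.MiscA.ZetaAbsCx in
theorem logD_subst {R : Type*} [CommRing R] {f v : PowerSeries R} (h : LogD f v) (r : ℕ) (hr : r ≠ 0) :
    LogD (subst ((X : PowerSeries R) ^ r) f) ((r : PowerSeries R) * subst ((X : PowerSeries R) ^ r) v) := by
  have hs : HasSubst ((X : PowerSeries R) ^ r) := HasSubst.X_pow hr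
  unfold LogD at *
  rw [derivative_subst hs, derivative_pow, derivative_X]
  have h1 := congrArg (subst ((X : PowerSeries R) ^ r)) h
  rw [subst_mul hs, subst_mul hs, subst_X hs] at h1
  have h2 : (X : PowerSeries R) ^ r = X * X ^ (r - 1) := by
    rw [← pow_succ']
    congr 1
    omega
  calc (X : PowerSeries R) * (subst (X ^ r) (derivative R f) * ((r : PowerSeries R) * X ^ (r - 1) * 1))
      = (r : PowerSeries R) * ((X * X ^ (r - 1)) * subst (X ^ r) (derivative R f)) := by ring
    _ = (r : PowerSeries R) * (X ^ r * subst (X ^ r) (derivative R f)) := by rw [← h2]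
    _ = _ := by rw [h1]; ring

theorem sum_pow_root (r : ℕ) (ξ : ℂ) (hξ : IsPrimitiveRoot ξ r) (m : ℕ) :
    ∑ i ∈ Finset.range r, (ξ ^ i) ^ m = if r ∣ m then (r : ℂ) else 0 := by
  have h1 : ∑ i ∈ Finset.range r, (ξ ^ i) ^ m = ∑ i ∈ Finset.range r, (ξ ^ m) ^ i :=
    Finset.sum_congr rfl fun i _ => by rw [← pow_mul, ← pow_mul, mul_comm]
  rw [h1]
  split_ifs with h
  · rw [(hξ.pow_eq_one_iff_dvd m).mpr h]
    simp
  · have h2 : ξ ^ m ≠ 1 := fun h2 => h ((hξ.pow_eq_one_iff_dvd m).mp h2)
    have h3 := mul_geom_sum (ξ ^ m) r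
    rw [← pow_mul, mul_comm m r, pow_mul, hξ.pow_eq_one, one_pow, sub_self] at h3
    exact (mul_eq_zero.mp h3).resolve_left (sub_ne_zero.mpr h2)


/-- Let X be a scheme of finite type over a finite field k, k'/k a finite extension of degree r and X' =
X ×_{Spec k} Spec k', a k'-scheme. Then Z(X', t^r) = ∏_{i = 1}^{r} Z(X, ξ^i t) for ξ a primitive
r-th root of unity; stated in ℂ⟦t⟧ with the product over the exponents 0, …, r − 1. (Reducedness of
X plays no role.) -/
theorem result {k : Type u} [Field k] [Finite k]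
    {X : Scheme.{u}} (f : X ⟶ Spec (CommRingCat.of k)) [LocallyOfFiniteType f] [QuasiCompact f]
    (k' : Type u) [Field k'] [Algebra k k'] [Finite k'] (ξ : ℂ)
    (hξ : IsPrimitiveRoot ξ (Module.finrank k k')) :
    PowerSeries.subst ((PowerSeries.X : PowerSeries ℂ) ^ Module.finrank k k')
        (PowerSeries.map (algebraMap ℚ ℂ) (Zeta.zetaFun
          (pullback.snd f (Spec.map (CommRingCat.ofHom (algebraMap k k')))))) =
      ∏ i ∈ Finset.range (Module.finrank k k'),
        PowerSeries.rescale (ξ ^ i) (PowerSeries.map (algebraMap ℚ ℂ) (Zeta.zetaFun f)) := by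
  have hr : Module.finrank k k' ≠ 0 := by
    have : Module.Finite k k' := Module.Finite.of_finite
    exact Module.finrank_pos.ne'
  set r := Module.finrank k k' with hrdef
  have hP : IsPullback (pullback.fst f (Spec.map (CommRingCat.ofHom (algebraMap k k'))))
    (pullback.snd f (Spec.map (CommRingCat.ofHom (algebraMap k k')))) f
    (Spec.map (CommRingCat.ofHom (algebraMap k k'))) := IsPullback.of_hasPullback _ _
  have h1 := logD_subst ((K466.Basic.logD_zetaFun
    (pullback.snd f (Spec.map (CommRingCat.ofHom (algebraMap k k'))))).map (algebraMap ℚ ℂ)) r hr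
  have h2 := Groth.Agent.MiscA.ZetaAbsCx.LogD.prod (Finset.range r)
    (fun i => PowerSeries.rescale (ξ ^ i) (PowerSeries.map (algebraMap ℚ ℂ) (Zeta.zetaFun f))) _
    (fun i _ => K466.LogD.rescale ((K466.Basic.logD_zetaFun f).map (algebraMap ℚ ℂ)) (ξ ^ i))
  refine K466.LogD.ext h1 ?_ ?_ ?_
  · convert h2 using 1
    ext m
    rw [← nsmul_eq_mul, map_nsmul, PowerSeries.coeff_subst_X_pow hr, map_sum]
    simp only [PowerSeries.coeff_rescale, PowerSeries.coeff_map, PowerSeries.coeff_mk]
    rw [← Finset.sum_mul, sum_pow_root r ξ hξ, nsmul_eq_mul]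
    split_ifs with hd
    · rw [K466.Count.nPts_baseChange hP, ← hrdef, Nat.mul_div_cancel' hd]
      simp
    · simp
  · rw [PowerSeries.constantCoeff_subst_X_pow hr]
    have h3 : PowerSeries.constantCoeff (PowerSeries.map (algebraMap ℚ ℂ) (Zeta.zetaFun
          (pullback.snd f (Spec.map (CommRingCat.ofHom (algebraMap k k')))))) = 1 := by
      rw [← PowerSeries.coeff_zero_eq_constantCoeff_apply, PowerSeries.coeff_map,
        PowerSeries.coeff_zero_eq_constantCoeff_apply, K466.Basic.constantCoeff_zetaFun, map_one]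
    rw [h3, map_one]
  · rw [map_prod]
    refine Finset.prod_eq_one fun i _ => ?_
    rw [← PowerSeries.coeff_zero_eq_constantCoeff_apply, PowerSeries.coeff_rescale,
      PowerSeries.coeff_map, PowerSeries.coeff_zero_eq_constantCoeff_apply,
      K466.Basic.constantCoeff_zetaFun, map_one, pow_zero, one_mul]

end Groth.Agent.S13054
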