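import Groth.Statements.S13055
import Groth.Agent.Zeta.K466.Basic

set_option autoImplicit false
universe u
open CategoryTheory AlgebraicGeometry
open Zeta

namespace Groth.Agent.S13055

open PowerSeries Groth.Agent.MiscA.ZetaAbsCx in
theorem aux_prod (q : ℚ) (d : ℕ) (a : ℕ → ℕ) :
    LogD (∏ i ∈ Finset.range d, (1 - PowerSeries.C (q ^ i) * PowerSeries.X) ^ a i)
      (PowerSeries.mk fun n => if n = 0 then 0 else - ∑ i ∈ Finset.range d, (a i : ℚ) * (q ^ i) ^ n) := by
  have h := LogD.prod (Finset.range d) (fun i => (1 - PowerSeries.C (q ^ i) * PowerSeries.X) ^ a i) _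
    (fun i _ => K466.LogD.pow (logD_one_sub (q ^ i)) (a i))
  convert h using 1
  ext n
  rw [map_sum, coeff_mk]
  have h1 : ∀ i ∈ Finset.range d, coeff n ((a i : PowerSeries ℚ) *
      (PowerSeries.mk fun n => if n = 0 then 0 else - (q ^ i) ^ n)) =
      if n = 0 then 0 else - ((a i : ℚ) * (q ^ i) ^ n) := by
    intro i _
    rw [← nsmul_eq_mul, map_nsmul, coeff_mk, nsmul_eq_mul]
    split_ifs <;> ring
  rw [Finset.sum_congr rfl h1]
  split_ifs
  · simp
  · rw [Finset.sum_neg_distrib]

open PowerSeries in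
theorem aux_const (q : ℚ) (d : ℕ) (a : ℕ → ℕ) :
    constantCoeff (∏ i ∈ Finset.range d, (1 - PowerSeries.C (q ^ i) * PowerSeries.X) ^ a i) = 1 := by
  rw [map_prod]
  refine Finset.prod_eq_one fun i _ => ?_
  simp


/-- Let X be a scheme of finite type over a finite field k with q elements and P = a_d y^d + ⋯ + a_0 ∈
ℤ[y] with N_m = P(q^m) for every m ≥ 1 (X is of polynomial count). Then Z(X, t) = ∏_{i = 0}^{d} (1 −
q^i t)^{−a_i}; stated cleared of denominators, with the factors of positive exponent moved to the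
left. -/
theorem result {k : Type u} [Field k] [Finite k] {X : Scheme.{u}}
    (f : X ⟶ Spec (CommRingCat.of k)) [LocallyOfFiniteType f] [QuasiCompact f] (P : Polynomial ℤ)
    (hP : ∀ m : ℕ, 1 ≤ m → (Zeta.nPts f m : ℤ) = P.eval ((Nat.card k : ℤ) ^ m)) :
    Zeta.zetaFun f * ∏ i ∈ Finset.range (P.natDegree + 1),
        (1 - PowerSeries.C ((Nat.card k : ℚ) ^ i) * PowerSeries.X) ^ (P.coeff i).toNat =
      ∏ i ∈ Finset.range (P.natDegree + 1),
        (1 - PowerSeries.C ((Nat.card k : ℚ) ^ i) * PowerSeries.X) ^ (-P.coeff i).toNat := by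
  have h1 := (K466.Basic.logD_zetaFun f).mul
    (aux_prod (Nat.card k : ℚ) (P.natDegree + 1) (fun i => (P.coeff i).toNat))
  have h2 := aux_prod (Nat.card k : ℚ) (P.natDegree + 1) (fun i => (-P.coeff i).toNat)
  refine K466.LogD.ext h1 ?_ ?_ ?_
  · convert h2 using 1
    ext n
    rw [map_add, PowerSeries.coeff_mk, PowerSeries.coeff_mk, PowerSeries.coeff_mk]
    rcases Nat.eq_zero_or_pos n with rfl | hn
    · simp [K466.Basic.nPts_zero]
    · rw [if_neg hn.ne', if_neg hn.ne']
      have h3 : (Zeta.nPts f n : ℚ) = ∑ i ∈ Finset.range (P.natDegree + 1),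
          (P.coeff i : ℚ) * ((Nat.card k : ℚ) ^ i) ^ n := by
        have h4 : (Zeta.nPts f n : ℚ) = ((P.eval ((Nat.card k : ℤ) ^ n) : ℤ) : ℚ) := by
          rw [← hP n hn]; simp
        rw [h4, Polynomial.eval_eq_sum_range]
        push_cast
        refine Finset.sum_congr rfl fun i _ => ?_
        rw [← pow_mul, ← pow_mul, mul_comm n i]
      have h5 : ∀ i, (P.coeff i : ℚ) = ((P.coeff i).toNat : ℚ) - ((-P.coeff i).toNat : ℚ) := by
        intro i
        have := Int.toNat_sub_toNat_neg (P.coeff i)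
        exact_mod_cast this.symm
      rw [h3]
      have h6 : ∑ i ∈ Finset.range (P.natDegree + 1), (P.coeff i : ℚ) * ((Nat.card k : ℚ) ^ i) ^ n =
          ∑ i ∈ Finset.range (P.natDegree + 1), ((P.coeff i).toNat : ℚ) * ((Nat.card k : ℚ) ^ i) ^ n -
          ∑ i ∈ Finset.range (P.natDegree + 1), ((-P.coeff i).toNat : ℚ) * ((Nat.card k : ℚ) ^ i) ^ n := by
        rw [← Finset.sum_sub_distrib]
        refine Finset.sum_congr rfl fun i _ => ?_
        rw [h5 i]; ring
      rw [h6]; ring
  · rw [map_mul, K466.Basic.constantCoeff_zetaFun, aux_const, mul_one]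
  · rw [aux_const]

end Groth.Agent.S13055
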