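import Groth.Statements.S13056
import Groth.Agent.MiscA.DworkDet
import Groth.Agent.Zeta.K466.LogD

set_option autoImplicit false
universe u v
open Zeta

namespace Groth.Agent.S13056

/-- For an endomorphism φ of a finite-dimensional vector space over a field K, det(Id − tφ) = exp(−∑_{m
≥ 1} tr(φ^m) t^m / m) as power series in t. Stated for a square matrix M, with det(1 − tM) Mathlib's
reversed characteristic polynomial, and over a field of characteristic zero (the exponential series
needs ℚ ⊆ K; this is the case in which the identity is used). -/
theorem result {K : Type u} [Field K] [CharZero K]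
    {n : Type v} [Fintype n] [DecidableEq n] (M : Matrix n n K) :
    ((M.charpolyRev : Polynomial K) : PowerSeries K) =
      PowerSeries.subst (PowerSeries.mk fun m : ℕ => -(Matrix.trace (M ^ m)) / (m : K))
        (PowerSeries.exp K) := by
  symm
  have h0 : (PowerSeries.mk fun m : ℕ => -(Matrix.trace (M ^ m)) / (m : K)) =
      (PowerSeries.mk fun m : ℕ => (-(Matrix.trace (M ^ m))) / (m : K)) := rfl
  rw [K466.LogD.exp_eq_iff (fun m => -(Matrix.trace (M ^ m)))]
  constructor
  · unfold Groth.Agent.MiscA.ZetaAbsCx.LogD
    have h1 := Groth.Agent.MiscA.DworkDet.X_mul_derivative_charpolyRev M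
    rw [Polynomial.coe_mul, Polynomial.coe_X] at h1
    have h2 : (PowerSeries.derivative K) ((M.charpolyRev : Polynomial K) : PowerSeries K) =
        ((Polynomial.derivative M.charpolyRev : Polynomial K) : PowerSeries K) :=
      PowerSeries.derivative_coe _
    rw [h2, h1, neg_mul, ← mul_neg]
    congr 1
    ext m
    rw [map_neg, Groth.Agent.MiscA.DworkDet.trSeries, PowerSeries.coeff_mk, PowerSeries.coeff_mk]
    split_ifs <;> simp
  · rw [← PowerSeries.coeff_zero_eq_constantCoeff_apply, Polynomial.coeff_coe,
      Polynomial.coeff_zero_eq_eval_zero, Matrix.eval_charpolyRev]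

end Groth.Agent.S13056
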