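import Groth.Statements.S13057
import Mathlib.LinearAlgebra.Basis.VectorSpace
import Mathlib.RingTheory.PowerSeries.Trunc

set_option autoImplicit false
universe u
open Zeta

namespace Groth.Agent.S13057

theorem coeff_mul_window {L : Type u} [Field L] (f : PowerSeries L) (Q : Polynomial L) (N : ℕ)
    (hQ : Q.natDegree ≤ N) (i : ℕ) :
    PowerSeries.coeff (i + N) (f * (Q : PowerSeries L)) =
      ∑ j ∈ Finset.range (N + 1), PowerSeries.coeff (i + j) f * Q.coeff (N - j) := by
  rw [mul_comm f, PowerSeries.coeff_mul, Finset.Nat.sum_antidiagonal_eq_sum_range_succ_mk]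
  rw [← Finset.sum_subset (Finset.range_subset_range.mpr (show N + 1 ≤ (i + N).succ by omega))]
  · rw [← Finset.sum_range_reflect]
    refine Finset.sum_congr rfl fun j hj => ?_
    rw [Finset.mem_range] at hj
    rw [Polynomial.coeff_coe, mul_comm]
    congr 2
    congr 1
    omega
  · intro b _ hb
    rw [Finset.mem_range] at hb
    rw [Polynomial.coeff_coe, Polynomial.coeff_eq_zero_of_natDegree_lt (by omega), zero_mul]

theorem eq_coe_trunc {L : Type u} [Field L] (g : PowerSeries L) (D : ℕ)
    (h : ∀ n, D ≤ n → PowerSeries.coeff n g = 0) : g = (PowerSeries.trunc D g : PowerSeries L) := by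
  ext n
  rw [Polynomial.coeff_coe, PowerSeries.coeff_trunc]
  split_ifs with h1
  · rfl
  · exact h n (by omega)


/-- A power series f = ∑_{m ≥ 0} a_m t^m over a field L lies in L(t), i.e. f · Q = P for some
polynomials P, Q with Q ≠ 0, if and only if there are natural numbers M, N such that the vectors
(a_i, a_{i+1}, …, a_{i+N}) ∈ L^{N+1}, i ≥ M, span a proper subspace. -/
theorem result {L : Type u} [Field L]
    (f : PowerSeries L) :
    (∃ P Q : Polynomial L, Q ≠ 0 ∧ f * (Q : PowerSeries L) = (P : PowerSeries L)) ↔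
      ∃ M N : ℕ, Submodule.span L
          {v : Fin (N + 1) → L | ∃ i : ℕ, M ≤ i ∧ v = fun j : Fin (N + 1) => PowerSeries.coeff (i + (j : ℕ)) f} ≠ ⊤ := by
  constructor
  · rintro ⟨P, Q, hQ, hPQ⟩
    refine ⟨P.natDegree + 1, Q.natDegree, ?_⟩
    let φ : (Fin (Q.natDegree + 1) → L) →ₗ[L] L :=
      ∑ j : Fin (Q.natDegree + 1), Q.coeff (Q.natDegree - (j : ℕ)) • LinearMap.proj j
    have hφ : ∀ v, φ v = ∑ j : Fin (Q.natDegree + 1), Q.coeff (Q.natDegree - (j : ℕ)) * v j := by
      intro v
      simp [φ]
    have hφ0 : φ ≠ 0 := by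
      intro h
      have h1 := congrArg (fun ψ : (Fin (Q.natDegree + 1) → L) →ₗ[L] L => ψ (Pi.single 0 1)) h
      simp only [hφ, LinearMap.zero_apply] at h1
      rw [Finset.sum_eq_single 0] at h1
      · simp at h1
        exact hQ h1
      · intro b _ hb
        rw [Pi.single_eq_of_ne hb, mul_zero]
      · intro h; exact absurd (Finset.mem_univ _) h
    intro htop
    apply hφ0
    have hle : (⊤ : Submodule L (Fin (Q.natDegree + 1) → L)) ≤ LinearMap.ker φ := by
      rw [← htop, Submodule.span_le]
      rintro v ⟨i, hi, rfl⟩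
      rw [SetLike.mem_coe, LinearMap.mem_ker, hφ]
      have h1 := congrArg (PowerSeries.coeff (i + Q.natDegree)) hPQ
      rw [Polynomial.coeff_coe, Polynomial.coeff_eq_zero_of_natDegree_lt (by omega),
        coeff_mul_window f Q _ le_rfl] at h1
      rw [← h1, Finset.sum_range]
      exact Finset.sum_congr rfl fun j _ => mul_comm _ _
    refine LinearMap.ext fun v => ?_
    exact LinearMap.mem_ker.mp (hle (Submodule.mem_top : v ∈ ⊤))
  · rintro ⟨M, N, hMN⟩
    obtain ⟨φ, hφ0, hφ⟩ := Submodule.exists_le_ker_of_lt_top _ (lt_top_iff_ne_top.mpr hMN)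
    let c : ℕ → L := fun j => if h : j < N + 1 then φ (Pi.single ⟨j, h⟩ 1) else 0
    have hφc : ∀ v : Fin (N + 1) → L, φ v = ∑ j : Fin (N + 1), v j * c j := by
      intro v
      conv_lhs => rw [← Finset.univ_sum_single v]
      rw [map_sum]
      refine Finset.sum_congr rfl fun j _ => ?_
      have h1 : (Pi.single j (v j) : Fin (N + 1) → L) = v j • Pi.single j (1 : L) := by
        rw [← Pi.single_smul', smul_eq_mul, mul_one]
      rw [h1, map_smul, smul_eq_mul]
      congr 1
      simp only [c]
      rw [dif_pos j.2]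
    let Q : Polynomial L := ∑ b ∈ Finset.range (N + 1), Polynomial.monomial b (c (N - b))
    have hQc : ∀ b, b ≤ N → Q.coeff b = c (N - b) := by
      intro b hb
      simp only [Q, Polynomial.finsetSum_coeff, Polynomial.coeff_monomial]
      rw [Finset.sum_eq_single b]
      · simp
      · intro b' _ hb'
        rw [if_neg hb']
      · intro h; exact absurd (Finset.mem_range.mpr (by omega)) h
    have hQdeg : Q.natDegree ≤ N := by
      rw [Polynomial.natDegree_le_iff_coeff_eq_zero]
      intro b hb
      simp only [Q, Polynomial.finsetSum_coeff, Polynomial.coeff_monomial]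
      refine Finset.sum_eq_zero fun b' hb' => ?_
      rw [Finset.mem_range] at hb'
      rw [if_neg (by omega)]
    refine ⟨PowerSeries.trunc (M + N) (f * (Q : PowerSeries L)), Q, ?_, ?_⟩
    · intro hQ0
      apply hφ0
      refine LinearMap.ext fun v => ?_
      rw [hφc, LinearMap.zero_apply]
      refine Finset.sum_eq_zero fun j _ => ?_
      have h1 := hQc (N - j) (by omega)
      rw [hQ0, Polynomial.coeff_zero] at h1
      have h2 : N - (N - (j : ℕ)) = j := by have := j.2; omega
      rw [h2] at h1
      rw [← h1, mul_zero]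
    · refine eq_coe_trunc _ _ fun n hn => ?_
      obtain ⟨i, rfl⟩ : ∃ i, n = i + N := ⟨n - N, by omega⟩
      rw [coeff_mul_window f Q N hQdeg, Finset.sum_range]
      have h0 : (fun j : Fin (N + 1) => PowerSeries.coeff (i + (j : ℕ)) f) ∈
          {v : Fin (N + 1) → L | ∃ i : ℕ, M ≤ i ∧ v = fun j : Fin (N + 1) => PowerSeries.coeff (i + (j : ℕ)) f} :=
        ⟨i, by omega, rfl⟩
      have h1 := hφ (Submodule.subset_span h0)
      rw [LinearMap.mem_ker, hφc] at h1
      rw [← h1]
      refine Finset.sum_congr rfl fun j _ => ?_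
      rw [hQc (N - j) (by omega)]
      have h2 : N - (N - (j : ℕ)) = j := by have := j.2; omega
      rw [h2]

end Groth.Agent.S13057
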