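import Groth.Statements.S13058
import Mathlib.LinearAlgebra.Dual.Lemmas
import Mathlib.LinearAlgebra.Basis.VectorSpace

set_option autoImplicit false
universe u v
open Zeta

namespace Groth.Agent.S13058

/-- Apply a linear functional coefficientwise to a polynomial. -/
noncomputable def mapFun {L : Type u} {L' : Type v} [Field L] [Field L'] [Algebra L L']
    (φ : L' →ₗ[L] L) (Q : Polynomial L') : Polynomial L :=
  ∑ b ∈ Finset.range (Q.natDegree + 1), Polynomial.monomial b (φ (Q.coeff b))

theorem coeff_mapFun {L : Type u} {L' : Type v} [Field L] [Field L'] [Algebra L L']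
    (φ : L' →ₗ[L] L) (Q : Polynomial L') (b : ℕ) : (mapFun φ Q).coeff b = φ (Q.coeff b) := by
  simp only [mapFun, Polynomial.finsetSum_coeff, Polynomial.coeff_monomial]
  rw [Finset.sum_ite_eq']
  split_ifs with h
  · rfl
  · rw [Finset.mem_range] at h
    rw [Polynomial.coeff_eq_zero_of_natDegree_lt (by omega), map_zero]


/-- If L'/L is a field extension, a power series f ∈ L⟦t⟧ belongs to L(t) exactly when it belongs to
L'(t); here membership in L(t) means f · Q = P for polynomials P, Q over the field in question with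
Q ≠ 0. -/
theorem result {L : Type u} {L' : Type v} [Field L] [Field L']
    [Algebra L L'] (f : PowerSeries L) :
    (∃ P Q : Polynomial L', Q ≠ 0 ∧
        PowerSeries.map (algebraMap L L') f * (Q : PowerSeries L') = (P : PowerSeries L')) ↔
      ∃ P Q : Polynomial L, Q ≠ 0 ∧ f * (Q : PowerSeries L) = (P : PowerSeries L) := by
  constructor
  · rintro ⟨P, Q, hQ, hPQ⟩
    obtain ⟨j, hj⟩ : ∃ j, Q.coeff j ≠ 0 := by
      by_contra hcon
      push Not at hcon
      exact hQ (Polynomial.ext fun n => by rw [hcon n, Polynomial.coeff_zero])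
    obtain ⟨φ, hφ⟩ : ∃ φ : L' →ₗ[L] L, φ (Q.coeff j) ≠ 0 := by
      by_contra hcon
      push Not at hcon
      exact hj ((Module.forall_dual_apply_eq_zero_iff L _).mp hcon)
    refine ⟨mapFun φ P, mapFun φ Q, ?_, ?_⟩
    · intro h
      have := congrArg (fun q => Polynomial.coeff q j) h
      simp only [coeff_mapFun, Polynomial.coeff_zero] at this
      exact hφ this
    · ext n
      have h1 := congrArg (fun g => φ (PowerSeries.coeff n g)) hPQ
      simp only [Polynomial.coeff_coe, PowerSeries.coeff_mul, PowerSeries.coeff_map, map_sum] at h1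
      rw [Polynomial.coeff_coe, coeff_mapFun, ← h1, PowerSeries.coeff_mul]
      refine Finset.sum_congr rfl fun p _ => ?_
      rw [Polynomial.coeff_coe, coeff_mapFun, ← Algebra.smul_def, map_smul, smul_eq_mul]
  · rintro ⟨P, Q, hQ, hPQ⟩
    refine ⟨P.map (algebraMap L L'), Q.map (algebraMap L L'), ?_, ?_⟩
    · exact (Polynomial.map_ne_zero_iff (algebraMap L L').injective).mpr hQ
    · rw [Polynomial.polynomial_map_coe, Polynomial.polynomial_map_coe, ← map_mul, hPQ]

end Groth.Agent.S13058
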