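import Groth.Statements.S13059
import Mathlib.LinearAlgebra.Matrix.Charpoly.Coeff
import Mathlib.LinearAlgebra.Charpoly.ToMatrix
import Mathlib.LinearAlgebra.Matrix.Dual

set_option autoImplicit false
universe u
open Zeta

namespace Groth.Agent.S13059

theorem charpoly_dualMap {K : Type u} [Field K] {W : Type u} [AddCommGroup W] [Module K W]
    [FiniteDimensional K W] (g : W →ₗ[K] W) : (g.dualMap : Module.Dual K W →ₗ[K] Module.Dual K W).charpoly = g.charpoly := by
  classical
  let b := Module.finBasis K W
  rw [← LinearMap.charpoly_toMatrix g b, ← LinearMap.charpoly_toMatrix g.dualMap b.dualBasis]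
  have h := LinearMap.toMatrix_transpose (B₁ := b) (B₂ := b) g
  have h2 : LinearMap.toMatrix b.dualBasis b.dualBasis g.dualMap = (LinearMap.toMatrix b b g).transpose := h
  rw [h2, Matrix.charpoly_transpose]


/-- Let B : V × W → K be a perfect pairing of finite-dimensional vector spaces over a field K, c ∈ K
nonzero, and f, g endomorphisms of V, W with B(f v, g w) = c · B(v, w) for all v, w. Then det(Id − t
g) = (−1)^r c^r t^r det(f)^{−1} det(Id − c^{−1} t^{−1} f) with r the common dimension; stated
cleared of denominators as det(f) · det(Id − t g) = (−1)^r c^r · det(t Id − c^{−1} f) in K[t],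
det(Id − t g) being the reverse of the characteristic polynomial of g. -/
theorem result (K : Type u) [Field K] (V W : Type u)
    [AddCommGroup V] [Module K V] [FiniteDimensional K V] [AddCommGroup W] [Module K W]
    [FiniteDimensional K W] (B : V →ₗ[K] W →ₗ[K] K) [B.IsPerfPair] (f : V →ₗ[K] V) (g : W →ₗ[K] W)
    (c : K) (hc : c ≠ 0) (hfg : ∀ (v : V) (w : W), B (f v) (g w) = c * B v w) :
    LinearMap.det f • (LinearMap.charpoly g).reverse =
      ((-1) ^ Module.finrank K W * c ^ Module.finrank K W) • (c⁻¹ • f).charpoly := by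
  classical
  -- the adjoint of `g` on `V`
  set g' : V →ₗ[K] V := B.toPerfPair.symm.conj g.dualMap with hg'
  have hchar : g'.charpoly = g.charpoly := by
    rw [hg', LinearEquiv.charpoly_conj, charpoly_dualMap]
  have h1 : g' ∘ₗ f = c • LinearMap.id := by
    ext v
    apply B.toPerfPair.injective
    ext w
    simp [hg', LinearEquiv.conj_apply, hfg]
  have hrank : Module.finrank K V = Module.finrank K W := by
    rw [B.toPerfPair.finrank_eq, Subspace.dual_finrank_eq]
  let b := Module.finBasis K V
  set F := LinearMap.toMatrix b b f with hF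
  set G := LinearMap.toMatrix b b g' with hG
  have h2 : G * F = c • (1 : Matrix _ _ K) := by
    rw [hF, hG, ← LinearMap.toMatrix_comp b b b, h1, map_smul, LinearMap.toMatrix_id]
  have hdet : G.det * F.det = c ^ Module.finrank K V := by
    rw [← Matrix.det_mul, h2, Matrix.det_smul, Matrix.det_one, mul_one, Fintype.card_fin]
  have hcn : c ^ Module.finrank K V ≠ 0 := pow_ne_zero _ hc
  have hGd : G.det ≠ 0 := fun h => hcn (by rw [← hdet, h, zero_mul])
  have hGu : IsUnit G := (Matrix.isUnit_iff_isUnit_det _).mpr (isUnit_iff_ne_zero.mpr hGd)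
  have h3 : G⁻¹ = c⁻¹ • F := by
    refine Matrix.inv_eq_right_inv ?_
    rw [Matrix.mul_smul, h2, smul_smul, inv_mul_cancel₀ hc, one_smul]
  have h4 := Matrix.charpoly_inv G hGu
  rw [h3, Fintype.card_fin, Ring.inverse_eq_inv'] at h4
  have h5 : (c⁻¹ • f).charpoly = (c⁻¹ • F).charpoly := by
    rw [← LinearMap.charpoly_toMatrix (c⁻¹ • f) b, map_smul]
  have h6 : (LinearMap.charpoly g).reverse = G.charpolyRev := by
    rw [← hchar, ← LinearMap.charpoly_toMatrix g' b, Matrix.reverse_charpoly]
  have h7 : LinearMap.det f = F.det := by rw [hF, LinearMap.det_toMatrix]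
  rw [h5, h6, h7, h4, ← hrank, Polynomial.smul_eq_C_mul, Polynomial.smul_eq_C_mul]
  have h8 : F.det = c ^ Module.finrank K V * G.det⁻¹ := by
    rw [← hdet]; field_simp
  have h9 : (Polynomial.C ((-1 : K) ^ Module.finrank K V * c ^ Module.finrank K V)) =
      (-1) ^ Module.finrank K V * Polynomial.C (c ^ Module.finrank K V) := by
    rw [map_mul, map_pow, map_neg, map_one]
  have h10 : ((-1 : Polynomial K) ^ Module.finrank K V) * (-1) ^ Module.finrank K V = 1 := by
    rw [← mul_pow]; simp
  rw [h8, h9, map_mul]
  calc Polynomial.C (c ^ Module.finrank K V) * Polynomial.C G.det⁻¹ * G.charpolyRev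
      = ((-1 : Polynomial K) ^ Module.finrank K V * (-1) ^ Module.finrank K V) *
        (Polynomial.C (c ^ Module.finrank K V) * Polynomial.C G.det⁻¹ * G.charpolyRev) := by
        rw [h10, one_mul]
    _ = _ := by ring

end Groth.Agent.S13059
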