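import Groth.Statements.S13060
import Mathlib.LinearAlgebra.TensorProduct.Basis
import Mathlib.LinearAlgebra.Basis.VectorSpace

set_option autoImplicit false
universe u v w x
open TensorProduct
open Zeta

namespace Groth.Agent.S13060

/-- Let k be a field, V and W vector spaces over k and G a group acting on V by k-linear automorphisms;
for the induced action on V ⊗_k W (trivial on W) one has (V ⊗_k W)^G = V^G ⊗_k W, i.e. the
invariants of V ⊗ W are the image of V^G ⊗ W → V ⊗ W. -/
theorem result {k : Type u} [Field k] {G : Type v} [Group G]
    {V : Type w} {W : Type x} [AddCommGroup V] [Module k V] [AddCommGroup W] [Module k W]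
    (ρ : Representation k G V) :
    (ρ.tprod (Representation.trivial k G W)).invariants =
      LinearMap.range (TensorProduct.map ρ.invariants.subtype (LinearMap.id : W →ₗ[k] W)) := by
  classical
  let 𝒞 := Module.Basis.ofVectorSpace k W
  let e := TensorProduct.equivFinsuppOfBasisRight (M := V) 𝒞
  have key : ∀ (g : G) (x : V ⊗[k] W) i,
      e ((ρ.tprod (Representation.trivial k G W)) g x) i = ρ g (e x i) := by
    intro g x i
    rw [Representation.tprod_apply]
    induction x using TensorProduct.induction_on with
    | zero => simp
    | tmul v w =>
      rw [TensorProduct.map_tmul]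
      simp only [e, TensorProduct.equivFinsuppOfBasisRight_apply_tmul_apply, map_smul]
      rfl
    | add x y hx hy => rw [map_add, map_add, map_add, Finsupp.add_apply, Finsupp.add_apply, map_add, hx, hy]
  apply le_antisymm
  · intro x hx
    rw [Representation.mem_invariants] at hx
    have h1 : ∀ i, e x i ∈ ρ.invariants := by
      intro i
      rw [Representation.mem_invariants]
      intro g
      rw [← key g x i, hx g]
    have h2 : x = (e x).sum fun i m => m ⊗ₜ[k] 𝒞 i := by
      rw [← TensorProduct.equivFinsuppOfBasisRight_symm_apply]
      exact (e.symm_apply_apply x).symm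
    rw [h2]
    refine Submodule.sum_mem _ fun i _ => ?_
    exact ⟨(⟨e x i, h1 i⟩ : ρ.invariants) ⊗ₜ[k] 𝒞 i, by rw [TensorProduct.map_tmul]; rfl⟩
  · rintro _ ⟨y, rfl⟩
    rw [Representation.mem_invariants]
    intro g
    rw [Representation.tprod_apply]
    induction y using TensorProduct.induction_on with
    | zero => simp
    | tmul v w =>
      rw [TensorProduct.map_tmul, TensorProduct.map_tmul]
      have := (Representation.mem_invariants ρ v.1).mp v.2 g
      rw [Submodule.subtype_apply, this]
      rfl
    | add x y hx hy => rw [map_add, map_add, hx, hy]

end Groth.Agent.S13060
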