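import Groth.Statements.S13061
import Mathlib.GroupTheory.Sylow
import Mathlib.GroupTheory.Coset.Card

set_option autoImplicit false
universe u v w
open Zeta

namespace Groth.Agent.S13061

/-- Let A be a commutative algebra over a field k, G a finite group acting on A by k-algebra
automorphisms and I ⊆ A an ideal preserved by G. If p^n is the largest power of p = char(k) dividing
|G| (with p^n = 1 when char(k) = 0), then for every G-invariant b ∈ A/I the power b^{p^n} lies in
the image of A^G → (A/I)^G. (The published statement takes A finitely generated over k, which the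
proof does not use.) -/
theorem result {k : Type u} [Field k]
    {A : Type v} [CommRing A] [Algebra k A] {G : Type w} [Group G] [Finite G]
    [MulSemiringAction G A] [SMulCommClass G k A] (I : Ideal A)
    (hI : ∀ (g : G) (a : A), a ∈ I → g • a ∈ I) (u : A) (hu : ∀ g : G, g • u - u ∈ I) :
    ∃ a : A, (∀ g : G, g • a = a) ∧
      Ideal.Quotient.mk I a =
        Ideal.Quotient.mk I u ^ (ringChar k ^ (Nat.card G).factorization (ringChar k)) := by
  classical
  set p := ringChar k with hp
  have : Fintype G := Fintype.ofFinite G
  -- a subgroup of order `p ^ n` with index invertible in `k`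
  obtain ⟨H, hH, hidx⟩ : ∃ H : Subgroup G, Nat.card H = p ^ (Nat.card G).factorization p ∧
      ((H.index : ℕ) : k) ≠ 0 := by
    rcases Nat.eq_zero_or_pos p with h0 | hpos
    · have hc : CharZero k := by
        have := ringChar.eq_iff.mp (hp.symm.trans h0)
        exact CharP.charP_to_charZero k
      refine ⟨⊥, ?_, ?_⟩
      · rw [h0]; simp
      · rw [Nat.cast_ne_zero]
        exact Subgroup.index_ne_zero_of_finite
    · have hpp : p.Prime := by
        rcases CharP.char_is_prime_or_zero k p with h | h
        · exact h
        · omega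
      have : Fact p.Prime := ⟨hpp⟩
      obtain ⟨P⟩ : Nonempty (Sylow p G) := inferInstance
      refine ⟨P, P.card_eq_multiplicity, ?_⟩
      intro h
      have h1 : p ∣ (P : Subgroup G).index := (CharP.cast_eq_zero_iff k p _).mp h
      exact P.not_dvd_index h1
  -- the norm
  have hsm : ∀ (g : G) (a : A), g • u - u ∈ I → True := fun _ _ _ => trivial
  let nu : A := ∏ h : H, (h : G) • u
  have hmk : ∀ g : G, Ideal.Quotient.mk I (g • u) = Ideal.Quotient.mk I u := by
    intro g
    rw [← sub_eq_zero, ← map_sub]
    exact Ideal.Quotient.eq_zero_iff_mem.mpr (hu g)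
  have hnuH : ∀ h : H, (h : G) • nu = nu := by
    intro h
    simp only [nu]
    rw [Finset.smul_prod']
    refine Fintype.prod_equiv (Equiv.mulLeft h) _ _ fun x => ?_
    rw [smul_smul]
    rfl
  have hmknu : ∀ g : G, Ideal.Quotient.mk I (g • nu) = Ideal.Quotient.mk I u ^ Nat.card H := by
    intro g
    simp only [nu]
    rw [Finset.smul_prod', map_prod, Nat.card_eq_fintype_card, ← Finset.card_univ]
    rw [← Finset.prod_const]
    refine Finset.prod_congr rfl fun x _ => ?_
    rw [smul_smul, hmk]
  -- average over cosets
  let F : G ⧸ H → A := Quotient.lift (fun g : G => g • nu) (by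
    intro a b hab
    have hab' : a⁻¹ * b ∈ H := QuotientGroup.leftRel_apply.mp hab
    have h1 := hnuH ⟨a⁻¹ * b, hab'⟩
    have h2 : a • ((a⁻¹ * b) • nu) = a • nu := congrArg (fun x => a • x) h1
    rw [smul_smul, mul_inv_cancel_left] at h2
    exact h2.symm)
  have hF : ∀ g : G, F (QuotientGroup.mk g) = g • nu := fun g => rfl
  have : Fintype (G ⧸ H) := Fintype.ofFinite _
  let s : A := ∑ x : G ⧸ H, F x
  have hs : ∀ g : G, g • s = s := by
    intro g
    simp only [s]
    rw [Finset.smul_sum]
    refine Fintype.sum_equiv (MulAction.toPerm g) _ _ fun x => ?_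
    induction x using QuotientGroup.induction_on with
    | H a =>
      rw [hF, MulAction.toPerm_apply, smul_smul]
      rfl
  have hmks : Ideal.Quotient.mk I s = ((H.index : ℕ) : A ⧸ I) * Ideal.Quotient.mk I u ^ Nat.card H := by
    simp only [s]
    rw [map_sum]
    have h1 : ∀ x : G ⧸ H, Ideal.Quotient.mk I (F x) = Ideal.Quotient.mk I u ^ Nat.card H := by
      intro x
      induction x using QuotientGroup.induction_on with
      | H a => rw [hF, hmknu]
    rw [Finset.sum_congr rfl fun x _ => h1 x, Finset.sum_const, nsmul_eq_mul, Finset.card_univ,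
      ← Nat.card_eq_fintype_card]
    rfl
  refine ⟨((H.index : k))⁻¹ • s, fun g => ?_, ?_⟩
  · rw [smul_comm, hs]
  · rw [← hH, Algebra.smul_def, map_mul, hmks]
    have h1 : ((H.index : ℕ) : A ⧸ I) = Ideal.Quotient.mk I (algebraMap k A (H.index : k)) := by
      rw [map_natCast, map_natCast]
    rw [h1, ← mul_assoc, ← map_mul, ← map_mul, inv_mul_cancel₀ hidx, map_one, map_one, one_mul]

end Groth.Agent.S13061
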