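import Groth.Statements.S13063
import Groth.Agent.Zeta.K468.LWComp
import Mathlib.AlgebraicGeometry.IdealSheaf.Subscheme

set_option autoImplicit false
universe u
open CategoryTheory AlgebraicGeometry Limits
open Zeta

namespace Groth.Agent.S13063

/-- Let X be a scheme of finite type over a finite field k with q elements, of dimension r. For each
irreducible component Z of X of dimension r let m_Z be the number of irreducible components of its
preimage in X ×_k k̄, k̄ an algebraic closure of k, and put a_e = ∑_{Z : m_Z ∣ e} m_Z. Then there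
are constants α, α' > 0 such that for every e ≥ 1: if a_e > 0 then |N_e − a_e q^{er}| ≤ α q^{e(r −
1/2)}, and if a_e = 0 then N_e ≤ α' q^{e(r − 1)}, where N_e = ∑_{d ∣ e} d · #{closed points of
residue degree d} is the number of points of X in the degree-e extension of k. (Stated for schemes
of finite type; reducedness plays no role.) -/
theorem result {k : Type u} [Field k] [Finite k] {X : Scheme.{u}}
    (f : X ⟶ Spec (CommRingCat.of k)) [LocallyOfFiniteType f] [QuasiCompact f] (r : ℕ)
    (hr : topologicalKrullDim X = r) :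
    ∃ α α' : ℝ, 0 < α ∧ 0 < α' ∧ ∀ e : ℕ, 1 ≤ e →
      (0 < (∑ᶠ (Z : Set X) (_ : Z ∈ irreducibleComponents X ∧ topologicalKrullDim Z = r ∧
            Nat.card (irreducibleComponents ((pullback.fst f (Spec.map (CommRingCat.ofHom
              (algebraMap k (AlgebraicClosure k))))).base ⁻¹' Z)) ∣ e),
          Nat.card (irreducibleComponents ((pullback.fst f (Spec.map (CommRingCat.ofHom
              (algebraMap k (AlgebraicClosure k))))).base ⁻¹' Z))) →
        |(Zeta.nPts f e : ℝ) -
            (∑ᶠ (Z : Set X) (_ : Z ∈ irreducibleComponents X ∧ topologicalKrullDim Z = r ∧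
              Nat.card (irreducibleComponents ((pullback.fst f (Spec.map (CommRingCat.ofHom
                (algebraMap k (AlgebraicClosure k))))).base ⁻¹' Z)) ∣ e),
            Nat.card (irreducibleComponents ((pullback.fst f (Spec.map (CommRingCat.ofHom
                (algebraMap k (AlgebraicClosure k))))).base ⁻¹' Z)) : ℕ) *
              (Nat.card k : ℝ) ^ (e * r)| ≤
          α * (Nat.card k : ℝ) ^ ((e : ℝ) * ((r : ℝ) - 1 / 2))) ∧
      ((∑ᶠ (Z : Set X) (_ : Z ∈ irreducibleComponents X ∧ topologicalKrullDim Z = r ∧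
            Nat.card (irreducibleComponents ((pullback.fst f (Spec.map (CommRingCat.ofHom
              (algebraMap k (AlgebraicClosure k))))).base ⁻¹' Z)) ∣ e),
          Nat.card (irreducibleComponents ((pullback.fst f (Spec.map (CommRingCat.ofHom
              (algebraMap k (AlgebraicClosure k))))).base ⁻¹' Z))) = 0 →
        (Zeta.nPts f e : ℝ) ≤ α' * (Nat.card k : ℝ) ^ ((e : ℝ) * ((r : ℝ) - 1))) := by
  classical
  have hcpt : CompactSpace X := QuasiCompact.compactSpace_of_compactSpace f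
  have hln : IsLocallyNoetherian X := LocallyOfFiniteType.isLocallyNoetherian f
  have hno : IsNoetherian X := {}
  have hfin : (irreducibleComponents X).Finite :=
    TopologicalSpace.NoetherianSpace.finite_irreducibleComponents
  have : Fintype (irreducibleComponents X) := hfin.fintype
  obtain ⟨m, hm⟩ : ∃ m : Set X → ℕ, m = fun Z => Nat.card (irreducibleComponents
    ((pullback.fst f (Spec.map (CommRingCat.ofHom
      (algebraMap k (AlgebraicClosure k))))).base ⁻¹' Z)) := ⟨_, rfl⟩
  have hq : (0 : ℝ) < Nat.card k := by exact_mod_cast Nat.card_pos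
  have hq1 : (1 : ℝ) ≤ Nat.card k := by exact_mod_cast Nat.card_pos
  -- the affine pieces
  have H := fun Z : irreducibleComponents X => K468.Comp.exists_piece f hfin Z.1 Z.2
  choose B i1 i2 i3 g hft hpre hgf hopen hsub hdisj hcl hdim using H
  have hbound := fun Z : irreducibleComponents X =>
    K468.Comp.piece_bound (B Z) (g Z ≫ f) (hgf Z) r
      (by rw [hdim Z, ← hr]; exact topologicalKrullDim_subspace_le _ _) (m Z.1)
      (by rw [hm]; exact K468.Comp.natCard_components_piece f (B Z) (g Z) (hgf Z) Z.1 (hcl Z))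
  have hm0 : ∀ Z : irreducibleComponents X, 0 < m Z.1 := fun Z => (hbound Z).1
  choose C hC hCb using fun Z => (hbound Z).2
  -- the rest
  let D : TopologicalSpace.Closeds X :=
    ⟨(⋃ Z : irreducibleComponents X, Set.range (g Z))ᶜ, (isOpen_iUnion hopen).isClosed_compl⟩
  let I := Scheme.IdealSheafData.vanishingIdeal D
  let i : I.subscheme ⟶ X := I.subschemeι
  have hirange : Set.range i = (⋃ Z : irreducibleComponents X, Set.range (g Z))ᶜ := by
    rw [Scheme.IdealSheafData.range_subschemeι, Scheme.IdealSheafData.coe_support_vanishingIdeal]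
    rfl
  have hDcomp : ∀ Z ∈ irreducibleComponents X, ¬ Z ⊆ (D : Set X) := by
    intro Z hZ hZD
    have h1 : g ⟨Z, hZ⟩ (⊥ : PrimeSpectrum (B ⟨Z, hZ⟩)) ∈ Set.range (g ⟨Z, hZ⟩) :=
      Set.mem_range_self _
    exact hZD (hsub ⟨Z, hZ⟩ h1) (Set.mem_iUnion.mpr ⟨⟨Z, hZ⟩, h1⟩)
  have hrest : ∃ C₀ : ℝ, 0 ≤ C₀ ∧ ∀ e : ℕ, 1 ≤ e → (Zeta.nPts (i ≫ f) e : ℝ) ≤
      C₀ * (Nat.card k : ℝ) ^ ((e : ℝ) * ((r : ℝ) - 1)) := by
    rcases K468.Comp.dim_compl_le (D : Set X) D.isClosed hDcomp r hr.le with h0 | ⟨r', rfl, hr'⟩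
    · refine ⟨0, le_rfl, fun e he => ?_⟩
      have hempty : IsEmpty I.subscheme := by
        refine ⟨fun x => ?_⟩
        have h1 : i x ∈ Set.range i := Set.mem_range_self x
        rw [hirange] at h1
        have h2 : i x ∈ (D : Set X) := h1
        rw [h0] at h2
        exact h2
      have h1 : Zeta.nPts (i ≫ f) e = 0 := by
        rw [Zeta.nPts]
        refine Finset.sum_eq_zero fun d _ => ?_
        have : IsEmpty {x : I.subscheme // IsClosed ({x} : Set I.subscheme) ∧
          EGA4loc.residueDegree (i ≫ f) x = d} := ⟨fun x => hempty.false x.1⟩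
        rw [Zeta.degCount, Nat.card_of_isEmpty, mul_zero]
      rw [h1]
      simp
    · have hdimW : topologicalKrullDim I.subscheme ≤ (r' : ℕ) := by
        have e1 : IsHomeomorph (i.isEmbedding.toHomeomorph) := i.isEmbedding.toHomeomorph.isHomeomorph
        rw [IsHomeomorph.topologicalKrullDim_eq _ e1, hirange]
        exact hr'
      obtain ⟨c, hc⟩ := Groth.Agent.S13062.result (i ≫ f) r' hdimW
      refine ⟨c, Nat.cast_nonneg c, fun e he => ?_⟩
      obtain ⟨F, _, _, _, hF1, hF2⟩ := K468.Comp.exists_ext k e he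
      have h1 := hc F
      rw [K466.Basic.pointCount_eq_nPts, hF1] at h1
      have h2 : (Zeta.nPts (i ≫ f) e : ℝ) ≤ c * (Nat.card k : ℝ) ^ (r' * e) := by exact_mod_cast h1
      refine h2.trans (le_of_eq ?_)
      rw [← Real.rpow_natCast]
      push_cast
      congr 2
      ring
  obtain ⟨C₀, hC₀, hW⟩ := hrest
  -- decomposition of the count
  let P : Option (irreducibleComponents X) → Scheme.{u} := fun o =>
    match o with
    | none => I.subscheme
    | some Z => Spec (CommRingCat.of (B Z))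
  let gg : ∀ o, P o ⟶ X := fun o =>
    match o with
    | none => i
    | some Z => g Z
  have hpre' : ∀ o, IsPreimmersion (gg o) := by
    rintro (_ | Z)
    · exact inferInstanceAs (IsPreimmersion i)
    · exact hpre Z
  have hlft' : ∀ o, LocallyOfFiniteType (gg o ≫ f) := by
    rintro (_ | Z)
    · exact inferInstanceAs (LocallyOfFiniteType (i ≫ f))
    · change LocallyOfFiniteType (g Z ≫ f)
      rw [hgf Z, HasRingHomProperty.Spec_iff (P := @LocallyOfFiniteType)]
      exact RingHom.finiteType_algebraMap.mpr (hft Z)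
  have hsum : ∀ e : ℕ, Zeta.nPts f e = Zeta.nPts (i ≫ f) e +
      ∑ Z : irreducibleComponents X, Zeta.nPts (g Z ≫ f) e := by
    intro e
    rw [K466.Count.nPts_eq_sum_of_pieces f P gg ?_ ?_ e, Fintype.sum_option]
    · intro x _
      by_cases hx : x ∈ ⋃ Z : irreducibleComponents X, Set.range (g Z)
      · obtain ⟨Z, hZ⟩ := Set.mem_iUnion.mp hx
        exact ⟨some Z, hZ⟩
      · exact ⟨none, by change x ∈ Set.range i; rw [hirange]; exact hx⟩
    · rintro (_ | Z) (_ | Z') hne x _ hx hx'
      · exact hne rfl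
      · have h1 : x ∈ Set.range i := hx
        rw [hirange] at h1
        exact h1 (Set.mem_iUnion.mpr ⟨Z', hx'⟩)
      · have h1 : x ∈ Set.range i := hx'
        rw [hirange] at h1
        exact h1 (Set.mem_iUnion.mpr ⟨Z, hx⟩)
      · have hne' : Z'.1 ≠ Z.1 := fun h => hne (by rw [Subtype.ext h])
        exact Set.disjoint_left.mp (hdisj Z Z'.1 Z'.2 hne') hx (hsub Z' hx')
  -- the leading coefficient
  have ha : ∀ e : ℕ, (∑ᶠ (Z : Set X) (_ : Z ∈ irreducibleComponents X ∧ topologicalKrullDim Z = r ∧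
      m Z ∣ e), m Z) = ∑ Z : irreducibleComponents X,
        if ringKrullDim (B Z) = r ∧ m Z.1 ∣ e then m Z.1 else 0 := by
    intro e
    have hS : {Z : Set X | Z ∈ irreducibleComponents X ∧ topologicalKrullDim Z = r ∧
      m Z ∣ e}.Finite := hfin.subset fun Z hZ => hZ.1
    rw [← Finset.sum_filter]
    have h1 : (∑ᶠ (Z : Set X) (_ : Z ∈ irreducibleComponents X ∧ topologicalKrullDim Z = r ∧
      m Z ∣ e), m Z) = ∑ Z ∈ hS.toFinset, m Z := finsum_mem_eq_finite_toFinset_sum _ hS
    rw [h1]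
    symm
    refine Finset.sum_nbij (fun Z => Z.1) ?_ ?_ ?_ ?_
    · intro Z hZ
      rw [Finset.mem_filter] at hZ
      rw [Set.Finite.mem_toFinset]
      exact ⟨Z.2, by rw [← hdim Z]; exact hZ.2.1, hZ.2.2⟩
    · intro Z _ Z' _ h
      exact Subtype.ext h
    · intro Z hZ
      rw [Finset.mem_coe, Set.Finite.mem_toFinset] at hZ
      refine ⟨⟨Z, hZ.1⟩, ?_, rfl⟩
      rw [Finset.mem_coe, Finset.mem_filter]
      exact ⟨Finset.mem_univ _, by rw [hdim]; exact hZ.2.1, hZ.2.2⟩
    · intro Z _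
      rfl
  have hmain : ∃ α α' : ℝ, 0 < α ∧ 0 < α' ∧ ∀ e : ℕ, 1 ≤ e →
      (0 < (∑ᶠ (Z : Set X) (_ : Z ∈ irreducibleComponents X ∧ topologicalKrullDim Z = r ∧
        m Z ∣ e), m Z) →
        |(Zeta.nPts f e : ℝ) - (∑ᶠ (Z : Set X) (_ : Z ∈ irreducibleComponents X ∧
          topologicalKrullDim Z = r ∧ m Z ∣ e), m Z : ℕ) * (Nat.card k : ℝ) ^ (e * r)| ≤
          α * (Nat.card k : ℝ) ^ ((e : ℝ) * ((r : ℝ) - 1 / 2))) ∧
      ((∑ᶠ (Z : Set X) (_ : Z ∈ irreducibleComponents X ∧ topologicalKrullDim Z = r ∧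
        m Z ∣ e), m Z) = 0 →
        (Zeta.nPts f e : ℝ) ≤ α' * (Nat.card k : ℝ) ^ ((e : ℝ) * ((r : ℝ) - 1))) := by
    have hpos : 0 < C₀ + ∑ Z, C Z + 1 := by
      have := Finset.sum_nonneg fun (Z : irreducibleComponents X) (_ : Z ∈ Finset.univ) => hC Z
      linarith
    refine ⟨C₀ + ∑ Z, C Z + 1, C₀ + ∑ Z, C Z + 1, hpos, hpos, fun e he => ⟨fun _ => ?_, fun h0 => ?_⟩⟩
    · have hle : (Nat.card k : ℝ) ^ ((e : ℝ) * ((r : ℝ) - 1)) ≤
          (Nat.card k : ℝ) ^ ((e : ℝ) * ((r : ℝ) - 1 / 2)) := by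
        apply Real.rpow_le_rpow_of_exponent_le hq1
        have : (0 : ℝ) ≤ e := Nat.cast_nonneg e
        nlinarith
      have hZ : ∀ Z : irreducibleComponents X, |(Zeta.nPts (g Z ≫ f) e : ℝ) -
          (if ringKrullDim (B Z) = r ∧ m Z.1 ∣ e then m Z.1 else 0 : ℕ) *
            (Nat.card k : ℝ) ^ (e * r)| ≤
          C Z * (Nat.card k : ℝ) ^ ((e : ℝ) * ((r : ℝ) - 1 / 2)) := by
        intro Z
        by_cases hc : ringKrullDim (B Z) = r ∧ m Z.1 ∣ e
        · rw [if_pos hc]
          exact (hCb Z e he).1 hc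
        · rw [if_neg hc, Nat.cast_zero, zero_mul, sub_zero, abs_of_nonneg (Nat.cast_nonneg _)]
          exact ((hCb Z e he).2 hc).trans (mul_le_mul_of_nonneg_left hle (hC Z))
      rw [ha, hsum e]
      push_cast
      have e1 : (Zeta.nPts (i ≫ f) e : ℝ) + ∑ Z : irreducibleComponents X,
          (Zeta.nPts (g Z ≫ f) e : ℝ) - (∑ Z : irreducibleComponents X,
            ((if ringKrullDim (B Z) = r ∧ m Z.1 ∣ e then m Z.1 else 0 : ℕ) : ℝ)) *
              (Nat.card k : ℝ) ^ (e * r) =
          (Zeta.nPts (i ≫ f) e : ℝ) + ∑ Z : irreducibleComponents X,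
            ((Zeta.nPts (g Z ≫ f) e : ℝ) -
              (if ringKrullDim (B Z) = r ∧ m Z.1 ∣ e then m Z.1 else 0 : ℕ) *
                (Nat.card k : ℝ) ^ (e * r)) := by
        rw [Finset.sum_sub_distrib, Finset.sum_mul]
        ring
      push_cast at e1 hZ
      rw [e1]
      refine (abs_add_le _ _).trans ?_
      have h1 : |(Zeta.nPts (i ≫ f) e : ℝ)| ≤
          C₀ * (Nat.card k : ℝ) ^ ((e : ℝ) * ((r : ℝ) - 1 / 2)) := by
        rw [abs_of_nonneg (Nat.cast_nonneg _)]
        exact (hW e he).trans (mul_le_mul_of_nonneg_left hle hC₀)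
      have h2 := (Finset.abs_sum_le_sum_abs (fun Z : irreducibleComponents X =>
        ((Zeta.nPts (g Z ≫ f) e : ℝ) -
              (if ringKrullDim (B Z) = r ∧ m Z.1 ∣ e then (m Z.1 : ℝ) else 0) *
                (Nat.card k : ℝ) ^ (e * r))) Finset.univ).trans
        (Finset.sum_le_sum fun Z _ => hZ Z)
      refine (add_le_add h1 h2).trans ?_
      rw [← Finset.sum_mul]
      have h3 : (0 : ℝ) ≤ (Nat.card k : ℝ) ^ ((e : ℝ) * ((r : ℝ) - 1 / 2)) :=
        Real.rpow_nonneg hq.le _
      nlinarith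
    · rw [ha, Finset.sum_eq_zero_iff] at h0
      have hc : ∀ Z : irreducibleComponents X, ¬ (ringKrullDim (B Z) = r ∧ m Z.1 ∣ e) := by
        intro Z hc
        have h1 := h0 Z (Finset.mem_univ Z)
        rw [if_pos hc] at h1
        exact (hm0 Z).ne' h1
      rw [hsum e]
      push_cast
      have h2 := Finset.sum_le_sum fun (Z : irreducibleComponents X) (_ : Z ∈ Finset.univ) =>
        (hCb Z e he).2 (hc Z)
      rw [← Finset.sum_mul] at h2
      have h3 : (0 : ℝ) ≤ (Nat.card k : ℝ) ^ ((e : ℝ) * ((r : ℝ) - 1)) :=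
        Real.rpow_nonneg hq.le _
      have h4 := hW e he
      nlinarith
  rw [hm] at hmain
  exact hmain

end Groth.Agent.S13063
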