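import Groth.Statements.S13064
import Groth.Agent.Fixpt.H903.CountPts
import Groth.Agent.S0458

set_option autoImplicit false
universe u
open CategoryTheory AlgebraicGeometry
open Zeta

namespace Groth.Agent.S13064

/-- Let X be a projective scheme over a finite field k = F_q and F the q-Frobenius endomorphism of X,
acting k-linearly on the cohomology groups H^i(X, O_X) through the map s ↦ s^q on the structure
sheaf. Then #X(F_q) mod p = ∑_{i = 0}^{dim X} (−1)^i tr(F | H^i(X, O_X)), an identity in k. The
sheaf map φ is pinned as the endomorphism of the abelian sheaf O_X given by s ↦ s^q on sections, and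
T_i as the k-linear endomorphism of H^i(X, O_X) that agrees with the map φ induces; d is any bound
for dim X. -/
theorem result (k : Type u) [Field k] [Finite k]
    (X : Scheme.{u}) [X.Over (Spec (CommRingCat.of k))] (n : ℕ) (ι : X ⟶ CohB1.ProjSpace n k)
    [IsClosedImmersion ι] (hι : ι ≫ CohB1.ProjSpace.toSpec n k = X ↘ Spec (CommRingCat.of k))
    (d : ℕ) (hd : topologicalKrullDim X ≤ d)
    (φ : Coh.toAb (Coh.structureModule X) ⟶ Coh.toAb (Coh.structureModule X))
    (hφ : ∀ (U : X.Opens) (s : Γ(X, U)), (φ.hom.app (Opposite.op U)).hom s = s ^ Nat.card k)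
    (T : (i : ℕ) → Coh.HH X (Coh.structureModule X) i →ₗ[k] Coh.HH X (Coh.structureModule X) i)
    (hT : ∀ (i : ℕ) (x : Coh.HH X (Coh.structureModule X) i), T i x = Sheaf.H.map φ i x) :
    (SgaExt.pointCount (X ↘ Spec (CommRingCat.of k)) k : k) =
      ∑ i ∈ Finset.range (d + 1), (-1 : k) ^ i * LinearMap.trace k _ (T i) := by
  have := Fintype.ofFinite k
  have hp : IsProper (X ↘ Spec (CommRingCat.of k)) := by
    rw [← hι]
    infer_instance
  have h1 := Groth.Agent.Fixpt.H903.CountPts.card_ratPt k X φ (fun U a => by
    rw [← Nat.card_eq_fintype_card]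
    exact hφ U.unop a)
  have hnoeth : TopologicalSpace.NoetherianSpace X.toTopCat := by
    have : IsLocallyNoetherian X := LocallyOfFiniteType.isLocallyNoetherian (X ↘ Spec (CommRingCat.of k))
    have : CompactSpace X := QuasiCompact.compactSpace_of_compactSpace (X ↘ Spec (CommRingCat.of k))
    have : IsNoetherian X := {}
    exact inferInstanceAs (TopologicalSpace.NoetherianSpace X)
  have htr : ∀ i, FixPt.trAdd k (Coh.HH X (Coh.structureModule X) i) (Sheaf.H.map φ i) =
      LinearMap.trace k _ (T i) := by
    intro i
    have h : ∃ g : Coh.HH X (Coh.structureModule X) i →ₗ[k] Coh.HH X (Coh.structureModule X) i,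
        (g : Coh.HH X (Coh.structureModule X) i → Coh.HH X (Coh.structureModule X) i) =
          (Sheaf.H.map φ i) := ⟨T i, funext (hT i)⟩
    rw [FixPt.trAdd, dif_pos h]
    congr 1
    apply LinearMap.ext
    intro x
    rw [Classical.choose_spec h, hT]
  have hz : ∀ i, d < i → LinearMap.trace k _ (T i) = 0 := by
    intro i hi
    have hs : Subsingleton (Coh.HH X (Coh.structureModule X) i) :=
      Groth.Agent.S0458.result (X := X.toTopCat) d hd (Coh.toAb (Coh.structureModule X)) i hi
    have : T i = 0 := LinearMap.ext fun x => Subsingleton.elim _ _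
    rw [this, map_zero]
  have h2 : (SgaExt.pointCount (X ↘ Spec (CommRingCat.of k)) k : k) =
      (Nat.card (FixPt.RatPt k X) : k) := by
    congr 1
    unfold SgaExt.pointCount FixPt.RatPt
    congr 1
    simp
  rw [h2, ← h1]
  unfold FixPt.cohLef FixPt.altTr
  simp only [htr]
  refine finsum_eq_sum_of_support_subset _ ?_
  intro i hi
  rw [Finset.coe_range, Set.mem_Iio]
  by_contra hcon
  refine hi ?_
  change (-1 : k) ^ i * _ = 0
  rw [hz i (by omega), mul_zero]

end Groth.Agent.S13064
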