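import Groth.Statements.S13065
import Mathlib.FieldTheory.Finite.Basic
import Mathlib.RingTheory.MvPolynomial.Homogeneous

set_option autoImplicit false
universe u
open Zeta

namespace Groth.Agent.S13065

open MvPolynomial in
theorem sum_pow_card_sub_one {k : Type u} [Field k] [Fintype k] :
    ∑ x : k, x ^ (Fintype.card k - 1) = -1 := by
  classical
  have hq : 1 < Fintype.card k := Fintype.one_lt_card
  rw [← Finset.add_sum_erase _ _ (Finset.mem_univ (0 : k)), zero_pow (by omega), zero_add]
  rw [Finset.sum_congr rfl (g := fun _ => (1 : k)) (fun x hx => ?_)]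
  · rw [Finset.sum_const, Finset.card_erase_of_mem (Finset.mem_univ _), Finset.card_univ,
      nsmul_eq_mul, mul_one, Nat.cast_sub hq.le, FiniteField.cast_card_eq_zero]
    simp
  · exact FiniteField.pow_card_sub_one_eq_one x (Finset.ne_of_mem_erase hx)

open MvPolynomial in
/-- The sum of the values of a homogeneous polynomial of degree `n (q - 1)`. -/
theorem sum_eval {k : Type u} [Field k] [Fintype k] {n : ℕ} (F : MvPolynomial (Fin n) k)
    (hF : F.IsHomogeneous (n * (Fintype.card k - 1))) :
    ∑ x : Fin n → k, MvPolynomial.eval x F =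
      (-1) ^ n * MvPolynomial.coeff (Finsupp.equivFunOnFinite.symm fun _ => Fintype.card k - 1) F := by
  classical
  set q := Fintype.card k with hq
  set e : Fin n →₀ ℕ := Finsupp.equivFunOnFinite.symm fun _ => q - 1 with he
  simp only [eval_eq']
  rw [Finset.sum_comm]
  have key : ∀ d ∈ F.support, ∑ x : Fin n → k, F.coeff d * ∏ i, x i ^ d i =
      if d = e then (-1) ^ n * F.coeff e else 0 := by
    intro d hd
    rw [← Finset.mul_sum]
    have h1 : ∑ x : Fin n → k, ∏ i, x i ^ d i = ∏ i, ∑ a : k, a ^ d i := by
      rw [Finset.prod_univ_sum]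
      simp [Fintype.piFinset_univ]
    rw [h1]
    split_ifs with hde
    · subst hde
      have h2 : ∀ i : Fin n, ∑ a : k, a ^ e i = -1 := by
        intro i
        exact sum_pow_card_sub_one
      rw [Finset.prod_congr rfl fun i _ => h2 i, Finset.prod_const, Finset.card_univ, Fintype.card_fin]
      ring
    · obtain ⟨i, hi⟩ : ∃ i, d i < q - 1 := by
        by_contra hcon
        push Not at hcon
        apply hde
        have hdeg : ∑ i, d i = n * (q - 1) := by
          have h3 : Finsupp.degree d = n * (q - 1) := by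
            rw [Finsupp.degree_eq_weight_one]; exact hF (mem_support_iff.mp hd)
          rw [← h3, Finsupp.degree_eq_sum]
        have h4 : ∑ i : Fin n, (q - 1) = n * (q - 1) := by simp
        have h5 : ∀ i ∈ Finset.univ, (fun _ : Fin n => q - 1) i = d i := by
          rw [← Finset.sum_eq_sum_iff_of_le (fun i _ => hcon i), h4, hdeg]
        ext i
        exact (h5 i (Finset.mem_univ i)).symm
      rw [Finset.prod_eq_zero (Finset.mem_univ i) (FiniteField.sum_pow_lt_card_sub_one k _ hi), mul_zero]
  rw [Finset.sum_congr rfl key, Finset.sum_ite_eq']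
  split_ifs with h
  · rfl
  · rw [notMem_support_iff.mp h, mul_zero]


/-- Let k be a finite field with q elements and characteristic p, n ≥ 2, and f ∈ k[x_0, …, x_n]
homogeneous of degree n + 1, defining the hypersurface Z ⊂ P^n_k. Then #Z(F_q) ≢ 1 (mod p) if and
only if the coefficient of (x_0 ⋯ x_n)^{q−1} in f^{q−1} is nonzero. Stated through the affine count:
#Z(F_q) ≡ 1 (mod p) exactly when p divides the number of zeros of f in k^{n+1} (as (q − 1) #Z(F_q) +
1 is that number). -/
theorem result {k : Type u} [Field k] [Finite k] (p : ℕ)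
    [CharP k p] (n : ℕ) (hn : 2 ≤ n) (f : MvPolynomial (Fin (n + 1)) k)
    (hf : f.IsHomogeneous (n + 1)) :
    p ∣ Nat.card {a : Fin (n + 1) → k // MvPolynomial.eval a f = 0} ↔
      MvPolynomial.coeff (Finsupp.equivFunOnFinite.symm fun _ : Fin (n + 1) => Nat.card k - 1)
        (f ^ (Nat.card k - 1)) = 0 := by
  classical
  have : Fintype k := Fintype.ofFinite k
  have hq : 1 < Fintype.card k := Fintype.one_lt_card
  have hhom : (f ^ (Fintype.card k - 1)).IsHomogeneous ((n + 1) * (Fintype.card k - 1)) := hf.pow _
  have h1 := sum_eval _ hhom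
  have h2 : (∑ x : Fin (n + 1) → k, MvPolynomial.eval x (f ^ (Fintype.card k - 1))) =
      - (Nat.card {a : Fin (n + 1) → k // MvPolynomial.eval a f = 0} : k) := by
    have h3 : ∀ x : Fin (n + 1) → k, MvPolynomial.eval x (f ^ (Fintype.card k - 1)) =
        1 - if MvPolynomial.eval x f = 0 then 1 else 0 := by
      intro x
      rw [map_pow]
      split_ifs with hx
      · rw [hx, zero_pow (by omega), sub_self]
      · rw [FiniteField.pow_card_sub_one_eq_one _ hx, sub_zero]
    rw [Finset.sum_congr rfl fun x _ => h3 x, Finset.sum_sub_distrib, Finset.sum_boole,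
      Nat.card_eq_fintype_card, Fintype.card_subtype]
    simp
  rw [← CharP.cast_eq_zero_iff k p, Nat.card_eq_fintype_card (α := k)]
  rw [h2] at h1
  rw [neg_eq_iff_eq_neg] at h1
  rw [h1, neg_eq_zero, mul_eq_zero, or_iff_right (pow_ne_zero _ (neg_ne_zero.mpr one_ne_zero))]

end Groth.Agent.S13065
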