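import Groth.Statements.S13066
import Mathlib.FieldTheory.Finite.Basic
import Mathlib.RingTheory.MvPolynomial.Expand
import Mathlib.RingTheory.MvPolynomial.Homogeneous

set_option autoImplicit false
universe u
open Zeta

namespace Groth.Agent.S13066

open MvPolynomial in
/-- coefficient of `x^{pr + (p-1)}` in `A B^p` for homogeneous `A`, `B` of degrees `n(p-1)`, `n r`. -/
theorem coeff_mul_pow {k : Type u} [Field k] (p : ℕ) [Fact p.Prime] [CharP k p] (n r : ℕ)
    (A B : MvPolynomial (Fin n) k) (hB : B.IsHomogeneous (n * r)) :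
    MvPolynomial.coeff (Finsupp.equivFunOnFinite.symm fun _ => p * r + (p - 1)) (A * B ^ p) =
      MvPolynomial.coeff (Finsupp.equivFunOnFinite.symm fun _ => p - 1) A *
        MvPolynomial.coeff (Finsupp.equivFunOnFinite.symm fun _ => r) B ^ p := by
  classical
  have hp : p.Prime := Fact.out
  have hp0 : 0 < p := hp.pos
  rw [← map_frobenius_expand (p := p), coeff_mul]
  set e : Fin n →₀ ℕ := Finsupp.equivFunOnFinite.symm fun _ => p * r + (p - 1) with he
  set e1 : Fin n →₀ ℕ := Finsupp.equivFunOnFinite.symm fun _ => p - 1 with he1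
  set e2 : Fin n →₀ ℕ := Finsupp.equivFunOnFinite.symm fun _ => r with he2
  have hsplit : e = e1 + p • e2 := by
    ext i
    simp [he, he1, he2]
    ring
  rw [Finset.sum_eq_single (e1, p • e2)]
  · rw [coeff_map, coeff_expand_smul p hp0.ne', frobenius_def]
  · rintro ⟨a, b⟩ hab hne
    rw [Finset.mem_antidiagonal] at hab
    simp only at hab ⊢
    rw [coeff_map]
    by_cases hdvd : ∀ i, p ∣ b i
    · choose m hm using hdvd
      let m' : Fin n →₀ ℕ := Finsupp.equivFunOnFinite.symm m
      have hb : b = p • m' := by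
        ext i
        simp [m', hm i]
      rw [hb, coeff_expand_smul p hp0.ne']
      by_cases hm0 : B.coeff m' = 0
      · rw [hm0, map_zero, mul_zero]
      · exfalso
        have hle : ∀ i, m i ≤ r := by
          intro i
          have h1 : a i + b i = e i := by rw [← hab]; rfl
          rw [hm i] at h1
          have h2 : e i = p * r + (p - 1) := rfl
          rw [h2] at h1
          by_contra hcon
          push Not at hcon
          have h3 : p * (r + 1) ≤ p * m i := Nat.mul_le_mul_left p hcon
          rw [mul_add, mul_one] at h3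
          omega
        have hdeg : ∑ i, m i = n * r := by
          have h3 : Finsupp.degree m' = n * r := by
            rw [Finsupp.degree_eq_weight_one]; exact hB hm0
          rw [← h3, Finsupp.degree_eq_sum]
          rfl
        have h4 : ∑ i : Fin n, r = n * r := by simp
        have h5 : ∀ i ∈ Finset.univ, m i = (fun _ : Fin n => r) i := by
          rw [← Finset.sum_eq_sum_iff_of_le (fun i _ => hle i), h4, hdeg]
        have h6 : m' = e2 := by
          ext i
          exact h5 i (Finset.mem_univ i)
        apply hne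
        rw [hb, h6] at hab
        rw [hb, h6]
        have h7 : a = e1 := by
          rw [hsplit] at hab
          exact add_right_cancel hab
        rw [h7]
    · push Not at hdvd
      obtain ⟨i, hi⟩ := hdvd
      rw [coeff_expand_of_not_dvd _ hi, map_zero, mul_zero]
  · intro h
    exact absurd (Finset.mem_antidiagonal.mpr hsplit.symm) h

open MvPolynomial in
theorem key {k : Type u} [Field k] (p : ℕ) [Fact p.Prime] [CharP k p] (n : ℕ)
    (f : MvPolynomial (Fin n) k) (hf : f.IsHomogeneous n) (s : ℕ) :
    MvPolynomial.coeff (Finsupp.equivFunOnFinite.symm fun _ : Fin n => p ^ (s + 1) - 1)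
        (f ^ (p ^ (s + 1) - 1)) ≠ 0 ↔
      MvPolynomial.coeff (Finsupp.equivFunOnFinite.symm fun _ : Fin n => p - 1)
        (f ^ (p - 1)) ≠ 0 := by
  have hp : p.Prime := Fact.out
  induction s with
  | zero => rw [zero_add, pow_one]
  | succ s ih =>
    have h1 : 1 ≤ p ^ (s + 1) := Nat.one_le_pow _ _ hp.pos
    have h2 : p ^ (s + 1 + 1) - 1 = p * (p ^ (s + 1) - 1) + (p - 1) := by
      rw [pow_succ' p (s + 1), Nat.mul_sub, mul_one]
      have h3 : p ≤ p * p ^ (s + 1) := Nat.le_mul_of_pos_right p h1
      have := hp.pos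
      omega
    have h3 : f ^ (p ^ (s + 1 + 1) - 1) = f ^ (p - 1) * (f ^ (p ^ (s + 1) - 1)) ^ p := by
      rw [← pow_mul, ← pow_add, h2]
      congr 1
      ring
    rw [h3, h2, coeff_mul_pow p n (p ^ (s + 1) - 1) _ _ (hf.pow _), mul_ne_zero_iff]
    rw [pow_ne_zero_iff hp.ne_zero]
    exact ⟨fun h => h.1, fun h => ⟨h, ih.mpr h⟩⟩


/-- Let k be a finite field with q elements and characteristic p, n ≥ 2, and f ∈ k[x_0, …, x_n]
homogeneous of degree n + 1. Then the coefficient of (x_0 ⋯ x_n)^{q−1} in f^{q−1} is nonzero if and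
only if the coefficient of (x_0 ⋯ x_n)^{p−1} in f^{p−1} is nonzero. -/
theorem result {k : Type u} [Field k] [Finite k]
    (p : ℕ) [CharP k p] (n : ℕ) (hn : 2 ≤ n) (f : MvPolynomial (Fin (n + 1)) k)
    (hf : f.IsHomogeneous (n + 1)) :
    MvPolynomial.coeff (Finsupp.equivFunOnFinite.symm fun _ : Fin (n + 1) => Nat.card k - 1)
        (f ^ (Nat.card k - 1)) ≠ 0 ↔
      MvPolynomial.coeff (Finsupp.equivFunOnFinite.symm fun _ : Fin (n + 1) => p - 1)
        (f ^ (p - 1)) ≠ 0 := by
  classical
  have : Fintype k := Fintype.ofFinite k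
  have hp : p.Prime := CharP.char_is_prime k p
  have : Fact p.Prime := ⟨hp⟩
  obtain ⟨s, -, hs⟩ := FiniteField.card k p
  have hs0 := s.pos
  obtain ⟨t, ht⟩ : ∃ t, (s : ℕ) = t + 1 := ⟨s - 1, by omega⟩
  rw [Nat.card_eq_fintype_card, hs, ht]
  exact key p (n + 1) f hf t

end Groth.Agent.S13066
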