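import Groth.Statements.S13067
import Groth.Agent.S2535
import Mathlib.FieldTheory.Perfect

set_option autoImplicit false
universe u
open CategoryTheory AlgebraicGeometry Limits
open Zeta

namespace Groth.Agent.S13067

theorem pow_iterate {R : Type*} [CommRing R] (q : ℕ) (h : ∀ z : R, z ^ q = z) (z : R) (m : ℕ) :
    z ^ (q ^ m) = z := by
  induction m with
  | zero => simp
  | succ m ih => rw [pow_succ, pow_mul, ih, h]

theorem isReduced_of_pow {R : Type*} [CommRing R] (q : ℕ) (hq : 1 < q) (h : ∀ z : R, z ^ q = z) :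
    _root_.IsReduced R := by
  refine ⟨fun z hz => ?_⟩
  obtain ⟨n, hn⟩ := hz
  rw [← pow_iterate q h z n]
  exact pow_eq_zero_of_le (Nat.lt_pow_self hq).le hn

/-- The scheme of fixed points of the Frobenius is reduced. -/
theorem isReduced_equalizer {X : Scheme.{u}} (q : ℕ) (hq : 1 < q) (FX : X ⟶ X)
    (hle : ∀ U : X.Opens, U ≤ FX ⁻¹ᵁ U)
    (hFapp : ∀ (U : X.Opens) (s : Γ(X, U)), (FX.appLE U U (hle U)).hom s = s ^ q) :
    IsReduced (equalizer FX (𝟙 X)) := by
  have : ∀ e : (equalizer FX (𝟙 X) : Scheme.{u}),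
      _root_.IsReduced ((equalizer FX (𝟙 X)).presheaf.stalk e) := by
    intro e
    refine isReduced_of_pow q hq fun z => ?_
    let i := equalizer.ι FX (𝟙 X)
    obtain ⟨s, rfl⟩ := i.stalkMap_surjective e z
    obtain ⟨U, hU, s₀, rfl⟩ := X.presheaf.exists_germ_eq s
    have h1 : i ≫ FX = i := by
      have := equalizer.condition FX (𝟙 X)
      rwa [Category.comp_id] at this
    have h2 : (i.appLE U (i ⁻¹ᵁ U) le_rfl).hom s₀ ^ q = (i.appLE U (i ⁻¹ᵁ U) le_rfl).hom s₀ := by
      rw [← map_pow, ← hFapp]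
      have h3 := Scheme.Hom.appLE_comp_appLE i FX U U (i ⁻¹ᵁ U) (hle U) le_rfl
      have h4 := congrArg (fun g => g.hom s₀) h3
      simp only [CommRingCat.hom_comp, RingHom.comp_apply] at h4
      rw [h4]
      congr 2
      simp only [h1]
    rw [Scheme.Hom.germ_stalkMap_apply, ← map_pow]
    rw [Scheme.Hom.appLE_eq_app] at h2
    rw [h2]
  exact isReduced_of_isReduced_stalk _


/-- Let X be smooth over a finite field k = F_q, k̄ an algebraic closure, and F = Frob_{X,q} × id the
k̄-endomorphism of X̄ = X ×_k k̄ induced by the q-Frobenius of X. Then the intersection Γ_F ∩ Δ of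
the graph of F with the diagonal in X̄ ×_{k̄} X̄ is a reduced (finite) scheme. The published
statement is for the graph of F^r, r ≥ 1; that case is this one applied to X ×_k F_{q^r}, whose
q^r-Frobenius induces F^r on X̄. The q-Frobenius F_X is pinned as the endomorphism that is the
identity on points and raises sections to the q-th power, and F by F ≫ pr_1 = pr_1 ≫ F_X and F ≫
pr_2 = pr_2. -/
theorem result {k : Type u} [Field k] [Finite k]
    {X : Scheme.{u}} (f : X ⟶ Spec (CommRingCat.of k)) [Smooth f] (FX : X ⟶ X)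
    (hFb : FX.base = 𝟙 _) (hle : ∀ U : X.Opens, U ≤ FX ⁻¹ᵁ U)
    (hFapp : ∀ (U : X.Opens) (s : Γ(X, U)), (FX.appLE U U (hle U)).hom s = s ^ Nat.card k)
    (F : FinFr.ext (AlgebraicClosure k) f ⟶ FinFr.ext (AlgebraicClosure k) f)
    (hF1 : F ≫ FinFr.extπ (AlgebraicClosure k) f = FinFr.extπ (AlgebraicClosure k) f ≫ FX)
    (hF2 : F ≫ FinFr.extStr (AlgebraicClosure k) f = FinFr.extStr (AlgebraicClosure k) f) :
    IsReduced (FinFr.fixScheme (FinFr.extStr (AlgebraicClosure k) f) F hF2) := by
  have hq : 1 < Nat.card k := Finite.one_lt_card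
  have h1 := isReduced_equalizer (Nat.card k) hq FX hle hFapp
  let E : Scheme.{u} := equalizer FX (𝟙 X)
  let i : E ⟶ X := equalizer.ι FX (𝟙 X)
  have hi : i ≫ FX = i := by
    have := equalizer.condition FX (𝟙 X)
    rwa [Category.comp_id] at this
  have : PerfectField k := inferInstance
  have h2 : IsReduced (FBase.bc (i ≫ f) k) := by
    have : IsIso (Spec.map (CommRingCat.ofHom (algebraMap k k))) := by
      rw [show algebraMap k k = RingHom.id k from rfl, CommRingCat.ofHom_id]
      infer_instance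
    have h4 : IsIso (pullback.fst (i ≫ f) (Spec.map (CommRingCat.ofHom (algebraMap k k)))) :=
      inferInstance
    have h5 : IsOpenImmersion (pullback.fst (i ≫ f) (Spec.map (CommRingCat.ofHom (algebraMap k k)))) :=
      inferInstance
    have h6 : IsReduced E := h1
    exact @isReduced_of_isOpenImmersion _ _
      (pullback.fst (i ≫ f) (Spec.map (CommRingCat.ofHom (algebraMap k k)))) h5 h6
  have h3 : GeometricallyReduced (i ≫ f) := Groth.Agent.S2535.result (Ω := k) (i ≫ f)
  let P := pullback (i ≫ f) (FinFr.specι k (AlgebraicClosure k))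
  have hP : IsReduced P := h3.geometrically_isReduced _ _ _ (.of_hasPullback _ _)
  let K := AlgebraicClosure k
  let j : P ⟶ FinFr.ext K f := pullback.lift (pullback.fst _ _ ≫ i) (pullback.snd _ _) (by
    rw [Category.assoc, pullback.condition])
  have hj : j ≫ F = j := by
    apply pullback.hom_ext
    · have h5 : j ≫ FinFr.extπ K f = pullback.fst _ _ ≫ i := pullback.lift_fst _ _ _
      rw [Category.assoc]
      change j ≫ F ≫ FinFr.extπ K f = j ≫ FinFr.extπ K f
      rw [hF1, ← Category.assoc, h5, Category.assoc, hi]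
    · rw [Category.assoc]
      change j ≫ F ≫ FinFr.extStr K f = j ≫ FinFr.extStr K f
      rw [hF2]
  let W := FinFr.fixScheme (FinFr.extStr K f) F hF2
  let a : W ⟶ FinFr.ext K f := pullback.fst _ _
  let b : W ⟶ FinFr.ext K f := pullback.snd _ _
  let s₁ : FinFr.ext K f ⟶ pullback (FinFr.extStr K f) (FinFr.extStr K f) :=
    pullback.lift (𝟙 _) F (by rw [hF2, Category.id_comp])
  let s₂ : FinFr.ext K f ⟶ pullback (FinFr.extStr K f) (FinFr.extStr K f) :=
    pullback.lift (𝟙 _) (𝟙 _) rfl
  have hs11 : s₁ ≫ pullback.fst (FinFr.extStr K f) (FinFr.extStr K f) = 𝟙 _ := pullback.lift_fst _ _ _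
  have hs12 : s₁ ≫ pullback.snd (FinFr.extStr K f) (FinFr.extStr K f) = F := pullback.lift_snd _ _ _
  have hs21 : s₂ ≫ pullback.fst (FinFr.extStr K f) (FinFr.extStr K f) = 𝟙 _ := pullback.lift_fst _ _ _
  have hs22 : s₂ ≫ pullback.snd (FinFr.extStr K f) (FinFr.extStr K f) = 𝟙 _ := pullback.lift_snd _ _ _
  have hcond : a ≫ s₁ = b ≫ s₂ := pullback.condition
  have hab : a = b := by
    have h5 := congrArg (fun g => g ≫ pullback.fst (FinFr.extStr K f) (FinFr.extStr K f)) hcond
    simp only [Category.assoc] at h5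
    rw [hs11, hs21, Category.comp_id, Category.comp_id] at h5
    exact h5
  have haF : a ≫ F = a := by
    have h5 := congrArg (fun g => g ≫ pullback.snd (FinFr.extStr K f) (FinFr.extStr K f)) hcond
    simp only [Category.assoc] at h5
    rw [hs12, hs22, Category.comp_id] at h5
    rw [h5, hab]
  have hjπ : j ≫ FinFr.extπ K f = pullback.fst _ _ ≫ i := pullback.lift_fst _ _ _
  have hjs : j ≫ FinFr.extStr K f = pullback.snd _ _ := pullback.lift_snd _ _ _
  let e : W ⟶ E := equalizer.lift (a ≫ FinFr.extπ K f) (by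
    rw [Category.assoc, ← hF1, ← Category.assoc, haF, Category.comp_id])
  have hei : e ≫ i = a ≫ FinFr.extπ K f := equalizer.lift_ι _ _
  let φ : W ⟶ P := pullback.lift e (a ≫ FinFr.extStr K f) (by
    rw [← Category.assoc, hei, Category.assoc, pullback.condition, Category.assoc])
  let ψ : P ⟶ W := pullback.lift j j (by
    change j ≫ s₁ = j ≫ s₂
    apply pullback.hom_ext
    · rw [Category.assoc, Category.assoc, hs11, hs21]
    · rw [Category.assoc, Category.assoc, hs12, hs22, hj, Category.comp_id])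
  have hψa : ψ ≫ a = j := pullback.lift_fst _ _ _
  have hψb : ψ ≫ b = j := pullback.lift_snd _ _ _
  have hφ1 : φ ≫ pullback.fst _ _ = e := pullback.lift_fst _ _ _
  have hφ2 : φ ≫ pullback.snd _ _ = a ≫ FinFr.extStr K f := pullback.lift_snd _ _ _
  have hφj : φ ≫ j = a := by
    apply pullback.hom_ext
    · change (φ ≫ j) ≫ FinFr.extπ K f = a ≫ FinFr.extπ K f
      rw [Category.assoc, hjπ, ← Category.assoc, hφ1, hei]
    · change (φ ≫ j) ≫ FinFr.extStr K f = a ≫ FinFr.extStr K f
      rw [Category.assoc, hjs, hφ2]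
  have h6 : φ ≫ ψ = 𝟙 W := by
    apply pullback.hom_ext
    · change (φ ≫ ψ) ≫ a = 𝟙 W ≫ a
      rw [Category.assoc, hψa, hφj, Category.id_comp]
    · change (φ ≫ ψ) ≫ b = 𝟙 W ≫ b
      rw [Category.assoc, hψb, hφj, Category.id_comp, hab]
  have h7 : ψ ≫ φ = 𝟙 P := by
    apply pullback.hom_ext
    · rw [Category.assoc, hφ1, Category.id_comp]
      apply equalizer.hom_ext
      change (ψ ≫ e) ≫ i = pullback.fst _ _ ≫ i
      rw [Category.assoc, hei, ← Category.assoc, hψa, hjπ]
    · rw [Category.assoc, hφ2, Category.id_comp, ← Category.assoc, hψa, hjs]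
  have : IsIso φ := ⟨ψ, h6, h7⟩
  exact isReduced_of_isOpenImmersion φ

end Groth.Agent.S13067
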