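import Groth.Statements.S13070
import Groth.Agent.Zeta.K656.GenDim
import Mathlib.Algebra.CharP.CharAndCard

set_option autoImplicit false
universe u
open CategoryTheory AlgebraicGeometry
open Zeta

namespace Groth.Agent.S13070

/-- For an arithmetic scheme X (of finite type over ℤ) of dimension r there are c_X > 0 and p₀ such that
#X(F_{p^m}) ≤ c_X p^{m(r−1)} for all primes p ≥ p₀ and m ≥ 1, and #X(F_{p^m}) ≤ c_X p^{mr} for p <
p₀ and m ≥ 1. Here #X(F) is the number of morphisms Spec F → X, and the dimension is only assumed ≤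
r. -/
theorem result {X : Scheme.{u}}
    (f : X ⟶ Spec (CommRingCat.of (ULift.{u} ℤ))) [LocallyOfFiniteType f] [QuasiCompact f] (r : ℕ)
    (hr : topologicalKrullDim X ≤ r) :
    ∃ (c : ℝ) (p₀ : ℕ), 0 < c ∧ ∀ (p m : ℕ), p.Prime → 1 ≤ m →
      ∀ (F : Type u) [Field F], Nat.card F = p ^ m →
        (p₀ ≤ p → (Nat.card (Spec (CommRingCat.of F) ⟶ X) : ℝ) ≤
            c * (p : ℝ) ^ ((m : ℝ) * ((r : ℝ) - 1))) ∧
        (p < p₀ → (Nat.card (Spec (CommRingCat.of F) ⟶ X) : ℝ) ≤ c * (p : ℝ) ^ ((m : ℝ) * r)) := by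
  classical
  have hcpt : CompactSpace X := QuasiCompact.compactSpace_of_compactSpace f
  obtain ⟨n, A, _, _, hft, hdim, hcard⟩ := K656.Cover.card_points_le f
  have hftZ : ∀ i, Algebra.FiniteType ℤ (A i) := by
    intro i
    have h2 : (algebraMap (ULift.{u} ℤ) (A i)).FiniteType :=
      RingHom.finiteType_algebraMap.mpr (hft i)
    have h3 : (Int.castRingHom (ULift.{u} ℤ)).FiniteType := by
      refine RingHom.FiniteType.of_surjective _ ?_
      rintro ⟨x⟩
      exact ⟨x, by ext; simp⟩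
    have h4 := h2.comp h3
    rw [show (algebraMap (ULift.{u} ℤ) (A i)).comp (Int.castRingHom (ULift.{u} ℤ)) =
      algebraMap ℤ (A i) from RingHom.ext_int _ _] at h4
    exact RingHom.finiteType_algebraMap.mp h4
  have hd : ∀ i, ringKrullDim (A i) ≤ (r : ℕ) := fun i => (hdim i).trans hr
  choose C p₀ hC using fun i => K656.GenDim.card_hom_large.{u, u} (A i) (hd i)
  choose D hD using fun i => K656.GenDim.card_hom_small.{u, u} (A i) (hd i)
  -- the number of points
  have hpts : ∀ (F : Type u) [Field F] [Finite F],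
      Nat.card (Spec (CommRingCat.of F) ⟶ X) ≤ ∑ i, Nat.card (A i →+* F) := by
    intro F _ _
    let φ : ULift.{u} ℤ →+* F := (Int.castRingHom F).comp ULift.ringEquiv.toRingHom
    have h1 := hcard F φ
    have h2 : Nat.card {g : Spec (CommRingCat.of F) ⟶ X //
        g ≫ f = Spec.map (CommRingCat.ofHom φ)} = Nat.card (Spec (CommRingCat.of F) ⟶ X) :=
      Nat.card_congr (Equiv.subtypeUnivEquiv fun g => specULiftZIsTerminal.hom_ext _ _)
    rw [h2] at h1
    refine h1.trans (le_of_eq (Finset.sum_congr rfl fun i _ => ?_))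
    unfold K468.Cnt.N
    refine Nat.card_congr (Equiv.subtypeUnivEquiv fun ψ => ?_)
    ext ⟨x⟩
    have : (⟨x⟩ : ULift.{u} ℤ) = ((x : ℤ) : ULift.{u} ℤ) := by
      ext
      simp
    rw [this, map_intCast, map_intCast]
  let P : ℕ := ∑ i, p₀ i
  let c₁ : ℕ := ∑ i, C i
  let c₂ : ℕ := ∑ q ∈ Finset.range P, ∑ i, if hq : q.Prime then D i q hq else 0
  refine ⟨c₁ + c₂ + 1, P, by positivity, ?_⟩
  intro p m hp hm F _ hF
  have hpm : 0 < p ^ m := pow_pos hp.pos m
  have hfin : Finite F := by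
    apply Nat.finite_of_card_ne_zero
    omega
  have : Fintype F := Fintype.ofFinite F
  have : Fact p.Prime := ⟨hp⟩
  have hch : CharP F p := charP_of_card_eq_prime_pow (f := m)
    (by rw [← Nat.card_eq_fintype_card, hF])
  have hpR : (0 : ℝ) < p := by exact_mod_cast hp.pos
  have hq : ((Nat.card F : ℕ) : ℝ) = (p : ℝ) ^ (m : ℝ) := by
    rw [hF, Real.rpow_natCast]
    push_cast
    rfl
  have hn := hpts F
  constructor
  · intro hle
    have h1 : (Nat.card (Spec (CommRingCat.of F) ⟶ X) : ℝ) ≤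
        ∑ i, (Nat.card (A i →+* F) : ℝ) := by exact_mod_cast hn
    refine h1.trans ?_
    have h2 : ∀ i, (Nat.card (A i →+* F) : ℝ) ≤ C i * (p : ℝ) ^ ((m : ℝ) * ((r : ℝ) - 1)) := by
      intro i
      have h3 := hC i p hp (le_trans (Finset.single_le_sum (f := p₀) (fun _ _ => Nat.zero_le _)
        (Finset.mem_univ i)) hle) F
      rwa [hq, ← Real.rpow_mul hpR.le] at h3
    refine (Finset.sum_le_sum fun i _ => h2 i).trans ?_
    rw [← Finset.sum_mul]
    refine mul_le_mul_of_nonneg_right ?_ (Real.rpow_nonneg hpR.le _)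
    have : (∑ i, (C i : ℝ)) = (c₁ : ℝ) := by simp [c₁]
    rw [this]
    have : (0 : ℝ) ≤ c₂ := Nat.cast_nonneg _
    linarith
  · intro hlt
    have h1 : (Nat.card (Spec (CommRingCat.of F) ⟶ X) : ℝ) ≤
        ∑ i, (Nat.card (A i →+* F) : ℝ) := by exact_mod_cast hn
    refine h1.trans ?_
    have h2 : ∀ i, (Nat.card (A i →+* F) : ℝ) ≤ D i p hp * (p : ℝ) ^ ((m : ℝ) * r) := by
      intro i
      have h3 : (Nat.card (A i →+* F) : ℝ) ≤ D i p hp * (Nat.card F : ℝ) ^ r := by
        exact_mod_cast hD i p hp F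
      rw [hq, ← Real.rpow_natCast, ← Real.rpow_mul hpR.le] at h3
      exact h3
    refine (Finset.sum_le_sum fun i _ => h2 i).trans ?_
    rw [← Finset.sum_mul]
    refine mul_le_mul_of_nonneg_right ?_ (Real.rpow_nonneg hpR.le _)
    have h4 : (∑ i, (D i p hp : ℝ)) ≤ (c₂ : ℝ) := by
      have h5 : (∑ i, D i p hp) ≤ c₂ := by
        have h6 := Finset.single_le_sum
          (f := fun q => ∑ i, if hq : q.Prime then D i q hq else 0)
          (fun _ _ => Nat.zero_le _) (Finset.mem_range.mpr hlt)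
        simp only [hp, dif_pos] at h6
        exact h6
      exact_mod_cast h5
    have : (0 : ℝ) ≤ c₁ := Nat.cast_nonneg _
    linarith

end Groth.Agent.S13070
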