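import Groth.Statements.S13072
import Groth.Agent.Zeta.K467.FrobOrbit

set_option autoImplicit false
universe u
open CategoryTheory AlgebraicGeometry Limits
open Zeta

namespace Groth.Agent.S13072

open K467.FrobOrbit in
/-- Case r = 1, to which the general case reduces by passing to X ×_k F_{q^r}. Let X be a variety over k
= F_q, k̄ an algebraic closure and F = Frob_{X,q} × id the induced endomorphism of X_{k̄}. A closed
subset W ⊆ X_{k̄} is of the form Y_{k̄} for a closed Y ⊆ X (i.e. W = π⁻¹(Y), π the projection) if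
and only if F(W) ⊆ W. Stated for schemes of finite type over k; F_X is pinned as the endomorphism
that is the identity on points and the q-th power on sections, F by F ≫ pr_1 = pr_1 ≫ F_X and F ≫
pr_2 = pr_2. -/
theorem result {k : Type u} [Field k] [Finite k]
    {X : Scheme.{u}} (f : X ⟶ Spec (CommRingCat.of k)) [LocallyOfFiniteType f] [QuasiCompact f]
    (FX : X ⟶ X) (hFb : FX.base = 𝟙 _) (hle : ∀ U : X.Opens, U ≤ FX ⁻¹ᵁ U)
    (hFapp : ∀ (U : X.Opens) (s : Γ(X, U)), (FX.appLE U U (hle U)).hom s = s ^ Nat.card k)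
    (F : FinFr.ext (AlgebraicClosure k) f ⟶ FinFr.ext (AlgebraicClosure k) f)
    (hF1 : F ≫ FinFr.extπ (AlgebraicClosure k) f = FinFr.extπ (AlgebraicClosure k) f ≫ FX)
    (hF2 : F ≫ FinFr.extStr (AlgebraicClosure k) f = FinFr.extStr (AlgebraicClosure k) f)
    (W : Set ↑(FinFr.ext (AlgebraicClosure k) f)) (hW : IsClosed W) :
    (∃ Y : Set X, IsClosed Y ∧ (FinFr.extπ (AlgebraicClosure k) f).base ⁻¹' Y = W) ↔
      F.base '' W ⊆ W := by
  constructor
  · rintro ⟨Y, -, rfl⟩ _ ⟨w, hw, rfl⟩
    have h1 := congrArg (fun g => g w) hF1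
    change (F ≫ FinFr.extπ (AlgebraicClosure k) f) w = (FinFr.extπ (AlgebraicClosure k) f ≫ FX) w at h1
    rw [Scheme.Hom.comp_apply, Scheme.Hom.comp_apply] at h1
    have h2 : ∀ x : X, FX x = x := by
      intro x
      change FX.base x = x
      rw [hFb]; rfl
    rw [h2] at h1
    change FinFr.extπ (AlgebraicClosure k) f (F w) ∈ Y
    rw [h1]; exact hw
  · intro hFW
    have hint : IsIntegralHom (FinFr.extπ (AlgebraicClosure k) f) := by
      have : IsIntegralHom (Spec.map (CommRingCat.ofHom (algebraMap k (AlgebraicClosure k)))) := by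
        rw [IsIntegralHom.SpecMap_iff]
        exact algebraMap_isIntegral_iff.mpr inferInstance
      change IsIntegralHom (pullback.fst _ _)
      infer_instance
    have hcm : IsClosedMap (FinFr.extπ (AlgebraicClosure k) f) := (FinFr.extπ (AlgebraicClosure k) f).isClosedMap
    refine ⟨FinFr.extπ (AlgebraicClosure k) f '' W, hcm _ hW, ?_⟩
    refine subset_antisymm ?_ (Set.subset_preimage_image _ _)
    by_contra hne
    -- a closed point in the difference
    have hJ : JacobsonSpace (FinFr.ext (AlgebraicClosure k) f) :=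
      LocallyOfFiniteType.jacobsonSpace (FinFr.extStr (AlgebraicClosure k) f)
    let Z : Set (FinFr.ext (AlgebraicClosure k) f) :=
      (FinFr.extπ (AlgebraicClosure k) f ⁻¹' (FinFr.extπ (AlgebraicClosure k) f '' W)) ∩ Wᶜ
    have hZ : IsLocallyClosed Z :=
      ((hcm _ hW).preimage (FinFr.extπ (AlgebraicClosure k) f).continuous).isLocallyClosed.inter
        hW.isOpen_compl.isLocallyClosed
    have hZne : Z.Nonempty := by
      rw [Set.not_subset] at hne
      obtain ⟨z, hz1, hz2⟩ := hne
      exact ⟨z, hz1, hz2⟩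
    obtain ⟨z, ⟨⟨w, hw, hwz⟩, hzW⟩, hzcl⟩ := (nonempty_inter_closedPoints hZne hZ)
    have hz : IsClosed ({z} : Set (FinFr.ext (AlgebraicClosure k) f)) := hzcl
    -- `w` is closed too
    letI : X.Over (Spec (CommRingCat.of k)) := ⟨f⟩
    have hwcl : IsClosed ({w} : Set (FinFr.ext (AlgebraicClosure k) f)) := by
      obtain ⟨σ, hσ⟩ := Groth.Agent.VarietyB.BaseExt3.exists_galAct_eq k X (AlgebraicClosure k) z w hwz.symm
      have hcl : IsClosedMap (Curv2.galAct k X (AlgebraicClosure k) σ) := by
        have e : IsIso (Curv2.galAct k X (AlgebraicClosure k) σ) := by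
          unfold Curv2.galAct
          have : IsIso (Spec.map (CommRingCat.ofHom (σ : AlgebraicClosure k →ₐ[k] AlgebraicClosure k).toRingHom)) := by
            have h0 : IsIso (CommRingCat.ofHom (σ : AlgebraicClosure k →ₐ[k] AlgebraicClosure k).toRingHom) :=
              (σ.toRingEquiv.toCommRingCatIso).isIso_hom
            infer_instance
          infer_instance
        exact (Curv2.galAct k X (AlgebraicClosure k) σ).homeomorph.isClosedMap
      have h3 : (Curv2.galAct k X (AlgebraicClosure k) σ) '' {z} = {w} :=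
        (Set.image_singleton (f := ⇑(Curv2.galAct k X (AlgebraicClosure k) σ))).trans (congrArg _ hσ)
      have h4 := hcl _ hz
      exact (congrArg IsClosed h3).mp h4
    obtain ⟨m, hm⟩ := exists_iterate_eq f FX hFb hle hFapp F hF1 hF2 w z hwcl hz hwz
    have hmem : ∀ m, iter f F m w ∈ W := by
      intro m
      induction m with
      | zero => exact hw
      | succ m ih =>
        rw [iter, Scheme.Hom.comp_apply]
        exact hFW ⟨_, ih, rfl⟩
    exact hzW (hm ▸ hmem m)

end Groth.Agent.S13072
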