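import Groth.Statements.S13073
import Groth.Agent.Zeta.K467.Final
import Groth.Agent.Zeta.K675.Hilb

set_option autoImplicit false
universe u
open CategoryTheory AlgebraicGeometry
open Zeta

namespace Groth.Agent.S13073

/-- Given n, d, r ≥ 0 with d > 0 there is a constant A = A(n, d, r) > 0 such that for every finite field
k = F_q and every geometrically irreducible (reduced) closed subvariety X ⊆ P^n_k of dimension r and
degree d one has |#X(k) − q^r| ≤ (d − 1)(d − 2) q^{r − 1/2} + A q^{r − 1}. The degree is the
intersection number (O(1)^r · O_X) on X, written as the alternating-Euler-characteristic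
intersection number of r copies of O(−1)|_X with O_X. -/
theorem result (n d r : ℕ) (hd : 0 < d) :
    ∃ A : ℝ, 0 < A ∧ ∀ (k : Type u) [Field k] [Finite k] (X : Scheme.{u})
      (ι : X ⟶ CohB1.ProjSpace n k) [IsClosedImmersion ι] [IsReduced X]
      [GeometricallyIrreducible (ι ≫ CohB1.ProjSpace.toSpec n k)],
      topologicalKrullDim X = r →
      letI : X.Over (Spec (CommRingCat.of k)) := ⟨ι ≫ CohB1.ProjSpace.toSpec n k⟩
      FGA.intNum k X r (fun _ : Fin r => (Scheme.Modules.pullback ι).obj (Twist.twistProjSpace n k (-1)))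
          (Coh.structureModule X) = d →
        |(SgaExt.pointCount (ι ≫ CohB1.ProjSpace.toSpec n k) k : ℝ) - (Nat.card k : ℝ) ^ r| ≤
          ((d : ℝ) - 1) * ((d : ℝ) - 2) * (Nat.card k : ℝ) ^ ((r : ℝ) - 1 / 2) +
            A * (Nat.card k : ℝ) ^ ((r : ℝ) - 1) :=
  K467.Final.s13073 K675.Hilb.tendsto_hilb n d r hd

end Groth.Agent.S13073
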