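import Groth.Statements.S13074
import Groth.Agent.Zeta.K467.Final
import Groth.Agent.Zeta.K675.Hilb

set_option autoImplicit false
universe u
open CategoryTheory AlgebraicGeometry
open Zeta

namespace Groth.Agent.S13074

/-- Given n, d, r ≥ 0 with d > 0 there is A₁ = A₁(n, d, r) > 0 such that for every finite field k = F_q
and every irreducible (reduced) closed subvariety X ⊆ P^n_k of dimension r and degree ≤ d, #X(k) ≤
A₁ q^r. The degree is the intersection number (O(1)^r · O_X), written as the
alternating-Euler-characteristic intersection number of r copies of O(−1)|_X with O_X. -/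
theorem result (n d r : ℕ) (hd : 0 < d) :
    ∃ A₁ : ℕ, 0 < A₁ ∧ ∀ (k : Type u) [Field k] [Finite k] (X : Scheme.{u})
      (ι : X ⟶ CohB1.ProjSpace n k) [IsClosedImmersion ι] [IsIntegral X],
      topologicalKrullDim X = r →
      letI : X.Over (Spec (CommRingCat.of k)) := ⟨ι ≫ CohB1.ProjSpace.toSpec n k⟩
      FGA.intNum k X r (fun _ : Fin r => (Scheme.Modules.pullback ι).obj (Twist.twistProjSpace n k (-1)))
          (Coh.structureModule X) ≤ d →
        SgaExt.pointCount (ι ≫ CohB1.ProjSpace.toSpec n k) k ≤ A₁ * Nat.card k ^ r :=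
  K467.Final.s13074 K675.Hilb.tendsto_hilb n d r hd

end Groth.Agent.S13074
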