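import Groth.Statements.S13075
import Mathlib.RingTheory.PowerSeries.Log

set_option autoImplicit false
open Zeta

namespace Groth.Agent.S13075

open PowerSeries in
theorem aux_log_eq : (PowerSeries.mk fun m : ℕ => if m = 0 then (0 : ℚ) else (-1) ^ (m + 1) / (m : ℚ)) =
    PowerSeries.log ℚ := by
  ext n
  simp [PowerSeries.coeff_log]

open PowerSeries in
theorem aux_deriv_log_mul : (derivative ℚ) (PowerSeries.log ℚ) * (1 + PowerSeries.X) = 1 := by
  rw [deriv_log]
  ext n
  rw [mul_add, mul_one, map_add]
  cases n with
  | zero => simp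
  | succ n =>
    rw [PowerSeries.coeff_succ_mul_X, coeff_mk, coeff_mk, coeff_one]
    simp [pow_succ]

open PowerSeries in
theorem aux_one : PowerSeries.subst (PowerSeries.exp ℚ - 1) (PowerSeries.log ℚ) = PowerSeries.X := by
  have hs : HasSubst (PowerSeries.exp ℚ - 1) := HasSubst.exp_sub_one
  apply derivative.ext
  · rw [derivative_subst hs, derivative_X]
    have h := congrArg (PowerSeries.subst (PowerSeries.exp ℚ - 1)) aux_deriv_log_mul
    rw [PowerSeries.subst_mul hs, PowerSeries.subst_add hs, PowerSeries.subst_X hs] at h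
    have h1 : PowerSeries.subst (PowerSeries.exp ℚ - 1) (1 : PowerSeries ℚ) = 1 := by
      rw [← PowerSeries.coe_substAlgHom hs, map_one]
    rw [h1] at h
    rw [map_sub, derivative_exp, derivative_one, sub_zero]
    simpa using h
  · rw [PowerSeries.constantCoeff_X]
    have := constantCoeff_logOf (A := ℚ) (f := PowerSeries.exp ℚ) (by simp)
    exact this

open PowerSeries in
theorem aux_two : PowerSeries.subst (PowerSeries.log ℚ) (PowerSeries.exp ℚ) = 1 + PowerSeries.X := by
  have hs : HasSubst (PowerSeries.log ℚ) := HasSubst.log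
  set f := PowerSeries.subst (PowerSeries.log ℚ) (PowerSeries.exp ℚ) with hf
  have hf' : (derivative ℚ) f = f * (derivative ℚ) (PowerSeries.log ℚ) := by
    rw [hf, derivative_subst hs, derivative_exp]
  have hL : (derivative ℚ) ((derivative ℚ) (PowerSeries.log ℚ)) * (1 + PowerSeries.X) +
      (derivative ℚ) (PowerSeries.log ℚ) = 0 := by
    have h := congrArg (derivative ℚ) aux_deriv_log_mul
    rw [Derivation.leibniz, derivative_one, map_add, derivative_one, derivative_X, zero_add,
      smul_eq_mul, smul_eq_mul, mul_one] at h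
    rw [← h]; ring
  have hg : f * (derivative ℚ) (PowerSeries.log ℚ) = 1 := by
    apply derivative.ext
    · rw [Derivation.leibniz, hf', derivative_one, smul_eq_mul, smul_eq_mul]
      have e : (derivative ℚ) ((derivative ℚ) (PowerSeries.log ℚ)) =
          - ((derivative ℚ) (PowerSeries.log ℚ)) * (derivative ℚ) (PowerSeries.log ℚ) := by
        have h2 : (derivative ℚ) ((derivative ℚ) (PowerSeries.log ℚ)) * (1 + PowerSeries.X) =
          -(derivative ℚ) (PowerSeries.log ℚ) := eq_neg_of_add_eq_zero_left hL
        calc (derivative ℚ) ((derivative ℚ) (PowerSeries.log ℚ)) =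
            (derivative ℚ) ((derivative ℚ) (PowerSeries.log ℚ)) *
              ((derivative ℚ) (PowerSeries.log ℚ) * (1 + PowerSeries.X)) := by
              rw [aux_deriv_log_mul, mul_one]
          _ = ((derivative ℚ) ((derivative ℚ) (PowerSeries.log ℚ)) * (1 + PowerSeries.X)) *
              (derivative ℚ) (PowerSeries.log ℚ) := by ring
          _ = _ := by rw [h2]
      rw [e]; ring
    · rw [map_mul, map_one]
      have h1 : PowerSeries.constantCoeff f = 1 := by
        have h3 : f = 1 + PowerSeries.subst (PowerSeries.log ℚ) (PowerSeries.exp ℚ - 1) := by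
          rw [PowerSeries.subst_sub hs]
          have h1 : PowerSeries.subst (PowerSeries.log ℚ) (1 : PowerSeries ℚ) = 1 := by
            rw [← PowerSeries.coe_substAlgHom hs, map_one]
          rw [h1, ← hf]; ring
        rw [h3, map_add, map_one]
        have h4 := constantCoeff_subst_eq_zero (a := PowerSeries.log ℚ) (by
            exact constantCoeff_log (A := ℚ)) (PowerSeries.exp ℚ - 1) (by simp)
        change 1 + MvPowerSeries.constantCoeff _ = _
        rw [h4, add_zero]
      rw [h1, one_mul, deriv_log]
      simp [← PowerSeries.coeff_zero_eq_constantCoeff_apply]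
  calc f = f * ((derivative ℚ) (PowerSeries.log ℚ) * (1 + PowerSeries.X)) := by
        rw [aux_deriv_log_mul, mul_one]
    _ = (f * (derivative ℚ) (PowerSeries.log ℚ)) * (1 + PowerSeries.X) := by ring
    _ = 1 + PowerSeries.X := by rw [hg, one_mul]

/-- For the formal power series exp(t) = ∑_{m ≥ 0} t^m / m! and log(1 + t) = ∑_{m ≥ 1} (−1)^{m+1} t^m /
m over ℚ, log(exp(u)) = u and exp(log(1 + u)) = 1 + u for every u ∈ tℚ⟦t⟧; stated for u = t (the
general case is obtained by substitution): substituting exp(t) − 1 into log(1 + ·) gives t, and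
substituting log(1 + t) into exp gives 1 + t. -/
theorem result :
    PowerSeries.subst (PowerSeries.exp ℚ - 1)
        (PowerSeries.mk fun m : ℕ => if m = 0 then (0 : ℚ) else (-1) ^ (m + 1) / (m : ℚ)) =
      PowerSeries.X ∧
    PowerSeries.subst (PowerSeries.mk fun m : ℕ => if m = 0 then (0 : ℚ) else (-1) ^ (m + 1) / (m : ℚ))
        (PowerSeries.exp ℚ) = 1 + PowerSeries.X := by
  rw [aux_log_eq]
  exact ⟨aux_one, aux_two⟩

end Groth.Agent.S13075
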