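import Groth.Statements.S13077
import Groth.Agent.Zeta.K467.Comp77
import Groth.Agent.Zeta.K675.Hilb
import Groth.Agent.Zeta.K758.CompSharp

set_option autoImplicit false
universe u
open CategoryTheory AlgebraicGeometry Limits
open Zeta

namespace Groth.Agent.S13077

/-- Let k = F_q, X ⊆ P^n_k an irreducible (reduced) closed subvariety of dimension r and degree d, and m
the number of irreducible components of X ×_k k̄ (k̄ an algebraic closure). There are constants c_X,
c'_X > 0 such that for every e ≥ 1: if m ∣ e then |#X(F_{q^e}) − m q^{er}| ≤ ((d − m)(d − 2m)/m)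
q^{e(r − 1/2)} + c_X q^{e(r − 1)}, and if m ∤ e then #X(F_{q^e}) ≤ c'_X q^{e(r − 1)}. The degree is
the intersection number (O(1)^r · O_X), written as the alternating-Euler-characteristic intersection
number of r copies of O(−1)|_X with O_X; #X(F_{q^e}) is the number of k-morphisms Spec k' → X for an
extension k'/k of degree e. -/
theorem result (k : Type u) [Field k] [Finite k] (n d r : ℕ)
    (X : Scheme.{u}) (ι : X ⟶ CohB1.ProjSpace n k) [IsClosedImmersion ι] [IsIntegral X]
    (hdim : topologicalKrullDim X = r)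
    (hdeg : letI : X.Over (Spec (CommRingCat.of k)) := ⟨ι ≫ CohB1.ProjSpace.toSpec n k⟩
      FGA.intNum k X r (fun _ : Fin r => (Scheme.Modules.pullback ι).obj (Twist.twistProjSpace n k (-1)))
        (Coh.structureModule X) = d)
    (m : ℕ) (hm : Nat.card (irreducibleComponents ↑(pullback (ι ≫ CohB1.ProjSpace.toSpec n k)
        (Spec.map (CommRingCat.ofHom (algebraMap k (AlgebraicClosure k)))))) = m) :
    ∃ c c' : ℝ, 0 < c ∧ 0 < c' ∧ ∀ (k' : Type u) [Field k'] [Algebra k k'] [Finite k'],
      (m ∣ Module.finrank k k' →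
        |(SgaExt.pointCount (ι ≫ CohB1.ProjSpace.toSpec n k) k' : ℝ) -
            m * (Nat.card k : ℝ) ^ (Module.finrank k k' * r)| ≤
          (((d : ℝ) - m) * ((d : ℝ) - 2 * m) / m) *
              (Nat.card k : ℝ) ^ ((Module.finrank k k' : ℝ) * ((r : ℝ) - 1 / 2)) +
            c * (Nat.card k : ℝ) ^ ((Module.finrank k k' : ℝ) * ((r : ℝ) - 1))) ∧
      (¬ m ∣ Module.finrank k k' →
        (SgaExt.pointCount (ι ≫ CohB1.ProjSpace.toSpec n k) k' : ℝ) ≤
          c' * (Nat.card k : ℝ) ^ ((Module.finrank k k' : ℝ) * ((r : ℝ) - 1))) := by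
  exact K467.Comp77.s13077 K675.Hilb.tendsto_hilb
    (fun k _ _ L _ _ _ b R d m => K758.CompSharp.compThm k L b R d m) k n d r X ι hdim hdeg m hm

end Groth.Agent.S13077
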