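import Groth.Statements.S13078
import Groth.Agent.Zeta.K468.SharpNormal
import Groth.Agent.S13073

set_option autoImplicit false
universe u
open CategoryTheory AlgebraicGeometry Limits
open Zeta

namespace Groth.Agent.S13078

/-- For smooth X the constant c'_X may be taken to be 0 and c_X to depend only on n, d, r: given n, d, r
with d > 0 there is c > 0 such that for every finite field k = F_q, every smooth irreducible closed
subvariety X ⊆ P^n_k of dimension r and degree d with m geometric irreducible components, and every
e ≥ 1, |#X(F_{q^e}) − m q^{er}| ≤ ((d − m)(d − 2m)/m) q^{e(r − 1/2)} + c q^{e(r − 1)} when m ∣ e,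
and X(F_{q^e}) = ∅ when m ∤ e. The degree is the intersection number (O(1)^r · O_X), written as the
alternating-Euler-characteristic intersection number of r copies of O(−1)|_X with O_X, and
#X(F_{q^e}) is the number of k-morphisms Spec k' → X for an extension k'/k of degree e. -/
theorem result (n d r : ℕ) (hd : 0 < d) :
    ∃ c : ℝ, 0 < c ∧ ∀ (k : Type u) [Field k] [Finite k] (X : Scheme.{u})
      (ι : X ⟶ CohB1.ProjSpace n k) [IsClosedImmersion ι] [IsIntegral X]
      [Smooth (ι ≫ CohB1.ProjSpace.toSpec n k)] (m : ℕ),
      topologicalKrullDim X = r →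
      Nat.card (irreducibleComponents ↑(pullback (ι ≫ CohB1.ProjSpace.toSpec n k)
        (Spec.map (CommRingCat.ofHom (algebraMap k (AlgebraicClosure k)))))) = m →
      letI : X.Over (Spec (CommRingCat.of k)) := ⟨ι ≫ CohB1.ProjSpace.toSpec n k⟩
      FGA.intNum k X r (fun _ : Fin r => (Scheme.Modules.pullback ι).obj (Twist.twistProjSpace n k (-1)))
          (Coh.structureModule X) = d →
        ∀ (k' : Type u) [Field k'] [Algebra k k'] [Finite k'],
          (m ∣ Module.finrank k k' →
            |(SgaExt.pointCount (ι ≫ CohB1.ProjSpace.toSpec n k) k' : ℝ) -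
                m * (Nat.card k : ℝ) ^ (Module.finrank k k' * r)| ≤
              (((d : ℝ) - m) * ((d : ℝ) - 2 * m) / m) *
                  (Nat.card k : ℝ) ^ ((Module.finrank k k' : ℝ) * ((r : ℝ) - 1 / 2)) +
                c * (Nat.card k : ℝ) ^ ((Module.finrank k k' : ℝ) * ((r : ℝ) - 1))) ∧
          (¬ m ∣ Module.finrank k k' → SgaExt.pointCount (ι ≫ CohB1.ProjSpace.toSpec n k) k' = 0) :=
  K468.SharpNormal.main (fun n d r hd => Groth.Agent.S13073.result n d r hd) n d r hd

end Groth.Agent.S13078
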