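import Groth.Statements.S13079
import Groth.Agent.Zeta.K467.QuotFlat

set_option autoImplicit false
universe u
open CategoryTheory AlgebraicGeometry Limits
open Zeta

namespace Groth.Agent.S13079

open Groth.Agent.Sga1.QuotBasic K467.QuotFlat

theorem isPullback_left {S X XG Y : Scheme.{u}} (fX : X ⟶ S) (gX : XG ⟶ S) (fY : Y ⟶ S) (p : X ⟶ XG)
    (hp : p ≫ gX = fX) (m : pullback fX fY ⟶ pullback gX fY)
    (h1 : m ≫ pullback.fst gX fY = pullback.fst fX fY ≫ p)
    (h2 : m ≫ pullback.snd gX fY = pullback.snd fX fY) :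
    IsPullback (pullback.fst fX fY) m p (pullback.fst gX fY) := by
  refine IsPullback.of_bot (v₂₁ := pullback.snd gX fY) (v₂₂ := gX) (h₃₁ := fY) ?_ h1.symm
    (IsPullback.of_hasPullback gX fY)
  rw [h2, hp]
  exact IsPullback.of_hasPullback fX fY

theorem isPullback_right {S X Y YH : Scheme.{u}} (fX : X ⟶ S) (gY : YH ⟶ S) (fY : Y ⟶ S) (q : Y ⟶ YH)
    (hq : q ≫ gY = fY) (m : pullback fX fY ⟶ pullback fX gY)
    (h1 : m ≫ pullback.fst fX gY = pullback.fst fX fY)
    (h2 : m ≫ pullback.snd fX gY = pullback.snd fX fY ≫ q) :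
    IsPullback (pullback.snd fX fY) m q (pullback.snd fX gY) := by
  refine IsPullback.of_bot (v₂₁ := pullback.fst fX gY) (v₂₂ := gY) (h₃₁ := fX) ?_ h2.symm
    (IsPullback.of_hasPullback fX gY).flip
  rw [h1, hq]
  exact (IsPullback.of_hasPullback fX fY).flip

section act

variable {S X Y : Scheme.{u}} {G : Type u} [Group G] (fX : X ⟶ S) (fY : Y ⟶ S)

/-- The action on the first factor. -/
noncomputable def homF (ρ : G →* Aut X) (hρ : ∀ g, (ρ g).hom ≫ fX = fX) (g : G) :
    pullback fX fY ⟶ pullback fX fY :=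
  pullback.map fX fY fX fY (ρ g).hom (𝟙 Y) (𝟙 S) (by rw [hρ, Category.comp_id]) (by simp)

theorem homF_fst (ρ : G →* Aut X) (hρ : ∀ g, (ρ g).hom ≫ fX = fX) (g : G) :
    homF fX fY ρ hρ g ≫ pullback.fst fX fY = pullback.fst fX fY ≫ (ρ g).hom := pullback.lift_fst _ _ _

theorem homF_snd (ρ : G →* Aut X) (hρ : ∀ g, (ρ g).hom ≫ fX = fX) (g : G) :
    homF fX fY ρ hρ g ≫ pullback.snd fX fY = pullback.snd fX fY :=
  (pullback.lift_snd _ _ _).trans (Category.comp_id _)

theorem homF_one (ρ : G →* Aut X) (hρ : ∀ g, (ρ g).hom ≫ fX = fX) : homF fX fY ρ hρ 1 = 𝟙 _ := by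
  apply pullback.hom_ext
  · rw [homF_fst, hom_one, Category.comp_id, Category.id_comp]
  · rw [homF_snd, Category.id_comp]

theorem homF_mul (ρ : G →* Aut X) (hρ : ∀ g, (ρ g).hom ≫ fX = fX) (g h : G) :
    homF fX fY ρ hρ (g * h) = homF fX fY ρ hρ h ≫ homF fX fY ρ hρ g := by
  apply pullback.hom_ext
  · rw [homF_fst, hom_mul, Category.assoc, homF_fst, reassoc_of% (homF_fst fX fY ρ hρ h)]
  · rw [homF_snd, Category.assoc, homF_snd, homF_snd]

/-- The action on the first factor. -/
noncomputable def actFst (ρ : G →* Aut X) (hρ : ∀ g, (ρ g).hom ≫ fX = fX) : G →* Aut (pullback fX fY) where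
  toFun g :=
    { hom := homF fX fY ρ hρ g
      inv := homF fX fY ρ hρ g⁻¹
      hom_inv_id := by rw [← homF_mul, inv_mul_cancel, homF_one]
      inv_hom_id := by rw [← homF_mul, mul_inv_cancel, homF_one] }
  map_one' := by
    ext1
    exact homF_one fX fY ρ hρ
  map_mul' g h := by
    ext1
    exact homF_mul fX fY ρ hρ g h

/-- The action on the second factor. -/
noncomputable def homS (σ : G →* Aut Y) (hσ : ∀ g, (σ g).hom ≫ fY = fY) (g : G) :
    pullback fX fY ⟶ pullback fX fY :=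
  pullback.map fX fY fX fY (𝟙 X) (σ g).hom (𝟙 S) (by simp) (by rw [hσ, Category.comp_id])

theorem homS_fst (σ : G →* Aut Y) (hσ : ∀ g, (σ g).hom ≫ fY = fY) (g : G) :
    homS fX fY σ hσ g ≫ pullback.fst fX fY = pullback.fst fX fY :=
  (pullback.lift_fst _ _ _).trans (Category.comp_id _)

theorem homS_snd (σ : G →* Aut Y) (hσ : ∀ g, (σ g).hom ≫ fY = fY) (g : G) :
    homS fX fY σ hσ g ≫ pullback.snd fX fY = pullback.snd fX fY ≫ (σ g).hom := pullback.lift_snd _ _ _

theorem homS_one (σ : G →* Aut Y) (hσ : ∀ g, (σ g).hom ≫ fY = fY) : homS fX fY σ hσ 1 = 𝟙 _ := by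
  apply pullback.hom_ext
  · rw [homS_fst, Category.id_comp]
  · rw [homS_snd, hom_one, Category.comp_id, Category.id_comp]

theorem homS_mul (σ : G →* Aut Y) (hσ : ∀ g, (σ g).hom ≫ fY = fY) (g h : G) :
    homS fX fY σ hσ (g * h) = homS fX fY σ hσ h ≫ homS fX fY σ hσ g := by
  apply pullback.hom_ext
  · rw [homS_fst, Category.assoc, homS_fst, homS_fst]
  · rw [homS_snd, hom_mul, Category.assoc, homS_snd, reassoc_of% (homS_snd fX fY σ hσ h)]

/-- The action on the second factor. -/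
noncomputable def actSnd (σ : G →* Aut Y) (hσ : ∀ g, (σ g).hom ≫ fY = fY) : G →* Aut (pullback fX fY) where
  toFun g :=
    { hom := homS fX fY σ hσ g
      inv := homS fX fY σ hσ g⁻¹
      hom_inv_id := by rw [← homS_mul, inv_mul_cancel, homS_one]
      inv_hom_id := by rw [← homS_mul, mul_inv_cancel, homS_one] }
  map_one' := by
    ext1
    exact homS_one fX fY σ hσ
  map_mul' g h := by
    ext1
    exact homS_mul fX fY σ hσ g h

end act

/-- Suppose the finite groups G and H act by algebraic k-automorphisms on schemes X and Y of finite type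
over k, both admitting quotients X → X/G and Y → Y/H (equivalently, covered by invariant affine
opens). Then X × Y has the same property for the product action of G × H and (X × Y)/(G × H) ≅ X/G ×
Y/H: the morphism X ×_k Y → X/G ×_k Y/H with components the two quotient maps is a quotient for the
product action. The product action θ and that morphism π are pinned by their composites with the
projections. -/
theorem result {k : Type u} [Field k] {G H : Type u} [Group G] [Finite G] [Group H]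
    [Finite H] {X Y XG YH : Scheme.{u}} (fX : X ⟶ Spec (CommRingCat.of k))
    (fY : Y ⟶ Spec (CommRingCat.of k)) [LocallyOfFiniteType fX] [QuasiCompact fX]
    [LocallyOfFiniteType fY] [QuasiCompact fY] (gX : XG ⟶ Spec (CommRingCat.of k))
    (gY : YH ⟶ Spec (CommRingCat.of k)) (ρ : G →* Aut X) (σ : H →* Aut Y)
    (hρ : ∀ g, (ρ g).hom ≫ fX = fX) (hσ : ∀ h, (σ h).hom ≫ fY = fY)
    (p : X ⟶ XG) (hp : p ≫ gX = fX) (q : Y ⟶ YH) (hq : q ≫ gY = fY)
    (hP : SGA1.IsQuot ρ p) (hQ : SGA1.IsQuot σ q)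
    (θ : G × H →* Aut (pullback fX fY))
    (hθ1 : ∀ gh : G × H, (θ gh).hom ≫ pullback.fst fX fY = pullback.fst fX fY ≫ (ρ gh.1).hom)
    (hθ2 : ∀ gh : G × H, (θ gh).hom ≫ pullback.snd fX fY = pullback.snd fX fY ≫ (σ gh.2).hom)
    (π : pullback fX fY ⟶ pullback gX gY) (hπ1 : π ≫ pullback.fst gX gY = pullback.fst fX fY ≫ p)
    (hπ2 : π ≫ pullback.snd gX gY = pullback.snd fX fY ≫ q) :
    SGA1.IsQuot θ π := by
  have hflatY : Flat fY := inferInstance
  have hflatX : Flat gX := inferInstance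
  let m₁ : pullback fX fY ⟶ pullback gX fY := pullback.map fX fY gX fY p (𝟙 Y) (𝟙 _) (by simp [hp]) (by simp)
  let m₂ : pullback gX fY ⟶ pullback gX gY := pullback.map gX fY gX gY (𝟙 _) q (𝟙 _) (by simp) (by simp [hq])
  have hm₁1 : m₁ ≫ pullback.fst gX fY = pullback.fst fX fY ≫ p := pullback.lift_fst _ _ _
  have hm₁2 : m₁ ≫ pullback.snd gX fY = pullback.snd fX fY := (pullback.lift_snd _ _ _).trans (Category.comp_id _)
  have hm₂1 : m₂ ≫ pullback.fst gX gY = pullback.fst gX fY := (pullback.lift_fst _ _ _).trans (Category.comp_id _)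
  have hm₂2 : m₂ ≫ pullback.snd gX gY = pullback.snd gX fY ≫ q := pullback.lift_snd _ _ _
  have hπ : π = m₁ ≫ m₂ := by
    apply pullback.hom_ext
    · rw [hπ1, Category.assoc, hm₂1, hm₁1]
    · rw [hπ2, Category.assoc, hm₂2, ← Category.assoc, hm₁2]
  have a1 : ∀ g, (actFst fX fY ρ hρ g).hom ≫ pullback.fst fX fY = pullback.fst fX fY ≫ (ρ g).hom :=
    homF_fst fX fY ρ hρ
  have a2 : ∀ g, (actFst fX fY ρ hρ g).hom ≫ pullback.snd fX fY = pullback.snd fX fY :=
    homF_snd fX fY ρ hρ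
  have b1 : ∀ h, (actSnd gX fY σ hσ h).hom ≫ pullback.fst gX fY = pullback.fst gX fY :=
    homS_fst gX fY σ hσ
  have b2 : ∀ h, (actSnd gX fY σ hσ h).hom ≫ pullback.snd gX fY = pullback.snd gX fY ≫ (σ h).hom :=
    homS_snd gX fY σ hσ
  have q1 : SGA1.IsQuot (actFst fX fY ρ hρ) m₁ := by
    refine isQuot_of_flat_baseChange hP (isPullback_left fX gX fY p hp m₁ hm₁1 hm₁2) a1 (fun g => ?_)
    apply pullback.hom_ext
    · rw [Category.assoc, hm₁1, ← Category.assoc, a1, Category.assoc, hP.inv]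
    · rw [Category.assoc, hm₁2, a2]
  have q2 : SGA1.IsQuot (actSnd gX fY σ hσ) m₂ := by
    refine isQuot_of_flat_baseChange hQ (isPullback_right gX gY fY q hq m₂ hm₂1 hm₂2) b2 (fun g => ?_)
    apply pullback.hom_ext
    · rw [Category.assoc, hm₂1, b1]
    · rw [Category.assoc, hm₂2, ← Category.assoc, b2, Category.assoc, hQ.inv]
  subst hπ
  refine isQuot_comp q1 q2 (fun k => ?_) (fun g => ⟨(g, 1), ?_⟩) (fun h => ⟨(1, h), ?_⟩)
  · apply pullback.hom_ext
    · rw [Category.assoc, hπ1, ← Category.assoc, hθ1, Category.assoc, hP.inv]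
    · rw [Category.assoc, hπ2, ← Category.assoc, hθ2, Category.assoc, hQ.inv]
  · apply pullback.hom_ext
    · rw [hθ1, a1]
    · rw [hθ2, a2, hom_one, Category.comp_id]
  · apply pullback.hom_ext
    · rw [Category.assoc, hm₁1, ← Category.assoc, hθ1, Category.assoc, Category.assoc, b1, hm₁1,
        hom_one, Category.id_comp]
    · rw [Category.assoc, hm₁2, hθ2, Category.assoc, b2, ← Category.assoc, hm₁2]

end Groth.Agent.S13079
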