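import Groth.Statements.S13080
import Groth.Agent.Sga1.QuotBasic

set_option autoImplicit false
universe u
open CategoryTheory AlgebraicGeometry Limits
open Zeta

namespace Groth.Agent.S13080

open Groth.Agent.Sga1.QuotBasic

section

variable {G : Type u} [Group G] {X : Scheme.{u}} (ρ : G →* Aut X) (H : Subgroup G) (Y : X.Opens)

theorem isClosed_Y (hcov : ∀ x : X, ∃ g : G, x ∈ (ρ g).hom.base '' (Y : Set X))
    (hdisj : ∀ g : G, g ∉ H → Disjoint ((ρ g).hom.base '' (Y : Set X)) (Y : Set X))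
    (hY : ∀ h : H, ∀ y ∈ Y, (ρ (h : G)).hom y ∈ Y) : IsClosed (Y : Set X) := by
  have : (Y : Set X)ᶜ = ⋃ g : {g : G // g ∉ H}, (ρ (g : G)⁻¹).hom ⁻¹' (Y : Set X) := by
    ext x
    simp only [Set.mem_compl_iff, Set.mem_iUnion, Set.mem_preimage]
    constructor
    · intro hx
      obtain ⟨g, y, hy, rfl⟩ := hcov x
      refine ⟨⟨g, fun hg => hx (hY ⟨g, hg⟩ y hy)⟩, ?_⟩
      change (ρ g⁻¹).hom ((ρ g).hom y) ∈ Y
      rw [inv_apply_apply]; exact hy
    · rintro ⟨⟨g, hg⟩, hx⟩ hxY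
      refine (hdisj g hg).le_bot ⟨⟨_, hx, ?_⟩, hxY⟩
      exact apply_inv_apply ρ g x
  rw [← isOpen_compl_iff, this]
  exact isOpen_iUnion fun g => Y.isOpen.preimage (ρ (g : G)⁻¹).hom.continuous

end

/-- Let G be a finite group acting by algebraic automorphisms over k on a scheme X of finite type over k
admitting a quotient p : X → X/G, H ⊆ G a subgroup and Y ⊆ X an open subset preserved by H such that
X is the disjoint union of the translates Y g over the cosets of G mod H. Then the natural morphism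
Y/H → X/G is an isomorphism: Y → X/G is a quotient of Y by H. The action of H on Y is pinned by
compatibility with the inclusion Y → X; the coset condition is stated as: the translates of Y cover
X, and g(Y) is disjoint from Y for g ∉ H. -/
theorem result {k : Type u} [Field k] {G : Type u} [Group G]
    [Finite G] {X XG : Scheme.{u}} (fX : X ⟶ Spec (CommRingCat.of k)) [LocallyOfFiniteType fX]
    [QuasiCompact fX] (ρ : G →* Aut X) (hρ : ∀ g, (ρ g).hom ≫ fX = fX) (p : X ⟶ XG)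
    (hP : SGA1.IsQuot ρ p) (H : Subgroup G) (Y : X.Opens)
    (hcov : ∀ x : X, ∃ g : G, x ∈ (ρ g).hom.base '' (Y : Set X))
    (hdisj : ∀ g : G, g ∉ H → Disjoint ((ρ g).hom.base '' (Y : Set X)) (Y : Set X))
    (ρY : H →* Aut (Y : Scheme.{u})) (hρY : ∀ h : H, (ρY h).hom ≫ Y.ι = Y.ι ≫ (ρ (h : G)).hom) :
    SGA1.IsQuot ρY (Y.ι ≫ p) := by
  have hPaff := hP.affine
  have hYH : ∀ h : H, ∀ y ∈ Y, (ρ (h : G)).hom y ∈ Y := by
    intro h y hy
    have h1 := congrArg (fun f => f ⟨y, hy⟩) (congrArg (fun f : (Y : Scheme.{u}) ⟶ X => f.base) (hρY h))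
    change Y.ι ((ρY h).hom ⟨y, hy⟩) = (ρ (h : G)).hom (Y.ι ⟨y, hy⟩) at h1
    have h2 : Y.ι ⟨y, hy⟩ = y := rfl
    rw [h2] at h1
    rw [← h1]
    exact ((ρY h).hom ⟨y, hy⟩).2
  have hcl : IsClosed (Y : Set X) := isClosed_Y ρ H Y hcov hdisj hYH
  have hci : IsClosedImmersion Y.ι := by
    refine IsClosedImmersion.of_isPreimmersion _ ?_
    rw [Scheme.Opens.range_ι]; exact hcl
  have haff : IsAffineHom (Y.ι ≫ p) := inferInstance
  have hinv : ∀ h : H, (ρY h).hom ≫ Y.ι ≫ p = Y.ι ≫ p := by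
    intro h
    rw [← Category.assoc, hρY, Category.assoc, hP.inv]
  refine isQuot_of_quotOn hinv (fun U => ?_)
  -- notation
  let V : X.Opens := p ⁻¹ᵁ U
  let O : (Y : Scheme.{u}).Opens := (Y.ι ≫ p) ⁻¹ᵁ U
  let W : X.Opens := V ⊓ Y
  have hWV : W ≤ V := inf_le_left
  have hV : Stable ρ V := stable_preimage hP.inv U
  let Vg : G → X.Opens := fun g => V ⊓ (ρ g).hom ⁻¹ᵁ Y
  have hVgV : ∀ g, Vg g ≤ V := fun g => inf_le_left
  have hVgW : ∀ g, Vg g ≤ (ρ g).hom ⁻¹ᵁ W := fun g x hx => ⟨hV g hx.1, hx.2⟩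
  have hcover : V ≤ iSup Vg := by
    intro x hx
    obtain ⟨g, y, hy, rfl⟩ := hcov x
    refine TopologicalSpace.Opens.mem_iSup.mpr ⟨g⁻¹, hx, ?_⟩
    change (ρ g⁻¹).hom ((ρ g).hom y) ∈ Y
    rw [inv_apply_apply]; exact hy
  have hOW : O ≤ Y.ι ⁻¹ᵁ W := fun x hx => ⟨hx, x.2⟩
  have hOV : O ≤ Y.ι ⁻¹ᵁ V := fun x hx => hx
  have himg : Y.ι ''ᵁ O = W := by
    ext x
    constructor
    · rintro ⟨y, hy, rfl⟩
      exact ⟨hy, y.2⟩
    · rintro ⟨hx1, hx2⟩
      exact ⟨⟨x, hx2⟩, hx1, rfl⟩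
  have hbij : Function.Bijective (Y.ι.appLE W O hOW).hom := by
    have : IsIso (Y.ι.appLE W O hOW) := by
      rw [Scheme.Opens.ι_appLE]
      have : IsIso (homOfLE himg.le) := ⟨homOfLE himg.ge, rfl, rfl⟩
      change IsIso (X.presheaf.map (homOfLE himg.le).op)
      infer_instance
    exact ConcreteCategory.bijective_of_isIso (Y.ι.appLE W O hOW)
  have hYV : ∀ s : Γ(X, V), ((Y.ι.appLE V O hOV).hom s) =
      (Y.ι.appLE W O hOW).hom ((X.presheaf.map (homOfLE hWV).op).hom s) := by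
    intro s
    rw [← CommRingCat.comp_apply, Scheme.Hom.map_appLE]
  have happ : ∀ t : Γ(XG, U), ((Y.ι ≫ p).app U).hom t = (Y.ι.appLE V O hOV).hom ((p.app U).hom t) := by
    intro t
    rw [Scheme.Hom.app_eq_appLE, Scheme.Hom.app_eq_appLE, ← CommRingCat.comp_apply,
      Scheme.Hom.appLE_comp_appLE]
  -- restriction of an invariant section to `Vg g`
  have hres : ∀ (g : G) (a : Γ(X, V)), (act ρ hV g).hom a = a →
      (X.presheaf.map (homOfLE (hVgV g)).op).hom a =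
      ((ρ g).hom.appLE W (Vg g) (hVgW g)).hom ((X.presheaf.map (homOfLE hWV).op).hom a) := by
    intro g a ha
    conv_lhs => rw [← ha]
    unfold act
    rw [← CommRingCat.comp_apply, ← CommRingCat.comp_apply, Scheme.Hom.map_appLE,
      Scheme.Hom.appLE_map]
  refine ⟨fun t₁ t₂ ht => ?_, fun s hs => ?_⟩
  · rw [happ, happ, hYV, hYV] at ht
    have h1 := hbij.1 ht
    apply hP.injective U
    refine TopCat.Sheaf.eq_of_locally_eq' X.sheaf Vg V (fun g => homOfLE (hVgV g)) hcover _ _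
      (fun g => ?_)
    refine (hres g _ (act_app_apply hP.inv U g t₁)).trans ?_
    rw [h1]
    exact (hres g _ (act_app_apply hP.inv U g t₂)).symm
  · obtain ⟨s0, hs0⟩ := hbij.2 s
    have hWH : ∀ h : H, W ≤ (ρ (h : G)).hom ⁻¹ᵁ W := fun h x hx => ⟨hV (h : G) hx.1, hYH h x hx.2⟩
    have hB : ∀ h : H, ((ρ (h : G)).hom.appLE W W (hWH h)).hom s0 = s0 := by
      intro h
      apply hbij.1
      have h1 : (ρ (h : G)).hom.appLE W W (hWH h) ≫ Y.ι.appLE W O hOW =
          Y.ι.appLE W O hOW ≫ (ρY h).hom.appLE O O (stable_preimage hinv U h) := by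
        rw [Scheme.Hom.appLE_comp_appLE]
        refine Eq.trans ?_ (Scheme.Hom.appLE_comp_appLE _ _ _ _ _ _ _).symm
        exact appLE_congr_hom (hρY h).symm _ _ _
      refine (congrArg (fun k => k.hom s0) h1).trans ?_
      change ((ρY h).hom.appLE O O (stable_preimage hinv U h)).hom ((Y.ι.appLE W O hOW).hom s0) = _
      rw [hs0]
      exact hs h
    let σ : ∀ g, Γ(X, Vg g) := fun g => ((ρ g).hom.appLE W (Vg g) (hVgW g)).hom s0
    have hσ : ∀ (g : G) (V' : X.Opens) (i : V' ≤ Vg g), (X.presheaf.map (homOfLE i).op).hom (σ g) =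
        ((ρ g).hom.appLE W V' (i.trans (hVgW g))).hom s0 := by
      intro g V' i
      change (X.presheaf.map (homOfLE i).op).hom (((ρ g).hom.appLE W (Vg g) (hVgW g)).hom s0) = _
      rw [← CommRingCat.comp_apply, Scheme.Hom.appLE_map]
    have hcomp : TopCat.Presheaf.IsCompatible X.sheaf.1 Vg σ := by
      intro g g'
      by_cases hg : g' * g⁻¹ ∈ H
      · refine (hσ g (Vg g ⊓ Vg g') inf_le_left).trans (Eq.trans ?_
          (hσ g' (Vg g ⊓ Vg g') inf_le_right).symm)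
        have e1 : (ρ g').hom = (ρ g).hom ≫ (ρ (g' * g⁻¹)).hom := by
          rw [← hom_mul]; simp
        have e2 := Scheme.Hom.appLE_comp_appLE (f := (ρ g).hom) (g := (ρ (g' * g⁻¹)).hom)
          (U := W) (V := W) (W := Vg g ⊓ Vg g') (hWH ⟨_, hg⟩) (inf_le_left.trans (hVgW g))
        rw [appLE_congr_hom e1, ← e2]
        change _ = ((ρ g).hom.appLE W (Vg g ⊓ Vg g') _).hom
          (((ρ (g' * g⁻¹)).hom.appLE W W _).hom s0)
        rw [hB ⟨_, hg⟩]
      · have hbot : Vg g ⊓ Vg g' = ⊥ := by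
          rw [eq_bot_iff]
          rintro x ⟨⟨_, hx1⟩, ⟨_, hx2⟩⟩
          have h3 : (ρ g').hom x ∈ (ρ (g' * g⁻¹)).hom.base '' (Y : Set X) := by
            refine ⟨(ρ g).hom x, hx1, ?_⟩
            change (ρ (g' * g⁻¹)).hom ((ρ g).hom x) = (ρ g').hom x
            rw [← mul_apply]; simp
          exact (Set.disjoint_left.mp (hdisj _ hg) h3 hx2).elim
        have : Subsingleton Γ(X, Vg g ⊓ Vg g') := by
          rw [hbot]; infer_instance
        exact this.elim _ _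
    obtain ⟨τ, hτ, -⟩ := TopCat.Sheaf.existsUnique_gluing' X.sheaf Vg V (fun g => homOfLE (hVgV g))
      hcover σ hcomp
    have hτ' : ∀ g, (X.presheaf.map (homOfLE (hVgV g)).op).hom τ = σ g := hτ
    have hinvτ : ∀ g, (act ρ hV g).hom τ = τ := by
      intro g
      refine TopCat.Sheaf.eq_of_locally_eq' X.sheaf Vg V (fun g => homOfLE (hVgV g)) hcover _ _
        (fun g' => ?_)
      have hle : Vg g' ≤ (ρ g).hom ⁻¹ᵁ (Vg (g' * g⁻¹)) := by
        rintro x ⟨hx1, hx2⟩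
        refine ⟨hV g hx1, ?_⟩
        change (ρ (g' * g⁻¹)).hom ((ρ g).hom x) ∈ Y
        rw [← mul_apply]; simpa using hx2
      have e1 : (ρ g').hom = (ρ g).hom ≫ (ρ (g' * g⁻¹)).hom := by
        rw [← hom_mul]; simp
      have h1 : (X.presheaf.map (homOfLE (hVgV g')).op).hom ((act ρ hV g).hom τ) =
          ((ρ g).hom.appLE (Vg (g' * g⁻¹)) (Vg g') hle).hom
            ((X.presheaf.map (homOfLE (hVgV (g' * g⁻¹))).op).hom τ) := by
        unfold act
        rw [← CommRingCat.comp_apply, ← CommRingCat.comp_apply, Scheme.Hom.map_appLE,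
          Scheme.Hom.appLE_map]
      refine h1.trans (Eq.trans ?_ (hτ' g').symm)
      rw [hτ' (g' * g⁻¹)]
      change (((ρ (g' * g⁻¹)).hom.appLE W _ (hVgW _)) ≫
        ((ρ g).hom.appLE (Vg (g' * g⁻¹)) (Vg g') hle)).hom s0 = _
      rw [Scheme.Hom.appLE_comp_appLE, appLE_congr_hom e1.symm]
    obtain ⟨t, ht⟩ := (quotOn_of_isQuot hP U).surj τ hinvτ
    refine ⟨t, ?_⟩
    rw [happ, ht, hYV]
    refine Eq.trans ?_ hs0
    congr 1
    have hW1 : W ≤ Vg 1 := by
      rintro x ⟨hx1, hx2⟩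
      refine ⟨hx1, ?_⟩
      change (ρ 1).hom x ∈ Y
      rw [one_apply]; exact hx2
    have h1 : (X.presheaf.map (homOfLE hWV).op).hom τ =
        (X.presheaf.map (homOfLE hW1).op).hom ((X.presheaf.map (homOfLE (hVgV 1)).op).hom τ) := by
      rw [← CommRingCat.comp_apply, ← Functor.map_comp]; rfl
    rw [h1, hτ' 1, hσ 1 W hW1, appLE_congr_hom (hom_one ρ), id_appLE_self]
    rfl

end Groth.Agent.S13080
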