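import Groth.Statements.S13081
import Groth.Agent.Sga1.QuotBasic
import Groth.Agent.Sga1.QuotAffine
import Groth.Agent.S2925

set_option autoImplicit false
universe u
open CategoryTheory AlgebraicGeometry Limits
open Zeta

namespace Groth.Agent.S13081

open Groth.Agent.Sga1.QuotBasic in
/-- Let G be a finite group acting by algebraic automorphisms over k on a scheme X of finite type over k
admitting a quotient X → X/G, and H a normal subgroup of G. Then X/H carries an induced action of
G/H and its quotient by this action is X/G: the induced morphism r : X/H → X/G is a quotient of X/H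
by G/H. The induced action ρ̄ is pinned by p_H ≫ ρ̄(ḡ) = ρ(g) ≫ p_H and r by p_H ≫ r = p. -/
theorem result {k : Type u} [Field k] {G : Type u} [Group G]
    [Finite G] {X XG XH : Scheme.{u}} (fX : X ⟶ Spec (CommRingCat.of k)) [LocallyOfFiniteType fX]
    [QuasiCompact fX] (ρ : G →* Aut X) (hρ : ∀ g, (ρ g).hom ≫ fX = fX) (p : X ⟶ XG)
    (hP : SGA1.IsQuot ρ p) (H : Subgroup G) [H.Normal] (pH : X ⟶ XH)
    (hPH : SGA1.IsQuot (ρ.comp H.subtype) pH) (ρbar : G ⧸ H →* Aut XH)
    (hρbar : ∀ g : G, pH ≫ (ρbar (QuotientGroup.mk g)).hom = (ρ g).hom ≫ pH)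
    (r : XH ⟶ XG) (hr : pH ≫ r = p) :
    SGA1.IsQuot ρbar r := by
  have hPaff := hP.affine
  have hraff : IsAffineHom r := Groth.Agent.Sga1.QuotAffine.isAffineHom_of_isQuot hPH hr
  have hinv : ∀ g : G ⧸ H, (ρbar g).hom ≫ r = r := by
    intro g
    obtain ⟨g, rfl⟩ := QuotientGroup.mk_surjective g
    obtain ⟨h', -, hu⟩ := Groth.Agent.S2925.result (ρ.comp H.subtype) pH hPH XG p (by
      intro g; exact hP.inv g)
    have h1 : pH ≫ (ρbar (QuotientGroup.mk g)).hom ≫ r = p := by
      rw [← Category.assoc, hρbar, Category.assoc, hr, hP.inv]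
    exact (hu _ h1).trans (hu _ hr).symm
  have hinj : ∀ U : XG.Opens, Function.Injective (r.app U).hom := by
    intro U a b hab
    subst hr
    apply hP.injective U
    rw [Scheme.Hom.comp_app]
    change (pH.app _).hom ((r.app U).hom a) = (pH.app _).hom ((r.app U).hom b)
    rw [hab]
  refine isQuot_of_quotOn hinv (fun U => ⟨hinj U, fun s hs => ?_⟩)
  subst hr
  have key : (pH.app (r ⁻¹ᵁ U)).hom s ∈ Set.range ((pH ≫ r).app U).hom := by
    apply (quotOn_of_isQuot hP U).surj
    intro g
    have h1 := hs (QuotientGroup.mk g)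
    have h3 : act ρbar (stable_preimage hinv U) (QuotientGroup.mk g) ≫ pH.app (r ⁻¹ᵁ U) =
        pH.app (r ⁻¹ᵁ U) ≫ act ρ (stable_preimage hP.inv U) g := by
      unfold act
      rw [Scheme.Hom.app_eq_appLE, Scheme.Hom.appLE_comp_appLE]
      refine Eq.trans ?_ (Scheme.Hom.appLE_comp_appLE _ _ _ _ _ _ _).symm
      exact appLE_congr_hom (hρbar g) _ _ _
    have h2 : (pH.app (r ⁻¹ᵁ U)).hom ((act ρbar (stable_preimage hinv U) (QuotientGroup.mk g)).hom s) =
        (act ρ (stable_preimage hP.inv U) g).hom ((pH.app (r ⁻¹ᵁ U)).hom s) :=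
      congrArg (fun k => k.hom s) h3
    rw [h1] at h2
    exact h2.symm
  obtain ⟨t, ht⟩ := key
  refine ⟨t, hPH.injective _ ?_⟩
  rw [← ht, Scheme.Hom.comp_app]
  rfl

end Groth.Agent.S13081
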