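import Groth.Statements.S13082
import Groth.Agent.Sga1.Transit
import Groth.Agent.Sga1.QuotBasic

set_option autoImplicit false
universe u
open CategoryTheory AlgebraicGeometry Limits
open Zeta

namespace Groth.Agent.S13082

theorem exists_lift {W WG : Scheme.{u}} (pW : W ⟶ WG) [Surjective pW] (K : Type u) [Field K]
    (x y : Spec (CommRingCat.of K) ⟶ WG) :
    ∃ (L : Type u) (_ : Field L) (t : Spec (CommRingCat.of L) ⟶ Spec (CommRingCat.of K))
      (x' y' : Spec (CommRingCat.of L) ⟶ W), x' ≫ pW = t ≫ x ∧ y' ≫ pW = t ≫ y := by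
  let P := pullback (pullback.fst x pW) (pullback.fst y pW)
  have hP : Nonempty P := by
    have h1 : Surjective (pullback.fst x pW) := inferInstance
    have h2 : Surjective (pullback.fst y pW) := inferInstance
    have h3 : Surjective (pullback.fst (pullback.fst x pW) (pullback.fst y pW)) := inferInstance
    obtain ⟨z₁, -⟩ := h1.surj (IsLocalRing.closedPoint K)
    obtain ⟨z, -⟩ := h3.surj z₁
    exact ⟨z⟩
  obtain ⟨z⟩ := hP
  refine ⟨P.residueField z, inferInstance, P.fromSpecResidueField z ≫ pullback.fst _ _ ≫ pullback.fst _ _,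
    P.fromSpecResidueField z ≫ pullback.fst _ _ ≫ pullback.snd _ _,
    P.fromSpecResidueField z ≫ pullback.snd _ _ ≫ pullback.snd _ _, ?_, ?_⟩
  · simp only [Category.assoc]
    rw [← pullback.condition (f := x)]
  · simp only [Category.assoc]
    rw [← pullback.condition (f := y), pullback.condition_assoc]

open Groth.Agent.Sga1.QuotBasic in
/-- Let X be a scheme of finite type over k with an action of a finite group G by algebraic
automorphisms over k admitting a quotient π : X → X/G, and W a locally closed subscheme of X on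
which G induces an action. Then the canonical morphism W/G → π(W) is radicial and surjective: the
induced morphism φ : W/G → X/G is universally injective with set-theoretic image π(W). The action on
W is pinned along the immersion j : W → X, φ by p_W ≫ φ = j ≫ π for a quotient p_W : W → W/G. -/
theorem result {k : Type u} [Field k] {G : Type u}
    [Group G] [Finite G] {X XG W WG : Scheme.{u}} (fX : X ⟶ Spec (CommRingCat.of k))
    [LocallyOfFiniteType fX] [QuasiCompact fX] (ρ : G →* Aut X) (hρ : ∀ g, (ρ g).hom ≫ fX = fX)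
    (p : X ⟶ XG) (hP : SGA1.IsQuot ρ p) (j : W ⟶ X) [IsImmersion j] (ρW : G →* Aut W)
    (hρW : ∀ g, (ρW g).hom ≫ j = j ≫ (ρ g).hom) (pW : W ⟶ WG) (hPW : SGA1.IsQuot ρW pW)
    (φ : WG ⟶ XG) (hφ : pW ≫ φ = j ≫ p) :
    UniversallyInjective φ ∧ Set.range φ.base = p.base '' Set.range j.base := by
  have hsurj : Surjective pW := ⟨surjective_of_isQuot hPW⟩
  constructor
  · refine ((tfae_universallyInjective φ).out 0 1 rfl rfl).mpr ?_
    intro K _ x y hxy
    change x ≫ φ = y ≫ φ at hxy
    obtain ⟨L, _, t, x', y', hx', hy'⟩ := exists_lift pW K x y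
    have key : (x' ≫ j) ≫ p = (y' ≫ j) ≫ p := by
      rw [Category.assoc, Category.assoc, ← hφ, reassoc_of% hx', reassoc_of% hy', hxy]
    obtain ⟨g, hg⟩ := Groth.Agent.Sga1.Transit.exists_comp_eq hP (x' ≫ j) (y' ≫ j) key
    have hg' : x' ≫ j = (y' ≫ (ρW g).hom) ≫ j := by
      rw [hg, Category.assoc, ← hρW, Category.assoc]
    have hg2 : x' = y' ≫ (ρW g).hom := (cancel_mono j).mp hg'
    have h5 : t ≫ x = t ≫ y := by
      rw [← hx', ← hy', hg2, Category.assoc, hPW.inv]
    have hts : Surjective t := ⟨fun s => ⟨IsLocalRing.closedPoint L, Subsingleton.elim _ _⟩⟩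
    have : Epi t := Flat.epi_of_flat_of_surjective t
    exact (cancel_epi t).mp h5
  · have h1 : Set.range φ.base = Set.range (pW ≫ φ).base := by
      rw [Scheme.Hom.comp_base, TopCat.coe_comp, Set.range_comp, hsurj.surj.range_eq, Set.image_univ]
    rw [h1, hφ, Scheme.Hom.comp_base, TopCat.coe_comp, Set.range_comp]

end Groth.Agent.S13082
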