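import Groth.Statements.S13083
import Groth.Agent.Zeta.K467.FibreCard

set_option autoImplicit false
universe u
open CategoryTheory AlgebraicGeometry Limits
open Zeta

namespace Groth.Agent.S13083

/-- Let X be a variety over a perfect field k, k̄ an algebraic closure and π : X_{k̄} → X the
projection. Sending a closed point x to the sum of the points of π⁻¹(x) induces a bijection between
effective 0-cycles of degree n on X and effective 0-cycles of degree n on X_{k̄} fixed by G(k̄/k).
Stated for schemes of finite type over k, with 0-cycles as finitely supported ℕ-valued functions on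
closed points, the degree on X weighted by the residue degrees [κ(x) : k], the map being c ↦ c ∘ π,
and the Galois automorphisms τ_σ = id × Spec σ pinned by their projections. -/
theorem result {k : Type u} [Field k]
    [PerfectField k] {X : Scheme.{u}} (f : X ⟶ Spec (CommRingCat.of k)) [LocallyOfFiniteType f]
    [QuasiCompact f]
    (τ : (AlgebraicClosure k ≃ₐ[k] AlgebraicClosure k) →
      (pullback f (Spec.map (CommRingCat.ofHom (algebraMap k (AlgebraicClosure k)))) ⟶
        pullback f (Spec.map (CommRingCat.ofHom (algebraMap k (AlgebraicClosure k))))))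
    (hτ1 : ∀ σ, τ σ ≫ pullback.fst f _ = pullback.fst f _)
    (hτ2 : ∀ σ, τ σ ≫ pullback.snd f (Spec.map (CommRingCat.ofHom (algebraMap k (AlgebraicClosure k)))) =
        pullback.snd f _ ≫ Spec.map (CommRingCat.ofHom (σ : AlgebraicClosure k →+* AlgebraicClosure k)))
    (n : ℕ) :
    Set.BijOn
      (fun c : X → ℕ => c ∘ (pullback.fst f (Spec.map (CommRingCat.ofHom
        (algebraMap k (AlgebraicClosure k))))).base)
      {c : X → ℕ | (Function.support c).Finite ∧ (∀ x, c x ≠ 0 → IsClosed ({x} : Set X)) ∧
        ∑ᶠ x, c x * EGA4loc.residueDegree f x = n}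
      {d : ↑(pullback f (Spec.map (CommRingCat.ofHom (algebraMap k (AlgebraicClosure k))))) → ℕ |
        (Function.support d).Finite ∧ (∀ y, d y ≠ 0 → IsClosed ({y} : Set _)) ∧
        ∑ᶠ y, d y = n ∧ ∀ σ y, d ((τ σ).base y) = d y} := by
  letI : X.Over (Spec (CommRingCat.of k)) := ⟨f⟩
  have hft : LocallyOfFiniteType (X ↘ Spec (CommRingCat.of k)) := inferInstanceAs (LocallyOfFiniteType f)
  have hqc : QuasiCompact (X ↘ Spec (CommRingCat.of k)) := inferInstanceAs (QuasiCompact f)
  have hgal : IsGalois k (AlgebraicClosure k) := inferInstance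
  have hτ : ∀ σ, τ σ = Curv2.galAct k X (AlgebraicClosure k) σ := by
    intro σ
    apply pullback.hom_ext
    · exact (hτ1 σ).trans (Groth.Agent.VarietyB.BaseExt3.galAct_fst k X (AlgebraicClosure k) σ).symm
    · exact (hτ2 σ).trans (Groth.Agent.VarietyB.BaseExt3.galAct_snd k X (AlgebraicClosure k) σ).symm
  have hS : Function.Surjective (Curv2.bcFst k X (AlgebraicClosure k)) :=
    Groth.Agent.VarietyB.BaseExt3.surjective_bcFst k X (AlgebraicClosure k)
  have hsum : ∀ c : X → ℕ, (Function.support c).Finite → (∀ x, c x ≠ 0 → IsClosed ({x} : Set X)) →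
      ∑ᶠ y, c (Curv2.bcFst k X (AlgebraicClosure k) y) = ∑ᶠ x, c x * EGA4loc.residueDegree f x := by
    intro c hc hcc
    rw [K467.FibreCard.finsum_comp (Curv2.bcFst k X (AlgebraicClosure k)) c hc
      (fun x hx => K467.FibreCard.finite_fibre k X (AlgebraicClosure k) x (hcc x hx))]
    apply finsum_congr
    intro x
    by_cases hx : c x = 0
    · rw [hx, zero_mul, zero_mul]
    · rw [K467.FibreCard.natCard_fibre k X (AlgebraicClosure k) x (hcc x hx)]
      rfl
  refine ⟨?_, ?_, ?_⟩
  · rintro c ⟨hc, hcc, hn⟩
    refine ⟨?_, ?_, ?_, ?_⟩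
    · have hsub : Function.support (fun y => c (Curv2.bcFst k X (AlgebraicClosure k) y)) =
          ⋃ x ∈ Function.support c, Curv2.bcFst k X (AlgebraicClosure k) ⁻¹' {x} := by
        ext y
        simp
      have h2 : (Function.support (fun y => c (Curv2.bcFst k X (AlgebraicClosure k) y))).Finite := by
        rw [hsub]
        exact hc.biUnion fun x hx => K467.FibreCard.finite_fibre k X (AlgebraicClosure k) x (hcc x hx)
      exact h2
    · intro y hy
      exact K467.FibreCard.isClosed_of_isClosed_fst k X (AlgebraicClosure k) y (hcc _ hy)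
    · rw [← hn]; exact hsum c hc hcc
    · intro σ y
      have h := congrArg (fun g => g.base y) (hτ1 σ)
      change c _ = c _
      exact congrArg c h
  · intro c _ c' _ h
    funext x
    obtain ⟨y, rfl⟩ := hS x
    exact congrFun h y
  · rintro d ⟨hd, hdc, hn, hinv⟩
    choose s hs using hS
    let c : X → ℕ := fun x => d (s x)
    have hcd : ∀ y, c (Curv2.bcFst k X (AlgebraicClosure k) y) = d y := by
      intro y
      obtain ⟨σ, hσ⟩ := Groth.Agent.VarietyB.BaseExt3.exists_galAct_eq k X (AlgebraicClosure k) y
        (s (Curv2.bcFst k X (AlgebraicClosure k) y)) (hs _).symm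
      change d _ = _
      rw [← hσ]
      have := hinv σ y
      rw [hτ] at this
      exact this
    have hcc : ∀ x, c x ≠ 0 → IsClosed ({x} : Set X) := by
      intro x hx
      have h1 := hdc _ hx
      have h2 := Groth.Agent.VarietyB.BaseExt3.isClosedMap_bcFst k X (AlgebraicClosure k) _ h1
      have h3 : (Curv2.bcFst k X (AlgebraicClosure k)) '' {s x} = {x} := by
        ext z
        constructor
        · rintro ⟨w, hw, rfl⟩
          rw [hw]; exact hs x
        · rintro rfl
          exact ⟨s z, rfl, hs z⟩
      rw [← h3]; exact h2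
    have hc : (Function.support c).Finite := by
      refine (hd.image (Curv2.bcFst k X (AlgebraicClosure k))).subset ?_
      intro x hx
      exact ⟨s x, hx, hs x⟩
    refine ⟨c, ⟨hc, hcc, ?_⟩, ?_⟩
    · rw [← hsum c hc hcc, ← hn]
      exact finsum_congr hcd
    · funext y
      exact hcd y

end Groth.Agent.S13083
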