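import Groth.Statements.S13085
import Groth.Agent.Zeta.K468.Diverge

set_option autoImplicit false
universe u
open CategoryTheory AlgebraicGeometry
open Zeta

namespace Groth.Agent.S13085

/-- If Y is a scheme of finite type over F_p (here: over any finite field) of dimension r, the abscissa
of convergence of the Dirichlet series L_Y(s) = Σ a_n n^{−s} (a_n = number of effective 0-cycles of
norm n; nonnegative coefficients, so convergence and absolute convergence agree) is r. -/
theorem result {k : Type u} [Field k] [Finite k]
    {Y : Scheme.{u}} (f : Y ⟶ Spec (CommRingCat.of k)) [LocallyOfFiniteType f] [QuasiCompact f] (r : ℕ)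
    (hr : topologicalKrullDim Y = r) :
    LSeries.abscissaOfAbsConv (Zeta.arithCoeff Y) = (r : ℝ) := by
  have hft : Algebra.FiniteType ℤ k := by
    have : Module.Finite ℤ k := Module.Finite.of_finite
    infer_instance
  refine le_antisymm (K468.Arith.abscissa_le f r hr.le).1 ?_
  by_contra hlt
  rw [not_le] at hlt
  obtain ⟨σ, h1, h2⟩ := EReal.exists_between_coe_real hlt
  have hσ : σ < r := by exact_mod_cast h2
  have h3 : LSeriesSummable (Zeta.arithCoeff Y) (σ : ℂ) :=
    LSeriesSummable_of_abscissaOfAbsConv_lt_re (by simpa using h1)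
  rw [K468.Arith.arithCoeff_eq] at h3
  have hfin := K468.Arith.northcott f r hr.le
  have h4 := K468.EP.summable_cN (K468.Arith.two_le_nX f) hfin h3
  obtain ⟨B, _, _, ftB, g, φ, hφ, hn, hdim⟩ := K468.Arith.exists_affine_domain f r hr
  let _ : Algebra k B := (Spec.preimage (g ≫ f)).hom.toAlgebra
  have ftk : Algebra.FiniteType k B := Algebra.FiniteType.of_restrictScalars_finiteType ℤ k B
  refine K468.Arith.diverge_of_finiteField k B r hdim σ hσ ?_
  refine Summable.of_nonneg_of_le (fun n => mul_nonneg (K468.EP.cN_nonneg _ _)
    (Real.rpow_nonneg (Nat.cast_nonneg _) _)) (fun n => ?_) h4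
  exact mul_le_mul_of_nonneg_right (K468.EP.cN_le_of_inj φ hφ hn hfin n)
    (Real.rpow_nonneg (Nat.cast_nonneg _) _)

end Groth.Agent.S13085
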