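import Groth.Statements.S13087
import Groth.Agent.Lie3Mod.K752.Prime
import Mathlib.RingTheory.Regular.RegularSequence

set_option autoImplicit false
universe u
open Lie3Mod

namespace Groth.Agent.S13087

/-- Let A be a nontrivial commutative ring and D = A[a,b,c,d,e,f,g,h,i] the polynomial ring in nine
variables. Then the linear forms a − i, b + f, d + h form a regular sequence on D, and so do the
three Jacobi polynomials Q1 = ah + di − fg − bg, Q2 = ie + bd − fh − ae, Q3 = hc + dc − af − bi
(each term is a non-zero-divisor on the quotient of D by the preceding terms, and the quotient by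
all three is non-zero). (The published statement is made with a regular base ring in force; the
printed argument does not use that hypothesis, and the statement is given here over every nontrivial
commutative base ring.) -/
theorem result (A : Type u) [CommRing A] [Nontrivial A] :
    RingTheory.Sequence.IsRegular (Lie3Mod.D A) [Lie3Mod.L1 A, Lie3Mod.L2 A, Lie3Mod.L3 A] ∧
      RingTheory.Sequence.IsRegular (Lie3Mod.D A) [Lie3Mod.Q1 A, Lie3Mod.Q2 A, Lie3Mod.Q3 A] := by
  have h0 : ∀ I : Ideal (D A), (I • (⊤ : Submodule (D A) (D A))) = I := fun I => by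
    rw [smul_eq_mul, Ideal.mul_top]
  have hev : ∀ x : D A, MvPolynomial.constantCoeff x = 0 →
      x ∈ RingHom.ker (MvPolynomial.constantCoeff : D A →+* A) := fun x hx => hx
  have hne : ∀ rs : List (D A), (∀ x ∈ rs, MvPolynomial.constantCoeff x = 0) →
      (⊤ : Submodule (D A) (D A)) ≠ Ideal.ofList rs • ⊤ := by
    intro rs hrs h
    rw [h0] at h
    have h1 : (1 : D A) ∈ Ideal.ofList rs := by
      rw [← h]; exact Submodule.mem_top
    have h2 : Ideal.ofList rs ≤ RingHom.ker (MvPolynomial.constantCoeff : D A →+* A) := by
      rw [Ideal.ofList, Ideal.span_le]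
      intro x hx
      exact hrs x hx
    have h3 := h2 h1
    rw [RingHom.mem_ker, map_one] at h3
    exact one_ne_zero h3
  have hnzd : ∀ (I : Ideal (D A)) (y : D A), K752.Poly.NZD I y →
      IsSMulRegular (D A ⧸ (I • ⊤ : Submodule (D A) (D A))) y := by
    intro I y h
    rw [h0, isSMulRegular_quotient_iff_mem_of_smul_mem]
    intro x hx
    apply h
    rwa [mul_comm]
  have hl0 : (Ideal.ofList [] : Ideal (D A)) = ⊥ := Ideal.ofList_nil
  have hl1 : ∀ x : D A, Ideal.ofList [x] = K752.Core.adj ⊥ x := by
    intro x
    simp [K752.Core.adj]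
  have hl2 : ∀ x y : D A, Ideal.ofList [x, y] = K752.Core.adj (K752.Core.adj ⊥ x) y := by
    intro x y
    simp only [Ideal.ofList_cons, Ideal.ofList_nil, K752.Core.adj, bot_sup_eq, sup_bot_eq]
  constructor
  · refine ⟨⟨?_⟩, hne _ ?_⟩
    · intro i hi
      match i, hi with
      | 0, _ =>
        have := hnzd _ _ (K752.Core.nzd_L1 (A := A))
        rw [← hl0] at this
        exact this
      | 1, _ =>
        have := hnzd _ _ (K752.Core.nzd_L1_L2 (A := A))
        rw [← hl1] at this
        exact this
      | 2, _ =>
        have := hnzd _ _ (K752.Core.nzd_L1L2_L3 (A := A))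
        rw [← hl2] at this
        exact this
    · intro x hx
      simp only [List.mem_cons, List.not_mem_nil, or_false] at hx
      rcases hx with rfl | rfl | rfl <;> simp [L1, L2, L3]
  · refine ⟨⟨?_⟩, hne _ ?_⟩
    · intro i hi
      match i, hi with
      | 0, _ =>
        have := hnzd _ _ (K752.Core.nzd_Q1 (A := A))
        rw [← hl0] at this
        exact this
      | 1, _ =>
        have := hnzd _ _ (K752.Core.nzd_Q1_Q2 (A := A))
        rw [← hl1] at this
        exact this
      | 2, _ =>
        have := hnzd _ _ (K752.Core.nzd_Q1Q2_Q3 (A := A))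
        rw [← hl2] at this
        exact this
    · intro x hx
      simp only [List.mem_cons, List.not_mem_nil, or_false] at hx
      rcases hx with rfl | rfl | rfl <;> simp [Q1, Q2, Q3]

end Groth.Agent.S13087
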