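import Groth.Statements.S13096
import Mathlib.RingTheory.FiniteType
import Mathlib.RingTheory.Polynomial.Basic

set_option autoImplicit false
universe u v
open CAlg

namespace Groth.Agent.S13096

/-- Let R be a commutative ring and R' a commutative R-algebra of finite presentation. Then every
surjective R-algebra endomorphism α : R' → R' is bijective (an automorphism). -/
theorem result (R : Type u) [CommRing R]
    (R' : Type v) [CommRing R'] [Algebra R R'] [Algebra.FinitePresentation R R']
    (α : R' →ₐ[R] R') (hα : Function.Surjective α) : Function.Bijective α := by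
  refine ⟨?_, hα⟩
  -- surjective endomorphisms of Noetherian rings are injective
  have noeth : ∀ (S : Type v) [CommRing S] [IsNoetherianRing S] (f : S →+* S),
      Function.Surjective f → Function.Injective f := by
    intro S _ _ f hf
    have hiter : ∀ n : ℕ, Function.Surjective (f ^ n : S →+* S) := by
      intro n
      rw [RingHom.coe_pow]
      exact hf.iterate n
    let c : ℕ →o Ideal S := ⟨fun n => RingHom.ker (f ^ n : S →+* S), by
      refine monotone_nat_of_le_succ fun n x hx => ?_
      rw [RingHom.mem_ker] at hx ⊢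
      rw [pow_succ', RingHom.mul_def, RingHom.comp_apply, hx, map_zero]⟩
    obtain ⟨n, hn⟩ := monotone_stabilizes_iff_noetherian.mpr inferInstance c
    rw [injective_iff_map_eq_zero]
    intro x hx
    obtain ⟨y, rfl⟩ := hiter n x
    have h1 : y ∈ c (n + 1) := by
      change y ∈ RingHom.ker (f ^ (n + 1) : S →+* S)
      rw [RingHom.mem_ker, pow_succ', RingHom.mul_def, RingHom.comp_apply]
      exact hx
    rw [← hn (n + 1) (Nat.le_succ n)] at h1
    exact h1
  rw [injective_iff_map_eq_zero]
  intro x hx
  obtain ⟨n, π, hπ⟩ := Algebra.FiniteType.iff_quotient_mvPolynomial''.mp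
    (inferInstance : Algebra.FiniteType R R')
  choose P hP using fun i : Fin n => hπ (α (π (MvPolynomial.X i)))
  choose Q hQ using fun i : Fin n => (hα.comp hπ) (π (MvPolynomial.X i))
  obtain ⟨q, hq⟩ := hπ x
  -- the finitely generated subring of coefficients
  let g : (Fin n ⊕ Fin n) ⊕ Unit → MvPolynomial (Fin n) R := Sum.elim (Sum.elim P Q) (fun _ => q)
  let T : Set R := ⋃ i, ((g i).coeffs : Set R)
  have hT : T.Finite := Set.finite_iUnion fun i => Finset.finite_toSet _
  let R₀ : Subalgebra ℤ R := Algebra.adjoin ℤ T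
  have hR₀ : IsNoetherianRing R₀ := by
    have hfg : R₀.FG := ⟨hT.toFinset, by rw [Set.Finite.coe_toFinset]⟩
    have : Algebra.FiniteType ℤ R₀ := (Subalgebra.fg_iff_finiteType _).mp hfg
    exact Algebra.FiniteType.isNoetherianRing ℤ R₀
  let j : R₀ →+* R := R₀.val.toRingHom
  have hmem : ∀ i, g i ∈ Set.range (MvPolynomial.map (σ := Fin n) j) := by
    intro i
    rw [MvPolynomial.mem_range_map_iff_coeffs_subset]
    intro c hc
    exact ⟨⟨c, Algebra.subset_adjoin (Set.mem_iUnion.mpr ⟨i, hc⟩)⟩, rfl⟩
  let ψ : MvPolynomial (Fin n) R₀ →+* R' := (π : MvPolynomial (Fin n) R →+* R').comp (MvPolynomial.map j)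
  have hψC : ∀ r : R₀, ψ (MvPolynomial.C r) = algebraMap R R' (j r) := by
    intro r
    simp only [ψ, RingHom.comp_apply, MvPolynomial.map_C]
    exact π.commutes (j r)
  have hψX : ∀ i, ψ (MvPolynomial.X i) = π (MvPolynomial.X i) := by
    intro i
    simp only [ψ, RingHom.comp_apply, MvPolynomial.map_X]
    rfl
  have hψg : ∀ i, π (g i) ∈ ψ.range := by
    intro i
    obtain ⟨p, hp⟩ := hmem i
    exact ⟨p, by simp only [ψ, RingHom.comp_apply, hp]; rfl⟩
  have h1 : ∀ s ∈ ψ.range, α s ∈ ψ.range := by
    rintro _ ⟨p, rfl⟩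
    induction p using MvPolynomial.induction_on with
    | C r => rw [hψC, AlgHom.commutes, ← hψC]; exact ⟨_, rfl⟩
    | add p q hp hq => rw [map_add, map_add]; exact add_mem hp hq
    | mul_X p i hp =>
      rw [map_mul, map_mul]
      refine mul_mem hp ?_
      rw [hψX, ← hP i]
      exact hψg (Sum.inl (Sum.inl i))
  let f : ψ.range →+* ψ.range := (α : R' →+* R').restrict ψ.range ψ.range h1
  have hf : Function.Surjective f := by
    rintro ⟨_, ⟨p, rfl⟩⟩
    induction p using MvPolynomial.induction_on with
    | C r =>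
      refine ⟨⟨ψ (MvPolynomial.C r), ⟨_, rfl⟩⟩, Subtype.ext ?_⟩
      change α (ψ (MvPolynomial.C r)) = ψ (MvPolynomial.C r)
      rw [hψC, AlgHom.commutes]
    | add p q hp hq =>
      obtain ⟨a, ha⟩ := hp
      obtain ⟨b, hb⟩ := hq
      refine ⟨a + b, ?_⟩
      rw [map_add, ha, hb]
      exact Subtype.ext (map_add ψ p q).symm
    | mul_X p i hp =>
      obtain ⟨a, ha⟩ := hp
      refine ⟨a * ⟨π (Q i), hψg (Sum.inl (Sum.inr i))⟩, ?_⟩
      rw [map_mul, ha]
      apply Subtype.ext
      change ψ p * α (π (Q i)) = ψ (p * MvPolynomial.X i)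
      rw [map_mul, hψX]
      exact congrArg _ (hQ i)
  have hinj := noeth ψ.range f hf
  have hx' : f ⟨x, hq ▸ hψg (Sum.inr ())⟩ = 0 := Subtype.ext hx
  have := hinj (hx'.trans (map_zero f).symm)
  exact congrArg Subtype.val this

end Groth.Agent.S13096
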