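import Groth.Statements.S13097
import Groth.Agent.S3842
import Groth.Agent.FlatA.UnivHomeo
import Mathlib.AlgebraicGeometry.Morphisms.Finite

set_option autoImplicit false
universe u
open FlatMor

namespace Groth.Agent.S13097

open CategoryTheory AlgebraicGeometry in
/-- Let f : X → S be a quasi-compact, separated morphism of schemes with a section e : S → X (e followed
by f is the identity of S), and U ⊆ S an open subscheme such that f⁻¹(U) is schematically dense in X
(for every open V of X, restriction of functions from V to V ∩ f⁻¹(U) is injective) and such that
the restriction f⁻¹(U) → U of f is a homeomorphism of underlying spaces. Then f is universally a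
homeomorphism (every base change of f is a homeomorphism), and f is finite as soon as it is locally
of finite type. (The published statement also lists surjectivity of f, which a section forces, and
offers as an alternative to the section the hypothesis that f be flat, still with f⁻¹(U) → U only a
homeomorphism; that flat alternative fails: the spectrum of a separable quadratic field extension
over the spectrum of the ground field, with U the whole base, is flat, surjective, quasi-compact,
separated and a homeomorphism over U, yet not universally injective. Only the case of a section,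
whose published proof is complete, is stated here.) -/
theorem result {X S : Scheme.{u}} (f : X ⟶ S)
    [QuasiCompact f] [IsSeparated f] (U : S.Opens)
    (hdense : CInt.IsSchematicallyDense (f ⁻¹ᵁ U)) (hU : IsHomeomorph (f ∣_ U).base)
    (e : S ⟶ X) (he : e ≫ f = 𝟙 S) :
    FlatMor.IsUnivHomeo f ∧ (LocallyOfFiniteType f → IsFinite f) := by
  have h0 : IsClosedImmersion (e ≫ f) := by rw [he]; infer_instance
  have h1 : IsClosedImmersion e := IsClosedImmersion.of_comp e f
  have hes : ∀ s : S, f (e s) = s := fun s => by
    rw [← Scheme.Hom.comp_apply, he]; rfl
  have h2 : Surjective e := by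
    constructor
    have hcl : IsClosed (Set.range e) := e.isClosedEmbedding.isClosed_range
    have hsub : ((f ⁻¹ᵁ U : X.Opens) : Set X) ⊆ Set.range e := by
      intro x hx
      have hfx : f x ∈ U := hx
      have hy : e (f x) ∈ f ⁻¹ᵁ U := by
        change f (e (f x)) ∈ U
        rw [hes]; exact hfx
      refine ⟨f x, ?_⟩
      have := hU.injective (a₁ := (⟨e (f x), hy⟩ : (f ⁻¹ᵁ U : X.Opens))) (a₂ := ⟨x, hx⟩) (by
        apply Subtype.ext
        rw [morphismRestrict_base_coe, morphismRestrict_base_coe]
        exact hes (f x))
      exact congrArg Subtype.val this
    have hd := Groth.Agent.S3842.dense_of_isSchematicallyDense _ hdense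
    intro x
    have : x ∈ closure ((f ⁻¹ᵁ U : X.Opens) : Set X) := hd x
    exact hcl.closure_subset_iff.mpr hsub this
  have h3 : FlatMor.IsUnivHomeo e := by
    refine Groth.Agent.FlatA.UnivHomeo.isUnivHomeo_of_universallyClosed inferInstance ?_ h2
    infer_instance
  have h4 : FlatMor.IsUnivHomeo (e ≫ f) := by
    rw [he]
    refine Groth.Agent.FlatA.UnivHomeo.isUnivHomeo_of_universallyClosed inferInstance ?_ inferInstance
    infer_instance
  have h5 := Groth.Agent.FlatA.UnivHomeo.isUnivHomeo_of_precomp e f h4 h3
  refine ⟨h5, fun hf => ?_⟩
  exact (IsFinite.iff_isIntegralHom_and_locallyOfFiniteType f).mpr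
    ⟨Groth.Agent.FlatA.UnivHomeo.isIntegralHom_of_isUnivHomeo h5, hf⟩

end Groth.Agent.S13097
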