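import Groth.Statements.S13098
import Mathlib.LinearAlgebra.Basis.Basic
import Mathlib.Tactic

set_option autoImplicit false
universe u v
open Lie3Mod

namespace Groth.Agent.S13098

/-- Let R be a commutative ring, M an R-module with a basis x = bs 0, y = bs 1, z = bs 2 indexed by Fin
3, and B an R-bilinear alternating map on M (B m m = 0) with B x y = a x + b y + c z, B x z = d x +
e y + f z and B y z = g x + h y + i z. Then B satisfies the Jacobi identity for all triples if and
only if the three Jacobi polynomials vanish: ah + di − fg − bg = 0, ie + bd − fh − ae = 0 and hc +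
dc − af − bi = 0. (This is the statement that Lie brackets on a based free module of rank 3 are the
points of the closed subscheme of affine 9-space defined by these three equations.) -/
theorem result (R : Type u) [CommRing R] (M : Type v) [AddCommGroup M] [Module R M]
    (bs : Module.Basis (Fin 3) R M) (B : M →ₗ[R] M →ₗ[R] M) (halt : ∀ m : M, B m m = 0)
    (a b c d e f g h i : R)
    (hxy : B (bs 0) (bs 1) = a • bs 0 + b • bs 1 + c • bs 2)
    (hxz : B (bs 0) (bs 2) = d • bs 0 + e • bs 1 + f • bs 2)
    (hyz : B (bs 1) (bs 2) = g • bs 0 + h • bs 1 + i • bs 2) :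
    (∀ u v w : M, B u (B v w) + B v (B w u) + B w (B u v) = 0) ↔
      (a * h + d * i - f * g - b * g = 0 ∧ i * e + b * d - f * h - a * e = 0 ∧
        h * c + d * c - a * f - b * i = 0) := by
  have hskew : ∀ m n : M, B n m = - B m n := by
    intro m n
    have h1 := halt (m + n)
    simp only [map_add, LinearMap.add_apply, halt, zero_add, add_zero] at h1
    exact eq_neg_of_add_eq_zero_left h1
  have hyx := hskew (bs 0) (bs 1)
  have hzx := hskew (bs 0) (bs 2)
  have hzy := hskew (bs 1) (bs 2)
  rw [hxy] at hyx
  rw [hxz] at hzx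
  rw [hyz] at hzy
  have hJ : B (bs 0) (B (bs 1) (bs 2)) + B (bs 1) (B (bs 2) (bs 0)) + B (bs 2) (B (bs 0) (bs 1)) =
      (a * h + d * i - f * g - b * g) • bs 0 + (i * e + b * d - f * h - a * e) • bs 1 +
        (h * c + d * c - a * f - b * i) • bs 2 := by
    rw [hyz, hzx, hxy]
    simp only [map_add, map_smul, map_neg, halt, hxy, hxz, hyz, hyx, hzx, hzy]
    module
  constructor
  · intro hjac
    have h0 := hjac (bs 0) (bs 1) (bs 2)
    rw [hJ] at h0
    have h1 := congrArg (fun m => bs.repr m) h0
    simp only [map_add, map_smul, Module.Basis.repr_self, map_zero] at h1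
    refine ⟨?_, ?_, ?_⟩
    · have := DFunLike.congr_fun h1 0
      simpa [Finsupp.single_apply] using this
    · have := DFunLike.congr_fun h1 1
      simpa [Finsupp.single_apply] using this
    · have := DFunLike.congr_fun h1 2
      simpa [Finsupp.single_apply] using this
  · rintro ⟨h1, h2, h3⟩ u v w
    have e1 := bs.sum_repr u
    have e2 := bs.sum_repr v
    have e3 := bs.sum_repr w
    rw [Fin.sum_univ_three] at e1 e2 e3
    generalize (bs.repr u) 0 = u0 at *
    generalize (bs.repr u) 1 = u1 at *
    generalize (bs.repr u) 2 = u2 at *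
    generalize (bs.repr v) 0 = v0 at *
    generalize (bs.repr v) 1 = v1 at *
    generalize (bs.repr v) 2 = v2 at *
    generalize (bs.repr w) 0 = w0 at *
    generalize (bs.repr w) 1 = w1 at *
    generalize (bs.repr w) 2 = w2 at *
    subst e1 e2 e3
    have key : ∀ p0 p1 p2 q0 q1 q2 : R,
        B (p0 • bs 0 + p1 • bs 1 + p2 • bs 2) (q0 • bs 0 + q1 • bs 1 + q2 • bs 2) =
          ((p0 * q1 - p1 * q0) * a + (p0 * q2 - p2 * q0) * d + (p1 * q2 - p2 * q1) * g) • bs 0 +
          ((p0 * q1 - p1 * q0) * b + (p0 * q2 - p2 * q0) * e + (p1 * q2 - p2 * q1) * h) • bs 1 +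
          ((p0 * q1 - p1 * q0) * c + (p0 * q2 - p2 * q0) * f + (p1 * q2 - p2 * q1) * i) • bs 2 := by
      intro p0 p1 p2 q0 q1 q2
      simp only [map_add, map_smul, LinearMap.add_apply, LinearMap.smul_apply, halt, hxy, hxz, hyz,
        hyx, hzx, hzy]
      module
    simp only [key]
    have hdet : ∀ D : R, (D * (a * h + d * i - f * g - b * g)) • bs 0 +
        (D * (i * e + b * d - f * h - a * e)) • bs 1 +
        (D * (h * c + d * c - a * f - b * i)) • bs 2 = 0 := by
      intro D
      rw [h1, h2, h3]
      simp
    rw [← hdet (u0 * (v1 * w2 - v2 * w1) - u1 * (v0 * w2 - v2 * w0) + u2 * (v0 * w1 - v1 * w0))]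
    module

end Groth.Agent.S13098
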