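import Groth.Statements.S13099
import Mathlib.Algebra.Polynomial.Taylor
import Mathlib.Data.Nat.Choose.Lucas
import Mathlib.RingTheory.AdjoinRoot
import Mathlib.RingTheory.OrzechProperty
import Mathlib.Algebra.DualNumber
import Mathlib.Tactic

set_option autoImplicit false
universe u
open GrpSch

namespace Groth.Agent.S13099

open Polynomial

/-- For `n` neither `1` nor `p` and `n < p ^ 2`, `n ≠ 0`, some inner binomial coefficient is prime to `p`. -/
theorem exists_choose (p : ℕ) [hp : Fact p.Prime] (n : ℕ) (hn : n < p ^ 2) (h0 : n ≠ 0) (h1 : n ≠ 1)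
    (hnp : n ≠ p) : ∃ i j, i ≠ 0 ∧ j ≠ 0 ∧ i + j = n ∧ ¬ p ∣ (i + j).choose i := by
  by_cases hd : p ∣ n
  · obtain ⟨m, rfl⟩ := hd
    have hp0 := hp.out.pos
    have hm0 : m ≠ 0 := by rintro rfl; simp at h0
    have hm1 : m ≠ 1 := by rintro rfl; simp at hnp
    have hmp : m < p := by
      rw [pow_two] at hn
      exact lt_of_mul_lt_mul_left hn hp0.le
    refine ⟨p, p * m - p, hp0.ne', ?_, ?_, ?_⟩
    · have : p * 1 < p * m := Nat.mul_lt_mul_of_pos_left (by omega) hp0
      omega
    · have : p * 1 ≤ p * m := Nat.mul_le_mul_left _ (by omega)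
      omega
    · have h2 : p + (p * m - p) = p * m := by
        have : p * 1 ≤ p * m := Nat.mul_le_mul_left _ (by omega)
        omega
      rw [h2]
      intro hdvd
      have h3 := Choose.choose_modEq_choose_mod_mul_choose_div_nat (p := p) (n := p * m) (k := p)
      rw [Nat.mul_mod_right, Nat.mod_self, Nat.mul_div_cancel_left _ hp0, Nat.div_self hp0,
        Nat.choose_one_right, Nat.choose_zero_right, one_mul] at h3
      have h4 : p ∣ m := (Nat.modEq_zero_iff_dvd.1 (h3.symm.trans (Nat.modEq_zero_iff_dvd.2 hdvd)))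
      exact absurd (Nat.le_of_dvd (by omega) h4) (by omega)
  · refine ⟨1, n - 1, one_ne_zero, by omega, by omega, ?_⟩
    have : 1 + (n - 1) = n := by omega
    rw [this, Nat.choose_one_right]
    exact hd

theorem isUnit_natCast (p : ℕ) [hp : Fact p.Prime] (A : Type u) [CommRing A] [CharP A p] (c : ℕ)
    (hc : ¬ p ∣ c) : IsUnit (c : A) := by
  have h1 : IsCoprime (c : ℤ) (p : ℤ) := by
    rw [Nat.isCoprime_iff_coprime]
    exact ((Nat.Prime.coprime_iff_not_dvd hp.out).2 hc).symm
  obtain ⟨a, b, hab⟩ := h1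
  have h2 := congrArg (Int.cast : ℤ → A) hab
  push_cast at h2
  rw [CharP.cast_eq_zero A p, mul_zero, add_zero] at h2
  exact IsUnit.of_mul_eq_one _ (by rw [mul_comm]; exact h2)

theorem coeff_aeval {A : Type u} [CommRing A] (q : A[X]) (i j : ℕ) :
    ((Polynomial.aeval (R := A) (X + C X : A[X][X]) q).coeff i).coeff j = (j + i).choose i * q.coeff (j + i) := by
  have h1 : Polynomial.aeval (R := A) (X + C X : A[X][X]) q = taylor (X : A[X]) (q.map C) := by
    rw [taylor_apply, Polynomial.comp, Polynomial.eval₂_map, Polynomial.aeval_def]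
    congr 1
  have h3 : hasseDeriv i (q.map C) = (hasseDeriv i q).map (C : A →+* A[X]) := by
    ext n : 1
    rw [hasseDeriv_coeff, coeff_map, coeff_map, hasseDeriv_coeff]
    simp
  rw [h1, taylor_coeff, h3, Polynomial.eval_map]
  have h2 : eval₂ C X (hasseDeriv i q) = hasseDeriv i q := Polynomial.eval₂_C_X
  rw [h2, hasseDeriv_coeff]

theorem part_one (p : ℕ) [hp : Fact p.Prime] (A : Type u) [CommRing A] [CharP A p] (q : A[X])
    (hq : q.natDegree < p ^ 2)
    (h : Polynomial.aeval (MvPolynomial.X 0 + MvPolynomial.X 1 : MvPolynomial (Fin 2) A) q -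
            Polynomial.aeval (MvPolynomial.X 0 : MvPolynomial (Fin 2) A) q -
            Polynomial.aeval (MvPolynomial.X 1 : MvPolynomial (Fin 2) A) q ∈
          Ideal.span ({MvPolynomial.X 0 ^ p ^ 2, MvPolynomial.X 1 ^ p ^ 2} : Set (MvPolynomial (Fin 2) A))) :
    ∃ a₁ ap : A, q = Polynomial.C a₁ * X + Polynomial.C ap * X ^ p := by
  let φ : MvPolynomial (Fin 2) A →ₐ[A] A[X][X] := MvPolynomial.aeval ![X, C X]
  have hφ0 : φ (MvPolynomial.X 0) = X := by simp [φ]
  have hφ1 : φ (MvPolynomial.X 1) = C X := by simp [φ]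
  have hp2 : 0 < p ^ 2 := pow_pos hp.out.pos 2
  -- coefficients of elements of the ideal
  have hI : ∀ f ∈ Ideal.span ({MvPolynomial.X 0 ^ p ^ 2, MvPolynomial.X 1 ^ p ^ 2} : Set (MvPolynomial (Fin 2) A)),
      ∀ i j, i < p ^ 2 → j < p ^ 2 → ((φ f).coeff i).coeff j = 0 := by
    intro f hf i j hi hj
    rw [Ideal.mem_span_pair] at hf
    obtain ⟨a, b, rfl⟩ := hf
    rw [map_add, map_mul, map_mul, map_pow, map_pow, hφ0, hφ1, coeff_add, coeff_mul_X_pow', if_neg (by omega),
      zero_add, ← C_pow, coeff_mul_C, coeff_mul_X_pow', if_neg (by omega)]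
  have key := hI _ h
  rw [map_sub, map_sub, ← Polynomial.aeval_algHom_apply, ← Polynomial.aeval_algHom_apply,
    ← Polynomial.aeval_algHom_apply, map_add, hφ0, hφ1] at key
  have e0 : (Polynomial.aeval (R := A) (X : A[X][X]) q) = q.map C := by
    rw [Polynomial.aeval_def, Polynomial.map]
    congr 1
  have e1 : (Polynomial.aeval (R := A) (C X : A[X][X]) q) = C q := by
    have : (Polynomial.aeval (R := A) (C X : A[X][X]) q) = (Polynomial.CAlgHom (R := A) (A := A[X])) (Polynomial.aeval X q) := by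
      rw [← Polynomial.aeval_algHom_apply]
      rfl
    rw [this, Polynomial.aeval_X_left_apply]
    rfl
  have key2 : ∀ i j, i < p ^ 2 → j < p ^ 2 → ((j + i).choose i : A) * q.coeff (j + i) -
      (C (q.coeff i)).coeff j - ((C q : A[X][X]).coeff i).coeff j = 0 := by
    intro i j hi hj
    have := key i j hi hj
    rw [coeff_sub, coeff_sub, coeff_sub, coeff_sub, coeff_aeval, e0, e1, coeff_map] at this
    exact this
  have k0 : q.coeff 0 = 0 := by
    have := key2 0 0 hp2 hp2
    simpa using this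
  have k1 : ∀ n, n ≠ 1 → n ≠ p → q.coeff n = 0 := by
    intro n hn1 hnp
    rcases lt_or_ge n (p ^ 2) with hn | hn
    · rcases eq_or_ne n 0 with rfl | hn0
      · exact k0
      · obtain ⟨i, j, hi, hj, hij, hc⟩ := exists_choose p n hn hn0 hn1 hnp
        have := key2 i j (by omega) (by omega)
        rw [coeff_C, if_neg hj, coeff_C, if_neg hi, coeff_zero, sub_zero, sub_zero, add_comm j i] at this
        rw [hij] at this hc
        exact (isUnit_natCast p A _ hc).mul_right_eq_zero.1 this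
    · exact coeff_eq_zero_of_natDegree_lt (lt_of_lt_of_le hq hn)
  refine ⟨q.coeff 1, q.coeff p, ?_⟩
  ext n
  have hp1 : p ≠ 1 := hp.out.ne_one
  rw [coeff_add, coeff_C_mul, coeff_C_mul, coeff_X, coeff_X_pow]
  rcases eq_or_ne n 1 with rfl | hn1
  · rw [if_pos rfl, if_neg hp1.symm]; ring
  · rcases eq_or_ne n p with rfl | hnp
    · rw [if_neg hp1.symm, if_pos rfl]; ring
    · rw [if_neg hn1.symm, if_neg hnp, k1 n hn1 hnp]; ring

theorem part_two (p : ℕ) [hp : Fact p.Prime] (A : Type u) [CommRing A] [CharP A p] (a₁ ap : A) :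
      (Polynomial.aeval (MvPolynomial.X 0 + MvPolynomial.X 1 : MvPolynomial (Fin 2) A) (Polynomial.C a₁ * X + Polynomial.C ap * X ^ p) -
            Polynomial.aeval (MvPolynomial.X 0 : MvPolynomial (Fin 2) A) (Polynomial.C a₁ * X + Polynomial.C ap * X ^ p) -
            Polynomial.aeval (MvPolynomial.X 1 : MvPolynomial (Fin 2) A) (Polynomial.C a₁ * X + Polynomial.C ap * X ^ p) ∈
          Ideal.span ({MvPolynomial.X 0 ^ p ^ 2, MvPolynomial.X 1 ^ p ^ 2} : Set (MvPolynomial (Fin 2) A))) := by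
  have h1 : (MvPolynomial.X 0 + MvPolynomial.X 1 : MvPolynomial (Fin 2) A) ^ p = MvPolynomial.X 0 ^ p + MvPolynomial.X 1 ^ p :=
    add_pow_char _ _ _
  simp only [map_add, map_mul, map_pow, Polynomial.aeval_X, Polynomial.aeval_C, h1]
  convert Ideal.zero_mem _ using 1
  ring

theorem isUnit_of_surjective (p : ℕ) [hp : Fact p.Prime] (A : Type u) [CommRing A] (a₁ ap : A)
    (φ : (A[X] ⧸ Ideal.span ({X ^ p ^ 2} : Set A[X])) →ₐ[A] (A[X] ⧸ Ideal.span ({X ^ p ^ 2} : Set A[X])))
    (hφ : φ (Ideal.Quotient.mk (Ideal.span ({X ^ p ^ 2} : Set A[X])) X) =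
          Ideal.Quotient.mk (Ideal.span ({X ^ p ^ 2} : Set A[X])) (Polynomial.C a₁ * X + Polynomial.C ap * X ^ p))
    (hs : Function.Surjective φ) : IsUnit a₁ := by
  have hp2 : 2 ≤ p := hp.out.two_le
  have heps : ∀ n, 2 ≤ n → (DualNumber.eps : DualNumber A) ^ n = 0 := by
    intro n hn
    obtain ⟨m, rfl⟩ := Nat.exists_eq_add_of_le hn
    rw [pow_add, pow_two, DualNumber.eps_mul_eps, zero_mul]
  let θ : (A[X] ⧸ Ideal.span ({X ^ p ^ 2} : Set A[X])) →ₐ[A] DualNumber A :=
    Ideal.Quotient.liftₐ _ (Polynomial.aeval (DualNumber.eps : DualNumber A)) (by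
      intro a ha
      rw [Ideal.mem_span_singleton] at ha
      obtain ⟨b, rfl⟩ := ha
      rw [map_mul, map_pow, Polynomial.aeval_X, heps _ (by nlinarith), zero_mul])
  have hθ : ∀ f : A[X], θ (Ideal.Quotient.mk _ f) = Polynomial.aeval (DualNumber.eps : DualNumber A) f := by
    intro f; rfl
  have hθφ : ∀ f : A[X], θ (φ (Ideal.Quotient.mk _ f)) = Polynomial.aeval (a₁ • DualNumber.eps : DualNumber A) f := by
    intro f
    have h1 : (θ.comp φ).comp (Ideal.Quotient.mkₐ A (Ideal.span ({X ^ p ^ 2} : Set A[X]))) =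
        Polynomial.aeval (a₁ • DualNumber.eps : DualNumber A) := by
      apply Polynomial.algHom_ext
      have : θ (φ (Ideal.Quotient.mk _ X)) = a₁ • DualNumber.eps := by
        rw [hφ, hθ, map_add, map_mul, map_mul, map_pow, Polynomial.aeval_X, heps _ hp2, mul_zero, add_zero,
          Polynomial.aeval_C, Algebra.smul_def]
      simpa using this
    exact congrArg (fun g : A[X] →ₐ[A] DualNumber A => g f) h1
  obtain ⟨r, hr⟩ := hs (Ideal.Quotient.mk _ X)
  obtain ⟨f, rfl⟩ := Ideal.Quotient.mk_surjective r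
  have h2 := congrArg θ hr
  rw [hθφ, hθ, Polynomial.aeval_X] at h2
  have h3 : ∀ (f : A[X]), ∃ b : A, Polynomial.aeval (a₁ • DualNumber.eps : DualNumber A) f =
      TrivSqZeroExt.inl (f.coeff 0) + (b * a₁) • DualNumber.eps := by
    intro f
    refine ⟨f.divX.coeff 0, ?_⟩
    conv_lhs => rw [← Polynomial.divX_mul_X_add f, ← Polynomial.divX_mul_X_add f.divX]
    simp only [map_add, map_mul, Polynomial.aeval_X, Polynomial.aeval_C]
    ext
    · simp [TrivSqZeroExt.algebraMap_eq_inl]
    · simp [TrivSqZeroExt.algebraMap_eq_inl, mul_comm]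
  obtain ⟨b, hb⟩ := h3 f
  rw [hb] at h2
  have h4 := congrArg TrivSqZeroExt.snd h2
  simp at h4
  exact IsUnit.of_mul_eq_one _ (by rw [mul_comm]; exact h4)

theorem surjective_of_isUnit (p : ℕ) [hp : Fact p.Prime] (A : Type u) [CommRing A] (a₁ ap : A)
    (φ : (A[X] ⧸ Ideal.span ({X ^ p ^ 2} : Set A[X])) →ₐ[A] (A[X] ⧸ Ideal.span ({X ^ p ^ 2} : Set A[X])))
    (hφ : φ (Ideal.Quotient.mk (Ideal.span ({X ^ p ^ 2} : Set A[X])) X) =
          Ideal.Quotient.mk (Ideal.span ({X ^ p ^ 2} : Set A[X])) (Polynomial.C a₁ * X + Polynomial.C ap * X ^ p))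
    (hu : IsUnit a₁) : Function.Surjective φ := by
  have hp2 : 2 ≤ p := hp.out.two_le
  obtain ⟨I, hI⟩ : ∃ I, I = Ideal.span ({X ^ p ^ 2} : Set A[X]) := ⟨_, rfl⟩
  have key : ∀ m k, m + k = p ^ 2 → ∀ g : A[X], Ideal.Quotient.mk (Ideal.span ({X ^ p ^ 2} : Set A[X])) (X ^ k * g) ∈ φ.range := by
    intro m
    induction m with
    | zero =>
      intro k hk g
      have : Ideal.Quotient.mk (Ideal.span ({X ^ p ^ 2} : Set A[X])) (X ^ k * g) = 0 := by
        rw [Ideal.Quotient.eq_zero_iff_mem, Ideal.mem_span_singleton, ← hk, zero_add]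
        exact dvd_mul_right _ _
      rw [this]
      exact Subalgebra.zero_mem _
    | succ m ih =>
      intro k hk g
      have ih' := ih (k + 1) (by omega)
      have h1 : Ideal.Quotient.mk (Ideal.span ({X ^ p ^ 2} : Set A[X])) (X ^ k) ∈ φ.range := by
        obtain ⟨h, hh⟩ : X ∣ (Polynomial.C a₁ + Polynomial.C ap * X ^ (p - 1)) ^ k - Polynomial.C (a₁ ^ k) := by
          rw [Polynomial.X_dvd_iff, Polynomial.coeff_zero_eq_eval_zero]
          simp [show p - 1 ≠ 0 by omega]
        have h2 : (Polynomial.C a₁ * X + Polynomial.C ap * X ^ p) ^ k = Polynomial.C (a₁ ^ k) * X ^ k + X ^ (k + 1) * h := by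
          have e1 : Polynomial.C a₁ * X + Polynomial.C ap * X ^ p = X * (Polynomial.C a₁ + Polynomial.C ap * X ^ (p - 1)) := by
            obtain ⟨r, rfl⟩ := Nat.exists_eq_add_of_le hp2
            rw [show 2 + r - 1 = 1 + r by omega]
            ring
          rw [e1, mul_pow]
          linear_combination X ^ k * hh
        have h3 : φ (Ideal.Quotient.mk _ (X ^ k)) = Ideal.Quotient.mk (Ideal.span ({X ^ p ^ 2} : Set A[X])) (Polynomial.C (a₁ ^ k)) *
            Ideal.Quotient.mk (Ideal.span ({X ^ p ^ 2} : Set A[X])) (X ^ k) +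
            Ideal.Quotient.mk (Ideal.span ({X ^ p ^ 2} : Set A[X])) (X ^ (k + 1) * h) := by
          rw [map_pow, map_pow, hφ, ← map_pow, h2, map_add, map_mul, map_pow _ X]
        obtain ⟨v, hv⟩ := hu
        have h4 : Ideal.Quotient.mk (Ideal.span ({X ^ p ^ 2} : Set A[X])) (X ^ k) =
            Ideal.Quotient.mk (Ideal.span ({X ^ p ^ 2} : Set A[X])) (Polynomial.C (((v⁻¹ : Aˣ) : A) ^ k)) * (φ (Ideal.Quotient.mk _ (X ^ k)) -
              Ideal.Quotient.mk (Ideal.span ({X ^ p ^ 2} : Set A[X])) (X ^ (k + 1) * h)) := by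
          have h6 : (Polynomial.C (((v⁻¹ : Aˣ) : A) ^ k) : A[X]) * Polynomial.C (a₁ ^ k) = 1 := by
            rw [← map_mul, ← mul_pow, ← hv, Units.inv_mul, one_pow, map_one]
          rw [h3, add_sub_cancel_right, ← mul_assoc, ← map_mul, h6, map_one, one_mul]
        rw [h4]
        refine Subalgebra.mul_mem _ (Subalgebra.algebraMap_mem _ (((v⁻¹ : Aˣ) : A) ^ k)) (Subalgebra.sub_mem _ ?_ (ih' h))
        exact AlgHom.mem_range_self _ _
      have h5 : X ^ k * g = X ^ (k + 1) * g.divX + Polynomial.C (g.coeff 0) * X ^ k := by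
        conv_lhs => rw [← Polynomial.divX_mul_X_add g]
        ring
      rw [h5, map_add]
      refine Subalgebra.add_mem _ (ih' _) ?_
      rw [map_mul]
      exact Subalgebra.mul_mem _ (Subalgebra.algebraMap_mem _ (g.coeff 0)) h1
  intro r
  obtain ⟨f, rfl⟩ := Ideal.Quotient.mk_surjective r
  have := key (p ^ 2) 0 (by omega) f
  rw [pow_zero, one_mul] at this
  exact this

/-- Let p be a prime and A a commutative ring of characteristic p, and consider the infinitesimal group
scheme Spec A[X]/(X^{p²}) with the additive group law. In coordinates: (1) a polynomial q ∈ A[X] of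
degree less than p² satisfies q(Y + Z) − q(Y) − q(Z) ∈ (Y^{p²}, Z^{p²}) in A[Y, Z] (that is, X ↦ q
respects the comultiplication) if and only if q = a₁ X + a_p X^p for some a₁, a_p ∈ A; (2) an
A-algebra endomorphism of A[X]/(X^{p²}) that sends the class of X to the class of a₁ X + a_p X^p is
bijective if and only if a₁ is a unit of A. (The printed statement is that the automorphism group
scheme of this group scheme is the semidirect product of the additive group by the multiplicative
group, v acting on u by v^{p−1}u; this row records the two computations it consists of, in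
coordinates.) -/
theorem result (p : ℕ) [Fact p.Prime] (A : Type u) [CommRing A] [CharP A p] :
    (∀ q : A[X], q.natDegree < p ^ 2 →
      (Polynomial.aeval (MvPolynomial.X 0 + MvPolynomial.X 1 : MvPolynomial (Fin 2) A) q -
            Polynomial.aeval (MvPolynomial.X 0 : MvPolynomial (Fin 2) A) q -
            Polynomial.aeval (MvPolynomial.X 1 : MvPolynomial (Fin 2) A) q ∈
          Ideal.span ({MvPolynomial.X 0 ^ p ^ 2, MvPolynomial.X 1 ^ p ^ 2} : Set (MvPolynomial (Fin 2) A)) ↔
        ∃ a₁ ap : A, q = Polynomial.C a₁ * X + Polynomial.C ap * X ^ p)) ∧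
    (∀ (a₁ ap : A) (φ : (A[X] ⧸ Ideal.span ({X ^ p ^ 2} : Set A[X])) →ₐ[A] (A[X] ⧸ Ideal.span ({X ^ p ^ 2} : Set A[X]))),
      φ (Ideal.Quotient.mk (Ideal.span ({X ^ p ^ 2} : Set A[X])) X) =
          Ideal.Quotient.mk (Ideal.span ({X ^ p ^ 2} : Set A[X])) (Polynomial.C a₁ * X + Polynomial.C ap * X ^ p) →
        (Function.Bijective φ ↔ IsUnit a₁)) := by
  refine ⟨fun q hq => ⟨fun h => part_one p A q hq h, ?_⟩, fun a₁ ap φ hφ => ⟨fun h => isUnit_of_surjective p A a₁ ap φ hφ h.2, fun h => ?_⟩⟩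
  · rintro ⟨a₁, ap, rfl⟩
    exact part_two p A a₁ ap
  · have h1 := surjective_of_isUnit p A a₁ ap φ hφ h
    have hfin : Module.Finite A (A[X] ⧸ Ideal.span ({X ^ p ^ 2} : Set A[X])) :=
      (monic_X_pow (p ^ 2)).finite_quotient
    exact ⟨OrzechProperty.injective_of_surjective_endomorphism φ.toLinearMap h1, h1⟩

end Groth.Agent.S13099
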