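import Groth.Statements.S13100
import Mathlib.RingTheory.AdicCompletion.Completeness
import Mathlib.RingTheory.Henselian
import Mathlib.RingTheory.LaurentSeries
import Mathlib.RingTheory.PowerSeries.Inverse

set_option autoImplicit false
universe u
open GrpSch

namespace Groth.Agent.S13100

open Polynomial in
theorem isSquare_powerSeries (k : Type u) [Field k] [IsAlgClosed k] (h2 : (2 : k) ≠ 0)
    (u : PowerSeries k) (hu : PowerSeries.constantCoeff u ≠ 0) : IsSquare u := by
  have h1 : HenselianRing (PowerSeries k) (Ideal.span {PowerSeries.X}) := inferInstance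
  obtain ⟨c, hc⟩ := IsAlgClosed.exists_pow_nat_eq (PowerSeries.constantCoeff u) (n := 2) (by norm_num)
  have hc0 : c ≠ 0 := by
    rintro rfl
    apply hu
    rw [← hc]; simp
  have hmem : ∀ v : PowerSeries k, PowerSeries.constantCoeff v = 0 → v ∈ Ideal.span {(PowerSeries.X : PowerSeries k)} := by
    intro v hv
    rw [Ideal.mem_span_singleton, PowerSeries.X_dvd_iff]
    exact hv
  obtain ⟨a, ha, -⟩ := h1.is_henselian (X ^ 2 - C u) (monic_X_pow_sub_C u (by norm_num)) (PowerSeries.C c)
    (by
      apply hmem
      simp [hc])
    (by
      have h3 : IsUnit (derivative (X ^ 2 - C u)|>.eval (PowerSeries.C c)) := by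
        rw [PowerSeries.isUnit_iff_constantCoeff]
        simp only [derivative_sub, derivative_X_pow, derivative_C, sub_zero, eval_mul, eval_pow, eval_X]
        have h5 : PowerSeries.constantCoeff (2 : PowerSeries k) = 2 := map_ofNat _ 2
        simp [hc0, h2, h5]
      exact h3.map _)
  refine ⟨a, ?_⟩
  have h4 : a ^ 2 - u = 0 := by simpa [IsRoot] using ha
  rw [← pow_two]
  exact (sub_eq_zero.1 h4).symm

/-- Let k be an algebraically closed field of characteristic different from 2 and K = k((t)) the field
of Laurent series over k. Then a non-zero Laurent series f is a square in K if and only if its order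
in t is even; consequently the group Kˣ/Kˣ² of non-zero elements modulo squares has exactly two
elements, represented by 1 and t. -/
theorem result (k : Type u) [Field k] [IsAlgClosed k] (h2 : (2 : k) ≠ 0)
    (f : LaurentSeries k) (hf : f ≠ 0) : IsSquare f ↔ Even f.order := by
  constructor
  · rintro ⟨g, rfl⟩
    have hg : g ≠ 0 := left_ne_zero_of_mul hf
    rw [HahnSeries.order_mul hg hg]
    exact ⟨_, rfl⟩
  · rintro ⟨n, hn⟩
    have h1 : IsSquare f.powerSeriesPart := by
      apply isSquare_powerSeries k h2
      rw [← PowerSeries.coeff_zero_eq_constantCoeff_apply, LaurentSeries.powerSeriesPart_coeff]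
      simpa using HahnSeries.coeff_orderTop_ne (HahnSeries.order_eq_orderTop_of_ne_zero hf).symm
    obtain ⟨s, hs⟩ := h1
    refine ⟨(HahnSeries.single n 1 : LaurentSeries k) * (s : LaurentSeries k), ?_⟩
    have h3 := LaurentSeries.single_order_mul_powerSeriesPart f
    rw [hs, hn] at h3
    rw [← h3]
    have h4 : (HahnSeries.single (n + n) 1 : LaurentSeries k) = HahnSeries.single n 1 * HahnSeries.single n 1 := by
      rw [HahnSeries.single_mul_single, one_mul]
    rw [h4]
    push_cast
    ring

end Groth.Agent.S13100
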