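import Groth.Statements.S13101
import Mathlib.LinearAlgebra.Determinant
import Mathlib.Tactic

set_option autoImplicit false
universe u v
open GrpSch

namespace Groth.Agent.S13101

/-- Let A be a commutative ring in which 2 is a unit, and L a Lie algebra over A, free as a module with
basis x = bs 0, y = bs 1, z = bs 2 and brackets [x,y] = y, [x,z] = y + z, [y,z] = 0. Then for every
Lie algebra automorphism φ of L over A there are b, c, h ∈ A and a unit i of A with φ(x) = x + b y +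
c z, φ(y) = i y and φ(z) = h y + i z. Only the form of an automorphism is stated, not that every map
of this form is one. (The published statement identifies the automorphism group scheme with a
semidirect product of two additive groups by the product of the multiplicative and additive group,
for algebras over a field of Laurent series of characteristic not 2, and deduces the vanishing of
its first cohomology; this row records the determination of the automorphisms, over any base ring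
with 2 invertible; the cohomological consequence is not restated.) -/
theorem result (A : Type u) [CommRing A] (h2 : IsUnit (2 : A))
    (L : Type v) [LieRing L] [LieAlgebra A L] (bs : Module.Basis (Fin 3) A L)
    (hxy : ⁅bs 0, bs 1⁆ = bs 1) (hxz : ⁅bs 0, bs 2⁆ = bs 1 + bs 2) (hyz : ⁅bs 1, bs 2⁆ = 0)
    (φ : L ≃ₗ⁅A⁆ L) :
    ∃ b c h i : A, IsUnit i ∧ φ (bs 0) = bs 0 + b • bs 1 + c • bs 2 ∧ φ (bs 1) = i • bs 1 ∧
      φ (bs 2) = h • bs 1 + i • bs 2 := by
  have hyx : ⁅bs 1, bs 0⁆ = - bs 1 := by rw [← lie_skew, hxy]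
  have hzx : ⁅bs 2, bs 0⁆ = - bs 1 - bs 2 := by rw [← lie_skew, hxz]; abel
  have hzy : ⁅bs 2, bs 1⁆ = 0 := by rw [← lie_skew, hyz, neg_zero]
  -- coordinates
  have hrep : ∀ v : L, v = bs.repr v 0 • bs 0 + bs.repr v 1 • bs 1 + bs.repr v 2 • bs 2 := by
    intro v
    conv_lhs => rw [← bs.sum_repr v]
    rw [Fin.sum_univ_three]
  have hcoord : ∀ a b c a' b' c' : A, a • bs 0 + b • bs 1 + c • bs 2 = a' • bs 0 + b' • bs 1 + c' • bs 2 →
      a = a' ∧ b = b' ∧ c = c' := by
    intro a b c a' b' c' h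
    have h1 : ∀ j, bs.repr (a • bs 0 + b • bs 1 + c • bs 2) j = bs.repr (a' • bs 0 + b' • bs 1 + c' • bs 2) j := by
      intro j; rw [h]
    have h10 := h1 0
    have h11 := h1 1
    have h12 := h1 2
    simp at h10 h11 h12
    exact ⟨h10, h11, h12⟩
  have hbr : ∀ a b c a' b' c' : A, ⁅a • bs 0 + b • bs 1 + c • bs 2, a' • bs 0 + b' • bs 1 + c' • bs 2⁆ =
      (0 : A) • bs 0 + (a * b' + a * c' - b * a' - c * a') • bs 1 + (a * c' - c * a') • bs 2 := by
    intro a b c a' b' c'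
    simp only [add_lie, lie_add, smul_lie, lie_smul, hxy, hxz, hyz, hyx, hzx, hzy, lie_self]
    module
  obtain ⟨a, ha⟩ : ∃ a, a = bs.repr (φ (bs 0)) 0 := ⟨_, rfl⟩
  obtain ⟨b, hb⟩ : ∃ a, a = bs.repr (φ (bs 0)) 1 := ⟨_, rfl⟩
  obtain ⟨c, hc⟩ : ∃ a, a = bs.repr (φ (bs 0)) 2 := ⟨_, rfl⟩
  obtain ⟨d, hd⟩ : ∃ a, a = bs.repr (φ (bs 1)) 0 := ⟨_, rfl⟩
  obtain ⟨e, he⟩ : ∃ a, a = bs.repr (φ (bs 1)) 1 := ⟨_, rfl⟩
  obtain ⟨f, hf⟩ : ∃ a, a = bs.repr (φ (bs 1)) 2 := ⟨_, rfl⟩
  obtain ⟨g, hg⟩ : ∃ a, a = bs.repr (φ (bs 2)) 0 := ⟨_, rfl⟩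
  obtain ⟨h, hh⟩ : ∃ a, a = bs.repr (φ (bs 2)) 1 := ⟨_, rfl⟩
  obtain ⟨i, hi⟩ : ∃ a, a = bs.repr (φ (bs 2)) 2 := ⟨_, rfl⟩
  have hx : φ (bs 0) = a • bs 0 + b • bs 1 + c • bs 2 := by rw [ha, hb, hc]; exact hrep _
  have hy : φ (bs 1) = d • bs 0 + e • bs 1 + f • bs 2 := by rw [hd, he, hf]; exact hrep _
  have hz : φ (bs 2) = g • bs 0 + h • bs 1 + i • bs 2 := by rw [hg, hh, hi]; exact hrep _
  have hdet : IsUnit (a * (e * i - h * f) - d * (b * i - h * c) + g * (b * f - e * c)) := by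
    have := LinearEquiv.isUnit_det φ.toLinearEquiv bs bs
    rw [Matrix.det_fin_three] at this
    simp only [LinearMap.toMatrix_apply] at this
    have e1 : ∀ v, (φ.toLinearEquiv : L →ₗ[A] L) v = φ v := fun _ => rfl
    simp only [e1, ← ha, ← hb, ← hc, ← hd, ← he, ← hf, ← hg, ← hh, ← hi] at this
    convert this using 1
    ring
  have h01 : ⁅φ (bs 0), φ (bs 1)⁆ = φ (bs 1) := by rw [← LieEquiv.map_lie, hxy]
  have h02 : ⁅φ (bs 0), φ (bs 2)⁆ = φ (bs 1) + φ (bs 2) := by rw [← LieEquiv.map_lie, hxz, map_add]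
  rw [hx, hy, hbr] at h01
  rw [hx, hz, hy, hbr] at h02
  have h02' : (0 : A) • bs 0 + (a * h + a * i - b * g - c * g) • bs 1 + (a * i - c * g) • bs 2 =
      (d + g) • bs 0 + (e + h) • bs 1 + (f + i) • bs 2 := by rw [h02]; module
  obtain ⟨q1, q2, q3⟩ := hcoord _ _ _ _ _ _ h01
  obtain ⟨q4, q5, q6⟩ := hcoord _ _ _ _ _ _ h02'
  subst q1
  have q4' : g = 0 := by simpa using q4.symm
  subst q4'
  simp only [mul_zero, sub_zero, zero_mul, add_zero] at q2 q3 q5 q6 hdet
  have hf' : f = (a - 1) * i := by linear_combination -q6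
  have he' : e = (a - 1) * h + a * i := by linear_combination -q5
  have hD : e * i - h * f = a * i ^ 2 := by rw [hf', he']; ring
  rw [hD] at hdet
  have hau : IsUnit a := isUnit_of_mul_isUnit_left hdet
  have hiu : IsUnit i := by
    have h1 := isUnit_of_mul_isUnit_right (isUnit_of_mul_isUnit_right hdet)
    exact (isUnit_pow_iff two_ne_zero).1 h1
  have r1 : (a - 1) ^ 2 = 0 := by
    have : (a - 1) ^ 2 * i = 0 := by linear_combination q3 + (1 - a) * hf'
    exact (hiu.mul_left_eq_zero).1 this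
  have r2 : 2 * a * i * (a - 1) = 0 := by
    linear_combination q2 - a * hf' + (1 - a) * he' - h * r1
  have r3 : a - 1 = 0 := ((h2.mul hau).mul hiu).mul_right_eq_zero.1 r2
  have ha1 : a = 1 := by linear_combination r3
  refine ⟨b, c, h, i, hiu, ?_, ?_, ?_⟩
  · rw [hx, ha1, one_smul]
  · rw [hy, hf', he', ha1]; simp
  · rw [hz]; simp

end Groth.Agent.S13101
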