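import Groth.Statements.S13102
import Mathlib.LinearAlgebra.Determinant
import Mathlib.Tactic

set_option autoImplicit false
universe u v w
open GrpSch

namespace Groth.Agent.S13102

/-- Let K be a field, α ∈ K, A a commutative K-algebra and L a Lie algebra over A which is free as an
A-module with basis x = bs 0, y = bs 1, z = bs 2 and brackets [x,y] = y, [x,z] = α z, [y,z] = 0. If
α² ≠ 1 then every Lie algebra automorphism φ of L over A satisfies φ(x) = x + b y + c z, φ(y) = e y,
φ(z) = i z for some b, c ∈ A and units e, i of A. If α = 1 then every such φ satisfies φ(x) = x + b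
y + c z, φ(y) = e y + f z, φ(z) = h y + i z with e i − f h a unit of A. (The printed statement
identifies the automorphism group schemes with the corresponding semidirect products, treats also α
= −1 in characteristic not 2, and computes first cohomology over a field of Laurent series; those
clauses are not restated here.) -/
theorem result (K : Type u) [Field K] (α : K) (A : Type v) [CommRing A] [Algebra K A]
    (L : Type w) [LieRing L] [LieAlgebra A L] (bs : Module.Basis (Fin 3) A L)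
    (hxy : ⁅bs 0, bs 1⁆ = bs 1) (hxz : ⁅bs 0, bs 2⁆ = algebraMap K A α • bs 2) (hyz : ⁅bs 1, bs 2⁆ = 0)
    (φ : L ≃ₗ⁅A⁆ L) :
    (α ^ 2 ≠ 1 → ∃ b c e i : A, IsUnit e ∧ IsUnit i ∧ φ (bs 0) = bs 0 + b • bs 1 + c • bs 2 ∧
        φ (bs 1) = e • bs 1 ∧ φ (bs 2) = i • bs 2) ∧
    (α = 1 → ∃ b c e f h i : A, IsUnit (e * i - f * h) ∧ φ (bs 0) = bs 0 + b • bs 1 + c • bs 2 ∧
        φ (bs 1) = e • bs 1 + f • bs 2 ∧ φ (bs 2) = h • bs 1 + i • bs 2) := by
  obtain ⟨s, hs⟩ : ∃ s, s = algebraMap K A α := ⟨_, rfl⟩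
  rw [← hs] at hxz
  have hyx : ⁅bs 1, bs 0⁆ = - bs 1 := by rw [← lie_skew, hxy]
  have hzx : ⁅bs 2, bs 0⁆ = - (s • bs 2) := by rw [← lie_skew, hxz]
  have hzy : ⁅bs 2, bs 1⁆ = 0 := by rw [← lie_skew, hyz, neg_zero]
  -- coordinates
  have hrep : ∀ v : L, v = bs.repr v 0 • bs 0 + bs.repr v 1 • bs 1 + bs.repr v 2 • bs 2 := by
    intro v
    conv_lhs => rw [← bs.sum_repr v]
    rw [Fin.sum_univ_three]
  have hcoord : ∀ a b c a' b' c' : A, a • bs 0 + b • bs 1 + c • bs 2 = a' • bs 0 + b' • bs 1 + c' • bs 2 →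
      a = a' ∧ b = b' ∧ c = c' := by
    intro a b c a' b' c' h
    have h1 : ∀ j, bs.repr (a • bs 0 + b • bs 1 + c • bs 2) j = bs.repr (a' • bs 0 + b' • bs 1 + c' • bs 2) j := by
      intro j; rw [h]
    have h10 := h1 0
    have h11 := h1 1
    have h12 := h1 2
    simp at h10 h11 h12
    exact ⟨h10, h11, h12⟩
  have hbr : ∀ a b c a' b' c' : A, ⁅a • bs 0 + b • bs 1 + c • bs 2, a' • bs 0 + b' • bs 1 + c' • bs 2⁆ =
      (0 : A) • bs 0 + (a * b' - b * a') • bs 1 + (s * (a * c' - c * a')) • bs 2 := by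
    intro a b c a' b' c'
    simp only [add_lie, lie_add, smul_lie, lie_smul, hxy, hxz, hyz, hyx, hzx, hzy, lie_self]
    module
  obtain ⟨a, ha⟩ : ∃ a, a = bs.repr (φ (bs 0)) 0 := ⟨_, rfl⟩
  obtain ⟨b, hb⟩ : ∃ a, a = bs.repr (φ (bs 0)) 1 := ⟨_, rfl⟩
  obtain ⟨c, hc⟩ : ∃ a, a = bs.repr (φ (bs 0)) 2 := ⟨_, rfl⟩
  obtain ⟨d, hd⟩ : ∃ a, a = bs.repr (φ (bs 1)) 0 := ⟨_, rfl⟩
  obtain ⟨e, he⟩ : ∃ a, a = bs.repr (φ (bs 1)) 1 := ⟨_, rfl⟩
  obtain ⟨f, hf⟩ : ∃ a, a = bs.repr (φ (bs 1)) 2 := ⟨_, rfl⟩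
  obtain ⟨g, hg⟩ : ∃ a, a = bs.repr (φ (bs 2)) 0 := ⟨_, rfl⟩
  obtain ⟨h, hh⟩ : ∃ a, a = bs.repr (φ (bs 2)) 1 := ⟨_, rfl⟩
  obtain ⟨i, hi⟩ : ∃ a, a = bs.repr (φ (bs 2)) 2 := ⟨_, rfl⟩
  have hx : φ (bs 0) = a • bs 0 + b • bs 1 + c • bs 2 := by rw [ha, hb, hc]; exact hrep _
  have hy : φ (bs 1) = d • bs 0 + e • bs 1 + f • bs 2 := by rw [hd, he, hf]; exact hrep _
  have hz : φ (bs 2) = g • bs 0 + h • bs 1 + i • bs 2 := by rw [hg, hh, hi]; exact hrep _
  have hdet : IsUnit (a * (e * i - h * f) - d * (b * i - h * c) + g * (b * f - e * c)) := by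
    have := LinearEquiv.isUnit_det φ.toLinearEquiv bs bs
    rw [Matrix.det_fin_three] at this
    simp only [LinearMap.toMatrix_apply] at this
    have e1 : ∀ v, (φ.toLinearEquiv : L →ₗ[A] L) v = φ v := fun _ => rfl
    simp only [e1, ← ha, ← hb, ← hc, ← hd, ← he, ← hf, ← hg, ← hh, ← hi] at this
    convert this using 1
    ring
  have h01 : ⁅φ (bs 0), φ (bs 1)⁆ = φ (bs 1) := by rw [← LieEquiv.map_lie, hxy]
  have h02 : ⁅φ (bs 0), φ (bs 2)⁆ = s • φ (bs 2) := by
    rw [← LieEquiv.map_lie, hxz]; exact φ.toLinearEquiv.map_smul s _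
  have h12 : ⁅φ (bs 1), φ (bs 2)⁆ = 0 := by rw [← LieEquiv.map_lie, hyz]; exact φ.toLinearEquiv.map_zero
  rw [hx, hy, hbr] at h01
  rw [hx, hz, hbr] at h02
  rw [hy, hz, hbr] at h12
  have h02' : (0 : A) • bs 0 + (a * h - b * g) • bs 1 + (s * (a * i - c * g)) • bs 2 =
      (s * g) • bs 0 + (s * h) • bs 1 + (s * i) • bs 2 := by rw [h02]; module
  have h12' : (0 : A) • bs 0 + (d * h - e * g) • bs 1 + (s * (d * i - f * g)) • bs 2 =
      (0 : A) • bs 0 + (0 : A) • bs 1 + (0 : A) • bs 2 := by rw [h12]; module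
  obtain ⟨q1, q2, q3⟩ := hcoord _ _ _ _ _ _ h01
  obtain ⟨q4, q5, q6⟩ := hcoord _ _ _ _ _ _ h02'
  obtain ⟨-, q7, q8⟩ := hcoord _ _ _ _ _ _ h12'
  have hd0 : d = 0 := q1.symm
  rw [hd0] at q2 q3 q7 q8 hdet hy
  simp only [mul_zero, sub_zero, zero_mul, zero_sub, zero_smul, zero_add] at q2 q3 q7 q8 hdet hy
  -- q2 : a e = e, q3 : s (a f) = f, q4 : 0 = s g, q5 : a h - b g = s h, q6 : s (a i - c g) = s i, q7 : -(e g) = 0
  constructor
  · intro hα
    have hs1 : IsUnit (s ^ 2 - 1) := by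
      rw [hs, ← map_pow, ← map_one (algebraMap K A), ← map_sub]
      exact (IsUnit.mk0 _ (sub_ne_zero.2 hα)).map _
    by_cases hα0 : α = 0
    · have hs0 : s = 0 := by rw [hs, hα0, map_zero]
      rw [hs0] at q3 q5
      simp only [zero_mul] at q3 q5
      have hf0 : f = 0 := q3.symm
      rw [hf0] at hdet hy
      have hD : a * (e * i - h * 0) + g * (b * 0 - e * c) = a * e * i := by
        linear_combination (c) * q7
      rw [hD] at hdet
      have hiu : IsUnit i := isUnit_of_mul_isUnit_right hdet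
      have heu : IsUnit e := isUnit_of_mul_isUnit_right (isUnit_of_mul_isUnit_left hdet)
      have ha1 : a = 1 := by
        have : (a - 1) * e = 0 := by linear_combination q2
        have := heu.mul_left_eq_zero.1 this
        linear_combination this
      have hg0 : g = 0 := by
        have : e * g = 0 := by linear_combination -q7
        exact heu.mul_right_eq_zero.1 this
      have hh0 : h = 0 := by rw [ha1, hg0] at q5; linear_combination q5
      refine ⟨b, c, e, i, heu, hiu, ?_, ?_, ?_⟩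
      · rw [hx, ha1, one_smul]
      · rw [hy]; simp
      · rw [hz, hg0, hh0]; simp
    · have hsu : IsUnit s := by rw [hs]; exact (IsUnit.mk0 _ hα0).map _
      have hg0 : g = 0 := hsu.mul_right_eq_zero.1 q4.symm
      rw [hg0] at q5 q6 hdet hz
      simp only [mul_zero, sub_zero, zero_mul, add_zero, zero_smul, zero_add] at q5 q6 hdet hz
      have hfh : f * h = 0 := by
        have : (s ^ 2 - 1) * (f * h) = 0 := by linear_combination h * q3 - s * f * q5
        exact hs1.mul_right_eq_zero.1 this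
      have hD : a * (e * i - h * f) = a * e * i := by linear_combination (-a) * hfh
      rw [hD] at hdet
      have hiu : IsUnit i := isUnit_of_mul_isUnit_right hdet
      have heu : IsUnit e := isUnit_of_mul_isUnit_right (isUnit_of_mul_isUnit_left hdet)
      have ha1 : a = 1 := by
        have : (a - 1) * e = 0 := by linear_combination q2
        have := heu.mul_left_eq_zero.1 this
        linear_combination this
      have hs2 : IsUnit (s - 1) := by
        have : s ^ 2 - 1 = (s - 1) * (s + 1) := by ring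
        rw [this] at hs1
        exact isUnit_of_mul_isUnit_left hs1
      have hf0 : f = 0 := by
        rw [ha1] at q3
        have : (s - 1) * f = 0 := by linear_combination q3
        exact hs2.mul_right_eq_zero.1 this
      have hh0 : h = 0 := by
        rw [ha1] at q5
        have : (s - 1) * h = 0 := by linear_combination -q5
        exact hs2.mul_right_eq_zero.1 this
      refine ⟨b, c, e, i, heu, hiu, ?_, ?_, ?_⟩
      · rw [hx, ha1, one_smul]
      · rw [hy, hf0]; simp
      · rw [hz, hh0]; simp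
  · intro hα
    have hs1 : s = 1 := by rw [hs, hα, map_one]
    rw [hs1] at q3 q4 q5 q6
    simp only [one_mul] at q3 q4 q5 q6
    have hg0 : g = 0 := q4.symm
    rw [hg0] at q5 q6 hdet hz
    simp only [mul_zero, sub_zero, zero_mul, add_zero, zero_smul, zero_add] at q5 q6 hdet hz
    have hD := isUnit_of_mul_isUnit_right hdet
    have ha1 : a = 1 := by
      have : (a - 1) * (e * i - h * f) = 0 := by linear_combination i * q2 - h * q3
      have := hD.mul_left_eq_zero.1 this
      linear_combination this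
    refine ⟨b, c, e, f, h, i, ?_, ?_, hy, hz⟩
    · convert hD using 2; ring
    · rw [hx, ha1, one_smul]

end Groth.Agent.S13102
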