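import Groth.Statements.S13107
import Mathlib.LinearAlgebra.Determinant
import Mathlib.Tactic

set_option autoImplicit false
universe u v w
open GrpSch

namespace Groth.Agent.S13107

theorem aux (K : Type u) [Field K] (t : K)
    (F : Type v) [LieRing F] [LieAlgebra K F] (bF : Module.Basis (Fin 3) K F)
    (hF01 : ⁅bF 0, bF 1⁆ = bF 2) (hF02 : ⁅bF 0, bF 2⁆ = t • bF 1)
    (hF12 : ⁅bF 1, bF 2⁆ = 0)
    (L : Type w) [LieRing L] [LieAlgebra K L] (bL : Module.Basis (Fin 3) K L)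
    (hL01 : ⁅bL 0, bL 1⁆ = bL 1) (φ : L ≃ₗ⁅K⁆ F) : ∃ a : K, t * a ^ 2 = 1 := by
  have hyx : ⁅bF 1, bF 0⁆ = - bF 2 := by rw [← lie_skew, hF01]
  have hzx : ⁅bF 2, bF 0⁆ = - (t • bF 1) := by rw [← lie_skew, hF02]
  have hzy : ⁅bF 2, bF 1⁆ = 0 := by rw [← lie_skew, hF12, neg_zero]
  have hrep : ∀ v : F, v = bF.repr v 0 • bF 0 + bF.repr v 1 • bF 1 + bF.repr v 2 • bF 2 := by
    intro v
    conv_lhs => rw [← bF.sum_repr v]
    rw [Fin.sum_univ_three]
  have hcoord : ∀ a b c a' b' c' : K,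
      a • bF 0 + b • bF 1 + c • bF 2 = a' • bF 0 + b' • bF 1 + c' • bF 2 →
      a = a' ∧ b = b' ∧ c = c' := by
    intro a b c a' b' c' h
    have h1 : ∀ j, bF.repr (a • bF 0 + b • bF 1 + c • bF 2) j = bF.repr (a' • bF 0 + b' • bF 1 + c' • bF 2) j := by
      intro j; rw [h]
    have h10 := h1 0
    have h11 := h1 1
    have h12 := h1 2
    simp at h10 h11 h12
    exact ⟨h10, h11, h12⟩
  have hbr : ∀ a b c a' b' c' : K,
      ⁅a • bF 0 + b • bF 1 + c • bF 2, a' • bF 0 + b' • bF 1 + c' • bF 2⁆ =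
      (0 : K) • bF 0 + (t * (a * c' - c * a')) • bF 1 + (a * b' - b * a') • bF 2 := by
    intro a b c a' b' c'
    simp only [add_lie, lie_add, smul_lie, lie_smul, hF01, hF02, hF12, hyx, hzx, hzy, lie_self]
    module
  obtain ⟨a, b, c, hx⟩ : ∃ a b c, φ (bL 0) = a • bF 0 + b • bF 1 + c • bF 2 := ⟨_, _, _, hrep _⟩
  obtain ⟨d, e, f, hy⟩ : ∃ a b c, φ (bL 1) = a • bF 0 + b • bF 1 + c • bF 2 := ⟨_, _, _, hrep _⟩
  have h01 : ⁅φ (bL 0), φ (bL 1)⁆ = φ (bL 1) := by rw [← LieEquiv.map_lie, hL01]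
  rw [hx, hy, hbr] at h01
  obtain ⟨q1, q2, q3⟩ := hcoord _ _ _ _ _ _ h01
  have hd0 : d = 0 := q1.symm
  rw [hd0] at q2 q3 hy
  simp only [mul_zero, sub_zero, zero_smul, zero_add] at q2 q3 hy
  -- q2 : t * (a * f) = e, q3 : a * e = f
  have hne : e ≠ 0 := by
    rintro rfl
    have hf0 : f = 0 := by rw [← q3, mul_zero]
    rw [hf0] at hy
    have : φ (bL 1) = 0 := by rw [hy]; simp
    have h2 : bL 1 = 0 := by
      have h3 : φ (bL 1) = φ 0 := by rw [this]; exact (φ.toLinearEquiv.map_zero).symm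
      exact φ.injective h3
    exact bL.ne_zero 1 h2
  have hta : t * a ^ 2 = 1 := by
    have : (t * a ^ 2 - 1) * e = 0 := by linear_combination q2 + t * a * q3
    rcases mul_eq_zero.1 this with h | h
    · linear_combination h
    · exact absurd h hne
  exact ⟨a, hta⟩

/-- Let k be a field, K = k((t)) the field of Laurent series over k, F a Lie algebra over K with a basis
x' = bF 0, y' = bF 1, z' = bF 2 and brackets [x',y'] = z', [x',z'] = t y', [y',z'] = 0, and L a Lie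
algebra over K with a basis x = bL 0, y = bL 1, z = bL 2 and brackets [x,y] = y, [x,z] = −z, [y,z] =
0. Then there is no K-linear isomorphism of Lie algebras between L and F: F is a non-trivial form of
L over K. (The published result is the classification of three-dimensional Lie algebras over k((t))
for k algebraically closed of characteristic not 2, with F its only non-split entry; this row states
the non-isomorphism of F and L over k((t)) for every field k.) -/
theorem result (k : Type u) [Field k]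
    (F : Type v) [LieRing F] [LieAlgebra (LaurentSeries k) F] (bF : Module.Basis (Fin 3) (LaurentSeries k) F)
    (hF01 : ⁅bF 0, bF 1⁆ = bF 2) (hF02 : ⁅bF 0, bF 2⁆ = (HahnSeries.single 1 (1 : k) : LaurentSeries k) • bF 1)
    (hF12 : ⁅bF 1, bF 2⁆ = 0)
    (L : Type w) [LieRing L] [LieAlgebra (LaurentSeries k) L] (bL : Module.Basis (Fin 3) (LaurentSeries k) L)
    (hL01 : ⁅bL 0, bL 1⁆ = bL 1) (hL02 : ⁅bL 0, bL 2⁆ = -bL 2) (hL12 : ⁅bL 1, bL 2⁆ = 0) :
    IsEmpty (L ≃ₗ⁅LaurentSeries k⁆ F) := by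
  refine ⟨fun φ => ?_⟩
  obtain ⟨t, ht⟩ : ∃ t : LaurentSeries k, t = HahnSeries.single 1 (1 : k) := ⟨_, rfl⟩
  rw [← ht] at hF02
  obtain ⟨a, hta⟩ := aux (LaurentSeries k) t F bF hF01 hF02 hF12 L bL hL01 φ
  have ha0 : a ≠ 0 := by
    rintro rfl
    simp at hta
  have ht0 : t ≠ 0 := by
    rintro rfl
    simp at hta
  have ho : (t * a ^ 2).order = 0 := by rw [hta]; exact HahnSeries.order_one
  rw [pow_two, HahnSeries.order_mul ht0 (mul_ne_zero ha0 ha0), HahnSeries.order_mul ha0 ha0, ht,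
    HahnSeries.order_single one_ne_zero] at ho
  omega

end Groth.Agent.S13107
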