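import Groth.Statements.S13108
import Mathlib.LinearAlgebra.Determinant
import Mathlib.Algebra.Lie.OfAssociative
import Mathlib.Tactic

set_option autoImplicit false
universe u v w
open GrpSch

namespace Groth.Agent.S13108

theorem aux (k : Type u) [Field k] (t t' : k) (ht : t ≠ 0)
    (L : Type v) [LieRing L] [LieAlgebra k L] (b : Module.Basis (Fin 3) k L)
    (h01 : ⁅b 0, b 1⁆ = b 1) (h02 : ⁅b 0, b 2⁆ = t • b 2)
    (L' : Type w) [LieRing L'] [LieAlgebra k L'] (bs : Module.Basis (Fin 3) k L')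
    (hxy : ⁅bs 0, bs 1⁆ = bs 1) (hxz : ⁅bs 0, bs 2⁆ = t' • bs 2) (hyz : ⁅bs 1, bs 2⁆ = 0)
    (φ : L ≃ₗ⁅k⁆ L') : t' = t ∨ t' = t⁻¹ := by
  have hyx : ⁅bs 1, bs 0⁆ = - bs 1 := by rw [← lie_skew, hxy]
  have hzx : ⁅bs 2, bs 0⁆ = - (t' • bs 2) := by rw [← lie_skew, hxz]
  have hzy : ⁅bs 2, bs 1⁆ = 0 := by rw [← lie_skew, hyz, neg_zero]
  -- coordinates
  have hrep : ∀ v : L', v = bs.repr v 0 • bs 0 + bs.repr v 1 • bs 1 + bs.repr v 2 • bs 2 := by
    intro v
    conv_lhs => rw [← bs.sum_repr v]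
    rw [Fin.sum_univ_three]
  have hcoord : ∀ a b c a' b' c' : k, a • bs 0 + b • bs 1 + c • bs 2 = a' • bs 0 + b' • bs 1 + c' • bs 2 →
      a = a' ∧ b = b' ∧ c = c' := by
    intro a b c a' b' c' h
    have h1 : ∀ j, bs.repr (a • bs 0 + b • bs 1 + c • bs 2) j = bs.repr (a' • bs 0 + b' • bs 1 + c' • bs 2) j := by
      intro j; rw [h]
    have h10 := h1 0
    have h11 := h1 1
    have h12 := h1 2
    simp at h10 h11 h12
    exact ⟨h10, h11, h12⟩
  have hbr : ∀ a b c a' b' c' : k, ⁅a • bs 0 + b • bs 1 + c • bs 2, a' • bs 0 + b' • bs 1 + c' • bs 2⁆ =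
      (0 : k) • bs 0 + (a * b' - b * a') • bs 1 + (t' * (a * c' - c * a')) • bs 2 := by
    intro a b c a' b' c'
    simp only [add_lie, lie_add, smul_lie, lie_smul, hxy, hxz, hyz, hyx, hzx, hzy, lie_self]
    module
  obtain ⟨a, ha⟩ : ∃ a, a = bs.repr (φ (b 0)) 0 := ⟨_, rfl⟩
  obtain ⟨b₁, hb⟩ : ∃ a, a = bs.repr (φ (b 0)) 1 := ⟨_, rfl⟩
  obtain ⟨c, hc⟩ : ∃ a, a = bs.repr (φ (b 0)) 2 := ⟨_, rfl⟩
  obtain ⟨d, hd⟩ : ∃ a, a = bs.repr (φ (b 1)) 0 := ⟨_, rfl⟩
  obtain ⟨e, he⟩ : ∃ a, a = bs.repr (φ (b 1)) 1 := ⟨_, rfl⟩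
  obtain ⟨f, hf⟩ : ∃ a, a = bs.repr (φ (b 1)) 2 := ⟨_, rfl⟩
  obtain ⟨g, hg⟩ : ∃ a, a = bs.repr (φ (b 2)) 0 := ⟨_, rfl⟩
  obtain ⟨h, hh⟩ : ∃ a, a = bs.repr (φ (b 2)) 1 := ⟨_, rfl⟩
  obtain ⟨i, hi⟩ : ∃ a, a = bs.repr (φ (b 2)) 2 := ⟨_, rfl⟩
  have hx : φ (b 0) = a • bs 0 + b₁ • bs 1 + c • bs 2 := by rw [ha, hb, hc]; exact hrep _
  have hy : φ (b 1) = d • bs 0 + e • bs 1 + f • bs 2 := by rw [hd, he, hf]; exact hrep _
  have hz : φ (b 2) = g • bs 0 + h • bs 1 + i • bs 2 := by rw [hg, hh, hi]; exact hrep _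
  have hdet : a * (e * i - h * f) - d * (b₁ * i - h * c) + g * (b₁ * f - e * c) ≠ 0 := by
    have := (LinearEquiv.isUnit_det φ.toLinearEquiv b bs).ne_zero
    rw [Matrix.det_fin_three] at this
    simp only [LinearMap.toMatrix_apply] at this
    have e1 : ∀ v, (φ.toLinearEquiv : L →ₗ[k] L') v = φ v := fun _ => rfl
    simp only [e1, ← ha, ← hb, ← hc, ← hd, ← he, ← hf, ← hg, ← hh, ← hi] at this
    convert this using 1
    ring
  have h01 : ⁅φ (b 0), φ (b 1)⁆ = φ (b 1) := by rw [← LieEquiv.map_lie, h01]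
  have h02 : ⁅φ (b 0), φ (b 2)⁆ = t • φ (b 2) := by
    rw [← LieEquiv.map_lie, h02]; exact φ.toLinearEquiv.map_smul t _
  rw [hx, hy, hbr] at h01
  rw [hx, hz, hbr] at h02
  have h02' : (0 : k) • bs 0 + (a * h - b₁ * g) • bs 1 + (t' * (a * i - c * g)) • bs 2 =
      (t * g) • bs 0 + (t * h) • bs 1 + (t * i) • bs 2 := by rw [h02]; module
  obtain ⟨q1, q2, q3⟩ := hcoord _ _ _ _ _ _ h01
  obtain ⟨q4, q5, q6⟩ := hcoord _ _ _ _ _ _ h02'
  have hd0 : d = 0 := q1.symm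
  have hg0 : g = 0 := by
    rcases mul_eq_zero.1 q4.symm with h | h
    · exact absurd h ht
    · exact h
  rw [hd0] at q2 q3 hdet
  rw [hg0] at q5 q6 hdet
  simp only [mul_zero, sub_zero, zero_mul, add_zero] at q2 q3 q5 q6 hdet
  -- q2 : a e = e, q3 : t' (a f) = f, q5 : a h = t h, q6 : t' (a i) = t i
  by_cases hei : e * i = 0
  · right
    have hfh : h * f ≠ 0 := by
      intro h0
      apply hdet
      rw [hei, h0]; ring
    have hh0 := left_ne_zero_of_mul hfh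
    have hf0 := right_ne_zero_of_mul hfh
    have hat : a = t := mul_right_cancel₀ hh0 q5
    have h1 : t' * a = 1 := mul_right_cancel₀ hf0 (by linear_combination q3)
    rw [hat] at h1
    exact eq_inv_of_mul_eq_one_left h1
  · left
    have he0 := left_ne_zero_of_mul hei
    have hi0 := right_ne_zero_of_mul hei
    have ha1 : a = 1 := mul_right_cancel₀ he0 (by linear_combination q2)
    have h1 : t' * a = t := mul_right_cancel₀ hi0 (by linear_combination q6)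
    rw [ha1, mul_one] at h1
    exact h1

/-- A linear equivalence given on bases and compatible with the three basic brackets is a Lie
algebra equivalence. -/
theorem mkEquiv (k : Type u) [Field k]
    (L : Type v) [LieRing L] [LieAlgebra k L] (b : Module.Basis (Fin 3) k L)
    (L' : Type w) [LieRing L'] [LieAlgebra k L'] (φ : L ≃ₗ[k] L')
    (h01 : φ ⁅b 0, b 1⁆ = ⁅φ (b 0), φ (b 1)⁆)
    (h02 : φ ⁅b 0, b 2⁆ = ⁅φ (b 0), φ (b 2)⁆)
    (h12 : φ ⁅b 1, b 2⁆ = ⁅φ (b 1), φ (b 2)⁆) : Nonempty (L ≃ₗ⁅k⁆ L') := by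
  have key : ∀ i j, φ ⁅b i, b j⁆ = ⁅φ (b i), φ (b j)⁆ := by
    have hskew : ∀ i j, φ ⁅b i, b j⁆ = ⁅φ (b i), φ (b j)⁆ → φ ⁅b j, b i⁆ = ⁅φ (b j), φ (b i)⁆ := by
      intro i j h
      rw [← lie_skew, ← lie_skew (φ (b j)), map_neg, h]
    intro i j
    fin_cases i <;> fin_cases j
    · simp
    · exact h01
    · exact h02
    · exact hskew _ _ h01
    · simp
    · exact h12
    · exact hskew _ _ h02
    · exact hskew _ _ h12
    · simp
  have key2 : ∀ i (y : L), φ ⁅b i, y⁆ = ⁅φ (b i), φ y⁆ := by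
    intro i y
    have h1 : φ.toLinearMap ∘ₗ (LieAlgebra.ad k L (b i)) = (LieAlgebra.ad k L' (φ (b i))) ∘ₗ φ.toLinearMap := by
      apply b.ext
      intro j
      simpa using key i j
    exact congrArg (fun f : L →ₗ[k] L' => f y) h1
  have key3 : ∀ (x y : L), φ ⁅x, y⁆ = ⁅φ x, φ y⁆ := by
    intro x y
    have h1 : φ.toLinearMap ∘ₗ (LieAlgebra.ad k L y) = (LieAlgebra.ad k L' (φ y)) ∘ₗ φ.toLinearMap := by
      apply b.ext
      intro j
      have := key2 j y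
      simp only [LinearMap.coe_comp, Function.comp_apply, LieAlgebra.ad_apply, LinearEquiv.coe_coe]
      rw [← lie_skew, map_neg, this, lie_skew]
    have h2 := congrArg (fun f : L →ₗ[k] L' => f x) h1
    simp only [LinearMap.coe_comp, Function.comp_apply, LieAlgebra.ad_apply, LinearEquiv.coe_coe] at h2
    rw [← lie_skew, map_neg, h2, lie_skew]
  exact ⟨{ φ with map_lie' := fun {x y} => key3 x y }⟩

/-- Let k be a field and t, t' ∈ k both non-zero; let L be a Lie algebra over k with a basis x = b 0, y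
= b 1, z = b 2 and brackets [x,y] = y, [x,z] = t z, [y,z] = 0, and L' a Lie algebra over k with a
basis x' = b' 0, y' = b' 1, z' = b' 2 and brackets [x',y'] = y', [x',z'] = t' z', [y',z'] = 0. Then
L and L' are isomorphic Lie algebras over k if and only if t' = t or t' = t⁻¹. -/
theorem result (k : Type u) [Field k] (t t' : k) (ht : t ≠ 0) (ht' : t' ≠ 0)
    (L : Type v) [LieRing L] [LieAlgebra k L] (b : Module.Basis (Fin 3) k L)
    (h01 : ⁅b 0, b 1⁆ = b 1) (h02 : ⁅b 0, b 2⁆ = t • b 2) (h12 : ⁅b 1, b 2⁆ = 0)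
    (L' : Type w) [LieRing L'] [LieAlgebra k L'] (b' : Module.Basis (Fin 3) k L')
    (h01' : ⁅b' 0, b' 1⁆ = b' 1) (h02' : ⁅b' 0, b' 2⁆ = t' • b' 2) (h12' : ⁅b' 1, b' 2⁆ = 0) :
    Nonempty (L ≃ₗ⁅k⁆ L') ↔ (t' = t ∨ t' = t⁻¹) := by
  constructor
  · rintro ⟨φ⟩
    exact aux k t t' ht L b h01 h02 L' b' h01' h02' h12' φ
  · rintro (rfl | rfl)
    · have e : ∀ i, (b.equiv b' (Equiv.refl _)) (b i) = b' i := by intro i; simp
      apply mkEquiv k L b L' (b.equiv b' (Equiv.refl _))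
      · rw [h01, e, e, h01']
      · rw [h02, map_smul, e, e, h02']
      · rw [h12, map_zero, e, e, h12']
    · -- x ↦ t x', y ↦ z', z ↦ y'
      have htu : IsUnit t := IsUnit.mk0 _ ht
      let w : Fin 3 → kˣ := ![htu.unit, 1, 1]
      let c := (b'.reindex (Equiv.swap (1 : Fin 3) 2)).unitsSMul w
      have c0 : c 0 = t • b' 0 := by
        simp [c, w, Module.Basis.unitsSMul_apply, Module.Basis.reindex_apply, Equiv.swap_apply_def]
      have c1 : c 1 = b' 2 := by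
        simp [c, w, Module.Basis.unitsSMul_apply, Module.Basis.reindex_apply, Equiv.swap_apply_def]
      have c2 : c 2 = b' 1 := by
        simp [c, w, Module.Basis.unitsSMul_apply, Module.Basis.reindex_apply, Equiv.swap_apply_def]
      have e : ∀ i, (b.equiv c (Equiv.refl _)) (b i) = c i := by intro i; simp
      apply mkEquiv k L b L' (b.equiv c (Equiv.refl _))
      · rw [h01, e, e, c0, c1, smul_lie, h02', smul_smul, mul_inv_cancel₀ ht, one_smul]
      · rw [h02, map_smul, e, e, c0, c2, smul_lie, h01']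
      · rw [h12, map_zero, e, e, c1, c2, ← lie_skew, h12', neg_zero]

end Groth.Agent.S13108
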