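import Groth.Statements.S13109
import Groth.Agent.HTop.K347.PtFunNormal
import Groth.Agent.HTop.K347.SubIntAdjoin

set_option autoImplicit false
universe u
open HTop

namespace Groth.Agent.S13109

open CategoryTheory AlgebraicGeometry W4c1hilbchowinc K347.PtFunEv

/-- The value of a pointwise function on `Spec A` at a prime `p`, as a quotient of elements of `A`, and
its image at the points over `p`. -/
theorem exists_quot {A : Type u} [CommRing A] (f : PtFun (Spec (CommRingCat.of A))) (p : Ideal A)
    [p.IsPrime] : ∃ a s : A, s ∉ p ∧ algebraMap A p.ResidueField s *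
      ev f (Spec.map (CommRingCat.ofHom (algebraMap A p.ResidueField))) =
      algebraMap A p.ResidueField a := by
  obtain ⟨x, y, hy, hxy⟩ := IsFractionRing.div_surjective (A := A ⧸ p)
    (ev f (Spec.map (CommRingCat.ofHom (algebraMap A p.ResidueField))))
  obtain ⟨a, rfl⟩ := Ideal.Quotient.mk_surjective x
  obtain ⟨s, rfl⟩ := Ideal.Quotient.mk_surjective y
  have hs : s ∉ p := by
    intro h
    rw [Ideal.Quotient.eq_zero_iff_mem.2 h] at hy
    exact zero_notMem_nonZeroDivisors hy
  have hs0 : algebraMap A p.ResidueField s ≠ 0 := by
    rwa [Ne, ← RingHom.mem_ker, Ideal.ker_algebraMap_residueField]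
  refine ⟨a, s, hs, ?_⟩
  rw [← hxy]
  have h1 : algebraMap (A ⧸ p) p.ResidueField (Ideal.Quotient.mk p s) =
    algebraMap A p.ResidueField s := rfl
  have h2 : algebraMap (A ⧸ p) p.ResidueField (Ideal.Quotient.mk p a) =
    algebraMap A p.ResidueField a := rfl
  rw [h1, h2, mul_div_cancel₀ _ hs0]

open AlgebraicGeometry W4c1hilbchowinc in
/-- Let A be a Noetherian seminormal ring whose integral closure in its total ring of fractions is a
finite A-module. Then a pointwise function on Spec A — one element of the residue field κ(y) for
every point y — which varies algebraically along complete discrete valuation rings (for every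
complete discrete valuation ring R and every morphism Spec R → Spec A there is an element of R whose
values at the two points of Spec R are the images of the chosen values) is the family of values of
exactly one global section. Seminormal is meant in the sense that x^3 = y^2 forces x = a^2 and y =
a^3 for a unique a, which for reduced Noetherian rings is equivalent to the criterion on elements of
the total ring of fractions; test rings range over the universe of A. -/
theorem result
    (A : Type u) [CommRing A] [IsNoetherianRing A] (hA : HTop.IsSeminormalRing A)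
    (hfin : Module.Finite A (integralClosure A (FractionRing A)))
    (f : PtFun (Spec (CommRingCat.of A))) (hf : f.VariesAlongCompleteDVR) :
    ∃! a : Γ(Spec (CommRingCat.of A), ⊤), PtFun.ofSection (Spec (CommRingCat.of A)) a = f := by
  have hredA : _root_.IsReduced A := K347.SubInt.isReduced_of_isSeminormalRing hA
  have hred : _root_.IsReduced (CommRingCat.of A) := hredA
  have hred' : AlgebraicGeometry.IsReduced (Spec (CommRingCat.of A)) := inferInstance
  have hf' : f.VariesAlongDVR := K347.PtFunVary.variesAlongDVR_of_variesAlongCompleteDVR hf
  let K := FractionRing A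
  let B := integralClosure A K
  have hredK : _root_.IsReduced K := isReduced_localizationPreserves (nonZeroDivisors A) K hredA
  have hredB : _root_.IsReduced B := isReduced_of_injective B.val Subtype.val_injective
  have hnoeB : IsNoetherianRing B := IsNoetherianRing.of_finite A B
  have hfracB : IsFractionRing B K := Groth.Agent.Ega4C.NormalRing.isFractionRing_subalgebra B
  have hicB : IsIntegrallyClosed B := (isIntegrallyClosed_iff_isIntegrallyClosedIn K).2 inferInstance
  have hinj : Function.Injective (algebraMap A B) := by
    intro x y hxy
    exact IsFractionRing.injective A K (congrArg (fun z : B => (z : K)) hxy)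
  obtain ⟨b, hb⟩ := K347.PtFunNormal.exists_section B
    (f.pullback (Spec.map (CommRingCat.ofHom (algebraMap A B)))) (K347.PtFunNormal.varies_pullback hf' _)
  have hval : ∀ (p : Ideal A) [p.IsPrime] (q : Ideal B) [q.IsPrime] (hqp : p = q.comap (algebraMap A B)),
      algebraMap B q.ResidueField b = Ideal.ResidueField.map p q (algebraMap A B) hqp
        (ev f (Spec.map (CommRingCat.ofHom (algebraMap A p.ResidueField)))) := by
    intro p _ q _ hqp
    rw [← ev_sec B b, hb, ev_pullback, ← Spec.map_comp]
    have h1 := ev_map f (Spec.map (CommRingCat.ofHom (algebraMap A p.ResidueField)))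
      (CommRingCat.ofHom (Ideal.ResidueField.map p q (algebraMap A B) hqp))
    rw [← Spec.map_comp] at h1
    refine Eq.trans ?_ h1
    congr 2
    refine congrArg CommRingCat.ofHom (RingHom.ext fun r => ?_)
    exact (Ideal.ResidueField.map_algebraMap p q (algebraMap A B) hqp r).symm
  obtain ⟨a, ha⟩ := K347.SubIntAdjoin.mem_range_of_isIntegral (E := B)
    (fun x y h => (hA x y h).exists) hinj b (by
    intro p hp
    obtain ⟨a, s, hs, has⟩ := exists_quot f p
    refine ⟨a, s, hs, fun q hq hqp => ?_⟩
    rw [← Ideal.ker_algebraMap_residueField q, RingHom.mem_ker, map_sub, map_mul, hval p q hqp.symm,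
      ← Ideal.ResidueField.map_algebraMap p q (algebraMap A B) hqp.symm,
      ← Ideal.ResidueField.map_algebraMap p q (algebraMap A B) hqp.symm, ← map_mul, has, sub_self])
  refine ⟨sec A a, ?_, fun c hc => K347.PtFunBasic.ofSection_injective (hc.trans ?_)⟩
  all_goals
    have hfin : PtFun.ofSection (Spec (CommRingCat.of A)) (sec A a) = f := by
      funext x
      obtain ⟨q, -, hq, hqp⟩ := Ideal.exists_ideal_over_prime_of_isIntegral x.asIdeal (⊥ : Ideal B) (by
        intro a ha
        rw [Ideal.mem_comap, Ideal.mem_bot] at ha
        have h0 : a = 0 := hinj (by rw [ha, map_zero])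
        rw [h0]
        exact zero_mem _)
      refine eq_of_ev_eq (Spec.map (CommRingCat.ofHom (algebraMap B q.ResidueField)) ≫
        Spec.map (CommRingCat.ofHom (algebraMap A B))) x ?_ ?_
      · rw [← Spec.map_comp]
        apply PrimeSpectrum.ext
        refine Eq.trans (map_closedPoint_asIdeal A
          ((algebraMap B q.ResidueField).comp (algebraMap A B))) ?_
        rw [← RingHom.comap_ker, Ideal.ker_algebraMap_residueField]
        exact hqp
      · rw [← ev_pullback f, ← hb, ev_sec, ← Spec.map_comp]
        have h1 := ev_sec A a ((algebraMap B q.ResidueField).comp (algebraMap A B))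
        refine Eq.trans h1 ?_
        rw [RingHom.comp_apply, ha]
  · exact hfin
  · exact hfin.symm

end Groth.Agent.S13109
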