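import Groth.Statements.S13111
import Groth.Agent.HTop.K347.PtFunBasic
import Mathlib.RingTheory.Polynomial.RationalRoot

set_option autoImplicit false
universe u
open HTop

namespace Groth.Agent.S13111

open CategoryTheory AlgebraicGeometry W4c1hilbchowinc K347.PtFunBasic

/-- The pointwise function `y / x`. -/
noncomputable def quot {X : Scheme.{u}} (x y : Γ(X, ⊤)) : PtFun X :=
  fun p => X.Γevaluation p y / X.Γevaluation p x

theorem quot_pullback {X Y : Scheme.{u}} (g : Y ⟶ X) (x y : Γ(X, ⊤)) :
    (quot x y).pullback g = quot (g.appTop x) (g.appTop y) := by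
  funext p
  change g.residueFieldMap p (X.Γevaluation (g p) y / X.Γevaluation (g p) x) = _
  have h : ∀ a b : X.residueField (g p), g.residueFieldMap p (a / b) =
    g.residueFieldMap p a / g.residueFieldMap p b := fun a b => map_div₀ (g.residueFieldMap p).hom a b
  rw [h, Scheme.Γevaluation_naturality_apply, Scheme.Γevaluation_naturality_apply]
  rfl

theorem quot_eq {X : Scheme.{u}} {x y t : Γ(X, ⊤)} (hx : x = t ^ 2) (hy : y = t ^ 3) :
    quot x y = PtFun.ofSection X t := by
  funext p
  change X.Γevaluation p y / X.Γevaluation p x = X.Γevaluation p t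
  rw [hx, hy, map_pow, map_pow]
  by_cases h : X.Γevaluation p t = 0
  · rw [h]
    simp
  · rw [pow_succ, mul_comm, mul_div_assoc, div_self (pow_ne_zero 2 h), mul_one]

theorem quot_varies {X : Scheme.{u}} {x y : Γ(X, ⊤)} (h : x ^ 3 = y ^ 2) : (quot x y).VariesAlongDVR := by
  intro R _ _ _ g
  rw [quot_pullback]
  let e : Γ(Spec (CommRingCat.of R), ⊤) ≅ CommRingCat.of R := Scheme.ΓSpecIso (CommRingCat.of R)
  obtain ⟨t, ht1, ht2⟩ := exists_sq_cube (R := R) (x := e.hom (g.appTop x)) (y := e.hom (g.appTop y))
    (by rw [← map_pow, ← map_pow, ← map_pow, ← map_pow, h])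
  have he : ∀ z : Γ(Spec (CommRingCat.of R), ⊤), e.inv (e.hom z) = z := fun z => by
    have := congrArg (fun g : Γ(Spec (CommRingCat.of R), ⊤) ⟶ Γ(Spec (CommRingCat.of R), ⊤) => g z)
      e.hom_inv_id
    exact this
  refine ⟨e.inv t, (quot_eq ?_ ?_).symm⟩
  · rw [← map_pow, ← ht1, he]
  · rw [← map_pow, ← ht2, he]

theorem sq_cube_of_ofSection {X : Scheme.{u}} [AlgebraicGeometry.IsReduced X] {x y a : Γ(X, ⊤)} (h : x ^ 3 = y ^ 2)
    (ha : PtFun.ofSection X a = quot x y) : x = a ^ 2 ∧ y = a ^ 3 := by
  have hp : ∀ p : X, X.Γevaluation p a = X.Γevaluation p y / X.Γevaluation p x := fun p => congrFun ha p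
  have h' : ∀ p : X, X.Γevaluation p x ^ 3 = X.Γevaluation p y ^ 2 := fun p => by
    rw [← map_pow, h, map_pow]
  constructor
  · apply ext_of_evaluation
    intro p
    rw [map_pow, hp]
    by_cases hx : X.Γevaluation p x = 0
    · rw [hx]
      simp
    · rw [div_pow, ← h', pow_succ, mul_comm, mul_div_assoc, div_self (pow_ne_zero 2 hx), mul_one]
  · apply ext_of_evaluation
    intro p
    rw [map_pow, hp]
    have h1 := h' p
    by_cases hx : X.Γevaluation p x = 0
    · rw [hx, zero_pow three_ne_zero] at h1
      rw [hx, pow_eq_zero_iff two_ne_zero |>.1 h1.symm]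
      simp
    · rw [div_pow, h1, pow_succ, mul_comm, mul_div_assoc]
      rw [div_self, mul_one]
      rw [← h1]
      exact pow_ne_zero 3 hx

open AlgebraicGeometry W4c1hilbchowinc in
/-- Let A be a reduced Noetherian ring whose integral closure in its total ring of fractions is a finite
A-module. Suppose that any pointwise function on Spec A that is algebraic along every discrete
valuation ring (for every discrete valuation ring R and every morphism Spec R → Spec A there is an
element of R whose values at the two points of Spec R are the images of the chosen values) is the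
family of values of exactly one global section. Then A is seminormal: whenever x^3 = y^2 there is
exactly one a with x = a^2 and y = a^3. Test rings range over the universe of A. -/
theorem result
    (A : Type u) [CommRing A] [IsReduced A] [IsNoetherianRing A]
    (hfin : Module.Finite A (integralClosure A (FractionRing A)))
    (h : ∀ f : PtFun (Spec (CommRingCat.of A)), f.VariesAlongDVR →
      ∃! a : Γ(Spec (CommRingCat.of A), ⊤), PtFun.ofSection (Spec (CommRingCat.of A)) a = f) :
    HTop.IsSeminormalRing A := by
  intro x y hxy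
  have hred : _root_.IsReduced (CommRingCat.of A) := ‹_root_.IsReduced A›
  have hred' : AlgebraicGeometry.IsReduced (Spec (CommRingCat.of A)) := inferInstance
  let e : Γ(Spec (CommRingCat.of A), ⊤) ≅ CommRingCat.of A := Scheme.ΓSpecIso (CommRingCat.of A)
  have he : ∀ z : A, e.hom (e.inv z) = z := fun z => by
    have := congrArg (fun g : CommRingCat.of A ⟶ CommRingCat.of A => g z) e.inv_hom_id
    exact this
  have h1 : (e.inv x) ^ 3 = (e.inv y) ^ 2 := by
    rw [← map_pow, ← map_pow]
    exact congrArg _ hxy
  obtain ⟨a, ha, -⟩ := h _ (quot_varies h1)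
  obtain ⟨h2, h3⟩ := sq_cube_of_ofSection h1 ha
  refine ⟨e.hom a, ⟨?_, ?_⟩, ?_⟩
  · rw [← map_pow, ← h2, he]
  · rw [← map_pow, ← h3, he]
  · rintro b ⟨hb2, hb3⟩
    apply K347.SubInt.eq_of_sq_of_cube
    · rw [← hb2, ← map_pow, ← h2, he]
    · rw [← hb3, ← map_pow, ← h3, he]

end Groth.Agent.S13111
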