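import Groth.Statements.S13112
import Groth.Agent.HTop.K347.SubIntScheme
import Groth.Agent.Ega1.ReducedSub
import Mathlib.AlgebraicGeometry.ZariskisMainTheorem

set_option autoImplicit false
universe u
open HTop

namespace Groth.Agent.S13112

open CategoryTheory CategoryTheory.Limits AlgebraicGeometry

/-- A morphism with a section over `Spec κ(t)` has trivial residue field extension at the point of the
section. -/
theorem residueFieldMap_surjective {X Y : Scheme.{u}} (ν : Y ⟶ X) (t : X)
    (l : Spec (X.residueField t) ⟶ Y) (hl : l ≫ ν = X.fromSpecResidueField t) (y : Y)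
    (hy : l (IsLocalRing.closedPoint (X.residueField t)) = y) :
    Function.Surjective (ν.residueFieldMap y) := by
  subst hy
  set y : Y := l (IsLocalRing.closedPoint (X.residueField t)) with hy
  have hνy : ν y = t := by
    have h := congrArg (fun g : Spec (X.residueField t) ⟶ X =>
      g (IsLocalRing.closedPoint (X.residueField t))) hl
    simp only [Scheme.Hom.comp_apply] at h
    rw [hy, h, Scheme.fromSpecResidueField_apply]
  let φ : Y.residueField y ⟶ X.residueField t :=
    Y.descResidueField (K := X.residueField t) (Scheme.stalkClosedPointTo l)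
  have hφ : Spec.map φ ≫ Y.fromSpecResidueField y = l :=
    Scheme.descResidueField_stalkClosedPointTo_fromSpecResidueField (X.residueField t) Y l
  have h1 : Spec.map (ν.residueFieldMap y ≫ φ) ≫ X.fromSpecResidueField (ν y) =
      Spec.map (X.residueFieldCongr hνy).hom ≫ X.fromSpecResidueField (ν y) := by
    rw [Spec.map_comp, Category.assoc, Scheme.Hom.SpecMap_residueFieldMap_fromSpecResidueField,
      reassoc_of% hφ, hl, Scheme.residueFieldCongr_fromSpecResidueField]
  rw [cancel_mono] at h1
  have h2 := Spec.map_injective h1
  intro z
  have hinj : Function.Injective φ.hom := φ.hom.injective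
  refine ⟨(X.residueFieldCongr hνy).inv (φ z), hinj ?_⟩
  have h3 := congrArg (fun g : X.residueField (ν y) ⟶ X.residueField t =>
    g ((X.residueFieldCongr hνy).inv (φ z))) h2
  simp only [CommRingCat.comp_apply] at h3
  refine h3.trans ?_
  have h4 := (X.residueFieldCongr hνy).inv_hom_id
  have h5 := congrArg (fun g : X.residueField t ⟶ X.residueField t => g (φ z)) h4
  exact h5

open CategoryTheory AlgebraicGeometry in
/-- Let k be a field, T a seminormal scheme of finite type over k, and f : X → Y a proper universally
injective k-morphism of schemes locally of finite type over k. If a morphism of schemes g : T → Y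
lifts through f at every point of T, i.e. for every t the composite Spec κ(t) → T → Y factors
through f, then g itself factors through f. -/
theorem result
    {k : Type u} [Field k] {T X Y : Scheme.{u}}
    (sT : T ⟶ Spec (CommRingCat.of k)) (sX : X ⟶ Spec (CommRingCat.of k)) (sY : Y ⟶ Spec (CommRingCat.of k))
    [LocallyOfFiniteType sT] [QuasiCompact sT] [LocallyOfFiniteType sX] [LocallyOfFiniteType sY]
    (hT : HTop.IsSeminormal T)
    (f : X ⟶ Y) (hf : f ≫ sY = sX) [IsProper f] [UniversallyInjective f]
    (g : T ⟶ Y)
    (hlift : ∀ t : T, ∃ l : Spec (T.residueField t) ⟶ X, l ≫ f = T.fromSpecResidueField t ≫ g) :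
    ∃ h : T ⟶ X, h ≫ f = g := by
  let P : Scheme.{u} := pullback f g
  let p : P ⟶ T := pullback.snd f g
  let i : P.nilradical.subscheme ⟶ P := P.nilradical.subschemeι
  have hred : IsReduced P.nilradical.subscheme := by
    rw [← Scheme.IdealSheafData.radical_bot]
    exact Ega1.ReducedSub.isReduced_subscheme_radical _
  have hi : Function.Surjective i := by
    rw [← Set.range_eq_univ, Scheme.IdealSheafData.range_subschemeι, Scheme.support_nilradical]
    rfl
  let ν : P.nilradical.subscheme ⟶ T := i ≫ p
  have hp : IsProper p := inferInstanceAs (IsProper (pullback.snd f g))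
  have hpu : UniversallyInjective p := MorphismProperty.pullback_snd f g ‹UniversallyInjective f›
  have hinj : Function.Injective ν := by
    intro a b hab
    exact i.isEmbedding.injective (p.injective hab)
  have hνp : IsProper ν := inferInstance
  have hqf : LocallyQuasiFinite ν := LocallyQuasiFinite.of_injective hinj
  have hfin : IsFinite ν := IsFinite.of_isProper_of_locallyQuasiFinite ν
  -- the sections over the residue fields
  have hsec : ∀ t : T, ∃ l : Spec (T.residueField t) ⟶ P.nilradical.subscheme,
      l ≫ ν = T.fromSpecResidueField t := by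
    intro t
    obtain ⟨l, hl⟩ := hlift t
    obtain ⟨l', hl'⟩ := Ega1.ReducedSub.exists_factor_of_range_subset
      (pullback.lift l (T.fromSpecResidueField t) hl) i (by
        rw [hi.range_eq]
        exact Set.subset_univ _)
    exact ⟨l', by rw [← Category.assoc, hl', pullback.lift_snd]⟩
  have hpt : ∀ (t : T) (l : Spec (T.residueField t) ⟶ P.nilradical.subscheme),
      l ≫ ν = T.fromSpecResidueField t → ν (l (IsLocalRing.closedPoint (T.residueField t))) = t := by
    intro t l hl
    have h := congrArg (fun g : Spec (T.residueField t) ⟶ T =>
      g (IsLocalRing.closedPoint (T.residueField t))) hl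
    simp only [Scheme.Hom.comp_apply] at h
    rw [Scheme.fromSpecResidueField_apply] at h
    exact h
  have hsurj : Function.Surjective ν := by
    intro t
    obtain ⟨l, hl⟩ := hsec t
    exact ⟨_, hpt t l hl⟩
  have hres : ∀ y, Function.Surjective (ν.residueFieldMap y) := by
    intro y
    obtain ⟨l, hl⟩ := hsec (ν y)
    exact residueFieldMap_surjective ν (ν y) l hl y (hinj (hpt _ l hl))
  have hiso : IsIso ν := K347.SubIntScheme.isIso_of_isSeminormal ν hT hsurj hinj hres
  refine ⟨inv ν ≫ i ≫ pullback.fst f g, ?_⟩
  rw [Category.assoc, Category.assoc, pullback.condition]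
  change inv ν ≫ i ≫ p ≫ g = g
  rw [← Category.assoc i, IsIso.inv_hom_id_assoc]

end Groth.Agent.S13112
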