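import Groth.Statements.S13113
import Groth.Agent.HTop.K347.DescSection

set_option autoImplicit false
universe u
open HTop

namespace Groth.Agent.S13113

open CategoryTheory CategoryTheory.Limits AlgebraicGeometry Opposite TopologicalSpace

theorem isReduced_of_isSeminormal {X : Scheme.{u}} (hX : HTop.IsSeminormal X) : IsReduced X := by
  choose U hxU hU using hX
  refine @isReduced_of_isReduced_stalk X fun x => ?_
  have h1 : _root_.IsReduced Γ(X, (U x : X.Opens)) := K347.SubInt.isReduced_of_isSeminormalRing (hU x)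
  let _ : Algebra Γ(X, (U x : X.Opens)) (X.presheaf.stalk x) :=
    (X.presheaf.germ (U x) x (hxU x)).hom.toAlgebra
  have hloc := (U x).2.isLocalization_stalk ⟨x, hxU x⟩
  exact isReduced_localizationPreserves ((U x).2.primeIdealOf ⟨x, hxU x⟩).asIdeal.primeCompl
    (X.presheaf.stalk x) h1

theorem map_map {Y : Scheme.{u}} {A B C : Y.Opens} (h : A ≤ B) (h' : B ≤ C) (z : Γ(Y, C)) :
    Y.presheaf.map (homOfLE h).op (Y.presheaf.map (homOfLE h').op z) =
      Y.presheaf.map (homOfLE (h.trans h')).op z := by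
  rw [← CommRingCat.comp_apply, ← Functor.map_comp, ← op_comp]
  rfl

theorem local_statement {X Y : Scheme.{u}} (π : Y ⟶ X) [UniversallyClosed π] (hπ : Function.Surjective π)
    [IsReduced Y] (s : Γ(Y, ⊤)) (hs : (pullback.fst π π).appTop s = (pullback.snd π π).appTop s)
    {U : X.Opens} (hU : IsAffineOpen U) (hsn : HTop.IsSeminormalRing Γ(X, U)) :
    ∃ t : Γ(X, U.ι ''ᵁ ⊤), π.app (U.ι ''ᵁ ⊤) t = Y.presheaf.map (homOfLE le_top).op s := by
  let g : (π ⁻¹ᵁ U).toScheme ⟶ U.toScheme := π ∣_ U
  have hUaff : IsAffine U.toScheme := hU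
  have hgs : Surjective g := by
    have : Surjective π := ⟨hπ⟩
    exact IsZariskiLocalAtTarget.restrict ‹_› U
  have hgc : UniversallyClosed g := IsZariskiLocalAtTarget.restrict ‹_› U
  have hsn' : HTop.IsSeminormalRing Γ(U.toScheme, ⊤) := by
    have e : U.ι ''ᵁ ⊤ = U := U.ι_image_top
    change HTop.IsSeminormalRing Γ(X, U.ι ''ᵁ ⊤)
    rw [e]
    exact hsn
  let m : pullback g g ⟶ pullback π π := pullback.lift (pullback.fst g g ≫ (π ⁻¹ᵁ U).ι)
    (pullback.snd g g ≫ (π ⁻¹ᵁ U).ι) (by
      have e : g ≫ U.ι = (π ⁻¹ᵁ U).ι ≫ π := morphismRestrict_ι π U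
      rw [Category.assoc, Category.assoc, ← e, ← Category.assoc, ← Category.assoc, pullback.condition])
  have hs' : (pullback.fst g g).appTop ((π ⁻¹ᵁ U).ι.appTop s) =
      (pullback.snd g g).appTop ((π ⁻¹ᵁ U).ι.appTop s) := by
    have h1 : pullback.fst g g ≫ (π ⁻¹ᵁ U).ι = m ≫ pullback.fst π π := (pullback.lift_fst _ _ _).symm
    have h2 : pullback.snd g g ≫ (π ⁻¹ᵁ U).ι = m ≫ pullback.snd π π := (pullback.lift_snd _ _ _).symm
    have h3 : (pullback.fst g g ≫ (π ⁻¹ᵁ U).ι).appTop s = (pullback.snd g g ≫ (π ⁻¹ᵁ U).ι).appTop s := by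
      rw [h1, h2, Scheme.Hom.comp_appTop, Scheme.Hom.comp_appTop, CommRingCat.comp_apply,
        CommRingCat.comp_apply, hs]
    rw [Scheme.Hom.comp_appTop, Scheme.Hom.comp_appTop] at h3
    exact h3
  obtain ⟨t, ht⟩ := K347.DescSection.exists_appTop_eq g hgs.surj hsn' ((π ⁻¹ᵁ U).ι.appTop s) hs'
  refine ⟨t, ?_⟩
  have h1 : g.appTop = π.app (U.ι ''ᵁ ⊤) ≫
      Y.presheaf.map (eqToHom (image_morphismRestrict_preimage π U ⊤)).op := morphismRestrict_appTop π U
  rw [h1] at ht
  have h2 := congrArg (Y.presheaf.map (eqToHom (image_morphismRestrict_preimage π U ⊤).symm).op) ht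
  have h3 : Y.presheaf.map (eqToHom (image_morphismRestrict_preimage π U ⊤).symm).op
      ((π.app (U.ι ''ᵁ ⊤) ≫ Y.presheaf.map (eqToHom (image_morphismRestrict_preimage π U ⊤)).op) t) =
      π.app (U.ι ''ᵁ ⊤) t := by
    rw [CommRingCat.comp_apply, ← CommRingCat.comp_apply, ← Functor.map_comp]
    rw [← op_comp, eqToHom_trans, eqToHom_refl, op_id, CategoryTheory.Functor.map_id]
    rfl
  refine h3.symm.trans (h2.trans ?_)
  exact map_map (Y := Y) (image_morphismRestrict_preimage π U ⊤).ge le_top s

open CategoryTheory CategoryTheory.Limits AlgebraicGeometry in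
/-- Let k be a field, X a seminormal scheme of finite type over k and π : Y → X a proper surjective
morphism with Y reduced. Then a global section s of the structure sheaf of Y whose pullbacks along
the two projections Y ×_X Y → Y coincide is the pullback along π of exactly one global section of
the structure sheaf of X. (The published statement also treats non-reduced Y, where the structure
sheaf of X is only a canonical direct summand of the equaliser; this row is the reduced case, where
the two agree.) -/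
theorem result
    {k : Type u} [Field k] {X Y : Scheme.{u}} (sX : X ⟶ Spec (CommRingCat.of k))
    [LocallyOfFiniteType sX] [QuasiCompact sX] (hX : HTop.IsSeminormal X)
    (π : Y ⟶ X) [IsProper π] [Surjective π] [IsReduced Y]
    (s : Γ(Y, ⊤)) (hs : (pullback.fst π π).appTop s = (pullback.snd π π).appTop s) :
    ∃! t : Γ(X, ⊤), π.appTop t = s := by
  have hred : IsReduced X := isReduced_of_isSeminormal hX
  have hinj : ∀ U : X.Opens, Function.Injective (π.app U) := by
    intro U
    rw [injective_iff_map_eq_zero]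
    intro a ha
    apply eq_zero_of_basicOpen_eq_bot
    rw [eq_bot_iff]
    intro x hx
    obtain ⟨y, rfl⟩ := π.surjective x
    have h2 : y ∈ π ⁻¹ᵁ X.basicOpen a := hx
    rw [Scheme.preimage_basicOpen, ha, Scheme.basicOpen_zero] at h2
    exact h2
  choose U hxU hU using hX
  have hloc := fun x : X => local_statement π π.surjective s hs (U x).2 (hU x)
  choose t ht using hloc
  let W : X → X.Opens := fun x => (U x : X.Opens).ι ''ᵁ ⊤
  have hcov : (⊤ : X.Opens) ≤ iSup W := by
    intro x _
    rw [Opens.mem_iSup]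
    refine ⟨x, ?_⟩
    change x ∈ (U x : X.Opens).ι ''ᵁ ⊤
    rw [(U x : X.Opens).ι_image_top]
    exact hxU x
  obtain ⟨t₀, ht₀, -⟩ := X.sheaf.existsUnique_gluing' W ⊤ (fun x => homOfLE le_top) hcov t (by
    intro i j
    apply hinj
    have hnat : ∀ (A B : X.Opens) (h : A ≤ B) (z : Γ(X, B)),
        π.app A (X.presheaf.map (homOfLE h).op z) = Y.presheaf.map (homOfLE (π.preimage_mono h)).op
          (π.app B z) := by
      intro A B h z
      have := congrArg (fun f => f z) (π.naturality (homOfLE h).op)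
      exact this
    have h1 := hnat (W i ⊓ W j) (W i) inf_le_left (t i)
    have h2 := hnat (W i ⊓ W j) (W j) inf_le_right (t j)
    rw [ht, map_map] at h1 h2
    exact h1.trans h2.symm)
  have h0 : π.appTop t₀ = s := by
    refine Y.sheaf.eq_of_locally_eq' (fun x => π ⁻¹ᵁ (W x)) ⊤ (fun x => homOfLE le_top) ?_ _ _ ?_
    · intro y _
      rw [Opens.mem_iSup]
      have := hcov (x := π y) trivial
      rw [Opens.mem_iSup] at this
      exact this
    · intro x
      have hnat := congrArg (fun f => f t₀) (π.naturality (homOfLE (le_top : W x ≤ ⊤)).op)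
      have h1 : π.app (W x) (X.presheaf.map (homOfLE (le_top : W x ≤ ⊤)).op t₀) =
        Y.presheaf.map (homOfLE le_top).op (π.appTop t₀) := hnat
      refine h1.symm.trans ?_
      have h2 : X.presheaf.map (homOfLE (le_top : W x ≤ ⊤)).op t₀ = t x := ht₀ x
      rw [h2]
      exact ht x
  exact ⟨t₀, h0, fun t' ht' => hinj ⊤ (ht'.trans h0.symm)⟩

end Groth.Agent.S13113
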