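import Groth.Statements.S13120
import Groth.Agent.KumFam.K753.Kernel

set_option autoImplicit false
universe u
open KumFam
open K753.Squares K753.Kernel

namespace Groth.Agent.S13120

open MvPolynomial in
/-- Let R be a commutative ring of characteristic 2 and l0, l2, l4, s0, s2, s4, τ ∈ R with τ a unit.
Inside R[u, v] (u = X 0, v = X 1) let A = R[u², u³, v², v³] be the coordinate ring of the product of
two cuspidal curves, and let D be the R-derivation of R[u, v] with D(u) = v²(l0 u⁴ + τ u³ + l2 u² +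
l4) and D(v) = u²(s0 v⁴ + τ v³ + s2 v² + s4); D is u²v² times the rational vector field (l0 u² + τ u
+ l2 + l4 u⁻²) ∂_u + (s0 v² + τ v + s2 + s4 v⁻²) ∂_v, which maps A into itself, and u²v² is a
non-zero-divisor, so the kernel of that vector field on A is the set of a ∈ A with D(a) = 0. Then
for a ∈ A: D(a) = 0 if and only if a ∈ R[u², v², g], where g = (s0 v⁴ + s2 v² + s4) u³ + (l0 u⁴ + l2
u² + l4) v³ + τ u³ v³. (The published statement identifies this kernel with the ring of invariants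
of the corresponding action of the group scheme of square roots of unity; this row states the kernel
computation that is actually carried out.) -/
theorem result (R : Type u) [CommRing R] [CharP R 2]
    (l0 l2 l4 s0 s2 s4 τ : R) (hτ : IsUnit τ) (a : MvPolynomial (Fin 2) R)
    (ha : a ∈ Algebra.adjoin R
      ({X 0 ^ 2, X 0 ^ 3, X 1 ^ 2, X 1 ^ 3} : Set (MvPolynomial (Fin 2) R))) :
    MvPolynomial.mkDerivation R
        (![X 1 ^ 2 * (C l0 * X 0 ^ 4 + C τ * X 0 ^ 3 + C l2 * X 0 ^ 2 + C l4),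
          X 0 ^ 2 * (C s0 * X 1 ^ 4 + C τ * X 1 ^ 3 + C s2 * X 1 ^ 2 + C s4)] :
          Fin 2 → MvPolynomial (Fin 2) R) a = 0 ↔
      a ∈ Algebra.adjoin R
        ({X 0 ^ 2, X 1 ^ 2,
          (C s0 * X 1 ^ 4 + C s2 * X 1 ^ 2 + C s4) * X 0 ^ 3 +
            (C l0 * X 0 ^ 4 + C l2 * X 0 ^ 2 + C l4) * X 1 ^ 3 +
            C τ * X 0 ^ 3 * X 1 ^ 3} : Set (MvPolynomial (Fin 2) R)) := by
  have h2 := K753.Squares.two_eq_zero (R := R)
  obtain ⟨u, hu⟩ := hτ
  set P' : MvPolynomial (Fin 2) R := C l0 * X 0 ^ 2 + C l2 * X 0 + C l4 with hP'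
  set Q' : MvPolynomial (Fin 2) R := C s0 * X 1 ^ 2 + C s2 * X 1 + C s4 with hQ'
  have hEP : E P' = C l0 * X 0 ^ 4 + C l2 * X 0 ^ 2 + C l4 := by
    simp only [hP', map_add, map_mul, map_pow, E_X, E_C]
    ring
  have hEQ : E Q' = C s0 * X 1 ^ 4 + C s2 * X 1 ^ 2 + C s4 := by
    simp only [hQ', map_add, map_mul, map_pow, E_X, E_C]
    ring
  set D := MvPolynomial.mkDerivation R
        (![X 1 ^ 2 * (C l0 * X 0 ^ 4 + C τ * X 0 ^ 3 + C l2 * X 0 ^ 2 + C l4),
          X 0 ^ 2 * (C s0 * X 1 ^ 4 + C τ * X 1 ^ 3 + C s2 * X 1 ^ 2 + C s4)] :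
          Fin 2 → MvPolynomial (Fin 2) R) with hD
  have h0 : D (X 0) = E (X 1 * P') + E (C τ * X 0 * X 1) * X 0 := by
    rw [hD, mkDerivation_X, map_mul, hEP]
    simp only [Matrix.cons_val_zero, map_mul, E_X, E_C]
    ring
  have h1 : D (X 1) = E (X 0 * Q') + E (C τ * X 0 * X 1) * X 1 := by
    rw [hD, mkDerivation_X, map_mul, hEQ]
    simp only [Matrix.cons_val_one, Matrix.cons_val_zero, map_mul, E_X, E_C]
    ring
  rw [← hEP, ← hEQ]
  set g : MvPolynomial (Fin 2) R := E Q' * X 0 ^ 3 + E P' * X 1 ^ 3 + C τ * X 0 ^ 3 * X 1 ^ 3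
    with hg
  have hg' : g = E 0 + E Q' * X 0 ^ 3 + E P' * X 1 ^ 3 + E (C τ) * (X 0 ^ 3 * X 1 ^ 3) := by
    rw [hg, map_zero, E_C]
    ring
  constructor
  · intro h
    obtain ⟨p, q, r, s, rfl⟩ := exists_cusp_decomp ha
    rw [derivation_cusp D h0 h1] at h
    obtain ⟨-, hq, hr, -⟩ := decomp_eq_zero h
    have hq' : q = C (↑u⁻¹ : R) * s * Q' := by
      have h3 : X 0 * (X 0 * (X 1 * (C τ * q))) = X 0 * (X 0 * (X 1 * (s * Q'))) := by
        linear_combination hq - (X 0 * (X 0 * (X 1 * (s * Q')))) * h2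
      have h4 := X_mul_cancel (X_mul_cancel (X_mul_cancel h3))
      have h5 : (C (↑u⁻¹ : R) * C τ : MvPolynomial (Fin 2) R) = 1 := by
        rw [← hu, ← C_mul, Units.inv_mul, C_1]
      linear_combination C (↑u⁻¹ : R) * h4 - q * h5
    have hr' : r = C (↑u⁻¹ : R) * s * P' := by
      have h3 : X 1 * (X 0 * (X 1 * (C τ * r))) = X 1 * (X 0 * (X 1 * (s * P'))) := by
        linear_combination hr - (X 1 * (X 0 * (X 1 * (s * P')))) * h2
      have h4 := X_mul_cancel (X_mul_cancel (X_mul_cancel h3))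
      have h5 : (C (↑u⁻¹ : R) * C τ : MvPolynomial (Fin 2) R) = 1 := by
        rw [← hu, ← C_mul, Units.inv_mul, C_1]
      linear_combination C (↑u⁻¹ : R) * h4 - r * h5
    have h6 : E p + E q * X 0 ^ 3 + E r * X 1 ^ 3 + E s * (X 0 ^ 3 * X 1 ^ 3) =
        E p + E (C (↑u⁻¹ : R) * s) * g := by
      have h5 : (C (↑u⁻¹ : R) * C τ : MvPolynomial (Fin 2) R) = 1 := by
        rw [← hu, ← C_mul, Units.inv_mul, C_1]
      rw [hq', hr', hg]
      simp only [map_mul, E_C]
      linear_combination (-(E s * X 0 ^ 3 * X 1 ^ 3)) * h5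
    rw [h6]
    have hS0 : (X 0 : MvPolynomial (Fin 2) R) ^ 2 ∈ Algebra.adjoin R {X 0 ^ 2, X 1 ^ 2, g} :=
      Algebra.subset_adjoin (by simp)
    have hS1 : (X 1 : MvPolynomial (Fin 2) R) ^ 2 ∈ Algebra.adjoin R {X 0 ^ 2, X 1 ^ 2, g} :=
      Algebra.subset_adjoin (by simp)
    have hS2 : g ∈ Algebra.adjoin R {X 0 ^ 2, X 1 ^ 2, g} := Algebra.subset_adjoin (by simp)
    exact Subalgebra.add_mem _ (E_mem_adjoin _ hS0 hS1 _)
      (Subalgebra.mul_mem _ (E_mem_adjoin _ hS0 hS1 _) hS2)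
  · intro h
    have hDg : D g = 0 := by
      rw [hg', derivation_cusp D h0 h1]
      simp only [map_add, map_mul, E_X, E_C, map_zero, zero_mul, add_zero]
      linear_combination (X 0 ^ 2 * X 1 ^ 2 * E P' * E Q' +
        X 0 ^ 2 * X 0 ^ 2 * X 1 ^ 2 * C τ * E Q' * X 0 +
        X 0 ^ 2 * X 1 ^ 2 * X 1 ^ 2 * C τ * E P' * X 1) * h2
    clear ha
    induction h using Algebra.adjoin_induction with
    | mem x hx =>
      simp only [Set.mem_insert_iff, Set.mem_singleton_iff] at hx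
      rcases hx with rfl | rfl | rfl
      · rw [← E_X]; exact derivation_E D _
      · rw [← E_X]; exact derivation_E D _
      · exact hDg
    | algebraMap r => exact D.map_algebraMap r
    | add x y _ _ hx hy => rw [map_add, hx, hy, add_zero]
    | mul x y _ _ hx hy => rw [Derivation.leibniz, hx, hy, smul_zero, smul_zero, add_zero]

end Groth.Agent.S13120
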