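import Groth.Statements.S13121
import Groth.Agent.KumFam.K753.Presentation

set_option autoImplicit false
universe u
open KumFam
open K753.Squares K753.Presentation

namespace Groth.Agent.S13121

open MvPolynomial in
/-- Let R be a commutative ring of characteristic 2 and l0, l2, l4, s0, s2, s4, τ ∈ R with τ a unit. In
R[u, v] (u = X 0, v = X 1) put g = (s0 v⁴ + s2 v² + s4) u³ + (l0 u⁴ + l2 u² + l4) v³ + τ u³ v³. Then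
the kernel of the R-algebra homomorphism R[a, b, c] → R[u, v] (a = X 0, b = X 1, c = X 2) with a ↦
u², b ↦ v², c ↦ g is the ideal generated by c² + s0² a³ b⁴ + s2² a³ b² + s4² a³ + l0² a⁴ b³ + l2² a²
b³ + l4² b³ + τ² a³ b³; its image is the subalgebra R[u², v², g], which is therefore presented by
this one equation. -/
theorem result (R : Type u) [CommRing R] [CharP R 2]
    (l0 l2 l4 s0 s2 s4 τ : R) (hτ : IsUnit τ) :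
    RingHom.ker (MvPolynomial.aeval (R := R) (S₁ := MvPolynomial (Fin 2) R)
        ![X 0 ^ 2, X 1 ^ 2,
          (C s0 * X 1 ^ 4 + C s2 * X 1 ^ 2 + C s4) * X 0 ^ 3 +
            (C l0 * X 0 ^ 4 + C l2 * X 0 ^ 2 + C l4) * X 1 ^ 3 +
            C τ * X 0 ^ 3 * X 1 ^ 3]) =
      Ideal.span {(X 2 ^ 2 + C (s0 ^ 2) * X 0 ^ 3 * X 1 ^ 4 + C (s2 ^ 2) * X 0 ^ 3 * X 1 ^ 2 +
        C (s4 ^ 2) * X 0 ^ 3 + C (l0 ^ 2) * X 0 ^ 4 * X 1 ^ 3 + C (l2 ^ 2) * X 0 ^ 2 * X 1 ^ 3 +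
        C (l4 ^ 2) * X 1 ^ 3 + C (τ ^ 2) * X 0 ^ 3 * X 1 ^ 3 : MvPolynomial (Fin 3) R)} := by
  have h2 := K753.Squares.two_eq_zero (R := R)
  obtain ⟨u, hu⟩ := hτ
  have h5 : (C τ * C (↑u⁻¹ : R) : MvPolynomial (Fin 2) R) = 1 := by
    rw [← hu, ← C_mul, Units.mul_inv, C_1]
  have key := ker_eq (R := R)
    (q := (C s0 * X 1 ^ 2 + C s2 * X 1 + C s4) * X 0)
    (r := (C l0 * X 0 ^ 2 + C l2 * X 0 + C l4) * X 1)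
    (s := C τ * X 0 * X 1)
    (G := C (s0 ^ 2) * X 0 ^ 3 * X 1 ^ 4 + C (s2 ^ 2) * X 0 ^ 3 * X 1 ^ 2 +
        C (s4 ^ 2) * X 0 ^ 3 + C (l0 ^ 2) * X 0 ^ 4 * X 1 ^ 3 + C (l2 ^ 2) * X 0 ^ 2 * X 1 ^ 3 +
        C (l4 ^ 2) * X 1 ^ 3 + C (τ ^ 2) * X 0 ^ 3 * X 1 ^ 3)
    (Γ := (C s0 * X 1 ^ 4 + C s2 * X 1 ^ 2 + C s4) * X 0 ^ 3 +
            (C l0 * X 0 ^ 4 + C l2 * X 0 ^ 2 + C l4) * X 1 ^ 3 +
            C τ * X 0 ^ 3 * X 1 ^ 3)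
    (by
      intro p hp
      have h3 : X 0 * (X 1 * (C τ * p)) = X 0 * (X 1 * 0) := by linear_combination hp
      have h4 := X_mul_cancel (X_mul_cancel h3)
      linear_combination C (↑u⁻¹ : R) * h4 - p * h5)
    (by
      simp only [map_add, map_mul, map_pow, E_X, E_C]
      ring)
    (by
      simp only [map_add, map_mul, map_pow, E_X, E_C]
      linear_combination (C s0 ^ 2 * X 0 ^ 6 * X 1 ^ 8 + C s2 ^ 2 * X 0 ^ 6 * X 1 ^ 4 +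
        C s4 ^ 2 * X 0 ^ 6 + C l0 ^ 2 * X 0 ^ 8 * X 1 ^ 6 + C l2 ^ 2 * X 0 ^ 4 * X 1 ^ 6 +
        C l4 ^ 2 * X 1 ^ 6 + C τ ^ 2 * X 0 ^ 6 * X 1 ^ 6 +
        (C s0 * C s2 * X 1 ^ 6 + C s0 * C s4 * X 1 ^ 4 + C s2 * C s4 * X 1 ^ 2) * X 0 ^ 6 +
        (C l0 * C l2 * X 0 ^ 6 + C l0 * C l4 * X 0 ^ 4 + C l2 * C l4 * X 0 ^ 2) * X 1 ^ 6 +
        ((C s0 * X 1 ^ 4 + C s2 * X 1 ^ 2 + C s4) * X 0 ^ 3) *
            ((C l0 * X 0 ^ 4 + C l2 * X 0 ^ 2 + C l4) * X 1 ^ 3) +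
        ((C s0 * X 1 ^ 4 + C s2 * X 1 ^ 2 + C s4) * X 0 ^ 3) * (C τ * X 0 ^ 3 * X 1 ^ 3) +
        ((C l0 * X 0 ^ 4 + C l2 * X 0 ^ 2 + C l4) * X 1 ^ 3) * (C τ * X 0 ^ 3 * X 1 ^ 3)) * h2)
  rw [key]
  congr 2
  simp only [map_add, map_mul, map_pow, ι_X0, ι_X1, ι_C]
  ring

end Groth.Agent.S13121
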