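import Groth.Statements.S13122
import Groth.Agent.KumFam.K753.Presentation
import Groth.Agent.KumFam.K753.Kernel

set_option autoImplicit false
universe u
open KumFam
open K753.Squares K753.Presentation K753.Kernel

namespace Groth.Agent.S13122

open MvPolynomial in
/-- Let R be a commutative ring of characteristic 2 and l0, l2, l4, s0, s2, s4, τ ∈ R with τ a unit. On
R[x, y] (x = X 0, y = X 1; the coordinates u⁻¹, v⁻¹ of the smooth chart of the product of two
cuspidal curves) let D be the R-derivation with D(x) = l4 x⁴ + l2 x² + τ x + l0 and D(y) = s4 y⁴ +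
s2 y² + τ y + s0, and put h = (s4 y⁴ + s2 y² + s0) x + (l4 x⁴ + l2 x² + l0) y + τ x y. Then: (1) for
p ∈ R[x, y], D(p) = 0 if and only if p lies in the image of the R-algebra homomorphism R[a, b, c] →
R[x, y] (a = X 0, b = X 1, c = X 2) with a ↦ x², b ↦ y², c ↦ h; (2) the kernel of that homomorphism
is the ideal generated by c² + τ² a b + (s4² b⁴ + s2² b² + s0²) a + (l4² a⁴ + l2² a² + l0²) b. (The
published statement asserts that the ring of invariants of the action of the group scheme of square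
roots of unity given by this vector field is R[a, b, c] modulo this equation, by the same
computation as on the other chart; this row pins the generator h and states the kernel computation.) -/
theorem result (R : Type u) [CommRing R]
    [CharP R 2] (l0 l2 l4 s0 s2 s4 τ : R) (hτ : IsUnit τ) :
    (∀ p : MvPolynomial (Fin 2) R,
      MvPolynomial.mkDerivation R
          (![C l4 * X 0 ^ 4 + C l2 * X 0 ^ 2 + C τ * X 0 + C l0,
            C s4 * X 1 ^ 4 + C s2 * X 1 ^ 2 + C τ * X 1 + C s0] :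
            Fin 2 → MvPolynomial (Fin 2) R) p = 0 ↔
        p ∈ (MvPolynomial.aeval (R := R) (S₁ := MvPolynomial (Fin 2) R)
          ![X 0 ^ 2, X 1 ^ 2,
            (C s4 * X 1 ^ 4 + C s2 * X 1 ^ 2 + C s0) * X 0 +
              (C l4 * X 0 ^ 4 + C l2 * X 0 ^ 2 + C l0) * X 1 + C τ * X 0 * X 1]).range) ∧
    RingHom.ker (MvPolynomial.aeval (R := R) (S₁ := MvPolynomial (Fin 2) R)
        ![X 0 ^ 2, X 1 ^ 2,
          (C s4 * X 1 ^ 4 + C s2 * X 1 ^ 2 + C s0) * X 0 +
            (C l4 * X 0 ^ 4 + C l2 * X 0 ^ 2 + C l0) * X 1 + C τ * X 0 * X 1]) =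
      Ideal.span {(X 2 ^ 2 + C (τ ^ 2) * X 0 * X 1 +
        (C (s4 ^ 2) * X 1 ^ 4 + C (s2 ^ 2) * X 1 ^ 2 + C (s0 ^ 2)) * X 0 +
        (C (l4 ^ 2) * X 0 ^ 4 + C (l2 ^ 2) * X 0 ^ 2 + C (l0 ^ 2)) * X 1 : MvPolynomial (Fin 3) R)} := by
  have h2 := K753.Squares.two_eq_zero (R := R)
  obtain ⟨u, hu⟩ := hτ
  have h5 : (C τ * C (↑u⁻¹ : R) : MvPolynomial (Fin 2) R) = 1 := by
    rw [← hu, ← C_mul, Units.mul_inv, C_1]
  set P' : MvPolynomial (Fin 2) R := C l4 * X 0 ^ 2 + C l2 * X 0 + C l0 with hP'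
  set Q' : MvPolynomial (Fin 2) R := C s4 * X 1 ^ 2 + C s2 * X 1 + C s0 with hQ'
  have hEP : E P' = C l4 * X 0 ^ 4 + C l2 * X 0 ^ 2 + C l0 := by
    simp only [hP', map_add, map_mul, map_pow, E_X, E_C]
    ring
  have hEQ : E Q' = C s4 * X 1 ^ 4 + C s2 * X 1 ^ 2 + C s0 := by
    simp only [hQ', map_add, map_mul, map_pow, E_X, E_C]
    ring
  set D := MvPolynomial.mkDerivation R
          (![C l4 * X 0 ^ 4 + C l2 * X 0 ^ 2 + C τ * X 0 + C l0,
            C s4 * X 1 ^ 4 + C s2 * X 1 ^ 2 + C τ * X 1 + C s0] :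
            Fin 2 → MvPolynomial (Fin 2) R) with hD
  have h0 : D (X 0) = E P' + E (C τ) * X 0 := by
    rw [hD, mkDerivation_X, hEP, E_C]
    simp only [Matrix.cons_val_zero]
    ring
  have h1 : D (X 1) = E Q' + E (C τ) * X 1 := by
    rw [hD, mkDerivation_X, hEQ, E_C]
    simp only [Matrix.cons_val_one, Matrix.cons_val_zero]
    ring
  rw [← hEP, ← hEQ]
  set g : MvPolynomial (Fin 2) R := E Q' * X 0 + E P' * X 1 + C τ * X 0 * X 1
    with hg
  have hg' : g = E 0 + E Q' * X 0 + E P' * X 1 + E (C τ) * (X 0 * X 1) := by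
    rw [hg, map_zero, E_C]
    ring
  refine ⟨?_, ?_⟩
  · intro a
    constructor
    · intro h
      obtain ⟨p, q, r, s, rfl⟩ := exists_decomp a
      rw [derivation_smooth D h0 h1] at h
      obtain ⟨-, hq, hr, -⟩ := decomp_eq_zero h
      have hq' : q = C (↑u⁻¹ : R) * s * Q' := by
        linear_combination C (↑u⁻¹ : R) * hq - q * h5 - C (↑u⁻¹ : R) * s * Q' * h2
      have hr' : r = C (↑u⁻¹ : R) * s * P' := by
        linear_combination C (↑u⁻¹ : R) * hr - r * h5 - C (↑u⁻¹ : R) * s * P' * h2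
      have h6 : E p + E q * X 0 + E r * X 1 + E s * (X 0 * X 1) =
          E p + E (C (↑u⁻¹ : R) * s) * g := by
        rw [hq', hr', hg]
        simp only [map_mul, E_C]
        linear_combination (-(E s * X 0 * X 1)) * h5
      rw [h6]
      refine ⟨ι p + ι (C (↑u⁻¹ : R) * s) * X 2, ?_⟩
      change aeval (R := R) (S₁ := MvPolynomial (Fin 2) R) ![X 0 ^ 2, X 1 ^ 2, g] _ = _
      rw [map_add, map_mul, aeval_ι, aeval_ι, aeval_X]
      rfl
    · rintro ⟨b, rfl⟩
      have hDg : D g = 0 := by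
        rw [hg', derivation_smooth D h0 h1]
        simp only [map_add, map_mul, E_C, map_zero, zero_mul, add_zero]
        linear_combination (E P' * E Q' + C τ * E Q' * X 0 + C τ * E P' * X 1) * h2
      change D (aeval (R := R) (S₁ := MvPolynomial (Fin 2) R) ![X 0 ^ 2, X 1 ^ 2, g] b) = 0
      induction b using MvPolynomial.induction_on with
      | C c => rw [aeval_C]; exact D.map_algebraMap c
      | add x y hx hy => rw [map_add, map_add, hx, hy, add_zero]
      | mul_X f i hf =>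
        rw [map_mul, Derivation.leibniz, hf, smul_zero, add_zero, aeval_X]
        fin_cases i
        · change _ • D (X 0 ^ 2) = 0
          rw [← E_X 0, derivation_E, smul_zero]
        · change _ • D (X 1 ^ 2) = 0
          rw [← E_X 1, derivation_E, smul_zero]
        · change _ • D g = 0
          rw [hDg, smul_zero]
  · have key := ker_eq (R := R) (q := Q') (r := P') (s := C τ)
      (G := C (τ ^ 2) * X 0 * X 1 +
        (C (s4 ^ 2) * X 1 ^ 4 + C (s2 ^ 2) * X 1 ^ 2 + C (s0 ^ 2)) * X 0 +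
        (C (l4 ^ 2) * X 0 ^ 4 + C (l2 ^ 2) * X 0 ^ 2 + C (l0 ^ 2)) * X 1)
      (Γ := g)
      (by
        intro p hp
        linear_combination C (↑u⁻¹ : R) * hp - p * h5)
      (by rw [hg', map_zero, zero_add])
      (by
        rw [hg, hEP, hEQ]
        simp only [map_add, map_mul, map_pow, E_X, E_C]
        linear_combination (C τ ^ 2 * X 0 ^ 2 * X 1 ^ 2 +
          (C s4 ^ 2 * X 1 ^ 8 + C s2 ^ 2 * X 1 ^ 4 + C s0 ^ 2) * X 0 ^ 2 +
          (C l4 ^ 2 * X 0 ^ 8 + C l2 ^ 2 * X 0 ^ 4 + C l0 ^ 2) * X 1 ^ 2 +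
          (C s4 * C s2 * X 1 ^ 6 + C s4 * C s0 * X 1 ^ 4 + C s2 * C s0 * X 1 ^ 2) * X 0 ^ 2 +
          (C l4 * C l2 * X 0 ^ 6 + C l4 * C l0 * X 0 ^ 4 + C l2 * C l0 * X 0 ^ 2) * X 1 ^ 2 +
          ((C s4 * X 1 ^ 4 + C s2 * X 1 ^ 2 + C s0) * X 0) *
            ((C l4 * X 0 ^ 4 + C l2 * X 0 ^ 2 + C l0) * X 1) +
          ((C s4 * X 1 ^ 4 + C s2 * X 1 ^ 2 + C s0) * X 0) * (C τ * X 0 * X 1) +
          ((C l4 * X 0 ^ 4 + C l2 * X 0 ^ 2 + C l0) * X 1) * (C τ * X 0 * X 1)) * h2)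
    rw [key]
    congr 2
    simp only [map_add, map_mul, map_pow, ι_X0, ι_X1, ι_C]
    ring

end Groth.Agent.S13122
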