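import Groth.Statements.S13124
import Mathlib.RingTheory.Flat.Basic
import Mathlib.Tactic

set_option autoImplicit false
universe u v w
open KumFam
open scoped TensorProduct

namespace Groth.Agent.S13124

/-- Let k be a commutative ring, A a commutative k-bialgebra that is flat over k, and R a commutative
k-algebra which is an integrally closed domain, with a coaction R → R ⊗ A that is an algebra
homomorphism. Then the ring of invariants (the elements f with coaction f ⊗ 1) is an integrally
closed domain. (The published statement is for a finite group scheme acting on a normal scheme whose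
quotient is, locally, the spectrum of the ring of invariants; this row is the affine integral case
and allows any commutative bialgebra flat over k, flatness being automatic over a field.) -/
theorem result (k : Type u) [CommRing k]
    (A : Type v) [CommRing A] [Bialgebra k A] [Module.Flat k A]
    (R : Type w) [CommRing R] [Algebra k R] [IsDomain R] [IsIntegrallyClosed R]
    [HopfRep.Comod k A R] [GLin.IsCoactAlg k A R] :
    IsIntegrallyClosed (GLin.invariants k A R) := by
  classical
  set S := GLin.invariants k A R with hS
  -- the key: division inside the invariants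
  have key : ∀ a b : S, b ≠ 0 → ∀ r : R, (b : R) * r = a → r ∈ S := by
    intro a b hb r hr
    have hb' : (b : R) ≠ 0 := fun h => hb (Subtype.ext h)
    have hinj : Function.Injective (LinearMap.mulLeft k (b : R)) := by
      intro x y hxy
      exact mul_left_cancel₀ hb' hxy
    have hinj2 := Module.Flat.rTensor_preserves_injective_linearMap (M := A) _ hinj
    have hmul : ∀ z : R ⊗[k] A, (LinearMap.mulLeft k (b : R)).rTensor A z =
        ((b : R) ⊗ₜ[k] (1 : A)) * z := by
      intro z
      induction z with
      | zero => simp
      | tmul x y => simp [Algebra.TensorProduct.tmul_mul_tmul]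
      | add x y hx hy => rw [map_add, hx, hy, mul_add]
    have hbS := (GLin.mem_invariants_iff k A R (b : R)).1 b.2
    have haS := (GLin.mem_invariants_iff k A R (a : R)).1 a.2
    rw [hS, GLin.mem_invariants_iff]
    apply hinj2
    rw [hmul, hmul, ← hbS, ← GLin.IsCoactAlg.coact_mul, hr, haS, hbS,
      Algebra.TensorProduct.tmul_mul_tmul, hr, one_mul]
  let K := FractionRing S
  let L := FractionRing R
  rw [isIntegrallyClosed_iff K]
  intro x hx
  have hSRinj : Function.Injective (algebraMap S R) := Subtype.val_injective
  have hSLinj : Function.Injective (algebraMap S L) := by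
    have : (algebraMap S L : S → L) = (algebraMap R L) ∘ (algebraMap S R) := by
      ext s; rfl
    rw [this]
    exact (IsFractionRing.injective R L).comp hSRinj
  let φ : K →+* L := IsFractionRing.lift (A := S) (K := K) (L := L) (g := algebraMap S L) hSLinj
  have hφ : ∀ s : S, φ (algebraMap S K s) = algebraMap S L s := fun s =>
    IsFractionRing.lift_algebraMap _ s
  have hφx : IsIntegral S (φ x) := by
    let φ' : K →ₐ[S] L := { φ with commutes' := hφ }
    exact hx.map φ'
  have hφx' : IsIntegral R (φ x) := hφx.tower_top
  obtain ⟨r, hr⟩ := (isIntegrallyClosed_iff L).1 (inferInstance : IsIntegrallyClosed R) hφx'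
  obtain ⟨a, b, hb, hab⟩ := IsFractionRing.div_surjective (A := S) x
  have hb0 : b ≠ 0 := nonZeroDivisors.ne_zero hb
  have hbK : algebraMap S K b ≠ 0 := by
    rw [Ne, FaithfulSMul.algebraMap_eq_zero_iff]; exact hb0
  have hx1 : algebraMap S K b * x = algebraMap S K a := by
    rw [← hab, mul_comm, div_mul_cancel₀ _ hbK]
  have hbr : (b : R) * r = a := by
    apply IsFractionRing.injective R L
    rw [map_mul, hr]
    have h1 := congrArg φ hx1
    rw [map_mul, hφ, hφ] at h1
    exact h1
  have hrS := key a b hb0 r hbr
  refine ⟨⟨r, hrS⟩, ?_⟩
  apply mul_left_cancel₀ hbK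
  rw [hx1, ← map_mul]
  congr 1
  exact Subtype.ext hbr

end Groth.Agent.S13124
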