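import Groth.Statements.S13125
import Mathlib.RingTheory.GradedAlgebra.Homogeneous.Ideal
import Mathlib.Tactic

set_option autoImplicit false
universe u v
open KumFam

namespace Groth.Agent.S13125

/-- Let A be a commutative ring graded by an additive monoid ι (an abelian group in the published
statement) through additive subgroups 𝒜 i, and I an ideal of A. Then I is a homogeneous ideal if and
only if A/I carries a structure of ι-graded ring ℬ for which the quotient map sends 𝒜 i into ℬ i for
all i. -/
theorem result (ι : Type u) [DecidableEq ι] [AddMonoid ι]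
    (A : Type v) [CommRing A] (𝒜 : ι → AddSubgroup A) [GradedRing 𝒜] (I : Ideal A) :
    I.IsHomogeneous 𝒜 ↔
      ∃ ℬ : ι → AddSubgroup (A ⧸ I), Nonempty (GradedRing ℬ) ∧
        ∀ i : ι, (𝒜 i).map (Ideal.Quotient.mk I : A →+ A ⧸ I) ≤ ℬ i := by
  classical
  constructor
  · intro hI
    let q : A →+ A ⧸ I := (Ideal.Quotient.mk I : A →+ A ⧸ I)
    have hq : Function.Surjective q := Ideal.Quotient.mk_surjective
    let ℬ : ι → AddSubgroup (A ⧸ I) := fun i => (𝒜 i).map q
    refine ⟨ℬ, ?_, fun i => le_refl _⟩
    have hgm : SetLike.GradedMonoid ℬ :=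
      { one_mem := ⟨1, SetLike.GradedOne.one_mem, map_one (Ideal.Quotient.mk I)⟩
        mul_mem := by
          rintro i j _ _ ⟨x, hx, rfl⟩ ⟨y, hy, rfl⟩
          exact ⟨x * y, SetLike.GradedMul.mul_mem hx hy, map_mul (Ideal.Quotient.mk I) _ _⟩ }
    let f : ∀ i, 𝒜 i →+ ℬ i := fun i => q.addSubgroupMap (𝒜 i)
    have hf : ∀ i (a : 𝒜 i), ((f i a : ℬ i) : A ⧸ I) = q a := fun i a => rfl
    let D0 : A →+ DirectSum ι (fun i => ℬ i) :=
      (DirectSum.map f).comp (DirectSum.decomposeAddEquiv 𝒜).toAddMonoidHom
    have hD0 : q.ker ≤ D0.ker := by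
      intro a ha
      have ha' : a ∈ I := Ideal.Quotient.eq_zero_iff_mem.1 ha
      rw [AddMonoidHom.mem_ker]
      ext i : 1
      have h1 : D0 a i = f i (DirectSum.decompose 𝒜 a i) := rfl
      rw [h1]
      apply Subtype.ext
      rw [hf]
      exact Ideal.Quotient.eq_zero_iff_mem.2 (hI i ha')
    let D : A ⧸ I →+ DirectSum ι (fun i => ℬ i) := q.liftOfSurjective hq ⟨D0, hD0⟩
    have hD : ∀ a, D (q a) = D0 a := fun a =>
      AddMonoidHom.liftOfRightInverse_comp_apply q _ _ ⟨D0, hD0⟩ a
    have hcoe : (DirectSum.coeAddMonoidHom ℬ).comp (DirectSum.map f) =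
        q.comp (DirectSum.coeAddMonoidHom 𝒜) := by
      apply DirectSum.addHom_ext
      intro i a
      simp only [AddMonoidHom.comp_apply, DirectSum.map_of, DirectSum.coeAddMonoidHom_of]
      exact hf i a
    let dec : DirectSum.Decomposition ℬ := DirectSum.Decomposition.ofAddHom ℬ D
      (by
        ext z
        obtain ⟨a, rfl⟩ := hq z
        rw [AddMonoidHom.comp_apply, hD]
        have h1 := DFunLike.congr_fun hcoe (DirectSum.decompose 𝒜 a)
        simp only [AddMonoidHom.comp_apply] at h1
        have h2 : DirectSum.coeAddMonoidHom 𝒜 (DirectSum.decompose 𝒜 a) = a :=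
          (DirectSum.decompose 𝒜).symm_apply_apply a
        rw [h2] at h1
        exact h1)
      (by
        apply DirectSum.addHom_ext
        intro i b
        obtain ⟨a, rfl⟩ := q.addSubgroupMap_surjective (𝒜 i) b
        rw [AddMonoidHom.comp_apply, DirectSum.coeAddMonoidHom_of]
        change D (q a) = DirectSum.of (fun i => ℬ i) i (f i a)
        rw [hD]
        change DirectSum.map f (DirectSum.decompose 𝒜 a) = _
        rw [DirectSum.decompose_coe, DirectSum.map_of])
    exact ⟨{ hgm, dec with }⟩
  · rintro ⟨ℬ, ⟨hℬ⟩, h⟩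
    have key : ∀ (a : A) (i : ι), Ideal.Quotient.mk I (DirectSum.decompose 𝒜 a i : A) =
        (DirectSum.decompose ℬ (Ideal.Quotient.mk I a) i : A ⧸ I) := by
      intro a i
      induction a using DirectSum.Decomposition.inductionOn 𝒜 with
      | zero => simp
      | @homogeneous j m =>
        have hm : Ideal.Quotient.mk I (m : A) ∈ ℬ j := h j ⟨m, m.2, rfl⟩
        by_cases hij : j = i
        · subst hij
          rw [DirectSum.decompose_of_mem_same ℬ hm, DirectSum.decompose_of_mem_same 𝒜 m.2]
        · rw [DirectSum.decompose_of_mem_ne ℬ hm hij, DirectSum.decompose_of_mem_ne 𝒜 m.2 hij,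
            map_zero]
      | add m m' hm hm' =>
        rw [DirectSum.decompose_add, DirectSum.add_apply, AddSubgroup.coe_add, map_add, hm, hm',
          map_add, DirectSum.decompose_add, DirectSum.add_apply, AddSubgroup.coe_add]
    intro i a ha
    rw [← Ideal.Quotient.eq_zero_iff_mem, key, Ideal.Quotient.eq_zero_iff_mem.2 ha]
    simp

end Groth.Agent.S13125
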