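import Groth.Statements.S13126
import Mathlib.Algebra.Ring.GeomSum
import Mathlib.Algebra.Polynomial.Div
import Mathlib.Tactic

set_option autoImplicit false
universe u
open KumFam

namespace Groth.Agent.S13126

open Polynomial in
/-- Let R be a commutative ring, n a natural number which is a unit in R, and ζ ∈ R with ζ^n = 1 and 1 −
ζ^i a unit for 0 < i < n (a primitive n-th root of unity in the fibrewise sense: the powers ζ^0, …,
ζ^(n−1) are roots of X^n − 1 with pairwise unit differences; over an integral domain in which n is a
unit this is the same as ζ having multiplicative order n). Then the R-algebra homomorphism R[X] →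
(Fin n → R) sending a polynomial to its values at ζ^0, …, ζ^(n−1) is surjective and its kernel is
the ideal generated by X^n − 1; hence R[X]/(X^n − 1) ≅ R^n as R-algebras, i.e. the scheme of n-th
roots of unity over Spec R is the disjoint union of n copies of Spec R. (The published statement
asks that R contain a primitive n-th root of unity without defining the term; its Chinese-remainder
argument uses that the ideals (X − ζ^i), i < n, are pairwise comaximal, which is the unit-difference
condition taken as the hypothesis here, whereas under the reading 'ζ has multiplicative order n'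
alone the surjectivity fails over a product of two fields. The published statement also asserts that
the isomorphism respects the group-scheme structures of the n-th roots of unity and of the constant
group ℤ/n; this row does not state that.) -/
theorem result (R : Type u) [CommRing R]
    (n : ℕ) (hn : IsUnit (n : R)) (ζ : R) (hζ : ζ ^ n = 1)
    (hprim : ∀ i : ℕ, 0 < i → i < n → IsUnit (1 - ζ ^ i)) :
    Function.Surjective (AlgHom.pi (fun i : Fin n => Polynomial.aeval (R := R) (ζ ^ (i : ℕ)))) ∧
      RingHom.ker (AlgHom.pi (fun i : Fin n => Polynomial.aeval (R := R) (ζ ^ (i : ℕ)))) =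
        Ideal.span {(X ^ n - 1 : R[X])} := by
  classical
  rcases subsingleton_or_nontrivial R with hR | hR
  · have hRX : Subsingleton R[X] := inferInstance
    refine ⟨fun v => ⟨0, Subsingleton.elim _ _⟩, ?_⟩
    ext p
    rw [Subsingleton.elim p 0]
    simp
  obtain ⟨u, hu⟩ := hn
  have hn0 : 0 < n := by
    rcases Nat.eq_zero_or_pos n with h | h
    · subst h
      exact absurd (by rw [hu]; simp : (u : R) = 0) u.ne_zero
    · exact h
  -- orthogonality
  have orth0 : ∀ d : ℕ, ¬ n ∣ d → ∑ k ∈ Finset.range n, (ζ ^ d) ^ k = 0 := by
    intro d hd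
    have hmod : ζ ^ d = ζ ^ (d % n) := by
      conv_lhs => rw [← Nat.div_add_mod d n, pow_add, pow_mul, hζ, one_pow, one_mul]
    have hpos : 0 < d % n := Nat.pos_of_ne_zero (fun h => hd (Nat.dvd_of_mod_eq_zero h))
    have hlt : d % n < n := Nat.mod_lt _ hn0
    have hun : IsUnit (1 - ζ ^ d) := by rw [hmod]; exact hprim _ hpos hlt
    have h1 : (ζ ^ d - 1) * ∑ k ∈ Finset.range n, (ζ ^ d) ^ k = (ζ ^ d) ^ n - 1 := mul_geom_sum _ _
    have h2 : (ζ ^ d) ^ n = 1 := by rw [← pow_mul, mul_comm, pow_mul, hζ, one_pow]
    rw [h2, sub_self] at h1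
    have hun' : IsUnit (ζ ^ d - 1) := by
      have := hun.neg
      rwa [neg_sub] at this
    exact (hun'.mul_right_eq_zero).1 h1
  have orth : ∀ i j : ℕ, i < n → j < n →
      ∑ k ∈ Finset.range n, (ζ ^ (n - i + j)) ^ k = if i = j then (n : R) else 0 := by
    intro i j hi hj
    split_ifs with h
    · subst h
      have : n - i + i = n := by omega
      rw [this, hζ]
      simp
    · apply orth0
      rintro ⟨c, hc⟩
      have hc0 : 0 < c := by
        rcases Nat.eq_zero_or_pos c with h0 | h0
        · subst h0; omega
        · exact h0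
      have hc2 : c < 2 := by
        by_contra h2
        have : n * 2 ≤ n * c := Nat.mul_le_mul_left _ (by omega)
        omega
      have : c = 1 := by omega
      subst this
      omega
  have huinv : (↑u⁻¹ : R) * n = 1 := by rw [← hu]; simp
  refine ⟨?_, ?_⟩
  · intro v
    refine ⟨∑ i : Fin n, C (v i * ↑u⁻¹) *
      ∑ k ∈ Finset.range n, C ((ζ ^ (n - (i : ℕ))) ^ k) * X ^ k, ?_⟩
    ext j
    rw [AlgHom.pi_apply, map_sum]
    have key : ∀ i : Fin n, Polynomial.aeval (ζ ^ (j : ℕ)) (C (v i * ↑u⁻¹) *
        ∑ k ∈ Finset.range n, C ((ζ ^ (n - (i : ℕ))) ^ k) * X ^ k : R[X]) =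
        if i = j then v i else 0 := by
      intro i
      rw [map_mul, Polynomial.aeval_C, map_sum]
      have : ∀ k ∈ Finset.range n, Polynomial.aeval (ζ ^ (j : ℕ))
          (C ((ζ ^ (n - (i : ℕ))) ^ k) * X ^ k : R[X]) = (ζ ^ (n - (i : ℕ) + j)) ^ k := by
        intro k _
        rw [map_mul, Polynomial.aeval_C, map_pow (Polynomial.aeval (ζ ^ (j : ℕ))),
          Polynomial.aeval_X, pow_add, mul_pow]
        rfl
      rw [Finset.sum_congr rfl this, orth i j i.2 j.2]
      simp only [Algebra.algebraMap_self, RingHom.id_apply]
      by_cases h : i = j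
      · subst h
        rw [if_pos rfl, if_pos rfl, mul_assoc, huinv, mul_one]
      · rw [if_neg (fun h' => h (Fin.ext h')), if_neg h, mul_zero]
    rw [Finset.sum_congr rfl (fun i _ => key i)]
    simp
  · apply le_antisymm
    · intro p hp
      rw [RingHom.mem_ker] at hp
      have hmon : (X ^ n - 1 : R[X]).Monic := by
        simpa using Polynomial.monic_X_pow_sub_C (1 : R) hn0.ne'
      have hdeg : (X ^ n - 1 : R[X]).degree = n := by
        simpa using Polynomial.degree_X_pow_sub_C hn0 (1 : R)
      rw [Ideal.mem_span_singleton, ← Polynomial.modByMonic_eq_zero_iff_dvd hmon]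
      set r := p %ₘ (X ^ n - 1) with hr
      have hrd : r.degree < n := by
        rw [hr, ← hdeg]
        exact Polynomial.degree_modByMonic_lt _ hmon
      have hev : ∀ i : ℕ, i < n → Polynomial.eval (ζ ^ i) r = 0 := by
        intro i hi
        have h1 := congrFun hp ⟨i, hi⟩
        rw [AlgHom.pi_apply, Polynomial.coe_aeval_eq_eval] at h1
        have h2 := congrArg (Polynomial.eval (ζ ^ i)) (Polynomial.modByMonic_add_div p (X ^ n - 1))
        rw [← hr] at h2
        simp only [Polynomial.eval_add, Polynomial.eval_mul, Polynomial.eval_sub,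
          Polynomial.eval_pow, Polynomial.eval_X, Polynomial.eval_one] at h2
        rw [← pow_mul, mul_comm i n, pow_mul, hζ, one_pow, sub_self, zero_mul, add_zero] at h2
        rw [h2]
        exact h1
      ext k
      rw [Polynomial.coeff_zero]
      by_cases hk : k < n
      · have hsum : ∑ i ∈ Finset.range n, (ζ ^ (n - k)) ^ i * Polynomial.eval (ζ ^ i) r = 0 :=
          Finset.sum_eq_zero (fun i hi => by rw [hev i (Finset.mem_range.1 hi), mul_zero])
        have hexp : ∀ i : ℕ, Polynomial.eval (ζ ^ i) r =
            ∑ l ∈ Finset.range n, r.coeff l * (ζ ^ i) ^ l := by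
          intro i
          apply Polynomial.eval_eq_sum_range'
          by_cases hr0 : r = 0
          · rw [hr0, Polynomial.natDegree_zero]; exact hn0
          · exact (Polynomial.natDegree_lt_iff_degree_lt hr0).2 hrd
        simp_rw [hexp, Finset.mul_sum] at hsum
        rw [Finset.sum_comm] at hsum
        have hin : ∀ l ∈ Finset.range n,
            ∑ i ∈ Finset.range n, (ζ ^ (n - k)) ^ i * (r.coeff l * (ζ ^ i) ^ l) =
            if k = l then r.coeff l * n else 0 := by
          intro l hl
          have : ∀ i ∈ Finset.range n, (ζ ^ (n - k)) ^ i * (r.coeff l * (ζ ^ i) ^ l) =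
              r.coeff l * (ζ ^ (n - k + l)) ^ i := by
            intro i _
            rw [pow_add, mul_pow, ← pow_mul ζ i l, mul_comm i l, pow_mul ζ l i]
            ring
          rw [Finset.sum_congr rfl this, ← Finset.mul_sum, orth k l hk (Finset.mem_range.1 hl)]
          split_ifs <;> simp
        rw [Finset.sum_congr rfl hin, Finset.sum_ite_eq, if_pos (Finset.mem_range.2 hk)] at hsum
        have := congrArg (fun x => x * (↑u⁻¹ : R)) hsum
        simp only [zero_mul] at this
        rwa [mul_assoc, mul_comm (n : R), huinv, mul_one] at this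
      · apply Polynomial.coeff_eq_zero_of_degree_lt
        refine lt_of_lt_of_le hrd ?_
        exact_mod_cast not_lt.1 hk
    · rw [Ideal.span_singleton_le_iff_mem, RingHom.mem_ker]
      ext i
      rw [AlgHom.pi_apply]
      simp only [map_sub, map_pow, Polynomial.aeval_X, map_one, Pi.zero_apply]
      rw [← pow_mul, mul_comm, pow_mul, hζ, one_pow, sub_self]

end Groth.Agent.S13126
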