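import Groth.Statements.S13127
import Groth.Agent.KumFam.K753.InvFun
import Mathlib.RingTheory.MvPowerSeries.Inverse

set_option autoImplicit false
universe u
open KumFam

namespace Groth.Agent.S13127

open MvPowerSeries in
/-- Let R be a commutative ring of characteristic 2 and l0, l2, l4, s0, s2, s4, τ, lam, sig ∈ R with l4,
s4, lam, sig units, and let κ₁, κ₂ ∈ R satisfy s4² κ₁³ = sig² and l4² κ₂³ = lam² (cube roots of
sig²/s4² and lam²/l4²). In the power series ring R[[a, b, c]] (a = X 0, b = X 1, c = X 2) put F = c²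
+ s0² a³ b⁴ + s2² a³ b² + s4² a³ + l0² a⁴ b³ + l2² a² b³ + l4² b³ + τ² a³ b³ and F₀ = c² + sig² a³ +
lam² b³. Then some R-algebra automorphism of R[[a, b, c]] maps F to F₀; consequently R[[a, b,
c]]/(F) ≅ R[[a, b, c]]/(F₀). (In the published statement lam, sig are the representatives in the
ground field of the residues of l4, s4 at a rational point, so that F₀ is the equation of the
special fibre made constant; this row takes them to be arbitrary units.) -/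
theorem result (R : Type u) [CommRing R] [CharP R 2]
    (l0 l2 l4 s0 s2 s4 τ lam sig κ₁ κ₂ : R) (hl4 : IsUnit l4) (hs4 : IsUnit s4) (hlam : IsUnit lam)
    (hsig : IsUnit sig) (h₁ : s4 ^ 2 * κ₁ ^ 3 = sig ^ 2) (h₂ : l4 ^ 2 * κ₂ ^ 3 = lam ^ 2) :
    ∃ φ : MvPowerSeries (Fin 3) R ≃ₐ[R] MvPowerSeries (Fin 3) R,
      φ ((X 2 ^ 2 + C (s0 ^ 2) * X 0 ^ 3 * X 1 ^ 4 + C (s2 ^ 2) * X 0 ^ 3 * X 1 ^ 2 +
          C (s4 ^ 2) * X 0 ^ 3 + C (l0 ^ 2) * X 0 ^ 4 * X 1 ^ 3 + C (l2 ^ 2) * X 0 ^ 2 * X 1 ^ 3 +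
          C (l4 ^ 2) * X 1 ^ 3 + C (τ ^ 2) * X 0 ^ 3 * X 1 ^ 3 : MvPowerSeries (Fin 3) R)) =
        (X 2 ^ 2 + C (sig ^ 2) * X 0 ^ 3 + C (lam ^ 2) * X 1 ^ 3 : MvPowerSeries (Fin 3) R) := by
  have h2' : (2 : R) = 0 := by
    have h : ((2 : ℕ) : R) = 0 := CharP.cast_eq_zero R 2
    simpa using h
  have h2 : (2 : MvPowerSeries (Fin 3) R) = 0 := by
    have h : (C (2 : R) : MvPowerSeries (Fin 3) R) = 2 := map_ofNat _ 2
    rw [← h, h2', map_zero]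
  have h3u : IsUnit (3 : R) := by
    have : (3 : R) = 1 := by linear_combination h2'
    rw [this]; exact isUnit_one
  obtain ⟨l, rfl⟩ := hl4
  obtain ⟨s, rfl⟩ := hs4
  have hκ₁ : IsUnit κ₁ := by
    have h : IsUnit (κ₁ ^ 3) := by
      have h' : IsUnit ((s : R) ^ 2 * κ₁ ^ 3) := by rw [h₁]; exact hsig.pow 2
      exact isUnit_of_mul_isUnit_right h'
    exact (isUnit_pow_iff (by norm_num)).1 h
  have hκ₂ : IsUnit κ₂ := by
    have h : IsUnit (κ₂ ^ 3) := by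
      have h' : IsUnit ((l : R) ^ 2 * κ₂ ^ 3) := by rw [h₂]; exact hlam.pow 2
      exact isUnit_of_mul_isUnit_right h'
    exact (isUnit_pow_iff (by norm_num)).1 h
  obtain ⟨k₁, rfl⟩ := hκ₁
  obtain ⟨k₂, rfl⟩ := hκ₂
  obtain ⟨U, hU, hU1⟩ := K753.InvFun.exists_cube_root (σ := Fin 3) h3u
    (z := C ((↑s⁻¹ : R) ^ 2) * (C (s2 ^ 2) * X 1 ^ 2 + C (s0 ^ 2) * X 1 ^ 4 +
      C (τ ^ 2) * X 1 ^ 3)) (by simp)
  obtain ⟨V, hV, hV1⟩ := K753.InvFun.exists_cube_root (σ := Fin 3) h3u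
    (z := C ((↑l⁻¹ : R) ^ 2) * (C (l2 ^ 2) * X 0 ^ 2 + C (l0 ^ 2) * X 0 ^ 4)) (by simp)
  have hUu : IsUnit U := by rw [MvPowerSeries.isUnit_iff_constantCoeff, hU1]; exact isUnit_one
  have hVu : IsUnit V := by rw [MvPowerSeries.isUnit_iff_constantCoeff, hV1]; exact isUnit_one
  let a : Fin 3 → MvPowerSeries (Fin 3) R :=
    ![X 0 * (C (↑k₁⁻¹ : R) * U), X 1 * (C (↑k₂⁻¹ : R) * V), X 2]
  have ha : ∀ i, constantCoeff (a i) = 0 := by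
    intro i
    fin_cases i
    · simp [a]
    · simp [a]
    · simp [a]
  have hm : ∀ i, a i ∈ Ideal.span (Set.range a) := fun i => Ideal.subset_span ⟨i, rfl⟩
  have hJ0 : (X 0 : MvPowerSeries (Fin 3) R) ∈ Ideal.span (Set.range a) := by
    have hw : IsUnit (C (↑k₁⁻¹ : R) * U) := ((k₁⁻¹).isUnit.map C).mul hUu
    obtain ⟨w, hw⟩ := hw
    have : (X 0 : MvPowerSeries (Fin 3) R) = a 0 * ↑w⁻¹ := by
      have e0 : a 0 = X 0 * (C (↑k₁⁻¹ : R) * U) := rfl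
      rw [e0, ← hw, mul_assoc, Units.mul_inv, mul_one]
    rw [this]
    exact Ideal.mul_mem_right _ _ (hm 0)
  have hJ1 : (X 1 : MvPowerSeries (Fin 3) R) ∈ Ideal.span (Set.range a) := by
    have hw : IsUnit (C (↑k₂⁻¹ : R) * V) := ((k₂⁻¹).isUnit.map C).mul hVu
    obtain ⟨w, hw⟩ := hw
    have : (X 1 : MvPowerSeries (Fin 3) R) = a 1 * ↑w⁻¹ := by
      have e0 : a 1 = X 1 * (C (↑k₂⁻¹ : R) * V) := rfl
      rw [e0, ← hw, mul_assoc, Units.mul_inv, mul_one]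
    rw [this]
    exact Ideal.mul_mem_right _ _ (hm 1)
  have hJ2 : (X 2 : MvPowerSeries (Fin 3) R) ∈ Ideal.span (Set.range a) := hm 2
  obtain ⟨e, he⟩ := K753.InvFun.exists_algEquiv ha (by
    intro i
    fin_cases i
    · exact hJ0
    · exact hJ1
    · exact hJ2)
  refine ⟨e.symm, ?_⟩
  have e0 : a 0 = X 0 * (C (↑k₁⁻¹ : R) * U) := rfl
  have e1 : a 1 = X 1 * (C (↑k₂⁻¹ : R) * V) := rfl
  have e2 : a 2 = X 2 := rfl
  have heC : ∀ r : R, e (C r) = C r := fun r => e.commutes r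
  have hR : e (X 2 ^ 2 + C (sig ^ 2) * X 0 ^ 3 + C (lam ^ 2) * X 1 ^ 3) =
      X 2 ^ 2 + C (sig ^ 2) * (X 0 * (C (↑k₁⁻¹ : R) * U)) ^ 3 +
        C (lam ^ 2) * (X 1 * (C (↑k₂⁻¹ : R) * V)) ^ 3 := by
    rw [map_add, map_add, map_mul, map_mul, heC, heC, map_pow e, map_pow e (X 0), map_pow e (X 1),
      he, he, he, e0, e1, e2]
  rw [AlgEquiv.symm_apply_eq, hR, ← h₁, ← h₂]
  have hk₁ : (C (k₁ : R) : MvPowerSeries (Fin 3) R) * C (↑k₁⁻¹ : R) = 1 := by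
    rw [← map_mul, Units.mul_inv, map_one]
  have hk₂ : (C (k₂ : R) : MvPowerSeries (Fin 3) R) * C (↑k₂⁻¹ : R) = 1 := by
    rw [← map_mul, Units.mul_inv, map_one]
  have hss : (C (s : R) : MvPowerSeries (Fin 3) R) * C (↑s⁻¹ : R) = 1 := by
    rw [← map_mul, Units.mul_inv, map_one]
  have hll : (C (l : R) : MvPowerSeries (Fin 3) R) * C (↑l⁻¹ : R) = 1 := by
    rw [← map_mul, Units.mul_inv, map_one]
  have t1 : C ((s : R) ^ 2 * (k₁ : R) ^ 3) * (X 0 * (C (↑k₁⁻¹ : R) * U)) ^ 3 =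
      X 0 ^ 3 * (C (s : R) ^ 2 + C (s2 ^ 2) * X 1 ^ 2 + C (s0 ^ 2) * X 1 ^ 4 +
      C (τ ^ 2) * X 1 ^ 3) := by
    calc C ((s : R) ^ 2 * (k₁ : R) ^ 3) * (X 0 * (C (↑k₁⁻¹ : R) * U)) ^ 3
        = (C (k₁ : R) * C (↑k₁⁻¹ : R)) ^ 3 * (C (s : R) ^ 2 * X 0 ^ 3 * U ^ 3) := by
          rw [map_mul, map_pow, map_pow]; ring
      _ = C (s : R) ^ 2 * X 0 ^ 3 * U ^ 3 := by rw [hk₁, one_pow, one_mul]
      _ = X 0 ^ 3 * (C (s : R) ^ 2 + (C (s : R) * C (↑s⁻¹ : R)) ^ 2 *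
            (C (s2 ^ 2) * X 1 ^ 2 + C (s0 ^ 2) * X 1 ^ 4 + C (τ ^ 2) * X 1 ^ 3)) := by
          rw [hU, map_pow]; ring
      _ = _ := by rw [hss, one_pow, one_mul]; ring
  have t2 : C ((l : R) ^ 2 * (k₂ : R) ^ 3) * (X 1 * (C (↑k₂⁻¹ : R) * V)) ^ 3 =
      X 1 ^ 3 * (C (l : R) ^ 2 + C (l2 ^ 2) * X 0 ^ 2 + C (l0 ^ 2) * X 0 ^ 4) := by
    calc C ((l : R) ^ 2 * (k₂ : R) ^ 3) * (X 1 * (C (↑k₂⁻¹ : R) * V)) ^ 3
        = (C (k₂ : R) * C (↑k₂⁻¹ : R)) ^ 3 * (C (l : R) ^ 2 * X 1 ^ 3 * V ^ 3) := by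
          rw [map_mul, map_pow, map_pow]; ring
      _ = C (l : R) ^ 2 * X 1 ^ 3 * V ^ 3 := by rw [hk₂, one_pow, one_mul]
      _ = X 1 ^ 3 * (C (l : R) ^ 2 + (C (l : R) * C (↑l⁻¹ : R)) ^ 2 *
            (C (l2 ^ 2) * X 0 ^ 2 + C (l0 ^ 2) * X 0 ^ 4)) := by
          rw [hV, map_pow]; ring
      _ = _ := by rw [hll, one_pow, one_mul]; ring
  rw [t1, t2, map_pow C (s : R), map_pow C (l : R)]
  ring

end Groth.Agent.S13127
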