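import Groth.Statements.S13128
import Groth.Agent.KumFam.K753.InvFun
import Mathlib.RingTheory.MvPowerSeries.Inverse

set_option autoImplicit false
universe u
open KumFam

namespace Groth.Agent.S13128

open MvPowerSeries in
/-- Let R be a commutative ring of characteristic 2, l0, l2, l4, s0, s2, s4, τ ∈ R with τ a unit, and α,
β ∈ R with l4² α⁴ + l2² α² + τ² α + l0² = 0 and s4² β⁴ + s2² β² + τ² β + s0² = 0. In characteristic
2 these relations give τ² α = (l4 α² + l2 α + l0)² and τ² β = (s4 β² + s2 β + s0)², so α = α′² and β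
= β′² with α′ = (l4 α² + l2 α + l0)/τ and β′ = (s4 β² + s2 β + s0)/τ. In R[[a, b, c]] (a = X 0, b =
X 1, c = X 2) put h = c² + τ² a b + (s4² b⁴ + s2² b²) a + (l4² a⁴ + l2² a²) b + l4² β a⁴ + l2² β a²
+ s4² α b⁴ + s2² α b²; this is the chart equation c² + τ² a b + (s4² b⁴ + s2² b² + s0²) a + (l4² a⁴
+ l2² a² + l0²) b after the substitution a ↦ a + α, b ↦ b + β, c ↦ c + τ α′ β′, which moves the
point (α, β, τ α′ β′) of that surface, where all partial derivatives vanish, to the origin. Then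
some R-algebra automorphism of R[[a, b, c]] maps h to c² + a b; consequently R[[a, b, c]]/(h) ≅
R[[a, b, c]]/(c² + a b), the completed local ring of an ordinary double point, constant over R. (The
published statement translates only a and b, so that its h carries the additional constant term τ² α
β; with that term h is a unit of R[[a, b, c]] whenever τ α β is a unit, for instance c² + a b + 1
over the field with two elements with l0 = s0 = τ = α = β = 1 and l2 = l4 = s2 = s4 = 0, and no ring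
automorphism carries a unit to c² + a b. The published proof begins by shifting c by a polynomial in
a, b whose constant term is τ α′ β′, a substitution of the polynomial ring which removes the term τ²
α β, and the rest of its argument takes place in R[[a, b, c]]; this row states the result for the
fully translated equation, which is what that argument proves.) -/
theorem result (R : Type u) [CommRing R] [CharP R 2]
    (l0 l2 l4 s0 s2 s4 τ α β : R) (hτ : IsUnit τ)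
    (hα : l4 ^ 2 * α ^ 4 + l2 ^ 2 * α ^ 2 + τ ^ 2 * α + l0 ^ 2 = 0)
    (hβ : s4 ^ 2 * β ^ 4 + s2 ^ 2 * β ^ 2 + τ ^ 2 * β + s0 ^ 2 = 0) :
    ∃ φ : MvPowerSeries (Fin 3) R ≃ₐ[R] MvPowerSeries (Fin 3) R,
      φ ((X 2 ^ 2 + C (τ ^ 2) * X 0 * X 1 + (C (s4 ^ 2) * X 1 ^ 4 + C (s2 ^ 2) * X 1 ^ 2) * X 0 +
          (C (l4 ^ 2) * X 0 ^ 4 + C (l2 ^ 2) * X 0 ^ 2) * X 1 + C (l4 ^ 2 * β) * X 0 ^ 4 +
          C (l2 ^ 2 * β) * X 0 ^ 2 + C (s4 ^ 2 * α) * X 1 ^ 4 + C (s2 ^ 2 * α) * X 1 ^ 2 :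
          MvPowerSeries (Fin 3) R)) =
        (X 2 ^ 2 + X 0 * X 1 : MvPowerSeries (Fin 3) R) := by
  have h2' : (2 : R) = 0 := by
    have h : ((2 : ℕ) : R) = 0 := CharP.cast_eq_zero R 2
    simpa using h
  have h2 : (2 : MvPowerSeries (Fin 3) R) = 0 := by
    have h : (C (2 : R) : MvPowerSeries (Fin 3) R) = 2 := map_ofNat _ 2
    rw [← h, h2', map_zero]
  obtain ⟨u, hu⟩ := hτ
  have hinv : τ * (↑u⁻¹ : R) = 1 := by rw [← hu]; simp
  -- square roots of `α` and `β`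
  set α' : R := (l4 * α ^ 2 + l2 * α + l0) * ↑u⁻¹ with hα'
  set β' : R := (s4 * β ^ 2 + s2 * β + s0) * ↑u⁻¹ with hβ'
  have hαsq : α' ^ 2 = α := by
    have h3 : (l4 * α ^ 2 + l2 * α + l0) ^ 2 = τ ^ 2 * α := by
      linear_combination hα + (l4 * α ^ 2 * (l2 * α) + l4 * α ^ 2 * l0 + l2 * α * l0
        - τ ^ 2 * α) * h2'
    calc α' ^ 2 = (l4 * α ^ 2 + l2 * α + l0) ^ 2 * (↑u⁻¹ : R) ^ 2 := by rw [hα']; ring
      _ = τ ^ 2 * α * (↑u⁻¹ : R) ^ 2 := by rw [h3]
      _ = α * (τ * ↑u⁻¹) ^ 2 := by ring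
      _ = α := by rw [hinv]; ring
  have hβsq : β' ^ 2 = β := by
    have h3 : (s4 * β ^ 2 + s2 * β + s0) ^ 2 = τ ^ 2 * β := by
      linear_combination hβ + (s4 * β ^ 2 * (s2 * β) + s4 * β ^ 2 * s0 + s2 * β * s0
        - τ ^ 2 * β) * h2'
    calc β' ^ 2 = (s4 * β ^ 2 + s2 * β + s0) ^ 2 * (↑u⁻¹ : R) ^ 2 := by rw [hβ']; ring
      _ = τ ^ 2 * β * (↑u⁻¹ : R) ^ 2 := by rw [h3]
      _ = β * (τ * ↑u⁻¹) ^ 2 := by ring
      _ = β := by rw [hinv]; ring
  -- the new coordinates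
  let W : MvPowerSeries (Fin 3) R := C (τ ^ 2) + C (s4 ^ 2) * X 1 ^ 3 + C (s2 ^ 2) * X 1 +
    C (l4 ^ 2) * X 0 ^ 3 + C (l2 ^ 2) * X 0
  have hW : IsUnit W := by
    rw [MvPowerSeries.isUnit_iff_constantCoeff]
    have : constantCoeff W = τ ^ 2 := by simp [W]
    rw [this, ← hu]
    exact (u.isUnit.pow 2)
  let Y : MvPowerSeries (Fin 3) R := X 2 + (C (l4 * β') * X 0 + C (l2 * β')) * X 0 +
    (C (s4 * α') * X 1 + C (s2 * α')) * X 1
  let a : Fin 3 → MvPowerSeries (Fin 3) R := ![X 0 * W, X 1, Y]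
  have ha : ∀ i, constantCoeff (a i) = 0 := by
    intro i
    fin_cases i
    · simp [a]
    · simp [a]
    · simp [a, Y]
  have hm : ∀ i, a i ∈ Ideal.span (Set.range a) := fun i => Ideal.subset_span ⟨i, rfl⟩
  have hJ0 : (X 0 : MvPowerSeries (Fin 3) R) ∈ Ideal.span (Set.range a) := by
    obtain ⟨w, hw⟩ := hW
    have : (X 0 : MvPowerSeries (Fin 3) R) = a 0 * ↑w⁻¹ := by
      simp [a, ← hw]
    rw [this]
    exact Ideal.mul_mem_right _ _ (hm 0)
  have hJ1 : (X 1 : MvPowerSeries (Fin 3) R) ∈ Ideal.span (Set.range a) := hm 1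
  have hJ2 : (X 2 : MvPowerSeries (Fin 3) R) ∈ Ideal.span (Set.range a) := by
    have : (X 2 : MvPowerSeries (Fin 3) R) = a 2 - (C (l4 * β') * X 0 + C (l2 * β')) * X 0 -
      (C (s4 * α') * X 1 + C (s2 * α')) * X 1 := by
      simp only [a, Y, Matrix.cons_val]
      ring
    rw [this]
    exact Ideal.sub_mem _ (Ideal.sub_mem _ (hm 2) (Ideal.mul_mem_left _ _ hJ0))
      (Ideal.mul_mem_left _ _ hJ1)
  obtain ⟨e, he⟩ := K753.InvFun.exists_algEquiv ha (by
    intro i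
    fin_cases i
    · exact hJ0
    · exact hJ1
    · exact hJ2)
  refine ⟨e.symm, ?_⟩
  have e0 : a 0 = X 0 * W := rfl
  have e1 : a 1 = X 1 := rfl
  have e2 : a 2 = Y := rfl
  have hR : e (X 2 ^ 2 + X 0 * X 1) = Y ^ 2 + X 0 * W * X 1 := by
    rw [map_add, map_pow, map_mul, he, he, he, e0, e1, e2]
  rw [AlgEquiv.symm_apply_eq, hR]
  simp only [W, Y]
  rw [← hαsq, ← hβsq]
  simp only [map_mul, map_pow]
  linear_combination (-(X 2 * (C l4 * C β' * X 0 ^ 2) + X 2 * (C l2 * C β' * X 0) +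
    X 2 * (C s4 * C α' * X 1 ^ 2) + X 2 * (C s2 * C α' * X 1) +
    (C l4 * C β' * X 0 ^ 2) * (C l2 * C β' * X 0) +
    (C l4 * C β' * X 0 ^ 2) * (C s4 * C α' * X 1 ^ 2) +
    (C l4 * C β' * X 0 ^ 2) * (C s2 * C α' * X 1) +
    (C l2 * C β' * X 0) * (C s4 * C α' * X 1 ^ 2) +
    (C l2 * C β' * X 0) * (C s2 * C α' * X 1) +
    (C s4 * C α' * X 1 ^ 2) * (C s2 * C α' * X 1)) : MvPowerSeries (Fin 3) R) * h2

end Groth.Agent.S13128
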