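import Groth.Statements.S13129
import Groth.Agent.S2422
import Groth.Agent.Fga.UnitRestrict
import Groth.Agent.VarietyA.GeomRedSch
import Groth.Agent.KumFam.K753.PointRes

set_option autoImplicit false
universe u
open CategoryTheory CategoryTheory.Limits AlgebraicGeometry
open KumFam

namespace Groth.Agent.S13129

/-- Let k be an algebraically closed field, Y a proper normal surface over k (irreducible of dimension 2
with integrally closed local domains), X a proper smooth surface over k, and π : X → Y a k-morphism
which restricts to an isomorphism over Y minus a closed point y and whose fibre over y is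
one-dimensional (a resolution of the singularity (Y, y)). Then R¹π_* O_X = 0 (first higher direct
image of the underlying abelian sheaf) if and only if χ(X, O_X) = χ(Y, O_Y). -/
theorem result (k : Type u) [Field k] [IsAlgClosed k]
    (X Y : Scheme.{u}) [X.Over (Spec (CommRingCat.of k))] [Y.Over (Spec (CommRingCat.of k))]
    [IsProper (X ↘ Spec (CommRingCat.of k))] [IsProper (Y ↘ Spec (CommRingCat.of k))]
    [IrreducibleSpace X] [IrreducibleSpace Y] (hdX : topologicalKrullDim X = 2)
    (hdY : topologicalKrullDim Y = 2) [Smooth (X ↘ Spec (CommRingCat.of k))]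
    (hYn : Pi1.IsNormalScheme Y) (π : X ⟶ Y) [π.IsOver (Spec (CommRingCat.of k))]
    (y : Y) (hy : IsClosed ({y} : Set Y))
    (hiso : IsIso (π ∣_ (⟨({y} : Set Y)ᶜ, hy.isOpen_compl⟩ : Y.Opens)))
    (hfib : topologicalKrullDim ((fun x : X => π.base x) ⁻¹' ({y} : Set Y)) = 1) :
    IsZero ((Coh.RpushAb π 1).obj (Coh.toAb (Coh.structureModule X))) ↔
      Curv2.euler k X (Coh.structureModule X) = Curv2.euler k Y (Coh.structureModule Y) := by
  have hπ : π ≫ (Y ↘ Spec (CommRingCat.of k)) = X ↘ Spec (CommRingCat.of k) := comp_over π _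
  have hXr : IsReduced X :=
    Groth.Agent.VarietyA.GeomRedSch.isReduced_of_smooth k (X ↘ Spec (CommRingCat.of k))
  have hXi : IsIntegral X := isIntegral_of_irreducibleSpace_of_isReduced X
  have hYr : IsReduced Y := by
    have : ∀ y : Y, _root_.IsReduced (Y.presheaf.stalk y) := fun y => by
      have := (hYn y).1
      infer_instance
    exact isReduced_of_isReduced_stalk Y
  have hYi : IsIntegral Y := isIntegral_of_irreducibleSpace_of_isReduced Y
  have : IsLocallyNoetherian Y :=
    LocallyOfFiniteType.isLocallyNoetherian (Y ↘ (Spec (CommRingCat.of k)))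
  have : IsLocallyNoetherian X :=
    LocallyOfFiniteType.isLocallyNoetherian (X ↘ (Spec (CommRingCat.of k)))
  have hπp : IsProper π := by
    have h1 : IsProper (π ≫ (Y ↘ Spec (CommRingCat.of k))) := by rw [hπ]; infer_instance
    exact IsProper.of_comp π (Y ↘ Spec (CommRingCat.of k))
  set U : Y.Opens := ⟨({y} : Set Y)ᶜ, hy.isOpen_compl⟩ with hU
  have hmemU : ∀ z : Y, z ∈ U ↔ z ≠ y := fun z => Iff.rfl
  -- the generic point of `Y` is in `U`
  have hgen : genericPoint Y ∈ U := by
    rw [hmemU]
    intro h
    have h1 : closure ({y} : Set Y) = Set.univ := by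
      rw [← h]; exact genericPoint_closure Y
    rw [hy.closure_eq] at h1
    have h2 : Subsingleton Y := by
      refine ⟨fun a b => ?_⟩
      have ha : a ∈ ({y} : Set Y) := by rw [h1]; trivial
      have hb : b ∈ ({y} : Set Y) := by rw [h1]; trivial
      rw [Set.mem_singleton_iff] at ha hb
      rw [ha, hb]
    have h3 : topologicalKrullDim Y ≤ 0 := by
      have : DiscreteTopology Y := inferInstance
      exact (topologicalKrullDim_zero_of_discreteTopology Y)
    rw [hdY] at h3
    exact absurd h3 (by decide)
  have hinj : ∀ x x' : X, π x ∈ U → π x = π x' → x = x' := by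
    intro x x' hx hxx
    have hx' : π x' ∈ U := hxx ▸ hx
    have h1 : (π ∣_ U) ⟨x, hx⟩ = (π ∣_ U) ⟨x', hx'⟩ := by
      apply Subtype.ext
      rw [morphismRestrict_base_coe, morphismRestrict_base_coe]
      exact hxx
    have h2 : Function.Injective (π ∣_ U) := (π ∣_ U).homeomorph.injective
    exact congrArg Subtype.val (h2 h1)
  have hsurj : ∀ z : Y, z ∈ U → ∃ x : X, π x = z := by
    intro z hz
    obtain ⟨x, hx⟩ := (π ∣_ U).homeomorph.surjective ⟨z, hz⟩
    refine ⟨x.1, ?_⟩
    have := congrArg Subtype.val hx
    erw [morphismRestrict_base_coe] at this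
    exact this
  -- `π` maps the generic point to the generic point
  have hgπ : π (genericPoint X) = genericPoint Y := by
    obtain ⟨x, hx⟩ := hsurj _ hgen
    have h1 : genericPoint X ⤳ x := genericPoint_specializes x
    have h2 : π (genericPoint X) ⤳ π x := h1.map π.continuous
    rw [hx] at h2
    exact (h2.antisymm (genericPoint_specializes _)).eq
  have hstalk : IsIso (π.stalkMap (genericPoint X)) := by
    have hgx : π (genericPoint X) ∈ U := by rw [hgπ]; exact hgen
    have h1 : IsIso ((π ∣_ U).stalkMap ⟨genericPoint X, hgx⟩) := inferInstance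
    exact (MorphismProperty.arrow_mk_iso_iff (MorphismProperty.isomorphisms CommRingCat.{u})
      (morphismRestrictStalkMap π U ⟨genericPoint X, hgx⟩)).1 h1
  have hspec : ∀ (a b : Y) (h : a ⤳ b) (_ : a = b),
      Function.Surjective (Y.presheaf.stalkSpecializes h).hom := by
    intro a b h hab
    subst hab
    have : Y.presheaf.stalkSpecializes h = 𝟙 _ := TopCat.Presheaf.stalkSpecializes_refl _ _
    rw [this]
    exact fun x => ⟨x, rfl⟩
  have hdom : π.base (genericPoint X) ⤳ genericPoint Y := by
    have : π.base (genericPoint X) = genericPoint Y := hgπ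
    rw [this]
  have happ : ∀ V : Y.Opens, IsIso (π.app V) := by
    apply Groth.Agent.S2422.result hYn π hdom
    intro x _
    have h1 : Function.Surjective (π.stalkMap (genericPoint X)).hom :=
      (ConcreteCategory.bijective_of_isIso (π.stalkMap (genericPoint X))).2
    obtain ⟨z, hz⟩ := h1 x
    obtain ⟨w, hw⟩ := hspec _ _ hdom hgπ z
    refine ⟨w, ?_⟩
    change (π.stalkMap (genericPoint X)).hom ((Y.presheaf.stalkSpecializes hdom).hom w) = x
    rw [hw, hz]
  have hunit := Groth.Agent.Fga.UnitRestrict.isIso_unitToPush π (fun V =>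
    ConcreteCategory.bijective_of_isIso (π.app V))
  have e : (Scheme.Modules.pushforward π).obj (Coh.structureModule X) ≅ Coh.structureModule Y :=
    (asIso (Groth.Agent.Fga.UnitRestrict.unitToPush π)).symm
  refine K753.PointRes.isZero_iff_euler_eq k π hπ e (Z := {y}) (Set.finite_singleton y) ?_ ?_ ?_
  · intro z hz
    rw [Set.mem_singleton_iff] at hz
    rw [hz]; exact hy
  · intro z hz
    have hzU : z ∈ U := hz
    apply Set.Subsingleton.finite
    intro a ha b hb
    have ha' : π a = z := ha
    have hb' : π b = z := hb
    exact hinj a b (by rw [ha']; exact hzU) (by rw [ha', hb'])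
  · intro z hz
    rw [Set.mem_singleton_iff] at hz
    rw [hz]
    have h1 := (π.fiberHomeo y).isHomeomorph.topologicalKrullDim_eq
    rw [h1]
    exact hfib.le

end Groth.Agent.S13129
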