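import Groth.Statements.S13130
import Mathlib.RingTheory.IntegralClosure.IsIntegralClosure.Basic
import Mathlib.Algebra.MonoidAlgebra.Basic
import Mathlib.Tactic

set_option autoImplicit false
universe u v
open KumFam

namespace Groth.Agent.S13130

/-- Let R be a nontrivial commutative ring and M a commutative group, with group algebra R[M], the
coordinate ring of the diagonalizable group scheme D(M) over Spec R. Then D(M) is integral over Spec
R, i.e. R[M] is an integral R-algebra, if and only if M is a torsion group. (The published statement
is over an arbitrary base scheme; the question is local and this row is the affine form, with R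
nontrivial so that the elements of M are R-linearly independent.) -/
theorem result (R : Type u) [CommRing R] [Nontrivial R]
    (M : Type v) [CommGroup M] :
    Algebra.IsIntegral R (MonoidAlgebra R M) ↔ IsMulTorsion M := by
  classical
  constructor
  · intro h m
    by_contra hm
    have hinj : Function.Injective (fun n : ℕ => m ^ n) := by
      rw [injective_pow_iff_not_isOfFinOrder]
      exact hm
    obtain ⟨p, hp, hp0⟩ := h.isIntegral (MonoidAlgebra.single m (1 : R))
    have h1 : Polynomial.aeval (MonoidAlgebra.single m (1 : R)) p = 0 := hp0
    rw [Polynomial.aeval_eq_sum_range] at h1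
    have h2 := congrArg (fun x : MonoidAlgebra R M => x.coeff (m ^ p.natDegree)) h1
    simp only [MonoidAlgebra.coeff_sum, MonoidAlgebra.single_pow, one_pow,
      MonoidAlgebra.coeff_smul, MonoidAlgebra.coeff_single, MonoidAlgebra.coeff_zero,
      Finsupp.coe_zero, Pi.zero_apply, Finsupp.finsetSum_apply, Finsupp.smul_apply,
      Finsupp.single_apply] at h2
    rw [Finset.sum_eq_single p.natDegree] at h2
    · rw [if_pos rfl, Polynomial.coeff_natDegree, hp.leadingCoeff] at h2
      simp at h2
    · intro b _ hb
      rw [if_neg (fun h' => hb (hinj h')), smul_zero]
    · intro h'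
      exact absurd (Finset.mem_range.2 (Nat.lt_succ_self _)) h'
  · intro h
    refine ⟨fun x => ?_⟩
    induction x using MonoidAlgebra.induction_on with
    | of m =>
      obtain ⟨n, hn, hmn⟩ := isOfFinOrder_iff_pow_eq_one.1 (h m)
      refine IsIntegral.of_pow hn ?_
      rw [← map_pow, hmn, map_one]
      exact isIntegral_one
    | add x y hx hy => exact hx.add hy
    | smul r x hx => exact hx.smul r

end Groth.Agent.S13130
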