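import Groth.Statements.S13131

set_option autoImplicit false
universe u
open CategoryTheory CategoryTheory.Limits AlgebraicGeometry
open KumFam

namespace Groth.Agent.S13131

/-- Let S be a scheme, M a set and p : T → S a scheme over S. The S-morphisms T → ∐_{m ∈ M} S (the
constant S-scheme on M, with its structure map the codiagonal) are in bijection with the locally
constant maps T → M, a morphism f corresponding to the function sending t to the index of the copy
of S containing f(t). (In the published statement M is a group and ∐_M S the constant group scheme;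
the group structures play no role in this description of T-points.) -/
theorem result (S : Scheme.{u}) (M : Type u)
    (T : Scheme.{u}) (p : T ⟶ S) :
    ∃ e : {f : T ⟶ ∐ (fun _ : M => S) // f ≫ Sigma.desc (fun _ : M => 𝟙 S) = p} ≃
        LocallyConstant T M,
      ∀ (f : {f : T ⟶ ∐ (fun _ : M => S) // f ≫ Sigma.desc (fun _ : M => 𝟙 S) = p}) (t : T),
        e f t = ((sigmaMk (fun _ : M => S)).symm (f.1.base t)).1 := by
  classical
  let F : M → Scheme.{u} := fun _ => S
  -- the index of the copy is locally constant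
  have hfst : IsLocallyConstant (Sigma.fst : (Σ m, F m) → M) := by
    intro s
    rw [isOpen_sigma_iff]
    intro i
    by_cases h : i ∈ s
    · convert isOpen_univ
      ext x; simp [h]
    · convert isOpen_empty
      ext x; simp [h]
  let toLC : {f : T ⟶ ∐ F // f ≫ Sigma.desc (fun _ : M => 𝟙 S) = p} → LocallyConstant T M :=
    fun f => ⟨fun t => ((sigmaMk F).symm (f.1.base t)).1,
      hfst.comp_continuous ((sigmaMk F).symm.continuous.comp f.1.base.hom.continuous)⟩
  have htoLC : ∀ f t, toLC f t = ((sigmaMk F).symm (f.1.base t)).1 := fun f t => rfl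
  let U : LocallyConstant T M → M → T.Opens := fun g m =>
    ⟨g ⁻¹' {m}, g.isLocallyConstant.isOpen_fiber m⟩
  have hU : ∀ g, TopologicalSpace.IsOpenCover (U g) := by
    intro g
    apply TopologicalSpace.IsOpenCover.mk
    rw [eq_top_iff]
    intro t _
    exact TopologicalSpace.Opens.mem_iSup.2 ⟨g t, rfl⟩
  have hmemU : ∀ g m (t : T), t ∈ U g m ↔ g t = m := fun g m t => Iff.rfl
  have key1 : ∀ (f : {f : T ⟶ ∐ F // f ≫ Sigma.desc (fun _ : M => 𝟙 S) = p}) (m : M),
      (U (toLC f) m).ι ≫ f.1 = (U (toLC f) m).ι ≫ p ≫ Sigma.ι F m := by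
    intro f m
    have hr : Set.range ((U (toLC f) m).ι ≫ f.1) ⊆ Set.range (Sigma.ι F m) := by
      rintro _ ⟨x, rfl⟩
      have hx : toLC f x.1 = m := x.2
      rw [htoLC] at hx
      have h3 : sigmaMk F ((sigmaMk F).symm (f.1.base x.1)) = f.1.base x.1 :=
        (sigmaMk F).apply_symm_apply _
      generalize (sigmaMk F).symm (f.1.base x.1) = z at hx h3
      obtain ⟨i, s⟩ := z
      simp only at hx
      subst hx
      refine ⟨s, ?_⟩
      rw [sigmaMk_mk] at h3
      rw [h3]
      rfl
    have h1 := IsOpenImmersion.lift_fac (Sigma.ι F m) ((U (toLC f) m).ι ≫ f.1) hr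
    have h2 : IsOpenImmersion.lift (Sigma.ι F m) ((U (toLC f) m).ι ≫ f.1) hr =
        (U (toLC f) m).ι ≫ p := by
      calc IsOpenImmersion.lift (Sigma.ι F m) ((U (toLC f) m).ι ≫ f.1) hr
          = IsOpenImmersion.lift (Sigma.ι F m) ((U (toLC f) m).ι ≫ f.1) hr ≫
              Sigma.ι F m ≫ Sigma.desc (fun _ : M => 𝟙 S) := by
            rw [Sigma.ι_desc, Category.comp_id]
        _ = (IsOpenImmersion.lift (Sigma.ι F m) ((U (toLC f) m).ι ≫ f.1) hr ≫
              Sigma.ι F m) ≫ Sigma.desc (fun _ : M => 𝟙 S) := (Category.assoc _ _ _).symm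
        _ = ((U (toLC f) m).ι ≫ f.1) ≫ Sigma.desc (fun _ : M => 𝟙 S) := by rw [h1]
        _ = (U (toLC f) m).ι ≫ p := by rw [Category.assoc, f.2]
    rw [← Category.assoc, ← h2, h1]
  refine ⟨Equiv.ofBijective toLC ⟨?_, ?_⟩, fun f t => rfl⟩
  · intro f f' hff
    apply Subtype.ext
    apply Scheme.Cover.hom_ext (T.openCoverOfIsOpenCover (U (toLC f)) (hU _))
    intro m
    change (U (toLC f) m).ι ≫ f.1 = (U (toLC f) m).ι ≫ f'.1
    rw [key1]
    rw [hff, key1]
  · intro g
    let 𝒰 := T.openCoverOfIsOpenCover (U g) (hU _)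
    let φ : ∀ m : M, ((U g m : T.Opens) : Scheme.{u}) ⟶ ∐ F := fun m =>
      (U g m).ι ≫ p ≫ Sigma.ι F m
    have hcompat : ∀ m m' : M, pullback.fst ((U g m).ι) ((U g m').ι) ≫ φ m =
        pullback.snd _ _ ≫ φ m' := by
      intro m m'
      by_cases h : m = m'
      · subst h
        simp only [φ]
        rw [← Category.assoc, pullback.condition, Category.assoc]
      · have : IsEmpty (pullback ((U g m).ι) ((U g m').ι) : Scheme.{u}) := by
          apply Scheme.isEmpty_of_commSq (IsPullback.of_hasPullback _ _).toCommSq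
          rw [Scheme.Opens.range_ι, Scheme.Opens.range_ι, Set.disjoint_left]
          intro t ht ht'
          exact h (((hmemU g m t).1 ht).symm.trans ((hmemU g m' t).1 ht'))
        exact isInitialOfIsEmpty.hom_ext _ _
    let f : T ⟶ ∐ F := 𝒰.glueMorphisms φ hcompat
    have hf : ∀ m, (U g m).ι ≫ f = φ m := fun m => 𝒰.ι_glueMorphisms φ hcompat m
    have hfp : f ≫ Sigma.desc (fun _ : M => 𝟙 S) = p := by
      apply Scheme.Cover.hom_ext 𝒰
      intro m
      change (U g m).ι ≫ f ≫ _ = (U g m).ι ≫ p
      rw [← Category.assoc, hf]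
      simp only [φ, Category.assoc, Sigma.ι_desc, Category.comp_id]
    refine ⟨⟨f, hfp⟩, ?_⟩
    ext t
    rw [htoLC]
    have ht : t ∈ U g (g t) := rfl
    have h1 : f.base t = (Sigma.ι F (g t)).base (p.base t) := by
      have h2 := congrArg (fun q : ((U g (g t) : T.Opens) : Scheme.{u}) ⟶ ∐ F =>
        q.base ⟨t, ht⟩) (hf (g t))
      exact h2
    change ((sigmaMk F).symm (f.base t)).1 = g t
    rw [h1]
    have h4 : (Sigma.ι F (g t)).base (p.base t) = sigmaMk F ⟨g t, p.base t⟩ :=
      (sigmaMk_mk F (g t) (p.base t)).symm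
    rw [h4, Homeomorph.symm_apply_apply]

end Groth.Agent.S13131
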