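import Groth.Statements.S13132
import Groth.Agent.CAlg.K82.ArtinReg

set_option autoImplicit false
universe u v
open CAlg

namespace Groth.Agent.S13132

/-- Let A' be an Artinian local ring, I a proper ideal of A' and S' a flat A'-algebra. An element f' of
S' is a non-zero-divisor exactly when its image in S'/IS' is one; and when f' is a non-zero-divisor,
the quotient S'/(f') is flat over A'. (The published statement is for local Artinian algebras with a
fixed residue field over a ring of Witt vectors and a surjection between two of them; the argument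
uses only that A' is Artinian local and I is a proper ideal, which is the form taken here.) -/
theorem result
    {A' : Type u} [CommRing A'] [IsArtinianRing A'] [IsLocalRing A'] (I : Ideal A') (hI : I ≠ ⊤)
    {S' : Type v} [CommRing S'] [Algebra A' S'] [Module.Flat A' S'] (f' : S') :
    (f' ∈ nonZeroDivisors S' ↔
      Ideal.Quotient.mk (I.map (algebraMap A' S')) f' ∈ nonZeroDivisors (S' ⧸ I.map (algebraMap A' S'))) ∧
    (f' ∈ nonZeroDivisors S' → Module.Flat A' (S' ⧸ Ideal.span {f'})) := by
  haveI : Module.Flat A' (S' ⧸ (⊥ : Ideal S')) :=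
    Module.Flat.of_linearEquiv
      ((Submodule.quotEquivOfEqBot (⊥ : Submodule S' S') rfl).restrictScalars A')
  have hnzd : ∀ (R : Type v) [CommRing R] (x : R),
      x ∈ nonZeroDivisors R ↔ ∀ b, x * b = 0 → b = 0 := by
    intro R _ x
    rw [mem_nonZeroDivisors_iff]
    constructor
    · intro h b hb; exact h.1 b hb
    · intro h; exact ⟨h, fun b hb => h b (by rw [mul_comm]; exact hb)⟩
  have h1 := K82.ArtinReg.regMod_iff (A := A') (B := S') I hI [f'] ⊥
  simp only [K82.ArtinReg.RegMod, and_true, Ideal.mem_bot, bot_sup_eq] at h1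
  have h2 : (⊥ : Ideal S') ⊔ Ideal.ofList [f'] = Ideal.span {f'} := by
    rw [bot_sup_eq, Ideal.ofList_singleton]
  rw [hnzd, hnzd]
  refine ⟨?_, fun h => by have h3 := h1.2 h; rwa [h2] at h3⟩
  rw [h1.1]
  constructor
  · intro H x hx
    obtain ⟨b, rfl⟩ := Ideal.Quotient.mk_surjective x
    rw [← map_mul, Ideal.Quotient.eq_zero_iff_mem] at hx
    exact Ideal.Quotient.eq_zero_iff_mem.mpr (H b hx)
  · intro H b hb
    apply Ideal.Quotient.eq_zero_iff_mem.mp
    apply H
    rw [← map_mul]
    exact Ideal.Quotient.eq_zero_iff_mem.mpr hb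

end Groth.Agent.S13132
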