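import Groth.Statements.S13133
import Groth.Agent.CAlg.K82.ArtinReg

set_option autoImplicit false
universe u v
open CAlg

namespace Groth.Agent.S13133

/-- Let A' be an Artinian local ring, I a proper ideal of A', S' a flat A'-algebra and f'_1, …, f'_n
elements of S' with n ≥ 1. A family f'_1, …, f'_n in S' is a regular sequence exactly when its
reduction modulo I·S' is a regular sequence of S'/IS'. (Regular sequences are defined in the
published text over Noetherian rings; this row does not assume S' Noetherian, which the argument
does not use. The published statement is for a surjection of local Artinian algebras with a fixed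
residue field over a ring of Witt vectors; only the Artinian local base and the proper ideal are
used, which is the form taken here.) -/
theorem result
    {A' : Type u} [CommRing A'] [IsArtinianRing A'] [IsLocalRing A'] (I : Ideal A') (hI : I ≠ ⊤)
    {S' : Type v} [CommRing S'] [Algebra A' S'] [Module.Flat A' S'] {n : ℕ} (hn : 1 ≤ n)
    (f' : Fin n → S') :
    RingTheory.Sequence.IsRegular S' (List.ofFn f') ↔
      RingTheory.Sequence.IsRegular (S' ⧸ I.map (algebraMap A' S'))
        (List.ofFn fun i => Ideal.Quotient.mk (I.map (algebraMap A' S')) (f' i)) := by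
  haveI : Module.Flat A' (S' ⧸ (⊥ : Ideal S')) :=
    Module.Flat.of_linearEquiv
      ((Submodule.quotEquivOfEqBot (⊥ : Submodule S' S') rfl).restrictScalars A')
  have hmap : (List.ofFn fun i => Ideal.Quotient.mk (I.map (algebraMap A' S')) (f' i)) =
      (List.ofFn f').map (Ideal.Quotient.mk (I.map (algebraMap A' S'))) := by
    rw [List.map_ofFn]; rfl
  rw [hmap, RingTheory.Sequence.isRegular_iff, RingTheory.Sequence.isRegular_iff,
    K82.ArtinReg.isWeaklyRegular_iff_regMod_bot, K82.ArtinReg.isWeaklyRegular_map_mk_iff,
    (K82.ArtinReg.regMod_iff (A := A') (B := S') I hI (List.ofFn f') ⊥).1, bot_sup_eq]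
  refine and_congr_right fun _ => ?_
  rw [ne_comm, ne_comm (a := (⊤ : Submodule (S' ⧸ I.map (algebraMap A' S')) _))]
  refine not_congr ?_
  rw [smul_eq_mul, smul_eq_mul, Ideal.mul_top, Ideal.mul_top, ← Ideal.map_ofList,
    ← K82.ArtinReg.sup_map_eq_top_iff (B := S') I hI]
  constructor
  · intro h
    have h1 := congrArg (Ideal.map (Ideal.Quotient.mk (I.map (algebraMap A' S')))) h
    rw [Ideal.map_sup, Ideal.map_quotient_self, sup_bot_eq] at h1
    rw [h1]
    exact Ideal.map_top _
  · intro h
    have h1 := congrArg (Ideal.comap (Ideal.Quotient.mk (I.map (algebraMap A' S')))) h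
    rwa [Ideal.comap_map_of_surjective _ Ideal.Quotient.mk_surjective,
      ← RingHom.ker_eq_comap_bot, Ideal.mk_ker, Ideal.comap_top] at h1

end Groth.Agent.S13133
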