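import Groth.Statements.S13134
import Groth.Agent.CAlg.K82.FlatKer
import Mathlib.RingTheory.Polynomial.Basic

set_option autoImplicit false
universe u v
open CAlg

namespace Groth.Agent.S13134

/-- Let A' be an Artinian local ring, I a proper ideal, A = A'/I and f_1, …, f_m ∈ A[x_1, …, x_n]. Every
flat A'-algebra B' equipped with a surjection π onto A[x]/(f_1, …, f_m) with kernel I·B', compatible
with A' → A, is a quotient of A'[x_1, …, x_n] by the ideal generated by some lifts f'_1, …, f'_m of
the f_i, compatibly with π and with reduction of polynomials modulo I. (The published statement is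
for a surjection of local Artinian algebras with a fixed residue field over a ring of Witt vectors;
only the Artinian local base and the proper ideal are used, which is the form taken here.) -/
theorem result
    {A' : Type u} [CommRing A'] [IsArtinianRing A'] [IsLocalRing A'] (I : Ideal A') (hI : I ≠ ⊤)
    {n m : ℕ} (f : Fin m → MvPolynomial (Fin n) (A' ⧸ I))
    {B' : Type v} [CommRing B'] [Algebra A' B'] [Module.Flat A' B']
    (π : B' →+* MvPolynomial (Fin n) (A' ⧸ I) ⧸ Ideal.span (Set.range f))
    (hπ : Function.Surjective π) (hker : RingHom.ker π = I.map (algebraMap A' B'))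
    (hcomp : π.comp (algebraMap A' B') =
      ((Ideal.Quotient.mk (Ideal.span (Set.range f))).comp MvPolynomial.C).comp (Ideal.Quotient.mk I)) :
    ∃ (f' : Fin m → MvPolynomial (Fin n) A') (ψ : MvPolynomial (Fin n) A' →ₐ[A'] B'),
      (∀ i, MvPolynomial.map (Ideal.Quotient.mk I) (f' i) = f i) ∧
      Function.Surjective ψ ∧ RingHom.ker ψ.toRingHom = Ideal.span (Set.range f') ∧
      ∀ q, π (ψ q) = Ideal.Quotient.mk (Ideal.span (Set.range f)) (MvPolynomial.map (Ideal.Quotient.mk I) q) := by
  obtain ⟨N, hN⟩ := K82.FlatKer.exists_pow_eq_bot hI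
  let φ : MvPolynomial (Fin n) A' →+* MvPolynomial (Fin n) (A' ⧸ I) :=
    MvPolynomial.map (Ideal.Quotient.mk I)
  have hφ : Function.Surjective φ := MvPolynomial.map_surjective _ Ideal.Quotient.mk_surjective
  have hφker : RingHom.ker φ = I.map (algebraMap A' (MvPolynomial (Fin n) A')) := by
    rw [MvPolynomial.ker_map, Ideal.mk_ker]; rfl
  choose b hb using fun i => hπ (Ideal.Quotient.mk (Ideal.span (Set.range f)) (MvPolynomial.X i))
  let ψ : MvPolynomial (Fin n) A' →ₐ[A'] B' := MvPolynomial.aeval b
  have hπψ : ∀ q, π (ψ q) = Ideal.Quotient.mk (Ideal.span (Set.range f)) (φ q) := by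
    intro q
    have : π.comp (ψ : MvPolynomial (Fin n) A' →+* B') =
        (Ideal.Quotient.mk (Ideal.span (Set.range f))).comp φ := by
      apply MvPolynomial.ringHom_ext
      · intro r
        have h1 := RingHom.congr_fun hcomp r
        simp only [RingHom.comp_apply] at h1 ⊢
        rw [MvPolynomial.map_C, ← h1]
        exact congrArg π (ψ.commutes r)
      · intro i
        simp only [RingHom.comp_apply, φ, MvPolynomial.map_X]
        rw [← hb i]
        exact congrArg π (MvPolynomial.aeval_X b i)
    exact RingHom.congr_fun this q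
  -- surjectivity of `ψ`
  have hψ : Function.Surjective ψ := by
    have h1 : (⊤ : Submodule A' B') ≤ LinearMap.range ψ.toLinearMap ⊔ I • (⊤ : Submodule A' B') := by
      intro y _
      obtain ⟨g, hg⟩ := Ideal.Quotient.mk_surjective (π y)
      obtain ⟨q, rfl⟩ := hφ g
      have h2 : π (y - ψ q) = 0 := by rw [map_sub, hπψ, hg, sub_self]
      have h3 : y - ψ q ∈ I • (⊤ : Submodule A' B') := by
        rw [Ideal.smul_top_eq_map, Submodule.restrictScalars_mem, ← hker]
        exact h2
      rw [Submodule.mem_sup]
      exact ⟨ψ q, ⟨q, rfl⟩, _, h3, by abel⟩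
    have h2 := K82.FlatKer.le_of_le_sup_smul hN h1
    intro y
    exact h2 (Submodule.mem_top (x := y))
  -- lifts in the kernel
  have hlift : ∀ i, ∃ g : MvPolynomial (Fin n) A', φ g = f i ∧ ψ g = 0 := by
    intro i
    obtain ⟨g, hg⟩ := hφ (f i)
    have h1 : π (ψ g) = 0 := by
      rw [hπψ, hg]
      exact Ideal.Quotient.eq_zero_iff_mem.mpr (Ideal.subset_span ⟨i, rfl⟩)
    have h2 : ψ g ∈ I • (⊤ : Submodule A' B') := by
      rw [Ideal.smul_top_eq_map, Submodule.restrictScalars_mem, ← hker]
      exact h1
    have h3 : I • (⊤ : Submodule A' B') =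
        (I • (⊤ : Submodule A' (MvPolynomial (Fin n) A'))).map ψ.toLinearMap := by
      rw [Submodule.map_smul'', Submodule.map_top, LinearMap.range_eq_top.mpr hψ]
    rw [h3] at h2
    obtain ⟨h, hh, hhg⟩ := h2
    refine ⟨g - h, ?_, ?_⟩
    · have : φ h = 0 := by
        rw [SetLike.mem_coe, Ideal.smul_top_eq_map, Submodule.restrictScalars_mem, ← hφker] at hh
        exact hh
      rw [map_sub, hg, this, sub_zero]
    · rw [map_sub, sub_eq_zero]; exact hhg.symm
  choose f' hf' hψf' using hlift
  refine ⟨f', ψ, hf', hψ, ?_, hπψ⟩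
  apply le_antisymm
  · have h1 : LinearMap.ker ψ.toLinearMap ≤
        (Ideal.span (Set.range f')).restrictScalars A' ⊔ I • LinearMap.ker ψ.toLinearMap := by
      intro k hk
      have hk0 : ψ k = 0 := hk
      have h2 : φ k ∈ Ideal.span (Set.range f) := by
        apply Ideal.Quotient.eq_zero_iff_mem.mp
        rw [← hπψ, hk0, map_zero]
      obtain ⟨c, hc⟩ := Ideal.mem_span_range_iff_exists_fun.mp h2
      choose c' hc' using fun i => hφ (c i)
      have h3 : φ (k - ∑ i, c' i * f' i) = 0 := by
        rw [map_sub, ← hc, map_sum, sub_eq_zero]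
        refine Finset.sum_congr rfl fun i _ => ?_
        rw [map_mul, hc', hf']
      have h4 : ψ (k - ∑ i, c' i * f' i) = 0 := by
        rw [map_sub, hk0, map_sum, zero_sub, neg_eq_zero]
        refine Finset.sum_eq_zero fun i _ => ?_
        rw [map_mul, hψf', mul_zero]
      have h5 : (k - ∑ i, c' i * f' i) ∈ I • (⊤ : Submodule A' (MvPolynomial (Fin n) A')) := by
        rw [Ideal.smul_top_eq_map, Submodule.restrictScalars_mem, ← hφker]
        exact h3
      have h6 := K82.FlatKer.mem_smul_ker (ψ := ψ.toLinearMap) hψ h4 h5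
      rw [Submodule.mem_sup]
      refine ⟨∑ i, c' i * f' i, ?_, _, h6, by ring⟩
      exact Ideal.mem_span_range_iff_exists_fun.mpr ⟨c', rfl⟩
    have h2 := K82.FlatKer.le_of_le_sup_smul hN h1
    intro k hk
    exact h2 hk
  · rw [Ideal.span_le]
    rintro _ ⟨i, rfl⟩
    exact hψf' i

end Groth.Agent.S13134
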