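import Groth.Statements.S13135
import Groth.Agent.CAlg.K82.ArtinReg

set_option autoImplicit false
universe u
open CAlg

namespace Groth.Agent.S13135

/-- Let A' be an Artinian local ring, I a proper ideal, A = A'/I and f_1, …, f_m a regular sequence in
A[x_1, …, x_n]. For every choice of lifts f'_1, …, f'_m in A'[x_1, …, x_n] the quotient A'[x]/(f'_1,
…, f'_m) is flat over A' (so it is a flat lifting of A[x]/(f_1, …, f_m)). (The published statement
is for a surjection of local Artinian algebras with a fixed residue field over a ring of Witt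
vectors; only the Artinian local base and the proper ideal are used, which is the form taken here.) -/
theorem result
    {A' : Type u} [CommRing A'] [IsArtinianRing A'] [IsLocalRing A'] (I : Ideal A') (hI : I ≠ ⊤)
    {n m : ℕ} (f : Fin m → MvPolynomial (Fin n) (A' ⧸ I))
    (hreg : RingTheory.Sequence.IsRegular (MvPolynomial (Fin n) (A' ⧸ I)) (List.ofFn f))
    (f' : Fin m → MvPolynomial (Fin n) A') (hf' : ∀ i, MvPolynomial.map (Ideal.Quotient.mk I) (f' i) = f i) :
    Module.Flat A' (MvPolynomial (Fin n) A' ⧸ Ideal.span (Set.range f')) := by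
  haveI : Module.Flat A' (MvPolynomial (Fin n) A' ⧸ (⊥ : Ideal (MvPolynomial (Fin n) A'))) :=
    Module.Flat.of_linearEquiv
      ((Submodule.quotEquivOfEqBot (⊥ : Submodule (MvPolynomial (Fin n) A')
        (MvPolynomial (Fin n) A')) rfl).restrictScalars A')
  let φ : MvPolynomial (Fin n) A' →+* MvPolynomial (Fin n) (A' ⧸ I) :=
    MvPolynomial.map (Ideal.Quotient.mk I)
  have hφ : Function.Surjective φ := MvPolynomial.map_surjective _ Ideal.Quotient.mk_surjective
  have hker : RingHom.ker φ = I.map (algebraMap A' (MvPolynomial (Fin n) A')) := by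
    rw [MvPolynomial.ker_map, Ideal.mk_ker]; rfl
  have hf : List.ofFn f = (List.ofFn f').map φ := by
    rw [List.map_ofFn]
    congr 1
    funext i
    exact (hf' i).symm
  have h1 := hreg.toIsWeaklyRegular
  rw [hf, K82.ArtinReg.isWeaklyRegular_iff_regMod_bot, ← K82.ArtinReg.regMod_comap_iff φ hφ,
    ← RingHom.ker_eq_comap_bot, hker] at h1
  have h2 := K82.ArtinReg.regMod_iff (A := A') (B := MvPolynomial (Fin n) A') I hI (List.ofFn f') ⊥
  rw [bot_sup_eq] at h2
  have h3 := h2.2 (h2.1.mpr h1)
  have h4 : (⊥ : Ideal (MvPolynomial (Fin n) A')) ⊔ Ideal.ofList (List.ofFn f') =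
      Ideal.span (Set.range f') := by
    rw [bot_sup_eq, Ideal.ofList]
    congr 1
    ext x
    simp [List.mem_ofFn]
  rwa [h4] at h3

end Groth.Agent.S13135
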