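import Groth.Statements.S13137
import Groth.Agent.FrobAlg.K673.W2Basic

set_option autoImplicit false
universe u v
open FrobAlg

namespace Groth.Agent.S13137

/-- For a perfect field k of characteristic p, a flat W₂(k)-algebra B and an ideal J of B, the quotient
B/J is flat over W₂(k) if and only if (p) ∩ J = pJ in B. (With B a flat lifting of A = B/pB this
says: B/J is a flat lifting of A modulo the image of J exactly when (p) ∩ J = pJ.) -/
theorem result
    (p : ℕ) [Fact p.Prime] (k : Type u) [Field k] [CharP k p] [PerfectRing k p]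
    (B : Type v) [CommRing B] [Algebra (FrobAlg.W2 p k) B] [Module.Flat (FrobAlg.W2 p k) B]
    (J : Ideal B) :
    Module.Flat (FrobAlg.W2 p k) (B ⧸ J) ↔
      Ideal.span {(p : B)} ⊓ J = Ideal.span {(p : B)} * J := by
  have hsm : ∀ b : B, (p : FrobAlg.W2 p k) • b = (p : B) * b := fun b => by
    rw [Algebra.smul_def, map_natCast]
  have hflat : ∀ b : B, (p : B) * b = 0 → ∃ b', b = (p : B) * b' := fun b hb => by
    obtain ⟨b', hb'⟩ := (K673.W2Basic.flat_iff p k B).1 inferInstance b ((hsm b).trans hb)
    exact ⟨b', hb'.trans (hsm b')⟩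
  have hpp : (p : B) * (p : B) = 0 := by
    have := congrArg (algebraMap (FrobAlg.W2 p k) B) (K673.W2Basic.natCast_mul_natCast p k)
    rwa [map_mul, map_natCast, map_zero] at this
  have hsq : ∀ b : B ⧸ J, (p : FrobAlg.W2 p k) • b = (p : B ⧸ J) * b := fun b => by
    rw [Algebra.smul_def, map_natCast]
  rw [K673.W2Basic.flat_iff]
  constructor
  · intro h
    apply le_antisymm
    · rintro x ⟨hx, hxJ⟩
      obtain ⟨b, rfl⟩ := Ideal.mem_span_singleton'.1 hx
      obtain ⟨q, hq⟩ := h (Ideal.Quotient.mk J b) (by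
        rw [hsq, ← map_natCast (Ideal.Quotient.mk J), ← map_mul, Ideal.Quotient.eq_zero_iff_mem,
          mul_comm]
        exact hxJ)
      obtain ⟨b', rfl⟩ := Ideal.Quotient.mk_surjective q
      rw [hsq, ← map_natCast (Ideal.Quotient.mk J), ← map_mul, Ideal.Quotient.eq] at hq
      have : b * (p : B) = (p : B) * (b - (p : B) * b') := by
        linear_combination b' * hpp
      rw [this]
      exact Ideal.mul_mem_mul (Ideal.subset_span rfl) hq
    · exact Ideal.mul_le_inf
  · intro h m hm
    obtain ⟨b, rfl⟩ := Ideal.Quotient.mk_surjective m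
    rw [hsq, ← map_natCast (Ideal.Quotient.mk J), ← map_mul, Ideal.Quotient.eq_zero_iff_mem] at hm
    have h1 : (p : B) * b ∈ Ideal.span {(p : B)} * J := by
      rw [← h]
      exact ⟨Ideal.mul_mem_right _ _ (Ideal.subset_span rfl), hm⟩
    obtain ⟨j, hj, hj1⟩ := Ideal.mem_span_singleton_mul.1 h1
    obtain ⟨b', hb'⟩ := hflat (b - j) (by rw [mul_sub, hj1, sub_self])
    refine ⟨Ideal.Quotient.mk J b', ?_⟩
    rw [hsq, ← map_natCast (Ideal.Quotient.mk J), ← map_mul, Ideal.Quotient.eq]
    rw [← hb']
    simpa using hj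

end Groth.Agent.S13137
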