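import Groth.Statements.S13139
import Groth.Agent.FrobAlg.K673.PolyFrob
import Mathlib.RingTheory.Regular.RegularSequence

set_option autoImplicit false
universe u
open scoped BigOperators
open FrobAlg

namespace Groth.Agent.S13139

open FrobAlg K673.W2Basic K673.Lift K673.PolyFrob MvPolynomial

/-- Lifts of a weakly regular sequence in the polynomial ring generate an ideal with flat quotient. -/
theorem flat_of_isWeaklyRegular {p : ℕ} [Fact p.Prime] {k : Type u} [Field k] [CharP k p]
    [PerfectRing k p] {σ : Type} (rs : List (MvPolynomial σ (W2 p k)))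
    (h : RingTheory.Sequence.IsWeaklyRegular (MvPolynomial σ k)
      (rs.map (MvPolynomial.map (res p k)))) :
    ∀ x, (p : MvPolynomial σ (W2 p k)) * x ∈ Ideal.ofList rs →
      ∃ y, x - (p : MvPolynomial σ (W2 p k)) * y ∈ Ideal.ofList rs := by
  induction rs using List.reverseRecOn with
  | nil =>
    intro x hx
    rw [Ideal.ofList_nil, Ideal.mem_bot, IsLift.natCast_mul_eq_zero_iff isLift_mvPolynomial,
      IsLift.pi_eq_zero_iff isLift_mvPolynomial] at hx
    obtain ⟨y, rfl⟩ := hx
    exact ⟨y, by rw [sub_self]; exact zero_mem _⟩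
  | append_singleton rs r ih =>
    rw [List.map_append, RingTheory.Sequence.isWeaklyRegular_append_iff] at h
    obtain ⟨h1, h2⟩ := h
    rw [List.map_singleton, RingTheory.Sequence.isWeaklyRegular_singleton_iff] at h2
    have hreg : ∀ y, MvPolynomial.map (res p k) r * y ∈
        (Ideal.ofList (rs.map (MvPolynomial.map (res p k)))) →
        y ∈ (Ideal.ofList (rs.map (MvPolynomial.map (res p k)))) := by
      intro y hy
      have h3 : MvPolynomial.map (res p k) r •
          (Submodule.Quotient.mk y : MvPolynomial σ k ⧸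
            (Ideal.ofList (rs.map (MvPolynomial.map (res p k))) •
              (⊤ : Submodule (MvPolynomial σ k) (MvPolynomial σ k)))) = 0 := by
        rw [← Submodule.Quotient.mk_smul, Submodule.Quotient.mk_eq_zero, smul_eq_mul,
          smul_eq_mul, Ideal.mul_top]
        exact hy
      have h4 := h2.right_eq_zero_of_smul h3
      rwa [Submodule.Quotient.mk_eq_zero, smul_eq_mul, Ideal.mul_top] at h4
    intro x hx
    rw [Ideal.ofList_append, Ideal.ofList_singleton] at hx ⊢
    obtain ⟨j, hj, z, hz, hjz⟩ := Submodule.mem_sup.1 hx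
    obtain ⟨y, rfl⟩ := Ideal.mem_span_singleton'.1 hz
    have hpi : MvPolynomial.map (res p k) ((p : MvPolynomial σ (W2 p k)) * x) = 0 := by
      rw [map_mul, IsLift.pi_natCast (isLift_mvPolynomial (p := p) (k := k) (σ := σ)), zero_mul]
    have h5 : MvPolynomial.map (res p k) r * MvPolynomial.map (res p k) y ∈
        (Ideal.ofList (rs.map (MvPolynomial.map (res p k)))) := by
      have h6 : MvPolynomial.map (res p k) r * MvPolynomial.map (res p k) y =
          - MvPolynomial.map (res p k) j := by
        rw [← hjz, map_add, map_mul] at hpi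
        linear_combination hpi
      rw [h6, ← Ideal.map_ofList]
      exact neg_mem (Ideal.mem_map_of_mem _ hj)
    have h7 := hreg _ h5
    rw [← Ideal.map_ofList] at h7
    obtain ⟨j2, hj2, hj2y⟩ := (Ideal.mem_map_iff_of_surjective _ red_surjective).1 h7
    have h8 : MvPolynomial.map (res p k) (y - j2) = 0 := by rw [map_sub, hj2y, sub_self]
    obtain ⟨w, hw⟩ := (IsLift.pi_eq_zero_iff isLift_mvPolynomial _).1 h8
    have h9 : (p : MvPolynomial σ (W2 p k)) * (x - r * w) ∈ Ideal.ofList rs := by
      have : (p : MvPolynomial σ (W2 p k)) * (x - r * w) = j + r * j2 := by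
        linear_combination r * hw - hjz
      rw [this]
      exact add_mem hj (Ideal.mul_mem_left _ _ hj2)
    obtain ⟨v, hv⟩ := ih h1 _ h9
    refine ⟨v, ?_⟩
    have : x - (p : MvPolynomial σ (W2 p k)) * v =
      (x - r * w - (p : MvPolynomial σ (W2 p k)) * v) + w * r := by ring
    rw [this]
    exact Submodule.add_mem_sup hv (Ideal.mem_span_singleton'.2 ⟨w, rfl⟩)

/-- Let k be a perfect field of characteristic p and f_1, …, f_m a regular sequence in R = k[x_1, …,
x_n]. The complete intersection A = R/(f_1, …, f_m) lifts to W₂(k) compatibly with Frobenius if and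
only if for some lifts f'_1, …, f'_m ∈ R' = W₂(k)[x_1, …, x_n] of the f_i and some h_1, …, h_n ∈ R'
one has F'(f'_i) − f'_i^p − p·Σ_j (∂f'_i/∂x_j)^p h_j ∈ p·(f'_1, …, f'_m) for every i, F' being the
standard Frobenius lift of R'. In terms of Frobenius residues P(f') = (F'(f') − f'^p)/p ∈ R, which
change by g^p when f' changes by pg, this is the congruence P_{f_i} + g_i^p ≡ Σ_j (∂f_i/∂x_j)^p h_j
modulo (f_1, …, f_m) for some g_i, h_j. -/
theorem result
    (p : ℕ) [Fact p.Prime] (k : Type u) [Field k] [CharP k p] [PerfectRing k p]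
    {n m : ℕ} (f : Fin m → MvPolynomial (Fin n) k)
    (hreg : RingTheory.Sequence.IsRegular (MvPolynomial (Fin n) k) (List.ofFn f)) :
    FrobAlg.IsFLiftable p k (MvPolynomial (Fin n) k ⧸ Ideal.span (Set.range f)) ↔
    ∃ (f' : Fin m → MvPolynomial (Fin n) (FrobAlg.W2 p k)) (h : Fin n → MvPolynomial (Fin n) (FrobAlg.W2 p k)),
      (∀ i, MvPolynomial.map (FrobAlg.res p k) (f' i) = f i) ∧
      ∀ i, FrobAlg.polyFrob p k (Fin n) (f' i) - f' i ^ p
        - (p : MvPolynomial (Fin n) (FrobAlg.W2 p k)) * ∑ j, MvPolynomial.pderiv j (f' i) ^ p * h j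
        ∈ Ideal.span {(p : MvPolynomial (Fin n) (FrobAlg.W2 p k))} * Ideal.span (Set.range f') := by
  constructor
  · rintro ⟨B, _, ι, π, Φ, hΦ⟩
    have hL := hΦ.toIsLift
    let ψ : MvPolynomial (Fin n) (W2 p k) →+* B := MvPolynomial.eval₂Hom ι
      (fun j => Function.surjInv hL.surj (Ideal.Quotient.mk _ (X j)))
    have hψC : ψ.comp C = ι := by
      ext w
      rw [RingHom.comp_apply]
      exact MvPolynomial.eval₂Hom_C _ _ _
    have hψπ : ∀ x, π (ψ x) = Ideal.Quotient.mk _ (MvPolynomial.map (res p k) x) := by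
      have : π.comp ψ = (Ideal.Quotient.mk _).comp (MvPolynomial.map (res p k)) := by
        refine MvPolynomial.ringHom_ext (fun w => ?_) (fun j => ?_)
        · have e1 : ψ (C w) = ι w := by rw [← hψC]; rfl
          rw [RingHom.comp_apply, e1, ← RingHom.comp_apply, hL.comm, RingHom.comp_apply,
            RingHom.comp_apply, map_C]
          rfl
        · rw [RingHom.comp_apply, RingHom.comp_apply, map_X]
          have e1 : ψ (X j) = Function.surjInv hL.surj (Ideal.Quotient.mk _ (X j)) :=
            MvPolynomial.eval₂Hom_X' _ _ _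
          rw [e1, Function.surjInv_eq hL.surj]
      exact fun x => RingHom.congr_fun this x
    have hmod : ∀ b, ∃ x c, b = ψ x + (p : B) * c := by
      intro b
      obtain ⟨r, hr⟩ := Ideal.Quotient.mk_surjective (π b)
      obtain ⟨x, rfl⟩ := red_surjective (p := p) r
      have h1 : π (b - ψ x) = 0 := by rw [map_sub, hψπ, hr, sub_self]
      obtain ⟨c, hc⟩ := (IsLift.pi_eq_zero_iff hL _).1 h1
      exact ⟨x, c, by rw [← hc]; ring⟩
    have hpp : (p : B) * (p : B) = 0 := IsLift.natCast_mul_natCast hL
    have hpψ : ∀ b, ∃ x, (p : B) * b = (p : B) * ψ x := by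
      intro b
      obtain ⟨x, c, rfl⟩ := hmod b
      exact ⟨x, by linear_combination c * hpp⟩
    have hψ : Function.Surjective ψ := by
      intro b
      obtain ⟨x, c, rfl⟩ := hmod b
      obtain ⟨y, hy⟩ := hpψ c
      exact ⟨x + (p : MvPolynomial (Fin n) (W2 p k)) * y, by
        rw [map_add, map_mul, map_natCast, hy]⟩
    have hf' : ∀ i, ∃ f' : MvPolynomial (Fin n) (W2 p k),
        MvPolynomial.map (res p k) f' = f i ∧ ψ f' = 0 := by
      intro i
      obtain ⟨g, hg⟩ := red_surjective (p := p) (f i)
      have h1 : π (ψ g) = 0 := by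
        rw [hψπ, hg, Ideal.Quotient.eq_zero_iff_mem]
        exact Ideal.subset_span ⟨i, rfl⟩
      obtain ⟨c, hc⟩ := (IsLift.pi_eq_zero_iff hL _).1 h1
      obtain ⟨y, hy⟩ := hpψ c
      refine ⟨g - (p : MvPolynomial (Fin n) (W2 p k)) * y, ?_, ?_⟩
      · rw [map_sub, map_mul, IsLift.pi_natCast (isLift_mvPolynomial (p := p) (k := k)), zero_mul,
          sub_zero, hg]
      · rw [map_sub, map_mul, map_natCast, ← hy, hc, sub_self]
    choose f' hf'1 hf'2 using hf'
    have hle : Ideal.span (Set.range f') ≤ RingHom.ker ψ := by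
      rw [Ideal.span_le]
      rintro _ ⟨i, rfl⟩
      exact hf'2 i
    have hkey : ∀ g ∈ RingHom.ker ψ, ∃ c ∈ RingHom.ker ψ,
        g - (p : MvPolynomial (Fin n) (W2 p k)) * c ∈ Ideal.span (Set.range f') := by
      intro g hg
      have h1 : MvPolynomial.map (res p k) g ∈ (Ideal.span (Set.range f')).map
          (MvPolynomial.map (res p k)) := by
        rw [Ideal.map_span, ← Set.range_comp]
        have e1 : (MvPolynomial.map (res p k)) ∘ f' = f := funext hf'1
        rw [e1, ← Ideal.Quotient.eq_zero_iff_mem, ← hψπ, (RingHom.mem_ker).1 hg, map_zero]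
      obtain ⟨j, hj, hjg⟩ := (Ideal.mem_map_iff_of_surjective _ red_surjective).1 h1
      have h2 : MvPolynomial.map (res p k) (g - j) = 0 := by rw [map_sub, hjg, sub_self]
      obtain ⟨c, hc⟩ := (IsLift.pi_eq_zero_iff isLift_mvPolynomial _).1 h2
      have h3 : (p : B) * ψ c = 0 := by
        have h4 := congrArg ψ hc
        rw [map_sub, (RingHom.mem_ker).1 hg, (RingHom.mem_ker).1 (hle hj), sub_self, map_mul,
          map_natCast] at h4
        exact h4.symm
      rw [IsLift.natCast_mul_eq_zero_iff hL, IsLift.pi_eq_zero_iff hL] at h3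
      obtain ⟨b, hb⟩ := h3
      obtain ⟨y, hy⟩ := hpψ b
      refine ⟨c - (p : MvPolynomial (Fin n) (W2 p k)) * y, ?_, ?_⟩
      · rw [RingHom.mem_ker, map_sub, map_mul, map_natCast, hb, hy, sub_self]
      · have hpp' : (p : MvPolynomial (Fin n) (W2 p k)) * (p : MvPolynomial (Fin n) (W2 p k)) = 0 :=
          IsLift.natCast_mul_natCast (A := MvPolynomial (Fin n) k) isLift_mvPolynomial
        have : g - (p : MvPolynomial (Fin n) (W2 p k)) *
            (c - (p : MvPolynomial (Fin n) (W2 p k)) * y) = j := by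
          linear_combination hc + y * hpp'
        rw [this]
        exact hj
    have hker : RingHom.ker ψ = Ideal.span (Set.range f') := by
      refine le_antisymm (fun g hg => ?_) hle
      obtain ⟨c, hc, hgc⟩ := hkey g hg
      obtain ⟨d, -, hcd⟩ := hkey c hc
      have hpp' : (p : MvPolynomial (Fin n) (W2 p k)) * (p : MvPolynomial (Fin n) (W2 p k)) = 0 :=
          IsLift.natCast_mul_natCast (A := MvPolynomial (Fin n) k) isLift_mvPolynomial
      have : g = (g - (p : MvPolynomial (Fin n) (W2 p k)) * c) +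
          (p : MvPolynomial (Fin n) (W2 p k)) * (c - (p : MvPolynomial (Fin n) (W2 p k)) * d) := by
        linear_combination d * hpp'
      rw [this]
      exact add_mem hgc (Ideal.mul_mem_left _ _ hcd)
    obtain ⟨h, hh⟩ := (exists_frobLift_iff hL ψ hψ hψC f' hker).1 ⟨Φ, hΦ.semi, hΦ.red⟩
    exact ⟨f', h, hf'1, hh⟩
  · rintro ⟨f', h, hf', hh⟩
    have hJ : (Ideal.span (Set.range f')).map (MvPolynomial.map (res p k)) =
        Ideal.span (Set.range f) := by
      rw [Ideal.map_span, ← Set.range_comp]
      congr 2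
      exact funext hf'
    have hfl : ∀ x, (p : MvPolynomial (Fin n) (FrobAlg.W2 p k)) * x ∈ Ideal.span (Set.range f') →
        ∃ y, x - (p : MvPolynomial (Fin n) (FrobAlg.W2 p k)) * y ∈ Ideal.span (Set.range f') := by
      have h1 := flat_of_isWeaklyRegular (p := p) (k := k) (List.ofFn f') (by
        rw [List.map_ofFn]
        have e1 : (MvPolynomial.map (res p k)) ∘ f' = f := funext hf'
        rw [e1]
        exact hreg.toIsWeaklyRegular)
      have h2 : Ideal.ofList (List.ofFn f') = Ideal.span (Set.range f') := by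
        unfold Ideal.ofList
        congr 1
        ext x
        simp [List.mem_ofFn]
      rwa [h2] at h1
    have hle : Ideal.span (Set.range f') ≤ (Ideal.span (Set.range f)).comap
        (MvPolynomial.map (res p k)) := by
      rw [← hJ]; exact Ideal.le_comap_map
    have hL := isLift_quotient (p := p) (k := k) (Ideal.span (Set.range f'))
      (Ideal.span (Set.range f)) hJ hle hfl
    obtain ⟨Φ, h1, h2⟩ := (exists_frobLift_iff hL (Ideal.Quotient.mk (Ideal.span (Set.range f')))
      Ideal.Quotient.mk_surjective rfl f' Ideal.mk_ker).2 ⟨h, hh⟩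
    exact ⟨_, inferInstance, _, _, Φ, ⟨hL, h1, h2⟩⟩

end Groth.Agent.S13139
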