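import Groth.Statements.S13141
import Mathlib.LinearAlgebra.TensorProduct.Basic

set_option autoImplicit false
universe u v w w'
open scoped TensorProduct
open GrpAlg

namespace Groth.Agent.S13141

/-- Let G be a finite group, R a commutative ring with |G| invertible in R, M a projective R-module with
an R-linear G-action and S an R-algebra. The natural map M^G ⊗_R S → M ⊗_R S is injective and its
image is the submodule of G-invariants of M ⊗_R S (G acting on the first factor); that is, M^G ⊗_R S
→ (M ⊗_R S)^G is bijective. -/
theorem result
    (R : Type u) [CommRing R] (G : Type v) [Group G] [Finite G] (hG : IsUnit ((Nat.card G : ℕ) : R))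
    (M : Type w) [AddCommGroup M] [Module R M] [Module.Projective R M] (ρ : Representation R G M)
    (S : Type w') [CommRing S] [Algebra R S] :
    Function.Injective (TensorProduct.map ρ.invariants.subtype (LinearMap.id : S →ₗ[R] S)) ∧
    LinearMap.range (TensorProduct.map ρ.invariants.subtype (LinearMap.id : S →ₗ[R] S)) =
      ⨅ g : G, LinearMap.eqLocus (LinearMap.rTensor S (ρ g)) LinearMap.id := by
  classical
  have := Fintype.ofFinite G
  obtain ⟨c, hc⟩ := hG.exists_left_inv
  -- the averaging map
  let e : M →ₗ[R] M := c • ∑ g : G, ρ g
  have he_apply : ∀ m, e m = c • ∑ g : G, ρ g m := by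
    intro m
    simp [e, LinearMap.sum_apply]
  have he_inv : ∀ m, e m ∈ ρ.invariants := by
    intro m
    rw [Representation.mem_invariants]
    intro g
    rw [he_apply, map_smul, map_sum]
    congr 1
    have : ∀ x : G, ρ g (ρ x m) = ρ (g * x) m := fun x => by
      rw [map_mul]; rfl
    simp only [this]
    exact Fintype.sum_bijective (g * ·) (Group.mulLeft_bijective g) _ _ (fun _ => rfl)
  have hsum : ∀ {N : Type _} [AddCommGroup N] [Module R N] (n : N),
      c • ∑ _g : G, n = n := by
    intro N _ _ n
    rw [Finset.sum_const, Finset.card_univ, ← Nat.cast_smul_eq_nsmul R, smul_smul,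
      Fintype.card_eq_nat_card, hc, one_smul]
  have he_id : ∀ m ∈ ρ.invariants, e m = m := by
    intro m hm
    rw [he_apply]
    have : ∀ g : G, ρ g m = m := (Representation.mem_invariants ρ m).1 hm
    simp only [this]
    exact hsum m
  let e' : M →ₗ[R] ρ.invariants := e.codRestrict ρ.invariants he_inv
  have h1 : e' ∘ₗ ρ.invariants.subtype = LinearMap.id := by
    ext m
    exact he_id m.1 m.2
  have h2 : ρ.invariants.subtype ∘ₗ e' = e := by
    ext m
    rfl
  constructor
  · apply Function.LeftInverse.injective (g := TensorProduct.map e' (LinearMap.id : S →ₗ[R] S))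
    intro x
    rw [← LinearMap.comp_apply, ← TensorProduct.map_comp, h1, LinearMap.id_comp,
      TensorProduct.map_id, LinearMap.id_apply]
  · apply le_antisymm
    · rintro _ ⟨x, rfl⟩
      rw [Submodule.mem_iInf]
      intro g
      rw [LinearMap.mem_eqLocus, LinearMap.rTensor, ← LinearMap.comp_apply, ← TensorProduct.map_comp]
      have : ρ g ∘ₗ ρ.invariants.subtype = ρ.invariants.subtype := by
        ext m
        exact (Representation.mem_invariants ρ m.1).1 m.2 g
      rw [this]
      rfl
    · intro x hx
      rw [Submodule.mem_iInf] at hx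
      refine ⟨TensorProduct.map e' (LinearMap.id : S →ₗ[R] S) x, ?_⟩
      rw [← LinearMap.comp_apply, ← TensorProduct.map_comp, h2, LinearMap.id_comp]
      have h3 : TensorProduct.map e (LinearMap.id : S →ₗ[R] S) =
          c • ∑ g : G, LinearMap.rTensor S (ρ g) := by
        change LinearMap.rTensor S e = _
        ext m s
        simp [e, LinearMap.sum_apply, TensorProduct.smul_tmul', TensorProduct.sum_tmul]
      rw [h3]
      have h4 : ∀ g : G, LinearMap.rTensor S (ρ g) x = x := fun g => (hx g)
      simp only [LinearMap.smul_apply, LinearMap.sum_apply, h4]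
      rw [Finset.sum_const, Finset.card_univ, ← Nat.cast_smul_eq_nsmul R, smul_smul,
        Fintype.card_eq_nat_card, hc, one_smul]

end Groth.Agent.S13141
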