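import Groth.Statements.S13142
import Mathlib.RingTheory.Flat.Basic

set_option autoImplicit false
universe u v
open GrpAlg

namespace Groth.Agent.S13142

/-- Let G be a finite group and R a commutative ring with |G| invertible in R, acting on R[x_1, …, x_n]
by R-algebra automorphisms. The invariant subring R[x_1, …, x_n]^G is a flat R-module (so the
quotient of affine n-space over R by G is flat over R). -/
theorem result
    (R : Type u) [CommRing R] (G : Type v) [Group G] [Finite G] (hG : IsUnit ((Nat.card G : ℕ) : R))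
    (n : ℕ) (ρ : G →* (MvPolynomial (Fin n) R ≃ₐ[R] MvPolynomial (Fin n) R)) :
    Module.Flat R ↥(⨅ g : G, LinearMap.eqLocus (ρ g).toLinearMap (LinearMap.id : MvPolynomial (Fin n) R →ₗ[R] MvPolynomial (Fin n) R)) := by
  classical
  have := Fintype.ofFinite G
  obtain ⟨c, hc⟩ := hG.exists_left_inv
  set V : Submodule R (MvPolynomial (Fin n) R) :=
    ⨅ g : G, LinearMap.eqLocus (ρ g).toLinearMap (LinearMap.id : MvPolynomial (Fin n) R →ₗ[R] MvPolynomial (Fin n) R) with hV
  have hmem : ∀ m, m ∈ V ↔ ∀ g : G, ρ g m = m := by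
    intro m
    rw [hV, Submodule.mem_iInf]
    rfl
  let e : MvPolynomial (Fin n) R →ₗ[R] MvPolynomial (Fin n) R := c • ∑ g : G, (ρ g).toLinearMap
  have he_apply : ∀ m, e m = c • ∑ g : G, ρ g m := by
    intro m
    simp [e, LinearMap.sum_apply]
  have he_inv : ∀ m, e m ∈ V := by
    intro m
    rw [hmem]
    intro g
    rw [he_apply, map_smul, map_sum]
    congr 1
    have : ∀ x : G, ρ g (ρ x m) = ρ (g * x) m := fun x => by
      rw [map_mul]; rfl
    simp only [this]
    exact Fintype.sum_bijective (g * ·) (Group.mulLeft_bijective g) _ _ (fun _ => rfl)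
  have he_id : ∀ m ∈ V, e m = m := by
    intro m hm
    rw [he_apply]
    have : ∀ g : G, ρ g m = m := (hmem m).1 hm
    simp only [this]
    rw [Finset.sum_const, Finset.card_univ, ← Nat.cast_smul_eq_nsmul R, smul_smul,
      Fintype.card_eq_nat_card, hc, one_smul]
  let e' : MvPolynomial (Fin n) R →ₗ[R] V := e.codRestrict V he_inv
  refine Module.Flat.of_retract V.subtype e' ?_
  ext m
  exact congrArg _ (he_id m.1 m.2)

end Groth.Agent.S13142
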