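import Groth.Statements.S13143
import Groth.Agent.FrobAlg.K673.Lift

set_option autoImplicit false
universe u
open FrobAlg

namespace Groth.Agent.S13143

/-- Let k be a perfect field of characteristic p and A → B a homomorphism of Noetherian k-algebras with
an A-linear retraction B → A. If B lifts flatly to W₂(k), so does A. (The published statement
phrases the descent for finite surjective morphisms of degree prime to p, via a trace splitting; the
argument uses exactly an A-linear splitting of A → B for an affine morphism, which is the hypothesis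
taken here.) -/
theorem result
    (p : ℕ) [Fact p.Prime] (k : Type u) [Field k] [CharP k p] [PerfectRing k p]
    (A B : Type u) [CommRing A] [CommRing B] [Algebra k A] [Algebra k B]
    [IsNoetherianRing A] [IsNoetherianRing B] [Algebra A B] [IsScalarTower k A B]
    (r : B →ₗ[A] A) (hr : ∀ a : A, r (algebraMap A B a) = a)
    (hB : FrobAlg.IsW2Liftable p k B) : FrobAlg.IsW2Liftable p k A := by
  classical
  obtain ⟨B', _, ιB, πB, hB⟩ := hB
  -- the fibre product `B' ×_B A`
  let T : Subring (B' × A) :=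
    RingHom.eqLocus (πB.comp (RingHom.fst B' A)) ((algebraMap A B).comp (RingHom.snd B' A))
  have hT : ∀ x : B' × A, x ∈ T ↔ πB x.1 = algebraMap A B x.2 := fun x => Iff.rfl
  -- the kernel of the push out along the retraction
  let K : Ideal T :=
    { carrier := {x | x.1.2 = 0 ∧ ∃ b, K673.Lift.jmap hB b = x.1.1 ∧ r b = 0}
      add_mem' := by
        rintro x y ⟨hx, b, hb, hb0⟩ ⟨hy, c, hc, hc0⟩
        refine ⟨?_, b + c, ?_, ?_⟩
        · change x.1.2 + y.1.2 = 0
          rw [hx, hy, add_zero]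
        · change _ = x.1.1 + y.1.1
          rw [map_add, hb, hc]
        · rw [map_add, hb0, hc0, add_zero]
      zero_mem' := ⟨rfl, 0, map_zero _, map_zero _⟩
      smul_mem' := by
        rintro c x ⟨hx, b, hb, hb0⟩
        refine ⟨?_, c.1.2 • b, ?_, ?_⟩
        · change c.1.2 * x.1.2 = 0
          rw [hx, mul_zero]
        · change _ = c.1.1 * x.1.1
          rw [Algebra.smul_def, ← (hT c.1).1 c.2, K673.Lift.jmap_mul_left, hb]
        · rw [map_smul, hb0, smul_zero] }
  have hK : ∀ x : T, x ∈ K ↔ x.1.2 = 0 ∧ ∃ b, K673.Lift.jmap hB b = x.1.1 ∧ r b = 0 :=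
    fun x => Iff.rfl
  let πE : T ⧸ K →+* A := Ideal.Quotient.lift K ((RingHom.snd B' A).comp T.subtype)
    (fun x hx => ((hK x).1 hx).1)
  have hπE : ∀ t : T, πE (Ideal.Quotient.mk K t) = t.1.2 := fun t => Ideal.Quotient.lift_mk _ _ _
  let ι0 : FrobAlg.W2 p k →+* T :=
    (RingHom.prod ιB ((algebraMap k A).comp (FrobAlg.res p k))).codRestrict T (by
      intro w
      rw [hT]
      change πB (ιB w) = algebraMap A B (algebraMap k A (FrobAlg.res p k w))
      rw [← RingHom.comp_apply, hB.comm, RingHom.comp_apply, IsScalarTower.algebraMap_apply k A B])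
  refine ⟨T ⧸ K, inferInstance, (Ideal.Quotient.mk K).comp ι0, πE, K673.Lift.isLift_iff.2
    ⟨?_, ?_, ?_, ?_⟩⟩
  · intro a
    obtain ⟨b', hb'⟩ := hB.surj (algebraMap A B a)
    exact ⟨Ideal.Quotient.mk K ⟨(b', a), hb'⟩, hπE _⟩
  · intro e he
    obtain ⟨t, rfl⟩ := Ideal.Quotient.mk_surjective e
    rw [← map_natCast (Ideal.Quotient.mk K), ← map_mul, Ideal.Quotient.eq_zero_iff_mem, hK] at he
    obtain ⟨-, b, hb, hb0⟩ := he
    have h1 : K673.Lift.jmap hB b = K673.Lift.jmap hB (πB t.1.1) := by
      rw [hb, K673.Lift.jmap_pi]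
      rfl
    have h2 := K673.Lift.jmap_injective hB h1
    rw [hπE, ← hr t.1.2, ← (hT t.1).1 t.2, ← h2, hb0]
  · intro e he
    obtain ⟨t, rfl⟩ := Ideal.Quotient.mk_surjective e
    rw [hπE] at he
    have h1 : πB t.1.1 = 0 := by rw [(hT t.1).1 t.2, he, map_zero]
    obtain ⟨b, hb⟩ := K673.Lift.exists_jmap hB _ h1
    obtain ⟨b', hb'⟩ := hB.surj (algebraMap A B (r b))
    refine ⟨Ideal.Quotient.mk K ⟨(b', r b), hb'⟩, ?_⟩
    rw [← map_natCast (Ideal.Quotient.mk K), ← map_mul, ← sub_eq_zero, ← map_sub,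
      Ideal.Quotient.eq_zero_iff_mem, hK]
    refine ⟨?_, b - algebraMap A B (r b), ?_, ?_⟩
    · change t.1.2 - (p : A) * r b = 0
      rw [he, ← map_natCast (algebraMap k A) p, CharP.cast_eq_zero, map_zero, zero_mul, sub_zero]
    · change _ = t.1.1 - (p : B') * b'
      rw [map_sub, hb, ← hb', K673.Lift.jmap_pi]
    · rw [map_sub, hr, sub_self]
  · ext w
    rfl

end Groth.Agent.S13143
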