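import Groth.Statements.S13144
import Groth.Agent.FrobAlg.K673.Lift

set_option autoImplicit false
universe u
open FrobAlg

namespace Groth.Agent.S13144

/-- Let k be a perfect field of characteristic p, A → B a homomorphism of Noetherian k-algebras with an
A-linear retraction B → A, and A' → B' a homomorphism over W₂(k) between flat liftings of A and B
which reduces to A → B. If the Frobenius of B lifts to B' (a σ₂-semilinear ring endomorphism
reducing to the p-th power map), then the Frobenius of A lifts to A'. (The published statement is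
for an affine morphism whose map on structure sheaves splits linearly; the affine case with an
A-linear splitting is taken here.) -/
theorem result
    (p : ℕ) [Fact p.Prime] (k : Type u) [Field k] [CharP k p] [PerfectRing k p]
    (A B : Type u) [CommRing A] [CommRing B] [Algebra k A] [Algebra k B]
    [IsNoetherianRing A] [IsNoetherianRing B] [Algebra A B] [IsScalarTower k A B]
    (r : B →ₗ[A] A) (hr : ∀ a : A, r (algebraMap A B a) = a)
    (A' B' : Type u) [CommRing A'] [CommRing B']
    (ιA : FrobAlg.W2 p k →+* A') (πA : A' →+* A) (hA : FrobAlg.IsLift p k A A' ιA πA)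
    (ιB : FrobAlg.W2 p k →+* B') (πB : B' →+* B) (hB : FrobAlg.IsLift p k B B' ιB πB)
    (φ' : A' →+* B') (hφι : φ'.comp ιA = ιB) (hφπ : πB.comp φ' = (algebraMap A B).comp πA)
    (ΦB : B' →+* B') (hΦB : FrobAlg.IsFrobLift p k B B' ιB πB ΦB) :
    ∃ ΦA : A' →+* A', FrobAlg.IsFrobLift p k A A' ιA πA ΦA := by
  have hB0 := hΦB.toIsLift
  -- the relation defining the lifting of Frobenius
  have hj : ∀ a : A, φ' (K673.Lift.jmap hA a) = K673.Lift.jmap hB (algebraMap A B a) :=
    fun a => K673.Lift.map_jmap hA hB (algebraMap A B) φ' hφπ a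
  have hπφ : ∀ x : A', πB (φ' x) = algebraMap A B (πA x) := fun x => by
    rw [← RingHom.comp_apply, hφπ, RingHom.comp_apply]
  have hinj : Function.Injective (algebraMap A B) := fun a b hab => by
    rw [← hr a, ← hr b, hab]
  have hrel : ∀ x y b, ΦB (φ' x) = φ' y + K673.Lift.jmap hB b → πA y = πA x ^ p := by
    intro x y b hxy
    apply hinj
    have h1 := congrArg πB hxy
    rw [hΦB.red, map_add, K673.Lift.pi_jmap, add_zero, hπφ, hπφ] at h1
    rw [← h1, map_pow]
  have key : ∃ ΦA : A' →+* A', ∀ x, ∃ b : B, ΦB (φ' x) = φ' (ΦA x) + K673.Lift.jmap hB b ∧ r b = 0 := by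
    refine K673.Lift.exists_ringHom_of_rel
      (fun x y : A' => ∃ b : B, ΦB (φ' x) = φ' y + K673.Lift.jmap hB b ∧ r b = 0) ?_ ?_ ?_ ?_ ?_ ?_
    · intro x
      obtain ⟨y0, hy0⟩ := hA.surj (πA x ^ p)
      have h1 : πB (ΦB (φ' x) - φ' y0) = 0 := by
        rw [map_sub, hΦB.red, hπφ, hπφ, hy0, map_pow, sub_self]
      obtain ⟨b0, hb0⟩ := K673.Lift.exists_jmap hB _ h1
      refine ⟨y0 + K673.Lift.jmap hA (r b0), b0 - algebraMap A B (r b0), ?_, ?_⟩
      · rw [map_add, hj, map_sub, hb0]
        ring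
      · rw [map_sub, hr, sub_self]
    · rintro x y y' ⟨b, hb, hb0⟩ ⟨b', hb', hb0'⟩
      have h4 : πA (y - y') = 0 := by rw [map_sub, hrel _ _ _ hb, hrel _ _ _ hb', sub_self]
      obtain ⟨a, ha⟩ := K673.Lift.exists_jmap hA _ h4
      have h5 : K673.Lift.jmap hB (algebraMap A B a) = K673.Lift.jmap hB (b' - b) := by
        rw [← hj, ha, map_sub, map_sub, sub_eq_sub_iff_add_eq_add, ← hb, hb', add_comm]
      have h6 := K673.Lift.jmap_injective hB h5
      have h7 : a = 0 := by rw [← hr a, h6, map_sub, hb0, hb0', sub_self]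
      rw [h7, map_zero] at ha
      exact sub_eq_zero.1 ha.symm
    · exact ⟨0, by rw [map_one, map_one, map_zero, add_zero], map_zero _⟩
    · exact ⟨0, by rw [map_zero, map_zero, map_zero, add_zero], map_zero _⟩
    · rintro x x' y y' ⟨b, hb, hb0⟩ ⟨b', hb', hb0'⟩
      refine ⟨b + b', ?_, by rw [map_add, hb0, hb0', add_zero]⟩
      rw [map_add, map_add, map_add, map_add, hb, hb']
      ring
    · rintro x x' y y' ⟨b, hb, hb0⟩ ⟨b', hb', hb0'⟩
      refine ⟨algebraMap A B (πA y') * b + algebraMap A B (πA y) * b', ?_, ?_⟩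
      · rw [map_mul, map_mul, map_mul, map_add, hb, hb', ← hπφ, ← hπφ, K673.Lift.jmap_mul_left,
          K673.Lift.jmap_mul_left]
        linear_combination K673.Lift.jmap_mul_jmap hB b b'
      · rw [map_add, ← Algebra.smul_def, ← Algebra.smul_def, map_smul, map_smul, hb0, hb0', smul_zero,
          smul_zero, add_zero]
  obtain ⟨ΦA, hΦA⟩ := key
  · refine ⟨ΦA, ⟨hA, ?_, ?_⟩⟩
    · ext w
      obtain ⟨b, hb, hb0⟩ := hΦA (ιA w)
      have h1 : ΦB (φ' (ιA w)) = φ' (ιA (FrobAlg.sigma p k w)) := by
        have e1 : ∀ w, φ' (ιA w) = ιB w := fun w => by rw [← RingHom.comp_apply, hφι]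
        rw [e1, e1, ← RingHom.comp_apply, hΦB.semi, RingHom.comp_apply]
      rw [h1] at hb
      have h2 : πA (ΦA (ιA w)) = πA (ιA (FrobAlg.sigma p k w)) := by
        apply hinj
        have h3 := congrArg πB hb
        rw [map_add, K673.Lift.pi_jmap, add_zero, hπφ, hπφ] at h3
        exact h3.symm
      have h4 : πA (ιA (FrobAlg.sigma p k w) - ΦA (ιA w)) = 0 := by rw [map_sub, h2, sub_self]
      obtain ⟨a, ha⟩ := K673.Lift.exists_jmap hA _ h4
      have h5 : K673.Lift.jmap hB (algebraMap A B a) = K673.Lift.jmap hB b := by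
        rw [← hj, ha, map_sub, hb, add_sub_cancel_left]
      have h6 := K673.Lift.jmap_injective hB h5
      have h7 : a = 0 := by rw [← hr a, h6, hb0]
      rw [h7, map_zero] at ha
      rw [RingHom.comp_apply, RingHom.comp_apply]
      exact (sub_eq_zero.1 ha.symm).symm
    · intro x
      obtain ⟨b, hb, hb0⟩ := hΦA x
      exact hrel _ _ _ hb

end Groth.Agent.S13144
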