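import Groth.Statements.S13145
import Groth.Agent.FrobAlg.K673.Conormal
import Mathlib.RingTheory.EssentialFiniteness
import Mathlib.RingTheory.Polynomial.Basic
import Mathlib.RingTheory.Localization.Submodule

set_option autoImplicit false
universe u
open FrobAlg

namespace Groth.Agent.S13145

open FrobAlg K673.W2Basic K673.Lift K673.Conormal

theorem isNoetherianRing_W2 (p : ℕ) [Fact p.Prime] (k : Type u) [Field k] [CharP k p]
    [PerfectRing k p] : IsNoetherianRing (W2 p k) := by
  rw [isNoetherianRing_iff_ideal_fg]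
  intro I
  rcases ideal_eq p k I with rfl | rfl | rfl
  · exact Submodule.fg_bot
  · exact ⟨{(p : W2 p k)}, by simp [Ideal.span]⟩
  · exact ⟨{1}, by simp⟩

theorem isUnit_of_isUnit_pi {p : ℕ} [Fact p.Prime] {k : Type u} [Field k] [CharP k p]
    [PerfectRing k p] {A : Type u} [CommRing A] [Algebra k A] {B : Type u} [CommRing B]
    {ι : W2 p k →+* B} {π : B →+* A} (h : IsLift p k A B ι π) (b : B) (hb : IsUnit (π b)) :
    IsUnit b := by
  obtain ⟨c, hc⟩ := hb.exists_right_inv
  obtain ⟨d, rfl⟩ := h.surj c
  have h1 : π (b * d - 1) = 0 := by rw [map_sub, map_mul, hc, map_one, sub_self]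
  obtain ⟨e, he⟩ := (K673.Lift.IsLift.pi_eq_zero_iff h _).1 h1
  have hn : IsNilpotent (b * d - 1) := ⟨2, by
    rw [he, mul_pow, pow_two (p : B), K673.Lift.IsLift.natCast_mul_natCast h, zero_mul]⟩
  have hu : IsUnit (b * d) := by
    have : b * d = 1 + (b * d - 1) := by ring
    rw [this]
    exact IsNilpotent.isUnit_one_add hn
  exact isUnit_of_mul_isUnit_left hu

theorem finish {p : ℕ} [Fact p.Prime] {k : Type u} [Field k] [CharP k p] [PerfectRing k p]
    {A B P : Type u} [CommRing A] [CommRing B] [CommRing P] [Algebra k A] [Algebra A B] 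
    [Module.FaithfullyFlat A B] [Algebra P A] [Algebra P B] [IsScalarTower P A B]
    (hsurj : Function.Surjective (algebraMap P A)) (ι : W2 p k →+* P)
    (hι : (algebraMap P A).comp ι = (algebraMap k A).comp (res p k))
    (hp : (p : P) ∈ RingHom.ker (algebraMap P A)) (hPN : IsNoetherianRing P)
    (T : RingHom.ker (algebraMap P A) →ₗ[P] B) (hT : T ⟨(p : P), hp⟩ = 1) :
    FrobAlg.IsW2Liftable p k A := by
  have : Module.FinitePresentation P (RingHom.ker (algebraMap P A)) :=
    Module.finitePresentation_of_finite _ _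
  obtain ⟨t, ht⟩ := exists_linearMap_eq_one_of_faithfullyFlat (A := A) _ T hT
  exact isW2Liftable_of_linearMap hsurj ι hι hp t ht

theorem main (p : ℕ) [Fact p.Prime] (k : Type u) [Field k] [CharP k p] [PerfectRing k p]
    (A B : Type u) [CommRing A] [CommRing B] [Algebra k A] [Algebra.EssFiniteType k A]
    [Algebra A B] [Module.FaithfullyFlat A B] [Algebra k B] [IsScalarTower k A B]
    (hB : FrobAlg.IsW2Liftable p k B) : FrobAlg.IsW2Liftable p k A := by
  obtain ⟨B', _, ιB, πB, hB⟩ := hB
  have hloc : IsLocalization ((IsUnit.submonoid A).comap (algebraMap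
    (Algebra.adjoin k (Algebra.EssFiniteType.finset k A : Set A)) A)) A :=
    Algebra.EssFiniteType.isLocalization k A
  rw [Algebra.essFiniteType_cond_iff] at hloc
  set σ := Algebra.EssFiniteType.finset k A with hσ
  let Q := MvPolynomial σ (W2 p k)
  have : IsNoetherianRing (W2 p k) := isNoetherianRing_W2 p k
  let θ0 : Q →+* A := MvPolynomial.eval₂Hom ((algebraMap k A).comp (res p k)) (fun i => i.1)
  have hθ0 : ∀ x ∈ Algebra.adjoin k (σ : Set A), ∃ q, θ0 q = x := by
    intro x hx
    induction hx using Algebra.adjoin_induction with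
    | mem x hx => exact ⟨MvPolynomial.X ⟨x, hx⟩, MvPolynomial.eval₂Hom_X' _ _ _⟩
    | algebraMap r =>
      obtain ⟨w, rfl⟩ := res_surjective p k r
      exact ⟨MvPolynomial.C w, by
        change MvPolynomial.eval₂Hom ((algebraMap k A).comp (res p k)) _ (MvPolynomial.C w) = _
        rw [MvPolynomial.eval₂Hom_C]; rfl⟩
    | add x y _ _ hx hy =>
      obtain ⟨a, rfl⟩ := hx
      obtain ⟨b, rfl⟩ := hy
      exact ⟨a + b, map_add _ _ _⟩
    | mul x y _ _ hx hy =>
      obtain ⟨a, rfl⟩ := hx
      obtain ⟨b, rfl⟩ := hy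
      exact ⟨a * b, map_mul _ _ _⟩
  let S : Submonoid Q := (IsUnit.submonoid A).comap θ0
  let P := Localization S
  let θ : P →+* A := IsLocalization.lift (M := S) (g := θ0) (fun s => s.2)
  have hθ : ∀ q, θ (algebraMap Q P q) = θ0 q := fun q => IsLocalization.lift_eq _ _
  let _ : Algebra P A := θ.toAlgebra
  let _ : Algebra P B := ((algebraMap A B).comp θ).toAlgebra
  have : IsScalarTower P A B := IsScalarTower.of_algebraMap_eq fun _ => rfl
  have hsurj : Function.Surjective (algebraMap P A) := by
    intro a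
    obtain ⟨t, ht, htu, hat⟩ := hloc a
    obtain ⟨q, hq⟩ := hθ0 _ ht
    obtain ⟨q', hq'⟩ := hθ0 _ hat
    have hqS : q ∈ S := by
      change IsUnit (θ0 q)
      rw [hq]; exact htu
    refine ⟨IsLocalization.mk' P q' ⟨q, hqS⟩, ?_⟩
    change θ _ = a
    apply htu.mul_left_injective
    change θ _ * t = a * t
    rw [← hq, ← hθ, ← map_mul]
    have h1 : IsLocalization.mk' P q' ⟨q, hqS⟩ * algebraMap Q P q = algebraMap Q P q' :=
      IsLocalization.mk'_spec P q' ⟨q, hqS⟩
    rw [h1, hθ, hq', hθ, hq]
  let ψ0 : Q →+* B' := MvPolynomial.eval₂Hom ιB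
    (fun i => Function.surjInv hB.surj (algebraMap A B i.1))
  have hψ0 : πB.comp ψ0 = (algebraMap A B).comp θ0 := by
    refine MvPolynomial.ringHom_ext (fun w => ?_) (fun i => ?_)
    · rw [RingHom.comp_apply, RingHom.comp_apply]
      change πB (MvPolynomial.eval₂Hom ιB _ (MvPolynomial.C w)) = algebraMap A B
        (MvPolynomial.eval₂Hom ((algebraMap k A).comp (res p k)) _ (MvPolynomial.C w))
      rw [MvPolynomial.eval₂Hom_C, MvPolynomial.eval₂Hom_C, ← RingHom.comp_apply, hB.comm,
        RingHom.comp_apply, RingHom.comp_apply, ← IsScalarTower.algebraMap_apply k A B]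
    · rw [RingHom.comp_apply, RingHom.comp_apply]
      change πB (MvPolynomial.eval₂Hom ιB _ (MvPolynomial.X i)) = algebraMap A B
        (MvPolynomial.eval₂Hom ((algebraMap k A).comp (res p k)) _ (MvPolynomial.X i))
      rw [MvPolynomial.eval₂Hom_X', MvPolynomial.eval₂Hom_X', Function.surjInv_eq hB.surj]
  have hψu : ∀ s : S, IsUnit (ψ0 s) := by
    intro s
    apply isUnit_of_isUnit_pi hB
    rw [← RingHom.comp_apply, hψ0, RingHom.comp_apply]
    exact IsUnit.map _ s.2
  let ψ : P →+* B' := IsLocalization.lift (M := S) (g := ψ0) hψu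
  have hψ : πB.comp ψ = algebraMap P B := by
    refine IsLocalization.ringHom_ext S (RingHom.ext fun q => ?_)
    change πB (ψ (algebraMap Q P q)) = algebraMap A B (θ (algebraMap Q P q))
    rw [hθ, ← RingHom.comp_apply _ θ0, ← hψ0]
    change πB (ψ (algebraMap Q P q)) = πB (ψ0 q)
    congr 1
    exact IsLocalization.lift_eq _ _
  let ι : W2 p k →+* P := (algebraMap Q P).comp MvPolynomial.C
  have hι : (algebraMap P A).comp ι = (algebraMap k A).comp (res p k) := by
    ext w
    change θ (algebraMap Q P (MvPolynomial.C w)) = _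
    rw [hθ]
    change MvPolynomial.eval₂Hom ((algebraMap k A).comp (res p k)) _ (MvPolynomial.C w) = _
    rw [MvPolynomial.eval₂Hom_C]
  have hp : (p : P) ∈ RingHom.ker (algebraMap P A) := by
    rw [RingHom.mem_ker, map_natCast, ← map_natCast (algebraMap k A), CharP.cast_eq_zero, map_zero]
  obtain ⟨T, hT⟩ := exists_linearMap_of_isLift (A := A) hB ψ hψ hp
  have hPN : IsNoetherianRing P := IsLocalization.isNoetherianRing S P inferInstance
  exact finish hsurj ι hι hp hPN T hT

/-- For liftings over W₂(k) — let k be a perfect field of characteristic p, A a k-algebra essentially of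
finite type and A → B étale and faithfully flat. If B lifts flatly to W₂(k) then so does A. (The
published statement allows an étale surjective cover of Spec A by a scheme; an affine cover is taken
here, to which the published argument reduces.) -/
theorem result
    (p : ℕ) [Fact p.Prime] (k : Type u) [Field k] [CharP k p] [PerfectRing k p]
    (A B : Type u) [CommRing A] [CommRing B] [Algebra k A] [Algebra.EssFiniteType k A]
    [Algebra A B] [Algebra.Etale A B] [Module.FaithfullyFlat A B] [Algebra k B] [IsScalarTower k A B]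
    (hB : FrobAlg.IsW2Liftable p k B) : FrobAlg.IsW2Liftable p k A := by
  exact main p k A B hB

end Groth.Agent.S13145
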