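import Groth.Statements.S13146
import Groth.Agent.FrobAlg.K673.Lift
import Groth.Agent.FrobAlg.K674.Quadric

set_option autoImplicit false
universe u
open scoped BigOperators
open FrobAlg

namespace Groth.Agent.S13146

/-- In an even number of variables — for a perfect field k of characteristic p and n ≥ 3, the local
Artinian algebra k[x_1, y_1, …, x_n, y_n]/(x_1y_1 + ⋯ + x_ny_n, x_1^p, y_1^p, …, x_n^p, y_n^p)
admits no flat lifting over W₂(k). (The published statement covers every number N ≥ 5 of variables,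
using x_1x_2 + ⋯ + x_{N−2}x_{N−1} + x_N² for odd N; the printed argument is written out for even N
and the odd case is said to be analogous, so only even N = 2n ≥ 6 is taken here.) -/
theorem result
    (p : ℕ) [Fact p.Prime] (k : Type u) [Field k] [CharP k p] [PerfectRing k p]
    (n : ℕ) (hn : 3 ≤ n) :
    ¬ FrobAlg.IsW2Liftable p k
      (MvPolynomial (Fin n × Fin 2) k ⧸ Ideal.span
        (insert (∑ i : Fin n, MvPolynomial.X (i, (0 : Fin 2)) * MvPolynomial.X (i, (1 : Fin 2)))
          (Set.range fun v : Fin n × Fin 2 => (MvPolynomial.X v : MvPolynomial (Fin n × Fin 2) k) ^ p))) := by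
  intro hlift
  obtain ⟨m, rfl⟩ : ∃ m, n = m + 3 := ⟨n - 3, by omega⟩
  set I : Ideal (MvPolynomial (Fin (m + 3) × Fin 2) k) := Ideal.span
        (insert (∑ i : Fin (m + 3), MvPolynomial.X (i, (0 : Fin 2)) * MvPolynomial.X (i, (1 : Fin 2)))
          (Set.range fun v : Fin (m + 3) × Fin 2 => (MvPolynomial.X v : MvPolynomial (Fin (m + 3) × Fin 2) k) ^ p))
    with hI
  obtain ⟨B, _, ι, π, h⟩ := hlift
  obtain ⟨h1, h2, h3, -⟩ := K673.Lift.isLift_iff.1 h
  choose x hx using fun v : Fin (m + 3) × Fin 2 => h1 (Ideal.Quotient.mk I (MvPolynomial.X v))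
  have hpp : (p : B) * (p : B) = 0 := K673.Lift.IsLift.natCast_mul_natCast h
  have hp2 := (Fact.out : p.Prime).two_le
  -- a multiple of `p` has zero `p`-th power
  have hpow : ∀ c : B, ((p : B) * c) ^ p = 0 := by
    intro c
    obtain ⟨q, hq⟩ : ∃ q, p = q + 2 := ⟨p - 2, by omega⟩
    have : ((p : B) * c) ^ p = ((p : B) * (p : B)) * (c * c * ((p : B) * c) ^ q) := by
      conv_lhs => rw [hq, pow_add]
      rw [← hq]; ring
    rw [this, hpp, zero_mul]
  have ht : ∀ i : Fin (m + 3), (x (i, 0) * x (i, 1)) ^ p = 0 := by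
    intro i
    have e : ∀ v, π (x v ^ p) = 0 := by
      intro v
      rw [map_pow, hx, ← map_pow, Ideal.Quotient.eq_zero_iff_mem]
      exact Ideal.subset_span (Set.mem_insert_of_mem _ ⟨v, rfl⟩)
    obtain ⟨c, hc⟩ := h3 _ (e (i, 0))
    obtain ⟨d, hd⟩ := h3 _ (e (i, 1))
    rw [mul_pow, hc, hd]
    calc (p : B) * c * ((p : B) * d) = ((p : B) * (p : B)) * (c * d) := by ring
      _ = 0 := by rw [hpp, zero_mul]
  have hs : (∑ i, x (i, 0) * x (i, 1)) ^ p = 0 := by
    have e : π (∑ i, x (i, 0) * x (i, 1)) = 0 := by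
      rw [map_sum]
      simp only [map_mul, hx]
      simp only [← map_mul]
      rw [← map_sum, Ideal.Quotient.eq_zero_iff_mem]
      exact Ideal.subset_span (Set.mem_insert _ _)
    obtain ⟨c, hc⟩ := h3 _ e
    rw [hc, hpow]
  have hd := K674.Quadric.delta_eval p (Fin (m + 3)) (fun i => x (i, 0) * x (i, 1))
  rw [hs, Finset.sum_eq_zero (fun i _ => ht i), sub_zero] at hd
  have h4 := h2 _ hd.symm
  have h5 : π (MvPolynomial.aeval (fun i => x (i, 0) * x (i, 1)) (K674.Quadric.delta p (Fin (m + 3)))) =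
      Ideal.Quotient.mk I (MvPolynomial.aeval (fun i => (MvPolynomial.X (i, 0) * MvPolynomial.X (i, 1) :
        MvPolynomial (Fin (m + 3) × Fin 2) k)) (K674.Quadric.delta p (Fin (m + 3)))) := by
    have h6 : π.comp (MvPolynomial.aeval (fun i => x (i, 0) * x (i, 1)) :
        MvPolynomial (Fin (m + 3)) ℤ →ₐ[ℤ] B).toRingHom =
        (Ideal.Quotient.mk I).comp (MvPolynomial.aeval (fun i => (MvPolynomial.X (i, 0) * MvPolynomial.X (i, 1) :
        MvPolynomial (Fin (m + 3) × Fin 2) k)) : MvPolynomial (Fin (m + 3)) ℤ →ₐ[ℤ] _).toRingHom := by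
      apply MvPolynomial.ringHom_ext
      · intro r; simp
      · intro i
        simp only [RingHom.comp_apply, AlgHom.toRingHom_eq_coe, RingHom.coe_coe, MvPolynomial.aeval_X, map_mul, hx]
    exact congr($h6 (K674.Quadric.delta p (Fin (m + 3))))
  rw [h5, Ideal.Quotient.eq_zero_iff_mem] at h4
  exact K674.Quadric.L_delta p k m (K674.Quadric.L_mem p k m _ h4)

end Groth.Agent.S13146
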