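import Groth.Statements.S13149
import Groth.Agent.CAlg.K82.ProjPlane

set_option autoImplicit false
universe u
open CAlg

namespace Groth.Agent.S13149

/-- Let A be a local ring and ρ a map from the points of the projective plane over F_p to the points of
the projective plane over A (vectors with a unit coordinate, up to units) taking collinear triples
to collinear triples (three points are collinear when a vector with a unit coordinate is orthogonal
to all three). If ρ sends the standard frame (1:0:0), (0:1:0), (0:0:1), (1:1:1) to four points in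
general position, then p = 0 in A. (The published statement asks only that ρ preserve collinearity;
a constant map does so over any ring, and the published argument begins by moving the images of the
standard frame to the standard frame, which needs them in general position — that condition is made
a hypothesis here.) -/
theorem result
    (p : ℕ) [Fact p.Prime] (A : Type u) [CommRing A] [IsLocalRing A]
    (ρ : (Fin 3 → ZMod p) → (Fin 3 → A))
    (hpt : ∀ v : Fin 3 → ZMod p, v ≠ 0 → ∃ i, IsUnit (ρ v i))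
    (hcol : ∀ u v w : Fin 3 → ZMod p, u ≠ 0 → v ≠ 0 → w ≠ 0 →
      Matrix.det (Matrix.of ![u, v, w]) = 0 →
      ∃ n : Fin 3 → A, (∃ i, IsUnit (n i)) ∧
        dotProduct (ρ u) n = 0 ∧ dotProduct (ρ v) n = 0 ∧ dotProduct (ρ w) n = 0)
    (hgen : IsUnit (Matrix.det (Matrix.of ![ρ (Pi.single 0 1), ρ (Pi.single 1 1), ρ (Pi.single 2 1)])) ∧
      IsUnit (Matrix.det (Matrix.of ![ρ (Pi.single 0 1), ρ (Pi.single 1 1), ρ (fun _ => 1)])) ∧
      IsUnit (Matrix.det (Matrix.of ![ρ (Pi.single 0 1), ρ (Pi.single 2 1), ρ (fun _ => 1)])) ∧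
      IsUnit (Matrix.det (Matrix.of ![ρ (Pi.single 1 1), ρ (Pi.single 2 1), ρ (fun _ => 1)]))) :
    (p : A) = 0 := by
  classical
  -- the matrix with columns the images of the first three frame points
  set M : Matrix (Fin 3) (Fin 3) A :=
    (Matrix.of ![ρ (Pi.single 0 1), ρ (Pi.single 1 1), ρ (Pi.single 2 1)]).transpose with hM
  have hMdet : IsUnit M.det := by rw [hM, Matrix.det_transpose]; exact hgen.1
  have hMM : M⁻¹ * M = 1 := Matrix.nonsing_inv_mul _ hMdet
  have hMM' : M * M⁻¹ = 1 := Matrix.mul_nonsing_inv _ hMdet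
  -- coordinates of the fourth point
  set c : Fin 3 → A := M⁻¹.mulVec (ρ (fun _ => 1)) with hc
  have hMc : M.mulVec c = ρ (fun _ => 1) := by
    rw [hc, Matrix.mulVec_mulVec, hMM', Matrix.one_mulVec]
  have hcol0 : ρ (fun _ => 1) = fun i => c 0 * ρ (Pi.single 0 1) i + c 1 * ρ (Pi.single 1 1) i +
      c 2 * ρ (Pi.single 2 1) i := by
    rw [← hMc]
    funext i
    simp [Matrix.mulVec, dotProduct, Fin.sum_univ_three, hM, Matrix.transpose_apply]
    ring
  have hcu : ∀ i, IsUnit (c i) := by
    have d1 : Matrix.det (Matrix.of ![ρ (Pi.single 0 1), ρ (Pi.single 1 1), ρ (fun _ => 1)]) =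
        c 2 * Matrix.det (Matrix.of ![ρ (Pi.single 0 1), ρ (Pi.single 1 1), ρ (Pi.single 2 1)]) := by
      rw [hcol0]
      simp [Matrix.det_fin_three]
      ring
    have d2 : Matrix.det (Matrix.of ![ρ (Pi.single 0 1), ρ (Pi.single 2 1), ρ (fun _ => 1)]) =
        - (c 1 * Matrix.det (Matrix.of ![ρ (Pi.single 0 1), ρ (Pi.single 1 1), ρ (Pi.single 2 1)])) := by
      rw [hcol0]
      simp [Matrix.det_fin_three]
      ring
    have d3 : Matrix.det (Matrix.of ![ρ (Pi.single 1 1), ρ (Pi.single 2 1), ρ (fun _ => 1)]) =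
        c 0 * Matrix.det (Matrix.of ![ρ (Pi.single 0 1), ρ (Pi.single 1 1), ρ (Pi.single 2 1)]) := by
      rw [hcol0]
      simp [Matrix.det_fin_three]
      ring
    obtain ⟨g0, g1, g2, g3⟩ := hgen
    rw [d1] at g1; rw [d2, IsUnit.neg_iff] at g2; rw [d3] at g3
    intro i
    fin_cases i
    · exact isUnit_of_mul_isUnit_left g3
    · exact isUnit_of_mul_isUnit_left g2
    · exact isUnit_of_mul_isUnit_left g1
  -- the change of coordinates
  choose cu hcu' using hcu
  set D : Matrix (Fin 3) (Fin 3) A := Matrix.diagonal (fun i => ((cu i)⁻¹ : Aˣ)) with hD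
  set D' : Matrix (Fin 3) (Fin 3) A := Matrix.diagonal c with hD'
  have hDD' : D * D' = 1 := by
    rw [hD, hD', Matrix.diagonal_mul_diagonal, ← Matrix.diagonal_one]
    congr 1
    funext i
    rw [← hcu' i]
    exact (cu i).inv_mul
  have hD'D : D' * D = 1 := by
    rw [hD, hD', Matrix.diagonal_mul_diagonal, ← Matrix.diagonal_one]
    congr 1
    funext i
    rw [← hcu' i]
    exact (cu i).mul_inv
  let g : Matrix (Fin 3) (Fin 3) A := D * M⁻¹
  let g' : Matrix (Fin 3) (Fin 3) A := M * D'
  have hgg' : g * g' = 1 := by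
    change D * M⁻¹ * (M * D') = 1
    rw [Matrix.mul_assoc, ← Matrix.mul_assoc M⁻¹, hMM, Matrix.one_mul, hDD']
  have hg'g : g' * g = 1 := by
    change M * D' * (D * M⁻¹) = 1
    rw [Matrix.mul_assoc, ← Matrix.mul_assoc D', hD'D, Matrix.one_mul, hMM']
  have hframe : ∀ j, g.mulVec (ρ (Pi.single j 1)) = fun i => if i = j then (((cu j)⁻¹ : Aˣ) : A) else 0 := by
    intro j
    have h1 : ρ (Pi.single j 1) = M.mulVec (Pi.single j 1) := by
      rw [Matrix.mulVec_single_one]
      funext i
      fin_cases j <;> simp [hM, Matrix.transpose_apply, Matrix.col]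
    rw [h1]
    change (D * M⁻¹).mulVec _ = _
    rw [Matrix.mulVec_mulVec, Matrix.mul_assoc, hMM, Matrix.mul_one, hD]
    funext i
    rw [Matrix.mulVec_diagonal]
    by_cases hij : i = j
    · subst hij; simp
    · simp [hij]
  -- unimodular vectors
  have huni : ∀ (h h' : Matrix (Fin 3) (Fin 3) A), h' * h = 1 → ∀ x : Fin 3 → A,
      (∃ i, IsUnit (x i)) → ∃ i, IsUnit (h.mulVec x i) := by
    intro h h' hh x hx
    by_contra hcon
    push Not at hcon
    obtain ⟨i, hi⟩ := hx
    have h1 : x = h'.mulVec (h.mulVec x) := by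
      rw [Matrix.mulVec_mulVec, hh, Matrix.one_mulVec]
    rw [h1] at hi
    have h2 : h'.mulVec (h.mulVec x) i ∈ IsLocalRing.maximalIdeal A := by
      rw [Matrix.mulVec, dotProduct]
      refine Ideal.sum_mem _ fun j _ => Ideal.mul_mem_left _ _ ?_
      exact (IsLocalRing.mem_maximalIdeal _).mpr (hcon j)
    exact (IsLocalRing.mem_maximalIdeal _).mp h2 hi
  refine K82.ProjPlane.core p (fun v => g.mulVec (ρ v)) (fun v hv => huni g g' hg'g _ (hpt v hv))
    (fun u v w hu hv hw hdet => ?_) ?_ ?_ ?_ ?_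
  · obtain ⟨n, hn, h1, h2, h3⟩ := hcol u v w hu hv hw hdet
    have key : ∀ x : Fin 3 → A, dotProduct (g.mulVec x) (g'.transpose.mulVec n) = dotProduct x n := by
      intro x
      rw [dotProduct_comm, Matrix.dotProduct_mulVec, Matrix.vecMul_mulVec, Matrix.transpose_transpose,
        ← Matrix.dotProduct_mulVec, hg'g, Matrix.one_mulVec, dotProduct_comm]
    refine ⟨g'.transpose.mulVec n, huni g'.transpose g.transpose ?_ n hn, ?_, ?_, ?_⟩
    · rw [← Matrix.transpose_mul, hg'g, Matrix.transpose_one]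
    · exact (key _).trans h1
    · exact (key _).trans h2
    · exact (key _).trans h3
  · refine ⟨((cu 0)⁻¹ : Aˣ), Units.isUnit _, ?_⟩
    have e1 : (![1, 0, 0] : Fin 3 → ZMod p) = Pi.single 0 1 := by
      funext i; fin_cases i <;> simp
    change g.mulVec (ρ ![1, 0, 0]) = _
    rw [e1, hframe 0]
    funext i; fin_cases i <;> simp
  · refine ⟨((cu 1)⁻¹ : Aˣ), Units.isUnit _, ?_⟩
    have e1 : (![0, 1, 0] : Fin 3 → ZMod p) = Pi.single 1 1 := by
      funext i; fin_cases i <;> simp
    change g.mulVec (ρ ![0, 1, 0]) = _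
    rw [e1, hframe 1]
    funext i; fin_cases i <;> simp
  · refine ⟨((cu 2)⁻¹ : Aˣ), Units.isUnit _, ?_⟩
    have e1 : (![0, 0, 1] : Fin 3 → ZMod p) = Pi.single 2 1 := by
      funext i; fin_cases i <;> simp
    change g.mulVec (ρ ![0, 0, 1]) = _
    rw [e1, hframe 2]
    funext i; fin_cases i <;> simp
  · have e1 : (![1, 1, 1] : Fin 3 → ZMod p) = fun _ => 1 := by
      funext i; fin_cases i <;> simp
    change g.mulVec (ρ ![1, 1, 1]) = _
    rw [e1]
    change (D * M⁻¹).mulVec _ = _
    rw [← Matrix.mulVec_mulVec, ← hc, hD]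
    funext i
    rw [Matrix.mulVec_diagonal, ← hcu' i]
    fin_cases i <;> simp

end Groth.Agent.S13149
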