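import Groth.Statements.S13151
-- import your own Groth.Agent.* helpers here

set_option autoImplicit false
universe u
open CAlg

namespace Groth.Agent.S13151

/-- Let A → B be an injective ring homomorphism of integral domains which is integral, with A integrally
closed, and let π be an element of A. Then the contraction to A of the ideal πB is πA, i.e. an
element of A which is a multiple of π in B is already a multiple of π in A; in particular if B/πB is
an integral domain then A/πA is an integral domain. (The published statement is for an integral
dominant morphism of integral schemes flat over a discrete valuation ring, with normal target and π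
a uniformizer; flatness and the valuation ring play no role, so π is an arbitrary element here.) -/
theorem result {A B : Type u} [CommRing A] [CommRing B]
    [IsDomain A] [IsDomain B] [IsIntegrallyClosed A] [Algebra A B] [Algebra.IsIntegral A B]
    (hinj : Function.Injective (algebraMap A B)) (π : A) :
    (Ideal.span {algebraMap A B π}).comap (algebraMap A B) = Ideal.span {π} ∧
      (IsDomain (B ⧸ Ideal.span {algebraMap A B π}) → IsDomain (A ⧸ Ideal.span {π})) := by
  have key : (Ideal.span {algebraMap A B π}).comap (algebraMap A B) = Ideal.span {π} := by
    apply le_antisymm
    · intro x hx
      rw [Ideal.mem_comap, Ideal.mem_span_singleton'] at hx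
      obtain ⟨b, hb⟩ := hx
      by_cases hπ : π = 0
      · subst hπ
        rw [map_zero, mul_zero] at hb
        have : x = 0 := hinj (by rw [← hb, map_zero])
        rw [this]; exact Ideal.zero_mem _
      · -- work in the fraction fields
        let K := FractionRing A
        let L := FractionRing B
        have hinj' : Function.Injective (algebraMap A L) := by
          rw [IsScalarTower.algebraMap_eq A B L]
          exact (IsFractionRing.injective B L).comp hinj
        haveI : FaithfulSMul A L := (faithfulSMul_iff_algebraMap_injective A L).mpr hinj'
        letI : Algebra K L := FractionRing.liftAlgebra A L
        haveI : IsScalarTower A K L := FractionRing.isScalarTower_liftAlgebra A L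
        have hπK : algebraMap A K π ≠ 0 := by
          intro h
          exact hπ ((IsFractionRing.injective A K) (by rw [h, map_zero]))
        have hπL : algebraMap A L π ≠ 0 := by
          intro h
          exact hπ (hinj' (by rw [h, map_zero]))
        have hq : algebraMap K L (algebraMap A K x / algebraMap A K π) = algebraMap B L b := by
          rw [map_div₀, ← IsScalarTower.algebraMap_apply A K L, ← IsScalarTower.algebraMap_apply A K L,
            div_eq_iff hπL, IsScalarTower.algebraMap_apply A B L x, ← hb, map_mul,
            ← IsScalarTower.algebraMap_apply A B L]
        have hint : IsIntegral A (algebraMap A K x / algebraMap A K π) := by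
          rw [← isIntegral_algebraMap_iff (B := L) (algebraMap K L).injective, hq]
          exact (Algebra.IsIntegral.isIntegral b).algebraMap
        obtain ⟨a, ha⟩ := IsIntegrallyClosed.isIntegral_iff.mp hint
        rw [Ideal.mem_span_singleton']
        refine ⟨a, IsFractionRing.injective A K ?_⟩
        rw [map_mul, ha, div_mul_cancel₀ _ hπK]
    · rw [Ideal.span_le]
      intro y hy
      rw [Set.mem_singleton_iff] at hy
      subst hy
      exact Ideal.mem_comap.mpr (Ideal.mem_span_singleton_self _)
  refine ⟨key, fun h => ?_⟩
  have hp : (Ideal.span {algebraMap A B π}).IsPrime := (Ideal.Quotient.isDomain_iff_prime _).mp h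
  rw [Ideal.Quotient.isDomain_iff_prime, ← key]
  exact Ideal.comap_isPrime _ _

end Groth.Agent.S13151
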