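import Groth.Statements.S13153
import Mathlib.RingTheory.Smooth.Field
import Mathlib.RingTheory.Kaehler.Polynomial
import Mathlib.RingTheory.Kaehler.JacobiZariski
import Mathlib.RingTheory.Flat.FaithfullyFlat.Algebra

set_option autoImplicit false
universe u
open CAlg

namespace Groth.Agent.S13153

/-- Let R be a discrete valuation ring whose fraction field K has characteristic zero, A an integral
domain which is a faithfully flat R-algebra, with fraction field L, such that K is algebraically
closed in L (every element of L algebraic over K is in the image of K). If f ∈ A has vanishing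
differential, df = 0 in Ω_{A/R}, then f is the image of an element of R. (The published statement is
the sheaf form: for a faithfully flat morphism X → Spec R with geometrically integral generic fibre,
the kernel of d : O_X → Ω¹_{X/R} is the inverse image of O_{Spec R}; for integral X, geometric
integrality of the generic fibre in characteristic zero amounts to K being algebraically closed in
the function field, which is the form used here, and this row is the case of global sections over an
affine X = Spec A.) -/
theorem result (R : Type u) [CommRing R] [IsDomain R]
    [IsDiscreteValuationRing R] [CharZero R] (K : Type u) [Field K] [Algebra R K] [IsFractionRing R K]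
    (A : Type u) [CommRing A] [IsDomain A] [Algebra R A] [Module.FaithfullyFlat R A]
    (L : Type u) [Field L] [Algebra A L] [IsFractionRing A L] [Algebra R L] [Algebra K L]
    [IsScalarTower R A L] [IsScalarTower R K L]
    (hac : ∀ x : L, IsAlgebraic K x → x ∈ (algebraMap K L).range)
    (f : A) (hf : KaehlerDifferential.D R A f = 0) : f ∈ (algebraMap R A).range := by
  haveI : CharZero K := charZero_of_injective_algebraMap (IsFractionRing.injective R K)
  -- the differential of `f` in `Ω[L⁄K]` vanishes
  have hD : KaehlerDifferential.D K L (algebraMap A L f) = 0 := by
    rw [← KaehlerDifferential.map_D R K A L f, hf, map_zero]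
  -- hence `f` is algebraic over `K`
  have halg : IsAlgebraic K (algebraMap A L f) := by
    by_contra htr
    have htr' : Transcendental K (algebraMap A L f) := htr
    letI : Algebra (Polynomial K) L := (Polynomial.aeval (algebraMap A L f)).toAlgebra
    have hmap : ∀ q : Polynomial K, algebraMap (Polynomial K) L q =
      Polynomial.aeval (algebraMap A L f) q := fun _ => rfl
    haveI : IsScalarTower K (Polynomial K) L := IsScalarTower.of_algebraMap_eq fun r => by
      rw [hmap, Polynomial.algebraMap_apply, Polynomial.aeval_C]; rfl
    have hinj : Function.Injective (algebraMap (Polynomial K) L) :=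
      transcendental_iff_injective.mp htr'
    haveI : FaithfulSMul (Polynomial K) L := (faithfulSMul_iff_algebraMap_injective _ _).mpr hinj
    let E := FractionRing (Polynomial K)
    letI : Algebra E L := FractionRing.liftAlgebra (Polynomial K) L
    haveI : IsScalarTower (Polynomial K) E L := FractionRing.isScalarTower_liftAlgebra _ L
    haveI : CharZero E := charZero_of_injective_algebraMap (IsFractionRing.injective (Polynomial K) E)
    haveI : Algebra.FormallySmooth E L := by
      obtain ⟨s, hs⟩ := exists_isTranscendenceBasis E L
      haveI := hs.isAlgebraic_field
      exact .of_algebraicIndependent_of_isSeparable hs.1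
    haveI : Algebra.FormallySmooth (Polynomial K) E :=
      Algebra.FormallySmooth.of_isLocalization (nonZeroDivisors (Polynomial K))
    haveI : Algebra.FormallySmooth (Polynomial K) L := Algebra.FormallySmooth.comp _ E L
    have hinj2 : Function.Injective (KaehlerDifferential.mapBaseChange K (Polynomial K) L) := by
      rw [injective_iff_map_eq_zero]
      intro x hx
      obtain ⟨y, rfl⟩ := (Algebra.H1Cotangent.exact_δ_mapBaseChange K (Polynomial K) L x).mp hx
      rw [Subsingleton.elim y 0, map_zero]
    have h1 : (1 : L) ⊗ₜ[Polynomial K] KaehlerDifferential.D K (Polynomial K) Polynomial.X = 0 := by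
      apply hinj2
      rw [map_zero, KaehlerDifferential.mapBaseChange_tmul, KaehlerDifferential.map_D, hmap,
        Polynomial.aeval_X, hD, smul_zero]
    have h2 := congrArg (LinearMap.lTensor L (KaehlerDifferential.polynomialEquiv K).toLinearMap) h1
    rw [map_zero, LinearMap.lTensor_tmul] at h2
    have h3 := congrArg (TensorProduct.rid (Polynomial K) L) h2
    simp [KaehlerDifferential.polynomialEquiv_D] at h3
  obtain ⟨x, hx⟩ := hac _ halg
  obtain ⟨a, b, hb, rfl⟩ := IsFractionRing.div_surjective (A := R) x
  have hb0 : b ≠ 0 := nonZeroDivisors.ne_zero hb
  have hinjRA : Function.Injective (algebraMap R A) :=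
    FaithfulSMul.algebraMap_injective R A
  have h1 : algebraMap R A a = algebraMap R A b * f := by
    apply IsFractionRing.injective A L
    have hbK : algebraMap R K b ≠ 0 := fun h => hb0 (IsFractionRing.injective R K (by rw [h, map_zero]))
    have hbL : algebraMap K L (algebraMap R K b) ≠ 0 := fun h =>
      hbK ((algebraMap K L).injective (by rw [h, map_zero]))
    rw [map_mul, ← hx, map_div₀, ← IsScalarTower.algebraMap_apply R A L,
      ← IsScalarTower.algebraMap_apply R A L, IsScalarTower.algebraMap_apply R K L a,
      IsScalarTower.algebraMap_apply R K L b, mul_div_cancel₀ _ hbL]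
  have h2 : a ∈ Ideal.span {b} := by
    rw [← Ideal.comap_map_eq_self_of_faithfullyFlat (B := A) (Ideal.span {b}), Ideal.mem_comap, h1]
    exact Ideal.mul_mem_right _ _ (Ideal.mem_map_of_mem _ (Ideal.mem_span_singleton_self b))
  obtain ⟨c, rfl⟩ := Ideal.mem_span_singleton'.mp h2
  refine ⟨c, ?_⟩
  have hbA : algebraMap R A b ≠ 0 := fun h => hb0 (hinjRA (by rw [h, map_zero]))
  apply mul_left_cancel₀ hbA
  rw [← h1, map_mul, mul_comm]

end Groth.Agent.S13153
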