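import Groth.Statements.S13154
import Mathlib.RingTheory.Flat.TorsionFree
import Mathlib.RingTheory.Flat.FaithfullyFlat.Algebra

set_option autoImplicit false
universe u
open scoped TensorProduct
open CAlg

namespace Groth.Agent.S13154

/-- Let R be a discrete valuation ring with fraction field K, A a faithfully flat R-algebra (an affine
faithfully flat base change S' → S = Spec R) and B₁, B₂ flat R-algebras (two affine S-schemes X₁ =
Spec B₁, X₂ = Spec B₂, flat over S). Suppose given a K-algebra homomorphism φ_K : K ⊗ B₂ → K ⊗ B₁ (a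
morphism of the generic fibres X₁,K → X₂,K) and an A-algebra homomorphism φ_A : A ⊗ B₂ → A ⊗ B₁ (a
morphism X₁ ×_S S' → X₂ ×_S S' over S') which coincide after base change to K ⊗ A, in the sense that
for every b ∈ B₂ the images of φ_K(1 ⊗ b) and φ_A(1 ⊗ b) in (K ⊗ A) ⊗ B₁ agree. Then there is
exactly one R-algebra homomorphism φ : B₂ → B₁ (a morphism X₁ → X₂) whose base changes to K and to A
are φ_K and φ_A. (The published statement assumes only X₂ flat over S; flatness of X₁ is also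
needed: with B₂ = R[t], B₁ = R[e]/(e², πe) for a uniformizer π and A = R[x], the maps t ↦ 0 over K
and t ↦ e x over A agree over K ⊗ A = K[x] but come from no map over R.) -/
theorem result (R : Type u) [CommRing R] [IsDomain R]
    [IsDiscreteValuationRing R] (K : Type u) [Field K] [Algebra R K] [IsFractionRing R K]
    (A : Type u) [CommRing A] [Algebra R A] [Module.FaithfullyFlat R A]
    (B₁ B₂ : Type u) [CommRing B₁] [CommRing B₂] [Algebra R B₁] [Algebra R B₂]
    [Module.Flat R B₁] [Module.Flat R B₂]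
    (φK : K ⊗[R] B₂ →ₐ[K] K ⊗[R] B₁) (φA : A ⊗[R] B₂ →ₐ[A] A ⊗[R] B₁)
    (hcomp : ∀ b : B₂,
      Algebra.TensorProduct.map (Algebra.TensorProduct.includeLeft : K →ₐ[R] K ⊗[R] A) (AlgHom.id R B₁)
          (φK (1 ⊗ₜ b)) =
        Algebra.TensorProduct.map (Algebra.TensorProduct.includeRight : A →ₐ[R] K ⊗[R] A) (AlgHom.id R B₁)
          (φA (1 ⊗ₜ b))) :
    ∃! φ : B₂ →ₐ[R] B₁, (∀ b : B₂, φK (1 ⊗ₜ b) = 1 ⊗ₜ φ b) ∧ (∀ b : B₂, φA (1 ⊗ₜ b) = 1 ⊗ₜ φ b) := by
  classical
  have hRK : Function.Injective (algebraMap R K) := IsFractionRing.injective R K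
  let ι : B₁ →ₐ[R] K ⊗[R] B₁ := Algebra.TensorProduct.includeRight
  have hι : Function.Injective ι := Algebra.TensorProduct.includeRight_injective hRK
  have hunit : ∀ r : R, r ≠ 0 → IsUnit (algebraMap R K r) := by
    intro r hr
    rw [isUnit_iff_ne_zero]
    intro h0
    exact hr (hRK (by rw [h0, map_zero]))
  have hden : ∀ z : K ⊗[R] B₁, ∃ r : R, r ≠ 0 ∧ ∃ y : B₁, r • z = 1 ⊗ₜ y := by
    intro z
    induction z using TensorProduct.induction_on with
    | zero => exact ⟨1, one_ne_zero, 0, by rw [smul_zero, TensorProduct.tmul_zero]⟩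
    | tmul k a =>
      obtain ⟨x, y, hy, hxy⟩ := IsFractionRing.div_surjective (A := R) k
      have hy0 : y ≠ 0 := nonZeroDivisors.ne_zero hy
      refine ⟨y, hy0, x • a, ?_⟩
      rw [TensorProduct.tmul_smul, TensorProduct.smul_tmul', TensorProduct.smul_tmul']
      congr 1
      rw [← hxy, Algebra.smul_def, Algebra.smul_def, mul_one, mul_div_cancel₀]
      exact (hunit y hy0).ne_zero
    | add z₁ z₂ h₁ h₂ =>
      obtain ⟨r₁, hr₁, y₁, h₁⟩ := h₁
      obtain ⟨r₂, hr₂, y₂, h₂⟩ := h₂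
      refine ⟨r₁ * r₂, mul_ne_zero hr₁ hr₂, r₂ • y₁ + r₁ • y₂, ?_⟩
      rw [smul_add, TensorProduct.tmul_add, TensorProduct.tmul_smul, TensorProduct.tmul_smul, ← h₁, ← h₂,
        ← mul_smul, ← mul_smul, mul_comm r₂ r₁]
  let j : A ⊗[R] B₁ →ₐ[R] (K ⊗[R] A) ⊗[R] B₁ :=
    Algebra.TensorProduct.map (Algebra.TensorProduct.includeRight : A →ₐ[R] K ⊗[R] A) (AlgHom.id R B₁)
  have hj : Function.Injective j := by
    have h1 : Function.Injective (Algebra.TensorProduct.includeRight : A →ₐ[R] K ⊗[R] A) :=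
      Algebra.TensorProduct.includeRight_injective hRK
    exact Module.Flat.rTensor_preserves_injective_linearMap (M := B₁)
      (Algebra.TensorProduct.includeRight : A →ₐ[R] K ⊗[R] A).toLinearMap h1
  have key : ∀ b : B₂, ∃ y : B₁, φK (1 ⊗ₜ b) = 1 ⊗ₜ y ∧ φA (1 ⊗ₜ b) = 1 ⊗ₜ y := by
    intro b
    obtain ⟨r, hr, y, hy⟩ := hden (φK (1 ⊗ₜ b))
    have h1 : r • φA (1 ⊗ₜ b) = 1 ⊗ₜ y := by
      apply hj
      rw [map_smul]
      change r • (Algebra.TensorProduct.map (Algebra.TensorProduct.includeRight : A →ₐ[R] K ⊗[R] A)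
        (AlgHom.id R B₁) (φA (1 ⊗ₜ b))) = _
      rw [← hcomp b, ← map_smul, hy]
      simp [j]
    -- `y` is divisible by `r`
    let N : Submodule R B₁ := LinearMap.range (r • (LinearMap.id : B₁ →ₗ[R] B₁))
    have hyN : y ∈ N := by
      rw [← Submodule.Quotient.mk_eq_zero]
      apply Module.FaithfullyFlat.tensorProduct_mk_injective (A := R) (B := A) (B₁ ⧸ N)
      rw [map_zero]
      change (1 : A) ⊗ₜ[R] (N.mkQ y) = 0
      rw [← LinearMap.lTensor_tmul, ← h1, map_smul]
      generalize (LinearMap.lTensor A N.mkQ) (φA (1 ⊗ₜ[R] b)) = z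
      induction z using TensorProduct.induction_on with
      | zero => rw [smul_zero]
      | tmul a m =>
        obtain ⟨m, rfl⟩ := N.mkQ_surjective m
        rw [← TensorProduct.tmul_smul, ← map_smul]
        have : N.mkQ (r • m) = 0 := (Submodule.Quotient.mk_eq_zero N).2 ⟨m, rfl⟩
        rw [this, TensorProduct.tmul_zero]
      | add z₁ z₂ h₁ h₂ => rw [smul_add, h₁, h₂, add_zero]
    obtain ⟨y', rfl⟩ := hyN
    have hy2 : (r • (LinearMap.id : B₁ →ₗ[R] B₁)) y' = r • y' := rfl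
    rw [hy2] at hy h1
    have hr' : r ∈ nonZeroDivisors R := mem_nonZeroDivisors_of_ne_zero hr
    refine ⟨y', ?_, ?_⟩
    · rw [TensorProduct.tmul_smul] at hy
      exact Module.Flat.isSMulRegular_of_nonZeroDivisors (R := R) (M := K ⊗[R] B₁) hr' hy
    · rw [TensorProduct.tmul_smul] at h1
      exact Module.Flat.isSMulRegular_of_nonZeroDivisors (R := R) (M := A ⊗[R] B₁) hr' h1
  let ψ : B₂ →ₐ[R] K ⊗[R] B₁ := (φK.restrictScalars R).comp Algebra.TensorProduct.includeRight
  have hψ : ∀ b, ψ b ∈ ι.range := by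
    intro b
    obtain ⟨y, hy, -⟩ := key b
    exact ⟨y, hy.symm⟩
  let φ : B₂ →ₐ[R] B₁ := ((AlgEquiv.ofInjective ι hι).symm : ι.range →ₐ[R] B₁).comp (ψ.codRestrict ι.range hψ)
  have hφ : ∀ b, ι (φ b) = ψ b := by
    intro b
    have h1 := (AlgEquiv.ofInjective ι hι).apply_symm_apply (ψ.codRestrict ι.range hψ b)
    exact congrArg Subtype.val h1
  refine ⟨φ, ⟨fun b => (hφ b).symm, fun b => ?_⟩, ?_⟩
  · obtain ⟨y, hy, hy'⟩ := key b
    have h1 : φ b = y := hι (by rw [hφ b]; exact hy)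
    rw [hy', h1]
  · rintro φ' ⟨h1, -⟩
    ext b
    apply hι
    rw [hφ b]
    exact (h1 b).symm

end Groth.Agent.S13154
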