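import Groth.Statements.S13155


set_option autoImplicit false
universe u
open CAlg

namespace Groth.Agent.S13155

/-- Let R be a discrete valuation ring of characteristic zero with uniformizer π, and A a Noetherian
integrally closed domain which is an R-algebra with injective structure map and in which πA is a
prime ideal (X = Spec A is normal, flat over R, with integral special fibre). Let m ≥ 1 and let f ∈
A be invertible in A[1/π] (so Z^m = f defines a μ_m-torsor over the generic fibre), such that S =
A[1/π][Z]/(Z^m − f) is an integral domain and, writing B for the integral closure of A in S (the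
normalization of X in that cover), πB is a prime ideal of B (the normalization has integral special
fibre). Then f is, up to a unit of A, an m-th power of a power of π: f = π^{mq}·u with q ≥ 0 and u ∈
A^×, so that the cover extends to the μ_m-torsor Z^m = u over all of X. (The published statement is
the existence and uniqueness of the extending μ_m-torsor over a normal faithfully flat R-scheme with
integral fibres, R containing a primitive m-th root of unity; this row is the affine computation
that carries the proof.) -/
theorem result (R : Type u) [CommRing R]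
    [IsDomain R] [IsDiscreteValuationRing R] [CharZero R] (ϖ : R) (hϖ : Irreducible ϖ)
    (A : Type u) [CommRing A] [IsDomain A] [IsNoetherianRing A] [IsIntegrallyClosed A] [Algebra R A]
    (hinj : Function.Injective (algebraMap R A)) (hprime : (Ideal.span {algebraMap R A ϖ}).IsPrime)
    (m : ℕ) (hm : 0 < m) (f : A) (hf : IsUnit (algebraMap A (Localization.Away (algebraMap R A ϖ)) f))
    [IsDomain (AdjoinRoot (Polynomial.X ^ m - Polynomial.C (algebraMap A (Localization.Away (algebraMap R A ϖ)) f)))]
    (hsp : (Ideal.span {algebraMap A (integralClosure A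
        (AdjoinRoot (Polynomial.X ^ m - Polynomial.C (algebraMap A (Localization.Away (algebraMap R A ϖ)) f))))
          (algebraMap R A ϖ)}).IsPrime) :
    ∃ (q : ℕ) (u : Aˣ), f = algebraMap R A ϖ ^ (m * q) * (u : A) := by
  classical
  set ϖA : A := algebraMap R A ϖ with hϖA
  have hϖ0 : ϖA ≠ 0 := fun h0 => hϖ.ne_zero (hinj (by rw [← hϖA, h0, map_zero]))
  have hpA : Prime ϖA := (Ideal.span_singleton_prime hϖ0).1 hprime
  let L := Localization.Away ϖA
  have hAL : Function.Injective (algebraMap A L) :=
    IsLocalization.injective L (powers_le_nonZeroDivisors_of_noZeroDivisors hϖ0)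
  -- `f` divides a power of the uniformizer
  obtain ⟨i, -, hi⟩ : ∃ i, ∃ _ : True, Associated f (ϖA ^ i) := by
    obtain ⟨y, hy⟩ := hf.exists_right_inv
    obtain ⟨N, h, hh⟩ := IsLocalization.Away.surj ϖA y
    have h1 : f * h = ϖA ^ N := by
      apply hAL
      rw [map_mul, ← hh, map_pow, ← mul_assoc, hy, one_mul]
    obtain ⟨i, -, hi⟩ := (dvd_prime_pow hpA N).1 ⟨h, h1.symm⟩
    exact ⟨i, trivial, hi⟩
  obtain ⟨g, hg⟩ := hi.symm
  -- the integral closure
  set S := AdjoinRoot (Polynomial.X ^ m - Polynomial.C (algebraMap A L f)) with hS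
  let B := integralClosure A S
  set ϖB : B := algebraMap A B ϖA with hϖB
  have hunit : IsUnit (algebraMap A S ϖA) := by
    rw [IsScalarTower.algebraMap_apply A L S]
    exact (IsLocalization.Away.algebraMap_isUnit ϖA).map _
  have hB0 : ϖB ≠ 0 := by
    intro h0
    have h1 : algebraMap A S ϖA = 0 := congrArg Subtype.val h0
    rw [h1] at hunit
    exact not_isUnit_zero hunit
  have hpB : Prime ϖB := (Ideal.span_singleton_prime hB0).1 hsp
  let Z : S := AdjoinRoot.root _
  have hZ : Z ^ m = algebraMap A S f := by
    have h1 := AdjoinRoot.eval₂_root (Polynomial.X ^ m - Polynomial.C (algebraMap A L f))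
    rw [Polynomial.eval₂_sub, Polynomial.eval₂_pow, Polynomial.eval₂_X, Polynomial.eval₂_C, sub_eq_zero] at h1
    rw [IsScalarTower.algebraMap_apply A L S]
    exact h1
  have hZint : IsIntegral A Z := by
    refine IsIntegral.of_pow hm ?_
    rw [hZ]
    exact isIntegral_algebraMap
  let z : B := ⟨Z, hZint⟩
  have hz : z ^ m = algebraMap A B f := Subtype.ext hZ
  have hz2 : z ^ m = ϖB ^ i * algebraMap A B g := by
    rw [hz]
    have h1 := congrArg (algebraMap A B) hg
    rw [map_mul, map_pow] at h1
    exact h1.symm
  have hgB : IsUnit (algebraMap A B g) := g.isUnit.map _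
  obtain ⟨j, -, hj⟩ : ∃ j, ∃ _ : True, Associated z (ϖB ^ j) := by
    have h1 : z ^ m ∣ ϖB ^ i := by
      rw [hz2]
      obtain ⟨w, hw⟩ := hgB
      rw [← hw]
      exact (Units.mul_right_dvd).2 dvd_rfl
    obtain ⟨j, -, hj⟩ := (dvd_prime_pow hpB i).1 ((dvd_pow_self z hm.ne').trans h1)
    exact ⟨j, trivial, hj⟩
  have hassoc : Associated (ϖB ^ (j * m)) (ϖB ^ i) := by
    have h1 : Associated (z ^ m) (ϖB ^ (j * m)) := by
      rw [pow_mul]; exact hj.pow_pow
    have h2 : Associated (z ^ m) (ϖB ^ i) := by
      rw [hz2]
      exact associated_mul_unit_left _ _ hgB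
    exact h1.symm.trans h2
  have hij : j * m = i := by
    apply le_antisymm
    · exact (pow_dvd_pow_iff hpB.ne_zero hpB.not_isUnit).1 hassoc.dvd
    · exact (pow_dvd_pow_iff hpB.ne_zero hpB.not_isUnit).1 hassoc.symm.dvd
  refine ⟨j, g, ?_⟩
  rw [← hg, ← hij, mul_comm j m]

end Groth.Agent.S13155
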