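import Groth.Statements.S13156
import Groth.Agent.CAlg.K83.FormalGrp

set_option autoImplicit false
universe u
open scoped Polynomial
open CAlg

namespace Groth.Agent.S13156

/-- Let p be a prime number, A a commutative ring in which (p−1)! is invertible, μ an element of A, and
F ∈ A[X] a polynomial of degree at most p − 1 with coefficients a_0, a_1, …. Then the identity
F(S)·F(T) − a_0² = F(S + T + μST) − a_0 holds in the polynomial ring A[S, T] if and only if a_1·F(S)
= F′(S)·(1 + μS) holds in A[S], F′ the formal derivative. (The published statement is over the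
quotient of a discrete valuation ring of residue characteristic p by a nonzero element of its
maximal ideal; only the invertibility of 1, …, p − 1 is used, so an arbitrary such ring A is allowed
here.) -/
theorem result (A : Type u) [CommRing A] (p : ℕ) [Fact p.Prime]
    (hu : IsUnit ((Nat.factorial (p - 1) : ℕ) : A)) (μ : A) (F : A[X]) (hF : F.natDegree < p) :
    (Polynomial.aeval (MvPolynomial.X 0 : MvPolynomial (Fin 2) A) F *
          Polynomial.aeval (MvPolynomial.X 1 : MvPolynomial (Fin 2) A) F - MvPolynomial.C (F.coeff 0 ^ 2) =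
        Polynomial.aeval (MvPolynomial.X 0 + MvPolynomial.X 1 +
            MvPolynomial.C μ * MvPolynomial.X 0 * MvPolynomial.X 1 : MvPolynomial (Fin 2) A) F -
          MvPolynomial.C (F.coeff 0)) ↔
      F * Polynomial.C (F.coeff 1) = Polynomial.derivative F * (1 + Polynomial.C μ * Polynomial.X) := by
  classical
  let B := MvPolynomial (Fin 1) A
  let φ : A →+* B := MvPolynomial.C
  let s : B := MvPolynomial.X 0
  let e := MvPolynomial.finSuccEquiv A 1
  have hpp : p.Prime := Fact.out
  have he0 : e (MvPolynomial.X 0) = Polynomial.X := MvPolynomial.finSuccEquiv_X_zero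
  have he1 : e (MvPolynomial.X 1) = Polynomial.C s := MvPolynomial.finSuccEquiv_X_succ (j := 0)
  have heC : ∀ a, e (MvPolynomial.C a) = Polynomial.C (φ a) := fun a => e.commutes a
  have hae : ∀ y : B[X], Polynomial.aeval y F = (F.map φ).comp y := by
    intro y
    rw [Polynomial.comp, Polynomial.eval₂_map, Polynomial.aeval_def]
    rfl
  have haev : ∀ x : MvPolynomial (Fin 2) A, e (Polynomial.aeval x F) = Polynomial.aeval (e x) F :=
    fun x => (Polynomial.aeval_algHom_apply e x F).symm
  have hcoeff : ∀ k, (F.map φ).coeff k = φ (F.coeff k) := fun k => Polynomial.coeff_map _ _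
  have hφinj : Function.Injective φ := MvPolynomial.C_injective _ _
  have hlhs : e (Polynomial.aeval (MvPolynomial.X 0 : MvPolynomial (Fin 2) A) F *
          Polynomial.aeval (MvPolynomial.X 1 : MvPolynomial (Fin 2) A) F - MvPolynomial.C (F.coeff 0 ^ 2)) =
      Polynomial.C ((F.map φ).eval s) * F.map φ - Polynomial.C ((F.map φ).coeff 0 ^ 2) := by
    have h1 : e (Polynomial.aeval (MvPolynomial.X 0 : MvPolynomial (Fin 2) A) F) = F.map φ := by
      rw [haev, he0, hae, Polynomial.comp_X]
    have h2 : e (Polynomial.aeval (MvPolynomial.X 1 : MvPolynomial (Fin 2) A) F) =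
        Polynomial.C ((F.map φ).eval s) := by
      rw [haev, he1, hae, Polynomial.comp_C]
    rw [map_sub, map_mul, heC, map_pow, hcoeff, h1, h2, mul_comm (F.map φ)]
  have hrhs : e (Polynomial.aeval (MvPolynomial.X 0 + MvPolynomial.X 1 +
            MvPolynomial.C μ * MvPolynomial.X 0 * MvPolynomial.X 1 : MvPolynomial (Fin 2) A) F -
          MvPolynomial.C (F.coeff 0)) =
      (F.map φ).comp (Polynomial.C s + Polynomial.X + Polynomial.C (φ μ) * Polynomial.C s * Polynomial.X) -
        Polynomial.C ((F.map φ).coeff 0) := by
    rw [map_sub, heC, hcoeff, haev, map_add, map_add, map_mul, map_mul, he0, he1, heC, hae]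
    have : (Polynomial.X + Polynomial.C s + Polynomial.C (φ μ) * Polynomial.X * Polynomial.C s : B[X]) =
      Polynomial.C s + Polynomial.X + Polynomial.C (φ μ) * Polynomial.C s * Polynomial.X := by ring
    rw [this]
  have hder : Polynomial.derivative (F.map φ) = (Polynomial.derivative F).map φ := Polynomial.derivative_map _ _
  constructor
  · intro h
    have h1 := congrArg e h
    rw [hlhs, hrhs] at h1
    have h2 := K83.FormalGrp.ode_of_functional (φ μ) (F.map φ) s h1
    let ψ : B →+* A[X] := MvPolynomial.eval₂Hom Polynomial.C (fun _ => Polynomial.X)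
    have hψφ : ψ.comp φ = Polynomial.C := RingHom.ext fun a => MvPolynomial.eval₂Hom_C _ _ a
    have hψs : ψ s = Polynomial.X := MvPolynomial.eval₂Hom_X' _ _ _
    have h3 := congrArg ψ h2
    rw [map_mul, map_mul, map_add, map_one, map_mul, hψs, hder, Polynomial.eval_map, Polynomial.eval_map,
      Polynomial.hom_eval₂, Polynomial.hom_eval₂, hψφ, hψs, Polynomial.eval₂_C_X, Polynomial.eval₂_C_X,
      hcoeff] at h3
    have h4 : ∀ a, ψ (φ a) = Polynomial.C a := fun a => congrArg (fun g => g a) (congrArg DFunLike.coe hψφ)
    rw [h4, h4] at h3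
    exact h3
  · intro h
    apply e.injective
    rw [hlhs, hrhs]
    refine K83.FormalGrp.functional (p := p) hpp.one_lt ?_ (φ μ) (F.map φ) ?_ ?_ s
    · have := hu.map φ
      rwa [map_natCast] at this
    · exact lt_of_le_of_lt Polynomial.natDegree_map_le hF
    · have h1 := congrArg (Polynomial.map φ) h
      simp only [Polynomial.map_mul, Polynomial.map_C, Polynomial.map_add, Polynomial.map_one,
        Polynomial.map_X] at h1
      rw [hder, hcoeff]
      exact h1

end Groth.Agent.S13156
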