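import Groth.Statements.S13157
import Groth.Agent.CAlg.K83.FormalGrp

set_option autoImplicit false
universe u
open scoped Polynomial
open CAlg

namespace Groth.Agent.S13157

/-- (i) ⇔ (ii): let p be a prime number, A a commutative ring in which (p−1)! is invertible, μ ∈ A, and
F ∈ A[X] a polynomial of degree at most p − 1 with constant term a_0 = 1 and coefficients a_1, a_2,
…. Then the relations a_{r−1}·a_1 = (r − 1)μ·a_{r−1} + r·a_r for 1 ≤ r ≤ p (with a_p = 0), written
here as the single identity a_1·F = F′·(1 + μX), hold if and only if r!·a_r = ∏_{k=0}^{r−1} (a_1 −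
kμ) for every 1 ≤ r ≤ p − 1 and ∏_{k=0}^{p−1} (a_1 − kμ) = 0. (The published statement lists the
relations only for 1 ≤ r ≤ p − 1, while its proof uses and derives the relation for r = p as well,
which is needed for the vanishing of the last product; it is included here. The published setting is
the quotient of a discrete valuation ring of residue characteristic p by a nonzero non-unit; only
the invertibility of 1, …, p − 1 is used.) -/
theorem result (A : Type u) [CommRing A] (p : ℕ) [Fact p.Prime]
    (hu : IsUnit ((Nat.factorial (p - 1) : ℕ) : A)) (μ : A) (F : A[X]) (hF : F.natDegree < p)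
    (h0 : F.coeff 0 = 1) :
    F * Polynomial.C (F.coeff 1) = Polynomial.derivative F * (1 + Polynomial.C μ * Polynomial.X) ↔
      ((∀ r : ℕ, 1 ≤ r → r < p →
          (r.factorial : A) * F.coeff r = ∏ k ∈ Finset.range r, (F.coeff 1 - (k : A) * μ)) ∧
        ∏ k ∈ Finset.range p, (F.coeff 1 - (k : A) * μ) = 0) := by
  have hpp : p.Prime := Fact.out
  have hiff : F * Polynomial.C (F.coeff 1) = Polynomial.derivative F * (1 + Polynomial.C μ * Polynomial.X) ↔
      ∀ k : ℕ, ((k + 1 : ℕ) : A) * F.coeff (k + 1) = (F.coeff 1 - k * μ) * F.coeff k := by
    constructor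
    · intro h k
      exact K83.FormalGrp.coeff_rel μ F _ h.symm k
    · intro h
      ext k
      rw [Polynomial.coeff_mul_C, mul_add, mul_one, Polynomial.coeff_add, mul_comm (Polynomial.C μ) Polynomial.X,
        ← mul_assoc, Polynomial.coeff_mul_C]
      cases k with
      | zero =>
        simp only [Polynomial.coeff_mul_X_zero, Polynomial.coeff_derivative]
        have := h 0
        push_cast at this ⊢
        linear_combination -this
      | succ k =>
        simp only [Polynomial.coeff_mul_X, Polynomial.coeff_derivative]
        have := h (k + 1)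
        push_cast at this ⊢
        linear_combination -this
  rw [hiff]
  have hcoeff : ∀ k, p ≤ k → F.coeff k = 0 := fun k hk =>
    Polynomial.coeff_eq_zero_of_natDegree_lt (by omega)
  constructor
  · intro h
    have key : ∀ r : ℕ, (r.factorial : A) * F.coeff r = ∏ k ∈ Finset.range r, (F.coeff 1 - (k : A) * μ) := by
      intro r
      induction r with
      | zero => simp [h0]
      | succ r ih =>
        rw [Finset.prod_range_succ, ← ih, Nat.factorial_succ]
        have := h r
        push_cast at this ⊢
        linear_combination (r.factorial : A) * this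
    refine ⟨fun r _ _ => key r, ?_⟩
    rw [← key p, hcoeff p le_rfl, mul_zero]
  · rintro ⟨h1, h2⟩ k
    have key : ∀ r : ℕ, r ≤ p → (r.factorial : A) * F.coeff r = ∏ k ∈ Finset.range r, (F.coeff 1 - (k : A) * μ) := by
      intro r hr
      rcases Nat.eq_zero_or_pos r with h | h
      · subst h; simp [h0]
      · rcases hr.lt_or_eq with h' | h'
        · exact h1 r h h'
        · rw [h', h2, hcoeff p le_rfl, mul_zero]
    by_cases hk : k < p
    · have hku : IsUnit ((k.factorial : ℕ) : A) := by
        obtain ⟨c, hc⟩ := Nat.factorial_dvd_factorial (show k ≤ p - 1 by omega)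
        rw [hc, Nat.cast_mul] at hu
        exact isUnit_of_mul_isUnit_left hu
      apply hku.mul_left_cancel
      have e1 := key k hk.le
      have e2 := key (k + 1) hk
      rw [Finset.prod_range_succ, ← e1, Nat.factorial_succ] at e2
      push_cast at e2 ⊢
      linear_combination e2
    · rw [hcoeff k (by omega), hcoeff (k + 1) (by omega), mul_zero, mul_zero]

end Groth.Agent.S13157
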