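import Groth.Statements.S13158
import Mathlib.RingTheory.Flat.TorsionFree
import Mathlib.RingTheory.IntegralClosure.IntegrallyClosed
import Mathlib.Tactic.LinearCombination
import Mathlib.Data.Nat.Choose.Sum
import Mathlib.Data.Nat.Choose.Dvd

set_option autoImplicit false
universe u
open CAlg

namespace Groth.Agent.S13158

/-- Let R be a discrete valuation ring of characteristic zero whose maximal ideal contains the prime
number p, let n ≥ 1, and let λ be a nonzero element of R such that λ^(p^(n−1)(p−1)) divides p (the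
condition v(p) ≥ p^(n−1)(p−1)·v(λ) under which the polynomial ((1 + λT)^(p^n) − 1)/λ^(p^n) has
coefficients in R). Let A be an integrally closed integral domain which is a faithfully flat
R-algebra. Then for every unit x of A, λ^(p^n) divides x^(p^n) − 1 in A if and only if λ divides x −
1 in A. -/
theorem result (R : Type u) [CommRing R]
    [IsDomain R] [IsDiscreteValuationRing R] [CharZero R] (p n : ℕ) [Fact p.Prime] (hn : 1 ≤ n)
    (hp : (p : R) ∈ IsLocalRing.maximalIdeal R) (lam : R) (hlam : lam ≠ 0)
    (hstar : lam ^ (p ^ (n - 1) * (p - 1)) ∣ (p : R))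
    (A : Type u) [CommRing A] [IsDomain A] [IsIntegrallyClosed A] [Algebra R A] [Module.FaithfullyFlat R A]
    (x : Aˣ) :
    (algebraMap R A lam ^ p ^ n ∣ (x : A) ^ p ^ n - 1) ↔ (algebraMap R A lam ∣ (x : A) - 1) := by
  classical
  have hpp : p.Prime := Fact.out
  have hinj : ∀ r : R, r ≠ 0 → algebraMap R A r ≠ 0 := by
    intro r hr h0
    have h1 : (r • (1 : A)) = r • (0 : A) := by
      rw [smul_zero, Algebra.smul_def, h0, zero_mul]
    exact one_ne_zero (Module.Flat.isSMulRegular_of_nonZeroDivisors (R := R) (M := A)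
      (mem_nonZeroDivisors_of_ne_zero hr) h1)
  -- the case `n = 1` with an arbitrary element
  have key : ∀ (μ : A), μ ≠ 0 → μ ^ (p - 1) ∣ (p : A) → ∀ y : A,
      (μ ^ p ∣ y ^ p - 1) ↔ (μ ∣ y - 1) := by
    intro μ hμ ⟨d, hd⟩ y
    have hexp : y ^ p - 1 = (y - 1) ^ p + ∑ k ∈ Finset.Ico 1 p, ((p.choose k : ℕ) : A) * (y - 1) ^ k := by
      have h1 : y ^ p = ((y - 1) + 1) ^ p := by ring
      rw [h1, add_pow, Finset.sum_range_succ, Finset.range_eq_Ico,
        Finset.sum_eq_sum_Ico_succ_bot hpp.pos]
      simp only [one_pow, mul_one, pow_zero, Nat.choose_zero_right, Nat.cast_one, Nat.choose_self,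
        zero_add]
      rw [Finset.sum_congr rfl fun k _ => mul_comm ((y - 1) ^ k) ((p.choose k : ℕ) : A)]
      ring
    have hch : ∀ k ∈ Finset.Ico 1 p, ((p.choose k : ℕ) : A) = p * ((p.choose k / p : ℕ) : A) := by
      intro k hk
      rw [Finset.mem_Ico] at hk
      rw [← Nat.cast_mul, Nat.mul_div_cancel' (hpp.dvd_choose_self (by omega) hk.2)]
    constructor
    · rintro ⟨c, hc⟩
      let F := FractionRing A
      let t : F := algebraMap A F (y - 1) / algebraMap A F μ
      have hμF : algebraMap A F μ ≠ 0 := by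
        intro h0
        exact hμ ((IsFractionRing.injective A F) (by rw [h0, map_zero]))
      have ht : algebraMap A F (y - 1) = algebraMap A F μ * t := by
        rw [mul_div_cancel₀ _ hμF]
      let P : Polynomial A := Polynomial.X ^ p +
        (∑ k ∈ Finset.Ico 1 p, Polynomial.C (d * ((p.choose k / p : ℕ) : A) * μ ^ (k - 1)) * Polynomial.X ^ k
          - Polynomial.C c)
      have hPm : P.Monic := by
        apply Polynomial.monic_X_pow_add
        refine lt_of_le_of_lt (Polynomial.degree_sub_le _ _) (max_lt ?_ ?_)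
        · refine lt_of_le_of_lt (Polynomial.degree_sum_le _ _) ?_
          rw [Finset.sup_lt_iff (WithBot.bot_lt_coe _)]
          intro k hk
          rw [Finset.mem_Ico] at hk
          refine lt_of_le_of_lt (Polynomial.degree_C_mul_X_pow_le _ _) ?_
          exact_mod_cast hk.2
        · refine lt_of_le_of_lt Polynomial.degree_C_le ?_
          exact_mod_cast hpp.pos
      have hP0 : Polynomial.eval₂ (algebraMap A F) t P = 0 := by
        have h1 : algebraMap A F μ ^ p * Polynomial.eval₂ (algebraMap A F) t P = 0 := by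
          simp only [P, Polynomial.eval₂_add, Polynomial.eval₂_sub, Polynomial.eval₂_pow,
            Polynomial.eval₂_X, Polynomial.eval₂_finset_sum, Polynomial.eval₂_mul, Polynomial.eval₂_C]
          have h2 := congrArg (algebraMap A F) (hexp.symm.trans hc)
          rw [map_add, map_sum, map_pow, ht, map_mul, map_pow] at h2
          have h3 : ∑ k ∈ Finset.Ico 1 p, algebraMap A F (((p.choose k : ℕ) : A) * (y - 1) ^ k) =
              algebraMap A F μ ^ p * ∑ k ∈ Finset.Ico 1 p,
                algebraMap A F (d * ((p.choose k / p : ℕ) : A) * μ ^ (k - 1)) * t ^ k := by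
            rw [Finset.mul_sum]
            refine Finset.sum_congr rfl fun k hk => ?_
            rw [hch k hk, map_mul, map_pow, ht, hd]
            rw [Finset.mem_Ico] at hk
            obtain ⟨k, rfl⟩ : ∃ k', k = k' + 1 := ⟨k - 1, by omega⟩
            obtain ⟨q, hq⟩ : ∃ q, p = q + 1 := ⟨p - 1, by omega⟩
            simp only [map_mul, map_pow, Nat.add_sub_cancel]
            have e1 : p - 1 = q := by omega
            rw [e1]
            have e2 : (algebraMap A F μ) ^ p = (algebraMap A F μ) ^ (q + 1) := by rw [hq]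
            rw [e2]
            ring
          rw [h3] at h2
          linear_combination h2
        exact (mul_eq_zero.1 h1).resolve_left (pow_ne_zero _ hμF)
      have hint : IsIntegral A t := ⟨P, hPm, hP0⟩
      obtain ⟨z, hz⟩ := IsIntegrallyClosed.isIntegral_iff.1 hint
      refine ⟨z, (IsFractionRing.injective A F) ?_⟩
      rw [ht, map_mul, hz]
    · rintro ⟨z, hz⟩
      rw [hexp]
      refine dvd_add ?_ (Finset.dvd_sum fun k hk => ?_)
      · rw [hz]; exact pow_dvd_pow_of_dvd (Dvd.intro z rfl) p
      · rw [hch k hk, hd, hz]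
        rw [Finset.mem_Ico] at hk
        obtain ⟨k, rfl⟩ : ∃ k', k = k' + 1 := ⟨k - 1, by omega⟩
        obtain ⟨q, hq⟩ : ∃ q, p = q + 1 := ⟨p - 1, by omega⟩
        have e1 : p - 1 = q := by omega
        have e2 : μ ^ p = μ ^ (q + 1) := by rw [hq]
        rw [e1, e2]
        refine ⟨d * ((p.choose (k + 1) / p : ℕ) : A) * μ ^ k * z ^ (k + 1), ?_⟩
        ring
  have hlamA : algebraMap R A lam ≠ 0 := hinj lam hlam
  have hstarA : algebraMap R A lam ^ (p ^ (n - 1) * (p - 1)) ∣ (p : A) := by
    have := map_dvd (algebraMap R A) hstar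
    rwa [map_pow, map_natCast] at this
  have hall : ∀ i : ℕ, i ≤ n → ((algebraMap R A lam ^ p ^ i ∣ (x : A) ^ p ^ i - 1) ↔
      (algebraMap R A lam ∣ (x : A) - 1)) := by
    intro i
    induction i with
    | zero => intro _; simp
    | succ i ih =>
      intro hi
      rw [← ih (by omega), pow_succ p i, pow_mul, pow_mul]
      refine key _ (pow_ne_zero _ hlamA) ?_ _
      rw [← pow_mul]
      refine (pow_dvd_pow _ ?_).trans hstarA
      exact Nat.mul_le_mul_right _ (Nat.pow_le_pow_right hpp.pos (by omega))
  exact hall n le_rfl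

end Groth.Agent.S13158
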