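import Groth.Statements.S13159
import Mathlib.RingTheory.IntegralClosure.IntegrallyClosed
import Mathlib.RingTheory.Algebraic.Integral
import Mathlib.RingTheory.Polynomial.RationalRoot
import Mathlib.RingTheory.PrincipalIdealDomain

set_option autoImplicit false
universe u
open CAlg

namespace Groth.Agent.S13159

/-- Let R be a discrete valuation ring with fraction field K, C an R-algebra which is finitely generated
as an R-module (the coordinate ring of a finite R-scheme G), and A an integral domain which is an
R-algebra with injective structure map and fraction field L, K → L being compatible, such that every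
element of L algebraic over K lies in the image of K (the condition satisfied by the rings of
nonempty opens of an R-scheme with geometrically integral fibres). Then every R-algebra homomorphism
C → A factors uniquely through the structure map R → A: the points of G with values in A are the
R-points of G. (The published statement is that for Y → Spec R with geometrically integral fibres
and G finite flat, the map H¹(Y, G) → H⁰(Y_Zar, R¹f_*G) from the Leray spectral sequence of Y_fl →
Y_Zar is bijective; this row is the step asserting that G restricted to the Zariski site of Y is the
constant sheaf G(R), for an affine open with function ring A.) -/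
theorem result (R : Type u) [CommRing R]
    [IsDomain R] [IsDiscreteValuationRing R] (K : Type u) [Field K] [Algebra R K] [IsFractionRing R K]
    (C : Type u) [CommRing C] [Algebra R C] [Module.Finite R C]
    (A : Type u) [CommRing A] [IsDomain A] [Algebra R A] (hinj : Function.Injective (algebraMap R A))
    (L : Type u) [Field L] [Algebra A L] [IsFractionRing A L] [Algebra R L] [Algebra K L]
    [IsScalarTower R A L] [IsScalarTower R K L]
    (hac : ∀ x : L, IsAlgebraic K x → x ∈ (algebraMap K L).range)
    (φ : C →ₐ[R] A) : ∃! ψ : C →ₐ[R] R, φ = (Algebra.ofId R A).comp ψ := by
  classical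
  have hRK : Function.Injective (algebraMap R K) := IsFractionRing.injective R K
  have hAL : Function.Injective (algebraMap A L) := IsFractionRing.injective A L
  have key : ∀ c : C, ∃ r : R, algebraMap R A r = φ c := by
    intro c
    have hc : IsIntegral R c := Algebra.IsIntegral.isIntegral c
    have h1 : IsIntegral R (φ c) := hc.map φ
    have h2 : IsIntegral R (algebraMap A L (φ c)) := h1.map (IsScalarTower.toAlgHom R A L)
    have h3 : IsAlgebraic K (algebraMap A L (φ c)) := (h2.tower_top (A := K)).isAlgebraic
    obtain ⟨k, hk⟩ := hac _ h3
    have h4 : IsIntegral R k := by
      rw [← isIntegral_algebraMap_iff (A := K) (B := L) (algebraMap K L).injective]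
      rw [hk]; exact h2
    obtain ⟨r, hr⟩ := IsIntegrallyClosed.isIntegral_iff.1 h4
    refine ⟨r, hAL ?_⟩
    rw [← hk, ← hr, ← IsScalarTower.algebraMap_apply R A L, ← IsScalarTower.algebraMap_apply R K L]
  have hrange : ∀ c, φ c ∈ (Algebra.ofId R A).range := fun c => by
    obtain ⟨r, hr⟩ := key c
    exact ⟨r, hr⟩
  let ψ : C →ₐ[R] R := ((AlgEquiv.ofInjective (Algebra.ofId R A) hinj).symm :
    (Algebra.ofId R A).range →ₐ[R] R).comp (φ.codRestrict _ hrange)
  have hψ : ∀ c, algebraMap R A (ψ c) = φ c := by
    intro c
    have h1 := (AlgEquiv.ofInjective (Algebra.ofId R A) hinj).apply_symm_apply (φ.codRestrict _ hrange c)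
    exact congrArg Subtype.val h1
  refine ⟨ψ, ?_, ?_⟩
  · ext c
    exact (hψ c).symm
  · intro ψ' h
    ext c
    apply hinj
    rw [hψ c, h]
    rfl

end Groth.Agent.S13159
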