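import Groth.Statements.S13160
import Groth.Agent.CAlg.K83.WittNil

set_option autoImplicit false
universe u
open CAlg

namespace Groth.Agent.S13160

/-- Let R be a discrete valuation ring, p a prime number and λ an element of R dividing p (so that R/λR
is an 𝔽_p-algebra), and let a and b be p-typical Witt vectors with coefficients in R/λR which are
killed by the Frobenius endomorphism. Then the Witt sum a + b has components a_n + b_n for every n.
(The published statement allows an arbitrary λ ∈ R and is stated for Witt vectors with finitely many
nonzero components; this row assumes that λ divides p, so that p = 0 in R/λR, and allows all Witt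
vectors.) -/
theorem result (R : Type u) [CommRing R] [IsDomain R]
    [IsDiscreteValuationRing R] (p : ℕ) [Fact p.Prime] (lam : R) (hlam : lam ∣ (p : R))
    (a b : WittVector p (R ⧸ Ideal.span {lam})) (ha : WittVector.frobenius a = 0)
    (hb : WittVector.frobenius b = 0) (n : ℕ) : (a + b).coeff n = a.coeff n + b.coeff n := by
  have hp0 : (p : R ⧸ Ideal.span {lam}) = 0 := by
    have h1 : Ideal.Quotient.mk (Ideal.span {lam}) (p : R) = 0 :=
      Ideal.Quotient.eq_zero_iff_mem.2 (Ideal.mem_span_singleton.2 hlam)
    rwa [map_natCast] at h1
  have hprinc : IsPrincipalIdealRing (R ⧸ Ideal.span {lam}) :=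
    IsPrincipalIdealRing.of_surjective (Ideal.Quotient.mk (Ideal.span {lam})) Ideal.Quotient.mk_surjective
  exact K83.WittNil.coeff_add p hp0 a b ha hb n

end Groth.Agent.S13160
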