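import Groth.Statements.S13161


set_option autoImplicit false
universe u
open scoped TensorProduct
open CAlg

namespace Groth.Agent.S13161

/-- Let R be a discrete valuation ring with fraction field K, A an R-algebra which is semireflexive as
an R-module (the map to its double dual is injective: every nonzero a ∈ A has an R-linear form f : A
→ R with f(a) ≠ 0), and B an A-algebra which is finitely generated as an A-module and flat over R.
Suppose B ⊗ K is semireflexive as a module over A ⊗ K, which for such B amounts to: every nonzero b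
∈ B has an A-linear map g : B → A ⊗_R K with g(b) ≠ 0. Then B is semireflexive as an R-module: every
nonzero b ∈ B has an R-linear form h : B → R with h(b) ≠ 0. (The published statement phrases the
hypothesis on B_K as an A_K-module; for B flat over R and finite over A this is the elementwise
condition used here.) -/
theorem result (R : Type u) [CommRing R] [IsDomain R]
    [IsDiscreteValuationRing R] (K : Type u) [Field K] [Algebra R K] [IsFractionRing R K]
    (A B : Type u) [CommRing A] [CommRing B] [Algebra R A] [Algebra R B] [Algebra A B] [IsScalarTower R A B]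
    [Module.Finite A B] [Module.Flat R B]
    (hA : ∀ a : A, a ≠ 0 → ∃ f : A →ₗ[R] R, f a ≠ 0)
    (hBK : ∀ b : B, b ≠ 0 → ∃ g : B →ₗ[A] A ⊗[R] K, g b ≠ 0) :
    ∀ b : B, b ≠ 0 → ∃ h : B →ₗ[R] R, h b ≠ 0 := by
  classical
  intro b hb
  obtain ⟨g, hg⟩ := hBK b hb
  let ι : A →ₗ[A] A ⊗[R] K := Algebra.linearMap A (A ⊗[R] K)
  have hι : ∀ a : A, ι a = a ⊗ₜ 1 := fun a => rfl
  have hinj : Function.Injective ι := by
    rw [injective_iff_map_eq_zero]
    intro a ha
    by_contra ha0
    obtain ⟨f, hf⟩ := hA a ha0
    have h1 : (TensorProduct.lid R K) ((f.rTensor K) (a ⊗ₜ[R] (1 : K))) = 0 := by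
      have : a ⊗ₜ[R] (1 : K) = 0 := ha
      rw [this, map_zero, map_zero]
    rw [LinearMap.rTensor_tmul, TensorProduct.lid_tmul, Algebra.smul_def, mul_one] at h1
    exact hf ((IsFractionRing.injective R K) (by rw [h1, map_zero]))
  have hden : ∀ z : A ⊗[R] K, ∃ r : R, r ≠ 0 ∧ algebraMap R A r • z ∈ LinearMap.range ι := by
    intro z
    induction z using TensorProduct.induction_on with
    | zero => exact ⟨1, one_ne_zero, by rw [smul_zero]; exact Submodule.zero_mem _⟩
    | tmul a k =>
      obtain ⟨x, y, hxy⟩ := IsFractionRing.div_surjective (A := R) k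
      obtain ⟨hy, hxy⟩ := hxy
      have hy0 : y ≠ 0 := nonZeroDivisors.ne_zero hy
      refine ⟨y, hy0, x • a, ?_⟩
      rw [hι, algebraMap_smul, TensorProduct.smul_tmul, ← TensorProduct.tmul_smul]
      congr 1
      rw [← hxy, Algebra.smul_def, Algebra.smul_def, mul_one, mul_div_cancel₀]
      intro h0
      exact hy0 ((IsFractionRing.injective R K) (by rw [h0, map_zero]))
    | add z₁ z₂ h₁ h₂ =>
      obtain ⟨r₁, hr₁, h₁⟩ := h₁
      obtain ⟨r₂, hr₂, h₂⟩ := h₂
      refine ⟨r₁ * r₂, mul_ne_zero hr₁ hr₂, ?_⟩
      rw [smul_add, map_mul]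
      refine Submodule.add_mem _ ?_ ?_
      · rw [mul_comm, mul_smul]
        exact Submodule.smul_mem _ _ h₁
      · rw [mul_smul]
        exact Submodule.smul_mem _ _ h₂
  choose den hden0 hden using hden
  obtain ⟨S, hS⟩ := (Module.finite_def (R := A) (M := B)).1 inferInstance
  let r : R := ∏ s ∈ S, den (g s)
  have hr0 : r ≠ 0 := Finset.prod_ne_zero_iff.2 fun s _ => hden0 _
  have hrange : ∀ x : B, ((algebraMap R A r) • g) x ∈ LinearMap.range ι := by
    intro x
    have hx : x ∈ Submodule.span A (S : Set B) := hS ▸ Submodule.mem_top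
    induction hx using Submodule.span_induction with
    | mem x hx =>
      rw [LinearMap.smul_apply]
      have h1 : r = (∏ s ∈ S.erase x, den (g s)) * den (g x) :=
        (Finset.prod_erase_mul _ _ hx).symm
      rw [h1, map_mul, mul_smul]
      exact Submodule.smul_mem _ _ (hden _)
    | zero => rw [map_zero]; exact Submodule.zero_mem _
    | add x y _ _ h1 h2 => rw [map_add]; exact Submodule.add_mem _ h1 h2
    | smul a x _ h => rw [map_smul]; exact Submodule.smul_mem _ _ h
  let G : B →ₗ[A] A := (LinearEquiv.ofInjective ι hinj).symm.toLinearMap ∘ₗ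
    LinearMap.codRestrict (LinearMap.range ι) ((algebraMap R A r) • g) hrange
  have hG : ∀ x, ι (G x) = algebraMap R A r • g x := by
    intro x
    have h1 := (LinearEquiv.ofInjective ι hinj).apply_symm_apply
      (LinearMap.codRestrict (LinearMap.range ι) ((algebraMap R A r) • g) hrange x)
    exact congrArg Subtype.val h1
  have hGb : G b ≠ 0 := by
    intro h0
    have h1 := hG b
    rw [h0, map_zero, algebraMap_smul] at h1
    -- multiply by the inverse of r in K
    have h2 : (Algebra.TensorProduct.includeRight : K →ₐ[R] A ⊗[R] K) (algebraMap R K r) * g b = 0 := by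
      rw [AlgHom.commutes, ← Algebra.smul_def, ← h1]
    have h3 : IsUnit (algebraMap R K r) := by
      rw [isUnit_iff_ne_zero]
      intro h0
      exact hr0 ((IsFractionRing.injective R K) (by rw [h0, map_zero]))
    have h4 := h3.map (Algebra.TensorProduct.includeRight : K →ₐ[R] A ⊗[R] K)
    exact hg ((h4.mul_right_eq_zero).1 h2)
  obtain ⟨f, hf⟩ := hA _ hGb
  exact ⟨f ∘ₗ (G.restrictScalars R), hf⟩

end Groth.Agent.S13161
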