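import Groth.Statements.S13162
import Mathlib.Data.Nat.Choose.Lucas
import Mathlib.Algebra.BigOperators.Ring.Finset
import Mathlib.RingTheory.Ideal.Quotient.Operations
import Mathlib.Data.Nat.Choose.Sum
import Mathlib.Data.Fintype.Perm

set_option autoImplicit false
universe u v
open ZeroCyc

namespace Groth.Agent.S13162

theorem not_dvd_choose (p : ℕ) [Fact p.Prime] (m : ℕ) (hm : ¬ p ∣ m) (k : ℕ) :
    ¬ p ∣ Nat.choose (p ^ k * m) (p ^ k) := by
  induction k with
  | zero => simpa using hm
  | succ k ih =>
    have h := Choose.choose_modEq_choose_mod_mul_choose_div_nat (p := p) (n := p ^ (k + 1) * m) (k := p ^ (k + 1))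
    have hp : 0 < p := (Fact.out : p.Prime).pos
    have e1 : p ^ (k + 1) * m = p * (p ^ k * m) := by ring
    have e2 : p ^ (k + 1) = p * p ^ k := by ring
    have e3 : (p * (p ^ k * m)) % p = 0 := Nat.mul_mod_right _ _
    have e4 : (p * (p ^ k * m)) / p = p ^ k * m := Nat.mul_div_cancel_left _ hp
    have e5 : (p * p ^ k) % p = 0 := Nat.mul_mod_right _ _
    have e6 : (p * p ^ k) / p = p ^ k := Nat.mul_div_cancel_left _ hp
    rw [e1, e2, e3, e4, e5, e6, Nat.choose_self, one_mul] at h
    rw [e1, e2]
    intro hd
    exact ih ((h.dvd_iff dvd_rfl).mp hd)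

/-- Let a finite group G act on a commutative ring A by ring automorphisms and let p be a prime such
that every integer prime to p is a unit in A. If I is an ideal of A and f ∈ A has G-invariant class
modulo I, then f^(p^k) is congruent modulo I to a G-invariant element of A, where p^k is the exact
power of p dividing the order of G. (The published statement assumes I stable under G, so that G
acts on A/I and the claim reads: the p^k-th power of an invariant of A/I lies in the image of the
invariants of A; the form here asks only that the class of f be invariant.) -/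
theorem result {A : Type u} [CommRing A] {G : Type v} [Group G] [Fintype G]
    [MulSemiringAction G A] (p : ℕ) [Fact p.Prime]
    (hA : ∀ m : ℕ, ¬ p ∣ m → IsUnit (m : A))
    (I : Ideal A) (f : A) (hf : ∀ g : G, g • f - f ∈ I) :
    ∃ a : A, (∀ g : G, g • a = a) ∧ a - f ^ (p ^ (Fintype.card G).factorization p) ∈ I := by
  classical
  set N := Fintype.card G with hN
  set q := p ^ N.factorization p with hq
  have hN0 : N ≠ 0 := Fintype.card_ne_zero
  -- the symmetric expression
  let e : A := ∑ s ∈ Finset.powersetCard q (Finset.univ : Finset G), ∏ g ∈ s, g • f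
  have hinv : ∀ h : G, h • e = e := by
    intro h
    simp only [e, Finset.smul_sum, Finset.smul_prod']
    refine Finset.sum_bij' (fun s _ => s.map ⟨fun g => h * g, mul_right_injective h⟩)
      (fun s _ => s.map ⟨fun g => h⁻¹ * g, mul_right_injective h⁻¹⟩) ?_ ?_ ?_ ?_ ?_
    · intro s hs
      simp only [Finset.mem_powersetCard, Finset.subset_univ, true_and, Finset.card_map] at hs ⊢
      exact hs
    · intro s hs
      simp only [Finset.mem_powersetCard, Finset.subset_univ, true_and, Finset.card_map] at hs ⊢
      exact hs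
    · intro s hs
      ext g
      simp
    · intro s hs
      ext g
      simp
    · intro s hs
      rw [Finset.prod_map]
      refine Finset.prod_congr rfl fun g _ => ?_
      simp [mul_smul]
  obtain ⟨m, hm⟩ : q ∣ N := Nat.ordProj_dvd N p
  have hpm : ¬ p ∣ m := by
    have h1 := Nat.not_dvd_ordCompl (Fact.out : p.Prime) hN0
    have h2 : N / q = m := by
      rw [hm]
      exact Nat.mul_div_cancel_left _ (pow_pos (Fact.out : p.Prime).pos _)
    rwa [← hq, h2] at h1
  have hch : ¬ p ∣ Nat.choose N q := by
    rw [hm]
    exact not_dvd_choose p m hpm _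
  obtain ⟨c, hc⟩ := hA _ hch
  have hcinv : ∀ g : G, g • (↑c⁻¹ : A) = ↑c⁻¹ := by
    intro g
    have h1 : g • (c : A) = c := by
      rw [hc]
      exact map_natCast (MulSemiringAction.toRingHom G A g) _
    have h2 : (c : A) * g • (↑c⁻¹ : A) = 1 := by
      conv_lhs => rw [← h1]
      rw [← smul_mul', Units.mul_inv, smul_one]
    calc g • (↑c⁻¹ : A) = ↑c⁻¹ * ((c : A) * g • (↑c⁻¹ : A)) := by
          rw [← mul_assoc, Units.inv_mul, one_mul]
      _ = ↑c⁻¹ := by rw [h2, mul_one]
  refine ⟨↑c⁻¹ * e, fun g => ?_, ?_⟩
  · rw [smul_mul', hcinv, hinv]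
  · have h1 : (Ideal.Quotient.mk I) e = (Nat.choose N q : A ⧸ I) * (Ideal.Quotient.mk I f) ^ q := by
      simp only [e, map_sum, map_prod]
      have : ∀ s ∈ Finset.powersetCard q (Finset.univ : Finset G),
          ∏ g ∈ s, (Ideal.Quotient.mk I) (g • f) = (Ideal.Quotient.mk I f) ^ q := by
        intro s hs
        rw [Finset.prod_congr rfl (fun g _ => (Ideal.Quotient.mk_eq_mk_iff_sub_mem _ _).mpr (hf g)),
          Finset.prod_const, (Finset.mem_powersetCard.mp hs).2]
      rw [Finset.sum_congr rfl this, Finset.sum_const, Finset.card_powersetCard, Finset.card_univ,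
        nsmul_eq_mul]
    rw [← Ideal.Quotient.mk_eq_mk_iff_sub_mem, map_mul, h1, map_pow, ← mul_assoc]
    have h2 : (Ideal.Quotient.mk I) (↑c⁻¹ : A) * (Nat.choose N q : A ⧸ I) = 1 := by
      have : (Nat.choose N q : A ⧸ I) = Ideal.Quotient.mk I (c : A) := by
        rw [hc]; simp
      rw [this, ← map_mul, Units.inv_mul, map_one]
    rw [h2, one_mul]

end Groth.Agent.S13162
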