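import Groth.Statements.S13163
import Mathlib.SetTheory.Cardinal.Order
import Mathlib.RingTheory.Ideal.Quotient.Operations

set_option autoImplicit false
universe u
open ZeroCyc

namespace Groth.Agent.S13163

open Polynomial in
/-- Let P_d(T) = ∏_{0 ≤ i < j ≤ d} (T^i − T^j) − 1 ∈ ℤ[T]. Every residue field of ℤ[T]/(P_d), i.e. every
field receiving a ring homomorphism from it, has at least d + 1 elements. -/
theorem result (d : ℕ) (k : Type u) [Field k]
    (φ : (ℤ[X] ⧸ Ideal.span {(∏ j ∈ Finset.range (d + 1), ∏ i ∈ Finset.range j,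
        ((X : ℤ[X]) ^ i - X ^ j)) - 1}) →+* k) :
    ((d + 1 : ℕ) : Cardinal) ≤ Cardinal.mk k := by
  classical
  set I := Ideal.span {(∏ j ∈ Finset.range (d + 1), ∏ i ∈ Finset.range j,
        ((X : ℤ[X]) ^ i - X ^ j)) - 1} with hI
  let t : k := φ (Ideal.Quotient.mk I X)
  have h0 : Ideal.Quotient.mk I ((∏ j ∈ Finset.range (d + 1), ∏ i ∈ Finset.range j,
        ((X : ℤ[X]) ^ i - X ^ j)) - 1) = 0 :=
    Ideal.Quotient.eq_zero_iff_mem.mpr (Ideal.subset_span rfl)
  have h1 : (∏ j ∈ Finset.range (d + 1), ∏ i ∈ Finset.range j, (t ^ i - t ^ j)) = 1 := by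
    have h2 := congrArg φ h0
    simp only [map_sub, map_prod, map_pow, map_one, map_zero, sub_eq_zero] at h2
    exact h2
  have hinj : Function.Injective (fun i : Fin (d + 1) => t ^ (i : ℕ)) := by
    have key : ∀ i j : ℕ, i < j → j < d + 1 → t ^ i ≠ t ^ j := by
      intro i j hij hj he
      have h3 : (∏ j ∈ Finset.range (d + 1), ∏ i ∈ Finset.range j, (t ^ i - t ^ j)) = 0 := by
        refine Finset.prod_eq_zero (Finset.mem_range.mpr hj) ?_
        exact Finset.prod_eq_zero (Finset.mem_range.mpr hij) (by rw [he, sub_self])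
      rw [h1] at h3
      exact one_ne_zero h3
    intro i j he
    rcases lt_trichotomy (i : ℕ) (j : ℕ) with h | h | h
    · exact absurd he (key _ _ h j.2)
    · exact Fin.ext h
    · exact absurd he.symm (key _ _ h i.2)
  have := Cardinal.mk_le_of_injective (α := ULift.{u} (Fin (d + 1))) (β := k)
    (f := fun i => t ^ (i.down : ℕ)) (fun i j h => ULift.ext _ _ (hinj h))
  simpa using this

end Groth.Agent.S13163
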