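import Groth.Statements.S13166
import Groth.Agent.ZeroCyc.K754.Avoid
import Mathlib.Data.Finset.Powerset

set_option autoImplicit false
universe u
open ZeroCyc

namespace Groth.Agent.S13166

/-- Let k be a field, B a k-algebra generated as an algebra by a k-subspace V, k'/k a field extension
and x_1, …, x_d pairwise distinct k'-points of B ⊗_k k' (equivalently, distinct k-algebra
homomorphisms B → k'). If k has at least d(d − 1)/2 elements, then there is b ∈ V whose values at
x_1, …, x_d are pairwise distinct. -/
theorem result {k : Type u} [Field k] {B : Type u} [CommRing B] [Algebra k B] (V : Submodule k B)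
    (hV : Algebra.adjoin k (V : Set B) = ⊤) {k' : Type u} [Field k'] [Algebra k k']
    {d : ℕ} (x : Fin d → (B →ₐ[k] k')) (hx : Function.Injective x)
    (hk : ((d.choose 2 : ℕ) : Cardinal) ≤ Cardinal.mk k) :
    ∃ b ∈ V, Function.Injective fun i => x i b := by
  classical
  let W : Finset (Fin d) → Submodule k V := fun s =>
    { carrier := {b | ∀ i ∈ s, ∀ j ∈ s, x i b.1 = x j b.1}
      zero_mem' := fun i _ j _ => by simp
      add_mem' := fun {a b} ha hb i hi j hj => by
        simp only [Submodule.coe_add, map_add]
        rw [ha i hi j hj, hb i hi j hj]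
      smul_mem' := fun c a ha i hi j hj => by
        simp only [Submodule.coe_smul, map_smul]
        rw [ha i hi j hj] }
  have hW : ∀ s ∈ Finset.powersetCard 2 (Finset.univ : Finset (Fin d)), W s ≠ ⊤ := by
    intro s hs htop
    obtain ⟨i, j, hij, rfl⟩ := Finset.card_eq_two.mp (Finset.mem_powersetCard.mp hs).2
    apply hij
    apply hx
    have h1 : ∀ b ∈ (V : Set B), x i b = x j b := by
      intro b hb
      have h2 : (⟨b, hb⟩ : V) ∈ W {i, j} := by rw [htop]; trivial
      exact h2 i (by simp) j (by simp)
    refine AlgHom.ext fun b => ?_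
    have h2 : b ∈ Algebra.adjoin k (V : Set B) := by rw [hV]; trivial
    induction h2 using Algebra.adjoin_induction with
    | mem y hy => exact h1 y hy
    | algebraMap r => simp
    | add y z _ _ hy hz => rw [map_add, map_add, hy, hz]
    | mul y z _ _ hy hz => rw [map_mul, map_mul, hy, hz]
  obtain ⟨b, hb⟩ := K754.Avoid.exists_not_mem _ W hW (by
    rw [Finset.card_powersetCard, Finset.card_univ, Fintype.card_fin]
    exact hk)
  refine ⟨b.1, b.2, fun i j hij => ?_⟩
  by_contra hne
  refine hb {i, j} (Finset.mem_powersetCard.mpr ⟨Finset.subset_univ _, Finset.card_pair hne⟩) ?_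
  intro i' hi' j' hj'
  simp only [Finset.mem_insert, Finset.mem_singleton] at hi' hj'
  simp only at hij
  rcases hi' with rfl | rfl <;> rcases hj' with rfl | rfl
  · rfl
  · exact hij
  · exact hij.symm
  · rfl

end Groth.Agent.S13166
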