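import Groth.Statements.S13167
import Groth.Agent.ZeroCyc.K754.ProjPt
import Groth.Agent.ZeroCyc.K754.AvoidMod

set_option autoImplicit false
universe u
open AlgebraicGeometry
open ZeroCyc

namespace Groth.Agent.S13167

/-- Let B be a graded R-algebra generated by its degree-one part B_1, with B_1 a finitely generated
R-module, and let x_1, …, x_d be points of X = Proj B lying over one and the same prime p of R. If
the residue field of p has at least d elements, then some f ∈ B_1 ⊆ Γ(X, O_X(1)) has all the x_i in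
D_+(f). (Without the hypothesis on the residue field such an f exists in some B_n with n ≥ 1; that
first assertion is a known property of ample sheaves and is not restated here.) -/
theorem result {R A : Type u} [CommRing R] [CommRing A] [Algebra R A] (𝒜 : ℕ → Submodule R A) [GradedAlgebra 𝒜]
    (hgen : Algebra.adjoin R (𝒜 1 : Set A) = ⊤) (hfg : (𝒜 1).FG)
    (p : Ideal R) [p.IsPrime] {d : ℕ} (x : Fin d → Proj 𝒜)
    (hx : ∀ i, ((x i).asHomogeneousIdeal.toIdeal).comap (algebraMap R A) = p)
    (hcard : (d : Cardinal) ≤ Cardinal.mk p.ResidueField) :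
    ∃ g ∈ 𝒜 1, ∀ i, x i ∈ Proj.basicOpen 𝒜 g := by
  classical
  let N : Fin d → Submodule R (𝒜 1) := fun i =>
    (((x i).asHomogeneousIdeal.toIdeal).restrictScalars R).comap (𝒜 1).subtype
  have hN : ∀ i ∈ (Finset.univ : Finset (Fin d)), N i ≠ ⊤ := by
    intro i _ htop
    obtain ⟨t, ht, _, _, _, h⟩ := K754.ProjPt.exists_not_mem 𝒜 (𝒜 1 : Set A) (fun t ht => ⟨1, ht⟩) hgen (x i)
    have h1 : (⟨t, ht⟩ : 𝒜 1) ∈ N i := by rw [htop]; trivial
    exact h h1
  have hs : ∀ i ∈ (Finset.univ : Finset (Fin d)), ∀ s ∉ p, ∀ m, s • m ∈ N i → m ∈ N i := by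
    intro i _ s hs m hm
    have h1 : algebraMap R A s * (m : A) ∈ (x i).asHomogeneousIdeal.toIdeal := by
      have h2 : s • (m : A) ∈ (x i).asHomogeneousIdeal.toIdeal := hm
      rwa [Algebra.smul_def] at h2
    rcases (x i).isPrime.mem_or_mem h1 with h | h
    · exact absurd (show s ∈ p by rw [← hx i]; exact h) hs
    · exact h
  obtain ⟨g, hg⟩ := K754.Avoid.exists_not_mem_module p Finset.univ N hN hs (by
    rw [Finset.card_univ, Fintype.card_fin]
    exact hcard)
  exact ⟨g.1, g.2, fun i => hg i (Finset.mem_univ i)⟩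

end Groth.Agent.S13167
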