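import Groth.Statements.S13175
import Groth.Agent.ZeroCyc.K754.PolLift

set_option autoImplicit false
universe u v w
open scoped TensorProduct
open ZeroCyc

namespace Groth.Agent.S13175

/-- Let B and C be A-algebras and F : B → C a polynomial law. If the maps F over the polynomial rings
A[t_1, …, t_n], n ≥ 0, are multiplicative (send 1 to 1 and products to products), then F is a
multiplicative law: F sends 1 to 1 and products to products over every A-algebra. -/
theorem result {A : Type u} [CommRing A] {B : Type v} [CommRing B] [Algebra A B] {C : Type w} [CommRing C] [Algebra A C]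
    (F : B →ₚₗ[A] C)
    (h1 : ∀ n : ℕ, F.toFun' (MvPolynomial (Fin n) A) 1 = 1)
    (hmul : ∀ (n : ℕ) (x y : MvPolynomial (Fin n) A ⊗[A] B),
      F.toFun' (MvPolynomial (Fin n) A) (x * y) = F.toFun' (MvPolynomial (Fin n) A) x * F.toFun' (MvPolynomial (Fin n) A) y) :
    ∀ (S : Type u) [CommRing S] [Algebra A S], F.toFun' S 1 = 1 ∧
      ∀ x y : S ⊗[A] B, F.toFun' S (x * y) = F.toFun' S x * F.toFun' S y := by
  intro S _ _
  constructor
  · have h := F.isCompat_apply' ((Algebra.ofId A S).comp (MvPolynomial.aeval (Fin.elim0) :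
      MvPolynomial (Fin 0) A →ₐ[A] A)) (1 : MvPolynomial (Fin 0) A ⊗[A] B)
    rw [h1 0, K754.PolLift.rTensor_eq_map, K754.PolLift.rTensor_eq_map, map_one, map_one] at h
    exact h.symm
  · intro x y
    obtain ⟨n, ψ, p, q, rfl, rfl⟩ := K754.PolLift.exists_lift₂ x y
    rw [← F.isCompat_apply', ← F.isCompat_apply', K754.PolLift.rTensor_eq_map, K754.PolLift.rTensor_eq_map,
      ← map_mul, ← K754.PolLift.rTensor_eq_map, ← F.isCompat_apply', hmul, K754.PolLift.rTensor_eq_map,
      K754.PolLift.rTensor_eq_map, K754.PolLift.rTensor_eq_map, map_mul]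

end Groth.Agent.S13175
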