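import Groth.Statements.S13178
import Groth.Agent.ZeroCyc.K754.FieldLawFin

set_option autoImplicit false
universe u
open scoped TensorProduct
open ZeroCyc

namespace Groth.Agent.S13178

/-- Let K/k be a finite field extension with separable degree d_s and exponent e (the least e ≥ 1 such
that x^e is separable over k for every x ∈ K), and let d ≥ 0. The k-points of Γ^d(Spec K / Spec k)
are the multiplicative polynomial laws K → k over k that are homogeneous of degree d; there is at
most one such law, and one exists if and only if the quasi-degree d_s·e divides d. (The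
identification of k-points of Γ^d with multiplicative homogeneous laws is the universal property of
the algebra of divided powers; the row is stated directly for laws.) -/
theorem result {k : Type u} [Field k] {K : Type u} [Field K] [Algebra k K]
    [FiniteDimensional k K] (d e : ℕ) (he : 0 < e) (hexp : ∀ x : K, x ^ e ∈ separableClosure k K)
    (hmin : ∀ n : ℕ, 0 < n → (∀ x : K, x ^ n ∈ separableClosure k K) → e ≤ n) :
    (∀ F F' : K →ₚₗ[k] k,
      ((∀ (S : Type u) [CommRing S] [Algebra k S], F.toFun' S 1 = 1 ∧
        ∀ x y : S ⊗[k] K, F.toFun' S (x * y) = F.toFun' S x * F.toFun' S y) ∧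
      ∀ (S : Type u) [CommRing S] [Algebra k S] (a : S) (z : S ⊗[k] K), F.toFun' S (a • z) = a ^ d • F.toFun' S z) →
      ((∀ (S : Type u) [CommRing S] [Algebra k S], F'.toFun' S 1 = 1 ∧
        ∀ x y : S ⊗[k] K, F'.toFun' S (x * y) = F'.toFun' S x * F'.toFun' S y) ∧
      ∀ (S : Type u) [CommRing S] [Algebra k S] (a : S) (z : S ⊗[k] K), F'.toFun' S (a • z) = a ^ d • F'.toFun' S z) → F = F') ∧
    ((∃ F : K →ₚₗ[k] k, ((∀ (S : Type u) [CommRing S] [Algebra k S], F.toFun' S 1 = 1 ∧
        ∀ x y : S ⊗[k] K, F.toFun' S (x * y) = F.toFun' S x * F.toFun' S y) ∧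
      ∀ (S : Type u) [CommRing S] [Algebra k S] (a : S) (z : S ⊗[k] K), F.toFun' S (a • z) = a ^ d • F.toFun' S z)) ↔ Field.finSepDegree k K * e ∣ d) := by
  refine ⟨?_, ?_, ?_⟩
  · intro F F' hF hF'
    exact K754.FieldLawFin.law_unique (AlgebraicClosure K)
      (⟨F, K754.LawConv.isHomog_of_commRing F d hF.2, K754.LawConv.isMult_of_commRing F hF.1⟩ :
        PolLaw.MulLaw k K k d)
      ⟨F', K754.LawConv.isHomog_of_commRing F' d hF'.2, K754.LawConv.isMult_of_commRing F' hF'.1⟩
  · rintro ⟨F, hF⟩
    obtain ⟨m, hm, hsep⟩ := K754.FieldLawFin.exists_separable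
      (⟨F, K754.LawConv.isHomog_of_commRing F d hF.2, K754.LawConv.isMult_of_commRing F hF.1⟩ :
        PolLaw.MulLaw k K k d)
    rw [← hm]
    exact Nat.mul_dvd_mul_left _
      (K754.FieldLawFin.dvd_of_pow_mem (separableClosure k K) he hexp hmin hsep)
  · rintro ⟨l, hl⟩
    obtain ⟨r, hr⟩ := K754.FieldLawFin.exists_eq_expChar_pow he hexp hmin (ringExpChar k)
    obtain ⟨F, h1, h2⟩ := K754.FieldLawFin.exists_law (k := k) (K := K) (q := ringExpChar k) (r := r)
      (by rwa [← hr]) l
    have hd : ringExpChar k ^ r * Module.finrank k (separableClosure k K) * l = d := by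
      rw [hl, ← hr, Field.finSepDegree_eq]
      change _ * Module.finrank k (separableClosure k K) * l =
        Module.finrank k (separableClosure k K) * _ * l
      rw [mul_comm (e : ℕ)]
    rw [hd] at h2
    exact ⟨F, h1, h2⟩

end Groth.Agent.S13178
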