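import Groth.Statements.S13181
import Groth.Agent.ZeroCyc.K754.ProjQuot

set_option autoImplicit false
universe u
open CategoryTheory CategoryTheory.Limits AlgebraicGeometry
open ZeroCyc

namespace Groth.Agent.S13181

/-- Over an affine base Spec R, let B be a graded R-algebra generated by its degree-one part and let a
finite group G act on B by graded R-algebra automorphisms, with ring of invariants C = B^G (graded
by C_n = B_n ∩ B^G, given here as a graded ring with an injective graded map ι onto the invariants).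
Let ρ be the induced action of G on X = Proj B (on each chart D_+(σf) → D_+(f) it is Spec of b/f^k ↦
σ(b)/σ(f)^k) and π : Proj B → Proj C the morphism induced by ι (on D_+(ι c) → D_+(c) it is Spec of
C_(c) → B_(ι c)). Then π is a quotient of X by G: affine, G-invariant, with O_{Proj C} the
G-invariant sections of O_X. (The published statement is over a general base scheme with a
quasi-coherent graded algebra and includes the existence of the quotient; this row is its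
affine-local content, with ρ and π characterised chartwise.) -/
theorem result {R A : Type u} [CommRing R] [CommRing A] [Algebra R A] (𝒜 : ℕ → Submodule R A) [GradedAlgebra 𝒜]
    (hgen : Algebra.adjoin R (𝒜 1 : Set A) = ⊤)
    {G : Type u} [Group G] [Finite G] [MulSemiringAction G A]
    (hGR : ∀ (σ : G) (r : R), σ • algebraMap R A r = algebraMap R A r)
    (hGdeg : ∀ (σ : G) (i : ℕ) (a : A), a ∈ 𝒜 i → σ • a ∈ 𝒜 i)
    {C : Type u} [CommRing C] [Algebra R C] (𝒞 : ℕ → Submodule R C) [GradedAlgebra 𝒞]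
    (ι : C →ₐ[R] A) (hι : Function.Injective ι)
    (hιdeg : ∀ (i : ℕ) (a : A), a ∈ (𝒞 i).map ι.toLinearMap ↔ (a ∈ 𝒜 i ∧ ∀ σ : G, σ • a = a))
    (ρ : G →* Aut (Proj 𝒜))
    (hρ : ∀ (σ : G) (n : ℕ) (f : A) (hn : 0 < n) (hf : f ∈ 𝒜 n)
      (θ : CommRingCat.of (HomogeneousLocalization.Away 𝒜 f) ⟶ CommRingCat.of (HomogeneousLocalization.Away 𝒜 (σ • f))),
      (algebraMap (HomogeneousLocalization.Away 𝒜 (σ • f)) (Localization.Away (σ • f))).comp θ.hom =
        (Localization.awayMap (MulSemiringAction.toRingHom G A σ) f).comp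
          (algebraMap (HomogeneousLocalization.Away 𝒜 f) (Localization.Away f)) →
      Proj.awayι 𝒜 (σ • f) (hGdeg σ n f hf) hn ≫ (ρ σ).inv = Spec.map θ ≫ Proj.awayι 𝒜 f hf hn)
    (π : Proj 𝒜 ⟶ Proj 𝒞)
    (hπ : ∀ (n : ℕ) (c : C) (hn : 0 < n) (hc : c ∈ 𝒞 n)
      (θ : CommRingCat.of (HomogeneousLocalization.Away 𝒞 c) ⟶ CommRingCat.of (HomogeneousLocalization.Away 𝒜 (ι c))),
      (algebraMap (HomogeneousLocalization.Away 𝒜 (ι c)) (Localization.Away (ι c))).comp θ.hom =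
        (Localization.awayMap ι.toRingHom c).comp
          (algebraMap (HomogeneousLocalization.Away 𝒞 c) (Localization.Away c)) →
      Proj.awayι 𝒜 (ι c) ((hιdeg n (ι c)).mp (Submodule.mem_map_of_mem hc)).1 hn ≫ π =
        Spec.map θ ≫ Proj.awayι 𝒞 c hc hn) :
    SGA1.IsQuot ρ π := by
  classical
  let gσ : G → (𝒜 →+*ᵍ 𝒜) := fun σ =>
    { toRingHom := MulSemiringAction.toRingHom G A σ, map_mem := fun {i a} h => hGdeg σ i a h }
  have hιmem : ∀ {i : ℕ} {c : C}, c ∈ 𝒞 i → ι c ∈ 𝒜 i := fun {i c} hc =>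
    ((hιdeg i (ι c)).mp (Submodule.mem_map_of_mem hc)).1
  have hιinv : ∀ {i : ℕ} {c : C}, c ∈ 𝒞 i → ∀ σ : G, σ • ι c = ι c := fun {i c} hc =>
    ((hιdeg i (ι c)).mp (Submodule.mem_map_of_mem hc)).2
  let gι : 𝒞 →+*ᵍ 𝒜 := { toRingHom := ι.toRingHom, map_mem := fun {i a} h => hιmem h }
  have hgσ : ∀ σ a, gσ σ a = σ • a := fun σ a => rfl
  have hgι : ∀ a, gι a = ι a := fun a => rfl
  have hρ' : ∀ (σ : G) (n : ℕ) (f f' : A) (h : gσ σ f = f') (hn : 0 < n) (hf : f ∈ 𝒜 n)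
      (hf' : f' ∈ 𝒜 n), Proj.awayι 𝒜 f' hf' hn ≫ (ρ σ).inv =
        Spec.map (CommRingCat.ofHom (K754.ProjQuot.awayMap (gσ σ) f f' h)) ≫
          Proj.awayι 𝒜 f hf hn := by
    intro σ n f f' h hn hf hf'
    subst h
    exact hρ σ n f hn hf _ (K754.ProjQuot.compat (gσ σ) (MulSemiringAction.toRingHom G A σ)
      (fun _ => rfl) f hf)
  have hπ' : ∀ (n : ℕ) (c : C) (hn : 0 < n) (hc : c ∈ 𝒞 n),
      Proj.awayι 𝒜 (ι c) (hιmem hc) hn ≫ π =
        Spec.map (CommRingCat.ofHom (K754.ProjQuot.awayMap gι c (ι c) rfl)) ≫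
          Proj.awayι 𝒞 c hc hn := by
    intro n c hn hc
    exact hπ n c hn hc _ (K754.ProjQuot.compat gι ι.toRingHom (fun _ => rfl) c hc)
  have hcov : ∀ x : Proj 𝒜, ∃ (m : ℕ) (hm : 0 < m) (c : C) (hc : c ∈ 𝒞 m),
      x ∈ Proj.basicOpen 𝒜 (ι c) := by
    intro x
    obtain ⟨n, hn, f, hf, hx⟩ := K754.ProjQuot.exists_homogeneous_notMem 𝒜 x
    haveI := x.isPrime
    obtain ⟨m, hm, a, ha, haP, hinv⟩ := K754.ProjQuot.exists_invariant (G := G) 𝒜 hGdeg
      x.asHomogeneousIdeal.toIdeal hn hf hx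
    obtain ⟨c, hc, rfl⟩ := (hιdeg m a).mpr ⟨ha, hinv⟩
    exact ⟨m, hm, c, hc, haP⟩
  have hact : ∀ (g : G) {n : ℕ} {c : C} (hn : 0 < n) (hc : c ∈ 𝒞 n),
      Proj.awayι 𝒜 (ι c) (hιmem hc) hn ≫ (ρ g).hom =
        Spec.map (CommRingCat.ofHom (K754.ProjQuot.awayMap (gσ g⁻¹) (ι c) (ι c) (hιinv hc g⁻¹))) ≫
          Proj.awayι 𝒜 (ι c) (hιmem hc) hn := by
    intro g n c hn hc
    rw [← hρ' g⁻¹ n (ι c) (ι c) (hιinv hc g⁻¹) hn (hιmem hc) (hιmem hc)]
    congr 1
    rw [map_inv]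
    rfl
  have hfix : ∀ (g : G) {n : ℕ} {c : C} (hc : c ∈ 𝒞 n),
      (K754.ProjQuot.awayMap (gσ g) (ι c) (ι c) (hιinv hc g)).comp
        (K754.ProjQuot.awayMap gι c (ι c) rfl) = K754.ProjQuot.awayMap gι c (ι c) rfl := by
    intro g n c hc
    ext z
    obtain ⟨k, a, ha, rfl⟩ := HomogeneousLocalization.Away.mk_surjective 𝒞 hc z
    rw [RingHom.comp_apply, K754.ProjQuot.awayMap_mk gι c (ι c) rfl hc (hιmem hc),
      K754.ProjQuot.awayMap_mk (gσ g) (ι c) (ι c) (hιinv hc g) (hιmem hc) (hιmem hc)]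
    congr 2
    exact hιinv ha g
  have hinv : ∀ g : G, (ρ g).hom ≫ π = π := by
    intro g
    apply Scheme.hom_ext_of_forall
    intro x
    obtain ⟨m, hm, c, hc, hx⟩ := hcov x
    refine ⟨Proj.basicOpen 𝒜 (ι c), hx, ?_⟩
    have h1 : Proj.awayι 𝒜 (ι c) (hιmem hc) hm ≫ (ρ g).hom ≫ π =
        Proj.awayι 𝒜 (ι c) (hιmem hc) hm ≫ π := by
      rw [← Category.assoc, hact g hm hc, Category.assoc, hπ' m c hm hc, ← Category.assoc,
        ← Spec.map_comp, ← CommRingCat.ofHom_comp, hfix g⁻¹ hc]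
    rw [← Proj.basicOpenIsoSpec_inv_ι, Category.assoc, Category.assoc, cancel_epi] at h1
    exact h1
  have hpre : ∀ {n : ℕ} {c : C} (hn : 0 < n) (hc : c ∈ 𝒞 n),
      π ⁻¹ᵁ Proj.basicOpen 𝒞 c ≤ Proj.basicOpen 𝒜 (ι c) := by
    intro n c hn hc x hx
    obtain ⟨m, hm, c', hc', hx'⟩ := hcov x
    rw [← Proj.opensRange_awayι 𝒜 (ι c') (hιmem hc') hm] at hx'
    obtain ⟨z, rfl⟩ := hx'
    have h1 : Spec.map (CommRingCat.ofHom (K754.ProjQuot.awayMap gι c' (ι c') rfl)) z ∈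
        Proj.awayι 𝒞 c' hc' hm ⁻¹ᵁ Proj.basicOpen 𝒞 c := by
      change Proj.awayι 𝒞 c' hc' hm _ ∈ Proj.basicOpen 𝒞 c
      rw [← Scheme.Hom.comp_apply, ← hπ' m c' hm hc', Scheme.Hom.comp_apply]
      exact hx
    have h2 : z ∈ Proj.awayι 𝒜 (ι c') (hιmem hc') hm ⁻¹ᵁ Proj.basicOpen 𝒜 (ι c) := by
      rw [Proj.awayι_preimage_basicOpen 𝒜 (hιmem hc') hm (hιmem hc) hn]
      rw [Proj.awayι_preimage_basicOpen 𝒞 hc' hm hc hn] at h1
      intro h3
      apply h1
      change K754.ProjQuot.awayMap gι c' (ι c') rfl _ ∈ z.asIdeal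
      rw [HomogeneousLocalization.Away.isLocalizationElem,
        K754.ProjQuot.awayMap_mk gι c' (ι c') rfl hc' (hιmem hc')]
      convert! h3 using 2
      exact map_pow ι c m
    exact h2
  refine K754.ChartQuot.isQuot_of_charts hinv (fun y => ?_)
  obtain ⟨n, hn, c, hc, hy⟩ := K754.ProjQuot.exists_homogeneous_notMem 𝒞 y
  refine ⟨_, _, Proj.awayι 𝒜 (ι c) (hιmem hc) hn, inferInstance, Proj.awayι 𝒞 c hc hn,
    inferInstance, CommRingCat.ofHom (K754.ProjQuot.awayMap gι c (ι c) rfl),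
    fun g => CommRingCat.ofHom (K754.ProjQuot.awayMap (gσ g⁻¹) (ι c) (ι c) (hιinv hc g⁻¹)),
    ?_, hπ' n c hn hc, ?_, fun g => hact g hn hc, ?_, ?_⟩
  · rw [Proj.opensRange_awayι]; exact hy
  · rw [Proj.opensRange_awayι, Proj.opensRange_awayι]
    exact hpre hn hc
  · change Function.Injective (K754.ProjQuot.awayMap gι c (ι c) rfl)
    intro z z' hzz
    obtain ⟨k, a, ha, rfl⟩ := HomogeneousLocalization.Away.mk_surjective 𝒞 hc z
    obtain ⟨l, b, hb, rfl⟩ := HomogeneousLocalization.Away.mk_surjective 𝒞 hc z'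
    rw [K754.ProjQuot.awayMap_mk gι c (ι c) rfl hc (hιmem hc),
      K754.ProjQuot.awayMap_mk gι c (ι c) rfl hc (hιmem hc), K754.ProjQuot.mk_eq_mk_iff] at hzz
    rw [K754.ProjQuot.mk_eq_mk_iff]
    obtain ⟨e, he⟩ := hzz
    refine ⟨e, hι ?_⟩
    simpa [hgι] using he
  · intro b hb
    have hb' : ∀ g, K754.ProjQuot.awayMap (gσ g) (ι c) (ι c) (hιinv hc g) b = b := by
      intro g
      have := hb g⁻¹
      simpa using this
    obtain ⟨k, a, ha, rfl⟩ := HomogeneousLocalization.Away.mk_surjective 𝒜 (hιmem hc) b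
    have h1 : ∀ g : G, ∃ e, (ι c) ^ e * ((ι c) ^ k * g • a) = (ι c) ^ e * ((ι c) ^ k * a) := by
      intro g
      have := hb' g
      rw [K754.ProjQuot.awayMap_mk (gσ g) (ι c) (ι c) (hιinv hc g) (hιmem hc) (hιmem hc),
        K754.ProjQuot.mk_eq_mk_iff] at this
      exact this
    choose e he using h1
    cases nonempty_fintype G
    obtain ⟨M, hM⟩ : ∃ M, ∀ g, e g ≤ M :=
      ⟨Finset.univ.sup e, fun g => Finset.le_sup (Finset.mem_univ g)⟩
    have hM' : ∀ g : G, (ι c) ^ (M + k) * g • a = (ι c) ^ (M + k) * a := by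
      intro g
      obtain ⟨j, hj⟩ := Nat.exists_eq_add_of_le (hM g)
      rw [hj, show e g + j + k = j + (e g + k) by ring, pow_add, mul_assoc, pow_add, mul_assoc,
        he g, mul_assoc, mul_assoc]
    have hmem : (ι c) ^ (M + k) * a ∈ 𝒜 (((M + k) + k) • n) := by
      rw [add_smul]
      exact SetLike.mul_mem_graded (SetLike.pow_mem_graded (M + k) (hιmem hc)) ha
    obtain ⟨b', hb'1, hb'2⟩ := (hιdeg _ _).mpr ⟨hmem, fun g => by
      rw [smul_mul', smul_pow', hιinv hc g, hM' g]⟩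
    refine ⟨HomogeneousLocalization.Away.mk 𝒞 hc ((M + k) + k) b' hb'1, ?_⟩
    change K754.ProjQuot.awayMap gι c (ι c) rfl _ = _
    rw [K754.ProjQuot.awayMap_mk gι c (ι c) rfl hc (hιmem hc), K754.ProjQuot.mk_eq_mk_iff]
    refine ⟨0, ?_⟩
    have hb'3 : gι b' = (ι c) ^ (M + k) * a := hb'2
    rw [hb'3]
    ring

end Groth.Agent.S13181
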