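import Groth.Statements.S13182
import Groth.Agent.ZeroCyc.K755.ProjEmb2

set_option autoImplicit false
universe u
open CategoryTheory CategoryTheory.Limits AlgebraicGeometry
open ZeroCyc

namespace Groth.Agent.S13182

/-- Let B be a graded R-algebra generated by homogeneous elements f_1, …, f_s of positive degrees d_1,
…, d_s, let l be the least common multiple of the d_i and X = Proj B. For n = a l with a ≥ max(1, s
− 1) there is a closed immersion i of X into a projective space over R, over Spec R, with O_X(n) ≅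
i^*O(1); in particular O_X(n) is very ample relative to Spec R. (The published statement takes for i
the canonical morphism into P(B_n) given by the sections B_n; this row asserts only a closed
immersion into some projective space P^N over R with an isomorphism O_X(n) ≅ i^*O(1).) -/
theorem result {R A : Type u} [CommRing R] [CommRing A] [Algebra R A] (𝒜 : ℕ → Submodule R A) [GradedAlgebra 𝒜]
    {s : ℕ} (f : Fin s → A) (deg : Fin s → ℕ) (hdeg : ∀ i, 0 < deg i) (hf : ∀ i, f i ∈ 𝒜 (deg i))
    (hgen : Algebra.adjoin R (Set.range f) = ⊤) (a : ℕ) (ha : 0 < a) (has : s - 1 ≤ a) :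
    ∃ (N : ℕ) (i : Proj 𝒜 ⟶ CohB1.ProjSpaceOver N (Spec (CommRingCat.of R))), IsClosedImmersion i ∧
      i ≫ pullback.snd (CohB1.ProjSpace.toSpec N (ULift.{u} ℤ)) (specULiftZIsTerminal.from (Spec (CommRingCat.of R))) =
        Proj.toSpecZero 𝒜 ≫ Spec.map (CommRingCat.ofHom (algebraMap R (𝒜 0))) ∧
      Nonempty (Twist.twist 𝒜 ((a * Finset.univ.lcm deg : ℕ) : ℤ) ≅
        (Scheme.Modules.pullback i).obj (Twist.twistOver N (Spec (CommRingCat.of R)) 1)) := by
  classical
  have hl0 : 0 < Finset.univ.lcm deg := by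
    rw [Nat.pos_iff_ne_zero]
    intro h
    rw [Finset.lcm_eq_zero_iff] at h
    obtain ⟨i, -, hi⟩ := h
    exact (hdeg i).ne' hi
  have hl : ∀ i, deg i ∣ Finset.univ.lcm deg := fun i => Finset.dvd_lcm (Finset.mem_univ i)
  have hn : 0 < a * Finset.univ.lcm deg := Nat.mul_pos ha hl0
  have hdiv : ∀ i, (a * Finset.univ.lcm deg / deg i) * deg i = a * Finset.univ.lcm deg := fun i =>
    Nat.div_mul_cancel (Dvd.dvd.mul_left (hl i) a)
  have hpos : ∀ i, 0 < a * Finset.univ.lcm deg / deg i := fun i => by
    rcases Nat.eq_zero_or_pos (a * Finset.univ.lcm deg / deg i) with h | h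
    · have := hdiv i
      rw [h, zero_mul] at this
      omega
    · exact h
  let g : ULift.{u} (Fin s) → 𝒜 (a * Finset.univ.lcm deg) := fun i =>
    ⟨f i.down ^ (a * Finset.univ.lcm deg / deg i.down), by
      have := SetLike.pow_mem_graded (A := 𝒜) (a * Finset.univ.lcm deg / deg i.down) (hf i.down)
      rwa [smul_eq_mul, hdiv] at this⟩
  refine K755.ProjEmb.exists_closedImmersion hdeg hf hgen _ hn g ?_ ?_
  · have h1 : ⨆ i, Proj.basicOpen 𝒜 (f i) = ⊤ := by
      refine Proj.iSup_basicOpen_eq_top' 𝒜 f (fun i => ⟨deg i, hf i⟩) (top_le_iff.mp fun x _ => ?_)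
      have hx : x ∈ Algebra.adjoin R (Set.range f) := hgen ▸ trivial
      induction hx using Algebra.adjoin_induction with
      | mem y hy => exact Algebra.subset_adjoin hy
      | algebraMap a => exact Subalgebra.algebraMap_mem _ (algebraMap R (𝒜 0) a)
      | add y z _ _ hy hz => exact add_mem (hy trivial) (hz trivial)
      | mul y z _ _ hy hz => exact mul_mem (hy trivial) (hz trivial)
    rw [eq_top_iff, ← h1]
    refine iSup_le fun i => le_iSup_of_le (ULift.up i) ?_
    show Proj.basicOpen 𝒜 (f i) ≤ Proj.basicOpen 𝒜 (f i ^ _)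
    rw [Proj.basicOpen_pow 𝒜 (f i) _ (hpos i)]
  · intro j k x hx
    refine ⟨0, ?_⟩
    rw [pow_zero, mul_one, add_zero]
    exact K755.ProjEmbAlg.veronese_le hdeg hf hgen _ hl0 hl a has k hx

end Groth.Agent.S13182
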