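import Groth.Statements.S13183
import Groth.Agent.ZeroCyc.K755.ProjEmb2

set_option autoImplicit false
universe u
open CategoryTheory CategoryTheory.Limits AlgebraicGeometry
open ZeroCyc

namespace Groth.Agent.S13183

/-- Let B be a graded R-algebra of finite type, generated by elements of degrees between 1 and d, such
that X = Proj B is covered by the opens D_+(g), g ∈ B_1. For n ≥ d, n ≥ 1, there is a closed
immersion i of X into a projective space over R, over Spec R, with O_X(n) ≅ i^*O(1); in particular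
O_X(n) is very ample relative to Spec R. (The published statement assumes neither finite generation
nor that the generators have positive degree, and its target is P(B_n) with i the canonical morphism
given by B_n; a closed immersion into a projective space of finite type over R needs X proper over
R, so B is taken of finite type with generators of positive degree; existence of the isomorphism
only.) -/
theorem result {R A : Type u} [CommRing R] [CommRing A] [Algebra R A] (𝒜 : ℕ → Submodule R A) [GradedAlgebra 𝒜]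
    (d : ℕ) (hgen : Algebra.adjoin R (⋃ i ∈ Finset.Icc 1 d, (𝒜 i : Set A)) = ⊤)
    (hcov : (⨆ g : 𝒜 1, Proj.basicOpen 𝒜 (g : A)) = ⊤) [Algebra.FiniteType R A] (n : ℕ) (hn : d ≤ n) (hn1 : 0 < n) :
    ∃ (N : ℕ) (i : Proj 𝒜 ⟶ CohB1.ProjSpaceOver N (Spec (CommRingCat.of R))), IsClosedImmersion i ∧
      i ≫ pullback.snd (CohB1.ProjSpace.toSpec N (ULift.{u} ℤ)) (specULiftZIsTerminal.from (Spec (CommRingCat.of R))) =
        Proj.toSpecZero 𝒜 ≫ Spec.map (CommRingCat.ofHom (algebraMap R (𝒜 0))) ∧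
      Nonempty (Twist.twist 𝒜 (n : ℤ) ≅
        (Scheme.Modules.pullback i).obj (Twist.twistOver N (Spec (CommRingCat.of R)) 1)) := by
  classical
  obtain ⟨T, hT, hTtop⟩ := K755.ProjEmbAlg.exists_finset_adjoin hgen
  let e := T.equivFin
  let f : Fin T.card → A := fun i => (e.symm i : A)
  have hdegex : ∀ i, ∃ k, 0 < k ∧ k ≤ d ∧ f i ∈ 𝒜 k := by
    intro i
    have h1 := hT (e.symm i).2
    rw [Set.mem_iUnion₂] at h1
    obtain ⟨k, hk, h1⟩ := h1
    rw [Finset.mem_Icc] at hk
    exact ⟨k, by omega, hk.2, h1⟩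
  choose deg hdeg hdegd hf using hdegex
  have hrange : Set.range f = (T : Set A) := by
    ext x
    constructor
    · rintro ⟨i, rfl⟩; exact (e.symm i).2
    · intro hx; exact ⟨e ⟨x, hx⟩, by simp [f]⟩
  have hgen' : Algebra.adjoin R (Set.range f) = ⊤ := by rw [hrange]; exact hTtop
  have hprop := K755.ProjEmb.isProper_toSpec (𝒜 := 𝒜) hdeg hf hgen'
  have hcomp : CompactSpace (Proj 𝒜) :=
    QuasiCompact.compactSpace_of_compactSpace
      (Proj.toSpecZero 𝒜 ≫ Spec.map (CommRingCat.ofHom (algebraMap R (𝒜 0))))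
  obtain ⟨t, ht⟩ := (isCompact_univ (X := Proj 𝒜)).elim_finite_subcover
    (fun g : 𝒜 1 => ((Proj.basicOpen 𝒜 (g : A) : (Proj 𝒜).Opens) : Set (Proj 𝒜)))
    (fun g => (Proj.basicOpen 𝒜 (g : A)).2) (by
      intro x _
      have hx : x ∈ (⨆ g : 𝒜 1, Proj.basicOpen 𝒜 (g : A) : (Proj 𝒜).Opens) := by rw [hcov]; trivial
      obtain ⟨g, hg⟩ := TopologicalSpace.Opens.mem_iSup.mp hx
      exact Set.mem_iUnion.mpr ⟨g, hg⟩)
  let g : t → 𝒜 n := fun h => ⟨(h.1 : A) ^ n, by
    have := SetLike.pow_mem_graded (A := 𝒜) n h.1.2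
    rwa [smul_eq_mul, mul_one] at this⟩
  refine K755.ProjEmb.exists_closedImmersion hdeg hf hgen' n hn1 g ?_ ?_
  · rw [eq_top_iff]
    intro x _
    obtain ⟨h, hht, hx⟩ := Set.mem_iUnion₂.mp (ht (Set.mem_univ x))
    refine TopologicalSpace.Opens.mem_iSup.mpr ⟨⟨h, hht⟩, ?_⟩
    show x ∈ Proj.basicOpen 𝒜 ((h : A) ^ n)
    rw [Proj.basicOpen_pow 𝒜 _ n hn1]
    exact hx
  · intro j k x hx
    exact K755.ProjEmbAlg.exists_mul_pow_mem hf hgen' n hn1 (fun i => (hdegd i).trans hn) j.1 j.1.2 k x hx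

end Groth.Agent.S13183
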