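import Groth.Statements.S13184
import Mathlib.FieldTheory.SeparableClosure
import Mathlib.FieldTheory.Perfect

set_option autoImplicit false
universe u
open ZeroCyc

namespace Groth.Agent.S13184

open Polynomial in
/-- transport of separability along a pair of compatible embeddings -/
theorem isSeparable_of_hom {F E Ω : Type*} [Field F] [Field E] [Field Ω] [Algebra F Ω] [Algebra E Ω]
    (σ : F →+* E) (Φ : Ω →+* Ω) (h : ∀ a, algebraMap E Ω (σ a) = Φ (algebraMap F Ω a)) (x : Ω)
    (hx : IsSeparable F x) : IsSeparable E (Φ x) := by
  have hsep : ((minpoly F x).map σ).Separable := Polynomial.Separable.map hx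
  have hzero : aeval (Φ x) ((minpoly F x).map σ) = 0 := by
    rw [aeval_def, eval₂_map]
    have : (algebraMap E Ω).comp σ = Φ.comp (algebraMap F Ω) := RingHom.ext h
    rw [this, ← hom_eval₂, ← aeval_def, minpoly.aeval, map_zero]
  exact hsep.of_dvd (minpoly.dvd _ _ hzero)

/-- Let k ⊆ K be a finite extension of fields of characteristic p > 0, viewed inside an algebraically
closed field Ω, and for e ≥ 0 let k^{p^{-e}} ⊆ Ω be the field of elements whose p^e-th power lies in
k. Then the compositum k^{p^{-e}}K is separable over k^{p^{-e}} if and only if x^{p^e} is separable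
over k for every x ∈ K; hence the exponent of K/k (the least n ≥ 1 with K^n separable over k, a
power of p) is the least p^e for which k^{p^{-e}} ⊆ k^{p^{-e}}K is separable. -/
theorem result {k : Type u} [Field k] (p : ℕ) [Fact p.Prime] [CharP k p]
    {K : Type u} [Field K] [Algebra k K] [FiniteDimensional k K]
    {Ω : Type u} [Field Ω] [Algebra k Ω] [Algebra K Ω] [IsScalarTower k K Ω] [IsAlgClosed Ω] (e : ℕ) :
    (∀ x : Ω, x ∈ IntermediateField.adjoin k {y : Ω | y ^ (p ^ e) ∈ Set.range (algebraMap k Ω)} ⊔
        IntermediateField.adjoin k (Set.range (algebraMap K Ω)) →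
      IsSeparable (IntermediateField.adjoin k {y : Ω | y ^ (p ^ e) ∈ Set.range (algebraMap k Ω)}) x) ↔
    ∀ x : K, x ^ (p ^ e) ∈ separableClosure k K := by
  have : CharP Ω p := charP_of_injective_algebraMap (algebraMap k Ω).injective p
  have : ExpChar Ω p := ExpChar.prime Fact.out
  have : PerfectRing Ω p := inferInstance
  set L := IntermediateField.adjoin k {y : Ω | y ^ (p ^ e) ∈ Set.range (algebraMap k Ω)} with hL
  have hLpow : ∀ y : L, iterateFrobenius Ω p e (y : Ω) ∈ (algebraMap k Ω).range := by
    intro y
    have h1 : L ≤ (((⊥ : IntermediateField k Ω).toSubfield).comap (iterateFrobenius Ω p e)).toIntermediateField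
        (by
          intro a
          rw [Subfield.mem_comap]
          rw [iterateFrobenius_def, ← map_pow]
          exact IntermediateField.algebraMap_mem ⊥ _) := by
      rw [hL, IntermediateField.adjoin_le_iff]
      rintro z ⟨a, ha⟩
      show iterateFrobenius Ω p e z ∈ (⊥ : IntermediateField k Ω).toSubfield
      rw [iterateFrobenius_def, ← ha]
      exact IntermediateField.algebraMap_mem ⊥ _
    have h2 : iterateFrobenius Ω p e (y : Ω) ∈ (⊥ : IntermediateField k Ω) := h1 y.2
    rw [IntermediateField.mem_bot] at h2
    exact h2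
  -- the isomorphism `L ≅ k` given by the `p ^ e`-th power
  let ι : k ≃+* (algebraMap k Ω).range := RingEquiv.ofLeftInverse
    (f := algebraMap k Ω) (g := Function.invFun (algebraMap k Ω)) (Function.leftInverse_invFun (algebraMap k Ω).injective)
  let σ : L →+* k := ι.symm.toRingHom.comp
    (((iterateFrobenius Ω p e).comp (algebraMap L Ω)).codRestrict (algebraMap k Ω).range hLpow)
  have hσ : ∀ y : L, algebraMap k Ω (σ y) = iterateFrobenius Ω p e (algebraMap L Ω y) := by
    intro y
    have h1 : ι (σ y) = (((iterateFrobenius Ω p e).comp (algebraMap L Ω)).codRestrict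
      (algebraMap k Ω).range hLpow) y := ι.apply_symm_apply _
    exact congrArg Subtype.val h1
  let τ : k →+* L := ((iterateFrobeniusEquiv Ω p e).symm.toRingHom.comp (algebraMap k Ω)).codRestrict L.toSubfield
    (by
      intro a
      apply IntermediateField.subset_adjoin
      refine ⟨a, ?_⟩
      show _ = ((iterateFrobeniusEquiv Ω p e).symm (algebraMap k Ω a)) ^ (p ^ e)
      rw [← iterateFrobeniusEquiv_def, RingEquiv.apply_symm_apply])
  have hτ : ∀ a : k, algebraMap L Ω (τ a) = (iterateFrobeniusEquiv Ω p e).symm.toRingHom (algebraMap k Ω a) :=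
    fun a => rfl
  have key : ∀ x : Ω, IsSeparable L x ↔ IsSeparable k (x ^ (p ^ e)) := by
    intro x
    constructor
    · intro h
      exact isSeparable_of_hom σ (iterateFrobenius Ω p e) hσ x h
    · intro h
      have := isSeparable_of_hom τ (iterateFrobeniusEquiv Ω p e).symm.toRingHom hτ _ h
      have h2 : (iterateFrobeniusEquiv Ω p e).symm.toRingHom (x ^ p ^ e) = x := by
        show (iterateFrobeniusEquiv Ω p e).symm (x ^ p ^ e) = x
        rw [← iterateFrobeniusEquiv_def, RingEquiv.symm_apply_apply]
      rwa [h2] at this
  have hK : ∀ x : K, IsSeparable L (algebraMap K Ω x) ↔ x ^ (p ^ e) ∈ separableClosure k K := by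
    intro x
    rw [key, mem_separableClosure_iff, ← map_pow]
    exact isSeparable_map_iff (IsScalarTower.toAlgHom k K Ω) (algebraMap K Ω).injective
  constructor
  · intro h x
    rw [← hK]
    apply h
    exact (le_sup_right : _ ≤ L ⊔ _) (IntermediateField.subset_adjoin _ _ ⟨x, rfl⟩)
  · intro h x hx
    have hle : L ⊔ IntermediateField.adjoin k (Set.range (algebraMap K Ω)) ≤
        (separableClosure L Ω).restrictScalars k := by
      refine sup_le ?_ ?_
      · intro y hy
        show y ∈ separableClosure L Ω
        exact IntermediateField.algebraMap_mem _ (⟨y, hy⟩ : L)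
      · rw [IntermediateField.adjoin_le_iff]
        rintro _ ⟨y, rfl⟩
        show _ ∈ separableClosure L Ω
        rw [mem_separableClosure_iff]
        exact (hK y).mpr (h y)
    exact mem_separableClosure_iff.mp (hle hx)

end Groth.Agent.S13184
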