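import Groth.Statements.S13186
import Groth.Agent.S11079

set_option autoImplicit false
universe u
open GalCoh

namespace Groth.Agent.S13186

/-- Let L/K be a finite Galois extension of fields, n a natural number, and B a map from the Galois
group of L over K to the invertible n × n matrices over L such that B(σ) · σ(B(τ)) = B(στ) for all
σ, τ (σ acting on matrices entrywise, στ applying τ first) and det B(σ) = 1 for every σ. Then there
is an invertible matrix A over L of determinant 1 with B(σ) = A⁻¹ · σ(A) for every σ; that is, every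
1-cocycle of the Galois group with values in SL_n(L) is the coboundary of an element of SL_n(L), so
H¹ of the Galois group with values in SL_n(L) is a point. (The published statement says that every
torsor under the special linear group over K is trivial; this row is the finite-Galois-level cocycle
form that its proof establishes.) -/
theorem result (K L : Type u) [Field K] [Field L]
    [Algebra K L] [FiniteDimensional K L] [IsGalois K L] (n : ℕ)
    (B : (L ≃ₐ[K] L) → GL (Fin n) L)
    (hB : ∀ σ τ : L ≃ₐ[K] L,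
      (B σ : Matrix (Fin n) (Fin n) L) * (B τ : Matrix (Fin n) (Fin n) L).map σ =
        (B (σ * τ) : Matrix (Fin n) (Fin n) L))
    (hdet : ∀ σ : L ≃ₐ[K] L, Matrix.det (B σ : Matrix (Fin n) (Fin n) L) = 1) :
    ∃ A : GL (Fin n) L, Matrix.det (A : Matrix (Fin n) (Fin n) L) = 1 ∧ ∀ σ : L ≃ₐ[K] L,
      (B σ : Matrix (Fin n) (Fin n) L) =
        ((A⁻¹ : GL (Fin n) L) : Matrix (Fin n) (Fin n) L) * (A : Matrix (Fin n) (Fin n) L).map σ := by
  classical
  obtain ⟨A, hA⟩ := Groth.Agent.S11079.result K L n B hB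
  rcases n with _ | n
  · refine ⟨A, ?_, hA⟩
    rw [Matrix.det_isEmpty]
  -- the determinant of `A` is fixed by the Galois group
  have hfix : ∀ σ : L ≃ₐ[K] L, σ (A : Matrix (Fin (n + 1)) (Fin (n + 1)) L).det =
      (A : Matrix (Fin (n + 1)) (Fin (n + 1)) L).det := by
    intro σ
    have h1 := congrArg Matrix.det (hA σ)
    rw [hdet, Matrix.det_mul] at h1
    have h2 : Matrix.det ((A : Matrix (Fin (n + 1)) (Fin (n + 1)) L).map σ) =
        σ (A : Matrix (Fin (n + 1)) (Fin (n + 1)) L).det := by
      have := (RingHom.map_det (σ : L →+* L) (A : Matrix (Fin (n + 1)) (Fin (n + 1)) L)).symm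
      exact this
    rw [h2] at h1
    have h3 : (A : Matrix (Fin (n + 1)) (Fin (n + 1)) L).det *
        ((A⁻¹ : GL (Fin (n + 1)) L) : Matrix (Fin (n + 1)) (Fin (n + 1)) L).det = 1 := by
      rw [← Matrix.det_mul, ← Units.val_mul, mul_inv_cancel, Units.val_one, Matrix.det_one]
    calc σ (A : Matrix (Fin (n + 1)) (Fin (n + 1)) L).det
        = ((A : Matrix (Fin (n + 1)) (Fin (n + 1)) L).det *
        ((A⁻¹ : GL (Fin (n + 1)) L) : Matrix (Fin (n + 1)) (Fin (n + 1)) L).det) *
          σ (A : Matrix (Fin (n + 1)) (Fin (n + 1)) L).det := by rw [h3, one_mul]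
      _ = _ := by rw [mul_assoc, ← h1, mul_one]
  set δ := (A : Matrix (Fin (n + 1)) (Fin (n + 1)) L).det with hδ
  have hδ0 : δ ≠ 0 := by
    have : IsUnit (A : Matrix (Fin (n + 1)) (Fin (n + 1)) L).det :=
      (Matrix.isUnit_iff_isUnit_det _).1 A.isUnit
    exact this.ne_zero
  let d : Fin (n + 1) → L := fun i => if i = 0 then δ⁻¹ else 1
  have hd : ∏ i, d i = δ⁻¹ := by
    simp only [d]
    rw [Finset.prod_ite_eq' Finset.univ (0 : Fin (n + 1)) (fun _ => δ⁻¹)]
    simp
  have hσd : ∀ σ : L ≃ₐ[K] L, (Matrix.diagonal d).map σ = Matrix.diagonal d := by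
    intro σ
    rw [Matrix.diagonal_map (map_zero σ)]
    congr 1
    funext i
    simp only [d]
    split_ifs
    · rw [map_inv₀, hfix σ]
    · rw [map_one]
  let D : GL (Fin (n + 1)) L := Matrix.GeneralLinearGroup.mk'' (Matrix.diagonal d) (by
    rw [Matrix.det_diagonal, hd]
    exact (isUnit_iff_ne_zero.2 (inv_ne_zero hδ0)))
  have hD : (D : Matrix (Fin (n + 1)) (Fin (n + 1)) L) = Matrix.diagonal d := rfl
  refine ⟨D * A, ?_, fun σ => ?_⟩
  · rw [Units.val_mul, Matrix.det_mul, hD, Matrix.det_diagonal, hd, ← hδ, inv_mul_cancel₀ hδ0]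
  · have h1 : ((D * A : GL (Fin (n + 1)) L) : Matrix (Fin (n + 1)) (Fin (n + 1)) L).map σ =
        (D : Matrix (Fin (n + 1)) (Fin (n + 1)) L) *
          (A : Matrix (Fin (n + 1)) (Fin (n + 1)) L).map σ := by
      have h2 : ((D : Matrix (Fin (n + 1)) (Fin (n + 1)) L) *
          (A : Matrix (Fin (n + 1)) (Fin (n + 1)) L)).map σ =
          (D : Matrix (Fin (n + 1)) (Fin (n + 1)) L).map σ *
          (A : Matrix (Fin (n + 1)) (Fin (n + 1)) L).map σ :=
        Matrix.map_mul (f := (σ : L →+* L))
      rw [Units.val_mul]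
      refine h2.trans ?_
      congr 1
      exact hσd σ
    have h3 : ((D⁻¹ : GL (Fin (n + 1)) L) : Matrix (Fin (n + 1)) (Fin (n + 1)) L) *
        (D : Matrix (Fin (n + 1)) (Fin (n + 1)) L) = 1 := by
      rw [← Units.val_mul, inv_mul_cancel, Units.val_one]
    rw [h1, mul_inv_rev, Units.val_mul, Matrix.mul_assoc, ← Matrix.mul_assoc _ (D : Matrix (Fin (n + 1)) (Fin (n + 1)) L), h3,
      Matrix.one_mul]
    exact hA σ

end Groth.Agent.S13186
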