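import Groth.Statements.S13187
-- import your own Groth.Agent.* helpers here
import Groth.Agent.S0210
import Groth.Agent.S0212

set_option autoImplicit false
universe u v
open Curves

namespace Groth.Agent.S13187

/-- If a field k has property C_m for systems of forms and the extension field K of k has a finite
transcendence basis with t elements, then K has property C_{m+t} for systems of forms. (Property C_m
is the systems version: any r forms of positive degrees d_1, …, d_r in n variables with Σ d_i^m < n
have a common non-trivial zero.) -/
theorem result (k : Type u) [Field k] (K : Type v) [Field K] [Algebra k K]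
    (m t : ℕ) (x : Fin t → K) (hx : IsTranscendenceBasis k x) (hk : Curves.IsCi k m) :
    Curves.IsCi K (m + t) := by
  let F : Subfield K := (algebraMap k K).fieldRange
  let φ : k →+* F := (algebraMap k K).rangeRestrictField
  have hφ : Function.Surjective φ := (algebraMap k K).rangeRestrictField_bijective.2
  have hF : Curves.IsCi F m := by
    let _ : Algebra k F := φ.toAlgebra
    have : Algebra.IsAlgebraic k F := by
      refine ⟨fun z => ?_⟩
      obtain ⟨y, rfl⟩ := hφ z
      exact isAlgebraic_algebraMap (R := k) (A := F) y
    exact Groth.Agent.S0210.result k F m hk
  have hn : (Set.range x).ncard = t := by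
    rw [← Nat.card_coe_set_eq, Nat.card_range_of_injective hx.1.injective, Nat.card_fin]
  refine Groth.Agent.S0212.isCi_of_card t F m (Set.range x) (Set.finite_range x) hn ?_ hF
  have halg := hx.isAlgebraic_field
  have hle : ∀ z : K, z ∈ IntermediateField.adjoin k (Set.range x) →
      z ∈ IntermediateField.adjoin F (Set.range x) := by
    intro z hz
    have h : (IntermediateField.adjoin k (Set.range x)).toSubfield ≤
        (IntermediateField.adjoin F (Set.range x)).toSubfield := by
      change Subfield.closure _ ≤ Subfield.closure _
      refine Subfield.closure_mono ?_
      refine Set.union_subset_union_left _ ?_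
      rintro _ ⟨y, rfl⟩
      exact ⟨φ y, rfl⟩
    exact h hz
  let ψ : IntermediateField.adjoin k (Set.range x) →+* IntermediateField.adjoin F (Set.range x) :=
    { toFun := fun z => ⟨z.1, hle z.1 z.2⟩
      map_one' := rfl
      map_zero' := rfl
      map_mul' := fun _ _ => rfl
      map_add' := fun _ _ => rfl }
  refine ⟨fun z => ?_⟩
  exact (halg.isAlgebraic z).ringHom_of_comp_eq ψ (RingHom.id K) ψ.injective rfl

end Groth.Agent.S13187
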