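import Groth.Statements.S13188
import Groth.Agent.Brauer.K440.RedNorm
import Groth.Agent.CurvesA.FormSystems

set_option autoImplicit false
universe u v w
open Brauer

namespace Groth.Agent.S13188

open MvPolynomial in
theorem eval_smul_of_isHomogeneous {k : Type*} [CommSemiring k] {σ : Type*} {p : MvPolynomial σ k}
    {e : ℕ} (hp : p.IsHomogeneous e) (c : k) (y : σ → k) :
    eval (c • y) p = c ^ e * eval y p := by
  rw [eval_eq, eval_eq, Finset.mul_sum]
  refine Finset.sum_congr rfl fun d hd => ?_
  have hde : d.degree = e := by
    by_contra hne
    exact (mem_support_iff.mp hd) (hp.coeff_eq_zero hne)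
  simp only [Pi.smul_apply, smul_eq_mul, mul_pow, Finset.prod_mul_distrib,
    Finset.prod_pow_eq_pow_sum]
  have : ∑ i ∈ d.support, d i = e := hde
  rw [this]
  ring

/-- Let K be a field with property C_2 for systems of forms and D a finite-dimensional central division
algebra over K with dim_K D = d². Let N : D → K be multiplicative, a reduced norm of D over K, and
given in the coordinates of a K-basis b of D by a homogeneous polynomial F of degree d, i.e. N(Σ x_i
b_i) = F(x) for every coordinate vector x (the reduced norm of a central simple algebra of dimension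
d² is such a polynomial map of degree d; these data record it). Then N : D → K is surjective. -/
theorem result (K : Type u) [Field K] (hK : Curves.IsCi K 2)
    (D : Type v) [DivisionRing D] [Algebra K D] [Algebra.IsCentral K D] [FiniteDimensional K D]
    (d : ℕ) (hd : Module.finrank K D = d ^ 2)
    (N : D →* K) (hN : CSAGal.IsRedNorm K D N)
    {ι : Type w} [Fintype ι] (b : Module.Basis ι K D)
    (F : MvPolynomial ι K) (hF : F.IsHomogeneous d)
    (hNF : ∀ x : ι → K, N (∑ i, x i • b i) = MvPolynomial.eval x F) :
    Function.Surjective N := by
  classical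
  have : IsSimpleRing D := inferInstance
  have hfin : 0 < Module.finrank K D := Module.finrank_pos
  have hd0 : 0 < d := by
    rcases Nat.eq_zero_or_pos d with h0 | h0
    · rw [hd, h0] at hfin; simp at hfin
    · exact h0
  intro c
  -- the form `F - c y ^ d` in `d ^ 2 + 1` variables
  let G : MvPolynomial (Option ι) K :=
    MvPolynomial.rename some F - MvPolynomial.C c * MvPolynomial.X none ^ d
  have hG : G.IsHomogeneous d := by
    refine MvPolynomial.IsHomogeneous.sub hF.rename_isHomogeneous ?_
    have := (MvPolynomial.isHomogeneous_C (Option ι) c).mul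
      (MvPolynomial.isHomogeneous_X_pow (R := K) (none : Option ι) d)
    simpa using this
  have hcard : Fintype.card ι = d ^ 2 := by rw [← hd, Module.finrank_eq_card_basis b]
  obtain ⟨a, ha0, ha⟩ := Groth.Agent.CurvesA.FormSystems.isCi_fintype hK (R := Unit)
    (N := Option ι) (fun _ => G) (fun _ => d) (fun _ => hG) (fun _ => hd0) (by
      rw [Fintype.card_option, hcard]; simp)
  have h1 : MvPolynomial.eval a G = 0 := ha ()
  have h2 : N (∑ i, a (some i) • b i) = c * a none ^ d := by
    rw [hNF]
    have h3 : MvPolynomial.eval (fun i => a (some i)) F =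
        MvPolynomial.eval a (MvPolynomial.rename some F) := by
      rw [MvPolynomial.eval_rename]; rfl
    rw [h3]
    simpa [G, sub_eq_zero] using h1
  by_cases hy : a none = 0
  · exfalso
    rw [hy, zero_pow hd0.ne', mul_zero] at h2
    by_cases hz : (∑ i, a (some i) • b i) = 0
    · apply ha0
      have h4 := (Fintype.linearIndependent_iff.1 b.linearIndependent) _ hz
      funext o
      rcases o with _ | i
      · exact hy
      · exact h4 i
    · have hu : IsUnit (∑ i, a (some i) • b i) := isUnit_iff_ne_zero.2 hz
      exact (hu.map N).ne_zero h2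
  · refine ⟨(a none)⁻¹ • ∑ i, a (some i) • b i, ?_⟩
    have h5 : N ((a none)⁻¹ • ∑ i, a (some i) • b i) =
        (a none)⁻¹ ^ d * N (∑ i, a (some i) • b i) := by
      rw [Finset.smul_sum]
      simp only [smul_smul]
      rw [hNF, hNF]
      exact eval_smul_of_isHomogeneous hF (a none)⁻¹ (fun i => a (some i))
    rw [h5, h2, mul_comm c, ← mul_assoc, ← mul_pow, inv_mul_cancel₀ hy, one_pow, one_mul]

end Groth.Agent.S13188
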