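import Groth.Statements.S13189
import Mathlib.FieldTheory.Finite.Polynomial

set_option autoImplicit false
universe u
open CAlg

namespace Groth.Agent.S13189

/-- For a finite field K of cardinality q and n ≥ 0, a polynomial p in n variables over K vanishes at
every point of K^n if and only if p belongs to the ideal generated by the X_i^q − X_i, i = 1, …, n;
in other words that ideal is the kernel of the evaluation homomorphism from K[X_1, …, X_n] to the
ring of K-valued functions on K^n. -/
theorem result (K : Type u) [Field K] [Fintype K]
    (n : ℕ) (p : MvPolynomial (Fin n) K) :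
    (∀ a : Fin n → K, MvPolynomial.eval a p = 0) ↔
      p ∈ Ideal.span (Set.range fun i : Fin n =>
        (MvPolynomial.X i ^ Fintype.card K - MvPolynomial.X i : MvPolynomial (Fin n) K)) := by
  classical
  set q := Fintype.card K with hq
  have hq1 : 1 < q := Fintype.one_lt_card
  set I : Ideal (MvPolynomial (Fin n) K) := Ideal.span (Set.range fun i : Fin n =>
        (MvPolynomial.X i ^ q - MvPolynomial.X i : MvPolynomial (Fin n) K)) with hI
  have hvan : ∀ f ∈ I, ∀ a : Fin n → K, MvPolynomial.eval a f = 0 := by
    intro f hf a
    have h1 : I ≤ RingHom.ker (MvPolynomial.eval a) := by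
      rw [hI, Ideal.span_le]
      rintro _ ⟨i, rfl⟩
      simp only [SetLike.mem_coe, RingHom.mem_ker, map_sub, map_pow, MvPolynomial.eval_X]
      rw [FiniteField.pow_card, sub_self]
    exact h1 hf
  refine ⟨fun h => ?_, fun h a => hvan p h a⟩
  let W : Submodule K (MvPolynomial (Fin n) K) :=
    MvPolynomial.restrictDegree (Fin n) K (q - 1) ⊔ I.restrictScalars K
  have hmon : ∀ (N : ℕ) (d : Fin n →₀ ℕ), d.degree = N → MvPolynomial.monomial d (1 : K) ∈ W := by
    intro N
    induction N using Nat.strong_induction_on with
    | _ N ih =>
      intro d hd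
      by_cases hsmall : ∀ i, d i ≤ q - 1
      · refine Submodule.mem_sup_left ?_
        rw [MvPolynomial.mem_restrictDegree]
        intro s hs i
        rw [MvPolynomial.support_monomial, if_neg one_ne_zero, Finset.mem_singleton] at hs
        rw [hs]; exact hsmall i
      · push Not at hsmall
        obtain ⟨i, hi⟩ := hsmall
        obtain ⟨e, he⟩ : ∃ e : Fin n →₀ ℕ, d = e + Finsupp.single i q := by
          refine ⟨d - Finsupp.single i q, (tsub_add_cancel_of_le ?_).symm⟩
          rw [Finsupp.single_le_iff]; omega
        have h1 : (MvPolynomial.monomial d (1 : K)) =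
            MvPolynomial.monomial e 1 * (MvPolynomial.X i ^ q - MvPolynomial.X i) +
              MvPolynomial.monomial (e + Finsupp.single i 1) 1 := by
          rw [mul_sub, MvPolynomial.X_pow_eq_monomial, MvPolynomial.X, MvPolynomial.monomial_mul,
            MvPolynomial.monomial_mul, he]
          simp
        rw [h1]
        refine Submodule.add_mem _ (Submodule.mem_sup_right ?_) ?_
        · exact I.mul_mem_left _ (Ideal.subset_span ⟨i, rfl⟩)
        · refine ih (e + Finsupp.single i 1).degree ?_ _ rfl
          rw [← hd, he, map_add, map_add, Finsupp.degree_single, Finsupp.degree_single]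
          omega
  have htop : p ∈ W := by
    rw [p.as_sum]
    refine W.sum_mem fun d _ => ?_
    rw [← mul_one (MvPolynomial.coeff d p), ← smul_eq_mul, ← MvPolynomial.smul_monomial]
    exact W.smul_mem _ (hmon _ d rfl)
  obtain ⟨r, hr, i, hi, rfl⟩ := Submodule.mem_sup.1 htop
  have hr0 : r = 0 := by
    let e : Fin n ≃ ULift.{u} (Fin n) := Equiv.ulift.symm
    have hinj : Function.Injective (MvPolynomial.rename e : MvPolynomial (Fin n) K → _) :=
      MvPolynomial.rename_injective _ e.injective
    apply hinj
    rw [map_zero]
    refine MvPolynomial.eq_zero_of_eval_eq_zero _ _ _ (fun a => ?_) ?_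
    · have h1 := h (a ∘ e)
      rw [map_add, hvan i hi, add_zero] at h1
      rw [MvPolynomial.eval_rename]
      exact h1
    · rw [MvPolynomial.mem_restrictDegree] at hr ⊢
      intro s hs j
      rw [MvPolynomial.support_rename_of_injective e.injective, Finset.mem_image] at hs
      obtain ⟨s', hs', rfl⟩ := hs
      have h2 := hr s' hs' (e.symm j)
      rw [← e.apply_symm_apply j, Finsupp.mapDomain_apply e.injective]
      exact h2
  rw [hr0, zero_add]
  exact hi

end Groth.Agent.S13189
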