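import Groth.Statements.S13191

set_option autoImplicit false
universe u v w x
open GalCoh

namespace Groth.Agent.S13191

/-- Let a group G act by automorphisms on a group A, and let E and E' each be a G-equivariant right
A-torsor (a set with a simply transitive right action of A, written m ↦ m·a, and a left action of G
with g(m·a) = (gm)·(ga)). Let m ∈ E and m' ∈ E' be points with attached maps a, a' : G → A (g·m =
m·a(g) and g·m' = m'·a'(g) for all g). Then there is a bijection E ≃ E' commuting with the actions
of G and of A if and only if a and a' are cohomologous. (The published statement is for a Galois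
group acting on discrete modules; this row takes an arbitrary group acting on a group.) -/
theorem result {G : Type u} {A : Type v} {E : Type w} {E' : Type x}
    [Group G] [Group A] [MulDistribMulAction G A]
    [MulAction G E] [MulAction Aᵐᵒᵖ E]
    (hfree : ∀ m₁ m₂ : E, ∃! a : A, m₂ = MulOpposite.op a • m₁)
    (hcompat : ∀ (g : G) (a : A) (m : E), g • (MulOpposite.op a • m) = MulOpposite.op (g • a) • g • m)
    [MulAction G E'] [MulAction Aᵐᵒᵖ E']
    (hfree' : ∀ m₁ m₂ : E', ∃! a : A, m₂ = MulOpposite.op a • m₁)
    (hcompat' : ∀ (g : G) (a : A) (m : E'), g • (MulOpposite.op a • m) = MulOpposite.op (g • a) • g • m)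
    (m : E) (a : G → A) (ha : ∀ g : G, g • m = MulOpposite.op (a g) • m)
    (m' : E') (a' : G → A) (ha' : ∀ g : G, g • m' = MulOpposite.op (a' g) • m') :
    (∃ f : E ≃ E', (∀ (g : G) (e : E), f (g • e) = g • f e) ∧
        ∀ (b : A) (e : E), f (MulOpposite.op b • e) = MulOpposite.op b • f e) ↔
      GpH1.Cohomologous a a' := by
  constructor
  · rintro ⟨f, hf, hfa⟩
    obtain ⟨c, hc, -⟩ := hfree' m' (f m)
    refine ⟨c, fun g => ?_⟩
    have h1 : f (g • m) = MulOpposite.op (c * a g) • m' := by
      rw [ha, hfa, hc, MulOpposite.op_mul, mul_smul]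
    have h2 : f (g • m) = MulOpposite.op (a' g * g • c) • m' := by
      rw [hf, hc, hcompat', ha', MulOpposite.op_mul, mul_smul]
    obtain ⟨x, -, hu⟩ := hfree' m' (f (g • m))
    have h3 : c * a g = a' g * g • c := (hu _ h1).trans (hu _ h2).symm
    rw [mul_assoc, ← h3, inv_mul_cancel_left]
  · rintro ⟨c, hc⟩
    choose b hb hbu using hfree m
    choose b' hb' hbu' using hfree' m'
    have key : ∀ e : E, ∀ x : A, b (MulOpposite.op x • e) = b e * x := by
      intro e x
      refine (hbu _ _ ?_).symm
      change MulOpposite.op x • e = MulOpposite.op (b e * x) • m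
      rw [MulOpposite.op_mul, mul_smul, ← hb e]
    have key' : ∀ e : E', ∀ x : A, b' (MulOpposite.op x • e) = b' e * x := by
      intro e x
      refine (hbu' _ _ ?_).symm
      change MulOpposite.op x • e = MulOpposite.op (b' e * x) • m'
      rw [MulOpposite.op_mul, mul_smul, ← hb' e]
    have bm : b m = 1 := (hbu m 1 (by change m = MulOpposite.op 1 • m; rw [MulOpposite.op_one, one_smul])).symm
    have bm' : b' m' = 1 := (hbu' m' 1 (by change m' = MulOpposite.op 1 • m'; rw [MulOpposite.op_one, one_smul])).symm
    let f : E ≃ E' :=
      { toFun := fun e => MulOpposite.op (c * b e) • m'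
        invFun := fun e => MulOpposite.op (c⁻¹ * b' e) • m
        left_inv := by
          intro e
          change MulOpposite.op (c⁻¹ * b' (MulOpposite.op (c * b e) • m')) • m = e
          rw [key', bm', one_mul, inv_mul_cancel_left, ← hb e]
        right_inv := by
          intro e
          change MulOpposite.op (c * b (MulOpposite.op (c⁻¹ * b' e) • m)) • m' = e
          rw [key, bm, one_mul, mul_inv_cancel_left, ← hb' e] }
    refine ⟨f, fun g e => ?_, fun x e => ?_⟩
    · change MulOpposite.op (c * b (g • e)) • m' = g • MulOpposite.op (c * b e) • m'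
      have h1 : b (g • e) = a g * g • b e := by
        refine (hbu _ _ ?_).symm
        change g • e = MulOpposite.op (a g * g • b e) • m
        conv_lhs => rw [hb e]
        rw [hcompat, ha, MulOpposite.op_mul, mul_smul]
      rw [h1, hcompat', ha', ← mul_smul, ← MulOpposite.op_mul, hc g, smul_mul']
      congr 2
      group
    · change MulOpposite.op (c * b (MulOpposite.op x • e)) • m' = MulOpposite.op x • MulOpposite.op (c * b e) • m'
      rw [key, ← mul_assoc, MulOpposite.op_mul, mul_smul]

end Groth.Agent.S13191
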