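import Groth.Statements.S13198
import Mathlib.FieldTheory.PurelyInseparable.Basic
import Mathlib.RingTheory.TensorProduct.Free
import Mathlib.RingTheory.Flat.FaithfullyFlat.Basic
import Mathlib.RingTheory.Ideal.GoingUp

set_option autoImplicit false
universe u
open scoped TensorProduct
open Hensel

namespace Groth.Agent.S13198

open IsLocalRing

section

variable (R A B : Type u) [CommRing R] [IsLocalRing R]
    [CommRing A] [IsLocalRing A] [Algebra R A] [IsLocalHom (algebraMap R A)]
    [CommRing B] [IsLocalRing B] [Algebra R B] [IsLocalHom (algebraMap R B)]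

/-- The ideal of `A ⊗ B` generated by the two maximal ideals. -/
def J : Ideal (A ⊗[R] B) :=
  (maximalIdeal A).map (Algebra.TensorProduct.includeLeftRingHom : A →+* A ⊗[R] B) ⊔
    (maximalIdeal B).map (Algebra.TensorProduct.includeRight : B →ₐ[R] A ⊗[R] B).toRingHom

/-- The map to the tensor product of the residue fields. -/
noncomputable def toRes : A ⊗[R] B →ₐ[R] ResidueField A ⊗[ResidueField R] ResidueField B :=
  Algebra.TensorProduct.lift
    (((Algebra.TensorProduct.includeLeft : ResidueField A →ₐ[ResidueField R]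
      ResidueField A ⊗[ResidueField R] ResidueField B).restrictScalars R).comp
        (IsScalarTower.toAlgHom R A (ResidueField A)))
    (((Algebra.TensorProduct.includeRight : ResidueField B →ₐ[ResidueField R]
      ResidueField A ⊗[ResidueField R] ResidueField B).restrictScalars R).comp
        (IsScalarTower.toAlgHom R B (ResidueField B)))
    fun _ _ => .all _ _

theorem J_le_ker : J R A B ≤ RingHom.ker (toRes R A B).toRingHom := by
  refine sup_le ?_ ?_
  · rw [Ideal.map_le_iff_le_comap]
    intro a ha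
    rw [Ideal.mem_comap, RingHom.mem_ker]
    change toRes R A B (a ⊗ₜ 1) = 0
    rw [toRes, Algebra.TensorProduct.lift_tmul, map_one, mul_one]
    have : residue A a = 0 := (residue_eq_zero_iff _).mpr ha
    change (residue A a) ⊗ₜ[ResidueField R] 1 = 0
    rw [this, TensorProduct.zero_tmul]
  · rw [Ideal.map_le_iff_le_comap]
    intro a ha
    rw [Ideal.mem_comap, RingHom.mem_ker]
    change toRes R A B (1 ⊗ₜ a) = 0
    rw [toRes, Algebra.TensorProduct.lift_tmul, map_one, one_mul]
    have : residue B a = 0 := (residue_eq_zero_iff _).mpr ha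
    change 1 ⊗ₜ[ResidueField R] (residue B a) = 0
    rw [this, TensorProduct.tmul_zero]

theorem J_ne_top : J R A B ≠ ⊤ := by
  intro h
  have h1 := J_le_ker R A B
  rw [h] at h1
  have h2 : (1 : ResidueField A ⊗[ResidueField R] ResidueField B) = 0 := by
    rw [← map_one (toRes R A B)]
    exact h1 (Submodule.mem_top (x := 1))
  exact one_ne_zero h2

end

/-- Let R be a local ring which is strictly henselian (henselian, with separably closed residue field),
A a local ring which is an integral R-algebra with local structure map and whose residue field is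
purely inseparable over that of R, and B a local ring with a local homomorphism R → B. Then A ⊗_R B
is a local ring, the map B → A ⊗_R B is local, and the residue field extension of A ⊗_R B over B is
purely inseparable: every element of A ⊗_R B has a p^n-th power, p the characteristic exponent of
the residue field of B, congruent modulo the maximal ideal to an element 1 ⊗ b. -/
theorem result
    (R A B : Type u) [CommRing R] [HenselianLocalRing R] [IsSepClosed (IsLocalRing.ResidueField R)]
    [CommRing A] [IsLocalRing A] [Algebra R A] [IsLocalHom (algebraMap R A)] [Algebra.IsIntegral R A]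
    [IsPurelyInseparable (IsLocalRing.ResidueField R) (IsLocalRing.ResidueField A)]
    [CommRing B] [IsLocalRing B] [Algebra R B] [IsLocalHom (algebraMap R B)] :
    ∃ _ : IsLocalRing (A ⊗[R] B),
      IsLocalHom (Algebra.TensorProduct.includeRight : B →ₐ[R] A ⊗[R] B).toRingHom ∧
      ∀ x : A ⊗[R] B, ∃ (n : ℕ) (b : B),
        x ^ (ringExpChar (IsLocalRing.ResidueField B)) ^ n - (1 : A) ⊗ₜ[R] b ∈ IsLocalRing.maximalIdeal (A ⊗[R] B) := by
  set p := ringExpChar (ResidueField B) with hp
  have hpB : ExpChar (ResidueField B) p := ringExpChar.expChar _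
  have hpR : ExpChar (ResidueField R) p :=
    (ResidueField.map (algebraMap R B)).expChar (RingHom.injective _) p
  let iA : A →+* A ⊗[R] B := Algebra.TensorProduct.includeLeftRingHom
  let iB : B →+* A ⊗[R] B := (Algebra.TensorProduct.includeRight : B →ₐ[R] A ⊗[R] B).toRingHom
  have hJA : ∀ a ∈ maximalIdeal A, iA a ∈ J R A B := fun a ha =>
    Ideal.mem_sup_left (Ideal.mem_map_of_mem _ ha)
  have hJB : ∀ b ∈ maximalIdeal B, iB b ∈ J R A B := fun b hb =>
    Ideal.mem_sup_right (Ideal.mem_map_of_mem iB hb)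
  let Q := (A ⊗[R] B) ⧸ J R A B
  have hQ : Nontrivial Q := Ideal.Quotient.nontrivial_iff.mpr (J_ne_top R A B)
  -- the quotient has exponential characteristic `p`
  let φ : ResidueField B →+* Q := Ideal.Quotient.lift (maximalIdeal B)
    ((Ideal.Quotient.mk (J R A B)).comp iB) fun b hb =>
      Ideal.Quotient.eq_zero_iff_mem.mpr (hJB b hb)
  have hpQ : ExpChar Q p := expChar_of_injective_ringHom φ.injective p
  -- powers of elements
  have key : ∀ x : A ⊗[R] B, ∃ (n : ℕ) (b : B), x ^ p ^ n - iB b ∈ J R A B := by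
    intro x
    induction x using TensorProduct.induction_on with
    | zero =>
      refine ⟨0, 0, ?_⟩
      rw [map_zero, sub_zero, pow_zero, pow_one]
      exact Ideal.zero_mem _
    | tmul a b =>
      obtain ⟨n, r, hr⟩ := IsPurelyInseparable.pow_mem (ResidueField R) p (residue A a)
      obtain ⟨r, rfl⟩ := residue_surjective r
      refine ⟨n, algebraMap R B r * b ^ p ^ n, ?_⟩
      have h1 : a ^ p ^ n - algebraMap R A r ∈ maximalIdeal A := by
        rw [← residue_eq_zero_iff, map_sub, map_pow, ← hr, sub_eq_zero]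
        rfl
      have h2 : (a ⊗ₜ[R] b) ^ p ^ n - iB (algebraMap R B r * b ^ p ^ n) =
          iA (a ^ p ^ n - algebraMap R A r) * iB (b ^ p ^ n) := by
        change _ - (1 : A) ⊗ₜ[R] (algebraMap R B r * b ^ p ^ n) =
          ((a ^ p ^ n - algebraMap R A r) ⊗ₜ[R] (1 : B)) * ((1 : A) ⊗ₜ[R] (b ^ p ^ n))
        rw [Algebra.TensorProduct.tmul_pow, Algebra.TensorProduct.tmul_mul_tmul, one_mul, mul_one,
          TensorProduct.sub_tmul, ← Algebra.smul_def, TensorProduct.tmul_smul,
          TensorProduct.smul_tmul', ← Algebra.algebraMap_eq_smul_one]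
      rw [h2]
      exact Ideal.mul_mem_right _ _ (hJA _ h1)
    | add x y hx hy =>
      obtain ⟨n, b, hb⟩ := hx
      obtain ⟨m, c, hc⟩ := hy
      refine ⟨n + m, b ^ p ^ m + c ^ p ^ n, ?_⟩
      rw [← Ideal.Quotient.eq] at hb hc ⊢
      simp only [map_pow, map_add] at hb hc ⊢
      rw [add_pow_expChar_pow, pow_add, pow_mul, hb]
      congr 1
      rw [mul_comm (p ^ n), pow_mul, hc]
  -- `J` lies in every maximal ideal
  have hint : iB.IsIntegral := by
    have : Algebra.IsIntegral B (B ⊗[R] A) := inferInstance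
    have h2 : (algebraMap B (B ⊗[R] A)).IsIntegral := algebraMap_isIntegral_iff.mpr this
    have h3 : iB = (Algebra.TensorProduct.comm R B A : B ⊗[R] A ≃ₐ[R] A ⊗[R] B).toRingEquiv.toRingHom.comp
        (algebraMap B (B ⊗[R] A)) := by
      ext b
      change (1 : A) ⊗ₜ[R] b = Algebra.TensorProduct.comm R B A (b ⊗ₜ 1)
      rw [Algebra.TensorProduct.comm_tmul]
    rw [h3]
    exact RingHom.IsIntegral.trans _ _ h2 (RingHom.isIntegral_of_surjective _
      (Algebra.TensorProduct.comm R B A : B ⊗[R] A ≃ₐ[R] A ⊗[R] B).surjective)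
  have hiR : iA.comp (algebraMap R A) = iB.comp (algebraMap R B) := by
    ext r
    change algebraMap R A r ⊗ₜ[R] (1 : B) = (1 : A) ⊗ₜ[R] algebraMap R B r
    rw [Algebra.algebraMap_eq_smul_one, Algebra.algebraMap_eq_smul_one, TensorProduct.smul_tmul]
  have hmaxB : ∀ M : Ideal (A ⊗[R] B), M.IsMaximal → M.comap iB = maximalIdeal B := by
    intro M hM
    exact eq_maximalIdeal (Ideal.isMaximal_comap_of_isIntegral_of_isMaximal' iB hint M)
  have hmaxA : ∀ M : Ideal (A ⊗[R] B), M.IsMaximal → M.comap iA = maximalIdeal A := by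
    intro M hM
    have h1 : (M.comap iA).comap (algebraMap R A) = maximalIdeal R := by
      rw [Ideal.comap_comap, hiR, ← Ideal.comap_comap, hmaxB M hM]
      exact ((local_hom_TFAE (algebraMap R B)).out 0 4).mp ‹_›
    have h2 : (M.comap iA).IsPrime := inferInstance
    have h3 : (M.comap iA).IsMaximal :=
      Ideal.isMaximal_of_isIntegral_of_isMaximal_comap (R := R) _ (by
        rw [h1]; infer_instance)
    exact eq_maximalIdeal h3
  have hJM : ∀ M : Ideal (A ⊗[R] B), M.IsMaximal → J R A B ≤ M := by
    intro M hM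
    refine sup_le ?_ ?_
    · rw [Ideal.map_le_iff_le_comap]
      exact (hmaxA M hM).ge
    · rw [Ideal.map_le_iff_le_comap]
      exact (hmaxB M hM).ge
  have hp0 : ∀ n : ℕ, p ^ n ≠ 0 := fun n => pow_ne_zero n (expChar_pos (ResidueField B) p).ne'
  have hnt : Nontrivial (A ⊗[R] B) := (Ideal.Quotient.mk (J R A B)).domain_nontrivial
  have huniq : ∀ M₁ M₂ : Ideal (A ⊗[R] B), M₁.IsMaximal → M₂.IsMaximal → M₁ ≤ M₂ := by
    intro M₁ M₂ h₁ h₂ x hx
    obtain ⟨n, b, hb⟩ := key x
    have h3 : iB b ∈ M₁ := by
      have h4 : x ^ p ^ n ∈ M₁ := Ideal.pow_mem_of_mem _ hx _ (Nat.pos_of_ne_zero (hp0 n))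
      have h5 := M₁.sub_mem h4 (hJM M₁ h₁ hb)
      rwa [sub_sub_cancel] at h5
    have h4 : b ∈ maximalIdeal B := by rwa [← hmaxB M₁ h₁]
    have h5 : x ^ p ^ n ∈ M₂ := by
      have h6 := M₂.add_mem (hJM M₂ h₂ hb) (hJM M₂ h₂ (hJB b h4))
      rwa [sub_add_cancel] at h6
    exact h₂.isPrime.mem_of_pow_mem _ h5
  have hloc : IsLocalRing (A ⊗[R] B) := by
    obtain ⟨M, hM⟩ := Ideal.exists_maximal (A ⊗[R] B)
    exact IsLocalRing.of_unique_max_ideal
      ⟨M, hM, fun P hP => le_antisymm (huniq _ _ hP hM) (huniq _ _ hM hP)⟩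
  refine ⟨hloc, ?_, fun x => ?_⟩
  · exact ((local_hom_TFAE iB).out 0 4).mpr (hmaxB _ inferInstance)
  · obtain ⟨n, b, hb⟩ := key x
    exact ⟨n, b, hJM _ inferInstance hb⟩

end Groth.Agent.S13198
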