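import Groth.Statements.S13199
import Groth.Agent.Hensel.K142.StrictSmooth
import Groth.Agent.S0537
import Groth.Agent.Hensel.Lazard

set_option autoImplicit false
universe u
open Hensel

namespace Groth.Agent.S13199

open IsLocalRing

/-- Let R be a Noetherian integral domain which is a strictly henselian local ring (henselian with
separably closed residue field), R' a smooth R-algebra and p a prime ideal of R' lying over the
maximal ideal of R (that is, containing its image). Then the local ring R'_p is an integral domain
and is geometrically unibranch: the integral closure of R'_p in its fraction field is a local ring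
whose residue field is purely inseparable over that of R'_p. (The published statement concludes that
every strict henselization of R'_p is an integral domain; for a local ring this is equivalent to
being an integral domain which is geometrically unibranch, the conclusion stated here.) -/
theorem result
    (R R' : Type u) [CommRing R] [IsDomain R] [IsNoetherianRing R] [HenselianLocalRing R]
    [IsSepClosed (IsLocalRing.ResidueField R)]
    [CommRing R'] [Algebra R R'] [Algebra.Smooth R R']
    (p : Ideal R') [p.IsPrime] (hp : (IsLocalRing.maximalIdeal R).map (algebraMap R R') ≤ p) :
    IsDomain (Localization.AtPrime p) ∧ CAlg2.IsGeomUnibranch (Localization.AtPrime p) := by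
  have hpm : p.LiesOver (maximalIdeal R) := by
    constructor
    have h1 : maximalIdeal R ≤ p.under R := Ideal.map_le_iff_le_comap.mp hp
    exact ((maximalIdeal.isMaximal R).eq_of_le (Ideal.IsPrime.ne_top inferInstance) h1)
  have hbij : Function.Bijective (algebraMap R (Localization.AtPrime (maximalIdeal R))) :=
    (IsLocalization.atUnits R (maximalIdeal R).primeCompl
      (S := Localization.AtPrime (maximalIdeal R)) fun x hx => by
        by_contra hcon
        exact hx hcon).bijective
  obtain ⟨h1, h2⟩ := Groth.Agent.Etbase.QuotHens.isStrictlyHenselian_of_surjective
    (algebraMap R (Localization.AtPrime (maximalIdeal R))) hbij.2 ⟨inferInstance, inferInstance⟩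
  have hd : IsDomain (Localization.AtPrime (maximalIdeal R)) := inferInstance
  have hself := K142.StrictSmooth.isStrictHenselization_self
    (Localization.AtPrime (maximalIdeal R))
  obtain ⟨T, _, _, _, _, hT⟩ := Groth.Agent.S0537.result (Localization.AtPrime p)
  have hdT : IsDomain T := K142.StrictSmooth.isDomain_of_smooth p (maximalIdeal R)
    (Localization.AtPrime (maximalIdeal R)) T
  have hff := Groth.Agent.Hensel.Lazard.faithfullyFlat_of_isStrictHenselization (Localization.AtPrime p) T
  have hinj : Function.Injective (algebraMap (Localization.AtPrime p) T) :=
    FaithfulSMul.algebraMap_injective _ _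
  exact ⟨hinj.isDomain _, ((Groth.Agent.S2750.result (Localization.AtPrime p) T).mpr hdT).2⟩

end Groth.Agent.S13199
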