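import Groth.Statements.S13200
import Groth.Agent.S2811
import Groth.Agent.S0599
import Groth.Agent.S0505
import Groth.Agent.CalgB.GRing2
import Groth.Agent.CurvesC.RegNormal
import Groth.Agent.Ega4B.CplFinite
import Mathlib.RingTheory.AdicCompletion.LocalRing

set_option autoImplicit false
universe u
open Hensel

namespace Groth.Agent.S13200

open IsLocalRing

theorem isNormalRing_of_isRegularRing (R : Type u) [CommRing R] (h : IsRegularRing R) :
    EGA4.IsNormalRing R := by
  intro p hp
  have : IsRegularLocalRing (Localization.AtPrime p) := isRegularRing_iff.mp ‹_› p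
  exact ⟨CurvesC.RegNormal.isDomain _, CurvesC.RegNormal.isIntegrallyClosed _⟩

/-- A local G-ring has geometrically normal formal fibres. -/
theorem hasGeomNormalFormalFibres_of_isGRing (A : Type u) [CommRing A] [IsLocalRing A]
    (hA : CAlg.IsGRing A) : EGA4.HasGeomNormalFormalFibres A := by
  have := hA.1
  have h := (CalgB.GRing2.isGRing_iff_of_isLocalRing A).mp hA
  intro p _ k' _ _ hk'
  exact isNormalRing_of_isRegularRing _ ((h.2 p).2 k' hk')

/-- A henselian local G-ring which is a domain is analytically irreducible; relative form. -/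
theorem isDomain_quotient_cpl (R : Type u) [CommRing R] [HenselianLocalRing R]
    (hR : CAlg.IsGRing R) (q : Ideal R) [q.IsPrime] :
    IsDomain (EGA4.Cpl R ⧸ q.map (algebraMap R (EGA4.Cpl R))) := by
  have hN := hR.1
  have hq : q ≠ ⊤ := Ideal.IsPrime.ne_top ‹_›
  have hloc : IsLocalRing (R ⧸ q) := IsLocalRing.of_surjective' _ Ideal.Quotient.mk_surjective
  have hhens : HenselianLocalRing (R ⧸ q) := Groth.Agent.S0505.result R (R ⧸ q)
  have hG : CAlg.IsGRing (R ⧸ q) := Groth.Agent.S0599.result R hR (R ⧸ q)
  have hd : IsDomain (EGA4.Cpl (R ⧸ q)) :=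
    Groth.Agent.S2811.result (R ⧸ q) (hasGeomNormalFormalFibres_of_isGRing _ hG)
  exact (Ega4B.CplFinite.equivQuotientMap R q).symm.toMulEquiv.isDomain _

/-- Let R be an excellent local ring which is strictly henselian (henselian with separably closed
residue field), and let R^ denote its completion at the maximal ideal. An element Δ of R is a prime
element of R exactly when its image in R^ is a prime element of R^. -/
theorem result
    (R : Type u) [CommRing R] [HenselianLocalRing R] [IsSepClosed (IsLocalRing.ResidueField R)]
    (hR : EGA4.IsExcellent R) (Δ : R) :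
    Prime Δ ↔ Prime (algebraMap R (AdicCompletion (IsLocalRing.maximalIdeal R) R) Δ) := by
  have hN := hR.1
  have hff : Module.FaithfullyFlat R (EGA4.Cpl R) := Module.FaithfullyFlat.of_flat_of_isLocalHom
  have hinj : Function.Injective (algebraMap R (EGA4.Cpl R)) :=
    FaithfulSMul.algebraMap_injective _ _
  constructor
  · intro h
    have hp : (Ideal.span {Δ}).IsPrime := (Ideal.span_singleton_prime h.ne_zero).mpr h
    have hd := isDomain_quotient_cpl R hR.2.2.1 (Ideal.span {Δ})
    rw [Ideal.map_span, Set.image_singleton, Ideal.Quotient.isDomain_iff_prime] at hd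
    exact (Ideal.span_singleton_prime ((map_ne_zero_iff _ hinj).mpr h.ne_zero)).mp hd
  · intro h
    have h0 : Δ ≠ 0 := fun h0 => h.ne_zero (by rw [h0, map_zero])
    have h1 := (Ideal.span_singleton_prime h.ne_zero).mpr h
    rw [← Ideal.span_singleton_prime h0]
    have h2 : (Ideal.span {Δ}) = (Ideal.span {algebraMap R (EGA4.Cpl R) Δ}).comap
        (algebraMap R (EGA4.Cpl R)) := by
      rw [← Set.image_singleton, ← Ideal.map_span, Ideal.comap_map_eq_self_of_faithfullyFlat]
    rw [h2]
    exact Ideal.comap_isPrime _ _

end Groth.Agent.S13200
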