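import Groth.Statements.S13201
import Groth.Agent.CAlg.K83.AnnMain

set_option autoImplicit false
universe u
open CAlg

namespace Groth.Agent.S13201

open MvPowerSeries in
/-- Let R be a complete regular local ring and Δ an element of the maximal ideal of R. The quotient of
the power series ring R[[u,v]] in two variables by the ideal generated by uv − Δ is an integral
domain with unique factorization exactly when Δ is a prime element of R. -/
theorem result
    (R : Type u) [CommRing R] [IsRegularLocalRing R] [IsAdicComplete (IsLocalRing.maximalIdeal R) R]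
    (Δ : R) (hΔ : Δ ∈ IsLocalRing.maximalIdeal R) :
    (IsDomain (MvPowerSeries (Fin 2) R ⧸ Ideal.span {(X 0 * X 1 - C Δ : MvPowerSeries (Fin 2) R)}) ∧
      UniqueFactorizationMonoid (MvPowerSeries (Fin 2) R ⧸ Ideal.span {(X 0 * X 1 - C Δ : MvPowerSeries (Fin 2) R)}))
      ↔ Prime Δ := by
  constructor
  · rintro ⟨hd, hu⟩
    have hd' : IsDomain (K83.AnnRing.S Δ) := hd
    have hu' : UniqueFactorizationMonoid (K83.AnnRing.S Δ) := hu
    exact K83.AnnMain.prime_of_ufd hΔ
  · intro hp
    have hR := (Groth.Agent.S2821.result R).1
    have hd : IsDomain (K83.AnnRing.S Δ) := K83.AnnMain.isDomain hp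
    have hu : UniqueFactorizationMonoid (K83.AnnRing.S Δ) := K83.AnnMain.ufd hp
    exact ⟨hd, hu⟩

end Groth.Agent.S13201
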