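import Groth.Statements.S13202
import Groth.Agent.Hensel.K142.StrictQuot
import Groth.Agent.S0537
import Groth.Agent.CurvesC.RegNormal

set_option autoImplicit false
universe u
open Hensel

namespace Groth.Agent.S13202

/-- Let R be a Noetherian regular ring (every localization at a prime ideal is a regular local ring) and
Δ ∈ R. The element Δ is étale-universally prime — meaning that for every prime ideal p of R
containing Δ and every strict henselization T of R_p, the image of Δ in T is a prime element —
exactly when for every smooth R-algebra R', every prime ideal q of R' and every strict henselization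
T of R'_q, the image of Δ in T is either invertible or a prime element. (Smooth R-algebras and their
strict henselizations are taken in the universe of R.) -/
theorem result
    (R : Type u) [CommRing R] [IsNoetherianRing R]
    (hreg : ∀ (p : Ideal R) [p.IsPrime], IsRegularLocalRing (Localization.AtPrime p)) (Δ : R) :
    (∀ (p : Ideal R) [p.IsPrime], Δ ∈ p →
        ∀ (T : Type u) [CommRing T] [IsLocalRing T] [Algebra (Localization.AtPrime p) T]
          [IsLocalHom (algebraMap (Localization.AtPrime p) T)]
          [Hensel.IsStrictHenselization (Localization.AtPrime p) T],
          Prime (algebraMap (Localization.AtPrime p) T (algebraMap R (Localization.AtPrime p) Δ))) ↔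
    (∀ (R' : Type u) [CommRing R'] [Algebra R R'] [Algebra.Smooth R R'] (q : Ideal R') [q.IsPrime]
        (T : Type u) [CommRing T] [IsLocalRing T] [Algebra (Localization.AtPrime q) T]
          [IsLocalHom (algebraMap (Localization.AtPrime q) T)]
          [Hensel.IsStrictHenselization (Localization.AtPrime q) T],
        IsUnit (algebraMap (Localization.AtPrime q) T (algebraMap R' (Localization.AtPrime q) (algebraMap R R' Δ))) ∨
          Prime (algebraMap (Localization.AtPrime q) T (algebraMap R' (Localization.AtPrime q) (algebraMap R R' Δ)))) := by
  constructor
  · intro h R' _ _ _ q _ T _ _ _ _ _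
    by_cases hΔ : algebraMap R R' Δ ∈ q
    · right
      have hr := hreg (q.under R)
      have hd : IsDomain (Localization.AtPrime (q.under R)) := Groth.Agent.CurvesC.RegNormal.isDomain _
      obtain ⟨A, _, _, _, _, _⟩ := Groth.Agent.S0537.result (Localization.AtPrime (q.under R))
      exact K142.StrictQuot.prime_of_smooth q (q.under R) Δ hΔ A (h (q.under R) hΔ A) T
    · left
      exact (IsLocalization.map_units (Localization.AtPrime q)
        (⟨algebraMap R R' Δ, hΔ⟩ : q.primeCompl)).map _
  · intro h p _ hΔ T _ _ _ _ _
    rcases h R p T with h1 | h1
    · exfalso
      rw [Algebra.algebraMap_self_apply] at h1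
      have h2 := isUnit_of_map_unit _ _ h1
      exact (IsLocalization.AtPrime.isUnit_to_map_iff (Localization.AtPrime p) p Δ).mp h2 hΔ
    · rwa [Algebra.algebraMap_self_apply] at h1

end Groth.Agent.S13202
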