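import Groth.Statements.S13205
import Groth.Agent.SGA1.K151.KumDom
import Groth.Agent.SGA1.K151.KumStruct

set_option autoImplicit false
universe u
open IsLocalRing
open SGA1

namespace Groth.Agent.S13205

open Groth.Agent.Sga1 K151

theorem isUnit_of_residue (A : Type u) [CommRing A] [IsLocalRing A] (a : A)
    (h : IsUnit (residue A a)) : IsUnit a := by
  rw [← residue_ne_zero_iff_isUnit]
  exact h.ne_zero

/-- An integral subring of a local ring is local. -/
theorem isLocalRing_of_injective (B K : Type u) [CommRing B] [CommRing K] [Nontrivial B] [IsLocalRing K]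
    [Algebra B K] [Algebra.IsIntegral B K] (hinj : Function.Injective (algebraMap B K)) : IsLocalRing B := by
  obtain ⟨M, hM⟩ := Ideal.exists_maximal B
  have key : ∀ N : Ideal B, N.IsMaximal → N = (maximalIdeal K).comap (algebraMap B K) := by
    intro N hN
    obtain ⟨Q, hQ, hQN⟩ := Ideal.exists_ideal_over_maximal_of_isIntegral (S := K) N
      (by rw [(RingHom.injective_iff_ker_eq_bot _).mp hinj]; exact bot_le)
    rw [← hQN, IsLocalRing.eq_maximalIdeal hQ]
  exact IsLocalRing.of_unique_max_ideal ⟨M, hM, fun N hN => (key N hN).trans (key M hM).symm⟩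

theorem isRegularLocalRing_of_localization (B : Type u) [CommRing B] [IsLocalRing B]
    (h : IsRegularLocalRing (Localization.AtPrime (maximalIdeal B))) : IsRegularLocalRing B := by
  let e : B ≃ₐ[B] Localization.AtPrime (maximalIdeal B) :=
    IsLocalization.atUnits B (maximalIdeal B).primeCompl (fun x hx => by
      by_contra h0
      exact hx ((mem_maximalIdeal _).mpr h0))
  exact IsRegularLocalRing.of_ringEquiv e.toRingEquiv.symm

/-- Let A be a strictly henselian regular local ring, f_1, …, f_r elements of the maximal ideal of A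
whose images in m_A/m_A² are linearly independent (so that V(f_1 ⋯ f_r) is a strict normal crossings
divisor with complement U = D(f_1 ⋯ f_r)), and S' = Spec B → Spec A a finite locally free morphism,
tamely ramified along the f_i and étale over U, with S' connected and regular (B an integral domain
with regular local rings). Then S' is a Kummer covering: for some integers n_i ≥ 1 prime to the
residue characteristic, B is isomorphic as an A-algebra to A[T_1, …, T_r]/(T_i^{n_i} − f_i). -/
theorem result
    (A : Type u) [CommRing A] [IsRegularLocalRing A] [IsDomain A] [HenselianLocalRing A]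
    [IsSepClosed (ResidueField A)] (r : ℕ) (f : Fin r → A)
    (hm : ∀ i, f i ∈ maximalIdeal A)
    (hf : LinearIndependent (ResidueField A) (fun i => (maximalIdeal A).toCotangent ⟨f i, hm i⟩))
    [∀ i, (Ideal.span {f i}).IsPrime]
    (B : Type u) [CommRing B] [IsDomain B] [Algebra A B] [Module.Finite A B] [Module.Free A B]
    (hreg : ∀ (q : Ideal B) [q.IsPrime], IsRegularLocalRing (Localization.AtPrime q))
    [Algebra.Etale (Localization.Away (∏ i, f i)) (TensorProduct A (Localization.Away (∏ i, f i)) B)]
    (htame : SGA1.IsTameAlong f (algebraMap A B)) :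
    ∃ n : Fin r → ℕ, (∀ i, 1 ≤ n i) ∧ (∀ i, IsUnit ((n i : ℕ) : ResidueField A)) ∧
      Nonempty (B ≃ₐ[A] SGA1.kummerAlg A f n) := by
  obtain ⟨n, hn1, hn2, ψ, hψ⟩ := KumDom.exists_injective_algHom A f hm hf B htame
  have hreg' := KummerReg.isRegularLocalRing f n hm hf hn1
  have hdom := AbhLocal.isDomain_kummer A f hm hf n hn1
  have hfin := Kummer.finite f n hn1
  have hBloc : IsLocalRing B := by
    let : Algebra B (kummerAlg A f n) := ψ.toRingHom.toAlgebra
    have : IsScalarTower A B (kummerAlg A f n) := IsScalarTower.of_algebraMap_eq fun a => (ψ.commutes a).symm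
    have : Algebra.IsIntegral B (kummerAlg A f n) := Algebra.IsIntegral.tower_top A
    exact isLocalRing_of_injective B (kummerAlg A f n) hψ
  have hBreg : IsRegularLocalRing B := isRegularLocalRing_of_localization B (hreg _)
  obtain ⟨_, hBufd⟩ := Groth.Agent.S2821.result B
  let R := ψ.range
  let e : B ≃ₐ[A] R := AlgEquiv.ofInjective ψ hψ
  have hRufd : UniqueFactorizationMonoid R := MulEquiv.uniqueFactorizationMonoid e.toMulEquiv hBufd
  have hun : ∀ i, IsUnit ((n i : ℕ) : A) := fun i => isUnit_of_residue A _ (by
    rw [map_natCast]; exact hn2 i)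
  have hζ : ∀ i, ∃ z : A, IsPrimitiveRoot z (n i) := fun i =>
    Groth.Agent.Sga7.H510.KumAlg.exists_primitiveRoot A (hun i)
  have hne : ∀ i, NeZero (n i) := fun i => ⟨by have := hn1 i; omega⟩
  have hFin : Finite (KumStruct.Gal A n) := inferInstance
  let : Fintype (KumStruct.Gal A n) := Fintype.ofFinite _
  have hcard : IsUnit ((Fintype.card (KumStruct.Gal A n) : ℕ) : A) := by
    rw [← Nat.card_eq_fintype_card, Nat.card_pi]
    have h1 : ∀ i, Nat.card (rootsOfUnity (n i) A) = n i := fun i => by
      obtain ⟨z, hz⟩ := hζ i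
      exact hz.card_rootsOfUnity
    rw [Finset.prod_congr rfl fun i _ => h1 i, Nat.cast_prod]
    rw [IsUnit.prod_univ_iff]
    exact hun
  obtain ⟨m, hm1, hmn, ⟨e'⟩⟩ := KumStruct.main f hm hf n hn1 hζ hcard R
  refine ⟨m, hm1, fun i => ?_, ⟨e.trans e'⟩⟩
  obtain ⟨k, hk⟩ := hmn i
  have h1 := hn2 i
  rw [hk, Nat.cast_mul] at h1
  exact isUnit_of_mul_isUnit_left h1

end Groth.Agent.S13205
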