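import Groth.Statements.S13206
import Mathlib.AlgebraicGeometry.Morphisms.Separated

set_option autoImplicit false
universe u
open CategoryTheory AlgebraicGeometry
open AlgGrp

namespace Groth.Agent.S13206

/-- Finite intersections of coincidence schemes of a finite family of `S`-endomorphisms with the identity. -/
theorem aux {X S : Scheme.{u}} (p : X ⟶ S) [IsSeparated p]
    {G : Type u} (φ : G → (X ⟶ X)) (hφ : ∀ g, φ g ≫ p = p) (s : Finset G) :
    ∃ (Z : Scheme.{u}) (i : Z ⟶ X), IsClosedImmersion i ∧ (∀ g ∈ s, i ≫ φ g = i) ∧
      ∀ (T : Scheme.{u}) (x : T ⟶ X), (∀ g ∈ s, x ≫ φ g = x) → ∃! z : T ⟶ Z, z ≫ i = x := by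
  classical
  induction s using Finset.induction_on with
  | empty =>
    exact ⟨X, 𝟙 X, inferInstance, by simp, fun T x _ => ⟨x, by simp, fun y hy => by simpa using hy⟩⟩
  | insert g s hg ih =>
    obtain ⟨Z, i, hi, h1, h2⟩ := ih
    let X' : Over S := Over.mk p
    let Z' : Over S := Over.mk (i ≫ p)
    let a : Z' ⟶ X' := Over.homMk i rfl
    let b : Z' ⟶ X' := Over.homMk (i ≫ φ g) (by simp [X', Z', hφ])
    have : IsSeparated X'.hom := by dsimp [X']; infer_instance
    have hcl : IsClosedImmersion (Limits.equalizer.ι a b).left := inferInstance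
    refine ⟨(Limits.equalizer a b).left, (Limits.equalizer.ι a b).left ≫ i, ?_, ?_, ?_⟩
    · infer_instance
    · intro g' hg'
      rcases Finset.mem_insert.1 hg' with rfl | hg'
      · have := congrArg CommaMorphism.left (Limits.equalizer.condition a b)
        simp only [Over.comp_left, a, b, Over.homMk_left] at this
        simpa using this.symm
      · rw [Category.assoc, h1 g' hg']
    · intro T x hx
      obtain ⟨z, hz, hz'⟩ := h2 T x (fun g' hg' => hx g' (Finset.mem_insert_of_mem hg'))
      let T' : Over S := Over.mk (x ≫ p)
      let t : T' ⟶ Z' := Over.homMk z (by simp [Z', T', reassoc_of% hz])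
      have ht : t ≫ a = t ≫ b := by
        ext1
        simp only [Over.comp_left, a, b, t, Over.homMk_left]
        rw [hz, ← Category.assoc, hz, hx g (Finset.mem_insert_self _ _)]
      refine ⟨(Limits.equalizer.lift t ht).left, ?_, ?_⟩
      · have := congrArg CommaMorphism.left (Limits.equalizer.lift_ι t ht)
        simp only [Over.comp_left, t, Over.homMk_left] at this
        dsimp only
        rw [← Category.assoc, this, hz]
      · intro w hw
        rw [← cancel_mono ((Limits.equalizer.ι a b).left ≫ i), hw]
        have := congrArg CommaMorphism.left (Limits.equalizer.lift_ι t ht)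
        simp only [Over.comp_left, t, Over.homMk_left] at this
        rw [← Category.assoc, this, hz]

/-- Let X → S be a separated morphism of schemes and let a finite group G act on X through
S-automorphisms. Then the functor of G-fixed points is represented by a closed subscheme of X: there
are a scheme Z and a closed immersion i : Z → X with i ∘ g = i for all g ∈ G such that every
morphism x : T → X with g ∘ x = x for all g ∈ G factors uniquely through i. (The published statement
is for an algebraic space X over S, also treats the locally separated case and notes compatibility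
with base change; this row is the separated case for schemes.) -/
theorem result
    {X S : Scheme.{u}} (p : X ⟶ S) [IsSeparated p]
    (G : Type u) [Group G] [Finite G] (ρ : G →* Aut X) (hρ : ∀ g : G, (ρ g).hom ≫ p = p) :
    ∃ (Z : Scheme.{u}) (i : Z ⟶ X), IsClosedImmersion i ∧ (∀ g : G, i ≫ (ρ g).hom = i) ∧
      ∀ (T : Scheme.{u}) (x : T ⟶ X), (∀ g : G, x ≫ (ρ g).hom = x) → ∃! z : T ⟶ Z, z ≫ i = x := by
  classical
  have := Fintype.ofFinite G
  obtain ⟨Z, i, hi, h1, h2⟩ := aux p (fun g => (ρ g).hom) hρ Finset.univ
  exact ⟨Z, i, hi, fun g => h1 g (Finset.mem_univ g), fun T x hx => h2 T x (fun g _ => hx g)⟩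

end Groth.Agent.S13206
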