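import Groth.Statements.S13209
import Groth.Agent.AlgSp.K612.Chart

set_option autoImplicit false
universe u
open CategoryTheory CategoryTheory.Limits AlgebraicGeometry
open Neron

namespace Groth.Agent.S13209

section General

variable {C : Type*} [Category C] [HasBinaryProducts C]

theorem isPullback_prod_map {X Y Z : C} (f : X ⟶ Y) :
    IsPullback (prod.map f (𝟙 Z)) (prod.fst : X ⨯ Z ⟶ X) (prod.fst : Y ⨯ Z ⟶ Y) f := by
  refine IsPullback.of_isLimit' ⟨prod.map_fst _ _⟩ (PullbackCone.IsLimit.mk _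
    (fun s => prod.lift s.snd (s.fst ≫ prod.snd)) ?_ ?_ ?_)
  · intro s
    apply Limits.prod.hom_ext
    · rw [Category.assoc, prod.map_fst, prod.lift_fst_assoc, s.condition]
    · rw [Category.assoc, prod.map_snd, Category.comp_id, prod.lift_snd]
  · intro s
    exact prod.lift_fst _ _
  · intro s m h1 h2
    apply Limits.prod.hom_ext
    · rw [prod.lift_fst]
      exact h2
    · rw [prod.lift_snd, ← h1, Category.assoc, prod.map_snd, Category.comp_id]

end General

variable {S : Scheme.{u}} (U : S.Opens)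

/-- `Y ×_S U` as a scheme over `S` -/
noncomputable abbrev yU (Y : Over S) : Over S := (Over.map U.ι).obj ((Over.pullback U.ι).obj Y)

noncomputable abbrev aU (Y : Over S) : yU U Y ⟶ Y := (Over.mapPullbackAdj U.ι).counit.app Y

noncomputable def bU (Y : Over S) : yU U Y ⟶ Over.mk U.ι := Over.homMk (pullback.snd Y.hom U.ι) rfl

theorem aU_left (Y : Over S) : (aU U Y).left = pullback.fst Y.hom U.ι := by
  simp [aU]

noncomputable def isLimitU (Y : Over S) : IsLimit (BinaryFan.mk (aU U Y) (bU U Y)) := by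
  refine BinaryFan.IsLimit.mk _ (fun {T} f g => Over.homMk (pullback.lift f.left g.left
    ((Over.w f).trans (Over.w g).symm)) ?_) ?_ ?_ ?_
  · change pullback.lift f.left g.left _ ≫ pullback.snd Y.hom U.ι ≫ U.ι = _
    rw [pullback.lift_snd_assoc]
    exact Over.w g
  · intro T f g
    ext1
    change pullback.lift f.left g.left _ ≫ (aU U Y).left = _
    rw [aU_left, pullback.lift_fst]
  · intro T f g
    ext1
    exact pullback.lift_snd _ _ _
  · intro T f g m h1 h2
    ext1
    apply pullback.hom_ext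
    · refine Eq.trans ?_ (pullback.lift_fst _ _ _).symm
      rw [← h1]
      change m.left ≫ _ = m.left ≫ (aU U Y).left
      rw [aU_left]
    · refine Eq.trans ?_ (pullback.lift_snd _ _ _).symm
      rw [← h2]
      rfl

open AlgSp

theorem isIso_lift (Y : Over S) :
    IsIso (prod.lift ((yon S).map (aU U Y)) ((yon S).map (bU U Y))) := by
  have h1 : IsIso (prod.lift (aU U Y) (bU U Y)) := by
    have : prod.lift (aU U Y) (bU U Y) =
        ((isLimitU U Y).conePointUniqueUpToIso (prodIsProd Y (Over.mk U.ι))).hom := by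
      apply Limits.prod.hom_ext
      · rw [prod.lift_fst]
        exact ((isLimitU U Y).conePointUniqueUpToIso_hom_comp (prodIsProd Y (Over.mk U.ι))
          ⟨WalkingPair.left⟩).symm
      · rw [prod.lift_snd]
        exact ((isLimitU U Y).conePointUniqueUpToIso_hom_comp (prodIsProd Y (Over.mk U.ι))
          ⟨WalkingPair.right⟩).symm
    rw [this]
    infer_instance
  have h2 : prod.lift ((yon S).map (aU U Y)) ((yon S).map (bU U Y)) =
      (yon S).map (prod.lift (aU U Y) (bU U Y)) ≫ prodComparison (yon S) Y (Over.mk U.ι) := by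
    apply Limits.prod.hom_ext
    · rw [prod.lift_fst, Category.assoc, prodComparison_fst, ← Functor.map_comp, prod.lift_fst]
    · rw [prod.lift_snd, Category.assoc, prodComparison_snd, ← Functor.map_comp, prod.lift_snd]
  rw [h2]
  infer_instance

variable {U} {N : Over S}

theorem inj_yon {Y : Over S} (hN : Function.Injective (fun g : Y ⟶ N => aU U Y ≫ g))
    (φ φ' : (yon S).obj Y ⟶ (yon S).obj N)
    (h : (prod.fst : (yon S).obj Y ⨯ (yon S).obj (Over.mk U.ι) ⟶ _) ≫ φ = prod.fst ≫ φ') : φ = φ' := by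
  obtain ⟨g, rfl⟩ := (yon S).map_surjective φ
  obtain ⟨g', rfl⟩ := (yon S).map_surjective φ'
  have h1 := congrArg (prod.lift ((yon S).map (aU U Y)) ((yon S).map (bU U Y)) ≫ ·) h
  simp only [prod.lift_fst_assoc, ← Functor.map_comp] at h1
  have h2 := (yon S).map_injective h1
  rw [hN h2]

theorem surj_yon {Y : Over S} (hN : Function.Surjective (fun g : Y ⟶ N => aU U Y ≫ g))
    (ψ : (yon S).obj Y ⨯ (yon S).obj (Over.mk U.ι) ⟶ (yon S).obj N) :
    ∃ g : Y ⟶ N, prod.fst ≫ (yon S).map g = ψ := by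
  obtain ⟨k, hk⟩ := (yon S).map_surjective
    (prod.lift ((yon S).map (aU U Y)) ((yon S).map (bU U Y)) ≫ ψ)
  obtain ⟨g, hg⟩ := hN k
  refine ⟨g, ?_⟩
  have := isIso_lift U Y
  rw [← cancel_epi (prod.lift ((yon S).map (aU U Y)) ((yon S).map (bU U Y))), ← hk,
    prod.lift_fst_assoc, ← Functor.map_comp]
  exact congrArg _ hg

theorem result
    {S : Scheme.{u}} (U : S.Opens) (hU : CInt.IsSchematicallyDense U) (N : Over S) [Smooth N.hom]
    (hN : ∀ Y : Over S, Smooth Y.hom →
      Function.Bijective (fun g : Y ⟶ N => (Over.mapPullbackAdj U.ι).counit.app Y ≫ g))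
    (F : AlgSp.Sp S) (hF : AlgSp.IsAlgSpace F)
    (sF : F ⟶ (AlgSp.yon S).obj (Over.mk (𝟙 S))) (hsm : AlgSp.LocP @Smooth sF) :
    Function.Bijective (fun φ : F ⟶ (AlgSp.yon S).obj N =>
      (Limits.prod.fst : F ⨯ (AlgSp.yon S).obj (Over.mk U.ι) ⟶ F) ≫ φ) := by
  obtain ⟨V, p, hp, hs⟩ := hF.atlas
  have hVsm : Smooth V.hom := by
    obtain ⟨h, hh⟩ := (yon S).map_surjective (p ≫ sF)
    have h1 : Smooth h.left := hsm p (𝟙 _) h hp (repWith_id _ _) (by rw [hh, Category.comp_id])
    have h2 : h.left = V.hom := by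
      have := Over.w h
      exact (Category.comp_id h.left).symm.trans this
    rwa [h2] at h1
  have hepi : Epi p := K612.Chart.epi_of_etale p hp hs
  have hsq := isPullback_prod_map (Z := (yon S).obj (Over.mk U.ι)) p
  have hepi' : Epi (prod.map p (𝟙 ((yon S).obj (Over.mk U.ι)))) :=
    K612.Chart.epi_of_etale _
      ((repWith_isStableUnderBaseChange (S := S) @Etale).of_isPullback hsq.flip hp)
      ((repWith_isStableUnderBaseChange (S := S) @Surjective).of_isPullback hsq.flip hs)
  constructor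
  · intro φ φ' h
    have h1 : (prod.fst : (yon S).obj V ⨯ (yon S).obj (Over.mk U.ι) ⟶ _) ≫ p ≫ φ =
        prod.fst ≫ p ≫ φ' := by
      rw [← Category.assoc, ← Category.assoc, ← prod.map_fst p (𝟙 ((yon S).obj (Over.mk U.ι))),
        Category.assoc, Category.assoc]
      exact congrArg _ h
    rw [← cancel_epi p]
    exact inj_yon (hN V hVsm).1 _ _ h1
  · intro ψ
    obtain ⟨g, hg⟩ := surj_yon (hN V hVsm).2 (prod.map p (𝟙 _) ≫ ψ)
    obtain ⟨R, s, t, sq⟩ := hp.1 p
    obtain ⟨t, rfl⟩ := (yon S).map_surjective t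
    have hsR : Etale s.left := hp.2 p _ _ sq
    have hR : Smooth R.hom := by
      rw [← Over.w s]
      infer_instance
    have hk : (yon S).map t ≫ (yon S).map g = (yon S).map s ≫ (yon S).map g := by
      apply inj_yon (hN R hR).1
      rw [← prod.map_fst_assoc ((yon S).map t) (𝟙 ((yon S).obj (Over.mk U.ι))),
        ← prod.map_fst_assoc ((yon S).map s) (𝟙 ((yon S).obj (Over.mk U.ι))), hg,
        ← Category.assoc, ← Category.assoc, prod.map_map, prod.map_map, sq.w]
    obtain ⟨l, hl⟩ := K612.Chart.exists_desc p sq ((yon S).map g) hk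
    refine ⟨l, ?_⟩
    change prod.fst ≫ l = ψ
    rw [← cancel_epi (prod.map p (𝟙 ((yon S).obj (Over.mk U.ι)))), ← hg, prod.map_fst_assoc, hl]

end Groth.Agent.S13209
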