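import Groth.Statements.S13210
import Groth.Agent.AlgSp.K598.RepKit

set_option autoImplicit false
universe u
open CategoryTheory CategoryTheory.Limits AlgebraicGeometry
open AlgGrp

namespace Groth.Agent.S13210

open K598.RepKit in
theorem aux {S : Scheme.{u}} (F : AlgSp.Sp S) (hsep : AlgSp.IsSeparatedSp F) {G : Type u} (φ : G → (F ⟶ F))
    (s : Finset G) : ∃ (Z : AlgSp.Sp S) (i : Z ⟶ F), AlgSp.RepWith @IsClosedImmersion i ∧ (∀ g ∈ s, i ≫ φ g = i) ∧
      ∀ (W : AlgSp.Sp S) (x : W ⟶ F), (∀ g ∈ s, x ≫ φ g = x) → ∃ z : W ⟶ Z, z ≫ i = x := by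
  classical
  induction s using Finset.induction_on with
  | empty =>
    exact ⟨F, 𝟙 F, repWith_of_isIso _, by simp, fun W x _ => ⟨x, by simp⟩⟩
  | insert g s hg ih =>
    obtain ⟨Z, i, hi, h1, h2⟩ := ih
    have sq := IsPullback.of_hasPullback (Limits.diag F) (Limits.prod.lift i (i ≫ φ g))
    have h3 : AlgSp.RepWith @IsClosedImmersion (pullback.snd (Limits.diag F) (Limits.prod.lift i (i ≫ φ g))) :=
      repWith_of_isPullback sq hsep
    have e1 := congrArg (· ≫ Limits.prod.fst) sq.w
    have e2 := congrArg (· ≫ Limits.prod.snd) sq.w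
    simp only [Category.assoc, Limits.prod.lift_fst, Limits.prod.lift_snd, Category.comp_id] at e1 e2
    refine ⟨_, pullback.snd (Limits.diag F) (Limits.prod.lift i (i ≫ φ g)) ≫ i,
      MorphismProperty.comp_mem _ _ _ h3 hi, ?_, ?_⟩
    · intro g' hg'
      rcases Finset.mem_insert.1 hg' with rfl | hg'
      · rw [Category.assoc, ← e2, e1]
      · rw [Category.assoc, h1 g' hg']
    · intro W x hx
      obtain ⟨z, hz⟩ := h2 W x (fun g' hg' => hx g' (Finset.mem_insert_of_mem hg'))
      refine ⟨sq.lift x z ?_, ?_⟩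
      · have h4 : z ≫ i ≫ φ g = x := by
          rw [← Category.assoc, hz, hx g (Finset.mem_insert_self _ _)]
        rw [Limits.prod.comp_lift, Limits.prod.comp_lift, h4, hz, Category.comp_id]
      · rw [← Category.assoc, sq.lift_snd, hz]

/-- Let S be a scheme, F an algebraic space over S which is separated over S, and G a finite group
acting on F by S-automorphisms. If i : Z → F exhibits the fppf sheaf Z as the sub-sheaf of G-fixed
points of F (i is G-invariant and every G-invariant morphism W → F factors uniquely through i), then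
Z is an algebraic space and i is a closed immersion (representable by closed immersions). (The
published statement also treats a locally separated F, whose fixed points form a subspace, and
compatibility with base change; this row states only the separated case.) -/
theorem result
    {S : Scheme.{u}} (F : AlgSp.Sp S) (hF : AlgSp.IsAlgSpace F) (hsep : AlgSp.IsSeparatedSp F)
    (G : Type u) [Group G] [Finite G] (ρ : G →* Aut F)
    (Z : AlgSp.Sp S) (i : Z ⟶ F) (hi : ∀ g : G, i ≫ (ρ g).hom = i)
    (huniv : ∀ (W : AlgSp.Sp S) (x : W ⟶ F), (∀ g : G, x ≫ (ρ g).hom = x) → ∃! z : W ⟶ Z, z ≫ i = x) :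
    AlgSp.IsAlgSpace Z ∧ AlgSp.RepWith @IsClosedImmersion i := by
  classical
  have := Fintype.ofFinite G
  obtain ⟨Z', i', h1, h2, h3⟩ := aux F hsep (fun g => (ρ g).hom) Finset.univ
  obtain ⟨a, ha, ha'⟩ := huniv Z' i' (fun g => h2 g (Finset.mem_univ g))
  obtain ⟨b, hb⟩ := h3 Z i (fun g _ => hi g)
  have hm := K598.RepKit.mono_of_repWith_isClosedImmersion h1
  have hba : b ≫ a = 𝟙 Z := by
    obtain ⟨c, hc, hc'⟩ := huniv Z i hi
    rw [hc' (𝟙 Z) (by simp)]
    exact hc' _ (by change (b ≫ a) ≫ i = i; rw [Category.assoc, ha, hb])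
  have hab : a ≫ b = 𝟙 Z' := by
    rw [← cancel_mono i', Category.assoc, hb, ha, Category.id_comp]
  have hI : IsIso b := ⟨a, hba, hab⟩
  have h4 : AlgSp.RepWith @IsClosedImmersion i := by
    rw [← hb]
    exact MorphismProperty.comp_mem _ _ _ (K598.RepKit.repWith_of_isIso b) h1
  exact ⟨K598.RepKit.isAlgSpace_of_repWith_isClosedImmersion h4 hF, h4⟩

end Groth.Agent.S13210
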