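import Groth.Statements.S13347
import Groth.Agent.FTors.K919.AffBasic

set_option autoImplicit false
open CategoryTheory CategoryTheory.Limits
universe u
open Opposite
open FCompl

namespace Groth.Agent.S13347

theorem surj_aux (A : ℕ → Type u) (t : ∀ n, A (n + 1) → A n) (ht : ∀ n, Function.Surjective (t n)) (i : ℕ)
    (y : A i) : ∃ z : ∀ n, A n, (∀ n, t n (z (n + 1)) = z n) ∧ z i = y := by
  induction i with
  | zero =>
    choose s hs using ht
    let z : ∀ n, A n := fun n => Nat.rec (motive := A) y (fun n a => s n a) n
    exact ⟨z, fun n => hs n (z n), rfl⟩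
  | succ i ih =>
    -- extend from `i + 1` upward, and downward from `t i y`
    obtain ⟨w, hw, hwi⟩ := ih (t i y)
    choose s hs using ht
    -- upward part
    let up : ∀ n, A (i + 1 + n) := fun n => Nat.rec (motive := fun n => A (i + 1 + n)) y
      (fun n a => s (i + 1 + n) a) n
    have hup : ∀ n, t (i + 1 + n) (up (n + 1)) = up n := fun n => hs _ _
    let z : ∀ n, A n := fun n => if hn : i + 1 ≤ n then
      (Nat.add_sub_of_le hn) ▸ up (n - (i + 1)) else w n
    have hz1 : ∀ n, z (i + 1 + n) = up n := by
      intro n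
      have : i + 1 ≤ i + 1 + n := Nat.le_add_right _ _
      simp only [z, dif_pos this]
      have key : ∀ (m : ℕ) (hm : i + 1 + m = i + 1 + n), (hm ▸ up m : A (i + 1 + n)) = up n := by
        intro m hm
        have : m = n := by omega
        subst this
        rfl
      exact key _ _
    have hz2 : ∀ n, n ≤ i → z n = w n := by
      intro n hn
      have : ¬ (i + 1 ≤ n) := by omega
      simp only [z, dif_neg this]
    refine ⟨z, fun n => ?_, ?_⟩
    · rcases Nat.lt_or_ge n i with hn | hn
      · rw [hz2 n hn.le, hz2 (n + 1) hn, hw]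
      · rcases Nat.eq_or_lt_of_le hn with rfl | hn'
        · rw [hz2 i le_rfl, hwi]
          exact congrArg (t i) (hz1 0)
        · obtain ⟨m, rfl⟩ := Nat.exists_eq_add_of_le (show i + 1 ≤ n from hn')
          rw [hz1 m]
          rw [← hup m]
          exact congrArg (t (i + 1 + m)) (hz1 (m + 1))
    · exact hz1 0


open AlgebraicGeometry in
/-- Let (X_i) be an inductive system of preschemes on one underlying space with surjective transition
homomorphisms whose kernels O_{X_i} → O_{X_0} are locally nilpotent — here a system of thickenings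
(closed immersions surjective on points) with the kernel ideal of X_0 → X_i nilpotent on every
affine open of X_i — and O_𝔛 = lim O_{X_i} the structure sheaf of the formal prescheme it defines.
Then the canonical homomorphisms O_𝔛 → O_{X_i} are surjective: over every affine open U of X_0 the
map on sections Γ(U, O_𝔛) → Γ(U_i, O_{X_i}) is onto. -/
theorem result (𝔛 : FSch.Sys.{u}) (h : 𝔛.IsFormal)
    (hb : ∀ (i : ℕ) (V : (𝔛.X i).affineOpens), IsNilpotent ((𝔛.toX i).ker.ideal V))
    (i : ℕ) (U : (𝔛.X 0).Opens) (hU : IsAffineOpen U) :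
    Function.Surjective ((𝔛.OshProj h i).hom.app (op U)) := by
  have hU' : IsAffineOpen (𝔛.lvU h 0 U) := by rw [K919.AffBasic.lvU_zero]; exact hU
  intro y
  obtain ⟨z, hz, hzi⟩ := surj_aux (fun n => K919.AffBasic.LU 𝔛 h n U) (fun n => K919.AffBasic.tr 𝔛 h n U)
    (K919.AffBasic.tr_surjective 𝔛 h hU') i y
  obtain ⟨x, hx⟩ := K919.AffBasic.osh_lift 𝔛 h z hz
  exact ⟨x, (hx i).trans hzi⟩

end Groth.Agent.S13347
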