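import Groth.Statements.S13352
import Groth.Agent.S11525
import Groth.Agent.S11529
import Groth.Agent.AdicRing.K26.TopFT
import Groth.Agent.AdicRing.K26.GenFib

set_option autoImplicit false
universe u
open scoped TensorProduct
open AdicRing

namespace Groth.Agent.S13352

theorem topFinitePresentation_of_noPowTorsion
    (R : Type u) [CommRing R] (I : Ideal R) (hR : AdicRing.IsBase R I)
    (A : Type u) [CommRing A] [Algebra R A] (hA : AdicRing.TopFiniteType R I A)
    (hT : AdicRing.NoPowTorsion I A) :
    AdicRing.TopFinitePresentation R I A :=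
  Groth.Agent.S11525.result R I hR A hA hT

theorem isAdicComplete_of_finite
    (R : Type u) [CommRing R] (I : Ideal R) (hR : AdicRing.IsBase R I)
    (A : Type u) [CommRing A] [Algebra R A] (hA : AdicRing.TopFiniteType R I A)
    (M : Type u) [AddCommGroup M] [Module A M] [Module R M] [IsScalarTower R A M]
    [Module.Finite A M] :
    IsAdicComplete I M :=
  Groth.Agent.S11529.result R I hR A hA M

/-- Let R be a complete valuation ring of height one with t a nonzero element generating an ideal of
definition and K its field of fractions, A an admissible R-algebra, and f_1, ..., f_n elements of A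
⊗_R K that are integral over A. Then A' = A[f_1, ..., f_n], a subalgebra of A ⊗_R K, is an
admissible R-algebra which is finite over A. (The published hypothesis is that each f_i has supremum
seminorm at most 1 on the affinoid algebra A ⊗_R K; integrality of the f_i over A is what is derived
from it and used, and is the hypothesis taken here.) -/
theorem result
    (R : Type u) [CommRing R] [IsDomain R] [ValuationRing R] [Ring.KrullDimLE 1 R]
    (t : R) (ht : t ≠ 0) [IsAdicComplete (Ideal.span {t}) R]
    (A : Type u) [CommRing A] [Algebra R A] (hA : AdicRing.Admissible R (Ideal.span {t}) A)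
    (n : ℕ) (f : Fin n → A ⊗[R] FractionRing R) (hf : ∀ i, IsIntegral A (f i)) :
    AdicRing.Admissible R (Ideal.span {t}) ↥(Algebra.adjoin A (Set.range f)) ∧
      Module.Finite A ↥(Algebra.adjoin A (Set.range f)) := by
  classical
  have hI : (Ideal.span {t}).FG := ⟨{t}, by simp⟩
  have hR : IsBase R (Ideal.span {t}) :=
    ⟨inferInstance, Or.inr ⟨inferInstance, inferInstance, inferInstance, t, ht, rfl⟩⟩
  have hfin : Module.Finite A ↥(Algebra.adjoin A (Set.range f)) :=
    Algebra.finite_adjoin_of_finite_of_isIntegral (Set.finite_range f) (by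
      rintro _ ⟨i, rfl⟩
      exact hf i)
  have hAft : TopFiniteType R (Ideal.span {t}) A := by
    obtain ⟨⟨m, φ, hφ, -⟩, -⟩ := hA
    exact ⟨m, φ, hφ⟩
  have hcompl : IsAdicComplete (Ideal.span {t}) ↥(Algebra.adjoin A (Set.range f)) :=
    isAdicComplete_of_finite R _ hR A hAft _
  have hft : Algebra.FiniteType A ↥(Algebra.adjoin A (Set.range f)) := inferInstance
  have hT : NoPowTorsion (Ideal.span {t}) ↥(Algebra.adjoin A (Set.range f)) := by
    intro x k hx
    apply Subtype.ext
    have h1 : (t ^ k) • x = 0 := hx _ (Ideal.pow_mem_pow (Ideal.mem_span_singleton_self t) k)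
    have h2 : (t ^ k) • (x : A ⊗[R] FractionRing R) = (t ^ k) • (0 : A ⊗[R] FractionRing R) := by
      rw [smul_zero]
      exact congrArg Subtype.val h1
    exact K26.GenFib.eq_of_smul_eq (t ^ k) (pow_ne_zero k ht) _ _ h2
  refine ⟨⟨?_, hT⟩, hfin⟩
  exact topFinitePresentation_of_noPowTorsion R _ hR _
    (K26.TopFT.topFiniteType_of_finiteType R _ hI A hAft _) hT

end Groth.Agent.S13352
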