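import Groth.Statements.S13353
import Groth.Agent.AdicRing.K26.GenFib

set_option autoImplicit false
universe u
open scoped TensorProduct
open AdicRing

namespace Groth.Agent.S13353

open K26.GenFib

/-- Let R be a complete valuation ring of height one with t a nonzero element generating an ideal of
definition and K its field of fractions, A an admissible R-algebra, f_1, ..., f_n elements of A ⊗_R
K integral over A, c a nonzero element of R and g_1, ..., g_n elements of A with g_i = c f_i in A
⊗_R K; put 𝔞 = (c, g_1, ..., g_n) and A' = A[f_1, ..., f_n] ⊂ A ⊗_R K. If D is an admissible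
R-algebra and φ : A → D an R-algebra homomorphism such that the ideal 𝔞D is generated by the image
of c, or by the image of some g_i, then 𝔞D is generated by c and φ extends to exactly one R-algebra
homomorphism A' → D. (This is the universal property through which Spf A' → Spf A is identified with
the formal blowing-up of 𝔞 on Spf A; the published hypothesis on the f_i is a supremum-seminorm
bound, from which their integrality over A is derived.) -/
theorem result
    (R : Type u) [CommRing R] [IsDomain R] [ValuationRing R] [Ring.KrullDimLE 1 R]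
    (t : R) (ht : t ≠ 0) [IsAdicComplete (Ideal.span {t}) R]
    (A : Type u) [CommRing A] [Algebra R A] (hA : AdicRing.Admissible R (Ideal.span {t}) A)
    (n : ℕ) (f : Fin n → A ⊗[R] FractionRing R) (hf : ∀ i, IsIntegral A (f i))
    (c : R) (hc : c ≠ 0) (g : Fin n → A)
    (hg : ∀ i, algebraMap A (A ⊗[R] FractionRing R) (g i) = c • f i)
    (D : Type u) [CommRing D] [Algebra R D] (hD : AdicRing.Admissible R (Ideal.span {t}) D)
    (φ : A →ₐ[R] D)
    (hgen : (Ideal.span (insert (algebraMap R A c) (Set.range g))).map φ =
          Ideal.span {algebraMap R D c} ∨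
      ∃ i, (Ideal.span (insert (algebraMap R A c) (Set.range g))).map φ = Ideal.span {φ (g i)}) :
    (Ideal.span (insert (algebraMap R A c) (Set.range g))).map φ = Ideal.span {algebraMap R D c} ∧
      ∃! ψ : ↥(Algebra.adjoin A (Set.range f)) →ₐ[R] D,
        ψ.comp (IsScalarTower.toAlgHom R A ↥(Algebra.adjoin A (Set.range f))) = φ := by
  classical
  have htu : ¬ IsUnit t := K26.ComplVal.not_isUnit_of_isAdicComplete t
  have hDtf : ∀ (r : R) (x : D), r ≠ 0 → r • x = 0 → x = 0 := fun r x hr hx =>
    eq_zero_of_smul_eq_zero t htu hD.2 r hr x hx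
  have hinj : Function.Injective (algebraMap D (D ⊗[R] FractionRing R)) :=
    injective_algebraMap hDtf
  let Φ : A ⊗[R] FractionRing R →ₐ[R] D ⊗[R] FractionRing R :=
    Algebra.TensorProduct.map φ (AlgHom.id R _)
  have hΦ : ∀ a : A, Φ (algebraMap A _ a) = algebraMap D _ (φ a) := by
    intro a
    simp [Φ, Algebra.TensorProduct.algebraMap_apply]
  have hΦg : ∀ i, algebraMap D (D ⊗[R] FractionRing R) (φ (g i)) = c • Φ (f i) := by
    intro i
    rw [← hΦ, hg, map_smul]
  have hcunit := isUnit_algebraMap (D := D) c hc
  -- the ideal is generated by `c`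
  have hspan : (Ideal.span (insert (algebraMap R A c) (Set.range g))).map φ =
      Ideal.span {algebraMap R D c} := by
    rcases hgen with h | ⟨i, hi⟩
    · exact h
    · have hcmem : algebraMap R D c ∈ Ideal.span {φ (g i)} := by
        rw [← hi]
        have h1 : φ (algebraMap R A c) ∈
            (Ideal.span (insert (algebraMap R A c) (Set.range g))).map φ :=
          Ideal.mem_map_of_mem φ (Ideal.subset_span (Set.mem_insert _ _))
        rwa [AlgHom.commutes] at h1
      obtain ⟨d, hd⟩ := Ideal.mem_span_singleton.mp hcmem
      have hyd : Φ (f i) * algebraMap D _ d = 1 := by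
        have h1 : algebraMap R (D ⊗[R] FractionRing R) c * (Φ (f i) * algebraMap D _ d) =
            algebraMap R (D ⊗[R] FractionRing R) c * 1 := by
          rw [← mul_assoc, ← smul_def', ← hΦg, ← map_mul, ← hd, mul_one,
            ← IsScalarTower.algebraMap_apply]
        exact hcunit.mul_left_cancel h1
      have hint : IsIntegral D (Φ (f i)) := by
        obtain ⟨p, hp, hpf⟩ := hf i
        refine ⟨p.map (φ : A →+* D), hp.map _, ?_⟩
        rw [Polynomial.eval₂_map]
        have h1 : (algebraMap D (D ⊗[R] FractionRing R)).comp (φ : A →+* D) =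
            (Φ : A ⊗[R] FractionRing R →+* D ⊗[R] FractionRing R).comp
              (algebraMap A (A ⊗[R] FractionRing R)) := by
          ext a
          exact (hΦ a).symm
        have h2 : Φ (f i) = (Φ : A ⊗[R] FractionRing R →+* D ⊗[R] FractionRing R) (f i) := rfl
        rw [h1, h2, ← Polynomial.hom_eval₂, hpf, map_zero]
      have hdu : IsUnit d := isUnit_of_isIntegral_of_mul_eq_one hinj _ hint d hyd
      rw [hi, hd, Ideal.span_singleton_mul_right_unit hdu]
  refine ⟨hspan, ?_⟩
  have hdvd : ∀ i, ∃ d : D, φ (g i) = algebraMap R D c * d := by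
    intro i
    have h1 : φ (g i) ∈ Ideal.span {algebraMap R D c} := by
      rw [← hspan]
      exact Ideal.mem_map_of_mem φ (Ideal.subset_span (Set.mem_insert_of_mem _ ⟨i, rfl⟩))
    exact Ideal.mem_span_singleton.mp h1
  choose d hd using hdvd
  have hΦf : ∀ i, Φ (f i) = algebraMap D _ (d i) := by
    intro i
    apply eq_of_smul_eq c hc
    rw [← hΦg, hd, map_mul, smul_def', ← IsScalarTower.algebraMap_apply]
  -- the image of A' lies in D
  have hmem : ∀ x ∈ Algebra.adjoin A (Set.range f),
      Φ x ∈ (algebraMap D (D ⊗[R] FractionRing R)).range := by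
    intro x hx
    induction hx using Algebra.adjoin_induction with
    | mem x hx =>
      obtain ⟨i, rfl⟩ := hx
      exact ⟨d i, (hΦf i).symm⟩
    | algebraMap a => exact ⟨φ a, (hΦ a).symm⟩
    | add x y _ _ hx hy => rw [map_add]; exact add_mem hx hy
    | mul x y _ _ hx hy => rw [map_mul]; exact mul_mem hx hy
  choose F hF using hmem
  have hFalg : ∀ (x y : D), algebraMap D (D ⊗[R] FractionRing R) x =
      algebraMap D (D ⊗[R] FractionRing R) y → x = y := fun x y h => hinj h
  let ψ : ↥(Algebra.adjoin A (Set.range f)) →ₐ[R] D :=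
    { toFun := fun x => F x.1 x.2
      map_one' := hFalg _ _ (by rw [hF, map_one]; exact map_one Φ)
      map_mul' := fun x y => hFalg _ _ (by
        rw [hF, map_mul, hF, hF]; exact map_mul Φ _ _)
      map_zero' := hFalg _ _ (by rw [hF, map_zero]; exact map_zero Φ)
      map_add' := fun x y => hFalg _ _ (by
        rw [hF, map_add, hF, hF]; exact map_add Φ _ _)
      commutes' := fun r => hFalg _ _ (by
        rw [hF, ← IsScalarTower.algebraMap_apply]; exact Φ.commutes r) }
  have hψ : ∀ x, algebraMap D (D ⊗[R] FractionRing R) (ψ x) = Φ x.1 := fun x => hF x.1 x.2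
  refine ⟨ψ, ?_, ?_⟩
  · apply AlgHom.ext
    intro a
    apply hinj
    rw [← hΦ]
    exact hψ _
  · intro ψ' hψ'
    apply AlgHom.ext
    intro x
    obtain ⟨r, hr, a, ha⟩ := exists_smul_eq (R := R) x.1
    have h1 : r • x = algebraMap A ↥(Algebra.adjoin A (Set.range f)) a := by
      apply Subtype.ext
      exact ha
    have h2 : r • ψ' x = r • ψ x := by
      rw [← map_smul, ← map_smul, h1]
      have h3 : ψ' (algebraMap A ↥(Algebra.adjoin A (Set.range f)) a) = φ a :=
        DFunLike.congr_fun hψ' a
      rw [h3]
      apply hinj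
      rw [← hΦ]
      exact (hψ (algebraMap A ↥(Algebra.adjoin A (Set.range f)) a)).symm
    have h4 : r • (ψ' x - ψ x) = 0 := by rw [smul_sub, h2, sub_self]
    exact sub_eq_zero.mp (hDtf r _ hr h4)

end Groth.Agent.S13353
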