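import Groth.Statements.S13354
import Groth.Agent.S11541
import Groth.Agent.AdicRing.K26.DimOne

set_option autoImplicit false
universe u
open AdicRing

namespace Groth.Agent.S13354

/-- Let R be a complete valuation ring of height one with t a nonzero element generating an ideal of
definition, B an admissible R-algebra which is a local integral domain of Krull dimension one (the
algebra of a rig-point), and b_1, ..., b_n elements of B, not all zero. Then there is a B-subalgebra
B' of the field of fractions of B which is finite over B, is again a local ring of Krull dimension
one, and in which the ideal generated by b_1, ..., b_n is generated by one of the b_i alone (hence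
is invertible). (This is the algebraic step by which a rig-point is lifted along the formal
blowing-up of a finitely generated open ideal; the resulting bijection between rig-points of the
blowing-up and of the base is not stated here.) -/
theorem result
    (R : Type u) [CommRing R] [IsDomain R] [ValuationRing R] [Ring.KrullDimLE 1 R]
    (t : R) (ht : t ≠ 0) [IsAdicComplete (Ideal.span {t}) R]
    (B : Type u) [CommRing B] [Algebra R B] [IsDomain B] [IsLocalRing B]
    (hB : AdicRing.Admissible R (Ideal.span {t}) B) (hdim : ringKrullDim B = 1)
    (n : ℕ) (b : Fin n → B) (hb : ∃ i, b i ≠ 0) :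
    ∃ B' : Subalgebra B (FractionRing B), Module.Finite B ↥B' ∧ IsLocalRing ↥B' ∧ ringKrullDim ↥B' = 1 ∧
      ∃ i, Ideal.span (Set.range (fun j => algebraMap B ↥B' (b j))) =
        Ideal.span {algebraMap B ↥B' (b i)} := by
  classical
  have hV : ValuationRing (integralClosure B (FractionRing B)) :=
    (Groth.Agent.S11541.result R t ht B hB hdim).2
  obtain ⟨i₀, hi₀⟩ := hb
  -- an index such that `b i` divides all `b j` in the integral closure
  have key : ∀ s : Finset (Fin n), s.Nonempty → ∃ i ∈ s, ∀ j ∈ s,
      algebraMap B (integralClosure B (FractionRing B)) (b i) ∣
        algebraMap B (integralClosure B (FractionRing B)) (b j) := by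
    intro s hs
    induction hs using Finset.Nonempty.cons_induction with
    | singleton a => exact ⟨a, by simp, by simp⟩
    | cons a s ha hs ih =>
      obtain ⟨i, his, hi⟩ := ih
      rcases ValuationRing.dvd_total
        (algebraMap B (integralClosure B (FractionRing B)) (b i))
        (algebraMap B (integralClosure B (FractionRing B)) (b a)) with h | h
      · refine ⟨i, by simp [his], ?_⟩
        intro j hj
        rcases Finset.mem_cons.mp hj with rfl | hj
        · exact h
        · exact hi j hj
      · refine ⟨a, by simp, ?_⟩
        intro j hj
        rcases Finset.mem_cons.mp hj with rfl | hj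
        · exact dvd_rfl
        · exact h.trans (hi j hj)
  obtain ⟨i, -, hi⟩ := key Finset.univ ⟨i₀, Finset.mem_univ _⟩
  have hi' : ∀ j, algebraMap B (integralClosure B (FractionRing B)) (b i) ∣
        algebraMap B (integralClosure B (FractionRing B)) (b j) := fun j => hi j (Finset.mem_univ j)
  choose v hv using hi'
  -- the subalgebra
  let B' : Subalgebra B (FractionRing B) :=
    Algebra.adjoin B (Set.range (fun j => (v j : FractionRing B)))
  have hint : ∀ x ∈ Set.range (fun j => (v j : FractionRing B)), IsIntegral B x := by
    rintro _ ⟨j, rfl⟩
    exact (v j).2
  have hfinB' : Module.Finite B B' :=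
    Algebra.finite_adjoin_of_finite_of_isIntegral (Set.finite_range _) hint
  have hinj : Function.Injective (algebraMap B B') := by
    intro x y hxy
    exact IsFractionRing.injective B (FractionRing B) (congrArg Subtype.val hxy)
  have hfinRB : Module.Finite R B := (Groth.Agent.S11541.result R t ht B hB hdim).1
  have hfinR : Module.Finite R B' := Module.Finite.trans B B'
  have hH : HenselianLocalRing R := K26.ComplVal.henselianLocalRing t ht
  obtain ⟨hHB', -⟩ := Groth.Agent.S1964.result R B'
  have hdvd : ∀ j, algebraMap B B' (b i) ∣ algebraMap B B' (b j) := by
    intro j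
    refine ⟨⟨v j, Algebra.subset_adjoin ⟨j, rfl⟩⟩, ?_⟩
    have h1 := congrArg (fun z : integralClosure B (FractionRing B) => (z : FractionRing B)) (hv j)
    apply Subtype.ext
    exact h1
  refine ⟨B', hfinB', inferInstance,
    (K26.DimOne.ringKrullDim_eq_one_iff_of_isIntegral hinj).mp hdim, i, ?_⟩
  apply le_antisymm
  · rw [Ideal.span_le]
    rintro _ ⟨j, rfl⟩
    exact Ideal.mem_span_singleton.mpr (hdvd j)
  · rw [Ideal.span_singleton_le_iff_mem]
    exact Ideal.subset_span ⟨i, rfl⟩

end Groth.Agent.S13354
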