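import Groth.Statements.S13355
import Groth.Agent.GaDual.K770.Coeff

set_option autoImplicit false
universe u
open GaDual

namespace Groth.Agent.S13355

/-- Over a commutative algebra A over the rationals, the formal characters (power series with constant
term 1 satisfying χ(X+Y) = χ(X)χ(Y) in two variables) are exactly the power series exp(aX) for a in
A. -/
theorem result (A : Type u) [CommRing A] [Algebra ℚ A] (χ : PowerSeries A) :
    (PowerSeries.constantCoeff χ = 1 ∧
      PowerSeries.subst (MvPowerSeries.X 0 + MvPowerSeries.X 1 : MvPowerSeries (Fin 2) A) χ =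
        PowerSeries.subst (MvPowerSeries.X 0 : MvPowerSeries (Fin 2) A) χ *
          PowerSeries.subst (MvPowerSeries.X 1 : MvPowerSeries (Fin 2) A) χ) ↔
      ∃ a : A, χ = PowerSeries.rescale a (PowerSeries.exp A) := by
  rw [K770.Coeff.ps_iff]
  have hu : ∀ n : ℕ, IsUnit ((n.factorial : A)) := by
    intro n
    have h1 : IsUnit (n.factorial : ℚ) := IsUnit.mk0 _ (by exact_mod_cast n.factorial_ne_zero)
    simpa using h1.map (algebraMap ℚ A)
  have hinv : ∀ n : ℕ, (n.factorial : A) * algebraMap ℚ A (1 / n.factorial) = 1 := by
    intro n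
    have h1 : (n.factorial : A) = algebraMap ℚ A (n.factorial : ℚ) := by simp
    rw [h1, ← map_mul, mul_one_div_cancel (by exact_mod_cast n.factorial_ne_zero), map_one]
  constructor
  · rintro ⟨h0, hc⟩
    refine ⟨PowerSeries.coeff 1 χ, ?_⟩
    have h1 : ∀ n : ℕ, (n.factorial : A) * PowerSeries.coeff n χ = (PowerSeries.coeff 1 χ) ^ n := by
      intro n
      induction n with
      | zero => simpa using h0
      | succ n ih =>
        have h2 := hc n 1
        rw [Nat.choose_succ_self_right] at h2
        rw [Nat.factorial_succ, pow_succ, ← ih]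
        push_cast at h2 ⊢
        calc ((n : A) + 1) * (n.factorial : A) * PowerSeries.coeff (n + 1) χ =
            (n.factorial : A) * (((n : A) + 1) * PowerSeries.coeff (n + 1) χ) := by ring
          _ = _ := by rw [h2, mul_assoc]
    ext n
    rw [PowerSeries.coeff_rescale, PowerSeries.coeff_exp]
    apply (hu n).mul_left_cancel
    rw [h1, mul_left_comm, hinv, mul_one]
  · rintro ⟨a, rfl⟩
    refine ⟨by simp [← PowerSeries.coeff_zero_eq_constantCoeff_apply, PowerSeries.coeff_rescale], ?_⟩
    intro i j
    rw [PowerSeries.coeff_rescale, PowerSeries.coeff_rescale, PowerSeries.coeff_rescale, PowerSeries.coeff_exp,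
      PowerSeries.coeff_exp, PowerSeries.coeff_exp]
    apply ((hu i).mul (hu j)).mul_left_cancel
    have h2 : (i.factorial : A) * (j.factorial : A) * ((i + j).choose i : A) = ((i + j).factorial : A) := by
      have := Nat.choose_mul_factorial_mul_factorial (Nat.le_add_right i j)
      rw [Nat.add_sub_cancel_left] at this
      have h3 := congrArg (Nat.cast (R := A)) this
      push_cast at h3
      rw [← h3]
      ring
    rw [← mul_assoc, h2, mul_left_comm, hinv, mul_one]
    calc a ^ (i + j) = a ^ i * a ^ j * 1 * 1 := by ring
      _ = a ^ i * a ^ j * ((i.factorial : A) * algebraMap ℚ A (1 / i.factorial)) *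
          ((j.factorial : A) * algebraMap ℚ A (1 / j.factorial)) := by rw [hinv, hinv]
      _ = _ := by ring

end Groth.Agent.S13355
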