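import Groth.Statements.S13356
import Groth.Agent.GaDual.K770.Coeff
import Groth.Agent.S13355

set_option autoImplicit false
universe u
open GaDual

namespace Groth.Agent.S13356

/-- Over a commutative algebra A over the rationals, the polynomials f with f(0) = 1 and f(X+Y) =
f(X)f(Y) (the characters of the additive group into the multiplicative group over A) are exactly the
polynomials exp(aX) with a in A nilpotent. -/
theorem result (A : Type u) [CommRing A] [Algebra ℚ A] (f : Polynomial A) :
    (f.eval 0 = 1 ∧
      Polynomial.aeval (MvPolynomial.X 0 + MvPolynomial.X 1 : MvPolynomial (Fin 2) A) f =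
        Polynomial.aeval (MvPolynomial.X 0 : MvPolynomial (Fin 2) A) f *
          Polynomial.aeval (MvPolynomial.X 1 : MvPolynomial (Fin 2) A) f) ↔
      ∃ a : A, IsNilpotent a ∧ (f : PowerSeries A) = PowerSeries.rescale a (PowerSeries.exp A) := by
  have key := Groth.Agent.S13355.result A (f : PowerSeries A)
  rw [K770.Coeff.ps_iff] at key
  rw [K770.Coeff.poly_iff]
  simp only [Polynomial.coeff_coe] at key
  have h0 : PowerSeries.constantCoeff (f : PowerSeries A) = f.eval 0 := by
    rw [← PowerSeries.coeff_zero_eq_constantCoeff_apply, Polynomial.coeff_coe, Polynomial.coeff_zero_eq_eval_zero]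
  rw [h0] at key
  rw [key]
  constructor
  · rintro ⟨a, ha⟩
    refine ⟨a, ⟨f.natDegree + 1, ?_⟩, ha⟩
    have h1 := congrArg (PowerSeries.coeff (f.natDegree + 1)) ha
    rw [Polynomial.coeff_coe, Polynomial.coeff_natDegree_succ_eq_zero, PowerSeries.coeff_rescale,
      PowerSeries.coeff_exp] at h1
    have h2 : IsUnit (algebraMap ℚ A (1 / (f.natDegree + 1).factorial)) := by
      refine (IsUnit.mk0 _ ?_).map (algebraMap ℚ A)
      have := (f.natDegree + 1).factorial_ne_zero
      positivity
    exact (h2.mul_left_eq_zero).1 h1.symm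
  · rintro ⟨a, -, ha⟩
    exact ⟨a, ha⟩

end Groth.Agent.S13356
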