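import Groth.Statements.S13373
import Groth.Agent.GaDual.K770.Char

set_option autoImplicit false
universe u
open GaDual

namespace Groth.Agent.S13373

/-- Over a commutative algebra A of prime characteristic p, the formal characters (power series χ with
constant term 1 and χ(X+Y) = χ(X)χ(Y)) are exactly the infinite products ∏_n exp_p(a_n X^(p^n)) with
a_n^p = 0, where exp_p(Y) = Σ_{j<p} Y^j/j!; the infinite product is expressed through its
truncations: χ mod X^(p^m) equals the finite product over n < m. -/
theorem result (p : ℕ) [Fact p.Prime] (A : Type u) [CommRing A] [CharP A p]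
    (χ : PowerSeries A) :
    (PowerSeries.constantCoeff χ = 1 ∧
      PowerSeries.subst (MvPowerSeries.X 0 + MvPowerSeries.X 1 : MvPowerSeries (Fin 2) A) χ =
        PowerSeries.subst (MvPowerSeries.X 0 : MvPowerSeries (Fin 2) A) χ *
          PowerSeries.subst (MvPowerSeries.X 1 : MvPowerSeries (Fin 2) A) χ) ↔
      ∃ a : ℕ → A, (∀ n, a n ^ p = 0) ∧ ∀ m : ℕ,
        PowerSeries.trunc (p ^ m) χ = ∏ n ∈ Finset.range m, ∑ j ∈ Finset.range p,
          Polynomial.C (Ring.inverse (j.factorial : A) * a n ^ j) * Polynomial.X ^ (j * p ^ n) := by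
  have hp1 := (Fact.out : p.Prime).one_lt
  rw [K770.Coeff.ps_iff]
  constructor
  · rintro ⟨h0, hc⟩
    refine ⟨fun n => PowerSeries.coeff (p ^ n) χ, fun n => ?_, fun m => ?_⟩
    · exact K770.Char.pow_eq_zero (c := fun k => PowerSeries.coeff k χ) (n := n + 1) (by simpa using h0)
        (fun i j _ _ => hc i j) (Nat.lt_succ_self n)
    · ext k
      rw [PowerSeries.coeff_trunc]
      split_ifs with hk
      · exact (K770.Char.coeff_eq_prod (c := fun k => PowerSeries.coeff k χ) (n := m) (by simpa using h0)
          (fun i j _ _ => hc i j) le_rfl k hk).symm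
      · exact (K770.Char.P_coeff_of_le p (fun n => PowerSeries.coeff (p ^ n) χ) m k (by omega)).symm
  · rintro ⟨a, ha, hm⟩
    have key : ∀ k m : ℕ, k < p ^ m → PowerSeries.coeff k χ = (K770.Char.P p a m).coeff k := by
      intro k m hk
      rw [K770.Char.P_def, ← hm m, PowerSeries.coeff_trunc, if_pos hk]
    refine ⟨?_, fun i j => ?_⟩
    · rw [← PowerSeries.coeff_zero_eq_constantCoeff_apply, key 0 0 (by simp)]
      exact K770.Char.P_coeff_zero p a 0
    · have h1 : i + j < p ^ (i + j) := Nat.lt_pow_self hp1
      rw [key (i + j) (i + j) h1, key i (i + j) (by omega), key j (i + j) (by omega)]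
      exact K770.Char.choose_mul_coeff_P p ha (i + j) i j

end Groth.Agent.S13373
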