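import Groth.Statements.S13377
import Groth.Agent.GaDual.K770.InfBC

set_option autoImplicit false
universe u
open GaDual

namespace Groth.Agent.S13377

open CategoryTheory AlgebraicGeometry in
/-- For an infinitesimal commutative group scheme I over a field k (finite over k, underlying space a
single point), the cohomology of the sheaf of I on the big fppf site, taken over the n-fold tensor
power k̄ ⊗_k ⋯ ⊗_k k̄ of an algebraic closure, vanishes in every positive degree j for every n > 0. -/
theorem result (k : Type u) [Field k]
    (G : Over (Spec (CommRingCat.of k))) [GrpObj G] [IsCommMonObj G] [IsFinite G.hom] [Subsingleton G.left]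
    (n j : ℕ) (hn : 0 < n) (hj : 0 < j) :
    Subsingleton (BigSite.HU Scheme.fppfPrecoverage (CGrpSh.pts Scheme.fppfPrecoverage G) j
      (Over.mk (Spec.map (CommRingCat.ofHom (algebraMap k (PiTensorProduct k (fun _ : Fin n => AlgebraicClosure k))))))) := by
  exact K770.InfBC.main k G n j hn hj

end Groth.Agent.S13377
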