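import Groth.Statements.S13381
import Groth.Agent.AlgGrp.K404.FinMeet

set_option autoImplicit false
universe u
open AlgGrpK

namespace Groth.Agent.S13381

attribute [-instance] CategoryTheory.catToReflQuiver

open CategoryTheory AlgebraicGeometry MonObj CartesianMonoidalCategory in
/-- A commutative group scheme G of finite type over a field k has a finite subgroup scheme E with G/E
smooth and connected; stated with the quotient given as a flat surjective homomorphism q : G → Q of
k-group schemes whose kernel is E, Q smooth over k with connected underlying space. -/
theorem result (k : Type u) [Field k]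
    (G : Over (Spec (CommRingCat.of k))) [GrpObj G] [IsCommMonObj G] [LocallyOfFiniteType G.hom] [QuasiCompact G.hom] :
    ∃ (E Q : Over (Spec (CommRingCat.of k))) (_ : GrpObj E) (_ : GrpObj Q) (i : E ⟶ G) (q : G ⟶ Q)
      (_ : IsMonHom i) (_ : IsMonHom q),
      Mono i ∧ IsFinite E.hom ∧ AlgGrp.IsKernel i q ∧ Flat q.left ∧ Surjective q.left ∧
        Smooth Q.hom ∧ ConnectedSpace Q.left := by
  exact K404.FinMeet.main G

end Groth.Agent.S13381
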