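import Groth.Statements.S13382
import Groth.Agent.GaDual.K771.UniVan2

set_option autoImplicit false
universe u
open GaDual

namespace Groth.Agent.S13382

open CategoryTheory AlgebraicGeometry in
/-- For a smooth connected commutative unipotent group U over a field k, the cohomology H^i(k, U) on the
big fppf site of Spec k vanishes for every i > 1. Unipotency of the smooth connected commutative
affine k-group U is expressed as: U contains no nontrivial k-subtorus (for such U the two conditions
agree). -/
theorem result (k : Type u) [Field k]
    (U : Over (Spec (CommRingCat.of k))) [GrpObj U] [IsCommMonObj U]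
    [Smooth U.hom] [ConnectedSpace U.left] [IsAffine U.left] (hU : Red.HasNoSubtorus k U)
    (i : ℕ) (hi : 1 < i) :
    Subsingleton (BigSite.H Scheme.fppfPrecoverage (Spec (CommRingCat.of k))
      (CGrpSh.pts Scheme.fppfPrecoverage U) i) :=
  K771.UniVan.main U hU i hi

end Groth.Agent.S13382
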