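import Groth.Statements.S13386

set_option autoImplicit false
universe u
open scoped TensorProduct
open ZeroCyc

namespace Groth.Agent.S13386

/-- Let A' = T⁻¹A be a localization of the ring A, M an A-module and M' = A' ⊗_A M. In the divided power
algebra Γ_{A'}(M') the A'-span of the d-th divided powers γ_d(1 ⊗ m), m ∈ M, is the A'-span of
γ_d(M'). (The published statement phrases this as the surjectivity of the natural map from (γ_d(M))
⊗_A A' onto (γ_d(M')); its further clause through the base-change isomorphism Γ_A(M) ⊗_A A' ≅
Γ_{A'}(M') is not restated here.) -/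
theorem result {A A' M : Type u} [CommRing A] [CommRing A']
    [Algebra A A'] (T : Submonoid A) [IsLocalization T A'] [AddCommGroup M] [Module A M] (d : ℕ) :
    Submodule.span A' (Set.range fun m : M => DividedPowerAlgebra.dp A' d ((1 : A') ⊗ₜ[A] m)) =
      Submodule.span A' (Set.range (DividedPowerAlgebra.dp A' d (M := A' ⊗[A] M))) := by
  apply le_antisymm
  · apply Submodule.span_mono
    rintro _ ⟨m, rfl⟩
    exact ⟨_, rfl⟩
  · rw [Submodule.span_le]
    rintro _ ⟨y, rfl⟩
    obtain ⟨m, s, hm⟩ : ∃ (m : M) (s : A'), s • ((1 : A') ⊗ₜ[A] m) = y := by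
      have key : ∀ y : A' ⊗[A] M, ∃ (m : M) (t : T), algebraMap A A' t • y = (1 : A') ⊗ₜ[A] m := by
        intro y
        induction y using TensorProduct.induction_on with
        | zero => exact ⟨0, 1, by simp⟩
        | tmul a m =>
          obtain ⟨⟨b, t⟩, hb⟩ := IsLocalization.surj T a
          refine ⟨b • m, t, ?_⟩
          rw [TensorProduct.smul_tmul', smul_eq_mul, mul_comm, hb, ← TensorProduct.smul_tmul,
            Algebra.smul_def, mul_one]
        | add x y hx hy =>
          obtain ⟨m, t, hm⟩ := hx
          obtain ⟨n, s, hn⟩ := hy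
          refine ⟨(s : A) • m + (t : A) • n, t * s, ?_⟩
          rw [TensorProduct.tmul_add, ← TensorProduct.smul_tmul (s : A), ← TensorProduct.smul_tmul (t : A),
            ← TensorProduct.smul_tmul', ← TensorProduct.smul_tmul', ← hm, ← hn,
            smul_add]
          simp only [algebraMap_smul, smul_smul, Submonoid.coe_mul, mul_comm (s : A)]
      obtain ⟨m, t, hm⟩ := key y
      refine ⟨m, IsLocalization.mk' A' 1 t, ?_⟩
      rw [← hm, smul_smul, IsLocalization.mk'_spec, map_one, one_smul]
    rw [← hm, DividedPowerAlgebra.dp_smul]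
    exact Submodule.smul_mem _ _ (Submodule.subset_span ⟨m, rfl⟩)

end Groth.Agent.S13386
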