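import Groth.Statements.S13387
import Groth.Agent.ZeroCyc.K755.Vandermonde
import Mathlib.RingTheory.IntegralDomain

set_option autoImplicit false
universe u
open ZeroCyc

namespace Groth.Agent.S13387

theorem exists_elements {A : Type u} [CommRing A] (p : Ideal A) [hp : p.IsPrime] (d : ℕ)
    (h : (d : Cardinal) ≤ Cardinal.mk p.ResidueField) :
    ∃ t : Fin (d - 1) → A, (∀ j, t j ∉ p) ∧ ∀ i j, i ≠ j → t i - t j ∉ p := by
  have hcard : (d : Cardinal) ≤ Cardinal.mk (A ⧸ p) := by
    rcases finite_or_infinite (A ⧸ p) with hfin | hinf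
    · have hmax : p.IsMaximal := by
        rw [Ideal.Quotient.maximal_ideal_iff_isField_quotient]
        exact Finite.isField_of_domain (A ⧸ p)
      have := p.bijective_algebraMap_quotient_residueField
      rwa [Cardinal.mk_congr (Equiv.ofBijective _ this)]
    · exact Cardinal.natCast_lt_aleph0.le.trans (Cardinal.aleph0_le_mk _)
  obtain rfl | ⟨d, rfl⟩ : d = 0 ∨ ∃ d', d = d' + 1 := by
    cases d with
    | zero => exact Or.inl rfl
    | succ i => exact Or.inr ⟨i, rfl⟩
  · exact ⟨fun j => 0, fun j => j.elim0, fun j => j.elim0⟩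
  · rw [Nat.add_sub_cancel]
    obtain ⟨f⟩ : Nonempty (Fin (d + 1) ↪ A ⧸ p) := by
      rw [← Cardinal.lift_mk_le']
      simpa using hcard
    have hsurj := Ideal.Quotient.mk_surjective (I := p)
    choose g hg using hsurj
    refine ⟨fun j => g (f j.succ) - g (f 0), fun j hj => ?_, fun i j hij hj => ?_⟩
    · rw [← Ideal.Quotient.eq_zero_iff_mem, map_sub, hg, hg, sub_eq_zero] at hj
      exact Fin.succ_ne_zero j (f.injective hj)
    · rw [← Ideal.Quotient.eq_zero_iff_mem, map_sub, map_sub, map_sub, hg, hg, hg, sub_sub_sub_cancel_right,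
        sub_eq_zero] at hj
      exact hij (Fin.succ_injective _ (f.injective hj))

/-- Let A be a commutative ring, M an A-module and d ≥ 0. Suppose that at each prime p of A either k(p)
has d or more elements, or the localisation M_p is a cyclic A_p-module. Then the degree-d piece
Γ^d_A(M) of the divided power algebra Γ_A(M) is spanned over A by the d-th divided powers γ_d(m), m
∈ M. -/
theorem result {A M : Type u} [CommRing A] [AddCommGroup M]
    [Module A M] (d : ℕ)
    (h : ∀ p : PrimeSpectrum A, (d : Cardinal) ≤ Cardinal.mk p.asIdeal.ResidueField ∨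
      ∃ x : LocalizedModule p.asIdeal.primeCompl M, Submodule.span (Localization.AtPrime p.asIdeal) {x} = ⊤) :
    Submodule.span A (Set.range (DividedPowerAlgebra.dp A d : M → DividedPowerAlgebra A M)) =
      PolLaw.gammaPiece A M d := by
  refine K755.Vandermonde.span_dp_eq_gammaPiece d fun p hp => ?_
  rcases h ⟨p, hp⟩ with h | ⟨x, hx⟩
  · left
    exact exists_elements p d h
  · right
    obtain ⟨m₀, s₀, rfl⟩ : ∃ (m₀ : M) (s₀ : p.primeCompl), LocalizedModule.mk m₀ s₀ = x := by
      induction x using LocalizedModule.induction_on with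
      | h m s => exact ⟨m, s, rfl⟩
    refine ⟨m₀, fun m => ?_⟩
    have hm : LocalizedModule.mk m (1 : p.primeCompl) ∈
        Submodule.span (Localization.AtPrime p) {LocalizedModule.mk m₀ s₀} := by
      rw [hx]; exact Submodule.mem_top
    obtain ⟨a, ha⟩ := Submodule.mem_span_singleton.mp hm
    induction a using Localization.induction_on with
    | H y =>
      obtain ⟨a, t⟩ := y
      rw [LocalizedModule.mk_smul_mk, LocalizedModule.mk_eq] at ha
      obtain ⟨u, hu⟩ := ha
      refine ⟨u * (t * s₀ : p.primeCompl), ?_, u * a, ?_⟩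
      · exact (u * (t * s₀)).2
      · rw [one_smul] at hu
        have := hu.symm
        simp only [Submonoid.smul_def, smul_smul] at this
        simpa [mul_assoc] using this

end Groth.Agent.S13387
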