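import Groth.Statements.S13388
import Groth.Agent.ZeroCyc.K755.DualGamma
import Mathlib.RingTheory.IntegralDomain
import Mathlib.RingTheory.Nakayama
import Mathlib.FieldTheory.Finite.Basic
import Mathlib.LinearAlgebra.Dimension.FreeAndStrongRankCondition
import Mathlib.RingTheory.TensorProduct.Finite
import Mathlib.LinearAlgebra.TensorProduct.Quotient

set_option autoImplicit false
universe u
open ZeroCyc

namespace Groth.Agent.S13388

open scoped TensorProduct
open DividedPowerAlgebra K755.DualGamma

/-- the linear functional separating `γ_{d-1}(v₁) γ_1(v₂)` from the `d`-th divided powers over a field with `q < d`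
elements -/
theorem exists_functional {K V : Type u} [Field K] [Finite K] [AddCommGroup V] [Module K V] (d : ℕ)
    (hd : Nat.card K < d) (X Y : V →ₗ[K] K) (v₁ v₂ : V) (h11 : X v₁ = 1) (h21 : Y v₁ = 0)
    (h22 : Y v₂ = 1) :
    ∃ f : DividedPowerAlgebra K V →ₗ[K] K, (∀ v, f (dp K d v) = 0) ∧
      f (dp K (d - 1) v₁ * dp K 1 v₂) ≠ 0 := by
  classical
  have := Fintype.ofFinite K
  rw [Nat.card_eq_fintype_card] at hd
  set q := Fintype.card K with hq
  have hq1 : 1 < q := Fintype.one_lt_card
  refine ⟨(aug K V).toLinearMap ∘ₗ ((D X) ^ (d - 1) * D Y - (D X) ^ (d - q) * (D Y) ^ q), ?_, ?_⟩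
  · intro v
    have e1 : (D Y) (dp K d v) = Y v • dp K (d - 1) v := by
      conv_lhs => rw [show d = d - 1 + 1 by omega]
      rw [D_dp_succ]
    have e2 : ((D X) ^ (d - 1)) (dp K (d - 1) v) = X v ^ (d - 1) • dp K 0 v := by
      have := D_pow_dp X (d - 1) 0 v
      rwa [zero_add] at this
    have e3 : ((D Y) ^ q) (dp K d v) = Y v ^ q • dp K (d - q) v := by
      have := D_pow_dp Y q (d - q) v
      rwa [Nat.sub_add_cancel hd.le] at this
    have e4 : ((D X) ^ (d - q)) (dp K (d - q) v) = X v ^ (d - q) • dp K 0 v := by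
      have := D_pow_dp X (d - q) 0 v
      rwa [zero_add] at this
    simp only [LinearMap.comp_apply, LinearMap.sub_apply, Module.End.mul_apply, e1, e3, map_smul, e2, e4,
      AlgHom.toLinearMap_apply, map_sub, aug_dp_zero, smul_eq_mul, mul_one]
    rw [FiniteField.pow_card]
    by_cases hX : X v = 0
    · rw [hX, zero_pow (by omega), zero_pow (by omega), sub_self]
    · rw [show d - 1 = (d - q) + (q - 1) by omega, pow_add, FiniteField.pow_card_sub_one_eq_one _ hX,
        mul_one, sub_self]
  · have e1 : D Y (dp K (d - 1) v₁) = 0 := by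
      rw [show d - 1 = d - 2 + 1 by omega, D_dp_succ, h21, zero_smul]
    have e2 : D Y (dp K 1 v₂) = 1 := by
      rw [show (1 : ℕ) = 0 + 1 from rfl, D_dp_succ, h22, one_smul, dp_zero]
    have e3 : D Y (dp K (d - 1) v₁ * dp K 1 v₂) = dp K (d - 1) v₁ := by
      rw [D_mul, e1, e2, mul_one, zero_mul, add_zero]
    have e4 : ((D Y) ^ q) (dp K (d - 1) v₁ * dp K 1 v₂) = 0 := by
      obtain ⟨r, hr⟩ : ∃ r, q = r + 2 := ⟨q - 2, by omega⟩
      rw [hr, pow_add, Module.End.mul_apply, pow_two, Module.End.mul_apply, e3, e1, map_zero]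
    have e5 : ((D X) ^ (d - 1)) (dp K (d - 1) v₁) = X v₁ ^ (d - 1) • dp K 0 v₁ := by
      have := D_pow_dp X (d - 1) 0 v₁
      rwa [zero_add] at this
    simp only [LinearMap.comp_apply, LinearMap.sub_apply, Module.End.mul_apply, e3, e4, e5, map_zero,
      AlgHom.toLinearMap_apply, map_sub, map_smul, aug_dp_zero, h11, one_pow, one_smul, sub_zero]
    exact one_ne_zero

/-- a finitely generated module which is not cyclic at the maximal ideal `p` has two linearly independent
elements modulo `p` -/
theorem exists_independent {A M : Type u} [CommRing A] [AddCommGroup M] [Module A M] [Module.Finite A M]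
    (p : Ideal A) [hp : p.IsMaximal] (K : Type u) [Field K] [Algebra A K]
    (hK : Function.Surjective (algebraMap A K)) (hker : RingHom.ker (algebraMap A K) = p)
    (hc : ¬ ∃ x : LocalizedModule p.primeCompl M, Submodule.span (Localization.AtPrime p) {x} = ⊤) :
    ∃ (m₁ m₂ : M) (X Y : K ⊗[A] M →ₗ[K] K), X (1 ⊗ₜ m₁) = 1 ∧ Y (1 ⊗ₜ m₁) = 0 ∧ Y (1 ⊗ₜ m₂) = 1 := by
  have hsurj : Function.Surjective (TensorProduct.mk A K M 1) := by
    intro y
    induction y using TensorProduct.induction_on with
    | zero => exact ⟨0, by simp⟩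
    | tmul a m =>
      obtain ⟨b, rfl⟩ := hK a
      refine ⟨b • m, ?_⟩
      rw [TensorProduct.mk_apply, ← TensorProduct.smul_tmul, Algebra.smul_def, mul_one]
    | add x y hx hy =>
      obtain ⟨m, rfl⟩ := hx
      obtain ⟨n, rfl⟩ := hy
      exact ⟨m + n, by rw [map_add]⟩
  have hrank : 1 < Module.finrank K (K ⊗[A] M) := by
    by_contra hle
    rw [not_lt, finrank_le_one_iff] at hle
    obtain ⟨v, hv⟩ := hle
    obtain ⟨m₀, rfl⟩ := hsurj v
    apply hc
    -- `M = A m₀ + p M`
    have hkerM : ∀ m : M, (1 : K) ⊗ₜ[A] m = 0 → m ∈ p • (⊤ : Submodule A M) := by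
      intro m hm
      let e : (A ⧸ p) ⊗[A] M ≃ₗ[A] M ⧸ (p • (⊤ : Submodule A M)) := TensorProduct.quotTensorEquivQuotSMul M p
      let f : (A ⧸ p) →ₗ[A] K := p.liftQ (Algebra.linearMap A K) (by
        intro a ha
        rw [← hker] at ha
        exact ha)
      have hf : Function.Bijective f := by
        constructor
        · rw [← LinearMap.ker_eq_bot]
          refine Submodule.ker_liftQ_eq_bot p _ _ fun a ha => ?_
          rw [← hker]
          exact ha
        · intro k
          obtain ⟨a, rfl⟩ := hK k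
          exact ⟨Ideal.Quotient.mk p a, rfl⟩
      let f' := LinearEquiv.ofBijective f hf
      have h1 : f'.rTensor M ((1 : A ⧸ p) ⊗ₜ[A] m) = 0 := by
        rw [LinearEquiv.rTensor_tmul, ← hm]
        congr 1
        show algebraMap A K 1 = 1
        rw [map_one]
      rw [LinearEquiv.map_eq_zero_iff] at h1
      have h2 := congrArg e h1
      rw [map_zero] at h2
      have h3 : e ((1 : A ⧸ p) ⊗ₜ[A] m) = Submodule.Quotient.mk m := by
        have := TensorProduct.quotTensorEquivQuotSMul_mk_tmul (M := M) p 1 m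
        rw [one_smul] at this
        exact this
      rw [h3] at h2
      exact (Submodule.Quotient.mk_eq_zero _).mp h2
    have htop : (⊤ : Submodule A M) ≤ Submodule.span A {m₀} ⊔ p • (⊤ : Submodule A M) := by
      intro m _
      obtain ⟨c, hc⟩ := hv (TensorProduct.mk A K M 1 m)
      obtain ⟨a, rfl⟩ := hK c
      have h1 : (1 : K) ⊗ₜ[A] (m - a • m₀) = 0 := by
        rw [TensorProduct.tmul_sub, sub_eq_zero, TensorProduct.tmul_smul]
        rw [TensorProduct.mk_apply, TensorProduct.mk_apply] at hc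
        rw [← hc, algebraMap_smul]
      rw [show m = a • m₀ + (m - a • m₀) by abel]
      exact Submodule.add_mem_sup (Submodule.smul_mem _ _ (Submodule.mem_span_singleton_self _)) (hkerM _ h1)
    obtain ⟨r, hr, hr'⟩ : ∃ r ∉ p, ∀ m : M, r • m ∈ Submodule.span A {m₀} := by
      set Q := M ⧸ Submodule.span A {m₀}
      have hQ : (⊤ : Submodule A Q) ≤ p • (⊤ : Submodule A Q) := by
        have h := Submodule.map_mono (f := (Submodule.span A {m₀}).mkQ) htop
        rw [Submodule.map_sup, Submodule.map_smul'', Submodule.map_top, Submodule.range_mkQ,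
          Submodule.mkQ_map_self, bot_sup_eq] at h
        exact h
      obtain ⟨r, hr, hr'⟩ := Submodule.exists_sub_one_mem_and_smul_eq_zero_of_fg_of_le_smul p
        (⊤ : Submodule A Q) Module.Finite.fg_top hQ
      refine ⟨r, fun h => hp.ne_top ?_, fun m => ?_⟩
      · rw [Ideal.eq_top_iff_one]
        have := p.sub_mem h hr
        rwa [sub_sub_cancel] at this
      · have := hr' (Submodule.Quotient.mk m) Submodule.mem_top
        rw [← Submodule.Quotient.mk_smul, Submodule.Quotient.mk_eq_zero] at this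
        exact this
    refine ⟨LocalizedModule.mk m₀ 1, ?_⟩
    rw [eq_top_iff]
    intro x _
    induction x using LocalizedModule.induction_on with
    | h m s =>
      obtain ⟨a, ha⟩ := Submodule.mem_span_singleton.mp (hr' m)
      rw [Submodule.mem_span_singleton]
      refine ⟨Localization.mk a (⟨r, hr⟩ * s), ?_⟩
      rw [LocalizedModule.mk_smul_mk, LocalizedModule.mk_eq]
      refine ⟨1, ?_⟩
      simp only [one_smul, Submonoid.smul_def, ha, Submonoid.coe_mul, smul_smul, mul_comm,
        Submonoid.coe_one, one_mul]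
  obtain ⟨b⟩ : Nonempty (Module.Basis (Fin (Module.finrank K (K ⊗[A] M))) K (K ⊗[A] M)) :=
    ⟨Module.finBasis K _⟩
  obtain ⟨m₁, hm₁⟩ := hsurj (b ⟨0, by omega⟩)
  obtain ⟨m₂, hm₂⟩ := hsurj (b ⟨1, hrank⟩)
  rw [TensorProduct.mk_apply] at hm₁ hm₂
  refine ⟨m₁, m₂, b.coord ⟨0, by omega⟩, b.coord ⟨1, hrank⟩, ?_, ?_, ?_⟩
  · rw [hm₁, Module.Basis.coord_apply, Module.Basis.repr_self, Finsupp.single_eq_same]
  · rw [hm₁, Module.Basis.coord_apply, Module.Basis.repr_self, Finsupp.single_eq_of_ne]
    simp
  · rw [hm₂, Module.Basis.coord_apply, Module.Basis.repr_self, Finsupp.single_eq_same]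

/-- Let A be a commutative ring, M a finitely generated A-module and d ≥ 0. If the degree-d piece
Γ^d_A(M) of Γ_A(M) is spanned over A by the divided powers γ_d(m), m ∈ M, then at each prime p of A
either k(p) has d or more elements, or the localisation M_p is a cyclic A_p-module. -/
theorem result {A M : Type u} [CommRing A] [AddCommGroup M]
    [Module A M] [Module.Finite A M] (d : ℕ)
    (h : Submodule.span A (Set.range (DividedPowerAlgebra.dp A d : M → DividedPowerAlgebra A M)) =
      PolLaw.gammaPiece A M d)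
    (p : PrimeSpectrum A) :
    (d : Cardinal) ≤ Cardinal.mk p.asIdeal.ResidueField ∨
      ∃ x : LocalizedModule p.asIdeal.primeCompl M, Submodule.span (Localization.AtPrime p.asIdeal) {x} = ⊤ := by
  by_contra hcon
  rw [not_or, not_le] at hcon
  obtain ⟨hlt, hc⟩ := hcon
  obtain ⟨p, hp⟩ := p
  have hfin : Finite p.ResidueField := by
    rw [← Cardinal.lt_aleph0_iff_finite]
    exact hlt.trans Cardinal.natCast_lt_aleph0
  have hinj : Function.Injective (algebraMap (A ⧸ p) p.ResidueField) :=
    p.injective_algebraMap_quotient_residueField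
  have hfin' : Finite (A ⧸ p) := Finite.of_injective _ hinj
  have hmax : p.IsMaximal := by
    rw [Ideal.Quotient.maximal_ideal_iff_isField_quotient]
    exact Finite.isField_of_domain (A ⧸ p)
  let _ : Field (A ⧸ p) := Ideal.Quotient.field p
  obtain ⟨m₁, m₂, X, Y, h1, h2, h3⟩ := exists_independent p (A ⧸ p) Ideal.Quotient.mk_surjective
    (Ideal.mk_ker) hc
  have hcard : Nat.card (A ⧸ p) < d := by
    have h4 : Nat.card (A ⧸ p) ≤ Nat.card p.ResidueField := Nat.card_le_card_of_injective _ hinj
    have h5 : Nat.card p.ResidueField < d := by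
      have := hlt
      rwa [← Nat.cast_card, Nat.cast_lt] at this
    omega
  obtain ⟨f, hf, hf'⟩ := exists_functional d hcard X Y (1 ⊗ₜ m₁) (1 ⊗ₜ m₂) h1 h2 h3
  let ρ : DividedPowerAlgebra A M →ₐ[A] DividedPowerAlgebra (A ⧸ p) ((A ⧸ p) ⊗[A] M) :=
    DividedPowerAlgebra.map (A ⧸ p) (TensorProduct.mk A (A ⧸ p) M 1)
  let F : DividedPowerAlgebra A M →ₗ[A] (A ⧸ p) := (f.restrictScalars A) ∘ₗ ρ.toLinearMap
  have hF : Submodule.span A (Set.range (DividedPowerAlgebra.dp A d : M → DividedPowerAlgebra A M)) ≤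
      LinearMap.ker F := by
    rw [Submodule.span_le]
    rintro _ ⟨m, rfl⟩
    show f (ρ (dp A d m)) = 0
    rw [DividedPowerAlgebra.map_apply_dp]
    exact hf _
  rw [h] at hF
  have hmem : dp A (d - 1) m₁ * dp A 1 m₂ ∈ PolLaw.gammaPiece A M d := by
    refine Submodule.subset_span ⟨2, ![d - 1, 1], ![m₁, m₂], ?_, ?_⟩
    · rw [Fin.sum_univ_two]
      simp
      omega
    · rw [Fin.prod_univ_two]
      simp
  have := hF hmem
  apply hf'
  have h6 : f (ρ (dp A (d - 1) m₁ * dp A 1 m₂)) = 0 := this
  rwa [map_mul, DividedPowerAlgebra.map_apply_dp, DividedPowerAlgebra.map_apply_dp] at h6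

end Groth.Agent.S13388
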