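import Groth.Statements.S13389
import Groth.Agent.ZeroCyc.K755.Vandermonde

set_option autoImplicit false
universe u
open ZeroCyc

namespace Groth.Agent.S13389

open Polynomial in
/-- Let P_d(T) = ∏_{0 ≤ i < j ≤ d} (T^i − T^j) − 1 ∈ ℤ[T]. If A is an algebra over ℤ[T]/(P_d), i.e.
receives a ring homomorphism from it, then for every A-module M the degree-d piece Γ^d_A(M) of the
divided power algebra Γ_A(M) is spanned over A by the d-th divided powers γ_d(m), m ∈ M. (The
published statement adds that consequently every ring has a finite faithfully flat extension,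
independent of M, over which this holds; that clause is not restated.) -/
theorem result {A M : Type u} [CommRing A] [AddCommGroup M]
    [Module A M] (d : ℕ)
    (φ : (ℤ[X] ⧸ Ideal.span {(∏ j ∈ Finset.range (d + 1), ∏ i ∈ Finset.range j,
        ((X : ℤ[X]) ^ i - X ^ j)) - 1}) →+* A) :
    Submodule.span A (Set.range (DividedPowerAlgebra.dp A d : M → DividedPowerAlgebra A M)) =
      PolLaw.gammaPiece A M d := by
  refine K755.Vandermonde.span_dp_eq_gammaPiece d fun p hp => Or.inl ?_
  set τ : A := φ (Ideal.Quotient.mk _ X) with hτ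
  have hprod : ∏ j ∈ Finset.range (d + 1), ∏ i ∈ Finset.range j, (τ ^ i - τ ^ j) = 1 := by
    have h0 : φ (Ideal.Quotient.mk _ ((∏ j ∈ Finset.range (d + 1), ∏ i ∈ Finset.range j,
        ((X : ℤ[X]) ^ i - X ^ j)) - 1)) = 0 := by
      rw [Ideal.Quotient.eq_zero_iff_mem.mpr (Ideal.subset_span (Set.mem_singleton _)), map_zero]
    rw [map_sub, map_sub, map_one, map_one, sub_eq_zero] at h0
    rw [← h0]
    simp only [map_prod, map_sub, map_pow, hτ]
  have hdiff : ∀ i j, i < j → j ≤ d → τ ^ i - τ ^ j ∉ p := by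
    intro i j hij hjd hmem
    apply p.ne_top_iff_one.mp hp.ne_top
    rw [← hprod]
    refine (hp.prod_mem_iff).mpr ⟨j, Finset.mem_range.mpr (by omega), ?_⟩
    exact (hp.prod_mem_iff).mpr ⟨i, Finset.mem_range.mpr hij, hmem⟩
  refine ⟨fun j => τ ^ ((j : ℕ) + 1), fun j hj => ?_, fun i j hij hmem => ?_⟩
  · refine hdiff (j + 1) (j + 2) (by omega) (by have := j.2; omega) ?_
    rw [pow_succ τ (j + 1)]
    exact p.sub_mem hj (p.mul_mem_right _ hj)
  · rcases lt_or_gt_of_ne (fun h => hij (Fin.ext h) : (i : ℕ) ≠ j) with h | h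
    · exact hdiff (i + 1) (j + 1) (by omega) (by have := j.2; omega) hmem
    · refine hdiff (j + 1) (i + 1) (by omega) (by have := i.2; omega) ?_
      rw [← neg_sub]
      exact p.neg_mem hmem

end Groth.Agent.S13389
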