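import Groth.Statements.S13392
import Groth.Agent.ZeroCyc.K755.SymGraded3
import Groth.Agent.S13387

set_option autoImplicit false
universe u
open scoped TensorProduct
open ZeroCyc

namespace Groth.Agent.S13392

/-- Let A be a commutative ring, B a graded A-algebra generated by its degree-one part B_1 with B_1 a
finitely generated A-module, and d ≥ 0. Inside the d-fold tensor power T^d_A(B) let C_k be the
A-span of the pure tensors b_1 ⊗ ⋯ ⊗ b_d with all b_i ∈ B_k, let C = Σ_k C_k (the A-subalgebra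
generated by these pure tensors; Proj C is the d-fold fibre product of X = Proj B over S = Spec A)
and let D = C ∩ TS^d_A(B) be its subring of symmetric tensors, graded by D_k = C_k ∩ TS^d_A(B), so
that Proj D is the symmetric product Sym^d(X/S). Provided each residue field of A has d or more
elements, Sym^d(X/S) is covered by the affine opens Sym^d(X_f/S) = D_+(f ⊗ ⋯ ⊗ f) with f ∈ B_1:
every t ∈ D_k with k ≥ 1 has some power t^m, m ≥ 1, in the ideal of D generated by the tensors f ⊗ ⋯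
⊗ f, f ∈ B_1. -/
theorem result {A B : Type u} [CommRing A] [CommRing B] [Algebra A B]
    (𝒜 : ℕ → Submodule A B) [GradedAlgebra 𝒜] (hgen : Algebra.adjoin A (𝒜 1 : Set B) = ⊤) (hfg : (𝒜 1).FG) (d : ℕ)
    (hres : ∀ p : PrimeSpectrum A, (d : Cardinal) ≤ Cardinal.mk p.asIdeal.ResidueField)
    (D : Subalgebra A (⨂[A] _ : Fin d, B))
    (hD : D = Algebra.adjoin A {t | ∃ (k : ℕ) (b : Fin d → B), (∀ i, b i ∈ 𝒜 k) ∧ t = PiTensorProduct.tprod A b}
      ⊓ SymTen.TS A B d)
    (k : ℕ) (hk : 0 < k) (t : ⨂[A] _ : Fin d, B) (htD : t ∈ D)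
    (htk : t ∈ Submodule.span A {s | ∃ b : Fin d → B, (∀ i, b i ∈ 𝒜 k) ∧ s = PiTensorProduct.tprod A b}) :
    ∃ m : ℕ, 0 < m ∧ (⟨t, htD⟩ : D) ^ m ∈
      Ideal.span {x : D | ∃ f : B, f ∈ 𝒜 1 ∧
        (x : ⨂[A] _ : Fin d, B) = PiTensorProduct.tprod A (fun _ : Fin d => f)} := by
  refine K755.SymGraded.exists_pow_mem 𝒜 d D hD _ ⟨t, htD⟩ ?_
  intro Q hQ hJ
  refine K755.SymGraded.mem_of_pureDeg_one 𝒜 d hgen Q ?_ k hk _ htk
  intro b hb
  by_contra hcon
  let p : Ideal A := Q.comap (algebraMap A (K755.SymGraded.Cal 𝒜 d))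
  have hp : p.IsPrime := Ideal.comap_isPrime _ _
  obtain ⟨r, hr⟩ : ∃ r : Fin d → A, ∀ i j, i ≠ j → r i - r j ∉ p := by
    obtain ⟨t, ht, htt⟩ := Groth.Agent.S13387.exists_elements p d (hres ⟨p, hp⟩)
    cases d with
    | zero => exact ⟨fun j => 0, fun j => j.elim0⟩
    | succ d =>
      refine ⟨Fin.cons 0 t, fun i j hij => ?_⟩
      refine Fin.cases ?_ (fun i => ?_) i (motive := fun i => i ≠ j → (Fin.cons 0 t : Fin (d + 1) → A) i -
        (Fin.cons 0 t : Fin (d + 1) → A) j ∉ p) hij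
      · refine Fin.cases (fun h => absurd rfl h) (fun j _ => ?_) j
        rw [Fin.cons_zero, Fin.cons_succ, zero_sub]
        exact fun h => ht j (by simpa using p.neg_mem h)
      · refine Fin.cases (fun _ => ?_) (fun j hij => ?_) j
        · rw [Fin.cons_zero, Fin.cons_succ, sub_zero]
          exact ht i
        · rw [Fin.cons_succ, Fin.cons_succ]
          exact htt i j fun h => hij (h ▸ rfl)
  obtain ⟨f, hf, h⟩ := K755.SymGraded.exists_degOne 𝒜 d Q b hb hcon r hr
  apply h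
  have hxD : PiTensorProduct.tprod A (fun _ : Fin d => f) ∈ D := by
    rw [hD]
    exact ⟨K755.SymGraded.pureDeg_subset 𝒜 d 1 ⟨_, fun _ => hf, rfl⟩, (SymTen.tpow A B d f).2⟩
  exact hJ ⟨_, hxD⟩ ⟨f, hf, rfl⟩

end Groth.Agent.S13392
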