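import Groth.Statements.S13395
import Groth.Agent.ZeroCyc.K755.ProdQuot

set_option autoImplicit false
universe u
open CategoryTheory CategoryTheory.Limits AlgebraicGeometry
open ZeroCyc

namespace Groth.Agent.S13395

/-- Scheme case. Let f : X → S and g : Z → S be separated morphisms and suppose that either both are
flat or every positive integer is invertible in Γ(S, O_S) (S is a scheme over the rationals). Let
(P, q_X) be a d-th symmetric product of X over S and (Q, q_Z) an e-th symmetric product of Z over S,
i.e. quotients of the fibre powers (X/S)^d and (Z/S)^e by the symmetric groups permuting the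
factors, and let S_d × S_e act on (X/S)^d ×_S (Z/S)^e factorwise. Then q_X × q_Z : (X/S)^d ×_S
(Z/S)^e → P ×_S Q is a quotient by S_d × S_e (affine, invariant, with sections of P ×_S Q the
invariant sections): the mixed symmetric product Sym^{d,e}(X, Z) is Sym^d(X/S) ×_S Sym^e(Z/S). (The
published statement is for separated algebraic spaces, where these quotients always exist, and adds
the identification with Γ^d(X/S) ×_S Γ^e(Z/S); this row is the scheme case with the two symmetric
products taken as hypotheses.) -/
theorem result {X Z S P Q : Scheme.{u}} (f : X ⟶ S) (g : Z ⟶ S)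
    [IsSeparated f] [IsSeparated g] (d e : ℕ)
    (h : (Flat f ∧ Flat g) ∨ ∀ n : ℕ, 0 < n → IsUnit ((n : ℕ) : Γ(S, ⊤)))
    (qX : SymProd.fibPow f d ⟶ P) (pP : P ⟶ S) (hqX : SymProd.IsSymProd f d qX pP)
    (qZ : SymProd.fibPow g e ⟶ Q) (pQ : Q ⟶ S) (hqZ : SymProd.IsSymProd g e qZ pQ)
    (ρ : ULift.{u} (Equiv.Perm (Fin d) × Equiv.Perm (Fin e)) →*
      Aut (pullback (WidePullback.base fun _ : Fin d => f) (WidePullback.base fun _ : Fin e => g)))
    (hρ : ∀ σ, (ρ σ).hom ≫ pullback.fst (WidePullback.base fun _ : Fin d => f) (WidePullback.base fun _ : Fin e => g) =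
        pullback.fst (WidePullback.base fun _ : Fin d => f) (WidePullback.base fun _ : Fin e => g) ≫
          SymProd.permHom f d σ.down.1 ∧
      (ρ σ).hom ≫ pullback.snd (WidePullback.base fun _ : Fin d => f) (WidePullback.base fun _ : Fin e => g) =
        pullback.snd (WidePullback.base fun _ : Fin d => f) (WidePullback.base fun _ : Fin e => g) ≫
          SymProd.permHom g e σ.down.2) :
    SGA1.IsQuot ρ (pullback.map (WidePullback.base fun _ : Fin d => f) (WidePullback.base fun _ : Fin e => g) pP pQ
      qX qZ (𝟙 S) ((Category.comp_id _).trans hqX.over.symm) ((Category.comp_id _).trans hqZ.over.symm)) := by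
  have hoX : qX ≫ pP = (WidePullback.base fun _ : Fin d => f) := hqX.over
  have hoZ : qZ ≫ pQ = (WidePullback.base fun _ : Fin e => g) := hqZ.over
  have hcard : ∀ n : ℕ, Nat.card (ULift.{u} (Equiv.Perm (Fin n))) = n.factorial := by
    intro n
    rw [Nat.card_eq_fintype_card, Fintype.card_ulift, Fintype.card_perm, Fintype.card_fin]
  refine K755.ProdQuot.isQuot_prod hqX.isQuot hqZ.isQuot hoX hoZ ?_ ρ
    (MulEquiv.ulift.symm.toMonoidHom.comp ((MonoidHom.inl _ _).comp MulEquiv.ulift.toMonoidHom))
    (fun h => ULift.up (1, h.down)) ?_ ?_ ?_ ?_ _ ?_ ?_ ?_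
  · rcases h with ⟨h1, h2⟩ | h
    · exact Or.inl ⟨K755.SymFlat.flat_bs g, K755.SymFlat.flat_of_isSymProd f qX pP hqX⟩
    · right
      rw [hcard, hcard]
      exact ⟨h _ (Nat.factorial_pos _), h _ (Nat.factorial_pos _)⟩
  · intro σ
    exact (hρ _).1
  · intro σ
    refine (hρ _).2.trans ?_
    change _ ≫ SymProd.permHom g e 1 = _
    rw [SymProd.permHom_one, Category.comp_id]
  · intro σ
    refine (hρ _).1.trans ?_
    change _ ≫ SymProd.permHom f d 1 = _
    rw [SymProd.permHom_one, Category.comp_id]
  · intro σ
    exact (hρ _).2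
  · exact pullback.lift_fst _ _ _
  · exact pullback.lift_snd _ _ _
  · intro k
    apply pullback.hom_ext
    · rw [Category.assoc, pullback.lift_fst, ← Category.assoc, (hρ k).1, Category.assoc]
      congr 1
      exact hqX.isQuot.inv (ULift.up k.down.1)
    · rw [Category.assoc, pullback.lift_snd, ← Category.assoc, (hρ k).2, Category.assoc]
      congr 1
      exact hqZ.isQuot.inv (ULift.up k.down.2)

end Groth.Agent.S13395
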