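import Groth.Statements.S13405
import Groth.Agent.Hopf.K502.LocPres

set_option autoImplicit false
universe u v
open Hopf
open scoped TensorProduct

namespace Groth.Agent.S13405

/-- Let R be a complete discrete valuation ring whose residue field is perfect of characteristic p > 0,
and let G = Spec A be a connected finite flat group scheme over R: A is a commutative Hopf algebra
over R, finite and flat as an R-module, and a local ring. Then for some n there are natural numbers
e_1, ..., e_n and power series f_1, ..., f_n in R[[x_1, ..., x_n]] such that A is isomorphic as an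
R-algebra to R[[x_1, ..., x_n]]/(f_1, ..., f_n) and each f_i is x_i ^ (p ^ e_i) plus a polynomial
all of whose coefficients lie in the maximal ideal of R and whose degree in x_i is less than p ^
e_i. -/
theorem result (R : Type u) [CommRing R] [IsDomain R]
    [IsDiscreteValuationRing R] [IsAdicComplete (IsLocalRing.maximalIdeal R) R]
    (p : ℕ) [Fact p.Prime] [CharP (IsLocalRing.ResidueField R) p] [PerfectField (IsLocalRing.ResidueField R)]
    (A : Type v) [CommRing A] [HopfAlgebra R A] [Module.Finite R A] [Module.Flat R A] [IsLocalRing A] :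
    ∃ (n : ℕ) (e : Fin n → ℕ) (g : Fin n → MvPolynomial (Fin n) R),
      (∀ i, (∀ d, (g i).coeff d ∈ IsLocalRing.maximalIdeal R) ∧ (g i).degreeOf i < p ^ e i) ∧
      Nonempty (A ≃ₐ[R] (MvPowerSeries (Fin n) R ⧸
        Ideal.span (Set.range fun i => (MvPowerSeries.X i : MvPowerSeries (Fin n) R) ^ p ^ e i + ↑(g i)))) := by
  let k := IsLocalRing.ResidueField R
  have hnt : Nontrivial (k ⊗[R] A) := (Bialgebra.counitAlgHom k (k ⊗[R] A) : k ⊗[R] A →+* k).domain_nontrivial
  have hs : Function.Surjective (Algebra.TensorProduct.includeRight : A →ₐ[R] k ⊗[R] A) := by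
    intro z
    induction z using TensorProduct.induction_on with
    | zero => exact ⟨0, map_zero _⟩
    | tmul c a =>
      obtain ⟨r, rfl⟩ := IsLocalRing.residue_surjective c
      refine ⟨r • a, ?_⟩
      change (1 : k) ⊗ₜ[R] (r • a) = _
      rw [← TensorProduct.smul_tmul]
      congr 1
      rw [Algebra.smul_def, mul_one]
      rfl
    | add x y hx hy =>
      obtain ⟨a, rfl⟩ := hx
      obtain ⟨b, rfl⟩ := hy
      exact ⟨a + b, map_add _ _ _⟩
  have hloc : IsLocalRing (k ⊗[R] A) := IsLocalRing.of_surjective'
    (Algebra.TensorProduct.includeRight : A →ₐ[R] k ⊗[R] A).toRingHom hs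
  have hperf : PerfectRing k p := PerfectField.toPerfectRing p
  obtain ⟨n, e, -, ⟨E⟩⟩ := K187.Trunc.exists_equiv (K := k) p (k ⊗[R] A) K187.LocFin.isNilpotent_augIdeal
  obtain ⟨π, hπ⟩ := IsDiscreteValuationRing.exists_irreducible R
  obtain ⟨g, hg, hE⟩ := K502.LocPres.exists_pres R hπ.maximalIdeal_eq A (fun i => p ^ e i)
    (fun i => pow_pos (Fact.out : p.Prime).pos _) E
  exact ⟨n, e, g, hg, hE⟩

end Groth.Agent.S13405
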