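import Groth.Statements.S13406
import Groth.Agent.Font.K774.Global
import Groth.Agent.Font.K774.HopfPoints

set_option autoImplicit false
universe u
open Font

namespace Groth.Agent.S13406

open IsDiscreteValuationRing IsLocalRing in
theorem lifting
    (O : Type u) [CommRing O] [IsDomain O] [IsDiscreteValuationRing O]
    (p : ℕ) (hp : p.Prime)
    (eK : ℕ) (heK : Ideal.span {(p : O)} = IsLocalRing.maximalIdeal O ^ eK)
    (A : Type u) [CommRing A] [HopfAlgebra O A] [Module.Finite O A] [Module.Projective O A] [Coalgebra.IsCocomm O A]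
    (n : ℕ)
    (hkill : SGA3b.powConv O A (p ^ n) = (Algebra.ofId O A).comp (Bialgebra.counitAlgHom O A)) :
    K774.Points.Lifting O A p (n * eK) eK := by
  intro S _ _ _ _ _ _ _ ϖ hϖ eS heS t ht
  obtain ⟨π, hπ⟩ := exists_irreducible S
  have hval : addVal S (p : S) = (eK * eS : ℕ) := by
    rw [K774.Val.maximalIdeal_pow_eq_span eK ϖ hϖ, Ideal.span_singleton_eq_span_singleton] at heK
    obtain ⟨c, hc⟩ := heK.symm
    have h1 : (p : S) = (c.map (algebraMap O S : O →* S) : S) * (algebraMap O S ϖ) ^ eK := by
      rw [← map_natCast (algebraMap O S) p, ← hc, map_mul, map_pow, mul_comm]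
      rfl
    rw [h1, addVal_mul, addVal_eq_zero_of_unit, addVal_pow, heS, zero_add, nsmul_eq_mul]
    push_cast
    rfl
  have hp0 : (p : S) ≠ 0 := by
    intro h
    rw [h, addVal_zero] at hval
    exact ENat.top_ne_natCast _ hval
  obtain ⟨w, u, hu⟩ := eq_unit_mul_pow_irreducible hp0 hπ
  have hw : w = eK * eS := by
    rw [hu, addVal_def' u hπ w] at hval
    exact_mod_cast hval
  subst hw
  have hcomp : IsAdicComplete (Ideal.span {π}) S := by
    rw [← hπ.maximalIdeal_eq]
    infer_instance
  have hmem : ∀ (k : ℕ) (x : S), x ∈ maximalIdeal S ^ k ↔ π ^ k ∣ x := by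
    intro k x
    rw [K774.Val.maximalIdeal_pow_eq_span k π hπ, Ideal.mem_span_singleton]
  constructor
  · intro χ χ' h
    exact K774.HopfPoints.unique_points O A π hπ.ne_zero p hp _ u hu n hkill ht χ χ' (fun a => (hmem t _).1 (h a))
  · intro ψ
    have hexp : t + n * eK * eS = t + n * (eK * eS) := by rw [mul_assoc]
    obtain ⟨χ, hχ⟩ := Module.projective_lifting_property
      (Ideal.Quotient.mkₐ O (maximalIdeal S ^ (t + n * eK * eS))).toLinearMap ψ.toLinearMap
      (Ideal.Quotient.mkₐ_surjective O _)
    have hχ' : ∀ a, Ideal.Quotient.mk (maximalIdeal S ^ (t + n * eK * eS)) (χ a) = ψ a := fun a => DFunLike.congr_fun hχ a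
    obtain ⟨χ', h'⟩ := K774.HopfPoints.exists_point_lift O A π hπ.ne_zero hπ.not_isUnit p hp _ u hu n hkill ht χ (by
      rw [← hexp, ← hmem, ← Ideal.Quotient.eq, hχ', map_one, map_one]) (fun a b => by
      rw [← hexp, ← hmem, ← Ideal.Quotient.eq, hχ', map_mul, map_mul, hχ', hχ'])
    refine ⟨χ', fun a s hs => ?_⟩
    have h1 : s - χ a ∈ maximalIdeal S ^ t := by
      rw [← hχ', Ideal.Quotient.eq] at hs
      exact Ideal.pow_le_pow_right (by omega) hs
    have h2 : χ' a - χ a ∈ maximalIdeal S ^ t := (hmem t _).2 (h' a)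
    have := Ideal.sub_mem _ h1 h2
    rwa [sub_sub_sub_cancel_right] at this

/-- Let K be a finite extension of ℚ_p with ring of integers O (a complete discrete valuation ring of
characteristic zero with finite residue field of characteristic p) and absolute ramification index
e, so that pO = m^e. Let Γ = Spec A be a finite flat commutative group scheme over O killed by p^n
with n ≥ 1: A is a finite flat commutative and cocommutative Hopf algebra over O whose p^n-th power
endomorphism factors through the counit. Let L ⊆ K̄ be the field generated over K = Frac O by the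
coordinates of all K̄-points of Γ (the images of all O-algebra maps A → K̄), O_L the integral
closure of O in L, P its maximal ideal and e_{L/K} the ramification index. Then, writing the
different of O_L over O as P^d: (1) d < e_{L/K} · e · (n + 1/(p − 1)), i.e. v(𝔇_{L/K}) < e (n + 1/(p
− 1)) for the valuation v with v(K^×) = ℤ; and (2) for every K-automorphism σ ≠ 1 of L and every j
such that σ acts trivially on O_L/P^j one has j + d ≤ e_{L/K} · e · (n + 1/(p − 1)) — this is the
statement that the upper-numbering ramification groups G^{(u)} of Gal(L/K) (numbered so that G^{(u)}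
is the group usually written G^{u−1}) are trivial for u > e (n + 1/(p − 1)), rewritten through the
identity u_{L/K} = i_{L/K} + v(𝔇_{L/K}) between the largest u with G^{(u)} ≠ 1, the invariant
i_{L/K} = sup_{σ ≠ 1} min_{x ∈ O_L} v(σx − x) and the valuation of the different. -/
theorem result
    (O : Type u) [CommRing O] [IsDomain O] [IsDiscreteValuationRing O]
    [IsAdicComplete (IsLocalRing.maximalIdeal O) O] [CharZero O] [Finite (IsLocalRing.ResidueField O)]
    (p : ℕ) [Fact p.Prime] (hp : (p : O) ∈ IsLocalRing.maximalIdeal O)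
    (eK : ℕ) (heK : Ideal.span {(p : O)} = IsLocalRing.maximalIdeal O ^ eK)
    (A : Type u) [CommRing A] [HopfAlgebra O A] [Module.Finite O A] [Module.Flat O A] [Coalgebra.IsCocomm O A]
    (n : ℕ) (hn : 1 ≤ n)
    (hkill : SGA3b.powConv O A (p ^ n) = (Algebra.ofId O A).comp (Bialgebra.counitAlgHom O A))
    (L : IntermediateField (FractionRing O) (AlgebraicClosure (FractionRing O)))
    (hL : L = IntermediateField.adjoin (FractionRing O)
      (⋃ φ : A →ₐ[O] AlgebraicClosure (FractionRing O), Set.range φ))
    [FiniteDimensional (FractionRing O) L] [Algebra.IsSeparable (FractionRing O) L]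
    [Module.IsTorsionFree O (integralClosure O L)] (P : Ideal (integralClosure O L)) [P.IsMaximal] :
    ∃ d : ℕ, differentIdeal O (integralClosure O L) = P ^ d ∧
      (d : ℚ) < (P.ramificationIdx O : ℚ) * eK * (n + 1 / ((p : ℚ) - 1)) ∧
      ∀ σ : L ≃ₐ[FractionRing O] L, σ ≠ AlgEquiv.refl → ∀ j : ℕ,
        (∀ x : (integralClosure O L), ∃ y ∈ P ^ j, algebraMap (integralClosure O L) L y = σ (algebraMap (integralClosure O L) L x) - algebraMap (integralClosure O L) L x) →
          (j : ℚ) + d ≤ (P.ramificationIdx O : ℚ) * eK * (n + 1 / ((p : ℚ) - 1)) := by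
  have hpr : p.Prime := Fact.out
  have hp2 := hpr.two_le
  have hproj : Module.Projective O A := inferInstance
  have hfr : Finite (IsLocalRing.ResidueField O) := inferInstance
  have heK1 : 1 ≤ eK := by
    rcases Nat.eq_zero_or_pos eK with h | h
    · exfalso
      rw [h, pow_zero, Ideal.one_eq_top, Ideal.span_singleton_eq_top] at heK
      exact (IsLocalRing.mem_maximalIdeal _).1 hp heK
    · exact h
  have hva : 1 ≤ n * eK := Nat.mul_pos hn heK1
  have hp1 : (0 : ℚ) < (p : ℚ) - 1 := by
    have : (2 : ℚ) ≤ p := by exact_mod_cast hp2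
    linarith
  have hB : ((P.ramificationIdx O : ℚ) * eK * (n + 1 / ((p : ℚ) - 1))) =
      (P.ramificationIdx O : ℚ) * (((n * eK : ℕ) : ℚ) + eK / ((p : ℚ) - 1)) := by
    push_cast
    field_simp
  obtain ⟨d, hd, h⟩ := K774.Global.bound O hp2 (lifting O p hpr eK heK A n hkill) L hL P (fun _ => hva)
  have hram : 1 ≤ P.ramificationIdx O := by
    have hH : HenselianLocalRing O := K774.Global.henselian O
    have hcK : CharZero (FractionRing O) := charZero_of_injective_algebraMap (IsFractionRing.injective O (FractionRing O))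
    obtain ⟨-, -, -, hfin, -, -⟩ := Groth.Agent.Etbc.H205.HensExt.exists_integralClosure O (FractionRing O) L
    exact Ideal.ramificationIdx_pos P O
  have hpos : (0 : ℚ) < (P.ramificationIdx O : ℚ) * (((n * eK : ℕ) : ℚ) + eK / ((p : ℚ) - 1)) := by
    have h1 : (1 : ℚ) ≤ P.ramificationIdx O := by exact_mod_cast hram
    have h2 : (1 : ℚ) ≤ ((n * eK : ℕ) : ℚ) := by exact_mod_cast hva
    have h3 : (0 : ℚ) ≤ eK / ((p : ℚ) - 1) := by positivity
    nlinarith
  refine ⟨d, hd, ?_, ?_⟩
  · rw [hB]
    rcases h with ⟨h1, -⟩ | ⟨h1, -⟩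
    · rw [h1, Nat.cast_zero]
      exact hpos
    · linarith
  · intro σ hσ j hj
    rw [hB]
    rcases h with ⟨h1, h2⟩ | ⟨-, h2⟩
    · rw [h1, h2 σ hσ j hj]
      simpa using hpos.le
    · exact h2 σ hσ j hj

end Groth.Agent.S13406
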