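import Groth.Statements.S13410
import Groth.Agent.CombGraph.K774.Cycle
import Mathlib.Algebra.Module.Basic

set_option autoImplicit false
universe u v
open CombGraph

namespace Groth.Agent.S13410

/-- Let `A` be an abelian group and `G` a finite connected simple graph on `V`, bipartite for a
two-colouring `c`. Consider the additive group of labellings `x : Sym2 V → A` vanishing off the edge
set and with `∑_{e ∋ v} x e = 0` at every vertex `v`. If `e₀` is an edge whose deletion leaves `G`
connected, then evaluation at `e₀` restricted to this group is surjective and split: there is an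
additive map `φ : A → (Sym2 V → A)` with values in this group and with `φ a e₀ = a` for all `a`.
(The published statement concerns finite bipartite graphs in general; this row treats simple
graphs.) -/
theorem result {V : Type u} [Fintype V]
    [DecidableEq V] (G : SimpleGraph V) [DecidableRel G.Adj] (hconn : G.Connected) (c : V → Bool)
    (hbip : ∀ v w : V, G.Adj v w → c v ≠ c w) (A : Type v) [AddCommGroup A] (e₀ : Sym2 V)
    (he₀ : e₀ ∈ G.edgeSet) (hdel : (G.deleteEdges {e₀}).Connected) :
    ∃ φ : A →+ (Sym2 V → A),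
      (∀ a : A, (∀ e : Sym2 V, e ∉ G.edgeSet → φ a e = 0) ∧
        ∀ v : V, ∑ e ∈ G.incidenceFinset v, φ a e = 0) ∧
      ∀ a : A, φ a e₀ = a := by
  classical
  have hle : G.deleteEdges {e₀} ≤ G := SimpleGraph.deleteEdges_le _
  have hbip' : ∀ v w : V, (G.deleteEdges {e₀}).Adj v w → c v ≠ c w := fun v w h => hbip v w (hle h)
  revert he₀ hdel hle hbip'
  refine Sym2.ind (fun u w => ?_) e₀
  intro he₀ hdel hle hbip'
  rw [SimpleGraph.mem_edgeSet] at he₀
  have hs : ∑ v, K774.Cycle.sg c v • (-(Pi.single u 1 + Pi.single w 1) : V → ℤ) v = 0 := by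
    simp only [Pi.neg_apply, Pi.add_apply, smul_neg, smul_add, Finset.sum_neg_distrib, Finset.sum_add_distrib]
    rw [Finset.sum_eq_single u, Finset.sum_eq_single w]
    · simp [K774.Cycle.sg_adj hbip he₀]
    · intro b _ hb; simp [Pi.single_eq_of_ne hb]
    · simp
    · intro b _ hb; simp [Pi.single_eq_of_ne hb]
    · simp
  obtain ⟨x, hx⟩ := K774.Cycle.range_bd hdel hbip' ℤ _ hs
  have hx' := K774.Cycle.bd_restrict hle ℤ x
  let y : Sym2 V → ℤ := (fun e => if e ∈ (G.deleteEdges {s(u, w)}).edgeSet then x e else 0) + Pi.single s(u, w) 1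
  have hy : K774.Cycle.bd G ℤ y = 0 := by
    rw [map_add, hx', hx, K774.Cycle.bd_single G ℤ he₀]
    simp
  have hy0 : y s(u, w) = 1 := by
    simp [y]
  have hyo : ∀ e, e ∉ G.edgeSet → y e = 0 := by
    intro e he
    have h1 : e ∉ (G.deleteEdges {s(u, w)}).edgeSet := fun h => he (SimpleGraph.edgeSet_subset_edgeSet.2 hle h)
    have h2 : e ≠ s(u, w) := by
      rintro rfl
      exact he he₀
    simp only [y, Pi.add_apply, if_neg h1, Pi.single_eq_of_ne h2, add_zero]
  refine ⟨{ toFun := fun a e => y e • a, map_zero' := by ext; simp, map_add' := fun a b => by ext; simp [smul_add] }, ?_, ?_⟩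
  · intro a
    refine ⟨fun e he => ?_, fun v => ?_⟩
    · simp [hyo e he]
    · show ∑ e ∈ G.incidenceFinset v, y e • a = 0
      rw [← Finset.sum_smul, ← K774.Cycle.bd_apply, hy]
      simp
  · intro a
    simp [hy0]

end Groth.Agent.S13410
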