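import Groth.Statements.S13411
import Groth.Agent.CombGraph.K774.Cycle
import Groth.Agent.CombGraph.K774.Lin

set_option autoImplicit false
universe u v
open CombGraph

namespace Groth.Agent.S13411

/-- Let `A` be an abelian group and `G` a finite connected simple graph on `V`, bipartite for a
two-colouring `c`, with cyclomatic number `n` (number of edges minus number of vertices plus one).
Then the additive group of labellings `x : Sym2 V → A` vanishing off the edge set and with `∑_{e ∋
v} x e = 0` at every vertex `v` is isomorphic to `A^n`: it is the range of an injective additive map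
`(Fin n → A) → (Sym2 V → A)`. (The published statement concerns finite bipartite graphs in general;
this row treats simple graphs.) -/
theorem result {V : Type u} [Fintype V]
    [DecidableEq V] (G : SimpleGraph V) [DecidableRel G.Adj] (hconn : G.Connected) (c : V → Bool)
    (hbip : ∀ v w : V, G.Adj v w → c v ≠ c w) (A : Type v) [AddCommGroup A] (n : ℕ)
    (hn : G.edgeFinset.card + 1 = Fintype.card V + n) :
    ∃ f : (Fin n → A) →+ (Sym2 V → A), Function.Injective f ∧
      Set.range f = {x : Sym2 V → A | (∀ e : Sym2 V, e ∉ G.edgeSet → x e = 0) ∧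
        ∀ v : V, ∑ e ∈ G.incidenceFinset v, x e = 0} := by
  classical
  obtain ⟨v₀⟩ := hconn.nonempty
  let E := {e : Sym2 V // e ∈ G.edgeFinset}
  -- extension by zero
  let ex (B : Type v) [AddCommGroup B] (x : E → B) : Sym2 V → B :=
    fun e => if h : e ∈ G.edgeFinset then x ⟨e, h⟩ else 0
  have hexc : ∀ (x : E → A) (e : E), ex A x e.1 = x e := fun x e => by
    simp only [ex]
    rw [dif_pos e.2]
  let D : (E → ℤ) →ₗ[ℤ] (V → ℤ) :=
    { toFun := fun x v => ∑ e : E, if v ∈ e.1 then x e else 0
      map_add' := fun x y => by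
        ext v
        simp only [Pi.add_apply, ← Finset.sum_add_distrib]
        refine Finset.sum_congr rfl fun e _ => ?_
        split_ifs <;> simp
      map_smul' := fun m x => by
        ext v
        simp only [Pi.smul_apply, RingHom.id_apply, Finset.smul_sum]
        refine Finset.sum_congr rfl fun e _ => ?_
        split_ifs <;> simp }
  have hDapp : ∀ (B : Type v) [AddCommGroup B] (x : E → B) (v : V),
      K774.Lin.app D B x v = ∑ e : E, if v ∈ e.1 then x e else 0 := fun B _ x v => by
    rw [K774.Lin.app_apply]
    refine Finset.sum_congr rfl fun e _ => ?_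
    have : D (Pi.single e 1) v = if v ∈ e.1 then 1 else 0 := by
      show (∑ e' : E, if v ∈ e'.1 then (Pi.single e 1 : E → ℤ) e' else 0) = _
      rw [Finset.sum_eq_single e]
      · simp
      · intro b _ hb
        simp [Pi.single_eq_of_ne hb]
      · simp
    rw [this]
    split_ifs <;> simp
  have hsumE : ∀ (B : Type v) [AddCommGroup B] (y : Sym2 V → B) (v : V),
      (∑ e : E, if v ∈ e.1 then y e.1 else 0) = ∑ e ∈ G.incidenceFinset v, y e := fun B _ y v => by
    rw [SimpleGraph.incidenceFinset_eq_filter, Finset.sum_filter]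
    rw [← Finset.sum_coe_sort G.edgeFinset (fun e => if v ∈ e then y e else 0)]
  have hsumE0 : ∀ (y : Sym2 V → ℤ) (v : V),
      (∑ e : E, if v ∈ e.1 then y e.1 else 0) = ∑ e ∈ G.incidenceFinset v, y e := fun y v => by
    rw [SimpleGraph.incidenceFinset_eq_filter, Finset.sum_filter]
    rw [← Finset.sum_coe_sort G.edgeFinset (fun e => if v ∈ e then y e else 0)]
  let ε : (V → ℤ) →ₗ[ℤ] ℤ :=
    { toFun := fun a => ∑ v, K774.Cycle.sg c v • a v
      map_add' := fun x y => by simp [mul_add, Finset.sum_add_distrib]
      map_smul' := fun m x => by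
        simp only [Pi.smul_apply, smul_eq_mul, RingHom.id_apply, Finset.mul_sum]
        refine Finset.sum_congr rfl fun v _ => by ring }
  have hεs : Function.Surjective ε := by
    intro z
    refine ⟨Pi.single v₀ (K774.Cycle.sg c v₀ • z), ?_⟩
    show ∑ v, K774.Cycle.sg c v • (Pi.single v₀ (K774.Cycle.sg c v₀ • z) : V → ℤ) v = z
    rw [Finset.sum_eq_single v₀]
    · rw [Pi.single_eq_same, K774.Cycle.sg_smul_smul]
    · intro b _ hb
      simp [Pi.single_eq_of_ne hb]
    · simp
  have hDε : LinearMap.range D = LinearMap.ker ε := by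
    apply le_antisymm
    · rintro _ ⟨x, rfl⟩
      rw [LinearMap.mem_ker]
      have h1 : D x = K774.Cycle.bd G ℤ (fun e => if h : e ∈ G.edgeFinset then x ⟨e, h⟩ else 0) := by
        ext v
        rw [K774.Cycle.bd_apply, ← hsumE0]
        show (∑ e : E, if v ∈ e.1 then x e else 0) = _
        refine Finset.sum_congr rfl fun e _ => ?_
        rw [dif_pos e.2]
      rw [h1]
      exact K774.Cycle.sum_sg_bd hbip ℤ _
    · intro a ha
      rw [LinearMap.mem_ker] at ha
      obtain ⟨y, hy⟩ := K774.Cycle.range_bd hconn hbip ℤ a ha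
      refine ⟨fun e => y e.1, ?_⟩
      ext v
      rw [← hy, K774.Cycle.bd_apply, ← hsumE0]
      rfl
  have hcard : Fintype.card E + 1 = Fintype.card V + n := by
    rw [← hn, Fintype.card_coe]
  obtain ⟨b, r, σ, h1, h2, h3⟩ := K774.Lin.exists_split D ε hεs hDε n hcard
  refine ⟨{ toFun := fun a => ex A (K774.Lin.app b A a), map_zero' := ?_, map_add' := ?_ }, ?_, ?_⟩
  · ext e; simp [ex]
  · intro x y; ext e
    simp only [ex, map_add, Pi.add_apply]
    split_ifs <;> simp
  · intro x y hxy
    have h4 : K774.Lin.app b A x = K774.Lin.app b A y := by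
      ext e
      have h5 := congrFun hxy e.1
      change ex A (K774.Lin.app b A x) e.1 = ex A (K774.Lin.app b A y) e.1 at h5
      rwa [hexc, hexc] at h5
    have h6 := congrArg (K774.Lin.app r A) h4
    rwa [K774.Lin.app_comp, K774.Lin.app_comp, h1, K774.Lin.app_id, K774.Lin.app_id] at h6
  · ext x
    simp only [Set.mem_range, Set.mem_setOf_eq]
    constructor
    · rintro ⟨a, rfl⟩
      change (∀ e : Sym2 V, e ∉ G.edgeSet → ex A (K774.Lin.app b A a) e = 0) ∧
        ∀ v : V, ∑ e ∈ G.incidenceFinset v, ex A (K774.Lin.app b A a) e = 0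
      refine ⟨fun e he => ?_, fun v => ?_⟩
      · simp only [ex]
        rw [dif_neg]
        rwa [SimpleGraph.mem_edgeFinset]
      · rw [← hsumE]
        simp only [hexc]
        rw [← hDapp, K774.Lin.app_comp, h2, K774.Lin.app_zero]
        rfl
    · rintro ⟨hx1, hx2⟩
      refine ⟨K774.Lin.app r A (fun e => x e.1), ?_⟩
      change ex A (K774.Lin.app b A (K774.Lin.app r A (fun e => x e.1))) = x
      have h4 : K774.Lin.app b A (K774.Lin.app r A (fun e => x e.1)) = fun e => x e.1 := by
        have h5 := K774.Lin.app_id A (fun e : E => x e.1)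
        rw [← h3, K774.Lin.app_add, ← K774.Lin.app_comp, ← K774.Lin.app_comp] at h5
        have h6 : K774.Lin.app D A (fun e : E => x e.1) = 0 := by
          ext v
          rw [hDapp, hsumE, hx2]
          rfl
        rw [h6, map_zero, add_zero] at h5
        exact h5
      rw [h4]
      ext e
      simp only [ex]
      split_ifs with h
      · rfl
      · exact (hx1 e (by rwa [SimpleGraph.mem_edgeFinset] at h)).symm

end Groth.Agent.S13411
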