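import Groth.Statements.S13416
import Groth.Agent.HLoc2.K775.Supp
import Groth.Agent.HLoc2.K775.Hyp
import Groth.Agent.HLoc2.K775.MonoConst
import Groth.Agent.Sga4B.Pure
import Groth.Agent.Etcore.PrimeFilt

set_option autoImplicit false
universe u
open CategoryTheory CategoryTheory.Limits AlgebraicGeometry
open HLoc2

namespace Groth.Agent.S13416

/-- Let `k` be an algebraically closed field of characteristic zero, `R₀` an excellent normal henselian
local `k`-domain of Krull dimension two with residue field `k`, `K` a finite extension of its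
fraction field, `O_K` the integral closure of `R₀` in `K`, and `X` the open subscheme of `Spec O_K`
of non-closed points; let `U` be a nonempty open subscheme of `X`. Assume, as holds in this
situation, that `K` has etale cohomological dimension at most 2 and that the residue field of every
closed point of `U` has cohomological dimension at most 1. (The published text asserts both facts
for this situation without proof; this row carries them as hypotheses.) Let `F` be a constructible
abelian etale sheaf on `U` with `mF = 0` for some `m ≥ 1`, `V` a nonempty open of `U`, and `π : U_n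
→ U` a finite surjective morphism from an integral scheme with integrally closed local rings (for
instance the normalisation of `U` in a finite extension of `K`, which is the morphism the published
statement uses) that is etale over `V` and such that the pullback of `F` to `π⁻¹(V)` is a constant
sheaf with finite value group. Then there exist a finite abelian group `M` with `mM = 0`, a
constructible abelian etale sheaf `F_f` on `U` with finite support, and a monomorphism `F →
π_*(M_{U_n}) ⊕ F_f` of abelian etale sheaves on `U`. -/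
theorem result
    (k : Type u) [Field k] [IsAlgClosed k] [CharZero k]
    (R₀ : Type u) [CommRing R₀] [IsDomain R₀] [HenselianLocalRing R₀] [Algebra k R₀]
    [IsIntegrallyClosed R₀] (hexc : EGA4.IsExcellent R₀) (hdim : ringKrullDim R₀ = 2)
    (hres : Function.Surjective (fun a : k => IsLocalRing.residue R₀ (algebraMap k R₀ a)))
    (K : Type u) [Field K] [Algebra R₀ K] [Algebra (FractionRing R₀) K]
    [IsScalarTower R₀ (FractionRing R₀) K] [FiniteDimensional (FractionRing R₀) K]
    (U : (Spec (CommRingCat.of ↥(integralClosure R₀ K))).Opens)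
    (hU : ∀ x : ↥(Spec (CommRingCat.of ↥(integralClosure R₀ K))), x ∈ U →
      ¬ IsClosed ({x} : Set ↥(Spec (CommRingCat.of ↥(integralClosure R₀ K)))))
    (hne : Nonempty ↥(↑U : Scheme.{u}))
    (hcdK : EtCoh.CohDimLE (Spec (CommRingCat.of K)) 2)
    (hcdv : ∀ x : ↥(↑U : Scheme.{u}), IsClosed ({x} : Set ↥(↑U : Scheme.{u})) →
      EtCoh.CohDimLE (Spec ((↑U : Scheme.{u}).residueField x)) 1)
    (F : EtCoh.Ab (↑U : Scheme.{u})) (hF : EtPBC.IsConstructible F) (m : ℕ) (hm : 1 ≤ m)
    (hmF : EtCoh.KilledBy m F) (V : (↑U : Scheme.{u}).Opens) (hV : Nonempty ↥(↑V : Scheme.{u}))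
    (Un : Scheme.{u}) [IsIntegral Un] (hnorm : ∀ y : ↥Un, IsIntegrallyClosed ↑(Un.presheaf.stalk y))
    (π : Un ⟶ (↑U : Scheme.{u})) [IsFinite π] [Surjective π] [Etale (π ∣_ V)] (M₀ : Type) [AddCommGroup M₀] [Finite M₀]
    (hconst : Nonempty ((EtCoh.pull (π ⁻¹ᵁ V).ι).obj ((EtCoh.pull π).obj F) ≅
      EtCoh.const (↑(π ⁻¹ᵁ V) : Scheme.{u}) M₀)) :
    ∃ (M : Type) (_ : AddCommGroup M) (_ : Finite M), (∀ x : M, m • x = 0) ∧
      ∃ (Ff : EtCoh.Ab (↑U : Scheme.{u})), EtPBC.IsConstructible Ff ∧ (EtPBC.supp Ff).Finite ∧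
        ∃ ι : F ⟶ (EtCoh.push π).obj (EtCoh.const Un M) ⊞ Ff, Mono ι := by
  have h := K775.Setup.ded k R₀ hexc hdim K U hU hne
  have := h.noeth
  have hVn : (V : Set ↥(↑U : Scheme.{u})).Nonempty := by
    obtain ⟨v⟩ := hV
    exact ⟨v.1, v.2⟩
  have hfin : ((V : Set ↥(↑U : Scheme.{u}))ᶜ).Finite := by
    refine K775.Supp.finite_of_isClosed h _ V.2.isClosed_compl fun he => ?_
    obtain ⟨v, hv⟩ := hVn
    have h1 : v ∈ (V : Set ↥(↑U : Scheme.{u}))ᶜ := by rw [he]; trivial
    exact h1 hv
  obtain ⟨e₀⟩ := hconst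
  have hW : Nonempty ↥(↑(π ⁻¹ᵁ V) : Scheme.{u}) := by
    obtain ⟨v, hv⟩ := hVn
    obtain ⟨y, rfl⟩ := π.surjective v
    exact ⟨⟨y, hv⟩⟩
  have hk : EtCoh.KilledBy m (EtCoh.const (↑(π ⁻¹ᵁ V) : Scheme.{u}) M₀) :=
    Groth.Agent.Sga4B.Pure.killedBy_of_iso e₀ (Groth.Agent.Etcore.PrimeFilt.killedBy_pull _ m _
      (Groth.Agent.Etcore.PrimeFilt.killedBy_pull π m F hmF))
  exact ⟨M₀, inferInstance, inferInstance, Groth.Agent.Sga4B.Pure.nsmul_eq_zero_of_killedBy M₀ m hk,
    K775.MonoConst.exists_mono hnorm π V hVn hfin M₀ F hF m hm hmF e₀⟩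

end Groth.Agent.S13416
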