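import Groth.Statements.S13417
import Groth.Agent.HLoc2.K775.SepBC

set_option autoImplicit false
universe u
open scoped TensorProduct
open HLoc2

namespace Groth.Agent.S13417

/-- Let `k` be a field with separable closure `kˢ` and `R₀` a commutative local `k`-algebra which is
excellent, henselian, integrally closed, of Krull dimension two, with residue field `k`, and
geometrically integral (`R₀ ⊗_k kˢ` is a domain). Then `R₀ ⊗_k kˢ` is a henselian local ring which
is integrally closed, of Krull dimension two, and whose residue field is `kˢ` (the composite `kˢ →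
R₀ ⊗_k kˢ →` residue field is surjective). (The published statement also asserts that `R₀ ⊗_k kˢ` is
excellent; that assertion is not restated here.) -/
theorem result
    (k : Type u) [Field k] (R₀ : Type u) [CommRing R₀] [IsDomain R₀] [HenselianLocalRing R₀] [Algebra k R₀]
    [IsIntegrallyClosed R₀] (hexc : EGA4.IsExcellent R₀) (hdim : ringKrullDim R₀ = 2)
    (hres : Function.Surjective (fun a : k => IsLocalRing.residue R₀ (algebraMap k R₀ a)))
    [IsDomain (R₀ ⊗[k] SeparableClosure k)] :
    ∃ _ : HenselianLocalRing (R₀ ⊗[k] SeparableClosure k),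
      IsIntegrallyClosed (R₀ ⊗[k] SeparableClosure k) ∧
      ringKrullDim (R₀ ⊗[k] SeparableClosure k) = 2 ∧
      Function.Surjective (fun a : SeparableClosure k =>
        IsLocalRing.residue (R₀ ⊗[k] SeparableClosure k)
          ((Algebra.TensorProduct.includeRight : SeparableClosure k →ₐ[k] R₀ ⊗[k] SeparableClosure k) a)) := by
  have hint : Algebra.IsIntegral R₀ (R₀ ⊗[k] SeparableClosure k) := K775.SepBC.isIntegral k R₀ _
  have hinj := K775.SepBC.injective k R₀ (SeparableClosure k)
  obtain ⟨hH, hl⟩ := Groth.Agent.S1964.result R₀ (R₀ ⊗[k] SeparableClosure k)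
  refine ⟨hH, K775.SepBC.isIntegrallyClosed k R₀ _, ?_, K775.SepBC.residue_surjective k R₀ _ hres⟩
  rw [← hdim]
  exact Groth.Agent.FlatA.DimFin.ringKrullDim_eq_of_isIntegral_of_injective R₀ _ hinj

end Groth.Agent.S13417
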