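import Groth.Statements.S13423
import Groth.Agent.NeronHD.K776.SmoothLqf
import Groth.Agent.Flat2E.Thick
import Groth.Agent.S1450
import Groth.Agent.S2280
import Groth.Agent.Sga3C.GenPts

set_option autoImplicit false
universe u
open CategoryTheory AlgebraicGeometry
open NeronHD

namespace Groth.Agent.S13423

/-- Let S be a reduced, locally Noetherian scheme over a field of characteristic 0 whose local rings are
all geometrically unibranch, and let f : X → S be quasi-finite (locally of finite type,
quasi-compact, with finite discrete fibres), separated and dominant, with X connected and nonempty,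
such that every fibre X_s over the residue field k(s) is smooth. Then f is étale. (Case of schemes
of a statement about algebraic spaces.) -/
theorem result {k : Type u} [Field k] [CharZero k] {S : Scheme.{u}} (σ : S ⟶ Spec (CommRingCat.of k)) [IsLocallyNoetherian S] [IsReduced S]
    (hS : ∀ s : S, CAlg2.IsGeomUnibranch (S.presheaf.stalk s))
    {X : Scheme.{u}} (f : X ⟶ S) [LocallyOfFiniteType f] [QuasiCompact f] [LocallyQuasiFinite f] [IsSeparated f] [IsDominant f]
    [ConnectedSpace X]
    (hfib : ∀ s : S, Smooth (Limits.pullback.snd f (S.fromSpecResidueField s))) :
    Etale f := by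
  -- the local rings are domains
  have hdom : ∀ s : S, IsDomain (S.presheaf.stalk s) := by
    intro s
    have h1 : IsDomain (CAlg2.red (S.presheaf.stalk s)) := (hS s).1.1
    have h2 : nilradical (S.presheaf.stalk s) = ⊥ := nilradical_eq_zero _
    have h3 : (nilradical (S.presheaf.stalk s)).IsPrime := (Ideal.Quotient.isDomain_iff_prime _).mp h1
    rw [h2] at h3
    exact (IsDomain.of_bot_isPrime _)
  -- `S` is connected
  have hconn : ConnectedSpace S := by
    have h1 : _root_.IsConnected (Set.range f) := isConnected_range f.continuous
    have h2 := h1.closure
    rw [f.denseRange.closure_range] at h2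
    exact connectedSpace_iff_univ.mpr h2
  have hint : IsIntegral S := (S2280.result S).2.mpr ⟨hconn, hdom⟩
  -- `f` is unramified
  have hunr : FormallyUnramified f := by
    apply Flat2E.Thick.formallyUnramified_of_fiber
    intro s
    have h1 : Smooth (f.fiberToSpecResidueField s) := hfib s
    have h2 : LocallyQuasiFinite (f.fiberToSpecResidueField s) :=
      inferInstanceAs (LocallyQuasiFinite (Limits.pullback.snd f (S.fromSpecResidueField s)))
    have h3 := K776.SmoothLqf.etale_of_smooth_of_locallyQuasiFinite (f.fiberToSpecResidueField s)
    infer_instance
  -- the generic point is in the image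
  have hgen : genericPoint S ∈ Set.range f := by
    apply Sga3C.GenPts.mem_range_of_mem_genericPoints
    change closure {genericPoint S} ∈ irreducibleComponents S
    rw [genericPoint_closure, irreducibleComponents_eq_singleton]
    rfl
  exact (S1450.result f hS hgen).1

end Groth.Agent.S13423
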