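import Groth.Statements.S13424
import Groth.Agent.Etbase.NormalStalk
import Groth.Agent.Ega1.LocNoethNhd
import Mathlib.AlgebraicGeometry.Morphisms.FlatMono
import Mathlib.AlgebraicGeometry.Morphisms.SchemeTheoreticallyDominant

set_option autoImplicit false
universe u
open CategoryTheory AlgebraicGeometry
open GrpSch

namespace Groth.Agent.S13424

/-- In a locally Noetherian scheme all of whose local rings are domains the closure of an open set is open. -/
theorem isOpen_closure_of_isOpen {P : Scheme.{u}} [IsLocallyNoetherian P]
    (hP : ∀ x : P, IsDomain (P.presheaf.stalk x)) (W : Set P) (hW : IsOpen W) : IsOpen (closure W) := by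
  rw [isOpen_iff_forall_mem_open]
  intro x hx
  have := hP x
  obtain ⟨U, hxU, hU, hU'⟩ := Ega1.LocNoethNhd.exists_domain_nhd x
  have hint : IsIntegral (U : Scheme.{u}) := Ega1.LocNoethNhd.isIntegral_of_isAffineOpen P hU
  refine ⟨U, ?_, U.isOpen, hxU⟩
  have hirr : IsIrreducible (U : Set P) := by
    have h1 : IsIrreducible (Set.univ : Set (U : Scheme.{u})) := IrreducibleSpace.isIrreducible_univ _
    have h2 := h1.image U.ι U.ι.continuous.continuousOn
    rwa [Set.image_univ, Scheme.Opens.range_ι] at h2
  have hne : ((U : Set P) ∩ W).Nonempty := mem_closure_iff.1 hx U U.isOpen hxU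
  have h3 : (U : Set P) ⊆ closure ((U : Set P) ∩ W) :=
    subset_closure_inter_of_isPreirreducible_of_isOpen hirr.isPreirreducible hW hne
  exact h3.trans (closure_mono Set.inter_subset_right)

/-- The scheme-theoretic image of a composite `e = a ≫ i` with `a` scheme-theoretically dominant and `i` a closed
immersion is `i`. -/
theorem exists_iso_image {S T G : Scheme.{u}} (e : S ⟶ G) (a : S ⟶ T) (i : T ⟶ G) [IsClosedImmersion i]
    [IsSchemeTheoreticallyDominant a] (h : a ≫ i = e) : ∃ φ : e.ker.subscheme ⟶ T, IsIso φ ∧ φ ≫ i = e.ker.subschemeι := by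
  have hk : e.ker = i.ker := by
    rw [← h, Scheme.Hom.ker_comp, a.ker_eq_bot, Scheme.IdealSheafData.map_bot]
  have h1 : i.ker ≤ e.ker.subschemeι.ker := by
    rw [Scheme.IdealSheafData.ker_subschemeι, hk]
  refine ⟨IsClosedImmersion.lift i e.ker.subschemeι h1, ?_, by simp⟩
  refine IsClosedImmersion.isIso_of_ker_eq e.ker.subschemeι i _ (by simp) ?_
  rw [Scheme.IdealSheafData.ker_subschemeι, hk]

/-- Let S be a normal, locally Noetherian scheme over a field of characteristic 0. Let p : G → S and q :
H → S be smooth morphisms with sections e_G and e_H, and f : G → H an étale morphism over S with f ∘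
e_G = e_H (the case in view: an étale homomorphism of smooth group schemes and their unit sections).
Call such a pointed S-scheme aligned when the scheme-theoretic image of its section is étale over S.
If H is aligned then G is aligned. (The published statement has an arbitrary locally Noetherian
base; over the reducible curve xy = 0 the étale group scheme obtained from two copies of the base
glued along the complement of one branch maps to the trivial group by an étale homomorphism and is
not aligned, so the base is taken normal here, where the closure of the section is a union of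
connected components of the preimage of the image of e_H. Schemes only.) -/
theorem result {k : Type u} [Field k] [CharZero k] {S : Scheme.{u}} (σ : S ⟶ Spec (CommRingCat.of k)) [IsLocallyNoetherian S] (hS : Pi1.IsNormalScheme S)
    {G H : Scheme.{u}} (p : G ⟶ S) (q : H ⟶ S) [Smooth p] [Smooth q]
    (eG : S ⟶ G) (eH : S ⟶ H) (heG : eG ≫ p = 𝟙 S) (heH : eH ≫ q = 𝟙 S)
    (f : G ⟶ H) [Etale f] (hf : f ≫ q = p) (hfe : eG ≫ f = eH)
    (hH : Etale (eH.ker.subschemeι ≫ q)) :
    Etale (eG.ker.subschemeι ≫ p) := by
  let c : Limits.pullback f eH.ker.subschemeι ⟶ G := Limits.pullback.fst f eH.ker.subschemeι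
  let r : Limits.pullback f eH.ker.subschemeι ⟶ eH.ker.subscheme := Limits.pullback.snd f eH.ker.subschemeι
  have hc : IsClosedImmersion c := inferInstance
  have hr : Etale r := inferInstance
  let π : Limits.pullback f eH.ker.subschemeι ⟶ S := c ≫ p
  have hπ : Etale π := by
    have h1 : π = r ≫ eH.ker.subschemeι ≫ q := by
      change Limits.pullback.fst f eH.ker.subschemeι ≫ p = _
      rw [← hf, ← Category.assoc, Limits.pullback.condition, Category.assoc]
    rw [h1]
    infer_instance
  have hPN : IsLocallyNoetherian (Limits.pullback f eH.ker.subschemeι) := LocallyOfFiniteType.isLocallyNoetherian π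
  have hdom : ∀ x : ↥(Limits.pullback f eH.ker.subschemeι), IsDomain ((Limits.pullback f eH.ker.subschemeι).presheaf.stalk x) :=
    fun x => ((Etbase.NormalStalk.normal_stalk_iff_of_etale π x).2 (hS _)).1
  have hred : IsReduced (Limits.pullback f eH.ker.subschemeι) := by
    have : ∀ x : ↥(Limits.pullback f eH.ker.subschemeι), _root_.IsReduced ((Limits.pullback f eH.ker.subschemeι).presheaf.stalk x) :=
      fun x => by have := hdom x; infer_instance
    exact isReduced_of_isReduced_stalk _
  -- the section
  let s : S ⟶ Limits.pullback f eH.ker.subschemeι := Limits.pullback.lift eG eH.toImage (by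
    rw [hfe]; exact (Scheme.Hom.toImage_imageι eH).symm)
  have hsc : s ≫ c = eG := Limits.pullback.lift_fst _ _ _
  have hsπ : s ≫ π = 𝟙 S := by
    change s ≫ c ≫ p = _
    rw [← Category.assoc, hsc, heG]
  have hse : Etale s := by
    have : Etale (s ≫ π) := by rw [hsπ]; infer_instance
    exact Etale.of_comp s π
  have hsm : Mono s := mono_of_mono_fac hsπ
  have hso : IsOpenImmersion s := IsOpenImmersion.of_flat_of_mono s
  -- the closure of the section
  let T : (Limits.pullback f eH.ker.subschemeι).Opens :=
    ⟨closure (Set.range s), isOpen_closure_of_isOpen hdom _ s.isOpenEmbedding.isOpen_range⟩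
  have hTc : IsClosedImmersion T.ι := by
    refine IsClosedImmersion.of_isPreimmersion _ ?_
    rw [Scheme.Opens.range_ι]
    exact isClosed_closure
  let a : S ⟶ T := IsOpenImmersion.lift T.ι s (by
    rw [Scheme.Opens.range_ι]; exact subset_closure)
  have ha : a ≫ T.ι = s := IsOpenImmersion.lift_fac _ _ _
  have had : IsDominant a := by
    refine ⟨?_⟩
    intro x
    have h1 : T.ι.base x ∈ closure (Set.range s) := x.2
    have h2 : Topology.IsInducing T.ι.base := T.ι.isOpenEmbedding.isInducing
    rw [h2.closure_eq_preimage_closure_image]
    have h3 : T.ι.base '' Set.range a = Set.range s := by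
      rw [← Set.range_comp, ← ha]
      rfl
    rw [Set.mem_preimage, h3]
    exact h1
  have hadd : IsSchemeTheoreticallyDominant a := IsSchemeTheoreticallyDominant.of_isDominant a
  obtain ⟨φ, hφ, hφ'⟩ := exists_iso_image eG a (T.ι ≫ c) (by rw [← Category.assoc, ha, hsc])
  have h4 : eG.ker.subschemeι ≫ p = φ ≫ T.ι ≫ π := by
    rw [← hφ', Category.assoc, Category.assoc]
  rw [h4]
  infer_instance

end Groth.Agent.S13424
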