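import Groth.Statements.S13425
import Groth.Agent.NeronHD.K776.UnivInj
import Groth.Agent.S2415

set_option autoImplicit false
universe u
open CategoryTheory AlgebraicGeometry
open NeronHD

namespace Groth.Agent.S13425

/-- Let k be a characteristic-zero algebraically closed field and X, Y integral schemes, separated and
of finite type over k, with Y normal, and let f : X → Y be a dominant k-morphism which is injective
on k-rational points. Then f is an open immersion. (Case of schemes of a statement about algebraic
spaces.) -/
theorem result {k : Type u} [Field k] [IsAlgClosed k] [CharZero k]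
    {X Y : Scheme.{u}} (sX : X ⟶ Spec (CommRingCat.of k)) (sY : Y ⟶ Spec (CommRingCat.of k))
    [IsIntegral X] [IsIntegral Y] [IsSeparated sX] [IsSeparated sY]
    [LocallyOfFiniteType sX] [QuasiCompact sX] [LocallyOfFiniteType sY] [QuasiCompact sY]
    (hY : Pi1.IsNormalScheme Y)
    (f : X ⟶ Y) (hf : f ≫ sY = sX) [IsDominant f]
    (hinj : ∀ a b : Spec (CommRingCat.of k) ⟶ X, a ≫ sX = 𝟙 _ → b ≫ sX = 𝟙 _ → a ≫ f = b ≫ f → a = b) :
    IsOpenImmersion f := by
  have h0 : IsSeparated (f ≫ sY) := by rw [hf]; infer_instance
  have h1 : IsSeparated f := IsSeparated.of_comp f sY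
  have h2 := K776.UnivInj.universallyInjective_of_injective_points sX sY f hf hinj
  have h3 : LocallyOfFiniteType (f ≫ sY) := by rw [hf]; infer_instance
  have h4 : LocallyOfFiniteType f := locallyOfFiniteType_of_comp f sY
  have h5 : QuasiCompact (f ≫ sY) := by rw [hf]; infer_instance
  have h6 : QuasiCompact f := QuasiCompact.of_comp f sY
  have hYN : IsLocallyNoetherian Y := LocallyOfFiniteType.isLocallyNoetherian sY
  have hgen : f (genericPoint X) = genericPoint Y := by
    have h1 : IsGenericPoint (f (genericPoint X)) (closure (f '' Set.univ)) :=
      (genericPoint_spec X).image f.continuous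
    have h2 : closure (f '' Set.univ) = Set.univ := by
      rw [Set.image_univ]
      exact (f.denseRange).closure_range
    rw [h2] at h1
    exact h1.eq (genericPoint_spec Y)
  have hchar : CharZero (Y.residueField (f (genericPoint X))) :=
    charZero_of_injective_ringHom
      (RingHom.injective (Spec.preimage (Y.fromSpecResidueField (f (genericPoint X)) ≫ sY)).hom)
  exact (S2415.result hY f hgen (K776.UnivInj.isIso_stalkMap_genericPoint f hgen) (fun y => by
    have : (f ⁻¹' {y}).Subsingleton := by
      intro a ha b hb
      exact f.injective (ha.trans hb.symm)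
    exact this.finite)).1

end Groth.Agent.S13425
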