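import Groth.Statements.S13426
import Groth.Agent.Sga3C.SchemImage
import Groth.Agent.Ega4dB.SchDense
import Groth.Agent.Grpsch.AbBC
import Groth.Agent.Localalg.GrpSchComp2

set_option autoImplicit false
universe u
open CategoryTheory MonoidalCategory CartesianMonoidalCategory MonObj GrpObj AlgebraicGeometry
open GrpSch

namespace Groth.Agent.S13426

/-- Let S be a locally Noetherian scheme over a field of characteristic 0, S₀ ⊆ S a scheme-theoretically
dense open, and G a smooth S-scheme with the weak Néron mapping property for S₀ ⊆ S: for every étale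
S-scheme U, restriction to S₀ is a bijection from S-morphisms U → G onto S₀-morphisms. Let H be a
smooth group scheme over S together with a monomorphism H → G of S-schemes (the case in view: G a
group scheme and H a subgroup scheme), and assume that H is aligned, i.e. the scheme-theoretic image
of its unit section is étale over S, and that H ×_S S₀ → S₀ is separated. Then H → S is separated.
(Case of schemes of a statement about group algebraic spaces; only the injectivity of H → G on
morphisms is used of the subgroup condition.) -/
theorem result {k : Type u} [Field k] [CharZero k] {S : Scheme.{u}} (σ : S ⟶ Spec (CommRingCat.of k)) [IsLocallyNoetherian S] (S₀ : S.Opens) (hS₀ : CInt.IsSchematicallyDense S₀)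
    (G : Over S) [Smooth G.hom]
    (hG : ∀ U : Over S, Etale U.hom → Function.Bijective (fun g : U ⟶ G => (Over.pullback S₀.ι).map g))
    (H : Over S) [GrpObj H] [Smooth H.hom] (j : H ⟶ G) [Mono j.left]
    (hal : Etale (η[H].left.ker.subschemeι ≫ H.hom))
    (h0 : IsSeparated (Limits.pullback.snd H.hom S₀.ι)) :
    IsSeparated H.hom := by
  have hHN : IsLocallyNoetherian H.left := LocallyOfFiniteType.isLocallyNoetherian H.hom
  have hqs : QuasiSeparated H.hom := inferInstance
  let e : S ⟶ H.left := η[H].left
  have he : e ≫ H.hom = 𝟙 S := Over.w η[H]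
  have hqc : QuasiCompact e := by
    have : QuasiCompact (e ≫ H.hom) := by rw [he]; infer_instance
    exact QuasiCompact.of_comp e H.hom
  let U : Over S := Over.mk (e.imageι ≫ H.hom)
  have hU : Etale U.hom := hal
  let i : U ⟶ H := Over.homMk e.imageι rfl
  let e' : 𝟙_ (Over S) ⟶ U := Over.homMk e.toImage (by
    change e.toImage ≫ e.imageι ≫ H.hom = 𝟙 S
    rw [← Category.assoc, Scheme.Hom.toImage_imageι, he])
  have hei : e' ≫ i = η[H] := by
    ext1
    exact Scheme.Hom.toImage_imageι e
  have hdom : IsSchemeTheoreticallyDominant e'.left := Sga3C.SchemImage.dominant_toImage e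
  have hqc' : QuasiCompact e'.left := inferInstanceAs (QuasiCompact e.toImage)
  -- the two maps agree over `S₀`
  have key : (Over.pullback S₀.ι).map i = (Over.pullback S₀.ι).map (toUnit U ≫ η[H]) := by
    have hpb := Grpsch.AbBC.isPullback_pullback_map S₀.ι e'
    have hfl : Flat (Limits.pullback.fst U.hom S₀.ι) := inferInstance
    have hd : IsSchemeTheoreticallyDominant ((Over.pullback S₀.ι).map e').left :=
      IsSchemeTheoreticallyDominant.of_isPullback hpb.flip
    have hsep : IsSeparated ((Over.pullback S₀.ι).obj H).hom := h0
    ext1
    refine Ega4dB.SchDense.ext_of_isSchemeTheoreticallyDominant ((Over.pullback S₀.ι).obj H).hom ?_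
      ((Over.pullback S₀.ι).map e').left ?_
    · rw [Over.w, Over.w]
    · rw [← Over.comp_left, ← Over.comp_left, ← Functor.map_comp, ← Functor.map_comp, hei,
        ← Category.assoc, toUnit_unique (e' ≫ toUnit U) (𝟙 _), Category.id_comp]
  have hj : Mono j := Over.mono_of_mono_left j
  have key2 : i = toUnit U ≫ η[H] := by
    rw [← cancel_mono j]
    apply (hG U hU).1
    change (Over.pullback S₀.ι).map (i ≫ j) = (Over.pullback S₀.ι).map ((toUnit U ≫ η[H]) ≫ j)
    rw [Functor.map_comp, key, Functor.map_comp _ _ j]
  -- hence the unit section is a closed immersion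
  have hcl : IsClosedImmersion e := by
    have h1 : e.imageι = U.hom ≫ e := by
      have := congrArg (fun g : U ⟶ H => g.left) key2
      exact this
    have h2 : U.hom ≫ e.toImage = 𝟙 _ := by
      rw [← cancel_mono e.imageι]
      rw [Category.assoc, Scheme.Hom.toImage_imageι, ← h1, Category.id_comp]
    have h3 : e.toImage ≫ U.hom = 𝟙 _ := Over.w e'
    have h4 : IsIso e.toImage := ⟨U.hom, h3, h2⟩
    rw [← Scheme.Hom.toImage_imageι e]
    infer_instance
  exact ⟨MorphismProperty.of_isPullback (P := @IsClosedImmersion)
    (Localalg.GrpSchComp2.isPullback_diagonal S H).flip hcl⟩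

end Groth.Agent.S13426
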