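import Groth.Statements.S13434
import Groth.Agent.W4c1hilbpn.K777.Colen

set_option autoImplicit false
universe u
open W4c1hilbpn

namespace Groth.Agent.S13434

open W4c1hilbpn in
/-- Let k be an infinite field, n ≥ 2, S the polynomial ring over k in n variables, I a monomial ideal
of S of finite colength and T(I) = Hom_S(I, S/I) with its grading by integer vectors. The graded
piece of T(I) in every multidegree all of whose entries are nonnegative, or all of whose entries are
negative, vanishes, and T(I) is spanned by its pieces of non-constant sign pattern (the spans, over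
the sets N of variable indices that are neither empty nor all indices, of the graded pieces whose
multidegree is negative exactly at N). -/
theorem result (k : Type u) [Field k] [Infinite k]
    (n : ℕ) (hn : 2 ≤ n) (I : Ideal (MvPolynomial (Fin n) k)) (hI : IsMonomial I)
    [Module.Finite k (MvPolynomial (Fin n) k ⧸ I)] :
    (∀ α : Fin n → ℤ, ((∀ i, 0 ≤ α i) ∨ (∀ i, α i < 0)) → tPiece I α = ⊥) ∧
      (⨆ N : {N : Set (Fin n) // N.Nonempty ∧ N ≠ Set.univ}, sigPiece I N.1) = ⊤ := by
  have hfin := K777.Decomp.finite_DD hI
  have hvan : ∀ α : Fin n → ℤ, ((∀ i, 0 ≤ α i) ∨ (∀ i, α i < 0)) → tPiece I α = ⊥ := by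
    intro α h
    rw [K777.Model.tPiece_eq_bot_iff hI]
    rcases h with h | h
    · exact K777.Colen.mdl_bot_of_nonneg h
    · exact K777.Colen.mdl_bot_of_neg hfin (i := ⟨0, by omega⟩) (j := ⟨1, by omega⟩)
        (by simp) h
  refine ⟨hvan, ?_⟩
  rw [eq_top_iff, ← K777.Colen.iSup_tPiece_top hI hfin]
  refine iSup_le fun α => ?_
  by_cases h : tPiece I α = ⊥
  · rw [h]; exact bot_le
  · have h1 : ({i | α i < 0} : Set (Fin n)).Nonempty ∧ ({i | α i < 0} : Set (Fin n)) ≠ Set.univ := by
      constructor
      · by_contra hcon
        apply h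
        apply hvan
        left
        intro i
        by_contra hi
        exact hcon ⟨i, by simpa using hi⟩
      · intro hcon
        apply h
        apply hvan
        right
        intro i
        have : i ∈ ({i | α i < 0} : Set (Fin n)) := by rw [hcon]; trivial
        exact this
    refine le_trans ?_ (le_iSup (fun N : {N : Set (Fin n) // N.Nonempty ∧ N ≠ Set.univ} =>
      sigPiece I N.1) ⟨{i | α i < 0}, h1⟩)
    exact le_iSup (fun α' : {α' : Fin n → ℤ // ∀ i, α' i < 0 ↔ i ∈ ({i | α i < 0} : Set (Fin n))} =>
      tPiece I α'.1) ⟨α, fun i => Iff.rfl⟩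

end Groth.Agent.S13434
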