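import Groth.Statements.S13436
import Groth.Agent.W4c1hilbpn.K777.Sig

set_option autoImplicit false
universe u
open W4c1hilbpn

namespace Groth.Agent.S13436

open W4c1hilbpn in
/-- Let k be an infinite field, S = k[x,y,z], and T(I) = Hom_S(I, S/I) graded by triples of integers (a
graded piece is indexed by its multidegree; its sign pattern records which of the three entries are
negative); let I be a monomial ideal of finite colength with staircase numbers b_{i,j} = the number
of c with x^i y^j z^c outside I. For all natural numbers i, j, the span of the graded pieces of T(I)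
of multidegrees (i, j, c), c ranging over the integers, has dimension b_{i,j} plus the dimension of
the span of the graded pieces of multidegrees (-i-1, -j-1, c). -/
theorem result (k : Type u) [Field k] [Infinite k]
    (I : Ideal (MvPolynomial (Fin 3) k)) (hI : IsMonomial I) [Module.Finite k (MvPolynomial (Fin 3) k ⧸ I)] (i j : ℕ) :
    Module.finrank k ↥(⨆ α : {α : Fin 3 → ℤ // α 0 = (i : ℤ) ∧ α 1 = (j : ℤ)}, tPiece I α.1) =
      stairZ I i j +
        Module.finrank k ↥(⨆ α : {α : Fin 3 → ℤ // α 0 = -(i : ℤ) - 1 ∧ α 1 = -(j : ℤ) - 1}, tPiece I α.1) := by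
  have hfin := K777.Decomp.finite_DD hI
  have h1 := K777.Sig.duality_l hI hfin 2 ![(i : ℤ), j, 0] ![-(i : ℤ) - 1, -(j : ℤ) - 1, 0] (by
    intro a; fin_cases a <;> simp <;> ring)
  rw [K777.Sig.card_neg hfin 2 _ 0 (by simp; omega), add_zero] at h1
  rw [K777.Sig.iSup_congr_pred (Q := fun α => K777.Sig.wl 2 α = ![(i : ℤ), j, 0]),
    K777.Sig.iSup_congr_pred (P := fun α : Fin 3 → ℤ => α 0 = -(i : ℤ) - 1 ∧ α 1 = -(j : ℤ) - 1)
      (Q := fun α => K777.Sig.wl 2 α = ![-(i : ℤ) - 1, -(j : ℤ) - 1, 0]), h1, add_comm]
  · congr 1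
    rw [stairZ]
    refine Nat.card_congr ?_
    refine
      { toFun := fun γ => ⟨γ.1.1 2, ?_⟩
        invFun := fun c => ⟨⟨e3 i j c.1, c.2⟩, ?_⟩
        left_inv := ?_
        right_inv := ?_ }
    · have h0 := congrFun γ.2 0
      have h1 := congrFun γ.2 1
      simp [K777.Sig.wl_apply] at h0 h1
      have : e3 i j (γ.1.1 2) = γ.1.1 := (K777.Stair.e3_ext h0 h1 rfl).symm
      rw [this]
      exact γ.1.2
    · apply K777.Stair.vec3_ext <;> simp [K777.Sig.wl_apply]
    · intro γ
      have h0 := congrFun γ.2 0
      have h1 := congrFun γ.2 1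
      simp [K777.Sig.wl_apply] at h0 h1
      exact Subtype.ext (Subtype.ext (K777.Stair.e3_ext h0 h1 rfl).symm)
    · intro c
      rfl
  · intro α
    constructor
    · rintro ⟨h0, h1⟩
      apply K777.Stair.vec3_ext <;> simp [K777.Sig.wl_apply, h0, h1]
    · intro h
      have h0 := congrFun h 0
      have h1 := congrFun h 1
      simpa [K777.Sig.wl_apply] using And.intro h0 h1
  · intro α
    constructor
    · rintro ⟨h0, h1⟩
      apply K777.Stair.vec3_ext <;> simp [K777.Sig.wl_apply, h0, h1]
    · intro h
      have h0 := congrFun h 0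
      have h1 := congrFun h 1
      simpa [K777.Sig.wl_apply] using And.intro h0 h1

end Groth.Agent.S13436
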