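import Groth.Statements.S13440
import Groth.Agent.W4c1hilbpn.K777.Stair

set_option autoImplicit false
universe u
open W4c1hilbpn

namespace Groth.Agent.S13440

open W4c1hilbpn in
/-- Let k be an infinite field, S = k[x,y,z], and T(I) = Hom_S(I, S/I) graded by triples of integers (a
graded piece is indexed by its multidegree; its sign pattern records which of the three entries are
negative); let I be a monomial ideal of finite colength with staircase numbers b_{i,j} = the number
of c with x^i y^j z^c outside I. For all natural numbers a1, a2, the span of the graded pieces of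
T(I) of multidegrees (a1, a2, c) with c < 0 has dimension at most the sum, over all i ≥ a1 and j ≥
a2, of b_{i,j} - max(b_{i+1,j}, b_{i,j+1}) (a sum with finitely many nonzero terms). -/
theorem result (k : Type u) [Field k] [Infinite k]
    (I : Ideal (MvPolynomial (Fin 3) k)) (hI : IsMonomial I) [Module.Finite k (MvPolynomial (Fin 3) k ⧸ I)] (a1 a2 : ℕ) :
    Module.finrank k ↥(⨆ α : {α : Fin 3 → ℤ // α 0 = (a1 : ℤ) ∧ α 1 = (a2 : ℤ) ∧ α 2 < 0}, tPiece I α.1) ≤
      ∑ᶠ p : ℕ × ℕ, (if a1 ≤ p.1 ∧ a2 ≤ p.2
        then stairZ I p.1 p.2 - max (stairZ I (p.1 + 1) p.2) (stairZ I p.1 (p.2 + 1)) else 0) := by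
  classical
  have hfin := K777.Decomp.finite_DD hI
  obtain ⟨N, hN⟩ := K777.Decomp.exists_bound hfin
  rw [K777.Colen.finrank_iSup_pieces hI hfin hN]
  set Q : Set (Fin 3 → ℤ) := {γ | γ ∈ K777.Model.DD I ∧ γ + Pi.single 0 1 ∈ K777.Model.UU I ∧
    γ + Pi.single 1 1 ∈ K777.Model.UU I ∧ (a1 : ℤ) ≤ γ 0 ∧ (a2 : ℤ) ≤ γ 1} with hQ
  have hQfin : Q.Finite := hfin.subset fun γ hγ => hγ.1
  refine le_trans (K777.Bound.sum_le_of_disjoint _ _ (fun α => K777.Bound.PP I 2 α) Q hQfin
    (fun _ γ => γ) (fun α _ => K777.Bound.finrank_le_PP hfin 2 α) ?_ ?_) ?_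
  · intro α hα γ hγ
    rw [Finset.mem_filter] at hα
    refine ⟨hγ.1, hγ.2.2.1 0 (by decide), hγ.2.2.1 1 (by decide), ?_, ?_⟩
    · have := hγ.2.1.1 0
      rw [Pi.sub_apply, hα.2.1] at this
      omega
    · have := hγ.2.1.1 1
      rw [Pi.sub_apply, hα.2.2.1] at this
      omega
  · intro α hα α' hα' γ hγ γ' hγ' h
    rw [Finset.mem_filter] at hα hα'
    have h' : γ = γ' := h
    subst h'
    refine ⟨K777.Bound.PP_unique (l := 2) ?_ hγ hγ', rfl⟩
    intro i hi
    fin_cases i
    · exact hα.2.1.trans hα'.2.1.symm
    · exact hα.2.2.1.trans hα'.2.2.1.symm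
    · exact absurd rfl hi
  · -- counting
    set g : ℕ × ℕ → ℕ := fun p => if a1 ≤ p.1 ∧ a2 ≤ p.2
        then stairZ I p.1 p.2 - max (stairZ I (p.1 + 1) p.2) (stairZ I p.1 (p.2 + 1)) else 0 with hg
    have hsupp : Function.support g ⊆ ((Finset.range N ×ˢ Finset.range N : Finset (ℕ × ℕ)) : Set (ℕ × ℕ)) := by
      intro p hp
      rw [Function.mem_support] at hp
      have h1 : 0 < stairZ I p.1 p.2 := by
        by_contra hcon
        apply hp
        rw [hg]
        simp only
        split_ifs <;> omega
      have h2 := (K777.Stair.lt_stairZ_iff hI p.1 p.2 0).1 h1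
      simp only [Finset.coe_product, Finset.coe_range, Set.mem_prod, Set.mem_Iio]
      constructor
      · by_contra hcon
        apply h2
        refine K777.Basic.exps_of_le (hN 0) ?_
        rw [Finsupp.single_le_iff]
        simpa using hcon
      · by_contra hcon
        apply h2
        refine K777.Basic.exps_of_le (hN 1) ?_
        rw [Finsupp.single_le_iff]
        simpa using hcon
    rw [finsum_eq_sum_of_support_subset _ hsupp]
    rw [Set.ncard_eq_toFinset_card _ hQfin]
    rw [Finset.card_eq_sum_card_fiberwise (f := fun γ : Fin 3 → ℤ => ((γ 0).toNat, (γ 1).toNat))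
      (t := Finset.range N ×ˢ Finset.range N)]
    · refine Finset.sum_le_sum fun p _ => ?_
      by_cases hp : ∃ γ ∈ Q, ((γ 0).toNat, (γ 1).toNat) = p
      · obtain ⟨γ, hγ, rfl⟩ := hp
        have hD := hγ.1.1
        have hc : a1 ≤ (γ 0).toNat ∧ a2 ≤ (γ 1).toNat := by
          have h3 := hγ.2.2.2.1
          have h4 := hγ.2.2.2.2
          omega
        rw [hg]
        simp only
        rw [if_pos hc]
        rw [← Nat.card_Ico]
        refine Finset.card_le_card_of_injOn (fun γ' => (γ' 2).toNat) ?_ ?_
        · intro γ' hγ'
          rw [Finset.mem_coe, Finset.mem_filter, Set.Finite.mem_toFinset] at hγ'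
          obtain ⟨⟨hd, hu0, hu1, _⟩, he⟩ := hγ'
          simp only [Prod.mk.injEq] at he
          rw [Finset.mem_coe, Finset.mem_Ico, max_le_iff]
          have k0 := hd.1 0
          have k1 := hd.1 1
          have k2 := hd.1 2
          refine ⟨⟨?_, ?_⟩, ?_⟩
          · by_contra hlt
            rw [not_le, K777.Stair.lt_stairZ_iff hI] at hlt
            apply hlt
            have := K777.Stair.mem_UU_e3 hu0
            convert this using 2
            · simp [← he.1]; omega
            · simp [← he.2]
            · simp
          · by_contra hlt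
            rw [not_le, K777.Stair.lt_stairZ_iff hI] at hlt
            apply hlt
            have := K777.Stair.mem_UU_e3 hu1
            convert this using 2
            · simp [← he.1]
            · simp [← he.2]; omega
            · simp
          · rw [K777.Stair.lt_stairZ_iff hI, ← he.1, ← he.2]
            exact K777.Stair.mem_DD_e3 hd
        · intro γ' hγ' γ'' hγ'' he
          rw [Finset.mem_coe, Finset.mem_filter, Set.Finite.mem_toFinset] at hγ' hγ''
          simp only [Prod.mk.injEq] at hγ' hγ'' he
          have k' := hγ'.1.1.1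
          have k'' := hγ''.1.1.1
          apply K777.Stair.vec3_ext
          · have := k' 0; have := k'' 0; omega
          · have := k' 1; have := k'' 1; omega
          · have := k' 2; have := k'' 2; omega
      · have : (hQfin.toFinset.filter fun γ => ((γ 0).toNat, (γ 1).toNat) = p) = ∅ := by
          rw [Finset.filter_eq_empty_iff]
          intro γ hγ h
          exact hp ⟨γ, by simpa using hγ, h⟩
        rw [this]; simp
    · intro γ hγ
      rw [Finset.mem_coe, Set.Finite.mem_toFinset] at hγ
      have hD := hγ.1
      simp only [Finset.coe_product, Finset.coe_range, Set.mem_prod, Set.mem_Iio]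
      constructor
      · by_contra hcon
        refine K777.Model.not_mem_DD (K777.Model.UU_up (K777.Model.vz_mem_UU.2 (hN 0)) ?_) hD
        intro i
        have := hD.1 i
        have := hD.1 0
        rw [K777.Model.vz_single, Pi.single_apply]
        split_ifs with hi
        · subst hi; omega
        · assumption
      · by_contra hcon
        refine K777.Model.not_mem_DD (K777.Model.UU_up (K777.Model.vz_mem_UU.2 (hN 1)) ?_) hD
        intro i
        have := hD.1 i
        have := hD.1 1
        rw [K777.Model.vz_single, Pi.single_apply]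
        split_ifs with hi
        · subst hi; omega
        · assumption

end Groth.Agent.S13440
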