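import Groth.Statements.S13441
import Groth.Agent.W4c1hilbpn.K777.Stair

set_option autoImplicit false
universe u
open W4c1hilbpn

namespace Groth.Agent.S13441

open W4c1hilbpn in
/-- Let k be an infinite field, S = k[x,y,z] with variables ordered x > y > z, and I a strongly stable
ideal of finite colength, with staircase numbers b^z_{i,j} = the number of c with x^i y^j z^c
outside I and b^y_{i,j} = the number of b with x^i y^b z^j outside I. Then b^z_{i+1,j} ≤ b^z_{i,j+1}
and b^y_{i+1,j} ≤ b^y_{i,j+1} for all i and j (equivalently the maximum of the two neighbouring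
staircase numbers is the second one). -/
theorem result (k : Type u) [Field k] [Infinite k]
    (I : Ideal (MvPolynomial (Fin 3) k)) (hI : IsStronglyStable I) [Module.Finite k (MvPolynomial (Fin 3) k ⧸ I)] (i j : ℕ) :
    stairZ I (i + 1) j ≤ stairZ I i (j + 1) ∧ stairY I (i + 1) j ≤ stairY I i (j + 1) := by
  have hM := hI.1
  constructor
  · by_contra hcon
    push Not at hcon
    -- c = stairZ I i (j+1) lies in the first staircase but not the second
    have h1 := (K777.Stair.lt_stairZ_iff hM (i + 1) j (stairZ I i (j + 1))).1 hcon
    have h2 : e3 i (j + 1) (stairZ I i (j + 1)) ∈ exps I := by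
      by_contra h
      exact lt_irrefl _ ((K777.Stair.lt_stairZ_iff hM i (j + 1) (stairZ I i (j + 1))).2 h)
    apply h1
    have h3 := hI.2 _ h2 0 1 (by decide) (by simp)
    convert h3 using 1
    symm
    apply K777.Stair.e3_ext <;> simp
  · by_contra hcon
    push Not at hcon
    have h1 := (K777.Stair.lt_stairY_iff hM (i + 1) (stairY I i (j + 1)) j).1 hcon
    have h2 : e3 i (stairY I i (j + 1)) (j + 1) ∈ exps I := by
      by_contra h
      exact lt_irrefl _ ((K777.Stair.lt_stairY_iff hM i (stairY I i (j + 1)) (j + 1)).2 h)
    apply h1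
    have h3 := hI.2 _ h2 0 2 (by decide) (by simp)
    convert h3 using 1
    symm
    apply K777.Stair.e3_ext <;> simp

end Groth.Agent.S13441
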