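import Groth.Statements.S13455
import Mathlib.RingTheory.MvPolynomial.Ideal

set_option autoImplicit false
universe u
open W4c1hilbpn

namespace Groth.Agent.S13455

theorem XX {k σ : Type*} [Field k] (p q : σ) :
    (MvPolynomial.X p * MvPolynomial.X q : MvPolynomial σ k) =
      MvPolynomial.monomial (Finsupp.single p 1 + Finsupp.single q 1) 1 := by
  rw [MvPolynomial.X, MvPolynomial.X, MvPolynomial.monomial_mul, one_mul]

theorem mem_span_iff {k σ : Type*} [Field k] (S : Set (σ →₀ ℕ)) (T : Set (MvPolynomial σ k))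
    (hT : T = (fun s => MvPolynomial.monomial s (1 : k)) '' S) (f : MvPolynomial σ k) :
    f ∈ Ideal.span T ↔ ∀ β ∈ f.support, ∃ s ∈ S, s ≤ β := by
  rw [hT, MvPolynomial.mem_ideal_span_monomial_image]

theorem single_add_le {σ : Type*} {p q : σ} {β : σ →₀ ℕ} (hpq : p ≠ q) (h1 : 1 ≤ β p) (h2 : 1 ≤ β q) :
    (Finsupp.single p 1 + Finsupp.single q 1 : σ →₀ ℕ) ≤ β := by
  classical
  intro i
  rw [Finsupp.add_apply, Finsupp.single_apply, Finsupp.single_apply]
  by_cases hp : p = i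
  · subst hp
    rw [if_pos rfl, if_neg (Ne.symm hpq)]; exact h1
  · rw [if_neg hp]
    split_ifs with hq
    · subst hq; simpa using h2
    · simp

theorem le_left {σ : Type*} {p q : σ} {β : σ →₀ ℕ}
    (h : (Finsupp.single p 1 + Finsupp.single q 1 : σ →₀ ℕ) ≤ β) : 1 ≤ β p := by
  have := h p
  rw [Finsupp.add_apply, Finsupp.single_eq_same] at this
  omega

theorem le_right {σ : Type*} {p q : σ} {β : σ →₀ ℕ}
    (h : (Finsupp.single p 1 + Finsupp.single q 1 : σ →₀ ℕ) ≤ β) : 1 ≤ β q := by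
  rw [add_comm] at h
  exact le_left h


/-- Let k be an algebraically closed field of characteristic different from 2, k0 ≥ 1 and n ≥ 2k0 - 1
natural numbers, S = k[x_0, ..., x_n], and e1 ≤ e2 ≤ k0 - 1. The ideal generated by all products x_p
x_q with e1 ≤ p, q ≤ e2 together with the products x_p x_{n-k0+1+q} for e1 ≤ p < q ≤ e2 is the
intersection, over j from e1 to e2, of the ideals generated by the variables x_i with e1 ≤ i ≤ e2
and i ≠ j, the square x_j^2, and the variables x_{n-k0+1+q} for j < q ≤ e2 (a primary decomposition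
of this monomial ideal). -/
theorem result (k : Type u) [Field k] [IsAlgClosed k] (hchar : ringChar k ≠ 2)
    (n k0 e1 e2 : ℕ) (hk : 1 ≤ k0) (hn : 2 * k0 ≤ n + 1) (he : e1 ≤ e2) (he2 : e2 + 1 ≤ k0) :
    Ideal.span ({f : MvPolynomial (Fin (n + 1)) k | ∃ p q : Fin (n + 1), e1 ≤ p.val ∧ p.val ≤ e2 ∧ e1 ≤ q.val ∧ q.val ≤ e2 ∧
        f = MvPolynomial.X p * MvPolynomial.X q} ∪
      {f : MvPolynomial (Fin (n + 1)) k | ∃ p q m : Fin (n + 1), e1 ≤ p.val ∧ p.val < q.val ∧ q.val ≤ e2 ∧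
        m.val + k0 = n + 1 + q.val ∧ f = MvPolynomial.X p * MvPolynomial.X m}) =
    ⨅ j : Fin (n + 1), ⨅ (_ : e1 ≤ j.val ∧ j.val ≤ e2),
      Ideal.span ({f : MvPolynomial (Fin (n + 1)) k | ∃ i : Fin (n + 1), e1 ≤ i.val ∧ i.val ≤ e2 ∧ i ≠ j ∧ f = MvPolynomial.X i} ∪
        {MvPolynomial.X j ^ 2} ∪
        {f : MvPolynomial (Fin (n + 1)) k | ∃ q m : Fin (n + 1), j.val < q.val ∧ q.val ≤ e2 ∧ m.val + k0 = n + 1 + q.val ∧
          f = MvPolynomial.X m}) := by
  classical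
  set S1 : Set (Fin (n + 1) →₀ ℕ) := {β | ∃ p q : Fin (n + 1), e1 ≤ p.val ∧ p.val ≤ e2 ∧
      e1 ≤ q.val ∧ q.val ≤ e2 ∧ β = Finsupp.single p 1 + Finsupp.single q 1} ∪
    {β | ∃ p q m : Fin (n + 1), e1 ≤ p.val ∧ p.val < q.val ∧ q.val ≤ e2 ∧
        m.val + k0 = n + 1 + q.val ∧ β = Finsupp.single p 1 + Finsupp.single m 1} with hS1
  set S2 : Fin (n + 1) → Set (Fin (n + 1) →₀ ℕ) := fun j =>
    {β | ∃ i : Fin (n + 1), e1 ≤ i.val ∧ i.val ≤ e2 ∧ i ≠ j ∧ β = Finsupp.single i 1} ∪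
        {Finsupp.single j 2} ∪
        {β | ∃ q m : Fin (n + 1), j.val < q.val ∧ q.val ≤ e2 ∧ m.val + k0 = n + 1 + q.val ∧
          β = Finsupp.single m 1} with hS2
  ext f
  rw [mem_span_iff S1]
  · simp only [Submodule.mem_iInf]
    have h2 : ∀ j : Fin (n + 1), f ∈ Ideal.span ({f : MvPolynomial (Fin (n + 1)) k | ∃ i : Fin (n + 1), e1 ≤ i.val ∧ i.val ≤ e2 ∧ i ≠ j ∧ f = MvPolynomial.X i} ∪
        {MvPolynomial.X j ^ 2} ∪
        {f : MvPolynomial (Fin (n + 1)) k | ∃ q m : Fin (n + 1), j.val < q.val ∧ q.val ≤ e2 ∧ m.val + k0 = n + 1 + q.val ∧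
          f = MvPolynomial.X m}) ↔ ∀ β ∈ f.support, ∃ s ∈ S2 j, s ≤ β := by
      intro j
      apply mem_span_iff
      rw [hS2]
      simp only [Set.image_union, Set.image_singleton]
      congr 1
      · congr 1
        · ext g
          constructor
          · rintro ⟨i, h1, h2, h3, rfl⟩
            exact ⟨_, ⟨i, h1, h2, h3, rfl⟩, rfl⟩
          · rintro ⟨_, ⟨i, h1, h2, h3, rfl⟩, rfl⟩
            exact ⟨i, h1, h2, h3, rfl⟩
        · rw [MvPolynomial.X_pow_eq_monomial]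
      · ext g
        constructor
        · rintro ⟨i, m, h1, h2, h3, rfl⟩
          exact ⟨_, ⟨i, m, h1, h2, h3, rfl⟩, rfl⟩
        · rintro ⟨_, ⟨i, m, h1, h2, h3, rfl⟩, rfl⟩
          exact ⟨i, m, h1, h2, h3, rfl⟩
    simp only [h2]
    constructor
    · intro h j hj β hβ
      obtain ⟨s, hs, hle⟩ := h β hβ
      rcases hs with ⟨p, q, hp1, hp2, hq1, hq2, rfl⟩ | ⟨p, q, m, hp1, hpq, hq2, hm, rfl⟩
      · by_cases hpj : p = j
        · by_cases hqj : q = j
          · subst hpj hqj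
            refine ⟨_, Or.inl (Or.inr rfl), ?_⟩
            rw [← Finsupp.single_add] at hle
            exact hle
          · refine ⟨_, Or.inl (Or.inl ⟨q, hq1, hq2, hqj, rfl⟩), ?_⟩
            rw [Finsupp.single_le_iff]
            exact le_right hle
        · refine ⟨_, Or.inl (Or.inl ⟨p, hp1, hp2, hpj, rfl⟩), ?_⟩
          rw [Finsupp.single_le_iff]
          exact le_left hle
      · by_cases hpj : p = j
        · subst hpj
          refine ⟨_, Or.inr ⟨q, m, hpq, hq2, hm, rfl⟩, ?_⟩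
          rw [Finsupp.single_le_iff]
          exact le_right hle
        · refine ⟨_, Or.inl (Or.inl ⟨p, hp1, by omega, hpj, rfl⟩), ?_⟩
          rw [Finsupp.single_le_iff]
          exact le_left hle
    · intro h β hβ
      by_cases hall : ∀ p : Fin (n + 1), e1 ≤ p.val → p.val ≤ e2 → β p = 0
      · exfalso
        obtain ⟨s, hs, hle⟩ := h ⟨e2, by omega⟩ ⟨he, le_rfl⟩ β hβ
        rcases hs with (⟨i, h1, h3, h4, rfl⟩ | h1) | ⟨q, m, h1, h3, h4, rfl⟩
        · rw [Finsupp.single_le_iff, hall i h1 h3] at hle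
          omega
        · rw [Set.mem_singleton_iff] at h1
          subst h1
          rw [Finsupp.single_le_iff, hall _ he le_rfl] at hle
          omega
        · simp only at h1
          omega
      · push Not at hall
        obtain ⟨p, hp1, hp2, hp⟩ := hall
        obtain ⟨s, hs, hle⟩ := h p ⟨hp1, hp2⟩ β hβ
        rcases hs with (⟨i, h1, h3, h4, rfl⟩ | h1) | ⟨q, m, h1, h3, h4, rfl⟩
        · rw [Finsupp.single_le_iff] at hle
          exact ⟨_, Or.inl ⟨i, p, h1, h3, hp1, hp2, rfl⟩, single_add_le h4 hle (by omega)⟩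
        · rw [Set.mem_singleton_iff] at h1
          subst h1
          refine ⟨_, Or.inl ⟨p, p, hp1, hp2, hp1, hp2, rfl⟩, ?_⟩
          rw [← Finsupp.single_add]
          exact hle
        · rw [Finsupp.single_le_iff] at hle
          refine ⟨_, Or.inr ⟨p, q, m, hp1, h1, h3, h4, rfl⟩, single_add_le ?_ (by omega) hle⟩
          intro hpm
          have := congrArg Fin.val hpm
          omega
  · rw [hS1, Set.image_union]
    congr 1
    · ext g
      constructor
      · rintro ⟨p, q, h1, h2, h3, h4, rfl⟩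
        exact ⟨_, ⟨p, q, h1, h2, h3, h4, rfl⟩, (XX p q).symm⟩
      · rintro ⟨_, ⟨p, q, h1, h2, h3, h4, rfl⟩, rfl⟩
        exact ⟨p, q, h1, h2, h3, h4, (XX p q).symm⟩
    · ext g
      constructor
      · rintro ⟨p, q, m, h1, h2, h3, h4, rfl⟩
        exact ⟨_, ⟨p, q, m, h1, h2, h3, h4, rfl⟩, (XX p m).symm⟩
      · rintro ⟨_, ⟨p, q, m, h1, h2, h3, h4, rfl⟩, rfl⟩
        exact ⟨p, q, m, h1, h2, h3, h4, (XX p m).symm⟩

end Groth.Agent.S13455
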