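import Groth.Statements.S13456
import Groth.Agent.W4c1hilbpn.K777.Strat3

set_option autoImplicit false
universe u
open W4c1hilbpn

namespace Groth.Agent.S13456

open TensorProduct

theorem exists_freeAway_quotient
    {A : Type u} [CommRing A] [IsNoetherianRing A]
    {R : Type u} [CommRing R] [Algebra A R] [Algebra.FiniteType A R]
    {M : Type u} [AddCommGroup M] [Module A M] [Module R M] [IsScalarTower A R M] [Module.Finite R M]
    (p : PrimeSpectrum A) : ∃ f : A ⧸ p.asIdeal, f ≠ 0 ∧
      ∀ (K : Type u) [CommRing K] [Algebra (A ⧸ p.asIdeal) K] [IsLocalization.Away f K],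
        Module.Free K (K ⊗[A ⧸ p.asIdeal] ((A ⧸ p.asIdeal) ⊗[A] M)) := by
  let k := A ⧸ p.asIdeal
  let S' := k ⊗[A] R
  let _ : Algebra R S' := Algebra.TensorProduct.rightAlgebra
  let N' := S' ⊗[R] M
  obtain ⟨f, hf, hfree⟩ := Groth.Agent.FlatA.GenericFree.genFree_of_finiteType (R := k) S' N'
  refine ⟨f, hf, fun K _ _ _ => ?_⟩
  have h1 : Module.Free K (K ⊗[k] N') := hfree.free_tensor K
  have : Algebra.IsPushout A k R S' := inferInstance
  let e : N' ≃ₗ[k] k ⊗[A] M := Algebra.IsPushout.cancelBaseChange A k R S' M
  exact Module.Free.of_equiv (e.baseChange k K _ _)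

theorem projective_piece {A : Type u} [CommRing A] {M : Type u} [AddCommGroup M] [Module A M]
    (ℳ : ℤ → Submodule A M) [DirectSum.Decomposition ℳ] (K : Type u) [CommRing K] [Algebra A K]
    [Module.Free K (K ⊗[A] M)] (i : ℤ) : Module.Projective K (K ⊗[A] ↥(ℳ i)) := by
  let π : M →ₗ[A] ↥(ℳ i) :=
    DirectSum.component A ℤ (fun i => ↥(ℳ i)) i ∘ₗ (DirectSum.decomposeLinearEquiv ℳ).toLinearMap
  have hπ : π ∘ₗ (ℳ i).subtype = LinearMap.id := by
    ext x
    show ((DirectSum.decompose ℳ (x : M)) i : M) = x
    rw [DirectSum.decompose_coe, DirectSum.of_eq_same]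
  refine Module.Projective.of_split ((ℳ i).subtype.baseChange K) (π.baseChange K) ?_
  rw [← LinearMap.baseChange_comp, hπ, LinearMap.baseChange_id]


open TensorProduct in
/-- Let A be a Noetherian ring, R a finitely generated graded A-algebra (graded by the integers), M a
finitely generated graded R-module and h a function from the integers to the natural numbers. Then
the functor sending an A-algebra B to the condition 'every graded piece of M ⊗_A B is a finitely
generated locally free B-module of rank h(v)' is represented by a locally closed subscheme of Spec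
A: there are ideals a and b of A such that, for every A-algebra B, all B ⊗_A M_v are finitely
generated projective of constant rank h(v) if and only if a generates the zero ideal of B and b
generates the unit ideal of B. (The graded pieces M_v are assumed finitely generated over A, as they
are when R is positively graded with degree-zero part finite over A; the published setup allows any
finitely generated graded algebra, where graded pieces need not be finitely generated over A. Test
algebras B range over one universe.) -/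
theorem result
    (A : Type u) [CommRing A] [IsNoetherianRing A]
    (R : Type u) [CommRing R] [Algebra A R] [Algebra.FiniteType A R]
    (𝒜 : ℤ → Submodule A R) [GradedAlgebra 𝒜]
    (M : Type u) [AddCommGroup M] [Module A M] [Module R M] [IsScalarTower A R M] [Module.Finite R M]
    (ℳ : ℤ → Submodule A M) [DirectSum.Decomposition ℳ] [SetLike.GradedSMul 𝒜 ℳ]
    (hfg : ∀ v : ℤ, Module.Finite A ↥(ℳ v)) (h : ℤ → ℕ) :
    ∃ a b : Ideal A, ∀ (B : Type u) [CommRing B] [Algebra A B],
      ((∀ v : ℤ, Module.Finite B (B ⊗[A] ↥(ℳ v)) ∧ Module.Projective B (B ⊗[A] ↥(ℳ v)) ∧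
          ∀ p : PrimeSpectrum B, Module.rankAtStalk (B ⊗[A] ↥(ℳ v)) p = h v) ↔
        (Ideal.map (algebraMap A B) a = ⊥ ∧ Ideal.map (algebraMap A B) b = ⊤)) := by
  have gen : ∀ p : PrimeSpectrum A, ∃ f : A, f ∉ p.asIdeal ∧
      ∀ (K : Type u) [CommRing K] [Algebra A K] [Algebra (A ⧸ p.asIdeal) K] [IsScalarTower A (A ⧸ p.asIdeal) K]
        [IsLocalization.Away (Ideal.Quotient.mk p.asIdeal f) K] (i : ℤ), Module.Projective K (K ⊗[A] ↥(ℳ i)) := by
    intro p
    obtain ⟨fb, hfb, hfree⟩ := exists_freeAway_quotient (A := A) (R := R) (M := M) p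
    obtain ⟨f, rfl⟩ := Ideal.Quotient.mk_surjective fb
    refine ⟨f, fun hf => hfb (Ideal.Quotient.eq_zero_iff_mem.mpr hf), ?_⟩
    intro K _ _ _ _ _ i
    have h1 : Module.Free K (K ⊗[A ⧸ p.asIdeal] ((A ⧸ p.asIdeal) ⊗[A] M)) := hfree K
    have h2 : Module.Free K (K ⊗[A] M) :=
      Module.Free.of_equiv (AlgebraTensorModule.cancelBaseChange A (A ⧸ p.asIdeal) K K M)
    exact projective_piece ℳ K i
  exact K777.Strat.exists_ideals A ℤ (fun v => ↥(ℳ v)) h gen

end Groth.Agent.S13456
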