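import Groth.Statements.S13457
import Groth.Agent.Curves.K324.Basic
import Groth.Agent.JacVar.K532.CurvePic

set_option autoImplicit false
universe u
open CategoryTheory CategoryTheory.Limits AlgebraicGeometry
open Curves

namespace Groth.Agent.S13457

/-- Let k be a field and C a smooth proper geometrically connected curve over k (proper, smooth and
geometrically connected over k, of dimension one), of genus g = dim_k H^1(C, O_C). Let L be an
invertible O_C-module of degree 2g − 2, the degree of an invertible module being χ(L) − χ(O_C), such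
that dim_k H^0(C, L) ≥ g. Then L is isomorphic to the sheaf of differentials Ω_{C/k} (existence of
an isomorphism; no particular map is singled out). (The published statement takes C projective; this
row takes C proper over k.) -/
theorem result (k : Type u) [Field k] (C : Scheme.{u}) [C.Over (Spec (CommRingCat.of k))]
    [IsProper (C ↘ (Spec (CommRingCat.of k)))] [Smooth (C ↘ (Spec (CommRingCat.of k)))] [GeometricallyConnected (C ↘ (Spec (CommRingCat.of k)))]
    (hdim : topologicalKrullDim C = 1) (L : C.Modules) (hL : PicF.IsInvertible L)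
    (hdeg : Curv2.deg k C L 1 = 2 * (Curv2.genus k C : ℤ) - 2)
    (hh0 : Curv2.genus k C ≤ Module.finrank k (Coh.HH C L 0)) :
    Nonempty (L ≅ Omega.sheaf (C ↘ (Spec (CommRingCat.of k)))) := by
  have hint := K324.Basic.isIntegral_of_smooth C k
  have h0 := K324.Basic.finrank_H0_of_smooth C k
  have hX : K532.CurvePic.IsCurve k C := ⟨⟨inferInstance, inferInstance, hint, hdim⟩, h0⟩
  have hRR := K324.Basic.riemannRoch C k hdim h0 L
  have h1 : 0 < K532.CurvePic.h k C 1 (Groth.Agent.Grpsch.PicGrp.mk L hL) := by
    rw [K532.CurvePic.h_mk]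
    omega
  rw [K532.CurvePic.serre hX] at h1
  have h2 := K532.CurvePic.eq_one_of_deg_nonpos hX h1 (by
    rw [K532.CurvePic.deg_mul hX, K532.CurvePic.deg_inv hX, K532.CurvePic.deg_om hX,
      K532.CurvePic.deg_mk k C hdim, hdeg]
    change 2 * (Curv2.genus k C : ℤ) - 2 + -(2 * (Curv2.genus k C : ℤ) - 2) ≤ 0
    omega)
  have h3 : Groth.Agent.Grpsch.PicGrp.mk L hL = K532.CurvePic.om hX := (mul_inv_eq_one.mp h2).symm
  exact (Groth.Agent.Grpsch.PicGrp.mk_eq_iff hL (K532.CurvePic.isInvertible_omega hX)).mp h3

end Groth.Agent.S13457
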