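import Groth.Statements.S13460
-- import your own Groth.Agent.* helpers here
import Groth.Agent.WDiv.K654.OrdUFD

set_option autoImplicit false
universe u
open CategoryTheory CategoryTheory.Limits AlgebraicGeometry TopologicalSpace
open WDiv

namespace Groth.Agent.S13460

/-- Let A be a Noetherian integral domain which is a unique factorization domain, and X = Spec A. Then
the divisor class group of X vanishes: every Weil divisor D on X, an integer-valued function on the
points of X with finite support inside the points of coheight 1 (codimension one), is the divisor of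
a nonzero rational function f on X, i.e. the order of vanishing of f at every point x of coheight 1
is D(x). (The published statement assumes only that A is a unique factorization domain; this row
also assumes A Noetherian.) -/
theorem result (A : Type u) [CommRing A] [IsDomain A] [IsNoetherianRing A]
    [UniqueFactorizationMonoid A]
    (D : ↥(Spec (CommRingCat.of A)) → ℤ) (hD : ∀ x, Order.coheight x ≠ 1 → D x = 0) (hfin : {x | D x ≠ 0}.Finite) :
    ∃ f : ↑(Spec (CommRingCat.of A)).functionField, f ≠ 0 ∧
      ∀ x : ↥(Spec (CommRingCat.of A)), Order.coheight x = 1 → Scheme.ord f x = D x := by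
  have hU : IsAffineOpen (⊤ : (Spec (CommRingCat.of A)).Opens) := isAffineOpen_top _
  have e : A ≃+* Γ(Spec (CommRingCat.of A), ⊤) :=
    (Scheme.ΓSpecIso (CommRingCat.of A)).symm.commRingCatIsoToRingEquiv
  have h1 : IsDomain Γ(Spec (CommRingCat.of A), ⊤) := e.symm.toMulEquiv.isDomain A
  have h2 : UniqueFactorizationMonoid Γ(Spec (CommRingCat.of A), ⊤) :=
    e.toMulEquiv.uniqueFactorizationMonoid inferInstance
  obtain ⟨f, hf0, hf⟩ := K654.OrdUFD.exists_of_divisor hU trivial D
    (hfin.subset fun x hx => hx.2.2)
  exact ⟨f, hf0, fun x hx => hf x trivial hx⟩

end Groth.Agent.S13460
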