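import Groth.Statements.S13461
import Groth.Agent.Curves.K324.Basic
import Groth.Agent.S1612
import Groth.Agent.S10962
import Groth.Agent.S0843
import Groth.Agent.Fano.K713.Count
import Groth.Agent.Fdesc.LocGenPullback

set_option autoImplicit false
universe u
open CategoryTheory CategoryTheory.Limits AlgebraicGeometry TopologicalSpace
open Curves

namespace Groth.Agent.S13461

open Groth.Agent Groth.Agent.CurvesB

/-- The pullback of global sections as an additive map. -/
noncomputable def ps {X Y : Scheme.{u}} (i : X ⟶ Y) (M : Y.Modules) :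
    Γ(M, ⊤) →+ Γ((Scheme.Modules.pullback i).obj M, ⊤) :=
  (OmegaSh.pullSect i M ⊤).hom

/-- The pullback of sections is semilinear. -/
theorem ps_smul {X Y : Scheme.{u}} (i : X ⟶ Y) (M : Y.Modules) (a : Γ(Y, ⊤)) (s : Γ(M, ⊤)) :
    ps i M (a • s) = (i.appTop a) • ps i M s := by
  exact Scheme.Modules.Hom.app_smul _ a s

/-- Let k be a field and X a smooth proper geometrically connected curve over k (proper, smooth and
geometrically connected over k, of dimension one) of genus dim_k H^1(X, O_X) = 4, and let i : X →
P^3_k be a closed immersion over k whose pullback of O(1) is isomorphic to the sheaf of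
differentials Ω_{X/k} (X is canonically embedded, hence not hyperelliptic). Then X lies on a quadric
surface: there is a nonzero global section Q of O_{P^3_k}(2) whose pullback along i is the zero
section of i^*O(2). (The published statement goes on to assert that X is the complete intersection
of such a quadric with a cubic surface; this row states only the existence of the quadric.) -/
theorem result (k : Type u) [Field k] (X : Scheme.{u}) [X.Over (Spec (CommRingCat.of k))]
    [IsProper (X ↘ (Spec (CommRingCat.of k)))] [Smooth (X ↘ (Spec (CommRingCat.of k)))] [GeometricallyConnected (X ↘ (Spec (CommRingCat.of k)))]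
    (hdim : topologicalKrullDim X = 1) (hg : Curv2.genus k X = 4)
    (i : X ⟶ CohB1.ProjSpace 3 k) [IsClosedImmersion i] (hi : i ≫ CohB1.ProjSpace.toSpec 3 k = X ↘ (Spec (CommRingCat.of k)))
    (hcan : Nonempty ((Scheme.Modules.pullback i).obj (Twist.twistProjSpace 3 k 1) ≅ Omega.sheaf (X ↘ (Spec (CommRingCat.of k))))) :
    ∃ Q : Γ(Twist.twistProjSpace 3 k 2, ⊤), Q ≠ 0 ∧
      OmegaSh.pullSect i (Twist.twistProjSpace 3 k 2) ⊤ Q = 0 := by
  have hint := K324.Basic.isIntegral_of_smooth X k
  have h0 := K324.Basic.finrank_H0_of_smooth X k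
  obtain ⟨e⟩ := hcan
  obtain ⟨-, hΩ⟩ := S1612.result k X ⟨inferInstance, inferInstance, hint, hdim⟩ h0
  have hO1 : PicF.IsInvertible (Twist.twistProjSpace 3 k 1) := S10962.isInvertible_twist k 3 1
  have hL : PicF.IsInvertible ((Scheme.Modules.pullback i).obj (Twist.twistProjSpace 3 k 1)) :=
    Fdesc.LocGen.isInvertible_pullback i hO1
  have hdL : Curv2.deg k X ((Scheme.Modules.pullback i).obj (Twist.twistProjSpace 3 k 1)) 1 = 6 := by
    rw [Dix.InterNum.deg_congr k X hdim e, hΩ, hg]; norm_num
  obtain ⟨m⟩ := S10962.nonempty_tensor k 3 1 1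
  obtain ⟨c⟩ := Dix.IdealModCartier.pullback_tensorMod i hO1 hO1
  have h2 : (1 : ℤ) + 1 = 2 := by norm_num
  rw [h2] at m
  let d : (Scheme.Modules.pullback i).obj (Twist.twistProjSpace 3 k 2) ≅
      CohB1.tensorMod ((Scheme.Modules.pullback i).obj (Twist.twistProjSpace 3 k 1))
        ((Scheme.Modules.pullback i).obj (Twist.twistProjSpace 3 k 1)) :=
    (Scheme.Modules.pullback i).mapIso m.symm ≪≫ c
  have hM : PicF.IsInvertible ((Scheme.Modules.pullback i).obj (Twist.twistProjSpace 3 k 2)) :=
    Fdesc.LocGen.isInvertible_pullback i (S10962.isInvertible_twist k 3 2)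
  have hdM : Curv2.deg k X ((Scheme.Modules.pullback i).obj (Twist.twistProjSpace 3 k 2)) 1 = 12 := by
    rw [Dix.InterNum.deg_congr k X hdim d, Dix.InterNum.deg_tensor k X hdim hL hL, hdL]; norm_num
  have hH1 := K324.Basic.H1_subsingleton X k hdim h0 hM (by rw [hdM, hg]; norm_num)
  have hRR := K324.Basic.riemannRoch X k hdim h0
    ((Scheme.Modules.pullback i).obj (Twist.twistProjSpace 3 k 2))
  have hfin := K324.Basic.finite_H X k hM 0
  rw [Module.finrank_zero_of_subsingleton (M := Coh.HH X _ 1), hdM, hg] at hRR
  obtain ⟨ψ⟩ := S0843.result k 3 2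
  have h10 : Module.finrank k (Coh.HH (CohB1.ProjSpace 3 k) (Twist.twistProjSpace 3 k 2) 0) = 10 := by
    have := ψ.finrank_eq
    rw [K713.Count.finrank_homogeneous] at this
    exact this
  let φ : Coh.HH (CohB1.ProjSpace 3 k) (Twist.twistProjSpace 3 k 2) 0 →ₗ[k]
      Coh.HH X ((Scheme.Modules.pullback i).obj (Twist.twistProjSpace 3 k 2)) 0 :=
    { toFun := fun x => (HZero.equivAdd _).symm
        (ps i (Twist.twistProjSpace 3 k 2) (HZero.equivAdd _ x))
      map_add' := fun x y => by
        rw [map_add, map_add, map_add]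
      map_smul' := fun t x => by
        rw [HZero.equivAdd_smul_over, ps_smul]
        apply (HZero.equivAdd _).injective
        rw [RingHom.id_apply, HZero.equivAdd_smul_over, AddEquiv.apply_symm_apply,
          AddEquiv.apply_symm_apply]
        congr 1
        have h5 := Dix.InterNum.glo_comp i (CohB1.ProjSpace.toSpec 3 k) t
        rw [hi] at h5
        exact h5.symm }
  have hker : ¬ Function.Injective φ := by
    intro hinj
    have := LinearMap.finrank_le_finrank_of_injective hinj
    omega
  rw [← LinearMap.ker_eq_bot, Submodule.eq_bot_iff] at hker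
  push Not at hker
  obtain ⟨x, hx, hx0⟩ := hker
  refine ⟨HZero.equivAdd _ x, fun h => hx0 ((HZero.equivAdd _).map_eq_zero_iff.mp h), ?_⟩
  have h3 : (HZero.equivAdd _).symm
      (ps i (Twist.twistProjSpace 3 k 2) (HZero.equivAdd _ x)) = 0 := hx
  exact (HZero.equivAdd _).symm.map_eq_zero_iff.mp h3

end Groth.Agent.S13461
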