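import Groth.Statements.S13479
import Groth.Agent.TateGlob.K620.Van

set_option autoImplicit false
universe u
open GmDual

namespace Groth.Agent.S13479

open CategoryTheory AlgebraicGeometry MonObj CategoryTheory.Limits in
/-- For a field k of characteristic p > 0 and an affine commutative k-group scheme G of finite type, the
fppf sheaf 𝓔xt^1_k(G, G_m), the first Ext sheaf of the sheaf of points of G with values in the
multiplicative group on the big fppf site of Spec k, vanishes. (This fails in characteristic zero.) -/
theorem result (p : ℕ) [Fact p.Prime] (k : Type u) [Field k] [CharP k p]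
    (G : Over (Spec (CommRingCat.of k))) [GrpObj G] [IsCommMonObj G] [IsAffine G.left] [LocallyOfFiniteType G.hom] :
    IsZero ((HomSh.extSh (QuotSh.J Scheme.fppfPrecoverage (Spec (CommRingCat.of k))) (CGrpSh.pts Scheme.fppfPrecoverage G) 1).obj
      (CGrpSh2.Gm Scheme.fppfPrecoverage (Spec (CommRingCat.of k)))) := by
  have h0 : (p : Γ(Spec (CommRingCat.of k), ⊤)) = 0 := by
    have h1 : (p : k) = 0 := CharP.cast_eq_zero k p
    have := congrArg (Scheme.ΓSpecIso (CommRingCat.of k)).inv.hom h1
    rwa [map_natCast, map_zero] at this
  exact K620.ExtV.van_field (fun T => K620.ExtV.van_torus T) (K620.ExtV.van_ga p _ h0) G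

end Groth.Agent.S13479
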