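import Groth.Statements.S13467
import Groth.Agent.GaDual.K771.PerfGad

set_option autoImplicit false
universe u
open GaDual

namespace Groth.Agent.S13467

open CategoryTheory AlgebraicGeometry in
/-- For a perfect field k, the fppf cohomology H^i(k, Ĝ_a) of the dual sheaf of the additive group
(internal Hom from the additive group into the multiplicative group on the big fppf site of Spec k)
vanishes in every degree i. -/
theorem result (k : Type u) [Field k] [PerfectField k] (i : ℕ) :
    Subsingleton (BigSite.H Scheme.fppfPrecoverage (Spec (CommRingCat.of k))
      (CGrpSh2.dualSh Scheme.fppfPrecoverage (CGrpSh2.Ga Scheme.fppfPrecoverage (Spec (CommRingCat.of k)))) i) :=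
  K771.PerfGad.subsingleton k i

end Groth.Agent.S13467
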