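import Groth.Statements.S13468
import Groth.Agent.GaDual.K771.ExtTwo

set_option autoImplicit false
universe u
open GaDual

namespace Groth.Agent.S13468

open CategoryTheory AlgebraicGeometry in
/-- For a perfect field k, the group Ext^2 of the additive group by the multiplicative group, computed
in abelian sheaves on the big fppf site of Spec k, vanishes. (The published statement also asserts,
for every field, that the three groups H^2(k, Ĝ_a), Ext^2(G_a, G_m) and the primitive Brauer group
of the affine line are identified by specific maps, and that all three vanish for perfect k; this
row is the Ext^2 vanishing.) -/
theorem result (k : Type u) [Field k] [PerfectField k] :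
    Subsingleton (CGrpSh.ExtS Scheme.fppfPrecoverage (Red.Ga (Spec (CommRingCat.of k))) (Red.Gm (Spec (CommRingCat.of k))) 2) := by
  exact K771.ExtTwo.subsingleton_ext_two k

end Groth.Agent.S13468
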