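import Groth.Statements.S13469
import Groth.Agent.GmDual.K778.CharDict
import Groth.Agent.GmDual.K778.GroupLift
import Groth.Agent.GmDual.K778.GroupFG
import Mathlib.GroupTheory.FiniteAbelian.Basic

set_option autoImplicit false
universe u
open GmDual

namespace Groth.Agent.S13469

open CategoryTheory AlgebraicGeometry MonObj in
/-- Let k be a field and i : H → G a homomorphism of affine commutative k-group schemes of finite type
which is a closed immersion. Then the restriction map Ĝ(k) → Ĥ(k) on characters defined over k
(morphisms of abelian sheaves on the big fppf site of Spec k from the sheaf of points to the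
multiplicative group, restricted along i) has finite cokernel: its image is a subgroup of finite
index. -/
theorem result (k : Type u) [Field k]
    (H G : Over (Spec (CommRingCat.of k))) [GrpObj H] [IsCommMonObj H] [GrpObj G] [IsCommMonObj G]
    [IsAffine H.left] [LocallyOfFiniteType H.hom] [IsAffine G.left] [LocallyOfFiniteType G.hom]
    (i : H ⟶ G) [IsMonHom i] [IsClosedImmersion i.left] :
    (Preadditive.leftComp (CGrpSh2.Gm Scheme.fppfPrecoverage (Spec (CommRingCat.of k)))
      (CGrpSh.ptsMap Scheme.fppfPrecoverage i)).range.FiniteIndex  := by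
  obtain ⟨A, B, _, _, _, _, eG, hG, eH, hH, φ, hφ, hA, hB⟩ := K778.CharDict.exists_chart G H i
  have h1 : IsClosedImmersion (Groth.Agent.Books.AffBridge.specMap k (φ : A →ₐ[k] B)).left := by
    rw [hφ]
    change IsClosedImmersion (eH.inv.left ≫ i.left ≫ eG.hom.left)
    have a1 : IsIso eH.inv.left := inferInstanceAs (IsIso ((Over.forget _).map eH.inv))
    have a2 : IsIso eG.hom.left := inferInstanceAs (IsIso ((Over.forget _).map eG.hom))
    infer_instance
  have h2 : Function.Surjective φ := K778.CharDict.surjective_of_isClosedImmersion (φ : A →ₐ[k] B)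
  have hBft : Algebra.FiniteType k B := K778.CharDict.finiteType_of_iso eH
  have hfg : Group.FG (GroupLike k B) := K778.GroupFG.fg
  let M := CGrpSh.pts Scheme.fppfPrecoverage H ⟶ CGrpSh2.Gm Scheme.fppfPrecoverage (Spec (CommRingCat.of k))
  let R : AddSubgroup M := (Preadditive.leftComp (CGrpSh2.Gm Scheme.fppfPrecoverage (Spec (CommRingCat.of k)))
      (CGrpSh.ptsMap Scheme.fppfPrecoverage i)).range
  let e : M ≃+ Additive (GroupLike k B) := AddEquiv.ofBijective (K778.CharDict.toGL eH)
    ⟨K778.CharDict.toGL_injective eH, K778.CharDict.toGL_surjective eH⟩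
  have hfg' : AddGroup.FG (Additive (GroupLike k B)) := inferInstance
  have hM : AddGroup.FG M := AddGroup.fg_of_surjective (f := e.symm.toAddMonoidHom) e.symm.surjective
  have hQ : Finite (M ⧸ R) := by
    apply AddCommGroup.finite_of_fg_isAddTorsion
    intro x
    obtain ⟨χ, rfl⟩ := QuotientAddGroup.mk_surjective x
    obtain ⟨K, _, _, _, g, hg, hgh⟩ := K778.GroupLift.exists_pow_lift φ h2 (K778.CharDict.toGL eH χ).toMul.2
    obtain ⟨ψ, hψ⟩ := K778.CharDict.toGL_surjective (K := Scheme.fppfPrecoverage) eG (Additive.ofMul ⟨g, hg⟩)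
    rw [isOfFinAddOrder_iff_nsmul_eq_zero]
    refine ⟨Module.finrank k K, Module.finrank_pos, ?_⟩
    change ((Module.finrank k K • χ : M) : M ⧸ R) = 0
    rw [QuotientAddGroup.eq_zero_iff]
    refine ⟨ψ, ?_⟩
    apply K778.CharDict.toGL_injective eH
    rw [map_nsmul]
    apply Additive.toMul.injective
    apply GroupLike.val_injective
    refine (K778.CharDict.toGL_nat eG eH i φ hφ ψ).trans ?_
    rw [hψ]
    exact hgh
  exact AddSubgroup.finiteIndex_of_finite_quotient

end Groth.Agent.S13469
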