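import Groth.Statements.S13470
import Groth.Agent.GmDual.K778.CharDict
import Groth.Agent.GmDual.K778.GroupLift

set_option autoImplicit false
universe u
open GmDual

namespace Groth.Agent.S13470

open CategoryTheory AlgebraicGeometry MonObj in
/-- Let k be an algebraically closed field and i : H → G a homomorphism of affine commutative k-group
schemes of finite type which is a closed immersion. Then the restriction map Ĝ(k) → Ĥ(k) on
characters defined over k (morphisms of abelian sheaves on the big fppf site of Spec k from the
sheaf of points to the multiplicative group, restricted along i) is surjective. -/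
theorem result (k : Type u) [Field k] [IsAlgClosed k]
    (H G : Over (Spec (CommRingCat.of k))) [GrpObj H] [IsCommMonObj H] [GrpObj G] [IsCommMonObj G]
    [IsAffine H.left] [LocallyOfFiniteType H.hom] [IsAffine G.left] [LocallyOfFiniteType G.hom]
    (i : H ⟶ G) [IsMonHom i] [IsClosedImmersion i.left] :
    Function.Surjective (Preadditive.leftComp (CGrpSh2.Gm Scheme.fppfPrecoverage (Spec (CommRingCat.of k)))
      (CGrpSh.ptsMap Scheme.fppfPrecoverage i))  := by
  obtain ⟨A, B, _, _, _, _, eG, hG, eH, hH, φ, hφ, hA, hB⟩ := K778.CharDict.exists_chart G H i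
  have h1 : IsClosedImmersion (Groth.Agent.Books.AffBridge.specMap k (φ : A →ₐ[k] B)).left := by
    rw [hφ]
    change IsClosedImmersion (eH.inv.left ≫ i.left ≫ eG.hom.left)
    have a1 : IsIso eH.inv.left := inferInstanceAs (IsIso ((Over.forget _).map eH.inv))
    have a2 : IsIso eG.hom.left := inferInstanceAs (IsIso ((Over.forget _).map eG.hom))
    infer_instance
  have h2 : Function.Surjective φ := K778.CharDict.surjective_of_isClosedImmersion (φ : A →ₐ[k] B)
  intro χ
  obtain ⟨g, hg, hgh⟩ := K778.GroupLift.exists_lift φ h2 (K778.CharDict.toGL eH χ).toMul.2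
  obtain ⟨ψ, hψ⟩ := K778.CharDict.toGL_surjective (K := Scheme.fppfPrecoverage) eG (Additive.ofMul ⟨g, hg⟩)
  refine ⟨ψ, ?_⟩
  apply K778.CharDict.toGL_injective eH
  apply Additive.toMul.injective
  apply GroupLike.val_injective
  refine (K778.CharDict.toGL_nat eG eH i φ hφ ψ).trans ?_
  rw [hψ]
  exact hgh

end Groth.Agent.S13470
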