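import Groth.Statements.S13471
import Groth.Agent.GmDual.K778.FieldTor
import Groth.Agent.TateLoc.K620.Devissage

set_option autoImplicit false
universe u
open GmDual

namespace Groth.Agent.S13471

open CategoryTheory AlgebraicGeometry MonObj in
/-- For a field k and an affine commutative k-group scheme G of finite type, the group H^1(k, Ĝ), the
first cohomology on the big fppf site of Spec k of the dual sheaf of G (internal Hom from the sheaf
of points of G into the multiplicative group), is isomorphic to the group Ext^1(G, G_m) of abelian
fppf sheaves. (The published statement gives a specific isomorphism, canonical up to a universal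
sign; this row asserts the existence of an isomorphism of abelian groups only.) -/
theorem result (k : Type u) [Field k]
    (G : Over (Spec (CommRingCat.of k))) [GrpObj G] [IsCommMonObj G] [IsAffine G.left] [LocallyOfFiniteType G.hom] :
    Nonempty (BigSite.H Scheme.fppfPrecoverage (Spec (CommRingCat.of k)) (CGrpSh2.dualSh Scheme.fppfPrecoverage (CGrpSh.pts Scheme.fppfPrecoverage G)) 1 ≃+
      CGrpSh.ExtS Scheme.fppfPrecoverage G (Red.Gm (Spec (CommRingCat.of k))) 1)  := by
  have hP : K778.FieldLift.PP G := by
    refine K620.Devissage.induct k (fun G _ _ => K778.FieldLift.PP G) (fun G H _ _ _ _ e _ h => h.iso e)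
      (fun G₁ G₂ G₃ _ _ _ _ _ _ _ _ _ _ _ _ f g _ _ w hex h1 h3 => K778.FieldLift.PP.ext G₁ G₂ G₃ f g w hex h1 h3)
      (fun G _ _ _ => K778.FieldLift.PP.fin G) (fun T _ _ _ _ hT => K778.FieldTor.PP.tor hT) K778.FieldLift.PP.ga G
  exact K778.FieldTor.nonempty_of_PP G hP

end Groth.Agent.S13471
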