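import Groth.Statements.S13473
import Groth.Agent.S13372
import Groth.Agent.GaDual.K771.HExt
import Groth.Agent.GaDual.K772.DualExt

set_option autoImplicit false
universe u
open GaDual

namespace Groth.Agent.S13473

open CategoryTheory AlgebraicGeometry MonObj CategoryTheory.Limits in
/-- Let R be a commutative ring of prime characteristic p with surjective Frobenius, and U a commutative
R-group scheme with a finite chain of commutative R-group schemes U₀, …, Uₙ = U, where U₀ is the
trivial sheaf and each Uⱼ → Uⱼ₊₁ → G_a is short exact as abelian sheaves on the big fppf site of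
Spec R (so the successive quotients are the additive group). Then the first fppf cohomology group
H^1(R, Û) of the dual sheaf of U (internal Hom into the multiplicative group) vanishes. -/
theorem result (p : ℕ) [Fact p.Prime]
    (R : Type u) [CommRing R] [CharP R p] (hFrob : Function.Surjective (frobenius R p))
    (n : ℕ) (U : Fin (n + 1) → Over (Spec (CommRingCat.of R))) [∀ j, GrpObj (U j)] [∀ j, IsCommMonObj (U j)]
    (incl : ∀ j : Fin n, U j.castSucc ⟶ U j.succ) (proj : ∀ j : Fin n, U j.succ ⟶ Red.Ga (Spec (CommRingCat.of R)))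
    [∀ j, IsMonHom (incl j)] [∀ j, IsMonHom (proj j)] (w : ∀ j, incl j ≫ proj j = 1)
    (hex : ∀ j, (CGrpSh.seq Scheme.fppfPrecoverage (incl j) (proj j) (w j)).ShortExact)
    (h0 : IsZero (CGrpSh.pts Scheme.fppfPrecoverage (U 0))) :
    Subsingleton (BigSite.H Scheme.fppfPrecoverage (Spec (CommRingCat.of R))
      (CGrpSh2.dualSh Scheme.fppfPrecoverage (CGrpSh.pts Scheme.fppfPrecoverage (U (Fin.last n)))) 1) := by
  have key : ∀ j : Fin (n + 1), Subsingleton (Abelian.Ext (CGrpSh.pts Scheme.fppfPrecoverage (U j))
      (K771.Pts.Gm (Spec (CommRingCat.of R))) 1) := by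
    intro j
    induction j using Fin.induction with
    | zero => exact K771.HExt.sub_of_isZero_left h0 1
    | succ j ih =>
      have h1 : Subsingleton (Abelian.Ext (CGrpSh.seq Scheme.fppfPrecoverage (incl j) (proj j) (w j)).X₃
          (K771.Pts.Gm (Spec (CommRingCat.of R))) 1) := Groth.Agent.S13372.result p R hFrob
      have h2 : Subsingleton (Abelian.Ext (CGrpSh.seq Scheme.fppfPrecoverage (incl j) (proj j) (w j)).X₁
          (K771.Pts.Gm (Spec (CommRingCat.of R))) 1) := ih
      exact K771.HExt.sub₂' (hex j) _ 1
  have := key (Fin.last n)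
  exact K772.DualExt.subsingleton_H_one _ _ Over.mkIdTerminal

end Groth.Agent.S13473
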