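import Groth.Statements.S13476
import Groth.Agent.GaDual.K674.HTwoMain

set_option autoImplicit false
universe u
open GaDual

namespace Groth.Agent.S13476

open CategoryTheory AlgebraicGeometry in
/-- Let R be a domain of prime characteristic p which is a field or a Henselian discrete valuation ring
and whose fraction field k has degree p over its subfield k^p of p-th powers. Then H^2(R, Ĝ_a), the
second cohomology group on the big fppf site of Spec R of the dual sheaf of the additive group
(internal Hom from the additive into the multiplicative group), is isomorphic as an abelian group to
the additive group of R. (The published statement is that H^2(R, Ĝ_a) is a free R-module of rank one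
for the module structure induced by the R-linear action on the additive group; this row asserts only
the existence of an isomorphism of abelian groups with R.) -/
theorem result (p : ℕ) [Fact p.Prime] (R : Type u) [CommRing R]
    [IsDomain R] [CharP R p] (hR : IsField R ∨ (IsDiscreteValuationRing R ∧ HenselianLocalRing R))
    (kp : Subfield (FractionRing R)) (hkp : ∀ x : FractionRing R, x ∈ kp ↔ ∃ y : FractionRing R, y ^ p = x)
    (hdeg : Module.finrank kp (FractionRing R) = p) :
    Nonempty (BigSite.H Scheme.fppfPrecoverage (Spec (CommRingCat.of R))
      (CGrpSh2.dualSh Scheme.fppfPrecoverage (CGrpSh2.Ga Scheme.fppfPrecoverage (Spec (CommRingCat.of R)))) 2 ≃+ R) := by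
  obtain ⟨e, -⟩ := K674.HTwoMain.linear p R hR kp hkp hdeg
  exact ⟨e⟩

end Groth.Agent.S13476
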