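import Groth.Statements.S13477
import Groth.Agent.S13383
import Groth.Agent.GaDual.K772.DualExt
-- import your own Groth.Agent.* helpers here

set_option autoImplicit false
universe u
open GaDual

namespace Groth.Agent.S13477

open CategoryTheory AlgebraicGeometry in
/-- Let X be a reduced scheme such that every invertible module on the total space of the additive group
over X (the affine line over X) is trivial. Then H^1(X, Ĝ_a) = 0: the first cohomology on the big
fppf site of X of the dual sheaf of the additive group (internal Hom from the additive into the
multiplicative group) vanishes. -/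
theorem result (X : Scheme.{u}) [IsReduced X]
    (hPic : ∀ L : (Red.Ga X).left.Modules, PicF.IsInvertible L →
      Nonempty (L ≅ Coh.structureModule (Red.Ga X).left)) :
    Subsingleton (BigSite.H Scheme.fppfPrecoverage X (CGrpSh2.dualSh Scheme.fppfPrecoverage (CGrpSh2.Ga Scheme.fppfPrecoverage X)) 1) := by
  have h : Subsingleton (Abelian.Ext (CGrpSh2.Ga Scheme.fppfPrecoverage X) (CGrpSh2.Gm Scheme.fppfPrecoverage X) 1) :=
    Groth.Agent.S13383.result X hPic
  exact K772.DualExt.subsingleton_H_one _ _ (T := Over.mk (𝟙 X)) Over.mkIdTerminal

end Groth.Agent.S13477
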