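import Groth.Statements.S13497
import Groth.Agent.LocCoh.K227.GamHat

set_option autoImplicit false
universe u
open CategoryTheory CategoryTheory.Limits
attribute [local instance] HasDerivedCategory.standard
open LocCoh

namespace Groth.Agent.S13497

/-- Let I and J be ideals of a Noetherian ring A which is I-adically complete, and M a finite A-module.
Then H^0 of the derived I-adic completion of RGamma_J(M) is the filtered colimit (union) of the
submodules H^0_{V(J')}(M) of J'-power torsion elements of M, over the ideals J' contained in J with
V(J') ∩ V(I) = V(J) ∩ V(I), that is with J contained in the radical of J' + I. Precisely: the map on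
H^0 induced by the completion of RGamma_J(M) -> M is injective, and its range is the image of that
union under M -> H^0(M^) (H^0 of the completion unit of M in degree 0). RGamma_J is the total right
derived functor of the J-power torsion functor (which is RGamma_{V(J)} since A is Noetherian); its
existence, and that of derived I-completion, are instance hypotheses. -/
theorem result (A : Type u) [CommRing A] [IsNoetherianRing A] (I J : Ideal A) [IsAdicComplete I A] [DRing.HasRgammaI J] [DRing.HasDerivedCompletion I] (M : Type u) [AddCommGroup M] [Module A M] [Module.Finite A M] : Function.Injective ((DerivedCategory.homologyFunctor (ModuleCat.{u} A) 0).map ((ObjectProperty.ι (DRing.IsDerivedComplete I)).map ((DRing.derivedCompletion I).map ((DRing.RgammaIε J).app (Dual.inD A M))))).hom ∧ Set.range ((DerivedCategory.homologyFunctor (ModuleCat.{u} A) 0).map ((ObjectProperty.ι (DRing.IsDerivedComplete I)).map ((DRing.derivedCompletion I).map ((DRing.RgammaIε J).app (Dual.inD A M))))).hom = (fun s : M => ((DerivedCategory.homologyFunctor (ModuleCat.{u} A) 0).map (DRing.toDerivedCompletion I (Dual.inD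 A M))).hom (((DerivedCategory.singleFunctorCompHomologyFunctorIso (ModuleCat.{u} A) 0).inv.app (ModuleCat.of A M)).hom s)) '' {s : M | ∃ J' : Ideal A, J' ≤ J ∧ J ≤ (J' ⊔ I).radical ∧ s ∈ DRing.torsionSub J' M} := by
  obtain ⟨hinj, hex, hsur⟩ := K227.GamHat.main I J M
  have hs : ∀ s : M, Groth.Agent.Localalg.DRingHom.ringEquiv A (Dual.inD A M) K164.EvZero.z0
      ((K164.EvZero.evM (ModuleCat.of A M)).symm s) =
      ((DerivedCategory.singleFunctorCompHomologyFunctorIso (ModuleCat.{u} A) 0).inv.app
        (ModuleCat.of A M)).hom s := fun s =>
    (Groth.Agent.Localalg.DRingHom.ringEquiv A (Dual.inD A M) K164.EvZero.z0).apply_symm_apply _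
  constructor
  · rw [injective_iff_map_eq_zero]
    intro a ha
    let E := Groth.Agent.Localalg.DRingHom.ringEquiv A
      ((DRing.derivedCompletion I).obj ((DRing.RgammaI J).obj (Dual.inD A M))).obj K164.EvZero.z0
    have h1 := hinj (E.symm a) (by
      apply (Groth.Agent.Localalg.DRingHom.ringEquiv A _ K164.EvZero.z0).injective
      rw [Groth.Agent.Localalg.DRingHom.ringEquiv_comp, map_zero]
      refine Eq.trans ?_ ha
      exact congrArg _ (E.apply_symm_apply a))
    have h2 := congrArg E h1
    rw [E.apply_symm_apply, map_zero] at h2
    exact h2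
  · ext z
    constructor
    · rintro ⟨a, rfl⟩
      let E := Groth.Agent.Localalg.DRingHom.ringEquiv A
        ((DRing.derivedCompletion I).obj ((DRing.RgammaI J).obj (Dual.inD A M))).obj K164.EvZero.z0
      obtain ⟨s, h1, h2⟩ := hex (E.symm a)
      refine ⟨s, K227.GamHat.exists_ideal_of_forall I J s h1, ?_⟩
      have h3 := congrArg (Groth.Agent.Localalg.DRingHom.ringEquiv A _ K164.EvZero.z0) h2
      rw [Groth.Agent.Localalg.DRingHom.ringEquiv_comp, Groth.Agent.Localalg.DRingHom.ringEquiv_comp,
        hs] at h3
      refine Eq.trans ?_ (h3.symm.trans ?_)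
      · rfl
      · exact congrArg _ (E.apply_symm_apply a)
    · rintro ⟨s, h1, rfl⟩
      obtain ⟨y, hy⟩ := hsur s (K227.GamHat.forall_of_exists_ideal I J s h1)
      refine ⟨Groth.Agent.Localalg.DRingHom.ringEquiv A _ K164.EvZero.z0 y, ?_⟩
      have h3 := congrArg (Groth.Agent.Localalg.DRingHom.ringEquiv A _ K164.EvZero.z0) hy
      rw [Groth.Agent.Localalg.DRingHom.ringEquiv_comp, Groth.Agent.Localalg.DRingHom.ringEquiv_comp,
        hs] at h3
      exact h3

end Groth.Agent.S13497
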