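import Groth.Statements.S13501
import Groth.Agent.S0134
import Groth.Agent.EtpbcA.ConsExact
import Groth.Agent.EtpbcA.StrataGlob

set_option autoImplicit false
universe u
open CategoryTheory CategoryTheory.Limits AlgebraicGeometry Opposite
open EtPBC

namespace Groth.Agent.S13501

/-- Let X be a quasi-compact and quasi-separated scheme and F a torsion abelian sheaf on X_et. If Hom(F,
-) commutes with filtered colimits (of shape any small filtered category in the universe of the
sheaf category's morphisms), then F is constructible. This is the converse of the compactness of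
constructible sheaves. -/
theorem result (X : Scheme.{u}) [CompactSpace X]
    [QuasiSeparatedSpace X] (F : EtCoh.Ab X) (hF : EtCoh.IsTorsion F)
    (hc : ∀ (J : Type (u + 1)) [SmallCategory J] [IsFiltered J],
      PreservesColimitsOfShape J (coyoneda.obj (op F))) :
    EtPBC.IsConstructible F := by
  obtain ⟨J, _, _, D, c, hcc, hD, ⟨e⟩⟩ := Groth.Agent.S0134.result X F hF
  have := hc J
  obtain ⟨j, s, hs⟩ := Types.jointly_surjective_of_isColimit
    (isColimitOfPreserves (coyoneda.obj (op F)) hcc) (e.inv : F ⟶ c.pt)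
  change F ⟶ D.obj j at s
  change s ≫ c.ι.app j = e.inv at hs
  -- `F` is a direct factor of `D j`
  obtain ⟨r, hsr⟩ : ∃ r : D.obj j ⟶ F, s ≫ r = 𝟙 F :=
    ⟨c.ι.app j ≫ e.hom, by rw [← Category.assoc, hs, e.inv_hom_id]⟩
  have hker : EtPBC.IsConstructible (kernel (𝟙 (D.obj j) - r ≫ s)) :=
    Groth.Agent.EtpbcA.ConsExact.isConstructible_kernel _ (hD j) (hD j)
  have h1 : s ≫ (𝟙 (D.obj j) - r ≫ s) = 0 := by
    rw [Preadditive.comp_sub, Category.comp_id, ← Category.assoc, hsr, Category.id_comp, sub_self]
  refine Groth.Agent.EtpbcA.StrataGlob.isConstructible_of_iso ?_ hker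
  refine ⟨kernel.ι _ ≫ r, kernel.lift _ s h1, ?_, ?_⟩
  · rw [← cancel_mono (kernel.ι (𝟙 (D.obj j) - r ≫ s)), Category.assoc, kernel.lift_ι,
      Category.id_comp, Category.assoc]
    have h2 := kernel.condition (𝟙 (D.obj j) - r ≫ s)
    rw [Preadditive.comp_sub, Category.comp_id, sub_eq_zero] at h2
    exact h2.symm
  · rw [← Category.assoc, kernel.lift_ι, hsr]

end Groth.Agent.S13501
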