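-- Statement S14624
import Groth.Statements.S14624
import Groth.Agent.Hensel.K143.FpColim

set_option autoImplicit false
open CategoryTheory CategoryTheory.Limits
universe u
open Hensel

namespace Groth.Agent.S14624

/-- Let A be a commutative ring, m a proper ideal of A and Â the m-adic completion. Assume the
approximation property for polynomial systems: whenever finitely many polynomials over A in finitely
many variables have a common zero â in Â, then for every c there is a common zero a in A which
agrees with â in A/m^c. Let F be a functor from A-algebras (commutative rings under A) to sets which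
preserves filtered colimits, c a natural number and ξ ∈ F(Â). Then there is η ∈ F(A) whose image in
F(A/m^c) equals the image of ξ; here π is the A-algebra map Â → A/m^c (pinned by its underlying ring
map) and ρ the A-algebra map A → A/m^c. (The published statement takes for A the henselization at a
prime ideal of an algebra of finite type over a field or over an excellent discrete valuation ring,
for which the approximation property of polynomial systems is quoted; this row carries that property
as a hypothesis and draws the published conclusion for functors.) -/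
theorem result (A : Type u) [CommRing A]
    (m : Ideal A) (hm : m ≠ ⊤)
    (hAP : ∀ (k l c : ℕ) (f : Fin l → MvPolynomial (Fin k) A) (â : Fin k → AdicCompletion m A),
      (∀ i, MvPolynomial.aeval â (f i) = 0) →
      ∃ a : Fin k → A, (∀ i, MvPolynomial.eval a (f i) = 0) ∧
        ∀ j, Ideal.Quotient.mk (m ^ c) (a j) = AdicCompletion.evalₐ m c (â j))
    (F : Under (CommRingCat.of A) ⥤ Type u)
    (hF : ∀ (J : Type u) [SmallCategory J] [IsFiltered J], PreservesColimitsOfShape J F)
    (c : ℕ)
    (π : Under.mk (CommRingCat.ofHom (algebraMap A (AdicCompletion m A))) ⟶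
      Under.mk (CommRingCat.ofHom (algebraMap A (A ⧸ m ^ c))))
    (hπ : π.right = CommRingCat.ofHom
      (AdicCompletion.evalₐ m c : AdicCompletion m A →ₐ[A] A ⧸ m ^ c).toRingHom)
    (ρ : Under.mk (𝟙 (CommRingCat.of A)) ⟶ Under.mk (CommRingCat.ofHom (algebraMap A (A ⧸ m ^ c))))
    (ξ : F.obj (Under.mk (CommRingCat.ofHom (algebraMap A (AdicCompletion m A))))) :
    ∃ η : F.obj (Under.mk (𝟙 (CommRingCat.of A))), F.map ρ η = F.map π ξ := by
  have := hF (K143.FpColim.Idx A (AdicCompletion m A))
  obtain ⟨i, x, rfl⟩ := K143.FpColim.exists_rep (B := AdicCompletion m A) F ξ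
  obtain ⟨s, hs⟩ := i.fg
  let f : Fin s.card → MvPolynomial (Fin i.n) A := fun t => s.equivFin.symm t
  have hf : ∀ p ∈ s, ∃ t, f t = p := fun p hp => ⟨s.equivFin ⟨p, hp⟩, by simp [f]⟩
  let â : Fin i.n → AdicCompletion m A := fun t => i.σ (Ideal.Quotient.mk _ (MvPolynomial.X t))
  have hâ : (MvPolynomial.aeval â : MvPolynomial (Fin i.n) A →ₐ[A] AdicCompletion m A) =
      i.σ.comp (Ideal.Quotient.mkₐ A i.I) := by
    refine MvPolynomial.algHom_ext fun t => ?_
    rw [MvPolynomial.aeval_X]
    rfl
  obtain ⟨a, ha, ha'⟩ := hAP i.n s.card c f â (fun t => by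
    rw [hâ, AlgHom.comp_apply]
    have h1 : f t ∈ i.I := hs ▸ Ideal.subset_span (s.equivFin.symm t).2
    rw [Ideal.Quotient.mkₐ_eq_mk, Ideal.Quotient.eq_zero_iff_mem.mpr h1, map_zero])
  let τ₀ : MvPolynomial (Fin i.n) A →ₐ[A] A := MvPolynomial.aeval a
  have hτ₀ : i.I ≤ RingHom.ker τ₀ := by
    rw [← hs, Ideal.span_le]
    intro p hp
    obtain ⟨t, rfl⟩ := hf p hp
    exact ha t
  let τ : i.Alg →ₐ[A] A := Ideal.Quotient.liftₐ i.I τ₀ (fun p hp => hτ₀ hp)
  let τU : Under.mk (CommRingCat.ofHom (algebraMap A i.Alg)) ⟶ Under.mk (𝟙 (CommRingCat.of A)) :=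
    Under.homMk (CommRingCat.ofHom τ.toRingHom) (by
      ext r
      exact τ.commutes r)
  refine ⟨F.map τU x, ?_⟩
  have key : τU ≫ ρ = (K143.FpColim.cocone A (AdicCompletion m A)).ι.app i ≫ π := by
    have hρ : ∀ r : A, ρ.right.hom r = Ideal.Quotient.mk (m ^ c) r := fun r => by
      have := Under.w ρ
      exact congr(($this).hom r)
    have hπ' : ∀ r : AdicCompletion m A, π.right.hom r = AdicCompletion.evalₐ m c r := fun r => by
      rw [hπ]; rfl
    have key' : ((Ideal.Quotient.mkₐ A (m ^ c)).comp τ : i.Alg →ₐ[A] A ⧸ m ^ c) =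
        (AdicCompletion.evalₐ m c).comp i.σ := by
      refine Ideal.Quotient.algHom_ext _ (MvPolynomial.algHom_ext fun t => ?_)
      change Ideal.Quotient.mk (m ^ c) (MvPolynomial.aeval a (MvPolynomial.X t)) = _
      rw [MvPolynomial.aeval_X, ha' t]
      rfl
    ext y
    change ρ.right.hom (τ y) = π.right.hom (i.σ y)
    rw [hρ, hπ']
    exact congr($key' y)
  have h3 := F.map_comp (X := (K143.FpColim.functor A (AdicCompletion m A)).obj i)
    (Y := Under.mk (CommRingCat.ofHom (algebraMap A (AdicCompletion m A)))) (Z := _)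
    ((K143.FpColim.cocone A (AdicCompletion m A)).ι.app i) π
  rw [← CategoryTheory.comp_apply, ← F.map_comp, key]
  exact ConcreteCategory.congr_hom h3 x

end Groth.Agent.S14624
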