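import Groth.Statements.S13504
import Groth.Agent.S0134
import Groth.Agent.Etbase.EtColimBig
import Groth.Agent.EtpbcB.NKillH
import Groth.Agent.EtpbcB.NKillEt
import Groth.Agent.EtpbcA.Compact2
import Groth.Agent.EtpbcA.KilledBy

set_option autoImplicit false
universe u
open CategoryTheory CategoryTheory.Limits AlgebraicGeometry
open EtPBC

namespace Groth.Agent.S13504

/-- Let X be a quasi-compact and quasi-separated scheme. For every constructible abelian sheaf F on the
small étale site of X, every q > 0 and every class α in H^q(X, F) there are a constructible abelian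
sheaf G and a monomorphism u : F → G such that H^q(u) sends α to 0. -/
theorem result (X : Scheme.{u}) [CompactSpace X] [QuasiSeparatedSpace X]
    (F : EtCoh.Ab X) (hF : EtPBC.IsConstructible F) (q : ℕ) (hq : 0 < q) (α : EtCoh.H X F q) :
    ∃ (G : EtCoh.Ab X) (u : F ⟶ G), EtPBC.IsConstructible G ∧ Mono u ∧
      (EtCoh.HF X q).map u α = 0 := by
  obtain ⟨N, hN, hk⟩ := Groth.Agent.EtpbcA.KilledBy.exists_killedBy_of_isConstructible hF
  obtain ⟨J, hJ, i, hi⟩ := Groth.Agent.EtpbcB.NKill.exists_mono_tor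
    ((Groth.Agent.EtpbcB.NKillEt.killedBy_iff N F).1 hk)
  have hT : EtCoh.KilledBy N (Groth.Agent.EtpbcB.NKill.tor N J) :=
    (Groth.Agent.EtpbcB.NKillEt.killedBy_iff N _).2 (Groth.Agent.EtpbcB.NKill.killed_tor N J)
  have htors : EtCoh.IsTorsion (Groth.Agent.EtpbcB.NKill.tor N J) := by
    intro U s x
    refine ⟨U, 𝟙 U, ⟨x, rfl⟩, ?_⟩
    rw [isOfFinAddOrder_iff_nsmul_eq_zero]
    exact ⟨N, hN, hT _ _⟩
  have hH := Groth.Agent.EtpbcB.NKillH.H_tor J hN q hq
  obtain ⟨I, _, _, D, c, ⟨hc⟩, hD, ⟨e⟩⟩ : ∃ (I : Type (u + 1)) (_ : SmallCategory I)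
      (_ : IsFiltered I) (D : I ⥤ EtCoh.Ab X) (c : Cocone D) (_ : Nonempty (IsColimit c)),
      (∀ j, EtPBC.IsConstructible (D.obj j)) ∧
        Nonempty (c.pt ≅ Groth.Agent.EtpbcB.NKill.tor N J) := by
    obtain ⟨I, a, b, D, c, hc, hD, e⟩ := Groth.Agent.S0134.result X _ htors
    exact ⟨I, a, b, D, c, ⟨hc⟩, hD, e⟩
  have hpt : Subsingleton ((EtCoh.HF X q).obj c.pt) := by
    refine subsingleton_of_forall_eq 0 fun x => ?_
    have h1 : (EtCoh.HF X q).map e.inv ((EtCoh.HF X q).map e.hom x) = x := by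
      rw [← ConcreteCategory.comp_apply, ← CategoryTheory.Functor.map_comp, e.hom_inv_id,
        CategoryTheory.Functor.map_id]
      rfl
    have h2 : (EtCoh.HF X q).map e.hom x = 0 := hH.elim _ _
    rw [← h1, h2, map_zero]
  have := Groth.Agent.EtpbcA.Compact2.preservesColimitsOfShape_of_isConstructible.{u} (X := X) I hF
  have h1 := isColimitOfPreserves (coyoneda.obj (Opposite.op F)) hc
  obtain ⟨j, u, hu⟩ := Types.jointly_surjective_of_isColimit h1 (i ≫ e.inv)
  have hu' : u ≫ c.ι.app j = i ≫ e.inv := hu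
  have : Mono u := by
    have : Mono (u ≫ c.ι.app j) := by rw [hu']; infer_instance
    exact mono_of_mono u (c.ι.app j)
  have := Groth.Agent.Etbase.EtColimBig.preservesColimits_HF_big (X := X) I q
  have h2 := isColimitOfPreserves (EtCoh.HF X q) hc
  obtain ⟨k, f, g, hfg⟩ := Concrete.isColimit_exists_of_rep_eq (D ⋙ EtCoh.HF X q) h2
    (i := j) (j := j) ((EtCoh.HF X q).map u α) 0 (hpt.elim _ _)
  refine ⟨D.obj k, u ≫ D.map f, hD k, ?_, ?_⟩
  · have : Mono ((u ≫ D.map f) ≫ c.ι.app k) := by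
      rw [Category.assoc, c.w, hu']
      infer_instance
    exact mono_of_mono (u ≫ D.map f) (c.ι.app k)
  · have h3 : (EtCoh.HF X q).map (u ≫ D.map f) =
        (EtCoh.HF X q).map u ≫ (EtCoh.HF X q).map (D.map f) :=
      CategoryTheory.Functor.map_comp _ _ _
    have h4 := ConcreteCategory.congr_hom h3 α
    refine h4.trans ?_
    exact hfg.trans (map_zero _)

end Groth.Agent.S13504
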