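import Groth.Statements.S13506
import Groth.Agent.Hensel.K142.ProperComp

set_option autoImplicit false
universe u
open CategoryTheory CategoryTheory.Limits AlgebraicGeometry
open Hensel

namespace Groth.Agent.S13506

/-- Let A be a Noetherian ring which is complete for the adic topology of an ideal I, f : X → Spec A
proper and X_0 = X ×_{Spec A} Spec (A/I). Then the projection X_0 → X induces a bijection from the
connected components of X_0 to the connected components of X. -/
theorem result (A : Type u) [CommRing A]
    [IsNoetherianRing A] (I : Ideal A) [IsAdicComplete I A] {X : Scheme.{u}}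
    (f : X ⟶ Spec (CommRingCat.of A)) [IsProper f] :
    Function.Bijective
      (Continuous.connectedComponentsMap
        (pullback.fst f (Spec.map (CommRingCat.ofHom (Ideal.Quotient.mk I)))).continuous) := by
  have hpair : HenselianRing A I := inferInstance
  have hcl : IsClosedImmersion (Spec.map (CommRingCat.ofHom (Ideal.Quotient.mk I))) :=
    IsClosedImmersion.spec_of_surjective _ Ideal.Quotient.mk_surjective
  have hXc : CompactSpace X := by
    have : QuasiCompact f := inferInstance
    exact QuasiCompact.compactSpace_of_compactSpace f
  have hXs : QuasiSeparatedSpace X := by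
    have : QuasiSeparated f := inferInstance
    exact quasiSeparatedSpace_of_quasiSeparated f
  set i := pullback.fst f (Spec.map (CommRingCat.ofHom (Ideal.Quotient.mk I))) with hi
  have hic : IsClosedImmersion i := inferInstance
  have h0c : CompactSpace ↥(pullback f (Spec.map (CommRingCat.ofHom (Ideal.Quotient.mk I)))) := by
    have : QuasiCompact i := inferInstance
    exact QuasiCompact.compactSpace_of_compactSpace i
  have h0s : QuasiSeparatedSpace ↥(pullback f (Spec.map (CommRingCat.ofHom (Ideal.Quotient.mk I)))) := by
    have : QuasiSeparated i := inferInstance
    exact quasiSeparatedSpace_of_quasiSeparated i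
  refine (K142.ProperComp.isHomeomorph_connectedComponentsMap A I f i i.isClosedEmbedding ?_).bijective
  rw [Scheme.Pullback.range_fst]
  congr 1
  have h1 := range_comap_of_surjective (A ⧸ I) (Ideal.Quotient.mk I) Ideal.Quotient.mk_surjective
  rw [Ideal.mk_ker] at h1
  exact h1

end Groth.Agent.S13506
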