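import Groth.Statements.S13507
import Groth.Agent.Sga4h.MuLocal

set_option autoImplicit false
universe u
open CategoryTheory CategoryTheory.Limits AlgebraicGeometry
open EtCore

namespace Groth.Agent.S13507

/-- Let S be a scheme and n ≥ 1 with n invertible in the ring of global functions Γ(S, O_S). If Γ(S,
O_S) contains a root ζ of the n-th cyclotomic polynomial, then the sheaf μ_n of n-th roots of unity
on the small étale site of S is isomorphic to the constant sheaf with value Z/n (existence of an
isomorphism only; the published isomorphism is the one sending 1 to ζ). -/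
theorem result (S : Scheme.{u}) (n : ℕ) (hn : 1 ≤ n)
    (hunit : IsUnit (n : Γ(S, ⊤))) (ζ : Γ(S, ⊤))
    (hζ : Polynomial.aeval ζ (Polynomial.cyclotomic n ℤ) = 0) :
    Nonempty (EtCoh.mu S n ≅ EtCoh.const S (ZMod n)) := by
  have hn0 : n ≠ 0 := by omega
  have hz : (Polynomial.cyclotomic n Γ(S, ⊤)).IsRoot ζ := by
    rw [Polynomial.IsRoot.def, ← Polynomial.map_cyclotomic_int, Polynomial.eval_map]
    rw [Polynomial.aeval_def, algebraMap_int_eq] at hζ
    exact hζ
  obtain ⟨e⟩ := Groth.Agent.Sga4h.MuLocal.nonempty_iso_const_mu n hn0 hunit ζ hz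
  exact ⟨e.symm⟩

end Groth.Agent.S13507
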