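import Groth.Statements.S13531
import Groth.Agent.ResProp.K782.ChowOpen
import Groth.Agent.VarietyA.Dim1Top

set_option autoImplicit false
universe u
open CategoryTheory CategoryTheory.Limits AlgebraicGeometry
attribute [local instance] HasDerivedCategory.standard
open ResProp

namespace Groth.Agent.S13531

/-- On a scheme of finite type and separated over a Noetherian base ring, each point has an open
neighbourhood which contains all points of codimension at most 1 (all points whose local ring has
Krull dimension at most 1) and which admits an ample family of invertible modules. (The published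
statement also provides a projective morphism to X, finite over V, with an ample module pulling back
the whole family; this row states only the existence of the neighbourhood.) -/
theorem result (A : Type u) [CommRing A] [IsNoetherianRing A]
    (X : Scheme.{u}) (f : X ⟶ Spec (CommRingCat.of A)) [IsSeparated f] [LocallyOfFiniteType f] [QuasiCompact f] (x : X) :
    ∃ V : X.Opens, x ∈ V ∧ (∀ y : X, ringKrullDim (X.presheaf.stalk y) ≤ 1 → y ∈ V) ∧
      MoreMor.HasAmpleFamily (V : Scheme.{u}) := by
  have hS : AlgebraicGeometry.IsNoetherian (Spec (CommRingCat.of A)) := by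
    have : IsNoetherianRing (CommRingCat.of A) := inferInstanceAs (IsNoetherianRing A)
    infer_instance
  have hX : IsLocallyNoetherian X := LocallyOfFiniteType.isLocallyNoetherian f
  have hXc : CompactSpace X := QuasiCompact.compactSpace_of_compactSpace f
  have hXN : AlgebraicGeometry.IsNoetherian X := {}
  obtain ⟨U, hU, hxU, hUd⟩ := Groth.Agent.VarietyA.Dim1Top.exists_dense_affine x
  obtain ⟨C, g, L', hg, hL', hi, hd⟩ := K782.ChowOpen.exists_ample_modification f U hU
  have hCc : CompactSpace C := hL'.2.1
  have hC : IsLocallyNoetherian C := LocallyOfFiniteType.isLocallyNoetherian g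
  have hCN : AlgebraicGeometry.IsNoetherian C := {}
  obtain ⟨V, h1, -, h3, -, L, n, hL, hLs, -, -⟩ := K782.AmpleV.main g L' hL' U hi hUd hd
  have hc : CompactSpace V := isCompact_iff_compactSpace.mp (TopologicalSpace.NoetherianSpace.isCompact (V : Set X))
  refine ⟨V, h1 hxU, h3, hc, fun v => ?_⟩
  obtain ⟨m, s, hv, hs⟩ := hLs v
  exact ⟨L, m + 1, s, hL, Nat.succ_pos m, hv, hs⟩

end Groth.Agent.S13531
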