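import Groth.Statements.S13535
import Groth.Agent.ResProp.K234.AffProj
import Groth.Agent.ResProp.K234.TopVan
import Groth.Agent.S0012
import Groth.Agent.S0019

set_option autoImplicit false
universe u
open CategoryTheory CategoryTheory.Limits AlgebraicGeometry
open ResProp

namespace Groth.Agent.S13535

/-- Let X and Y be proper over a Noetherian ring A and let f : Y ⟶ X be a finite A-morphism. If a
sequence (E_n) of coherent modules on X is cohomologically d-ample (d a positive integer), meaning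
that for every coherent F the groups H^i(X, F ⊗ E_n) vanish for all i ≥ d + 1 and all large n, then
so is the sequence of pullbacks (f^*E_n) on Y. -/
theorem result (A : Type u) [CommRing A] [IsNoetherianRing A]
    {X Y : Scheme.{u}} (pX : X ⟶ Spec (CommRingCat.of A)) (pY : Y ⟶ Spec (CommRingCat.of A))
    [IsProper pX] [IsProper pY] (f : Y ⟶ X) (hf : f ≫ pX = pY) [IsFinite f]
    (d : ℕ) (hd : 0 < d) (E : ℕ → X.Modules) (hE : ∀ n, Coh.IsCoh (E n))
    (hamp : ∀ F : X.Modules, Coh.IsCoh F → ∃ n₀ : ℕ, ∀ n : ℕ, n₀ ≤ n → ∀ i : ℕ, d + 1 ≤ i →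
        Subsingleton (Coh.HH X (CohB1.tensorMod F (E n)) i)) :
    ∀ F : Y.Modules, Coh.IsCoh F → ∃ n₀ : ℕ, ∀ n : ℕ, n₀ ≤ n → ∀ i : ℕ, d + 1 ≤ i →
        Subsingleton (Coh.HH Y (CohB1.tensorMod F ((Scheme.Modules.pullback f).obj (E n))) i) := by
  intro F hF
  have hX : IsNoetherian X := by
    have : IsLocallyNoetherian X := LocallyOfFiniteType.isLocallyNoetherian pX
    have : CompactSpace X := QuasiCompact.compactSpace_of_compactSpace pX
    exact {}
  obtain ⟨n₀, hn₀⟩ := hamp ((Coh.push f).obj F) (Groth.Agent.S0019.result f F hF)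
  refine ⟨n₀, fun n hn i hi => ?_⟩
  have h1 := hn₀ n hn i hi
  have hiso := K234.AffProj.isIso_pj f (E n) F (hE n).1 hF.1
  have h2 := K234.TopVan.HH_iso (asIso (K234.AffProj.pj f (E n) F)) i h1
  have hq : Coh.IsQCoh (CohB1.tensorMod F ((Scheme.Modules.pullback f).obj (E n))) :=
    Groth.Agent.Ega1.TensorRestrict.isQCoh_tensorMod _ _ hF.1
      (Groth.Agent.VarietyB.PullSec.isQCoh_pullback f (E n) (hE n).1)
  obtain ⟨e⟩ := Groth.Agent.S0012.result f (CohB1.tensorMod F ((Scheme.Modules.pullback f).obj (E n))) i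
  exact e.toEquiv.subsingleton_congr.2 h2

end Groth.Agent.S13535
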