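import Groth.Statements.S13537
import Groth.Agent.ResProp.K782.AmpleV

set_option autoImplicit false
universe u
open CategoryTheory CategoryTheory.Limits AlgebraicGeometry
attribute [local instance] HasDerivedCategory.standard
open ResProp

namespace Groth.Agent.S13537

/-- Let f : X' ⟶ X be a proper morphism of Noetherian schemes, X' separated with an ample invertible
module L', and let U be the largest open of X over which f is an isomorphism; suppose U is dense
with dense preimage (f is birational). Then U is contained in an open V such that (i) V minus U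
underlies an affine closed subscheme of V, (ii) V contains all points of codimension at most 1,
(iii) f is finite over V, and (iv) V carries an ample family of invertible modules whose pullbacks
along f are all isomorphic to the restriction of one positive tensor power of L'. -/
theorem result {X X' : Scheme.{u}} [IsNoetherian X] [IsNoetherian X']
    (f : X' ⟶ X) [IsProper f] [X'.IsSeparated] (L' : X'.Modules) (hL' : CohB1.IsAmple L')
    (U : X.Opens) (hU : IsIso (f ∣_ U)) (hmax : ∀ W : X.Opens, IsIso (f ∣_ W) → W ≤ U)
    (hd : Dense (U : Set X)) (hd' : Dense ((f ⁻¹ᵁ U : X'.Opens) : Set X')) :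
    ∃ V : X.Opens, U ≤ V ∧
      (∃ (T : Scheme.{u}) (g : T ⟶ (V : Scheme.{u})), IsClosedImmersion g ∧ IsAffine T ∧
        Set.range (g ≫ V.ι).base = (V : Set X) \ (U : Set X)) ∧
      (∀ y : X, ringKrullDim (X.presheaf.stalk y) ≤ 1 → y ∈ V) ∧ IsFinite (f ∣_ V) ∧
      ∃ (ι : Type u) (L : ι → (V : Scheme.{u}).Modules) (n : ℕ), KSix.IsAmpleFamily L ∧ 1 ≤ n ∧
        ∀ i : ι, Nonempty ((Scheme.Modules.pullback (f ∣_ V)).obj (L i) ≅
          (CohB1.tensorPow L' n).restrict (f ⁻¹ᵁ V).ι) := by
  obtain ⟨V, h1, h2, h3, h4, L, n, hL, hLs, hn, hLM⟩ := K782.AmpleV.main f L' hL' U hU hd hd'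
  have hc : CompactSpace V := isCompact_iff_compactSpace.mp (TopologicalSpace.NoetherianSpace.isCompact (V : Set X))
  have hq : QuasiSeparatedSpace (V : Scheme.{u}) := inferInstance
  exact ⟨V, h1, h2, h3, h4, PUnit.{u + 1}, fun _ => L, n, ⟨hc, hq, fun _ => hL, fun x => ⟨PUnit.unit, hLs x⟩⟩, hn,
    fun _ => hLM⟩

end Groth.Agent.S13537
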