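import Groth.Statements.S13538
import Groth.Agent.ResProp.K782.NegFinal
import Groth.Agent.ResProp.K782.AmpleV
import Groth.Agent.ResProp.K782.ChowOpen
import Groth.Agent.VarietyA.Dim1Top

set_option autoImplicit false
universe u
open CategoryTheory CategoryTheory.Limits AlgebraicGeometry
open ResProp

namespace Groth.Agent.S13538

/-- A scheme X separated and of finite type over a Noetherian ring admits an almost ample family:
coherent modules F_i with opens V_i covering X such that (i) each V_i contains all points of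
codimension at most 1 and F_i restricted to V_i is invertible, (ii) for each i some proper
birational X' ⟶ X carries an ample invertible module L' whose tensor product with the pullback of
F_i is trivial over the preimage of V_i (there L' is dual to the pullback of F_i), and (iii) every
coherent module on X is a quotient of a finite direct sum of positive tensor powers of the F_i. -/
theorem result (A : Type u) [CommRing A] [IsNoetherianRing A]
    (X : Scheme.{u}) (p : X ⟶ Spec (CommRingCat.of A)) [IsSeparated p] [LocallyOfFiniteType p] [QuasiCompact p] :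
    ∃ (ι : Type u) (F : ι → X.Modules) (V : ι → X.Opens),
      (∀ i, Coh.IsCoh (F i) ∧ (∀ y : X, ringKrullDim (X.presheaf.stalk y) ≤ 1 → y ∈ V i) ∧
        PicF.IsInvertible ((F i).restrict (V i).ι)) ∧
      (⨆ i, V i) = ⊤ ∧
      (∀ i, ∃ (X' : Scheme.{u}) (f : X' ⟶ X) (W : X.Opens) (L' : X'.Modules), IsProper f ∧
        Dense (W : Set X) ∧ Dense ((f ⁻¹ᵁ W : X'.Opens) : Set X') ∧ IsIso (f ∣_ W) ∧ CohB1.IsAmple L' ∧
        Nonempty (CohB1.tensorMod (((Scheme.Modules.pullback f).obj (F i)).restrict (f ⁻¹ᵁ (V i)).ι)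
          (L'.restrict (f ⁻¹ᵁ (V i)).ι) ≅ Coh.structureModule (f ⁻¹ᵁ (V i) : Scheme.{u}))) ∧
      (∀ M : X.Modules, Coh.IsCoh M → ∃ (m : ℕ) (j : Fin m → ι) (n : Fin m → ℕ)
        (π : (∐ fun t : Fin m => CohB1.tensorPow (F (j t)) (n t + 1)) ⟶ M), Epi π) := by
  have hS : AlgebraicGeometry.IsNoetherian (Spec (CommRingCat.of A)) := by
    have : IsNoetherianRing (CommRingCat.of A) := inferInstanceAs (IsNoetherianRing A)
    infer_instance
  have hX : IsLocallyNoetherian X := LocallyOfFiniteType.isLocallyNoetherian p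
  have hXc : CompactSpace X := QuasiCompact.compactSpace_of_compactSpace p
  have hXN : AlgebraicGeometry.IsNoetherian X := {}
  have hex : ∀ x : X, ∃ (V : X.Opens) (k : ℕ) (F : X.Modules) (U : X.Opens)
      (σ : CohB1.tensorPow F (k + 1) ⟶ Coh.structureModule X), Coh.IsCoh F ∧
      (∀ y : X, ringKrullDim (X.presheaf.stalk y) ≤ 1 → y ∈ V) ∧ PicF.IsInvertible (F.restrict V.ι) ∧
      x ∈ V ∧ x ∈ U ∧ IsAffineOpen U ∧
      (∀ (W : X.affineOpens) (t : Γ(CohB1.tensorPow F (k + 1), W.1)),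
        X.basicOpen (Groth.Agent.Fdesc.LocGen.ofFun.symm (σ.app W.1 t)) ≤ U) ∧
      (∃ q : Γ(CohB1.tensorPow F (k + 1), U), σ.app U q = Groth.Agent.Fdesc.LocGen.one U) ∧
      ∃ (X' : Scheme.{u}) (f : X' ⟶ X) (W : X.Opens) (L' : X'.Modules), IsProper f ∧
        Dense (W : Set X) ∧ Dense ((f ⁻¹ᵁ W : X'.Opens) : Set X') ∧ IsIso (f ∣_ W) ∧ CohB1.IsAmple L' ∧
        Nonempty (CohB1.tensorMod (((Scheme.Modules.pullback f).obj F).restrict (f ⁻¹ᵁ V).ι)
          (L'.restrict (f ⁻¹ᵁ V).ι) ≅ Coh.structureModule (f ⁻¹ᵁ V : Scheme.{u})) := by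
    intro x
    obtain ⟨U, hU, hxU, hUd⟩ := Groth.Agent.VarietyA.Dim1Top.exists_dense_affine x
    obtain ⟨C, g, L', hg, hL', hi, hd⟩ := K782.ChowOpen.exists_ample_modification p U hU
    have hCc : CompactSpace C := hL'.2.1
    have hC : IsLocallyNoetherian C := LocallyOfFiniteType.isLocallyNoetherian g
    have hCN : AlgebraicGeometry.IsNoetherian C := {}
    obtain ⟨V, h1, -, h3, -, L, n, hL, hLs, hn, ⟨eL⟩⟩ := K782.AmpleV.main g L' hL' U hi hUd hd
    obtain ⟨k, s, hv, hs⟩ := hLs ⟨x, h1 hxU⟩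
    obtain ⟨F, σ, hF, hFi, ⟨e⟩, hσ, q, hq⟩ := K782.NegExt.exists_coherent V hL k s hs
    refine ⟨V, k, F, V.ι ''ᵁ CohB1.genLocus _ s, σ, hF, h3, hFi, h1 hxU, ⟨_, hv, rfl⟩,
      hs.image_of_isOpenImmersion _, hσ, ⟨q, hq⟩, C, g, U, CohB1.tensorPow L' n, hg, hUd, hd, hi,
      Groth.Agent.Divis.NormAmple.isAmple_tensorPow hL' hn, ?_⟩
    exact K782.NegFinal.nonempty_pullback_tensor g V hFi hL e eL
  choose V k F U σ hF hV hFi hxV hxU hU hσ hq hii using hex
  refine ⟨X, F, V, fun x => ⟨hF x, hV x, hFi x⟩, ?_, hii, fun M hM => ?_⟩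
  · rw [eq_top_iff]
    exact fun x _ => TopologicalSpace.Opens.mem_iSup.mpr ⟨x, hxV x⟩
  · exact K782.NegFinal.exists_surj F hF k σ U hU (fun x => ⟨x, hxU x⟩) hσ hq M hM

end Groth.Agent.S13538
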