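import Groth.Statements.S13539
import Groth.Agent.ResProp.K234.Final

set_option autoImplicit false
universe u
open CategoryTheory CategoryTheory.Limits AlgebraicGeometry
open ResProp

namespace Groth.Agent.S13539

/-- Let X and Y be d-dimensional schemes proper over a Noetherian ring A and f : Y ⟶ X an alteration
over A (proper, surjective, and finite over a dense open of X whose preimage is dense in Y). Then a
sequence (E_n) of coherent modules on X is cohomologically (d-1)-ample (for every coherent F, H^i(X,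
F ⊗ E_n) = 0 for all i ≥ d and all large n) if and only if the sequence of pullbacks (f^*E_n) is
cohomologically (d-1)-ample on Y. -/
theorem result (A : Type u) [CommRing A] [IsNoetherianRing A]
    {X Y : Scheme.{u}} (pX : X ⟶ Spec (CommRingCat.of A)) (pY : Y ⟶ Spec (CommRingCat.of A))
    [IsProper pX] [IsProper pY] (f : Y ⟶ X) (hf : f ≫ pX = pY) [IsProper f] [Surjective f]
    (U : X.Opens) (hU : Dense (U : Set X)) (hU' : Dense ((f ⁻¹ᵁ U : Y.Opens) : Set Y)) (hfin : IsFinite (f ∣_ U))
    (d : ℕ) (hX : topologicalKrullDim X = d) (hY : topologicalKrullDim Y = d)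
    (E : ℕ → X.Modules) (hE : ∀ n, Coh.IsCoh (E n)) :
    (∀ F : X.Modules, Coh.IsCoh F → ∃ n₀ : ℕ, ∀ n : ℕ, n₀ ≤ n → ∀ i : ℕ, d ≤ i →
        Subsingleton (Coh.HH X (CohB1.tensorMod F (E n)) i)) ↔
    (∀ F : Y.Modules, Coh.IsCoh F → ∃ n₀ : ℕ, ∀ n : ℕ, n₀ ≤ n → ∀ i : ℕ, d ≤ i →
        Subsingleton (Coh.HH Y (CohB1.tensorMod F ((Scheme.Modules.pullback f).obj (E n))) i)) := by
  have hXl : IsLocallyNoetherian X := LocallyOfFiniteType.isLocallyNoetherian pX
  have hXc : CompactSpace X := QuasiCompact.compactSpace_of_compactSpace pX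
  have hXN : IsNoetherian X := { }
  have hYl : IsLocallyNoetherian Y := LocallyOfFiniteType.isLocallyNoetherian pY
  have hYc : CompactSpace Y := QuasiCompact.compactSpace_of_compactSpace pY
  have hYN : IsNoetherian Y := { }
  have hgen : K234.DimGen.GenFin f := K234.DimGen.genFin_of_finite U hU' hfin
  constructor
  · intro h F hF
    exact K234.Final.good_pullback f hgen d hY.le E hE h F hF
  · intro h
    obtain ⟨Y', h', L, hp, hsurj, hL, hdim, hg⟩ := K399.Chow.exists_chow pY
    have hYl' : IsLocallyNoetherian Y' := LocallyOfFiniteType.isLocallyNoetherian h'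
    have hYc' : CompactSpace Y' := QuasiCompact.compactSpace_of_compactSpace h'
    have hYN' : IsNoetherian Y' := { }
    have hgen1 : K234.DimGen.GenFin h' := fun w hw z _ hz => (hg w hw).2 z hz
    have hgen2 : K234.DimGen.GenFin (h' ≫ f) := hgen.comp hg
    have hG : ∀ F : Y'.Modules, Coh.IsCoh F →
        K234.Dev.Good (fun n => (Scheme.Modules.pullback (h' ≫ f)).obj (E n)) d F := by
      intro F hF
      obtain ⟨n₀, h0⟩ := K234.Final.good_pullback h' hgen1 d (hdim.trans hY.le)
        (fun n => (Scheme.Modules.pullback f).obj (E n))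
        (fun n => Groth.Agent.FormalA.PullbackQC.isCoh_pullback f _ (hE n)) h F hF
      exact ⟨n₀, fun n hn i hi => K234.TopVan.HH_iso (Groth.Agent.Ega2.Tens.mapTIso (Iso.refl _)
        ((Scheme.Modules.pullbackComp h' f).app (E n))) i (h0 n hn i hi)⟩
    obtain ⟨n₁, h1⟩ := K924.RelVan.exists_acyclic pX (h' ≫ f) L hL (Coh.structureModule Y')
      (Groth.Agent.Fdesc.StructMod.isCoh_structureModule Y')
    have hinv : PicF.IsInvertible (CohB1.tensorMod (Coh.structureModule Y') (CohB1.tensorPow L n₁)) :=
      Groth.Agent.Fdesc.LocGen.isInvertible_tensorMod Groth.Agent.Fdesc.LocGen.isInvertible_structureModule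
        (Groth.Agent.Fdesc.LocGen.isInvertible_tensorPow hL.1 n₁)
    have hcoh : Coh.IsCoh (CohB1.tensorMod (Coh.structureModule Y') (CohB1.tensorPow L n₁)) :=
      Groth.Agent.Ega2.GlobGenCrit.isCoh_tensor (Groth.Agent.Fdesc.StructMod.isCoh_structureModule Y')
        (Groth.Agent.Fdesc.LocGen.isInvertible_tensorPow hL.1 n₁)
    exact K234.Final.good_of_pullback (h' ≫ f) hgen2 d hX.le (hdim.trans hY.le) E hE hG
      (f.surjective.comp h'.surjective) _ hcoh (fun y => K234.Final.nontrivial_stalk_of_isInvertible hinv y)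
      (fun q hq => h1 n₁ le_rfl q hq)

end Groth.Agent.S13539
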