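import Groth.Statements.S13541
import Groth.Agent.ResProp.K783.EmbedFT
import Groth.Agent.Ega2.QCohLocal

set_option autoImplicit false
universe u
open CategoryTheory CategoryTheory.Limits AlgebraicGeometry
open ResProp

namespace Groth.Agent.S13541

/-- In the case of schemes, a Noetherian scheme S has the resolution property exactly when each affine
finite-type morphism X ⟶ S factors over S through a closed immersion of X into a vector bundle V(E)
= Spec Sym(E), E a finite locally free module on S (V(E) is given as the relative spectrum of a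
quasi-coherent algebra A with a map E ⟶ A making A the symmetric algebra of E). (The published
statement is for Noetherian algebraic stacks; this row is the case of schemes.) -/
theorem result (S : Scheme.{u}) [IsNoetherian S] :
    PerfAux.HasResolutionProperty S ↔
      ∀ (X : Scheme.{u}) (f : X ⟶ S) [IsAffineHom f] [LocallyOfFiniteType f],
        ∃ (E : S.Modules) (A : RelSpec.QCAlg S) (j : E ⟶ A.toModule) (i : X ⟶ A.spec),
          Coh.IsQCoh E ∧ FlatMod.IsFinLocFree E ∧ RelSpec.IsSymAlg E A j ∧ IsClosedImmersion i ∧ i ≫ A.π = f := by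
  constructor
  · intro hS X f hf hft
    obtain ⟨G, j, hG, hG', ι, U, hU, hcov, h⟩ := K783.EmbedFT.exists_ft (RelSpec.QCAlg.directImage f)
      (fun U hU => by
        have h1 := LocallyOfFiniteType.finiteType_appLE (f := f) hU (hU.preimage f) le_rfl
        rw [Scheme.Hom.appLE_eq_app] at h1
        exact h1)
    obtain ⟨E, π, hE, hπ⟩ := hS G hG hG'
    have hEq := Groth.Agent.Ega2.QCohLocal.isQCoh_of_isFinLocFree hE
    obtain ⟨B, φ, c, hB, hc, e⟩ := K783.EmbedGen.exists_closedImmersion f E hEq (π ≫ j) U hU hcov
      (fun i => h E hEq π hπ i)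
    exact ⟨E, B, φ, c, hEq, hE, hB, hc, e⟩
  · intro h M hM hM'
    obtain ⟨Y, f, hf, hf', hY⟩ := K783.EmbedFT.exists_test M hM hM'
    obtain ⟨E, A, j, i, hE, hE', hA, hi, e⟩ := h Y f
    obtain ⟨v, hv⟩ := hY E hE A j hA i hi e
    exact ⟨E, v, hE', hv⟩

end Groth.Agent.S13541
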