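import Groth.Statements.S13542
import Groth.Agent.PerfB.PushFLF
import Groth.Agent.ResProp.K782.CoprodSec

set_option autoImplicit false
universe u
open CategoryTheory CategoryTheory.Limits AlgebraicGeometry
open ResProp

namespace Groth.Agent.S13542

/-- In the case of schemes over an affine base, let f : X ⟶ Y be finite, flat, of finite presentation
and surjective between quasi-compact quasi-separated schemes. If a family (E_i) of finitely
presented quasi-coherent modules on X is generating, i.e. every quasi-coherent module on X is a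
quotient of a direct sum of copies of the E_i, then the family of direct images (f_*E_i) is
generating on Y. (The published statement is for morphisms of algebraic stacks and families
generating relative to a further morphism; this row is the case of schemes with the absolute notion
of a generating family.) -/
theorem result {X Y : Scheme.{u}}
    [CompactSpace X] [QuasiSeparatedSpace X] [CompactSpace Y] [QuasiSeparatedSpace Y]
    (f : X ⟶ Y) [IsFinite f] [Flat f] [LocallyOfFinitePresentation f] [Surjective f]
    {ι : Type u} (E : ι → X.Modules) (hE : ∀ i, Coh.IsQCoh (E i) ∧ CohB1.IsFP (E i))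
    (hgen : ∀ M : X.Modules, Coh.IsQCoh M →
      ∃ (κ : Type u) (j : κ → ι) (π : (∐ fun k : κ => E (j k)) ⟶ M), Epi π) :
    ∀ N : Y.Modules, Coh.IsQCoh N →
      ∃ (κ : Type u) (j : κ → ι) (π : (∐ fun k : κ => (Scheme.Modules.pushforward f).obj (E (j k))) ⟶ N), Epi π := by
  intro N hN
  have hH := Groth.Agent.PerfB.PushFLF.isQCoh_homO f hN
  have hHq := Groth.Agent.VarietyB.PullSec.isQCoh_pullback f _ hH
  obtain ⟨κ, j, π, hπ⟩ := hgen _ hHq
  obtain ⟨θ, hθ⟩ := Groth.Agent.PerfB.PushFLF.exists_evalHom f hH
  refine ⟨κ, j, _, K782.CoprodSec.epi_push_desc f (fun k => E (j k)) (fun k => (hE _).1) hHq π θ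
    fun V hV n => ?_⟩
  letI := Groth.Agent.PerfB.PushFLF.algPre f V
  have hp := Groth.Agent.PerfB.PushFLF.projective_pre (f := f) hV
  have hs := Groth.Agent.PerfB.PushFLF.comap_pre_surjective f hV
  obtain ⟨φ, hφ⟩ := Groth.Agent.PerfB.EvalOne.eval_one_surjective
    (Groth.Agent.PerfB.EvalOne.map_ne_top_of_comap_surjective hs) n
  let s := (Groth.Agent.CohqB.HomSheaf.affineEquiv (Groth.Agent.PerfB.PushFLF.isQCoh_pushO f) hV).symm
    (φ.comp (Groth.Agent.PerfB.PushFLF.pushOEquiv f V).symm.toLinearMap)
  have hs' : Groth.Agent.CohqB.HomSheaf.comp s V le_rfl =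
      φ.comp (Groth.Agent.PerfB.PushFLF.pushOEquiv f V).symm.toLinearMap :=
    Groth.Agent.CohqB.HomSheaf.comp_affineEquiv_symm _ hV _
  refine ⟨(1 : Γ(X, f ⁻¹ᵁ V)) • Groth.Agent.PerfB.PushFLF.sc (f := f) _ V s, ?_⟩
  have h4 := hθ V hV 1 s
  rw [hs'] at h4
  exact h4.trans hφ

end Groth.Agent.S13542
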