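import Groth.Statements.S13555
import Groth.Agent.DEquiv.K354.FM
import Groth.Agent.S3658
import Groth.Agent.S0998

set_option autoImplicit false
universe u
open CategoryTheory AlgebraicGeometry
attribute [local instance] HasDerivedCategory.standard
open DEquiv

namespace Groth.Agent.S13555

open scoped Groth.Agent.Dcoh.MonCat Groth.Agent.Dcoh.ModD

/-- Let S, X and Y be quasi-compact quasi-separated schemes, X → S proper, flat and of finite
presentation, Y → S a morphism, and K a complex of modules on X ×_S Y defining a perfect object with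
quasi-coherent cohomology sheaves. Let a denote the right adjoint of Rpr_{2,*} : D_QCoh(O_{X ×_S Y})
→ D_QCoh(O_Y) (assumed to exist, instance binder), a(O_Y) its value on the structure sheaf in degree
0, and let K' be a complex of modules on Y ×_S X whose image in the derived category is isomorphic
to the derived pullback, along the symmetry Y ×_S X → X ×_S Y, of RHom(K, a(O_Y)). The derived
functors involved are assumed to exist and the two Fourier–Mukai functors are assumed to preserve
objects with quasi-coherent cohomology sheaves (hypotheses h, h'). Then Φ_{K'} : D_QCoh(O_Y) ⥤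
D_QCoh(O_X) is right adjoint to Φ_K : D_QCoh(O_X) ⥤ D_QCoh(O_Y) (existence of an adjunction; the
published statement names the comparison map Hom(M, Φ_{K'} N) → Hom(Φ_K M, N), which is not
constructed here). -/
theorem result {S X Y : Scheme.{u}} (a : X ⟶ S) (b : Y ⟶ S)
    [CompactSpace S] [QuasiSeparatedSpace S] [CompactSpace X] [QuasiSeparatedSpace X]
    [CompactSpace Y] [QuasiSeparatedSpace Y]
    [IsProper a] [Flat a] [LocallyOfFinitePresentation a]
    (K : CochainComplex (Limits.pullback a b).Modules ℤ) (hK : DCoh.IsPerfect (DCoh.toD _ K))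
    (hKq : DCoh.IsQCohD (DCoh.toD _ K))
    [DCoh.HasLpull (Limits.pullback.fst a b)] [DCoh.HasLTensorCx K] [DCoh.HasRpush (Limits.pullback.snd a b)]
    [DCoh.HasRSheafHom K]
    (hR : DCoh.RpushPreservesQCoh (Limits.pullback.snd a b)) [DCoh.HasShriek (Limits.pullback.snd a b) hR]
    (OY : DCoh.DQCoh Y) (hOY : OY.obj ≅ DCoh.inD Y (Coh.structureModule Y))
    [DCoh.HasLpull (Limits.pullbackSymmetry b a).hom]
    (K' : CochainComplex (Limits.pullback b a).Modules ℤ)
    (hK' : Nonempty (DCoh.toD _ K' ≅ (DCoh.Lpull (Limits.pullbackSymmetry b a).hom).obj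
      ((DCoh.RSheafHom K).obj (DCoh.dualizingCx (Limits.pullback.snd a b) hR OY))))
    [DCoh.HasLpull (Limits.pullback.fst b a)] [DCoh.HasLTensorCx K'] [DCoh.HasRpush (Limits.pullback.snd b a)]
    (h : ∀ M : DCoh.D X, DCoh.IsQCohD M → DCoh.IsQCohD ((FMK.phi a b K).obj M))
    (h' : ∀ N : DCoh.D Y, DCoh.IsQCohD N → DCoh.IsQCohD ((FMK.phi b a K').obj N)) :
    Nonempty (FMK.phiOn a b K DCoh.IsQCohD DCoh.IsQCohD h ⊣ FMK.phiOn b a K' DCoh.IsQCohD DCoh.IsQCohD h') := by
  have hb1 : QuasiCompact b := (quasiCompact_iff_compactSpace b).2 inferInstance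
  have hb2 : QuasiSeparated b := (quasiSeparated_iff_quasiSeparatedSpace b).2 inferInstance
  have hp1 : DCoh.HasRpush (Limits.pullback.fst a b) := Groth.Agent.Dcoh.DerSch.hasRpush _
  have hp2 : DCoh.HasLpull (Limits.pullback.snd a b) := Groth.Agent.Dcoh.DerPull.hasLpull _
  let ω : DCoh.D (Limits.pullback a b) := DCoh.dualizingCx (Limits.pullback.snd a b) hR OY
  let E := DerivedCategory.Q.objPreimage ω
  let eE : DerivedCategory.Q.obj E ≅ ω := DerivedCategory.Q.objObjPreimageIso ω
  have hE : DCoh.HasLTensorCx E := Groth.Agent.Dcoh.ModTens.hasLTensorCx E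
  obtain ⟨e1⟩ := Groth.Agent.S3658.result (Limits.pullback a b) Y (Limits.pullback.snd a b) hR
    (DCoh.shriek (Limits.pullback.snd a b) hR) (DCoh.shriekAdj (Limits.pullback.snd a b) hR) OY ⟨hOY⟩ E ⟨eE⟩
  let hp := Groth.Agent.Dcoh.DualX.exactPairing hK (Groth.Agent.Dcoh.ModTens.adjQ K)
  obtain ⟨r⟩ := K354.FM.nonempty_RSheafHom K hK
  obtain ⟨e2⟩ := K354.FM.nonempty_phiSwap a b K' _ hK'
  exact K354.Adj.adjRight (Limits.pullback.fst a b) (Limits.pullback.snd a b)
    (fun M hM => Groth.Agent.S0998.result _ M hM) hR (DCoh.toD _ K) _ hK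
    (Groth.Agent.Dcoh.DualX.isPerfect_dual hK (Groth.Agent.Dcoh.ModTens.adjQ K))
    (DCoh.shriek (Limits.pullback.snd a b) hR) (DCoh.shriekAdj (Limits.pullback.snd a b) hR) ω
    (e1 ≪≫ Functor.isoWhiskerLeft (ObjectProperty.ι _ ⋙ DCoh.Lpull (Limits.pullback.snd a b))
      (Groth.Agent.Dcoh.ModTens.LTensorCxIso E ≪≫ (MonoidalCategory.tensoringRight _).mapIso eE))
    le_rfl le_rfl
    (K354.FM.phiOnIso a b K _ _ h)
    (Functor.isoWhiskerLeft (ObjectProperty.ι _) (e2 ≪≫ K354.Adj.phCongr _ _ (r.app ω)))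

end Groth.Agent.S13555
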