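import Groth.Statements.S13556
import Groth.Agent.DEquiv.K354.Fam

set_option autoImplicit false
universe u
open CategoryTheory AlgebraicGeometry
attribute [local instance] HasDerivedCategory.standard
open DEquiv

namespace Groth.Agent.S13556

/-- Let k be a field, S a scheme of finite type over k with a k-rational point s : Spec k → S, and f : Y
→ S a smooth proper morphism; let Y_s = Y ×_S Spec k be the fibre over s (structure map c : Y_s →
Spec k) and X = Y_s ×_k S → S the constant family. Let K, a complex of modules on X ×_S Y, be a
Fourier–Mukai kernel giving a relative equivalence over S from X to Y, and let i : Y_s ×_k Y_s → X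
×_S Y be the morphism whose first component is (identity, c followed by s) into X = Y_s ×_k S and
whose second component is the inclusion of the fibre Y_s → Y (i is pinned by these two equations).
Assume the derived functors involved exist (instance binders) and that the derived pullback Li^* K
is isomorphic in D(O_{Y_s ×_k Y_s}) to Δ_* O_{Y_s} placed in degree 0. Then there is an open subset
U of S containing the image of s such that f^{-1}(U) is isomorphic to Y_s ×_k U over U. -/
theorem result
    (k : Type u) [Field k] {S Y : Scheme.{u}} (pS : S ⟶ Spec (.of k)) [LocallyOfFiniteType pS] [CompactSpace S]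
    (s : Spec (.of k) ⟶ S) (hs : s ≫ pS = 𝟙 _)
    (f : Y ⟶ S) [Smooth f] [IsProper f]
    [DCoh.HasLpull (FMK.p12 (Limits.pullback.snd (Limits.pullback.snd f s) pS) f (Limits.pullback.snd (Limits.pullback.snd f s) pS))]
    [DCoh.HasRpush (FMK.p13 (Limits.pullback.snd (Limits.pullback.snd f s) pS) f (Limits.pullback.snd (Limits.pullback.snd f s) pS))]
    [∀ L : CochainComplex (FMK.T (Limits.pullback.snd (Limits.pullback.snd f s) pS) f (Limits.pullback.snd (Limits.pullback.snd f s) pS)).Modules ℤ, DCoh.HasLTensorCx L]
    [DCoh.HasLpull (FMK.p12 f (Limits.pullback.snd (Limits.pullback.snd f s) pS) f)]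
    [DCoh.HasRpush (FMK.p13 f (Limits.pullback.snd (Limits.pullback.snd f s) pS) f)]
    [∀ L : CochainComplex (FMK.T f (Limits.pullback.snd (Limits.pullback.snd f s) pS) f).Modules ℤ, DCoh.HasLTensorCx L]
    (K : CochainComplex (Limits.pullback (Limits.pullback.snd (Limits.pullback.snd f s) pS) f).Modules ℤ)
    (hK : FMK.IsRelEquivKernel (Limits.pullback.snd (Limits.pullback.snd f s) pS) f K)
    (i : Limits.pullback (Limits.pullback.snd f s) (Limits.pullback.snd f s) ⟶
      Limits.pullback (Limits.pullback.snd (Limits.pullback.snd f s) pS) f)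
    (hi₁ : i ≫ Limits.pullback.fst _ _ ≫ Limits.pullback.fst (Limits.pullback.snd f s) pS =
      Limits.pullback.fst (Limits.pullback.snd f s) (Limits.pullback.snd f s))
    (hi₂ : i ≫ Limits.pullback.snd _ _ = Limits.pullback.snd (Limits.pullback.snd f s) (Limits.pullback.snd f s) ≫ Limits.pullback.fst f s)
    [DCoh.HasLpull i]
    (hKs : Nonempty ((DCoh.Lpull i).obj (DCoh.toD _ K) ≅ FMK.diagO (Limits.pullback.snd f s))) :
    ∃ U : S.Opens, (∀ x, s.base x ∈ U) ∧
      ∃ e : Limits.pullback f U.ι ≅ Limits.pullback (Limits.pullback.snd f s) (U.ι ≫ pS),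
        e.hom ≫ Limits.pullback.snd (Limits.pullback.snd f s) (U.ι ≫ pS) = Limits.pullback.snd f U.ι := by
  exact K354.Fam.main k pS s hs f (Limits.pullback.snd f s) (Limits.pullback.fst f s)
    (IsPullback.of_hasPullback f s) (DCoh.toD _ K) hK.1 i hi₁ hi₂ hKs

end Groth.Agent.S13556
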