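import Groth.Statements.S13557
import Groth.Agent.DEquiv.K237.LimKer

set_option autoImplicit false
universe u
open CategoryTheory AlgebraicGeometry
attribute [local instance] HasDerivedCategory.standard
open DEquiv

namespace Groth.Agent.S13557

/-- Let S be the limit of a cofiltered system (S_i) of quasi-compact quasi-separated schemes with affine
transition morphisms, let i₀ be an index and X₀ → S_{i₀}, Y₀ → S_{i₀} smooth proper morphisms; put X
= X₀ ×_{S_{i₀}} S, Y = Y₀ ×_{S_{i₀}} S and, for v : i → i₀, X_i = X₀ ×_{S_{i₀}} S_i, Y_i = Y₀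
×_{S_{i₀}} S_i (base change along the transition map). The derived functors involved are assumed to
exist, at S as instance binders and at the stage i as hypotheses inside the conclusion. If K, a
complex of modules on X ×_S Y, is a Fourier–Mukai kernel giving a relative equivalence over S from X
to Y, then for some v : i → i₀ there is a complex K_i of modules on X_i ×_{S_i} Y_i that is a
Fourier–Mukai kernel giving a relative equivalence over S_i from X_i to Y_i. -/
theorem result {I : Type u} [SmallCategory I] [IsCofiltered I]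
    (D : I ⥤ Scheme.{u}) (c : Limits.Cone D) (hc : Limits.IsLimit c)
    [∀ (i j : I) (v : i ⟶ j), IsAffineHom (D.map v)] [∀ i, CompactSpace (D.obj i)] [∀ i, QuasiSeparatedSpace (D.obj i)]
    (i₀ : I) {X₀ Y₀ : Scheme.{u}} (a₀ : X₀ ⟶ D.obj i₀) (b₀ : Y₀ ⟶ D.obj i₀)
    [Smooth a₀] [IsProper a₀] [Smooth b₀] [IsProper b₀]
    [DCoh.HasLpull (FMK.p12 (Limits.pullback.snd a₀ (c.π.app i₀)) (Limits.pullback.snd b₀ (c.π.app i₀)) (Limits.pullback.snd a₀ (c.π.app i₀)))] [DCoh.HasRpush (FMK.p13 (Limits.pullback.snd a₀ (c.π.app i₀)) (Limits.pullback.snd b₀ (c.π.app i₀)) (Limits.pullback.snd a₀ (c.π.app i₀)))]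
    [∀ L : CochainComplex (FMK.T (Limits.pullback.snd a₀ (c.π.app i₀)) (Limits.pullback.snd b₀ (c.π.app i₀)) (Limits.pullback.snd a₀ (c.π.app i₀))).Modules ℤ, DCoh.HasLTensorCx L]
    [DCoh.HasLpull (FMK.p12 (Limits.pullback.snd b₀ (c.π.app i₀)) (Limits.pullback.snd a₀ (c.π.app i₀)) (Limits.pullback.snd b₀ (c.π.app i₀)))] [DCoh.HasRpush (FMK.p13 (Limits.pullback.snd b₀ (c.π.app i₀)) (Limits.pullback.snd a₀ (c.π.app i₀)) (Limits.pullback.snd b₀ (c.π.app i₀)))]
    [∀ L : CochainComplex (FMK.T (Limits.pullback.snd b₀ (c.π.app i₀)) (Limits.pullback.snd a₀ (c.π.app i₀)) (Limits.pullback.snd b₀ (c.π.app i₀))).Modules ℤ, DCoh.HasLTensorCx L]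
    (K : CochainComplex (Limits.pullback (Limits.pullback.snd a₀ (c.π.app i₀)) (Limits.pullback.snd b₀ (c.π.app i₀))).Modules ℤ)
    (hK : FMK.IsRelEquivKernel (Limits.pullback.snd a₀ (c.π.app i₀)) (Limits.pullback.snd b₀ (c.π.app i₀)) K) :
    ∃ (i : I) (v : i ⟶ i₀) (Ki : CochainComplex (Limits.pullback (Limits.pullback.snd a₀ (D.map v)) (Limits.pullback.snd b₀ (D.map v))).Modules ℤ),
      ∀ [DCoh.HasLpull (FMK.p12 (Limits.pullback.snd a₀ (D.map v)) (Limits.pullback.snd b₀ (D.map v)) (Limits.pullback.snd a₀ (D.map v)))] [DCoh.HasRpush (FMK.p13 (Limits.pullback.snd a₀ (D.map v)) (Limits.pullback.snd b₀ (D.map v)) (Limits.pullback.snd a₀ (D.map v)))]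
        [∀ L : CochainComplex (FMK.T (Limits.pullback.snd a₀ (D.map v)) (Limits.pullback.snd b₀ (D.map v)) (Limits.pullback.snd a₀ (D.map v))).Modules ℤ, DCoh.HasLTensorCx L]
        [DCoh.HasLpull (FMK.p12 (Limits.pullback.snd b₀ (D.map v)) (Limits.pullback.snd a₀ (D.map v)) (Limits.pullback.snd b₀ (D.map v)))] [DCoh.HasRpush (FMK.p13 (Limits.pullback.snd b₀ (D.map v)) (Limits.pullback.snd a₀ (D.map v)) (Limits.pullback.snd b₀ (D.map v)))]
        [∀ L : CochainComplex (FMK.T (Limits.pullback.snd b₀ (D.map v)) (Limits.pullback.snd a₀ (D.map v)) (Limits.pullback.snd b₀ (D.map v))).Modules ℤ, DCoh.HasLTensorCx L],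
      FMK.IsRelEquivKernel (Limits.pullback.snd a₀ (D.map v)) (Limits.pullback.snd b₀ (D.map v)) Ki := by
  let F : K237.LimKer.Fam (Over.forget i₀ ⋙ D) (c.whisker (Over.forget i₀)) :=
    { A := Groth.Agent.Ega43.LimBC.bcDiagram D i₀ a₀
      α := Groth.Agent.Ega43.LimBC.bcSnd D i₀ a₀
      cA := Groth.Agent.Ega43.LimBC.bcCone D c i₀ a₀
      a := Limits.pullback.snd a₀ (c.π.app i₀)
      hα := fun φ => Groth.Agent.Ega43.LimBC.isPullback_map D i₀ a₀ φ
      ha := fun j => Groth.Agent.Ega43.LimBC.isPullback_π D c i₀ a₀ j }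
  let G : K237.LimKer.Fam (Over.forget i₀ ⋙ D) (c.whisker (Over.forget i₀)) :=
    { A := Groth.Agent.Ega43.LimBC.bcDiagram D i₀ b₀
      α := Groth.Agent.Ega43.LimBC.bcSnd D i₀ b₀
      cA := Groth.Agent.Ega43.LimBC.bcCone D c i₀ b₀
      a := Limits.pullback.snd b₀ (c.π.app i₀)
      hα := fun φ => Groth.Agent.Ega43.LimBC.isPullback_map D i₀ b₀ φ
      ha := fun j => Groth.Agent.Ega43.LimBC.isPullback_π D c i₀ b₀ j }
  have h1 : ∀ (i j : Over i₀) (f : i ⟶ j), IsAffineHom ((Over.forget i₀ ⋙ D).map f) :=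
    fun i j f => inferInstanceAs (IsAffineHom (D.map f.left))
  have h2 : ∀ j : Over i₀, CompactSpace ((Over.forget i₀ ⋙ D).obj j) :=
    fun j => inferInstanceAs (CompactSpace (D.obj j.left))
  have h3 : ∀ j : Over i₀, QuasiSeparatedSpace ((Over.forget i₀ ⋙ D).obj j) :=
    fun j => inferInstanceAs (QuasiSeparatedSpace (D.obj j.left))
  have h4 : ∀ j : Over i₀, Smooth (F.α.app j) :=
    fun j => inferInstanceAs (Smooth (Limits.pullback.snd a₀ (D.map j.hom)))
  have h5 : ∀ j : Over i₀, IsProper (F.α.app j) :=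
    fun j => inferInstanceAs (IsProper (Limits.pullback.snd a₀ (D.map j.hom)))
  have h6 : ∀ j : Over i₀, Smooth (G.α.app j) :=
    fun j => inferInstanceAs (Smooth (Limits.pullback.snd b₀ (D.map j.hom)))
  have h7 : ∀ j : Over i₀, IsProper (G.α.app j) :=
    fun j => inferInstanceAs (IsProper (Limits.pullback.snd b₀ (D.map j.hom)))
  have h8 : Smooth F.a := inferInstanceAs (Smooth (Limits.pullback.snd a₀ (c.π.app i₀)))
  have h9 : IsProper F.a := inferInstanceAs (IsProper (Limits.pullback.snd a₀ (c.π.app i₀)))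
  have h10 : Smooth G.a := inferInstanceAs (Smooth (Limits.pullback.snd b₀ (c.π.app i₀)))
  have h11 : IsProper G.a := inferInstanceAs (IsProper (Limits.pullback.snd b₀ (c.π.app i₀)))
  obtain ⟨j, Kj, h⟩ := K237.LimKer.main F G
    ((Functor.Initial.isLimitWhiskerEquiv (Over.forget i₀) c).symm hc) K hK
  exact ⟨j.left, j.hom, Kj, fun {_ _ _ _ _ _} => h⟩

end Groth.Agent.S13557
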