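import Groth.Statements.S13562
import Groth.Agent.DEquiv.K354.Const

set_option autoImplicit false
universe u
open CategoryTheory AlgebraicGeometry
attribute [local instance] HasDerivedCategory.standard
open DEquiv

namespace Groth.Agent.S13562

/-- Let k be an algebraically closed field, X a scheme smooth and proper over k (structure map p), S a
scheme of finite type over k (structure map pS) and f : Y → S a smooth proper morphism. Suppose K, a
complex of modules on (X ×_k S) ×_S Y, is the Fourier–Mukai kernel of a relative equivalence from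
the constant family X ×_k S → S to Y over S (the derived functors involved are assumed to exist,
instance binders). Then every point of S has an open neighbourhood U such that f^{-1}(U) is
isomorphic over U to Y₀ ×_k U for some scheme Y₀ smooth and proper over k. -/
theorem result
    (k : Type u) [Field k] [IsAlgClosed k] {X S Y : Scheme.{u}}
    (p : X ⟶ Spec (.of k)) [Smooth p] [IsProper p]
    (pS : S ⟶ Spec (.of k)) [LocallyOfFiniteType pS] [CompactSpace S]
    (f : Y ⟶ S) [Smooth f] [IsProper f]
    [DCoh.HasLpull (FMK.p12 (Limits.pullback.snd p pS) f (Limits.pullback.snd p pS))] [DCoh.HasRpush (FMK.p13 (Limits.pullback.snd p pS) f (Limits.pullback.snd p pS))]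
    [∀ L : CochainComplex (FMK.T (Limits.pullback.snd p pS) f (Limits.pullback.snd p pS)).Modules ℤ, DCoh.HasLTensorCx L]
    [DCoh.HasLpull (FMK.p12 f (Limits.pullback.snd p pS) f)] [DCoh.HasRpush (FMK.p13 f (Limits.pullback.snd p pS) f)]
    [∀ L : CochainComplex (FMK.T f (Limits.pullback.snd p pS) f).Modules ℤ, DCoh.HasLTensorCx L]
    (K : CochainComplex (Limits.pullback (Limits.pullback.snd p pS) f).Modules ℤ)
    (hK : FMK.IsRelEquivKernel (Limits.pullback.snd p pS) f K) (s : S) :
    ∃ U : S.Opens, s ∈ U ∧ ∃ (Y₀ : Scheme.{u}) (q : Y₀ ⟶ Spec (.of k)), Smooth q ∧ IsProper q ∧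
      ∃ e : Limits.pullback f U.ι ≅ Limits.pullback q (U.ι ≫ pS),
        e.hom ≫ Limits.pullback.snd q (U.ι ≫ pS) = Limits.pullback.snd f U.ι := by
  exact K354.Const.exists_nhd k p pS f K hK s

end Groth.Agent.S13562
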