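import Groth.Statements.S13568
import Groth.Agent.AlgSt.K744.Inj

set_option autoImplicit false
universe u
open CategoryTheory AlgebraicGeometry
open AlgSt

namespace Groth.Agent.S13568

/-- The composition of two universally injective morphisms of algebraic stacks is universally injective
(universally injective: every base change to an algebraic stack is injective on points). -/
theorem result {S : Scheme.{u}} {𝒳 𝒴 𝒵 : AlgSt.Cat S}
    (h𝒳 : AlgSt.IsAlgStack Scheme.fppfPrecoverage 𝒳) (h𝒴 : AlgSt.IsAlgStack Scheme.fppfPrecoverage 𝒴)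
    (h𝒵 : AlgSt.IsAlgStack Scheme.fppfPrecoverage 𝒵)
    (f : 𝒳 ⥤ᵇ 𝒴) (g : 𝒴 ⥤ᵇ 𝒵) (hf : AlgSt.IsUnivInjective Scheme.fppfPrecoverage f)
    (hg : AlgSt.IsUnivInjective Scheme.fppfPrecoverage g) :
    AlgSt.IsUnivInjective Scheme.fppfPrecoverage (BasedFunctor.comp f g) := by
  intro 𝒲 h𝒲 z
  refine K735.Pts.injective_fpFst_of_surjective_diag h𝒳.isStack.1 h𝒲.isStack.1 h𝒵.isStack.1 z
    (BasedFunctor.comp f g) ?_
  exact K744.Inj.surjective_diag_comp h𝒳.isStack.1 h𝒴.isStack.1 h𝒵.isStack.1 f g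
    (K735.Pts.surjective_diag_of_injective f (hf 𝒳 h𝒳 f)) (K735.Pts.surjective_diag_of_injective g (hg 𝒴 h𝒴 g))

end Groth.Agent.S13568
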