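import Groth.Statements.S13569
import Groth.Agent.AlgSt.K744.InjTest
import Groth.Agent.AlgSt.K744.AlgOver

set_option autoImplicit false
universe u
open CategoryTheory AlgebraicGeometry
open AlgSt

namespace Groth.Agent.S13569

/-- (2) ⇒ (1): let `f : 𝒳 ⟶ 𝒴` be a morphism of algebraic stacks over `S`. If for every affine scheme
`Z` over `S` and every `Z ⟶ 𝒴` the projection `Z ×_𝒴 𝒳 ⟶ Z` is universally injective, then `f` is
universally injective (every base change to an algebraic stack is injective on points). The converse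
implication is the base-change property. -/
theorem result {S : Scheme.{u}} {𝒳 𝒴 : AlgSt.Cat S}
    (h𝒳 : AlgSt.IsAlgStack Scheme.fppfPrecoverage 𝒳) (h𝒴 : AlgSt.IsAlgStack Scheme.fppfPrecoverage 𝒴) (f : 𝒳 ⥤ᵇ 𝒴)
    (h : ∀ (Z : Over S) [IsAffine Z.left] (z : FibCat.overCat Z ⥤ᵇ 𝒴),
      AlgSt.IsUnivInjective Scheme.fppfPrecoverage (FibCat.fpFst z f)) :
    AlgSt.IsUnivInjective Scheme.fppfPrecoverage f := by
  intro 𝒲 h𝒲 z
  refine K735.Pts.injective_fpFst_of_surjective_diag h𝒳.isStack.1 h𝒲.isStack.1 h𝒴.isStack.1 z f ?_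
  refine K744.InjTest.surjective_diag_of_fields h𝒳.isStack.1 h𝒴.isStack.1 f (fun K _ str y => ?_)
  have : IsAffine (Over.mk str : Over S).left := inferInstanceAs (IsAffine (Spec (CommRingCat.of K)))
  exact K744.InjTest.injective_of_id _ (h (Over.mk str) y _ (K744.AlgOver.isAlgStack_overCat _) (BasedFunctor.id _))

end Groth.Agent.S13569
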