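import Groth.Statements.S13575
import Groth.Agent.AlgSt.K744.Quot
import Groth.Agent.AlgSt.K734.FibFp

set_option autoImplicit false
universe u
open CategoryTheory AlgebraicGeometry MonoidalCategory
open AlgSt

namespace Groth.Agent.S13575

section

set_option backward.isDefEq.respectTransparency false
set_option backward.isDefEq.respectTransparency.types false

open CartesianMonoidalCategory MonObj GrpObj K744.Quot K734.Fib Groth.Agent.Books.BorelOrb

variable {S : Scheme.{u}} {G : Over S} [GrpObj G] {X : Over S} (aX : AlgGrp.Action G X)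

local notation "q" => quotMap Scheme.fppfPrecoverage G aX

/-- for `x : T ⟶ X`, `g : T ⟶ G`: the arrow `q(g x) ⟶ q(x)` over `t` given by right multiplication by `g`. -/
noncomputable def rm (b a : (ofSch X).obj) (t : b.base ⟶ a.base) (g : b.base ⟶ G)
    (h : sm aX g (t ≫ a.sec.down) = b.sec.down) : (q).obj b ⟶ (q).obj a :=
  tau ((q).obj a) b (lift g t) (by
    change lift g t ≫ (G ◁ a.sec.down) ≫ aX.act = b.sec.down
    rw [← h, sm, ← Category.assoc]
    congr 1
    simp)

lemma pt_rm (b a : (ofSch X).obj) (t : b.base ⟶ a.base) (g : b.base ⟶ G)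
    (h : sm aX g (t ≫ a.sec.down) = b.sec.down) : pt (rm aX b a t g h) = lift g t := pt_tau _ _ _ _

lemma pt_comp_rm {b a c : (ofSch X).obj} (σ : (q).obj b ⟶ (q).obj a) (t : a.base ⟶ c.base) (g : a.base ⟶ G)
    (h : sm aX g (t ≫ c.sec.down) = a.sec.down) :
    pt (σ ≫ rm aX a c t g h) =
      lift ((pt σ ≫ fst G a.base) * (pt σ ≫ snd G a.base ≫ g)) (pt σ ≫ snd G a.base ≫ t) := by
  rw [pt_comp, top_eq, pt_rm]
  change pt σ ≫ sm (leftMul G c.base) (fst G a.base) (snd G a.base ≫ lift g t) = _
  rw [sm_leftMul, comp_lift, comp_mul]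
  simp only [Category.assoc, lift_fst, lift_snd]

lemma pt_qmap {b a : (ofSch X).obj} (f : b ⟶ a) : pt ((q).map f) = lift 1 f.hom := by
  rw [pt]
  change unitPt G b.base ≫ (G ◁ f.hom) = _
  apply CartesianMonoidalCategory.hom_ext
  · rw [Category.assoc, whiskerLeft_fst, unitPt_fst, lift_fst]
  · rw [Category.assoc, whiskerLeft_snd, lift_snd, ← Category.assoc, unitPt_snd, Category.id_comp]

lemma pt_comp_qmap {b a c : (ofSch X).obj} (σ : (q).obj b ⟶ (q).obj a) (f : a ⟶ c) :
    pt (σ ≫ (q).map f) = lift (pt σ ≫ fst G a.base) (pt σ ≫ snd G a.base ≫ f.hom) := by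
  rw [pt_comp]
  change pt σ ≫ (G ◁ f.hom) = _
  apply CartesianMonoidalCategory.hom_ext
  · rw [Category.assoc, whiskerLeft_fst, lift_fst]
  · rw [Category.assoc, whiskerLeft_snd, lift_snd]

lemma pt_snd {b a : (ofSch X).obj} (σ : (q).obj b ⟶ (q).obj a) : pt σ ≫ snd G a.base = σ.base := pt_π σ

lemma pt_id (a : (ofSch X).obj) : pt (𝟙 ((q).obj a)) = lift 1 (𝟙 a.base) := by
  have := pt_qmap aX (𝟙 a)
  rwa [CategoryTheory.Functor.map_id] at this

/-- the section over which an arrow between trivial torsors lies -/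
lemma sm_pt {b a : (ofSch X).obj} (σ : (q).obj b ⟶ (q).obj a) :
    sm aX (pt σ ≫ fst G a.base) (σ.base ≫ a.sec.down) = b.sec.down := by
  have h := pt_φ σ
  change pt σ ≫ (G ◁ a.sec.down) ≫ aX.act = b.sec.down at h
  rw [← h, sm, ← Category.assoc]
  congr 1
  rw [← pt_snd]
  apply CartesianMonoidalCategory.hom_ext <;> simp

/-- isomorphism given by right multiplication -/
noncomputable def rmIso (b a : (ofSch X).obj) (t : b.base ≅ a.base) (g : b.base ⟶ G)
    (h : sm aX g (t.hom ≫ a.sec.down) = b.sec.down) : (q).obj b ≅ (q).obj a where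
  hom := rm aX b a t.hom g h
  inv := rm aX a b t.inv (t.inv ≫ g⁻¹) (by
    rw [← h, ← comp_sm, ← mul_sm, inv_mul_cancel, one_sm, Iso.inv_hom_id_assoc])
  hom_inv_id := by
    apply hom_ext_pt
    rw [pt_comp_rm, pt_rm, pt_id]
    simp only [lift_fst, lift_snd_assoc, Iso.hom_inv_id_assoc, Iso.hom_inv_id, mul_inv_cancel]
  inv_hom_id := by
    apply hom_ext_pt
    rw [pt_comp_rm, pt_rm, pt_id]
    simp only [lift_fst, lift_snd_assoc, Iso.inv_hom_id, ← comp_mul, inv_mul_cancel, comp_one]

/-- the action map on sections -/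
noncomputable abbrev actF : ofSch (G ⊗ X) ⥤ᵇ ofSch X := ofSpMap ((AlgSp.yon S).map aX.act)

variable (G X) in
/-- the projection on sections -/
noncomputable abbrev sndF : ofSch (G ⊗ X) ⥤ᵇ ofSch X := ofSpMap ((AlgSp.yon S).map (snd G X))

lemma rel (w : (ofSch (G ⊗ X)).obj) :
    sm aX (w.sec.down ≫ fst G X) (𝟙 w.base ≫ ((sndF G X).obj w).sec.down) = ((actF aX).obj w).sec.down := by
  rw [Category.id_comp]
  change lift (w.sec.down ≫ fst G X) (w.sec.down ≫ snd G X) ≫ aX.act = w.sec.down ≫ aX.act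
  rw [← comp_lift, lift_fst_snd, Category.comp_id]

/-- the isomorphism at an object -/
noncomputable def eApp (w : (ofSch (G ⊗ X)).obj) :
    (q).obj ((actF aX).obj w) ≅ (q).obj ((sndF G X).obj w) :=
  rmIso aX ((actF aX).obj w) ((sndF G X).obj w) (Iso.refl w.base) (w.sec.down ≫ fst G X) (rel aX w)

lemma pt_eApp (w : (ofSch (G ⊗ X)).obj) : pt (eApp aX w).hom = lift (w.sec.down ≫ fst G X) (𝟙 w.base) :=
  pt_rm aX ((actF aX).obj w) ((sndF G X).obj w) (𝟙 w.base) (w.sec.down ≫ fst G X) (rel aX w)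

lemma pt_l {a : (ofSch X).obj} {w' : (ofSch (G ⊗ X)).obj} (f : a ⟶ (actF aX).obj w') :
    pt ((q).map f ≫ (eApp aX w').hom) = lift (f.hom ≫ w'.sec.down ≫ fst G X) f.hom := by
  rw [pt_map_comp, pt_eApp]
  have : ∀ (d : w'.base ⟶ G) (k : a.base ⟶ w'.base), k ≫ lift d (𝟙 _) = lift (k ≫ d) k := fun d k => by
    rw [comp_lift, Category.comp_id]
  exact this (w'.sec.down ≫ fst G X) f.hom

lemma pt_r {w : (ofSch (G ⊗ X)).obj} {b : (ofSch X).obj} (g : (sndF G X).obj w ⟶ b) :
    pt ((eApp aX w).hom ≫ (q).map g) = lift (w.sec.down ≫ fst G X) g.hom := by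
  rw [pt_comp_qmap, pt_eApp]
  have : ∀ (d : w.base ⟶ G) (k : w.base ⟶ b.base), lift (lift d (𝟙 w.base) ≫ fst G _) (lift d (𝟙 w.base) ≫ snd G _ ≫ k) =
      lift d k := fun d k => by
    rw [lift_fst, lift_snd_assoc, Category.id_comp]
  exact this (w.sec.down ≫ fst G X) g.hom

lemma eApp_base (w : (ofSch (G ⊗ X)).obj) : (eApp aX w).hom.base = 𝟙 w.base := lift_snd _ _

noncomputable def e : BasedFunctor.comp (actF aX) (q) ≅ BasedFunctor.comp (sndF G X) (q) :=
  mkIso (fun w => eApp aX w) (fun w => by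
    refine IsVert.of_lift (R := w.base) ?_
    exact IsHomLift.of_fac' _ _ _ rfl rfl (by
      change (eApp aX w).hom.base = _
      rw [eApp_base]
      change 𝟙 w.base = 𝟙 w.base ≫ 𝟙 w.base ≫ 𝟙 w.base
      simp)) (fun {w w'} f => by
    change (q).map ((actF aX).map f) ≫ (eApp aX w').hom = (eApp aX w).hom ≫ (q).map ((sndF G X).map f)
    have hf : f.hom ≫ w'.sec.down = w.sec.down := congrArg ULift.down f.map_sec
    apply hom_ext_pt
    rw [pt_l, pt_r, ← hf]
    rfl)

theorem isTwoCart : FibCat.IsTwoCartOver (actF aX) (sndF G X) (e aX) := by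
  apply isTwoCart_of
  · -- full
    intro w w' f g hw
    change (q).map f ≫ (eApp aX w').hom = (eApp aX w).hom ≫ (q).map g at hw
    have h1 := congrArg pt hw
    rw [pt_l, pt_r] at h1
    have h2 : f.hom ≫ w'.sec.down ≫ fst G X = w.sec.down ≫ fst G X :=
      (lift_fst _ _).symm.trans ((congrArg (· ≫ fst G _) h1).trans (lift_fst _ _))
    have h3 : f.hom = g.hom := (lift_snd _ _).symm.trans ((congrArg (· ≫ snd G _) h1).trans (lift_snd _ _))
    have h4 : g.hom ≫ w'.sec.down ≫ snd G X = w.sec.down ≫ snd G X := congrArg ULift.down g.map_sec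
    refine ⟨⟨f.hom, ?_⟩, Stk.EltObj.hom_ext rfl, Stk.EltObj.hom_ext h3⟩
    apply ULift.ext
    change f.hom ≫ w'.sec.down = w.sec.down
    apply CartesianMonoidalCategory.hom_ext
    · rw [Category.assoc, h2]
    · rw [Category.assoc, h3, h4]
  · intro w w' h h' h1 h2
    have h3 := congrArg Stk.EltObj.Hom.hom h1
    exact Stk.EltObj.hom_ext h3
  · intro a b φ hφ
    have hb : φ.hom.base = eqToHom (IsVert.obj_eq hφ) := IsVert.map_eq hφ
    let g : a.base ⟶ G := pt φ.hom ≫ fst G b.base
    have h1 : sm aX g (φ.hom.base ≫ b.sec.down) = a.sec.down := sm_pt aX φ.hom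
    let w : (ofSch (G ⊗ X)).obj := ⟨a.base, ⟨lift g (φ.hom.base ≫ b.sec.down)⟩⟩
    have hab : a.base = b.base := IsVert.obj_eq hφ
    let α : (actF aX).obj w ≅ a :=
      { hom := ⟨𝟙 a.base, by
          apply ULift.ext
          change 𝟙 a.base ≫ a.sec.down = lift g (φ.hom.base ≫ b.sec.down) ≫ aX.act
          rw [Category.id_comp]
          exact h1.symm⟩
        inv := ⟨𝟙 a.base, by
          apply ULift.ext
          change 𝟙 a.base ≫ lift g (φ.hom.base ≫ b.sec.down) ≫ aX.act = a.sec.down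
          rw [Category.id_comp]
          exact h1⟩
        hom_inv_id := Stk.EltObj.hom_ext (Category.id_comp _)
        inv_hom_id := Stk.EltObj.hom_ext (Category.id_comp _) }
    let β : (sndF G X).obj w ≅ b :=
      { hom := ⟨eqToHom hab, by
          apply ULift.ext
          change eqToHom hab ≫ b.sec.down = lift g (φ.hom.base ≫ b.sec.down) ≫ snd G X
          rw [lift_snd, hb]⟩
        inv := ⟨eqToHom hab.symm, by
          apply ULift.ext
          change eqToHom hab.symm ≫ lift g (φ.hom.base ≫ b.sec.down) ≫ snd G X = b.sec.down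
          rw [lift_snd, hb]
          change eqToHom hab.symm ≫ eqToHom hab ≫ b.sec.down = b.sec.down
          simp⟩
        hom_inv_id := Stk.EltObj.hom_ext (by simp)
        inv_hom_id := Stk.EltObj.hom_ext (by simp) }
    refine ⟨w, α, β, ?_, ?_⟩
    · refine IsVert.of_lift (R := a.base) ?_
      exact IsHomLift.of_fac' _ _ _ rfl rfl (by
        change 𝟙 a.base = 𝟙 a.base ≫ 𝟙 a.base ≫ 𝟙 a.base
        simp)
    · apply hom_ext_pt
      refine Eq.trans ?_ (pt_r aX β.hom).symm
      refine (pt_map_comp α.hom φ.hom).trans ?_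
      change 𝟙 a.base ≫ pt φ.hom = lift (lift g (φ.hom.base ≫ b.sec.down) ≫ fst G X) (eqToHom hab)
      rw [Category.id_comp, lift_fst]
      apply CartesianMonoidalCategory.hom_ext
      · rw [lift_fst]
      · rw [lift_snd]
        exact (pt_snd aX φ.hom).trans hb

end

/-- For a group action: let a group scheme `G` over `S` act on a scheme `X` over `S` and let `π : X ⟶
[X/G]` be the canonical morphism to the quotient stack. Then the square with vertices `G ×_S X`,
`X`, `X`, `[X/G]`, whose sides are the action and the projection `G ×_S X ⟶ X` followed by `π`, is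
2-cartesian for some 2-isomorphism `π ∘ a ≅ π ∘ pr₂`: the induced functor from `G ×_S X` to the
2-fibre product `X ×_{[X/G]} X` is an equivalence over `(Sch/S)`. Existence of the 2-isomorphism
only; the canonical one is right multiplication by the group element. (The published statement is
for a groupoid in algebraic spaces; this row is the action groupoid of a group scheme, with torsors
given as schemes.) -/
theorem result {S : Scheme.{u}} (G : Over S) [GrpObj G]
    (X : Over S) (aX : AlgGrp.Action G X) :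
    ∃ e : BasedFunctor.comp (AlgSt.ofSpMap ((AlgSp.yon S).map aX.act)) (AlgSt.quotMap Scheme.fppfPrecoverage G aX) ≅
        BasedFunctor.comp (AlgSt.ofSpMap ((AlgSp.yon S).map (CartesianMonoidalCategory.snd G X)))
          (AlgSt.quotMap Scheme.fppfPrecoverage G aX),
      FibCat.IsTwoCartOver (AlgSt.ofSpMap ((AlgSp.yon S).map aX.act))
        (AlgSt.ofSpMap ((AlgSp.yon S).map (CartesianMonoidalCategory.snd G X))) e :=
  ⟨e aX, isTwoCart aX⟩

end Groth.Agent.S13575
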