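import Groth.Statements.S13580
import Groth.Agent.ExtSupp.K787.Excise

set_option autoImplicit false
universe w' w u
open CategoryTheory CategoryTheory.Limits
open ExtSupp

namespace Groth.Agent.S13580

/-- Let `U`, `V` be objects of a ringed site which together cover it, with `V` subterminal (every object
has at most one morphism to `V`, so that `V` is an open of the topos and the closed complement `Z`
of `U` is contained in it), and let `M`, `N` be sheaves of modules. Then `Ext^i_Z(M, N)` computed on
the whole site is isomorphic to `Ext^i_{Z}(V; M|_V, N|_V)`, the Ext group with supports computed on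
the localised site over `V` with support the complement of `U × V ⟶ V`. Existence of an isomorphism
of groups in each degree only. (The published statement is for a ringed space, where every open set
is subterminal, a locally closed `Z` and an isomorphism of cohomological functors; this row is the
closed case on a ringed site, degree by degree, with the subterminality of `V` made an explicit
hypothesis. Without the covering hypothesis the statement fails, e.g. for `V = U`; without the
subterminality of `V` it fails already in degree `0`, because restricting to the localised site over
an object that receives two different morphisms from one object can enlarge the group of sections.) -/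
theorem result {C : Type u} [SmallCategory C] [HasBinaryProducts C]
    {J : GrothendieckTopology C} {O : Sheaf J CommRingCat.{u}} [HasExt.{w} (ModSite.Mod O)]
    (U V : C) [HasExt.{w'} (ModSite.Mod (O.over V))]
    (hV : ∀ X : C, Subsingleton (X ⟶ V)) (hUV : J.CoversTop (fun b : Bool => cond b U V)) (M N : ModSite.Mod O)
    (i : ℕ) :
    Nonempty (ExtSupp.ExtZ U M N i ≃+ ExtSupp.ExtZover V (Over.mk (prod.snd : U ⨯ V ⟶ V)) M N i) := by
  let W : Over V := Over.mk (prod.snd : U ⨯ V ⟶ V)
  obtain ⟨e⟩ := K787.Excise.nonempty_quotOn_restr (O := O) U V W prod.fst
    (fun T r => ⟨Over.homMk (prod.lift r T.hom) (prod.lift_snd _ _)⟩) M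
  have h1 := K787.Excise.isIso_counit U V hV hUV ((ModSite.quotOn O U).obj M)
    (K787.Excise.isNullOn_quotOn U M)
  let e2 : (ModSite.extZero O V).obj ((ModSite.quotOn (O.over V) W).obj ((ModSite.restr O V).obj M)) ≅
      (ModSite.quotOn O U).obj M :=
    (ModSite.extZero O V).mapIso e ≪≫
      asIso ((ModSite.extZeroAdj O V).counit.app ((ModSite.quotOn O U).obj M))
  obtain ⟨f⟩ := K787.RestrAb.nonempty_ext_extZero.{w', w} V
    ((ModSite.quotOn (O.over V) W).obj ((ModSite.restr O V).obj M)) N i
  obtain ⟨g⟩ := K787.Excise.nonempty_ext_congr.{w} e2 N i
  exact ⟨(f.trans g).symm⟩

end Groth.Agent.S13580
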