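import Groth.Statements.S13585
import Groth.Agent.S7772
import Groth.Agent.ArSurf.K482.CanonTool
import Groth.Agent.Krr.H472.SelfInt
import Groth.Agent.OmegaSh.K583.ExtPowPull

set_option autoImplicit false
universe u
open CategoryTheory CategoryTheory.Limits AlgebraicGeometry
open Canon Groth.Agent

namespace Groth.Agent.S13585

/-- Let `f : X ⟶ Y` and `g : Y ⟶ Z` be morphisms of schemes with `g` smooth of relative dimension `n`,
and let `Γ : X ⟶ X ×_Z Y` be the graph of `f`. Then `Γ` is a regular immersion of codimension `n`,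
and the top exterior power of its conormal sheaf is `f^* ω_{Y/Z}`, where `ω_{Y/Z} = Λ^n Ω_{Y/Z}`;
that is, the canonical sheaf of the immersion `Γ` is the dual of `f^* ω_{Y/Z}`. (This row takes `X`
locally Noetherian and `g` separated, so that the graph is a closed immersion and the criterion for
sections of smooth morphisms over a locally Noetherian base, through which the published proof goes,
applies; the published statement has arbitrary preschemes.) -/
theorem result {X Y Z : Scheme.{u}} [IsLocallyNoetherian X]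
    (f : X ⟶ Y) (g : Y ⟶ Z) (n : ℕ) [SmoothOfRelativeDimension n g] [IsSeparated g]
    (ωY : Y.Modules) (hω : Canon.IsTopDiff g n ωY) :
    RegImm.IsRegularImmersionOfCodim .regular n (pullback.lift (𝟙 X) f (Category.id_comp (f ≫ g))) ∧
      ExtPow.IsExtPow n (Omega.conormal (pullback.lift (𝟙 X) f (Category.id_comp (f ≫ g))))
        ((Scheme.Modules.pullback f).obj ωY) := by
  have hsm : Smooth g := SmoothOfRelativeDimension.smooth n g
  have w : f ≫ g = 𝟙 X ≫ (f ≫ g) := (Category.id_comp _).symm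
  have hΓ : pullback.lift (𝟙 X) f (Category.id_comp (f ≫ g)) ≫ pullback.fst (f ≫ g) g = 𝟙 X :=
    pullback.lift_fst _ _ _
  have hcl : IsClosedImmersion (pullback.lift (𝟙 X) f (Category.id_comp (f ≫ g))) := by
    have : IsClosedImmersion (pullback.lift (𝟙 X) f (Category.id_comp (f ≫ g)) ≫ pullback.fst (f ≫ g) g) := by
      rw [hΓ]; infer_instance
    exact IsClosedImmersion.of_comp _ (pullback.fst (f ≫ g) g)
  have hst : MorphismProperty.IsStableUnderBaseChange (@SmoothOfRelativeDimension n) :=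
    smoothOfRelativeDimension_isStableUnderBaseChange n
  have hsm' : SmoothOfRelativeDimension n (pullback.fst (f ≫ g) g) :=
    MorphismProperty.pullback_fst (P := @SmoothOfRelativeDimension n) _ _ inferInstance
  have rΩ := Dual.H339.OmegaRank.isFinLocFreeOfRank_omega n g
  -- the conormal sheaf of the graph
  obtain ⟨S, hS, ⟨a⟩, ⟨b⟩, ⟨c⟩⟩ := Krr.H492.ConProd.exists_shortExact g (f ≫ g) (𝟙 X) f w
  have hz : IsZero S.X₁ := (Krr.H495.Rank.isZero_of_rank_zero
    (Krr.H472.SelfInt.isFinLocFreeOfRank_conormal_id X)).of_iso a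
  have hm : Mono S.g := hS.exact.mono_g (hz.eq_of_src _ _)
  have he : Epi S.g := hS.epi_g
  have hi : IsIso S.g := isIso_of_mono_of_epi _
  have hl : pullback.lift f (𝟙 X) w ≫ (pullbackSymmetry g (f ≫ g)).hom =
      pullback.lift (𝟙 X) f (Category.id_comp (f ≫ g)) := by
    apply pullback.hom_ext
    · rw [Category.assoc, pullbackSymmetry_hom_comp_fst, pullback.lift_snd, pullback.lift_fst]
    · rw [Category.assoc, pullbackSymmetry_hom_comp_snd, pullback.lift_fst, pullback.lift_snd]
  obtain ⟨hp, hq⟩ := K482.CanonTool.isPreimmersion_lift g (f ≫ g) (𝟙 X) f w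
  obtain ⟨d⟩ := K482.CanonTool.nonempty_conormal_iso (pullbackSymmetry g (f ≫ g)) (pullback.lift f (𝟙 X) w)
  rw [hl] at d
  have e : (Scheme.Modules.pullback f).obj (Omega.sheaf g) ≅
      Omega.conormal (pullback.lift (𝟙 X) f (Category.id_comp (f ≫ g))) :=
    c.symm ≪≫ (asIso S.g).symm ≪≫ b ≪≫ d
  have rC : FlatMod.IsFinLocFreeOfRank n (Omega.conormal (pullback.lift (𝟙 X) f (Category.id_comp (f ≫ g)))) :=
    Krr.H495.Rank.rank_iso e (Krr.H482.PullLambda.isFinLocFreeOfRank_pullback f rΩ)
  have hE : ExtPow.IsExtPow n (Omega.conormal (pullback.lift (𝟙 X) f (Category.id_comp (f ≫ g))))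
      ((Scheme.Modules.pullback f).obj ωY) :=
    K583.ExtPowPull.isExtPow_of_iso_left (Ega2.QCohLocal.isQCoh_of_isFinLocFree
      (Krr.H495.Rank.isFinLocFree_of_rank rC)) e
      (K482.CanonTool.isExtPow_pullback f (Krr.H495.Rank.isFinLocFree_of_rank rΩ) hω)
  obtain ⟨ω₁, h₁⟩ := K482.CanonTool.exists_isExtPow n (Krr.H495.Rank.isFinLocFree_of_rank
    (Dual.H339.OmegaRank.isFinLocFreeOfRank_omega n (pullback.fst (f ≫ g) g)))
  obtain ⟨ω₀, h₀⟩ := K482.CanonTool.exists_isExtPow 0 (Krr.H495.Rank.isFinLocFree_of_rank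
    (Dual.H339.OmegaRank.isFinLocFreeOfRank_omega 0 (𝟙 X)))
  exact ⟨(S7772.result X _ X (pullback.fst (f ≫ g) g) (𝟙 X) n 0 (Nat.zero_le n) _ hΓ ω₁ h₁ ω₀ h₀ _ hE).1, hE⟩

end Groth.Agent.S13585
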