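import Groth.Statements.S13586
import Groth.Agent.ExtSupp.K787.GammaZ
import Groth.Agent.ExtSupp.K787.SSFinal
import Groth.Agent.ExtSupp.K787.FlatAcyc
import Groth.Agent.ExtSupp.K787.HZExt

set_option autoImplicit false
universe u
open CategoryTheory CategoryTheory.Limits
open ExtSupp

namespace Groth.Agent.S13586

/-- On a ringed site, for an object `U` with closed complement `Z` and sheaves of modules `M`, `N`,
there is a bounded `E_2` spectral sequence of abelian groups with `E_2^{p,q}` isomorphic to
`H^p_Z(ℰxt^q_O(M, N))` for `p, q ≥ 0` and zero otherwise, together with abutment data whose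
filtrations are finite on `Ext^n_Z(M, N)` (`n ≥ 0`; zero for `n < 0`). The `E_2` identifications and
the abutment isomorphisms are asserted to exist only and are not pinned to the canonical maps, so
edge maps are not part of this statement; the internal hom out of `M`, the right adjoint of
restriction to `U` and injective resolutions of sheaves of modules are assumed to exist. (The
published statement, on a ringed topos and likewise on a ringed space, is functorial in `M`, `N` and
in an object `X` of the topos; this row is the case of the final object.) -/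
theorem result {C : Type u} [SmallCategory C]
    {J : GrothendieckTopology C} {O : Sheaf J CommRingCat.{u}} [HasExt.{u} (ModSite.Mod O)]
    (U : C) [ModSite.HasPushOver O U] (M N : ModSite.Mod O) [ModSite.HasSheafHom M]
    [HasInjectiveResolutions (ModSite.Mod O)] :
    ∃ (E : E₂CohomologicalSpectralSequence AddCommGrpCat.{u})
      (a : SpSeq.Abutment E (fun n : ℤ =>
        if 0 ≤ n then AddCommGrpCat.of (ExtSupp.ExtZ U M N n.toNat) else AddCommGrpCat.of PUnit.{u + 1})),
      (∀ n, a.IsFinite n) ∧ SpSeq.IsBounded E ∧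
      ∀ p q : ℤ, Nonempty ((E.page 2 le_rfl).X (p, q) ≅
        (if 0 ≤ p ∧ 0 ≤ q then AddCommGrpCat.of (ModSite.HZ U ((ModSite.extSh M q.toNat).obj N) p.toNat)
         else AddCommGrpCat.of PUnit.{u + 1})) := by
  have : EnoughInjectives (ModSite.Mod O) := K787.RestrAb.hasEnoughInjectives O
  let X : ModSite.Mod O := (ModSite.quotOn O U).obj (ModSite.unit O)
  refine K787.SSFinal.exists_of_comp (ModSite.sheafHom M) (preadditiveCoyoneda.obj (Opposite.op X))
    (fun Q hQ q hq => ?_) N (fun n => AddCommGrpCat.of (ExtSupp.ExtZ U M N n)) (fun n => ?_)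
    (fun p q => AddCommGrpCat.of (ModSite.HZ U ((ModSite.extSh M q).obj N) p)) (fun p q => ?_)
  · obtain ⟨m, rfl⟩ := Nat.exists_eq_succ_of_ne_zero hq.ne'
    obtain ⟨e⟩ := K787.RDExt.nonempty_rightDerived_iso X
      (preadditiveCoyoneda.obj (Opposite.op X)) (Iso.refl _) (m + 1)
    refine IsZero.of_iso ?_ (e.app _)
    have : Subsingleton (Abelian.Ext.{u} X ((ModSite.sheafHom M).obj Q) (m + 1)) :=
      subsingleton_of_forall_eq 0
        (K787.FlatAcyc.ext_sheafHom_eq_zero M Q m X
          (K787.FlatAcyc.isFlat_quotOn U _ (K291.Flat.isFlat_unit O)))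
    exact AddCommGrpCat.isZero_of_subsingleton (AddCommGrpCat.of (Abelian.Ext.{u} X
        ((ModSite.sheafHom M).obj Q) (m + 1)))
  · let e : ModSite.sheafHom M ⋙ preadditiveCoyoneda.obj (Opposite.op X) ≅
        preadditiveCoyoneda.obj (Opposite.op ((ModSite.quotOn O U).obj M)) :=
      K787.GammaZ.homIso M X ≪≫ K787.RDExt.coyoIso (K787.TensQuot.quotUnitTensorIso U M)
    have hl : PreservesFiniteLimits (ModSite.sheafHom M ⋙ preadditiveCoyoneda.obj (Opposite.op X)) :=
      preservesFiniteLimits_of_natIso e.symm
    obtain ⟨e⟩ := K787.RDExt.nonempty_rightDerived_iso _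
      (ModSite.sheafHom M ⋙ preadditiveCoyoneda.obj (Opposite.op X)) e n
    exact ⟨e.app N⟩
  · obtain ⟨e⟩ := K787.RDExt.nonempty_rightDerived_iso X
      (preadditiveCoyoneda.obj (Opposite.op X)) (Iso.refl _) p
    obtain ⟨f⟩ := K787.HZExt.nonempty_extEquiv U ((ModSite.extSh M q).obj N) p
    exact ⟨e.app _ ≪≫ f.toAddCommGrpIso⟩

end Groth.Agent.S13586
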