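import Groth.Statements.S13603
import Mathlib.Tactic.LinearCombination

set_option autoImplicit false
universe u v
open CAlg

namespace Groth.Agent.S13603

/-- Let a group G act on a commutative ring B by ring automorphisms so that every element of B has a
finite orbit, and let S ⊆ B be a multiplicative set of G-fixed elements (so each g ∈ G induces an
endomorphism of the localization S⁻¹B; the hypothesis that g maps S into S is implied by the
previous one and is only carried to name that endomorphism). Then an element of S⁻¹B is fixed by all
of G if and only if it is a fraction b/s with b fixed by G and s ∈ S: the canonical map S⁻¹(B^G) →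
(S⁻¹B)^G is onto. -/
theorem result {B : Type u} [CommRing B]
    {G : Type v} [Group G] [MulSemiringAction G B] (hfin : ∀ b : B, (MulAction.orbit G b).Finite)
    (S : Submonoid B) (hS : ∀ (g : G) (s : B), s ∈ S → g • s = s)
    (hS' : ∀ g : G, S ≤ S.comap (MulSemiringAction.toRingHom G B g)) (x : Localization S) :
    (∀ g : G, IsLocalization.map (Localization S) (MulSemiringAction.toRingHom G B g) (hS' g) x = x) ↔
      ∃ (b : B) (s : S), (∀ g : G, g • b = b) ∧ x = IsLocalization.mk' (Localization S) b s := by
  classical
  constructor
  · intro h
    obtain ⟨b, s, rfl⟩ := IsLocalization.exists_mk'_eq S x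
    have key : ∀ c ∈ (hfin b).toFinset, ∃ t : S, (t : B) * c = t * b := by
      intro c hc
      rw [Set.Finite.mem_toFinset] at hc
      obtain ⟨g, rfl⟩ := hc
      have h1 := h g
      rw [IsLocalization.map_mk'] at h1
      have h2 : IsLocalization.mk' (Localization S) (g • b) s = IsLocalization.mk' (Localization S) b s := by
        rw [← h1]
        congr 1
        apply Subtype.ext
        exact (hS g s s.2).symm
      rw [IsLocalization.mk'_eq_iff_eq, IsLocalization.eq_iff_exists S] at h2
      obtain ⟨t, ht⟩ := h2
      refine ⟨t * s, ?_⟩
      rw [Submonoid.coe_mul]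
      change (t * s : B) * (g • b) = _
      linear_combination ht
    choose! t ht using key
    let T : S := ∏ c ∈ (hfin b).toFinset, t c
    have hT : ∀ g : G, (T : B) * (g • b) = T * b := by
      intro g
      have hm : g • b ∈ (hfin b).toFinset := by
        rw [Set.Finite.mem_toFinset]; exact ⟨g, rfl⟩
      have h1 : T = (∏ c ∈ (hfin b).toFinset.erase (g • b), t c) * t (g • b) :=
        (Finset.prod_erase_mul _ _ hm).symm
      rw [h1, Submonoid.coe_mul, mul_assoc, ht _ hm, mul_assoc]
    refine ⟨T * b, T * s, fun g => ?_, ?_⟩
    · rw [smul_mul', hS g T T.2, hT]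
    · rw [IsLocalization.mk'_eq_iff_eq]
      congr 1
      rw [Submonoid.coe_mul]
      ring
  · rintro ⟨b, s, hb, rfl⟩ g
    rw [IsLocalization.map_mk']
    congr 1
    · exact hb g
    · apply Subtype.ext
      exact hS g s s.2

end Groth.Agent.S13603
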