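import Groth.Statements.S13609


set_option autoImplicit false
universe u v
open CAlg

namespace Groth.Agent.S13609

/-- A direct summand of a module that is complete and separated for the I-adic topology is again
complete and separated: for a commutative ring A, an ideal I and A-modules M₁, M₂, if M₁ × M₂ is
I-adically complete then so is M₁. -/
theorem result (A : Type u) [CommRing A] (I : Ideal A)
    (M₁ M₂ : Type v) [AddCommGroup M₁] [Module A M₁] [AddCommGroup M₂] [Module A M₂]
    [IsAdicComplete I (M₁ × M₂)] : IsAdicComplete I M₁ := by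
  have hH : IsHausdorff I (M₁ × M₂) := inferInstance
  have hP : IsPrecomplete I (M₁ × M₂) := inferInstance
  have hinl : ∀ (n : ℕ) (x : M₁), x ∈ (I ^ n • ⊤ : Submodule A M₁) →
      ((x, 0) : M₁ × M₂) ∈ (I ^ n • ⊤ : Submodule A (M₁ × M₂)) := fun n x hx =>
    Submodule.smul_top_le_comap_smul_top (I ^ n) (LinearMap.inl A M₁ M₂) hx
  have hfst : ∀ (n : ℕ) (x : M₁ × M₂), x ∈ (I ^ n • ⊤ : Submodule A (M₁ × M₂)) →
      x.1 ∈ (I ^ n • ⊤ : Submodule A M₁) := fun n x hx =>
    Submodule.smul_top_le_comap_smul_top (I ^ n) (LinearMap.fst A M₁ M₂) hx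
  refine { haus' := ?_, prec' := ?_ }
  · intro x hx
    have h := hH.haus (x, 0) (fun n => by
      rw [SModEq.zero]
      exact hinl n x (SModEq.zero.1 (hx n)))
    exact congrArg Prod.fst h
  · intro f hf
    obtain ⟨L, hL⟩ := hP.prec (f := fun n => ((f n, 0) : M₁ × M₂)) (fun {m n} hmn => by
      rw [SModEq.sub_mem]
      have := hinl m _ (SModEq.sub_mem.1 (hf hmn))
      simpa using this)
    refine ⟨L.1, fun n => ?_⟩
    have := hfst n _ (SModEq.sub_mem.1 (hL n))
    rw [SModEq.sub_mem]
    simpa using this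

end Groth.Agent.S13609
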