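import Groth.Statements.S13618
import Groth.Agent.EtModW.K336.NoethCons
import Groth.Agent.EtModW.K336.ARSub
-- import your own Groth.Agent.* helpers here

set_option autoImplicit false
open CategoryTheory CategoryTheory.Limits AlgebraicGeometry Opposite
universe u
open EtModW

namespace Groth.Agent.S13618

/-- For a Noetherian scheme X, a Noetherian coefficient ring Λ and an ideal I of Λ, let w : F → G be a
morphism between I-adic inverse systems of constructible sheaves of Λ-modules on the small etale
site of X. Then the kernel and the cokernel of w in the abelian category of inverse systems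
(computed termwise) are AR I-adic: I^(n+1) kills their n-th terms and each receives a morphism with
kernel and cokernel null up to translation from an I-adic system of constructible sheaves.
Consequently AR I-adic systems form an abelian subcategory of the category of systems up to
translation. (The published statement is for objects isomorphic up to translation to I-adic systems
and morphisms up to translation; its argument first reduces to I-adic systems and a genuine morphism
of systems, the case stated here.) -/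
theorem result
    (Λ : Type (u + 1)) [CommRing Λ] [IsNoetherianRing Λ] (I : Ideal Λ)
    {X : Scheme.{u}} [IsNoetherian X]
    (F G : ARSys.PS (EtModW.Mod Λ X)) (hF : ARSys.IsAdic I F) (hG : ARSys.IsAdic I G)
    (hFc : ∀ n : ℕ, EtModW.IsConstructible Λ (F.obj (op n)))
    (hGc : ∀ n : ℕ, EtModW.IsConstructible Λ (G.obj (op n))) (w : F ⟶ G) :
    (ARSys.TermKilled I (kernel w) ∧ ∃ (Y : ARSys.PS (EtModW.Mod Λ X)) (v : Y ⟶ (kernel w)), ARSys.IsAdic I Y ∧ (∀ n : ℕ, EtModW.IsConstructible Λ (Y.obj (op n))) ∧ ARSys.IsARIso v) ∧ (ARSys.TermKilled I (cokernel w) ∧ ∃ (Y : ARSys.PS (EtModW.Mod Λ X)) (v : Y ⟶ (cokernel w)), ARSys.IsAdic I Y ∧ (∀ n : ℕ, EtModW.IsConstructible Λ (Y.obj (op n))) ∧ ARSys.IsARIso v) := by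
  have key : ∀ X : ARSys.PS (EtModW.Mod Λ X), ARSys.IsARAdicNoeth I X →
      (ARSys.TermKilled I X ∧ ∃ (Y : ARSys.PS (EtModW.Mod Λ _)) (v : Y ⟶ X), ARSys.IsAdic I Y ∧
        (∀ n : ℕ, EtModW.IsConstructible Λ (Y.obj (op n))) ∧ ARSys.IsARIso v) := by
    rintro X ⟨⟨hk, Y, v, hY, hv⟩, hN⟩
    refine ⟨hk, Y, v, hY, fun n => ?_, hv⟩
    rw [← K336.NoethCons.isNoetherianObject_iff]
    exact Groth.Agent.Sga5.ARAdicSub.isNoetherianObject_of_isARIso (J := I) hv
      (Groth.Agent.Sga5.MLAR.isStrict_of_isAdic hY) hN n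
  have hF' : ARSys.IsARAdicNoeth I F :=
    ⟨⟨hF.1, F, 𝟙 F, hF, Groth.Agent.Sga5.ARBasic.isARIso_of_isIso _⟩,
      fun n => K336.NoethCons.isNoetherianObject_of_isConstructible (hFc n)⟩
  have hG' : ARSys.IsARAdicNoeth I G :=
    ⟨⟨hG.1, G, 𝟙 G, hG, Groth.Agent.Sga5.ARBasic.isARIso_of_isIso _⟩,
      fun n => K336.NoethCons.isNoetherianObject_of_isConstructible (hGc n)⟩
  obtain ⟨h1, h2⟩ := Groth.Agent.Sga5.ARAdicSub.isARAdicNoeth_kernel_cokernel I
    (fun X hX => Groth.Agent.Sga5.ArtinRees.artinReesFor I X hX) w hF' hG'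
  exact ⟨key _ h1, key _ h2⟩

end Groth.Agent.S13618
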