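import Groth.Statements.S13620
import Groth.Agent.EtModW.K336.Stk2
import Groth.Agent.EtModW.K336.ARSub
import Groth.Agent.S13621
-- import your own Groth.Agent.* helpers here

set_option autoImplicit false
open CategoryTheory CategoryTheory.Limits AlgebraicGeometry Opposite
universe u
open EtModW

namespace Groth.Agent.S13620

/-- For a Noetherian scheme X, a Noetherian coefficient ring Λ and an ideal I of Λ, let F = (F_n) be an
inverse system of sheaves of Λ-modules on the small etale site of X which is AR I-adic (I^(n+1) F_n
= 0 for all n, and F receives a morphism with kernel and cokernel null up to translation from an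
I-adic system of constructible sheaves). Then F is null up to translation if and only if for every
geometric point x of X the limit of the stalk system, lim_n F_n,x, is the zero module. (The
published lemma assumes Λ I-adically complete, which only its first assertion uses; this row states
the second assertion without it.) -/
theorem result
    (Λ : Type (u + 1)) [CommRing Λ] [IsNoetherianRing Λ] (I : Ideal Λ)
    {X : Scheme.{u}} [IsNoetherian X]
    (F : ARSys.PS (EtModW.Mod Λ X))
    (hF : (ARSys.TermKilled I F ∧ ∃ (Y : ARSys.PS (EtModW.Mod Λ X)) (v : Y ⟶ F), ARSys.IsAdic I Y ∧ (∀ n : ℕ, EtModW.IsConstructible Λ (Y.obj (op n))) ∧ ARSys.IsARIso v)) :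
    ARSys.IsARNull F ↔
      ∀ (Ω : Type u) [Field Ω] [IsSepClosed Ω] (x : Spec (CommRingCat.of Ω) ⟶ X),
        IsZero (limit (F ⋙ EtModW.stalk Λ x)) := by
  obtain ⟨-, Y, v, hY, hYc, hv⟩ := hF
  constructor
  · intro h Ω _ _ x
    exact K336.ARSub.isZero_limit_of_isARNull (K336.ExactFun.isARNull_comp h _)
  · intro h
    have hYs := Groth.Agent.Sga5.MLAR.isStrict_of_isAdic hY
    have hY0 : ∀ n, IsZero (Y.obj (op n)) := by
      intro n
      refine K336.Stk.isZero_of_stalk fun Ω _ _ x => ?_
      have h1 : IsIso (limMap (Functor.whiskerRight v (EtModW.stalk Λ x))) :=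
        Groth.Agent.S13621.result _ (K336.ExactFun.isARIso_whisker v hv _)
      have h2 : IsZero (limit (Y ⋙ EtModW.stalk Λ x)) :=
        (h Ω x).of_iso (asIso (limMap (Functor.whiskerRight v (EtModW.stalk Λ x))))
      have h3 := K336.ARSub.surjective_limit_π (Y ⋙ EtModW.stalk Λ x)
        (K336.ExactFun.isStrict_comp hYs _) n
      have h4 : Subsingleton (limit (Y ⋙ EtModW.stalk Λ x) : ModuleCat.{u + 1} Λ) :=
        ModuleCat.subsingleton_of_isZero h2
      exact h3.subsingleton
    have hYz : IsZero Y := Functor.isZero _ fun n => hY0 n.unop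
    have hv0 : v = 0 := hYz.eq_of_src _ _
    have h5 := hv.2
    exact Groth.Agent.Sga5.ARBasic.isARNull_of_exact (ShortComplex.mk v (cokernel.π v)
      (cokernel.condition v)) (ShortComplex.exact_of_g_is_cokernel _ (cokernelIsCokernel v))
      (Groth.Agent.Sga5.ARBasic.isARNull_of_isZero hYz) h5

end Groth.Agent.S13620
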