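import Groth.Statements.S13622
import Groth.Agent.CAlg.K83.LimComplete
import Groth.Agent.FormalB.AdicSys

set_option autoImplicit false
universe u v
open CAlg

namespace Groth.Agent.S13622

/-- Let A be a commutative ring, I a finitely generated ideal and (M_n) an inverse system of finitely
generated A-modules whose transition maps f_n : M_(n+1) → M_n are surjective with kernel I^(n+1)
M_(n+1), and with I^(n+1) M_n = 0 for all n. If L is an inverse limit of the system (projections π_n
compatible with the f_n, jointly injective, every compatible family lifting to L), endowed with a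
module structure over the I-adic completion A^ of A that is compatible with its A-module structure,
then L is finitely generated as an A^-module. No completeness of A is assumed. -/
theorem result
    (A : Type u) [CommRing A] (I : Ideal A) (hI : I.FG)
    (M : ℕ → Type v) [∀ n, AddCommGroup (M n)] [∀ n, Module A (M n)] [∀ n, Module.Finite A (M n)]
    (f : ∀ n, M (n + 1) →ₗ[A] M n) (hf : ∀ n, Function.Surjective (f n))
    (hker : ∀ n, LinearMap.ker (f n) = I ^ (n + 1) • (⊤ : Submodule A (M (n + 1))))
    (hkill : ∀ n, I ^ (n + 1) • (⊤ : Submodule A (M n)) = ⊥)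
    (L : Type v) [AddCommGroup L] [Module A L] (π : ∀ n, L →ₗ[A] M n)
    (hπ : ∀ n, f n ∘ₗ π (n + 1) = π n)
    (hinj : ∀ x : L, (∀ n, π n x = 0) → x = 0)
    (hlift : ∀ y : (∀ n, M n), (∀ n, f n (y (n + 1)) = y n) → ∃ x : L, ∀ n, π n x = y n)
    [Module (AdicCompletion I A) L] [IsScalarTower A (AdicCompletion I A) L] :
    Module.Finite (AdicCompletion I A) L := by
  classical
  have hsys : Groth.Agent.FormalB.AdicSys.IsAdicSys I f :=
    { finite := inferInstance
      kill := fun n a ha x => by
        have h1 : a • x ∈ (I ^ (n + 1) • (⊤ : Submodule A (M n))) :=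
          Submodule.smul_mem_smul ha Submodule.mem_top
        rwa [hkill, Submodule.mem_bot] at h1
      surj := hf
      ker_le := fun n x hx => by rw [← hker]; exact hx }
  have huniq : ∀ x y : L, (∀ n, π n x = π n y) → x = y := by
    intro x y h
    rw [← sub_eq_zero]
    exact hinj _ (fun n => by rw [map_sub, h, sub_self])
  have hsmul : ∀ (c : AdicCompletion I A) (y : L) (n : ℕ),
      π n (c • y) = Groth.Agent.FormalB.AdicSys.rep c (n + 1) • π n y := by
    intro c y n
    set a := Groth.Agent.FormalB.AdicSys.rep c (n + 1) with ha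
    have h1 : c - algebraMap A (AdicCompletion I A) a ∈
        (I ^ (n + 1) • ⊤ : Submodule A (AdicCompletion I A)) := by
      rw [AdicCompletion.pow_smul_top_eq_ker_eval hI, LinearMap.mem_ker]
      have h2 : AdicCompletion.evalₐ I (n + 1) (c - algebraMap A (AdicCompletion I A) a) = 0 := by
        rw [map_sub, AlgHom.commutes, sub_eq_zero, ← Groth.Agent.FormalB.AdicSys.mk_rep]
        rfl
      have h3 := AdicCompletion.factor_evalₐ_eq_eval I (c - algebraMap A (AdicCompletion I A) a)
        (n := n + 1) (by simp)
      rw [h2, map_zero] at h3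
      exact h3.symm
    have h4 : (c - algebraMap A (AdicCompletion I A) a) • y ∈ (I ^ (n + 1) • ⊤ : Submodule A L) := by
      have h5 := Submodule.mem_map_of_mem
        (f := (LinearMap.toSpanSingleton (AdicCompletion I A) L y).restrictScalars A) h1
      rw [Submodule.map_smul''] at h5
      exact Submodule.smul_mono le_rfl le_top h5
    have h6 := K83.LimComplete.pi_le_ker I M hkill L π n h4
    rw [LinearMap.mem_ker, sub_smul, map_sub, sub_eq_zero, algebraMap_smul] at h6
    rw [h6, map_smul]
  obtain ⟨r, e, he⟩ := hsys.exists_generators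
  choose E hE using fun i => hlift (e i).1 (e i).2
  refine ⟨⟨Finset.univ.image E, ?_⟩⟩
  rw [eq_top_iff]
  intro x _
  let X : Groth.Agent.FormalB.AdicSys.Lim f := ⟨fun n => π n x, fun n =>
    congrArg (fun g => g x) (congrArg DFunLike.coe (hπ n))⟩
  have hx : X.1 0 ∈ Submodule.span A (Set.range fun i => (e i).1 0) := he ▸ Submodule.mem_top
  rw [Submodule.mem_span_range_iff_exists_fun] at hx
  obtain ⟨v, hv⟩ := hx
  obtain ⟨s, -, hs⟩ := hsys.exists_coeffs e he X 0 v hv
  have hxs : x = ∑ i, s i • E i := by
    apply huniq
    intro n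
    rw [map_sum]
    have h1 : X.1 n = ∑ i, (hsys.limSMul (s i) (e i)).1 n := by
      conv_lhs => rw [hs]
      change Groth.Agent.FormalB.AdicSys.Lim.proj f n _ = _
      rw [map_sum]; rfl
    change X.1 n = _
    rw [h1]
    refine Finset.sum_congr rfl fun i _ => ?_
    rw [hsmul, hE]
    rfl
  rw [hxs]
  refine Submodule.sum_mem _ fun i _ => ?_
  exact Submodule.smul_mem _ _ (Submodule.subset_span (by simp))

end Groth.Agent.S13622
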