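import Groth.Statements.S13623
import Mathlib.RingTheory.LocalRing.Module
import Mathlib.RingTheory.Support
import Mathlib.RingTheory.LocalRing.ResidueField.Ideal
import Mathlib.FieldTheory.IsAlgClosed.AlgebraicClosure
import Mathlib.RingTheory.Flat.FaithfullyFlat.Algebra
import Mathlib.RingTheory.Ideal.Quotient.Operations

set_option autoImplicit false
universe u
open TensorProduct
open CAlg

namespace Groth.Agent.S13623

/-- Let A be a commutative ring and B a commutative A-algebra, graded by A-submodules B_m (m ≥ 0)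
forming a graded-algebra structure, such that every B_m is a finitely generated A-module. If for
every algebraically closed field k and every A-algebra structure on k the k-algebra k ⊗_A B is
generated by the image of B_1 under b ↦ 1 ⊗ b, then its degree-one part B_1 generates the A-algebra
B. (Algebraically closed fields are taken in the universe of A.) -/
theorem result
    (A : Type u) [CommRing A] (B : Type u) [CommRing B] [Algebra A B]
    (𝒜 : ℕ → Submodule A B) [GradedAlgebra 𝒜]
    (hfin : ∀ m : ℕ, Module.Finite A (𝒜 m))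
    (hgen : ∀ (k : Type u) [Field k] [IsAlgClosed k] [Algebra A k],
      Algebra.adjoin k ((Algebra.TensorProduct.includeRight : B →ₐ[A] k ⊗[A] B) '' (𝒜 1 : Set B)) = ⊤) :
    Algebra.adjoin A (𝒜 1 : Set B) = ⊤ := by
  classical
  set E : Subalgebra A B := Algebra.adjoin A (𝒜 1 : Set B) with hE
  have hpowle : ∀ j : ℕ, (𝒜 1) ^ j ≤ 𝒜 j := by
    intro j
    induction j with
    | zero =>
      rw [pow_zero, Submodule.one_le]
      exact SetLike.GradedOne.one_mem
    | succ j ih =>
      rw [pow_succ, Submodule.mul_le]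
      intro a ha b hb
      exact SetLike.mul_mem_graded (ih ha) hb
  have hpowE : ∀ j : ℕ, (𝒜 1) ^ j ≤ Subalgebra.toSubmodule E := by
    intro j
    induction j with
    | zero =>
      rw [pow_zero, Submodule.one_le]
      exact E.one_mem
    | succ j ih =>
      rw [pow_succ, Submodule.mul_le]
      intro a ha b hb
      exact E.mul_mem (ih ha) (Algebra.subset_adjoin hb)
  have hclos : ∀ x ∈ Submonoid.closure (𝒜 1 : Set B), ∃ j, x ∈ (𝒜 1) ^ j := by
    intro x hx
    induction hx using Submonoid.closure_induction with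
    | mem x hx => exact ⟨1, by rwa [pow_one]⟩
    | one => exact ⟨0, by rw [pow_zero]; exact Submodule.one_le.1 le_rfl⟩
    | mul x y _ _ h1 h2 =>
      obtain ⟨i, hi⟩ := h1
      obtain ⟨j, hj⟩ := h2
      exact ⟨i + j, by rw [pow_add]; exact Submodule.mul_mem_mul hi hj⟩
  have key : ∀ m : ℕ, 𝒜 m ≤ Subalgebra.toSubmodule E := by
    intro m
    let T : Submodule A (𝒜 m) := ((𝒜 1) ^ m).comap (𝒜 m).subtype
    have : Module.Finite A (𝒜 m) := hfin m
    let r : B →ₗ[A] (𝒜 m ⧸ T) := T.mkQ ∘ₗ (DirectSum.component A ℕ (fun i => 𝒜 i) m) ∘ₗ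
      (DirectSum.decomposeLinearEquiv 𝒜).toLinearMap
    have hr0 : ∀ x : B, r x = T.mkQ (DirectSum.decompose 𝒜 x m) := fun x => rfl
    have hrE : ∀ x : E, r x = 0 := by
      intro x
      have hx : (x : B) ∈ Subalgebra.toSubmodule (Algebra.adjoin A (𝒜 1 : Set B)) := x.2
      rw [Algebra.adjoin_eq_span] at hx
      have hle : Submodule.span A (Submonoid.closure (𝒜 1 : Set B) : Set B) ≤ LinearMap.ker r := by
        rw [Submodule.span_le]
        intro y hy
        obtain ⟨j, hj⟩ := hclos y hy
        rw [SetLike.mem_coe, LinearMap.mem_ker, hr0]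
        by_cases hjm : j = m
        · subst hjm
          have h1 : DirectSum.decompose 𝒜 y j = ⟨y, hpowle j hj⟩ := by
            rw [DirectSum.decompose_of_mem 𝒜 (hpowle j hj), DirectSum.of_eq_same]
          rw [h1]
          exact (Submodule.Quotient.mk_eq_zero T).2 hj
        · have h1 : DirectSum.decompose 𝒜 y m = 0 := by
            rw [DirectSum.decompose_of_mem 𝒜 (hpowle j hj), DirectSum.of_eq_of_ne]
            exact fun h => hjm h.symm
          rw [h1, map_zero]
      exact hle hx
    have hrsurj : Function.Surjective r := by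
      intro z
      obtain ⟨y, rfl⟩ := T.mkQ_surjective z
      refine ⟨y, ?_⟩
      rw [hr0, DirectSum.decompose_coe, DirectSum.of_eq_same]
    -- the quotient vanishes
    have hk : ∀ (k : Type u) [Field k] [IsAlgClosed k] [Algebra A k], Subsingleton (k ⊗[A] (𝒜 m ⧸ T)) := by
      intro k _ _ _
      have h1 : E.baseChange k = ⊤ := by
        rw [← top_le_iff, ← hgen k]
        refine Algebra.adjoin_le ?_
        rintro _ ⟨x, hx, rfl⟩
        exact Subalgebra.tmul_mem_baseChange (Algebra.subset_adjoin hx) 1
      refine ⟨fun a b => ?_⟩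
      have hz : ∀ a : k ⊗[A] (𝒜 m ⧸ T), a = 0 := by
        intro a
        obtain ⟨y, rfl⟩ := LinearMap.lTensor_surjective k hrsurj a
        have hy : y ∈ E.baseChange k := h1 ▸ Algebra.mem_top
        obtain ⟨w, rfl⟩ := hy
        change (LinearMap.lTensor k r) ((LinearMap.lTensor k E.val.toLinearMap) w) = 0
        rw [← LinearMap.comp_apply, ← LinearMap.lTensor_comp]
        have : r ∘ₗ E.val.toLinearMap = 0 := by
          ext x
          exact hrE x
        rw [this, LinearMap.lTensor_zero, LinearMap.zero_apply]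
      rw [hz a, hz b]
    have hsub : Subsingleton (𝒜 m ⧸ T) := by
      rw [← Module.support_eq_empty_iff (R := A), Set.eq_empty_iff_forall_notMem]
      intro p hp
      rw [Module.mem_support_iff_nontrivial_residueField_tensorProduct] at hp
      let κ := p.asIdeal.ResidueField
      let k := AlgebraicClosure κ
      have h1 : Subsingleton (k ⊗[A] (𝒜 m ⧸ T)) := hk k
      have h2 : Nontrivial (k ⊗[κ] (κ ⊗[A] (𝒜 m ⧸ T))) := by
        obtain ⟨x, hx⟩ := exists_ne (0 : κ ⊗[A] (𝒜 m ⧸ T))
        refine ⟨1 ⊗ₜ x, 0, fun h0 => hx ?_⟩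
        have hinj := Module.FaithfullyFlat.tensorProduct_mk_injective (A := κ) (B := k) (κ ⊗[A] (𝒜 m ⧸ T))
        apply hinj
        rw [map_zero]
        exact h0
      have e := TensorProduct.AlgebraTensorModule.cancelBaseChange A κ k k (𝒜 m ⧸ T)
      exact not_subsingleton _ (e.toEquiv.subsingleton)
    rw [Submodule.Quotient.subsingleton_iff] at hsub
    intro x hx
    have h1 : (⟨x, hx⟩ : 𝒜 m) ∈ T := hsub ▸ Submodule.mem_top
    exact hpowE m h1
  rw [eq_top_iff]
  intro x _
  rw [← DirectSum.sum_support_decompose 𝒜 x]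
  exact E.sum_mem fun i _ => key i (SetLike.coe_mem _)

end Groth.Agent.S13623
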