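import Groth.Statements.S13625
import Groth.Agent.Lim.K342.GeomFibLoci
import Groth.Agent.Ega3B.LimInv4
import Groth.Agent.Fga.UnitRestrict

set_option autoImplicit false
universe u
open CategoryTheory CategoryTheory.Limits AlgebraicGeometry Opposite
open Lim

namespace Groth.Agent.S13625

/-- Let R be a commutative ring and f : X → Spec R a proper, flat morphism of schemes, locally of finite
presentation, whose geometric fibres (fibres over Spec k → Spec R, k an algebraically closed field)
are integral, normal schemes of Krull dimension 2 with Gorenstein local rings. Then f is the base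
change, along Spec R → Spec R₀ for some ring map R₀ → R with R₀ Noetherian, of a proper, flat
morphism f₀ : X₀ → Spec R₀ locally of finite presentation whose geometric fibres are again integral,
normal, of Krull dimension 2 and with Gorenstein local rings. (Algebraically closed fields are taken
in the universe of R.) -/
theorem result
    (R : Type u) [CommRing R] (X : Scheme.{u}) (f : X ⟶ Spec (CommRingCat.of R))
    [IsProper f] [Flat f] [LocallyOfFinitePresentation f]
    (hfib : (∀ (k : Type u) [Field k] [IsAlgClosed k] (σ : Spec (CommRingCat.of k) ⟶ Spec (CommRingCat.of R)),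
      IsIntegral (pullback f σ) ∧ Pi1.IsNormalScheme (pullback f σ) ∧
        topologicalKrullDim ↥(pullback f σ) = 2 ∧
        ∀ x : ↥(pullback f σ), LocCoh.IsGorensteinLocalRing ((pullback f σ).presheaf.stalk x))) :
    ∃ (R₀ : CommRingCat.{u}) (φ : R₀ ⟶ CommRingCat.of R) (X₀ : Scheme.{u}) (f₀ : X₀ ⟶ Spec R₀) (g : X ⟶ X₀),
      IsNoetherianRing ↥R₀ ∧ IsPullback g f f₀ (Spec.map φ) ∧
      IsProper f₀ ∧ Flat f₀ ∧ LocallyOfFinitePresentation f₀ ∧
      (∀ (k : Type u) [Field k] [IsAlgClosed k] (σ : Spec (CommRingCat.of k) ⟶ Spec R₀),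
      IsIntegral (pullback f₀ σ) ∧ Pi1.IsNormalScheme (pullback f₀ σ) ∧
        topologicalKrullDim ↥(pullback f₀ σ) = 2 ∧
        ∀ x : ↥(pullback f₀ σ), LocCoh.IsGorensteinLocalRing ((pullback f₀ σ).presheaf.stalk x)) := by
  have hL : PicF.IsInvertible (Coh.structureModule X) := fun _ =>
    ⟨⊤, trivial, ⟨(Scheme.Modules.restrictFunctorIsoPullback (⊤ : X.Opens).ι).app _ ≪≫
      Groth.Agent.Fga.UnitRestrict.pullbackUnitIso (⊤ : X.Opens).ι⟩⟩
  obtain ⟨S, hS, X₀, f₀, p, -, hpb, hp, hfl, hfp, -, -⟩ :=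
    Groth.Agent.Ega3B.LimInv.exists_proper_flat_model_Spec R f hL
  let D := Groth.Agent.Flat2D.SpecFGLimit.specDiagram R
  let c := Groth.Agent.Flat2D.SpecFGLimit.specCone R
  let i₀ : (Groth.Agent.Flat2D.SpecFGLimit.FGSub R)ᵒᵖ := op ⟨S, hS⟩
  let f₁ : X₀ ⟶ D.obj i₀ := f₀
  let f' : X ⟶ c.pt := f
  have hpb' : IsPullback p f' f₁ (c.π.app i₀) := hpb
  have hp' : IsProper f₁ := hp
  have hfl' : Flat f₁ := hfl
  have hfp' : LocallyOfFinitePresentation f₁ := hfp
  have hN : ∀ i, AlgebraicGeometry.IsNoetherian (D.obj i) := fun i => inferInstance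
  have hA : ∀ i j (a : i ⟶ j), IsAffineHom (D.map a) := fun i j a => inferInstance
  obtain ⟨i, a, H⟩ := K342.GeomFibLoci.exists_good 2 D c
    (Groth.Agent.Flat2D.SpecFGLimit.isLimitSpecCone R) i₀ f₁ f' p hpb'
    (fun Ω _ _ t => hfib Ω t)
  refine ⟨CommRingCat.of i.unop.1, CommRingCat.ofHom i.unop.1.val.toRingHom,
    pullback f₁ (D.map a), pullback.snd f₁ (D.map a),
    pullback.lift p (f' ≫ c.π.app i) ?_, ?_, ?_, ?_, ?_, ?_, ?_⟩
  · rw [Category.assoc, c.w]
    exact hpb'.w
  · change IsNoetherianRing i.unop.1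
    infer_instance
  · refine IsPullback.of_right (h₁₂ := pullback.fst _ _) (h₂₂ := D.map a) (v₁₃ := f₁) ?_
      (pullback.lift_snd _ _ _) (IsPullback.of_hasPullback f₁ (D.map a))
    rw [pullback.lift_fst]
    have h1 : c.π.app i ≫ D.map a = c.π.app i₀ := c.w a
    have h2 : IsPullback p f' f₁ (c.π.app i ≫ D.map a) := by
      rw [h1]
      exact hpb'
    exact h2
  · exact MorphismProperty.pullback_snd (P := @IsProper) _ _ hp'
  · exact MorphismProperty.pullback_snd (P := @Flat) _ _ hfl'
  · exact MorphismProperty.pullback_snd (P := @LocallyOfFinitePresentation) _ _ hfp'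
  · intro k _ _ σ
    exact H k σ _ _ ((IsPullback.of_hasPullback (pullback.snd f₁ (D.map a)) σ).paste_horiz
      (IsPullback.of_hasPullback f₁ (D.map a)))

end Groth.Agent.S13625
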