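import Groth.Statements.S13626
import Groth.Agent.Coh.K415.LerayGen
import Groth.Agent.Fga.UnitRestrict
import Groth.Agent.PerfC.PullRestrict
import Groth.Agent.CohqA.RpushLoc
import Groth.Agent.PerfA.Restrict
import Groth.Agent.PerfA.AffVan
import Groth.Agent.CohqB.HLin

set_option autoImplicit false
universe u
open CategoryTheory CategoryTheory.Limits AlgebraicGeometry
open Coh

namespace Groth.Agent.S13626

open AlgebraicGeometry.Scheme.Modules

theorem one_smul_push {X Y : Scheme.{u}} (f : X ⟶ Y) (φ : structureModule Y ⟶ (push f).obj (structureModule X))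
    (U : Y.Opens) (a : Γ(Y, U)) :
    (show Γ(X, f ⁻¹ᵁ U) from φ.app U a) = f.app U a * (show Γ(X, f ⁻¹ᵁ U) from φ.app U (1 : Γ(Y, U))) := by
  have h : φ.app U (a • (show Γ(structureModule Y, U) from (1 : Γ(Y, U)))) = a • φ.app U (1 : Γ(Y, U)) :=
    φ.app_smul a (show Γ(structureModule Y, U) from (1 : Γ(Y, U)))
  have h1 : (a • (show Γ(structureModule Y, U) from (1 : Γ(Y, U)))) = (show Γ(structureModule Y, U) from a) :=
    mul_one a
  rw [h1] at h
  exact h

/-- If `f_* O_X ≅ O_Y` then the comorphism is bijective. -/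
theorem bijective_app {X Y : Scheme.{u}} (f : X ⟶ Y)
    (e : (push f).obj (structureModule X) ≅ structureModule Y) (U : Y.Opens) :
    Function.Bijective (f.app U) := by
  let φ : Γ(Y, U) → Γ(X, f ⁻¹ᵁ U) := e.inv.app U
  have hφ : Function.Bijective φ := ConcreteCategory.bijective_of_isIso (e.inv.app U)
  have key : ∀ a : Γ(Y, U), φ a = f.app U a * φ 1 := one_smul_push f e.inv U
  obtain ⟨a, ha⟩ := hφ.2 1
  obtain ⟨b, hb⟩ := hφ.2 (φ 1 * φ 1)
  have h1 : f.app U a * φ 1 = 1 := (key a).symm.trans ha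
  have h2 : φ 1 = f.app U b := by
    calc φ 1 = (f.app U a * φ 1) * φ 1 := by rw [h1, one_mul]
      _ = f.app U a * (φ 1 * φ 1) := by ring
      _ = f.app U a * (f.app U b * φ 1) := by rw [← hb, key b]
      _ = f.app U b * (f.app U a * φ 1) := by ring
      _ = f.app U b := by rw [h1, mul_one]
  have h3 : a * b = 1 := by
    apply hφ.1
    have : f.app U (a * b) = f.app U a * f.app U b := map_mul _ _ _
    rw [key, this, ← h2, h1, one_mul]
  constructor
  · intro c d hcd
    apply hφ.1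
    rw [key c, key d, hcd]
  · intro x
    obtain ⟨c, hc⟩ := hφ.2 x
    refine ⟨c * b, ?_⟩
    have : f.app U (c * b) = f.app U c * f.app U b := map_mul _ _ _
    rw [this, ← h2, ← key c, hc]

/-- `(f^* L)|_{f⁻¹ V} ≅ O` if `L|_V ≅ O`. -/
noncomputable def pullRestrictIso {X Y : Scheme.{u}} (f : X ⟶ Y) (L : Y.Modules) (V : Y.Opens)
    (e : L.restrict V.ι ≅ structureModule V) :
    ((Scheme.Modules.pullback f).obj L).restrict (f ⁻¹ᵁ V).ι ≅ structureModule (f ⁻¹ᵁ V) :=
  ((Groth.Agent.PerfC.PullRestrict.pullbackSquare (morphismRestrict_ι f V).symm).symm.app L) ≪≫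
    (Scheme.Modules.pullback (f ∣_ V)).mapIso e ≪≫
    Groth.Agent.Fga.UnitRestrict.pullbackUnitIso (f ∣_ V)

theorem isZero_rpush {X Y : Scheme.{u}} (f : X ⟶ Y) [HasInjectiveResolutions X.Modules] (n : ℕ)
    (hR : IsZero ((Coh.Rpush f n).obj (Coh.structureModule X))) (L : Y.Modules)
    (hL : PicF.IsInvertible L) :
    IsZero ((Coh.Rpush f n).obj ((Scheme.Modules.pullback f).obj L)) := by
  refine Groth.Agent.PerfA.Restrict.isZero_of_restrict_opens _ fun y ↦ ?_
  obtain ⟨V, hy, ⟨e⟩⟩ := hL y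
  have := Groth.Agent.PerfA.AffVan.enoughInjectives (X := (f ⁻¹ᵁ V).toScheme)
  refine ⟨V, hy, ?_⟩
  have e1 := Groth.Agent.CohqA.RpushLoc.rpushResOpen f V n ((Scheme.Modules.pullback f).obj L)
  have e2 := Groth.Agent.CohqA.RpushLoc.rpushResOpen f V n (structureModule X)
  have e3 : ((Scheme.Modules.pullback f).obj L).restrict (f ⁻¹ᵁ V).ι ≅
      (structureModule X).restrict (f ⁻¹ᵁ V).ι :=
    pullRestrictIso f L V e ≪≫ (Scheme.Modules.restrictUnitIso (f ⁻¹ᵁ V).ι).symm
  refine IsZero.of_iso ?_ (e1 ≪≫ (Coh.Rpush (f ∣_ V) n).mapIso e3 ≪≫ e2.symm)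
  exact (restrictFunctor V.ι).map_isZero hR

theorem isIso_unit {X Y : Scheme.{u}} (f : X ⟶ Y) (hf : ∀ U : Y.Opens, Function.Bijective (f.app U))
    (L : Y.Modules) (hL : PicF.IsInvertible L) :
    IsIso ((pullbackPushforwardAdjunction f).unit.app L) := by
  refine Groth.Agent.Fga.UnitRestrict.isIso_of_locally _ fun y ↦ ?_
  obtain ⟨V, hy, ⟨e⟩⟩ := hL y
  refine ⟨V, hy, Groth.Agent.Fga.UnitRestrict.isIso_restrict_unit f V L ?_⟩
  have h := Groth.Agent.Fga.UnitRestrict.isIso_unit_structureModule (f ∣_ V)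
    (Groth.Agent.Fga.UnitRestrict.bijective_morphismRestrict_app f hf V)
  exact (NatTrans.isIso_app_iff_of_iso _ e).2 h

theorem generic {X Y : Scheme.{u}} (f : X ⟶ Y) [HasInjectiveResolutions X.Modules] (A : Type u)
    [CommRing A] [X.Over (Spec (CommRingCat.of A))] [Y.Over (Spec (CommRingCat.of A))]
    (hc : f ≫ (Y ↘ Spec (CommRingCat.of A)) = X ↘ Spec (CommRingCat.of A))
    (hR : ∀ i : ℕ, IsZero ((Coh.Rpush f (i + 1)).obj (Coh.structureModule X)))
    (h0 : Nonempty ((Coh.push f).obj (Coh.structureModule X) ≅ Coh.structureModule Y))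
    (L : Y.Modules) (hL : PicF.IsInvertible L) (p : ℕ) :
    Nonempty (Coh.HH X ((Scheme.Modules.pullback f).obj L) p ≃+ Coh.HH Y L p) := by
  obtain ⟨e⟩ := h0
  have hf := bijective_app f e
  have hu := isIso_unit f hf L hL
  have hA : Groth.Agent.Cohder.RDAcyc.IsAcyc (Scheme.Modules.pushforward f)
      ((Scheme.Modules.pullback f).obj L) := by
    intro i hi
    obtain ⟨j, rfl⟩ : ∃ j, i = j + 1 := ⟨i - 1, by omega⟩
    exact isZero_rpush f (j + 1) (hR j) L hL
  obtain ⟨e1⟩ := K415.LerayGen.exists_equiv_of_isAcyc f A hc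
    ((Scheme.Modules.pullback f).obj L) hA p
  have e2 := Groth.Agent.CohqB.HLin.HHequivA A
    (asIso ((pullbackPushforwardAdjunction f).unit.app L)) p
  exact ⟨(e2.trans e1).symm.toAddEquiv⟩

/-- Let f : X → Y be a morphism of schemes with R^i f_* O_X = 0 for every i ≥ 1 and f_* O_X ≅ O_Y. Then
for every invertible O_Y-module L and every p ≥ 0 the groups H^p(X, f^* L) and H^p(Y, L) are
isomorphic (existence of a group isomorphism; the higher direct images are the right derived
functors of f_* on O_X-modules, under the instance argument recording that O_X-modules have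
injective resolutions). -/
theorem result
    {X Y : Scheme.{u}} (f : X ⟶ Y) [HasInjectiveResolutions X.Modules]
    (hR : ∀ i : ℕ, IsZero ((Coh.Rpush f (i + 1)).obj (Coh.structureModule X)))
    (h0 : Nonempty ((Coh.push f).obj (Coh.structureModule X) ≅ Coh.structureModule Y))
    (L : Y.Modules) (hL : PicF.IsInvertible L) (p : ℕ) :
    Nonempty (Coh.HH X ((Scheme.Modules.pullback f).obj L) p ≃+ Coh.HH Y L p) := by
  let _ : X.Over (Spec (CommRingCat.of (ULift.{u} ℤ))) := ⟨specULiftZIsTerminal.from X⟩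
  let _ : Y.Over (Spec (CommRingCat.of (ULift.{u} ℤ))) := ⟨specULiftZIsTerminal.from Y⟩
  exact generic f (ULift.{u} ℤ) (specULiftZIsTerminal.hom_ext _ _) hR h0 L hL p

end Groth.Agent.S13626
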