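import Groth.Statements.S13629
import Groth.Agent.Ega3B.ChiFib
import Groth.Agent.Ega3B.PullTensor
import Groth.Agent.Fga.EulerLEAdd
import Groth.Agent.S2122

set_option autoImplicit false
universe u
open CategoryTheory CategoryTheory.Limits AlgebraicGeometry Opposite
open FGA

namespace Groth.Agent.S13629

theorem nonempty_pull_tensorList {X Z : Scheme.{u}} (g : Z ⟶ X) (l : List X.Modules)
    (hl : ∀ M ∈ l, PicF.IsInvertible M) :
    Nonempty ((Scheme.Modules.pullback g).obj (FGA.tensorList l) ≅
      FGA.tensorList (l.map (Scheme.Modules.pullback g).obj)) := by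
  induction l with
  | nil => exact Ega3B.PullTensor.nonempty_pullUnitIso g
  | cons M l ih =>
    obtain ⟨e⟩ := ih fun N hN => hl N (by simp [hN])
    exact ⟨Ega3B.PullTensor.pullTensorIso g (hl M (by simp))
      (Fga.SnapperTwist.isInvertible_tensorList l fun N hN => hl N (by simp [hN])) ≪≫
      Ega2.Tens.mapTIso (Iso.refl _) e⟩

/-- Let f : X → Y be a proper, flat morphism of schemes, locally of finite presentation, whose
scheme-theoretic fibres X_y all have Krull dimension at most 2, and let L be an invertible
O_X-module with a tensor inverse M (M ⊗ L ≅ O_X). Then the self-intersection number (L_y · L_y) of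
the restriction of L to the fibre X_y over κ(y), namely the alternating sum χ(O_{X_y}) − 2χ(M_y) +
χ(M_y ⊗ M_y) of Euler characteristics in degrees ≤ 2, is a locally constant function of y: every
point y₀ of Y has an open neighbourhood on which it equals its value at y₀. (The published statement
is the case where the fibres are integral normal Gorenstein surfaces and L is the relative dualizing
sheaf, so that the number is the self-intersection K² of the canonical class of the fibre; the fibre
X_y is regarded as a scheme over Spec κ(y) through the second projection.) -/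
theorem result
    {X Y : Scheme.{u}} (f : X ⟶ Y) [IsProper f] [Flat f] [LocallyOfFinitePresentation f]
    (hdim : ∀ y : Y, topologicalKrullDim ↥(f.fiber y) ≤ 2)
    (L M : X.Modules) (hL : PicF.IsInvertible L) (hM : ClSub.IsInverseOf M L) (y₀ : Y) :
    ∃ U : Y.Opens, y₀ ∈ U ∧ ∀ y : Y, y ∈ U →
      @FGA.intNum ↥(Y.residueField y) _ (f.fiber y) ⟨f.fiberToSpecResidueField y⟩ 2 2
            ![(Scheme.Modules.pullback (f.fiberι y)).obj M, (Scheme.Modules.pullback (f.fiberι y)).obj M]
            (Coh.structureModule (f.fiber y)) =
        @FGA.intNum ↥(Y.residueField y₀) _ (f.fiber y₀) ⟨f.fiberToSpecResidueField y₀⟩ 2 2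
            ![(Scheme.Modules.pullback (f.fiberι y₀)).obj M, (Scheme.Modules.pullback (f.fiberι y₀)).obj M]
            (Coh.structureModule (f.fiber y₀)) := by
  have hMi : PicF.IsInvertible M := S2122.result M L hM.some
  -- the module on `X` attached to a set of indices
  let G : Finset (Fin 2) → X.Modules := fun I => FGA.tensorList ((I.sort (· ≤ ·)).map (fun _ => M))
  have hG : ∀ I, PicF.IsInvertible (G I) := fun I =>
    Fga.SnapperTwist.isInvertible_tensorList _ fun N hN => by
      simp only [List.mem_map] at hN
      obtain ⟨i, -, rfl⟩ := hN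
      exact hMi
  have hterm : ∀ (y : Y) (I : Finset (Fin 2)),
      @FGA.eulerCharLE ↥(Y.residueField y) _ (f.fiber y) ⟨f.fiberToSpecResidueField y⟩
        (CohB1.tensorMod (FGA.tensorList ((I.sort (· ≤ ·)).map
          ![(Scheme.Modules.pullback (f.fiberι y)).obj M, (Scheme.Modules.pullback (f.fiberι y)).obj M]))
          (Coh.structureModule (f.fiber y))) 2 = PerfAux.eulerChar f (G I) y := by
    intro y I
    let _ : (f.fiber y).Over (Spec (CommRingCat.of (Y.residueField y))) := ⟨f.fiberToSpecResidueField y⟩
    have hlft : LocallyOfFiniteType (f.fiberToSpecResidueField y) :=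
      inferInstanceAs (LocallyOfFiniteType (pullback.snd f (Y.fromSpecResidueField y)))
    have hqc : QuasiCompact (f.fiberToSpecResidueField y) :=
      inferInstanceAs (QuasiCompact (pullback.snd f (Y.fromSpecResidueField y)))
    have hN : IsNoetherian (f.fiber y) := by
      have h1 : IsLocallyNoetherian (f.fiber y) :=
        LocallyOfFiniteType.isLocallyNoetherian (f.fiberToSpecResidueField y)
      have h2 : CompactSpace (f.fiber y) :=
        QuasiCompact.compactSpace_of_compactSpace (f.fiberToSpecResidueField y)
      exact {}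
    obtain ⟨e⟩ := nonempty_pull_tensorList (f.fiberι y) ((I.sort (· ≤ ·)).map (fun _ => M)) (by
      intro N hN
      simp only [List.mem_map] at hN
      obtain ⟨i, -, rfl⟩ := hN
      exact hMi)
    have hlist : ((I.sort (· ≤ ·)).map (fun _ : Fin 2 => M)).map (Scheme.Modules.pullback (f.fiberι y)).obj =
        (I.sort (· ≤ ·)).map
          ![(Scheme.Modules.pullback (f.fiberι y)).obj M, (Scheme.Modules.pullback (f.fiberι y)).obj M] := by
      rw [List.map_map]
      refine List.map_congr_left fun i _ => ?_
      fin_cases i <;> rfl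
    rw [hlist] at e
    refine (Fga.EulerIso.eulerCharLE_congr (X := f.fiber y) (Y.residueField y)
      (Ega2.Tens.runit _ ≪≫ e.symm) 2).trans ?_
    exact Fga.EulerLEAdd.eulerCharLE_eq_euler (Y.residueField y) (f.fiber y) 2 (hdim y) _
  have hloc : ∀ I : Finset (Fin 2), IsLocallyConstant fun y : Y => PerfAux.eulerChar f (G I) y := fun I =>
    S1026.result f (G I) (Ega3B.ChiFib.isFP_of_isInvertible (hG I))
      (Ega3B.ChiFib.isFlatOver_of_isInvertible f (hG I))
  have hex : ∀ I : Finset (Fin 2), ∃ U : Y.Opens, y₀ ∈ U ∧ ∀ y ∈ U,
      PerfAux.eulerChar f (G I) y = PerfAux.eulerChar f (G I) y₀ := fun I => by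
    obtain ⟨U, hU, hy, h⟩ := (hloc I).exists_open y₀
    exact ⟨⟨U, hU⟩, hy, h⟩
  choose U hU hU' using hex
  refine ⟨⟨⋂ I : Finset (Fin 2), (U I : Set Y), isOpen_iInter_of_finite fun I => (U I).2⟩,
    Set.mem_iInter.2 fun I => hU I, fun y hy => ?_⟩
  unfold FGA.intNum
  refine Finset.sum_congr rfl fun I _ => ?_
  rw [hterm, hterm, hU' I y (Set.mem_iInter.1 hy I)]

end Groth.Agent.S13629
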