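import Groth.Statements.S13630
import Groth.Agent.FBase.K107.DelPezzo
import Groth.Agent.S0086

set_option autoImplicit false
universe u
open CategoryTheory CategoryTheory.Limits AlgebraicGeometry Opposite
open FBase

namespace Groth.Agent.S13630

/-- Say that a morphism of schemes p : S → T is a family of del Pezzo surfaces when p is proper and
smooth (hence of finite presentation) and for every algebraically closed field k and every morphism
Spec k → T the fibre S_k = S ×_T Spec k is an integral scheme of Krull dimension 2 whose
anti-canonical sheaf is ample — there are a second exterior power ω of the sheaf of differentials of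
S_k → Spec k and a tensor inverse D of ω with D ample. This property descends along flat,
surjective, quasi-compact morphisms: if T' → T is such a morphism and the base change S ×_T T' → T'
is a family of del Pezzo surfaces, then so is p. (Stated for a single quasi-compact faithfully flat
base change; together with Zariski-locality on T this is locality for the fpqc topology. Fields are
taken in the universe of the schemes. The published statement is that families of del Pezzo surfaces
form a stack for the étale topology; this row is the locality of the family condition that its proof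
establishes.) -/
theorem result :
    MorphismProperty.DescendsAlong
      (fun ⦃S T : Scheme.{u}⦄ (p : S ⟶ T) =>
        IsProper p ∧ Smooth p ∧
          ∀ (k : Type u) [Field k] [IsAlgClosed k] (σ : Spec (CommRingCat.of k) ⟶ T),
            IsIntegral (pullback p σ) ∧ topologicalKrullDim ↥(pullback p σ) = 2 ∧
              ∃ ω D : (pullback p σ).Modules, Canon.IsTopDiff (pullback.snd p σ) 2 ω ∧
                ClSub.IsInverseOf D ω ∧ CohB1.IsAmple D)
      (@Surjective ⊓ @Flat ⊓ @QuasiCompact : MorphismProperty Scheme.{u}) := by
  have hprop : MorphismProperty.DescendsAlong @IsProper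
      (@Surjective ⊓ @Flat ⊓ @QuasiCompact : MorphismProperty Scheme.{u}) :=
    Groth.Agent.S0086.result
  refine ⟨?_⟩
  intro A X Y Z fst snd f g h hf ⟨h1, h2, h3⟩
  have hp : IsProper g := MorphismProperty.of_isPullback_of_descendsAlong (P := @IsProper) h hf h1
  have hs : Smooth g := MorphismProperty.of_isPullback_of_descendsAlong (P := @Smooth) h hf h2
  refine ⟨hp, hs, ?_⟩
  intro k _ _ σ
  have hfs : Surjective f := hf.1.1
  obtain ⟨K, _, _, i, τ, hτ⟩ := K107.GeomPt.exists_lift f σ
  obtain ⟨ha, hb, ω, D, hω, hD, hA⟩ := h3 K τ
  have hW : IsPullback (pullback.fst fst τ ≫ snd) (pullback.snd fst τ) g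
      (Spec.map (CommRingCat.ofHom i) ≫ σ) := by
    rw [hτ]
    exact (IsPullback.of_hasPullback fst τ).paste_horiz h.flip
  have hw : (pullback.fst fst τ ≫ snd) ≫ g =
      (pullback.snd fst τ ≫ Spec.map (CommRingCat.ofHom i)) ≫ σ := by
    rw [Category.assoc (pullback.snd fst τ), hW.w]
  have H : IsPullback (pullback.lift (pullback.fst fst τ ≫ snd)
      (pullback.snd fst τ ≫ Spec.map (CommRingCat.ofHom i)) hw) (pullback.snd fst τ)
      (pullback.snd g σ) (Spec.map (CommRingCat.ofHom i)) := by
    refine IsPullback.of_right (h₁₂ := pullback.fst g σ) (h₂₂ := σ) (v₁₃ := g) ?_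
      (pullback.lift_snd _ _ _) (IsPullback.of_hasPullback g σ)
    rw [pullback.lift_fst]
    exact hW
  have hpf : IsProper (pullback.snd g σ) := inferInstance
  have hsf : Smooth (pullback.snd g σ) := inferInstance
  obtain ⟨hc, hd⟩ := K107.DelPezzo.fibre i H ha hb
  exact ⟨hc, hd, K107.DelPezzo.core i H 2 hω hD hA⟩

end Groth.Agent.S13630
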