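import Groth.Statements.S13631
import Mathlib.LinearAlgebra.Dimension.Localization
import Mathlib.LinearAlgebra.Dimension.RankNullity
import Mathlib.RingTheory.Finiteness.Finsupp
import Mathlib.LinearAlgebra.FreeModule.StrongRankCondition

set_option autoImplicit false
universe u v w
open CAlg

namespace Groth.Agent.S13631

/-- Let k be a field, R an integral domain which is a k-algebra of infinite dimension over k, M a finite
free R-module, σ a ring automorphism of R mapping the image of k onto itself, and φ : M → M a
σ-semilinear map. If the cokernel of φ is finite-dimensional over k, in the sense that some finitely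
generated k-subspace N of M satisfies M = N + φ(M), then φ is injective. -/
theorem result
    {k : Type u} {R : Type v} {M : Type w} [Field k] [CommRing R] [IsDomain R] [Algebra k R]
    (hR : ¬ Module.Finite k R)
    [AddCommGroup M] [Module R M] [Module k M] [IsScalarTower k R M]
    [Module.Finite R M] [Module.Free R M]
    (σ : R ≃+* R)
    (hσ : ∀ x : k, ∃ y : k, σ (algebraMap k R x) = algebraMap k R y)
    (hσ' : ∀ y : k, ∃ x : k, σ (algebraMap k R x) = algebraMap k R y)
    (φ : M →ₛₗ[(σ : R →+* R)] M)
    (hcoker : ∃ N : Submodule k M, N.FG ∧ ∀ m : M, ∃ n ∈ N, ∃ m' : M, m = n + φ m') :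
    Function.Injective φ := by
  classical
  have hsurj : RingHomSurjective (σ : R →+* R) := ⟨σ.surjective⟩
  let P : Submodule R M := LinearMap.range φ
  by_contra hinj
  have hker : LinearMap.ker φ ≠ ⊥ := fun h => hinj (LinearMap.ker_eq_bot.1 h)
  -- the quotient by the kernel is semilinearly isomorphic to the range
  have hφk : ∀ x ∈ LinearMap.ker φ, φ x = 0 := fun x hx => hx
  have hrk : Module.rank R (M ⧸ LinearMap.ker φ) = Module.rank R P := by
    let f : (M ⧸ LinearMap.ker φ) →ₛₗ[(σ : R →+* R)] M := (LinearMap.ker φ).liftQ φ le_rfl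
    have hfinj : Function.Injective f := by
      rw [← LinearMap.ker_eq_bot]
      exact Submodule.ker_liftQ_eq_bot _ _ _ le_rfl
    have hmem : ∀ x, f x ∈ P := by
      intro x
      obtain ⟨y, rfl⟩ := Submodule.Quotient.mk_surjective _ x
      exact ⟨y, rfl⟩
    let g : (M ⧸ LinearMap.ker φ) →+ P :=
      { toFun := fun x => ⟨f x, hmem x⟩
        map_zero' := Subtype.ext (map_zero f)
        map_add' := fun x y => Subtype.ext (map_add f x y) }
    have hg : Function.Bijective g := by
      constructor
      · intro x y hxy
        exact hfinj (congrArg Subtype.val hxy)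
      · rintro ⟨_, ⟨y, rfl⟩⟩
        exact ⟨Submodule.Quotient.mk y, rfl⟩
    refine rank_eq_of_equiv_equiv σ (AddEquiv.ofBijective g hg) σ.bijective ?_
    intro r m
    exact Subtype.ext (LinearMap.map_smulₛₗ f r m)
  have h1 := Submodule.rank_quotient_add_rank (LinearMap.ker φ)
  have h2 := Submodule.rank_quotient_add_rank P
  have hfin : Module.rank R M < Cardinal.aleph0 := Module.rank_lt_aleph0 R M
  have hkerpos : Module.rank R (LinearMap.ker φ) ≠ 0 := by
    rw [Ne, rank_eq_zero_iff]
    intro h
    apply hker
    rw [Submodule.eq_bot_iff]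
    intro x hx
    obtain ⟨a, ha, hax⟩ := h ⟨x, hx⟩
    have := congrArg Subtype.val hax
    exact (smul_eq_zero.1 this).resolve_left ha
  have hquot : Module.rank R (M ⧸ P) ≠ 0 := by
    intro h0
    rw [h0, zero_add] at h2
    rw [hrk, h2] at h1
    have h3 : Module.rank R M + Module.rank R (LinearMap.ker φ) = Module.rank R M + 0 := by
      rw [h1, add_zero]
    exact hkerpos (Cardinal.eq_of_add_eq_add_left h3 hfin)
  rw [Ne, rank_eq_zero_iff] at hquot
  push Not at hquot
  obtain ⟨x, hx⟩ := hquot
  -- the quotient is finite over `k`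
  have hfinQ : Module.Finite k (M ⧸ P) := by
    obtain ⟨N, hN, hNM⟩ := hcoker
    have : Module.Finite k N := Module.Finite.iff_fg.2 hN
    refine Module.Finite.of_surjective ((P.mkQ.restrictScalars k).comp N.subtype) ?_
    intro q
    obtain ⟨m, rfl⟩ := P.mkQ_surjective q
    obtain ⟨n, hn, m', rfl⟩ := hNM m
    refine ⟨⟨n, hn⟩, ?_⟩
    change P.mkQ n = P.mkQ (n + φ m')
    rw [map_add]
    have : P.mkQ (φ m') = 0 := (Submodule.Quotient.mk_eq_zero P).2 ⟨m', rfl⟩
    rw [this, add_zero]
  apply hR
  have hinj2 : Function.Injective ((LinearMap.toSpanSingleton R (M ⧸ P) x).restrictScalars k) := by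
    rw [← LinearMap.ker_eq_bot, Submodule.eq_bot_iff]
    intro a ha
    by_contra ha0
    exact hx a ha0 ha
  exact Module.Finite.of_injective _ hinj2

end Groth.Agent.S13631
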