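import Groth.Statements.S13633
import Groth.Agent.GrpSch.K268.FinSub
import Groth.Agent.Sga3B.KerGrp
import Groth.Agent.S3036
import Groth.Agent.Sga3.H830.CommAux
import Groth.Agent.Localalg.CartierSch
import Groth.Agent.Flat2B.SmoothGeom

set_option autoImplicit false
universe u
open CategoryTheory CategoryTheory.Limits MonoidalCategory CartesianMonoidalCategory MonObj AlgebraicGeometry
open GrpSch

namespace Groth.Agent.S13633

open Groth.Agent.Books.AffBridge Groth.Agent.Books.AffBridge2 Groth.Agent.Sga3B.KerGrp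
  Groth.Agent.GrpSch.K268.FinSub

/-- A Hopf algebra of finite type with only one geometric point is finite. -/
theorem finite_of_subsingleton {k : Type u} [Field k] (K : Type u) [Field K] [Algebra k K]
    [IsAlgClosed K] (C : Type u) [CommRing C] [HopfAlgebra k C] [Algebra.FiniteType k C]
    (h : ∀ φ ψ : C →ₐ[k] K, φ = ψ) : Module.Finite k C := by
  have h1 : RingHom.ker (Bialgebra.counitAlgHom k C) ≤ nilradical C := by
    refine le_nilradical_of_points (k := k) K _ fun φ x hx => ?_
    rw [h φ ((Algebra.ofId k K).comp (Bialgebra.counitAlgHom k C)), AlgHom.comp_apply]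
    rw [RingHom.mem_ker.1 hx, map_zero]
  have hint : Algebra.IsIntegral k C := by
    refine ⟨fun x => ?_⟩
    have h2 : x - algebraMap k C (Bialgebra.counitAlgHom k C x) ∈
        RingHom.ker (Bialgebra.counitAlgHom k C) := by
      rw [RingHom.mem_ker, map_sub, AlgHom.commutes]
      simp
    obtain ⟨n, hn⟩ := h1 h2
    have h3 : IsIntegral k (x - algebraMap k C (Bialgebra.counitAlgHom k C x)) := by
      refine IsIntegral.of_pow (n := n + 1) (Nat.succ_pos n) ?_
      rw [pow_succ, hn, zero_mul]
      exact isIntegral_zero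
    have h4 := h3.add (isIntegral_algebraMap (R := k) (A := C)
      (x := Bialgebra.counitAlgHom k C x))
    rwa [sub_add_cancel] at h4
  exact Algebra.IsIntegral.finite

/-- Let k be a field, K an algebraic closure of k, and ψ : G → H a homomorphism of commutative affine
group schemes of finite type over k. Assume that for every finite commutative group scheme I over k
the map Hom(I, G) → Hom(I, H), f ↦ f ≫ ψ, on group-scheme homomorphisms is bijective, and that ψ
induces a bijection G(K) → H(K) on K-valued points. Then ψ is an isomorphism. (All group schemes are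
commutative by the standing convention.) -/
theorem result
    {k : Type u} [Field k] (K : Type u) [Field K] [Algebra k K] [IsAlgClosure k K]
    (G H : Over (Spec (CommRingCat.of k)))
    [GrpObj G] [IsCommMonObj G] [GrpObj H] [IsCommMonObj H]
    [IsAffine G.left] [IsAffine H.left] [LocallyOfFiniteType G.hom] [LocallyOfFiniteType H.hom]
    (ψ : G ⟶ H) [IsMonHom ψ]
    (hinj : ∀ (I : Over (Spec (CommRingCat.of k))) [GrpObj I] [IsCommMonObj I] [IsFinite I.hom]
      (f g : I ⟶ G) [IsMonHom f] [IsMonHom g], f ≫ ψ = g ≫ ψ → f = g)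
    (hsurj : ∀ (I : Over (Spec (CommRingCat.of k))) [GrpObj I] [IsCommMonObj I] [IsFinite I.hom]
      (h : I ⟶ H) [IsMonHom h], ∃ f : I ⟶ G, IsMonHom f ∧ f ≫ ψ = h)
    (hpts : Function.Bijective fun x : Over.mk (Spec.map (CommRingCat.ofHom (algebraMap k K))) ⟶ G => x ≫ ψ) :
    IsIso ψ := by
  have hK : IsAlgClosed K := IsAlgClosure.isAlgClosed k
  have hHsep : IsSeparated H.hom := by
    have : IsAffineHom H.hom := by infer_instance
    infer_instance
  have hGa : IsAffineHom G.hom := by infer_instance
  -- the kernel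
  obtain ⟨hN, hNι⟩ := exists_grpObj ψ
  have hNa : IsAffine (kerObj ψ).left := isAffine_of_isAffineHom (kerι ψ).left
  have hNc : IsCommMonObj (kerObj ψ) :=
    Sga3.H830.CommAux.isCommMonObj_of_mono (kerι ψ)
  obtain ⟨C, _, _, eN, heN⟩ := exists_hopf k (kerObj ψ)
  have hNft : LocallyOfFiniteType (kerObj ψ).hom := by
    rw [← Over.w (kerι ψ)]
    infer_instance
  have hCft : Algebra.FiniteType k C := by
    rw [← locallyOfFiniteType_specOver_iff]
    rw [← Over.w eN.inv]
    infer_instance
  have hCpt : ∀ φ φ' : C →ₐ[k] K, φ = φ' := by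
    intro φ φ'
    apply specMap_injective k
    have key : ∀ χ : C →ₐ[k] K, (specMap k χ ≫ eN.inv ≫ kerι ψ) ≫ ψ = 1 := by
      intro χ
      rw [Category.assoc, Category.assoc, kerι_comp, MonObj.comp_one, MonObj.comp_one]
    have h1 : specMap k φ ≫ eN.inv ≫ kerι ψ = specMap k φ' ≫ eN.inv ≫ kerι ψ :=
      hpts.1 ((key φ).trans (key φ').symm)
    rw [← cancel_mono (eN.inv ≫ kerι ψ)]
    exact h1
  have hCfin : Module.Finite k C := finite_of_subsingleton K C hCpt
  have hNfin : IsFinite (kerObj ψ).hom := by
    have h1 : IsFinite (SpecOver k C).hom := by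
      change IsFinite (Spec.map (CommRingCat.ofHom (algebraMap k C)))
      rw [IsFinite.SpecMap_iff]
      exact RingHom.finite_algebraMap.2 hCfin
    rw [← Over.w eN.hom]
    infer_instance
  have hker : kerι ψ = 1 := by
    have : IsMonHom (1 : kerObj ψ ⟶ G) :=
      inferInstanceAs (IsMonHom (toUnit (kerObj ψ) ≫ η[G]))
    refine hinj (kerObj ψ) (kerι ψ) 1 ?_
    rw [kerι_comp, MonObj.one_comp]
  have hmono : Mono ψ := by
    refine ⟨fun {T} a b hab => ?_⟩
    have h1 : (a * b⁻¹) ≫ ψ = 1 := by
      rw [MonObj.mul_comp, GrpObj.inv_comp, hab, mul_inv_cancel]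
    obtain ⟨t, ht⟩ := exists_lift ψ _ h1
    rw [hker, MonObj.comp_one] at ht
    exact (mul_inv_eq_one.1 ht.symm)
  have hcl : IsClosedImmersion ψ.left := S3036.result k G H ψ
  -- coordinate rings
  obtain ⟨A, _, _, e, he⟩ := exists_hopf k H
  have hAft : Algebra.FiniteType k A := by
    rw [← locallyOfFiniteType_specOver_iff]
    rw [← Over.w e.inv]
    infer_instance
  have : IsClosedImmersion (ψ ≫ e.hom).left := by
    rw [Over.comp_left]; infer_instance
  obtain ⟨J, hJ, e', he', hcomm⟩ := exists_hopfIdeal k (ψ ≫ e.hom)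
  have hJ0 : J = ⊥ := by
    refine eq_bot_of_finite_of_points (k := k) K ?_ J ?_ ?_
    · intro h0
      have hlft := (locallyOfFiniteType_specOver_iff k A).2 hAft
      have hgrp : GrpObj (Over.mk (SpecOver k A).hom) := by
        exact (inferInstance : GrpObj (SpecOver k A))
      have hsm : Smooth (SpecOver k A).hom :=
        Localalg.CartierSch.smooth_of_grpObj_of_charZero (SpecOver k A).hom
      have hred : AlgebraicGeometry.IsReduced (SpecOver k A).left :=
        Flat2B.SmoothGeom.isReduced_of_smooth (SpecOver k A).hom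
      exact (affine_isReduced_iff (CommRingCat.of A)).1 hred
    · intro φ x hx
      obtain ⟨y, hy⟩ : ∃ y : SpecOver k K ⟶ G, y ≫ ψ = specMap k φ ≫ e.inv :=
        hpts.2 (specMap k φ ≫ e.inv)
      have h1 : specMap k ((specPreimage k (y ≫ e'.hom)).comp (Ideal.Quotient.mkₐ k J)) =
          specMap k φ := by
        rw [specMap_comp, specMap_specPreimage, Category.assoc, hcomm, ← Category.assoc, hy,
          Category.assoc, Iso.inv_hom_id, Category.comp_id]
      have h2 := congr($(specMap_injective k h1) x)
      rw [← h2, AlgHom.comp_apply, Ideal.Quotient.mkₐ_eq_mk, Ideal.Quotient.eq_zero_iff_mem.2 hx,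
        map_zero]
    · intro I hI hIfin x hx
      have hm : IsMonHom (specMap k (Ideal.Quotient.mkₐ k I)) :=
        isMonHom_specMap k (Bialgebra.Quotient.mkBialgHom I)
      have hcl : IsClosedImmersion (specMap k (Ideal.Quotient.mkₐ k I)).left :=
        (isClosedImmersion_specMap_iff k _).2 (Ideal.Quotient.mkₐ_surjective k I)
      have hmo : Mono (specMap k (Ideal.Quotient.mkₐ k I)) := by
        have : Mono ((Over.forget _).map (specMap k (Ideal.Quotient.mkₐ k I))) :=
          inferInstanceAs (Mono (specMap k (Ideal.Quotient.mkₐ k I)).left)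
        exact (Over.forget _).mono_of_mono_map this
      have hcm : IsCommMonObj (SpecOver k (A ⧸ I)) :=
        Sga3.H830.CommAux.isCommMonObj_of_mono (specMap k (Ideal.Quotient.mkₐ k I) ≫ e.inv)
      have hfi : IsFinite (SpecOver k (A ⧸ I)).hom := by
        change IsFinite (Spec.map (CommRingCat.ofHom (algebraMap k (A ⧸ I))))
        rw [IsFinite.SpecMap_iff]
        exact RingHom.finite_algebraMap.2 hIfin
      obtain ⟨f, hf, hfψ⟩ := hsurj (SpecOver k (A ⧸ I)) (specMap k (Ideal.Quotient.mkₐ k I) ≫ e.inv)
      have h1 : specMap k ((specPreimage k (f ≫ e'.hom)).comp (Ideal.Quotient.mkₐ k J)) =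
          specMap k (Ideal.Quotient.mkₐ k I) := by
        rw [specMap_comp, specMap_specPreimage, Category.assoc, hcomm, ← Category.assoc, hfψ,
          Category.assoc, Iso.inv_hom_id, Category.comp_id]
      have h2 := congr($(specMap_injective k h1) x)
      rw [AlgHom.comp_apply, Ideal.Quotient.mkₐ_eq_mk, Ideal.Quotient.eq_zero_iff_mem.2 hx,
        map_zero, Ideal.Quotient.mkₐ_eq_mk] at h2
      exact Ideal.Quotient.eq_zero_iff_mem.1 h2.symm
  subst hJ0
  have hq : IsIso (specMap k (Ideal.Quotient.mkₐ k (⊥ : Ideal A))) := by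
    refine ⟨specMap k (Ideal.Quotient.liftₐ (⊥ : Ideal A) (AlgHom.id k A) (fun a ha => ha)), ?_, ?_⟩
    · rw [← specMap_comp, ← specMap_id]
      congr 1
      refine AlgHom.ext fun x => ?_
      obtain ⟨x, rfl⟩ := Ideal.Quotient.mk_surjective x
      rfl
    · rw [← specMap_comp, ← specMap_id]
      congr 1
  have hfin : IsIso (ψ ≫ e.hom) := by
    rw [← hcomm]; infer_instance
  exact IsIso.of_isIso_comp_right ψ e.hom

end Groth.Agent.S13633
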