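import Groth.Statements.S13635
import Groth.Agent.MultSch.K787.Tuple

set_option autoImplicit false
universe u w
open CategoryTheory CategoryTheory.Limits MonoidalCategory CartesianMonoidalCategory MonObj AlgebraicGeometry
open MultSch

namespace Groth.Agent.S13635

/-- Let M₁ → M₂ → M₃ → 0 be a sequence of R-module schemes over a scheme S, with R-linear homomorphisms
j : M₁ → M₂ and π : M₂ → M₃, exact as a sequence of fppf sheaves. For n ≥ 1 and an R-module scheme
N, the sequence 0 → Alt(M₃^n, N) → Alt(M₂^n, N) → Alt(M₁ × M₂^(n-1), N) of R-multilinear alternating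
morphisms is exact: an R-multilinear alternating φ : M₂^n → N which is trivial on all points with
first coordinate in the image of j is of the form φ' ∘ π^n for a unique morphism φ' : M₃^n → N
(unique among all morphisms), and this φ' is R-multilinear and alternating. -/
theorem result
    {S : Scheme.{u}} {R : Type w} [CommRing R] {M₁ M₂ M₃ N : Over S}
    [GrpObj M₁] [IsCommMonObj M₁] [GrpObj M₂] [IsCommMonObj M₂] [GrpObj M₃] [IsCommMonObj M₃]
    [GrpObj N] [IsCommMonObj N]
    (ρ₁ : MultSch.RMod R M₁) (ρ₂ : MultSch.RMod R M₂) (ρ₃ : MultSch.RMod R M₃) (ρN : MultSch.RMod R N)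
    (j : M₁ ⟶ M₂) (π : M₂ ⟶ M₃) [IsMonHom j] [IsMonHom π]
    (hj : ∀ a : R, j ≫ ρ₂.act a = ρ₁.act a ≫ j) (hπ : ∀ a : R, π ≫ ρ₃.act a = ρ₂.act a ≫ π)
    (w : j ≫ π = 1) (hex : (CGrpSh.seq Scheme.fppfPrecoverage j π w).Exact)
    (hepi : Epi (CGrpSh.ptsMap Scheme.fppfPrecoverage π))
    {n : ℕ} (hn : 1 ≤ n) (φ : MultSch.pow M₂ n ⟶ N)
    (hmult : MultSch.IsMultilinear φ) (hlin : MultSch.IsRLinear ρ₂ ρN φ) (halt : MultSch.IsAlternating φ)
    (hvan : ∀ (T : Over S) (y : T ⟶ M₁) (x : Fin n → (T ⟶ M₂)), x ⟨0, hn⟩ = y ≫ j →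
      MultSch.tuple x ≫ φ = 1) :
    ∃ φ' : MultSch.pow M₃ n ⟶ N,
      (∀ (T : Over S) (x : Fin n → (T ⟶ M₂)), MultSch.tuple x ≫ φ = MultSch.tuple (fun l => x l ≫ π) ≫ φ') ∧
      MultSch.IsMultilinear φ' ∧ MultSch.IsRLinear ρ₃ ρN φ' ∧ MultSch.IsAlternating φ' ∧
      ∀ φ'' : MultSch.pow M₃ n ⟶ N,
        (∀ (T : Over S) (x : Fin n → (T ⟶ M₂)), MultSch.tuple x ≫ φ = MultSch.tuple (fun l => x l ≫ π) ≫ φ'') →
          φ'' = φ' := by
  have hs := K787.MultLoc.locSurj_of_epi π hepi
  have hsn := hs.powMap n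
  -- the value on a tuple with a coordinate killed by `π` is trivial
  have h1 : ∀ (T : Over S) (i : Fin n) (x : Fin n → (T ⟶ M₂)), x i ≫ π = 1 → K787.MultLoc.ev φ x = 1 := by
    intro T i x hx
    obtain ⟨R, hR, h⟩ := K787.MultLoc.exists_lift_of_exact j π w hex (x i) hx
    apply K787.MultLoc.eq_of_cover hR
    intro V g hg
    obtain ⟨y, hy⟩ := h g hg
    rw [MonObj.comp_one, K787.MultLoc.ev_comp]
    refine K787.MultLoc.ev_eq_one_of_coord hmult halt ⟨0, hn⟩ (y ≫ j) ?_ i _ hy.symm
    intro x' hx'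
    exact hvan V y x' hx'
  -- compatibility
  have hcompat : ∀ (T : Over S) (z z' : T ⟶ MultSch.pow M₂ n),
      z ≫ K787.MultLoc.powMap π n = z' ≫ K787.MultLoc.powMap π n → z ≫ φ = z' ≫ φ := by
    intro T z z' hz
    rw [K787.MultLoc.comp_powMap, K787.MultLoc.comp_powMap] at hz
    have hz' := K787.MultLoc.tuple_injective hz
    rw [← K787.MultLoc.tuple_coord z, ← K787.MultLoc.tuple_coord z']
    apply K787.MultLoc.ev_congr hmult
    intro i x hx
    apply h1 T i
    rw [hx, MonObj.mul_comp, GrpObj.inv_comp]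
    rw [show K787.MultLoc.coord z i ≫ π = K787.MultLoc.coord z' i ≫ π from congrFun hz' i, inv_mul_cancel]
  obtain ⟨φ', hφ'⟩ := hsn.exists_desc φ hcompat
  have hpt : ∀ (T : Over S) (x : Fin n → (T ⟶ M₂)),
      MultSch.tuple x ≫ φ = MultSch.tuple (fun l => x l ≫ π) ≫ φ' := by
    intro T x
    rw [← hφ', ← Category.assoc, K787.MultLoc.tuple_powMap]
  have hmult' : MultSch.IsMultilinear φ' := by
    intro T x i y z
    -- lift all coordinates simultaneously
    obtain ⟨R, hR, h⟩ := hs.exists_cover (I := Fin n ⊕ Bool) (Sum.elim x (fun b => if b then y else z))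
    apply K787.MultLoc.eq_of_cover hR
    intro V g hg
    obtain ⟨a, ha⟩ := h g hg
    have hx : ∀ l, g ≫ x l = a (Sum.inl l) ≫ π := fun l => (ha (Sum.inl l)).symm
    have hy : g ≫ y = a (Sum.inr true) ≫ π := (ha (Sum.inr true)).symm
    have hz : g ≫ z = a (Sum.inr false) ≫ π := (ha (Sum.inr false)).symm
    have key : ∀ (c : T ⟶ M₃) (c' : V ⟶ M₂), g ≫ c = c' ≫ π →
        g ≫ MultSch.tuple (Function.update x i c) ≫ φ' =
          MultSch.tuple (Function.update (fun l => a (Sum.inl l)) i c') ≫ φ := by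
      intro c c' hc
      rw [hpt, ← Category.assoc, K787.MultLoc.comp_tuple]
      congr 2
      funext l
      by_cases hl : l = i
      · subst hl
        rw [Function.update_self, Function.update_self, hc]
      · rw [Function.update_of_ne hl, Function.update_of_ne hl, hx]
    rw [MonObj.comp_mul, key y _ hy, key z _ hz, key (y * z) (a (Sum.inr true) * a (Sum.inr false))
      (by rw [MonObj.comp_mul, hy, hz, MonObj.mul_comp])]
    exact hmult V _ i _ _
  have hlin' : MultSch.IsRLinear ρ₃ ρN φ' := by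
    intro T x i r
    obtain ⟨R, hR, h⟩ := hs.exists_cover x
    apply K787.MultLoc.eq_of_cover hR
    intro V g hg
    obtain ⟨a, ha⟩ := h g hg
    have e1 : g ≫ MultSch.tuple (Function.update x i (x i ≫ ρ₃.act r)) ≫ φ' =
        MultSch.tuple (Function.update a i (a i ≫ ρ₂.act r)) ≫ φ := by
      rw [hpt, ← Category.assoc, K787.MultLoc.comp_tuple]
      congr 2
      funext l
      by_cases hl : l = i
      · subst hl
        rw [Function.update_self, Function.update_self, ← Category.assoc, ← ha, Category.assoc,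
          Category.assoc, hπ]
      · rw [Function.update_of_ne hl, Function.update_of_ne hl, ha]
    have e2 : g ≫ MultSch.tuple x ≫ φ' = MultSch.tuple a ≫ φ := by
      rw [hpt, ← Category.assoc, K787.MultLoc.comp_tuple]
      congr 2
      funext l
      rw [ha]
    rw [e1, ← Category.assoc, e2, hlin V a i r]
  have halt' : MultSch.IsAlternating φ' := by
    apply K787.MultLoc.isAlternating_of_locSurj hs φ'
    intro T x i l hil hx
    rw [← hpt]
    exact halt T x i l hil hx
  refine ⟨φ', hpt, hmult', hlin', halt', fun φ'' hφ'' => ?_⟩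
  have := hsn.epi
  rw [← cancel_epi (K787.MultLoc.powMap π n), hφ']
  have := hφ'' (MultSch.pow M₂ n) (K787.MultLoc.coord (𝟙 _))
  rw [K787.MultLoc.tuple_coord, Category.id_comp] at this
  exact this.symm

end Groth.Agent.S13635
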