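import Groth.Statements.S13636
import Groth.Agent.MultSch.K787.LocSurj

set_option autoImplicit false
universe u w
open CategoryTheory CategoryTheory.Limits MonoidalCategory CartesianMonoidalCategory MonObj AlgebraicGeometry
open MultSch

namespace Groth.Agent.S13636

/-- Let M' → M → M'' → 0 be a sequence of R-module schemes over a scheme S, with R-linear homomorphisms
j and π, exact as fppf sheaves, and let ψ : P × M × Q → N be a morphism to an R-module scheme N
which is additive and R-linear in the coordinate M (on T-valued points) and trivial on all points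
whose M-coordinate lies in the image of j. Then ψ = ψ' ∘ (id × π × id) for a unique morphism ψ' : P
× M'' × Q → N, and ψ' is additive and R-linear in the coordinate M''. (The published statement has a
product M₁ × ⋯ × M_r of R-module schemes with the exact sequence in the i-th factor and ψ
R-multilinear; here the factors before and after the i-th are collected into single S-schemes P and
Q, and only linearity in the i-th coordinate, the one the statement is about, is carried; linearity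
in the other coordinates passes between ψ and ψ' formally.) -/
theorem result
    {S : Scheme.{u}} {R : Type w} [CommRing R] {P Q M' M M'' N : Over S}
    [GrpObj M'] [IsCommMonObj M'] [GrpObj M] [IsCommMonObj M] [GrpObj M''] [IsCommMonObj M'']
    [GrpObj N] [IsCommMonObj N]
    (ρ' : MultSch.RMod R M') (ρ : MultSch.RMod R M) (ρ'' : MultSch.RMod R M'') (ρN : MultSch.RMod R N)
    (j : M' ⟶ M) (π : M ⟶ M'') [IsMonHom j] [IsMonHom π]
    (hj : ∀ a : R, j ≫ ρ.act a = ρ'.act a ≫ j) (hπ : ∀ a : R, π ≫ ρ''.act a = ρ.act a ≫ π)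
    (w : j ≫ π = 1) (hex : (CGrpSh.seq Scheme.fppfPrecoverage j π w).Exact)
    (hepi : Epi (CGrpSh.ptsMap Scheme.fppfPrecoverage π))
    (ψ : P ⊗ (M ⊗ Q) ⟶ N)
    (hadd : ∀ (T : Over S) (p : T ⟶ P) (q : T ⟶ Q) (y z : T ⟶ M),
      lift p (lift (y * z) q) ≫ ψ = (lift p (lift y q) ≫ ψ) * (lift p (lift z q) ≫ ψ))
    (hlin : ∀ (T : Over S) (p : T ⟶ P) (q : T ⟶ Q) (y : T ⟶ M) (a : R),
      lift p (lift (y ≫ ρ.act a) q) ≫ ψ = (lift p (lift y q) ≫ ψ) ≫ ρN.act a)
    (hvan : ∀ (T : Over S) (p : T ⟶ P) (q : T ⟶ Q) (y' : T ⟶ M'), lift p (lift (y' ≫ j) q) ≫ ψ = 1) :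
    ∃ ψ' : P ⊗ (M'' ⊗ Q) ⟶ N,
      (P ◁ (π ▷ Q)) ≫ ψ' = ψ ∧
      (∀ (T : Over S) (p : T ⟶ P) (q : T ⟶ Q) (y z : T ⟶ M''),
        lift p (lift (y * z) q) ≫ ψ' = (lift p (lift y q) ≫ ψ') * (lift p (lift z q) ≫ ψ')) ∧
      (∀ (T : Over S) (p : T ⟶ P) (q : T ⟶ Q) (y : T ⟶ M'') (a : R),
        lift p (lift (y ≫ ρ''.act a) q) ≫ ψ' = (lift p (lift y q) ≫ ψ') ≫ ρN.act a) ∧
      ∀ ψ'' : P ⊗ (M'' ⊗ Q) ⟶ N, (P ◁ (π ▷ Q)) ≫ ψ'' = ψ → ψ'' = ψ' := by
  have hs := K787.MultLoc.locSurj_of_epi π hepi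
  have hf : ∀ (T : Over S) (p : T ⟶ P) (y : T ⟶ M) (q : T ⟶ Q),
      lift p (lift y q) ≫ (P ◁ (π ▷ Q)) = lift p (lift (y ≫ π) q) := by
    intro T p y q
    rw [lift_whiskerLeft, lift_whiskerRight]
  have hsn : K787.MultLoc.LocSurj Scheme.fppfPrecoverage (P ◁ (π ▷ Q)) := by
    intro T z
    obtain ⟨R, hR, h⟩ := hs T (z ≫ snd _ _ ≫ fst _ _)
    refine ⟨R, hR, fun V g hg => ?_⟩
    obtain ⟨x, hx⟩ := h g hg
    refine ⟨lift (g ≫ z ≫ fst _ _) (lift x (g ≫ z ≫ snd _ _ ≫ snd _ _)), ?_⟩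
    rw [hf, hx]
    apply CartesianMonoidalCategory.hom_ext
    · rw [lift_fst, Category.assoc]
    · apply CartesianMonoidalCategory.hom_ext
      · rw [lift_snd, lift_fst]; simp only [Category.assoc]
      · rw [lift_snd, lift_snd]; simp only [Category.assoc]
  -- the value on a point killed by `π` is trivial
  have h1 : ∀ (T : Over S) (p : T ⟶ P) (q : T ⟶ Q) (c : T ⟶ M), c ≫ π = 1 →
      lift p (lift c q) ≫ ψ = 1 := by
    intro T p q c hc
    obtain ⟨R, hR, h⟩ := K787.MultLoc.exists_lift_of_exact j π w hex c hc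
    apply K787.MultLoc.eq_of_cover hR
    intro V g hg
    obtain ⟨y, hy⟩ := h g hg
    rw [MonObj.comp_one, ← Category.assoc, comp_lift, comp_lift, ← hy]
    exact hvan V _ _ y
  have hz : ∀ (T : Over S) (z : T ⟶ P ⊗ (M ⊗ Q)), z =
      lift (z ≫ fst _ _) (lift (z ≫ snd _ _ ≫ fst _ _) (z ≫ snd _ _ ≫ snd _ _)) := by
    intro T z
    apply CartesianMonoidalCategory.hom_ext
    · rw [lift_fst]
    · apply CartesianMonoidalCategory.hom_ext
      · rw [lift_snd, lift_fst]; simp only [Category.assoc]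
      · rw [lift_snd, lift_snd]; simp only [Category.assoc]
  have hcompat : ∀ (T : Over S) (z z' : T ⟶ P ⊗ (M ⊗ Q)),
      z ≫ (P ◁ (π ▷ Q)) = z' ≫ (P ◁ (π ▷ Q)) → z ≫ ψ = z' ≫ ψ := by
    intro T z z' hzz
    obtain ⟨p, y, q, rfl⟩ : ∃ (p : T ⟶ P) (y : T ⟶ M) (q : T ⟶ Q), z = lift p (lift y q) := ⟨_, _, _, hz T z⟩
    obtain ⟨p', y', q', rfl⟩ : ∃ (p : T ⟶ P) (y : T ⟶ M) (q : T ⟶ Q), z' = lift p (lift y q) := ⟨_, _, _, hz T z'⟩
    rw [hf, hf] at hzz
    have e1 : p = p' := by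
      have := congrArg (· ≫ fst _ _) hzz
      simpa only [lift_fst] using this
    have e2 : y ≫ π = y' ≫ π := by
      have := congrArg (· ≫ snd _ _ ≫ fst _ _) hzz
      simpa only [lift_fst, lift_snd_assoc] using this
    have e3 : q = q' := by
      have := congrArg (· ≫ snd _ _ ≫ snd _ _) hzz
      simpa only [lift_snd, lift_snd_assoc] using this
    subst e1 e3
    have e4 : y = y' * (y'⁻¹ * y) := by rw [mul_inv_cancel_left]
    rw [e4, hadd, h1 T p q (y'⁻¹ * y), _root_.mul_one]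
    rw [MonObj.mul_comp, GrpObj.inv_comp, e2, inv_mul_cancel]
  obtain ⟨ψ', hψ'⟩ := hsn.exists_desc ψ hcompat
  have hpt : ∀ (T : Over S) (p : T ⟶ P) (y : T ⟶ M) (q : T ⟶ Q),
      lift p (lift (y ≫ π) q) ≫ ψ' = lift p (lift y q) ≫ ψ := by
    intro T p y q
    rw [← hψ', ← Category.assoc, hf]
  refine ⟨ψ', hψ', ?_, ?_, fun ψ'' hψ'' => ?_⟩
  · intro T p q y z
    obtain ⟨R, hR, h⟩ := hs.exists_cover (I := Bool) (fun b => if b then y else z)
    apply K787.MultLoc.eq_of_cover hR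
    intro V g hg
    obtain ⟨a, ha⟩ := h g hg
    have hy : g ≫ y = a true ≫ π := (ha true).symm
    have hz : g ≫ z = a false ≫ π := (ha false).symm
    rw [MonObj.comp_mul]
    simp only [← Category.assoc, comp_lift]
    rw [MonObj.comp_mul, hy, hz, ← MonObj.mul_comp, hpt, hpt, hpt]
    exact hadd V _ _ _ _
  · intro T p q y r
    obtain ⟨R, hR, h⟩ := hs T y
    apply K787.MultLoc.eq_of_cover hR
    intro V g hg
    obtain ⟨a, ha⟩ := h g hg
    simp only [← Category.assoc, comp_lift]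
    rw [← ha, Category.assoc a, hπ, ← Category.assoc a, hpt, hpt, hlin]
  · have := hsn.epi
    rw [← cancel_epi (P ◁ (π ▷ Q)), hψ', hψ'']

end Groth.Agent.S13636
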