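import Groth.Statements.S13642
import Mathlib.AlgebraicGeometry.Restrict
import Mathlib.AlgebraicGeometry.Morphisms.Finite

set_option autoImplicit false
open CategoryTheory
universe u
open FSch

namespace Groth.Agent.S13642

open AlgebraicGeometry

set_option backward.isDefEq.respectTransparency.types false in
theorem isFinite_restrict {X Y : Scheme.{u}} (f : X ⟶ Y) (h : IsFinite f) (U : Y.Opens) :
    IsFinite (f ∣_ U) :=
  IsZariskiLocalAtTarget.restrict (P := @IsFinite.{u}) h U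

/-- Let f : 𝔛 ⟶ 𝔜 be a finite morphism of locally Noetherian formal schemes (adic, with finite morphism
of smallest levels). Then for every open U of 𝔜 the restriction f⁻¹(U) ⟶ U of f to the induced
formal schemes on U and on its inverse image is a finite morphism. -/
theorem result (𝔛 𝔜 : FSch.Sys.{u}) (h𝔛 : 𝔛.IsLocNoethFormal) (h𝔜 : 𝔜.IsLocNoethFormal)
    (f : 𝔛 ⟶ 𝔜) (hf : FSch.IsFiniteHom f) (U : (𝔜.X 0).Opens) :
    FSch.IsFiniteHom (FSch.Hom.restrictOpen f h𝔛.1 h𝔜.1 U) := by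
  refine ⟨fun n => ?_, ?_⟩
  · have H := hf.1 n
    have hfp := Hom.lvU_preimage f h𝔛.1 h𝔜.1 n U
    have hfp' := Hom.lvU_preimage f h𝔛.1 h𝔜.1 (n + 1) U
    refine Scheme.Hom.isPullback_resLE H (US := 𝔜.lvU h𝔜.1 (n + 1) U) (UT := 𝔜.lvU h𝔜.1 n U)
      (UX := 𝔛.lvU h𝔛.1 (n + 1) ((f : FSch.Hom 𝔛 𝔜).app 0 ⁻¹ᵁ U)) (𝔜.lvU_le h𝔜.1 n U) hfp'.ge
      (UY := 𝔛.lvU h𝔛.1 n ((f : FSch.Hom 𝔛 𝔜).app 0 ⁻¹ᵁ U)) ?_
    rw [hfp, 𝔛.lvU_succ h𝔛.1 n, inf_idem]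
  · have h0 : IsFinite ((f : FSch.Hom 𝔛 𝔜).app 0) := hf.2
    have hfp := Hom.lvU_preimage f h𝔛.1 h𝔜.1 0 U
    have key : IsFinite (((f : FSch.Hom 𝔛 𝔜).app 0).resLE (𝔜.lvU h𝔜.1 0 U)
        ((f : FSch.Hom 𝔛 𝔜).app 0 ⁻¹ᵁ (𝔜.lvU h𝔜.1 0 U)) le_rfl) := by
      rw [Scheme.Hom.resLE_eq_morphismRestrict]
      exact isFinite_restrict _ h0 _
    exact (Scheme.Hom.resLE_congr _ (le_rfl) rfl hfp @IsFinite).mp key

end Groth.Agent.S13642
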