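import Groth.Statements.S13647
import Groth.Agent.S13339
import Groth.Agent.S0789
import Groth.Agent.FormalA.ExProj
import Groth.Agent.FormalA.Support
import Groth.Agent.Pic13.H504.Push
import Groth.Agent.S14705

set_option autoImplicit false
open CategoryTheory CategoryTheory.Limits AlgebraicGeometry
universe u
open FSch

namespace Groth.Agent.S13647

/-- Suppose A is a Noetherian ring that is adic with J as an ideal of definition, and put Y = Spec A.
Consider finite-type morphisms f : X ⟶ Y and h : Z ⟶ Y together with a proper Y-morphism g : Z ⟶ X.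
Write X̂ and Ẑ for the completions along the preimages of V(J), and ĝ : Ẑ ⟶ X̂ for the map on
completions induced by g. A module on X̂ (resp. Ẑ) is termed algebraizable if it is isomorphic to
the completion of some coherent module on X (resp. Z) having support proper over Y. Under these
assumptions, whenever 𝔉 is an algebraizable O_Ẑ-module, its direct image ĝ_* 𝔉 is again an
algebraizable O_X̂-module. -/
theorem result (A : Type u) [CommRing A] [IsNoetherianRing A]
    (J : Ideal A) [IsAdicComplete J A] {X Z : Scheme.{u}} (f : X ⟶ Spec (CommRingCat.of A))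
    [LocallyOfFiniteType f] [QuasiCompact f] (h : Z ⟶ Spec (CommRingCat.of A)) [LocallyOfFiniteType h]
    [QuasiCompact h] (g : Z ⟶ X) (hg : g ≫ f = h) [IsProper g]
    (𝓘 : X.IdealSheafData) (h𝓘 : 𝓘 = (FSch.idealSpec A J).comap f)
    (𝓚 : Z.IdealSheafData) (h𝓚 : 𝓚 = (FSch.idealSpec A J).comap h)
    (hX : (FSch.completionAlong X 𝓘).IsFormal) (hZ : (FSch.completionAlong Z 𝓚).IsFormal)
    (hpc : FSch.PowCompat g 𝓚 𝓘) (𝔉 : FSch.ModF (FSch.completionAlong Z 𝓚) hZ)
    (a𝔉 : (∃ G : Z.Modules, Coh.IsCoh G ∧ ClSub.IsProperOver h (CohB1.support G) ∧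
        Nonempty (𝔉 ≅ (FSch.complMod 𝓚 G).realMod hZ))) :
    (∃ G : X.Modules, Coh.IsCoh G ∧ ClSub.IsProperOver f (CohB1.support G) ∧
        Nonempty ((FSch.pushF (FSch.completionMap g 𝓚 𝓘 hpc) hZ hX).obj 𝔉 ≅ (FSch.complMod 𝓘 G).realMod hX)) := by
  subst hg
  obtain ⟨G, hG, hsupp, ⟨e⟩⟩ := a𝔉
  have hYN : IsNoetherian (Spec (CommRingCat.of A)) := inferInstance
  have hXln : IsLocallyNoetherian X := LocallyOfFiniteType.isLocallyNoetherian f
  have hXc : CompactSpace X := (quasiCompact_iff_compactSpace (f := f)).1 inferInstance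
  have hXN : IsNoetherian X := {}
  have hZln : IsLocallyNoetherian Z := LocallyOfFiniteType.isLocallyNoetherian (g ≫ f)
  have hZc : CompactSpace Z := (quasiCompact_iff_compactSpace (f := g ≫ f)).1 inferInstance
  have hZN : IsNoetherian Z := {}
  have hKI : 𝓚 = 𝓘.comap g := by
    rw [h𝓚, h𝓘, Scheme.IdealSheafData.comap_comp]
  have hpush : Coh.IsCoh ((Scheme.Modules.pushforward g).obj G) :=
    Pic13.H504.Push.isCoh_pushforward g G hG
  have himg : ClSub.IsProperOver f (g '' CohB1.support G) :=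
    Groth.Agent.S0789.result (g ≫ f) f g rfl _ hsupp
  have hsub : CohB1.support ((Scheme.Modules.pushforward g).obj G) ⊆ g '' CohB1.support G :=
    FormalA.ExProj.support_pushforward_subset g _ himg.1 G subset_rfl
  have hcl : IsClosed (CohB1.support ((Scheme.Modules.pushforward g).obj G)) :=
    FormalA.Support.isClosed_support _ hpush.2
  refine ⟨(Scheme.Modules.pushforward g).obj G, hpush,
    FormalA.ProperOver.isProperOver_subset f himg hcl hsub, ?_⟩
  obtain ⟨eZ, -⟩ := Groth.Agent.S13339.result Z 𝓚 hZ G hG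
  obtain ⟨eX, -⟩ := Groth.Agent.S13339.result X 𝓘 hX _ hpush
  have := Groth.Agent.S14705.result Z X g 𝓘 𝓚 hKI hpc hZ hX G hG
  exact ⟨(FSch.pushF (FSch.completionMap g 𝓚 𝓘 hpc) hZ hX).mapIso (e ≪≫ eZ.symm) ≪≫
    (asIso (FSch.schBcMap (FSch.completionMap g 𝓚 𝓘 hpc) hZ hX g
      (FSch.completionToX Z 𝓚) (FSch.completionToX_comm Z 𝓚)
      (FSch.completionToX X 𝓘) (FSch.completionToX_comm X 𝓘)
      (FSch.completionMap_sq g 𝓚 𝓘 hpc) G)).symm ≪≫ eX⟩

end Groth.Agent.S13647
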