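import Groth.Statements.S13648
import Groth.Agent.FSch.K347.LimPushSch
import Groth.Agent.FSch.K347.PushTC
import Groth.Agent.FSch.K179.KL
import Groth.Agent.S13339

set_option autoImplicit false
open CategoryTheory CategoryTheory.Limits AlgebraicGeometry
universe u
open FSch

namespace Groth.Agent.S13648

/-- Let f : X ⟶ Y be a proper morphism of Noetherian schemes, 𝓘 an ideal of O_Y defining a closed subset
Y', 𝓚 = 𝓘 O_X its inverse image, Ŷ and X̂ the completions along Y' and f⁻¹(Y'), f̂ : X̂ ⟶ Ŷ the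
extension of f, j : Ŷ ⟶ Y and i : X̂ ⟶ X the canonical morphisms of ringed spaces, and F a coherent
O_X-module, so that F̂ = i^* F. Then for every n the completion (R^n f_* F)^ = j^*(R^n f_* F) is
isomorphic to R^n f̂_*(F̂) as an O_Ŷ-module. Only the existence of an isomorphism is asserted; the
published statement asserts that the canonical base-change morphism ρ_n of the square is an
isomorphism, moreover a homeomorphism. -/
theorem result (X Y : Scheme.{u}) [IsNoetherian X]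
    [IsNoetherian Y] (f : X ⟶ Y) [IsProper f] (𝓘 : Y.IdealSheafData) (𝓚 : X.IdealSheafData)
    (h𝓚 : 𝓚 = 𝓘.comap f) (hpc : FSch.PowCompat f 𝓚 𝓘) (hX : (FSch.completionAlong X 𝓚).IsFormal)
    (hY : (FSch.completionAlong Y 𝓘).IsFormal) [HasInjectiveResolutions X.Modules]
    [HasInjectiveResolutions (FSch.ModF (FSch.completionAlong X 𝓚) hX)] (F : X.Modules) (hF : Coh.IsCoh F)
    (n : ℕ) :
    Nonempty ((FSch.toSchemeMor (FSch.completionAlong Y 𝓘) hY (FSch.completionToX Y 𝓘) (FSch.completionToX_comm Y 𝓘)).pull.obj ((Coh.Rpush f n).obj F) ≅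
      (FSch.RpushF (FSch.completionMap f 𝓚 𝓘 hpc) hX hY n).obj ((FSch.toSchemeMor (FSch.completionAlong X 𝓚) hX (FSch.completionToX X 𝓚) (FSch.completionToX_comm X 𝓚)).pull.obj F)) := by
  subst h𝓚
  obtain ⟨eF, -⟩ := Groth.Agent.S13339.result X (𝓘.comap f) hX F hF
  obtain ⟨eG, -⟩ := Groth.Agent.S13339.result Y 𝓘 hY _ (Groth.Agent.S0036.result f F hF n)
  obtain ⟨e1⟩ := K347.PushTC.nonempty_iso (𝓘.comap f) hX f 𝓘 hpc hY ((FSch.complMod (𝓘.comap f) F).realMod hX) n
  obtain ⟨e3⟩ := K347.LimPushSch.nonempty_iso f 𝓘 hF n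
  have e2 : (Coh.Rpush f n).obj ((K179.PushLim.TC hX).obj ((FSch.complMod (𝓘.comap f) F).realMod hX)) ≅
      (Coh.Rpush f n).obj (limit (Groth.Agent.Sga2lef.H96.ModSysPush.toSys (FSch.complMod (𝓘.comap f) F))) :=
    (Coh.Rpush f n).mapIso (K179.PushLim.pushRealMod hX (FSch.complMod (𝓘.comap f) F))
  have e : (K179.PushLim.TC hY).obj ((FSch.RpushF (FSch.completionMap f (𝓘.comap f) 𝓘 hpc) hX hY n).obj
      ((FSch.complMod (𝓘.comap f) F).realMod hX)) ≅
        (K179.PushLim.TC hY).obj ((FSch.complMod 𝓘 ((Coh.Rpush f n).obj F)).realMod hY) :=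
    e1 ≪≫ e2 ≪≫ e3 ≪≫ (K179.FFLevels.iso f 𝓘 n hF).symm ≪≫
      (K179.PushLim.pushRealMod hY (FSch.complMod 𝓘 ((Coh.Rpush f n).obj F))).symm
  obtain ⟨e4⟩ := K179.KL.nonempty_iso (K179.KL.sepAff_realLim 𝓘 hY _ _) e
  exact ⟨eG ≪≫ e4.symm ≪≫ (FSch.RpushF (FSch.completionMap f (𝓘.comap f) 𝓘 hpc) hX hY n).mapIso eF.symm⟩

end Groth.Agent.S13648
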