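import Groth.Statements.S13660
import Groth.Agent.FBlow.K25.ChartsB
import Groth.Agent.FBlow.K788.Base
import Groth.Agent.S11539

set_option autoImplicit false
open CategoryTheory AlgebraicGeometry
universe u
open FBlow

namespace Groth.Agent.S13660

/-- Let R be a base ring of class (N) or (V) for the ideal I, A an admissible R-algebra and f_0, …, f_r
elements generating an open ideal 𝔞 of A (one containing I^k A for some k); present Spf A as the
formal system (Spec A/(IA)^(n+1))_n and let X' → Spf A be an admissible formal blowing-up of the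
ideal 𝔞·O_{Spf A} (universal-property sense). For each i let U_i be the locus of points of X' having
a neighbourhood on every open subset of which the ideals generated by 𝔞 and by f_i in O_{X'}
coincide, and let A_i be the I-adic completion of A[ζ_j ; j ≠ i]/(f_i ζ_j − f_j ; j ≠ i) divided by
its f_i-power torsion. Then the U_i cover X', and for every i there is a morphism Spf A_i → X' over
Spf A (its composite with X' → Spf A is the morphism induced by A → A_i) which is an open immersion
at every level and whose underlying image is exactly U_i. -/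
theorem result
    (R : Type u) [CommRing R] (I : Ideal R) (hR : AdicRing.IsBase R I)
    (A : Type u) [CommRing A] [Algebra R A] (hA : AdicRing.Admissible R I A)
    (r : ℕ) (f : Fin (r + 1) → A) (k : ℕ) (hopen : (I ^ k).map (algebraMap R A) ≤ Ideal.span (Set.range f))
    (hX : (FSch.spf A (I.map (algebraMap R A))).IsFormal)
    (𝔛' : FSch.Sys.{u}) (h' : 𝔛'.IsFormal) (b : 𝔛' ⟶ (FSch.spf A (I.map (algebraMap R A))))
    (hb : FBlow.IsAdmBlowUp b h' hX (FBlow.schIdealMap (FSch.spf A (I.map (algebraMap R A))) hX (FSch.spfToSpec A (I.map (algebraMap R A))) (FSch.spfToSpec_comm A (I.map (algebraMap R A))) (FBlow.IdealSh.ofData (FSch.idealSpec A (Ideal.span (Set.range f)))))) :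
    (∀ x : 𝔛'.X 0, ∃ i : Fin (r + 1), x ∈ {x : 𝔛'.X 0 | ∃ V : (𝔛'.X 0).Opens, x ∈ V ∧ ∀ V' : (𝔛'.X 0).Opens, V' ≤ V →
          (FBlow.idealMap b h' hX (FBlow.schIdealMap (FSch.spf A (I.map (algebraMap R A))) hX (FSch.spfToSpec A (I.map (algebraMap R A))) (FSch.spfToSpec_comm A (I.map (algebraMap R A))) (FBlow.IdealSh.ofData (FSch.idealSpec A (Ideal.span (Set.range f)))))).sect V' =
          (FBlow.idealMap b h' hX (FBlow.schIdealMap (FSch.spf A (I.map (algebraMap R A))) hX (FSch.spfToSpec A (I.map (algebraMap R A))) (FSch.spfToSpec_comm A (I.map (algebraMap R A))) (FBlow.IdealSh.ofData (FSch.idealSpec A (Ideal.span {f i}))))).sect V'}) ∧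
    ∀ (i : Fin (r + 1)) (hi : (FSch.spf (AdicRing.chartAdm I f i) (I.map (algebraMap R (AdicRing.chartAdm I f i)))).IsFormal)
      (hle : (I.map (algebraMap R A)) ≤ (I.map (algebraMap R (AdicRing.chartAdm I f i))).comap (algebraMap A (AdicRing.chartAdm I f i))),
      ∃ u : FSch.spf (AdicRing.chartAdm I f i) (I.map (algebraMap R (AdicRing.chartAdm I f i))) ⟶ 𝔛',
        u ≫ b = FSch.spfMap (I.map (algebraMap R (AdicRing.chartAdm I f i))) (I.map (algebraMap R A)) (algebraMap A (AdicRing.chartAdm I f i)) hle ∧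
        (∀ n, IsOpenImmersion ((u : FSch.Hom (FSch.spf (AdicRing.chartAdm I f i) (I.map (algebraMap R (AdicRing.chartAdm I f i)))) 𝔛').app n)) ∧
        Set.range ((u : FSch.Hom (FSch.spf (AdicRing.chartAdm I f i) (I.map (algebraMap R (AdicRing.chartAdm I f i)))) 𝔛').app 0).base = {x : 𝔛'.X 0 | ∃ V : (𝔛'.X 0).Opens, x ∈ V ∧ ∀ V' : (𝔛'.X 0).Opens, V' ≤ V →
          (FBlow.idealMap b h' hX (FBlow.schIdealMap (FSch.spf A (I.map (algebraMap R A))) hX (FSch.spfToSpec A (I.map (algebraMap R A))) (FSch.spfToSpec_comm A (I.map (algebraMap R A))) (FBlow.IdealSh.ofData (FSch.idealSpec A (Ideal.span (Set.range f)))))).sect V' =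
          (FBlow.idealMap b h' hX (FBlow.schIdealMap (FSch.spf A (I.map (algebraMap R A))) hX (FSch.spfToSpec A (I.map (algebraMap R A))) (FSch.spfToSpec_comm A (I.map (algebraMap R A))) (FBlow.IdealSh.ofData (FSch.idealSpec A (Ideal.span {f i}))))).sect V'} := by

  -- the open ideal and its powers
  have hGd := K788.Base.gd_of_admissible hR hA
  have hk : (I.map (algebraMap R A)) ^ k ≤ Ideal.span (Set.range f) := by
    rw [← Ideal.map_pow]
    exact hopen
  obtain ⟨P, q, hq, rr, hrr, hpb⟩ := K25.Pres.exists_presentation hGd hk hX h' b hb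
  have hc : K788.Inv.IsCompl rr ((FSch.idealSpec A (I.map (algebraMap R A))).comap q) :=
    K25.ChartsB.isCompl_of_isPullback b hrr hpb
  have w' : ∀ n, 𝔛'.ι n ≫ rr (n + 1) ≫ q = rr n ≫ q := fun n => by rw [← Category.assoc, hrr]
  have hJ : ∀ 𝔠 : Ideal A, FBlow.idealMap b h' hX (FBlow.schIdealMap (FSch.spf A (I.map (algebraMap R A))) hX
      (FSch.spfToSpec A (I.map (algebraMap R A))) (FSch.spfToSpec_comm A (I.map (algebraMap R A)))
      (FBlow.IdealSh.ofData (FSch.idealSpec A 𝔠))) =
      K788.Aff.gn (𝔠.map (K788.Aff.sg h' (fun n => rr n ≫ q) w')) := by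
    intro 𝔠
    rw [K788.UP.idealMap_schIdealMap h' hX b _ _ (fun n => rr n ≫ q) w' (fun n => (hpb n).w.symm),
      K788.AffSch.schIdealMap_eq_gn]
  have hloc : ∀ (i : Fin (r + 1)) (x : 𝔛'.X 0), (∃ V : (𝔛'.X 0).Opens, x ∈ V ∧ ∀ V' : (𝔛'.X 0).Opens, V' ≤ V →
      (FBlow.idealMap b h' hX (FBlow.schIdealMap (FSch.spf A (I.map (algebraMap R A))) hX (FSch.spfToSpec A (I.map (algebraMap R A))) (FSch.spfToSpec_comm A (I.map (algebraMap R A))) (FBlow.IdealSh.ofData (FSch.idealSpec A (Ideal.span (Set.range f)))))).sect V' =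
      (FBlow.idealMap b h' hX (FBlow.schIdealMap (FSch.spf A (I.map (algebraMap R A))) hX (FSch.spfToSpec A (I.map (algebraMap R A))) (FSch.spfToSpec_comm A (I.map (algebraMap R A))) (FBlow.IdealSh.ofData (FSch.idealSpec A (Ideal.span {f i}))))).sect V') ↔
      rr 0 x ∈ Groth.Agent.Divis.BlowChart.chartLocus (Ideal.span (Set.range f)) q (f i) := by
    intro i x
    rw [hJ, hJ]
    exact K25.Locus.locus_iff h' hGd hk hq hc w' (Ideal.subset_span ⟨i, rfl⟩) x
  refine ⟨fun x => ?_, fun i hi hle => ?_⟩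
  · obtain ⟨i, hi⟩ := K25.ChartsB.exists_mem_chartLocus hq f rfl (rr 0 x)
    exact ⟨i, (hloc i x).2 hi⟩
  · obtain ⟨θ, hθ, hθ2⟩ := K25.ChartAlg.exists_theta (I := I) f i (Ideal.span (Set.range f)) rfl
    have hI := K25.Base.fg_of_isBase hR
    have hA' : AdicRing.TopFiniteType R I A := by
      obtain ⟨n, φ, hφ, -⟩ := hA.1
      exact ⟨n, φ, hφ⟩
    have hflat : Module.Flat (AdicRing.chartAlg f i) (AdicRing.chartCompl I f i) :=
      Groth.Agent.S11539.result R I hR A hA' (AdicRing.chartAlg f i)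
    have hL : (I.map (algebraMap R A)).map (algebraMap A (AdicRing.chartAdm I f i)) =
        I.map (algebraMap R (AdicRing.chartAdm I f i)) := by
      rw [Ideal.map_map, ← IsScalarTower.algebraMap_eq]
    obtain ⟨u, hu1, hu2, hu3⟩ := K25.Charts.exists_formal_chart b hq hrr hpb (a := f i)
      (Ideal.subset_span ⟨i, rfl⟩) (algebraMap A (AdicRing.chartAdm I f i)) θ hθ hL
      (fun n x => by
        obtain ⟨y, hy⟩ := K25.ChartAlg.exists_sub_mem f i (Ideal.span (Set.range f)) rfl hI θ hθ2 n x
        exact ⟨y, by rw [Ideal.map_pow, hL] at hy; exact hy⟩)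
      (fun n y hy => K25.ChartAlg.mem_of_theta_mem f i (Ideal.span (Set.range f)) rfl hI θ hθ2 n y
        (by rw [Ideal.map_pow, hL]; exact hy)) hle
    refine ⟨u, hu1, hu2, ?_⟩
    ext x
    exact (hu3 x).trans (hloc i x).symm

end Groth.Agent.S13660
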