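import Groth.Statements.S13682
-- import your own Groth.Agent.* helpers here

set_option autoImplicit false
universe u v w
open scoped BigOperators
open BTGrp

namespace Groth.Agent.S13682

section Helpers

variable {A : Type u} [CommRing A] {r : ℕ} {M : Fin r → Type v} {N : Type w}
  [∀ i, AddCommGroup (M i)] [∀ i, Module A (M i)] [AddCommGroup N] [Module A N]
  (φ : MultilinearMap A M N)

/-- the value of `φ` at the tuple which is `a` before `i`, `x` at `i` and `b` after `i` -/
private def P (a : ∀ i, M i) (i : Fin r) (x : M i) (b : ∀ i, M i) : N :=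
  φ (Function.update (fun k => if k < i then a k else b k) i x)

private theorem P_eq (a x b : ∀ i, M i) (i : Fin r) :
    φ (fun k => if k < i then a k else if k = i then x k else b k) = P φ a i (x i) b := by
  unfold P
  congr 1
  funext k
  by_cases hk : k = i
  · subst hk
    simp
  · simp [Function.update_of_ne hk, hk]

private theorem P_add (a b : ∀ i, M i) (i : Fin r) (x y : M i) :
    P φ a i (x + y) b = P φ a i x b + P φ a i y b := by
  unfold P
  exact φ.map_update_add _ _ _ _

private theorem P_sum (a b : ∀ i, M i) (i : Fin r) {ι : Type} (s : Finset ι) (x : ι → M i) :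
    P φ a i (∑ j ∈ s, x j) b = ∑ j ∈ s, P φ a i (x j) b := by
  unfold P
  exact φ.map_update_sum _ _ _ _

/-- the telescoping form `T(a, x, b) = ∑_i φ(a_{<i}, x_i, b_{>i})` -/
private def T (a x b : ∀ i, M i) : N := ∑ i, P φ a i (x i) b

/-- the doubly split term -/
private def G (α : A) (w₂ z w₁ y w₀ : ∀ i, M i) (l i : Fin r) : N :=
  φ (fun k => if k < l then w₂ k else if k = l then z k else if k < i then w₁ k
    else if k = i then y k else w₀ k)

private theorem diff_lt (α : A) (w₂ z w₁ y w₀ : ∀ i, M i) (h : ∀ i, w₂ i = w₁ i + α • z i)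
    (i : Fin r) :
    P φ w₂ i (y i) w₀ - P φ w₁ i (y i) w₀ =
      ∑ l ∈ Finset.univ.filter (· < i), α • G φ α w₂ z w₁ y w₀ l i := by
  have key := φ.map_piecewise_sub_map_piecewise w₂ w₁
    (fun k => if k = i then y k else w₀ k) (Finset.univ.filter (· < i))
  have e1 : ∀ a : (∀ i, M i), φ ((Finset.univ.filter (· < i)).piecewise a
      (fun k => if k = i then y k else w₀ k)) = P φ a i (y i) w₀ := by
    intro a
    rw [← P_eq]
    congr 1
    funext k
    simp [Finset.piecewise]
  rw [e1, e1] at key
  rw [key]
  refine Finset.sum_congr rfl fun l hl => ?_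
  rw [Finset.mem_filter] at hl
  have hli : l < i := hl.2
  unfold G
  have e2 : (fun k => if k ∈ Finset.univ.filter (· < i) then if k < l then w₂ k
      else if k = l then w₂ k - w₁ k else w₁ k else if k = i then y k else w₀ k) =
      Function.update (fun k => if k < l then w₂ k else if k = l then z k else if k < i then w₁ k
        else if k = i then y k else w₀ k) l (α • z l) := by
    funext k
    by_cases hk : k = l
    · subst hk
      simp [hli, h]
    · rw [Function.update_of_ne hk]
      by_cases hki : k < i
      · simp [hk, hki]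
      · have : ¬ k < l := fun hh => hki (hh.trans hli)
        simp [hk, hki, this]
  have e3 : (fun k => if k < l then w₂ k else if k = l then z k else if k < i then w₁ k
        else if k = i then y k else w₀ k) =
      Function.update (fun k => if k < l then w₂ k else if k = l then z k else if k < i then w₁ k
        else if k = i then y k else w₀ k) l (z l) := by
    funext k
    by_cases hk : k = l
    · subst hk
      simp
    · rw [Function.update_of_ne hk]
  rw [e2, φ.map_update_smul, ← e3]

private theorem diff_gt (α : A) (w₂ z w₁ y w₀ : ∀ i, M i) (h : ∀ i, w₁ i = w₀ i + α • y i)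
    (l : Fin r) :
    P φ w₂ l (z l) w₁ - P φ w₂ l (z l) w₀ =
      ∑ i ∈ Finset.univ.filter (l < ·), α • G φ α w₂ z w₁ y w₀ l i := by
  have key := φ.map_piecewise_sub_map_piecewise w₁ w₀
    (fun k => if k < l then w₂ k else z k) (Finset.univ.filter (l < ·))
  have e1 : ∀ a : (∀ i, M i), φ ((Finset.univ.filter (l < ·)).piecewise a
      (fun k => if k < l then w₂ k else z k)) = P φ w₂ l (z l) a := by
    intro a
    rw [← P_eq]
    congr 1
    funext k
    rcases lt_trichotomy k l with hk | hk | hk
    · simp [Finset.piecewise, hk, hk.le]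
    · subst hk
      simp [Finset.piecewise]
    · simp [Finset.piecewise, hk, hk.ne', hk.le]
  rw [e1, e1] at key
  rw [key]
  refine Finset.sum_congr rfl fun i hi => ?_
  rw [Finset.mem_filter] at hi
  have hli : l < i := hi.2
  unfold G
  have e2 : (fun k => if k ∈ Finset.univ.filter (l < ·) then if k < i then w₁ k
      else if k = i then w₁ k - w₀ k else w₀ k else if k < l then w₂ k else z k) =
      Function.update (fun k => if k < l then w₂ k else if k = l then z k else if k < i then w₁ k
        else if k = i then y k else w₀ k) i (α • y i) := by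
    funext k
    by_cases hk : k = i
    · subst hk
      simp [hli, h]
    · rw [Function.update_of_ne hk]
      rcases lt_trichotomy k l with hkl | hkl | hkl
      · simp [hkl, hkl.le, not_lt_of_gt hkl]
      · subst hkl
        simp
      · simp [hkl, hkl.ne', not_lt_of_gt hkl, hk]
  have e3 : (fun k => if k < l then w₂ k else if k = l then z k else if k < i then w₁ k
        else if k = i then y k else w₀ k) =
      Function.update (fun k => if k < l then w₂ k else if k = l then z k else if k < i then w₁ k
        else if k = i then y k else w₀ k) i (y i) := by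
    funext k
    by_cases hk : k = i
    · subst hk
      simp [not_lt_of_gt hli, hli.ne']
    · rw [Function.update_of_ne hk]
  rw [e2, φ.map_update_smul, ← e3]

private theorem T_cocycle (α : A) (w₂ z w₁ y w₀ : ∀ i, M i) (h₂ : ∀ i, w₂ i = w₁ i + α • z i)
    (h₁ : ∀ i, w₁ i = w₀ i + α • y i) :
    T φ w₂ (y + z) w₀ = T φ w₁ y w₀ + T φ w₂ z w₁ := by
  have hA : T φ w₂ y w₀ - T φ w₁ y w₀ =
      ∑ i, ∑ l ∈ Finset.univ.filter (· < i), α • G φ α w₂ z w₁ y w₀ l i := by
    unfold T
    rw [← Finset.sum_sub_distrib]
    exact Finset.sum_congr rfl fun i _ => diff_lt φ α w₂ z w₁ y w₀ h₂ i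
  have hB : T φ w₂ z w₁ - T φ w₂ z w₀ =
      ∑ l, ∑ i ∈ Finset.univ.filter (l < ·), α • G φ α w₂ z w₁ y w₀ l i := by
    unfold T
    rw [← Finset.sum_sub_distrib]
    exact Finset.sum_congr rfl fun i _ => diff_gt φ α w₂ z w₁ y w₀ h₁ i
  have hC : (∑ i, ∑ l ∈ Finset.univ.filter (· < i), α • G φ α w₂ z w₁ y w₀ l i) =
      ∑ l, ∑ i ∈ Finset.univ.filter (l < ·), α • G φ α w₂ z w₁ y w₀ l i := by
    apply Finset.sum_comm'
    intro x y
    simp
  have hD : T φ w₂ (y + z) w₀ = T φ w₂ y w₀ + T φ w₂ z w₀ := by
    unfold T
    rw [← Finset.sum_add_distrib]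
    exact Finset.sum_congr rfl fun i _ => P_add φ w₂ w₀ i (y i) (z i)
  rw [hC, ← hB] at hA
  rw [hD]
  have : T φ w₂ y w₀ = T φ w₁ y w₀ + (T φ w₂ z w₁ - T φ w₂ z w₀) := by
    rw [← hA]; abel
  rw [this]
  abel

end Helpers

/-- Let A be a commutative ring, α ∈ A a non-zero-divisor, M_1, …, M_r and N modules over A and φ : M_1
× ⋯ × M_r → N an A-multilinear map. Let n be a natural number and let y_{i,j} (j < n) and w_{i,j} (j
≤ n) be elements of M_i with w_{i,j+1} = w_{i,j} + α y_{i,j} for all i and all j < n. Then Σ_i
Σ_{j<n} φ(w_{1,j+1}, …, w_{i-1,j+1}, y_{i,j}, w_{i+1,j}, …, w_{r,j}) = Σ_i Σ_{j<n} φ(w_{1,n}, …,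
w_{i-1,n}, y_{i,j}, w_{i+1,0}, …, w_{r,0}). (The published statement takes n ≥ 1; for n = 0 both
sides are empty sums. The families y, w are indexed by all natural numbers here and only the indices
named above enter.) -/
theorem result {A : Type u} [CommRing A] (α : A) (hα : α ∈ nonZeroDivisors A)
    {r : ℕ} (M : Fin r → Type v) (N : Type w) [∀ i, AddCommGroup (M i)] [∀ i, Module A (M i)]
    [AddCommGroup N] [Module A N] (φ : MultilinearMap A M N) (n : ℕ)
    (y w : ∀ i, ℕ → M i) (hw : ∀ i, ∀ j < n, w i (j + 1) = w i j + α • y i j) :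
    (∑ i : Fin r, ∑ j ∈ Finset.range n,
        φ (fun k => if k < i then w k (j + 1) else if k = i then y k j else w k j)) =
      ∑ i : Fin r, ∑ j ∈ Finset.range n,
        φ (fun k => if k < i then w k n else if k = i then y k j else w k 0) := by
  have hsum : ∀ m ≤ n, ∀ i, w i m = w i 0 + α • ∑ j ∈ Finset.range m, y i j := by
    intro m
    induction m with
    | zero => intro _ i; simp
    | succ m ih =>
      intro hm i
      rw [hw i m hm, ih (Nat.le_of_succ_le hm) i, Finset.sum_range_succ, smul_add, add_assoc]
  have hR : ∀ m, (∑ i : Fin r, ∑ j ∈ Finset.range m,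
      φ (fun k => if k < i then w k m else if k = i then y k j else w k 0)) =
      T φ (fun k => w k m) (fun k => ∑ j ∈ Finset.range m, y k j) (fun k => w k 0) := by
    intro m
    unfold T
    refine Finset.sum_congr rfl fun i _ => ?_
    rw [P_sum]
    exact Finset.sum_congr rfl fun j _ => P_eq φ (fun k => w k m) (fun k => y k j) (fun k => w k 0) i
  suffices H : ∀ m ≤ n, (∑ i : Fin r, ∑ j ∈ Finset.range m,
      φ (fun k => if k < i then w k (j + 1) else if k = i then y k j else w k j)) =
      T φ (fun k => w k m) (fun k => ∑ j ∈ Finset.range m, y k j) (fun k => w k 0) by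
    rw [H n le_rfl, hR n]
  intro m
  induction m with
  | zero =>
    intro _
    rw [← hR 0]
    simp
  | succ m ih =>
    intro hm
    have hm' : m ≤ n := Nat.le_of_succ_le hm
    have e1 : (∑ i : Fin r, ∑ j ∈ Finset.range (m + 1),
        φ (fun k => if k < i then w k (j + 1) else if k = i then y k j else w k j)) =
        T φ (fun k => w k m) (fun k => ∑ j ∈ Finset.range m, y k j) (fun k => w k 0) +
        T φ (fun k => w k (m + 1)) (fun k => y k m) (fun k => w k m) := by
      rw [← ih hm']
      unfold T
      rw [← Finset.sum_add_distrib]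
      refine Finset.sum_congr rfl fun i _ => ?_
      rw [Finset.sum_range_succ, P_eq φ (fun k => w k (m + 1)) (fun k => y k m) (fun k => w k m) i]
    rw [e1, ← T_cocycle φ α (fun k => w k (m + 1)) (fun k => y k m) (fun k => w k m)
      (fun k => ∑ j ∈ Finset.range m, y k j) (fun k => w k 0) (fun i => hw i m hm)
      (fun i => hsum m hm' i)]
    congr 1
    funext k
    rw [Finset.sum_range_succ]
    rfl

end Groth.Agent.S13682
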