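import Groth.Statements.S13683
-- import your own Groth.Agent.* helpers here

set_option autoImplicit false
universe u v
open BTGrp

namespace Groth.Agent.S13683

private theorem iter_VF {A : Type*} [AddCommGroup A] (p : ℕ) (F V : A →+ A)
    (hVF : ∀ x : A, V (F x) = p • x) (n : ℕ) (x : A) :
    (⇑V)^[n] ((⇑F)^[n] x) = p ^ n • x := by
  induction n with
  | zero => simp
  | succ n ih =>
    rw [Function.iterate_succ_apply, Function.iterate_succ_apply', hVF]
    have : ∀ (k : ℕ) (y : A), (⇑V)^[n] (k • y) = k • (⇑V)^[n] y := by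
      intro k y
      exact map_nsmul (show A →+ A from AddMonoidHom.mk' ((⇑V)^[n]) (iterate_map_add V n)) k y
    rw [this, ih, smul_smul, pow_succ']

private theorem iter_phi {r : ℕ}
    (M : Fin r → Type u) (N : Type v) [∀ i, AddCommGroup (M i)] [AddCommGroup N]
    (V : ∀ i, M i →+ M i) (V₀ : N →+ N) (φ : MultilinearMap ℤ M N)
    (hφ : ∀ x : ∀ i, M i, φ (fun i => V i (x i)) = V₀ (φ x)) (n : ℕ) (x : ∀ i, M i) :
    φ (fun i => (⇑(V i))^[n] (x i)) = (⇑V₀)^[n] (φ x) := by
  induction n with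
  | zero => rfl
  | succ n ih =>
    rw [Function.iterate_succ_apply', ← ih, ← hφ]
    congr 1
    funext i
    rw [Function.iterate_succ_apply']

/-- Let p be a natural number and r ≥ 1; let M_1, …, M_r and N be abelian groups carrying additive
endomorphisms F_i, V_i (on M_i) and F_0, V_0 (on N) with V_i ∘ F_i and V_0 ∘ F_0 equal to
multiplication by p and V_0 injective; let φ : M_1 × ⋯ × M_r → N be additive in each variable with
φ(V_1 x_1, …, V_r x_r) = V_0 φ(x_1, …, x_r). If y_i, z_i ∈ M_i satisfy F_i^N z_i = V_i^M y_i for all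
i, then for every d ∈ N^r one has F_0^N (p^{(r-1)N} φ(V_1^{d_1} z_1, …, V_r^{d_r} z_r)) = V_0^M
φ(V_1^{d_1} y_1, …, V_r^{d_r} y_r). (The published statement is the case of Dieudonné modules over a
perfect field of characteristic p, with F and V the Frobenius and Verschiebung and φ a multilinear
morphism of the associated displays; only the structure listed here enters its proof. For r = 0 the
assertion fails, so r ≥ 1 is required.) -/
theorem result (p : ℕ) {r : ℕ} (hr : 0 < r)
    (M : Fin r → Type u) (N : Type v) [∀ i, AddCommGroup (M i)] [AddCommGroup N]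
    (F V : ∀ i, M i →+ M i) (F₀ V₀ : N →+ N)
    (hVF : ∀ i (x : M i), V i (F i x) = p • x) (hVF₀ : ∀ x : N, V₀ (F₀ x) = p • x)
    (hV₀ : Function.Injective V₀)
    (φ : MultilinearMap ℤ M N) (hφ : ∀ x : ∀ i, M i, φ (fun i => V i (x i)) = V₀ (φ x))
    (Nn Mm : ℕ) (d : Fin r → ℕ) (y z : ∀ i, M i)
    (hyz : ∀ i, (⇑(F i))^[Nn] (z i) = (⇑(V i))^[Mm] (y i)) :
    (⇑F₀)^[Nn] (p ^ ((r - 1) * Nn) • φ (fun i => (⇑(V i))^[d i] (z i))) =
      (⇑V₀)^[Mm] (φ (fun i => (⇑(V i))^[d i] (y i))) := by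
  have hinj : Function.Injective ((⇑V₀)^[Nn]) := hV₀.iterate Nn
  apply hinj
  rw [iter_VF p F₀ V₀ hVF₀, ← Function.iterate_add_apply,
    ← iter_phi M N V V₀ φ hφ (Nn + Mm) (fun i => (⇑(V i))^[d i] (y i))]
  have key : (fun i => (⇑(V i))^[Nn + Mm] ((⇑(V i))^[d i] (y i))) =
      fun i => ((p : ℤ) ^ Nn) • (⇑(V i))^[d i] (z i) := by
    funext i
    rw [← Function.iterate_add_apply, show Nn + Mm + d i = d i + (Nn + Mm) by omega,
      Function.iterate_add_apply, Function.iterate_add_apply, ← hyz i,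
      iter_VF p (F i) (V i) (hVF i)]
    have := map_nsmul (show M i →+ M i from AddMonoidHom.mk' ((⇑(V i))^[d i])
      (iterate_map_add (V i) (d i))) (p ^ Nn) (z i)
    refine Eq.trans this ?_
    change p ^ Nn • (⇑(V i))^[d i] (z i) = _
    rw [← Nat.cast_pow, Nat.cast_smul_eq_nsmul]
  rw [key, φ.map_smul_univ (fun _ => (p : ℤ) ^ Nn), Finset.prod_const, Finset.card_univ,
    Fintype.card_fin, smul_smul, ← pow_add, ← pow_mul, ← Nat.cast_pow, Nat.cast_smul_eq_nsmul]
  congr 2
  obtain ⟨s, rfl⟩ := Nat.exists_eq_succ_of_ne_zero hr.ne'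
  rw [Nat.succ_sub_one, Nat.succ_eq_add_one]
  ring

end Groth.Agent.S13683
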