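import Groth.Statements.S13691
import Groth.Agent.ASBun.K790.Invar
import Groth.Agent.ASBun.K790.Line

set_option autoImplicit false
universe u
open CategoryTheory CategoryTheory.Limits AlgebraicGeometry
open ASBun

namespace Groth.Agent.S13691

open W4c1astiltbs12 in
/-- Let X be proper over a field k and K a separable closure of k such that X_K is connected, with
projection π : X_K → X, and write σ_X for the automorphism of X_K induced by a k-automorphism σ of
K. Let M be an indecomposable finite locally free O_X-module (nonzero, and in any decomposition as a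
direct sum one summand is zero) which splits over K into invertible modules with Galois-invariant
classes: π^*M ≅ L_1 ⊕ ⋯ ⊕ L_n with each L_i invertible and σ_X^*L_i ≅ L_i for all σ and i. Then M is
isotypical of invertible type: π^*M ≅ L^{⊕r} for some invertible O_{X_K}-module L and some r ≥ 1,
and L is unique up to isomorphism with this property. (The published statement omits the invariance
of the summands L_i, and is then contradicted by the direct image on an elliptic curve of the
invertible module of a point defined over a quadratic extension but not over k; its argument also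
treats invertible modules on X_K as indecomposable, whence the connectedness hypothesis.) -/
theorem result (k : Type u) [Field k]
    {X : Scheme.{u}} (p : X ⟶ Spec (CommRingCat.of k)) [IsProper p] (K : Type u) [Field K]
    [Algebra k K] [IsSepClosure k K] [ConnectedSpace ↥(W4bk4gw11416.baseChange p K)]
    (M : X.Modules) (hM : FlatMod.IsFinLocFree M)
    (hMi : (¬ IsZero M ∧ ∀ A B : X.Modules, Nonempty (M ≅ A ⊞ B) → IsZero A ∨ IsZero B))
    (n : ℕ) (Ls : Fin n → (W4bk4gw11416.baseChange p K).Modules) (hLs : ∀ i, PicF.IsInvertible (Ls i))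
    (hinv : ∀ (σ : K ≃ₐ[k] K) (i : Fin n),
      Nonempty ((Scheme.Modules.pullback (galAct p K σ)).obj (Ls i) ≅ Ls i))
    (e : Nonempty (bcMod p K M ≅ ∐ Ls)) :
    ∃ (L : (W4bk4gw11416.baseChange p K).Modules) (r : ℕ), PicF.IsInvertible L ∧ 0 < r ∧
      Nonempty (bcMod p K M ≅ pow L r) ∧
      ∀ (L' : (W4bk4gw11416.baseChange p K).Modules) (r' : ℕ), PicF.IsInvertible L' →
        Nonempty (bcMod p K M ≅ pow L' r') → Nonempty (L' ≅ L) := by
  obtain ⟨e⟩ := e
  have hMc := K790.Isotyp.isCoh_of_isFinLocFree hM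
  have hn := K790.Line.pos_of_iso_sigma p K hMc hMi e
  have hL0 := hLs ⟨0, hn⟩
  have hi0 := K790.Line.indec_of_isInvertible hL0
  obtain ⟨M₁, r, hM₁, hM₁i, hr, ⟨e₁⟩⟩ := K790.Invar.exists_indec_of_inv p K (Ls ⟨0, hn⟩)
    (K790.Isotyp.isFinLocFree_of_isInvertible hL0) hi0 (fun σ => hinv σ ⟨0, hn⟩)
  obtain ⟨f⟩ := K790.Line.nonempty_iso_of_sigma p K M₁ M (K790.Isotyp.isCoh_of_isFinLocFree hM₁) hMc hM₁i hMi
    Ls r ⟨0, hn⟩ e₁ e
  have e2 : bcMod p K M ≅ pow (Ls ⟨0, hn⟩) r := (Scheme.Modules.pullback _).mapIso f.symm ≪≫ e₁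
  have hbc0 : ¬ IsZero (bcMod p K M) := by
    intro h
    apply hi0.1
    have h1 : 𝟙 (pow (Ls ⟨0, hn⟩) r) = 0 := (h.of_iso e2.symm).eq_of_src _ _
    rw [IsZero.iff_id_eq_zero]
    calc 𝟙 (Ls ⟨0, hn⟩) = Limits.Sigma.ι (fun _ : Fin r => Ls ⟨0, hn⟩) ⟨0, hr⟩ ≫ 𝟙 _ ≫
          Limits.Sigma.desc (fun _ => 𝟙 (Ls ⟨0, hn⟩)) := by simp
      _ = 0 := by rw [h1]; simp
  refine ⟨Ls ⟨0, hn⟩, r, hL0, hr, ⟨e2⟩, fun L' r' hL' ⟨e'⟩ => ?_⟩
  have hbcc : Coh.IsCoh (bcMod p K M) := K790.Isotyp.isCoh_of_isFinLocFree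
    (Groth.Agent.Dcoh.FinLocFree.isFinLocFree_of_iso e2.symm
      (K790.Trace.isFinLocFree_pow (K790.Isotyp.isFinLocFree_of_isInvertible hL0) r))
  exact K790.Isotyp.nonempty_iso_of_pow_iso K (W4bk4gw11416.baseChangeTo p K) hbcc hbc0
    (K790.Line.indec_of_isInvertible hL') hi0 e' e2

end Groth.Agent.S13691
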