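import Groth.Statements.S19534
import Groth.Agent.ASBun.K792.EndBC
-- import your own Groth.Agent.* helpers here

set_option autoImplicit false
universe u
open CategoryTheory CategoryTheory.Limits AlgebraicGeometry
open ASBun

namespace Groth.Agent.S19534

attribute [local instance] Groth.Agent.CurvesC.LinMod.linearModules

open K792.EndPow K792.EndBC K792.EndLine in
theorem aux {k K : Type u} [Field k] [Field K] [Algebra k K] [IsAlgClosed K] {X X' : Scheme.{u}}
    [X.Over (Spec (CommRingCat.of k))] [X'.Over (Spec (CommRingCat.of K))] (π : X' ⟶ X)
    (sq : IsPullback π (X' ↘ Spec (CommRingCat.of K)) (X ↘ Spec (CommRingCat.of k))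
      (Spec.map (CommRingCat.ofHom (algebraMap k K)))) [CompactSpace X]
    [IsProper (X' ↘ Spec (CommRingCat.of K))] [IsIntegral X']
    (E : X.Modules) (hE : Coh.IsCoh E) (hE0 : ¬ IsZero E) (L : X'.Modules) (hL : PicF.IsInvertible L) (r : ℕ)
    (e : (Scheme.Modules.pullback π).obj E ≅ ∐ fun _ : Fin r => L) : IsSimpleRing (End E) := by
  let i1 : Algebra k (End ((Scheme.Modules.pullback π).obj E)) := algA (B := K) _
  have i2 := isScalarTower_end (A := k) (B := K) ((Scheme.Modules.pullback π).obj E)
  have hbc := isBaseChange_mapEnd π sq E hE
  have h0 : ¬ IsZero ((Scheme.Modules.pullback π).obj E) := by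
    intro h
    apply hE0
    rw [IsZero.iff_id_eq_zero] at h ⊢
    apply injective_of_isBaseChange (K := K) _ hbc
    rw [map_zero]
    exact ((Scheme.Modules.pullback π).map_id E).trans h
  have hr : Nonempty (Fin r) := by
    rw [← Fin.pos_iff_nonempty, Nat.pos_iff_ne_zero]
    rintro rfl
    apply h0
    refine IsZero.of_iso ?_ e
    rw [IsZero.iff_id_eq_zero]
    apply Sigma.hom_ext
    intro i
    exact i.elim0
  have hL1 : IsSimpleRing (End L) :=
    IsSimpleRing.of_ringEquiv (RingEquiv.ofBijective (algebraMap K (End L)) (bijective_algebraMap_end K hL))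
      inferInstance
  have h1 : IsSimpleRing (End ((Scheme.Modules.pullback π).obj E)) :=
    IsSimpleRing.of_ringEquiv (Dec.ofCoprodIso e).endRingEquiv.symm inferInstance
  exact isSimpleRing_of_isBaseChange (K := K) (mapEnd π sq E) hbc h1

open W4c1astiltbs12 in
/-- Let X be a proper, geometrically integral scheme over a field k, K an algebraic closure of k with
projection π : X_K → X, and E a nonzero finite locally free O_X-module which is absolutely
rank-one-isotypical: π^*E ≅ L^{⊕r} for some invertible O_{X_K}-module L and some natural number r.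
Then the endomorphism ring of E (multiplication = composition) is a simple ring. (The published
statement says that this ring is a central simple algebra over k; centrality over k and
finite-dimensionality are not stated here, only simplicity as a ring. Non-vanishing of E is part of
the definition of rank-one-isotypical there, the direct sum having at least one summand.) -/
theorem result (k : Type u) [Field k]
    {X : Scheme.{u}} (p : X ⟶ Spec (CommRingCat.of k)) [IsProper p] [GeometricallyIntegral p]
    (K : Type u) [Field K] [Algebra k K] [IsAlgClosure k K]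
    (E : X.Modules) (hE : FlatMod.IsFinLocFree E) (hE0 : ¬ IsZero E)
    (L : (W4bk4gw11416.baseChange p K).Modules) (hL : PicF.IsInvertible L) (r : ℕ)
    (e : Nonempty (bcMod p K E ≅ pow L r)) :
    IsSimpleRing (CategoryTheory.End E) := by
  obtain ⟨e⟩ := e
  have : IsAlgClosed K := IsAlgClosure.isAlgClosed k
  let o1 : X.Over (Spec (CommRingCat.of k)) := ⟨p⟩
  let o2 : (W4bk4gw11416.baseChange p K).Over (Spec (CommRingCat.of K)) :=
    ⟨pullback.snd p (Spec.map (CommRingCat.ofHom (algebraMap k K)))⟩
  have h1 : IsProper (X ↘ Spec (CommRingCat.of k)) := inferInstanceAs (IsProper p)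
  have h2 : IsProper (W4bk4gw11416.baseChange p K ↘ Spec (CommRingCat.of K)) :=
    inferInstanceAs (IsProper (pullback.snd p (Spec.map (CommRingCat.ofHom (algebraMap k K)))))
  have h3 : CompactSpace X := QuasiCompact.compactSpace_of_compactSpace p
  have h4 : IsIntegral (W4bk4gw11416.baseChange p K) := inferInstance
  exact aux (k := k) (K := K) (proj p K) (IsPullback.of_hasPullback p (Spec.map (CommRingCat.ofHom (algebraMap k K)))) E
    (PerfA.CohSerre.isCoh_of_isFinLocFree hE) hE0 L hL r e

end Groth.Agent.S19534
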