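import Groth.Statements.S13712
import Groth.Agent.ZeroCyc.K836.ImageIntegral
import Groth.Agent.S0593

set_option autoImplicit false
universe u
open CategoryTheory CategoryTheory.Limits AlgebraicGeometry
open ZeroCyc

namespace Groth.Agent.S13712

/-- Let f : X → Y and g : Y → S be morphisms of schemes with g separated, such that the composite X → S
is integral with topologically finite fibres (every fibre is a finite set). Then the
scheme-theoretic image Y' of f, with its closed immersion Y' → Y, is integral over S, and Y' → S
again has topologically finite fibres. (The published statement is for algebraic spaces; this row is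
the case of schemes.) -/
theorem result {X Y S : Scheme.{u}} (f : X ⟶ Y) (g : Y ⟶ S)
    [IsSeparated g] [IsIntegralHom (f ≫ g)] (hfin : ∀ s : S, Set.Finite ((f ≫ g).base ⁻¹' {s})) :
    IsIntegralHom (f.imageι ≫ g) ∧ ∀ s : S, Set.Finite ((f.imageι ≫ g).base ⁻¹' {s}) := by
  have hfg : IsIntegralHom (f ≫ g) := inferInstance
  have hsurj : Surjective f.toImage := K836.ImageIntegral.toImage_surjective f g inferInstance hfg
  have hcomp : f.toImage ≫ f.imageι ≫ g = f ≫ g := by
    rw [← Category.assoc, Scheme.Hom.toImage_imageι]
  refine ⟨K836.ImageIntegral.isIntegralHom_of_comp (fun X S f => Groth.Agent.S0593.result X S f)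
    f.toImage (f.imageι ≫ g) inferInstance hsurj (by rw [hcomp]; exact hfg), fun s => ?_⟩
  refine ((hfin s).image f.toImage.base).subset ?_
  intro y hy
  obtain ⟨x, rfl⟩ := hsurj.surj y
  refine ⟨x, ?_, rfl⟩
  have h1 : (f ≫ g).base x = (f.imageι ≫ g).base (f.toImage.base x) := by
    rw [← hcomp]
    rfl
  exact h1.trans hy

end Groth.Agent.S13712
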