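import Groth.Statements.S13720
import Mathlib.RingTheory.PolynomialLaw.Basic

set_option autoImplicit false
universe u
open scoped TensorProduct
open ZeroCyc

namespace Groth.Agent.S13720

/-- Let B be the filtered direct limit of a directed system (B_i, t_ij : B_i → B_j) of commutative
algebras over the commutative ring A, with structure maps φ_i : B_i → B (jointly surjective, and an
element of B_i vanishing in B already vanishes in some B_j), and let F : B → C be a multiplicative
polynomial law homogeneous of degree d, with restrictions F_i = F ∘ φ_i. Then an element b of B lies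
in the kernel of F if and only if it is the image of some x ∈ B_i whose images in B_j lie in the
kernel of F_j for every j ≥ i; that is, the kernel of F is the direct limit of the kernels of the
F_i. -/
theorem result {A : Type u} [CommRing A] {B : Type u} [CommRing B] [Algebra A B]
    {C : Type u} [CommRing C] [Algebra A C] {ι : Type u} [Preorder ι] [IsDirected ι (fun i j => i ≤ j)] [Nonempty ι]
    (Bi : ι → Type u) [∀ i, CommRing (Bi i)] [∀ i, Algebra A (Bi i)]
    (t : ∀ i j : ι, i ≤ j → (Bi i →ₐ[A] Bi j)) (φ : ∀ i : ι, Bi i →ₐ[A] B)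
    (hcomp : ∀ (i j : ι) (h : i ≤ j), (φ j).comp (t i j h) = φ i)
    (hsurj : ∀ b : B, ∃ (i : ι) (x : Bi i), φ i x = b)
    (hzero : ∀ (i : ι) (x : Bi i), φ i x = 0 → ∃ (j : ι) (h : i ≤ j), t i j h x = 0)
    {d : ℕ} (F : PolLaw.MulLaw A B C d) (b : B) :
    b ∈ PolLaw.ker F.law ↔ ∃ (i : ι) (x : Bi i), φ i x = b ∧
      ∀ (j : ι) (h : i ≤ j), t i j h x ∈ PolLaw.ker (F.precomp (φ j)).law := by
  have lift : ∀ (S : Type u) [CommSemiring S] [Algebra A S] (z : S ⊗[A] B) (i : ι),
      ∃ (j : ι) (_ : i ≤ j) (z' : S ⊗[A] (Bi j)), (φ j).toLinearMap.lTensor S z' = z := by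
    intro S _ _ z
    have push : ∀ (i j : ι) (h : i ≤ j) (z' : S ⊗[A] (Bi i)),
        (φ j).toLinearMap.lTensor S ((t i j h).toLinearMap.lTensor S z') = (φ i).toLinearMap.lTensor S z' := by
      intro i j h z'
      rw [← hcomp i j h, AlgHom.comp_toLinearMap, LinearMap.lTensor_comp]; rfl
    induction z using TensorProduct.induction_on with
    | zero => intro i; exact ⟨i, le_refl _, 0, map_zero _⟩
    | tmul s b =>
      intro i
      obtain ⟨k, x, rfl⟩ := hsurj b
      obtain ⟨j, hij, hkj⟩ := directed_of (fun i j => i ≤ j) i k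
      refine ⟨j, hij, s ⊗ₜ[A] (t k j hkj x), ?_⟩
      rw [LinearMap.lTensor_tmul, AlgHom.toLinearMap_apply, ← AlgHom.comp_apply, hcomp]
    | add x y hx hy =>
      intro i
      obtain ⟨j, hij, x', rfl⟩ := hx i
      obtain ⟨k, hjk, y', rfl⟩ := hy j
      refine ⟨k, hij.trans hjk, (t j k hjk).toLinearMap.lTensor S x' + y', ?_⟩
      rw [map_add, push]
  constructor
  · intro hb
    obtain ⟨i, x, hx⟩ := hsurj b
    refine ⟨i, x, hx, fun j h S _ _ x' w' => ?_⟩
    change F.law.toFun' S ((φ j).toLinearMap.lTensor S (x' + w' * (1 ⊗ₜ[A] (t i j h x)))) =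
      F.law.toFun' S ((φ j).toLinearMap.lTensor S x')
    have h1 : φ j (t i j h x) = b := by rw [← AlgHom.comp_apply, hcomp, hx]
    rw [PolLaw.lTensor_algHom_apply, map_add, map_mul, Algebra.TensorProduct.map_tmul, h1, map_one]
    exact hb S _ _
  · rintro ⟨i, x, hx, hk⟩ S _ _ X W
    obtain ⟨j, hij, X', rfl⟩ := lift S X i
    obtain ⟨k, hjk, W', rfl⟩ := lift S W j
    have h1 : φ k (t i k (hij.trans hjk) x) = b := by rw [← AlgHom.comp_apply, hcomp, hx]
    have h2 : (φ j).toLinearMap.lTensor S X' = (φ k).toLinearMap.lTensor S ((t j k hjk).toLinearMap.lTensor S X') := by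
      rw [← hcomp j k hjk, AlgHom.comp_toLinearMap, LinearMap.lTensor_comp]; rfl
    have h3 := hk k (hij.trans hjk) S ((t j k hjk).toLinearMap.lTensor S X') W'
    change F.law.toFun' S ((φ k).toLinearMap.lTensor S ((t j k hjk).toLinearMap.lTensor S X' +
      W' * (1 ⊗ₜ[A] (t i k (hij.trans hjk) x)))) =
      F.law.toFun' S ((φ k).toLinearMap.lTensor S ((t j k hjk).toLinearMap.lTensor S X')) at h3
    rw [PolLaw.lTensor_algHom_apply, map_add, map_mul, Algebra.TensorProduct.map_tmul, h1, map_one,
      ← PolLaw.lTensor_algHom_apply, ← PolLaw.lTensor_algHom_apply] at h3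
    rw [h2]
    exact h3

end Groth.Agent.S13720
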