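import Groth.Statements.S13723
import Groth.Agent.ZeroCyc.K447.Count

set_option autoImplicit false
universe u
open scoped TensorProduct
open ZeroCyc

namespace Groth.Agent.S13723

/-- Let F : B → A be a multiplicative polynomial law homogeneous of degree d over the commutative ring A
and let Z = Spec(B/ker F) be the image of the family of zero-cycles it defines. For every field K
and ring map A → K, the fibre Spec(K ⊗_A (B/ker F)) has finitely many points, at most d of them. In
particular every geometric fibre of Z → Spec A has at most d points and Z → Spec A has universally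
topologically finite fibres. -/
theorem result {A : Type u} [CommRing A] {B : Type u} [CommRing B] [Algebra A B]
    {d : ℕ} (F : PolLaw.MulLaw A B A d) (K : Type u) [Field K] [Algebra A K] :
    Finite (PrimeSpectrum (K ⊗[A] PolLaw.image F.law)) ∧
      Nat.card (PrimeSpectrum (K ⊗[A] PolLaw.image F.law)) ≤ d := by
  have e : Nonempty (PrimeSpectrum (K ⊗[A] PolLaw.image F.law) ≃
      PrimeSpectrum (PolLaw.image (K756.BC.bcm F K).law)) := by
    let φ : K ⊗[A] B →ₐ[A] K ⊗[A] PolLaw.image F.law :=
      Algebra.TensorProduct.map (AlgHom.id A K) (Ideal.Quotient.mkₐ A (PolLaw.ker F.law))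
    let ψ : K ⊗[A] B →+* PolLaw.image (K756.BC.bcm F K).law := Ideal.Quotient.mk _
    have hφ : Function.Surjective φ.toRingHom := by
      have := LinearMap.lTensor_surjective K (g := (Ideal.Quotient.mkₐ A (PolLaw.ker F.law)).toLinearMap)
        Ideal.Quotient.mk_surjective
      intro y
      obtain ⟨x, hx⟩ := this y
      exact ⟨x, hx⟩
    have hψ : Function.Surjective ψ := Ideal.Quotient.mk_surjective
    have hkφ : RingHom.ker φ.toRingHom =
        (PolLaw.ker F.law).map (Algebra.TensorProduct.includeRight : B →ₐ[A] K ⊗[A] B) := by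
      have := Algebra.TensorProduct.lTensor_ker (A := K) (Ideal.Quotient.mkₐ A (PolLaw.ker F.law))
        (Ideal.Quotient.mkₐ_surjective A _)
      have h0 : RingHom.ker (Ideal.Quotient.mkₐ A (PolLaw.ker F.law)) = PolLaw.ker F.law := Ideal.mk_ker
      rw [h0] at this
      exact this
    have hkψ : RingHom.ker ψ = PolLaw.kerBC F.law K := by
      rw [Ideal.mk_ker, K756.BC.ker_bcm]
    have h1 : Set.range (PrimeSpectrum.comap φ.toRingHom) = Set.range (PrimeSpectrum.comap ψ) := by
      rw [range_comap_of_surjective _ _ hφ, range_comap_of_surjective _ _ hψ,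
        hkφ, hkψ, ← PrimeSpectrum.zeroLocus_radical, ← K756.Rad.radical_kerBC,
        PrimeSpectrum.zeroLocus_radical]
    exact ⟨(Equiv.ofInjective _ (PrimeSpectrum.comap_injective_of_surjective _ hφ)).trans
      ((Equiv.setCongr h1).trans
        (Equiv.ofInjective _ (PrimeSpectrum.comap_injective_of_surjective _ hψ)).symm)⟩
  obtain ⟨e⟩ := e
  obtain ⟨G, hG⟩ := K447.ZDeg.exists_desc (K756.BC.bcm F K)
  obtain ⟨h1, h2⟩ := K447.ZCount.card_le_of_finset (K447.ZCount.card_le G hG)
  exact ⟨Finite.of_equiv _ e.symm, (Nat.card_congr e).trans_le h2⟩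

end Groth.Agent.S13723
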