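import Groth.Statements.S13724
import Groth.Agent.ZeroCyc.K447.Count
import Groth.Agent.S13723
import Mathlib.RingTheory.LocalRing.ResidueField.Fiber

set_option autoImplicit false
universe u
open scoped TensorProduct
open ZeroCyc

namespace Groth.Agent.S13724

/-- Let A be a commutative ring with finitely many maximal ideals, B a commutative A-algebra and F : B →
A a multiplicative polynomial law homogeneous of degree d. Then B/ker F, the coordinate ring of the
image of the family of zero-cycles defined by F, has finitely many maximal ideals. -/
theorem result {A : Type u} [CommRing A] [Finite (MaximalSpectrum A)] {B : Type u} [CommRing B] [Algebra A B]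
    {d : ℕ} (F : PolLaw.MulLaw A B A d) :
    Finite (MaximalSpectrum (PolLaw.image F.law)) := by
  classical
  have hint := K756.CharP.isIntegral_image F
  let C := PolLaw.image F.law
  -- every maximal ideal lies over a maximal ideal
  have key : (⋃ m : MaximalSpectrum A, (PrimeSpectrum.comap (algebraMap A C)) ⁻¹'
      {m.toPrimeSpectrum}).Finite := by
    refine Set.finite_iUnion fun m => ?_
    have h1 := (Groth.Agent.S13723.result F m.toPrimeSpectrum.asIdeal.ResidueField).1
    exact (Set.finite_coe_iff).mp
      (Finite.of_equiv _ (PrimeSpectrum.preimageEquivFiber A C m.toPrimeSpectrum).symm)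
  have hinj : Function.Injective (fun M : MaximalSpectrum C => M.toPrimeSpectrum) :=
    fun x y h => MaximalSpectrum.ext (congrArg PrimeSpectrum.asIdeal h)
  have hsub : Set.range (fun M : MaximalSpectrum C => M.toPrimeSpectrum) ⊆
      ⋃ m : MaximalSpectrum A, (PrimeSpectrum.comap (algebraMap A C)) ⁻¹' {m.toPrimeSpectrum} := by
    rintro _ ⟨M, rfl⟩
    have := M.isMaximal
    have hm : (M.asIdeal.comap (algebraMap A C)).IsMaximal :=
      Ideal.isMaximal_comap_of_isIntegral_of_isMaximal _
    exact Set.mem_iUnion.mpr ⟨⟨_, hm⟩, PrimeSpectrum.ext rfl⟩
  have hfin := (key.subset hsub).to_subtype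
  exact Finite.of_injective_finite_range hinj

end Groth.Agent.S13724
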