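import Groth.Statements.S13725
import Mathlib.RingTheory.AdjoinRoot
import Mathlib.Algebra.CharP.Lemmas
import Mathlib.Algebra.CharP.Algebra

set_option autoImplicit false
universe u
open scoped TensorProduct
open ZeroCyc

namespace Groth.Agent.S13725

/-- Let k be a field of characteristic p > 0 and let F : k → k be the law x ↦ x^p, multiplicative and
homogeneous of degree p over k. The kernel of F is the zero ideal, but after the flat base change k
→ A' = k[X]/(X^p) the kernel of the base-changed law on A' ⊗_k k is not zero (the class of X lies in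
it). So in characteristic p, forming the kernel of a multiplicative law is not compatible with flat
base change. -/
theorem result {k : Type u} [Field k] (p : ℕ) [Fact p.Prime] [CharP k p] :
    PolLaw.ker (PolLaw.MulLaw.pow k k p).law = ⊥ ∧
      PolLaw.kerBC (PolLaw.MulLaw.pow k k p).law (AdjoinRoot ((Polynomial.X : Polynomial k) ^ p)) ≠ ⊥ := by
  have hkT : ∀ (S : Type u) [CommSemiring S] [Algebra k S], ∀ x y : S ⊗[k] k, (x + y) ^ p = x ^ p + y ^ p := by
    intro S _ _ x y
    have : CharP (S ⊗[k] k) p ∨ Subsingleton (S ⊗[k] k) := by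
      cases subsingleton_or_nontrivial (S ⊗[k] k) with
      | inl h => exact Or.inr h
      | inr h => exact Or.inl (charP_of_injective_algebraMap (algebraMap k (S ⊗[k] k)).injective p)
    rcases this with h | h
    · exact add_pow_char _ _ p
    · exact Subsingleton.elim _ _
  have hp0 : p ≠ 0 := (Fact.out : p.Prime).ne_zero
  refine ⟨?_, ?_⟩
  · rw [eq_bot_iff]
    intro b hb
    have h := hb k 0 1
    change (0 + 1 * (1 : k) ⊗ₜ[k] b) ^ p = (0 : k ⊗[k] k) ^ p at h
    rw [zero_add, one_mul, zero_pow hp0, Algebra.TensorProduct.tmul_pow, one_pow] at h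
    have h2 := congrArg (TensorProduct.lid k k) h
    rw [TensorProduct.lid_tmul, map_zero, one_smul] at h2
    exact (pow_eq_zero_iff hp0).mp h2
  · intro hcon
    set A' := AdjoinRoot ((Polynomial.X : Polynomial k) ^ p) with hA'
    have hroot : (AdjoinRoot.root ((Polynomial.X : Polynomial k) ^ p)) ^ p = 0 := by
      have h1 := AdjoinRoot.eval₂_root ((Polynomial.X : Polynomial k) ^ p)
      rwa [Polynomial.eval₂_X_pow] at h1
    have hmem : (AdjoinRoot.root ((Polynomial.X : Polynomial k) ^ p)) ⊗ₜ[k] (1 : k) ∈
        PolLaw.kerBC (PolLaw.MulLaw.pow k k p).law A' := by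
      intro R _ _ _ _ x w
      change (x + w * _) ^ p = x ^ p
      rw [hkT, mul_pow, Algebra.TensorProduct.map_tmul, Algebra.TensorProduct.tmul_pow, ← map_pow,
        hroot, map_zero, TensorProduct.zero_tmul, mul_zero, add_zero]
    rw [hcon, Ideal.mem_bot] at hmem
    have h2 := congrArg (TensorProduct.rid k A') hmem
    rw [TensorProduct.rid_tmul, map_zero, one_smul] at h2
    have h3 : AdjoinRoot.mk ((Polynomial.X : Polynomial k) ^ p) Polynomial.X = 0 := by
      rw [AdjoinRoot.mk_X]; exact h2
    rw [AdjoinRoot.mk_eq_zero] at h3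
    have h4 := Polynomial.natDegree_le_of_dvd h3 Polynomial.X_ne_zero
    rw [Polynomial.natDegree_X_pow, Polynomial.natDegree_X] at h4
    have := (Fact.out : p.Prime).two_le
    omega

end Groth.Agent.S13725
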