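import Groth.Statements.S13730
import Groth.Agent.ZeroCyc.K758.GammaTS
import Groth.Agent.ZeroCyc.K758.TpowRed

set_option autoImplicit false
universe u
open scoped TensorProduct
open ZeroCyc

namespace Groth.Agent.S13730

/-- Let (C, γ) be the algebra of divided powers Γ^d_A(B) of a commutative A-algebra B with its universal
multiplicative law γ : B → C homogeneous of degree d (every multiplicative law B → C' homogeneous of
degree d factors uniquely through γ by an algebra map C → C'). If B is flat over A and K ⊗_A B is
reduced for every field K receiving a ring map from A (X = Spec B → S = Spec A is flat with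
geometrically reduced fibres), then K ⊗_A C is reduced for every such K: Γ^d_A(B) again has
geometrically reduced fibres over A. (The published statement is for a flat morphism of algebraic
spaces X → S with geometrically reduced fibres and also records that Γ^d(X/S) → S is flat; this row
is the affine case and states only the reducedness of the fibres, flatness of Γ^d_A(B) for flat B
being a separate statement.) -/
theorem result {A : Type u} [CommRing A] {B : Type u} [CommRing B] [Algebra A B] {C : Type u} [CommRing C] [Algebra A C]
    {d : ℕ} (γ : PolLaw.MulLaw A B C d) (hγ : PolLaw.IsGammaD γ) [Module.Flat A B]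
    (hred : ∀ (K : Type u) [Field K] [Algebra A K], IsReduced (K ⊗[A] B)) :
    ∀ (K : Type u) [Field K] [Algebra A K], IsReduced (K ⊗[A] C) := by
  intro K _ _
  obtain ⟨τ, -, -, hτ, -⟩ := K758.GammaTS.exists_tau_flat A B d
  obtain ⟨e, -⟩ := K758.GammaTS.exists_equiv γ hγ τ hτ
  have h1 : IsReduced (K ⊗[A] (⨂[A] _ : Fin d, B)) := K758.TpowRed.isReduced_tpow (fun K _ _ => hred K) d K
  let f : K ⊗[A] C →ₐ[A] K ⊗[A] (⨂[A] _ : Fin d, B) :=
    (Algebra.TensorProduct.map (AlgHom.id A K) (SymTen.TS A B d).val).comp
      (Algebra.TensorProduct.map (AlgHom.id A K) e.toAlgHom)
  have hf : Function.Injective f := by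
    have h2 : Function.Injective (Algebra.TensorProduct.map (AlgHom.id A K) (SymTen.TS A B d).val) := by
      have h3 := (K758.UnivTS.pureTS_of_flat A B d) K
      have h4 : ∀ z, (SymTen.TS A B d).val.toLinearMap.lTensor K z =
          Algebra.TensorProduct.map (AlgHom.id A K) (SymTen.TS A B d).val z := by
        intro z
        induction z using TensorProduct.induction_on with
        | zero => simp
        | tmul a b => rfl
        | add a b ha hb => simp only [map_add, ha, hb]
      intro x y hxy
      exact h3 (by rw [h4, h4, hxy])
    have h5 : Function.Injective (Algebra.TensorProduct.map (AlgHom.id A K) e.toAlgHom) := by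
      have h3 : Function.Injective (e.toLinearEquiv.lTensor K) := (e.toLinearEquiv.lTensor K).injective
      have h4 : ∀ z, e.toLinearEquiv.lTensor K z = Algebra.TensorProduct.map (AlgHom.id A K) e.toAlgHom z := by
        intro z
        induction z using TensorProduct.induction_on with
        | zero => simp
        | tmul a b => rfl
        | add a b ha hb => simp only [map_add, ha, hb]
      intro x y hxy
      exact h3 (by rw [h4, h4, hxy])
    exact h2.comp h5
  exact isReduced_of_injective f.toRingHom hf

end Groth.Agent.S13730
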