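import Groth.Statements.S13735
import Groth.Agent.S14771
import Groth.Agent.S2562
import Groth.Agent.Sga3C.FlatOfComp
import Mathlib.AlgebraicGeometry.Morphisms.Flat
import Mathlib.RingTheory.Flat.TorsionFree

set_option autoImplicit false
universe u
open HTop

namespace Groth.Agent.S13735

open CategoryTheory CategoryTheory.Limits AlgebraicGeometry

theorem injective_of_surjective_specMap {A B : Type u} [CommRing A] [IsDomain A] [CommRing B]
    (ψ : Spec (CommRingCat.of B) ⟶ Spec (CommRingCat.of A)) [Surjective ψ] :
    ∃ θ : A →+* B, ψ = Spec.map (CommRingCat.ofHom θ) ∧ Function.Injective θ := by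
  obtain ⟨φ, rfl⟩ := Spec.map_surjective ψ
  refine ⟨φ.hom, rfl, ?_⟩
  obtain ⟨q, hq⟩ := (Spec.map φ).surjective (⟨⊥, Ideal.isPrime_bot⟩ : PrimeSpectrum A)
  rw [RingHom.injective_iff_ker_eq_bot, eq_bot_iff]
  have h1 : Ideal.comap φ.hom q.asIdeal = ⊥ := congrArg PrimeSpectrum.asIdeal hq
  rw [← h1]
  exact Ideal.ker_le_comap _

/-- Flatness over a discrete valuation ring can be checked after a surjective morphism of spectra of
discrete valuation rings. -/
theorem flat_of_flat_pullback {A B : Type u} [CommRing A] [IsDomain A] [IsDiscreteValuationRing A]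
    [CommRing B] [IsDomain B] (ψ : Spec (CommRingCat.of B) ⟶ Spec (CommRingCat.of A))
    [Surjective ψ] {X : Scheme.{u}} (p : X ⟶ Spec (CommRingCat.of A)) (h : Flat (pullback.snd p ψ)) :
    Flat p := by
  obtain ⟨θ, rfl, hθ⟩ := injective_of_surjective_specMap ψ
  have hflat : Flat (Spec.map (CommRingCat.ofHom θ)) := by
    rw [Flat.SpecMap_iff]
    let _ : Algebra A B := θ.toAlgebra
    change Module.Flat A B
    have h1 : Module.IsTorsionFree A B := by
      rw [Module.isTorsionFree_iff_algebraMap_injective]
      exact hθ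
    infer_instance
  have h1 : Flat (pullback.fst p (Spec.map (CommRingCat.ofHom θ)) ≫ p) := by
    rw [pullback.condition]
    infer_instance
  exact Groth.Agent.Sga3C.FlatOfComp.flat_of_comp (pullback.fst p (Spec.map (CommRingCat.ofHom θ))) p

open CategoryTheory CategoryTheory.Limits AlgebraicGeometry in
/-- Let S be a separated reduced Noetherian scheme, f : X → S a separated morphism locally of finite
type and g : S' → S a separated morphism of finite type which is universally submersive (an
h-covering). If the base change of f along g is flat, then f is flat. -/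
theorem result {X S S' : Scheme.{u}} [IsNoetherian S] [IsReduced S] [S.IsSeparated] (f : X ⟶ S) [LocallyOfFiniteType f] [IsSeparated f] (g : S' ⟶ S) [LocallyOfFiniteType g] [QuasiCompact g] [IsSeparated g] (hg : SGA1.UnivSubmersive g) (hflat : Flat (pullback.snd f g)) : Flat f := by
  have hfp : LocallyOfFinitePresentation f := inferInstance
  rw [Flat.iff_flat_stalkMap]
  intro x
  rw [Groth.Agent.S2562.result f x]
  intro A' i1 i2 i3 φ i4 x' _ _
  set h : Spec (CommRingCat.of A') ⟶ S := Spec.map (CommRingCat.ofHom φ) ≫ S.fromSpecStalk (f.base x)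
  have H := ((Groth.Agent.S14771.result g).out 0 2 :)
  obtain ⟨R', j1, j2, j3, l, ψ, hψ, hl⟩ := (H.1 hg) A' h
  have h1 : Flat (pullback.snd f (ψ ≫ h)) := by
    rw [← hl, ← pullbackLeftPullbackSndIso_inv_snd_snd f g l]
    infer_instance
  have h2 : Flat (pullback.snd (pullback.snd f h) ψ) := by
    rw [← pullbackLeftPullbackSndIso_hom_snd f h ψ]
    infer_instance
  have h3 := flat_of_flat_pullback ψ (pullback.snd f h) h2
  exact Flat.stalkMap _ _

end Groth.Agent.S13735
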