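import Groth.Statements.S13736
import Groth.Agent.HTop.K348.USub
import Groth.Agent.S1454
import Groth.Agent.S14770

set_option autoImplicit false
universe u
open HTop

namespace Groth.Agent.S13736

open CategoryTheory CategoryTheory.Limits AlgebraicGeometry in
/-- Let X be a separated irreducible Noetherian scheme whose local rings are all geometrically
unibranch, and {p_i : U_i → X} a finite family of separated quasi-finite morphisms of finite type
with every U_i irreducible. Then the induced morphism from the disjoint union of the U_i to X is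
universally submersive (a qfh-covering) if and only if the dominant members p_i are jointly
surjective onto X; in that case the induced morphism from the disjoint union of the dominant members
alone is already universally submersive. (The published statement does not require the U_i
irreducible; for the affine line X over a field and the single member U = (X minus a closed point) ⊔
(that point) → X, which is dominant and surjective, the quotient property fails, and the published
proof uses that every irreducible component of a dominant member dominates X, so the members are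
taken irreducible here.) -/
theorem result {X : Scheme.{u}} [IsNoetherian X] [X.IsSeparated] [IrreducibleSpace ↥X] (hX : ∀ x : X, CAlg2.IsGeomUnibranch (X.presheaf.stalk x)) (E : PreZeroHypercover.{u} X) [Finite E.I₀] [∀ i, LocallyOfFiniteType (E.f i)] [∀ i, QuasiCompact (E.f i)] [∀ i, LocallyQuasiFinite (E.f i)] [∀ i, IsSeparated (E.f i)] [∀ i, IrreducibleSpace ↥(E.X i)] : (SGA1.UnivSubmersive (Sigma.desc E.f) ↔ ∀ x : X, ∃ (i : E.I₀) (u : E.X i), IsDominant (E.f i) ∧ E.f i u = x) ∧ ((∀ x : X, ∃ (i : E.I₀) (u : E.X i), IsDominant (E.f i) ∧ E.f i u = x) → SGA1.UnivSubmersive (Sigma.desc fun j : {i : E.I₀ // IsDominant (E.f i)} => E.f j.1)) := by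
  classical
  have hopen : ∀ i, IsDominant (E.f i) → UniversallyOpen (E.f i) := by
    intro i hi
    refine Groth.Agent.S1454.result (E.f i) hX ?_
    intro Z hZ x hx
    have hZ' : Z = Set.univ := by
      rw [irreducibleComponents_eq_singleton] at hZ
      exact hZ
    subst hZ'
    refine ⟨Set.univ, by rw [irreducibleComponents_eq_singleton]; rfl, ?_⟩
    have h1 : closure ({x} : Set (E.X i)) = Set.univ := hx
    have h2 : closure (Set.range (E.f i)) = Set.univ := (E.f i).denseRange.closure_range
    refine Set.eq_univ_of_univ_subset ?_
    rw [← h2, ← Set.image_univ, ← h1]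
    refine closure_minimal ?_ isClosed_closure
    exact (image_closure_subset_closure_image (E.f i).continuous).trans (by rw [Set.image_singleton])
  have hB : (∀ x : X, ∃ (i : E.I₀) (u : E.X i), IsDominant (E.f i) ∧ E.f i u = x) →
      SGA1.UnivSubmersive (Sigma.desc fun j : {i : E.I₀ // IsDominant (E.f i)} => E.f j.1) := by
    intro h
    have h1 : UniversallyOpen (Sigma.desc fun j : {i : E.I₀ // IsDominant (E.f i)} => E.f j.1) :=
      IsZariskiLocalAtSource.sigmaDesc (fun j => hopen j.1 j.2)
    have h2 : Surjective (Sigma.desc fun j : {i : E.I₀ // IsDominant (E.f i)} => E.f j.1) := by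
      refine Surjective.sigmaDesc_of_union_range_eq_univ ?_
      refine Set.eq_univ_of_forall fun x => ?_
      obtain ⟨i, u, hi, hu⟩ := h x
      exact Set.mem_iUnion.mpr ⟨⟨i, hi⟩, u, hu⟩
    exact K348.USub.of_universallyOpen _
  refine ⟨⟨fun h x => ?_, fun h => ?_⟩, hB⟩
  · have hqc : QuasiCompact (Sigma.desc E.f) := by
      have hc : ∀ i, CompactSpace (E.X i) := fun i =>
        QuasiCompact.compactSpace_of_compactSpace (E.f i)
      rw [quasiCompact_iff_compactSpace]
      refine ⟨?_⟩
      have hU : (Set.univ : Set ↥(∐ E.X)) = ⋃ i, Set.range (Sigma.ι E.X i) := by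
        refine (Set.eq_univ_of_forall fun b => ?_).symm
        obtain ⟨i, v, h⟩ : ∃ (i : E.I₀) (v : E.X i), Sigma.ι E.X i v = b := by
          obtain ⟨i, v, h⟩ := (sigmaOpenCover E.X).exists_eq b
          exact ⟨i, v, h⟩
        exact Set.mem_iUnion.mpr ⟨i, v, h⟩
      rw [hU]
      exact isCompact_iUnion fun i => isCompact_range (Sigma.ι E.X i).continuous
    have hs := MorphismProperty.universally_le _ _ ((Groth.Agent.S14770.result (Sigma.desc E.f)).mp h)
    obtain ⟨b, a, hab, hb, ha⟩ := hs (genericPoint_specializes x)
    obtain ⟨i, v, rfl⟩ : ∃ (i : E.I₀) (v : E.X i), Sigma.ι E.X i v = b := by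
      obtain ⟨i, v, h⟩ := (sigmaOpenCover E.X).exists_eq b
      exact ⟨i, v, h⟩
    have hav : a ∈ (Sigma.ι E.X i).opensRange :=
      hab.mem_open (Sigma.ι E.X i).opensRange.isOpen ⟨v, rfl⟩
    obtain ⟨w, rfl⟩ := hav
    have hb' : E.f i v = x := by
      rw [← hb, ← Sigma.ι_desc E.f i, Scheme.Hom.comp_apply]
    have ha' : E.f i w = genericPoint X := by
      rw [← ha, ← Sigma.ι_desc E.f i, Scheme.Hom.comp_apply]
    refine ⟨i, v, ⟨?_⟩, hb'⟩
    rw [DenseRange, dense_iff_closure_eq, Set.eq_univ_iff_forall]
    intro y
    have hy : y ∈ closure {genericPoint X} := (genericPoint_specializes y).mem_closure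
    refine closure_mono ?_ hy
    rw [Set.singleton_subset_iff, ← ha']
    exact ⟨w, rfl⟩
  · -- the family of dominant members refines the whole family
    let l : (∐ fun j : {i : E.I₀ // IsDominant (E.f i)} => E.X j.1) ⟶ ∐ E.X :=
      Sigma.desc fun j => Sigma.ι E.X j.1
    have hl : l ≫ Sigma.desc E.f =
        Sigma.desc fun j : {i : E.I₀ // IsDominant (E.f i)} => E.f j.1 := by
      apply Sigma.hom_ext
      intro j
      simp [l]
    exact K348.USub.of_comp (f := l) (by rw [hl]; exact hB h)

end Groth.Agent.S13736
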