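import Groth.Statements.S13742
import Groth.Agent.CycB.PushDrop

set_option autoImplicit false
universe u
open Cyc

namespace Groth.Agent.S13742

open CategoryTheory CategoryTheory.Limits AlgebraicGeometry in
/-- Let S be a separated Noetherian scheme, f : X → S separated of finite type, z a point of X mapping
to a generic point of an irreducible component of S, and ι : Z → X a closed immersion from a reduced
scheme with image the closure of z (the closure of z with its reduced structure). Then Z ×_S Spec
k(f z) is an integral scheme, and its image in the fibre X ×_S Spec k(f z) is the closure of the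
unique point w of that fibre lying over z: Z ×_S Spec k(f z) is the closure of z in its fibre, with
reduced structure. -/
theorem result {X S Z : Scheme.{u}} [IsNoetherian S] [S.IsSeparated] [X.IsSeparated] (f : X ⟶ S) [LocallyOfFiniteType f] [QuasiCompact f] (z : X) (hz : closure {f z} ∈ irreducibleComponents ↥S) (ι : Z ⟶ X) [IsClosedImmersion ι] [IsReduced Z] (hZ : Set.range ι = closure {z}) : IsIntegral (pullback (ι ≫ f) (S.fromSpecResidueField (f z))) ∧ ∃ w : ↥(pullback f (S.fromSpecResidueField (f z))), pullback.fst f (S.fromSpecResidueField (f z)) w = z ∧ Set.range (pullback.map (ι ≫ f) (S.fromSpecResidueField (f z)) f (S.fromSpecResidueField (f z)) ι (𝟙 _) (𝟙 S) (Category.comp_id _) ((Category.comp_id _).trans (Category.id_comp _).symm)) = closure {w} := by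
  have hzmem : z ∈ Set.range ι := by rw [hZ]; exact subset_closure rfl
  obtain ⟨ζ, hζ⟩ := hzmem
  have hsp : ∀ z' : Z, ζ ⤳ z' := by
    intro z'
    rw [← ι.isEmbedding.isInducing.specializes_iff, specializes_iff_mem_closure, hζ, ← hZ]
    exact ⟨z', rfl⟩
  have hcl : closure {ζ} = (Set.univ : Set Z) := by
    rw [Set.eq_univ_iff_forall]
    intro z'
    exact (hsp z').mem_closure
  have hirr : IrreducibleSpace Z := by
    rw [irreducibleSpace_def]
    change IsIrreducible (Set.univ : Set Z)
    rw [← hcl]
    exact isIrreducible_singleton.closure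
  have hint : IsIntegral Z := isIntegral_of_irreducibleSpace_of_isReduced _
  have hgen : ζ = genericPoint Z :=
    ((hsp _).antisymm ((genericPoint_spec Z).specializes trivial)).eq
  have hfz : (ι ≫ f) ζ = f z := by rw [Scheme.Hom.comp_apply, hζ]
  obtain ⟨c₀, hc₀⟩ : ∃ c₀ : (ι ≫ f).fiber (f z), (ι ≫ f).fiberι (f z) c₀ = ζ := by
    have : ζ ∈ Set.range ((ι ≫ f).fiberι (f z)) := by
      rw [Scheme.Hom.range_fiberι]
      exact hfz
    exact this
  have hc : (ι ≫ f).fiberι (f z) c₀ = genericPoint Z := hc₀.trans hgen
  have h1 : IsIntegral ((ι ≫ f).fiber (f z)) := Groth.Agent.CycB.PushDrop.isIntegral_fiber (ι ≫ f) hc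
  refine ⟨h1, pullback.map (ι ≫ f) (S.fromSpecResidueField (f z)) f (S.fromSpecResidueField (f z)) ι
    (𝟙 _) (𝟙 S) (Category.comp_id _) ((Category.comp_id _).trans (Category.id_comp _).symm) c₀, ?_, ?_⟩
  · rw [← Scheme.Hom.comp_apply, pullback.lift_fst, Scheme.Hom.comp_apply]
    change ι ((ι ≫ f).fiberι (f z) c₀) = z
    rw [hc₀, hζ]
  · set m := pullback.map (ι ≫ f) (S.fromSpecResidueField (f z)) f (S.fromSpecResidueField (f z)) ι
      (𝟙 _) (𝟙 S) (Category.comp_id _) ((Category.comp_id _).trans (Category.id_comp _).symm) with hm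
    have hsq : IsPullback m (pullback.fst (ι ≫ f) (S.fromSpecResidueField (f z)))
        (pullback.fst f (S.fromSpecResidueField (f z))) ι := by
      refine IsPullback.of_right (h₁₂ := pullback.snd f (S.fromSpecResidueField (f z)))
        (h₂₂ := f) (v₁₃ := S.fromSpecResidueField (f z)) ?_ ?_ (IsPullback.of_hasPullback _ _).flip
      · have e : m ≫ pullback.snd f (S.fromSpecResidueField (f z)) =
            pullback.snd (ι ≫ f) (S.fromSpecResidueField (f z)) := by
          rw [hm, pullback.lift_snd, Category.comp_id]
        rw [e]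
        exact (IsPullback.of_hasPullback _ _).flip
      · rw [hm, pullback.lift_fst]
    have hcm : IsClosedImmersion m := MorphismProperty.of_isPullback hsq.flip inferInstance
    refine le_antisymm ?_ ?_
    · rintro _ ⟨c, rfl⟩
      exact ((Groth.Agent.CycB.PushDrop.specializes_fiber (ι ≫ f) hc c).map m.continuous).mem_closure
    · refine closure_minimal ?_ m.isClosedEmbedding.isClosed_range
      rintro _ rfl
      exact ⟨c₀, rfl⟩

end Groth.Agent.S13742
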