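import Groth.Statements.S13743
import Groth.Agent.Cyc.K91.Closed

set_option autoImplicit false
universe u
open Cyc

namespace Groth.Agent.S13743

open CategoryTheory CategoryTheory.Limits AlgebraicGeometry in
/-- Let S be a separated reduced Noetherian scheme, f : X → S separated of finite type, r a natural
number, and W₁ = Σ_a n₁(a) Z₁(a), W₂ = Σ_a n₂(a) Z₂(a) finite combinations with natural-number
coefficients of closed subschemes of X, each flat over S with all irreducible components of all its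
fibres of dimension r. For a point x of X over s, the coefficient at x of the cycle of the fibre of
W_k over s is Σ_a n_k(a) times the length of O_{Z_k(a),x} modulo the maximal ideal of O_{S,s} (read
as 0 when x is not in Z_k(a) or the length is infinite). Then the set of points s of S over which
every coefficient of W₁ is at least that of W₂ (the difference of the fibre cycles is effective) is
closed. -/
theorem result {X S : Scheme.{u}} [IsNoetherian S] [IsReduced S] [S.IsSeparated] [X.IsSeparated] (f : X ⟶ S) [LocallyOfFiniteType f] [QuasiCompact f] (r : ℕ) {m₁ m₂ : ℕ} (Z₁ : Fin m₁ → Scheme.{u}) (ι₁ : ∀ a, Z₁ a ⟶ X) (n₁ : Fin m₁ → ℕ) (Z₂ : Fin m₂ → Scheme.{u}) (ι₂ : ∀ a, Z₂ a ⟶ X) (n₂ : Fin m₂ → ℕ) [∀ a, IsClosedImmersion (ι₁ a)] [∀ a, IsClosedImmersion (ι₂ a)] [∀ a, Flat (ι₁ a ≫ f)] [∀ a, Flat (ι₂ a ≫ f)] (h₁ : ∀ a, Cyc.HasRelDim (ι₁ a ≫ f) r) (h₂ : ∀ a, Cyc.HasRelDim (ι₂ a ≫ f) r) : IsClosed {s : ↥S | ∀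 x : X, f x = s → ∑ a, n₂ a * ∑ᶠ z ∈ {z : ↥(Z₂ a) | ι₂ a z = x}, (Cyc.pullFun (ι₂ a ≫ f) (fun _ => 0) (fun _ => 0) 0 (fun _ => 1) z).toNat ≤ ∑ a, n₁ a * ∑ᶠ z ∈ {z : ↥(Z₁ a) | ι₁ a z = x}, (Cyc.pullFun (ι₁ a ≫ f) (fun _ => 0) (fun _ => 0) 0 (fun _ => 1) z).toNat} := by
  have key : ∀ (m : ℕ) (Z : Fin m → Scheme.{u}) (ι : ∀ a, Z a ⟶ X) (n : Fin m → ℕ)
      (_ : ∀ a, IsClosedImmersion (ι a)) (x : X),
      (∑ a, n a * ∑ᶠ z ∈ {z : ↥(Z a) | ι a z = x}, (Cyc.pullFun (ι a ≫ f) (fun _ => 0)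
        (fun _ => 0) 0 (fun _ => 1) z).toNat) =
        ∑ a, n a * (Groth.Agent.Cyc.K91.FibMult.cI f (ι a).ker x).toNat := by
    intro m Z ι n _ x
    exact Finset.sum_congr rfl fun a _ => by
      rw [Groth.Agent.Cyc.K91.FibFin.finsum_pullFun (ι a) f x]
  have hN : ∀ (Z : Scheme.{u}) (i : Z ⟶ X) [IsClosedImmersion i], IsLocallyNoetherian Z :=
    fun Z i _ => LocallyOfFiniteType.isLocallyNoetherian (i ≫ f)
  let I : Fin m₁ ⊕ Fin m₂ → X.IdealSheafData := Sum.elim (fun a => (ι₁ a).ker) fun a => (ι₂ a).ker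
  let n : Fin m₁ ⊕ Fin m₂ → ℤ := Sum.elim (fun a => n₁ a) fun a => - (n₂ a : ℤ)
  have h := Groth.Agent.Cyc.K91.Closed.isClosed_coef_nonneg (f := f) (r := r) (I := I) (n := n)
    (by
      rintro (a | a)
      · exact Groth.Agent.Cyc.K91.FibFin.flat_subschemeι (ι₁ a) f
      · exact Groth.Agent.Cyc.K91.FibFin.flat_subschemeι (ι₂ a) f)
    (by
      rintro (a | a) x hx
      · have := hN _ (ι₁ a)
        exact Groth.Agent.Cyc.K91.FibFin.cI_ne_top_iff_rtd (ι₁ a) f (h₁ a) hx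
      · have := hN _ (ι₂ a)
        exact Groth.Agent.Cyc.K91.FibFin.cI_ne_top_iff_rtd (ι₂ a) f (h₂ a) hx)
    (by
      rintro (a | a) x hx
      · exact Groth.Agent.Cyc.K91.FibFin.rtd_le_of_mem (ι₁ a) f (h₁ a) hx
      · exact Groth.Agent.Cyc.K91.FibFin.rtd_le_of_mem (ι₂ a) f (h₂ a) hx)
  convert h using 1
  ext s
  refine forall_congr' fun x => forall_congr' fun _ => ?_
  rw [key m₂ Z₂ ι₂ n₂ inferInstance x, key m₁ Z₁ ι₁ n₁ inferInstance x]
  unfold Groth.Agent.Cyc.K91.Closed.coef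
  rw [Fintype.sum_sum_type]
  simp only [I, n, Sum.elim_inl, Sum.elim_inr]
  simp only [neg_mul, Finset.sum_neg_distrib]
  rw [← sub_eq_add_neg, sub_nonneg]
  exact_mod_cast Iff.rfl

end Groth.Agent.S13743
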