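import Groth.Statements.S13745
import Groth.Agent.Cyc.K91.FatMain

set_option autoImplicit false
universe u
open Cyc

namespace Groth.Agent.S13745

open CategoryTheory CategoryTheory.Limits AlgebraicGeometry in
/-- Let S be a separated Noetherian scheme reduced at the generic points of its irreducible components,
p : X → S separated of finite type, ι : Z → X a closed subscheme flat over S whose fibres have all
irreducible components of dimension r, and (x₀, x₁, R) a fat point of S over a field k: R a discrete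
valuation ring, x₁ : Spec R → S mapping the generic point to a generic point of an irreducible
component of S, x₀ : Spec k → Spec R onto the closed point. For ζ in Z let m_ζ be the length of
O_{Z,ζ} modulo the extension of the nilradical of O_{S,p ζ} (the multiplicity of ζ in the cycle of Z
×_S S_red; zero unless ζ is generic in Z), Z̄_ζ the closure of ζ in X with reduced structure, φ_ζ
the scheme-theoretic image in Z̄_ζ ×_S Spec R of its generic fibre (the flat closure), and c_ζ the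
canonical morphism from φ_ζ ×_{Spec R} Spec k to X ×_S Spec k (pinned by its projections). Then at
every point t of X ×_S Spec k, Σ_ζ m_ζ times the coefficient at t of the cycle of φ_ζ ×_{Spec R}
Spec k equals the coefficient at t of the cycle of Z ×_S Spec k (coefficients = lengths of local
rings, an infinite length read as 0): the fat-point pullback of the cycle of Z ×_S S_red is the
cycle of the fibre. -/
theorem result {X S Z : Scheme.{u}} [IsNoetherian S] [S.IsSeparated] [X.IsSeparated] (hS : ∀ s : ↥S, closure {s} ∈ irreducibleComponents ↥S → _root_.IsReduced ↑(S.presheaf.stalk s)) (p : X ⟶ S) [LocallyOfFiniteType p] [QuasiCompact p] (ι : Z ⟶ X) [IsClosedImmersion ι] [Flat (ι ≫ p)] (r : ℕ) (hZ : Cyc.HasRelDim (ι ≫ p) r) (R k : Type u) [CommRing R] [IsDomain R] [IsDiscreteValuationRing R] [Field k] (x₁ : Spec (CommRingCat.of R) ⟶ S) (x₀ : Spec (CommRingCat.of k) ⟶ Spec (CommRingCat.of R)) (hx₁ : closure {x₁ (genericPoint (PrimeSpectrum R))} ∈ irreducibleComponents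 ↥S) (hx₀ : x₀ (IsLocalRing.closedPoint k) = IsLocalRing.closedPoint R) (c : ∀ ζ : ↥Z, pullback ((pullback.map ((Scheme.IdealSheafData.vanishingIdeal (⟨closure {ι ζ}, isClosed_closure⟩ : TopologicalSpace.Closeds ↥X)).subschemeι ≫ p) (Spec.map (CommRingCat.ofHom (algebraMap R (FractionRing R))) ≫ x₁) ((Scheme.IdealSheafData.vanishingIdeal (⟨closure {ι ζ}, isClosed_closure⟩ : TopologicalSpace.Closeds ↥X)).subschemeι ≫ p) x₁ (𝟙 _) (Spec.map (CommRingCat.ofHom (algebraMap R (FractionRing R)))) (𝟙 S) ((Category.comp_id _).trans (Category.id_comp _).symm) (Category.comp_id _)).ker.subschemeι ≫ pullback.snd ((Scheme.IdealSheafData.vanishingIdeal (⟨closure {ι ζ}, isClosed_closure⟩ : TopologicalSpace.Closeds ↥X)).subschemeι ≫ p) x₁) x₀ ⟶ pullback p (x₀ ≫ x₁)) (hc₁ : ∀ ζ : ↥Z, c ζ ≫ pullback.fst p (x₀ ≫ x₁) = pullback.fst _ x₀ ≫ (pullback.map ((Scheme.IdealSheafData.vanishingIdeal (⟨closure {ι ζ}, isClosed_closure⟩ : TopologicalSpace.Closeds ↥X)).subschemeι ≫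 p) (Spec.map (CommRingCat.ofHom (algebraMap R (FractionRing R))) ≫ x₁) ((Scheme.IdealSheafData.vanishingIdeal (⟨closure {ι ζ}, isClosed_closure⟩ : TopologicalSpace.Closeds ↥X)).subschemeι ≫ p) x₁ (𝟙 _) (Spec.map (CommRingCat.ofHom (algebraMap R (FractionRing R)))) (𝟙 S) ((Category.comp_id _).trans (Category.id_comp _).symm) (Category.comp_id _)).ker.subschemeι ≫ pullback.fst ((Scheme.IdealSheafData.vanishingIdeal (⟨closure {ι ζ}, isClosed_closure⟩ : TopologicalSpace.Closeds ↥X)).subschemeι ≫ p) x₁ ≫ (Scheme.IdealSheafData.vanishingIdeal (⟨closure {ι ζ}, isClosed_closure⟩ : TopologicalSpace.Closeds ↥X)).subschemeι) (hc₂ : ∀ ζ : ↥Z, c ζ ≫ pullback.snd p (x₀ ≫ x₁) = pullback.snd _ x₀) (t : ↥(pullback p (x₀ ≫ x₁))) : ∑ᶠ ζ : ↥Z, ((Module.length (Z.presheaf.stalk ζ) (Z.presheaf.stalk ζ ⧸ Ideal.map ((ι ≫ p).stalkMap ζ).hom (nilradical (S.presheaf.stalk ((ι ≫ p) ζ))))).toNat : ℤ) * Cyc.subschemeFun (fun _ => (0 : ℤ)) 0 (c ζ) t = Cyc.subschemeFun (fun _ =>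 (0 : ℤ)) 0 (pullback.map (ι ≫ p) (x₀ ≫ x₁) p (x₀ ≫ x₁) ι (𝟙 _) (𝟙 S) (Category.comp_id _) ((Category.comp_id _).trans (Category.id_comp _).symm)) t := by
  classical
  have hNX : IsLocallyNoetherian X := LocallyOfFiniteType.isLocallyNoetherian p
  have hcX : CompactSpace X := QuasiCompact.compactSpace_of_compactSpace p
  have hNX' : AlgebraicGeometry.IsNoetherian X := {}
  have hNZ : TopologicalSpace.NoetherianSpace Z :=
    ι.isClosedEmbedding.isInducing.noetherianSpace
  let A : Finset Z := (Groth.Agent.Cyc.K91.FatGen.finite_mN (ι ≫ p)).toFinset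
  have hA : ∀ ζ : Z, ζ ∈ A ↔ (Groth.Agent.Cyc.K91.FatGen.mN (ι ≫ p) ζ).toNat ≠ 0 := by
    intro ζ
    rw [Set.Finite.mem_toFinset]
    exact Iff.rfl
  have sqk := Groth.Agent.Cyc.K91.FatPt.isPullback_gmap p x₁ x₀
  obtain ⟨e, he0, he⟩ := Groth.Agent.Cyc.K91.FibMult.exists_factor sqk t
  have hq₀ : pullback.snd p x₁ (Groth.Agent.Cyc.K91.FatPt.gmap p x₁ x₀ t) =
      IsLocalRing.closedPoint R := by
    have h1 := congr($(sqk.w) t)
    rw [Scheme.Hom.comp_apply, Scheme.Hom.comp_apply] at h1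
    rw [h1, ← hx₀]
    have : Subsingleton (Spec (CommRingCat.of k)) :=
      inferInstanceAs (Subsingleton (PrimeSpectrum k))
    exact congrArg x₀ (Subsingleton.elim _ _)
  have key := Groth.Agent.Cyc.K91.FatMain.toNat_eq_sum p x₁ ι r hZ
    (Groth.Agent.Cyc.K91.FatGen.eq_of_mem_irreducibleComponents hx₁) _ hq₀ A hA
  have hR : Cyc.subschemeFun (fun _ => (0 : ℤ)) 0
      (Groth.Agent.Cyc.K91.FatPt.vmap p (x₀ ≫ x₁) ι) t =
      (((Groth.Agent.Cyc.K91.FibMult.cI (pullback.snd p x₁) (ι.ker.comap (pullback.fst p x₁))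
        (Groth.Agent.Cyc.K91.FatPt.gmap p x₁ x₀ t)).toNat * e.toNat : ℕ) : ℤ) := by
    rw [Groth.Agent.Cyc.K91.FatPt.subschemeFun_eq, Groth.Agent.Cyc.K91.FatPt.ker_vmap,
      ← Groth.Agent.Cyc.K91.FatPt.cI_of_field (pullback.snd p (x₀ ≫ x₁)), ← ENat.toNat_mul,
      ← he, ← Scheme.IdealSheafData.comap_comp, pullback.lift_fst]
  have hL : ∀ ζ : Z, Cyc.subschemeFun (fun _ => (0 : ℤ)) 0 (c ζ) t =
      (((Groth.Agent.Cyc.K91.FibMult.cI (pullback.snd p x₁)
        (Groth.Agent.Cyc.K91.FatMain.PhiI p x₁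
          (Groth.Agent.Cyc.K91.RedStalk.redI (ι ζ)).subschemeι)
        (Groth.Agent.Cyc.K91.FatPt.gmap p x₁ x₀ t)).toNat * e.toNat : ℕ) : ℤ) := by
    intro ζ
    have sq := Groth.Agent.Cyc.K91.FatPt.isPullback_c p x₁ x₀ _ _ (c ζ)
      ((hc₁ ζ).trans (by simp only [Category.assoc])) (hc₂ ζ)
    have hcl : IsClosedImmersion (c ζ) :=
      MorphismProperty.of_isPullback (P := @IsClosedImmersion) sq inferInstance
    rw [Groth.Agent.Cyc.K91.FatPt.subschemeFun_eq, Groth.Agent.Fga.HilbClosed.ker_of_isPullback sq,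
      ← Groth.Agent.Cyc.K91.FatPt.cI_of_field (pullback.snd p (x₀ ≫ x₁)), ← ENat.toNat_mul, ← he]
  rw [show (pullback.map (ι ≫ p) (x₀ ≫ x₁) p (x₀ ≫ x₁) ι (𝟙 _) (𝟙 S) (Category.comp_id _)
    ((Category.comp_id _).trans (Category.id_comp _).symm)) =
      Groth.Agent.Cyc.K91.FatPt.vmap p (x₀ ≫ x₁) ι from rfl, hR, key]
  rw [finsum_eq_sum_of_support_subset (s := A)]
  · rw [Finset.sum_mul, Nat.cast_sum]
    refine Finset.sum_congr rfl fun ζ _ => ?_
    rw [hL ζ]
    push_cast
    rw [mul_assoc]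
    rfl
  · intro ζ hζ
    rw [Finset.mem_coe, hA]
    intro h0
    apply hζ
    have h1 : (Module.length (Z.presheaf.stalk ζ) (Z.presheaf.stalk ζ ⧸
      Ideal.map ((ι ≫ p).stalkMap ζ).hom (nilradical (S.presheaf.stalk ((ι ≫ p) ζ))))).toNat = 0 := h0
    simp only
    rw [h1]
    simp

end Groth.Agent.S13745
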