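import Groth.Statements.S13748
import Groth.Agent.SemiFact.K793.BlMain

set_option autoImplicit false
universe u
open CategoryTheory AlgebraicGeometry
open SemiFact

namespace Groth.Agent.S13748

/-- Let R be a discrete valuation ring with perfect fraction field K and residue field k, and let f : X
→ Spec R be a nodal curve (proper, flat, locally of finite presentation, geometric fibres connected
with one-dimensional irreducible components and at most ordinary double points) whose special fibre
X_k has split singularities: every closed point of X_k either has an open neighbourhood smooth over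
k or has completed local ring isomorphic over k to k[[u,v]]/(uv). Let Z be the set of points of the
special fibre at which the local ring of X is not regular (a finite set of closed points) and let b
: X' → X be the blowing-up of X in the reduced closed subscheme with support Z. Then X' is
semi-factorial over R: every invertible module on the generic fibre of X' is, up to isomorphism, the
restriction of an invertible module on X'. -/
theorem result
    (R : Type u) [CommRing R] [IsDomain R] [IsDiscreteValuationRing R]
    [PerfectField (FractionRing R)]
    {X X' : Scheme.{u}} (f : X ⟶ Spec (CommRingCat.of R)) [IsProper f]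
    (hf : Curv2.IsNodalFamily f)
    (hconn : ∀ (L : Type u) [Field L] (t : Spec (CommRingCat.of L) ⟶ Spec (CommRingCat.of R)),
      ConnectedSpace ↑(Limits.pullback f t))
    (hsplit : ∀ y : ↥(f.fiber (IsLocalRing.closedPoint R)), IsClosed ({y} : Set ↥(f.fiber (IsLocalRing.closedPoint R))) →
        (∃ V : (f.fiber (IsLocalRing.closedPoint R)).Opens, y ∈ V ∧ Smooth (V.ι ≫ f.fiberToSpecResidueField (IsLocalRing.closedPoint R))) ∨
        @Curv2.IsOrdDoublePt ((Spec (CommRingCat.of R)).residueField (IsLocalRing.closedPoint R)) _ ((f.fiber (IsLocalRing.closedPoint R)).presheaf.stalk y) _ (@Curv2.stalkAlgebra ((Spec (CommRingCat.of R)).residueField (IsLocalRing.closedPoint R)) _ (f.fiber (IsLocalRing.closedPoint R)) ⟨f.fiberToSpecResidueField (IsLocalRing.closedPoint R)⟩ y) _)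
    (b : X' ⟶ X)
    (hb : BlowUp.IsBlowUp b (Scheme.IdealSheafData.vanishingIdeal
      ⟨closure {x : X | f.base x = IsLocalRing.closedPoint R ∧ ¬ IsRegularLocalRing (X.presheaf.stalk x)},
        isClosed_closure⟩)) :
    Formal2.PicPullbackSurjective (Limits.pullback.fst (b ≫ f) (Neron.genPt R)) := by
  exact K793.BlMain.main R f b hf hsplit hb

end Groth.Agent.S13748
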