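import Groth.Statements.S13750
import Groth.Agent.Neron.K486.LocExt

set_option autoImplicit false
universe u
open CategoryTheory AlgebraicGeometry
open Neron

namespace Groth.Agent.S13750

open K486.NMP

/-- Let S be a locally Noetherian scheme, U ⊆ S an open subscheme and N → S a smooth separated morphism
of finite type having the Néron mapping property with respect to U: for every smooth S-scheme Y,
restriction to U is a bijection from S-morphisms Y → N onto U-morphisms Y ×_S U → N ×_S U. Let s be
a point of S and S̃ = Spec O_{S,s} → S the canonical morphism. Then N ×_S S̃ → S̃ has the Néron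
mapping property with respect to the preimage Ũ of U: for every smooth S̃-scheme Ỹ, restriction to Ũ
is a bijection from S̃-morphisms Ỹ → N ×_S S̃ onto Ũ-morphisms. (The published statement is for N an
algebraic space which is a Néron model of an abelian scheme over U and also covers the strict
henselisation at a geometric point; this row is the localisation case for a scheme N, with no
abelian-scheme hypothesis.) -/
theorem result
    {S : Scheme.{u}} [IsLocallyNoetherian S] (U : S.Opens)
    (N : Over S) [Smooth N.hom] [IsSeparated N.hom] [QuasiCompact N.hom]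
    (hN : ∀ Y : Over S, Smooth Y.hom →
      Function.Bijective (fun f : Y ⟶ N => (Over.pullback U.ι).map f))
    (s : S) (Y' : Over (Spec (S.presheaf.stalk s))) [Smooth Y'.hom] :
    Function.Bijective (fun f : Y' ⟶ (Over.pullback (S.fromSpecStalk s)).obj N =>
      (Over.pullback ((S.fromSpecStalk s) ⁻¹ᵁ U).ι).map f) := by
  have hqc : QuasiCompact U.ι := inferInstance
  rw [bijective_iff_extU]
  have hsq : IsPullback (Limits.pullback.fst N.hom (S.fromSpecStalk s))
    (Limits.pullback.snd N.hom (S.fromSpecStalk s)) N.hom (S.fromSpecStalk s) :=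
    IsPullback.of_hasPullback _ _
  refine (extU_iff_of_isPullback U hsq).2 ?_
  obtain ⟨_, ⟨V, hV, rfl⟩, hsV, -⟩ :=
    S.isBasis_affineOpens.exists_subset_of_mem_open (Set.mem_univ s) isOpen_univ
  refine extU_of_affine U _ _ fun W i hW hi => ?_
  let _ : Algebra Γ(S, V) (S.presheaf.stalk s) :=
    S.presheaf.algebra_section_stalk (U := V) ⟨s, hsV⟩
  have hloc : IsLocalization.AtPrime (S.presheaf.stalk s)
    (hV.primeIdealOf ⟨s, hsV⟩).asIdeal := hV.isLocalization_stalk ⟨s, hsV⟩
  have h1 : S.fromSpecStalk s = Spec.map (CommRingCat.ofHom
      (algebraMap Γ(S, V) (S.presheaf.stalk s))) ≫ hV.fromSpec := by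
    rw [← hV.fromSpecStalk_eq_fromSpecStalk hsV]
    rfl
  have key := @extU_of_smooth_over_localization S Γ(S, V) _
    (hV.primeIdealOf ⟨s, hsV⟩).asIdeal.primeCompl
    (S.presheaf.stalk s) _ _ hloc hV.fromSpec inferInstance _ (i ≫ Y'.hom) inferInstance
    inferInstance inferInstance U hqc _ N.hom inferInstance
    (fun X t ht => (bijective_iff_extU U (Over.mk t) N).1 (hN (Over.mk t) ht))
  rw [h1, ← Category.assoc]
  exact key

end Groth.Agent.S13750
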