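import Groth.Statements.S13752
import Groth.Agent.SemiFact.K486.SplitMain

set_option autoImplicit false
universe u
open CategoryTheory AlgebraicGeometry
open SemiFact

namespace Groth.Agent.S13752

/-- Let R be a regular local ring which is henselian with separably closed residue field (a Noetherian
regular strictly local base), let K be its fraction field and let f : C → Spec R be a nodal curve:
proper, flat, locally of finite presentation, with connected geometric fibres all of whose
irreducible components are one-dimensional and whose singularities are at most ordinary double
points. Then the generic fibre C_K = C ×_R K has split singularities: every closed point of C_K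
either has an open neighbourhood smooth over K, or its local ring has completion isomorphic over K
to K[[u,v]]/(uv) (the point is a node with residue field K whose two branches are defined over K).
(The published statement is for the fibre over the generic point of any regular closed subscheme Z
of the base; that is this statement applied to the nodal curve C ×_S Z → Z.) -/
theorem result
    (R : Type u) [CommRing R] [IsDomain R] [IsRegularLocalRing R] [HenselianLocalRing R]
    [IsSepClosed (IsLocalRing.ResidueField R)]
    {C : Scheme.{u}} (f : C ⟶ Spec (CommRingCat.of R)) [IsProper f] (hf : Curv2.IsNodalFamily f)
    (hconn : ∀ (L : Type u) [Field L] (t : Spec (CommRingCat.of L) ⟶ Spec (CommRingCat.of R)),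
      ConnectedSpace ↑(Limits.pullback f t))
    (y : ↥(Limits.pullback f (Neron.genPt R))) (hy : IsClosed ({y} : Set ↥(Limits.pullback f (Neron.genPt R)))) :
    (∃ V : (Limits.pullback f (Neron.genPt R)).Opens, y ∈ V ∧ Smooth (V.ι ≫ Limits.pullback.snd f (Neron.genPt R))) ∨
      @Curv2.IsOrdDoublePt (FractionRing R) _ ((Limits.pullback f (Neron.genPt R)).presheaf.stalk y) _
        (@Curv2.stalkAlgebra (FractionRing R) _ (Limits.pullback f (Neron.genPt R)) ⟨Limits.pullback.snd f (Neron.genPt R)⟩ y) _ := by
  have h1 : LocallyOfFinitePresentation f := hf.2.1
  exact K486.SplitMain.main f hf y

end Groth.Agent.S13752
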