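import Groth.Statements.S13753
import Groth.Agent.Neron.K486.LevelMain
import Groth.Agent.AlgGrp.K404.GeoInt

set_option autoImplicit false
universe u
open CategoryTheory CategoryTheory.Limits AlgebraicGeometry MonObj
open Neron

namespace Groth.Agent.S13753

/-- Let R be a Noetherian regular local ring which is henselian with separably closed residue field k of
characteristic p ≥ 0 (a regular strictly local base), and let r₁, …, rₙ be elements of the maximal
ideal whose images in m_R/m_R² are linearly independent over k, so that D = V(r₁⋯rₙ) is a strict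
normal crossing divisor with complement U = Spec R[1/(r₁⋯rₙ)]. Let 𝒜 be a smooth, separated,
commutative group scheme of finite type over Spec R whose geometric fibres contain no closed
subgroup isomorphic to the additive group (its fibrewise identity components are semi-abelian), and
whose restriction to U is an abelian scheme (proper over U with connected geometric fibres). Let K
be the fraction field of R, Ω a separable closure of K and ℓ a prime number invertible in k. Then
the action of Gal(Ω/K) on the ℓ-adic Tate module of the generic fibre 𝒜_K is unipotent of level at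
most two: for all σ, τ ∈ Gal(Ω/K), the operator (σ − 1)(τ − 1) kills every Ω-point of 𝒜_K of ℓ-power
order. -/
theorem result
    (R : Type u) [CommRing R] [IsDomain R] [IsRegularLocalRing R] [HenselianLocalRing R]
    [IsSepClosed (IsLocalRing.ResidueField R)]
    {n : ℕ} (r : Fin n → R) (hr : ∀ i, r i ∈ IsLocalRing.maximalIdeal R)
    (hli : LinearIndependent (IsLocalRing.ResidueField R)
      (fun i => (IsLocalRing.maximalIdeal R).toCotangent ⟨r i, hr i⟩))
    (𝒜 : Over (Spec (CommRingCat.of R))) [GrpObj 𝒜] [IsCommMonObj 𝒜]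
    [Smooth 𝒜.hom] [IsSeparated 𝒜.hom] [QuasiCompact 𝒜.hom]
    (hsab : SGA7.FibresUnipotentRankZero 𝒜)
    (hprop : IsProper (pullback.snd 𝒜.hom
      (Spec.map (CommRingCat.ofHom (algebraMap R (Localization.Away (∏ i, r i)))))))
    (hconn : ∀ (L : Type u) [Field L] (φ : R →+* L), φ (∏ i, r i) ≠ 0 →
      ConnectedSpace ↑(pullback 𝒜.hom (Spec.map (CommRingCat.ofHom φ))))
    (K Ω : Type u) [Field K] [Algebra R K] [IsFractionRing R K] [Field Ω] [Algebra K Ω] [IsSepClosure K Ω]
    (ℓ : ℕ) (hℓ : ℓ.Prime) (hℓp : (ℓ : IsLocalRing.ResidueField R) ≠ 0)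
    (ν : ℕ) (σ τ : Ω ≃ₐ[K] Ω)
    (x : SGA7.Pts Ω (Red.bc (Spec.map (CommRingCat.ofHom (algebraMap R K))) 𝒜))
    (hx : x ^ (ℓ ^ ν) = 1) :
    SGA7.dev σ (SGA7.dev τ x) = 1 := by
  have hne : ∏ i, r i ≠ 0 := by
    rw [Finset.prod_ne_zero_iff]
    intro i _ h0
    apply hli.ne_zero i
    have h1 : (⟨r i, hr i⟩ : IsLocalRing.maximalIdeal R) = 0 := Subtype.ext h0
    rw [h1, map_zero]
  have hinj := IsFractionRing.injective R K
  have hne' : algebraMap R K (∏ i, r i) ≠ 0 := fun h0 => hne (hinj (by rw [h0, map_zero]))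
  have hu : IsUnit (algebraMap R K (∏ i, r i)) := isUnit_iff_ne_zero.2 hne'
  let θ : Localization.Away (∏ i, r i) →+* K := IsLocalization.Away.lift (∏ i, r i) hu
  have hθ : θ.comp (algebraMap R (Localization.Away (∏ i, r i))) = algebraMap R K :=
    IsLocalization.Away.lift_comp (∏ i, r i) hu
  have hw : Spec.map (CommRingCat.ofHom θ) ≫
      Spec.map (CommRingCat.ofHom (algebraMap R (Localization.Away (∏ i, r i)))) =
      Spec.map (CommRingCat.ofHom (algebraMap R K)) := by
    rw [← Spec.map_comp, ← CommRingCat.ofHom_comp, hθ]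
  have hp : IsProper ((SGA7.genFib R K).obj 𝒜).hom := by
    change IsProper (pullback.snd 𝒜.hom (Spec.map (CommRingCat.ofHom (algebraMap R K))))
    have hsq := (IsPullback.of_hasPullback (pullback.snd 𝒜.hom
      (Spec.map (CommRingCat.ofHom (algebraMap R (Localization.Away (∏ i, r i))))))
      (Spec.map (CommRingCat.ofHom θ))).paste_horiz (IsPullback.of_hasPullback 𝒜.hom
      (Spec.map (CommRingCat.ofHom (algebraMap R (Localization.Away (∏ i, r i))))))
    rw [hw] at hsq
    have h1 := hsq.isoIsPullback_inv_snd _ _ (IsPullback.of_hasPullback 𝒜.hom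
      (Spec.map (CommRingCat.ofHom (algebraMap R K))))
    rw [← h1]
    infer_instance
  have hsm : Smooth ((SGA7.genFib R K).obj 𝒜).hom :=
    inferInstanceAs (Smooth (pullback.snd 𝒜.hom (Spec.map (CommRingCat.ofHom (algebraMap R K)))))
  have hcs : ConnectedSpace ((SGA7.genFib R K).obj 𝒜).left := hconn K (algebraMap R K) hne'
  let _ : GrpObj ((SGA7.genFib R K).obj 𝒜) :=
    inferInstanceAs (GrpObj (Red.bc (Spec.map (CommRingCat.ofHom (algebraMap R K))) 𝒜))
  have hgi : GeometricallyIntegral ((SGA7.genFib R K).obj 𝒜).hom :=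
    K404.GeoInt.geometricallyIntegral ((SGA7.genFib R K).obj 𝒜)
  exact K486.LevelMain.levelTwo R K Ω 𝒜 hsab ℓ hℓ hℓp ν σ τ x hx

end Groth.Agent.S13753
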