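import Groth.Statements.S7641
import Groth.Agent.Variety.K420.Comp
import Groth.Agent.CurvesC.DegZeroSec512
import Groth.Agent.VarietyA.H0Equiv

set_option autoImplicit false
universe u
open CategoryTheory CategoryTheory.Limits AlgebraicGeometry
open Variety

namespace Groth.Agent.S7641

/-- Let X be proper over a field k, reduced and connected, with every irreducible component of dimension
one, and let L be an invertible module whose restriction to each irreducible component C, with its
reduced induced structure, has degree at most zero. Then H^0(X, L) = 0 or L is isomorphic to O_X. -/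
theorem result (k : Type u) [Field k] (X : Scheme.{u}) [X.Over (Spec (CommRingCat.of k))] [IsProper (X ↘ (Spec (CommRingCat.of k)))]
    [IsReduced X] [ConnectedSpace X] [IsNoetherian X]
    (hdim : ∀ (C : Set X), C ∈ irreducibleComponents (X : Type u) → topologicalKrullDim C = 1)
    (L : X.Modules) (hL : PicF.IsInvertible L)
    (hdeg : ∀ (C : Set X) (hC : C ∈ irreducibleComponents (X : Type u)), @Curv2.deg k _ (X.irreducibleComponentIdeal C hC).radical.subscheme ⟨(X.irreducibleComponentIdeal C hC).radical.subschemeι ≫ (X ↘ (Spec (CommRingCat.of k)))⟩ ((Scheme.Modules.pullback (X.irreducibleComponentIdeal C hC).radical.subschemeι).obj L) 1 ≤ 0) :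
    Subsingleton (Coh.HH X L 0) ∨ Nonempty (L ≅ Coh.structureModule X) := by
  by_cases hH : Subsingleton (Coh.HH X L 0)
  · exact Or.inl hH
  refine Or.inr ?_
  rw [not_subsingleton_iff_nontrivial] at hH
  obtain ⟨x, hx⟩ := exists_ne (0 : Coh.HH X L 0)
  let m : Γ(L, ⊤) := VarietyA.H0Equiv.hZeroEquiv L x
  have hm : m ≠ 0 := fun h => hx ((VarietyA.H0Equiv.hZeroEquiv L).map_eq_zero_iff.mp h)
  let s : Coh.structureModule X ⟶ L := Fdesc.LocGen.homOf m
  have hs : s ≠ 0 := by
    intro h
    apply hm
    have h1 : Fdesc.LocGen.sec s ⊤ = m := by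
      rw [Fdesc.LocGen.sec_homOf]
      simp
    rw [← h1, h]
    rfl
  have hiso : IsIso s := by
    refine CurvesC.DegZeroSec512.isIso_of_deg_le_zero k L hL s hs fun C hC => ?_
    refine ⟨(X.irreducibleComponentIdeal C hC).radical, K420.Comp.isIntegral_compSub X ⟨C, hC⟩, rfl,
      (K420.Comp.dim_compSub X ⟨C, hC⟩).trans (hdim C hC), hdeg C hC⟩
  exact ⟨(asIso s).symm⟩

end Groth.Agent.S7641
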