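import Groth.Statements.S13754
-- import your own Groth.Agent.* helpers here
import Groth.Agent.SemiFact.K228.Main

set_option autoImplicit false
universe u
open CategoryTheory AlgebraicGeometry
open SemiFact

namespace Groth.Agent.S13754

/-- Let R be a discrete valuation ring and f : X → Spec R a nodal curve (proper, flat, locally of finite
presentation, geometric fibres connected with one-dimensional irreducible components and at most
ordinary double points). Let p be a closed point of X and π : Y → X the blowing-up of X in the
reduced closed subscheme {p}. Let L be an invertible O_Y-module such that, for every irreducible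
component E of the fibre π⁻¹(p), the restriction of L to E — E taken with its reduced structure, a
proper curve over the residue field κ(p) — has degree 0. Then π_* L is an invertible O_X-module. -/
theorem result
    (R : Type u) [CommRing R] [IsDomain R] [IsDiscreteValuationRing R]
    {X Y : Scheme.{u}} (f : X ⟶ Spec (CommRingCat.of R)) [IsProper f] (hf : Curv2.IsNodalFamily f)
    (hconn : ∀ (K : Type u) [Field K] (t : Spec (CommRingCat.of K) ⟶ Spec (CommRingCat.of R)),
      ConnectedSpace ↑(Limits.pullback f t))
    (p : X) (hp : IsClosed ({p} : Set X))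
    (π : Y ⟶ X) (hπ : BlowUp.IsBlowUp π (Scheme.IdealSheafData.vanishingIdeal ⟨{p}, hp⟩))
    (L : Y.Modules) (hL : PicF.IsInvertible L)
    (hdeg : ∀ (Z : Set ↥(π.fiber p)) (hZ : Z ∈ irreducibleComponents ↥(π.fiber p)),
      @Curv2.deg (X.residueField p) _
        (Scheme.IdealSheafData.vanishingIdeal (⟨Z, isClosed_of_mem_irreducibleComponents Z hZ⟩ : TopologicalSpace.Closeds ↥(π.fiber p))).subscheme
        ⟨(Scheme.IdealSheafData.vanishingIdeal (⟨Z, isClosed_of_mem_irreducibleComponents Z hZ⟩ : TopologicalSpace.Closeds ↥(π.fiber p))).subschemeι ≫ π.fiberToSpecResidueField p⟩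
        ((Scheme.Modules.pullback ((Scheme.IdealSheafData.vanishingIdeal (⟨Z, isClosed_of_mem_irreducibleComponents Z hZ⟩ : TopologicalSpace.Closeds ↥(π.fiber p))).subschemeι ≫ π.fiberι p)).obj L) 1 = 0) :
    PicF.IsInvertible ((Scheme.Modules.pushforward π).obj L) := by
  exact K228.Main.main R f hf p hp π hπ L hL hdeg

end Groth.Agent.S13754
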