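import Groth.Statements.S13755
import Groth.Agent.SemiFact.K793.ChainMain

set_option autoImplicit false
universe u
open CategoryTheory AlgebraicGeometry
open SemiFact

namespace Groth.Agent.S13755

/-- Let R be a discrete valuation ring with perfect fraction field K and f : X → Spec R a nodal curve
(proper, flat, locally of finite presentation, geometric fibres connected with one-dimensional
irreducible components and at most ordinary double points), and let L be an invertible module on the
generic fibre X_K. Consider the chain ⋯ → X_2 → X_1 → X_0 = X in which X_{i+1} → X_i is the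
blowing-up of X_i in the reduced closed subscheme whose support is the (finite) set of points of the
special fibre of X_i at which X_i is not regular. Then there is N ≥ 0 such that L extends to an
invertible module on X_N. Stated here as the existence of N, of schemes X_0, …, X_N with compatible
morphisms c_i : X_i → X, c_0 an isomorphism and each X_{i+1} → X_i a blowing-up as described, and of
an invertible O_{X_N}-module whose restriction to the generic fibre of X_N is isomorphic to the
pullback of L. -/
theorem result
    (R : Type u) [CommRing R] [IsDomain R] [IsDiscreteValuationRing R] [PerfectField (FractionRing R)]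
    {X : Scheme.{u}} (f : X ⟶ Spec (CommRingCat.of R)) [IsProper f] (hf : Curv2.IsNodalFamily f)
    (hconn : ∀ (F : Type u) [Field F] (t : Spec (CommRingCat.of F) ⟶ Spec (CommRingCat.of R)),
      ConnectedSpace ↑(Limits.pullback f t))
    (L : (Limits.pullback f (Neron.genPt R)).Modules) (hL : PicF.IsInvertible L) :
    ∃ (N : ℕ) (Xs : Fin (N + 1) → Scheme.{u}) (c : ∀ i, Xs i ⟶ X)
      (b : ∀ i : Fin N, Xs i.succ ⟶ Xs i.castSucc),
      IsIso (c 0) ∧
      (∀ i : Fin N, b i ≫ c i.castSucc = c i.succ ∧
        BlowUp.IsBlowUp (b i) (Scheme.IdealSheafData.vanishingIdeal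
          ⟨closure {x : Xs i.castSucc | (c i.castSucc ≫ f).base x = IsLocalRing.closedPoint R ∧
              ¬ IsRegularLocalRing ((Xs i.castSucc).presheaf.stalk x)}, isClosed_closure⟩)) ∧
      ∃ M : (Xs (Fin.last N)).Modules, PicF.IsInvertible M ∧
        Nonempty ((Scheme.Modules.pullback (Limits.pullback.fst (c (Fin.last N) ≫ f) (Neron.genPt R))).obj M ≅
          (Scheme.Modules.pullback (CInt.baseChangeOver (c (Fin.last N)) f (Neron.genPt R))).obj L) := by
  obtain ⟨N, M, hM, hiso⟩ := K793.ChainMain.main R f hf L hL
  refine ⟨N, fun i => (K793.ChainSeq.seq f i.val).Y, fun i => (K793.ChainSeq.seq f i.val).c, fun i => K793.ChainSeq.blow f i.val,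
    ?_, fun i => ⟨K793.ChainSeq.blow_comp f i.val, K793.ChainSeq.isBlowUp_blow f i.val⟩, M, hM, hiso⟩
  exact inferInstanceAs (IsIso (𝟙 X))

end Groth.Agent.S13755
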