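import Groth.Statements.S13756
import Groth.Agent.SemiFact.K793.OmegaMain

set_option autoImplicit false
universe u
open CategoryTheory AlgebraicGeometry
open SemiFact

namespace Groth.Agent.S13756

/-- Let R → R' be an injective finite extension of discrete valuation rings with ramification index r,
let f : Z → Spec R be a nodal curve (proper, flat, locally of finite presentation, geometric fibres
connected with one-dimensional irreducible components and at most ordinary double points), and let a
: Spec R' → Z be a morphism over Spec R sending the generic point of Spec R' into the smooth locus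
of f and the closed point to a point p at which the local ring of Z is not regular. Let π : Z' → Z
be the blowing-up of Z in the reduced closed point p and ã : Spec R' → Z' the lift of a (ã followed
by π is a). For an R'-point c of an R-scheme W write δ(c) for the length of the torsion submodule of
the stalk at the closed point of c*Ω_{W/R} (Néron's measure for the defect of smoothness, here with
Ω taken as the conormal sheaf of the diagonal). Then either the local ring of Z' at the image of the
closed point under ã is regular, or δ(ã) ≤ max(δ(a) − r, 0) (truncated subtraction). -/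
theorem result
    (R R' : Type u) [CommRing R] [IsDomain R] [IsDiscreteValuationRing R]
    [CommRing R'] [IsDomain R'] [IsDiscreteValuationRing R'] [Algebra R R'] [Module.Finite R R']
    (hinj : Function.Injective (algebraMap R R'))
    {Z Z' : Scheme.{u}} (f : Z ⟶ Spec (CommRingCat.of R)) [IsProper f] (hf : Curv2.IsNodalFamily f)
    (hconn : ∀ (L : Type u) [Field L] (t : Spec (CommRingCat.of L) ⟶ Spec (CommRingCat.of R)),
      ConnectedSpace ↑(Limits.pullback f t))
    (a : (Spec (CommRingCat.of R')) ⟶ Z) (ha : a ≫ f = Spec.map (CommRingCat.ofHom (algebraMap R R')))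
    (hgen : ∀ y : ↥(Spec (CommRingCat.of R')), y ≠ (IsLocalRing.closedPoint R') → a.base y ∈ f.smoothLocus)
    (hreg : ¬ IsRegularLocalRing (Z.presheaf.stalk (a.base (IsLocalRing.closedPoint R'))))
    (π : Z' ⟶ Z) (hπ : BlowUp.IsBlowUp π (Scheme.IdealSheafData.vanishingIdeal
      ⟨closure {a.base (IsLocalRing.closedPoint R')}, isClosed_closure⟩))
    (ã : (Spec (CommRingCat.of R')) ⟶ Z') (hã : ã ≫ π = a) :
    IsRegularLocalRing (Z'.presheaf.stalk (ã.base (IsLocalRing.closedPoint R'))) ∨
      Module.length ↑((Spec (CommRingCat.of R')).presheaf.stalk (IsLocalRing.closedPoint R'))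
          ↥(Submodule.torsion ↑((Spec (CommRingCat.of R')).presheaf.stalk (IsLocalRing.closedPoint R'))
            ↑(((Scheme.Modules.pullback ã).obj (Omega.sheaf (π ≫ f))).presheaf.stalk (IsLocalRing.closedPoint R'))) ≤
        Module.length ↑((Spec (CommRingCat.of R')).presheaf.stalk (IsLocalRing.closedPoint R'))
          ↥(Submodule.torsion ↑((Spec (CommRingCat.of R')).presheaf.stalk (IsLocalRing.closedPoint R'))
            ↑(((Scheme.Modules.pullback a).obj (Omega.sheaf (f))).presheaf.stalk (IsLocalRing.closedPoint R'))) -
          (Ideal.ramificationIdx' (IsLocalRing.maximalIdeal R) (IsLocalRing.maximalIdeal R') : ℕ∞) := by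
  rw [or_iff_not_imp_left]
  intro hreg'
  exact K793.OmegaMain.main hinj f hf a ha hreg π hπ ã hã hreg'

end Groth.Agent.S13756
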