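import Groth.Statements.S13757
import Groth.Agent.LabGraph.K794.Basic

set_option autoImplicit false
universe u
open LabGraph

namespace Groth.Agent.S13757

/-- Let G be a finite connected multigraph (loops and multiple edges allowed) with vertex set V, edge
set E, endpoint map E → V × V and a labelling of the edges by positive integers l. A vertex
labelling φ : V → ℤ is Cartier when l(e) divides the difference of the values of φ at the two
endpoints of every edge e; its multidegree is the vertex labelling whose value at v is the sum, over
the edge-ends at v, of (value of φ at the other endpoint − φ(v)) / l(e). Then the Cartier vertex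
labellings of multidegree zero are exactly the constant ones: the kernel of the multidegree operator
on Cartier labellings is ℤ, embedded as the constants. -/
theorem result
    {V E : Type u} [Fintype V] [Fintype E] [DecidableEq V] [DecidableEq E]
    (ends : E → V × V) (l : E → ℕ) (hl : ∀ e, 0 < l e) (hconn : LabGraph.Connected ends)
    (φ : V → ℤ) (hφ : LabGraph.IsCartier ends l φ) :
    (∀ v : V, LabGraph.mdeg ends l φ v = 0) ↔ ∀ v w : V, φ v = φ w := by
  constructor
  · intro h
    choose k hk using hφ
    have hlpos : ∀ e, (0 : ℤ) < l e := fun e => by exact_mod_cast hl e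
    have hsum : ∑ v : V, φ v * LabGraph.mdeg ends l φ v = - ∑ e : E, (l e : ℤ) * k e ^ 2 := by
      unfold LabGraph.mdeg
      simp_rw [Finset.mul_sum]
      rw [Finset.sum_comm, ← Finset.sum_neg_distrib]
      refine Finset.sum_congr rfl fun e _ => ?_
      have h1 : (φ (ends e).2 - φ (ends e).1) / (l e : ℤ) = - k e := by
        have : φ (ends e).2 - φ (ends e).1 = (l e : ℤ) * (- k e) := by
          linarith [hk e]
        rw [this, Int.mul_ediv_cancel_left _ (hlpos e).ne']
      have h2 : (φ (ends e).1 - φ (ends e).2) / (l e : ℤ) = k e := by
        rw [hk e, Int.mul_ediv_cancel_left _ (hlpos e).ne']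
      rw [h1, h2]
      simp_rw [mul_add, Finset.sum_add_distrib, mul_ite, mul_zero]
      rw [Finset.sum_ite_eq, Finset.sum_ite_eq]
      simp only [Finset.mem_univ, if_true]
      have : φ (ends e).1 = φ (ends e).2 + (l e : ℤ) * k e := by linarith [hk e]
      rw [this]
      ring
    have hz : ∑ e : E, (l e : ℤ) * k e ^ 2 = 0 := by
      have : ∑ v : V, φ v * LabGraph.mdeg ends l φ v = 0 :=
        Finset.sum_eq_zero fun v _ => by rw [h v, mul_zero]
      linarith
    have hk0 : ∀ e, k e = 0 := by
      intro e
      have := (Finset.sum_eq_zero_iff_of_nonneg (fun e _ => by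
        have := hlpos e
        positivity)).1 hz e (Finset.mem_univ e)
      rcases mul_eq_zero.1 this with h | h
      · exact absurd h (hlpos e).ne'
      · exact pow_eq_zero_iff (two_ne_zero) |>.1 h
    intro v w
    refine K794.Basic.eq_of_connected hconn (fun e => ?_) v w
    have := hk e
    rw [hk0 e, mul_zero] at this
    linarith
  · intro h v
    unfold LabGraph.mdeg
    refine Finset.sum_eq_zero fun e _ => ?_
    rw [h (ends e).2 (ends e).1]
    simp

end Groth.Agent.S13757
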