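import Groth.Statements.S13759
import Groth.Agent.LabGraph.K794.Blowup

set_option autoImplicit false
universe u
open LabGraph

namespace Groth.Agent.S13759

/-- Let G be a finite connected multigraph with vertex set V, edge set E, endpoint map E → V × V and
positive integer edge labels l, and let G̃ be its total blow-up graph: every edge e is replaced by a
path of l(e) edges through l(e) − 1 new vertices, all new edges labelled 1 (so every vertex
labelling of G̃ is Cartier and its multidegree is the sum over edge-ends of the differences of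
values). Let H, resp. H̃, be the cokernel of the multidegree operator from Cartier vertex labellings
of G to ℤ^V, resp. of G̃ to ℤ^Ṽ, and ε : H → H̃ the map induced by extending vertex labellings of G
by zero on the new vertices. Then ε is injective: if a vertex labelling α of G, extended by zero, is
the multidegree of some vertex labelling of G̃, then α is the multidegree of some Cartier vertex
labelling of G. -/
theorem result
    {V E : Type u} [Fintype V] [Fintype E] [DecidableEq V] [DecidableEq E]
    (ends : E → V × V) (l : E → ℕ) (hl : ∀ e, 0 < l e) (hconn : LabGraph.Connected ends)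
    (α : V → ℤ) (ψ : LabGraph.BlVert V E l → ℤ)
    (hψ : ∀ w : LabGraph.BlVert V E l,
      LabGraph.mdeg (LabGraph.blEnds ends l) (fun _ => 1) ψ w = Sum.elim α (fun _ => (0 : ℤ)) w) :
    ∃ φ : V → ℤ, LabGraph.IsCartier ends l φ ∧ ∀ v : V, LabGraph.mdeg ends l φ v = α v := by
  classical
  -- along each path the values form an arithmetic progression
  have hlin : ∀ e : E, ∀ j, j ≤ l e → K794.Blowup.pv ends l ψ e j = K794.Blowup.pv ends l ψ e 0 +
      j * (K794.Blowup.pv ends l ψ e 1 - K794.Blowup.pv ends l ψ e 0) := by
    intro e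
    refine K794.Blowup.arith_of_second_diff _ _ fun i hi => ?_
    have := hψ (Sum.inr ⟨e, ⟨i, by omega⟩⟩)
    rw [K794.Blowup.mdeg_bl_inr] at this
    simpa using this
  have hd : ∀ e : E, ψ (Sum.inl (ends e).2) - ψ (Sum.inl (ends e).1) =
      (l e : ℤ) * (K794.Blowup.pv ends l ψ e 1 - K794.Blowup.pv ends l ψ e 0) := by
    intro e
    have := hlin e (l e) le_rfl
    rw [K794.Blowup.pv_last ends l hl, K794.Blowup.pv_zero] at this
    rw [this, K794.Blowup.pv_zero]
    ring
  have hlpos : ∀ e, (0 : ℤ) < l e := fun e => by exact_mod_cast hl e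
  refine ⟨fun v => ψ (Sum.inl v), fun e => ?_, fun v => ?_⟩
  · exact ⟨-(K794.Blowup.pv ends l ψ e 1 - K794.Blowup.pv ends l ψ e 0), by
      have := hd e
      dsimp only
      linarith⟩
  · have := hψ (Sum.inl v)
    rw [K794.Blowup.mdeg_bl_inl ends l hl] at this
    simp only [Sum.elim_inl] at this
    rw [← this]
    unfold LabGraph.mdeg
    refine Finset.sum_congr rfl fun e _ => ?_
    have h1 : (ψ (Sum.inl (ends e).2) - ψ (Sum.inl (ends e).1)) / (l e : ℤ) =
        K794.Blowup.pv ends l ψ e 1 - K794.Blowup.pv ends l ψ e 0 := by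
      rw [hd e, Int.mul_ediv_cancel_left _ (hlpos e).ne']
    have h2 : (ψ (Sum.inl (ends e).1) - ψ (Sum.inl (ends e).2)) / (l e : ℤ) =
        K794.Blowup.pv ends l ψ e (l e - 1) - K794.Blowup.pv ends l ψ e (l e) := by
      have h3 : ψ (Sum.inl (ends e).1) - ψ (Sum.inl (ends e).2) =
          (l e : ℤ) * (-(K794.Blowup.pv ends l ψ e 1 - K794.Blowup.pv ends l ψ e 0)) := by
        have := hd e
        linarith
      rw [h3, Int.mul_ediv_cancel_left _ (hlpos e).ne', hlin e (l e) le_rfl, hlin e (l e - 1) (by omega)]
      have h4 : ((l e - 1 : ℕ) : ℤ) = (l e : ℤ) - 1 := by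
        have := hl e
        push_cast [Nat.cast_sub (show 1 ≤ l e from this)]
        ring
      rw [h4]
      ring
    rw [h1, h2]

end Groth.Agent.S13759
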