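import Groth.Statements.S13760
import Groth.Agent.LabGraph.K794.Blowup

set_option autoImplicit false
universe u
open LabGraph

namespace Groth.Agent.S13760

/-- Let G be a finite connected multigraph with vertex set V, edge set E, endpoint map E → V × V and
positive integer edge labels l, let G̃ be its total blow-up graph (every edge e replaced by a path
of l(e) edges through l(e) − 1 new vertices, all labelled 1), and let ε : H → H̃ be the map from the
cokernel of the multidegree operator on Cartier vertex labellings of G to the cokernel of the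
multidegree operator on vertex labellings of G̃ induced by extension by zero. Then ε is surjective —
every vertex labelling β of G̃ can be corrected by the multidegree of a vertex labelling of G̃ so as
to vanish at all new vertices — if and only if G is circuit-coprime (the labels along every circuit
have greatest common divisor 1). (The published statement is 'ε is an isomorphism if and only if the
labelled graph is circuit-coprime'; injectivity of ε holds for every labelled graph, so the content
is the equivalence for surjectivity, stated here with the cokernels unpacked.) -/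
theorem result
    {V E : Type u} [Fintype V] [Fintype E] [DecidableEq V] [DecidableEq E]
    (ends : E → V × V) (l : E → ℕ) (hl : ∀ e, 0 < l e) (hconn : LabGraph.Connected ends) :
    (∀ β : LabGraph.BlVert V E l → ℤ, ∃ (ψ : LabGraph.BlVert V E l → ℤ) (α : V → ℤ),
        ∀ w : LabGraph.BlVert V E l,
          LabGraph.mdeg (LabGraph.blEnds ends l) (fun _ => 1) ψ w + β w = Sum.elim α (fun _ => (0 : ℤ)) w) ↔
      LabGraph.IsCircuitCoprime ends l := by
  classical
  constructor
  · intro h
    refine K794.Congruence.circuitCoprime_of_congruence ends l fun x => ?_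
    obtain ⟨ψ, α, hψ⟩ := h (Sum.elim (fun _ => 0) (fun p => if p.2.val + 2 = l p.1 then - x p.1 else 0))
    refine ⟨fun v => ψ (Sum.inl v), fun e => ?_⟩
    have hsd : ∀ i, i + 1 < l e → K794.Blowup.pv ends l ψ e (i + 2) - 2 * K794.Blowup.pv ends l ψ e (i + 1) +
        K794.Blowup.pv ends l ψ e i = if i + 2 = l e then x e else 0 := by
      intro i hi
      have := hψ (Sum.inr ⟨e, ⟨i, by omega⟩⟩)
      rw [K794.Blowup.mdeg_bl_inr] at this
      simp only [Sum.elim_inr] at this
      by_cases hil : i + 2 = l e
      · rw [if_pos hil] at this ⊢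
        linarith
      · rw [if_neg hil] at this ⊢
        linarith
    have hle := hl e
    rcases Nat.lt_or_ge 1 (l e) with h1 | h1
    · have hlin := K794.Blowup.arith_of_second_diff (K794.Blowup.pv ends l ψ e) (l e - 1) (fun i hi => by
        rw [hsd i (by omega), if_neg (by omega)])
      have h2 := hlin (l e - 1) le_rfl
      have h3 := hlin (l e - 2) (by omega)
      have h4 := hsd (l e - 2) (by omega)
      have e1 : l e - 2 + 2 = l e := by omega
      have e2 : l e - 2 + 1 = l e - 1 := by omega
      rw [e1, e2, if_pos rfl, h2, h3, K794.Blowup.pv_last ends l hl] at h4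
      have c1 : ((l e - 1 : ℕ) : ℤ) = (l e : ℤ) - 1 := by
        rw [Nat.cast_sub (by omega)]; simp
      have c2 : ((l e - 2 : ℕ) : ℤ) = (l e : ℤ) - 2 := by
        rw [Nat.cast_sub (by omega)]; simp
      rw [c1, c2, K794.Blowup.pv_zero] at h4
      refine ⟨-(K794.Blowup.pv ends l ψ e 1 - ψ (Sum.inl (ends e).1)), ?_⟩
      linear_combination (-1 : ℤ) * h4
    · have : l e = 1 := by omega
      rw [this]
      simp
  · intro h β
    -- particular solution along each path
    let Q : E → ℕ → ℤ × ℤ := fun e j => Nat.rec (0, 0) (fun i (q : ℤ × ℤ) =>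
      (q.2, 2 * q.2 - q.1 - (if hi : i < l e - 1 then β (Sum.inr ⟨e, ⟨i, hi⟩⟩) else 0))) j
    have hQs : ∀ e i, Q e (i + 1) = ((Q e i).2, 2 * (Q e i).2 - (Q e i).1 -
      (if hi : i < l e - 1 then β (Sum.inr ⟨e, ⟨i, hi⟩⟩) else 0)) := fun e i => rfl
    have hP0 : ∀ e, (Q e 0).1 = 0 := fun e => rfl
    have hP1 : ∀ e, (Q e 1).1 = 0 := fun e => rfl
    have hP2 : ∀ e i (hi : i < l e - 1), (Q e (i + 2)).1 - 2 * (Q e (i + 1)).1 + (Q e i).1 =
        - β (Sum.inr ⟨e, ⟨i, hi⟩⟩) := by
      intro e i hi
      have h1 : (Q e (i + 2)).1 = (Q e (i + 1)).2 := by rw [hQs e (i + 1)]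
      have h2 : (Q e (i + 1)).1 = (Q e i).2 := by rw [hQs e i]
      have h3 : (Q e (i + 1)).2 = 2 * (Q e i).2 - (Q e i).1 - β (Sum.inr ⟨e, ⟨i, hi⟩⟩) := by
        rw [hQs e i]
        simp [hi]
      rw [h1, h3, h2]
      ring
    obtain ⟨φ, hφ⟩ := K794.Congruence.exists_congruence_of_circuitCoprime ends l hl h
      (fun e => (Q e (l e)).1)
    choose t ht using hφ
    let ψ : LabGraph.BlVert V E l → ℤ := Sum.elim φ
      (fun p => φ (ends p.1).1 + ((p.2.val : ℤ) + 1) * (- t p.1) + (Q p.1 (p.2.val + 1)).1)
    have hg : ∀ e j, j ≤ l e → K794.Blowup.pv ends l ψ e j = φ (ends e).1 + j * (- t e) + (Q e j).1 := by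
      intro e j hj
      have hle := hl e
      rcases Nat.eq_zero_or_pos j with rfl | hj0
      · rw [K794.Blowup.pv_zero, hP0]
        simp [ψ]
      · rcases Nat.lt_or_ge j (l e) with hjl | hjl
        · have := K794.Blowup.pathVert_succ ends l e ⟨j - 1, by omega⟩
          simp only at this
          have e1 : j - 1 + 1 = j := by omega
          rw [e1] at this
          rw [K794.Blowup.pv, this]
          simp only [ψ, Sum.elim_inr, e1]
          congr 2
          have : ((j - 1 : ℕ) : ℤ) = (j : ℤ) - 1 := by rw [Nat.cast_sub (by omega)]; simp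
          rw [this]
          ring
        · have : j = l e := le_antisymm hj hjl
          subst this
          rw [K794.Blowup.pv_last ends l hl]
          simp only [ψ, Sum.elim_inl]
          have := ht e
          linear_combination (-1 : ℤ) * this
    refine ⟨ψ, fun v => LabGraph.mdeg (LabGraph.blEnds ends l) (fun _ => 1) ψ (Sum.inl v) + β (Sum.inl v), ?_⟩
    rintro (v | ⟨e, i⟩)
    · rfl
    · have hi := i.2
      rw [K794.Blowup.mdeg_bl_inr, hg e _ (by omega), hg e _ (by omega), hg e _ (by omega)]
      have := hP2 e i.val i.2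
      simp only [Sum.elim_inr]
      push_cast
      have hβ : β (Sum.inr ⟨e, ⟨i.val, i.2⟩⟩) = β (Sum.inr ⟨e, i⟩) := rfl
      rw [hβ] at this
      linear_combination this

end Groth.Agent.S13760
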