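import Groth.Statements.S13761
import Groth.Agent.Neron.K490.AsPoint
import Groth.Agent.Neron.K490.AsGlue

set_option autoImplicit false
universe u
open CategoryTheory CategoryTheory.Limits AlgebraicGeometry MonObj
open Neron

namespace Groth.Agent.S13761

/-- Let S be a connected, locally Noetherian scheme all of whose local rings are regular and all of
whose residue fields have characteristic zero, let D ⊆ S be a regular divisor — an effective Cartier
closed subscheme of S which is itself a regular scheme — with open complement U, and let 𝒜 → S be a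
semi-abelian scheme: a smooth, separated, commutative group scheme of finite type over S whose
geometric fibres are connected and contain no closed subgroup isomorphic to the additive group.
Assume that the restriction A = 𝒜 ×_S U is an abelian scheme over U (proper over U). Then A admits a
Néron model over S: there is an algebraic space N over S (an fppf sheaf on S-schemes with
representable diagonal and an étale surjective chart from a scheme), smooth and separated over S,
together with an isomorphism of sheaves over h_U between N × h_U and h_A, such that for every smooth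
S-scheme T, sending a morphism h_T → N to the induced morphism h_T × h_U → h_A is a bijection onto
the morphisms over h_U (every U-morphism T ×_S U → A extends to exactly one S-morphism T → N).
(Quasi-compactness of N over S, part of the definition of a Néron model, is not asserted here.) -/
theorem result
    {S : Scheme.{u}} [IsLocallyNoetherian S] [ConnectedSpace ↥S]
    (hreg : ∀ s : S, IsRegularLocalRing (S.presheaf.stalk s))
    (hchar : ∀ s : S, CharZero (S.residueField s))
    (D : S.IdealSheafData) (hD : BlowUp.IsEffCartierIdeal D)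
    (hDreg : ∀ y : ↥D.subscheme, IsRegularLocalRing (D.subscheme.presheaf.stalk y))
    (U : S.Opens) (hU : (U : Set ↥S) = (D.support : Set ↥S)ᶜ)
    (𝒜 : Over S) [GrpObj 𝒜] [IsCommMonObj 𝒜] [Smooth 𝒜.hom] [IsSeparated 𝒜.hom] [QuasiCompact 𝒜.hom]
    (hsab : SGA7.FibresUnipotentRankZero 𝒜)
    (hconn : ∀ (L : Type u) [Field L] (t : Spec (CommRingCat.of L) ⟶ S), ConnectedSpace ↑(pullback 𝒜.hom t))
    (hprop : IsProper (Limits.pullback.snd 𝒜.hom U.ι)) :
    ∃ (N : AlgSp.Sp S) (_ : AlgSp.IsAlgSpace N) (π : N ⟶ (AlgSp.yon S).obj (Over.mk (𝟙 S)))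
      (e : N ⨯ (AlgSp.yon S).obj (Over.mk U.ι : Over S) ≅ (AlgSp.yon S).obj (Over.mk (Limits.pullback.snd 𝒜.hom U.ι ≫ U.ι) : Over S)),
      AlgSp.LocP @Smooth π ∧ AlgSp.IsSeparatedMor π ∧
      e.hom ≫ (AlgSp.yon S).map (Over.homMk (U := (Over.mk (Limits.pullback.snd 𝒜.hom U.ι ≫ U.ι) : Over S)) (V := (Over.mk U.ι : Over S)) (Limits.pullback.snd 𝒜.hom U.ι) rfl) = Limits.prod.snd ∧
      ∀ (T : Over S), Smooth T.hom →
        (∀ φ₁ φ₂ : (AlgSp.yon S).obj T ⟶ N,
          Limits.prod.map φ₁ (𝟙 ((AlgSp.yon S).obj (Over.mk U.ι : Over S))) ≫ e.hom = Limits.prod.map φ₂ (𝟙 ((AlgSp.yon S).obj (Over.mk U.ι : Over S))) ≫ e.hom → φ₁ = φ₂) ∧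
        (∀ g : (AlgSp.yon S).obj T ⨯ (AlgSp.yon S).obj (Over.mk U.ι : Over S) ⟶ (AlgSp.yon S).obj (Over.mk (Limits.pullback.snd 𝒜.hom U.ι ≫ U.ι) : Over S),
          g ≫ (AlgSp.yon S).map (Over.homMk (U := (Over.mk (Limits.pullback.snd 𝒜.hom U.ι ≫ U.ι) : Over S)) (V := (Over.mk U.ι : Over S)) (Limits.pullback.snd 𝒜.hom U.ι) rfl) = Limits.prod.snd →
          ∃ φ : (AlgSp.yon S).obj T ⟶ N, Limits.prod.map φ (𝟙 ((AlgSp.yon S).obj (Over.mk U.ι : Over S))) ≫ e.hom = g) := by
  have hloc : ∀ s : {s : S // s ∉ U}, ∃ Q : K490.AsGlue.Piece U 𝒜, s.1 ∈ Set.range Q.b := fun s =>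
    K490.AsGlue.exists_piece (K490.AsPoint.locEx hreg hchar D hD hDreg U hU 𝒜 hsab hconn hprop s.1 s.2)
  choose Q hQ using hloc
  let Q' : Option {s : S // s ∉ U} → K490.AsGlue.Piece U 𝒜 := fun s => s.elim (K490.AsGlue.Piece.triv U 𝒜) Q
  refine K490.AsGlue.exists_algSpace (K490.AsPoint.dense D hD U hU) (K490.AsGlue.Piece.sigma Q') ⟨fun s => ?_⟩
  have key : ∀ i : Option {s : S // s ∉ U}, s ∈ Set.range (Q' i).b →
      ∃ z, (K490.AsGlue.Piece.sigma Q').b z = s := by
    rintro i ⟨z, rfl⟩
    refine ⟨Sigma.ι (fun i => (Q' i).B) i z, ?_⟩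
    have h1 : Sigma.ι (fun i => (Q' i).B) i ≫ Sigma.desc (fun i => (Q' i).b) = (Q' i).b := Sigma.ι_desc _ _
    have h2 : (Sigma.desc fun i => (Q' i).b) (Sigma.ι (fun i => (Q' i).B) i z) = (Q' i).b z := by
      rw [← Scheme.Hom.comp_apply, h1]
    exact h2
  by_cases hs : s ∈ U
  · exact key none ⟨⟨s, hs⟩, rfl⟩
  · exact key (some ⟨s, hs⟩) (hQ ⟨s, hs⟩)

end Groth.Agent.S13761
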