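import Groth.Statements.S13762
import Groth.Agent.Neron.K486.TateReg
import Groth.Agent.AlgGrp.K404.GeoInt

set_option autoImplicit false
universe u
open CategoryTheory CategoryTheory.Limits AlgebraicGeometry MonObj
open Neron

namespace Groth.Agent.S13762

/-- Let R be a Noetherian regular local ring which is henselian with separably closed residue field k,
let r₁, …, rₙ be elements of the maximal ideal with linearly independent images in m_R/m_R² (so that
V(r₁⋯rₙ) is a strict normal crossing divisor with complement U = Spec R[1/(r₁⋯rₙ)]), and let 𝒜 be a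
smooth, separated, commutative group scheme of finite type over Spec R whose geometric fibres
contain no closed subgroup isomorphic to the additive group and whose restriction to U is an abelian
scheme (proper with connected geometric fibres). Let K be the fraction field of R and ℓ a prime
invertible in k. Then the Galois-invariant part of the ℓ-adic Tate module of the generic fibre 𝒜_K
coincides with its fixed part: whenever (x_r)_{r ≥ 0} is a sequence of K-rational points of 𝒜_K with
x_r^{ℓ^r} = 1 and x_{r+1}^ℓ = x_r for all r (group law written multiplicatively), every x_r extends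
to a section of 𝒜 over Spec R, i.e. there is s : Spec R → 𝒜 over Spec R whose restriction to Spec K
is the point x_r. -/
theorem result
    (R : Type u) [CommRing R] [IsDomain R] [IsRegularLocalRing R] [HenselianLocalRing R]
    [IsSepClosed (IsLocalRing.ResidueField R)]
    {n : ℕ} (r : Fin n → R) (hr : ∀ i, r i ∈ IsLocalRing.maximalIdeal R)
    (hli : LinearIndependent (IsLocalRing.ResidueField R)
      (fun i => (IsLocalRing.maximalIdeal R).toCotangent ⟨r i, hr i⟩))
    (𝒜 : Over (Spec (CommRingCat.of R))) [GrpObj 𝒜] [IsCommMonObj 𝒜]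
    [Smooth 𝒜.hom] [IsSeparated 𝒜.hom] [QuasiCompact 𝒜.hom]
    (hsab : SGA7.FibresUnipotentRankZero 𝒜)
    (hprop : IsProper (pullback.snd 𝒜.hom
      (Spec.map (CommRingCat.ofHom (algebraMap R (Localization.Away (∏ i, r i)))))))
    (hconn : ∀ (L : Type u) [Field L] (φ : R →+* L), φ (∏ i, r i) ≠ 0 →
      ConnectedSpace ↑(pullback 𝒜.hom (Spec.map (CommRingCat.ofHom φ))))
    (K : Type u) [Field K] [Algebra R K] [IsFractionRing R K]
    (ℓ : ℕ) (hℓ : ℓ.Prime) (hℓp : (ℓ : IsLocalRing.ResidueField R) ≠ 0)
    (x : ℕ → SGA7.Pts K (Red.bc (Spec.map (CommRingCat.ofHom (algebraMap R K))) 𝒜))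
    (htors : ∀ j : ℕ, x j ^ (ℓ ^ j) = 1) (hcompat : ∀ j : ℕ, x (j + 1) ^ ℓ = x j) (j : ℕ) :
    ∃ s : (Spec (CommRingCat.of R)) ⟶ 𝒜.left, s ≫ 𝒜.hom = 𝟙 (Spec (CommRingCat.of R)) ∧
      (Spec.map (CommRingCat.ofHom (algebraMap R K))) ≫ s = (x j).left ≫ pullback.fst 𝒜.hom (Spec.map (CommRingCat.ofHom (algebraMap R K))) := by
  have hne : ∏ i, r i ≠ 0 := by
    rw [Finset.prod_ne_zero_iff]
    intro i _ h0
    apply hli.ne_zero i
    have h1 : (⟨r i, hr i⟩ : IsLocalRing.maximalIdeal R) = 0 := Subtype.ext h0
    rw [h1, map_zero]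
  have hinj := IsFractionRing.injective R K
  have hne' : algebraMap R K (∏ i, r i) ≠ 0 := fun h0 => hne (hinj (by rw [h0, map_zero]))
  have hu : IsUnit (algebraMap R K (∏ i, r i)) := isUnit_iff_ne_zero.2 hne'
  let θ : Localization.Away (∏ i, r i) →+* K := IsLocalization.Away.lift (∏ i, r i) hu
  have hθ : θ.comp (algebraMap R (Localization.Away (∏ i, r i))) = algebraMap R K :=
    IsLocalization.Away.lift_comp (∏ i, r i) hu
  have hw : Spec.map (CommRingCat.ofHom θ) ≫
      Spec.map (CommRingCat.ofHom (algebraMap R (Localization.Away (∏ i, r i)))) =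
      Spec.map (CommRingCat.ofHom (algebraMap R K)) := by
    rw [← Spec.map_comp, ← CommRingCat.ofHom_comp, hθ]
  have hp : IsProper ((SGA7.genFib R K).obj 𝒜).hom := by
    change IsProper (pullback.snd 𝒜.hom (Spec.map (CommRingCat.ofHom (algebraMap R K))))
    have hsq := (IsPullback.of_hasPullback (pullback.snd 𝒜.hom
      (Spec.map (CommRingCat.ofHom (algebraMap R (Localization.Away (∏ i, r i))))))
      (Spec.map (CommRingCat.ofHom θ))).paste_horiz (IsPullback.of_hasPullback 𝒜.hom
      (Spec.map (CommRingCat.ofHom (algebraMap R (Localization.Away (∏ i, r i))))))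
    rw [hw] at hsq
    have h1 := hsq.isoIsPullback_inv_snd _ _ (IsPullback.of_hasPullback 𝒜.hom
      (Spec.map (CommRingCat.ofHom (algebraMap R K))))
    rw [← h1]
    infer_instance
  have hsm : Smooth ((SGA7.genFib R K).obj 𝒜).hom :=
    inferInstanceAs (Smooth (pullback.snd 𝒜.hom (Spec.map (CommRingCat.ofHom (algebraMap R K)))))
  have hcs : ConnectedSpace ((SGA7.genFib R K).obj 𝒜).left := hconn K (algebraMap R K) hne'
  let _ : GrpObj ((SGA7.genFib R K).obj 𝒜) :=
    inferInstanceAs (GrpObj (Red.bc (Spec.map (CommRingCat.ofHom (algebraMap R K))) 𝒜))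
  have hgi : GeometricallyIntegral ((SGA7.genFib R K).obj 𝒜).hom :=
    K404.GeoInt.geometricallyIntegral ((SGA7.genFib R K).obj 𝒜)
  exact K486.TateReg.exists_section R K 𝒜 hsab ℓ hℓ hℓp x htors hcompat j

end Groth.Agent.S13762
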