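import Groth.Statements.S13763
import Groth.Agent.CanPar.K795.OmegaGrp
import Groth.Agent.CanPar.K795.CurveBound
import Groth.Agent.PerfA.CohSerre

set_option autoImplicit false
universe u
open CategoryTheory CategoryTheory.Limits MonoidalCategory CartesianMonoidalCategory MonObj GrpObj AlgebraicGeometry
open CanPar

namespace Groth.Agent.S13763

/-- Let X be a smooth proper geometrically connected curve over a field k and G a reductive group scheme
over X. Then there is an integer M such that every parabolic subgroup P of G has degree at most M.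
Here the degree of P means the degree of its Lie algebra, a vector bundle on X; it is written as
minus the degree of the module of invariant differentials e^*Ω_{P/X}, which for P smooth over X is
locally free (of the rank n quantified below) and dual to the Lie algebra bundle. -/
theorem result (k : Type u) [Field k] (X : Scheme.{u}) [X.Over (Spec (CommRingCat.of k))]
    [IsIntegral X] [IsProper (X ↘ Spec (CommRingCat.of k))] [Smooth (X ↘ Spec (CommRingCat.of k))]
    [GeometricallyConnected (X ↘ Spec (CommRingCat.of k))] (hdim : topologicalKrullDim X = 1)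
    (G : Over X) [GrpObj G] (hG : Red.IsReductive G) :
    ∃ M : ℤ, ∀ (P : Over X) [GrpObj P] (i : P ⟶ G), Red.IsParabolic i →
      ∀ n : ℕ, FlatMod.IsFinLocFreeOfRank n (LieS.omega P) →
        -Curv2.deg k X (LieS.omega P) n ≤ M := by
  obtain ⟨hGa, hGs, -⟩ := hG
  have hN : IsNoetherian X := Groth.Agent.CurvesB.CurveRR.isNoetherian_of_proper k X
  have hcoh : Coh.IsCoh (LieS.omega G) :=
    Groth.Agent.PerfA.CohSerre.isCoh_of_isFinLocFree (K795.OmegaGrp.isFinLocFree_omega G)
  refine ⟨(Module.finrank k (Coh.HH X (LieS.omega G) 1) : ℤ) +
    Groth.Agent.VarietyA.DegRank.rk (LieS.omega G) * |Curv2.euler k X (Coh.structureModule X)|, ?_⟩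
  intro P _ i hi n hn
  obtain ⟨h1, h2, h3, -⟩ := hi
  have : QuasiSeparated P.hom := by
    rw [← Over.w i]
    infer_instance
  obtain ⟨φ, hφ⟩ := K795.OmegaGrp.exists_epi i
  rw [K795.CurveBound.deg_eq_dg k hn]
  exact K795.CurveBound.neg_dg_le k hdim.le hcoh φ

end Groth.Agent.S13763
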