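import Groth.Statements.S13764
import Groth.Agent.CanPar.K204.Fin
import Groth.Agent.CanPar.K795.CoreFin

set_option autoImplicit false
universe u
open CategoryTheory CategoryTheory.Limits MonoidalCategory CartesianMonoidalCategory MonObj GrpObj AlgebraicGeometry
open CanPar

namespace Groth.Agent.S13764

/-- Let X be a smooth proper geometrically connected curve over a field k and G a reductive group scheme
over X. Then the set of parabolic subgroups of G of maximal degree has a largest element: there is a
parabolic subgroup P of G such that every parabolic subgroup Q of G has degree at most that of P,
and every Q whose degree equals that of P is contained in P (its inclusion factors through P). The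
degree of a parabolic subgroup is that of its Lie algebra bundle, written as minus the degree of the
locally free module of invariant differentials e^*Ω (dual to the Lie algebra), of the rank
quantified in the statement. The field k is arbitrary, and all parabolic subgroups in this statement
are subgroup schemes of G over X itself; nothing is asserted about their base change to extensions
of k. (The published result defines the canonical parabolic subgroup through positivity of its
numerical invariants and semi-stability of its Levi quotient, and proves that it exists, is unique
and is this largest element; this row states only the last characterisation.) -/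
theorem result (k : Type u) [Field k] (X : Scheme.{u}) [X.Over (Spec (CommRingCat.of k))]
    [IsIntegral X] [IsProper (X ↘ Spec (CommRingCat.of k))] [Smooth (X ↘ Spec (CommRingCat.of k))]
    [GeometricallyConnected (X ↘ Spec (CommRingCat.of k))] (hdim : topologicalKrullDim X = 1)
    (G : Over X) [GrpObj G] (hG : Red.IsReductive G) :
    ∃ (P : Over X) (_ : GrpObj P) (i : P ⟶ G) (n : ℕ), Red.IsParabolic i ∧
      FlatMod.IsFinLocFreeOfRank n (LieS.omega P) ∧
      ∀ (Q : Over X) [GrpObj Q] (j : Q ⟶ G), Red.IsParabolic j →
        ∀ m : ℕ, FlatMod.IsFinLocFreeOfRank m (LieS.omega Q) →
          -Curv2.deg k X (LieS.omega Q) m ≤ -Curv2.deg k X (LieS.omega P) n ∧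
          (Curv2.deg k X (LieS.omega Q) m = Curv2.deg k X (LieS.omega P) n → ∃ f : Q ⟶ P, f ≫ i = j) :=
  K204.Fin.exists_largest Groth.Agent.CanPar.K795.CoreFin.coreSplit k X (K204.Fin.valuationRing_stalk k X hdim) hdim G hG

end Groth.Agent.S13764
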