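import Groth.Statements.S13765
import Groth.Agent.CanPar.K204.Fin
import Groth.Agent.CanPar.K795.CoreFin

set_option autoImplicit false
universe u
open CategoryTheory CategoryTheory.Limits MonoidalCategory CartesianMonoidalCategory MonObj GrpObj AlgebraicGeometry
open CanPar

namespace Groth.Agent.S13765

/-- Let X be a smooth proper geometrically connected curve over a field k and G a reductive group scheme
over X. Then G has degree zero, the degree of G being that of its Lie algebra bundle; equivalently
the module of invariant differentials e^*Ω_{G/X}, which is locally free (of the rank n quantified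
below) and dual to the Lie algebra, has degree zero. -/
theorem result (k : Type u) [Field k] (X : Scheme.{u}) [X.Over (Spec (CommRingCat.of k))]
    [IsIntegral X] [IsProper (X ↘ Spec (CommRingCat.of k))] [Smooth (X ↘ Spec (CommRingCat.of k))]
    [GeometricallyConnected (X ↘ Spec (CommRingCat.of k))] (hdim : topologicalKrullDim X = 1)
    (G : Over X) [GrpObj G] (hG : Red.IsReductive G)
    (n : ℕ) (hn : FlatMod.IsFinLocFreeOfRank n (LieS.omega G)) :
    Curv2.deg k X (LieS.omega G) n = 0 :=
  K204.Fin.deg_zero Groth.Agent.CanPar.K795.CoreFin.coreSplitZero k X (K204.Fin.valuationRing_stalk k X hdim) hdim G hG n hn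

end Groth.Agent.S13765
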