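import Groth.Statements.S13766
import Groth.Agent.CanPar.K204.FinS
import Groth.Agent.CanPar.K795.CoreFin

set_option autoImplicit false
universe u
open CategoryTheory CategoryTheory.Limits MonoidalCategory CartesianMonoidalCategory MonObj GrpObj AlgebraicGeometry
open CanPar

namespace Groth.Agent.S13766

/-- Let X and Y be smooth proper geometrically connected curves over a field k, p : Y → X a finite
k-morphism which is étale over a nonempty open subset of Y (that is, a finite separable morphism of
curves), and let G be a reductive X-group scheme. Then semi-stability of G is equivalent to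
semi-stability of its pull-back G_Y to Y. Here a reductive group scheme over a curve is semi-stable
when every parabolic subgroup has degree at most zero, the degree of a parabolic subgroup P being
that of its Lie algebra bundle, written as minus the degree of the locally free module e^*Ω_{P} of
invariant differentials (dual to the Lie algebra, of the rank quantified in the statement); the
field k is arbitrary and the parabolic subgroups in question are those of G over X itself,
respectively of G_Y over Y, with no extension of k made. -/
theorem result
    (k : Type u) [Field k] (X Y : Scheme.{u}) [X.Over (Spec (CommRingCat.of k))] [Y.Over (Spec (CommRingCat.of k))]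
    [IsIntegral X] [IsProper (X ↘ Spec (CommRingCat.of k))] [Smooth (X ↘ Spec (CommRingCat.of k))]
    [GeometricallyConnected (X ↘ Spec (CommRingCat.of k))] (hdimX : topologicalKrullDim X = 1)
    [IsIntegral Y] [IsProper (Y ↘ Spec (CommRingCat.of k))] [Smooth (Y ↘ Spec (CommRingCat.of k))]
    [GeometricallyConnected (Y ↘ Spec (CommRingCat.of k))] (hdimY : topologicalKrullDim Y = 1)
    (p : Y ⟶ X) [IsFinite p] (hp : p ≫ (X ↘ Spec (CommRingCat.of k)) = Y ↘ Spec (CommRingCat.of k))
    (hsep : ∃ U : Y.Opens, (U : Set Y).Nonempty ∧ Etale (U.ι ≫ p))
    (G : Over X) [GrpObj G] (hG : Red.IsReductive G) :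
    (∀ (P : Over X) [GrpObj P] (i : P ⟶ G), Red.IsParabolic i →
        ∀ n : ℕ, FlatMod.IsFinLocFreeOfRank n (LieS.omega P) → 0 ≤ Curv2.deg k X (LieS.omega P) n) ↔
    (∀ (P : Over Y) [GrpObj P] (i : P ⟶ Red.bc p G), Red.IsParabolic i →
        ∀ n : ℕ, FlatMod.IsFinLocFreeOfRank n (LieS.omega P) → 0 ≤ Curv2.deg k Y (LieS.omega P) n) :=
  K204.FinS.semistable_iff Groth.Agent.CanPar.K795.CoreFin.coreSplit k X Y hdimX hdimY p hp hsep G hG

end Groth.Agent.S13766
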