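import Groth.Statements.S13767
import Groth.Agent.CanPar.K843.Main67
import Groth.Agent.S3978

set_option autoImplicit false
universe u
open CategoryTheory CategoryTheory.Limits MonoidalCategory CartesianMonoidalCategory MonObj GrpObj AlgebraicGeometry
open CanPar

namespace Groth.Agent.S13767

/-- Let R be a discrete valuation ring, p : X → Spec R a curve over Spec R (p smooth and proper with
geometrically connected fibres of dimension one) and G a reductive group scheme over X, with
restrictions G_η and G_0 to the generic fibre X_η and the closed fibre X_0, curves over the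
respective residue fields. Then the degree of instability of G_0 is at least that of G_η: for every
parabolic subgroup Q of G_η there is a parabolic subgroup P of G_0 whose degree is at least the
degree of Q. The degree of a parabolic subgroup is that of its Lie algebra bundle, written as minus
the degree of the locally free module e^*Ω of invariant differentials (dual to the Lie algebra, of
the rank quantified in the statement), computed on the fibre over its residue field. -/
theorem result
    (R : Type u) [CommRing R] [IsDomain R] [IsDiscreteValuationRing R]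
    (X : Scheme.{u}) (p : X ⟶ Spec (CommRingCat.of R)) [Smooth p] [IsProper p] [GeometricallyConnected p]
    (hdim : ∀ s : Spec (CommRingCat.of R), topologicalKrullDim (p.fiber s) = 1)
    (G : Over X) [GrpObj G] (hG : Red.IsReductive G)
    (Q : Over (p.fiber (⟨⊥, Ideal.isPrime_bot⟩ : PrimeSpectrum R))) [GrpObj Q]
    (j : Q ⟶ Red.bc (p.fiberι (⟨⊥, Ideal.isPrime_bot⟩ : PrimeSpectrum R)) G) (hQ : Red.IsParabolic j)
    (m : ℕ) (hm : FlatMod.IsFinLocFreeOfRank m (LieS.omega Q)) :
    ∃ (P : Over (p.fiber (IsLocalRing.closedPoint R))) (_ : GrpObj P)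
      (i : P ⟶ Red.bc (p.fiberι (IsLocalRing.closedPoint R)) G) (n : ℕ),
      Red.IsParabolic i ∧ FlatMod.IsFinLocFreeOfRank n (LieS.omega P) ∧
      -@Curv2.deg ((Spec (CommRingCat.of R)).residueField (⟨⊥, Ideal.isPrime_bot⟩ : PrimeSpectrum R)) _
          (p.fiber (⟨⊥, Ideal.isPrime_bot⟩ : PrimeSpectrum R)) ⟨p.fiberToSpecResidueField _⟩ (LieS.omega Q) m ≤
        -@Curv2.deg ((Spec (CommRingCat.of R)).residueField (IsLocalRing.closedPoint R)) _
          (p.fiber (IsLocalRing.closedPoint R)) ⟨p.fiberToSpecResidueField _⟩ (LieS.omega P) n := by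
  have hX : IsIntegral X := K843.CurveFib.isIntegral_total p
  have hV : IsIntegral (p.fiber (K795.GenFib.gpt R)) := K843.CurveFib.isIntegral_fiber p _
  have hY : IsIntegral (p.fiber (K843.CurveFib.cpt R)) := K843.CurveFib.isIntegral_fiber p _
  have hqs := K843.KillChain.quasiSeparated_of_reductive hG
  obtain ⟨M, H, _, h, hM, _, _, _⟩ := Groth.Agent.S3978.result G hG
  have := hQ.1
  have := K843.KillChain.quasiSeparated_of_parabolic hG hQ
  obtain ⟨P, _, i, _, _, φ, φ₀, a, φA, W, ρ, e, τ, hi, c1, c2, c3, c4, c5, c6, c7, c8, c9, c10, c11, c12, c13, c14,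
    c15, c16, c17⟩ := K843.Main67.exists_spec_par p hdim hG hM Q j hQ
  have := hi.2.2.1
  have hn : FlatMod.IsFinLocFreeOfRank (Groth.Agent.VarietyA.DegRank.rk (LieS.omega P)) (LieS.omega P) :=
    K843.Main67.isFinLocFreeOfRank_rk (K795.OmegaGrp.isFinLocFree_omega P)
  refine ⟨P, inferInstance, i, _, hi, hn, ?_⟩
  have e1 := K843.Main67.deg_eq_dgF p (K795.GenFib.gpt R) hm
  have e2 := K843.Main67.deg_eq_dgF p (K843.CurveFib.cpt R) hn
  exact neg_le_neg (e2.le.trans (c16.trans e1.ge))

end Groth.Agent.S13767
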