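import Groth.Statements.S13768
import Groth.Agent.CanPar.K204.FinS
import Groth.Agent.CanPar.K795.CoreFin

set_option autoImplicit false
universe u
open CategoryTheory CategoryTheory.Limits MonoidalCategory CartesianMonoidalCategory MonObj GrpObj AlgebraicGeometry
open CanPar

namespace Groth.Agent.S13768

/-- Let X and Y be smooth proper geometrically connected curves over a field k, p : Y → X a finite
k-morphism which is étale over a nonempty open subset of Y (a finite separable morphism of curves),
G a reductive group scheme over X and P ⊆ G the largest parabolic subgroup of maximal degree (every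
parabolic subgroup Q of G has degree at most that of P, and equality forces Q ⊆ P). Then the
pull-back P_Y ⊆ G_Y is the largest parabolic subgroup of maximal degree of G_Y. Degrees of parabolic
subgroups are those of their Lie algebra bundles, written as minus the degrees of the locally free
modules e^*Ω of invariant differentials (dual to the Lie algebras, of the ranks quantified in the
statement); the field k is arbitrary and all parabolic subgroups here are subgroup schemes over X
itself, respectively over Y. (The published statement says that the canonical parabolic subgroup,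
defined through numerical invariants and proved to be this largest element, commutes with such
pull-backs; this row states it in the latter form.) -/
theorem result
    (k : Type u) [Field k] (X Y : Scheme.{u}) [X.Over (Spec (CommRingCat.of k))] [Y.Over (Spec (CommRingCat.of k))]
    [IsIntegral X] [IsProper (X ↘ Spec (CommRingCat.of k))] [Smooth (X ↘ Spec (CommRingCat.of k))]
    [GeometricallyConnected (X ↘ Spec (CommRingCat.of k))] (hdimX : topologicalKrullDim X = 1)
    [IsIntegral Y] [IsProper (Y ↘ Spec (CommRingCat.of k))] [Smooth (Y ↘ Spec (CommRingCat.of k))]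
    [GeometricallyConnected (Y ↘ Spec (CommRingCat.of k))] (hdimY : topologicalKrullDim Y = 1)
    (p : Y ⟶ X) [IsFinite p] (hp : p ≫ (X ↘ Spec (CommRingCat.of k)) = Y ↘ Spec (CommRingCat.of k))
    (hsep : ∃ U : Y.Opens, (U : Set Y).Nonempty ∧ Etale (U.ι ≫ p))
    (G : Over X) [GrpObj G] (hG : Red.IsReductive G)
    (P : Over X) [GrpObj P] (i : P ⟶ G) (hP : Red.IsParabolic i) (n : ℕ)
    (hn : FlatMod.IsFinLocFreeOfRank n (LieS.omega P))
    (hmax : ∀ (Q : Over X) [GrpObj Q] (j : Q ⟶ G), Red.IsParabolic j →
        ∀ m : ℕ, FlatMod.IsFinLocFreeOfRank m (LieS.omega Q) →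
          -Curv2.deg k X (LieS.omega Q) m ≤ -Curv2.deg k X (LieS.omega P) n ∧
          (Curv2.deg k X (LieS.omega Q) m = Curv2.deg k X (LieS.omega P) n → ∃ f : Q ⟶ P, f ≫ i = j)) :
    ∀ n' : ℕ, FlatMod.IsFinLocFreeOfRank n' (LieS.omega (Red.bc p P)) →
      ∀ (Q' : Over Y) [GrpObj Q'] (j' : Q' ⟶ Red.bc p G), Red.IsParabolic j' →
        ∀ m' : ℕ, FlatMod.IsFinLocFreeOfRank m' (LieS.omega Q') →
          -Curv2.deg k Y (LieS.omega Q') m' ≤ -Curv2.deg k Y (LieS.omega (Red.bc p P)) n' ∧
          (Curv2.deg k Y (LieS.omega Q') m' = Curv2.deg k Y (LieS.omega (Red.bc p P)) n' → ∃ f : Q' ⟶ (Red.bc p P), f ≫ (Over.pullback p).map i = j') :=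
  K204.FinS.largest_pullback Groth.Agent.CanPar.K795.CoreFin.coreSplit k X Y hdimX hdimY p hp hsep G hG P i hP n hn hmax

end Groth.Agent.S13768
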