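import Groth.Statements.S13769
import Groth.Agent.CanPar.K843.Main69
import Groth.Agent.CanPar.K795.CoreFin

set_option autoImplicit false
universe u
open CategoryTheory CategoryTheory.Limits MonoidalCategory CartesianMonoidalCategory MonObj GrpObj AlgebraicGeometry
open CanPar

namespace Groth.Agent.S13769

/-- Let R be a discrete valuation ring, p : X → Spec R a curve over Spec R (smooth, proper, with
geometrically connected fibres of dimension one), G a reductive group scheme over X, and P_η ⊆ G_η,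
P_0 ⊆ G_0 the largest parabolic subgroups of maximal degree (the canonical parabolic subgroups) of
the restrictions of G to the generic fibre X_η and the closed fibre X_0. If the degrees of P_η and
P_0 agree (the two fibres have the same degree of instability), then there is a parabolic subgroup P
of G over X whose restriction to X_η is P_η and whose restriction to X_0 is P_0, as subgroups of G_η
and G_0. Degrees are those of the Lie algebra bundles, written as minus the degrees, over the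
residue fields, of the locally free modules e^*Ω of invariant differentials (dual to the Lie
algebras, of the ranks quantified in the statement). (The published statement is about the canonical
parabolic subgroups of the two fibres, defined through numerical invariants and proved to be the
largest parabolics of maximal degree; this row uses them in the latter form.) -/
theorem result
    (R : Type u) [CommRing R] [IsDomain R] [IsDiscreteValuationRing R]
    (X : Scheme.{u}) (p : X ⟶ Spec (CommRingCat.of R)) [Smooth p] [IsProper p] [GeometricallyConnected p]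
    (hdim : ∀ s : Spec (CommRingCat.of R), topologicalKrullDim (p.fiber s) = 1)
    (G : Over X) [GrpObj G] (hG : Red.IsReductive G)
    (Pη : Over (p.fiber (⟨⊥, Ideal.isPrime_bot⟩ : PrimeSpectrum R))) [GrpObj Pη] (iη : Pη ⟶ Red.bc (p.fiberι (⟨⊥, Ideal.isPrime_bot⟩ : PrimeSpectrum R)) G)
    (hPη : Red.IsParabolic iη) (nη : ℕ) (hnη : FlatMod.IsFinLocFreeOfRank nη (LieS.omega Pη))
    (hmaxη : ∀ (Q : Over (p.fiber (⟨⊥, Ideal.isPrime_bot⟩ : PrimeSpectrum R))) [GrpObj Q] (j : Q ⟶ Red.bc (p.fiberι (⟨⊥, Ideal.isPrime_bot⟩ : PrimeSpectrum R)) G), Red.IsParabolic j →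
        ∀ m : ℕ, FlatMod.IsFinLocFreeOfRank m (LieS.omega Q) →
          -@Curv2.deg ((Spec (CommRingCat.of R)).residueField (⟨⊥, Ideal.isPrime_bot⟩ : PrimeSpectrum R)) _ (p.fiber (⟨⊥, Ideal.isPrime_bot⟩ : PrimeSpectrum R)) ⟨p.fiberToSpecResidueField _⟩ (LieS.omega Q) m ≤ -@Curv2.deg ((Spec (CommRingCat.of R)).residueField (⟨⊥, Ideal.isPrime_bot⟩ : PrimeSpectrum R)) _ (p.fiber (⟨⊥, Ideal.isPrime_bot⟩ : PrimeSpectrum R)) ⟨p.fiberToSpecResidueField _⟩ (LieS.omega Pη) nη ∧
          (@Curv2.deg ((Spec (CommRingCat.of R)).residueField (⟨⊥, Ideal.isPrime_bot⟩ : PrimeSpectrum R)) _ (p.fiber (⟨⊥, Ideal.isPrime_bot⟩ : PrimeSpectrum R)) ⟨p.fiberToSpecResidueField _⟩ (LieS.omega Q) m = @Curv2.deg ((Spec (CommRingCat.of R)).residueField (⟨⊥, Ideal.isPrime_bot⟩ : PrimeSpectrum R)) _ (p.fiber (⟨⊥, Ideal.isPrime_bot⟩ : PrimeSpectrum R)) ⟨p.fiberToSpecResidueField _⟩ (LieS.omega Pη) nη → ∃ f : Q ⟶ Pη, f ≫ iη = j))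
    (P₀ : Over (p.fiber (IsLocalRing.closedPoint R))) [GrpObj P₀] (i₀ : P₀ ⟶ Red.bc (p.fiberι (IsLocalRing.closedPoint R)) G)
    (hP₀ : Red.IsParabolic i₀) (n₀ : ℕ) (hn₀ : FlatMod.IsFinLocFreeOfRank n₀ (LieS.omega P₀))
    (hmax₀ : ∀ (Q : Over (p.fiber (IsLocalRing.closedPoint R))) [GrpObj Q] (j : Q ⟶ Red.bc (p.fiberι (IsLocalRing.closedPoint R)) G), Red.IsParabolic j →
        ∀ m : ℕ, FlatMod.IsFinLocFreeOfRank m (LieS.omega Q) →
          -@Curv2.deg ((Spec (CommRingCat.of R)).residueField (IsLocalRing.closedPoint R)) _ (p.fiber (IsLocalRing.closedPoint R)) ⟨p.fiberToSpecResidueField _⟩ (LieS.omega Q) m ≤ -@Curv2.deg ((Spec (CommRingCat.of R)).residueField (IsLocalRing.closedPoint R)) _ (p.fiber (IsLocalRing.closedPoint R)) ⟨p.fiberToSpecResidueField _⟩ (LieS.omega P₀) n₀ ∧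
          (@Curv2.deg ((Spec (CommRingCat.of R)).residueField (IsLocalRing.closedPoint R)) _ (p.fiber (IsLocalRing.closedPoint R)) ⟨p.fiberToSpecResidueField _⟩ (LieS.omega Q) m = @Curv2.deg ((Spec (CommRingCat.of R)).residueField (IsLocalRing.closedPoint R)) _ (p.fiber (IsLocalRing.closedPoint R)) ⟨p.fiberToSpecResidueField _⟩ (LieS.omega P₀) n₀ → ∃ f : Q ⟶ P₀, f ≫ i₀ = j))
    (heq : @Curv2.deg ((Spec (CommRingCat.of R)).residueField (⟨⊥, Ideal.isPrime_bot⟩ : PrimeSpectrum R)) _ (p.fiber (⟨⊥, Ideal.isPrime_bot⟩ : PrimeSpectrum R)) ⟨p.fiberToSpecResidueField _⟩ (LieS.omega Pη) nη = @Curv2.deg ((Spec (CommRingCat.of R)).residueField (IsLocalRing.closedPoint R)) _ (p.fiber (IsLocalRing.closedPoint R)) ⟨p.fiberToSpecResidueField _⟩ (LieS.omega P₀) n₀) :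
    ∃ (P : Over X) (_ : GrpObj P) (i : P ⟶ G), Red.IsParabolic i ∧
      (∃ e : Red.bc (p.fiberι (⟨⊥, Ideal.isPrime_bot⟩ : PrimeSpectrum R)) P ≅ Pη, e.hom ≫ iη = (Over.pullback (p.fiberι (⟨⊥, Ideal.isPrime_bot⟩ : PrimeSpectrum R))).map i) ∧
      (∃ e : Red.bc (p.fiberι (IsLocalRing.closedPoint R)) P ≅ P₀, e.hom ≫ i₀ = (Over.pullback (p.fiberι (IsLocalRing.closedPoint R))).map i) :=
  K843.Main69.main p hdim hG Groth.Agent.CanPar.K795.CoreFin.coreSplit Pη iη hPη nη hnη hmaxη P₀ i₀ hP₀ n₀ hn₀ hmax₀ heq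

end Groth.Agent.S13769
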