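import Groth.Statements.S13770
import Groth.Agent.CanPar.K795.OmegaGrp
import Groth.Agent.CanPar.K795.UnifBound

set_option autoImplicit false
universe u
open CategoryTheory CategoryTheory.Limits MonoidalCategory CartesianMonoidalCategory MonObj GrpObj AlgebraicGeometry
open CanPar

namespace Groth.Agent.S13770

/-- Let S be a Noetherian scheme, p : X → S a curve over S (smooth, proper, with geometrically connected
fibres of dimension one) and G a reductive group scheme over X. Then the degrees of instability of
the fibres of G are uniformly bounded: there is an integer M such that for every field K and every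
morphism x : Spec K → S, every parabolic subgroup P of the restriction G_K of G to the curve X_K = X
×_S Spec K over K has degree at most M. The degree of a parabolic subgroup is that of its Lie
algebra bundle, written as minus the degree over K of the locally free module e^*Ω of invariant
differentials (dual to the Lie algebra, of the rank quantified in the statement). (The published
statement takes X projective over S; this row takes X proper over S, which is all that its proof
uses: the bound for a single curve over a field applied fibre by fibre, local constancy of the rank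
and of the genus, upper semicontinuity of the dimension of the space of global sections in a proper
flat family, and Noetherian induction on S.) -/
theorem result
    (S X : Scheme.{u}) [IsNoetherian S] (p : X ⟶ S) [Smooth p] [IsProper p] [GeometricallyConnected p]
    (hdim : ∀ s : S, topologicalKrullDim (p.fiber s) = 1)
    (G : Over X) [GrpObj G] (hG : Red.IsReductive G) :
    ∃ M : ℤ, ∀ (K : Type u) [Field K] (x : Spec (CommRingCat.of K) ⟶ S)
      (P : Over (pullback p x)) [GrpObj P] (i : P ⟶ Red.bc (pullback.fst p x) G), Red.IsParabolic i →
      ∀ n : ℕ, FlatMod.IsFinLocFreeOfRank n (LieS.omega P) →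
        -@Curv2.deg K _ (pullback p x) ⟨pullback.snd p x⟩ (LieS.omega P) n ≤ M := by
  have hGa := hG.1
  have hGs := hG.2.1
  have hXc : CompactSpace X := QuasiCompact.compactSpace_of_compactSpace p
  have hF := K795.OmegaGrp.isFinLocFree_omega G
  obtain ⟨N₁, h1⟩ := K795.UnifBound.exists_betti_bound p hF 1
  obtain ⟨M₀, h2⟩ := K795.UnifBound.exists_betti_bound p
    (Groth.Agent.PerfB.StructFlat.isFinLocFree_structure (X := X)) 0
  obtain ⟨M₁, h3⟩ := K795.UnifBound.exists_betti_bound p
    (Groth.Agent.PerfB.StructFlat.isFinLocFree_structure (X := X)) 1
  obtain ⟨r, h4⟩ := K795.FibreRank.exists_rank_bound hF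
  refine ⟨(N₁ : ℤ) + r * (M₀ + M₁), ?_⟩
  intro K _ x P _ i hi n hn
  have hint := K795.UnifBound.isIntegral_pullback p x
  obtain ⟨hi1, hi2, hi3, -⟩ := hi
  have hqG : QuasiSeparated (Red.bc (pullback.fst p x) G).hom := by
    change QuasiSeparated (pullback.snd G.hom (pullback.fst p x))
    infer_instance
  have hqP : QuasiSeparated P.hom := by
    rw [← Over.w i]
    infer_instance
  obtain ⟨φ, hφ⟩ := K795.OmegaGrp.exists_epi i
  let φ' : (Scheme.Modules.pullback (pullback.fst p x)).obj (LieS.omega G) ⟶ LieS.omega P :=
    (K795.OmegaGrp.omegaBC (pullback.fst p x) G).inv ≫ φ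
  have h5 := K795.UnifBound.neg_dg_le' p x hdim hF h1 h2 h3 h4 φ'
  letI : (pullback p x).Over (Spec (CommRingCat.of K)) := ⟨pullback.snd p x⟩
  rw [K795.CurveBound.deg_eq_dg K hn]
  exact h5

end Groth.Agent.S13770
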