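import Groth.Statements.S13771
import Groth.Agent.PLie.K796.Words

set_option autoImplicit false
universe u v w
open PLie

namespace Groth.Agent.S13771

/-- Let R be a commutative ring of prime characteristic p, L₁ and L₂ Lie algebras over R, φ a p-mapping
on L₁ and f : L₁ → L₂ a morphism of Lie algebras whose kernel is stable under φ (a p-ideal). Then
the image f(L₁), a Lie subalgebra of L₂, carries exactly one p-mapping ψ for which the corestriction
of f to its image is a morphism of p-Lie algebras, i.e. ψ (f x) = f (φ x) for all x. -/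
theorem result (R : Type u) [CommRing R] (p : ℕ) [Fact p.Prime] [CharP R p]
    (L₁ : Type v) [LieRing L₁] [LieAlgebra R L₁] (L₂ : Type w) [LieRing L₂] [LieAlgebra R L₂]
    (φ : PLie.PMap R p L₁) (f : L₁ →ₗ⁅R⁆ L₂) (hker : ∀ x : L₁, f x = 0 → f (φ x) = 0) :
    ∃! ψ : PLie.PMap R p f.range, PLie.IsPHom φ ψ f.rangeRestrict := by
  have key : ∀ x y : L₁, f x = f y → f (φ x) = f (φ y) := by
    intro x y hxy
    have h1 : f (x - y) = 0 := by rw [map_sub, hxy, sub_self]
    have h2 : φ x = φ y + φ (x - y) - jacobson R p y (x - y) := by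
      have := φ.map_add y (x - y)
      rw [add_sub_cancel] at this
      exact this
    rw [h2, map_sub, map_add, hker _ h1, K796.Words.map_jacobson, h1,
      K796.Words.jacobson_zero_right, add_zero, sub_zero]
  have hex : ∀ z : f.range, ∃ x : L₁, f x = z := fun z => by
    obtain ⟨x, hx⟩ := (LieHom.mem_range f z.1).mp z.2
    exact ⟨x, hx⟩
  choose s hs using hex
  have hcoe : ∀ x : L₁, ((f.rangeRestrict x : f.range) : L₂) = f x := fun x => rfl
  have hval : ∀ x : L₁, f (φ (s (f.rangeRestrict x))) = f (φ x) := fun x => key _ _ (by rw [hs, hcoe])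
  let ψ₀ : f.range → f.range := fun z => f.rangeRestrict (φ (s z))
  have hψ : ∀ x : L₁, ψ₀ (f.rangeRestrict x) = f.rangeRestrict (φ x) := fun x =>
    Subtype.ext (hval x)
  have hsur : Function.Surjective f.rangeRestrict := LieHom.surjective_rangeRestrict f
  let ψ : PLie.PMap R p f.range :=
    { toFun := ψ₀
      map_smul := fun c z => by
        obtain ⟨x, rfl⟩ := hsur z
        rw [← map_smul, hψ, hψ]
        rw [← map_smul]
        congr 1
        exact φ.map_smul c x
      ad_map := fun z => by
        obtain ⟨x, rfl⟩ := hsur z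
        ext w
        obtain ⟨y, rfl⟩ := hsur w
        rw [hψ, LieAlgebra.ad_apply, ← LieHom.map_lie]
        have h1 : ∀ n : ℕ, ((LieAlgebra.ad R f.range) (f.rangeRestrict x) ^ n) (f.rangeRestrict y) =
            f.rangeRestrict ((LieAlgebra.ad R L₁ x ^ n) y) := by
          intro n
          induction n with
          | zero => rfl
          | succ n ih =>
            rw [pow_succ', pow_succ', Module.End.mul_apply, Module.End.mul_apply, ih,
              LieAlgebra.ad_apply, LieAlgebra.ad_apply, LieHom.map_lie]
        rw [h1, ← φ.ad_map]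
        rfl
      map_add := fun z w => by
        obtain ⟨x, rfl⟩ := hsur z
        obtain ⟨y, rfl⟩ := hsur w
        rw [← map_add, hψ, hψ, hψ, ← K796.Words.map_jacobson, ← map_add, ← map_sub]
        congr 1
        exact φ.map_add x y }
  refine ⟨ψ, fun x => (hψ x).symm, fun χ hχ => ?_⟩
  have h3 : χ.toFun = ψ.toFun := by
    funext z
    obtain ⟨x, rfl⟩ := hsur z
    rw [← hχ x]
    exact (hψ x).symm
  cases χ
  simp only at h3
  subst h3
  rfl

end Groth.Agent.S13771
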