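import Groth.Statements.S13772
import Mathlib.Tactic.Abel
import Mathlib.Algebra.Lie.Abelian

set_option autoImplicit false
universe u v
open PLie

namespace Groth.Agent.S13772

/-- Let R be a commutative ring of prime characteristic p and L a Lie algebra over R with a p-mapping γ.
For a map g : L → L, there is a p-mapping γ' on L with γ' x = γ x + g x for every x if and only if g
is additive, g (c • x) = c ^ p • g x for all scalars c, and every value g x lies in the centre of L.
(Both parts of the published statement at once: the difference of two p-mappings is a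
Frobenius-semilinear map into the centre, and adding such a map to a p-mapping gives a p-mapping.) -/
theorem result (R : Type u) [CommRing R] (p : ℕ) [Fact p.Prime] [CharP R p]
    (L : Type v) [LieRing L] [LieAlgebra R L] (γ : PLie.PMap R p L) (g : L → L) :
    (∃ γ' : PLie.PMap R p L, ∀ x : L, γ' x = γ x + g x) ↔
      ((∀ x y : L, g (x + y) = g x + g y) ∧ (∀ (c : R) (x : L), g (c • x) = c ^ p • g x) ∧
        ∀ x : L, g x ∈ LieAlgebra.center R L) := by
  constructor
  · rintro ⟨γ', h⟩
    have hg : ∀ x, g x = γ' x - γ x := fun x => by rw [h x, add_sub_cancel_left]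
    refine ⟨fun x y => ?_, fun c x => ?_, fun x => ?_⟩
    · rw [hg, hg, hg]
      change γ'.toFun (x + y) - γ.toFun (x + y) = _
      rw [γ'.map_add, γ.map_add]
      abel
    · rw [hg, hg]
      change γ'.toFun (c • x) - γ.toFun (c • x) = _
      rw [γ'.map_smul, γ.map_smul, smul_sub]
    · rw [LieModule.mem_maxTrivSubmodule]
      intro y
      have h1 : LieAlgebra.ad R L (g x) = 0 := by
        rw [hg, map_sub]
        change LieAlgebra.ad R L (γ'.toFun x) - LieAlgebra.ad R L (γ.toFun x) = 0
        rw [γ'.ad_map, γ.ad_map, sub_self]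
      have h2 : ⁅g x, y⁆ = 0 := by
        rw [← LieAlgebra.ad_apply R, h1, LinearMap.zero_apply]
      rw [← lie_skew, h2, neg_zero]
  · rintro ⟨hadd, hsmul, hc⟩
    refine ⟨⟨fun x => γ x + g x, fun c x => ?_, fun x => ?_, fun x y => ?_⟩, fun x => rfl⟩
    · change γ.toFun (c • x) + g (c • x) = c ^ p • (γ.toFun x + g x)
      rw [γ.map_smul, hsmul, smul_add]
    · change LieAlgebra.ad R L (γ.toFun x + g x) = _
      have h1 : LieAlgebra.ad R L (g x) = 0 := by
        ext y
        have := (LieModule.mem_maxTrivSubmodule (R := R) (L := L) (M := L) (g x)).mp (hc x) y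
        rw [LieAlgebra.ad_apply, ← lie_skew, this, neg_zero, LinearMap.zero_apply]
      rw [map_add, γ.ad_map, h1, add_zero]
    · change γ.toFun (x + y) + g (x + y) = γ.toFun x + g x + (γ.toFun y + g y) - _
      rw [γ.map_add, hadd]
      abel

end Groth.Agent.S13772
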