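import Groth.Statements.S13775
import Mathlib.Tactic.Module
import Mathlib.Tactic.Ring
import Mathlib.LinearAlgebra.Basis.Basic

set_option autoImplicit false
universe u v
open PLie

namespace Groth.Agent.S13775

/-- Let R be a commutative ring of prime characteristic p and L a Lie algebra over R, free as a module
with basis x = bs 0, y = bs 1, z = bs 2 and brackets [x,y] = y, [x,z] = y + z, [y,z] = 0. Then L
carries no p-mapping. (The published statement is the corresponding entry of the classification
table of three-dimensional Lie algebras over an algebraically closed field of characteristic p; this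
row states it over every commutative ring of characteristic p.) -/
theorem result (R : Type u) [CommRing R] (p : ℕ) [Fact p.Prime] [CharP R p]
    (L : Type v) [LieRing L] [LieAlgebra R L] (bs : Module.Basis (Fin 3) R L)
    (hxy : ⁅bs 0, bs 1⁆ = bs 1) (hxz : ⁅bs 0, bs 2⁆ = bs 1 + bs 2) (hyz : ⁅bs 1, bs 2⁆ = 0) :
    IsEmpty (PLie.PMap R p L) := by
  refine ⟨fun φ => ?_⟩
  have hp2 : 2 ≤ p := (Fact.out : p.Prime).two_le
  have : Nontrivial R := CharP.nontrivial_of_char_ne_one (Fact.out : p.Prime).ne_one
  have h1 : ∀ n : ℕ, (LieAlgebra.ad R L (bs 0) ^ n) (bs 1) = bs 1 := by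
    intro n
    induction n with
    | zero => rfl
    | succ n ih => rw [pow_succ', Module.End.mul_apply, ih, LieAlgebra.ad_apply, hxy]
  have h2 : ∀ n : ℕ, (LieAlgebra.ad R L (bs 0) ^ n) (bs 2) = (n : R) • bs 1 + bs 2 := by
    intro n
    induction n with
    | zero => simp
    | succ n ih =>
      rw [pow_succ', Module.End.mul_apply, ih, LieAlgebra.ad_apply, lie_add, lie_smul, hxy, hxz]
      push_cast
      module
  have h3 : ⁅φ (bs 0), bs 1⁆ = bs 1 := by
    rw [← LieAlgebra.ad_apply R, φ.ad_map, h1]
  have h4 : ⁅φ (bs 0), bs 2⁆ = bs 2 := by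
    rw [← LieAlgebra.ad_apply R, φ.ad_map, h2, CharP.cast_eq_zero, zero_smul, zero_add]
  have hw : φ (bs 0) = bs.repr (φ (bs 0)) 0 • bs 0 + bs.repr (φ (bs 0)) 1 • bs 1 +
      bs.repr (φ (bs 0)) 2 • bs 2 := by
    have := bs.sum_repr (φ (bs 0))
    rw [Fin.sum_univ_three] at this
    exact this.symm
  generalize bs.repr (φ (bs 0)) 0 = α at hw
  generalize bs.repr (φ (bs 0)) 1 = β at hw
  generalize bs.repr (φ (bs 0)) 2 = γ at hw
  rw [hw] at h3 h4
  have hzy : ⁅bs 2, bs 1⁆ = 0 := by rw [← lie_skew, hyz, neg_zero]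
  simp only [add_lie, smul_lie, hxy, hxz, hyz, hzy, lie_self, smul_zero, add_zero] at h3 h4
  have e3 := congrArg (fun v => bs.repr v 1) h3
  have e4 := congrArg (fun v => bs.repr v 1) h4
  simp only [map_smul, map_add, smul_add, Module.Basis.repr_self, Finsupp.add_apply, Finsupp.smul_apply,
    Finsupp.single_eq_same, smul_eq_mul, mul_one] at e3 e4
  rw [Finsupp.single_eq_of_ne (by decide), mul_zero, add_zero, e3] at e4
  exact one_ne_zero e4

end Groth.Agent.S13775
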