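import Groth.Statements.S13776
import Groth.Agent.PLie.K796.FromBasis
import Mathlib.Tactic.FinCases

set_option autoImplicit false
universe u v
open PLie

namespace Groth.Agent.S13776

/-- Let R be a commutative ring of prime characteristic p, t ∈ R, and L a Lie algebra over R, free as a
module with basis x = bs 0, y = bs 1, z = bs 2 and brackets [x,y] = y, [x,z] = t • z, [y,z] = 0.
Then L carries a p-mapping if and only if t ^ p = t. (The published statement is the corresponding
entry of the classification table over an algebraically closed field of characteristic p, where the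
condition reads: t lies in the prime field; this row states it over every commutative ring of
characteristic p.) -/
theorem result (R : Type u) [CommRing R] (p : ℕ) [Fact p.Prime] [CharP R p] (t : R)
    (L : Type v) [LieRing L] [LieAlgebra R L] (bs : Module.Basis (Fin 3) R L)
    (hxy : ⁅bs 0, bs 1⁆ = bs 1) (hxz : ⁅bs 0, bs 2⁆ = t • bs 2) (hyz : ⁅bs 1, bs 2⁆ = 0) :
    Nonempty (PLie.PMap R p L) ↔ t ^ p = t := by
  have hp2 : 2 ≤ p := (Fact.out : p.Prime).two_le
  have : Nontrivial R := CharP.nontrivial_of_char_ne_one (Fact.out : p.Prime).ne_one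
  have hzy : ⁅bs 2, bs 1⁆ = 0 := by rw [← lie_skew, hyz, neg_zero]
  have hyx : ⁅bs 1, bs 0⁆ = -bs 1 := by rw [← lie_skew, hxy]
  have hzx : ⁅bs 2, bs 0⁆ = -(t • bs 2) := by rw [← lie_skew, hxz]
  have h1 : ∀ n : ℕ, (LieAlgebra.ad R L (bs 0) ^ n) (bs 1) = bs 1 := by
    intro n
    induction n with
    | zero => rfl
    | succ n ih => rw [pow_succ', Module.End.mul_apply, ih, LieAlgebra.ad_apply, hxy]
  have h2 : ∀ n : ℕ, (LieAlgebra.ad R L (bs 0) ^ n) (bs 2) = t ^ n • bs 2 := by
    intro n
    induction n with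
    | zero => simp
    | succ n ih =>
      rw [pow_succ', Module.End.mul_apply, ih, LieAlgebra.ad_apply, lie_smul, hxz, smul_smul, pow_succ]
  constructor
  · rintro ⟨φ⟩
    have h3 : ⁅φ (bs 0), bs 1⁆ = bs 1 := by
      rw [← LieAlgebra.ad_apply R, φ.ad_map, h1]
    have h4 : ⁅φ (bs 0), bs 2⁆ = t ^ p • bs 2 := by
      rw [← LieAlgebra.ad_apply R, φ.ad_map, h2]
    have hw : φ (bs 0) = bs.repr (φ (bs 0)) 0 • bs 0 + bs.repr (φ (bs 0)) 1 • bs 1 +
        bs.repr (φ (bs 0)) 2 • bs 2 := by
      have := bs.sum_repr (φ (bs 0))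
      rw [Fin.sum_univ_three] at this
      exact this.symm
    generalize bs.repr (φ (bs 0)) 0 = α at hw
    generalize bs.repr (φ (bs 0)) 1 = β at hw
    generalize bs.repr (φ (bs 0)) 2 = γ at hw
    rw [hw] at h3 h4
    simp only [add_lie, smul_lie, hxy, hxz, hyz, hzy, lie_self, smul_zero, add_zero] at h3 h4
    have e3 := congrArg (fun v => bs.repr v 1) h3
    have e4 := congrArg (fun v => bs.repr v 2) h4
    simp only [map_smul, Module.Basis.repr_self, Finsupp.smul_apply,
      Finsupp.single_eq_same, smul_eq_mul, mul_one] at e3 e4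
    rw [e3, one_mul] at e4
    exact e4.symm
  · intro ht
    have had0 : LieAlgebra.ad R L (bs 0) ^ p = LieAlgebra.ad R L (bs 0) := by
      refine bs.ext fun i => ?_
      fin_cases i
      · change (LieAlgebra.ad R L (bs 0) ^ p) (bs 0) = LieAlgebra.ad R L (bs 0) (bs 0)
        have hp : p = (p - 1) + 1 := by omega
        rw [hp, pow_succ, Module.End.mul_apply, LieAlgebra.ad_apply, lie_self, map_zero]
      · change (LieAlgebra.ad R L (bs 0) ^ p) (bs 1) = LieAlgebra.ad R L (bs 0) (bs 1)
        rw [h1, LieAlgebra.ad_apply, hxy]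
      · change (LieAlgebra.ad R L (bs 0) ^ p) (bs 2) = LieAlgebra.ad R L (bs 0) (bs 2)
        rw [h2, LieAlgebra.ad_apply, hxz, ht]
    have hsq : ∀ a c : L, (LieAlgebra.ad R L a ^ 2) c = ⁅a, ⁅a, c⁆⁆ := fun a c => by
      rw [pow_two, Module.End.mul_apply, LieAlgebra.ad_apply, LieAlgebra.ad_apply]
    have had1 : LieAlgebra.ad R L (bs 1) ^ 2 = 0 := by
      refine bs.ext fun i => ?_
      fin_cases i
      · change (LieAlgebra.ad R L (bs 1) ^ 2) (bs 0) = 0
        rw [hsq, hyx, lie_neg, lie_self, neg_zero]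
      · change (LieAlgebra.ad R L (bs 1) ^ 2) (bs 1) = 0
        rw [hsq, lie_self, lie_zero]
      · change (LieAlgebra.ad R L (bs 1) ^ 2) (bs 2) = 0
        rw [hsq, hyz, lie_zero]
    have had2 : LieAlgebra.ad R L (bs 2) ^ 2 = 0 := by
      refine bs.ext fun i => ?_
      fin_cases i
      · change (LieAlgebra.ad R L (bs 2) ^ 2) (bs 0) = 0
        rw [hsq, hzx, lie_neg, lie_smul, lie_self, smul_zero, neg_zero]
      · change (LieAlgebra.ad R L (bs 2) ^ 2) (bs 1) = 0
        rw [hsq, hzy, lie_zero]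
      · change (LieAlgebra.ad R L (bs 2) ^ 2) (bs 2) = 0
        rw [hsq, lie_self, lie_zero]
    obtain ⟨φ, -, -⟩ := K796.FromBasis.existsUnique_of_basis (p := p) bs ![bs 0, 0, 0] (fun i => by
      fin_cases i
      · exact had0
      · change LieAlgebra.ad R L (bs 1) ^ p = LieAlgebra.ad R L 0
        rw [map_zero, ← Nat.add_sub_cancel' hp2, pow_add, had1, zero_mul]
      · change LieAlgebra.ad R L (bs 2) ^ p = LieAlgebra.ad R L 0
        rw [map_zero, ← Nat.add_sub_cancel' hp2, pow_add, had2, zero_mul])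
    exact ⟨φ⟩

end Groth.Agent.S13776
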