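import Groth.Statements.S13777
import Mathlib.Tactic.Module
import Mathlib.Tactic.Ring
import Mathlib.LinearAlgebra.Basis.Basic

set_option autoImplicit false
universe u v
open PLie

namespace Groth.Agent.S13777

/-- Let R be a commutative ring of characteristic 2 and L a Lie algebra over R, free as a module with
basis x = bs 0, y = bs 1, z = bs 2 and brackets [x,y] = z, [x,z] = −x, [y,z] = y. Then L carries no
2-mapping. (The published statement is the corresponding entry of the classification table over an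
algebraically closed field of characteristic 2; this row states it over every commutative ring of
characteristic 2.) -/
theorem result (R : Type u) [CommRing R] [CharP R 2]
    (L : Type v) [LieRing L] [LieAlgebra R L] (bs : Module.Basis (Fin 3) R L)
    (hxy : ⁅bs 0, bs 1⁆ = bs 2) (hxz : ⁅bs 0, bs 2⁆ = -bs 0) (hyz : ⁅bs 1, bs 2⁆ = bs 1) :
    IsEmpty (PLie.PMap R 2 L) := by
  refine ⟨fun φ => ?_⟩
  have : Nontrivial R := CharP.nontrivial_of_char_ne_one (v := 2) (by decide)
  have hzy : ⁅bs 2, bs 1⁆ = -bs 1 := by rw [← lie_skew, hyz]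
  have hyx : ⁅bs 1, bs 0⁆ = -bs 2 := by rw [← lie_skew, hxy]
  have hzx : ⁅bs 2, bs 0⁆ = bs 0 := by rw [← lie_skew, hxz, neg_neg]
  have h3 : ⁅φ (bs 0), bs 1⁆ = -bs 0 := by
    rw [← LieAlgebra.ad_apply R, φ.ad_map, pow_two, Module.End.mul_apply, LieAlgebra.ad_apply,
      LieAlgebra.ad_apply, hxy, hxz]
  have h4 : ⁅φ (bs 0), bs 0⁆ = 0 := by
    rw [← LieAlgebra.ad_apply R, φ.ad_map, pow_two, Module.End.mul_apply, LieAlgebra.ad_apply,
      LieAlgebra.ad_apply, lie_self, lie_zero]
  have hw : φ (bs 0) = bs.repr (φ (bs 0)) 0 • bs 0 + bs.repr (φ (bs 0)) 1 • bs 1 +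
      bs.repr (φ (bs 0)) 2 • bs 2 := by
    have := bs.sum_repr (φ (bs 0))
    rw [Fin.sum_univ_three] at this
    exact this.symm
  generalize bs.repr (φ (bs 0)) 0 = α at hw
  generalize bs.repr (φ (bs 0)) 1 = β at hw
  generalize bs.repr (φ (bs 0)) 2 = γ at hw
  rw [hw] at h3
  simp only [add_lie, smul_lie, hxy, hzy, lie_self, smul_zero, add_zero] at h3
  have e3 := congrArg (fun v => bs.repr v 0) h3
  simp only [map_smul, map_add, map_neg, Module.Basis.repr_self, Finsupp.smul_apply, Finsupp.add_apply,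
    Finsupp.neg_apply, Finsupp.single_eq_same, smul_eq_mul] at e3
  rw [Finsupp.single_eq_of_ne (by decide), Finsupp.single_eq_of_ne (by decide), mul_zero, neg_zero,
    mul_zero, add_zero, zero_eq_neg] at e3
  exact one_ne_zero e3

end Groth.Agent.S13777
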