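import Groth.Statements.S13779
import Groth.Agent.PLie.K796.FromBasis
import Mathlib.Tactic.FinCases
import Mathlib.Tactic.Ring
import Mathlib.Algebra.Ring.Parity

set_option autoImplicit false
universe u v
open PLie

namespace Groth.Agent.S13779

/-- Let p be an odd prime, R a commutative ring of characteristic p, t ∈ R, and L a Lie algebra over R,
free as a module with basis x = bs 0, y = bs 1, z = bs 2 and brackets [x,y] = z, [x,z] = t • y,
[y,z] = 0. Then L carries a p-mapping φ with φ x = t ^ ((p - 1) / 2) • x, φ y = 0 and φ z = 0. (The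
published statement concerns the Lie algebra with these brackets over a field of Laurent series
k((t)), k algebraically closed of odd characteristic, t the variable; this row states its
restrictability over every commutative ring of odd prime characteristic and every t.) -/
theorem result (R : Type u) [CommRing R] (p : ℕ) [Fact p.Prime] [CharP R p] (hp : p ≠ 2)
    (t : R) (L : Type v) [LieRing L] [LieAlgebra R L] (bs : Module.Basis (Fin 3) R L)
    (hxy : ⁅bs 0, bs 1⁆ = bs 2) (hxz : ⁅bs 0, bs 2⁆ = t • bs 1) (hyz : ⁅bs 1, bs 2⁆ = 0) :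
    ∃ φ : PLie.PMap R p L, φ (bs 0) = t ^ ((p - 1) / 2) • bs 0 ∧ φ (bs 1) = 0 ∧ φ (bs 2) = 0 := by
  have hp2 : 2 ≤ p := (Fact.out : p.Prime).two_le
  have hodd : Odd p := (Fact.out : p.Prime).odd_of_ne_two hp
  have hp3 : p = 2 * ((p - 1) / 2) + 1 := by
    obtain ⟨m, hm⟩ := hodd
    omega
  have hzy : ⁅bs 2, bs 1⁆ = 0 := by rw [← lie_skew, hyz, neg_zero]
  have hyx : ⁅bs 1, bs 0⁆ = -bs 2 := by rw [← lie_skew, hxy]
  have hzx : ⁅bs 2, bs 0⁆ = -(t • bs 1) := by rw [← lie_skew, hxz]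
  have hsq : ∀ a c : L, (LieAlgebra.ad R L a ^ 2) c = ⁅a, ⁅a, c⁆⁆ := fun a c => by
    rw [pow_two, Module.End.mul_apply, LieAlgebra.ad_apply, LieAlgebra.ad_apply]
  have had1 : LieAlgebra.ad R L (bs 1) ^ 2 = 0 := by
    refine bs.ext fun i => ?_
    fin_cases i
    · change (LieAlgebra.ad R L (bs 1) ^ 2) (bs 0) = 0
      rw [hsq, hyx, lie_neg, hyz, neg_zero]
    · change (LieAlgebra.ad R L (bs 1) ^ 2) (bs 1) = 0
      rw [hsq, lie_self, lie_zero]
    · change (LieAlgebra.ad R L (bs 1) ^ 2) (bs 2) = 0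
      rw [hsq, hyz, lie_zero]
  have had2 : LieAlgebra.ad R L (bs 2) ^ 2 = 0 := by
    refine bs.ext fun i => ?_
    fin_cases i
    · change (LieAlgebra.ad R L (bs 2) ^ 2) (bs 0) = 0
      rw [hsq, hzx, lie_neg, lie_smul, hzy, smul_zero, neg_zero]
    · change (LieAlgebra.ad R L (bs 2) ^ 2) (bs 1) = 0
      rw [hsq, hzy, lie_zero]
    · change (LieAlgebra.ad R L (bs 2) ^ 2) (bs 2) = 0
      rw [hsq, lie_self, lie_zero]
  have hev1 : ∀ m : ℕ, (LieAlgebra.ad R L (bs 0) ^ (2 * m + 1)) (bs 1) = t ^ m • bs 2 := by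
    intro m
    induction m with
    | zero => simp [hxy]
    | succ m ih =>
      have : 2 * (m + 1) + 1 = 2 + (2 * m + 1) := by ring
      rw [this, pow_add, Module.End.mul_apply, ih, hsq, lie_smul, lie_smul, hxz, lie_smul, hxy, smul_smul,
        pow_succ]
  have hev2 : ∀ m : ℕ, (LieAlgebra.ad R L (bs 0) ^ (2 * m + 1)) (bs 2) = t ^ (m + 1) • bs 1 := by
    intro m
    induction m with
    | zero => simp [hxz]
    | succ m ih =>
      have : 2 * (m + 1) + 1 = 2 + (2 * m + 1) := by ring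
      rw [this, pow_add, Module.End.mul_apply, ih, hsq, lie_smul, lie_smul, hxy, hxz, smul_smul,
        ← pow_succ]
  have had0 : LieAlgebra.ad R L (bs 0) ^ p = LieAlgebra.ad R L (t ^ ((p - 1) / 2) • bs 0) := by
    refine bs.ext fun i => ?_
    conv_lhs => rw [hp3]
    rw [_root_.map_smul, LinearMap.smul_apply]
    fin_cases i
    · change (LieAlgebra.ad R L (bs 0) ^ (2 * ((p - 1) / 2) + 1)) (bs 0) =
        t ^ ((p - 1) / 2) • LieAlgebra.ad R L (bs 0) (bs 0)
      rw [pow_succ, Module.End.mul_apply, LieAlgebra.ad_apply, lie_self, map_zero, smul_zero]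
    · change (LieAlgebra.ad R L (bs 0) ^ (2 * ((p - 1) / 2) + 1)) (bs 1) =
        t ^ ((p - 1) / 2) • LieAlgebra.ad R L (bs 0) (bs 1)
      rw [hev1, LieAlgebra.ad_apply, hxy]
    · change (LieAlgebra.ad R L (bs 0) ^ (2 * ((p - 1) / 2) + 1)) (bs 2) =
        t ^ ((p - 1) / 2) • LieAlgebra.ad R L (bs 0) (bs 2)
      rw [hev2, LieAlgebra.ad_apply, hxz, smul_smul, pow_succ]
  obtain ⟨φ, hφ, -⟩ := K796.FromBasis.existsUnique_of_basis (p := p) bs
    ![t ^ ((p - 1) / 2) • bs 0, 0, 0] (fun i => by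
      fin_cases i
      · exact had0
      · change LieAlgebra.ad R L (bs 1) ^ p = LieAlgebra.ad R L 0
        rw [map_zero, ← Nat.add_sub_cancel' hp2, pow_add, had1, zero_mul]
      · change LieAlgebra.ad R L (bs 2) ^ p = LieAlgebra.ad R L 0
        rw [map_zero, ← Nat.add_sub_cancel' hp2, pow_add, had2, zero_mul])
  exact ⟨φ, hφ 0, hφ 1, hφ 2⟩

end Groth.Agent.S13779
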