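import Groth.Statements.S13780
import Mathlib.Algebra.Lie.Abelian

set_option autoImplicit false
universe u v w
open PLie

namespace Groth.Agent.S13780

/-- Let R be a commutative ring of prime characteristic p, L and L' Lie algebras over R with p-mappings
γ and γ', the centre of L' being zero, and φ : L ≃ L' an isomorphism of Lie algebras over R. Then φ
(γ x) = γ' (φ x) for every x: φ is an isomorphism of p-Lie algebras. (The published statement is the
case L' = L of a centreless restrictable Lie algebra over a field with its unique p-mapping and a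
Lie algebra automorphism; this row allows two algebras and any commutative base ring of
characteristic p.) -/
theorem result (R : Type u) [CommRing R] (p : ℕ) [Fact p.Prime] [CharP R p]
    (L : Type v) [LieRing L] [LieAlgebra R L] (L' : Type w) [LieRing L'] [LieAlgebra R L']
    (γ : PLie.PMap R p L) (γ' : PLie.PMap R p L') (hZ : LieAlgebra.center R L' = ⊥) (φ : L ≃ₗ⁅R⁆ L') :
    PLie.IsPHom γ γ' φ.toLieHom := by
  intro x
  have hφ : ∀ z w : L, φ.toLieHom ⁅z, w⁆ = ⁅φ.toLieHom z, φ.toLieHom w⁆ := fun z w => LieHom.map_lie _ z w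
  have h1 : ∀ (n : ℕ) (y : L), φ.toLieHom ((LieAlgebra.ad R L x ^ n) y) =
      (LieAlgebra.ad R L' (φ.toLieHom x) ^ n) (φ.toLieHom y) := by
    intro n
    induction n with
    | zero => intro y; rfl
    | succ n ih =>
      intro y
      rw [pow_succ', pow_succ', Module.End.mul_apply, Module.End.mul_apply, ← ih, LieAlgebra.ad_apply,
        LieAlgebra.ad_apply, hφ]
  have h2 : ∀ y : L, ⁅φ.toLieHom (γ x), φ.toLieHom y⁆ = ⁅γ' (φ.toLieHom x), φ.toLieHom y⁆ := by
    intro y
    rw [← hφ, ← LieAlgebra.ad_apply R L, ← LieAlgebra.ad_apply R L', γ.ad_map, γ'.ad_map, h1]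
  have h3 : φ.toLieHom (γ x) - γ' (φ.toLieHom x) ∈ LieAlgebra.center R L' := by
    rw [LieModule.mem_maxTrivSubmodule]
    intro z
    obtain ⟨y, rfl⟩ : ∃ y, φ.toLieHom y = z := φ.surjective z
    rw [← lie_skew, sub_lie, h2, sub_self, neg_zero]
  rw [hZ, LieSubmodule.mem_bot] at h3
  exact sub_eq_zero.mp h3

end Groth.Agent.S13780
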