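import Groth.Statements.S13783
-- import your own Groth.Agent.* helpers here
import Mathlib.FieldTheory.Fixed
import Mathlib.LinearAlgebra.Basis.VectorSpace
import Mathlib.LinearAlgebra.Matrix.Determinant.Basic
import Mathlib.Data.Set.Card
import Mathlib.Tactic.LinearCombination
import Mathlib.Tactic.FieldSimp

set_option autoImplicit false
universe u
open Curves

namespace Groth.Agent.S13783

open W4c1stackycurves Matrix

section Geometry

variable {K : Type u} [Field K]

/-- the determinant of two plane vectors -/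
def D (v w : Fin 2 → K) : K := v 0 * w 1 - v 1 * w 0

theorem mk_eq_of_D_eq_zero {v w : Fin 2 → K} (hv : v ≠ 0) (hw : w ≠ 0) (h : D v w = 0) :
    Projectivization.mk K v hv = Projectivization.mk K w hw := by
  rw [Projectivization.mk_eq_mk_iff']
  unfold D at h
  by_cases h0 : w 0 = 0
  · have h1 : w 1 ≠ 0 := by
      intro h1
      apply hw
      funext i
      fin_cases i
      · exact h0
      · exact h1
    have hv0 : v 0 = 0 := by
      rw [h0, mul_zero, sub_zero] at h
      exact (mul_eq_zero.mp h).resolve_right h1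
    refine ⟨v 1 / w 1, ?_⟩
    funext i
    fin_cases i
    · simp [h0, hv0]
    · simp [h1]
  · refine ⟨v 0 / w 0, ?_⟩
    funext i
    fin_cases i
    · simp [h0]
    · simp only [Fin.mk_one, Pi.smul_apply, smul_eq_mul]
      rw [div_mul_eq_mul_div, div_eq_iff h0]
      linear_combination h

theorem D_rep_ne_zero {x y : Projectivization K (Fin 2 → K)} (h : x ≠ y) : D x.rep y.rep ≠ 0 := by
  intro h0
  apply h
  rw [← x.mk_rep, ← y.mk_rep]
  exact mk_eq_of_D_eq_zero _ _ h0

/-- The matrix carrying the points `v₁, v₂, v₃` to `w₁, w₂, w₃`. -/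
def tri (v₁ v₂ v₃ w₁ w₂ w₃ : Fin 2 → K) : Matrix (Fin 2) (Fin 2) K :=
  Matrix.of fun i j =>
    ![v₂ 1 * (D w₃ w₂ * D v₁ v₃) * w₁ i - v₁ 1 * (D w₁ w₃ * D v₃ v₂) * w₂ i,
      - v₂ 0 * (D w₃ w₂ * D v₁ v₃) * w₁ i + v₁ 0 * (D w₁ w₃ * D v₃ v₂) * w₂ i] j

theorem tri_mulVec (v₁ v₂ v₃ w₁ w₂ w₃ v : Fin 2 → K) :
    tri v₁ v₂ v₃ w₁ w₂ w₃ *ᵥ v = (D v v₂ * (D w₃ w₂ * D v₁ v₃)) • w₁ +
      (D v₁ v * (D w₁ w₃ * D v₃ v₂)) • w₂ := by
  funext i
  simp only [tri, mulVec, dotProduct, Fin.sum_univ_two, of_apply, cons_val_zero, cons_val_one,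
    Pi.add_apply, Pi.smul_apply, smul_eq_mul]
  unfold D
  ring

theorem tri_1 (v₁ v₂ v₃ w₁ w₂ w₃ : Fin 2 → K) :
    tri v₁ v₂ v₃ w₁ w₂ w₃ *ᵥ v₁ = (D v₁ v₂ * (D w₃ w₂ * D v₁ v₃)) • w₁ := by
  rw [tri_mulVec]
  have : D v₁ v₁ = 0 := by unfold D; ring
  rw [this]
  simp

theorem tri_2 (v₁ v₂ v₃ w₁ w₂ w₃ : Fin 2 → K) :
    tri v₁ v₂ v₃ w₁ w₂ w₃ *ᵥ v₂ = (D v₁ v₂ * (D w₁ w₃ * D v₃ v₂)) • w₂ := by
  rw [tri_mulVec]
  have : D v₂ v₂ = 0 := by unfold D; ring
  rw [this]
  simp

theorem tri_3 (v₁ v₂ v₃ w₁ w₂ w₃ : Fin 2 → K) :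
    tri v₁ v₂ v₃ w₁ w₂ w₃ *ᵥ v₃ = (D v₃ v₂ * D v₁ v₃ * D w₁ w₂) • w₃ := by
  rw [tri_mulVec]
  funext i
  fin_cases i <;>
  · simp only [Pi.add_apply, Pi.smul_apply, smul_eq_mul, Fin.zero_eta, Fin.mk_one]
    unfold D
    ring

theorem det_tri (v₁ v₂ v₃ w₁ w₂ w₃ : Fin 2 → K) :
    (tri v₁ v₂ v₃ w₁ w₂ w₃).det =
      D v₁ v₂ * (D w₃ w₂ * D v₁ v₃) * (D w₁ w₃ * D v₃ v₂) * D w₁ w₂ := by
  rw [Matrix.det_fin_two]
  simp only [tri, of_apply, cons_val_zero, cons_val_one]
  unfold D
  ring

theorem exists_matrix_of_ncard_eq_three (S : Set (Projectivization K (Fin 2 → K)))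
    (h3 : S.ncard = 3) (b : Projectivization K (Fin 2 → K) → Projectivization K (Fin 2 → K))
    (hb : Set.InjOn b S) :
    ∃ M : Matrix (Fin 2) (Fin 2) K, M.det ≠ 0 ∧ ∀ x ∈ S, ∃ t : K, M *ᵥ x.rep = t • (b x).rep := by
  obtain ⟨x, y, z, hxy, hxz, hyz, rfl⟩ := Set.ncard_eq_three.mp h3
  have ixy : b x ≠ b y := fun h => hxy (hb (by simp) (by simp) h)
  have ixz : b x ≠ b z := fun h => hxz (hb (by simp) (by simp) h)
  have iyz : b y ≠ b z := fun h => hyz (hb (by simp) (by simp) h)
  refine ⟨tri x.rep y.rep z.rep (b x).rep (b y).rep (b z).rep, ?_, ?_⟩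
  · rw [det_tri]
    refine mul_ne_zero (mul_ne_zero (mul_ne_zero ?_ (mul_ne_zero ?_ ?_)) (mul_ne_zero ?_ ?_)) ?_
    · exact D_rep_ne_zero hxy
    · exact D_rep_ne_zero iyz.symm
    · exact D_rep_ne_zero hxz
    · exact D_rep_ne_zero ixz
    · exact D_rep_ne_zero hyz.symm
    · exact D_rep_ne_zero ixy
  · intro w hw
    rcases hw with rfl | rfl | rfl
    · exact ⟨_, tri_1 _ _ _ _ _ _⟩
    · exact ⟨_, tri_2 _ _ _ _ _ _⟩
    · exact ⟨_, tri_3 _ _ _ _ _ _⟩

/-- the projective line has at least three points -/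
theorem exists_notMem_of_ncard_lt (S : Set (Projectivization K (Fin 2 → K))) (hfin : S.Finite)
    (h3 : S.ncard < 3) : ∃ x, x ∉ S := by
  by_contra h
  push Not at h
  have hS : S = Set.univ := Set.eq_univ_of_forall h
  have hv1 : (![1, 0] : Fin 2 → K) ≠ 0 := by
    intro h
    simpa using congrFun h 0
  have hv2 : (![0, 1] : Fin 2 → K) ≠ 0 := by
    intro h
    simpa using congrFun h 1
  have hv3 : (![1, 1] : Fin 2 → K) ≠ 0 := by
    intro h
    simpa using congrFun h 0
  have h12 : Projectivization.mk K _ hv1 ≠ Projectivization.mk K _ hv2 := by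
    rw [Ne, Projectivization.mk_eq_mk_iff']
    rintro ⟨a, ha⟩
    simpa using congrFun ha 0
  have h13 : Projectivization.mk K _ hv1 ≠ Projectivization.mk K _ hv3 := by
    rw [Ne, Projectivization.mk_eq_mk_iff']
    rintro ⟨a, ha⟩
    have h0 := congrFun ha 0
    have h1 := congrFun ha 1
    simp at h0 h1
    rw [h1] at h0
    exact zero_ne_one h0
  have h23 : Projectivization.mk K _ hv2 ≠ Projectivization.mk K _ hv3 := by
    rw [Ne, Projectivization.mk_eq_mk_iff']
    rintro ⟨a, ha⟩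
    have h0 := congrFun ha 0
    have h1 := congrFun ha 1
    simp at h0 h1
    rw [h0] at h1
    exact zero_ne_one h1
  have hc : ({Projectivization.mk K _ hv1, Projectivization.mk K _ hv2,
      Projectivization.mk K _ hv3} : Set (Projectivization K (Fin 2 → K))).ncard = 3 :=
    Set.ncard_eq_three.mpr ⟨_, _, _, h12, h13, h23, rfl⟩
  have hle := Set.ncard_le_ncard (s := {Projectivization.mk K _ hv1, Projectivization.mk K _ hv2,
      Projectivization.mk K _ hv3}) (t := S) (by rw [hS]; exact Set.subset_univ _) hfin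
  omega

theorem exists_matrix (n : ℕ) : ∀ (S : Set (Projectivization K (Fin 2 → K))), S.Finite →
    S.ncard + n = 3 →
    ∀ (b : Projectivization K (Fin 2 → K) → Projectivization K (Fin 2 → K)), Set.InjOn b S →
    ∃ M : Matrix (Fin 2) (Fin 2) K, M.det ≠ 0 ∧ ∀ x ∈ S, ∃ t : K, M *ᵥ x.rep = t • (b x).rep := by
  classical
  induction n with
  | zero => exact fun S _ h3 b hb => exists_matrix_of_ncard_eq_three S h3 b hb
  | succ n ih =>
    intro S hS h3 b hb
    obtain ⟨x, hx⟩ := exists_notMem_of_ncard_lt S hS (by omega)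
    obtain ⟨y, hy⟩ := exists_notMem_of_ncard_lt (b '' S) (hS.image b)
      (by rw [hb.ncard_image]; omega)
    have hupd : ∀ z ∈ S, Function.update b x y z = b z := by
      intro z hz
      refine Function.update_of_ne (fun h => ?_) _ _
      rw [h] at hz
      exact hx hz
    obtain ⟨M, hM, hM2⟩ := ih (insert x S) (hS.insert x)
      (by rw [Set.ncard_insert_of_notMem hx hS]; omega) (Function.update b x y) (by
        intro z hz w hw h
        rcases Set.mem_insert_iff.mp hz with rfl | hz'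
        · rcases Set.mem_insert_iff.mp hw with rfl | hw'
          · rfl
          · rw [hupd w hw', Function.update_self] at h
            exact (hy ⟨w, hw', h.symm⟩).elim
        · rcases Set.mem_insert_iff.mp hw with rfl | hw'
          · rw [hupd z hz', Function.update_self] at h
            exact (hy ⟨z, hz', h⟩).elim
          · rw [hupd z hz', hupd w hw'] at h
            exact hb hz' hw' h)
    refine ⟨M, hM, fun z hz => ?_⟩
    obtain ⟨t, ht⟩ := hM2 z (Set.mem_insert_of_mem x hz)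
    rw [hupd z hz] at ht
    exact ⟨t, ht⟩

end Geometry

section Descent

variable {k K : Type u} [Field k] [Field K] [Algebra k K]

/-- Matrices mapping each `x ∈ S` into the line `b x`. -/
def V (S : Set (Projectivization K (Fin 2 → K)))
    (b : S → Projectivization K (Fin 2 → K)) : Submodule K (Matrix (Fin 2) (Fin 2) K) where
  carrier := {M | ∀ x : S, ∃ t : K, M *ᵥ x.1.rep = t • (b x).rep}
  add_mem' := by
    intro M N hM hN x
    obtain ⟨t, ht⟩ := hM x
    obtain ⟨s, hs⟩ := hN x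
    exact ⟨t + s, by rw [Matrix.add_mulVec, ht, hs, add_smul]⟩
  zero_mem' := fun x => ⟨0, by simp⟩
  smul_mem' := by
    intro c M hM x
    obtain ⟨t, ht⟩ := hM x
    exact ⟨c * t, by rw [Matrix.smul_mulVec, ht, smul_smul]⟩

theorem galP_galP (σ τ : K ≃ₐ[k] K) (x : Projectivization K (Fin 2 → K)) :
    galP σ (galP τ x) = galP (σ * τ) x := by
  induction x using Projectivization.ind with
  | h v hv => rfl

theorem galP_one (x : Projectivization K (Fin 2 → K)) : galP (1 : K ≃ₐ[k] K) x = x := by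
  induction x using Projectivization.ind with
  | h v hv => rfl

theorem exists_unit_galP (σ : K ≃ₐ[k] K) (x : Projectivization K (Fin 2 → K)) :
    ∃ a : Kˣ, a • (fun i => σ (x.rep i)) = (galP σ x).rep := by
  have hne : (fun i => σ (x.rep i)) ≠ 0 := by
    intro h
    apply x.rep_nonzero
    funext i
    have := congrFun h i
    exact (map_eq_zero_iff σ σ.injective).mp this
  have h : galP σ x = Projectivization.mk K (fun i => σ (x.rep i)) hne := by
    conv_lhs => rw [← x.mk_rep]
    rfl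
  rw [h]
  exact Projectivization.exists_smul_eq_mk_rep K _ hne

theorem map_mulVec' (σ : K ≃ₐ[k] K) (M : Matrix (Fin 2) (Fin 2) K) (v : Fin 2 → K) :
    (M.map σ) *ᵥ (fun i => σ (v i)) = fun i => σ ((M *ᵥ v) i) := by
  funext i
  simp only [mulVec, dotProduct, Fin.sum_univ_two, Matrix.map_apply, map_add, map_mul]

theorem map_mem (S : Set (Projectivization K (Fin 2 → K)))
    (hS : ∀ (σ : K ≃ₐ[k] K) (x : Projectivization K (Fin 2 → K)), x ∈ S → galP σ x ∈ S)
    (b : S → Projectivization K (Fin 2 → K))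
    (hb : ∀ (σ : K ≃ₐ[k] K) (x : S), b ⟨galP σ x.1, hS σ x.1 x.2⟩ = galP σ (b x))
    (σ : K ≃ₐ[k] K) {M : Matrix (Fin 2) (Fin 2) K} (hM : M ∈ V S b) : M.map σ ∈ V S b := by
  intro x
  let y : S := ⟨galP σ⁻¹ x.1, hS σ⁻¹ x.1 x.2⟩
  have hxy : (⟨galP σ y.1, hS σ y.1 y.2⟩ : S) = x := by
    apply Subtype.ext
    change galP σ (galP σ⁻¹ x.1) = x.1
    rw [galP_galP, mul_inv_cancel, galP_one]
  have hx : galP σ y.1 = x.1 := congrArg Subtype.val hxy
  have hbx : b x = galP σ (b y) := by rw [← hb, hxy]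
  obtain ⟨t, ht⟩ := hM y
  obtain ⟨a, ha⟩ := exists_unit_galP σ y.1
  obtain ⟨c, hc⟩ := exists_unit_galP σ (b y)
  rw [hx] at ha
  rw [← hbx] at hc
  refine ⟨(a : K) * σ t * ((c⁻¹ : Kˣ) : K), ?_⟩
  rw [← ha, ← hc, Units.smul_def, Units.smul_def, Matrix.mulVec_smul, map_mulVec', ht, smul_smul,
    mul_assoc _ _ (c : K), Units.inv_mul, mul_one]
  funext i
  simp only [Pi.smul_apply, smul_eq_mul, map_mul]
  ring

/-- Galois descent for a stable subspace of matrices: it is spanned by invariant matrices. -/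
theorem le_span [FiniteDimensional k K] (U : Submodule K (Matrix (Fin 2) (Fin 2) K))
    (hU : ∀ (σ : K ≃ₐ[k] K) (M : Matrix (Fin 2) (Fin 2) K), M ∈ U → M.map σ ∈ U) :
    U ≤ Submodule.span K {M | M ∈ U ∧ ∀ σ : K ≃ₐ[k] K, M.map σ = M} := by
  classical
  intro M hM
  by_contra hcon
  obtain ⟨f, hf, hf2⟩ := Submodule.exists_le_ker_of_notMem hcon
  apply hf
  let T : K → Matrix (Fin 2) (Fin 2) K := fun c => ∑ σ : K ≃ₐ[k] K, σ c • M.map σ
  have hT : ∀ c, T c ∈ {M | M ∈ U ∧ ∀ σ : K ≃ₐ[k] K, M.map σ = M} := by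
    intro c
    refine ⟨U.sum_mem fun σ _ => U.smul_mem _ (hU σ M hM), fun τ => ?_⟩
    have h1 : (T c).map τ = ∑ σ : K ≃ₐ[k] K, ((τ * σ) c) • M.map (τ * σ : K ≃ₐ[k] K) := by
      ext i j
      simp only [T, Matrix.map_apply, Matrix.sum_apply, Matrix.smul_apply, smul_eq_mul, map_sum,
        map_mul, AlgEquiv.mul_apply]
    rw [h1]
    exact Fintype.sum_equiv (Equiv.mulLeft τ) _ _ fun σ => rfl
  have h0 : ∀ c, ∑ σ : K ≃ₐ[k] K, f (M.map σ) * σ c = 0 := by
    intro c
    have := LinearMap.mem_ker.mp (hf2 (Submodule.subset_span (hT c)))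
    rw [← this]
    simp only [T, map_sum, map_smul, smul_eq_mul]
    exact Finset.sum_congr rfl fun σ _ => mul_comm _ _
  have hli := linearIndependent_toLinearMap k K K
  have hinj : Function.Injective (fun σ : K ≃ₐ[k] K => (σ : K →ₐ[k] K)) := by
    intro σ τ h
    ext x
    exact DFunLike.congr_fun h x
  have hli2 := hli.comp _ hinj
  rw [Fintype.linearIndependent_iff] at hli2
  have := hli2 (fun σ => f (M.map σ)) (by
    ext c
    simpa [LinearMap.sum_apply] using h0 c) 1
  have h1 : M.map (1 : K ≃ₐ[k] K) = M := by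
    ext i j
    rfl
  rw [h1] at this
  exact this

/-- The polar form of the determinant. -/
def polar (M N : Matrix (Fin 2) (Fin 2) K) : K :=
  M 0 0 * N 1 1 + N 0 0 * M 1 1 - M 0 1 * N 1 0 - N 0 1 * M 1 0

theorem det_add' (M N : Matrix (Fin 2) (Fin 2) K) :
    (M + N).det = M.det + N.det + polar M N := by
  simp only [Matrix.det_fin_two, polar, Matrix.add_apply]
  ring

theorem exists_invariant [FiniteDimensional k K] (U : Submodule K (Matrix (Fin 2) (Fin 2) K))
    (hU : ∀ (σ : K ≃ₐ[k] K) (M : Matrix (Fin 2) (Fin 2) K), M ∈ U → M.map σ ∈ U)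
    (M : Matrix (Fin 2) (Fin 2) K) (hM : M ∈ U) (hdet : M.det ≠ 0) :
    ∃ N : Matrix (Fin 2) (Fin 2) K, N ∈ U ∧ N.det ≠ 0 ∧ ∀ σ : K ≃ₐ[k] K, N.map σ = N := by
  by_contra hcon
  push Not at hcon
  have h0 : ∀ N ∈ {M | M ∈ U ∧ ∀ σ : K ≃ₐ[k] K, M.map σ = M}, N.det = 0 := by
    intro N hN
    by_contra h
    obtain ⟨σ, hσ⟩ := hcon N hN.1 h
    exact hσ (hN.2 σ)
  have hadd : ∀ N ∈ {M | M ∈ U ∧ ∀ σ : K ≃ₐ[k] K, M.map σ = M},
      ∀ N' ∈ {M | M ∈ U ∧ ∀ σ : K ≃ₐ[k] K, M.map σ = M}, polar N N' = 0 := by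
    intro N hN N' hN'
    have h1 := h0 (N + N') ⟨U.add_mem hN.1 hN'.1, fun σ => by
      rw [Matrix.map_add σ (map_add σ), hN.2 σ, hN'.2 σ]⟩
    rw [det_add', h0 N hN, h0 N' hN'] at h1
    simpa using h1
  have h1 : ∀ N ∈ Submodule.span K {M | M ∈ U ∧ ∀ σ : K ≃ₐ[k] K, M.map σ = M},
      ∀ N' ∈ {M | M ∈ U ∧ ∀ σ : K ≃ₐ[k] K, M.map σ = M}, polar N N' = 0 := by
    intro N hN N' hN'
    induction hN using Submodule.span_induction with
    | mem x hx => exact hadd x hx N' hN'
    | zero => simp [polar]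
    | add x y _ _ hx hy =>
      have : polar (x + y) N' = polar x N' + polar y N' := by
        simp only [polar, Matrix.add_apply]; ring
      rw [this, hx, hy, add_zero]
    | smul a x _ hx =>
      have : polar (a • x) N' = a * polar x N' := by
        simp only [polar, Matrix.smul_apply, smul_eq_mul]; ring
      rw [this, hx, mul_zero]
  have h2 : ∀ N ∈ Submodule.span K {M | M ∈ U ∧ ∀ σ : K ≃ₐ[k] K, M.map σ = M},
      ∀ N' ∈ Submodule.span K {M | M ∈ U ∧ ∀ σ : K ≃ₐ[k] K, M.map σ = M}, polar N N' = 0 := by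
    intro N hN N' hN'
    induction hN' using Submodule.span_induction with
    | mem x hx => exact h1 N hN x hx
    | zero => simp [polar]
    | add x y _ _ hx hy =>
      have : polar N (x + y) = polar N x + polar N y := by
        simp only [polar, Matrix.add_apply]; ring
      rw [this, hx, hy, add_zero]
    | smul a x _ hx =>
      have : polar N (a • x) = a * polar N x := by
        simp only [polar, Matrix.smul_apply, smul_eq_mul]; ring
      rw [this, hx, mul_zero]
  have h3 : ∀ N ∈ Submodule.span K {M | M ∈ U ∧ ∀ σ : K ≃ₐ[k] K, M.map σ = M}, N.det = 0 := by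
    intro N hN
    induction hN using Submodule.span_induction with
    | mem x hx => exact h0 x hx
    | zero => simp
    | add x y hx' hy' hx hy => rw [det_add', hx, hy, h2 x hx' y hy']; simp
    | smul a x _ hx => rw [Matrix.det_smul, hx, mul_zero]
  exact hdet (h3 M (le_span U hU hM))

end Descent

/-- Let k be a field and K a finite Galois extension of k. Let S be a finite set of at most three
K-points of the projective line that is stable under the Galois group of K over k, and let b be a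
Galois-equivariant bijection from S onto another set S' of K-points. Then some element of GL_2(k)
maps S onto S'. (This is the statement that two closed subschemes of the projective line over k
which are etale over k of the same degree at most 3 and have isomorphic k-algebras of functions are
exchanged by a k-automorphism of the line, written for their sets of points over a finite Galois
extension K of k splitting both; an isomorphism of the function algebras is the same as a
Galois-equivariant bijection of these point sets.) -/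
theorem result (k K : Type u) [Field k] [Field K]
    [Algebra k K] [FiniteDimensional k K] [IsGalois k K]
    (S S' : Set (Projectivization K (Fin 2 → K))) (hfin : S.Finite) (h3 : S.ncard ≤ 3)
    (hS : ∀ (σ : K ≃ₐ[k] K) (x : Projectivization K (Fin 2 → K)), x ∈ S → W4c1stackycurves.galP σ x ∈ S)
    (b : S ≃ S')
    (hb : ∀ (σ : K ≃ₐ[k] K) (x : S),
      (b ⟨W4c1stackycurves.galP σ x.1, hS σ x.1 x.2⟩ : Projectivization K (Fin 2 → K)) =
        W4c1stackycurves.galP σ (b x).1) :
    ∃ g : Matrix.GeneralLinearGroup (Fin 2) k,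
      (fun x => (Matrix.GeneralLinearGroup.toLin ((Matrix.GeneralLinearGroup.map (algebraMap k K)) g)) • x) '' S = S' := by
  classical
  -- a matrix over `K`
  let b' : Projectivization K (Fin 2 → K) → Projectivization K (Fin 2 → K) :=
    fun x => if hx : x ∈ S then (b ⟨x, hx⟩).1 else x
  have hb' : ∀ x : S, b' x.1 = (b x).1 := fun x => by simp [b']
  have hinj : Set.InjOn b' S := by
    intro x hx y hy h
    have h' : (b ⟨x, hx⟩).1 = (b ⟨y, hy⟩).1 := by
      rw [← hb' ⟨x, hx⟩, ← hb' ⟨y, hy⟩]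
      exact h
    exact congrArg Subtype.val (b.injective (Subtype.ext h'))
  obtain ⟨M, hM, hM2⟩ := exists_matrix (3 - S.ncard) S hfin (by omega) b' hinj
  have hMV : M ∈ V S (fun x => (b x).1) := by
    intro x
    obtain ⟨t, ht⟩ := hM2 x.1 x.2
    rw [hb'] at ht
    exact ⟨t, ht⟩
  obtain ⟨N, hN, hNdet, hNinv⟩ := exists_invariant (k := k) (V S (fun x => (b x).1))
    (fun σ M hM => map_mem S hS (fun x => (b x).1) hb σ hM) M hMV hM
  -- its entries lie in `k`
  have hent : ∀ i j, ∃ c : k, algebraMap k K c = N i j := by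
    intro i j
    have h := (IsGalois.mem_bot_iff_fixed (F := k) (N i j)).mpr fun σ => by
      have := congrFun (congrFun (hNinv σ) i) j
      exact this
    exact IntermediateField.mem_bot.mp h
  choose c hc using hent
  have hNc : (Matrix.of c).map (algebraMap k K) = N := by
    ext i j
    exact hc i j
  have hdetc : (Matrix.of c).det ≠ 0 := by
    intro h
    apply hNdet
    rw [← hNc, ← RingHom.mapMatrix_apply, ← RingHom.map_det, h, map_zero]
  let g : Matrix.GeneralLinearGroup (Fin 2) k := Matrix.GeneralLinearGroup.mkOfDetNeZero (Matrix.of c) hdetc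
  have hg : ∀ x : S, (Matrix.GeneralLinearGroup.toLin
      ((Matrix.GeneralLinearGroup.map (algebraMap k K)) g)) • x.1 = (b x).1 := by
    intro x
    obtain ⟨t, ht⟩ := hN x
    conv_lhs => rw [← x.1.mk_rep]
    rw [Projectivization.smul_mk]
    conv_rhs => rw [← (b x).1.mk_rep]
    rw [Projectivization.mk_eq_mk_iff']
    refine ⟨t, ?_⟩
    rw [← ht, ← hNc]
    rfl
  refine ⟨g, ?_⟩
  ext y
  constructor
  · rintro ⟨x, hx, rfl⟩
    have := hg ⟨x, hx⟩
    simp only at this ⊢
    rw [this]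
    exact (b ⟨x, hx⟩).2
  · intro hy
    obtain ⟨x, hx⟩ := b.surjective ⟨y, hy⟩
    refine ⟨x.1, x.2, ?_⟩
    simp only
    rw [hg x, hx]

end Groth.Agent.S13783
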