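import Groth.Statements.S13784
import Mathlib.RingTheory.IntegralDomain
import Mathlib.RingTheory.LocalRing.ResidueField.Basic
import Mathlib.Algebra.Ring.GeomSum

set_option autoImplicit false
universe u
open CAlg

namespace Groth.Agent.S13784

/-- Let A be a commutative local ring and G a finite subgroup of Aˣ. If the order of G is invertible in
A, then G is cyclic. -/
theorem result {A : Type u} [CommRing A] [IsLocalRing A]
    (G : Subgroup Aˣ) [Finite G] (hG : IsUnit ((Nat.card G : ℕ) : A)) : IsCyclic G := by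
  classical
  let res : A →+* IsLocalRing.ResidueField A := IsLocalRing.residue A
  let f : G →* IsLocalRing.ResidueField A :=
    (res.toMonoidHom.comp (Units.coeHom A)).comp G.subtype
  refine isCyclic_of_injective_ringHom f ?_
  rw [injective_iff_map_eq_one]
  intro x hx
  have hx1 : res (((x : Aˣ) : A)) = 1 := hx
  have hn : ((x : Aˣ) : A) ^ Nat.card G = 1 := by
    have h1 : x ^ Nat.card G = 1 := pow_card_eq_one'
    have h2 : ((x ^ Nat.card G : G) : Aˣ) = 1 := by rw [h1]; rfl
    have h3 : (((x : Aˣ) ^ Nat.card G : Aˣ) : A) = 1 := by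
      rw [← SubgroupClass.coe_pow, h2]; rfl
    simpa using h3
  have hu : IsUnit (∑ i ∈ Finset.range (Nat.card G), ((x : Aˣ) : A) ^ i) := by
    rw [← IsLocalRing.notMem_maximalIdeal, ← IsLocalRing.residue_eq_zero_iff]
    change res _ ≠ 0
    rw [map_sum]
    simp only [map_pow, hx1, one_pow, Finset.sum_const, Finset.card_range, nsmul_eq_mul, mul_one]
    have := (hG.map res).ne_zero
    rwa [map_natCast] at this
  have h0 : (∑ i ∈ Finset.range (Nat.card G), ((x : Aˣ) : A) ^ i) * (((x : Aˣ) : A) - 1) = 0 := by
    rw [geom_sum_mul, hn, sub_self]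
  have h1 : ((x : Aˣ) : A) - 1 = 0 := (hu.mul_right_eq_zero).1 h0
  have h2 : ((x : Aˣ) : A) = 1 := sub_eq_zero.1 h1
  apply Subtype.ext
  apply Units.ext
  simpa using h2

end Groth.Agent.S13784
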