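import Groth.Statements.S13786
import Groth.Agent.CAlg.K83.DetGen

set_option autoImplicit false
universe u
open CAlg

namespace Groth.Agent.S13786

/-- For a commutative ring A and n ≥ 1, with det the determinant of the generic n × n matrix in the
polynomial ring A[X] in n² indeterminates, the A-algebra A[X]/(det) is faithfully flat over A. (For
n = 0 the determinant is 1 and the quotient is the zero ring, so n ≥ 1 is required.) -/
theorem result (A : Type u) [CommRing A] (n : ℕ) (hn : 0 < n) :
    Module.FaithfullyFlat A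
      (MvPolynomial (Fin n × Fin n) A ⧸ Ideal.span {(Matrix.mvPolynomialX (Fin n) (Fin n) A).det}) := by
  have hfl := K83.DetGen.flat A n
  refine ⟨fun {m} hm h => ?_⟩
  -- evaluation at the zero matrix
  have hdet : (Matrix.mvPolynomialX (Fin n) (Fin n) A).det ∈
      RingHom.ker (MvPolynomial.aeval (fun _ : Fin n × Fin n => (0 : A))).toRingHom := by
    rw [RingHom.mem_ker]
    change (MvPolynomial.aeval (fun _ : Fin n × Fin n => (0 : A))) _ = 0
    rw [AlgHom.map_det]
    have : Nonempty (Fin n) := ⟨⟨0, hn⟩⟩
    have h0 : (MvPolynomial.aeval (fun _ : Fin n × Fin n => (0 : A))).mapMatrix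
        (Matrix.mvPolynomialX (Fin n) (Fin n) A) = 0 := by
      ext i j; simp [Matrix.mvPolynomialX]
    rw [h0, Matrix.det_zero]
  let φ : (MvPolynomial (Fin n × Fin n) A ⧸ Ideal.span {(Matrix.mvPolynomialX (Fin n) (Fin n) A).det}) →ₐ[A] A :=
    Ideal.Quotient.liftₐ _ (MvPolynomial.aeval (fun _ : Fin n × Fin n => (0 : A))) (by
      intro a ha
      exact (Ideal.span_le.2 (Set.singleton_subset_iff.2 hdet)) ha)
  have h1 : (1 : A) ∈ m := by
    have h2 : (1 : MvPolynomial (Fin n × Fin n) A ⧸ Ideal.span {(Matrix.mvPolynomialX (Fin n) (Fin n) A).det}) ∈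
        m • (⊤ : Submodule A _) := by rw [h]; trivial
    have h3 : φ.toLinearMap 1 ∈ (m • (⊤ : Submodule A _)).map φ.toLinearMap :=
      Submodule.mem_map_of_mem h2
    rw [Submodule.map_smul''] at h3
    have h4 : φ.toLinearMap 1 = 1 := map_one φ
    rw [h4] at h3
    have h5 : m • (Submodule.map φ.toLinearMap ⊤) ≤ m := by
      rw [Submodule.smul_le]
      intro r hr n _
      exact m.mul_mem_right _ hr
    exact h5 h3
  exact hm.ne_top ((Ideal.eq_top_iff_one m).2 h1)

end Groth.Agent.S13786
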