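import Groth.Statements.S13790


set_option autoImplicit false
universe u
open CAlg

namespace Groth.Agent.S13790

/-- Let A be a commutative ring with total ring of fractions Q and let B be a ring with A ⊆ B ⊆ Q. Then
Q, with the inclusion B ⊆ Q, is the total ring of fractions of B. -/
theorem result {A Q : Type u} [CommRing A] [CommRing Q] [Algebra A Q] [IsFractionRing A Q] (B : Subalgebra A Q) :
    IsFractionRing B Q := by
  have hinj : Function.Injective (algebraMap B Q) := Subtype.val_injective
  have hAQ : Function.Injective (algebraMap A Q) := IsFractionRing.injective A Q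
  have hcoe : ∀ a : A, ((algebraMap A B a : B) : Q) = algebraMap A Q a := fun a => rfl
  have hnz1 : ∀ a : A, a ∈ nonZeroDivisors A → algebraMap A B a ∈ nonZeroDivisors B := by
    intro a ha
    rw [mem_nonZeroDivisors_iff_right]
    intro x hx
    have h1 : (x : Q) * algebraMap A Q a = 0 := by
      rw [← hcoe, ← Subalgebra.coe_mul, hx]; rfl
    have h2 : IsUnit (algebraMap A Q a) := IsLocalization.map_units Q ⟨a, ha⟩
    have h3 : (x : Q) = 0 := (h2.mul_left_eq_zero).1 h1
    exact Subtype.ext h3
  have hnz2 : ∀ b : B, b ∈ nonZeroDivisors B → ∃ r u : A, r ∈ nonZeroDivisors A ∧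
      u ∈ nonZeroDivisors A ∧ (b : Q) * algebraMap A Q u = algebraMap A Q r := by
    intro b hb
    obtain ⟨⟨r, u⟩, hru⟩ := IsLocalization.surj (nonZeroDivisors A) (b : Q)
    refine ⟨r, u, ?_, u.2, hru⟩
    rw [mem_nonZeroDivisors_iff_right]
    intro x hx
    have h1 : (algebraMap A B (x * u)) * b = 0 := by
      apply Subtype.ext
      rw [Subalgebra.coe_mul, hcoe, map_mul, mul_assoc, mul_comm (algebraMap A Q (u : A)), hru,
        ← map_mul, hx, map_zero]
      rfl
    have h2 : algebraMap A B (x * u) = 0 := (mem_nonZeroDivisors_iff_right.1 hb) _ h1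
    have h3 : algebraMap A Q (x * u) = 0 := by rw [← hcoe, h2]; rfl
    have h4 : x * u = 0 := hAQ (by rw [h3, map_zero])
    exact (mem_nonZeroDivisors_iff_right.1 u.2) _ h4
  refine ⟨?_, ?_, ?_⟩
  · rintro ⟨b, hb⟩
    obtain ⟨r, u, hr, hu, h⟩ := hnz2 b hb
    have h2 : IsUnit (algebraMap A Q r) := IsLocalization.map_units Q ⟨r, hr⟩
    rw [← h] at h2
    exact isUnit_of_mul_isUnit_left h2
  · intro q
    obtain ⟨⟨r, u⟩, hru⟩ := IsLocalization.surj (nonZeroDivisors A) q
    exact ⟨⟨algebraMap A B r, ⟨algebraMap A B u, hnz1 _ u.2⟩⟩, hru⟩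
  · intro x y hxy
    exact ⟨1, by rw [hinj hxy]⟩

end Groth.Agent.S13790
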