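import Groth.Statements.S13791
import Groth.Agent.CohSite.K298.GlobSec

set_option autoImplicit false
universe u
open CategoryTheory
open CohSite

namespace Groth.Agent.S13791

/-- On a site, for a short exact sequence 0 → A → B → C → 0 of abelian groups the map H¹(A) → H¹(B) on
the first cohomology of the associated constant sheaves is injective. Stated for an injective
homomorphism f : A → B (C being its cokernel), with H¹ the Ext-based sheaf cohomology of the site. -/
theorem result {C : Type u} [SmallCategory C] (J : GrothendieckTopology C)
    {A B : Type u} [AddCommGroup A] [AddCommGroup B] (f : A →+ B) (hf : Function.Injective f) :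
    Function.Injective
      (Sheaf.H.map ((constantSheaf J AddCommGrpCat.{u}).map (AddCommGrpCat.ofHom f)) 1) := by
  rw [injective_iff_map_eq_zero]
  intro x hx
  let f' : AddCommGrpCat.of A ⟶ AddCommGrpCat.of B := AddCommGrpCat.ofHom f
  have hmono : Mono f' := (AddCommGrpCat.mono_iff_injective _).2 hf
  let g' : AddCommGrpCat.of B ⟶ Limits.cokernel f' := Limits.cokernel.π f'
  let S : ShortComplex AddCommGrpCat.{u} := ShortComplex.mk f' g' (Limits.cokernel.condition f')
  have hS : S.ShortExact := { exact := ShortComplex.exact_cokernel f', mono_f := hmono, epi_g := inferInstance }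
  have hg : Function.Surjective g' := (AddCommGrpCat.epi_iff_surjective _).1 inferInstance
  exact K298.GlobSec.injective_of_lift (hS.map_of_exact (constantSheaf J AddCommGrpCat.{u}))
    (fun s => K298.GlobSec.exists_lift g' hg s) x hx

end Groth.Agent.S13791
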