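import Groth.Statements.S13792
-- import your own Groth.Agent.* helpers here
import Groth.Agent.S1529
import Groth.Agent.S10830
import Mathlib.AlgebraicGeometry.Morphisms.ClosedImmersion

set_option autoImplicit false
universe u
open CategoryTheory AlgebraicGeometry
open Curves

namespace Groth.Agent.S13792

/-- Let k be a field and E an integral k-scheme of finite type whose underlying space has dimension 1,
and let ι : G → E be a closed immersion. Then either ι is an isomorphism or G is finite over k. (The
published statement is about a closed subgroup scheme of an elliptic curve and its proof states this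
fact for E geometrically integral; this row assumes only that E is integral.) -/
theorem result {k : Type u} [Field k]
    {E G : Scheme.{u}} (f : E ⟶ Spec (CommRingCat.of k)) [LocallyOfFiniteType f] [QuasiCompact f]
    [IsIntegral E] (hdim : topologicalKrullDim ↥E = 1) (ι : G ⟶ E) [IsClosedImmersion ι] :
    IsIso ι ∨ IsFinite (ι ≫ f) := by
  by_cases hs : Set.range ι = Set.univ
  · left
    have : Surjective ι := ⟨Set.range_eq_univ.mp hs⟩
    exact isIso_of_isClosedImmersion_of_surjective ι
  · right
    have h1 : topologicalKrullDim ↥(Set.range ι) < 1 := by
      have := Groth.Agent.S10830.result E (by rw [hdim]; decide) (Set.range ι)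
        ι.isClosedEmbedding.isClosed_range hs
      rwa [hdim] at this
    have h2 : topologicalKrullDim ↥(Set.range ι) ≤ 0 := by
      have h1' : topologicalKrullDim ↥(Set.range ι) < ((0 : ℕ) : WithBot ℕ∞) + 1 := by simpa using h1
      simpa using ENat.WithBot.lt_add_one_iff.mp h1'
    have h3 : topologicalKrullDim G ≤ 0 :=
      (ι.isClosedEmbedding.isEmbedding.toHomeomorph.isHomeomorph.topologicalKrullDim_eq _).trans_le h2
    let _ : G.Over (Spec (CommRingCat.of k)) := ⟨ι ≫ f⟩
    have i1 : LocallyOfFiniteType (G ↘ (Spec (CommRingCat.of k))) :=
      inferInstanceAs (LocallyOfFiniteType (ι ≫ f))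
    have i2 : QuasiCompact (G ↘ (Spec (CommRingCat.of k))) :=
      inferInstanceAs (QuasiCompact (ι ≫ f))
    exact (Groth.Agent.S1529.result k G h3).2

end Groth.Agent.S13792
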