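import Groth.Statements.S13794
-- import your own Groth.Agent.* helpers here
import Mathlib.Tactic.FieldSimp
import Mathlib.Tactic.LinearCombination
import Mathlib.Tactic.ComputeDegree
import Mathlib.Tactic.Ring

set_option autoImplicit false
universe u
open Polynomial
open Curves

namespace Groth.Agent.S13794

theorem key {k : Type u} [Field k] (h3 : (3 : k) ≠ 0) (β m n lam x₀ : k) (hm : m ^ 3 ≠ -1)
    (h : (X : k[X]) ^ 3 + (C m * X + C n) ^ 3 + C β - 3 * X * (C m * X + C n) =
      C lam * (X - C x₀) ^ 3) : ∃ γ : k, β = γ ^ 3 := by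
  have e1 : (X : k[X]) ^ 3 + (C m * X + C n) ^ 3 + C β - 3 * X * (C m * X + C n) =
      C (1 + m ^ 3) * X ^ 3 + C (3 * m ^ 2 * n - 3 * m) * X ^ 2 + C (3 * m * n ^ 2 - 3 * n) * X +
        C (n ^ 3 + β) := by
    simp only [map_add, map_sub, map_mul, map_pow, map_one, map_ofNat]
    ring
  have e2 : C lam * ((X : k[X]) - C x₀) ^ 3 =
      C lam * X ^ 3 + C (-(3 * lam * x₀)) * X ^ 2 + C (3 * lam * x₀ ^ 2) * X +
        C (-(lam * x₀ ^ 3)) := by
    simp only [map_neg, map_mul, map_pow, map_ofNat]
    ring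
  rw [e1, e2] at h
  have key0 : ∀ a b c d a' b' c' d' : k, (C a * X ^ 3 + C b * X ^ 2 + C c * X + C d : k[X]) =
      C a' * X ^ 3 + C b' * X ^ 2 + C c' * X + C d' → a = a' ∧ b = b' ∧ c = c' ∧ d = d' := by
    intro a b c d a' b' c' d' h
    have c (i : ℕ) := congrArg (fun p : k[X] => p.coeff i) h
    refine ⟨?_, ?_, ?_, ?_⟩
    · simpa [coeff_X, coeff_C, coeff_X_pow] using c 3
    · simpa [coeff_X, coeff_C, coeff_X_pow] using c 2
    · simpa [coeff_X, coeff_C, coeff_X_pow] using c 1
    · simpa [coeff_X, coeff_C, coeff_X_pow] using c 0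
  obtain ⟨c3, c2, c1, c0⟩ := key0 _ _ _ _ _ _ _ _ h
  have hl : lam ≠ 0 := by
    intro h0
    rw [h0] at c3
    exact hm (by linear_combination c3)
  have c2' : m * (m * n - 1) = -(lam * x₀) := by
    apply mul_left_cancel₀ h3
    linear_combination c2
  have c1' : n * (m * n - 1) = lam * x₀ ^ 2 := by
    apply mul_left_cancel₀ h3
    linear_combination c1
  by_cases hx : x₀ = 0
  · subst hx
    have hβ : β = -n ^ 3 := by linear_combination c0
    exact ⟨-n, by rw [hβ]; ring⟩
  · have hne : m * n - 1 ≠ 0 := by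
      intro h0
      rw [h0] at c2'
      have : lam * x₀ = 0 := by linear_combination c2'
      rcases mul_eq_zero.mp this with h | h
      · exact hl h
      · exact hx h
    have hn : n = -(x₀ * m) := by
      apply mul_right_cancel₀ hne
      linear_combination c1' + x₀ * c2'
    have hmx : m = x₀ := by
      rw [hn, ← c3] at c2'
      linear_combination -c2'
    refine ⟨-m, ?_⟩
    subst hmx
    rw [hn, ← c3] at c0
    linear_combination c0

/-- Let k be a field of characteristic not 3 and β ∈ k. If a line ax + by + c = 0 with a³ ≠ b³ is the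
tangent line at a flex point of the affine cubic x³ + y³ + β = 3xy, then β is a cube in k. Here the
line is normalised to b ≠ 0 (the roles of x and y are symmetric) and the flex-tangency is expressed
by the restriction of the cubic to the line being λ (x − x₀)³. -/
theorem result {k : Type u} [Field k] (h3 : (3 : k) ≠ 0)
    (β a b c : k) (hb : b ≠ 0) (hab : a ^ 3 ≠ b ^ 3) (lam x₀ : k)
    (hflex : (X : k[X]) ^ 3 + (C (-a / b) * X + C (-c / b)) ^ 3 + C β - 3 * X * (C (-a / b) * X + C (-c / b)) =
      C lam * (X - C x₀) ^ 3) :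
    ∃ γ : k, β = γ ^ 3 := by
  refine key h3 β (-a / b) (-c / b) lam x₀ ?_ hflex
  intro h
  apply hab
  rw [div_pow, div_eq_iff (pow_ne_zero 3 hb)] at h
  linear_combination -h

end Groth.Agent.S13794
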