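import Groth.Statements.S13796
import Groth.Agent.Brauer.K442.AzTpow
import Groth.Agent.Brauer.K442.SplitCover
import Groth.Agent.S5720

set_option autoImplicit false
universe u
open scoped TensorProduct
open Brauer

namespace Groth.Agent.S13796

/-- In the case of an affine scheme — let R be a commutative ring and A an Azumaya R-algebra of constant
rank n². Then there exist a finitely generated projective R-module E of constant rank n^n and an
R-algebra isomorphism from the n-fold tensor power A ⊗ ⋯ ⊗ A to End_R(E) (existence of an
isomorphism only), so the Brauer class of A is n-torsion. For n = 0 the hypotheses force R = 0,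
where the statement holds trivially. (The published statement is for Azumaya algebras of constant
rank n² on any locally ringed site; this row is the case of the étale site of Spec R, written in
terms of modules: an Azumaya algebra here is one in the usual, étale-local sense.) -/
theorem result (R : Type u) [CommRing R] (A : Type u) [Ring A] [Algebra R A]
    [IsAzumaya R A] (n : ℕ) (hrk : ∀ p : PrimeSpectrum R, Module.rankAtStalk (R := R) A p = n ^ 2) :
    ∃ (E : Type u) (_ : AddCommGroup E) (_ : Module R E), Module.Finite R E ∧ Module.Projective R E ∧
      (∀ p : PrimeSpectrum R, Module.rankAtStalk (R := R) E p = n ^ n) ∧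
      Nonempty ((⨂[R] _ : Fin n, A) ≃ₐ[R] Module.End R E) := by
  obtain ⟨S, _, _, hff, ⟨e⟩⟩ := K442.SplitCover.exists_split R A n hrk
    (fun p _ => Groth.Agent.S5720.result R A p)
  let j : A →ₐ[R] Matrix (Fin n) (Fin n) S :=
    (e.toAlgHom.restrictScalars R).comp Algebra.TensorProduct.includeRight
  have hj : Function.Bijective (K442.Goldman.ext j) := by
    have : (K442.Goldman.ext j : S ⊗[R] A → Matrix (Fin n) (Fin n) S) = e := by
      funext z
      induction z using TensorProduct.induction_on with
      | zero => rw [map_zero, map_zero]
      | tmul s a =>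
        rw [K442.Goldman.ext_tmul]
        change s • e (1 ⊗ₜ a) = _
        rw [← map_smul, TensorProduct.smul_tmul', smul_eq_mul, mul_one]
      | add x y hx hy => rw [map_add, map_add, hx, hy]
    rw [this]
    exact e.bijective
  obtain ⟨c, hc⟩ := K442.TensorRep.exists_antisym j hj
  have hfin : Module.Finite R (⨂[R] _ : Fin n, A) := K442.TensorRep.finite_tpow R A n
  obtain ⟨h1, h2, h3, h4⟩ := K442.AzTpow.main (R := R) (S := S) (K442.TensorRep.rho n j) (s := c)
    (i0 := id) hc K442.Antisym.eps_id K442.Antisym.eps_id
    (K442.TensorRep.extC_rho_bijective j hrk hj.2)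
  refine ⟨K442.AzTpow.E R c, inferInstance, inferInstance, h1, h2, fun p => ?_,
    ⟨AlgEquiv.ofBijective (K442.AzTpow.act c) h4⟩⟩
  rw [h3]
  simp [Fintype.card_pi]

end Groth.Agent.S13796
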