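import Groth.Statements.S13798
-- import your own Groth.Agent.* helpers here
import Groth.Agent.Curves.K324.TorusUnits
import Mathlib.AlgebraicGeometry.Stalk
import Mathlib.AlgebraicGeometry.FunctionField
import Mathlib.AlgebraicGeometry.PullbackCarrier

set_option autoImplicit false
universe u
open CategoryTheory CategoryTheory.Limits AlgebraicGeometry Opposite
open Curves

namespace Groth.Agent.S13798

open K324.TorusUnits

/-- The pullback of a product along a morphism to the first factor is a product. -/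
noncomputable def isLimitPullback {X T W : Scheme.{u}} (f : W ⟶ X) :
    IsLimit (BinaryFan.mk (pullback.snd (prod.fst : X ⨯ T ⟶ X) f)
      (pullback.fst (prod.fst : X ⨯ T ⟶ X) f ≫ prod.snd)) :=
  BinaryFan.isLimitMk
    (fun s => pullback.lift (prod.lift (s.fst ≫ f) s.snd) s.fst (prod.lift_fst _ _))
    (fun s => pullback.lift_snd _ _ _)
    (fun s => by
      refine (Category.assoc _ _ _).symm.trans ?_
      refine (congrArg (fun m => m ≫ prod.snd) (pullback.lift_fst _ _ _)).trans ?_
      exact prod.lift_snd _ _)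
    (fun s m h1 h2 => by
      apply pullback.hom_ext
      · refine Eq.trans ?_ (pullback.lift_fst _ _ _).symm
        apply Limits.prod.hom_ext
        · refine Eq.trans ?_ (prod.lift_fst _ _).symm
          rw [Category.assoc, pullback.condition, ← Category.assoc, h1]
          rfl
        · refine Eq.trans ?_ (prod.lift_snd _ _).symm
          rw [Category.assoc, h2]
      · refine Eq.trans ?_ (pullback.lift_snd _ _ _).symm
        exact h1)

/-- The unit section of the torus. -/
theorem exists_section (X : Scheme.{u}) (G : Type) [AddCommGroup G] :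
    ∃ t : X ⟶ Spec (ZG.{u} G), ∀ e : G, mono G t e = 1 := by
  let ρ : ZG.{u} G ⟶ Γ(X, ⊤) := CommRingCat.ofHom
    ((AddMonoidAlgebra.liftNCRingHom (Int.castRingHom Γ(X, ⊤)) (1 : Multiplicative G →* Γ(X, ⊤))
      (fun _ _ => Commute.all _ _)).comp ULift.ringEquiv.toRingHom)
  refine ⟨X.toSpecΓ ≫ Spec.map ρ, fun e => ?_⟩
  rw [mono, Scheme.Hom.comp_appTop, CommRingCat.comp_apply, Spec_map_appTop]
  rw [Scheme.toSpecΓ_appTop]
  have h1 : ρ (ULift.up (AddMonoidAlgebra.single e 1)) = 1 := by
    change AddMonoidAlgebra.liftNCRingHom (Int.castRingHom Γ(X, ⊤))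
      (1 : Multiplicative G →* Γ(X, ⊤)) (fun _ _ => Commute.all _ _)
      (AddMonoidAlgebra.single e 1) = 1
    rw [AddMonoidAlgebra.liftNCRingHom_single]
    simp
  rw [h1]
  simp

theorem main (X : Scheme.{u}) [IsIntegral X] (G : Type) [AddCommGroup G] [TwoUniqueSums G]
    (v : Γ(X ⨯ Spec (ZG.{u} G), ⊤)) (hv : IsUnit v) :
    ∃! p : (Γ(X, ⊤))ˣ × G,
      v = (prod.fst : X ⨯ Spec (ZG.{u} G) ⟶ X).appTop (p.1 : Γ(X, ⊤)) *
        mono G (prod.snd : X ⨯ Spec (ZG.{u} G) ⟶ Spec (ZG.{u} G)) p.2 := by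
  let P := X ⨯ Spec (ZG.{u} G)
  let pr₁ : P ⟶ X := prod.fst
  let pr₂ : P ⟶ Spec (ZG.{u} G) := prod.snd
  obtain ⟨t, ht⟩ := exists_section X G
  let s : X ⟶ P := prod.lift (𝟙 X) t
  have hs1 : s ≫ pr₁ = 𝟙 X := prod.lift_fst _ _
  have hs2 : s ≫ pr₂ = t := prod.lift_snd _ _
  -- generic point
  let η := X.fromSpecStalk (genericPoint X)
  let Zη := pullback pr₁ η
  let jη : Zη ⟶ P := pullback.fst pr₁ η
  let pη : Zη ⟶ Spec (X.presheaf.stalk (genericPoint X)) := pullback.snd pr₁ η
  let qη : Zη ⟶ Spec (ZG.{u} G) := jη ≫ pr₂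
  have hη : IsLimit (BinaryFan.mk pη qη) := isLimitPullback η
  let _ : Field (X.presheaf.stalk (genericPoint X)) := inferInstanceAs (Field X.functionField)
  have : IsDomain (X.presheaf.stalk (genericPoint X)) := inferInstance
  obtain ⟨aη, e, haη, hve⟩ := existsUnique_of_isUnit pη qη hη (jη.appTop v) (hv.map _)
  -- every element of the base
  have hbase : ∀ {R : CommRingCat.{u}} {Z : Scheme.{u}} (f : Spec R ⟶ X) (p : Z ⟶ Spec R)
      (w : Γ(X, ⊤)), (p ≫ f).appTop w = base p ((Scheme.ΓSpecIso R).hom (f.appTop w)) := by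
    intro R Z f p w
    rw [Scheme.Hom.comp_appTop, CommRingCat.comp_apply, base]
    congr 1
    simp
  -- the section restricted to the charts
  have hchart : ∀ i, ∃ a, (pullback.fst pr₁ (X.affineOpenCover.f i)).appTop v =
      base (pullback.snd pr₁ (X.affineOpenCover.f i)) a *
        mono G (pullback.fst pr₁ (X.affineOpenCover.f i) ≫ pr₂) e := by
    intro i
    rcases isEmpty_or_nonempty (Spec (X.affineOpenCover.X i)) with hemp | hne
    · have : IsEmpty ↥(pullback pr₁ (X.affineOpenCover.f i) : Scheme.{u}) :=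
        ⟨fun z => hemp.false ((pullback.snd pr₁ (X.affineOpenCover.f i)) z)⟩
      exact ⟨0, Subsingleton.elim _ _⟩
    have : IsIntegral (Spec (X.affineOpenCover.X i)) := isIntegral_of_isOpenImmersion (X.affineOpenCover.f i)
    have : IsDomain (X.affineOpenCover.X i) := by
      have := (affine_isIntegral_iff (X.affineOpenCover.X i)).mp this
      exact this
    obtain ⟨a, e', ha, hv'⟩ := existsUnique_of_isUnit _ _ (isLimitPullback (T := Spec (ZG.{u} G)) (X.affineOpenCover.f i))
      ((pullback.fst pr₁ (X.affineOpenCover.f i)).appTop v) (hv.map _)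
    have hgen : genericPoint X ∈ Set.range (X.affineOpenCover.f i) := by
      have h1 : (Set.range (X.affineOpenCover.f i)).Nonempty := Set.range_nonempty _
      have h2 : IsOpen (Set.range (X.affineOpenCover.f i)) :=
        (X.affineOpenCover.f i).isOpenEmbedding.isOpen_range
      exact (genericPoint_spec X).mem_open_set_iff h2 |>.mpr (by simpa using h1)
    have hrange : Set.range η ⊆ Set.range (X.affineOpenCover.f i) := by
      rw [Scheme.range_fromSpecStalk]
      intro y hy
      exact hy.mem_open (X.affineOpenCover.f i).isOpenEmbedding.isOpen_range hgen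
    let g : Spec (X.presheaf.stalk (genericPoint X)) ⟶ Spec (X.affineOpenCover.X i) :=
      IsOpenImmersion.lift (X.affineOpenCover.f i) η hrange
    have hg : g ≫ X.affineOpenCover.f i = η := IsOpenImmersion.lift_fac _ _ _
    let h : Zη ⟶ pullback pr₁ (X.affineOpenCover.f i) :=
      pullback.lift jη (pη ≫ g) (by rw [Category.assoc, hg]; exact pullback.condition)
    have h1 := congrArg (fun z => h.appTop z) hv'
    simp only [map_mul] at h1
    rw [mnl_comp, base_comp, ← CommRingCat.comp_apply, ← Scheme.Hom.comp_appTop] at h1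
    have e1 : h ≫ pullback.fst pr₁ (X.affineOpenCover.f i) = jη := pullback.lift_fst _ _ _
    have e2 : h ≫ pullback.snd pr₁ (X.affineOpenCover.f i) = pη ≫ g := pullback.lift_snd _ _ _
    have e3 : h ≫ pullback.fst pr₁ (X.affineOpenCover.f i) ≫ pr₂ = qη := by
      rw [← Category.assoc, e1]
    have e4 : base (pη ≫ g) a = base pη (Spec.preimage g a) := by
      conv_lhs => rw [← Spec.map_preimage g]
      rw [← base_comp, base, Spec_map_appTop]
      rfl
    rw [e1, e2, e3, hve, e4] at h1
    obtain ⟨rfl, -⟩ := unique_of_isUnit pη qη hη haη h1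
    exact ⟨a, hv'⟩
  -- the unit
  let w : Γ(X, ⊤) := s.appTop (v * mono G pr₂ (-e))
  have hw : IsUnit w := (hv.mul (isUnit_iff_exists_inv.mpr ⟨mono G pr₂ e, by
    rw [mul_comm]; exact mono_mul_neg pr₂ e⟩)).map _
  have hmain : v = pr₁.appTop w * mono G pr₂ e := by
    refine Scheme.OpenCover.ext_elem _ _ (X.affineOpenCover.openCover.pullback₁ pr₁) fun i => ?_
    change (pullback.fst pr₁ (X.affineOpenCover.f i)).appTop v =
      (pullback.fst pr₁ (X.affineOpenCover.f i)).appTop (pr₁.appTop w * mono G pr₂ e)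
    obtain ⟨a, ha⟩ := hchart i
    rw [map_mul, mnl_comp, ha]
    congr 1
    rw [← CommRingCat.comp_apply, ← Scheme.Hom.comp_appTop, pullback.condition, hbase]
    congr 1
    let si : Spec (X.affineOpenCover.X i) ⟶ pullback pr₁ (X.affineOpenCover.f i) :=
      pullback.lift (X.affineOpenCover.f i ≫ s) (𝟙 _) (by rw [Category.assoc, hs1]; simp)
    have h1 : (X.affineOpenCover.f i).appTop w =
        si.appTop ((pullback.fst pr₁ (X.affineOpenCover.f i)).appTop (v * mono G pr₂ (-e))) := by
      change (X.affineOpenCover.f i).appTop (s.appTop _) = _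
      rw [← CommRingCat.comp_apply, ← CommRingCat.comp_apply, ← Scheme.Hom.comp_appTop,
        ← Scheme.Hom.comp_appTop]
      rw [pullback.lift_fst]
    rw [h1, map_mul, ha, mnl_comp, mul_assoc, mono_mul_neg, mul_one, base_comp]
    have h2 : si ≫ pullback.snd pr₁ (X.affineOpenCover.f i) = 𝟙 _ := pullback.lift_snd _ _ _
    rw [h2, base]
    simp
  refine ⟨⟨hw.unit, e⟩, hmain, ?_⟩
  rintro ⟨u', e'⟩ h
  simp only at h
  have h1 := congrArg (fun z => jη.appTop z) h
  simp only [map_mul] at h1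
  have hc : jη ≫ pr₁ = pη ≫ η := pullback.condition
  rw [mnl_comp, hve] at h1
  have h3 : jη.appTop (pr₁.appTop (u' : Γ(X, ⊤))) =
      base pη ((Scheme.ΓSpecIso _).hom (η.appTop (u' : Γ(X, ⊤)))) := by
    rw [← CommRingCat.comp_apply, ← Scheme.Hom.comp_appTop, hc, hbase]
  have h4 : base pη aη * mono G qη e =
      base pη ((Scheme.ΓSpecIso _).hom (η.appTop (u' : Γ(X, ⊤)))) * mono G qη e' := by
    rw [← h3]; exact h1
  obtain ⟨rfl, -⟩ := unique_of_isUnit pη qη hη haη h4
  have h5 : w = u' := by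
    change s.appTop (v * mono G pr₂ (-e)) = _
    rw [h, mul_assoc]
    change s.appTop (pr₁.appTop (u' : Γ(X, ⊤)) * (mono G pr₂ e * mono G pr₂ (-e))) = _
    rw [mono_mul_neg, mul_one, ← CommRingCat.comp_apply, ← Scheme.Hom.comp_appTop, hs1]
    simp
  refine Prod.ext (Units.ext ?_) rfl
  exact h5.symm

/-- Units on tori: let X be an integral scheme and P = X × 𝔾_mⁿ, the product with the n-dimensional
split torus Spec ℤ[ℤⁿ] = Spec ℤ[t₁^±, …, t_n^±]. The canonical map Γ(X, O_X)ˣ × ℤⁿ → Γ(P, O_P)ˣ, (u,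
e) ↦ pr₁^*(u) · pr₂^*(t^e), is an isomorphism: every invertible global function on P is uniquely of
this form. -/
theorem result (X : Scheme.{u}) [IsIntegral X] (n : ℕ)
    (v : Γ(X ⨯ Spec (CommRingCat.of (ULift.{u} (AddMonoidAlgebra ℤ (Fin n → ℤ)))), ⊤)) (hv : IsUnit v) :
    ∃! p : (Γ(X, ⊤))ˣ × (Fin n → ℤ),
      v = (prod.fst : X ⨯ Spec (CommRingCat.of (ULift.{u} (AddMonoidAlgebra ℤ (Fin n → ℤ)))) ⟶ X).appTop (p.1 : Γ(X, ⊤)) *
        (prod.snd : X ⨯ Spec (CommRingCat.of (ULift.{u} (AddMonoidAlgebra ℤ (Fin n → ℤ)))) ⟶ Spec (CommRingCat.of (ULift.{u} (AddMonoidAlgebra ℤ (Fin n → ℤ))))).appTop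
          ((Scheme.ΓSpecIso (CommRingCat.of (ULift.{u} (AddMonoidAlgebra ℤ (Fin n → ℤ))))).inv (ULift.up (AddMonoidAlgebra.single p.2 1))) := by
  exact main X (Fin n → ℤ) v hv

end Groth.Agent.S13798
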