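import Groth.Statements.S13801
import Mathlib.Tactic

set_option autoImplicit false
open ChowMon

namespace Groth.Agent.S13801

/-- For a prime p and positive natural numbers a_1, ..., a_k with sum n one has v_p(a_1!) + ... +
v_p(a_k!) ≤ v_p(n!), and the inequality is strict whenever some a_i is not divisible by p^(v_p(n)). -/
theorem result {k : ℕ} (p : ℕ) [Fact p.Prime]
    (a : Fin k → ℕ) (ha : ∀ i, 0 < a i) :
    (∑ i, padicValNat p (a i).factorial ≤ padicValNat p (∑ i, a i).factorial) ∧
      ((∃ i, ¬ p ^ padicValNat p (∑ j, a j) ∣ a i) →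
        ∑ i, padicValNat p (a i).factorial < padicValNat p (∑ i, a i).factorial) := by
  have hp : p.Prime := Fact.out
  set n := ∑ i, a i with hn
  set b := Nat.log p n + 1 with hb
  have hain : ∀ i, a i ≤ n := fun i => Finset.single_le_sum (f := a) (fun _ _ => Nat.zero_le _)
    (Finset.mem_univ i)
  have hfac : ∀ i, padicValNat p (a i).factorial = ∑ j ∈ Finset.Ico 1 b, a i / p ^ j := by
    intro i
    exact padicValNat_factorial (lt_of_le_of_lt (Nat.log_mono_right (hain i)) (Nat.lt_succ_self _))
  have hnfac : padicValNat p n.factorial = ∑ j ∈ Finset.Ico 1 b, n / p ^ j :=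
    padicValNat_factorial (Nat.lt_succ_self _)
  have hswap : ∑ i, padicValNat p (a i).factorial = ∑ j ∈ Finset.Ico 1 b, ∑ i, a i / p ^ j := by
    rw [Finset.sum_congr rfl (fun i _ => hfac i), Finset.sum_comm]
  have hle : ∀ j, ∑ i, a i / p ^ j ≤ n / p ^ j := by
    intro j
    rw [Nat.le_div_iff_mul_le (pow_pos hp.pos j), Finset.sum_mul]
    exact Finset.sum_le_sum fun i _ => Nat.div_mul_le_self _ _
  refine ⟨?_, ?_⟩
  · rw [hswap, hnfac]
    exact Finset.sum_le_sum fun j _ => hle j
  · rintro ⟨i, hi⟩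
    rw [hswap, hnfac]
    set r := padicValNat p n with hr
    have hr0 : r ≠ 0 := by
      intro h
      rw [h] at hi
      simp at hi
    have hn0 : n ≠ 0 := by
      have := ha i
      have := hain i
      omega
    have hdvd : p ^ r ∣ n := pow_padicValNat_dvd
    have hrb : r < b := by
      have : r ≤ Nat.log p n := padicValNat_le_nat_log n
      omega
    refine Finset.sum_lt_sum (fun j _ => hle j) ⟨r, ?_, ?_⟩
    · rw [Finset.mem_Ico]
      exact ⟨Nat.one_le_iff_ne_zero.mpr hr0, hrb⟩
    · obtain ⟨c, hc⟩ := hdvd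
      have hpr : 0 < p ^ r := pow_pos hp.pos r
      rw [hc, Nat.mul_div_cancel_left _ hpr]
      have hlt : (∑ i, a i / p ^ r) * p ^ r < c * p ^ r := by
        rw [Finset.sum_mul, mul_comm c, ← hc, hn]
        refine Finset.sum_lt_sum (fun j _ => Nat.div_mul_le_self _ _) ⟨i, Finset.mem_univ i, ?_⟩
        refine lt_of_le_of_ne (Nat.div_mul_le_self _ _) fun h => hi ?_
        exact ⟨a i / p ^ r, by rw [mul_comm]; exact h.symm⟩
      exact lt_of_mul_lt_mul_right hlt (Nat.zero_le _)

end Groth.Agent.S13801
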