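import Groth.Statements.S13822
import Groth.Agent.EtaPt.K798.Base
import Mathlib.RingTheory.Flat.FaithfullyFlat.Algebra
import Mathlib.RingTheory.Flat.FaithfullyFlat.Descent

set_option autoImplicit false
universe u
open scoped TensorProduct
open EtaPt

namespace Groth.Agent.S13822

/-- Let A → A' be faithfully flat with A and A' having finitely many minimal prime ideals, and B an
A-algebra with Spec B → Spec A surjective; if q_{(A' ⊗ B)/A'} is bijective then q_{B/A} is
bijective. Here η is a natural transformation from the identity of the category of fields to an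
endofunctor F with F(η_K) bijective and η_K purely inseparable for every field K, N_η(A) is the
product of the F(k(p)) over the primes p of A with diagonal map t_A, and M_η(A) ⊆ N_η(A) is the
subring of elements sent into the range of t_R by every ring map from A to a valuation ring R at
whose fraction field η is bijective; q_A : A → M_η(A) is the corestriction of t_A. For a ring map f
: A → B, (B/A)_η ⊆ B denotes the subring of elements b with t_B(b) in N_η(f)(M_η(A)) (the image in B
of the fibre product of M_η(A) and B over M_η(B)), and q_{B/A} : A → (B/A)_η the corestriction of f. -/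
theorem result (η : EtaPt.FieldEndo.{u}) (A A' B : Type u) [CommRing A] [CommRing A'] [CommRing B]
    [Algebra A A'] [Algebra A B] [Module.FaithfullyFlat A A']
    (hA : (minimalPrimes A).Finite) (hA' : (minimalPrimes A').Finite)
    (hs : Function.Surjective (PrimeSpectrum.comap (algebraMap A B)))
    (h : Function.Bijective (η.qRel (Algebra.TensorProduct.includeLeftRingHom : A' →+* A' ⊗[A] B))) :
    Function.Bijective (η.qRel (algebraMap A B)) := by
  rw [K798.EtaBase.qRel_bijective_iff] at h ⊢
  obtain ⟨h1, h2⟩ := h
  have hinj : Function.Injective (algebraMap A B) :=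
    Module.FaithfullyFlat.injective_of_tensorProduct (S := A') h1
  refine ⟨hinj, fun b hb => ?_⟩
  obtain ⟨a', ha'⟩ := h2 ((1 : A') ⊗ₜ[A] b) (K798.EtaBase.map_mem_rel_of_square η (algebraMap A B)
    (algebraMap A A') (Algebra.TensorProduct.includeRight : B →ₐ[A] A' ⊗[A] B).toRingHom
    Algebra.TensorProduct.includeLeftRingHom (by
      ext a
      simp [Algebra.TensorProduct.algebraMap_apply]) hb)
  have h3 : (a' ⊗ₜ[A] (1 : B)) = (1 : A') ⊗ₜ[A] b := ha'
  have h4 := congrArg (LinearMap.lTensor A' (LinearMap.range (Algebra.linearMap A B)).mkQ) h3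
  rw [LinearMap.lTensor_tmul, LinearMap.lTensor_tmul] at h4
  have h5 : (LinearMap.range (Algebra.linearMap A B)).mkQ (1 : B) = 0 := by
    rw [Submodule.mkQ_apply, Submodule.Quotient.mk_eq_zero]
    exact ⟨1, by simp⟩
  rw [h5, TensorProduct.tmul_zero] at h4
  have h6 := Module.FaithfullyFlat.tensorProduct_mk_injective (A := A) (B := A')
    (B ⧸ LinearMap.range (Algebra.linearMap A B))
    (a₁ := (LinearMap.range (Algebra.linearMap A B)).mkQ b) (a₂ := 0) (by
      rw [TensorProduct.mk_apply, TensorProduct.mk_apply, TensorProduct.tmul_zero, ← h4])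
  rw [Submodule.mkQ_apply, Submodule.Quotient.mk_eq_zero] at h6
  obtain ⟨a, ha⟩ := h6
  exact ⟨a, ha⟩

end Groth.Agent.S13822
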