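import Groth.Statements.S13823
import Groth.Agent.EtaPt.K798.Base
import Mathlib.RingTheory.Flat.FaithfullyFlat.Algebra
import Mathlib.RingTheory.Flat.TorsionFree
import Mathlib.RingTheory.Localization.FractionRing
import Mathlib.RingTheory.IntegralClosure.IsIntegral.Basic

set_option autoImplicit false
universe u
open EtaPt

namespace Groth.Agent.S13823

/-- Let A → A' be faithfully flat with A and A' having finitely many minimal prime ideals, and let Ā, Ā'
be the integral closures of A, A' in their total rings of fractions; if q_{Ā'/A'} is bijective then
q_{Ā/A} is bijective. Here η is a natural transformation from the identity of the category of fields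
to an endofunctor F with F(η_K) bijective and η_K purely inseparable for every field K, N_η(A) is
the product of the F(k(p)) over the primes p of A with diagonal map t_A, and M_η(A) ⊆ N_η(A) is the
subring of elements sent into the range of t_R by every ring map from A to a valuation ring R at
whose fraction field η is bijective; q_A : A → M_η(A) is the corestriction of t_A. For a ring map f
: A → B, (B/A)_η ⊆ B denotes the subring of elements b with t_B(b) in N_η(f)(M_η(A)) (the image in B
of the fibre product of M_η(A) and B over M_η(B)), and q_{B/A} : A → (B/A)_η the corestriction of f. -/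
theorem result (η : EtaPt.FieldEndo.{u}) (A A' : Type u) [CommRing A] [CommRing A'] [Algebra A A'] [Module.FaithfullyFlat A A']
    (hA : (minimalPrimes A).Finite) (hA' : (minimalPrimes A').Finite)
    (h : Function.Bijective (η.qRel (algebraMap A' (integralClosure A' (FractionRing A'))))) :
    Function.Bijective (η.qRel (algebraMap A (integralClosure A (FractionRing A)))) := by
  rw [K798.EtaBase.qRel_bijective_iff] at h ⊢
  obtain ⟨h1, h2⟩ := h
  have hle : nonZeroDivisors A ≤ (nonZeroDivisors A').comap (algebraMap A A') := by
    intro s hs
    have := (Module.Flat.isSMulRegular_of_nonZeroDivisors (M := A') hs)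
    rw [Submonoid.mem_comap, mem_nonZeroDivisors_iff_right]
    intro x hx
    have h3 : s • x = s • (0 : A') := by
      rw [Algebra.smul_def, mul_comm, hx, smul_zero]
    exact this h3
  let Φ : FractionRing A →+* FractionRing A' :=
    IsLocalization.map (FractionRing A') (algebraMap A A') hle
  have hΦ : ∀ a : A, Φ (algebraMap A (FractionRing A) a) =
      algebraMap A' (FractionRing A') (algebraMap A A' a) := fun a => IsLocalization.map_eq _ _
  have hΦc : (algebraMap A' (FractionRing A')).comp (algebraMap A A') =
      Φ.comp (algebraMap A (FractionRing A)) := by
    ext a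
    simp only [RingHom.comp_apply, hΦ]
  let Ψ : integralClosure A (FractionRing A) →+* integralClosure A' (FractionRing A') :=
    (Φ.comp (integralClosure A (FractionRing A)).val.toRingHom).codRestrict
      (integralClosure A' (FractionRing A')) (fun x => IsIntegral.map_of_comp_eq (algebraMap A A') Φ
        hΦc x.2)
  have hΨ : ∀ x, ((Ψ x : integralClosure A' (FractionRing A')) : FractionRing A') = Φ x.1 :=
    fun x => rfl
  refine ⟨fun a b hab => ?_, fun b hb => ?_⟩
  · exact IsFractionRing.injective A (FractionRing A) (congrArg Subtype.val hab)
  · obtain ⟨a', ha'⟩ := h2 (Ψ b) (K798.EtaBase.map_mem_rel_of_square η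
      (algebraMap A (integralClosure A (FractionRing A))) (algebraMap A A') Ψ
      (algebraMap A' (integralClosure A' (FractionRing A'))) (by
        ext a
        exact (hΦ a).symm) hb)
    have h3 : algebraMap A' (FractionRing A') a' = Φ b.1 := congrArg Subtype.val ha'
    obtain ⟨⟨a, s⟩, has⟩ := IsLocalization.surj (nonZeroDivisors A) b.1
    simp only at has
    have h4 : a' * algebraMap A A' s = algebraMap A A' a := by
      apply IsFractionRing.injective A' (FractionRing A')
      rw [map_mul, h3, ← hΦ, ← map_mul, has, hΦ]
    have h5 : a ∈ Ideal.span {(s : A)} := by
      rw [← Ideal.comap_map_eq_self_of_faithfullyFlat (B := A') (Ideal.span {(s : A)}),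
        Ideal.mem_comap, Ideal.map_span, Set.image_singleton, Ideal.mem_span_singleton, ← h4]
      exact Dvd.intro_left _ rfl
    obtain ⟨c, hc⟩ := Ideal.mem_span_singleton'.1 h5
    refine ⟨c, Subtype.ext ?_⟩
    change algebraMap A (FractionRing A) c = b.1
    have h6 : IsUnit (algebraMap A (FractionRing A) s) := IsLocalization.map_units _ s
    apply h6.mul_right_cancel
    rw [has, ← hc, map_mul]

end Groth.Agent.S13823
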