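import Groth.Statements.S13833
import Groth.Agent.HTop.K348.Factor

set_option autoImplicit false
universe u
open AlgebraicGeometry CategoryTheory
open HTop

namespace Groth.Agent.S13833

open Limits Groth.Agent.FlatA.UnivHomeo in
/-- Let S be a Noetherian scheme, X → S locally of finite type, T a Noetherian S-scheme and ν : T' → T a
seminormalization (all schemes separated). Then S-morphisms T' → X are the colimit of S-morphisms T₁
→ X over the finite universal homeomorphisms T₁ → T inducing isomorphisms on residue fields: every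
S-morphism g : T' → X factors as T' → T₁ → X for such a T₁ → T, and two such factorizations through
T₁ and T₂ become equal on some such T₃ → T dominating both. -/
theorem result {S X T T' : Scheme.{u}} [IsNoetherian S] [IsNoetherian T] [S.IsSeparated] [X.IsSeparated]
    [T.IsSeparated] [T'.IsSeparated] (fX : X ⟶ S) [LocallyOfFiniteType fX] (fT : T ⟶ S)
    (ν : T' ⟶ T) (hν : HTop.IsSeminormalization ν) :
    (∀ g : T' ⟶ X, g ≫ fX = ν ≫ fT →
      ∃ (T₁ : Scheme.{u}) (π : T₁ ⟶ T) (_ : IsFinite π) (_ : FlatMor.IsUnivHomeo π)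
        (_ : HTop.ResidueFieldsIso π) (g₁ : T₁ ⟶ X) (h : T' ⟶ T₁),
        h ≫ π = ν ∧ g₁ ≫ fX = π ≫ fT ∧ h ≫ g₁ = g) ∧
    (∀ (T₁ T₂ : Scheme.{u}) (π₁ : T₁ ⟶ T) (π₂ : T₂ ⟶ T) [IsFinite π₁] [IsFinite π₂],
      FlatMor.IsUnivHomeo π₁ → FlatMor.IsUnivHomeo π₂ →
      HTop.ResidueFieldsIso π₁ → HTop.ResidueFieldsIso π₂ →
      ∀ (g₁ : T₁ ⟶ X) (g₂ : T₂ ⟶ X) (h₁ : T' ⟶ T₁) (h₂ : T' ⟶ T₂),
        g₁ ≫ fX = π₁ ≫ fT → g₂ ≫ fX = π₂ ≫ fT → h₁ ≫ π₁ = ν → h₂ ≫ π₂ = ν → h₁ ≫ g₁ = h₂ ≫ g₂ →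
        ∃ (T₃ : Scheme.{u}) (π₃ : T₃ ⟶ T) (_ : IsFinite π₃) (_ : FlatMor.IsUnivHomeo π₃)
          (_ : HTop.ResidueFieldsIso π₃) (a₁ : T₃ ⟶ T₁) (a₂ : T₃ ⟶ T₂),
          a₁ ≫ π₁ = π₃ ∧ a₂ ≫ π₂ = π₃ ∧ a₁ ≫ g₁ = a₂ ≫ g₂) := by
  have hfX : IsSeparated fX := .of_comp fX (terminal.from S)
  refine ⟨fun g hg => ?_, fun T₁ T₂ π₁ π₂ _ _ hπ₁ hπ₂ r₁ r₂ g₁ g₂ h₁ h₂ e₁ e₂ n₁ n₂ e => ?_⟩
  · obtain ⟨T₁, ι, h, h1, h2, h3, h4, h5⟩ := K348.Factor.exists_finite_factor ν hν.1.1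
      (pullback.snd fX fT) (pullback.lift g ν hg) (pullback.lift_snd _ _ _)
    have h6 : h ≫ ι ≫ pullback.snd fX fT = ν := by rw [reassoc_of% h3, pullback.lift_snd]
    refine ⟨T₁, ι ≫ pullback.snd fX fT, h4, h5, ?_, ι ≫ pullback.fst fX fT, h, h6, ?_, ?_⟩
    · refine K348.RFI.of_comp_surjective h _ ?_
      rw [h6]; exact hν.1.2
    · rw [Category.assoc, Category.assoc, pullback.condition]
    · rw [reassoc_of% h3, pullback.lift_fst]
  · -- the fibre product of the two finite universal homeomorphisms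
    have hp : FlatMor.IsUnivHomeo (pullback.fst π₁ π₂) :=
      isUnivHomeo_of_isPullback (IsPullback.of_hasPullback π₁ π₂).flip hπ₂
    have hq : FlatMor.IsUnivHomeo (pullback.fst π₁ π₂ ≫ π₁) := K348.Factor.isUnivHomeo_comp hp hπ₁
    have hp' : HTop.ResidueFieldsIso (pullback.fst π₁ π₂) :=
      (K348.RFI.KBij.of_isPullback (IsPullback.of_hasPullback π₁ π₂).flip
        (K348.RFI.kbij_of_isUnivHomeo hπ₂ r₂)).residueFieldsIso
    let k : T' ⟶ pullback π₁ π₂ := pullback.lift h₁ h₂ (n₁.trans n₂.symm)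
    have hk1 : k ≫ pullback.fst π₁ π₂ = h₁ := pullback.lift_fst _ _ _
    have hk2 : k ≫ pullback.snd π₁ π₂ = h₂ := pullback.lift_snd _ _ _
    have hk : Surjective k := by
      have h0 : FlatMor.IsUnivHomeo (k ≫ (pullback.fst π₁ π₂ ≫ π₁)) := by
        rw [reassoc_of% hk1, n₁]; exact hν.1.1
      exact ((isUnivHomeo_iff _).mp (isUnivHomeo_of_postcomp _ _ h0 hq)).2.2
    obtain ⟨E, i, i1, i2, i3⟩ := K348.Factor.exists_closed_equalizer k fX
      (pullback.fst π₁ π₂ ≫ g₁) (pullback.snd π₁ π₂ ≫ g₂)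
      (by rw [Category.assoc, Category.assoc, e₁, e₂, pullback.condition_assoc])
      (by rw [reassoc_of% hk1, reassoc_of% hk2, e])
    refine ⟨E, i ≫ pullback.fst π₁ π₂ ≫ π₁, inferInstance, K348.Factor.isUnivHomeo_comp
      (K348.Factor.isUnivHomeo_of_isClosedImmersion i) hq,
      K348.RFI.comp (K348.RFI.of_isClosedImmersion i) (K348.RFI.comp hp' r₁),
      i ≫ pullback.fst π₁ π₂,
      i ≫ pullback.snd π₁ π₂, by rw [Category.assoc], ?_, ?_⟩
    · rw [Category.assoc, pullback.condition]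
    · rw [Category.assoc, Category.assoc, i3]

end Groth.Agent.S13833
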