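import Groth.Statements.S13834
import Groth.Agent.S1148

set_option autoImplicit false
universe u
open AlgebraicGeometry
open EtaPt

namespace Groth.Agent.S13834

/-- Open subspaces of spaces with finitely many components. -/
theorem finite_of_isOpenEmbedding {V U : Type*} [TopologicalSpace V]
    [TopologicalSpace U] (j : V → U) (hj : Topology.IsOpenEmbedding j)
    (hU : (irreducibleComponents U).Finite) : (irreducibleComponents V).Finite := by
  refine (hU.image fun Z => j ⁻¹' Z).subset ?_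
  intro Z hZ
  have hZi : IsIrreducible (j '' Z) := hZ.1.image j hj.continuous.continuousOn
  obtain ⟨Z', hZ', hle⟩ := exists_mem_irreducibleComponents_subset_of_isIrreducible _ hZi
  refine ⟨Z', hZ', ?_⟩
  have hle' : Z ⊆ j ⁻¹' Z' := Set.image_subset_iff.mp hle
  have hirr : IsIrreducible (j ⁻¹' Z') :=
    ⟨hZ.1.nonempty.mono hle', hZ'.1.isPreirreducible.preimage hj⟩
  exact le_antisymm (hZ.2 hirr hle') hle'

/-- A space with a finite open cover by spaces with finitely many components has finitely many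
components. -/
theorem finite_of_cover {ι : Type*} [Finite ι] {X : Type*} [TopologicalSpace X] {V : ι → Type*}
    [∀ i, TopologicalSpace (V i)] (j : ∀ i, V i → X) (hj : ∀ i, Topology.IsOpenEmbedding (j i))
    (hcov : ∀ x, ∃ i, x ∈ Set.range (j i)) (h : ∀ i, (irreducibleComponents (V i)).Finite) :
    (irreducibleComponents X).Finite := by
  have h1 : (⋃ i, (fun W => closure (j i '' W)) '' irreducibleComponents (V i)).Finite :=
    Set.finite_iUnion fun i => (h i).image _
  refine h1.subset ?_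
  intro Z hZ
  obtain ⟨x, hx⟩ := hZ.1.nonempty
  obtain ⟨i, v, rfl⟩ := hcov x
  have hne : (Z ∩ Set.range (j i)).Nonempty := ⟨j i v, hx, v, rfl⟩
  have hirr : IsIrreducible (j i ⁻¹' Z) := ⟨⟨v, hx⟩, hZ.1.isPreirreducible.preimage (hj i)⟩
  obtain ⟨W, hW, hle⟩ := exists_mem_irreducibleComponents_subset_of_isIrreducible _ hirr
  refine Set.mem_iUnion.2 ⟨i, W, hW, ?_⟩
  have h2 : IsIrreducible (closure (j i '' W)) :=
    (hW.1.image (j i) (hj i).continuous.continuousOn).closure
  have h3 : Z ⊆ closure (j i '' W) := by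
    refine (subset_closure_inter_of_isPreirreducible_of_isOpen hZ.1.isPreirreducible
      (hj i).isOpen_range hne).trans (closure_mono ?_)
    rintro _ ⟨hz, w, rfl⟩
    exact ⟨w, hle hz, rfl⟩
  exact le_antisymm (hZ.2 h2 h3) h3

/-- The open embedding of the spectrum of an affine open into a larger open. -/
theorem isOpenEmbedding_fromSpec {Y : Scheme.{u}} (V W : Y.Opens) (hW : IsAffineOpen W)
    (hWV : W ≤ V) : ∃ j : PrimeSpectrum Γ(Y, W) → (V : Set Y), Topology.IsOpenEmbedding j ∧
      ∀ x : (V : Set Y), x.1 ∈ W → x ∈ Set.range j := by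
  have hrange : ∀ z : Spec Γ(Y, W), hW.fromSpec.base z ∈ (V : Set Y) := by
    intro z
    apply hWV
    rw [← SetLike.mem_coe, ← hW.range_fromSpec]
    exact ⟨z, rfl⟩
  refine ⟨Set.codRestrict hW.fromSpec.base V hrange, ?_, ?_⟩
  · refine Topology.IsOpenEmbedding.of_comp _ (V.2.isOpenEmbedding_subtypeVal) ?_
    exact hW.fromSpec.isOpenEmbedding
  · intro x hx
    have : x.1 ∈ Set.range hW.fromSpec.base := by
      have := hW.range_fromSpec
      rw [this]
      exact hx
    obtain ⟨z, hz⟩ := this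
    exact ⟨z, Subtype.ext hz⟩


/-- If f : Y → X is faithfully flat and locally of finite presentation and each quasi-compact open
subset of X has only finitely many irreducible components, the same is true of each quasi-compact
open subset of Y. -/
theorem result {Y X : Scheme.{u}} (f : Y ⟶ X) [Flat f] [LocallyOfFinitePresentation f] [Surjective f]
    (hX : ∀ U : X.Opens, IsCompact (U : Set X) → (irreducibleComponents (U : Type u)).Finite)
    (V : Y.Opens) (hV : IsCompact (V : Set Y)) : (irreducibleComponents (V : Type u)).Finite := by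
  have key : ∀ x : Y, x ∈ V → ∃ W : Y.Opens, ∃ _ : IsAffineOpen W, x ∈ W ∧ W ≤ V ∧
      (irreducibleComponents (PrimeSpectrum Γ(Y, W))).Finite := by
    intro x hx
    obtain ⟨U, hU, hxU, -⟩ := exists_isAffineOpen_mem_and_subset (X := X) (x := f.base x)
      (U := ⊤) trivial
    obtain ⟨W, hW, hxW, hWle⟩ := exists_isAffineOpen_mem_and_subset (X := Y) (x := x)
      (U := V ⊓ f ⁻¹ᵁ U) ⟨hx, hxU⟩
    have hWV : W ≤ V := fun z hz => (hWle hz).1
    have hWU : W ≤ f ⁻¹ᵁ U := fun z hz => (hWle hz).2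
    refine ⟨W, hW, hxW, hWV, ?_⟩
    let _ : Algebra Γ(X, U) Γ(Y, W) := (f.appLE U W hWU).hom.toAlgebra
    have : Module.Flat Γ(X, U) Γ(Y, W) := f.flat_appLE hU hW hWU
    have : Algebra.FinitePresentation Γ(X, U) Γ(Y, W) := f.finitePresentation_appLE hU hW hWU
    refine Groth.Agent.S1148.result Γ(X, U) Γ(Y, W) ?_
    obtain ⟨j, hj, -⟩ := isOpenEmbedding_fromSpec U U hU le_rfl
    exact finite_of_isOpenEmbedding j hj (hX U hU.isCompact)
  choose! W hW hxW hWV hfin using key
  obtain ⟨t, ht⟩ := hV.elim_finite_subcover (fun x : V => (W x.1 : Set Y)) (fun x => (W x.1).2)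
    (fun x hx => Set.mem_iUnion.2 ⟨⟨x, hx⟩, hxW x hx⟩)
  have hj : ∀ x : t, ∃ j : PrimeSpectrum Γ(Y, W x.1.1) → (V : Set Y),
      Topology.IsOpenEmbedding j ∧ ∀ y : (V : Set Y), y.1 ∈ W x.1.1 → y ∈ Set.range j :=
    fun x => isOpenEmbedding_fromSpec V (W x.1.1) (hW x.1.1 x.1.2) (hWV x.1.1 x.1.2)
  choose j hj1 hj2 using hj
  refine finite_of_cover j hj1 (fun y => ?_) (fun x => hfin x.1.1 x.1.2)
  obtain ⟨x, hx⟩ := Set.mem_iUnion.1 (ht y.2)
  obtain ⟨hxt, hyx⟩ := Set.mem_iUnion.1 hx
  exact ⟨⟨x, hxt⟩, hj2 ⟨x, hxt⟩ y hyx⟩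

end Groth.Agent.S13834
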