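import Groth.Statements.S13836
import Groth.Agent.HTop.K348.NormPI

set_option autoImplicit false
universe u
open AlgebraicGeometry CategoryTheory
open HTop

namespace Groth.Agent.S13836

/-- Let Y be a separated Noetherian integral scheme whose local rings are geometrically unibranch and
whose affine coordinate rings are Nagata, K its function field and L a finite purely inseparable
extension of K; then the normalization of Y in L, i.e. the normalization of Y relative to Spec L →
Spec K → Y, maps to Y by a universal homeomorphism. (The instance binders on Spec L → Y always hold;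
they are only needed to form the normalization.) -/
theorem result (Y : Scheme.{u}) [IsIntegral Y] [IsNoetherian Y] [Y.IsSeparated]
    (hY : ∀ y : Y, CAlg2.IsGeomUnibranch (Y.presheaf.stalk y))
    (hN : ∀ U : Y.affineOpens, CAlg.IsNagata Γ(Y, U))
    (L : Type u) [Field L] [Algebra Y.functionField L] [FiniteDimensional Y.functionField L]
    [IsPurelyInseparable Y.functionField L]
    [QuasiCompact (Spec.map (CommRingCat.ofHom (algebraMap Y.functionField L)) ≫ Y.fromSpecStalk (genericPoint Y))]
    [QuasiSeparated (Spec.map (CommRingCat.ofHom (algebraMap Y.functionField L)) ≫ Y.fromSpecStalk (genericPoint Y))] :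
    FlatMor.IsUnivHomeo
      (Spec.map (CommRingCat.ofHom (algebraMap Y.functionField L)) ≫ Y.fromSpecStalk (genericPoint Y)).fromNormalization := by
  classical
  set b : Spec (.of L) ⟶ Spec Y.functionField :=
    Spec.map (CommRingCat.ofHom (algebraMap Y.functionField L)) with hb
  set a : Spec Y.functionField ⟶ Y := Y.fromSpecStalk (genericPoint Y) with ha
  rw [Groth.Agent.FlatA.UnivHomeo.isUnivHomeo_iff]
  have hpi : ∀ x : L, ∃ n : ℕ, x ^ (ringExpChar Y.functionField) ^ n ∈
      (CommRingCat.ofHom (algebraMap Y.functionField L)).hom.range := fun x =>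
    (isPurelyInseparable_iff_pow_mem Y.functionField (ringExpChar Y.functionField)).mp
        inferInstance x
  refine ⟨inferInstance, ?_, ?_⟩
  · refine K348.NormPI.universallyInjective_of_affine _ ?_
    rintro ⟨U, hU⟩ ⟨x₀, hx₀⟩
    have hU : IsAffineOpen U := hU
    have hη : genericPoint Y ∈ U :=
      ((genericPoint_spec Y).specializes (Set.mem_univ x₀)).mem_open U.2 hx₀
    have hne : Nonempty U := ⟨⟨_, hη⟩⟩
    have htop : a ⁻¹ᵁ U = ⊤ := Groth.Agent.K385.NormFrac.preimage_eq_top Y U hη
    have hdom : IsDomain Γ(Y, U) := inferInstance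
    let _ : Algebra Γ(Y, U) Γ(Spec Y.functionField, a ⁻¹ᵁ U) := (a.app U).hom.toAlgebra
    have hfr : IsFractionRing Γ(Y, U) Γ(Spec Y.functionField, a ⁻¹ᵁ U) :=
      Groth.Agent.K385.NormFrac.isFractionRing Y U hU hη
    let _ : Algebra Γ(Y, U) Γ(Spec (.of L), (b ≫ a) ⁻¹ᵁ U) := ((b ≫ a).app U).hom.toAlgebra
    let κ : Γ(Spec Y.functionField, a ⁻¹ᵁ U) ⟶ Γ(Spec (.of L), (b ≫ a) ⁻¹ᵁ U) := b.app (a ⁻¹ᵁ U)
    let N := (b ≫ a).normalizationObjIso hU
    have hN : (b ≫ a).fromNormalization.app U = CommRingCat.ofHom (algebraMap Γ(Y, U)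
        (integralClosure Γ(Y, U) Γ(Spec (.of L), (b ≫ a) ⁻¹ᵁ U))) ≫ N.inv :=
      Scheme.Hom.fromNormalization_app (b ≫ a) hU
    have hq : ExpChar Γ(Y, U) (ringExpChar Y.functionField) :=
      (RingHom.expChar_iff (Y.germToFunctionField U).hom (Scheme.germToFunctionField_injective Y U) _).mpr
        inferInstance
    have hκi : Function.Injective κ.hom :=
      K348.NormPI.injective_of_top _ (algebraMap Y.functionField L).injective _ htop
    have h1 : UniversallyInjective (Spec.map ((b ≫ a).fromNormalization.app U)) ↔
      ∀ (K : Type u) [Field K], Function.Injective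
        (fun s : Spec (.of K) ⟶ _ ↦ s ≫ Spec.map ((b ≫ a).fromNormalization.app U)) :=
      (tfae_universallyInjective _).out 0 1
    refine h1.mpr ?_
    intro K' _ g₁ g₂ hg
    obtain ⟨ψ₁, rfl⟩ := Spec.map_surjective g₁
    obtain ⟨ψ₂, rfl⟩ := Spec.map_surjective g₂
    dsimp only at hg
    rw [← Spec.map_comp, ← Spec.map_comp, Spec.map_inj, hN, Category.assoc, Category.assoc] at hg
    rw [Spec.map_inj, ← cancel_epi N.inv]
    apply CommRingCat.hom_ext
    refine K348.NormPI.ringHom_eq κ.hom ?_ hκi (ringExpChar Y.functionField) ?_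
      (Groth.Agent.S9689.allGeomUnibranch hY hU) _ _ (congrArg CommRingCat.Hom.hom hg)
    · rfl
    · intro x
      exact K348.NormPI.exists_pow_of_top (CommRingCat.ofHom (algebraMap Y.functionField L))
        (ringExpChar Y.functionField) hpi (a ⁻¹ᵁ U) htop x
  · have hcl : IsClosed (Set.range (b ≫ a).fromNormalization) :=
      (b ≫ a).fromNormalization.isClosedMap.isClosed_range
    refine ⟨fun y => ?_⟩
    have h1 : (b ≫ a) (IsLocalRing.closedPoint L) = genericPoint Y := by
      have h2 : a (b (IsLocalRing.closedPoint L)) = genericPoint Y := by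
        have h3 : b (IsLocalRing.closedPoint L) = IsLocalRing.closedPoint Y.functionField :=
          Subsingleton.elim (α := PrimeSpectrum Y.functionField) _ _
        rw [h3]
        exact Scheme.fromSpecStalk_closedPoint
      exact h2
    have h4 : genericPoint Y ∈ Set.range (b ≫ a).fromNormalization := by
      refine ⟨(b ≫ a).toNormalization (IsLocalRing.closedPoint L), ?_⟩
      refine Eq.trans ?_ h1
      exact congr($((b ≫ a).toNormalization_fromNormalization) (IsLocalRing.closedPoint L))
    exact (genericPoint_specializes y).mem_closed hcl h4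

end Groth.Agent.S13836
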