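import Groth.Statements.S13837
import Groth.Agent.HTop.K348.UH

set_option autoImplicit false
universe u
open AlgebraicGeometry
open scoped TensorProduct
open HTop

namespace Groth.Agent.S13837

/-- Let A ⊆ B be an integral ring extension where A and B have finitely many minimal prime ideals; then
the weak normalization of A in B is the equaliser of the two maps B ⇉ (B ⊗_A B)_red: the
A-subalgebra E of elements b with b ⊗ 1 − 1 ⊗ b nilpotent in B ⊗_A B has Spec E → Spec A a universal
homeomorphism, and every A-subalgebra C of B with Spec C → Spec A a universal homeomorphism is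
contained in E. -/
theorem result (A B : Type u) [CommRing A] [CommRing B] [Algebra A B] (hinj : Function.Injective (algebraMap A B))
    [Algebra.IsIntegral A B] (hA : (minimalPrimes A).Finite) (hB : (minimalPrimes B).Finite) :
    ∃ E : Subalgebra A B, (∀ b : B, b ∈ E ↔ IsNilpotent (b ⊗ₜ[A] (1 : B) - (1 : B) ⊗ₜ[A] b)) ∧
      FlatMor.IsUnivHomeo (Spec.map (CommRingCat.ofHom (algebraMap A E))) ∧
      ∀ C : Subalgebra A B, FlatMor.IsUnivHomeo (Spec.map (CommRingCat.ofHom (algebraMap A C))) → C ≤ E := by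
  let N : Ideal (B ⊗[A] B) := nilradical (B ⊗[A] B)
  let l : B →ₐ[A] (B ⊗[A] B) ⧸ N :=
    (Ideal.Quotient.mkₐ A N).comp (Algebra.TensorProduct.includeLeft : B →ₐ[A] B ⊗[A] B)
  let r : B →ₐ[A] (B ⊗[A] B) ⧸ N :=
    (Ideal.Quotient.mkₐ A N).comp (Algebra.TensorProduct.includeRight : B →ₐ[A] B ⊗[A] B)
  let E : Subalgebra A B := AlgHom.equalizer l r
  have hE : ∀ b : B, b ∈ E ↔ IsNilpotent (b ⊗ₜ[A] (1 : B) - (1 : B) ⊗ₜ[A] b) := by
    intro b
    rw [AlgHom.mem_equalizer]
    change Ideal.Quotient.mk N (b ⊗ₜ[A] (1 : B)) = Ideal.Quotient.mk N ((1 : B) ⊗ₜ[A] b) ↔ _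
    rw [Ideal.Quotient.eq]
    rfl
  have hAE : Function.Injective (algebraMap A E) := by
    intro x y h
    exact hinj (congrArg (algebraMap E B) h)
  have hintE : (algebraMap A E).IsIntegral := by
    intro e
    have := Algebra.IsIntegral.isIntegral (R := A) (e : B)
    exact (isIntegral_algHom_iff E.val Subtype.val_injective).mp this
  have hintB : (algebraMap E B).IsIntegral := by
    intro b
    exact (Algebra.IsIntegral.isIntegral (R := A) b).tower_top
  refine ⟨E, hE, ?_, ?_⟩
  · rw [Groth.Agent.FlatA.UnivHomeo.isUnivHomeo_iff]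
    refine ⟨?_, ?_, ?_⟩
    · rw [IsIntegralHom.SpecMap_iff]
      exact hintE
    · have hsurj : Surjective (Spec.map (CommRingCat.ofHom (algebraMap E B))) :=
        ⟨hintB.comap_surjective Subtype.val_injective⟩
      refine K348.UH.universallyInjective_of_cover _ (Spec.map (CommRingCat.ofHom (algebraMap E B))) ?_
      intro K _ h₁ h₂ h
      obtain ⟨φ₁, rfl⟩ := Spec.map_surjective h₁
      obtain ⟨φ₂, rfl⟩ := Spec.map_surjective h₂
      simp only [← Spec.map_comp] at h ⊢
      have h' := Spec.map_injective h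
      congr 1
      ext ⟨e, he⟩
      have hcomp : ∀ a : A, φ₁.hom (algebraMap A B a) = φ₂.hom (algebraMap A B a) := fun a =>
        congr($(h').hom a)
      let _ : Algebra A K := (φ₁.hom.comp (algebraMap A B)).toAlgebra
      let ψ₁ : B →ₐ[A] K := { φ₁.hom with commutes' := fun a => rfl }
      let ψ₂ : B →ₐ[A] K := { φ₂.hom with commutes' := fun a => (hcomp a).symm }
      let ψ : B ⊗[A] B →ₐ[A] K := Algebra.TensorProduct.lift ψ₁ ψ₂ (fun _ _ => Commute.all _ _)
      have h3 := ((hE e).mp he).map ψ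
      rw [map_sub, Algebra.TensorProduct.lift_tmul, Algebra.TensorProduct.lift_tmul, map_one, map_one,
        mul_one, one_mul, isNilpotent_iff_eq_zero, sub_eq_zero] at h3
      exact h3
    · exact ⟨hintE.comap_surjective hAE⟩
  · intro C hC c hc
    rw [hE]
    have hinjC := Groth.Agent.FlatA.UnivHomeo.universallyInjective_of_isUnivHomeo hC
    rw [← mem_nilradical, nilradical, Ideal.radical_eq_sInf, Ideal.mem_sInf]
    rintro Q ⟨-, hQ⟩
    have hmap := K348.UH.ringHom_eq_of_comp_eq (algebraMap A C) hinjC (K := Q.ResidueField)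
      (((algebraMap (B ⊗[A] B) Q.ResidueField).comp
        (Algebra.TensorProduct.includeLeft : B →ₐ[A] B ⊗[A] B).toRingHom).comp C.val.toRingHom)
      (((algebraMap (B ⊗[A] B) Q.ResidueField).comp
        (Algebra.TensorProduct.includeRight : B →ₐ[A] B ⊗[A] B).toRingHom).comp C.val.toRingHom)
      (by
        ext a
        have h1 : (algebraMap A B a) ⊗ₜ[A] (1 : B) = (1 : B) ⊗ₜ[A] algebraMap A B a := by
          rw [Algebra.algebraMap_eq_smul_one, TensorProduct.smul_tmul]
        exact congrArg (algebraMap (B ⊗[A] B) Q.ResidueField) h1)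
    have h2 : algebraMap (B ⊗[A] B) Q.ResidueField (c ⊗ₜ[A] (1 : B)) =
      algebraMap (B ⊗[A] B) Q.ResidueField ((1 : B) ⊗ₜ[A] c) := congr($(hmap) ⟨c, hc⟩)
    rw [← sub_eq_zero, ← map_sub] at h2
    rwa [← RingHom.mem_ker, Ideal.ker_algebraMap_residueField] at h2

end Groth.Agent.S13837
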