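import Groth.Statements.S13838
import Groth.Agent.HTop.K348.Res

set_option autoImplicit false
universe u
open AlgebraicGeometry
open HTop

namespace Groth.Agent.S13838

/-- Let A ⊆ B be an integral ring extension where A and B have finitely many minimal prime ideals, such
that every prime p of A has a prime q of B above it for which k(p) is closed under extracting
p-power roots inside k(q) (the purely inseparable closure of k(p) in k(q) is k(p)); then the semi-
and weak normalizations of A in B coincide: every A-subalgebra C of B with Spec C → Spec A a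
universal homeomorphism already induces isomorphisms on residue fields. -/
theorem result (A B : Type u) [CommRing A] [CommRing B] [Algebra A B] (hinj : Function.Injective (algebraMap A B))
    [Algebra.IsIntegral A B] (hA : (minimalPrimes A).Finite) (hB : (minimalPrimes B).Finite)
    (hpi : ∀ p : PrimeSpectrum A, ∃ q : PrimeSpectrum B, ∃ hq : p.asIdeal = Ideal.comap (algebraMap A B) q.asIdeal,
      ∀ x : q.asIdeal.ResidueField,
        (∃ n : ℕ, x ^ ringExpChar p.asIdeal.ResidueField ^ n ∈
            Set.range (Ideal.ResidueField.map p.asIdeal q.asIdeal (algebraMap A B) hq)) →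
        x ∈ Set.range (Ideal.ResidueField.map p.asIdeal q.asIdeal (algebraMap A B) hq)) :
    ∀ C : Subalgebra A B, FlatMor.IsUnivHomeo (Spec.map (CommRingCat.ofHom (algebraMap A C))) →
      HTop.ResidueFieldsIso (Spec.map (CommRingCat.ofHom (algebraMap A C))) := by
  intro C hC (y : PrimeSpectrum C)
  have huinj := Groth.Agent.FlatA.UnivHomeo.universallyInjective_of_isUnivHomeo hC
  let p : PrimeSpectrum A := PrimeSpectrum.comap (algebraMap A C) y
  obtain ⟨q, hq, H⟩ := hpi p
  have hqy : PrimeSpectrum.comap (algebraMap C B) q = y := by
    apply (Spec.map (CommRingCat.ofHom (algebraMap A C))).injective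
    change PrimeSpectrum.comap (algebraMap A C) _ = PrimeSpectrum.comap (algebraMap A C) y
    rw [← PrimeSpectrum.comap_comp_apply]
    exact (PrimeSpectrum.ext hq).symm
  have hpy : p.asIdeal = Ideal.comap (algebraMap A C) y.asIdeal := rfl
  have hyq : y.asIdeal = Ideal.comap (algebraMap C B) q.asIdeal := congrArg _ hqy.symm
  rw [K348.Res.isIso_residueFieldMap_SpecMap_iff _ p y hpy]
  intro x
  have hcomp : ∀ z : p.asIdeal.ResidueField,
      Ideal.ResidueField.map y.asIdeal q.asIdeal (algebraMap C B) hyq
        (Ideal.ResidueField.map p.asIdeal y.asIdeal (algebraMap A C) hpy z) =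
      Ideal.ResidueField.map p.asIdeal q.asIdeal (algebraMap A B) hq z := by
    intro z
    have : (Ideal.ResidueField.map y.asIdeal q.asIdeal (algebraMap C B) hyq).comp
        (Ideal.ResidueField.map p.asIdeal y.asIdeal (algebraMap A C) hpy) =
      Ideal.ResidueField.map p.asIdeal q.asIdeal (algebraMap A B) hq := by
      apply Ideal.ResidueField.ringHom_ext
      ext a
      simp only [RingHom.comp_apply, Ideal.ResidueField.map_algebraMap]
      rfl
    exact congr($this z)
  obtain ⟨n, z, hz⟩ := K348.Res.exists_pow_mem_range (algebraMap A C) huinj p y hpy x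
  obtain ⟨w, hw⟩ := H (Ideal.ResidueField.map y.asIdeal q.asIdeal (algebraMap C B) hyq x)
    ⟨n, z, by rw [← hcomp, hz, map_pow]⟩
  refine ⟨w, ?_⟩
  apply (Ideal.ResidueField.map y.asIdeal q.asIdeal (algebraMap C B) hyq).injective
  rw [hcomp, hw]

end Groth.Agent.S13838
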