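import Groth.Statements.S13839
import Groth.Agent.ChowMon.K804.InsepRes
import Groth.Agent.ChowMon.K804.SemiN

set_option autoImplicit false
universe u
open AlgebraicGeometry
open scoped TensorProduct
open ChowMon

namespace Groth.Agent.S13839

/-- elements of the residue field of a prime are fractions. -/
theorem exists_frac {R : Type u} [CommRing R] (I : Ideal R) [I.IsPrime] (z : I.ResidueField) :
    ∃ b c : R, algebraMap R I.ResidueField c ≠ 0 ∧
      algebraMap R I.ResidueField c * z = algebraMap R I.ResidueField b := by
  obtain ⟨a, b, hb, hab⟩ := IsFractionRing.div_surjective (A := R ⧸ I) z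
  obtain ⟨a, rfl⟩ := Ideal.Quotient.mk_surjective a
  obtain ⟨b, rfl⟩ := Ideal.Quotient.mk_surjective b
  have hb0 : algebraMap (R ⧸ I) I.ResidueField (Ideal.Quotient.mk I b) ≠ 0 := by
    intro h
    exact nonZeroDivisors.ne_zero hb
      (Ideal.injective_algebraMap_quotient_residueField I (by rw [h, map_zero]))
  rw [Ideal.algebraMap_quotient_residueField_mk] at hb0
  refine ⟨a, b, hb0, ?_⟩
  rw [← hab, Ideal.algebraMap_quotient_residueField_mk, Ideal.algebraMap_quotient_residueField_mk,
    mul_div_cancel₀ _ hb0]

/-- Let C be a Noetherian seminormal A-algebra, g : C → C' an A-algebra map with C' reduced such that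
Spec C' → Spec C is a finite universal homeomorphism, and d ≥ 1 an integer divisible by every
residue degree [k(q) : k(g⁻¹q)]; let B be a flat A-algebra and φ : B → C' an A-algebra map. Then for
every symmetric tensor x ∈ TS^d_A(B) the element φ(m_d(x)) of C', m_d : B^{⊗d} → B the
multiplication, lies in the image of C. (The published statement does not assume C' reduced and is
false without it: take A = C = k a field, C' = k[ε]/(ε²), d = 1, B = k[t] and φ(t) = ε; then ε is
not in k.) -/
theorem result (A C C' B : Type u) [CommRing A] [CommRing C] [CommRing C'] [CommRing B]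
    [Algebra A C] [Algebra A C'] [Algebra A B] [IsNoetherianRing C] (hC : HTop.IsSeminormalRing C)
    (g : C →ₐ[A] C') [IsReduced C'] (hfin : g.toRingHom.Finite)
    (hg : FlatMor.IsUnivHomeo (Spec.map (CommRingCat.ofHom g.toRingHom)))
    (d : ℕ) (hd : 0 < d)
    (hdeg : ∀ q : PrimeSpectrum C',
      @Module.finrank (PrimeSpectrum.comap g.toRingHom q).asIdeal.ResidueField q.asIdeal.ResidueField _ _
          (Ideal.ResidueField.map (PrimeSpectrum.comap g.toRingHom q).asIdeal q.asIdeal g.toRingHom
            rfl).toAlgebra.toModule ∣ d)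
    [Module.Flat A B] (φ : B →ₐ[A] C') (x : ⨂[A] _ : Fin d, B) (hx : x ∈ SymTen.TS A B d) :
    φ (PiTensorProduct.lift (MultilinearMap.mkPiAlgebra A (Fin d) B) x) ∈ g.range := by
  have hui := (Groth.Agent.FlatA.UnivHomeo.isUnivHomeo_iff _).mp hg
  have hhomeo := Groth.Agent.FlatA.UnivHomeo.isHomeomorph_of_isUnivHomeo hg
  have hspec : Function.Bijective (PrimeSpectrum.comap g.toRingHom) := hhomeo.bijective
  -- `C` is reduced
  have hCred : IsReduced C := by
    refine (isReduced_iff_pow_one_lt 2 one_lt_two).mpr fun x hx => ?_
    obtain ⟨a, -, ha⟩ := hC 0 0 (by simp)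
    have h0 := ha 0 (by simp)
    have hx' := ha x ⟨hx.symm, by rw [pow_succ, hx, zero_mul]⟩
    rw [hx', h0]
  -- `g` is injective
  have hinj : Function.Injective g.toRingHom := by
    rw [injective_iff_map_eq_zero]
    intro c hc
    have hnil : c ∈ nilradical C := by
      rw [nilradical_eq_sInf, Ideal.mem_sInf]
      intro P hP
      obtain ⟨q, hq⟩ := hspec.2 ⟨P, hP⟩
      have h1 : c ∈ (PrimeSpectrum.comap g.toRingHom q).asIdeal := by
        change g.toRingHom c ∈ q.asIdeal
        rw [hc]; exact q.asIdeal.zero_mem
      rwa [hq] at h1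
    exact IsNilpotent.eq_zero hnil
  have hint : g.toRingHom.IsIntegral := hfin.to_isIntegral
  have hmain := K804.SemiN.mem_range_of_pointwise g.toRingHom hC hinj hint hspec.1
    (φ (PiTensorProduct.lift (MultilinearMap.mkPiAlgebra A (Fin d) B) x)) (fun q => by
      set P := PrimeSpectrum.comap g.toRingHom q with hP
      let K := P.asIdeal.ResidueField
      let L := q.asIdeal.ResidueField
      let algKL : Algebra K L := (Ideal.ResidueField.map P.asIdeal q.asIdeal g.toRingHom rfl).toAlgebra
      have hpi : IsPurelyInseparable K L := K804.InsepRes.isPurelyInseparable g.toRingHom hg q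
      have hdvd : Module.finrank K L ∣ d := hdeg q
      have halg : ∀ c : C, algebraMap K L (algebraMap C K c) = algebraMap C' L (g c) := fun c =>
        Ideal.ResidueField.map_algebraMap P.asIdeal q.asIdeal g.toRingHom rfl c
      -- fractions
      have hfrac : ∀ z : L, ∃ b c : C', algebraMap C' L c ≠ 0 ∧ algebraMap C' L c * z = algebraMap C' L b := by
        exact exists_frac q.asIdeal
      have hfracK : ∀ z : K, ∃ b c : C, algebraMap C K c ≠ 0 ∧ algebraMap C K c * z = algebraMap C K b := by
        exact exists_frac P.asIdeal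
      have hfd : FiniteDimensional K L := by
        let := g.toRingHom.toAlgebra
        obtain ⟨s, hs⟩ := hfin
        exact (K804.ResDeg.bound (A := C) (B := C') (algebraMap C K) (algebraMap C' L)
          (fun c => (halg c).symm) s hs hfrac).1
      let ψ : B →ₐ[A] L := (IsScalarTower.toAlgHom A C' L).comp φ
      have hst : IsScalarTower A K L := IsScalarTower.of_algebraMap_eq fun a => by
        rw [IsScalarTower.algebraMap_apply A C K, halg, g.commutes,
          IsScalarTower.algebraMap_apply A C' L]
      have hmem := K804.InsepRes.mul_mem (K := K) d ψ hdvd x (by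
        rwa [SymTen.mem_TS_iff] at hx)
      obtain ⟨κ, hκ⟩ := hmem
      obtain ⟨b, c, hc, hbc⟩ := hfracK κ
      refine ⟨b, c, ?_, ?_⟩
      · intro h
        apply hc
        rw [Ideal.algebraMap_residueField_eq_zero]
        exact h
      · rw [← Ideal.algebraMap_residueField_eq_zero (I := q.asIdeal), map_sub, map_mul, sub_eq_zero]
        change algebraMap C' L (g c) * ψ (PiTensorProduct.lift (MultilinearMap.mkPiAlgebra A (Fin d) B) x) =
          algebraMap C' L (g b)
        rw [← hκ, ← halg, ← halg, ← map_mul, hbc])
  obtain ⟨c, hc⟩ := hmain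
  exact ⟨c, hc⟩

end Groth.Agent.S13839
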