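import Groth.Statements.S13841
import Groth.Agent.Brauer.K442.CoprimeIdx

set_option autoImplicit false
universe u v
open scoped TensorProduct
open Brauer

namespace Groth.Agent.S13841

/-- Let k be a field and A a finite-dimensional central simple k-algebra of period n. Then A has index n
if and only if there is a finite field extension k' of k of degree coprime to n such that the index
of the k'-algebra k' ⊗_k A divides n. (The published statement is for a class of period n in H²(X,
G_m) on a scheme X over k; this row is the case where X is the spectrum of k.) -/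
theorem result (k : Type u) [Field k] (A : Type v) [Ring A] [Algebra k A]
    [Algebra.IsCentral k A] [IsSimpleRing A] [FiniteDimensional k A] (n : ℕ) (hper : CSAGal.IsPeriod k A n) :
    CSAGal.IsIndex k A n ↔
      ∃ (k' : Type u) (_ : Field k') (_ : Algebra k k') (_ : FiniteDimensional k k'),
        Nat.Coprime n (Module.finrank k k') ∧ ∃ d' : ℕ, CSAGal.IsIndex k' (k' ⊗[k] A) d' ∧ d' ∣ n := by
  have hA : K441.Br.IsCSA k A := ⟨inferInstance, inferInstance, inferInstance⟩
  have hbr : K441.Br.BrEq k (CSAGal.tpow k A n) k := (K441.TPow.isPeriod_dvd hA hper n).2 dvd_rfl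
  constructor
  · intro h
    have h1 : Nat.Coprime n (Module.finrank k k) := by
      rw [Module.finrank_self]; exact Nat.coprime_one_right n
    exact ⟨k, inferInstance, inferInstance, inferInstance, h1,
      (K442.CoprimeIdx.exists_isIndex_dvd_iff hA hbr k h1).1 ⟨n, h, dvd_rfl⟩⟩
  · rintro ⟨k', _, _, _, hcop, h⟩
    obtain ⟨d, hd, hdn⟩ := (K442.CoprimeIdx.exists_isIndex_dvd_iff hA hbr k' hcop).2 h
    have h2 := K438.PerInd.isPeriod_dvd_isIndex hA hd hper
    have h3 : d = n := Nat.dvd_antisymm hdn h2
    rwa [h3] at hd

end Groth.Agent.S13841
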