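import Groth.Statements.S13844
-- import your own Groth.Agent.* helpers here
import Groth.Agent.S1556
import Mathlib.RingTheory.DiscreteValuationRing.TFAE
import Mathlib.RingTheory.KrullDimension.Basic
import Mathlib.RingTheory.KrullDimension.Zero

set_option autoImplicit false
universe u
open CategoryTheory CategoryTheory.Limits AlgebraicGeometry
attribute [local instance] Curv2.resAlgebra
open Curves

namespace Groth.Agent.S13844

/-- Let K be a field and C a normal curve over K, namely an integral normal separated K-scheme of finite
type of dimension one, and let S be a set of closed points of C whose residue fields are separable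
over K. If the structure morphism of C is smooth at every point outside S, then it is smooth. (The
published statement takes S to be a closed subscheme finite étale over K, that is finitely many such
points; this row allows any set of closed points with separable residue fields.) -/
theorem result (K : Type u) [Field K] (C : Scheme.{u}) [C.Over (Spec (CommRingCat.of K))]
    [IsIntegral C] [IsSeparated (C ↘ (Spec (CommRingCat.of K)))] [LocallyOfFinitePresentation (C ↘ (Spec (CommRingCat.of K)))]
    [QuasiCompact (C ↘ (Spec (CommRingCat.of K)))] (hN : ∀ x : C, IsIntegrallyClosed (C.presheaf.stalk x))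
    (hdim : topologicalKrullDim C = 1) (S : Set C)
    (hS : ∀ x ∈ S, IsClosed ({x} : Set C) ∧ Algebra.IsSeparable K (C.residueField x))
    (hsm : ∀ x : C, x ∉ S → x ∈ (C ↘ (Spec (CommRingCat.of K))).smoothLocus) :
    AlgebraicGeometry.Smooth (C ↘ (Spec (CommRingCat.of K))) := by
  rw [← Scheme.Hom.smoothLocus_eq_top_iff]
  apply TopologicalSpace.Opens.ext
  refine Set.eq_univ_of_forall fun x => ?_
  by_cases hx : x ∈ S
  · obtain ⟨hxc, hsep⟩ := hS x hx
    refine (Groth.Agent.S1556.result K C hdim x hxc).mp ?_
    have : IsLocallyNoetherian C :=
      LocallyOfFiniteType.isLocallyNoetherian (C ↘ (Spec (CommRingCat.of K)))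
    have h1 : ¬ IsField (C.presheaf.stalk x) :=
      Groth.Agent.VarietyA.SmoothReg.not_isField_stalk_of_isClosed C x hxc
        (by rw [hdim]; exact zero_lt_one)
    have h2 := Groth.Agent.VarietyA.SmoothReg.ringKrullDim_stalk_le C x
    rw [hdim] at h2
    have h3 : Ring.KrullDimLE 1 (C.presheaf.stalk x) := by
      rw [Ring.krullDimLE_iff]
      exact_mod_cast h2
    have h4 : ∀ P : Ideal (C.presheaf.stalk x), P ≠ ⊥ → P.IsPrime →
        P = IsLocalRing.maximalIdeal (C.presheaf.stalk x) := by
      intro P hP hP'
      exact IsLocalRing.eq_maximalIdeal (Ring.krullDimLE_one_iff_of_noZeroDivisors.mp h3 P hP hP')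
    have h6 := (tfae_of_isNoetherianRing_of_isLocalRing_of_isDomain (C.presheaf.stalk x)).out 3 0
    have h5 : IsPrincipalIdealRing (C.presheaf.stalk x) := h6.mp ⟨hN x, h4⟩
    exact { not_a_field' := fun h => h1 (IsLocalRing.isField_iff_maximalIdeal_eq.mpr h) }
  · exact hsm x hx

end Groth.Agent.S13844
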