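import Groth.Statements.S13845
import Groth.Agent.Dix.K107.BrCurve

set_option autoImplicit false
universe u
open CategoryTheory AlgebraicGeometry
open Dix

namespace Groth.Agent.S13845

/-- Let k be a finite field and X a reduced proper k-scheme of dimension one which is geometrically
irreducible over k (a geometrically irreducible proper curve). Then H²(X_et, G_m) = 0. (The
published statement has no reducedness hypothesis and its proof begins by reducing to the reduced
case; this row states the reduced case.) -/
theorem result (k : Type u) [Field k] [Finite k] (X : Scheme.{u})
    (f : X ⟶ Spec (CommRingCat.of k)) [IsProper f] [IsReduced X] [GeometricallyIrreducible f]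
    (hdim : topologicalKrullDim X = 1) : Subsingleton (Dix.BrCoh X) := by
  have hirr : IrreducibleSpace X := GeometricallyIrreducible.irreducibleSpace_of_subsingleton (f := f)
  have hint : IsIntegral X := isIntegral_of_irreducibleSpace_of_isReduced X
  exact ⟨fun ξ η => (K107.BrCurve.main f hdim ξ).trans (K107.BrCurve.main f hdim η).symm⟩

end Groth.Agent.S13845
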