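import Groth.Statements.S13846
import Mathlib.LinearAlgebra.GeneralLinearGroup.AlgEquiv
import Mathlib.Algebra.Central.End
import Mathlib.Algebra.DirectSum.Decomposition

set_option autoImplicit false
universe u v
open TwSh

namespace Groth.Agent.S13846

open DirectSum in
/-- For an internally graded vector space, a functional which is `1` on a given nonzero vector of degree `i₀` and
vanishes in all other degrees. -/
theorem exists_functional (k : Type u) [Field k] (V : Type v) [AddCommGroup V] [Module k V]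
    (𝒱 : ℤ → Submodule k V) (h𝒱 : DirectSum.IsInternal 𝒱) (i₀ : ℤ) (v : V) (hv : v ∈ 𝒱 i₀) (hv0 : v ≠ 0) :
    ∃ ℓ : V →ₗ[k] k, ℓ v = 1 ∧ ∀ (j : ℤ) (x : V), j ≠ i₀ → x ∈ 𝒱 j → ℓ x = 0 := by
  classical
  let D : DirectSum.Decomposition 𝒱 := h𝒱.chooseDecomposition 𝒱
  let e : V ≃ₗ[k] ⨁ i, 𝒱 i := DirectSum.decomposeLinearEquiv 𝒱
  have hv' : (⟨v, hv⟩ : 𝒱 i₀) ≠ 0 := fun h => hv0 (congrArg Subtype.val h)
  obtain ⟨m, hm⟩ := Module.Projective.exists_dual_ne_zero k hv'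
  let ℓ : V →ₗ[k] k := (m ⟨v, hv⟩)⁻¹ • (m ∘ₗ DirectSum.component k ℤ (fun i => 𝒱 i) i₀ ∘ₗ (e : V →ₗ[k] _))
  refine ⟨ℓ, ?_, ?_⟩
  · have h1 : e v = DirectSum.of (fun i => 𝒱 i) i₀ ⟨v, hv⟩ := DirectSum.decompose_of_mem 𝒱 hv
    change (m ⟨v, hv⟩)⁻¹ * m ((e v) i₀) = 1
    rw [h1, DirectSum.of_eq_same]
    exact inv_mul_cancel₀ hm
  · intro j x hj hx
    have h1 : e x = DirectSum.of (fun i => 𝒱 i) j ⟨x, hx⟩ := DirectSum.decompose_of_mem 𝒱 hx
    change (m ⟨v, hv⟩)⁻¹ * m ((e x) i₀) = 0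
    rw [h1, DirectSum.of_eq_of_ne _ _ _ hj.symm]
    simp

/-- Let k be a field and V, W finite-dimensional ℤ-graded k-vector spaces, V = ⊕ V_i with V ≠ 0 and W =
⊕ W_i. Let φ : End_k(V) ≃ End_k(W) be a k-algebra isomorphism which sends every endomorphism
homogeneous of degree d (one mapping V_i into V_{i+d} for all i) to an endomorphism homogeneous of
degree d. Then there are an integer n and a k-linear isomorphism g : V ≅ W with g(V_i) = W_{i+n} for
every i such that φ(f) = g ∘ f ∘ g⁻¹ for all f; moreover n is unique and g is unique up to a nonzero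
scalar: if g' : V ≅ W satisfies g'(V_i) = W_{i+n'} for all i and φ(f) = g' ∘ f ∘ g'⁻¹ for all f,
then n' = n and g' = c·g for some c ∈ kˣ. (The published statement is about non-zero perfect
complexes over k: an isomorphism of their derived endomorphism algebras, as algebra objects of the
derived category, is induced by an isomorphism from the first complex to a shift of the second, for
a unique shift and up to a unit; this row is its form for finite-dimensional ℤ-graded vector spaces,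
to which the bounded derived category of a field is equivalent by taking cohomology.) -/
theorem result (k : Type u) [Field k] (V W : Type v) [AddCommGroup V] [Module k V] [FiniteDimensional k V] [Nontrivial V] [AddCommGroup W] [Module k W] [FiniteDimensional k W] (𝒱 : ℤ → Submodule k V) (h𝒱 : DirectSum.IsInternal 𝒱) (𝒲 : ℤ → Submodule k W) (h𝒲 : DirectSum.IsInternal 𝒲) (φ : Module.End k V ≃ₐ[k] Module.End k W) (hφ : ∀ (d : ℤ) (f : Module.End k V), (∀ (i : ℤ) (x : V), x ∈ 𝒱 i → f x ∈ 𝒱 (i + d)) → ∀ (i : ℤ) (y : W), y ∈ 𝒲 i → φ f y ∈ 𝒲 (i + d)) : ∃ (n : ℤ) (g : V ≃ₗ[k] W), (∀ i : ℤ, Submodule.map (g : V →ₗ[k] W) (𝒱 i) = 𝒲 (i + n)) ∧ (∀ f : Module.End k V, φ f = (g : V →ₗ[k] W) ∘ₗ f ∘ₗ (g.symm : W →ₗ[k] V)) ∧ ∀ (n' : ℤ) (g' : V ≃ₗ[k] W), (∀ i : ℤ, Submodule.map (g' : V →ₗ[k] W) (𝒱 i) = 𝒲 (i + n')) → (∀ f : Module.End k V, φ f = (g' : V →ₗ[k] W) ∘ₗ f ∘ₗ (g'.symm : W →ₗ[k] V)) → n' = n ∧ ∃ c : kˣ, ∀ x : V, g' x = c • g x :=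 by
  classical
  obtain ⟨g, hg⟩ := φ.eq_linearEquivConjAlgEquiv
  have hgf : ∀ f : Module.End k V, φ f = (g : V →ₗ[k] W) ∘ₗ f ∘ₗ (g.symm : W →ₗ[k] V) := by
    intro f; rw [hg]; rfl
  have hgx : ∀ (f : Module.End k V) (x : V), φ f (g x) = g (f x) := by
    intro f x; rw [hgf]; simp
  -- a degree with nonzero component
  obtain ⟨i₀, v, hv, hv0⟩ : ∃ (i₀ : ℤ) (v : V), v ∈ 𝒱 i₀ ∧ v ≠ 0 := by
    by_contra hcon
    push Not at hcon
    have hbot : ∀ i, 𝒱 i = ⊥ := fun i => by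
      rw [eq_bot_iff]; intro x hx; exact hcon i x hx
    have htop := h𝒱.submodule_iSup_eq_top
    rw [show 𝒱 = fun _ => ⊥ from funext hbot, iSup_bot] at htop
    exact absurd htop bot_ne_top
  obtain ⟨ℓ, hℓv, hℓ⟩ := exists_functional k V 𝒱 h𝒱 i₀ v hv hv0
  -- rank one operators
  let E : V → Module.End k V := fun x => ℓ.smulRight x
  have hEv : ∀ x, E x v = x := fun x => by simp [E, hℓv]
  have hEdeg : ∀ (i : ℤ) (x : V), x ∈ 𝒱 i → ∀ (j : ℤ) (y : V), y ∈ 𝒱 j → E x y ∈ 𝒱 (j + (i - i₀)) := by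
    intro i x hx j y hy
    by_cases hj : j = i₀
    · subst hj
      have : j + (i - j) = i := by ring
      rw [this]
      exact (𝒱 i).smul_mem _ hx
    · have : E x y = 0 := by simp [E, hℓ j y hj hy]
      rw [this]; exact (𝒱 _).zero_mem
  have hφE : ∀ (i : ℤ) (x : V), x ∈ 𝒱 i → ∀ (j : ℤ) (y : W), y ∈ 𝒲 j → φ (E x) y ∈ 𝒲 (j + (i - i₀)) :=
    fun i x hx => hφ (i - i₀) (E x) (hEdeg i x hx)
  -- `g v` is homogeneous
  obtain ⟨j₀, hj₀⟩ : ∃ j₀, g v ∈ 𝒲 j₀ := by
    by_contra hcon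
    push Not at hcon
    have hzero : ∀ (j : ℤ) (y : W), y ∈ 𝒲 j → φ (E v) y = 0 := by
      intro j y hy
      by_contra hne
      have h1 : φ (E v) y = (ℓ (g.symm y)) • g v := by
        rw [hgf]; simp [E]
      have h2 : φ (E v) y ∈ 𝒲 j := by
        have := hφE i₀ v hv j y hy
        simpa using this
      rw [h1] at hne h2
      have hc : ℓ (g.symm y) ≠ 0 := fun h => hne (by rw [h, zero_smul])
      exact hcon j (((𝒲 j).smul_mem_iff hc).mp h2)
    have hall : ∀ y : W, φ (E v) y = 0 := by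
      intro y
      have hy : y ∈ ⨆ i, 𝒲 i := by rw [h𝒲.submodule_iSup_eq_top]; trivial
      induction hy using Submodule.iSup_induction' with
      | mem i x hx => exact hzero i x hx
      | zero => simp
      | add x y _ _ hx hy => rw [map_add, hx, hy, add_zero]
    have := hall (g v)
    rw [hgx, hEv] at this
    exact hv0 (by simpa using this)
  have hle : ∀ i, Submodule.map (g : V →ₗ[k] W) (𝒱 i) ≤ 𝒲 (i + (j₀ - i₀)) := by
    rintro i _ ⟨x, hx, rfl⟩
    have h1 := hφE i x hx j₀ (g v) hj₀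
    rw [hgx, hEv] at h1
    have : j₀ + (i - i₀) = i + (j₀ - i₀) := by ring
    rw [this] at h1
    exact h1
  have heq : ∀ i, Submodule.map (g : V →ₗ[k] W) (𝒱 i) = 𝒲 (i + (j₀ - i₀)) := by
    -- use independence of the shifted family
    have hindep : iSupIndep fun i => 𝒲 (i + (j₀ - i₀)) :=
      h𝒲.submodule_iSupIndep.comp (add_left_injective _)
    have htop : ⨆ i, Submodule.map (g : V →ₗ[k] W) (𝒱 i) = ⊤ := by
      rw [← Submodule.map_iSup, h𝒱.submodule_iSup_eq_top, Submodule.map_top]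
      exact LinearMap.range_eq_top.mpr g.surjective
    intro i
    refine le_antisymm (hle i) ?_
    -- `𝒲 (i + n) ≤ g (𝒱 i)`
    intro y hy
    have h1 : y ∈ Submodule.map (g : V →ₗ[k] W) (𝒱 i) ⊔ ⨆ (j) (_ : j ≠ i), Submodule.map (g : V →ₗ[k] W) (𝒱 j) := by
      rw [← iSup_split_single (fun j => Submodule.map (g : V →ₗ[k] W) (𝒱 j)) i, htop]
      trivial
    obtain ⟨a, ha, b, hb, hab⟩ := Submodule.mem_sup.mp h1
    have hb' : b ∈ ⨆ (j) (_ : j ≠ i), 𝒲 (j + (j₀ - i₀)) :=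
      (iSup₂_mono fun j _ => hle j) hb
    have hbi : b ∈ 𝒲 (i + (j₀ - i₀)) := by
      have : b = y - a := by rw [← hab]; abel
      rw [this]
      exact (𝒲 _).sub_mem hy (hle i ha)
    have hb0 : b = 0 := by
      have := (hindep i).le_bot ⟨hbi, hb'⟩
      simpa using this
    rw [← hab, hb0, add_zero]
    exact ha
  refine ⟨j₀ - i₀, g, heq, hgf, ?_⟩
  intro n' g' hg'1 hg'2
  have hscal : ∃ c : kˣ, g' = c • g := by
    rw [← LinearEquiv.conjAlgEquiv_ext_iff' (S := k)]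
    apply AlgEquiv.ext
    intro f
    rw [LinearEquiv.conjAlgEquiv_apply, LinearEquiv.conjAlgEquiv_apply]
    exact (hg'2 f).symm.trans (hgf f)
  obtain ⟨c, hc⟩ := hscal
  have hcx : ∀ x, g' x = c • g x := fun x => by rw [hc]; rfl
  refine ⟨?_, c, hcx⟩
  have h1 : g' v ∈ 𝒲 (i₀ + n') := by
    rw [← hg'1 i₀]; exact ⟨v, hv, rfl⟩
  have h2 : g v ∈ 𝒲 (i₀ + n') := by
    rw [hcx] at h1
    exact ((𝒲 _).smul_mem_iff_of_isUnit c.isUnit).mp h1
  by_contra hne
  have hne' : i₀ + n' ≠ j₀ := fun h => hne (by omega)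
  have hdisj : Disjoint (𝒲 (i₀ + n')) (𝒲 j₀) := h𝒲.submodule_iSupIndep.pairwiseDisjoint hne'
  have h0 : g v = 0 := by
    have := hdisj.le_bot ⟨h2, hj₀⟩
    simpa using this
  exact hv0 (by simpa using h0)

end Groth.Agent.S13846
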