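import Groth.Statements.S13847
import Mathlib.Algebra.Module.Projective
import Mathlib.RingTheory.Jacobson.Radical
import Mathlib.RingTheory.SimpleModule.WedderburnArtin
import Mathlib.RingTheory.Length
import Mathlib.Algebra.Module.Torsion.Basic

set_option autoImplicit false
universe u v
open TwSh

namespace Groth.Agent.S13847

section General

variable {A : Type u} [Ring A] {P : Type v} [AddCommGroup P] [Module A P]

/-- The endomorphism of `P / JP` induced by an endomorphism of `P`. -/
noncomputable def red {Q : Type v} [AddCommGroup Q] [Module A Q] (f : P →ₗ[A] Q) :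
    (P ⧸ (Ring.jacobson A • (⊤ : Submodule A P))) →ₗ[A] (Q ⧸ (Ring.jacobson A • (⊤ : Submodule A Q))) :=
  Submodule.mapQ _ _ f (by
    rw [← Submodule.map_le_iff_le_comap, Submodule.map_smul'']
    exact smul_mono_right _ le_top)

@[simp] theorem red_mk {Q : Type v} [AddCommGroup Q] [Module A Q] (f : P →ₗ[A] Q) (x : P) :
    red f (Submodule.Quotient.mk x) = Submodule.Quotient.mk (f x) := rfl

theorem red_mkQ {Q : Type v} [AddCommGroup Q] [Module A Q] (f : P →ₗ[A] Q) (x : P) :
    red f (Submodule.mkQ _ x) = Submodule.mkQ _ (f x) := rfl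

theorem red_id : red (LinearMap.id : P →ₗ[A] P) = LinearMap.id := by
  apply Submodule.linearMap_qext
  ext x; rfl

theorem red_comp {Q R : Type v} [AddCommGroup Q] [Module A Q] [AddCommGroup R] [Module A R]
    (g : Q →ₗ[A] R) (f : P →ₗ[A] Q) : red (g ∘ₗ f) = red g ∘ₗ red f := by
  apply Submodule.linearMap_qext
  ext x; rfl

theorem red_add {Q : Type v} [AddCommGroup Q] [Module A Q] (f g : P →ₗ[A] Q) : red (f + g) = red f + red g := by
  apply Submodule.linearMap_qext
  ext x; rfl

theorem red_sub {Q : Type v} [AddCommGroup Q] [Module A Q] (f g : P →ₗ[A] Q) : red (f - g) = red f - red g := by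
  apply Submodule.linearMap_qext
  ext x; rfl

theorem red_neg {Q : Type v} [AddCommGroup Q] [Module A Q] (f : P →ₗ[A] Q) : red (-f) = -red f := by
  apply Submodule.linearMap_qext
  ext x; rfl

theorem red_surjective [Module.Projective A P] {Q : Type v} [AddCommGroup Q] [Module A Q]
    (g : (P ⧸ (Ring.jacobson A • (⊤ : Submodule A P))) →ₗ[A] (Q ⧸ (Ring.jacobson A • (⊤ : Submodule A Q)))) :
    ∃ f : P →ₗ[A] Q, red f = g := by
  obtain ⟨f, hf⟩ := Module.projective_lifting_property (Submodule.mkQ (Ring.jacobson A • (⊤ : Submodule A Q)))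
    (g ∘ₗ Submodule.mkQ (Ring.jacobson A • (⊤ : Submodule A P))) (Submodule.mkQ_surjective _)
  refine ⟨f, ?_⟩
  apply Submodule.linearMap_qext
  ext x
  exact congrArg (fun h => h x) hf

theorem surjective_of_red_surjective [Module.Finite A P] (h : Module.End A P) (hh : Function.Surjective (red h)) :
    Function.Surjective h := by
  rw [← LinearMap.range_eq_top]
  have h1 : (⊤ : Submodule A (P ⧸ LinearMap.range h)) ≤ Ring.jacobson A • ⊤ := by
    intro y _
    obtain ⟨x, rfl⟩ := Submodule.mkQ_surjective _ y
    obtain ⟨z, hz⟩ := hh (Submodule.mkQ _ x)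
    obtain ⟨z, rfl⟩ := Submodule.mkQ_surjective _ z
    have h2 : x - h z ∈ Ring.jacobson A • (⊤ : Submodule A P) := by
      rw [red_mkQ] at hz
      rw [← Submodule.ker_mkQ (Ring.jacobson A • (⊤ : Submodule A P)), LinearMap.mem_ker, map_sub, hz, sub_self]
    have h3 : Submodule.mkQ (LinearMap.range h) x = Submodule.mkQ (LinearMap.range h) (x - h z) := by
      rw [map_sub]
      have : Submodule.mkQ (LinearMap.range h) (h z) = 0 := by
        rw [← LinearMap.mem_ker, Submodule.ker_mkQ]; exact ⟨z, rfl⟩
      rw [this, sub_zero]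
    rw [h3]
    have h4 := Submodule.mem_map_of_mem (f := Submodule.mkQ (LinearMap.range h)) h2
    rw [Submodule.map_smul''] at h4
    have h5 : Ring.jacobson A • Submodule.map (Submodule.mkQ (LinearMap.range h)) ⊤ ≤
        Ring.jacobson A • (⊤ : Submodule A (P ⧸ LinearMap.range h)) := smul_mono_right _ le_top
    exact h5 h4
  have h2 := Submodule.FG.eq_bot_of_le_jacobson_smul (N := (⊤ : Submodule A (P ⧸ LinearMap.range h)))
    Module.Finite.fg_top h1
  rw [eq_top_iff]
  intro x _
  have h3 : Submodule.mkQ (LinearMap.range h) x ∈ (⊤ : Submodule A (P ⧸ LinearMap.range h)) := trivial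
  rw [h2] at h3
  have h4 : x ∈ LinearMap.ker (Submodule.mkQ (LinearMap.range h)) := by simpa using h3
  rwa [Submodule.ker_mkQ] at h4

/-- An endomorphism of a finite projective module inducing the identity on `P / JP` is bijective. -/
theorem bijective_of_red_eq_id [Module.Finite A P] [Module.Projective A P] (h : Module.End A P)
    (hh : red h = LinearMap.id) : Function.Bijective h := by
  have hs : Function.Surjective h := surjective_of_red_surjective h (by rw [hh]; exact Function.surjective_id)
  refine ⟨?_, hs⟩
  obtain ⟨s, hs'⟩ := Module.projective_lifting_property h (LinearMap.id : P →ₗ[A] P) hs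
  have hsr : red s = LinearMap.id := by
    have := congrArg red hs'
    rwa [red_comp, hh, red_id, LinearMap.id_comp] at this
  have hss : Function.Surjective s :=
    surjective_of_red_surjective s (by rw [hsr]; exact Function.surjective_id)
  intro x y hxy
  obtain ⟨x, rfl⟩ := hss x
  obtain ⟨y, rfl⟩ := hss y
  have e : ∀ z, h (s z) = z := fun z => congrArg (fun f => f z) hs'
  rw [e, e] at hxy
  rw [hxy]

/-- The endomorphisms of a finite projective module inducing `0` on `P / JP` (semisimple) are described by the ring
structure of the endomorphism ring alone. -/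
theorem red_eq_zero_iff [Module.Finite A P] [Module.Projective A P]
    [IsSemisimpleModule A (P ⧸ (Ring.jacobson A • (⊤ : Submodule A P)))] (f : Module.End A P) :
    red f = 0 ↔ ∀ y : Module.End A P, ∃ z : Module.End A P, z * (1 - y * f) = 1 := by
  constructor
  · intro hf y
    have h1 : red (1 - y * f) = LinearMap.id := by
      rw [red_sub]
      change red LinearMap.id - red (y ∘ₗ f) = _
      rw [red_id, red_comp, hf, LinearMap.comp_zero, sub_zero]
    have h2 := bijective_of_red_eq_id (1 - y * f) h1
    refine ⟨(LinearEquiv.ofBijective (1 - y * f) h2).symm.toLinearMap, ?_⟩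
    ext x
    exact (LinearEquiv.ofBijective (1 - y * f) h2).symm_apply_apply x
  · intro H
    obtain ⟨s, hs⟩ := IsSemisimpleModule.lifting_property (R := A) (red f).rangeRestrict
      (red f).surjective_rangeRestrict LinearMap.id
    obtain ⟨g', hg'⟩ := IsSemisimpleModule.extension_property (R := A) (LinearMap.range (red f)).subtype
      (Submodule.subtype_injective _) s
    obtain ⟨g, hg⟩ := red_surjective g'
    have key : ∀ x, red f (g' (red f x)) = red f x := by
      intro x
      have e1 : g' (red f x) = s ((red f).rangeRestrict x) :=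
        congrArg (fun h => h ((red f).rangeRestrict x)) hg'
      rw [e1]
      exact congrArg Subtype.val (congrArg (fun h => h ((red f).rangeRestrict x)) hs)
    obtain ⟨z, hz⟩ := H g
    have hz' : red z ∘ₗ (LinearMap.id - g' ∘ₗ red f) = LinearMap.id := by
      have := congrArg red (show z ∘ₗ (LinearMap.id - g ∘ₗ f) = LinearMap.id from hz)
      rwa [red_comp, red_sub, red_comp, red_id, hg] at this
    refine LinearMap.ext fun x => ?_
    have h1 : g' (red f x) = 0 := by
      have h2 := congrArg (fun h => h (g' (red f x))) hz'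
      simp only [LinearMap.comp_apply, LinearMap.sub_apply, LinearMap.id_apply, key, sub_self, map_zero] at h2
      exact h2.symm
    have h2 := key x
    rw [h1, map_zero] at h2
    exact h2.symm

end General

section Strong

variable (A : Type u) [Ring A] [IsSimpleRing (A ⧸ Ring.jacobson A)] [IsArtinianRing (A ⧸ Ring.jacobson A)]

/-- There is one simple `A`-module `S` such that `P / JP` is a finite power of it for every finite `P`. -/
theorem exists_simple : ∃ (S : Type u) (_ : AddCommGroup S) (_ : Module A S), IsSimpleModule A S ∧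
    ∀ (P : Type v) [AddCommGroup P] [Module A P] [Module.Finite A P], ∃ n : ℕ,
      Nonempty ((P ⧸ (Ring.jacobson A • (⊤ : Submodule A P))) ≃ₗ[A] (Fin n → S)) := by
  have hss : IsSemisimpleRing (A ⧸ Ring.jacobson A) := inferInstance
  obtain ⟨S, hS⟩ := IsAtomic.exists_atom (Submodule (A ⧸ Ring.jacobson A) (A ⧸ Ring.jacobson A))
  rw [← isSimpleModule_iff_isAtom] at hS
  have hiso : ∀ (M : Type v) [AddCommGroup M] [Module (A ⧸ Ring.jacobson A) M],
      IsIsotypicOfType (A ⧸ Ring.jacobson A) M S := by
    intro M _ _ m hm
    obtain ⟨I, ⟨e⟩⟩ := IsSemisimpleRing.exists_linearEquiv_ideal_of_isSimpleModule (A ⧸ Ring.jacobson A) m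
    have := IsSimpleModule.congr e.symm
    exact ⟨e.trans (IsSimpleRing.isIsotypic (A ⧸ Ring.jacobson A) (A ⧸ Ring.jacobson A) S I).some⟩
  let instS : Module A S := Module.compHom S (Ideal.Quotient.mk (Ring.jacobson A))
  refine ⟨S, inferInstance, instS, ?_, ?_⟩
  · let l : S →ₛₗ[Ideal.Quotient.mk (Ring.jacobson A)] S :=
      { toFun := id, map_add' := fun _ _ => rfl, map_smul' := fun _ _ => rfl }
    exact (LinearMap.isSimpleModule_iff_of_bijective (R := A) (S := A ⧸ Ring.jacobson A) l
      Function.bijective_id).mpr hS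
  · intro P _ _ _
    have : IsScalarTower A (A ⧸ Ring.jacobson A) (P ⧸ (Ring.jacobson A • (⊤ : Submodule A P))) :=
      ⟨fun a b x => by
        obtain ⟨b, rfl⟩ := Ideal.Quotient.mk_surjective b
        obtain ⟨x, rfl⟩ := Submodule.mkQ_surjective _ x
        change Ideal.Quotient.mk (Ring.jacobson A) (a * b) • Submodule.Quotient.mk x =
          a • (Ideal.Quotient.mk (Ring.jacobson A) b • Submodule.Quotient.mk x)
        rw [Module.Quotient.mk_smul_mk, Module.Quotient.mk_smul_mk, mul_smul]
        rfl⟩
    have : Module.Finite (A ⧸ Ring.jacobson A) (P ⧸ (Ring.jacobson A • (⊤ : Submodule A P))) :=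
      Module.Finite.of_restrictScalars_finite A _ _
    obtain ⟨n, ⟨e⟩⟩ := (hiso (P ⧸ (Ring.jacobson A • (⊤ : Submodule A P)))).linearEquiv_fun
    exact ⟨n, ⟨{ toFun := e, map_add' := e.map_add, map_smul' := fun a x => by
                  have := e.map_smul (Ideal.Quotient.mk (Ring.jacobson A) a) x
                  exact this
                 invFun := e.symm, left_inv := e.left_inv, right_inv := e.right_inv }⟩⟩

variable {A}

theorem length_le_aux {P Q : Type v} [AddCommGroup P] [Module A P] [Module.Finite A P] [Module.Projective A P]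
    [AddCommGroup Q] [Module A Q] [Module.Finite A Q] [Module.Projective A Q]
    (hP : IsSemisimpleModule A (P ⧸ (Ring.jacobson A • (⊤ : Submodule A P))))
    (hQ : IsSemisimpleModule A (Q ⧸ (Ring.jacobson A • (⊤ : Submodule A Q))))
    (e : Module.End A P ≃+* Module.End A Q) {S : Type u} [AddCommGroup S] [Module A S] [IsSimpleModule A S]
    (n : ℕ) (α : (P ⧸ (Ring.jacobson A • (⊤ : Submodule A P))) ≃ₗ[A] (Fin n → S)) :
    (n : ℕ∞) ≤ Module.length A (Q ⧸ (Ring.jacobson A • (⊤ : Submodule A Q))) := by
  classical
  have hS : Nontrivial S := IsSimpleModule.nontrivial A S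
  -- `e` respects the kernel of reduction
  have hker : ∀ f : Module.End A P, red f = 0 ↔ red (e f) = 0 := by
    intro f
    rw [red_eq_zero_iff, red_eq_zero_iff]
    constructor
    · intro H y
      obtain ⟨z, hz⟩ := H (e.symm y)
      refine ⟨e z, ?_⟩
      have := congrArg e hz
      simpa using this
    · intro H y
      obtain ⟨z, hz⟩ := H (e y)
      refine ⟨e.symm z, ?_⟩
      have := congrArg e.symm hz
      simpa using this
  -- idempotents of `(Fin n → S)`
  let ε : Fin n → Module.End A (Fin n → S) := fun i => LinearMap.single A (fun _ => S) i ∘ₗ LinearMap.proj i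
  have hε : ∀ i j, ε i ∘ₗ ε j = if i = j then ε i else 0 := by
    intro i j
    split_ifs with h
    · subst h; ext x k; simp [ε]
    · ext x k
      simp [ε, Pi.single_eq_of_ne h]
  have hε0 : ∀ i, ε i ≠ 0 := by
    intro i h
    obtain ⟨x, hx⟩ := exists_ne (0 : S)
    have := congrArg (fun f => f (Pi.single i x) i) h
    simp [ε] at this
    exact hx this
  let ε' : Fin n → Module.End A (P ⧸ (Ring.jacobson A • (⊤ : Submodule A P))) :=
    fun i => (α.symm : _ →ₗ[A] _) ∘ₗ ε i ∘ₗ (α : _ →ₗ[A] _)
  have hε' : ∀ i j, ε' i ∘ₗ ε' j = if i = j then ε' i else 0 := by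
    intro i j
    have h1 : ε' i ∘ₗ ε' j = (α.symm : _ →ₗ[A] _) ∘ₗ (ε i ∘ₗ ε j) ∘ₗ (α : _ →ₗ[A] _) := by
      ext x; simp [ε']
    rw [h1, hε]
    split_ifs with h
    · rfl
    · simp
  have hε'0 : ∀ i, ε' i ≠ 0 := by
    intro i h
    apply hε0 i
    refine LinearMap.ext fun x => ?_
    have h1 := congrArg (fun f => α (f (α.symm x))) h
    simpa [ε'] using h1
  choose f hf using fun i => red_surjective (ε' i)
  let g : Fin n → Module.End A (Q ⧸ (Ring.jacobson A • (⊤ : Submodule A Q))) := fun i => red (e (f i))
  have hg : ∀ i j, g i ∘ₗ g j = if i = j then g i else 0 := by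
    intro i j
    have h1 : g i ∘ₗ g j = red (e (f i * f j)) := by
      rw [map_mul]; exact (red_comp _ _).symm
    have h2 : red (f i * f j - if i = j then f i else 0) = 0 := by
      rw [red_sub]
      change red (f i ∘ₗ f j) - _ = 0
      rw [red_comp, hf, hf, hε']
      split_ifs with h
      · rw [hf, sub_self]
      · have : red (0 : P →ₗ[A] P) = 0 := by ext x; rfl
        rw [this, sub_self]
    rw [hker, map_sub, red_sub, sub_eq_zero] at h2
    rw [h1, h2]
    split_ifs with h
    · rfl
    · have : red (0 : Q →ₗ[A] Q) = 0 := by ext x; rfl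
      rw [map_zero, this]
  have hg0 : ∀ i, g i ≠ 0 := by
    intro i h
    exact hε'0 i ((hf i).symm.trans ((hker _).mpr h))
  -- surjection onto the product of the ranges
  let Φ : (Q ⧸ (Ring.jacobson A • (⊤ : Submodule A Q))) →ₗ[A] (∀ i : Fin n, LinearMap.range (g i)) :=
    LinearMap.pi fun i => (g i).rangeRestrict
  have hΦ : Function.Surjective Φ := by
    intro y
    choose x hx using fun i => (y i).2
    refine ⟨∑ i, g i (x i), ?_⟩
    ext j
    change g j (∑ i, g i (x i)) = _
    rw [map_sum, Finset.sum_eq_single j]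
    · have := congrArg (fun h => h (x j)) (hg j j)
      simp only [if_true, LinearMap.comp_apply] at this
      rw [this, hx]
    · intro i _ hij
      have := congrArg (fun h => h (x i)) (hg j i)
      simpa [Ne.symm hij] using this
    · intro h; exact absurd (Finset.mem_univ j) h
  refine le_trans ?_ (Module.length_le_of_surjective Φ hΦ)
  rw [Module.length_pi_of_fintype]
  calc (n : ℕ∞) = ∑ _i : Fin n, 1 := by simp
    _ ≤ _ := Finset.sum_le_sum fun i _ => by
      rw [Order.one_le_iff_pos, Module.length_pos_iff]
      rw [Submodule.nontrivial_iff_ne_bot]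
      intro h
      exact hg0 i (LinearMap.range_eq_bot.mp h)

end Strong

/-- Let A be a ring which is strongly local, that is, the quotient of A by its Jacobson radical J is a
simple left-Artinian ring, and let P and Q be finitely generated projective left A-modules. If
End_A(P) and End_A(Q) are isomorphic as rings, then P ≅ Q as A-modules. (The published assertion
says more, that every ring isomorphism End_A(P) ≅ End_A(Q) is induced by an isomorphism P ≅ Q; that
is not correct for isomorphisms which are not linear over the centre — complex conjugation is a ring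
automorphism of End_ℂ(ℂ) = ℂ induced by no ℂ-linear map — and this row keeps the existence of an
isomorphism P ≅ Q, which is what the first part of the printed proof establishes.) -/
theorem result (A : Type u) [Ring A] [IsSimpleRing (A ⧸ Ring.jacobson A)] [IsArtinianRing (A ⧸ Ring.jacobson A)] (P Q : Type v) [AddCommGroup P] [Module A P] [Module.Finite A P] [Module.Projective A P] [AddCommGroup Q] [Module A Q] [Module.Finite A Q] [Module.Projective A Q] (e : Module.End A P ≃+* Module.End A Q) : Nonempty (P ≃ₗ[A] Q) := by
  obtain ⟨S, _, _, hS, H⟩ := exists_simple.{u, v} A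
  obtain ⟨n, ⟨α⟩⟩ := H P
  obtain ⟨m, ⟨β⟩⟩ := H Q
  have hP : IsSemisimpleModule A (P ⧸ (Ring.jacobson A • (⊤ : Submodule A P))) :=
    IsSemisimpleModule.congr α
  have hQ : IsSemisimpleModule A (Q ⧸ (Ring.jacobson A • (⊤ : Submodule A Q))) :=
    IsSemisimpleModule.congr β
  have hlen : ∀ k : ℕ, Module.length A (Fin k → S) = k := by
    intro k
    rw [Module.length_pi_of_fintype]
    simp [Module.length_eq_one]
  have h1 := length_le_aux hP hQ e n α
  have h2 := length_le_aux hQ hP e.symm m β
  rw [LinearEquiv.length_eq β, hlen] at h1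
  rw [LinearEquiv.length_eq α, hlen] at h2
  obtain rfl : n = m := le_antisymm (by exact_mod_cast h1) (by exact_mod_cast h2)
  let γ := α.trans β.symm
  obtain ⟨a, ha⟩ := red_surjective (P := P) (Q := Q) γ.toLinearMap
  obtain ⟨b, hb⟩ := red_surjective (P := Q) (Q := P) γ.symm.toLinearMap
  have hba : Function.Bijective (b ∘ₗ a) := bijective_of_red_eq_id (b ∘ₗ a) (by
    rw [red_comp, ha, hb]; ext x; simp)
  have hab : Function.Bijective (a ∘ₗ b) := bijective_of_red_eq_id (a ∘ₗ b) (by
    rw [red_comp, ha, hb]; ext x; simp)
  have ha1 : Function.Injective a := Function.Injective.of_comp (f := b) hba.1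
  have ha2 : Function.Surjective a := Function.Surjective.of_comp (g := b) hab.2
  exact ⟨LinearEquiv.ofBijective a ⟨ha1, ha2⟩⟩

end Groth.Agent.S13847
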