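import Groth.Statements.S13848
import Mathlib.Algebra.Module.Projective
import Mathlib.RingTheory.Jacobson.Radical

set_option autoImplicit false
universe u v
open TwSh

namespace Groth.Agent.S13848

/-- The trace ideal of a nonzero finitely generated projective module over a strongly local ring contains `1`:
there are finitely many functionals `φ i` and vectors `p i` with `∑ φ i (p i) = 1`. -/
theorem exists_trace_eq_one (A : Type u) [Ring A] [IsSimpleRing (A ⧸ Ring.jacobson A)]
    (P : Type v) [AddCommGroup P] [Module A P] [Module.Finite A P] [Module.Projective A P] [Nontrivial P] :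
    ∃ (n : ℕ) (φ : Fin n → (P →ₗ[A] A)) (p : Fin n → P), ∑ i, φ i (p i) = 1 := by
  classical
  -- the trace ideal as a two-sided ideal
  let T : Submodule A A := Submodule.span A {a | ∃ (φ : P →ₗ[A] A) (p : P), φ p = a}
  have hTr : ∀ (a b : A), a ∈ T → a * b ∈ T := by
    intro a b ha
    induction ha using Submodule.span_induction with
    | mem x hx =>
      obtain ⟨φ, p, rfl⟩ := hx
      exact Submodule.subset_span ⟨(LinearMap.toSpanSingleton A A b) ∘ₗ φ, p, by simp⟩
    | zero => simp
    | add x y _ _ hx hy => rw [add_mul]; exact T.add_mem hx hy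
    | smul c x _ hx => rw [smul_mul_assoc]; exact T.smul_mem c hx
  have hTtwo : Ideal.IsTwoSided T := ⟨fun b ha => hTr _ b ha⟩
  -- T is not contained in the Jacobson radical
  have hTJ : ¬ T ≤ Ring.jacobson A := by
    intro hle
    obtain ⟨g, hg⟩ := Module.projective_def'.mp (inferInstance : Module.Projective A P)
    have hP : (⊤ : Submodule A P) ≤ Ring.jacobson A • ⊤ := by
      intro x _
      have hx : Finsupp.linearCombination A (id : P → P) (g x) = x := congrArg (fun f => f x) hg
      rw [← hx, Finsupp.linearCombination_apply]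
      refine Submodule.sum_mem _ fun q _ => ?_
      refine Submodule.smul_mem_smul ?_ Submodule.mem_top
      exact hle (Submodule.subset_span ⟨(Finsupp.lapply q) ∘ₗ g, x, rfl⟩)
    have := Submodule.FG.eq_bot_of_le_jacobson_smul (N := (⊤ : Submodule A P)) Module.Finite.fg_top hP
    exact absurd this top_ne_bot
  -- T + J = A by simplicity
  have hsup : T ⊔ Ring.jacobson A = ⊤ := by
    let q := Ideal.Quotient.mk (Ring.jacobson A)
    let I : TwoSidedIdeal (A ⧸ Ring.jacobson A) := TwoSidedIdeal.mk'
      {a | ∃ t ∈ T, q t = a} ⟨0, T.zero_mem, map_zero q⟩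
      (by rintro _ _ ⟨s, hs, rfl⟩ ⟨t, ht, rfl⟩; exact ⟨s + t, T.add_mem hs ht, map_add q _ _⟩)
      (by rintro _ ⟨s, hs, rfl⟩; exact ⟨-s, T.neg_mem hs, map_neg q _⟩)
      (by
        rintro x _ ⟨s, hs, rfl⟩
        obtain ⟨x, rfl⟩ := Ideal.Quotient.mk_surjective x
        exact ⟨x * s, T.smul_mem x hs, map_mul q _ _⟩)
      (by
        rintro _ y ⟨s, hs, rfl⟩
        obtain ⟨y, rfl⟩ := Ideal.Quotient.mk_surjective y
        exact ⟨s * y, hTr _ _ hs, map_mul q _ _⟩)
    have hI : I = ⊤ := by
      refine (eq_bot_or_eq_top I).resolve_left fun hbot => hTJ ?_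
      intro t ht
      have h1 : q t ∈ I := by
        rw [TwoSidedIdeal.mem_mk']
        exact ⟨t, ht, rfl⟩
      rw [hbot] at h1
      have h2 : q t = 0 := by simpa using h1
      exact Ideal.Quotient.eq_zero_iff_mem.mp h2
    have h1 : (1 : A ⧸ Ring.jacobson A) ∈ I := by rw [hI]; trivial
    rw [TwoSidedIdeal.mem_mk'] at h1
    obtain ⟨t, ht, h1⟩ := h1
    rw [Ideal.eq_top_iff_one]
    have : t - 1 ∈ Ring.jacobson A := Ideal.Quotient.eq.mp (by simpa using h1)
    have e : (1 : A) = t + -(t - 1) := by abel
    rw [e]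
    exact Submodule.add_mem_sup ht (Submodule.neg_mem _ this)
  have hTtop : T = ⊤ := by
    by_contra hne
    obtain ⟨m, hm, hTm⟩ := Ideal.exists_le_maximal T hne
    have : Ring.jacobson A ≤ m := Ring.jacobson_le_of_isMaximal m
    have : T ⊔ Ring.jacobson A ≤ m := sup_le hTm this
    rw [hsup] at this
    exact hm.ne_top (top_le_iff.mp this)
  have h1 : (1 : A) ∈ T := by rw [hTtop]; trivial
  have key : ∀ a ∈ T, ∃ (n : ℕ) (φ : Fin n → (P →ₗ[A] A)) (p : Fin n → P), ∑ i, φ i (p i) = a := by
    intro a ha
    induction ha using Submodule.span_induction with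
    | mem x hx =>
      obtain ⟨φ, p, rfl⟩ := hx
      exact ⟨1, fun _ => φ, fun _ => p, by simp⟩
    | zero => exact ⟨0, Fin.elim0, Fin.elim0, by simp⟩
    | add x y _ _ hx hy =>
      obtain ⟨n, φ, p, rfl⟩ := hx
      obtain ⟨m, ψ, r, rfl⟩ := hy
      exact ⟨n + m, Fin.append φ ψ, Fin.append p r, by simp [Fin.sum_univ_add]⟩
    | smul c x _ hx =>
      obtain ⟨n, φ, p, rfl⟩ := hx
      exact ⟨n, φ, fun i => c • p i, by simp [Finset.mul_sum]⟩
  exact key 1 h1

/-- Let A be a ring with A/J a simple left-Artinian ring, J the Jacobson radical, and let P be a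
non-zero finitely generated projective left A-module. An A-linear automorphism u of P which commutes
with every A-linear endomorphism of P (equivalently, induces the identity on End_A(P) by
conjugation) is scalar multiplication by a unique central element a of A: u(x) = a·x for all x ∈ P,
and a is determined by u. (So the automorphisms of P acting trivially on End_A(P) are exactly the
central units of A acting by scalars; the published assertion does not exclude P = 0, where
uniqueness fails.) -/
theorem result (A : Type u) [Ring A] [IsSimpleRing (A ⧸ Ring.jacobson A)] [IsArtinianRing (A ⧸ Ring.jacobson A)] (P : Type v) [AddCommGroup P] [Module A P] [Module.Finite A P] [Module.Projective A P] [Nontrivial P] (u : P ≃ₗ[A] P) (hu : ∀ f : Module.End A P, (u : P →ₗ[A] P) ∘ₗ f = f ∘ₗ (u : P →ₗ[A] P)) : ∃! a : A, (∀ b : A, a * b = b * a) ∧ ∀ x : P, u x = a • x := by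
  obtain ⟨n, φ, p, hφ⟩ := exists_trace_eq_one A P
  have hfaith : ∀ c : A, (∀ x : P, c • x = 0) → c = 0 := by
    intro c hc
    have : c = ∑ i, φ i (c • p i) := by
      simp only [map_smul, smul_eq_mul, ← Finset.mul_sum, hφ, mul_one]
    rw [this]
    simp [hc]
  have hux : ∀ x : P, u x = (∑ i, φ i (u (p i))) • x := by
    intro x
    have h1 : ∀ i, u (φ i (p i) • x) = φ i (u (p i)) • x := by
      intro i
      have := congrArg (fun f => f (p i)) (hu ((LinearMap.toSpanSingleton A P x) ∘ₗ φ i))
      simpa using this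
    calc u x = u ((∑ i, φ i (p i)) • x) := by rw [hφ, one_smul]
      _ = ∑ i, u (φ i (p i) • x) := by rw [Finset.sum_smul, map_sum]
      _ = _ := by rw [Finset.sum_smul]; exact Finset.sum_congr rfl fun i _ => h1 i
  refine ⟨∑ i, φ i (u (p i)), ⟨?_, hux⟩, ?_⟩
  · intro b
    rw [← sub_eq_zero]
    apply hfaith
    intro x
    rw [sub_smul, mul_smul, mul_smul, ← hux, ← hux, map_smul, sub_self]
  · rintro a' ⟨-, ha'⟩
    rw [← sub_eq_zero]
    apply hfaith
    intro x
    rw [sub_smul, ← ha', ← hux, sub_self]

end Groth.Agent.S13848
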