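import Groth.Statements.S13849
import Groth.Agent.AdjLin.K800.Inputs

set_option autoImplicit false
open CategoryTheory CategoryTheory.Limits AlgebraicGeometry
open AdjLin

namespace Groth.Agent.S13849

/-- Let n ≥ 3 and let X be a smooth projective n-dimensional variety over the complex numbers (an
integral scheme, proper and smooth of relative dimension n over ℂ), K an n-th exterior power of the
sheaf of differentials of X over ℂ (a canonical module), and B an ample invertible module on X
generated by its global sections with h^0(B) ≥ n + 2. Then the multiplication map H^0(K ⊗ B^{⊗ n}) ⊗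
H^0(B) → H^0(K ⊗ B^{⊗ n} ⊗ B) is surjective (such a multiplication map is written as the map from
the global sections of the sectionwise tensor product presheaf to the global sections of its
sheafification). (The published statement also has a part (i), a vanishing along an auxiliary chain
of general hyperplane sections; this row states part (ii) only.) -/
theorem result (n : ℕ) (hn : 3 ≤ n)
    (X : Scheme.{0}) [X.Over (Spec (CommRingCat.of ℂ))] [IsIntegral X]
    [IsProper (X ↘ Spec (CommRingCat.of ℂ))] [SmoothOfRelativeDimension n (X ↘ Spec (CommRingCat.of ℂ))]
    (K : X.Modules) (hK : Canon.IsTopDiff (X ↘ Spec (CommRingCat.of ℂ)) n K)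
    (B : X.Modules) (hBa : CohB1.IsAmple B) (hBg : Curv2.IsGloballyGenerated B)
    (hb : n + 2 ≤ Module.finrank ℂ (Coh.HH X B 0)) :
    Function.Surjective
      ((toSheafify (Opens.grothendieckTopology X) (CohB1.tensorPre (CohB1.tensorMod K (CohB1.tensorPow B n)) B).presheaf).app (Opposite.op ⊤)) := by
  exact K800.MulMap.mulSurj_iff.1 (K800.Stat.s49 ℂ n (K800.Inputs.kod ℂ X n) (K800.Inputs.nefAmple ℂ X n) K hK (by omega) B hBa hBg hb)

end Groth.Agent.S13849
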