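import Groth.Statements.S13850
import Groth.Agent.AdjLin.K800.Inputs

set_option autoImplicit false
open CategoryTheory CategoryTheory.Limits AlgebraicGeometry
open AdjLin

namespace Groth.Agent.S13850

/-- Let n ≥ 3 and let X be a smooth projective n-dimensional variety over the complex numbers (an
integral scheme, proper and smooth of relative dimension n over ℂ), K an n-th exterior power of the
sheaf of differentials of X over ℂ, and B an ample invertible module generated by its global
sections. Assume (a) K is nef (non-negative degree on every integral closed curve in X) and K ⊗ B is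
generated by its global sections, (b) h^0(K ⊗ B) ≥ h^0(K) + n + 1, and (c) the module D with D ⊗ K ≅
B is nef and has a non-zero global section. Then the multiplication map H^0(K ⊗ B^{⊗ (2n-1)}) ⊗
H^0(K ⊗ B) → H^0(K ⊗ B^{⊗ (2n-1)} ⊗ K ⊗ B) is surjective (such a multiplication map is written as
the map from the global sections of the sectionwise tensor product presheaf to the global sections
of its sheafification). (The published statement also has a part (i), a vanishing along an auxiliary
chain of general members of the adjoint linear systems; this row states part (ii) only.) -/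
theorem result (n : ℕ) (hn : 3 ≤ n)
    (X : Scheme.{0}) [X.Over (Spec (CommRingCat.of ℂ))] [IsIntegral X]
    [IsProper (X ↘ Spec (CommRingCat.of ℂ))] [SmoothOfRelativeDimension n (X ↘ Spec (CommRingCat.of ℂ))]
    (K : X.Modules) (hK : Canon.IsTopDiff (X ↘ Spec (CommRingCat.of ℂ)) n K)
    (B : X.Modules) (hBa : CohB1.IsAmple B) (hBg : Curv2.IsGloballyGenerated B)
    (hKnef : ∀ (Y : Scheme.{0}) (i : Y ⟶ X) [IsClosedImmersion i], IsIntegral Y → topologicalKrullDim Y = 1 →
      0 ≤ Pic13.curveDeg ℂ (i ≫ (X ↘ Spec (CommRingCat.of ℂ))) ((Scheme.Modules.pullback i).obj K))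
    (hKBg : Curv2.IsGloballyGenerated (CohB1.tensorMod K B))
    (hc : Module.finrank ℂ (Coh.HH X K 0) + n + 1 ≤ Module.finrank ℂ (Coh.HH X (CohB1.tensorMod K B) 0))
    (D : X.Modules) (hD : Nonempty (CohB1.tensorMod D K ≅ B))
    (hDnef : ∀ (Y : Scheme.{0}) (i : Y ⟶ X) [IsClosedImmersion i], IsIntegral Y → topologicalKrullDim Y = 1 →
      0 ≤ Pic13.curveDeg ℂ (i ≫ (X ↘ Spec (CommRingCat.of ℂ))) ((Scheme.Modules.pullback i).obj D))
    (hDeff : ∃ s : Coh.structureModule X ⟶ D, s ≠ 0) :
    Function.Surjective
      ((toSheafify (Opens.grothendieckTopology X) (CohB1.tensorPre (CohB1.tensorMod K (CohB1.tensorPow B (2 * n - 1))) (CohB1.tensorMod K B)).presheaf).app (Opposite.op ⊤)) := by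
  exact K800.MulMap.mulSurj_iff.1 (K800.Stat.s50 ℂ n (K800.Inputs.kod ℂ X n) (K800.Inputs.nefAmple ℂ X n) K hK (by omega) B hBa hKBg hc D hD hDnef hDeff)

end Groth.Agent.S13850
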