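import Groth.Statements.S13851
import Groth.Agent.AdjLin.K800.Inputs

set_option autoImplicit false
open CategoryTheory CategoryTheory.Limits AlgebraicGeometry
open AdjLin

namespace Groth.Agent.S13851

/-- Let n ≥ 3 and let X be a smooth projective variety of dimension n over the complex numbers (an
integral scheme, proper and smooth of relative dimension n over ℂ), K an n-th exterior power of the
sheaf of differentials of X over ℂ, and B an ample invertible module generated by its global
sections. Assume (a) K is nef (non-negative degree on every integral closed curve in X) and K ⊗ B is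
generated by its global sections, (b) h^0(B) ≥ n + 2, (c) h^0(K ⊗ B) ≥ h^0(K) + n + 1, and (d) the
module D with D ⊗ K ≅ B is nef and has a non-zero global section. Then for every l ≥ n, every module
L isomorphic to K ⊗ B^{⊗ l} is very ample (isomorphic to the pullback of O(1) along a closed
immersion of X over ℂ into some projective space P^N over ℂ) and normally generated: for every k ≥ 1
the multiplication map H^0(L^{⊗ k}) ⊗ H^0(L) → H^0(L^{⊗ (k+1)}) is surjective (such a multiplication
map is written as the map from the global sections of the sectionwise tensor product presheaf to the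
global sections of its sheafification). -/
theorem result (n : ℕ) (hn : 3 ≤ n)
    (X : Scheme.{0}) [X.Over (Spec (CommRingCat.of ℂ))] [IsIntegral X]
    [IsProper (X ↘ Spec (CommRingCat.of ℂ))] [SmoothOfRelativeDimension n (X ↘ Spec (CommRingCat.of ℂ))]
    (K : X.Modules) (hK : Canon.IsTopDiff (X ↘ Spec (CommRingCat.of ℂ)) n K)
    (B : X.Modules) (hBa : CohB1.IsAmple B) (hBg : Curv2.IsGloballyGenerated B)
    (hKnef : ∀ (Y : Scheme.{0}) (i : Y ⟶ X) [IsClosedImmersion i], IsIntegral Y → topologicalKrullDim Y = 1 →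
      0 ≤ Pic13.curveDeg ℂ (i ≫ (X ↘ Spec (CommRingCat.of ℂ))) ((Scheme.Modules.pullback i).obj K))
    (hKBg : Curv2.IsGloballyGenerated (CohB1.tensorMod K B))
    (hb : n + 2 ≤ Module.finrank ℂ (Coh.HH X B 0))
    (hc : Module.finrank ℂ (Coh.HH X K 0) + n + 1 ≤ Module.finrank ℂ (Coh.HH X (CohB1.tensorMod K B) 0))
    (D : X.Modules) (hD : Nonempty (CohB1.tensorMod D K ≅ B))
    (hDnef : ∀ (Y : Scheme.{0}) (i : Y ⟶ X) [IsClosedImmersion i], IsIntegral Y → topologicalKrullDim Y = 1 →
      0 ≤ Pic13.curveDeg ℂ (i ≫ (X ↘ Spec (CommRingCat.of ℂ))) ((Scheme.Modules.pullback i).obj D))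
    (hDeff : ∃ s : Coh.structureModule X ⟶ D, s ≠ 0)
    (l : ℕ) (hl : n ≤ l) (L : X.Modules) (hL : Nonempty (L ≅ CohB1.tensorMod K (CohB1.tensorPow B l))) :
    (∃ (N : ℕ) (i : X ⟶ CohB1.ProjSpace N ℂ), IsClosedImmersion i ∧
        i ≫ CohB1.ProjSpace.toSpec N ℂ = (X ↘ Spec (CommRingCat.of ℂ)) ∧
        Nonempty ((Scheme.Modules.pullback i).obj (Twist.twistProjSpace N ℂ 1) ≅ L)) ∧
      (∀ k : ℕ, 1 ≤ k → Function.Surjective
      ((toSheafify (Opens.grothendieckTopology X) (CohB1.tensorPre (CohB1.tensorPow L k) L).presheaf).app (Opposite.op ⊤))) := by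
  exact K800.Stat.s51 ℂ n (K800.Inputs.kod ℂ X n) (K800.Inputs.nefAmple ℂ X n) K hK (by omega) B hBa hBg hKnef hKBg hb hc D hD hDnef hDeff l hl L hL

end Groth.Agent.S13851
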