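import Groth.Statements.S13852
import Groth.Agent.AdjLin.K800.Inputs

set_option autoImplicit false
open CategoryTheory CategoryTheory.Limits AlgebraicGeometry
open AdjLin

namespace Groth.Agent.S13852

/-- Let n ≥ 3 and let X be a regular smooth projective variety of dimension n over the complex numbers
(an integral scheme, proper and smooth of relative dimension n over ℂ, with H^1(X, O_X) = 0), K an
n-th exterior power of the sheaf of differentials of X over ℂ, and B an ample invertible module
generated by its global sections. Assume (a) K is nef (non-negative degree on every integral closed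
curve in X) and K ⊗ B is generated by its global sections, (b) h^0(K ⊗ B) ≥ h^0(K) + n + 1, and (c)
the module D with D ⊗ K^{⊗ (n-1)} ≅ B^{⊗ (n-2)} is nef and has a non-zero global section. Then the
multiplication map H^0(K ⊗ B^{⊗ (2n-2)}) ⊗ H^0(K ⊗ B) → H^0(K ⊗ B^{⊗ (2n-2)} ⊗ K ⊗ B) is surjective
(such a multiplication map is written as the map from the global sections of the sectionwise tensor
product presheaf to the global sections of its sheafification). (The published statement asserts
this surjectivity also after restriction to each member of an auxiliary chain of sufficiently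
general smooth members of the adjoint linear systems; this row states the case of X itself, and part
(i), a vanishing along that chain, is not stated.) -/
theorem result (n : ℕ) (hn : 3 ≤ n)
    (X : Scheme.{0}) [X.Over (Spec (CommRingCat.of ℂ))] [IsIntegral X]
    [IsProper (X ↘ Spec (CommRingCat.of ℂ))] [SmoothOfRelativeDimension n (X ↘ Spec (CommRingCat.of ℂ))]
    (hreg : Subsingleton (Coh.HH X (Coh.structureModule X) 1))
    (K : X.Modules) (hK : Canon.IsTopDiff (X ↘ Spec (CommRingCat.of ℂ)) n K)
    (B : X.Modules) (hBa : CohB1.IsAmple B) (hBg : Curv2.IsGloballyGenerated B)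
    (hKnef : ∀ (Y : Scheme.{0}) (i : Y ⟶ X) [IsClosedImmersion i], IsIntegral Y → topologicalKrullDim Y = 1 →
      0 ≤ Pic13.curveDeg ℂ (i ≫ (X ↘ Spec (CommRingCat.of ℂ))) ((Scheme.Modules.pullback i).obj K))
    (hKBg : Curv2.IsGloballyGenerated (CohB1.tensorMod K B))
    (hc : Module.finrank ℂ (Coh.HH X K 0) + n + 1 ≤ Module.finrank ℂ (Coh.HH X (CohB1.tensorMod K B) 0))
    (D : X.Modules) (hD : Nonempty (CohB1.tensorMod D (CohB1.tensorPow K (n - 1)) ≅ CohB1.tensorPow B (n - 2)))
    (hDnef : ∀ (Y : Scheme.{0}) (i : Y ⟶ X) [IsClosedImmersion i], IsIntegral Y → topologicalKrullDim Y = 1 →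
      0 ≤ Pic13.curveDeg ℂ (i ≫ (X ↘ Spec (CommRingCat.of ℂ))) ((Scheme.Modules.pullback i).obj D))
    (hDeff : ∃ s : Coh.structureModule X ⟶ D, s ≠ 0) :
    Function.Surjective
      ((toSheafify (Opens.grothendieckTopology X) (CohB1.tensorPre (CohB1.tensorMod K (CohB1.tensorPow B (2 * n - 2))) (CohB1.tensorMod K B)).presheaf).app (Opposite.op ⊤)) := by
  exact K800.MulMap.mulSurj_iff.1 (K800.Stat.s52 ℂ n (K800.Inputs.kod ℂ X n) (K800.Inputs.nefAmple ℂ X n) K hK (by omega) B hBa hKBg hc D hD hDnef hDeff)

end Groth.Agent.S13852
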