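import Groth.Statements.S13853
import Groth.Agent.AdjLin.K800.Free4
import Groth.Agent.AdjLin.K800.Inputs
import Groth.Agent.AdjLin.K633.Free

set_option autoImplicit false
open CategoryTheory CategoryTheory.Limits AlgebraicGeometry
open AdjLin

namespace Groth.Agent.S13853

/-- Let X be a smooth projective four-fold over the complex numbers (an integral scheme, proper and
smooth of relative dimension 4 over ℂ) with trivial canonical bundle (O_X is a 4-th exterior power
of the sheaf of differentials of X over ℂ), let A be an ample invertible module on X, n ≥ 5 and k ≥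
1. Then the multiplication map H^0(A^{⊗ (3n+k)}) ⊗ H^0(A^{⊗ n}) → H^0(A^{⊗ (3n+k)} ⊗ A^{⊗ n}) is
surjective (such a multiplication map is written as the map from the global sections of the
sectionwise tensor product presheaf to the global sections of its sheafification). -/
theorem result
    (X : Scheme.{0}) [X.Over (Spec (CommRingCat.of ℂ))] [IsIntegral X]
    [IsProper (X ↘ Spec (CommRingCat.of ℂ))] [SmoothOfRelativeDimension 4 (X ↘ Spec (CommRingCat.of ℂ))]
    (hK : Canon.IsTopDiff (X ↘ Spec (CommRingCat.of ℂ)) 4 (Coh.structureModule X))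
    (A : X.Modules) (hA : CohB1.IsAmple A) (n : ℕ) (hn : 5 ≤ n) (k : ℕ) (hk : 1 ≤ k) :
    Function.Surjective
      ((toSheafify (Opens.grothendieckTopology X) (CohB1.tensorPre (CohB1.tensorPow A (3 * n + k)) (CohB1.tensorPow A n)).presheaf).app (Opposite.op ⊤)) := by
  exact K800.Free4.s53 ℂ (K800.Inputs.kod ℂ X 4) (K800.Inputs.nefAmple ℂ X 4) hK
    (K633.Fuj.free 4 (by norm_num) (by norm_num) _ hK) A hA n hn k hk

end Groth.Agent.S13853
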