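import Groth.Statements.S13855
import Groth.Agent.AdjLin.K800.Inputs

set_option autoImplicit false
open CategoryTheory CategoryTheory.Limits AlgebraicGeometry
open AdjLin

namespace Groth.Agent.S13855

/-- Let n ≥ 2 and let X be a smooth projective n-dimensional variety over the complex numbers (an
integral scheme, proper and smooth of relative dimension n over ℂ), K an n-th exterior power of the
sheaf of differentials of X over ℂ, B an ample invertible module generated by its global sections
and L a nef invertible module (non-negative degree on every integral closed curve in X). Assume (a)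
the module E with E ⊗ K ⊗ L^{⊗ (n-1)} ≅ B^{⊗ (n-1)} is ample, (b) the module F with F ⊗ K ≅ B is
ample, (c) B ⊗ L is generated by its global sections, and (d) h^0(G) + n + 1 ≤ h^0(B) for the module
G with G ⊗ L ≅ K. Then every module M isomorphic to B^{⊗ n} ⊗ L is very ample (isomorphic to the
pullback of O(1) along a closed immersion of X over ℂ into some projective space P^N over ℂ) and
normally generated: for every k ≥ 1 the multiplication map H^0(M^{⊗ k}) ⊗ H^0(M) → H^0(M^{⊗ (k+1)})
is surjective (such a multiplication map is written as the map from the global sections of the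
sectionwise tensor product presheaf to the global sections of its sheafification). (The published
statement puts no lower bound on n; this row assumes n ≥ 2, the range covered by its argument
through a general curve section.) -/
theorem result (n : ℕ) (hn : 2 ≤ n)
    (X : Scheme.{0}) [X.Over (Spec (CommRingCat.of ℂ))] [IsIntegral X]
    [IsProper (X ↘ Spec (CommRingCat.of ℂ))] [SmoothOfRelativeDimension n (X ↘ Spec (CommRingCat.of ℂ))]
    (K : X.Modules) (hK : Canon.IsTopDiff (X ↘ Spec (CommRingCat.of ℂ)) n K)
    (B : X.Modules) (hBa : CohB1.IsAmple B) (hBg : Curv2.IsGloballyGenerated B)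
    (L : X.Modules) (hLi : PicF.IsInvertible L) (hLnef : ∀ (Y : Scheme.{0}) (i : Y ⟶ X) [IsClosedImmersion i], IsIntegral Y → topologicalKrullDim Y = 1 →
      0 ≤ Pic13.curveDeg ℂ (i ≫ (X ↘ Spec (CommRingCat.of ℂ))) ((Scheme.Modules.pullback i).obj L))
    (E : X.Modules) (hE : Nonempty (CohB1.tensorMod (CohB1.tensorMod E K) (CohB1.tensorPow L (n - 1)) ≅ CohB1.tensorPow B (n - 1)))
    (hEa : CohB1.IsAmple E)
    (F : X.Modules) (hF : Nonempty (CohB1.tensorMod F K ≅ B)) (hFa : CohB1.IsAmple F)
    (hBLg : Curv2.IsGloballyGenerated (CohB1.tensorMod B L))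
    (G : X.Modules) (hG : Nonempty (CohB1.tensorMod G L ≅ K))
    (hd : Module.finrank ℂ (Coh.HH X G 0) + n + 1 ≤ Module.finrank ℂ (Coh.HH X B 0))
    (M : X.Modules) (hM : Nonempty (M ≅ CohB1.tensorMod (CohB1.tensorPow B n) L)) :
    (∃ (N : ℕ) (i : X ⟶ CohB1.ProjSpace N ℂ), IsClosedImmersion i ∧
        i ≫ CohB1.ProjSpace.toSpec N ℂ = (X ↘ Spec (CommRingCat.of ℂ)) ∧
        Nonempty ((Scheme.Modules.pullback i).obj (Twist.twistProjSpace N ℂ 1) ≅ M)) ∧
      (∀ k : ℕ, 1 ≤ k → Function.Surjective
      ((toSheafify (Opens.grothendieckTopology X) (CohB1.tensorPre (CohB1.tensorPow M k) M).presheaf).app (Opposite.op ⊤))) := by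
  exact K800.Stat.s55 ℂ n (K800.Inputs.kod ℂ X n) (K800.Inputs.nefAmple ℂ X n) K hK hn B hBa hBg L hLi hLnef E hE hEa F hF hFa hBLg G hG hd M hM

end Groth.Agent.S13855
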