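import Groth.Statements.S13857
import Groth.Agent.AdjLin.K800.Free4
import Groth.Agent.AdjLin.K800.Inputs
import Groth.Agent.AdjLin.K633.Free

set_option autoImplicit false
open CategoryTheory CategoryTheory.Limits AlgebraicGeometry
open AdjLin

namespace Groth.Agent.S13857

/-- Let X be a smooth projective four-fold over the complex numbers (an integral scheme, proper and
smooth of relative dimension 4 over ℂ) whose canonical module K (a 4th exterior power of the sheaf
of differentials of X over ℂ) is ample. Then for every m ≥ 24, every module L isomorphic to K^{⊗ m}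
is very ample (isomorphic to the pullback of O(1) along a closed immersion of X over ℂ into some
projective space P^N over ℂ) and normally generated: for every k ≥ 1 the multiplication map H^0(L^{⊗
k}) ⊗ H^0(L) → H^0(L^{⊗ (k+1)}) is surjective (such a multiplication map is written as the map from
the global sections of the sectionwise tensor product presheaf to the global sections of its
sheafification). -/
theorem result
    (X : Scheme.{0}) [X.Over (Spec (CommRingCat.of ℂ))] [IsIntegral X]
    [IsProper (X ↘ Spec (CommRingCat.of ℂ))] [SmoothOfRelativeDimension 4 (X ↘ Spec (CommRingCat.of ℂ))]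
    (K : X.Modules) (hK : Canon.IsTopDiff (X ↘ Spec (CommRingCat.of ℂ)) 4 K) (hKa : CohB1.IsAmple K)
    (m : ℕ) (hm : 24 ≤ m) (L : X.Modules) (hL : Nonempty (L ≅ CohB1.tensorPow K m)) :
    (∃ (N : ℕ) (i : X ⟶ CohB1.ProjSpace N ℂ), IsClosedImmersion i ∧
        i ≫ CohB1.ProjSpace.toSpec N ℂ = (X ↘ Spec (CommRingCat.of ℂ)) ∧
        Nonempty ((Scheme.Modules.pullback i).obj (Twist.twistProjSpace N ℂ 1) ≅ L)) ∧
      (∀ k : ℕ, 1 ≤ k → Function.Surjective
      ((toSheafify (Opens.grothendieckTopology X) (CohB1.tensorPre (CohB1.tensorPow L k) L).presheaf).app (Opposite.op ⊤))) := by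
  exact K800.Free4.s57 ℂ (K800.Inputs.kod ℂ X 4) (K800.Inputs.nefAmple ℂ X 4) K hK
    (K633.Fuj.free 4 (by norm_num) (by norm_num) K hK) hKa m hm L hL

end Groth.Agent.S13857
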