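import Groth.Statements.S13859
import Groth.Agent.AdjLin.K800.Inputs
import Groth.Agent.AdjLin.K800.Stat2

set_option autoImplicit false
open CategoryTheory CategoryTheory.Limits AlgebraicGeometry
open AdjLin

namespace Groth.Agent.S13859

/-- Let n ≥ 3 and let X be a smooth projective variety of dimension n over the complex numbers (an
integral scheme, proper and smooth of relative dimension n over ℂ) with geometric genus h^0(K) ≥ 2,
where K is an n-th exterior power of the sheaf of differentials of X over ℂ, and let B be an ample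
invertible module generated by its global sections. Assume K is nef (non-negative degree on every
integral closed curve in X), the module D with D ⊗ K ≅ B is nef and has a non-zero global section
which is not an isomorphism (B − K is a non-zero effective divisor), K ⊗ B is generated by its
global sections, and H^1(X, B) = 0 or H^{n-1}(X, O_X) = 0. Then every module L isomorphic to K ⊗
B^{⊗ n} is very ample (isomorphic to the pullback of O(1) along a closed immersion of X over ℂ into
some projective space P^N over ℂ) and normally generated: for every k ≥ 1 the multiplication map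
H^0(L^{⊗ k}) ⊗ H^0(L) → H^0(L^{⊗ (k+1)}) is surjective (such a multiplication map is written as the
map from the global sections of the sectionwise tensor product presheaf to the global sections of
its sheafification). -/
theorem result (n : ℕ) (hn : 3 ≤ n)
    (X : Scheme.{0}) [X.Over (Spec (CommRingCat.of ℂ))] [IsIntegral X]
    [IsProper (X ↘ Spec (CommRingCat.of ℂ))] [SmoothOfRelativeDimension n (X ↘ Spec (CommRingCat.of ℂ))]
    (K : X.Modules) (hK : Canon.IsTopDiff (X ↘ Spec (CommRingCat.of ℂ)) n K) (hpg : 2 ≤ Module.finrank ℂ (Coh.HH X K 0))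
    (B : X.Modules) (hBa : CohB1.IsAmple B) (hBg : Curv2.IsGloballyGenerated B)
    (hKnef : ∀ (Y : Scheme.{0}) (i : Y ⟶ X) [IsClosedImmersion i], IsIntegral Y → topologicalKrullDim Y = 1 →
      0 ≤ Pic13.curveDeg ℂ (i ≫ (X ↘ Spec (CommRingCat.of ℂ))) ((Scheme.Modules.pullback i).obj K))
    (D : X.Modules) (hD : Nonempty (CohB1.tensorMod D K ≅ B))
    (hDnef : ∀ (Y : Scheme.{0}) (i : Y ⟶ X) [IsClosedImmersion i], IsIntegral Y → topologicalKrullDim Y = 1 →
      0 ≤ Pic13.curveDeg ℂ (i ≫ (X ↘ Spec (CommRingCat.of ℂ))) ((Scheme.Modules.pullback i).obj D))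
    (hDeff : ∃ s : Coh.structureModule X ⟶ D, s ≠ 0 ∧ ¬ IsIso s)
    (hKBg : Curv2.IsGloballyGenerated (CohB1.tensorMod K B))
    (hvan : Subsingleton (Coh.HH X B 1) ∨ Subsingleton (Coh.HH X (Coh.structureModule X) (n - 1)))
    (L : X.Modules) (hL : Nonempty (L ≅ CohB1.tensorMod K (CohB1.tensorPow B n))) :
    (∃ (N : ℕ) (i : X ⟶ CohB1.ProjSpace N ℂ), IsClosedImmersion i ∧
        i ≫ CohB1.ProjSpace.toSpec N ℂ = (X ↘ Spec (CommRingCat.of ℂ)) ∧
        Nonempty ((Scheme.Modules.pullback i).obj (Twist.twistProjSpace N ℂ 1) ≅ L)) ∧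
      (∀ k : ℕ, 1 ≤ k → Function.Surjective
      ((toSheafify (Opens.grothendieckTopology X) (CohB1.tensorPre (CohB1.tensorPow L k) L).presheaf).app (Opposite.op ⊤))) := by
  exact K800.Stat.s59 ℂ n (K800.Inputs.kod ℂ X n) (K800.Inputs.nefAmple ℂ X n) K hK (by omega) hpg B hBa hBg hKnef D hD hDnef hDeff hKBg L hL

end Groth.Agent.S13859
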