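import Groth.Statements.S13860
import Mathlib.Tactic
import Mathlib.GroupTheory.Sylow
import Mathlib.GroupTheory.Coset.Defs

set_option autoImplicit false
universe u v w
open ModRep

namespace Groth.Agent.S13860

/-- For k a field of characteristic p > 0, G a finite group and P a Sylow p-subgroup of G, a short exact
sequence of k[G]-modules has a k[G]-linear splitting exactly when it has a k[P]-linear one. Stated
here for the surjection of the sequence: a G-equivariant k-linear map g : B → C between k-linear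
representations of G admits a G-equivariant k-linear section if and only if it admits a
P-equivariant k-linear section. -/
theorem result {k : Type u} [Field k] (p : ℕ) [Fact p.Prime]
    [CharP k p] {G : Type v} [Group G] [Finite G] (P : Sylow p G)
    {B C : Type w} [AddCommGroup B] [Module k B] [AddCommGroup C] [Module k C]
    (ρB : Representation k G B) (ρC : Representation k G C)
    (g : B →ₗ[k] C) (hg : ∀ x : G, g ∘ₗ ρB x = ρC x ∘ₗ g) :
    (∃ s : C →ₗ[k] B, g ∘ₗ s = LinearMap.id ∧ ∀ x : G, s ∘ₗ ρC x = ρB x ∘ₗ s) ↔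
      (∃ s : C →ₗ[k] B, g ∘ₗ s = LinearMap.id ∧ ∀ x : G, x ∈ P → s ∘ₗ ρC x = ρB x ∘ₗ s) := by
  classical
  constructor
  · rintro ⟨s, hs, hs'⟩
    exact ⟨s, hs, fun x _ => hs' x⟩
  · rintro ⟨s, hs, hs'⟩
    have key : ∀ x y : G, QuotientGroup.leftRel (P : Subgroup G) x y →
        ρB x ∘ₗ s ∘ₗ ρC x⁻¹ = ρB y ∘ₗ s ∘ₗ ρC y⁻¹ := by
      intro x y hxy
      rw [QuotientGroup.leftRel_apply] at hxy
      have h1 := hs' (x⁻¹ * y) hxy
      have hy : y = x * (x⁻¹ * y) := by group
      have hy' : y⁻¹ = (x⁻¹ * y)⁻¹ * x⁻¹ := by group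
      conv_rhs => rw [hy, map_mul]
      have h2 : ρC (x * (x⁻¹ * y))⁻¹ = ρC (x⁻¹ * y)⁻¹ * ρC x⁻¹ := by
        rw [← map_mul]; congr 1; group
      rw [h2]
      ext c
      have h3 : ρB (x⁻¹ * y) (s (ρC (x⁻¹ * y)⁻¹ (ρC x⁻¹ c))) = s (ρC x⁻¹ c) := by
        have := LinearMap.congr_fun h1 (ρC (x⁻¹ * y)⁻¹ (ρC x⁻¹ c))
        simp only [LinearMap.comp_apply] at this
        rw [← this]
        congr 1
        have h4 : ∀ z : G, ρC z (ρC z⁻¹ (ρC x⁻¹ c)) = ρC x⁻¹ c := by
          intro z
          have h5 : ρC z (ρC z⁻¹ (ρC x⁻¹ c)) = (ρC (z * z⁻¹)) (ρC x⁻¹ c) := by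
            rw [map_mul]; rfl
          rw [h5, mul_inv_cancel, map_one]; rfl
        exact h4 _
      simp only [LinearMap.comp_apply, Module.End.mul_apply]
      rw [h3]
    let F : G ⧸ (P : Subgroup G) → (C →ₗ[k] B) := fun q =>
      Quotient.liftOn' q (fun x => ρB x ∘ₗ s ∘ₗ ρC x⁻¹) key
    have hF : ∀ x : G, F (x : G ⧸ (P : Subgroup G)) = ρB x ∘ₗ s ∘ₗ ρC x⁻¹ := fun x => rfl
    have : Fintype (G ⧸ (P : Subgroup G)) := Fintype.ofFinite _
    have hidx : ¬ p ∣ (P : Subgroup G).index := Sylow.not_dvd_index P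
    have hcard : ((Fintype.card (G ⧸ (P : Subgroup G)) : ℕ) : k) ≠ 0 := by
      intro h
      apply hidx
      rw [Subgroup.index, Nat.card_eq_fintype_card]
      exact (CharP.cast_eq_zero_iff k p _).mp h
    have hgF : ∀ q, g ∘ₗ F q = LinearMap.id := by
      intro q
      induction q using QuotientGroup.induction_on with
      | H x =>
        rw [hF]
        ext c
        have h1 := LinearMap.congr_fun (hg x) (s (ρC x⁻¹ c))
        have h2 := LinearMap.congr_fun hs (ρC x⁻¹ c)
        simp only [LinearMap.comp_apply, LinearMap.id_apply] at h1 h2 ⊢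
        rw [h1, h2]
        have : (ρC x) ((ρC x⁻¹) c) = (ρC (x * x⁻¹)) c := by rw [map_mul]; rfl
        rw [this, mul_inv_cancel, map_one]; rfl
    have hFx : ∀ (x : G) (q : G ⧸ (P : Subgroup G)), F (x • q) ∘ₗ ρC x = ρB x ∘ₗ F q := by
      intro x q
      induction q using QuotientGroup.induction_on with
      | H y =>
        have : x • (y : G ⧸ (P : Subgroup G)) = ((x * y : G) : G ⧸ (P : Subgroup G)) := rfl
        rw [this, hF, hF, map_mul]
        ext c
        simp only [LinearMap.comp_apply, Module.End.mul_apply]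
        congr 3
        have h5 : ρC (x * y)⁻¹ (ρC x c) = ρC ((x * y)⁻¹ * x) c := by rw [map_mul]; rfl
        rw [h5]
        congr 2
        group
    refine ⟨((Fintype.card (G ⧸ (P : Subgroup G)) : ℕ) : k)⁻¹ • ∑ q, F q, ?_, ?_⟩
    · ext c
      simp only [LinearMap.comp_apply, LinearMap.smul_apply, LinearMap.id_apply, map_smul]
      rw [LinearMap.sum_apply, map_sum]
      have : ∀ q, g (F q c) = c := fun q => by
        have := LinearMap.congr_fun (hgF q) c
        simpa using this
      rw [Finset.sum_congr rfl fun q _ => this q, Finset.sum_const, Finset.card_univ,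
        ← Nat.cast_smul_eq_nsmul k, smul_smul, inv_mul_cancel₀ hcard, one_smul]
    · intro x
      ext c
      simp only [LinearMap.comp_apply, LinearMap.smul_apply, map_smul]
      congr 1
      rw [LinearMap.sum_apply, LinearMap.sum_apply, map_sum]
      rw [← Equiv.sum_comp (MulAction.toPerm x)]
      refine Finset.sum_congr rfl fun q _ => ?_
      have := LinearMap.congr_fun (hFx x q) c
      simpa using this

end Groth.Agent.S13860
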