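import Groth.Statements.S13861
import Groth.Agent.ASCover.K804.Fin

set_option autoImplicit false
universe u
open ASCover

namespace Groth.Agent.S13861

/-- Let k be an algebraically closed field of characteristic p > 0 and n ≥ 1 an integer prime to p; let
u ∈ k[[t]] be the power series with constant term 1 and u^n · (1 + t^n) = 1, so that t ↦ t·u = t(1 +
t^n)^(-1/n) defines a k-automorphism σ of k((t)) of order p (the action at a totally ramified point
of a ℤ/p-cover of curves with break n). For an integer a, the fractional ideal t^a·k[[t]] is stable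
under σ; transported to B = k[[t]] along h ↦ t^a·h the action of σ reads h ↦ u^a · h(t·u). For a
group G of order p generated by g acting on B through this map, the first group cohomology H^1(G, B)
is finite-dimensional over k, of dimension n − ⌊(a−1)/p⌋ + ⌊(a−1−n)/p⌋. (The published lemma also
identifies this H^1 with the cokernel of k((t))^G → (k((t))/t^a k[[t]])^G and names explicit
representatives t^i, a − n ≤ i ≤ a − 1 with p ∤ i, of a basis; those parts are not restated here.) -/
theorem result {k : Type u} [Field k] [IsAlgClosed k] (p : ℕ)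
    [Fact p.Prime] [CharP k p] (n : ℕ) (hn : 0 < n) (hpn : ¬ p ∣ n)
    (u : PowerSeries k) (hu1 : PowerSeries.constantCoeff u = 1)
    (hun : u ^ n * (1 + PowerSeries.X ^ n) = 1) (hu : IsUnit u) (a : ℤ)
    {G : Type u} [Group G] [Finite G] (g : G) (hG : Nat.card G = p)
    (hg : ∀ x : G, x ∈ Subgroup.zpowers g)
    (ρ : Representation k G (PowerSeries k))
    (hρ : ∀ h : PowerSeries k, ρ g h =
      ((hu.unit ^ a : (PowerSeries k)ˣ) : PowerSeries k) * PowerSeries.subst (PowerSeries.X * u) h) :
    Module.Finite k (groupCohomology.H1 (Rep.of ρ)) ∧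
      (Module.finrank k (groupCohomology.H1 (Rep.of ρ)) : ℤ) =
        n - (a - 1) / (p : ℤ) + (a - 1 - n) / (p : ℤ) := by
  classical
  have hp : p.Prime := Fact.out
  set U : (PowerSeries k)ˣ := hu.unit with hU
  have hun' : (U : PowerSeries k) ^ n * (1 + PowerSeries.X ^ n) = 1 := hun
  have hu1' : PowerSeries.constantCoeff (U : PowerSeries k) = 1 := hu1
  have hnk := K804.AS.natCast_ne_zero (k := k) (p := p) hpn
  have hρS : ρ g = K804.AS.S U a := by
    apply LinearMap.ext
    intro h
    rw [hρ h, K804.AS.S_apply, K804.AS.sub_apply]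
    rfl
  have hρT : ρ g - LinearMap.id = K804.AS.T U a := by rw [hρS]; rfl
  have hpart : ∀ z : PowerSeries k, K804.Cyc.partialSum g ρ z (Nat.card G) =
      ((K804.AS.T U a) ^ (p - 1)) z := by
    intro z
    rw [hG, K804.Cyc.partialSum, hρS]
    have h1 := K804.AS.sum_pow_eq p (K804.AS.S U a)
    have h2 := LinearMap.congr_fun h1 z
    rw [LinearMap.sum_apply] at h2
    exact h2
  set J := (Finset.Icc 1 n).filter (fun m : ℕ => ¬ (p : ℤ) ∣ a - (m : ℤ)) with hJ
  have hmain := K804.Cyc.finrank_submodule g hg ρ J (K804.AS.cc U n a) (by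
      intro j _
      rw [hpart, K804.AS.T_pow_cc U hn hpn hu1' hun'])
    (by
      intro coef hcoef
      rw [hρT] at hcoef
      obtain ⟨h, hh⟩ := hcoef
      refine K804.AS.coef_eq_zero U (p := p) hn hpn hu1' hun' a (K804.AS.cc U n a) ?_ J ?_ coef h hh
      · intro m _ hmn
        exact K804.AS.X_pow_mul_cc U hn hnk hu1' hun' a m hmn
      · intro m hm
        rw [hJ, Finset.mem_filter, Finset.mem_Icc] at hm
        exact ⟨hm.1.1, hm.1.2, hm.2⟩)
    ⊤ (fun _ _ _ _ => Submodule.mem_top) (by
      intro f _
      rw [hρT]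
      apply K804.AS.exists_coef U hn hpn hu1' hun' a
      rw [← hpart]
      exact K804.Cyc.partialSum_card g hg ρ f)
  obtain ⟨hfin, hrank⟩ := hmain
  have e : (⊤ : Submodule k (groupCohomology.H1 (Rep.of ρ))) ≃ₗ[k] groupCohomology.H1 (Rep.of ρ) :=
    Submodule.topEquiv
  refine ⟨Module.Finite.equiv e, ?_⟩
  rw [← e.finrank_eq, hrank]
  have hc1 := K804.AS.card_dvd p hp.pos a n
  have hc2 := Finset.card_filter_add_card_filter_not (s := Finset.Icc 1 n)
    (fun m : ℕ => (p : ℤ) ∣ a - (m : ℤ))
  rw [Nat.card_Icc] at hc2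
  have hc3 : (((Finset.Icc 1 n).filter (fun m : ℕ => (p : ℤ) ∣ a - (m : ℤ))).card : ℤ) + J.card = n := by
    rw [← Nat.cast_add, hJ, hc2]
    simp
  linarith

end Groth.Agent.S13861
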