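import Groth.Statements.S13862
import Groth.Agent.ASCover.K804.Deriv
import Groth.Agent.ASCover.K804.Count

set_option autoImplicit false
universe u
open ASCover

namespace Groth.Agent.S13862

open groupCohomology in
/-- the computation for an abstract map on `H^1` induced by the derivative. -/
theorem helper {k : Type u} [Field k] (p : ℕ)
    [Fact p.Prime] [CharP k p] (n : ℕ) (hn : 0 < n) (hpn : ¬ p ∣ n)
    (U : (PowerSeries k)ˣ) (hu1' : PowerSeries.constantCoeff (U : PowerSeries k) = 1)
    (hun' : (U : PowerSeries k) ^ n * (1 + PowerSeries.X ^ n) = 1)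
    {G : Type u} [Group G] [Finite G] (g : G) (hG : Nat.card G = p)
    (hg : ∀ x : G, x ∈ Subgroup.zpowers g)
    (ρ₀ ρ₁ : Representation k G (PowerSeries k))
    (hρS₀ : ρ₀ g = K804.AS.S U 0) (hρS₁ : ρ₁ g = K804.AS.S U ((n : ℤ) + 1))
    (hφT : ∀ h : PowerSeries k, PowerSeries.derivative k (K804.AS.T U 0 h) =
      K804.AS.T U ((n : ℤ) + 1) (PowerSeries.derivative k h))
    (Φ : H1 (Rep.of ρ₀) →ₗ[k] H1 (Rep.of ρ₁))
    (hmap : ∀ z : cocycles₁ (Rep.of ρ₀), ∃ z' : cocycles₁ (Rep.of ρ₁),
      Φ (H1π (Rep.of ρ₀) z) = H1π (Rep.of ρ₁) z' ∧ z' g = PowerSeries.derivative k (z g)) :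
    Module.Finite k (LinearMap.range Φ) ∧
      (Module.finrank k (LinearMap.range Φ) : ℤ) =
        ((n + 1) * (p - 1) : ℤ) / p - 1 - (n - 1 : ℤ) / p := by
  classical
  have hp : p.Prime := Fact.out
  have hnk := K804.AS.natCast_ne_zero (k := k) (p := p) hpn
  have hρT₁ : ρ₁ g - LinearMap.id = K804.AS.T U ((n : ℤ) + 1) := by rw [hρS₁]; rfl
  have hpart₀ : ∀ z : PowerSeries k, K804.Cyc.partialSum g ρ₀ z (Nat.card G) =
      ((K804.AS.T U 0) ^ (p - 1)) z := by
    intro z
    rw [hG, K804.Cyc.partialSum, hρS₀]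
    have h2 := LinearMap.congr_fun (K804.AS.sum_pow_eq p (K804.AS.S U 0)) z
    rw [LinearMap.sum_apply] at h2
    exact h2
  have hpart₁ : ∀ z : PowerSeries k, K804.Cyc.partialSum g ρ₁ z (Nat.card G) =
      ((K804.AS.T U ((n : ℤ) + 1)) ^ (p - 1)) z := by
    intro z
    rw [hG, K804.Cyc.partialSum, hρS₁]
    have h2 := LinearMap.congr_fun (K804.AS.sum_pow_eq p (K804.AS.S U ((n : ℤ) + 1))) z
    rw [LinearMap.sum_apply] at h2
    exact h2
  have hext : ∀ f f' : cocycles₁ (Rep.of ρ₁), f g = f' g → f = f' := by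
    intro f f' hff
    apply cocycles₁_ext
    intro x
    obtain ⟨m, rfl⟩ := K804.Cyc.exists_nat_pow g hg x
    rw [K804.Cyc.cocycle_pow g hg ρ₁ f, K804.Cyc.cocycle_pow g hg ρ₁ f', hff]
  have hmain := K804.Cyc.finrank_submodule g hg ρ₁ (K804.AS.J2 p n) (K804.AS.cc U n ((n : ℤ) + 1)) (by
      intro j _
      rw [hpart₁, K804.AS.T_pow_cc U hn hpn hu1' hun'])
    (by
      intro coef hcoef
      rw [hρT₁] at hcoef
      obtain ⟨h, hh⟩ := hcoef
      refine K804.AS.coef_eq_zero U (p := p) hn hpn hu1' hun' ((n : ℤ) + 1)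
        (K804.AS.cc U n ((n : ℤ) + 1)) ?_ (K804.AS.J2 p n) ?_ coef h hh
      · intro m _ hmn
        exact K804.AS.X_pow_mul_cc U hn hnk hu1' hun' _ m hmn
      · intro m hm
        rw [K804.AS.J2, Finset.mem_filter, Finset.mem_Icc] at hm
        exact ⟨hm.1.1, hm.1.2, hm.2.1⟩)
    (LinearMap.range Φ)
    (by
      intro j hj f hf
      rw [K804.AS.J2, Finset.mem_filter, Finset.mem_Icc] at hj
      obtain ⟨⟨hj1, hjn⟩, hj2, hj3⟩ := hj
      obtain ⟨m, rfl⟩ : ∃ m, j = m + 1 := ⟨j - 1, by omega⟩
      have hm0 : (m : k) ≠ 0 := by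
        intro h0
        apply hj3
        rw [CharP.cast_eq_zero_iff k p] at h0
        have h1 : (p : ℤ) ∣ (m : ℤ) := by exact_mod_cast h0
        push_cast
        have e : (1 : ℤ) - (m + 1) = -m := by ring
        rw [e]
        exact (dvd_neg).mpr h1
      obtain ⟨z, hz⟩ := K804.Cyc.exists_cocycle g hg ρ₀ (K804.AS.cc U n 0 m) (by
        rw [hpart₀, K804.AS.T_pow_cc U hn hpn hu1' hun'])
      obtain ⟨z', hz', hz'g⟩ := hmap z
      refine ⟨(-(m : k))⁻¹ • H1π (Rep.of ρ₀) z, ?_⟩
      rw [map_smul, hz', ← map_smul]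
      congr 1
      apply hext
      have h1 : ((-(m : k))⁻¹ • z') g = (-(m : k))⁻¹ • (z' g) := rfl
      refine Eq.trans h1 ?_
      rw [hz'g, hz, hf, K804.AS.deriv_cc U hn hnk hu1' hun' m (by omega), smul_smul,
        inv_mul_cancel₀ (neg_ne_zero.mpr hm0), one_smul])
    (by
      intro f hf
      obtain ⟨y, hy⟩ := hf
      induction y using H1_induction_on with
      | h z =>
        obtain ⟨z', hz', hz'g⟩ := hmap z
        rw [hz'] at hy
        have h1 : ((f - z' : cocycles₁ (Rep.of ρ₁)) : G → PowerSeries k) ∈ coboundaries₁ (Rep.of ρ₁) := by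
          have h2 := (H1π_eq_iff (A := Rep.of ρ₁) f z').mp hy.symm
          exact h2
        rw [K804.Cyc.mem_coboundaries_iff g hg ρ₁, hρT₁] at h1
        have h3 : (f - z' : cocycles₁ (Rep.of ρ₁)) g = f g - z' g := rfl
        rw [h3, hz'g] at h1
        rw [hρT₁]
        obtain ⟨coef, hcoef⟩ := K804.AS.exists_coef U (p := p) hn hpn hu1' hun' 0 (z g) (by
          rw [← hpart₀]; exact K804.Cyc.partialSum_card g hg ρ₀ z)
        obtain ⟨r, hr⟩ := hcoef
        set J0 := (Finset.Icc 1 n).filter (fun m : ℕ => ¬ (p : ℤ) ∣ (0 : ℤ) - (m : ℤ)) with hJ0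
        have hzg : z g = (∑ m ∈ J0, coef m • K804.AS.cc U n 0 m) + K804.AS.T U 0 r := by
          rw [hr]; ring
        have hR := LinearMap.range (K804.AS.T U ((n : ℤ) + 1))
        have h4 : PowerSeries.derivative k (z g) - ∑ m ∈ J0, coef m •
            PowerSeries.derivative k (K804.AS.cc U n 0 m) ∈
              LinearMap.range (K804.AS.T U ((n : ℤ) + 1)) := by
          refine ⟨PowerSeries.derivative k r, ?_⟩
          rw [← hφT, hzg, map_add, map_sum]
          have : ∀ m ∈ J0, PowerSeries.derivative k (coef m • K804.AS.cc U n 0 m) =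
              coef m • PowerSeries.derivative k (K804.AS.cc U n 0 m) := fun m _ => by
            rw [Derivation.map_smul]
          rw [Finset.sum_congr rfl this]
          ring
        -- the terms
        have h5 : ∀ m ∈ J0, coef m • PowerSeries.derivative k (K804.AS.cc U n 0 m) -
            (if m + 1 ∈ K804.AS.J2 p n then (- (m : k) * coef m) • K804.AS.cc U n ((n : ℤ) + 1) (m + 1)
              else 0) ∈ LinearMap.range (K804.AS.T U ((n : ℤ) + 1)) := by
          intro m hm
          rw [hJ0, Finset.mem_filter, Finset.mem_Icc] at hm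
          obtain ⟨⟨hm1, hmn⟩, hm2⟩ := hm
          rcases Nat.lt_or_ge m n with hlt | hge
          · rw [K804.AS.deriv_cc U hn hnk hu1' hun' m hlt]
            split_ifs with hmem
            · rw [smul_smul, mul_comm (coef m), sub_self]
              exact Submodule.zero_mem _
            · rw [sub_zero]
              refine Submodule.smul_mem _ _ (Submodule.smul_mem _ _ ?_)
              have hdvd : (p : ℤ) ∣ ((n : ℤ) + 1) - ((m + 1 : ℕ) : ℤ) := by
                by_contra hnd
                apply hmem
                rw [K804.AS.J2, Finset.mem_filter, Finset.mem_Icc]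
                refine ⟨⟨by omega, by omega⟩, hnd, ?_⟩
                push_cast
                have e : (1 : ℤ) - (m + 1) = 0 - m := by ring
                rw [e]
                exact hm2
              obtain ⟨h, hh⟩ := K804.AS.exists_T_eq U (p := p) hpn hu1' hun' ((n : ℤ) + 1) (m + 1)
                (by omega) hdvd _ (K804.AS.X_pow_mul_cc U hn hnk hu1' hun' _ (m + 1) (by omega))
              exact ⟨h, hh⟩
          · obtain rfl : m = n := by omega
            have hnot : m + 1 ∉ K804.AS.J2 p m := by
              rw [K804.AS.J2, Finset.mem_filter, Finset.mem_Icc]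
              omega
            rw [if_neg hnot, sub_zero]
            have h6 : K804.AS.cc U m 0 m = 1 := by
              apply mul_left_cancel₀ (pow_ne_zero m (PowerSeries.X_ne_zero (R := k)))
              rw [K804.AS.X_pow_mul_cc U hn hnk hu1' hun' 0 m le_rfl, mul_one, zero_sub, zpow_neg,
                zpow_natCast]
              have h7 : (U : PowerSeries k) ^ m * (((U ^ m)⁻¹ : (PowerSeries k)ˣ) : PowerSeries k) = 1 := by
                rw [← Units.val_pow_eq_pow_val, ← Units.val_mul, mul_inv_cancel, Units.val_one]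
              linear_combination (- (((U ^ m)⁻¹ : (PowerSeries k)ˣ) : PowerSeries k)) * hun' +
                (1 + PowerSeries.X ^ m) * h7
            rw [h6, Derivation.map_one_eq_zero, smul_zero]
            exact Submodule.zero_mem _
        have h8 := Submodule.sum_mem _ h5
        rw [Finset.sum_sub_distrib] at h8
        have h9 : ∑ m ∈ J0, (if m + 1 ∈ K804.AS.J2 p n then
            (- (m : k) * coef m) • K804.AS.cc U n ((n : ℤ) + 1) (m + 1) else 0) =
            ∑ j ∈ K804.AS.J2 p n, (- ((j - 1 : ℕ) : k) * coef (j - 1)) •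
              K804.AS.cc U n ((n : ℤ) + 1) j := by
          rw [← Finset.sum_filter]
          refine Finset.sum_bij' (fun m _ => m + 1) (fun j _ => j - 1) ?_ ?_ ?_ ?_ ?_
          · intro m hm
            exact (Finset.mem_filter.mp hm).2
          · intro j hj
            have hj' := hj
            rw [K804.AS.J2, Finset.mem_filter, Finset.mem_Icc] at hj
            obtain ⟨⟨hj1, hjn⟩, hj2, hj3⟩ := hj
            have hj4 : j ≠ 1 := by
              rintro rfl
              apply hj3
              simp
            rw [Finset.mem_filter, hJ0, Finset.mem_filter, Finset.mem_Icc]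
            refine ⟨⟨⟨by omega, by omega⟩, ?_⟩, ?_⟩
            · have e : (0 : ℤ) - ((j - 1 : ℕ) : ℤ) = 1 - j := by
                rw [Nat.cast_sub (by omega)]; push_cast; ring
              rw [e]; exact hj3
            · have e : j - 1 + 1 = j := by omega
              rw [e]; exact hj'
          · intro m hm
            simp
          · intro j hj
            rw [K804.AS.J2, Finset.mem_filter, Finset.mem_Icc] at hj
            omega
          · intro m hm
            simp
        rw [h9] at h8
        refine ⟨fun j => - ((j - 1 : ℕ) : k) * coef (j - 1), ?_⟩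
        have h10 := Submodule.add_mem _ (Submodule.add_mem _ h1 h4) h8
        have e : f g - PowerSeries.derivative k (z g) +
            (PowerSeries.derivative k (z g) - ∑ m ∈ J0, coef m •
              PowerSeries.derivative k (K804.AS.cc U n 0 m)) +
            (∑ m ∈ J0, coef m • PowerSeries.derivative k (K804.AS.cc U n 0 m) -
              ∑ j ∈ K804.AS.J2 p n, (- ((j - 1 : ℕ) : k) * coef (j - 1)) •
              K804.AS.cc U n ((n : ℤ) + 1) j) = f g - ∑ j ∈ K804.AS.J2 p n,
                (- ((j - 1 : ℕ) : k) * coef (j - 1)) • K804.AS.cc U n ((n : ℤ) + 1) j := by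
          abel
        rw [e] at h10
        exact h10)
  obtain ⟨hfin, hrank⟩ := hmain
  refine ⟨hfin, ?_⟩
  rw [hrank, K804.AS.card_J2 p n hp.one_lt hn hpn]

/-- For k an algebraically closed field of characteristic p > 0, n ≥ 1 an integer prime to p, u ∈ k[[t]]
the power series with constant term 1 and u^n · (1 + t^n) = 1, and G a group of order p generated by
g, consider two k-linear actions of G on B = k[[t]]: ρ₀(g) h = h(t·u), i.e. B with its order-p
automorphism σ(t) = t·u, and ρ₁(g) h = u^(n+1) · h(t·u), which is the σ-module B·dt identified with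
B through h·dt ↦ h (because d(σ t) = u^(n+1) dt). The derivative d/dt : (B, ρ₀) → (B, ρ₁) is
G-equivariant, and the image of the map it induces on first group cohomology, H^1(G, (B, ρ₀)) →
H^1(G, (B, ρ₁)), is finite-dimensional over k of dimension ⌊(n+1)(p−1)/p⌋ − 1 − ⌊(n−1)/p⌋. This is
the dimension of the image of H^1(G, O) → H^1(G, Ω) at a ramified point with break n of a ℤ/p-cover
of smooth curves, computed in the completed local ring; the published statement is phrased for the
stalks, at a point of the quotient curve, of the direct images of the structure sheaf and of the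
sheaf of differentials, and its proof passes to this completed form. -/
theorem result {k : Type u} [Field k] [IsAlgClosed k] (p : ℕ)
    [Fact p.Prime] [CharP k p] (n : ℕ) (hn : 0 < n) (hpn : ¬ p ∣ n)
    (u : PowerSeries k) (hu1 : PowerSeries.constantCoeff u = 1)
    (hun : u ^ n * (1 + PowerSeries.X ^ n) = 1)
    {G : Type u} [Group G] [Finite G] (g : G) (hG : Nat.card G = p)
    (hg : ∀ x : G, x ∈ Subgroup.zpowers g)
    (ρ₀ ρ₁ : Representation k G (PowerSeries k))
    (hρ₀ : ∀ h : PowerSeries k, ρ₀ g h = PowerSeries.subst (PowerSeries.X * u) h)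
    (hρ₁ : ∀ h : PowerSeries k, ρ₁ g h = u ^ (n + 1) * PowerSeries.subst (PowerSeries.X * u) h)
    (φ : Rep.of ρ₀ ⟶ Rep.of ρ₁) (hφ : ∀ h : PowerSeries k, φ.hom h = PowerSeries.derivative k h) :
    Module.Finite k (LinearMap.range ((groupCohomology.functor k G 1).map φ).hom) ∧
      (Module.finrank k (LinearMap.range ((groupCohomology.functor k G 1).map φ).hom) : ℤ) =
        ((n + 1) * (p - 1) : ℤ) / p - 1 - (n - 1 : ℤ) / p := by
  have hu : IsUnit u := by
    rw [PowerSeries.isUnit_iff_constantCoeff, hu1]; exact isUnit_one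
  set U : (PowerSeries k)ˣ := hu.unit with hU
  have hun' : (U : PowerSeries k) ^ n * (1 + PowerSeries.X ^ n) = 1 := hun
  have hu1' : PowerSeries.constantCoeff (U : PowerSeries k) = 1 := hu1
  have hρS₀ : ρ₀ g = K804.AS.S U 0 := by
    apply LinearMap.ext
    intro h
    rw [hρ₀ h, K804.AS.S_apply, K804.AS.sub_apply, zpow_zero, Units.val_one, one_mul]
    rfl
  have hρS₁ : ρ₁ g = K804.AS.S U ((n : ℤ) + 1) := by
    apply LinearMap.ext
    intro h
    rw [hρ₁ h, K804.AS.S_apply, K804.AS.sub_apply]
    have : ((n : ℤ) + 1) = ((n + 1 : ℕ) : ℤ) := by push_cast; ring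
    rw [this, zpow_natCast, Units.val_pow_eq_pow_val]
    rfl
  have hρT₀ : ρ₀ g - LinearMap.id = K804.AS.T U 0 := by rw [hρS₀]; rfl
  have hρT₁ : ρ₁ g - LinearMap.id = K804.AS.T U ((n : ℤ) + 1) := by rw [hρS₁]; rfl
  -- the derivative commutes with the twisted operators
  have hφT : ∀ h : PowerSeries k, PowerSeries.derivative k (K804.AS.T U 0 h) =
      K804.AS.T U ((n : ℤ) + 1) (PowerSeries.derivative k h) := by
    intro h
    have h1 := Rep.hom_comm_apply φ g h
    rw [hφ, hφ] at h1
    change PowerSeries.derivative k (ρ₀ g h) = ρ₁ g (PowerSeries.derivative k h) at h1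
    rw [← hρT₀, ← hρT₁, LinearMap.sub_apply, LinearMap.sub_apply, map_sub, h1]
    rfl
  refine helper p n hn hpn U hu1' hun' g hG hg ρ₀ ρ₁ hρS₀ hρS₁ hφT
    (((groupCohomology.functor k G 1).map φ).hom) ?_
  intro z
  refine ⟨groupCohomology.mapCocycles₁ (MonoidHom.id G) φ z, ?_, ?_⟩
  · have := groupCohomology.H1π_comp_map (A := Rep.of ρ₀) (B := Rep.of ρ₁) (MonoidHom.id G) φ
    exact congrArg (fun ψ => ψ.hom z) this
  · rw [← hφ]
    rfl

end Groth.Agent.S13862
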