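import Groth.Statements.S13865
import Groth.Agent.ParSch.K214.Assem

set_option autoImplicit false
universe u
open CategoryTheory MonoidalCategory CartesianMonoidalCategory MonObj GrpObj AlgebraicGeometry
open ParSch

namespace Groth.Agent.S13865

/-- Let k be an algebraically closed field of characteristic p > 0 and G a simple adjoint group over k:
G is semisimple and non-trivial, every smooth connected normal closed subgroup scheme of G is
trivial or all of G, and every central point of G is trivial. Let D be a splitting of G (maximal
torus, root datum, root homomorphisms) and assume G is not of type G₂ when p = 2 (the character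
lattice of D does not have rank 2 with 12 roots when p = 2). Let P be a closed subgroup scheme of G
containing a Borel subgroup, whose reduced part (the smooth closed subgroup scheme Q of G with the
same underlying set as P) is a maximal proper smooth closed subgroup scheme of G, and assume that P
contains no non-trivial normal closed subgroup scheme of G (that is, G acts faithfully on G/P). Then
P is reduced. (The published statement is for every simple type and every characteristic p > 0; the
simply laced types other than A and the characteristics p ≥ 5 are settled in the source by appeal to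
an earlier classification and are left out here: this row keeps type A in any characteristic — the
root datum of the splitting has r(r+1) roots, r its rank — and the types with a multiple edge —
roots a, b with ⟨a, b^∨⟩ ∈ {−2, −3} and ⟨b, a^∨⟩ = −1 — in characteristic 2 and 3.) -/
theorem result
    (k : Type u) [Field k] [IsAlgClosed k] (p : ℕ) [Fact p.Prime] [CharP k p]
    (G : Over (Spec (CommRingCat.of k))) [GrpObj G] (hG : Red.IsSemisimpleOver k G) (hG1 : ¬ Red.IsTrivialGrp G)
    (hsimple : ∀ (N : Over (Spec (CommRingCat.of k))) [GrpObj N] (n : N ⟶ G) [IsMonHom n],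
      IsClosedImmersion n.left → Smooth N.hom → ConnectedSpace N.left → AlgGrp.IsNormalHom n →
      Red.IsTrivialGrp N ∨ IsIso n)
    (hadj : ∀ (X : Over (Spec (CommRingCat.of k))) (g : X ⟶ G),
      (∀ (X' : Over (Spec (CommRingCat.of k))) (x : X' ⟶ X) (h : X' ⟶ G), (x ≫ g) * h = h * (x ≫ g)) → g = 1)
    (D : Red.SplitRed G)
    (hcases : Fintype.card D.idx = Module.finrank ℤ D.M * (Module.finrank ℤ D.M + 1) ∨
      ((p = 2 ∨ p = 3) ∧ ∃ a b : D.idx, (D.P.pairing a b = -2 ∨ D.P.pairing a b = -3) ∧ D.P.pairing b a = -1))
    (hG2 : ¬ (p = 2 ∧ Module.finrank ℤ D.M = 2 ∧ Fintype.card D.idx = 12))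
    (P : Over (Spec (CommRingCat.of k))) [GrpObj P] (iP : P ⟶ G) [IsMonHom iP] (hPcl : IsClosedImmersion iP.left)
    (B : Over (Spec (CommRingCat.of k))) [GrpObj B] (b : B ⟶ P) (hB : Red.IsBorelOver k (b ≫ iP))
    (Q : Over (Spec (CommRingCat.of k))) [GrpObj Q] (j : Q ⟶ G) [IsMonHom j] (hQcl : IsClosedImmersion j.left)
    [Smooth Q.hom] (hQP : Set.range j.left.base = Set.range iP.left.base)
    (hQne : Set.range j.left.base ≠ Set.univ)
    (hQmax : ∀ (Q' : Over (Spec (CommRingCat.of k))) [GrpObj Q'] (j' : Q' ⟶ G) [IsMonHom j'],
      IsClosedImmersion j'.left → Smooth Q'.hom → Set.range j.left.base ⊆ Set.range j'.left.base →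
      Set.range j'.left.base ⊆ Set.range j.left.base ∨ Set.range j'.left.base = Set.univ)
    (hcore : ∀ (N : Over (Spec (CommRingCat.of k))) [GrpObj N] (n : N ⟶ G) [IsMonHom n],
      IsClosedImmersion n.left → AlgGrp.IsNormalHom n → (∃ f : N ⟶ P, f ≫ iP = n) → Red.IsTrivialGrp N) :
    IsReduced P.left := by
  exact K214.Assem.isReduced p hG hsimple D hG2 P iP hPcl B b hB Q j hQcl hQP hQne hQmax hcore

end Groth.Agent.S13865
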