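import Groth.Statements.S13866
import Groth.Agent.ParSch.K803.ParMain

set_option autoImplicit false
universe u
open CategoryTheory MonoidalCategory CartesianMonoidalCategory MonObj GrpObj AlgebraicGeometry
open ParSch

namespace Groth.Agent.S13866

/-- Let k be an algebraically closed field of characteristic p > 0 and G a simple group over k
(semisimple, non-trivial, every smooth connected normal closed subgroup scheme trivial or all of G),
with a splitting D (maximal torus T, root datum, root homomorphisms u_a) and a system of simple
roots; let B be the Borel subgroup of G containing T whose root groups are those of the positive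
roots, α a simple root, and P a closed subgroup scheme of G containing B whose reduced part (the
smooth closed subgroup scheme Q with the same underlying set as P) is the maximal reduced parabolic
attached to α: Q contains the root group of −β for every simple root β ≠ α and not that of −α.
Assume we are not in the case p = 2, G of type G₂ (rank 2 with 12 roots) and α short (some root c
has ⟨c, α^∨⟩ = −3). Then there are a smooth affine group scheme G' over k, a finite surjective
homomorphism φ : G → G' and a smooth closed subgroup scheme P' of G' such that P is the preimage of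
P' under φ — that is, P = (ker φ) · P_red for an isogeny φ with source G. (For P reduced the
identity of G answers the statement.) (The published statement is for every simple type and every
characteristic p > 0; the simply laced types other than A and the characteristics p ≥ 5 are settled
in the source by appeal to an earlier classification and are left out here: this row keeps type A in
any characteristic — the root datum of the splitting has r(r+1) roots, r its rank — and the types
with a multiple edge — roots a, b with ⟨a, b^∨⟩ ∈ {−2, −3} and ⟨b, a^∨⟩ = −1 — in characteristic 2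
and 3.) -/
theorem result
    (k : Type u) [Field k] [IsAlgClosed k] (p : ℕ) [Fact p.Prime] [CharP k p]
    (G : Over (Spec (CommRingCat.of k))) [GrpObj G] (hG : Red.IsSemisimpleOver k G) (hG1 : ¬ Red.IsTrivialGrp G)
    (hsimple : ∀ (N : Over (Spec (CommRingCat.of k))) [GrpObj N] (n : N ⟶ G) [IsMonHom n],
      IsClosedImmersion n.left → Smooth N.hom → ConnectedSpace N.left → AlgGrp.IsNormalHom n →
      Red.IsTrivialGrp N ∨ IsIso n)
    (P : Over (Spec (CommRingCat.of k))) [GrpObj P] (iP : P ⟶ G) [IsMonHom iP] (hPcl : IsClosedImmersion iP.left)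
    (B : Over (Spec (CommRingCat.of k))) [GrpObj B] (bP : B ⟶ P) (hB : Red.IsBorelOver k (bP ≫ iP))
    (D : Red.SplitRed G) (bs : D.P.Base)
    (tB : D.T ⟶ B) (htB : tB ≫ bP ≫ iP = D.i)
    (hBroots : ∀ a : D.idx, (∃ v : Red.Ga (Spec (CommRingCat.of k)) ⟶ B, v ≫ bP ≫ iP = D.u a) ↔ a ∈ RedSub.posRoots D.P bs)
    (a₀ : D.idx) (ha₀ : a₀ ∈ bs.support)
    (Q : Over (Spec (CommRingCat.of k))) [GrpObj Q] (j : Q ⟶ G) [IsMonHom j] (hQcl : IsClosedImmersion j.left)
    [Smooth Q.hom] (hQB : Set.range (bP ≫ iP).left.base ⊆ Set.range j.left.base)
    (hQroots : ∀ c ∈ bs.support, ∀ c' : D.idx, D.P.root c' = -D.P.root c →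
      ((∃ v : Red.Ga (Spec (CommRingCat.of k)) ⟶ Q, v ≫ j = D.u c') ↔ c ≠ a₀))
    (hQP : Set.range j.left.base = Set.range iP.left.base)
    (hcases : Fintype.card D.idx = Module.finrank ℤ D.M * (Module.finrank ℤ D.M + 1) ∨
      ((p = 2 ∨ p = 3) ∧ ∃ a b : D.idx, (D.P.pairing a b = -2 ∨ D.P.pairing a b = -3) ∧ D.P.pairing b a = -1))
    (hexc : ¬ (p = 2 ∧ Module.finrank ℤ D.M = 2 ∧ Fintype.card D.idx = 12 ∧ ∃ c : D.idx, D.P.pairing c a₀ = -3)) :
    ∃ (G' : Over (Spec (CommRingCat.of k))) (_ : GrpObj G') (φ : G ⟶ G') (_ : IsMonHom φ)
      (P' : Over (Spec (CommRingCat.of k))) (_ : GrpObj P') (i' : P' ⟶ G') (_ : IsMonHom i') (ψ : P ⟶ P'),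
      IsAffine G'.left ∧ Smooth G'.hom ∧ Surjective φ.left ∧ IsFinite φ.left ∧
      IsClosedImmersion i'.left ∧ Smooth P'.hom ∧ IsPullback iP.left ψ.left φ.left i'.left := by
  exact K803.ParMain.main p hG hsimple P iP D bs (tB ≫ bP) (by rw [Category.assoc, htB])
    (fun a ha => by
      obtain ⟨v, hv⟩ := (hBroots a).mpr
        ((Groth.Agent.RedSub.H637.PosRoots.mem_posRoots_iff bs a).mpr ha)
      exact ⟨v ≫ bP, by rw [Category.assoc, hv]⟩)
    a₀ ha₀ Q j hQroots hQP hexc

end Groth.Agent.S13866
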