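import Groth.Statements.S13868
import Groth.Agent.ParSch.K214.CentRad

set_option autoImplicit false
universe u
open CategoryTheory MonoidalCategory CartesianMonoidalCategory MonObj GrpObj AlgebraicGeometry
open ParSch

namespace Groth.Agent.S13868

/-- Let k be an algebraically closed field of characteristic p > 0, G a semisimple simply connected
group over k (simply connected: every finite surjective homomorphism onto G from a smooth connected
group scheme, whose kernel consists of central points, is an isomorphism), T a maximal torus of G, M
a closed subgroup scheme of T and Z the centralizer of M in G. Then the identity component of Z is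
reductive, in the form: every smooth connected normal closed subgroup scheme of Z containing no
non-trivial subtorus is trivial. (The published statement also asserts that the identity component
of Z is smooth; that half is not part of this row.) -/
theorem result
    (k : Type u) [Field k] [IsAlgClosed k] (p : ℕ) [Fact p.Prime] [CharP k p]
    (G : Over (Spec (CommRingCat.of k))) [GrpObj G] (hG : Red.IsSemisimpleOver k G)
    (hsc : ∀ (H : Over (Spec (CommRingCat.of k))) [GrpObj H] (f : H ⟶ G) [IsMonHom f],
      Smooth H.hom → ConnectedSpace H.left → Surjective f.left → IsFinite f.left →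
      (∀ (X : Over (Spec (CommRingCat.of k))) (h : X ⟶ H), h ≫ f = 1 →
        ∀ (X' : Over (Spec (CommRingCat.of k))) (x : X' ⟶ X) (h' : X' ⟶ H), (x ≫ h) * h' = h' * (x ≫ h)) → IsIso f)
    (T : Over (Spec (CommRingCat.of k))) [GrpObj T] (i : T ⟶ G) (hT : Red.IsMaximalTorus i)
    (M : Over (Spec (CommRingCat.of k))) [GrpObj M] (m : M ⟶ T) [IsMonHom m] (hm : IsClosedImmersion m.left)
    (Z : Over (Spec (CommRingCat.of k))) [GrpObj Z] (z : Z ⟶ G) (hZ : Red.IsCentralizerOf (m ≫ i) z)
    (U : Over (Spec (CommRingCat.of k))) [GrpObj U] (u : U ⟶ Z) [IsMonHom u] (hUcl : IsClosedImmersion u.left)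
    [Smooth U.hom] [ConnectedSpace U.left] (hUn : AlgGrp.IsNormalHom u) (hUt : Red.HasNoSubtorus k U) :
    Red.IsTrivialGrp U := by
  obtain ⟨D, τ, hτ⟩ := K546.OscK.exists_split (Groth.Agent.Sga3B.AlgBc.isReductive_iff.2 hG.1) i hT
  refine K214.CentRad.isTrivial (D := D) (m ≫ τ.hom.hom.hom) z ?_ u hUcl hUn hUt
  rw [Category.assoc, ← hτ]
  exact hZ

end Groth.Agent.S13868
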