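import Groth.Statements.S13869
import Groth.Agent.ParSch.K803.MinHt
import Groth.Agent.ParSch.K803.Irr

set_option autoImplicit false
universe u
open CategoryTheory MonoidalCategory CartesianMonoidalCategory MonObj GrpObj AlgebraicGeometry
open ParSch

namespace Groth.Agent.S13869

/-- Let k be an algebraically closed field of characteristic p > 0 and G a simple group over k
(semisimple, non-trivial, every smooth connected normal closed subgroup scheme trivial or all of G)
with a splitting D whose Dynkin diagram has an edge of multiplicity p: there are roots a, b with ⟨a,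
b^∨⟩ = −p and ⟨b, a^∨⟩ = −1 (p = 2 in types B_n, C_n, F₄; p = 3 in type G₂). Then G has a least
closed normal non-central subgroup scheme of height at most one: there is a closed normal subgroup
scheme N of G, not central (some point of N fails to commute with some point of G), of height ≤ 1
(every global function on N vanishing at the unit section has p-th power zero, i.e. N is killed by
the Frobenius), such that every closed normal non-central subgroup scheme H of G of height ≤ 1
contains N. (N is the kernel of the very special isogeny of G.) -/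
theorem result
    (k : Type u) [Field k] [IsAlgClosed k] (p : ℕ) [Fact p.Prime] [CharP k p]
    (G : Over (Spec (CommRingCat.of k))) [GrpObj G] (hG : Red.IsSemisimpleOver k G) (hG1 : ¬ Red.IsTrivialGrp G)
    (hsimple : ∀ (N : Over (Spec (CommRingCat.of k))) [GrpObj N] (n : N ⟶ G) [IsMonHom n],
      IsClosedImmersion n.left → Smooth N.hom → ConnectedSpace N.left → AlgGrp.IsNormalHom n →
      Red.IsTrivialGrp N ∨ IsIso n)
    (D : Red.SplitRed G) (hedge : ∃ a b : D.idx, D.P.pairing a b = -(p : ℤ) ∧ D.P.pairing b a = -1) :
    ∃ (N : Over (Spec (CommRingCat.of k))) (_ : GrpObj N) (iN : N ⟶ G) (_ : IsMonHom iN),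
      IsClosedImmersion iN.left ∧ AlgGrp.IsNormalHom iN ∧
      ¬ (∀ (X : Over (Spec (CommRingCat.of k))) (n : X ⟶ N) (X' : Over (Spec (CommRingCat.of k))) (x : X' ⟶ X) (g : X' ⟶ G),
        (x ≫ n ≫ iN) * g = g * (x ≫ n ≫ iN)) ∧
      (∀ a : Γ(N.left, ⊤), (η[N]).left.appTop a = 0 → a ^ p = 0) ∧
      ∀ (H : Over (Spec (CommRingCat.of k))) [GrpObj H] (iH : H ⟶ G) [IsMonHom iH], IsClosedImmersion iH.left → AlgGrp.IsNormalHom iH →
        ¬ (∀ (X : Over (Spec (CommRingCat.of k))) (n : X ⟶ H) (X' : Over (Spec (CommRingCat.of k))) (x : X' ⟶ X) (g : X' ⟶ G),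
        (x ≫ n ≫ iH) * g = g * (x ≫ n ≫ iH)) →
        (∀ a : Γ(H.left, ⊤), (η[H]).left.appTop a = 0 → a ^ p = 0) →
        ∃ f : N ⟶ H, f ≫ iH = iN := by
  obtain ⟨x, y, hxy, hyx⟩ := hedge
  exact K803.MinHt.exists_least p D (K803.Irr.irr D hG hsimple) hxy hyx

end Groth.Agent.S13869
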