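import Groth.Statements.S13871
import Groth.Agent.ParSch.K803.F4Main
import Groth.Agent.S5545

set_option autoImplicit false
universe u
open CategoryTheory MonoidalCategory CartesianMonoidalCategory MonObj GrpObj AlgebraicGeometry
open ParSch

namespace Groth.Agent.S13871

/-- Let k be an algebraically closed field of characteristic p > 0 and G a semisimple group over k with
a splitting D (maximal torus T, root datum, root homomorphisms u_a : 𝔾_a → G) of type F₄: the
character lattice has rank 4 and there are 48 roots. Call a root a long when some root b has ⟨a,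
b^∨⟩ = −2 and ⟨b, a^∨⟩ = −1. Then the root groups of the long roots generate a semisimple subgroup
of type D₄: there is a closed subgroup scheme H of G, smooth, connected and semisimple, containing T
and containing the root group of a root a if and only if a is long, which is the smallest closed
subgroup scheme of G containing the root groups of all long roots. -/
theorem result
    (k : Type u) [Field k] [IsAlgClosed k] (p : ℕ) [Fact p.Prime] [CharP k p]
    (G : Over (Spec (CommRingCat.of k))) [GrpObj G] (hG : Red.IsSemisimpleOver k G)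
    (D : Red.SplitRed G) (hF4 : Module.finrank ℤ D.M = 4 ∧ Fintype.card D.idx = 48) :
    ∃ (H : Over (Spec (CommRingCat.of k))) (_ : GrpObj H) (iH : H ⟶ G) (_ : IsMonHom iH) (tH : D.T ⟶ H),
      IsClosedImmersion iH.left ∧ Smooth H.hom ∧ ConnectedSpace H.left ∧ Red.IsSemisimpleOver k H ∧
      tH ≫ iH = D.i ∧
      (∀ a : D.idx, (∃ v : Red.Ga (Spec (CommRingCat.of k)) ⟶ H, v ≫ iH = D.u a) ↔ (∃ b : D.idx, D.P.pairing a b = -2 ∧ D.P.pairing b a = -1)) ∧
      ∀ (R : Over (Spec (CommRingCat.of k))) [GrpObj R] (r : R ⟶ G) [IsMonHom r], IsClosedImmersion r.left →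
        (∀ a : D.idx, (∃ b : D.idx, D.P.pairing a b = -2 ∧ D.P.pairing b a = -1) → ∃ v : Red.Ga (Spec (CommRingCat.of k)) ⟶ R, v ≫ r = D.u a) →
        ∃ f : H ⟶ R, f ≫ r = iH := by
  exact K803.F4Main.main hG D hF4 (fun H _ h hR t ht R' hR' hs =>
    Groth.Agent.S5545.result D h hR t ht R' hR' hs)

end Groth.Agent.S13871
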