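import Groth.Statements.S13877
import Groth.Agent.Crimp.K804.Disc
import Mathlib.RingTheory.KrullDimension.PID

set_option autoImplicit false
universe u v
open Crimp

namespace Groth.Agent.S13877

/-- Over R = k⟦t⟧ with k an algebraically closed field of characteristic zero, let S' be a commutative
R-algebra with an R-basis of size d whose discriminant generates the ideal (t ^ a) (a finite cover
of the formal disk of degree d, unramified over the punctured disk, with branch divisor (t ^ a)),
and let S be an R-subalgebra of S' with an R-basis of size d whose discriminant generates (t ^ b) (a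
crimp with branch divisor (t ^ b)). Then t ^ b annihilates S' / S and twice the R-length of S' / S
plus a equals b. (The published statement is for a family of such subalgebras over a k-scheme T and
also asserts T-flatness of the quotient; this row is its restriction to T a point.) -/
theorem result {k : Type u} [Field k] [IsAlgClosed k] [CharZero k]
    {St : Type v} [CommRing St] [Algebra (PowerSeries k) St] (d a b : ℕ)
    (bt : Module.Basis (Fin d) (PowerSeries k) St)
    (ha : Ideal.span {Algebra.discr (PowerSeries k) ⇑bt} = Ideal.span {(PowerSeries.X : PowerSeries k) ^ a})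
    (S : Subalgebra (PowerSeries k) St) (bS : Module.Basis (Fin d) (PowerSeries k) S)
    (hb : Ideal.span {Algebra.discr (PowerSeries k) ⇑bS} = Ideal.span {(PowerSeries.X : PowerSeries k) ^ b}) :
    (∀ q : St ⧸ Subalgebra.toSubmodule S, ((PowerSeries.X : PowerSeries k) ^ b) • q = 0) ∧
    2 * Module.length (PowerSeries k) (St ⧸ Subalgebra.toSubmodule S) + (a : ℕ∞) = (b : ℕ∞) := by
  obtain ⟨c, hc, hassoc⟩ := K804.Disc.exists_det_eq d a b bt ha S bS hb
  constructor
  · intro q
    obtain ⟨y, rfl⟩ := Submodule.mkQ_surjective _ q
    rw [← map_smul, Submodule.mkQ_apply, Submodule.Quotient.mk_eq_zero, Subalgebra.mem_toSubmodule]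
    have hdvd : (K804.Disc.P bt bS).det ∣ (PowerSeries.X : PowerSeries k) ^ b :=
      hassoc.dvd.trans (pow_dvd_pow _ (by omega))
    obtain ⟨e, he⟩ := hdvd
    rw [he, mul_comm, mul_smul]
    exact S.smul_mem (K804.Disc.det_smul_mem bt bS y) e
  · rw [(K804.Disc.quotEquiv bt bS).length_eq,
      Groth.Agent.MiscA.LenDetDomain.cokerLen_eq_ord_det _ (K804.Disc.det_P_ne_zero bt bS), Ring.ord,
      Ideal.span_singleton_eq_span_singleton.mpr hassoc, K804.Disc.length_quot_X_pow, ← hc]
    push_cast
    rfl

end Groth.Agent.S13877
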