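import Groth.Statements.S13878
import Groth.Agent.Crimp.K804.Triple

set_option autoImplicit false
universe u
open Crimp

namespace Groth.Agent.S13878

/-- completing a unimodular row. -/
theorem aux {R : Type u} [CommRing R] (u v : R) (h : IsUnit u ∨ IsUnit v) :
    ∃ φ : (R × R) ≃ₗ[R] (R × R), ∀ x, (φ x).2 = x.1 * u + x.2 * v := by
  rcases h with ⟨w, rfl⟩ | ⟨w, rfl⟩
  · refine ⟨LinearEquiv.ofLinearMap
      ((LinearMap.snd R R R).prod ((w : R) • LinearMap.fst R R R + v • LinearMap.snd R R R))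
      (((↑w⁻¹ : R) • (LinearMap.snd R R R - v • LinearMap.fst R R R)).prod
        (LinearMap.fst R R R)) ?_ ?_, ?_⟩
    · ext <;> simp
    · ext <;> simp
    · intro x
      simp
      ring
  · refine ⟨LinearEquiv.ofLinearMap
      ((LinearMap.fst R R R).prod (u • LinearMap.fst R R R + (w : R) • LinearMap.snd R R R))
      ((LinearMap.fst R R R).prod ((↑w⁻¹ : R) • (LinearMap.snd R R R - u • LinearMap.fst R R R)))
      ?_ ?_, ?_⟩
    · ext <;> simp
    · ext <;> simp
    · intro x
      simp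
      ring

theorem not_isUnit_X {k : Type u} [Field k] : ¬ IsUnit (PowerSeries.X : PowerSeries k) := by
  rw [PowerSeries.isUnit_iff_constantCoeff]
  simp

open K804.Triple in
/-- a linear form on `R²` with a unit value is the second component of an automorphism. -/
theorem exists_equiv_snd {k : Type u} [Field k]
    (φ₂ : (PowerSeries k × PowerSeries k) →ₗ[PowerSeries k] PowerSeries k)
    (h : ∃ x, IsUnit (φ₂ x)) :
    ∃ φ : (PowerSeries k × PowerSeries k) ≃ₗ[PowerSeries k] (PowerSeries k × PowerSeries k),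
      ∀ x, (φ x).2 = φ₂ x := by
  have hx : ∀ x, φ₂ x = x.1 * φ₂ (1, 0) + x.2 * φ₂ (0, 1) := by
    intro x
    have : x = x.1 • ((1 : PowerSeries k), (0 : PowerSeries k)) + x.2 • ((0 : PowerSeries k), (1 : PowerSeries k)) := by
      ext <;> simp
    conv_lhs => rw [this]
    rw [map_add, map_smul, map_smul]
    rfl
  have hu : IsUnit (φ₂ (1, 0)) ∨ IsUnit (φ₂ (0, 1)) := by
    by_contra hn
    push Not at hn
    obtain ⟨a, ha⟩ := (isUnit_or_dvd _).resolve_left hn.1
    obtain ⟨b, hb⟩ := (isUnit_or_dvd _).resolve_left hn.2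
    obtain ⟨x, hxu⟩ := h
    rw [hx, ha, hb] at hxu
    have h2 : PowerSeries.X * (x.1 * a + x.2 * b) = x.1 * (PowerSeries.X * a) + x.2 * (PowerSeries.X * b) := by ring
    rw [← h2] at hxu
    exact not_isUnit_X (isUnit_of_mul_isUnit_left hxu)
  set u := φ₂ (1, 0)
  set v := φ₂ (0, 1)
  obtain ⟨φ, hφ⟩ := aux u v hu
  exact ⟨φ, fun x => by rw [hφ, hx x]⟩

/-- an endomorphism of `R²` is bijective if it hits vectors congruent to `(1,0)` and `(0,1)` mod `t`. -/
theorem bijective_of_mod {k : Type u} [Field k]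
    (φ : (PowerSeries k × PowerSeries k) →ₗ[PowerSeries k] (PowerSeries k × PowerSeries k))
    (x y : PowerSeries k × PowerSeries k)
    (hx1 : PowerSeries.X ∣ (φ x).1 - 1) (hx2 : PowerSeries.X ∣ (φ x).2)
    (hy1 : PowerSeries.X ∣ (φ y).1) (hy2 : PowerSeries.X ∣ (φ y).2 - 1) :
    Function.Bijective φ := by
  have hsurj : Function.Surjective φ := by
    have hu : IsUnit ((φ x).1 * (φ y).2 - (φ x).2 * (φ y).1) := by
      rw [PowerSeries.X_dvd_iff] at hx1 hx2 hy1 hy2
      rw [PowerSeries.isUnit_iff_constantCoeff]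
      simp only [map_sub, map_mul, map_one, sub_eq_zero] at hx1 hx2 hy1 hy2 ⊢
      rw [hx1, hx2, hy1, hy2]
      simp
    obtain ⟨w, hw⟩ := hu
    intro z
    refine ⟨(↑w⁻¹ : PowerSeries k) • ((z.1 * (φ y).2 - z.2 * (φ y).1) • x +
      (z.2 * (φ x).1 - z.1 * (φ x).2) • y), ?_⟩
    rw [map_smul, map_add, map_smul, map_smul]
    have hw' : (↑w⁻¹ : PowerSeries k) * ((φ x).1 * (φ y).2 - (φ x).2 * (φ y).1) = 1 := by
      rw [← hw, Units.inv_mul]
    ext1
    · simp only [Prod.smul_fst, Prod.fst_add, smul_eq_mul]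
      linear_combination z.1 * hw'
    · simp only [Prod.smul_snd, Prod.snd_add, smul_eq_mul]
      linear_combination z.2 * hw'
  exact ⟨OrzechProperty.injective_of_surjective_endomorphism φ hsurj, hsurj⟩

open K804.Triple in
theorem exists_equiv_of_surj {k : Type u} [Field k] (m n : ℕ) (hmn : m ≤ n)
    (π : (PowerSeries k × PowerSeries k) →ₗ[PowerSeries k]
      ((PowerSeries k ⧸ Ideal.span {(PowerSeries.X : PowerSeries k) ^ m}) ×
        (PowerSeries k ⧸ Ideal.span {(PowerSeries.X : PowerSeries k) ^ n})))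
    (hπ : Function.Surjective π) :
    ∃ φ : (PowerSeries k × PowerSeries k) ≃ₗ[PowerSeries k] (PowerSeries k × PowerSeries k),
      red (PowerSeries.X ^ m) (PowerSeries.X ^ n) ∘ₗ φ.toLinearMap = π := by
  obtain ⟨φ, hφ⟩ := Module.projective_lifting_property (red (R := PowerSeries k)
    (PowerSeries.X ^ m) (PowerSeries.X ^ n)) π (red_surjective _ _)
  rcases Nat.eq_zero_or_pos n with hn | hn
  · -- everything is zero
    obtain rfl : m = 0 := by omega
    subst hn
    refine ⟨LinearEquiv.refl _ _, ?_⟩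
    ext1 <;> ext1
    all_goals
      apply Prod.ext <;>
      · have : Subsingleton (PowerSeries k ⧸ Ideal.span {(PowerSeries.X : PowerSeries k) ^ 0}) := by
          rw [pow_zero, Ideal.span_singleton_one]
          exact Ideal.Quotient.subsingleton_iff.mpr rfl
        exact Subsingleton.elim _ _
  · obtain ⟨y, hy⟩ := hπ (red (PowerSeries.X ^ m) (PowerSeries.X ^ n) (0, 1))
    obtain ⟨x, hx⟩ := hπ (red (PowerSeries.X ^ m) (PowerSeries.X ^ n) (1, 0))
    have hy' : red (PowerSeries.X ^ m) (PowerSeries.X ^ n) (φ y - (0, 1)) = 0 := by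
      rw [map_sub, ← hy, ← hφ]; simp
    have hx' : red (PowerSeries.X ^ m) (PowerSeries.X ^ n) (φ x - (1, 0)) = 0 := by
      rw [map_sub, ← hx, ← hφ]; simp
    rw [red_eq_zero_iff] at hx' hy'
    rcases Nat.eq_zero_or_pos m with hm | hm
    · subst hm
      obtain ⟨φ', hφ'⟩ := exists_equiv_snd ((LinearMap.snd _ _ _) ∘ₗ φ) ⟨y, by
        have h2 := hy'.2
        have h3 : PowerSeries.X ∣ (φ y).2 - 1 :=
          dvd_trans (dvd_pow_self _ hn.ne') (by simpa using h2)
        rw [PowerSeries.X_dvd_iff] at h3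
        rw [PowerSeries.isUnit_iff_constantCoeff]
        simp only [map_sub, map_one, sub_eq_zero] at h3
        simp [h3]⟩
      refine ⟨φ', ?_⟩
      rw [← hφ]
      have hs : Subsingleton (PowerSeries k ⧸ Ideal.span {(PowerSeries.X : PowerSeries k) ^ 0}) := by
        rw [pow_zero, Ideal.span_singleton_one]
        exact Ideal.Quotient.subsingleton_iff.mpr rfl
      apply LinearMap.ext
      intro z
      apply Prod.ext
      · exact Subsingleton.elim _ _
      · have := hφ' z
        simp only [LinearMap.comp_apply, LinearEquiv.coe_coe, red, LinearMap.prodMap_apply]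
        rw [this]
        rfl
    · have hb := bijective_of_mod φ x y
        (dvd_trans (dvd_pow_self _ hm.ne') (by simpa using hx'.1))
        (dvd_trans (dvd_pow_self _ hn.ne') (by simpa using hx'.2))
        (dvd_trans (dvd_pow_self _ hm.ne') (by simpa using hy'.1))
        (dvd_trans (dvd_pow_self _ hn.ne') (by simpa using hy'.2))
      refine ⟨LinearEquiv.ofBijective φ hb, ?_⟩
      rw [← hφ]
      rfl

/-- Over R = k⟦t⟧ with k an algebraically closed field of characteristic zero, let S' = R × R × R (the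
unramified triple cover of the formal disk) and let S be an R-submodule of S' containing 1 such that
S' / S is isomorphic to R / (t ^ m) ⊕ R / (t ^ n) with m ≤ n. Then t ^ n S' is contained in S, and
there is f in S', not lying in R·1 + t S', such that S = R·1 + R·(t ^ m f) + t ^ n S'. -/
theorem result {k : Type u} [Field k] [IsAlgClosed k] [CharZero k] (m n : ℕ) (hmn : m ≤ n)
    (S : Submodule (PowerSeries k) (Fin 3 → PowerSeries k))
    (h1 : (1 : (Fin 3 → PowerSeries k)) ∈ S)
    (e : ((Fin 3 → PowerSeries k) ⧸ S) ≃ₗ[PowerSeries k]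
      ((PowerSeries k ⧸ Ideal.span {(PowerSeries.X : PowerSeries k) ^ m}) × (PowerSeries k ⧸ Ideal.span {(PowerSeries.X : PowerSeries k) ^ n}))) :
    Ideal.span {(PowerSeries.X : PowerSeries k) ^ n} • (⊤ : Submodule (PowerSeries k) (Fin 3 → PowerSeries k)) ≤ S ∧
    ∃ f : (Fin 3 → PowerSeries k),
      f ∉ Submodule.span (PowerSeries k) {(1 : (Fin 3 → PowerSeries k))} ⊔ Ideal.span {(PowerSeries.X : PowerSeries k)} • (⊤ : Submodule (PowerSeries k) (Fin 3 → PowerSeries k)) ∧
      S = Submodule.span (PowerSeries k) {(1 : (Fin 3 → PowerSeries k)), ((PowerSeries.X : PowerSeries k) ^ m) • f} ⊔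
        Ideal.span {(PowerSeries.X : PowerSeries k) ^ n} • (⊤ : Submodule (PowerSeries k) (Fin 3 → PowerSeries k)) := by
  -- the surjection `R³ → R/t^m × R/t^n` with kernel `S`
  let π₀ : (Fin 3 → PowerSeries k) →ₗ[PowerSeries k] _ := e.toLinearMap ∘ₗ S.mkQ
  have hπ₀ : Function.Surjective π₀ := e.surjective.comp S.mkQ_surjective
  have hk : LinearMap.ker π₀ = S := by
    ext x
    simp [π₀]
  have hπ₁ : π₀ 1 = 0 := by
    rw [← LinearMap.mem_ker, hk]; exact h1
  -- factor through `Q`
  let π : (PowerSeries k × PowerSeries k) →ₗ[PowerSeries k] _ :=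
    (LinearMap.toSpanSingleton _ _ (π₀ (Pi.single 0 1))).coprod
      (LinearMap.toSpanSingleton _ _ (π₀ (Pi.single 1 1)))
  have hπQ : π ∘ₗ K804.Triple.Q _ = π₀ := by
    have h2 : π₀ (Pi.single 2 1) = - π₀ (Pi.single 0 1) - π₀ (Pi.single 1 1) := by
      have : (1 : Fin 3 → PowerSeries k) = Pi.single 0 1 + Pi.single 1 1 + Pi.single 2 1 := by
        funext i; fin_cases i <;> simp
      rw [this, map_add, map_add] at hπ₁
      rw [← sub_eq_zero, ← hπ₁]; abel
    apply LinearMap.pi_ext'
    intro i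
    ext1
    fin_cases i
    · simp [π, K804.Triple.Q_apply]
    · simp [π, K804.Triple.Q_apply]
    · simp [π, K804.Triple.Q_apply, h2]
      abel
  have hπ : Function.Surjective π := by
    have := hπ₀
    rw [← hπQ] at this
    exact Function.Surjective.of_comp this
  obtain ⟨φ, hφ⟩ := exists_equiv_of_surj m n hmn π hπ
  let ψ : (Fin 3 → PowerSeries k) →ₗ[PowerSeries k] PowerSeries k × PowerSeries k :=
    φ.toLinearMap ∘ₗ K804.Triple.Q _
  have hψs : Function.Surjective ψ := φ.surjective.comp K804.Triple.Q_surjective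
  have hψk : ∀ x, ψ x = 0 ↔ ∃ a : PowerSeries k, x = a • (1 : Fin 3 → PowerSeries k) := by
    intro x
    rw [← K804.Triple.Q_eq_zero_iff]
    simp [ψ]
  have hS : S = LinearMap.ker (K804.Triple.red ((PowerSeries.X : PowerSeries k) ^ m)
      ((PowerSeries.X : PowerSeries k) ^ n) ∘ₗ ψ) := by
    rw [← hk, ← hπQ, ← hφ]
    rfl
  obtain ⟨f, hf⟩ := hψs (1, 0)
  have hS' := K804.Triple.ker_eq ψ hψs hψk ((PowerSeries.X : PowerSeries k) ^ m)
      ((PowerSeries.X : PowerSeries k) ^ n) (pow_dvd_pow _ hmn) f hf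
  rw [← hS] at hS'
  refine ⟨?_, f, ?_, hS'⟩
  · conv_rhs => rw [hS']
    exact le_sup_right
  · rw [K804.Span.mem_span_singleton_sup]
    rintro ⟨a, s, hs⟩
    have h3 := congrArg ψ hs
    rw [hf, map_add, map_smul, map_smul, (hψk 1).mpr ⟨1, by simp⟩] at h3
    have h4 := congrArg Prod.fst h3
    simp only [smul_zero, zero_add, Prod.smul_fst, smul_eq_mul] at h4
    exact not_isUnit_X (IsUnit.of_mul_eq_one _ h4.symm)

end Groth.Agent.S13878
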