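import Groth.Statements.S13880
import Groth.Agent.Crimp.K804.Quad

set_option autoImplicit false
universe u
open Crimp

namespace Groth.Agent.S13880

theorem quad {k : Type u} [Field k] [CharZero k] :
    K804.QuadAlg.Quad (PowerSeries k) (Fin 2 → PowerSeries k) ![1, -1] 1 := by
  have h2 : IsUnit (2 : PowerSeries k) := by
    have : (2 : PowerSeries k) = PowerSeries.C (2 : k) := by rw [map_ofNat]
    rw [this]
    exact IsUnit.map _ (isUnit_iff_ne_zero.mpr two_ne_zero)
  obtain ⟨w, hw⟩ := h2
  have hw' : (↑w⁻¹ : PowerSeries k) * 2 = 1 := by rw [← hw]; simp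
  refine ⟨?_, ?_, ?_⟩
  · funext i
    fin_cases i <;> simp
  · intro y
    refine ⟨(↑w⁻¹ : PowerSeries k) * (y 0 + y 1), (↑w⁻¹ : PowerSeries k) * (y 0 - y 1), ?_⟩
    funext i
    fin_cases i
    · simp only [Pi.add_apply, Pi.algebraMap_apply, Pi.smul_apply, Algebra.algebraMap_self, RingHom.id_apply, smul_eq_mul]
      simp
      linear_combination -(y 0) * hw'
    · simp only [Pi.add_apply, Pi.algebraMap_apply, Pi.smul_apply, Algebra.algebraMap_self, RingHom.id_apply, smul_eq_mul]
      simp
      linear_combination -(y 1) * hw'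
  · intro a b hab
    have h0 := congrFun hab 0
    have h1 := congrFun hab 1
    simp at h0 h1
    constructor
    · linear_combination -a * hw' + (↑w⁻¹ : PowerSeries k) * (h0 + h1)
    · linear_combination -b * hw' + (↑w⁻¹ : PowerSeries k) * (h0 - h1)

/-- Over R = k⟦t⟧ with k an algebraically closed field of characteristic zero, let S' = R × R, the
trivial double cover of the formal disk (branch divisor (t ^ 0)). An R-subalgebra S of S' admits an
R-basis of size 2 whose discriminant generates (t ^ b), that is, S is a crimp with branch divisor (t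
^ b), if and only if b = 2n for some n and S = R·1 + t ^ n S'. So there is exactly one such crimp
when b is even and none when b is odd; moreover the subalgebra R·1 + t ^ n S' is isomorphic as an
R-algebra to R[y] / (y ^ 2 - t ^ (2n)) (existence of an isomorphism; y ↦ (t ^ n, -t ^ n)). (The
published statement also gives the space of crimps its reduced one-point scheme structure; this row
classifies its k-points.) -/
theorem result {k : Type u} [Field k] [IsAlgClosed k] [CharZero k] (b : ℕ) (S : Subalgebra (PowerSeries k) (Fin 2 → PowerSeries k)) :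
    ((∃ bS : Module.Basis (Fin 2) (PowerSeries k) S,
      Ideal.span {Algebra.discr (PowerSeries k) ⇑bS} = Ideal.span {(PowerSeries.X : PowerSeries k) ^ b}) ↔
    ∃ n : ℕ, b = 2 * n ∧
      Subalgebra.toSubmodule S = Submodule.span (PowerSeries k) {(1 : (Fin 2 → PowerSeries k))} ⊔
        Ideal.span {(PowerSeries.X : PowerSeries k) ^ n} • (⊤ : Submodule (PowerSeries k) (Fin 2 → PowerSeries k))) ∧
    (∀ n : ℕ, Subalgebra.toSubmodule S = Submodule.span (PowerSeries k) {(1 : (Fin 2 → PowerSeries k))} ⊔
        Ideal.span {(PowerSeries.X : PowerSeries k) ^ n} • (⊤ : Submodule (PowerSeries k) (Fin 2 → PowerSeries k)) →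
      Nonempty (S ≃ₐ[PowerSeries k] AdjoinRoot (Polynomial.X ^ 2 - Polynomial.C ((PowerSeries.X : PowerSeries k) ^ (2 * n))))) := by
  refine ⟨?_, ?_⟩
  · have h := (quad (k := k)).main two_ne_zero 0 (by rw [pow_zero]) b S
    simpa using h
  · intro n hn
    obtain ⟨x', hx'⟩ := (quad (k := k)).sub S _ (pow_ne_zero n PowerSeries.X_ne_zero) hn
    rw [mul_one, ← pow_mul, mul_comm n 2] at hx'
    exact hx'.nonempty_algEquiv (K804.QuadAlg.Quad.adjoinRoot _)

end Groth.Agent.S13880
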