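import Groth.Statements.S13882
import Mathlib.RingTheory.MvPolynomial.Basic
import Mathlib.RingTheory.FiniteType
import Mathlib.RingTheory.Ideal.Quotient.Operations

set_option autoImplicit false
universe u
open FinCov

namespace Groth.Agent.S13882

open MvPolynomial W4c1hurwitzcpt

variable (K : Type u) [Field K] (d : ℕ)

/-- index type of the structure constants -/
abbrev Idx : Type := (Fin d × Fin d × Fin d) ⊕ Fin d

/-- generic structure constants -/
noncomputable def gc (i j k : Fin d) : MvPolynomial (Idx d) K := X (Sum.inl (i, j, k))

/-- generic unit -/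
noncomputable def gu (i : Fin d) : MvPolynomial (Idx d) K := X (Sum.inr i)

/-- relations -/
def rels : Set (MvPolynomial (Idx d) K) :=
  {p | ∃ i j k, p = gc K d i j k - gc K d j i k} ∪
  {p | ∃ i j l m, p = (∑ k, gc K d i j k * gc K d k l m) - ∑ k, gc K d j l k * gc K d i k m} ∪
  {p | ∃ j m, p = (∑ i, gu K d i * gc K d i j m) - if j = m then 1 else 0}

/-- the relation ideal -/
noncomputable abbrev relI : Ideal (MvPolynomial (Idx d) K) := Ideal.span (rels K d)

/-- the representing algebra -/
abbrev RB : Type u := MvPolynomial (Idx d) K ⧸ relI K d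

/-- the values of a based algebra on the variables -/
def vals {d : ℕ} {A : Type u} [CommRing A] (s : BasedAlg d A) : Idx d → A :=
  Sum.elim (fun t => s.c t.1 t.2.1 t.2.2) s.u

variable {K d}

theorem mk_rel {p : MvPolynomial (Idx d) K} (h : p ∈ rels K d) :
    Ideal.Quotient.mkₐ K (relI K d) p = 0 :=
  Ideal.Quotient.eq_zero_iff_mem.2 (Ideal.subset_span h)

/-- a point of the representing algebra gives a based algebra -/
noncomputable def toBA {A : Type u} [CommRing A] [Algebra K A] (g : RB K d →ₐ[K] A) : BasedAlg d A where
  c i j k := g (Ideal.Quotient.mkₐ K (relI K d) (gc K d i j k))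
  u i := g (Ideal.Quotient.mkₐ K (relI K d) (gu K d i))
  comm i j k := by
    have := congrArg g (mk_rel (K := K) (d := d) (Or.inl (Or.inl ⟨i, j, k, rfl⟩)))
    rw [map_sub, map_sub, map_zero, sub_eq_zero] at this
    exact this
  assoc i j l m := by
    have := congrArg g (mk_rel (K := K) (d := d) (Or.inl (Or.inr ⟨i, j, l, m, rfl⟩)))
    rw [map_sub, map_sub, map_zero, sub_eq_zero] at this
    simpa only [map_sum, map_mul] using this
  unit j m := by
    have := congrArg g (mk_rel (K := K) (d := d) (Or.inr ⟨j, m, rfl⟩))
    rw [map_sub, map_sub, map_zero, sub_eq_zero] at this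
    simp only [map_sum, map_mul] at this
    rw [this]
    split <;> simp

/-- a based algebra gives a point -/
noncomputable def ofBA {A : Type u} [CommRing A] [Algebra K A] (s : BasedAlg d A) : RB K d →ₐ[K] A :=
  Ideal.Quotient.liftₐ (relI K d) (aeval (vals s)) (by
    intro a ha
    have : relI K d ≤ RingHom.ker (aeval (vals s) : MvPolynomial (Idx d) K →ₐ[K] A) := by
      rw [Ideal.span_le]
      rintro p ((⟨i, j, k, rfl⟩ | ⟨i, j, l, m, rfl⟩) | ⟨j, m, rfl⟩)
      · simp [RingHom.mem_ker, gc, vals, s.comm i j k]
      · simp [RingHom.mem_ker, gc, vals, s.assoc i j l m]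
      · have := s.unit j m
        by_cases h : j = m
        · simp [RingHom.mem_ker, gc, gu, vals, h] at this ⊢
          rw [this]; simp
        · simp [RingHom.mem_ker, gc, gu, vals, h] at this ⊢
          exact this
    exact this ha)

theorem ofBA_mk {A : Type u} [CommRing A] [Algebra K A] (s : BasedAlg d A) (p : MvPolynomial (Idx d) K) :
    ofBA s (Ideal.Quotient.mkₐ K (relI K d) p) = aeval (vals s) p := rfl

/-- the bijection -/
noncomputable def eqv (A : Type u) [CommRing A] [Algebra K A] : (RB K d →ₐ[K] A) ≃ BasedAlg d A where
  toFun := toBA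
  invFun := ofBA
  left_inv g := by
    apply Ideal.Quotient.algHom_ext
    apply MvPolynomial.algHom_ext
    rintro (⟨i, j, k⟩ | i)
    · change ofBA (toBA g) (Ideal.Quotient.mkₐ K (relI K d) (X (Sum.inl (i, j, k)))) = _
      rw [ofBA_mk, aeval_X]; rfl
    · change ofBA (toBA g) (Ideal.Quotient.mkₐ K (relI K d) (X (Sum.inr i))) = _
      rw [ofBA_mk, aeval_X]; rfl
  right_inv s := by
    ext i j k
    · change ofBA s (Ideal.Quotient.mkₐ K (relI K d) (X (Sum.inl (i, j, k)))) = _
      rw [ofBA_mk, aeval_X]; rfl
    · rename_i i
      change ofBA s (Ideal.Quotient.mkₐ K (relI K d) (X (Sum.inr i))) = _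
      rw [ofBA_mk, aeval_X]; rfl

/-- Over a field K of characteristic zero, the functor that sends a K-scheme S to the set of isomorphism
classes of pairs (A, τ) of an O_S-algebra A and an O_S-module isomorphism τ from A to the free
module of rank d, equivalently to the set of commutative unital algebra structures on the rank-d
free module with its standard basis, is represented by an affine K-scheme of finite type. Stated on
affine K-schemes in one universe: there is a finitely generated commutative K-algebra B with
bijections between K-algebra maps B → A and based algebra structures of rank d over A, natural in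
the commutative K-algebra A. -/
theorem result (K : Type u) [Field K] [CharZero K] (d : ℕ) :
    ∃ (B : Type u) (_ : CommRing B) (_ : Algebra K B) (_ : Algebra.FiniteType K B)
      (η : ∀ (A : Type u) [CommRing A] [Algebra K A], (B →ₐ[K] A) ≃ W4c1hurwitzcpt.BasedAlg d A),
      ∀ (A A' : Type u) [CommRing A] [Algebra K A] [CommRing A'] [Algebra K A']
        (f : A →ₐ[K] A') (g : B →ₐ[K] A),
        η A' (f.comp g) = (η A g).map f.toRingHom := by
  refine ⟨RB K d, inferInstance, inferInstance, inferInstance, fun A _ _ => eqv A, ?_⟩
  intro A A' _ _ _ _ f g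
  ext
  · rfl
  · rfl

end Groth.Agent.S13882
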