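import Groth.Statements.S13884
import Groth.Agent.Crimp.K804.Root
import Mathlib.LinearAlgebra.Basis.Prod

set_option autoImplicit false
universe u
open Crimp

namespace Groth.Agent.S13884

/-- Over R = k⟦t⟧ with k an algebraically closed field of characteristic zero, let S' = k⟦x⟧ regarded as
an R-algebra through t ↦ x ^ 3, that is S' = R[x] / (x ^ 3 - t), the smooth totally ramified triple
cover of the formal disk. If M is an R-submodule of S' which is free of rank 3, then M has an
R-basis consisting of three power series whose x-adic valuations are pairwise distinct modulo 3.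
(Items (2) and (3) of the published proposition, on the base change of M to R[s] / (s ^ 3 - t), are
not restated.) -/
theorem result {k : Type u} [Field k] [IsAlgClosed k] [CharZero k]
    (M : Submodule (PowerSeries k) (W4c1hurwitzcpt.RootDisk 3 k))
    (bM : Module.Basis (Fin 3) (PowerSeries k) M) :
    ∃ g : Module.Basis (Fin 3) (PowerSeries k) M, ∀ i j : Fin 3, i ≠ j →
      ¬ Nat.ModEq 3 (PowerSeries.order (W4c1hurwitzcpt.RootDisk.val (((g i : M) : (W4c1hurwitzcpt.RootDisk 3 k)) : W4c1hurwitzcpt.RootDisk 3 k))).toNat
        (PowerSeries.order (W4c1hurwitzcpt.RootDisk.val (((g j : M) : (W4c1hurwitzcpt.RootDisk 3 k)) : W4c1hurwitzcpt.RootDisk 3 k))).toNat := by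
  obtain ⟨r, hr, hrM⟩ := K804.Root.exists_smul_mem (K804.Root.bas 3 k) bM
  obtain ⟨N, hN⟩ := K804.Root.exists_N M r hr hrM
  have hfin : Module.Finite (PowerSeries k) M := Module.Finite.of_basis bM
  obtain ⟨g, hgM, hord, hspan⟩ := K804.Root.exists_gens M (Module.Finite.iff_fg.mp hfin) N hN
  -- `g` is a basis of `M`
  let g' : Fin 3 → M := fun j => ⟨g j, hgM j⟩
  have hsp' : ⊤ ≤ Submodule.span (PowerSeries k) (Set.range g') := by
    rintro ⟨y, hy⟩ _
    have hy' : y ∈ Submodule.span (PowerSeries k) (Set.range g) := by rw [hspan]; exact hy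
    have himg : Set.range g = M.subtype '' Set.range g' := by
      rw [← Set.range_comp]; rfl
    rw [himg, Submodule.span_image, Submodule.mem_map] at hy'
    obtain ⟨z, hz, hzy⟩ := hy'
    have : z = ⟨y, hy⟩ := Subtype.ext hzy
    rwa [← this]
  let F : (Fin 3 → PowerSeries k) →ₗ[PowerSeries k] (Fin 3 → PowerSeries k) :=
    bM.equivFun.toLinearMap ∘ₗ Fintype.linearCombination (PowerSeries k) g'
  have hF : Function.Surjective F := by
    refine bM.equivFun.surjective.comp ?_
    rw [← LinearMap.range_eq_top, Fintype.range_linearCombination, eq_top_iff]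
    exact hsp'
  have hF' : Function.Injective F := OrzechProperty.injective_of_surjective_endomorphism F hF
  have hli : LinearIndependent (PowerSeries k) g' := by
    rw [Fintype.linearIndependent_iff]
    intro c hc i
    have h0 : F c = 0 := by
      change bM.equivFun (Fintype.linearCombination (PowerSeries k) g' c) = 0
      rw [Fintype.linearCombination_apply, hc, map_zero]
    have h1 : c = 0 := hF' (by rw [h0, map_zero])
    rw [h1]; rfl
  refine ⟨Module.Basis.mk hli hsp', ?_⟩
  intro i j hij hmod
  rw [Module.Basis.mk_apply, Module.Basis.mk_apply] at hmod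
  obtain ⟨m, hm⟩ := hord i
  obtain ⟨m', hm'⟩ := hord j
  change Nat.ModEq 3 (PowerSeries.order (W4c1hurwitzcpt.RootDisk.val (g i))).toNat
    (PowerSeries.order (W4c1hurwitzcpt.RootDisk.val (g j))).toNat at hmod
  rw [hm, hm'] at hmod
  simp only [ENat.toNat_natCast, Nat.ModEq] at hmod
  apply hij
  apply Fin.ext
  omega

end Groth.Agent.S13884
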