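import Groth.Statements.S13885
import Groth.Agent.Crimp.K804.Root
import Mathlib.LinearAlgebra.Basis.Prod

set_option autoImplicit false
universe u
open Crimp

namespace Groth.Agent.S13885

/-- Over R = k⟦t⟧ with k an algebraically closed field of characteristic zero, let S' = k⟦x⟧ × R, where
k⟦x⟧ is regarded as an R-algebra through t ↦ x ^ 2, that is S' = R[x] / (x ^ 2 - t) ⊕ R, the smooth
simply ramified triple cover of the formal disk, with R embedded diagonally. If M is an R-submodule
of S' containing 1 which is free of rank 3, then M is spanned by 1, (f₁, 0) and (f₂, 0) for some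
power series f₁, f₂ whose x-adic valuations are distinct modulo 2. (Items (2) and (3) of the
published proposition, on the base change of M to R[s] / (s ^ 2 - t), are not restated.) -/
theorem result {k : Type u} [Field k] [IsAlgClosed k] [CharZero k]
    (M : Submodule (PowerSeries k) (W4c1hurwitzcpt.RootDisk 2 k × PowerSeries k))
    (h1 : (1 : (W4c1hurwitzcpt.RootDisk 2 k × PowerSeries k)) ∈ M)
    (bM : Module.Basis (Fin 3) (PowerSeries k) M) :
    ∃ f₁ f₂ : W4c1hurwitzcpt.RootDisk 2 k,
      ¬ Nat.ModEq 2 (PowerSeries.order (W4c1hurwitzcpt.RootDisk.val (f₁ : W4c1hurwitzcpt.RootDisk 2 k))).toNat (PowerSeries.order (W4c1hurwitzcpt.RootDisk.val (f₂ : W4c1hurwitzcpt.RootDisk 2 k))).toNat ∧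
      M = Submodule.span (PowerSeries k) {(1 : (W4c1hurwitzcpt.RootDisk 2 k × PowerSeries k)), (f₁, 0), (f₂, 0)} := by
  let bt : Module.Basis (Fin 3) (PowerSeries k) (W4c1hurwitzcpt.RootDisk 2 k × PowerSeries k) :=
    (((K804.Root.bas 2 k).prod (Module.Basis.singleton (Fin 1) (PowerSeries k)))).reindex finSumFinEquiv
  obtain ⟨r, hr, hrM⟩ := K804.Root.exists_smul_mem bt bM
  let M' : Submodule (PowerSeries k) (W4c1hurwitzcpt.RootDisk 2 k) :=
    M.comap (LinearMap.inl (PowerSeries k) (W4c1hurwitzcpt.RootDisk 2 k) (PowerSeries k))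
  have hM' : ∀ f, f ∈ M' ↔ (f, (0 : PowerSeries k)) ∈ M := fun f => Iff.rfl
  obtain ⟨N, hN⟩ := K804.Root.exists_N M' r hr (fun y => by
    rw [hM']
    have := hrM (y, 0)
    simpa using this)
  have hfin : Module.Finite (PowerSeries k) (W4c1hurwitzcpt.RootDisk 2 k) :=
    Module.Finite.of_basis (K804.Root.bas 2 k)
  have hfg : M'.FG := IsNoetherian.noetherian M'
  obtain ⟨g, hgM, hord, hspan⟩ := K804.Root.exists_gens M' hfg N hN
  refine ⟨g 0, g 1, ?_, ?_⟩
  · intro hmod
    obtain ⟨m, hm⟩ := hord 0
    obtain ⟨m', hm'⟩ := hord 1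
    rw [hm, hm'] at hmod
    simp only [ENat.toNat_natCast, Nat.ModEq] at hmod
    simp at hmod
  · apply le_antisymm
    · rintro ⟨f, s⟩ hfs
      have h2 : (f - algebraMap (PowerSeries k) _ s, (0 : PowerSeries k)) ∈ M := by
        have := M.sub_mem hfs (M.smul_mem s h1)
        have e : (f, s) - s • (1 : W4c1hurwitzcpt.RootDisk 2 k × PowerSeries k) =
            (f - algebraMap (PowerSeries k) _ s, (0 : PowerSeries k)) := by
          ext1
          · simp [Algebra.algebraMap_eq_smul_one]
          · simp
        rwa [e] at this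
      rw [← hM', ← hspan] at h2
      have h3 : Set.range g = {g 0, g 1} := by
        ext z
        simp only [Set.mem_range, Fin.exists_fin_two, Set.mem_insert_iff, Set.mem_singleton_iff]
        tauto
      rw [h3, Submodule.mem_span_pair] at h2
      obtain ⟨a, b, hab⟩ := h2
      rw [Submodule.mem_span_triple]
      refine ⟨s, a, b, ?_⟩
      ext1
      · simp only [Prod.fst_add, Prod.smul_fst, Prod.fst_one]
        rw [add_assoc, hab, Algebra.algebraMap_eq_smul_one]
        abel
      · simp
    · rw [Submodule.span_le]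
      rintro z (rfl | rfl | rfl)
      · exact h1
      · exact hgM 0
      · exact hgM 1

end Groth.Agent.S13885
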