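import Groth.Statements.S13886
import Groth.Agent.Crimp.K804.Triple

set_option autoImplicit false
universe u
open Crimp

namespace Groth.Agent.S13886

/-- Over R = k⟦t⟧ with k an algebraically closed field of characteristic zero, let S' = R × R × R be the
unramified triple cover of the formal disk and let m ≤ n ≤ 2m be natural numbers. For every f in S'
not lying in R·1 + t S', the R-submodule S = R·1 + R·(t ^ m f) + t ^ n S' is closed under
multiplication, hence an R-subalgebra (a crimp), and S' / S is isomorphic to R / (t ^ m) ⊕ R / (t ^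
n) (so the crimp has μ-invariant n - m and branch divisor (t ^ (2(m+n)))). Together with the
structure result for submodules with this quotient, this identifies the k-points of the space of
crimps of splitting type (m, n), 2m ≥ n, with the submodules of this shape. (The published statement
moreover asserts that this stratum is an irreducible variety of dimension n - m; that part is not
restated.) -/
theorem result {k : Type u} [Field k] [IsAlgClosed k] [CharZero k]
    (m n : ℕ) (hmn : m ≤ n) (hn : n ≤ 2 * m)
    (f : (Fin 3 → PowerSeries k)) (hf : f ∉ Submodule.span (PowerSeries k) {(1 : (Fin 3 → PowerSeries k))} ⊔ Ideal.span {(PowerSeries.X : PowerSeries k)} • (⊤ : Submodule (PowerSeries k) (Fin 3 → PowerSeries k)))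
    (S : Submodule (PowerSeries k) (Fin 3 → PowerSeries k))
    (hS : S = Submodule.span (PowerSeries k) {(1 : (Fin 3 → PowerSeries k)), ((PowerSeries.X : PowerSeries k) ^ m) • f} ⊔
        Ideal.span {(PowerSeries.X : PowerSeries k) ^ n} • (⊤ : Submodule (PowerSeries k) (Fin 3 → PowerSeries k))) :
    (∀ x ∈ S, ∀ y ∈ S, x * y ∈ S) ∧
    Nonempty (((Fin 3 → PowerSeries k) ⧸ S) ≃ₗ[PowerSeries k]
      ((PowerSeries k ⧸ Ideal.span {(PowerSeries.X : PowerSeries k) ^ m}) × (PowerSeries k ⧸ Ideal.span {(PowerSeries.X : PowerSeries k) ^ n}))) := by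
  subst hS
  constructor
  · rw [K804.Span.mul_closed_iff, K804.Span.mem_span_pair_sup]
    refine ⟨0, 0, ((PowerSeries.X : PowerSeries k) ^ (2 * m - n)) • (f * f), ?_⟩
    rw [smul_mul_smul_comm, ← pow_add]
    simp only [zero_smul, zero_add]
    rw [smul_smul, ← pow_add]
    congr 2
    omega
  · obtain ⟨ψ, hψ, hker, hψf⟩ := K804.Triple.exists_psi f hf
    have h := K804.Triple.ker_eq ψ hψ hker ((PowerSeries.X : PowerSeries k) ^ m)
      ((PowerSeries.X : PowerSeries k) ^ n) (pow_dvd_pow _ hmn) f hψf
    rw [← h]
    exact ⟨LinearMap.quotKerEquivOfSurjective _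
      ((K804.Triple.red_surjective _ _).comp hψ)⟩

end Groth.Agent.S13886
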