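import Groth.Statements.S13887
-- import your own Groth.Agent.* helpers here
import Groth.Agent.SurfBl.K805.Cok

set_option autoImplicit false
universe u
open AlgebraicGeometry CategoryTheory CategoryTheory.Limits
open SurfBl

namespace Groth.Agent.S13887

/-- Let k be an algebraically closed field of characteristic zero, X a k-scheme smooth of relative
dimension 2 over k, s a closed point of X, β : B → X a blowing up of X in the reduced point s, E ⊆ B
the exceptional divisor with ideal I_E (the inverse image ideal of the ideal of s), V a finite
locally free O_B-module and e : β^*β_*V → V the counit of the pull-back / direct-image adjunction.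
If l ≥ 0 is such that (I_E ^ l ⊗ V)|_E, which is V|_E ⊗ O_E(l), is generated by its global sections,
then the cokernel of e is annihilated by I_E ^ l: over every affine open U of B, every section of
I_E ^ l over U multiplies every section of coker(e) over U to zero. -/
theorem result
    {k : Type u} [Field k] [IsAlgClosed k] [CharZero k]
    (X : Scheme.{u}) [X.Over (Spec (CommRingCat.of k))] [SmoothOfRelativeDimension 2 (X ↘ Spec (CommRingCat.of k))]
    (s : X) (hs : IsClosed ({s} : Set X))
    {B : Scheme.{u}} (β : B ⟶ X) (hβ : BlowUp.IsBlowUp β (Scheme.IdealSheafData.vanishingIdeal ⟨{s}, hs⟩))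
    (V : B.Modules) (hV : FlatMod.IsFinLocFree V) (l : ℕ)
    (hgen : Curv2.IsGloballyGenerated ((Scheme.Modules.pullback (BlowUp.exceptional β (Scheme.IdealSheafData.vanishingIdeal ⟨{s}, hs⟩)).subschemeι).obj
      (CohB1.tensorMod (ClSub.idealMod ((BlowUp.exceptional β (Scheme.IdealSheafData.vanishingIdeal ⟨{s}, hs⟩)) ^ l)) V))) :
    ∀ (U : B.affineOpens)
      (q : (cokernel ((Scheme.Modules.pullbackPushforwardAdjunction β).counit.app V)).presheaf.obj (Opposite.op U.1))
      (a : Γ(B, U.1)), a ∈ ((BlowUp.exceptional β (Scheme.IdealSheafData.vanishingIdeal ⟨{s}, hs⟩)) ^ l).ideal U → a • q = 0 := by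
  have S := K805.Main.setup_smooth (X ↘ Spec (CommRingCat.of k)) ⟨{s}, hs⟩ (Set.finite_singleton s)
    (fun t ht => by
      have h : t = s := ht
      subst h
      exact hs) hβ
  exact K805.Cok.smul_cokernel_eq_zero S hV l hgen

end Groth.Agent.S13887
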