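import Groth.Statements.S13898
import Groth.Agent.EtTr.K806.TrDual
import Groth.Agent.Flat2B.DualCurve
import Groth.Agent.S3111
import Groth.Agent.S0133

set_option autoImplicit false
universe u
open CategoryTheory CategoryTheory.Limits AlgebraicGeometry
open EtTr

namespace Groth.Agent.S13898

/-- Let `k` be an algebraically closed field, `n` an integer invertible in `k`, `X` a smooth curve over
`k` (smooth of relative dimension one, separated and of finite type), `j : X → Xbar` an open
immersion into a scheme proper over `k`, and `u : X' → X` a finite etale morphism; let `Tr` be the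
finite flat trace family. Computing compactly supported cohomology of a sheaf `G` on `X` as
`H^1(Xbar, j_! G)`, the map induced by `Tr_u` on `H^1_c`, from `H^1(Xbar, j_!(u_* u^* ℤ/n))` (which
is `H^1_c(X', ℤ/n)`) to `H^1(Xbar, j_! ℤ/n) = H^1_c(X, ℤ/n)`, is (non-canonically) isomorphic to the
transpose of the pullback `u^* : H^1(X, ℤ/n) → H^1(X', u^* ℤ/n)`: there are additive isomorphisms of
`H^1_c(X, ℤ/n)` with the `ℤ/n`-dual of `H^1(X, ℤ/n)` and of `H^1_c(X', ℤ/n)` with the `ℤ/n`-dual of
`H^1(X', u^* ℤ/n)` under which the trace becomes precomposition with `u^*`. (The published statement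
takes `u` a tamely ramified etale covering; tameness is not used by the first published proof and is
not assumed here. Exactness of `u^*` on abelian sheaves, which always holds, is carried as an
instance hypothesis.) -/
theorem result (Tr : EtTr.TrData EtTr.FinFlat.{u})
    (hTr : EtTr.IsFinFlatTrace Tr) (k : Type u) [Field k] [IsAlgClosed k] (n : ℕ) (hn : IsUnit (n : k))
    {X X' Xbar : Scheme.{u}} (p : X ⟶ Spec (CommRingCat.of k)) [SmoothOfRelativeDimension 1 p]
    [IsSeparated p] [QuasiCompact p] (j : X ⟶ Xbar) [IsOpenImmersion j]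
    (pbar : Xbar ⟶ Spec (CommRingCat.of k)) [IsProper pbar] (hj : j ≫ pbar = p)
    (u : X' ⟶ X) [IsFinite u] [Etale u] [PreservesFiniteLimits (EtCoh.pull u)] :
    ∃ (α : EtCoh.H Xbar ((EtShriek.extZero j).obj (EtCoh.const X (ZMod n))) 1 ≃+
        (EtCoh.H X (EtCoh.const X (ZMod n)) 1 →+ ZMod n))
      (α' : EtCoh.H Xbar ((EtShriek.extZero j).obj
          ((EtCoh.push u).obj ((EtCoh.pull u).obj (EtCoh.const X (ZMod n))))) 1 ≃+
        (EtCoh.H X' ((EtCoh.pull u).obj (EtCoh.const X (ZMod n))) 1 →+ ZMod n)),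
      ∀ x, α (EtTr.trHc Tr u (EtTr.finFlat_of u) j (EtCoh.const X (ZMod n)) 1 x) =
        (α' x).comp (EtCore.Hpull u (EtCoh.const X (ZMod n)) 1) := by
  subst hj
  have hn' : (n : k) ≠ 0 := hn.ne_zero
  have hn0 : 0 < n := Nat.pos_of_ne_zero (by rintro rfl; exact hn' (by simp))
  have : NeZero n := ⟨hn0.ne'⟩
  obtain ⟨K, tr', -, hb, ⟨i⟩⟩ := Groth.Agent.Sga4B.DualFinal.duality pbar j 1 n hn0
    (Groth.Agent.Flat2B.DualCurve.pkg_P k n hn')
  have : CompactSpace X := QuasiCompact.compactSpace_of_compactSpace (j ≫ pbar)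
  have : QuasiSeparatedSpace X :=
    (quasiSeparated_iff_quasiSeparatedSpace (j ≫ pbar)).1 inferInstance
  have : CompactSpace X' := QuasiCompact.compactSpace_of_compactSpace (u ≫ j ≫ pbar)
  have : QuasiSeparatedSpace X' :=
    (quasiSeparated_iff_quasiSeparatedSpace (u ≫ j ≫ pbar)).1 inferInstance
  have fin : ∀ (W : X.Etale) (_ : CompactSpace W.left) (_ : QuasiSeparatedSpace W.left),
      Finite ((EtCoh.HF Xbar 1).obj ((EtShriek.extZero j).obj
        (Groth.Agent.Sga4B.DualShape.LS n W))) := fun W _ _ =>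
    Groth.Agent.S3111.result pbar j n hn0 (Groth.Agent.Sga4B.DualShape.LS n W)
      (Groth.Agent.S0133.result X W (ZMod n)) (Groth.Agent.Sga4B.JFComp.killedBy_LS n W) 1
  obtain ⟨α, α', h⟩ := K806.TrDual.exists_equiv j hn0 u (q := 1) (m := 1) (N := 2) rfl tr'
    (hb 1 1 rfl) i (fin _ ‹CompactSpace X› ‹QuasiSeparatedSpace X›)
    (fin _ ‹CompactSpace X'› ‹QuasiSeparatedSpace X'›)
  refine ⟨α, α', fun x => ?_⟩
  have hT := K806.TrCounit.tr_eq Tr hTr u (EtTr.finFlat_of u)
  unfold EtTr.trHc
  rw [hT]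
  exact h x

end Groth.Agent.S13898
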