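import Groth.Statements.S13899
import Groth.Agent.S13898
import Groth.Agent.EtTr.K806.KillCover
import Groth.Agent.EtTr.K806.TrDual
import Groth.Agent.Flat2B.DualCurve
import Groth.Agent.S3111
import Groth.Agent.S0133

set_option autoImplicit false
universe u
open CategoryTheory CategoryTheory.Limits AlgebraicGeometry
open EtTr

namespace Groth.Agent.S13899

/-- Let `k` be an algebraically closed field, `n` an integer invertible in `k`, `X` a connected smooth
curve over `k` (smooth of relative dimension one, separated, of finite type, connected), `j : X →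
Xbar` an open immersion into a scheme proper over `k`, and `Tr` the finite flat trace family. Then
there exist a connected scheme `X'` and a finite etale surjective `u : X' → X` of degree dividing a
power of `n` such that the trace `Tr_u : H^1_c(X', ℤ/n) → H^1_c(X, ℤ/n)`, computed on the
compactification as `H^1(Xbar, j_!(u_* u^* ℤ/n)) → H^1(Xbar, j_! ℤ/n)`, is zero. (The published
statement produces moreover a Galois covering; this row asks only for a connected finite etale
surjective covering of degree dividing a power of `n`.) -/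
theorem result
    (Tr : EtTr.TrData EtTr.FinFlat.{u}) (hTr : EtTr.IsFinFlatTrace Tr)
    (k : Type u) [Field k] [IsAlgClosed k] (n : ℕ) (hn : IsUnit (n : k))
    {X Xbar : Scheme.{u}} (p : X ⟶ Spec (CommRingCat.of k)) [SmoothOfRelativeDimension 1 p]
    [IsSeparated p] [QuasiCompact p] [ConnectedSpace X]
    (j : X ⟶ Xbar) [IsOpenImmersion j] (pbar : Xbar ⟶ Spec (CommRingCat.of k)) [IsProper pbar]
    (hj : j ≫ pbar = p) :
    ∃ (X' : Scheme.{u}) (u : X' ⟶ X) (h₁ : IsFinite u) (h₂ : Etale u) (h₃ : Flat u)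
      (h₄ : LocallyOfFinitePresentation u),
      Surjective u ∧ ConnectedSpace X' ∧ (∃ m : ℕ, ∀ x : X, u.finrank x ∣ n ^ m) ∧
        ∀ y, EtTr.trHc Tr u ⟨h₁, h₃, h₄⟩ j (EtCoh.const X (ZMod n)) 1 y = 0 := by
  have hj' := hj
  subst hj
  have hn' : (n : k) ≠ 0 := hn.ne_zero
  have hn0 : 0 < n := Nat.pos_of_ne_zero (by rintro rfl; exact hn' (by simp))
  have : NeZero n := ⟨hn0.ne'⟩
  obtain ⟨K, tr', -, hb, ⟨i⟩⟩ := Groth.Agent.Sga4B.DualFinal.duality pbar j 1 n hn0
    (Groth.Agent.Flat2B.DualCurve.pkg_P k n hn')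
  have : CompactSpace X := QuasiCompact.compactSpace_of_compactSpace (j ≫ pbar)
  have : QuasiSeparatedSpace X :=
    (quasiSeparated_iff_quasiSeparatedSpace (j ≫ pbar)).1 inferInstance
  have : IsLocallyNoetherian X := LocallyOfFiniteType.isLocallyNoetherian (j ≫ pbar)
  have fin : ∀ (W : X.Etale) (_ : CompactSpace W.left) (_ : QuasiSeparatedSpace W.left),
      Finite ((EtCoh.HF Xbar 1).obj ((EtShriek.extZero j).obj
        (Groth.Agent.Sga4B.DualShape.LS n W))) := fun W _ _ =>
    Groth.Agent.S3111.result pbar j n hn0 (Groth.Agent.Sga4B.DualShape.LS n W)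
      (Groth.Agent.S0133.result X W (ZMod n)) (Groth.Agent.Sga4B.JFComp.killedBy_LS n W) 1
  have := fin (EtCoh.top X) ‹CompactSpace X› ‹QuasiSeparatedSpace X›
  have f0 := Groth.Agent.Etdl.H834.FibDual.finite_ext j (N := 2) tr' (q := 1) (m := 1) rfl
    (hb 1 1 rfl) i hn0 (EtCoh.top X)
  have f1 : Finite (EtCoh.H X (EtCoh.const X (ZMod n)) 1) :=
    Finite.of_equiv _ (K806.TrDual.tE (EtCoh.const X (ZMod n)) 1).toEquiv
  obtain ⟨A, hA, hc, hs, ⟨m, hm⟩, hkill⟩ := K806.KillCover.exists_cover X n hn0 f1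
  have : Etale A.hom := A.prop
  have := Groth.Agent.Etcore.HQ.pfl A.hom
  obtain ⟨α, α', h⟩ := Groth.Agent.S13898.result Tr hTr k n hn (j ≫ pbar) j pbar rfl A.hom
  refine ⟨A.left, A.hom, hA, inferInstance, inferInstance, inferInstance, ⟨hs⟩, hc, ⟨m, hm⟩,
    fun y => ?_⟩
  apply α.injective
  rw [map_zero]
  refine (h y).trans ?_
  ext e
  have h0 : EtCore.Hpull A.hom (EtCoh.const X (ZMod n)) 1 e = 0 := hkill e
  change α' y (EtCore.Hpull A.hom (EtCoh.const X (ZMod n)) 1 e) = 0
  rw [h0, map_zero]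

end Groth.Agent.S13899
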