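import Groth.Statements.S13900
import Groth.Agent.GIT.K610.MgEnd

set_option autoImplicit false
universe u
open CategoryTheory AlgebraicGeometry
open GIT

namespace Groth.Agent.S13900

/-- Coarse moduli over the integers: let g ≥ 2 and let M_g be the moduli problem over Spec ℤ of curves
of genus g (smooth proper families every geometric fibre of which is an irreducible curve of genus
g, modulo isomorphism over the base, pulled back by fibre product), tested on Noetherian schemes.
Then a coarse moduli scheme exists: a scheme M over Spec ℤ and a morphism φ from M_g to the functor
of points of M, bijective on points with values in every algebraically closed field and universal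
for morphisms from M_g to representable functors; and M has a point over every algebraically closed
field (curves of every genus exist in every characteristic, so M is not the empty scheme). (The
published statement adds that M is quasi-projective over the complement of every prime in Spec ℤ;
that clause is not part of this row.) -/
theorem result (g : ℕ) (hg : 2 ≤ g) :
    ∃ (M : Over (Spec (CommRingCat.of (ULift.{u} ℤ))))
      (φ : (ModFun.Mg (Spec (CommRingCat.of (ULift.{u} ℤ))) g).Hom (fun T => IsNoetherian T.left) M),
      ModFun.IsCoarseModuli (fun T => IsNoetherian T.left) (ModFun.Mg (Spec (CommRingCat.of (ULift.{u} ℤ))) g) M φ ∧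
        ∀ (Ω : Type u) [Field Ω] [IsAlgClosed Ω] (t : Spec (CommRingCat.of Ω) ⟶ Spec (CommRingCat.of (ULift.{u} ℤ))),
          Nonempty (Over.mk t ⟶ M) :=
  K610.Mg.exists_coarse_of_AgInput hg (K610.MgStack.stackInputs _ hg) (K610.MgKM.km _) K610.MgEnd.nodeA0
    K507.NodeB.main (𝟙 _) (K610.MgEnd.agInput g hg) (K610.MgEnd.nonempty_fiber _ g)

end Groth.Agent.S13900
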