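import Groth.Statements.S13903
import Mathlib.RingTheory.Etale.Field
import Mathlib.RingTheory.Adjoin.PowerBasis
import Mathlib.FieldTheory.IsAlgClosed.AlgebraicClosure
import Mathlib.FieldTheory.Separable

set_option autoImplicit false
universe u
open EtAlg

namespace Groth.Agent.S13903

open Polynomial TensorProduct

theorem formallyUnramified (K L : Type u) [Field K] [CommRing L] [Algebra K L]
    [Algebra.IsSeparable K L] : Algebra.FormallyUnramified K L := by
  rw [Algebra.FormallyUnramified.iff_comp_injective]
  intro B _ _ I hI f₁ f₂ e
  ext x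
  have hm : f₁ x - f₂ x ∈ I := by
    simpa [Ideal.Quotient.mk_eq_mk_iff_sub_mem] using AlgHom.congr_fun e x
  have h := Polynomial.eval_add_of_sq_eq_zero ((minpoly K x).map (algebraMap K B)) (f₂ x)
    (f₁ x - f₂ x) (show (f₁ x - f₂ x) ^ 2 ∈ ⊥ from hI ▸ Ideal.pow_mem_pow hm 2)
  simp only [add_sub_cancel, eval_map_algebraMap, aeval_algHom_apply, minpoly.aeval, map_zero,
    derivative_map, zero_add] at h
  have hu : IsUnit (aeval x (derivative (minpoly K x))) := by
    obtain ⟨a, b, hab⟩ := Algebra.IsSeparable.isSeparable K x
    have := congrArg (aeval x) hab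
    rw [map_add, map_mul, map_mul, minpoly.aeval, mul_zero, zero_add, map_one] at this
    exact IsUnit.of_mul_eq_one_right _ this
  rwa [eq_comm, (hu.map f₂).mul_right_eq_zero, sub_eq_zero] at h

/-- there is a family of `dim L` pairwise different homomorphisms into an algebraic closure. -/
theorem exists_family (K L : Type u) [Field K] [CommRing L]
    [Algebra K L] [Module.Finite K L] [Algebra.IsSeparable K L] :
    ∃ (ι : Type u) (_ : Fintype ι) (σ : ι → (L →ₐ[K] AlgebraicClosure K)),
      Function.Injective σ ∧ Fintype.card ι = Module.finrank K L := by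
  classical
  have := formallyUnramified K L
  have := Algebra.FormallyEtale.of_formallyUnramified_of_field K L
  let Ω := AlgebraicClosure K
  let N := Ω ⊗[K] L
  have h1 : Algebra.FormallyEtale Ω N := inferInstance
  have h2 : Algebra.EssFiniteType Ω N := inferInstance
  have h3 : Module.Finite Ω N := inferInstance
  have h4 : IsArtinianRing N := isArtinian_of_tower Ω inferInstance
  have h5 : Finite (PrimeSpectrum N) := inferInstance
  let e : N ≃ₐ[Ω] (PrimeSpectrum N → Ω) := Algebra.FormallyEtale.equivPiOfIsSepClosed Ω N
  have _ : Fintype (PrimeSpectrum N) := Fintype.ofFinite _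
  let σ' : PrimeSpectrum N → (N →ₐ[Ω] Ω) := fun p => (Pi.evalAlgHom Ω (fun _ => Ω) p).comp e.toAlgHom
  refine ⟨PrimeSpectrum N, inferInstance, fun p => ((σ' p).restrictScalars K).comp
    Algebra.TensorProduct.includeRight, ?_, ?_⟩
  · intro p q hpq
    have h6 : σ' p = σ' q := by
      apply Algebra.TensorProduct.ext
      · ext
      · exact hpq
    by_contra hne
    have h7 := DFunLike.congr_fun h6 (e.symm (Pi.single p 1))
    change e (e.symm (Pi.single p 1)) p = e (e.symm (Pi.single p 1)) q at h7
    rw [e.apply_symm_apply, Pi.single_eq_same, Pi.single_eq_of_ne (Ne.symm hne)] at h7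
    exact one_ne_zero h7
  · have h8 : Module.finrank Ω N = Module.finrank K L := Module.finrank_baseChange
    rw [← h8, LinearEquiv.finrank_eq e.toLinearEquiv, Module.finrank_fintype_fun_eq_card]

theorem adjoin_eq_top (K L : Type u) [Field K] [CommRing L]
    [Algebra K L] [Module.Finite K L] (ι : Type u) [Fintype ι] (σ : ι → (L →ₐ[K] AlgebraicClosure K))
    (hcard : Fintype.card ι = Module.finrank K L) (x : L)
    (hx : Function.Injective (fun i => σ i x)) : Algebra.adjoin K ({x} : Set L) = ⊤ := by
  classical
  have hint : IsIntegral K x := Algebra.IsIntegral.isIntegral x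
  have h1 : Module.finrank K (Algebra.adjoin K ({x} : Set L)) = (minpoly K x).natDegree := by
    rw [(Algebra.adjoin.powerBasis hint).finrank, Algebra.adjoin.powerBasis_dim]
  have h2 : Fintype.card ι ≤ (minpoly K x).natDegree := by
    have hne : (minpoly K x).map (algebraMap K (AlgebraicClosure K)) ≠ 0 :=
      Polynomial.map_ne_zero (minpoly.ne_zero hint)
    have h3 : (Finset.univ.image (fun i => σ i x)) ⊆
        ((minpoly K x).map (algebraMap K (AlgebraicClosure K))).roots.toFinset := by
      intro y hy
      obtain ⟨i, -, rfl⟩ := Finset.mem_image.1 hy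
      rw [Multiset.mem_toFinset, mem_roots hne, IsRoot, eval_map_algebraMap, aeval_algHom_apply,
        minpoly.aeval, map_zero]
    have h4 := Finset.card_le_card h3
    rw [Finset.card_image_of_injective _ hx, Finset.card_univ] at h4
    calc Fintype.card ι ≤ _ := h4
      _ ≤ _ := Multiset.toFinset_card_le _
      _ ≤ _ := Polynomial.card_roots' _
      _ = _ := Polynomial.natDegree_map _
  have h5 : Module.finrank K L ≤ Module.finrank K (Algebra.adjoin K ({x} : Set L)) := by
    rw [h1, ← hcard]; exact h2
  have h6 : Subalgebra.toSubmodule (Algebra.adjoin K ({x} : Set L)) = ⊤ :=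
    Submodule.eq_top_of_finrank_eq (le_antisymm (Submodule.finrank_le _) h5)
  exact Algebra.toSubmodule_eq_top.1 h6

/-- Let K be a field and L a finite-dimensional reduced commutative K-algebra of dimension d all of
whose elements are separable over K, generated as a K-algebra by z and t. In any finite set of at
least d^(4d) elements of K there is an element c such that c • z + t generates L as a K-algebra.
(The published statement does not require separability; for K of characteristic p and L obtained by
adjoining p-th roots of two independent indeterminates, L is a reduced finite K-algebra generated by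
two elements with no single generator, so separability over K is assumed here, as the counting in
the published proof requires.) -/
theorem result (K L : Type u) [Field K] [CommRing L]
    [Algebra K L] [Module.Finite K L] [IsReduced L] [Algebra.IsSeparable K L] (z t : L)
    (hgen : Algebra.adjoin K ({z, t} : Set L) = ⊤) (S : Finset K)
    (hS : Module.finrank K L ^ (4 * Module.finrank K L) ≤ S.card) :
    ∃ c ∈ S, Algebra.adjoin K ({c • z + t} : Set L) = ⊤ := by
  classical
  obtain ⟨ι, _, σ, hσ, hcard⟩ := exists_family K L
  let Ω := AlgebraicClosure K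
  let β : ι × ι → Ω := fun p => (σ p.2 t - σ p.1 t) / (σ p.1 z - σ p.2 z)
  let bad : Finset Ω := (Finset.univ.offDiag : Finset (ι × ι)).image β
  have hbad : bad.card < (S.image (algebraMap K Ω)).card := by
    rw [Finset.card_image_of_injective _ (algebraMap K Ω).injective]
    refine lt_of_lt_of_le ?_ hS
    have h1 : bad.card ≤ Module.finrank K L * Module.finrank K L - Module.finrank K L := by
      refine Finset.card_image_le.trans ?_
      rw [Finset.offDiag_card, Finset.card_univ, hcard]
    refine lt_of_le_of_lt h1 ?_
    rcases Nat.eq_zero_or_pos (Module.finrank K L) with h0 | h0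
    · rw [h0]; simp
    · have h2 : Module.finrank K L * Module.finrank K L ≤
          Module.finrank K L ^ (4 * Module.finrank K L) := by
        rw [← pow_two]
        exact Nat.pow_le_pow_right h0 (by omega)
      have h3 : 0 < Module.finrank K L * Module.finrank K L := Nat.mul_pos h0 h0
      omega
  obtain ⟨c', hc', hc'bad⟩ := Finset.exists_mem_notMem_of_card_lt_card hbad
  obtain ⟨c, hc, rfl⟩ := Finset.mem_image.1 hc'
  refine ⟨c, hc, adjoin_eq_top K L ι σ hcard _ ?_⟩
  intro i j hij
  simp only [map_add, map_smul] at hij
  by_contra hne
  by_cases hz : σ i z = σ j z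
  · rw [hz, add_right_inj] at hij
    apply hne
    apply hσ
    apply AlgHom.ext_of_adjoin_eq_top hgen
    intro x hx
    rcases hx with rfl | hx
    · exact hz
    · rw [Set.mem_singleton_iff] at hx; rw [hx]; exact hij
  · apply hc'bad
    refine Finset.mem_image.2 ⟨(i, j), ?_, ?_⟩
    · rw [Finset.mem_offDiag]; exact ⟨Finset.mem_univ _, Finset.mem_univ _, hne⟩
    · change (σ j t - σ i t) / (σ i z - σ j z) = _
      have hz' : σ i z - σ j z ≠ 0 := sub_ne_zero.2 hz
      rw [div_eq_iff hz']
      rw [Algebra.smul_def, Algebra.smul_def] at hij
      linear_combination -hij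

end Groth.Agent.S13903
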