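import Groth.Statements.S13904
import Mathlib.RingTheory.Ideal.GoingUp
import Mathlib.RingTheory.KrullDimension.Polynomial
import Mathlib.RingTheory.KrullDimension.Field
import Mathlib.RingTheory.KrullDimension.NonZeroDivisors
-- import your own Groth.Agent.* helpers here

set_option autoImplicit false
universe u
open CAlg

namespace Groth.Agent.S13904

theorem ringKrullDim_le_of_isIntegral (R S : Type u) [CommRing R] [CommRing S]
    [Algebra R S] [Algebra.IsIntegral R S] : ringKrullDim S ≤ ringKrullDim R := by
  refine Order.krullDim_le_of_strictMono (PrimeSpectrum.comap (algebraMap R S)) ?_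
  intro P Q hPQ
  exact Ideal.IsIntegral.comap_lt_comap (R := R) (I := P.asIdeal) (J := Q.asIdeal) hPQ

theorem comap_eq_bot {k : Type u} [Field k] {r : ℕ} {A : Type u} [CommRing A]
    [Algebra (MvPolynomial (Fin r) k) A] [Algebra.IsIntegral (MvPolynomial (Fin r) k) A]
    (p : Ideal A) (hdim : ringKrullDim (A ⧸ p) = r) :
    p.comap (algebraMap (MvPolynomial (Fin r) k) A) = ⊥ := by
  by_contra hne
  obtain ⟨f, hf, hf0⟩ := Submodule.exists_mem_ne_zero_of_ne_bot hne
  have h1 : ringKrullDim (A ⧸ p) ≤
      ringKrullDim (MvPolynomial (Fin r) k ⧸ p.comap (algebraMap (MvPolynomial (Fin r) k) A)) :=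
    ringKrullDim_le_of_isIntegral _ _
  have h2 : ringKrullDim (MvPolynomial (Fin r) k ⧸ p.comap (algebraMap (MvPolynomial (Fin r) k) A)) ≤
      ringKrullDim (MvPolynomial (Fin r) k ⧸ Ideal.span {f}) := by
    refine ringKrullDim_le_of_surjective (Ideal.Quotient.factor
      ((Ideal.span_singleton_le_iff_mem _).mpr hf)) ?_
    exact Ideal.Quotient.factor_surjective _
  have h3 := ringKrullDim_quotient_succ_le_of_nonZeroDivisor (mem_nonZeroDivisors_of_ne_zero hf0)
  have h4 : ringKrullDim (MvPolynomial (Fin r) k) = r := by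
    rw [MvPolynomial.ringKrullDim_of_isNoetherianRing, ringKrullDim_eq_zero_of_field]
    simp
  rw [h4] at h3
  rw [hdim] at h1
  have h5 : (r : WithBot ℕ∞) + 1 ≤ r := le_trans (by gcongr; exact h1.trans h2) h3
  have h6 : ((r + 1 : ℕ) : WithBot ℕ∞) ≤ ((r : ℕ) : WithBot ℕ∞) := by exact_mod_cast h5
  have h7 : r + 1 ≤ r := by exact_mod_cast h6
  omega

/-- Let k be a field, A a commutative k-algebra and φ : k[x_1, …, x_r] → A a finite k-algebra map such
that A/p has Krull dimension r for every minimal prime p of A (an equidimensional affine scheme of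
dimension r, finite over affine r-space). Then for every minimal prime p of A and every prime q of
k[x_1, …, x_r] there is a prime P ⊇ p of A with φ⁻¹(P) = q: the finite map restricted to each
irreducible component of Spec A is surjective onto affine r-space. (The published statement is over
an algebraically closed field with φ a Noether normalisation; this row allows any field and any
finite k-algebra map φ.) -/
theorem result (k : Type u) [Field k] (r : ℕ)
    (A : Type u) [CommRing A] [Algebra k A] (φ : MvPolynomial (Fin r) k →ₐ[k] A)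
    (hφ : φ.toRingHom.Finite)
    (hdim : ∀ p ∈ minimalPrimes A, ringKrullDim (A ⧸ p) = r)
    (p : Ideal A) (hp : p ∈ minimalPrimes A)
    (q : Ideal (MvPolynomial (Fin r) k)) [q.IsPrime] :
    ∃ P : Ideal A, P.IsPrime ∧ p ≤ P ∧ P.comap φ.toRingHom = q := by
  algebraize [φ.toRingHom]
  haveI : Algebra.IsIntegral (MvPolynomial (Fin r) k) A := Algebra.IsIntegral.of_finite _ _
  have h1 : p.comap (algebraMap (MvPolynomial (Fin r) k) A) = ⊥ := comap_eq_bot p (hdim p hp)
  haveI := hp.1.1
  obtain ⟨Q, hQ, hQ', hQ''⟩ := Ideal.exists_ideal_over_prime_of_isIntegral_of_isPrime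
    (R := MvPolynomial (Fin r) k) (S := A) q p (by rw [h1]; exact bot_le)
  exact ⟨Q, hQ', hQ, hQ''⟩

end Groth.Agent.S13904
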