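import Groth.Statements.S13905
import Mathlib.LinearAlgebra.FiniteDimensional.Lemmas

set_option autoImplicit false
universe u
open ProjGeom

namespace Groth.Agent.S13905

open W4c1etcurveeff3b in
/-- Hyperplanes of projective n-space in general position, in linear-algebra form (V of dimension n + 1
over a field k, hyperplanes as n-dimensional subspaces, points as nonzero vectors): if S is a finite
set of hyperplanes in general position with at least n members and H is a hyperplane containing none
of the lines cut out by n members of S, then S with H added is again in general position. (The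
published statement is for hyperplanes of P^n_k and closed points; a closed point lying on n + 1
members is automatically one of the rational points cut out by n of them, so the condition on
nonzero vectors of V is the same condition.) -/
theorem result (k V : Type u) [Field k]
    [AddCommGroup V] [Module k V] [DecidableEq (Submodule k V)] (n : ℕ) (S : Finset (Submodule k V))
    (hS : InGeneralPosition k V n S) (hn : n ≤ S.card) (H : Submodule k V)
    (hH : Module.finrank k H = n)
    (havoid : ∀ T ⊆ S, T.card = n → ¬ (T.inf id ≤ H)) :
    InGeneralPosition k V n (insert H S) := by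
  obtain ⟨hV, hmem, hdim, hpt⟩ := hS
  haveI : FiniteDimensional k V := FiniteDimensional.of_finrank_pos (by omega)
  by_cases hHS : H ∈ S
  · rw [Finset.insert_eq_of_mem hHS]
    exact ⟨hV, hmem, hdim, hpt⟩
  -- no intersection of at most `n` members of `S` is contained in `H`
  have havoid' : ∀ T ⊆ S, T.card ≤ n → ¬ (T.inf id ≤ H) := fun T hT hTn hle => by
    obtain ⟨T', hTT', hT'S, hT'c⟩ := Finset.exists_subsuperset_card_eq hT hTn hn
    exact havoid T' hT'S hT'c ((Finset.inf_mono hTT').trans hle)
  have hinf : ∀ W : Submodule k V, ¬ (W ≤ H) →
      Module.finrank k ↥(H ⊓ W) + 1 = Module.finrank k W := fun W hW => by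
    have h1 := Submodule.finrank_sup_add_finrank_inf_eq H W
    have h2 : Module.finrank k H < Module.finrank k ↥(H ⊔ W) :=
      Submodule.finrank_lt_finrank_of_lt (left_lt_sup.mpr hW)
    have h3 : Module.finrank k ↥(H ⊔ W) ≤ n + 1 := hV ▸ Submodule.finrank_le _
    omega
  have hsub : ∀ T ⊆ insert H S, H ∉ T → T ⊆ S := fun T hT hHT x hx =>
    (Finset.mem_insert.mp (hT hx)).resolve_left (fun h => hHT (h ▸ hx))
  have hsub' : ∀ T ⊆ insert H S, T.erase H ⊆ S := fun T hT x hx =>
    (Finset.mem_insert.mp (hT (Finset.mem_of_mem_erase hx))).resolve_left
      (Finset.ne_of_mem_erase hx)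
  refine ⟨hV, ?_, ?_, ?_⟩
  · intro H' hH'
    rcases Finset.mem_insert.mp hH' with rfl | h
    · exact hH
    · exact hmem _ h
  · intro T hT hTn
    by_cases hHT : H ∈ T
    · have hc := Finset.card_erase_add_one hHT
      have hT' := hsub' T hT
      have h1 := hdim _ hT' (by omega)
      have h2 := hinf _ (havoid' _ hT' (by omega))
      have h3 : T.inf id = H ⊓ (T.erase H).inf id := by
        conv_lhs => rw [← Finset.insert_erase hHT, Finset.inf_insert]
        rfl
      rw [h3]
      omega
    · exact hdim T (hsub T hT hHT) hTn
  · intro v hv T hT hvT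
    by_cases hHT : H ∈ T
    · have hc := Finset.card_erase_add_one hHT
      have hT' := hsub' T hT
      have h1 := hpt v hv _ hT' (fun H' hH' => hvT H' (Finset.mem_of_mem_erase hH'))
      by_contra hcon
      have h2 : (T.erase H).card = n := by omega
      have h3 := hdim _ hT' h2.le
      have h4 := hinf _ (havoid' _ hT' h2.le)
      have h5 : Module.finrank k ↥(H ⊓ (T.erase H).inf id) = 0 := by omega
      have h6 : v ∈ H ⊓ (T.erase H).inf id :=
        ⟨hvT H hHT, Submodule.mem_finsetInf.mpr
          (fun H' hH' => hvT H' (Finset.mem_of_mem_erase hH'))⟩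
      rw [Submodule.finrank_eq_zero.mp h5] at h6
      exact hv ((Submodule.mem_bot k).mp h6)
    · exact hpt v hv T (hsub T hT hHT) hvT

end Groth.Agent.S13905
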