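import Groth.Statements.S13907
import Groth.Agent.ProjGeom.K806.HypMeet

set_option autoImplicit false
universe u
open ProjGeom

namespace Groth.Agent.S13907

/-- Over an algebraically closed field k, let C be a nonempty irreducible closed subset of the
underlying space of projective n-space with homogeneous coordinates x_0, …, x_n, and for i ≤ n let
L_i be the linear subspace where x_1, …, x_i vanish. Then there is an index i ≤ n with C ∩ L_i
nonempty and of topological Krull dimension zero. -/
theorem result (k : Type u) [Field k]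
    [IsAlgClosed k] (n : ℕ) (C : Set (ProjectiveSpectrum (CohB1.polyGrading n k)))
    (hC : IsClosed C) (hirr : IsIrreducible C) :
    ∃ i : ℕ, i ≤ n ∧
      (C ∩ ProjectiveSpectrum.zeroLocus (CohB1.polyGrading n k)
          ((fun j : Fin (n + 1) => (MvPolynomial.X j : MvPolynomial (Fin (n + 1)) k)) ''
            {j : Fin (n + 1) | 1 ≤ j.val ∧ j.val ≤ i})).Nonempty ∧
      topologicalKrullDim ↥(C ∩ ProjectiveSpectrum.zeroLocus (CohB1.polyGrading n k)
          ((fun j : Fin (n + 1) => (MvPolynomial.X j : MvPolynomial (Fin (n + 1)) k)) ''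
            {j : Fin (n + 1) | 1 ≤ j.val ∧ j.val ≤ i})) = 0 := by
  classical
  let S : ℕ → Set (Fin (n + 1)) := fun i => {j | 1 ≤ j.val ∧ j.val ≤ i}
  let L : ℕ → Set (ProjectiveSpectrum (CohB1.polyGrading n k)) := fun i =>
    ProjectiveSpectrum.zeroLocus (CohB1.polyGrading n k)
      ((fun j : Fin (n + 1) => (MvPolynomial.X j : MvPolynomial (Fin (n + 1)) k)) '' S i)
  have hL0 : L 0 = Set.univ := by
    have : S 0 = ∅ := by
      ext j
      simp only [S, Set.mem_setOf_eq, Set.mem_empty_iff_false, iff_false]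
      omega
    simp only [L, this, Set.image_empty]
    exact ProjectiveSpectrum.zeroLocus_empty _
  have hLs : ∀ i (hi : i + 1 < n + 1), L (i + 1) = L i ∩ ProjectiveSpectrum.zeroLocus
      (CohB1.polyGrading n k) {(MvPolynomial.X ⟨i + 1, hi⟩ : MvPolynomial (Fin (n + 1)) k)} := by
    intro i hi
    have : S (i + 1) = S i ∪ {⟨i + 1, hi⟩} := by
      ext j
      simp only [S, Set.mem_setOf_eq, Set.mem_union, Set.mem_singleton_iff, Fin.ext_iff]
      omega
    simp only [L, this, Set.image_union, Set.image_singleton, ProjectiveSpectrum.zeroLocus_union]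
  have hclosed : ∀ i, IsClosed (C ∩ L i) := fun i =>
    hC.inter (ProjectiveSpectrum.isClosed_zeroLocus _ _)
  have hLn : topologicalKrullDim ↥(C ∩ L n) ≤ 0 := by
    refine K806.HypMeet.dim_le_zero _ (hclosed n) 0 ?_
    rw [Set.eq_empty_iff_forall_notMem]
    rintro z ⟨⟨-, hz⟩, hz0⟩
    obtain ⟨j, hj⟩ := K806.HypMeet.exists_X_notMem z
    apply hj
    rw [ProjectiveSpectrum.mem_zeroLocus] at hz hz0
    by_cases hj0 : j = 0
    · rw [hj0]
      exact hz0 rfl
    · refine hz ⟨j, ⟨?_, ?_⟩, rfl⟩
      · exact Nat.one_le_iff_ne_zero.mpr (fun h => hj0 (Fin.ext h))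
      · omega
  have hex : ∃ i, topologicalKrullDim ↥(C ∩ L i) ≤ 0 := ⟨n, hLn⟩
  have hi := Nat.find_spec hex
  have hin : Nat.find hex ≤ n := Nat.find_min' hex hLn
  have hne : (C ∩ L (Nat.find hex)).Nonempty := by
    rcases Nat.eq_zero_or_eq_succ_pred (Nat.find hex) with h0 | hs
    · rw [h0, hL0, Set.inter_univ]
      exact hirr.nonempty
    · set m := (Nat.find hex).pred with hm
      have hmlt : m < Nat.find hex := by omega
      have hmin := Nat.find_min hex hmlt
      have hs' : Nat.find hex = m + 1 := hs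
      rw [hs', hLs m (by omega), ← Set.inter_assoc]
      by_contra hcon
      exact hmin (K806.HypMeet.dim_le_zero _ (hclosed m) ⟨m + 1, by omega⟩
        (Set.not_nonempty_iff_eq_empty.mp hcon))
  refine ⟨Nat.find hex, hin, hne, le_antisymm hi ?_⟩
  obtain ⟨z, hz⟩ := hne
  have : Nonempty (TopologicalSpace.IrreducibleCloseds ↥(C ∩ L (Nat.find hex))) :=
    ⟨⟨closure {⟨z, hz⟩}, isIrreducible_singleton.closure, isClosed_closure⟩⟩
  exact Order.krullDim_nonneg

end Groth.Agent.S13907
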