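import Groth.Statements.S13911
import Mathlib.RingTheory.MvPolynomial.EulerIdentity
import Mathlib.Algebra.MvPolynomial.Funext
import Mathlib.Algebra.MvPolynomial.NoZeroDivisors
import Mathlib.LinearAlgebra.Matrix.ToLinearEquiv

set_option autoImplicit false
universe u
open PlaneConic

namespace Groth.Agent.S13911

theorem linForm (k : Type u) [Field k] (z : MvPolynomial (Fin 3) k) (hz : z.IsHomogeneous 1) :
    ∃ a : Fin 3 → k, ∀ v, MvPolynomial.eval v z = a 0 * v 0 + a 1 * v 1 + a 2 * v 2 := by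
  have h0 : ∀ i, ∃ c : k, MvPolynomial.pderiv i z = MvPolynomial.C c := fun i => by
    have h1 : (MvPolynomial.pderiv i z).IsHomogeneous 0 := hz.pderiv
    have h2 := (MvPolynomial.totalDegree_zero_iff_isHomogeneous _).mpr h1
    exact ⟨_, (MvPolynomial.totalDegree_eq_zero_iff_eq_C).mp h2⟩
  choose a ha using h0
  have h3 := hz.sum_X_mul_pderiv
  rw [one_smul] at h3
  refine ⟨a, fun v => ?_⟩
  rw [← h3, map_sum]
  simp [Fin.sum_univ_three, ha, mul_comm]

theorem affForm (k : Type u) [Field k] (z : MvPolynomial (Fin 3) k) (hz : z.totalDegree = 1) :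
    ∃ (c : k) (a : Fin 3 → k), ∀ v, MvPolynomial.eval v z = c + (a 0 * v 0 + a 1 * v 1 + a 2 * v 2) := by
  have h1 := MvPolynomial.sum_homogeneousComponent z
  rw [hz, Finset.sum_range_succ, Finset.sum_range_one, MvPolynomial.homogeneousComponent_zero] at h1
  obtain ⟨a, ha⟩ := linForm k _ (MvPolynomial.homogeneousComponent_isHomogeneous 1 z)
  refine ⟨MvPolynomial.coeff 0 z, a, fun v => ?_⟩
  conv_lhs => rw [← h1]
  rw [map_add, MvPolynomial.eval_C, ha]

theorem linIndep_iff {k : Type u} [Field k] (a b : Fin 3 → k) :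
    LinearIndependent k ![a, b] ↔ ∃ i j, a i * b j - a j * b i ≠ 0 := by
  rw [LinearIndependent.pair_iff]
  constructor
  · intro h
    by_contra hcon
    push Not at hcon
    have h1 : ∀ j, b j = 0 ∧ -a j = 0 := fun j => h (b j) (-a j) (by
      ext i
      have := hcon i j
      simp only [Pi.add_apply, Pi.smul_apply, smul_eq_mul, Pi.zero_apply]
      linear_combination this)
    have h2 := h 1 0 (by
      ext i
      simp [neg_eq_zero.mp (h1 i).2])
    exact one_ne_zero h2.1
  · rintro ⟨i, j, hij⟩ s t hst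
    have e1 := congrFun hst i
    have e2 := congrFun hst j
    simp only [Pi.add_apply, Pi.smul_apply, smul_eq_mul, Pi.zero_apply] at e1 e2
    constructor
    · have : s * (a i * b j - a j * b i) = 0 := by linear_combination b j * e1 - b i * e2
      exact (mul_eq_zero.mp this).resolve_right hij
    · have : t * (a i * b j - a j * b i) = 0 := by linear_combination a i * e2 - a j * e1
      exact (mul_eq_zero.mp this).resolve_right hij

/-- A binary quadratic form over an algebraically closed field splits. -/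
theorem binary {k : Type u} [Field k] [IsAlgClosed k] [CharZero k] (α β γ : k) :
    ∃ a b c d : k, a * c = α ∧ a * d + b * c = 2 * β ∧ b * d = γ := by
  by_cases hα : α = 0
  · exact ⟨0, 1, 2 * β, γ, by rw [hα]; ring, by ring, by ring⟩
  · obtain ⟨r, hr⟩ := IsAlgClosed.exists_pow_nat_eq (β ^ 2 - α * γ) (n := 2) (by norm_num)
    refine ⟨α, β + r, 1, (β - r) / α, by ring, ?_, ?_⟩
    · field_simp
      ring
    · field_simp
      linear_combination -hr

theorem split_two {k : Type u} [Field k] [IsAlgClosed k] [CharZero k]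
    (Q : Matrix (Fin 3) (Fin 3) k) (hQ : Q.IsSymm) (u : Fin 3 → k) (hu : u 2 = 1)
    (hQu : Q.mulVec u = 0) : ∃ a b : Fin 3 → k, ∀ i j, 2 * Q i j = a i * b j + a j * b i := by
  obtain ⟨a, b, c, d, h1, h2, h3⟩ := binary (Q 0 0) (Q 0 1) (Q 1 1)
  have e0 := congrFun hQu 0
  have e1 := congrFun hQu 1
  have e2 := congrFun hQu 2
  simp only [Matrix.mulVec, dotProduct, Fin.sum_univ_three, hu, mul_one, Pi.zero_apply] at e0 e1 e2
  have s10 : Q 1 0 = Q 0 1 := hQ.apply 0 1
  have s20 : Q 2 0 = Q 0 2 := hQ.apply 0 2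
  have s21 : Q 2 1 = Q 1 2 := hQ.apply 1 2
  rw [s10] at e1
  rw [s20, s21] at e2
  have q02 : Q 0 2 = -(Q 0 0 * u 0 + Q 0 1 * u 1) := by linear_combination e0
  have q12 : Q 1 2 = -(Q 0 1 * u 0 + Q 1 1 * u 1) := by linear_combination e1
  have q22 : Q 2 2 = Q 0 0 * u 0 ^ 2 + 2 * Q 0 1 * u 0 * u 1 + Q 1 1 * u 1 ^ 2 := by
    rw [q02, q12] at e2
    linear_combination e2
  refine ⟨![a, b, -(a * u 0 + b * u 1)], ![c, d, -(c * u 0 + d * u 1)], fun i j => ?_⟩
  fin_cases i <;> fin_cases j <;>
    simp only [Fin.zero_eta, Fin.mk_one, Fin.reduceFinMk, Matrix.cons_val_zero, Matrix.cons_val_one,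
      Matrix.cons_val, s10, s20, s21, q02, q12, q22]
  · linear_combination (-2) * h1
  · linear_combination (-1) * h2
  · linear_combination 2 * u 0 * h1 + u 1 * h2
  · linear_combination (-1) * h2
  · linear_combination (-2) * h3
  · linear_combination 2 * u 1 * h3 + u 0 * h2
  · linear_combination 2 * u 0 * h1 + u 1 * h2
  · linear_combination 2 * u 1 * h3 + u 0 * h2
  · linear_combination (-2) * u 0 ^ 2 * h1 - 2 * u 0 * u 1 * h2 - 2 * u 1 ^ 2 * h3

theorem split {k : Type u} [Field k] [IsAlgClosed k] [CharZero k]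
    (Q : Matrix (Fin 3) (Fin 3) k) (hQ : Q.IsSymm) (hdet : Q.det = 0) :
    ∃ a b : Fin 3 → k, ∀ i j, 2 * Q i j = a i * b j + a j * b i := by
  obtain ⟨u, hu, hQu⟩ := Matrix.exists_mulVec_eq_zero_iff.mpr hdet
  obtain ⟨i, hi⟩ := Function.ne_iff.mp hu
  let σ : Equiv.Perm (Fin 3) := Equiv.swap i 2
  have h1 : (Q.submatrix σ σ).mulVec ((u i)⁻¹ • (u ∘ σ)) = 0 := by
    rw [Matrix.mulVec_smul, Matrix.submatrix_mulVec_equiv]
    have : (u ∘ σ) ∘ σ.symm = u := by ext x; simp
    rw [this, hQu]
    ext x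
    simp
  obtain ⟨a, b, hab⟩ := split_two (Q.submatrix σ σ) (hQ.submatrix σ) ((u i)⁻¹ • (u ∘ σ))
    (by simp only [Pi.smul_apply, Function.comp_apply, smul_eq_mul]
        rw [Equiv.swap_apply_right]
        exact inv_mul_cancel₀ hi) h1
  refine ⟨a ∘ σ.symm, b ∘ σ.symm, fun x y => ?_⟩
  have := hab (σ.symm x) (σ.symm y)
  simpa using this

theorem eval_quad {k : Type u} [Field k] (Q : Matrix (Fin 3) (Fin 3) k) (v : Fin 3 → k) :
    MvPolynomial.eval v (∑ i : Fin 3, ∑ j : Fin 3, Q i j • (MvPolynomial.X i * MvPolynomial.X j)) =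
      ∑ i : Fin 3, ∑ j : Fin 3, Q i j * (v i * v j) := by
  simp [MvPolynomial.smul_eval]

theorem eval_lin {k : Type u} [Field k] (a : Fin 3 → k) (v : Fin 3 → k) :
    MvPolynomial.eval v (∑ i : Fin 3, a i • MvPolynomial.X i) = a 0 * v 0 + a 1 * v 1 + a 2 * v 2 := by
  simp [MvPolynomial.smul_eval, Fin.sum_univ_three]

theorem coeffs_of_eval {k : Type u} [Field k] [CharZero k] (Q : Matrix (Fin 3) (Fin 3) k)
    (hQ : Q.IsSymm) (a b : Fin 3 → k)
    (h : ∀ v : Fin 3 → k, ∑ i : Fin 3, ∑ j : Fin 3, Q i j * (v i * v j) =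
      (a 0 * v 0 + a 1 * v 1 + a 2 * v 2) * (b 0 * v 0 + b 1 * v 1 + b 2 * v 2)) :
    ∀ i j, 2 * Q i j = a i * b j + a j * b i := by
  have s10 : Q 1 0 = Q 0 1 := hQ.apply 0 1
  have s20 : Q 2 0 = Q 0 2 := hQ.apply 0 2
  have s21 : Q 2 1 = Q 1 2 := hQ.apply 1 2
  have t0 := h ![1, 0, 0]
  have t1 := h ![0, 1, 0]
  have t2 := h ![0, 0, 1]
  have t01 := h ![1, 1, 0]
  have t02 := h ![1, 0, 1]
  have t12 := h ![0, 1, 1]
  simp [Fin.sum_univ_three, s10, s20, s21] at t0 t1 t2 t01 t02 t12
  intro i j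
  fin_cases i <;> fin_cases j <;>
    simp only [Fin.zero_eta, Fin.mk_one, Fin.reduceFinMk, s10, s20, s21]
  · linear_combination 2 * t0
  · linear_combination t01 - t0 - t1
  · linear_combination t02 - t0 - t2
  · linear_combination t01 - t0 - t1
  · linear_combination 2 * t1
  · linear_combination t12 - t1 - t2
  · linear_combination t02 - t0 - t2
  · linear_combination t12 - t1 - t2
  · linear_combination 2 * t2

theorem eval_of_coeffs {k : Type u} [Field k] [CharZero k] (Q : Matrix (Fin 3) (Fin 3) k)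
    (a b : Fin 3 → k) (h : ∀ i j, 2 * Q i j = a i * b j + a j * b i) (v : Fin 3 → k) :
    ∑ i : Fin 3, ∑ j : Fin 3, Q i j * (v i * v j) =
      (a 0 * v 0 + a 1 * v 1 + a 2 * v 2) * (b 0 * v 0 + b 1 * v 1 + b 2 * v 2) := by
  have h2 : (2 : k) ≠ 0 := two_ne_zero
  apply mul_left_cancel₀ h2
  simp only [Fin.sum_univ_three]
  linear_combination v 0 * v 0 * h 0 0 + v 0 * v 1 * h 0 1 + v 0 * v 2 * h 0 2 + v 1 * v 0 * h 1 0 +
    v 1 * v 1 * h 1 1 + v 1 * v 2 * h 1 2 + v 2 * v 0 * h 2 0 + v 2 * v 1 * h 2 1 + v 2 * v 2 * h 2 2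

theorem det_of_coeffs {k : Type u} [Field k] [CharZero k] (Q : Matrix (Fin 3) (Fin 3) k)
    (a b : Fin 3 → k) (h : ∀ i j, 2 * Q i j = a i * b j + a j * b i) : Q.det = 0 := by
  have h8 : (8 : k) ≠ 0 := by norm_num
  apply (mul_eq_zero.mp _).resolve_left h8
  rw [Matrix.det_fin_three]
  have : ∀ x y z : k, 8 * (x * y * z) = (2 * x) * (2 * y) * (2 * z) := fun x y z => by ring
  simp only [mul_add, mul_sub, this, h]
  ring

theorem rank_two {k : Type u} [Field k] [CharZero k] (Q : Matrix (Fin 3) (Fin 3) k)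
    (a b : Fin 3 → k) (h : ∀ i j, 2 * Q i j = a i * b j + a j * b i)
    (hab : ∃ i j, a i * b j - a j * b i ≠ 0) : Q.rank = 2 := by
  apply le_antisymm
  · have h1 : Q = (Matrix.of fun (i : Fin 3) (j : Fin 2) => ![a i, b i] j) *
        (Matrix.of fun (i : Fin 2) (j : Fin 3) => ![b j / 2, a j / 2] i) := by
      ext i j
      simp only [Matrix.mul_apply, Matrix.of_apply, Fin.sum_univ_two, Matrix.cons_val_zero,
        Matrix.cons_val_one]
      linear_combination (1 / 2 : k) * h i j
    rw [h1]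
    exact (Matrix.rank_mul_le_left _ _).trans (Matrix.rank_le_width _)
  · obtain ⟨i, j, hij⟩ := hab
    have h1 : (Q.submatrix ![i, j] ![i, j]).det ≠ 0 := by
      intro h0
      rw [Matrix.det_fin_two] at h0
      simp only [Matrix.submatrix_apply, Matrix.cons_val_zero, Matrix.cons_val_one] at h0
      apply hij
      have h3 : (a i * b j - a j * b i) ^ 2 = 0 := by
        linear_combination (-4) * h0 - (2 * Q j i) * h i j - (a i * b j + a j * b i) * h j i +
          (2 * Q j j) * h i i + (2 * a i * b i) * h j j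
      exact pow_eq_zero_iff (two_ne_zero) |>.mp h3
    have h2 := Matrix.rank_of_det_ne_zero h1
    rw [Fintype.card_fin] at h2
    exact h2.symm.le.trans (Matrix.rank_submatrix_le _ _ _)

theorem rank_one' {k : Type u} [Field k] [CharZero k] (Q : Matrix (Fin 3) (Fin 3) k)
    (hQ0 : Q ≠ 0) (a b : Fin 3 → k) (h : ∀ i j, Q i j = a i * b j) : Q.rank = 1 := by
  apply le_antisymm
  · have h1 : Q = Matrix.vecMulVec a b := by
      ext i j
      rw [Matrix.vecMulVec_apply, h]
    rw [h1]
    exact Matrix.rank_vecMulVec_le _ _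
  · obtain ⟨i, j, hij⟩ : ∃ i j, Q i j ≠ 0 := by
      by_contra hcon
      push Not at hcon
      exact hQ0 (by ext i j; exact hcon i j)
    have h1 : (Q.submatrix ![i] ![j]).det ≠ 0 := by
      rw [Matrix.det_fin_one]
      exact hij
    have h2 := Matrix.rank_of_det_ne_zero h1
    rw [Fintype.card_fin] at h2
    exact h2.symm.le.trans (Matrix.rank_submatrix_le _ _ _)

theorem dependent {k : Type u} [Field k] [IsAlgClosed k] [CharZero k] (Q : Matrix (Fin 3) (Fin 3) k)
    (hQ0 : Q ≠ 0) (a b : Fin 3 → k) (h : ∀ i j, 2 * Q i j = a i * b j + a j * b i)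
    (hab : ∀ i j, a i * b j - a j * b i = 0) :
    Q.rank = 1 ∧ ∃ c : Fin 3 → k, ∀ i j, 2 * Q i j = c i * c j + c j * c i := by
  have h2 : (2 : k) ≠ 0 := two_ne_zero
  have h1 : ∀ i j, Q i j = a i * b j := fun i j => by
    apply mul_left_cancel₀ h2
    linear_combination h i j - hab i j
  refine ⟨rank_one' Q hQ0 a b h1, ?_⟩
  obtain ⟨i0, hi0⟩ : ∃ i, a i ≠ 0 := by
    by_contra hcon
    push Not at hcon
    exact hQ0 (by ext i j; rw [h1, hcon i, zero_mul]; rfl)
  obtain ⟨r, hr⟩ := IsAlgClosed.exists_pow_nat_eq (b i0 / a i0) (n := 2) (by norm_num)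
  refine ⟨fun i => r * a i, fun i j => ?_⟩
  have hb : ∀ j, b j = r ^ 2 * a j := fun j => by
    rw [hr]
    field_simp
    linear_combination hab i0 j
  rw [h1, hb j]
  ring



/-- For an algebraically closed field k of characteristic zero, a nonzero symmetric 3 × 3 matrix Q over
k and the ternary quadratic form f = Σ Q_ij X_i X_j in k[X_0, X_1, X_2] (the equation of a plane
conic): (1) f is irreducible iff det Q ≠ 0; (2) the conic has a singular point, that is a nonzero
vector at which all partial derivatives of f vanish, iff det Q = 0 (so smooth conics are exactly the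
irreducible ones); (3) f is the product of two linearly independent linear forms (two distinct
lines) iff rank Q = 2; (4) f is the square of a linear form (a double line) iff rank Q = 1. -/
theorem result (k : Type u) [Field k] [IsAlgClosed k] [CharZero k]
    (Q : Matrix (Fin 3) (Fin 3) k) (hQ : Q.IsSymm) (hQ0 : Q ≠ 0) (f : MvPolynomial (Fin 3) k)
    (hf : f = ∑ i : Fin 3, ∑ j : Fin 3, Q i j • (MvPolynomial.X i * MvPolynomial.X j)) :
    (Irreducible f ↔ Q.det ≠ 0) ∧
    ((∃ u : Fin 3 → k, u ≠ 0 ∧ ∀ i : Fin 3, MvPolynomial.eval u (MvPolynomial.pderiv i f) = 0) ↔ Q.det = 0) ∧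
    ((∃ a b : Fin 3 → k, LinearIndependent k ![a, b] ∧
        f = (∑ i : Fin 3, a i • MvPolynomial.X i) * (∑ i : Fin 3, b i • MvPolynomial.X i)) ↔ Q.rank = 2) ∧
    ((∃ a : Fin 3 → k, f = (∑ i : Fin 3, a i • MvPolynomial.X i) ^ 2) ↔ Q.rank = 1) := by
  have hev : ∀ v, MvPolynomial.eval v f = ∑ i : Fin 3, ∑ j : Fin 3, Q i j * (v i * v j) := fun v => by
    rw [hf, eval_quad]
  have hfac : ∀ a b : Fin 3 → k, (∀ i j, 2 * Q i j = a i * b j + a j * b i) →
      f = (∑ i : Fin 3, a i • MvPolynomial.X i) * (∑ i : Fin 3, b i • MvPolynomial.X i) :=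
    fun a b hab => MvPolynomial.funext fun v => by
      rw [hev, map_mul, eval_lin, eval_lin, eval_of_coeffs Q a b hab]
  have hfac' : ∀ a b : Fin 3 → k,
      f = (∑ i : Fin 3, a i • MvPolynomial.X i) * (∑ i : Fin 3, b i • MvPolynomial.X i) →
      (∀ i j, 2 * Q i j = a i * b j + a j * b i) :=
    fun a b hab => coeffs_of_eval Q hQ a b fun v => by
      rw [← hev, hab, map_mul, eval_lin, eval_lin]
  have hrk3 : Q.det ≠ 0 → Q.rank = 3 := fun h => by
    simpa using Matrix.rank_of_det_ne_zero h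
  refine ⟨⟨?_, ?_⟩, ?_, ⟨?_, ?_⟩, ⟨?_, ?_⟩⟩
  · intro hirr hdet
    obtain ⟨a, b, hab⟩ := split Q hQ hdet
    have hnu : ∀ a : Fin 3 → k, ¬ IsUnit (∑ i : Fin 3, a i • MvPolynomial.X i :
        MvPolynomial (Fin 3) k) := fun a hu => by
      have := hu.map (MvPolynomial.eval (0 : Fin 3 → k))
      rw [eval_lin] at this
      simp at this
    rcases hirr.isUnit_or_isUnit (hfac a b hab) with h | h
    · exact hnu _ h
    · exact hnu _ h
  · intro hdet
    have hfh : f.IsHomogeneous 2 := by
      rw [hf]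
      refine MvPolynomial.IsHomogeneous.sum _ _ _ fun i _ => MvPolynomial.IsHomogeneous.sum _ _ _
        fun j _ => ?_
      rw [MvPolynomial.smul_eq_C_mul]
      have h1 : (MvPolynomial.X i * MvPolynomial.X j : MvPolynomial (Fin 3) k).IsHomogeneous 2 :=
        (MvPolynomial.isHomogeneous_X _ _).mul (MvPolynomial.isHomogeneous_X _ _)
      have h2 := (MvPolynomial.isHomogeneous_C (Fin 3) (Q i j)).mul h1
      rwa [zero_add] at h2
    have hf0 : f ≠ 0 := by
      intro h0
      apply hQ0
      have := hfac' 0 0 (by rw [h0]; simp)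
      ext i j
      simpa using this i j
    have hdeg : f.totalDegree = 2 := hfh.totalDegree hf0
    have hunit : ∀ g : MvPolynomial (Fin 3) k, g ≠ 0 → g.totalDegree = 0 → IsUnit g :=
      fun g hg hgd => by
        rw [MvPolynomial.totalDegree_eq_zero_iff_eq_C] at hgd
        rw [hgd]
        have hc : MvPolynomial.coeff 0 g ≠ 0 := fun hc => hg (by rw [hgd, hc, map_zero])
        exact (isUnit_iff_ne_zero.mpr hc).map MvPolynomial.C
    constructor
    · intro hu
      obtain ⟨c, hc⟩ := (hu.map (MvPolynomial.eval (0 : Fin 3 → k)))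
      have h1 := hev 0
      rw [← hc] at h1
      simp at h1
    · intro g h hgh
      have hg0 : g ≠ 0 := fun h0 => hf0 (by rw [hgh, h0, zero_mul])
      have hh0 : h ≠ 0 := fun h0 => hf0 (by rw [hgh, h0, mul_zero])
      have hd := MvPolynomial.totalDegree_mul_of_isDomain hg0 hh0
      rw [← hgh, hdeg] at hd
      by_cases hgd : g.totalDegree = 0
      · exact Or.inl (hunit g hg0 hgd)
      by_cases hhd : h.totalDegree = 0
      · exact Or.inr (hunit h hh0 hhd)
      exfalso
      obtain ⟨c, a, ha⟩ := affForm k g (by omega)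
      obtain ⟨d, b, hb⟩ := affForm k h (by omega)
      apply hdet
      have hcd : c * d = 0 := by
        have h1 := hev 0
        rw [hgh, map_mul, ha, hb] at h1
        simpa using h1
      apply det_of_coeffs Q a b (coeffs_of_eval Q hQ a b fun v => ?_)
      have e1 := hev v
      have e2 := hev (-v)
      rw [hgh, map_mul, ha, hb] at e1 e2
      have e3 : ∑ i : Fin 3, ∑ j : Fin 3, Q i j * ((-v) i * (-v) j) =
        ∑ i : Fin 3, ∑ j : Fin 3, Q i j * (v i * v j) := by simp
      rw [e3] at e2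
      simp only [Pi.neg_apply] at e2
      have h2 : (2 : k) ≠ 0 := two_ne_zero
      apply mul_left_cancel₀ h2
      linear_combination 2 * hcd - e1 - e2
  · have hder : ∀ (u : Fin 3 → k) (i : Fin 3), MvPolynomial.eval u (MvPolynomial.pderiv i f) =
        2 * Q.mulVec u i := fun u i => by
      have s10 : Q 1 0 = Q 0 1 := hQ.apply 0 1
      have s20 : Q 2 0 = Q 0 2 := hQ.apply 0 2
      have s21 : Q 2 1 = Q 1 2 := hQ.apply 1 2
      rw [hf]
      simp only [Fin.sum_univ_three, map_add, Derivation.map_smul, Derivation.leibniz, smul_eq_mul,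
        MvPolynomial.pderiv_X, MvPolynomial.smul_eval, map_mul, MvPolynomial.eval_X,
        Matrix.mulVec, dotProduct]
      fin_cases i <;> simp [s10, s20, s21] <;> ring
    rw [← Matrix.exists_mulVec_eq_zero_iff]
    constructor
    · rintro ⟨u, hu, h⟩
      refine ⟨u, hu, ?_⟩
      ext i
      have := h i
      rw [hder] at this
      simpa using this
    · rintro ⟨u, hu, h⟩
      refine ⟨u, hu, fun i => ?_⟩
      rw [hder, h]
      simp
  · rintro ⟨a, b, hab, hfab⟩
    exact rank_two Q a b (hfac' a b hfab) ((linIndep_iff a b).mp hab)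
  · intro hr
    have hdet : Q.det = 0 := by
      by_contra hne
      rw [hrk3 hne] at hr
      omega
    obtain ⟨a, b, hab⟩ := split Q hQ hdet
    refine ⟨a, b, ?_, hfac a b hab⟩
    rw [linIndep_iff]
    by_contra hcon
    push Not at hcon
    have := (dependent Q hQ0 a b hab hcon).1
    omega
  · rintro ⟨a, ha⟩
    rw [pow_two] at ha
    exact (dependent Q hQ0 a a (hfac' a a ha) (fun i j => by ring)).1
  · intro hr
    have hdet : Q.det = 0 := by
      by_contra hne
      rw [hrk3 hne] at hr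
      omega
    obtain ⟨a, b, hab⟩ := split Q hQ hdet
    have hcon : ∀ i j, a i * b j - a j * b i = 0 := by
      by_contra hne
      push Not at hne
      have := rank_two Q a b hab hne
      omega
    obtain ⟨c, hc⟩ := (dependent Q hQ0 a b hab hcon).2
    refine ⟨c, ?_⟩
    rw [pow_two]
    exact hfac c c hc

end Groth.Agent.S13911
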