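import Groth.Statements.S13912
import Mathlib.RingTheory.MvPolynomial.EulerIdentity
import Mathlib.Algebra.MvPolynomial.Funext

set_option autoImplicit false
universe u
open PlaneConic

namespace Groth.Agent.S13912

theorem linForm (k : Type u) [Field k] (z : MvPolynomial (Fin 3) k) (hz : z.IsHomogeneous 1) :
    ∃ f : (Fin 3 → k) →ₗ[k] k, ∀ v, MvPolynomial.eval v z = f v := by
  have h0 : ∀ i, ∃ c : k, MvPolynomial.pderiv i z = MvPolynomial.C c := fun i => by
    have h1 : (MvPolynomial.pderiv i z).IsHomogeneous 0 := hz.pderiv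
    have h2 := (MvPolynomial.totalDegree_zero_iff_isHomogeneous _).mpr h1
    exact ⟨_, (MvPolynomial.totalDegree_eq_zero_iff_eq_C).mp h2⟩
  choose a ha using h0
  have h3 := hz.sum_X_mul_pderiv
  rw [one_smul] at h3
  refine ⟨∑ i : Fin 3, a i • LinearMap.proj i, fun v => ?_⟩
  rw [← h3, map_sum, LinearMap.sum_apply]
  refine Finset.sum_congr rfl fun i _ => ?_
  rw [ha i]
  simp [mul_comm]

/-- A linear functional vanishing on the kernel of another one is a multiple of it. -/
theorem eq_mul_of_ker {k V : Type u} [Field k] [AddCommGroup V] [Module k V] (l f : V →ₗ[k] k)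
    (h : ∀ v, l v = 0 → f v = 0) : ∃ c : k, ∀ v, f v = c * l v := by
  by_cases hl : ∃ v, l v ≠ 0
  · obtain ⟨v0, hv0⟩ := hl
    refine ⟨f v0 / l v0, fun v => ?_⟩
    have h1 : l (v - (l v / l v0) • v0) = 0 := by
      simp [hv0]
    have h2 := h _ h1
    rw [map_sub, map_smul, smul_eq_mul, sub_eq_zero] at h2
    rw [h2]
    field_simp
  · push Not at hl
    exact ⟨0, fun v => by rw [h v (hl v), hl v, mul_zero]⟩

/-- A linear space of singular 2 x 2 matrices has a common kernel or a common left kernel. -/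
theorem common_kernel {k V : Type u} [Field k] [AddCommGroup V] [Module k V] (l : V →ₗ[k] k)
    (L : Fin 2 → Fin 2 → V →ₗ[k] k)
    (h : ∀ v, l v = 0 → L 0 0 v * L 1 1 v - L 0 1 v * L 1 0 v = 0) :
    (∃ y : Fin 2 → k, y ≠ 0 ∧ ∀ v, l v = 0 → ∀ a, L a 0 v * y 0 + L a 1 v * y 1 = 0) ∨
    (∃ x : Fin 2 → k, x ≠ 0 ∧ ∀ v, l v = 0 → ∀ b, L 0 b v * x 0 + L 1 b v * x 1 = 0) := by
  by_cases hz : ∀ v, l v = 0 → ∀ a b, L a b v = 0
  · left
    refine ⟨![1, 0], fun h0 => by simpa using congrFun h0 0, fun v hv a => ?_⟩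
    rw [hz v hv, hz v hv]; simp
  push Not at hz
  obtain ⟨v0, hv0, a0, b0, hab⟩ := hz
  -- rank one decomposition
  obtain ⟨u, w, hu, hw, huw⟩ : ∃ u w : Fin 2 → k, u ≠ 0 ∧ w ≠ 0 ∧ ∀ a b, L a b v0 = u a * w b := by
    have hdet := h v0 hv0
    by_cases h00 : L 0 0 v0 = 0
    · by_cases h01 : L 0 1 v0 = 0
      · refine ⟨![0, 1], ![L 1 0 v0, L 1 1 v0], fun h0 => by simpa using congrFun h0 1, ?_, ?_⟩
        · intro h0
          have e0 : L 1 0 v0 = 0 := by simpa using congrFun h0 0
          have e1 : L 1 1 v0 = 0 := by simpa using congrFun h0 1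
          apply hab
          fin_cases a0 <;> fin_cases b0 <;> assumption
        · intro a b
          fin_cases a <;> fin_cases b <;> simp [h00, h01]
      · refine ⟨![1, L 1 1 v0 / L 0 1 v0], ![L 0 0 v0, L 0 1 v0],
          fun h0 => by simpa using congrFun h0 0, fun h0 => h01 (by simpa using congrFun h0 1), ?_⟩
        intro a b
        have h10 : L 1 0 v0 = 0 := by
          rw [h00, zero_mul, zero_sub, neg_eq_zero] at hdet
          exact (mul_eq_zero.mp hdet).resolve_left h01
        fin_cases a <;> fin_cases b <;> simp [h00, h10, h01]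
    · refine ⟨![1, L 1 0 v0 / L 0 0 v0], ![L 0 0 v0, L 0 1 v0],
          fun h0 => by simpa using congrFun h0 0, fun h0 => h00 (by simpa using congrFun h0 0), ?_⟩
      intro a b
      fin_cases a <;> fin_cases b <;> simp [h00]
      field_simp
      linear_combination hdet
  have hpol : ∀ v, l v = 0 → u 1 * w 1 * L 0 0 v - u 0 * w 1 * L 1 0 v - u 1 * w 0 * L 0 1 v
      + u 0 * w 0 * L 1 1 v = 0 := fun v hv => by
    have h1 := h (v0 + v) (by rw [map_add, hv0, hv, add_zero])
    have h2 := h v hv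
    simp only [map_add, huw] at h1
    linear_combination h1 - h2
  by_cases hlam : ∀ v, l v = 0 → ∀ a, L a 0 v * w 1 - L a 1 v * w 0 = 0
  · left
    refine ⟨![w 1, - w 0], ?_, fun v hv a => ?_⟩
    · intro h0
      apply hw
      ext i
      fin_cases i
      · simpa using congrFun h0 1
      · simpa using congrFun h0 0
    · have := hlam v hv a
      simp only [Matrix.cons_val_zero, Matrix.cons_val_one]
      linear_combination this
  · right
    push Not at hlam
    obtain ⟨v1, hv1, a1, ha1⟩ := hlam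
    have hprod : ∀ v, l v = 0 → ∀ a b, (L a 0 v * w 1 - L a 1 v * w 0) *
        (u 1 * L 0 b v - u 0 * L 1 b v) = 0 := fun v hv a b => by
      have h1 := hpol v hv
      have h2 := h v hv
      fin_cases a <;> fin_cases b <;> simp only [Fin.zero_eta, Fin.mk_one]
      · linear_combination L 0 0 v * h1 - u 0 * w 0 * h2
      · linear_combination L 0 1 v * h1 - u 0 * w 1 * h2
      · linear_combination L 1 0 v * h1 - u 1 * w 0 * h2
      · linear_combination L 1 1 v * h1 - u 1 * w 1 * h2
    have hmu : ∀ v, l v = 0 → ∀ b, u 1 * L 0 b v - u 0 * L 1 b v = 0 := fun v hv b => by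
      by_contra hne
      have hm1 : ∀ b, u 1 * L 0 b v1 - u 0 * L 1 b v1 = 0 := fun b =>
        (mul_eq_zero.mp (hprod v1 hv1 a1 b)).resolve_left ha1
      have hl2 : ∀ a, L a 0 v * w 1 - L a 1 v * w 0 = 0 := fun a =>
        (mul_eq_zero.mp (hprod v hv a b)).resolve_right hne
      have h3 := hprod (v1 + v) (by rw [map_add, hv1, hv, add_zero]) a1 b
      simp only [map_add] at h3
      rcases mul_eq_zero.mp h3 with h4 | h4
      · apply ha1
        linear_combination h4 - hl2 a1
      · apply hne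
        linear_combination h4 - hm1 b
    refine ⟨![u 1, - u 0], ?_, fun v hv b => ?_⟩
    · intro h0
      apply hu
      ext i
      fin_cases i
      · simpa using congrFun h0 1
      · simpa using congrFun h0 0
    · have := hmu v hv b
      simp only [Matrix.cons_val_zero, Matrix.cons_val_one]
      linear_combination this

theorem exists_isotropic {k V : Type u} [Field k] [AddCommGroup V] [Module k V] (l l' : V →ₗ[k] k)
    (L : Fin 2 → Fin 2 → V →ₗ[k] k)
    (h : ∀ v, L 0 0 v * L 1 1 v - L 0 1 v * L 1 0 v = l v * l' v) :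
    ∃ x y : Fin 2 → k, x ≠ 0 ∧ y ≠ 0 ∧ ∀ v, x 0 * (L 0 0 v * y 0 + L 0 1 v * y 1)
      + x 1 * (L 1 0 v * y 0 + L 1 1 v * y 1) = 0 := by
  have hker : ∀ c : Fin 2 → k, ∃ x : Fin 2 → k, x ≠ 0 ∧ x 0 * c 0 + x 1 * c 1 = 0 := fun c => by
    by_cases hc : c = 0
    · exact ⟨![1, 0], fun h0 => by simpa using congrFun h0 0, by simp [hc]⟩
    · refine ⟨![c 1, - c 0], fun h0 => hc ?_, by simp; ring⟩
      ext i
      fin_cases i
      · simpa using congrFun h0 1
      · simpa using congrFun h0 0
  rcases common_kernel l L (fun v hv => by rw [h v, hv, zero_mul]) with ⟨y, hy, hy'⟩ | ⟨x, hx, hx'⟩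
  · have h1 : ∀ a, ∃ c : k, ∀ v, (y 0 • L a 0 + y 1 • L a 1) v = c * l v := fun a =>
      eq_mul_of_ker l _ (fun v hv => by
        have := hy' v hv a
        simp only [LinearMap.add_apply, LinearMap.smul_apply, smul_eq_mul]
        linear_combination this)
    choose c hc using h1
    obtain ⟨x, hx, hx'⟩ := hker c
    refine ⟨x, y, hx, hy, fun v => ?_⟩
    have e0 := hc 0 v
    have e1 := hc 1 v
    simp only [LinearMap.add_apply, LinearMap.smul_apply, smul_eq_mul] at e0 e1
    linear_combination x 0 * e0 + x 1 * e1 + l v * hx'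
  · have h1 : ∀ b, ∃ c : k, ∀ v, (x 0 • L 0 b + x 1 • L 1 b) v = c * l v := fun b =>
      eq_mul_of_ker l _ (fun v hv => by
        have := hx' v hv b
        simp only [LinearMap.add_apply, LinearMap.smul_apply, smul_eq_mul]
        linear_combination this)
    choose c hc using h1
    obtain ⟨y, hy, hy'⟩ := hker c
    refine ⟨x, y, hx, hy, fun v => ?_⟩
    have e0 := hc 0 v
    have e1 := hc 1 v
    simp only [LinearMap.add_apply, LinearMap.smul_apply, smul_eq_mul] at e0 e1
    linear_combination y 0 * e0 + y 1 * e1 + l v * hy'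



/-- Over an algebraically closed field k of characteristic zero, for a 2 × 2 matrix M of linear forms in
k[X_0, X_1, X_2] (entries homogeneous of degree 1, zero allowed), det M is a product of two linear
forms if and only if M can be brought by invertible scalar row and column operations g M h, with g,
h in GL_2(k), to a matrix with zero upper-right entry. (The published statement concerns matrices
with nonzero determinant; this row also allows determinant zero, where both sides hold.) -/
theorem result (k : Type u) [Field k] [IsAlgClosed k] [CharZero k]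
    (M : Matrix (Fin 2) (Fin 2) (MvPolynomial (Fin 3) k)) (hM : ∀ a b : Fin 2, (M a b).IsHomogeneous 1) :
    (∃ l₁ l₂ : MvPolynomial (Fin 3) k, l₁.IsHomogeneous 1 ∧ l₂.IsHomogeneous 1 ∧ M.det = l₁ * l₂) ↔
    ∃ g h : GL (Fin 2) k,
      ((MvPolynomial.C : k →+* MvPolynomial (Fin 3) k).mapMatrix g.val * M *
        (MvPolynomial.C : k →+* MvPolynomial (Fin 3) k).mapMatrix h.val) 0 1 = 0 := by
  constructor
  · rintro ⟨l₁, l₂, h₁, h₂, hdet⟩
    obtain ⟨f₁, hf₁⟩ := linForm k l₁ h₁
    obtain ⟨f₂, hf₂⟩ := linForm k l₂ h₂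
    choose L hL using fun a b => linForm k (M a b) (hM a b)
    have hdet' : ∀ v, L 0 0 v * L 1 1 v - L 0 1 v * L 1 0 v = f₁ v * f₂ v := fun v => by
      have := congrArg (MvPolynomial.eval v) hdet
      rw [Matrix.det_fin_two] at this
      simpa only [map_sub, map_mul, hL, hf₁, hf₂] using this
    obtain ⟨x, y, hx, hy, hxy⟩ := exists_isotropic f₁ f₂ L hdet'
    obtain ⟨g, hg0, hg1⟩ : ∃ g : GL (Fin 2) k, g.val 0 0 = x 0 ∧ g.val 0 1 = x 1 := by
      by_cases h0 : x 0 = 0
      · have h1 : x 1 ≠ 0 := fun h1 => hx (by ext i; fin_cases i <;> simp [h0, h1])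
        exact ⟨Matrix.GeneralLinearGroup.mkOfDetNeZero !![x 0, x 1; 1, 0] (by simp [h1]),
          by simp [Matrix.GeneralLinearGroup.mkOfDetNeZero],
          by simp [Matrix.GeneralLinearGroup.mkOfDetNeZero]⟩
      · exact ⟨Matrix.GeneralLinearGroup.mkOfDetNeZero !![x 0, x 1; 0, 1] (by simp [h0]),
          by simp [Matrix.GeneralLinearGroup.mkOfDetNeZero],
          by simp [Matrix.GeneralLinearGroup.mkOfDetNeZero]⟩
    obtain ⟨h, hh0, hh1⟩ : ∃ h : GL (Fin 2) k, h.val 0 1 = y 0 ∧ h.val 1 1 = y 1 := by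
      by_cases h1 : y 1 = 0
      · have h0 : y 0 ≠ 0 := fun h0 => hy (by ext i; fin_cases i <;> simp [h0, h1])
        exact ⟨Matrix.GeneralLinearGroup.mkOfDetNeZero !![0, y 0; 1, y 1] (by simp [h0]),
          by simp [Matrix.GeneralLinearGroup.mkOfDetNeZero],
          by simp [Matrix.GeneralLinearGroup.mkOfDetNeZero]⟩
      · exact ⟨Matrix.GeneralLinearGroup.mkOfDetNeZero !![1, y 0; 0, y 1] (by simp [h1]),
          by simp [Matrix.GeneralLinearGroup.mkOfDetNeZero],
          by simp [Matrix.GeneralLinearGroup.mkOfDetNeZero]⟩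
    refine ⟨g, h, MvPolynomial.funext fun v => ?_⟩
    have := hxy v
    simp only [Matrix.mul_apply, Fin.sum_univ_two, RingHom.mapMatrix_apply, Matrix.map_apply,
      hg0, hg1, hh0, hh1, map_add, map_mul, map_zero, MvPolynomial.eval_C, hL]
    linear_combination this
  · rintro ⟨g, h, hgh⟩
    set N := (MvPolynomial.C : k →+* MvPolynomial (Fin 3) k).mapMatrix g.val * M *
        (MvPolynomial.C : k →+* MvPolynomial (Fin 3) k).mapMatrix h.val with hN
    have hNhom : ∀ a b, (N a b).IsHomogeneous 1 := fun a b => by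
      simp only [hN, Matrix.mul_apply, Fin.sum_univ_two, RingHom.mapMatrix_apply, Matrix.map_apply]
      have hC : ∀ c : k, (MvPolynomial.C c : MvPolynomial (Fin 3) k).IsHomogeneous 0 :=
        fun c => MvPolynomial.isHomogeneous_C _ _
      have h1 : ∀ (c d : k) (i j : Fin 2), (MvPolynomial.C c * M i j * MvPolynomial.C d :
          MvPolynomial (Fin 3) k).IsHomogeneous 1 := fun c d i j =>
        ((hC c).mul (hM i j)).mul (hC d)
      simp only [add_mul]
      exact ((h1 _ _ _ _).add (h1 _ _ _ _)).add ((h1 _ _ _ _).add (h1 _ _ _ _))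
    have hdet : N.det = MvPolynomial.C g.val.det * M.det * MvPolynomial.C h.val.det := by
      rw [hN, Matrix.det_mul, Matrix.det_mul, RingHom.map_det, RingHom.map_det]
    have hg : g.val.det ≠ 0 := (Matrix.isUnits_det_units g).ne_zero
    have hh : h.val.det ≠ 0 := (Matrix.isUnits_det_units h).ne_zero
    rw [Matrix.det_fin_two, hgh, zero_mul, sub_zero] at hdet
    have hgC : (MvPolynomial.C g.val.det⁻¹ : MvPolynomial (Fin 3) k) * MvPolynomial.C g.val.det = 1 := by
      rw [← map_mul, inv_mul_cancel₀ hg, map_one]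
    have hhC : (MvPolynomial.C h.val.det⁻¹ : MvPolynomial (Fin 3) k) * MvPolynomial.C h.val.det = 1 := by
      rw [← map_mul, inv_mul_cancel₀ hh, map_one]
    refine ⟨MvPolynomial.C g.val.det⁻¹ * N 0 0, MvPolynomial.C h.val.det⁻¹ * N 1 1, ?_, ?_, ?_⟩
    · exact (MvPolynomial.isHomogeneous_C _ _ : (MvPolynomial.C g.val.det⁻¹ :
        MvPolynomial (Fin 3) k).IsHomogeneous 0).mul (hNhom 0 0)
    · exact (MvPolynomial.isHomogeneous_C _ _ : (MvPolynomial.C h.val.det⁻¹ :
        MvPolynomial (Fin 3) k).IsHomogeneous 0).mul (hNhom 1 1)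
    · linear_combination (-(MvPolynomial.C g.val.det⁻¹ * MvPolynomial.C h.val.det⁻¹ :
        MvPolynomial (Fin 3) k)) * hdet - M.det * hgC - (MvPolynomial.C g.val.det⁻¹ *
        MvPolynomial.C g.val.det * M.det) * hhC

end Groth.Agent.S13912
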