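import Groth.Statements.S13913
import Mathlib.RingTheory.MvPolynomial.EulerIdentity

set_option autoImplicit false
universe u
open PlaneCubic

namespace Groth.Agent.S13913

theorem linForm (k : Type u) [Field k] (z : MvPolynomial (Fin 3) k) (hz : z.IsHomogeneous 1) :
    ∃ a : Fin 3 → k, z = ∑ i : Fin 3, MvPolynomial.C (a i) * MvPolynomial.X i ∧
      ∀ i, MvPolynomial.pderiv i z = MvPolynomial.C (a i) := by
  have h0 : ∀ i, ∃ c : k, MvPolynomial.pderiv i z = MvPolynomial.C c := fun i => by
    have h1 : (MvPolynomial.pderiv i z).IsHomogeneous 0 := hz.pderiv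
    have h2 := (MvPolynomial.totalDegree_zero_iff_isHomogeneous _).mpr h1
    exact ⟨_, (MvPolynomial.totalDegree_eq_zero_iff_eq_C).mp h2⟩
  choose a ha using h0
  refine ⟨a, ?_, ha⟩
  have h3 := hz.sum_X_mul_pderiv
  rw [one_smul] at h3
  refine h3.symm.trans (Finset.sum_congr rfl fun i _ => ?_)
  rw [ha i, mul_comm]



/-- Over an algebraically closed field of characteristic zero, for linearly independent linear forms z₁,
z₂ and quadratic forms q₁, q₂ in three variables and a nonzero common zero p of z₁ and z₂, the point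
p is a singular point of the plane cubic z₁q₂ − z₂q₁ = 0 (all three partial derivatives vanish at p)
if and only if q₁ and q₂ both vanish at p. -/
theorem result (k : Type u) [Field k] [IsAlgClosed k] [CharZero k]
    (z₁ z₂ q₁ q₂ : MvPolynomial (Fin 3) k) (hz₁ : z₁.IsHomogeneous 1) (hz₂ : z₂.IsHomogeneous 1)
    (hq₁ : q₁.IsHomogeneous 2) (hq₂ : q₂.IsHomogeneous 2) (hind : LinearIndependent k ![z₁, z₂])
    (p : Fin 3 → k) (hp : p ≠ 0) (hp₁ : MvPolynomial.eval p z₁ = 0) (hp₂ : MvPolynomial.eval p z₂ = 0) :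
    (∀ i : Fin 3, MvPolynomial.eval p (MvPolynomial.pderiv i (z₁ * q₂ - z₂ * q₁)) = 0) ↔
      (MvPolynomial.eval p q₁ = 0 ∧ MvPolynomial.eval p q₂ = 0) := by
  obtain ⟨a, ha, ha'⟩ := linForm k z₁ hz₁
  obtain ⟨b, hb, hb'⟩ := linForm k z₂ hz₂
  have key : ∀ i : Fin 3, MvPolynomial.eval p (MvPolynomial.pderiv i (z₁ * q₂ - z₂ * q₁)) =
      a i * MvPolynomial.eval p q₂ - b i * MvPolynomial.eval p q₁ := fun i => by
    simp only [map_sub, Derivation.leibniz, smul_eq_mul, map_add, map_mul, hp₁, hp₂, ha', hb',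
      MvPolynomial.eval_C]
    ring
  constructor
  · intro h
    have hrel : MvPolynomial.eval p q₂ • z₁ + (- MvPolynomial.eval p q₁) • z₂ = 0 := by
      rw [ha, hb, MvPolynomial.smul_eq_C_mul, MvPolynomial.smul_eq_C_mul, Finset.mul_sum,
        Finset.mul_sum, ← Finset.sum_add_distrib]
      refine Finset.sum_eq_zero fun i _ => ?_
      have := h i
      rw [key i] at this
      rw [← mul_assoc, ← mul_assoc, ← map_mul, ← map_mul, ← add_mul, ← map_add]
      have h2 : MvPolynomial.eval p q₂ * a i + -MvPolynomial.eval p q₁ * b i = 0 := by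
        linear_combination this
      rw [h2]; simp
    have := LinearIndependent.pair_iff.mp hind _ _ hrel
    exact ⟨neg_eq_zero.mp this.2, this.1⟩
  · rintro ⟨h1, h2⟩ i
    rw [key i, h1, h2]; simp

end Groth.Agent.S13913
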