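import Groth.Statements.S13915
import Groth.Agent.BlowUp.K483.ExcChi
import Groth.Agent.Sga2.ThickCoh
import Groth.Agent.Sga5.ProjReg
import Groth.Agent.Lefpen.H705.ClosedPoint

set_option autoImplicit false
universe u
open CategoryTheory CategoryTheory.Limits AlgebraicGeometry
open BlowUp

namespace Groth.Agent.S13915

/-- On the blowing up σ : X ⟶ P²_k of the projective plane over an algebraically closed field k of
characteristic zero at a closed point, with E the ideal of the exceptional line and H the pull-back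
of O(1), one has χ(X, σ^*O(a) ⊗ E^b) = (a² + 3a)/2 − (b² + b)/2 + 1 for all integers a and natural
numbers b (the line bundle written aH − bL; the k-structure on X is the composite through σ). -/
theorem result (k : Type u) [Field k] [IsAlgClosed k] [CharZero k]
    (p : ↥(CohB1.ProjSpace 2 k)) (hp : IsClosed ({p} : Set ↥(CohB1.ProjSpace 2 k)))
    {X : Scheme.{u}} [X.Over (Spec (CommRingCat.of k))] (σ : X ⟶ CohB1.ProjSpace 2 k)
    (hσk : σ ≫ CohB1.ProjSpace.toSpec 2 k = X ↘ Spec (CommRingCat.of k))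
    (hσ : BlowUp.IsBlowUp σ (Scheme.IdealSheafData.vanishingIdeal ⟨{p}, hp⟩)) (a : ℤ) (b : ℕ) :
    Curv2.euler k X (CohB1.tensorMod ((Scheme.Modules.pullback σ).obj (Twist.twistProjSpace 2 k a))
      (ClSub.idealMod ((BlowUp.exceptional σ (Scheme.IdealSheafData.vanishingIdeal ⟨{p}, hp⟩)) ^ b))) =
      (a * a + 3 * a) / 2 - ((b : ℤ) * b + b) / 2 + 1 := by
  have hY : ∀ y : CohB1.ProjSpace 2 k, IsRegularLocalRing ((CohB1.ProjSpace 2 k).presheaf.stalk y) := fun y =>
    Groth.Agent.Sga5.ProjReg.isRegularLocalRing_stalk 2 k y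
  have hdim : ringKrullDim ((CohB1.ProjSpace 2 k).presheaf.stalk p) = 2 :=
    Groth.Agent.Lefpen.H705.ClosedPoint.ringKrullDim_stalk (g := CohB1.ProjSpace.toSpec 2 k) 2 p hp
  have hinv : PicF.IsInvertible (Twist.twistProjSpace 2 k a) := Groth.Agent.VarietyB.TwistQCoh.isInvertible_twistProjSpace 2 k a
  have h := K483.ExcChi.two_mul_euler_blowUp k hY p hp hdim σ hσk hσ hinv b
  obtain ⟨e⟩ := Groth.Agent.Sga2.ThickCoh.idealMod_pow hσ.1 b
  have h1 := Groth.Agent.Fga.HodgePush.euler_congr k X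
    (Groth.Agent.Ega2.Tens.mapTIso (Iso.refl ((Scheme.Modules.pullback σ).obj (Twist.twistProjSpace 2 k a))) e)
  have h2 : 2 * Curv2.euler k (CohB1.ProjSpace 2 k) (Twist.twistProjSpace 2 k a) = a * a + 3 * a + 2 := by
    rw [Groth.Agent.VarietyB.EulerBinom.euler_twist, K483.EulerP2.two_mul_c_two]
  have key : 2 * Curv2.euler k X (CohB1.tensorMod ((Scheme.Modules.pullback σ).obj (Twist.twistProjSpace 2 k a))
      (ClSub.idealMod ((BlowUp.exceptional σ (Scheme.IdealSheafData.vanishingIdeal ⟨{p}, hp⟩)) ^ b))) =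
      2 * Curv2.euler k (CohB1.ProjSpace 2 k) (Twist.twistProjSpace 2 k a) - b * (b + 1) := by
    rw [← h]
    exact congrArg (2 * ·) h1.symm
  rw [h2] at key
  have h3 : ((b : ℤ) * b + b) % 2 = 0 := by
    have : (b : ℤ) * b + b = b * (b + 1) := by ring
    rw [this]
    exact Int.even_iff.1 (Int.even_mul_succ_self _)
  have h4 : (b : ℤ) * (b + 1) = b * b + b := by ring
  rw [h4] at key
  omega

end Groth.Agent.S13915
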