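import Groth.Statements.S13918
import Groth.Agent.W4c1limliniiii.K807.Three

set_option autoImplicit false
universe u
open W4c1limliniiii

namespace Groth.Agent.S13918

open Polynomial in
/-- Over an algebraically closed field of characteristic p (zero allowed), fix three distinct points of
the affine line, an integer d and ramification indices e_i with 2 ≤ e_i ≤ d, each e_i prime to p,
and ∑ (e_i − 1) = 2d − 2. Then there is at most one separable self-map of the projective line of
degree d, taken up to automorphisms of the target, with ramification index exactly e_i at the i-th
point — such maps being encoded as base-point-free separable pencils of polynomials of degree at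
most d — and there is none precisely when some two-dimensional space of polynomials of degree at
most d with identically vanishing Wronskian contains, for each i, a non-zero member vanishing to
order at least e_i at the i-th point (an inseparable pencil, base points allowed, with at least the
required ramification). (The three points are taken on the affine line, which is no restriction up
to a change of coordinate; the assertion that the solution, when it exists, is a reduced point of
the parameter scheme is not restated.) -/
theorem result (k : Type u) [Field k] [IsAlgClosed k]
    (p : ℕ) [CharP k p] (d : ℕ) (P : Fin 3 → k) (hP : Function.Injective P)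
    (e : Fin 3 → ℕ) (he : W4c1limliniiii.Admissible p d e) :
    (W4c1limliniiii.ramMaps d P e).Subsingleton ∧
      (W4c1limliniiii.ramMaps d P e = ∅ ↔
        ∃ V : Submodule k k[X], V ≤ Polynomial.degreeLE k d ∧ Module.finrank k V = 2 ∧
          ¬ W4c1limliniiii.IsSeparable V ∧
          ∀ i, ∃ s ∈ V, s ≠ 0 ∧ e i ≤ Polynomial.rootMultiplicity (P i) s) := by
  have he1 : ∀ i, 1 ≤ e i := fun i => by have := (he.1 i).1; omega
  have hed : ∀ i, e i ≤ d := fun i => (he.1 i).2.1
  refine ⟨?_, ?_, ?_⟩
  · intro V hV V' hV'
    exact K807.Three.eq_of_isPencil hP hed he.2 (K807.Three.sch_of_mem hV') hV'.1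
      (K807.Three.sch_of_mem hV)
  · intro hempty
    obtain ⟨V, hV⟩ := K807.Three.exists_sch hP hed he.2
    refine ⟨V, hV.1, hV.2.1, ?_, hV.2.2⟩
    intro hsep
    have : V ∈ W4c1limliniiii.ramMaps d P e :=
      K807.Pencil.mem_ramMaps_of hP he1 he.2 hV.1 hV.2.1 hsep hV.2.2
    rw [hempty] at this
    exact this
  · rintro ⟨V, h1, h2, h3, h4⟩
    rw [Set.eq_empty_iff_forall_notMem]
    intro V' hV'
    have := K807.Three.eq_of_isPencil hP hed he.2 (K807.Three.sch_of_mem hV') hV'.1 ⟨h1, h2, h4⟩
    rw [this] at h3
    exact h3 hV'.2.1

end Groth.Agent.S13918
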