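import Groth.Statements.S13919
import Groth.Agent.W4c1limliniiii.K807.Sep
import Groth.Agent.S13918

set_option autoImplicit false
universe u
open W4c1limliniiii

namespace Groth.Agent.S13919

open Polynomial in
/-- Over an algebraically closed field of characteristic p (zero allowed), fix three distinct points of
the affine line and indices 2 ≤ e_i ≤ d prime to p with ∑ (e_i − 1) = 2d − 2, and encode self-maps
of the projective line up to automorphisms of the target as base-point-free separable pencils of
polynomials of degree at most d. If p is positive, the first two indices are less than p and p ≤ d,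
then there is no separable degree-d self-map of the projective line with ramification index exactly
e_i at the i-th point; if p = 0 or d < p there is exactly one up to automorphisms of the target.
(The first clause includes the case d = p; with it, when all e_i are less than p, the three-point
count is one map if p = 0 or p > d and none otherwise.) -/
theorem result (k : Type u) [Field k] [IsAlgClosed k]
    (p : ℕ) [CharP k p] (d : ℕ) (P : Fin 3 → k) (hP : Function.Injective P)
    (e : Fin 3 → ℕ) (he : W4c1limliniiii.Admissible p d e) :
    (p ≠ 0 → e 0 < p → e 1 < p → p ≤ d → W4c1limliniiii.ramMaps d P e = ∅) ∧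
      (p = 0 ∨ d < p → ∃ V : Submodule k k[X], W4c1limliniiii.ramMaps d P e = {V}) := by
  have he1 : ∀ i, 1 ≤ e i := fun i => by have := (he.1 i).1; omega
  have hed : ∀ i, e i ≤ d := fun i => (he.1 i).2.1
  have h18 := Groth.Agent.S13918.result k p d P hP e he
  refine ⟨?_, ?_⟩
  · intro hp0 h0 h1 hpd
    haveI : Fact p.Prime := ⟨(CharP.char_is_prime_or_zero k p).resolve_right hp0⟩
    rw [h18.2]
    set g : k[X] := (X - C (P 2)) ^ (d - p) with hg
    have hg0 : g ≠ 0 := pow_ne_zero _ (X_sub_C_ne_zero _)
    obtain ⟨a1, a2, a3⟩ := K807.Sep.insep p hg0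
    have hgd : g.natDegree = d - p := by
      rw [hg, (monic_X_sub_C _).natDegree_pow, natDegree_X_sub_C, mul_one]
    refine ⟨Submodule.span k {g * X ^ p, g}, ?_, a1, a2, ?_⟩
    · apply K807.Pencil.le_degreeLE_of
      · rw [natDegree_mul_X_pow p hg0, hgd]; omega
      · rw [hgd]; omega
    · have hne : ∀ a : k, g * (X - C a) ^ p ≠ 0 := fun a =>
        mul_ne_zero hg0 (pow_ne_zero _ (X_sub_C_ne_zero _))
      intro i
      refine ⟨_, a3 (P i), hne _, (le_rootMultiplicity_iff (hne _)).2 ?_⟩
      fin_cases i
      · exact Dvd.dvd.mul_left (pow_dvd_pow _ h0.le) _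
      · exact Dvd.dvd.mul_left (pow_dvd_pow _ h1.le) _
      · show (X - C (P 2)) ^ (e 2) ∣ g * (X - C (P 2)) ^ p
        rw [hg, ← pow_add]
        exact pow_dvd_pow _ (by have := hed 2; omega)
  · intro hp
    have hne : W4c1limliniiii.ramMaps d P e ≠ ∅ := by
      intro h
      rw [h18.2] at h
      obtain ⟨V, h1, h2, h3, -⟩ := h
      exact h3 (K807.Sep.isSeparable_of_lt p hp h1 h2)
    obtain ⟨V, hV⟩ := Set.nonempty_iff_ne_empty.2 hne
    exact ⟨V, h18.1.eq_singleton_of_mem hV⟩

end Groth.Agent.S13919
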