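import Groth.Statements.S13920
import Groth.Agent.W4c1limliniiii.K807.Sep

set_option autoImplicit false
universe u
open W4c1limliniiii

namespace Groth.Agent.S13920

open Polynomial in
/-- Over an algebraically closed field of prime characteristic p, fix n points of the affine line with
ramification indices e_i < p, and at infinity an index E with p < E and E prime to p, the datum (E,
e_1, …, e_n) being admissible for degree d (each index between 2 and d, ∑ (index − 1) = 2d − 2). If
one separable degree-d self-map of the projective line (up to automorphisms of the target, encoded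
as a base-point-free separable pencil of polynomials of degree at most d) has ramification index
exactly e_i at the i-th point and exactly E at infinity, then infinitely many do: the set of such
pencils is empty or infinite. (The consequence for general points, that no such map exists, is not
restated.) -/
theorem result
    (k : Type u) [Field k] [IsAlgClosed k] (p : ℕ) [Fact p.Prime] [CharP k p]
    (d n : ℕ) (P : Fin n → k) (e : Fin n → ℕ) (E : ℕ)
    (he : W4c1limliniiii.Admissible p d (Fin.cons E e : Fin (n + 1) → ℕ))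
    (hlt : ∀ i, e i < p) (hE : p < E) :
    {V : Submodule k k[X] | V ∈ W4c1limliniiii.ramMaps d P e ∧ W4c1limliniiii.HasRamIdxInf d V E} = ∅ ∨
      {V : Submodule k k[X] | V ∈ W4c1limliniiii.ramMaps d P e ∧
        W4c1limliniiii.HasRamIdxInf d V E}.Infinite := by
  by_cases hne : {V : Submodule k k[X] | V ∈ W4c1limliniiii.ramMaps d P e ∧
      W4c1limliniiii.HasRamIdxInf d V E} = ∅
  · exact Or.inl hne
  right
  obtain ⟨V, hV, hVE⟩ := Set.nonempty_iff_ne_empty.2 hne
  have hp1 : 0 < p := (Fact.out : p.Prime).pos
  have he1 : ∀ i, 1 ≤ e i := fun i => by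
    have := (he.1 i.succ).1
    rw [Fin.cons_succ] at this
    omega
  have hEd : E ≤ d := by
    have := (he.1 0).2.1
    rwa [Fin.cons_zero] at this
  have hEp : ¬ p ∣ E := by
    have := (he.1 0).2.2
    rwa [Fin.cons_zero] at this
  have hep : ∀ i, ¬ p ∣ e i := fun i => by
    have := (he.1 i.succ).2.2
    rwa [Fin.cons_succ] at this
  -- basis
  obtain ⟨F, hF, hFd⟩ := hV.1.2.2.1
  obtain ⟨G, hG, hG0, hGd⟩ := hVE.1
  have hGd' : G.natDegree = d - E := by
    have := hVE.2 G hG hG0
    omega
  have hF0 : F ≠ 0 := by
    rintro rfl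
    simp at hFd
    omega
  have hli : LinearIndependent k ![F, G] := by
    apply K807.Pencil.linInd_of_not_mem hG0
    intro h
    obtain ⟨c, hc⟩ := Submodule.mem_span_singleton.1 h
    have := natDegree_smul_le c G
    rw [hc, hFd, hGd'] at this
    omega
  have hVe := K807.Pencil.eq_span_pair hV.1.2.1 hF hG hli
  have hWne : wronskian F G ≠ 0 := (K807.Pencil.isSeparable_iff hVe).1 hV.2.1
  have hWx : ∀ i, (X - C (P i)) ^ (e i - 1) ∣ wronskian F G ∧
      ¬ (X - C (P i)) ^ (e i) ∣ wronskian F G := fun i =>
    K807.Sep.wr_exact p hVe hWne (hep i) (hV.2.2 i) (hV.1.2.2.2 (P i))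
  -- the family
  have hXG0 : X ^ p * G ≠ 0 := mul_ne_zero (pow_ne_zero _ X_ne_zero) hG0
  have hXGd : (X ^ p * G).natDegree = p + (d - E) := by
    rw [natDegree_mul (pow_ne_zero _ X_ne_zero) hG0, natDegree_X_pow, hGd']
  set Ft : k → k[X] := fun t => F + t • (X ^ p * G) with hFt
  have hsmul : ∀ t : k, (t • (X ^ p * G)).natDegree ≤ p + (d - E) := fun t => by
    rw [← hXGd]; exact natDegree_smul_le _ _
  have hFtd : ∀ t, (Ft t).natDegree = d := by
    intro t
    rw [hFt]
    simp only
    rw [natDegree_add_eq_left_of_natDegree_lt, hFd]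
    rw [hFd]
    have := hsmul t
    omega
  have hWt : ∀ t, wronskian (Ft t) G = wronskian F G := by
    intro t
    simp only [hFt, wronskian, derivative_add, derivative_smul, derivative_mul,
      derivative_X_pow, CharP.cast_eq_zero, C_0, zero_mul, zero_add]
    simp only [smul_eq_C_mul]
    ring
  have hlit : ∀ t, LinearIndependent k ![Ft t, G] := fun t =>
    K807.Pencil.linInd_of_wr (by rw [hWt]; exact hWne)
  have hbpf : ∀ t a, (Ft t).eval a ≠ 0 ∨ G.eval a ≠ 0 := by
    intro t a
    by_contra hcon
    push Not at hcon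
    obtain ⟨s, hs, hsa⟩ := hV.1.2.2.2 a
    rw [hVe] at hs
    obtain ⟨x, y, rfl⟩ := Submodule.mem_span_pair.1 hs
    apply hsa
    have h1 : F.eval a = 0 := by
      have := hcon.1
      simp only [hFt, eval_add, eval_smul, eval_mul, hcon.2, mul_zero, smul_zero, add_zero] at this
      exact this
    simp [h1, hcon.2]
  have hmem : ∀ t, Submodule.span k {Ft t, G} ∈ {V : Submodule k k[X] |
      V ∈ W4c1limliniiii.ramMaps d P e ∧ W4c1limliniiii.HasRamIdxInf d V E} := by
    intro t
    have hFm : Ft t ∈ Submodule.span k {Ft t, G} := Submodule.subset_span (by simp)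
    have hGm : G ∈ Submodule.span k {Ft t, G} := Submodule.subset_span (by simp)
    refine ⟨⟨⟨K807.Pencil.le_degreeLE_of (hFtd t).le (by omega),
      K807.Pencil.finrank_span_pair (hlit t), ⟨_, hFm, hFtd t⟩, ?_⟩, ?_, ?_⟩, ?_, ?_⟩
    · intro a
      rcases hbpf t a with h | h
      · exact ⟨_, hFm, h⟩
      · exact ⟨_, hGm, h⟩
    · exact ⟨_, hFm, _, hGm, by rw [hWt]; exact hWne⟩
    · intro i
      refine ⟨?_, ?_⟩
      · obtain ⟨s, hs, hs0, hsd⟩ := K807.Pencil.exists_pow_dvd_of_wr p (hbpf t (P i))
          (by rw [hWt]; exact hWne) (by rw [hWt]; exact (hWx i).1)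
          (Or.inr (by have := hlt i; omega))
        rw [Nat.sub_add_cancel (he1 i)] at hsd
        exact ⟨s, hs, hs0, (le_rootMultiplicity_iff hs0).2 hsd⟩
      · intro s hs hs0
        by_contra hcon
        push Not at hcon
        have h1 : (X - C (P i)) ^ (e i + 1) ∣ s := (le_rootMultiplicity_iff hs0).1 hcon
        have h2 := K807.Wr.pow_dvd_of_mem hs hs0 h1
        rw [hWt, Nat.add_sub_cancel] at h2
        exact (hWx i).2 h2
    · exact ⟨G, hGm, hG0, by rw [hGd']; omega⟩
    · intro s hs hs0
      obtain ⟨x, y, rfl⟩ := Submodule.mem_span_pair.1 hs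
      by_cases hx : x = 0
      · subst hx
        rw [zero_smul, zero_add] at hs0 ⊢
        have hy : y ≠ 0 := by rintro rfl; simp at hs0
        rw [natDegree_smul _ hy, hGd']
        omega
      · rw [natDegree_add_eq_left_of_natDegree_lt, natDegree_smul _ hx, hFtd]
        · omega
        · rw [natDegree_smul _ hx, hFtd]
          have := natDegree_smul_le y G
          omega
  refine Set.infinite_of_injective_forall_mem (f := fun t : k => Submodule.span k {Ft t, G})
    ?_ hmem
  intro t t' htt
  simp only at htt
  by_contra hne'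
  have h1 : Ft t - Ft t' ∈ Submodule.span k {Ft t', G} := by
    refine Submodule.sub_mem _ ?_ (Submodule.subset_span (by simp))
    rw [← htt]
    exact Submodule.subset_span (by simp)
  have h2 : Ft t - Ft t' = (t - t') • (X ^ p * G) := by
    simp only [hFt, sub_smul]; ring
  rw [h2] at h1
  obtain ⟨x, y, hxy⟩ := Submodule.mem_span_pair.1 h1
  have hd2 : ((t - t') • (X ^ p * G)).natDegree = p + (d - E) := by
    rw [natDegree_smul _ (sub_ne_zero.2 hne'), hXGd]
  rw [← hxy] at hd2
  by_cases hx : x = 0
  · subst hx
    rw [zero_smul, zero_add] at hd2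
    have := natDegree_smul_le y G
    omega
  · rw [natDegree_add_eq_left_of_natDegree_lt, natDegree_smul _ hx, hFtd] at hd2
    · omega
    · rw [natDegree_smul _ hx, hFtd]
      have := natDegree_smul_le y G
      omega

end Groth.Agent.S13920
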