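import Groth.Statements.S13921
import Groth.Agent.W4c1limliniiii.K807.GenSep

set_option autoImplicit false
universe u
open W4c1limliniiii

namespace Groth.Agent.S13921

open Polynomial in
/-- Over an algebraically closed field of characteristic p (zero allowed), let d and indices e_1, …, e_n
be admissible (2 ≤ e_i ≤ d, e_i prime to p, ∑ (e_i − 1) = 2d − 2). Then for a general choice of n
points of the affine line — every configuration outside the zero set of some non-zero polynomial in
the n coordinates — the separable degree-d self-maps of the projective line with ramification index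
exactly e_i at the i-th point, taken up to automorphisms of the target (encoded as base-point-free
separable pencils of polynomials of degree at most d), are finite in number, and none of them maps
two of the points to the same point: no non-zero member of the pencil vanishes at two of the points. -/
theorem result (k : Type u) [Field k]
    [IsAlgClosed k] (p : ℕ) [CharP k p] (d n : ℕ) (e : Fin n → ℕ)
    (he : W4c1limliniiii.Admissible p d e) :
    ∃ Φ : MvPolynomial (Fin n) k, Φ ≠ 0 ∧ ∀ P : Fin n → k, MvPolynomial.eval P Φ ≠ 0 →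
      (W4c1limliniiii.ramMaps d P e).Finite ∧
        ∀ V ∈ W4c1limliniiii.ramMaps d P e, ∀ i j : Fin n, i ≠ j →
          ∀ s ∈ V, (s.IsRoot (P i) ∧ s.IsRoot (P j)) → s = 0 := by
  have he1 : ∀ i, 1 ≤ e i := fun i => by have := (he.1 i).1; omega
  have heK : ∀ i, (e i : k) ≠ 0 := fun i h => (he.1 i).2.2 ((CharP.cast_eq_zero_iff k p _).1 h)
  obtain ⟨L, _, _, _, Q, hQ⟩ := K807.GenSep.exists_generic k n
  obtain ⟨Φ₁, hΦ₁, h₁⟩ := K807.GenCount.hasGenericCount hQ he1 he.2
    (K807.GenCount.ramMaps_finite hQ he1 heK he.2)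
  have h₂ := fun q : {q : Fin n × Fin n // q.1 ≠ q.2} =>
    K807.GenSep.exists_separate (k := k) he1 heK he.2 q.1.1 q.1.2 q.2
  choose Φ₂ hΦ₂ h₂ using h₂
  refine ⟨Φ₁ * ∏ q, Φ₂ q, mul_ne_zero hΦ₁ (Finset.prod_ne_zero_iff.2 fun q _ => hΦ₂ q),
    fun P hP => ?_⟩
  rw [map_mul, map_prod] at hP
  refine ⟨(h₁ P (left_ne_zero_of_mul hP)).1, ?_⟩
  intro V hV i j hij s hs hroot
  exact h₂ ⟨(i, j), hij⟩ P
    (Finset.prod_ne_zero_iff.1 (right_ne_zero_of_mul hP) ⟨(i, j), hij⟩ (Finset.mem_univ _))
    V hV s hs hroot

end Groth.Agent.S13921
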