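import Groth.Statements.S13924
import Groth.Agent.W4c1limliniiii.K807.MainB
import Groth.Agent.W4c1limliniiii.K808.Mbar

set_option autoImplicit false
universe u
open W4c1limliniiii

namespace Groth.Agent.S13924

theorem mbar (p : ℕ) [Fact p.Prime] : K807.MainA.MbarProp.{u} p := by
  intro K _ _ _ O d hd F G hF hG T hT hTd c hc hW f g hspan hli
  rcases K808.Mbar.exists_uv p hd hF hG hT hTd hc hW hspan hli with h | ⟨u, v, h1, h2, h3, h4⟩
  · exact Or.inl h
  · exact Or.inr ⟨u, v, h1, by omega, h3, h4⟩

open Polynomial in
/-- Over an algebraically closed field of characteristic p (zero allowed), let ramification data at n +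
2 ≥ 4 points be given by indices e_1, …, e_n and two further indices a, b, admissible for degree d
(each index between 2 and d, prime to p, ∑ (index − 1) = 2d − 2), with every index less than p when
p is positive. For each d' with max (d + 1 − a, d + 1 − b) ≤ d' ≤ d and, when p is positive, d' + a
+ b ≤ p + d, put c = 2d' + a + b − 1 − 2d. Then, first, for each such d' the separable degree-d'
self-maps of the projective line ramified to order exactly e_1, …, e_n, c at n + 1 general points
have a well-defined finite count up to automorphisms of the target; second, the count for degree d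
and indices e_1, …, e_n, a, b at n + 2 general points is the sum of those counts over all such d'.
Counts are of base-point-free separable pencils of polynomials, for configurations of points of the
affine line off the zero set of a non-zero polynomial. -/
theorem result (k : Type u) [Field k] [IsAlgClosed k]
    (p : ℕ) [CharP k p] (d n : ℕ) (hn : 2 ≤ n) (e : Fin n → ℕ) (a b : ℕ)
    (he : W4c1limliniiii.Admissible p d (Fin.snoc (Fin.snoc e a) b : Fin (n + 2) → ℕ))
    (hlt : ∀ i, p = 0 ∨ (Fin.snoc (Fin.snoc e a) b : Fin (n + 2) → ℕ) i < p) :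
    let R : Finset ℕ := (Finset.Icc (max (d + 1 - a) (d + 1 - b)) d).filter
      (fun d' => p = 0 ∨ d' + a + b ≤ p + d)
    (∀ d' ∈ R, ∃ m : ℕ, W4c1limliniiii.HasGenericCount (k := k) d'
      (Fin.snoc e (2 * d' + a + b - (2 * d + 1)) : Fin (n + 1) → ℕ) m) ∧
    ∀ m : ℕ → ℕ, (∀ d' ∈ R, W4c1limliniiii.HasGenericCount (k := k) d'
      (Fin.snoc e (2 * d' + a + b - (2 * d + 1)) : Fin (n + 1) → ℕ) (m d')) →
      W4c1limliniiii.HasGenericCount (k := k) d (Fin.snoc (Fin.snoc e a) b : Fin (n + 2) → ℕ)
        (∑ d' ∈ R, m d') := by
  have h := he.1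
  have hs := he.2
  rw [K807.Family.forall_snoc, K807.Family.forall_snoc] at h
  rw [K807.Family.forall_snoc, K807.Family.forall_snoc] at hlt
  simp only [Fin.snoc_castSucc, Fin.snoc_last] at h hlt
  rw [Fin.sum_snoc, Fin.sum_snoc] at hs
  obtain ⟨⟨h1, h2⟩, h3⟩ := h
  obtain ⟨⟨l1, l2⟩, l3⟩ := hlt
  exact K807.MainB.main (p := p) (fun hp => by
      haveI : Fact p.Prime := ⟨(CharP.char_is_prime_or_zero k p).resolve_right hp⟩
      exact mbar p) hn (fun i => by have := (h1 i).1; omega) l1 (by omega) (by omega) h2.2.1 h3.2.1
    l2 l3 (by omega)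

end Groth.Agent.S13924
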