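import Groth.Statements.S13923
import Groth.Agent.S13924
import Groth.Agent.W4c1limliniiii.K189.Four

set_option autoImplicit false
universe u
open W4c1limliniiii

namespace Groth.Agent.S13923

open Polynomial in
/-- Over an algebraically closed field of characteristic p (zero allowed), let (d; e_1, …, e_4) be
admissible (2 ≤ e_i ≤ d, e_i prime to p, ∑ (e_i − 1) = 2d − 2) with every e_i < p when p is
positive. Then the number of separable self-maps of the projective line of degree d ramified to
order exactly e_i at four general points (configurations of the affine line off the zero set of a
non-zero polynomial), counted up to automorphisms of the target as base-point-free separable pencils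
of polynomials, equals min over i of min (e_i, d + 1 − e_i), less max (0, d + 1 − p) when p is
positive. (Subtraction here is that of the natural numbers, truncated at zero: read over the
integers the closed form is negative for some admissible data, for instance indices 6, 6, 6, 2 in
characteristic 7, where the count is 0; the assertion that the maps have no non-trivial deformations
is not restated.) -/
theorem result (k : Type u) [Field k] [IsAlgClosed k]
    (p : ℕ) [CharP k p] (d : ℕ) (e : Fin 4 → ℕ) (he : W4c1limliniiii.Admissible p d e)
    (hlt : ∀ i, p = 0 ∨ e i < p) :
    (p ≠ 0 → W4c1limliniiii.HasGenericCount (k := k) d e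
      (Finset.univ.inf' Finset.univ_nonempty (fun i => min (e i) (d + 1 - e i)) - (d + 1 - p))) ∧
    (p = 0 → W4c1limliniiii.HasGenericCount (k := k) d e
      (Finset.univ.inf' Finset.univ_nonempty (fun i => min (e i) (d + 1 - e i)))) := by
  refine K189.Four.four p d e he hlt ?_
  intro R hR m hm
  subst hR
  exact (Groth.Agent.S13924.result k p d 2 le_rfl ![e 0, e 1] (e 2) (e 3)
    (by rw [K189.Four.snoc_four]; exact he)
    (by rw [K189.Four.snoc_four]; exact hlt)).2 m hm

end Groth.Agent.S13923
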