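import Groth.Statements.S13925
import Mathlib.LinearAlgebra.DFinsupp

set_option autoImplicit false
universe u v w x
open W4c1limliniiii

namespace Groth.Agent.S13925

/-- Let k be a field and U, E, W vector spaces over k with linear maps f : U → E, g' : E → U, f₂ : E → W
and g : W → E such that g' ∘ f = 0, the kernel of f₂ is contained in the image of g, and the image
of g meets the kernel of g' only in 0 — the conditions holding at a point of a linked Grassmannian
at which the linking scalar vanishes. Let V₁ ≤ U and V₂ ≤ E be subspaces and let C' ≤ V₂ be a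
subspace contained in the kernel of g' and meeting f(V₁) only in 0. Then the subspaces f(V₁), ker f₂
∩ V₂ and C' of E are independent: their sum is direct. (The published statement is for two
consecutive members V_{i-1}, V_i of a point of a linked Grassmannian at which the linking scalar
vanishes and adds the decomposition V_i = f(V_{i-1}) ⊕ (ker f_i ∩ V_i) ⊕ C with C ⊇ C'; this row
states the independence, with only the three conditions the argument uses.) -/
theorem result (k : Type u) [Field k]
    (U : Type v) (E : Type w) (W : Type x) [AddCommGroup U] [Module k U] [AddCommGroup E]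
    [Module k E] [AddCommGroup W] [Module k W]
    (f : U →ₗ[k] E) (g' : E →ₗ[k] U) (f₂ : E →ₗ[k] W) (g : W →ₗ[k] E)
    (hgf : g'.comp f = 0) (hII : LinearMap.ker f₂ ≤ LinearMap.range g)
    (hIII : LinearMap.range g ⊓ LinearMap.ker g' = ⊥)
    (V₁ : Submodule k U) (V₂ : Submodule k E) (C' : Submodule k E) (hC : C' ≤ V₂)
    (hCg : C' ≤ LinearMap.ker g') (hCf : Submodule.map f V₁ ⊓ C' = ⊥) :
    iSupIndep ![Submodule.map f V₁, LinearMap.ker f₂ ⊓ V₂, C'] := by
  rw [iSupIndep_iff_finsetSum_eq_zero_imp_eq_zero]
  intro s v hv hsum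
  classical
  set w : Fin 3 → E := fun i => if i ∈ s then v i else 0 with hw
  have hwm : ∀ i, w i ∈ (![Submodule.map f V₁, LinearMap.ker f₂ ⊓ V₂, C'] : Fin 3 → Submodule k E) i := by
    intro i
    by_cases hi : i ∈ s
    · simp only [hw, hi, if_true]; exact hv i hi
    · simp only [hw, hi, if_false]; exact Submodule.zero_mem _
  have hws : ∑ i, w i = 0 := by
    rw [← hsum, hw, Finset.sum_ite_mem, Finset.univ_inter]
  rw [Fin.sum_univ_three] at hws
  have h0 : w 0 ∈ Submodule.map f V₁ := hwm 0
  have h1 : w 1 ∈ LinearMap.ker f₂ ⊓ V₂ := hwm 1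
  have h2 : w 2 ∈ C' := hwm 2
  have hg0 : g' (w 0) = 0 := by
    obtain ⟨x, -, hx⟩ := h0
    rw [← hx]
    exact LinearMap.congr_fun hgf x
  have hg2 : g' (w 2) = 0 := hCg h2
  have hg1 : g' (w 1) = 0 := by
    have := congrArg g' hws
    rw [map_add, map_add, hg0, hg2, map_zero, zero_add, add_zero] at this
    exact this
  have hw1 : w 1 = 0 := by
    have : w 1 ∈ LinearMap.range g ⊓ LinearMap.ker g' := ⟨hII h1.1, hg1⟩
    rw [hIII] at this
    exact (Submodule.mem_bot k).1 this
  rw [hw1, add_zero] at hws
  have hw2 : w 2 = 0 := by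
    have : w 2 ∈ Submodule.map f V₁ ⊓ C' := by
      refine ⟨?_, h2⟩
      rw [eq_neg_of_add_eq_zero_right hws]
      exact Submodule.neg_mem _ h0
    rw [hCf] at this
    exact (Submodule.mem_bot k).1 this
  have hw0 : w 0 = 0 := by rw [hw2, add_zero] at hws; exact hws
  intro i hi
  have hwi : w i = 0 := by
    fin_cases i
    · exact hw0
    · exact hw1
    · exact hw2
  simpa only [hw, hi, if_true] using hwi

end Groth.Agent.S13925
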