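import Groth.Statements.S13926
import Mathlib.LinearAlgebra.Dimension.DivisionRing
import Mathlib.LinearAlgebra.FiniteDimensional.Lemmas

set_option autoImplicit false
universe u v w
open W4c1limliniiii

namespace Groth.Agent.S13926

/-- Let k be a field, E₁ and E₂ finite-dimensional vector spaces over k of the same dimension, f : E₁ →
E₂ and g : E₂ → E₁ linear maps whose composite g ∘ f is multiplication by a scalar s, and V₁ a
subspace of E₁. Then there is a subspace V₂ of E₂ of the same dimension as V₁ with f(V₁) ≤ V₂ and
g(V₂) ≤ V₁. (The published statement is the surjectivity of the truncation morphisms of a linked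
Grassmannian, with a further assertion on lifting families; this row is the lifting step over a
field — over a point the chain of linked subspaces V_1, …, V_{n'} extends one index at a time — and
assumes only g ∘ f = s.) -/
theorem result (k : Type u) [Field k]
    (E₁ : Type v) (E₂ : Type w) [AddCommGroup E₁] [Module k E₁] [FiniteDimensional k E₁]
    [AddCommGroup E₂] [Module k E₂] [FiniteDimensional k E₂]
    (hdim : Module.finrank k E₁ = Module.finrank k E₂)
    (f : E₁ →ₗ[k] E₂) (g : E₂ →ₗ[k] E₁) (s : k) (hgf : g.comp f = s • LinearMap.id)
    (V₁ : Submodule k E₁) :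
    ∃ V₂ : Submodule k E₂, Module.finrank k V₂ = Module.finrank k V₁ ∧
      Submodule.map f V₁ ≤ V₂ ∧ Submodule.map g V₂ ≤ V₁ := by
  have hle : Submodule.map f V₁ ≤ Submodule.comap g V₁ := by
    rintro _ ⟨x, hx, rfl⟩
    rw [Submodule.mem_comap]
    have := LinearMap.congr_fun hgf x
    simp only [LinearMap.comp_apply, LinearMap.smul_apply, LinearMap.id_apply] at this
    rw [this]
    exact V₁.smul_mem s hx
  have h1 : Module.finrank k (Submodule.map f V₁) ≤ Module.finrank k V₁ :=
    Submodule.finrank_map_le f V₁
  have h2 : Module.finrank k V₁ ≤ Module.finrank k (Submodule.comap g V₁) := by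
    -- the map comap g V₁ → V₁ ⊓ range g is onto with kernel ker g
    have hk : Module.finrank k (LinearMap.range g) + Module.finrank k (LinearMap.ker g)
        = Module.finrank k E₂ := LinearMap.finrank_range_add_finrank_ker g
    set h : Submodule.comap g V₁ →ₗ[k] E₁ := g.comp (Submodule.comap g V₁).subtype with hh
    have hk' := LinearMap.finrank_range_add_finrank_ker h
    have hr : LinearMap.range h = LinearMap.range g ⊓ V₁ := by
      ext y
      simp only [hh, LinearMap.mem_range, LinearMap.comp_apply, Submodule.subtype_apply,
        Submodule.mem_inf]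
      constructor
      · rintro ⟨x, rfl⟩
        exact ⟨⟨x, rfl⟩, x.2⟩
      · rintro ⟨⟨x, rfl⟩, hx⟩
        exact ⟨⟨x, hx⟩, rfl⟩
    have hker : Module.finrank k (LinearMap.ker h) = Module.finrank k (LinearMap.ker g) := by
      have e : LinearMap.ker g ≃ₗ[k] LinearMap.ker h :=
        LinearEquiv.ofBijective
          ((LinearMap.ker g).subtype.codRestrict (Submodule.comap g V₁)
            (fun x => by
              rw [Submodule.mem_comap, Submodule.subtype_apply, LinearMap.mem_ker.1 x.2]
              exact V₁.zero_mem) |>.codRestrict (LinearMap.ker h) (fun x => by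
                rw [LinearMap.mem_ker]; exact LinearMap.mem_ker.1 x.2))
          ⟨fun x y hxy => by
            apply Subtype.ext
            exact congrArg (fun z => ((z : Submodule.comap g V₁) : E₂)) (congrArg Subtype.val hxy),
           fun y => ⟨⟨y.1.1, LinearMap.mem_ker.1 y.2⟩, rfl⟩⟩
      exact e.finrank_eq.symm
    have hsi := Submodule.finrank_sup_add_finrank_inf_eq (LinearMap.range g) V₁
    have hsup : Module.finrank k ↥(LinearMap.range g ⊔ V₁) ≤ Module.finrank k E₁ :=
      Submodule.finrank_le _
    rw [hr, hker] at hk'
    omega
  -- choose an intermediate subspace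
  have key : ∀ m : ℕ, ∀ A : Submodule k E₂, A ≤ Submodule.comap g V₁ →
      Module.finrank k A + m ≤ Module.finrank k (Submodule.comap g V₁) →
      ∃ B : Submodule k E₂, A ≤ B ∧ B ≤ Submodule.comap g V₁ ∧
        Module.finrank k B = Module.finrank k A + m := by
    intro m
    induction m with
    | zero => intro A hA _; exact ⟨A, le_rfl, hA, rfl⟩
    | succ m ih =>
      intro A hA hm
      have hne : A ≠ Submodule.comap g V₁ := by
        intro h; rw [h] at hm; omega
      obtain ⟨x, hx, hxA⟩ := SetLike.exists_of_lt (lt_of_le_of_ne hA hne)
      have hA' : Module.finrank k ↥(A ⊔ Submodule.span k {x}) = Module.finrank k A + 1 := by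
        have hd : A ⊓ Submodule.span k {x} = ⊥ := by
          rw [← disjoint_iff]
          exact (Submodule.disjoint_span_singleton'
            (fun h => hxA (by rw [h]; exact A.zero_mem))).2 hxA
        have := Submodule.finrank_sup_add_finrank_inf_eq A (Submodule.span k {x})
        rw [hd, finrank_bot, add_zero, finrank_span_singleton
          (fun h => hxA (by rw [h]; exact A.zero_mem))] at this
        exact this
      obtain ⟨B, h1, h2, h3⟩ := ih (A ⊔ Submodule.span k {x})
        (sup_le hA ((Submodule.span_singleton_le_iff_mem _ _).2 hx)) (by rw [hA']; omega)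
      exact ⟨B, le_sup_left.trans h1, h2, by rw [h3, hA']; omega⟩
  obtain ⟨B, hB1, hB2, hB3⟩ := key (Module.finrank k V₁ - Module.finrank k (Submodule.map f V₁))
    (Submodule.map f V₁) hle (by omega)
  exact ⟨B, by rw [hB3]; omega, hB1, Submodule.map_le_iff_le_comap.2 hB2⟩

end Groth.Agent.S13926
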