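import Groth.Statements.S13934
import Groth.Agent.S1521
import Groth.Agent.S1524
import Groth.Agent.Models.TrivGeom
import Groth.Agent.PerfA.CohSerre

set_option autoImplicit false
universe u
open CategoryTheory CategoryTheory.Limits AlgebraicGeometry
open W4c1limliniiii

namespace Groth.Agent.S13934

section Pre

variable {X : Scheme.{u}}

theorem subsingleton_sections {M : X.Modules} (h : (𝟙 M : M ⟶ M) = 0) (W : X.Opens) :
    Subsingleton Γ(M, W) := by
  have h4 := congrArg (fun φ => Scheme.Modules.Hom.app φ W) h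
  constructor
  intro a b
  have ha := congr($h4 a)
  have hb := congr($h4 b)
  exact ha.trans hb.symm

/-- An invertible module on a non-empty scheme is not zero. -/
theorem id_ne_zero [Nonempty X] {L : X.Modules} (hL : PicF.IsInvertible L) :
    (𝟙 L : L ⟶ L) ≠ 0 := by
  intro h
  obtain ⟨x⟩ := (inferInstance : Nonempty X)
  obtain ⟨U, hx, ⟨e⟩⟩ := hL x
  have h1 : Subsingleton Γ(L.restrict U.ι, ⊤) := subsingleton_sections h (U.ι ''ᵁ ⊤)
  have h2 : Subsingleton Γ(Coh.structureModule (↑U : Scheme.{u}), ⊤) := by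
    constructor
    intro a b
    have key : ∀ c : Γ(Coh.structureModule (↑U : Scheme.{u}), ⊤),
        c = (Scheme.Modules.Hom.app e.hom ⊤) ((Scheme.Modules.Hom.app e.inv ⊤) c) := by
      intro c
      have h3 := congrArg (fun φ => Scheme.Modules.Hom.app φ ⊤) e.inv_hom_id
      exact congr($h3.symm c)
    rw [key a, key b, h1.elim ((Scheme.Modules.Hom.app e.inv ⊤) a)
      ((Scheme.Modules.Hom.app e.inv ⊤) b)]
  have h3 : Subsingleton Γ((↑U : Scheme.{u}), ⊤) := h2
  have h4 : Nonempty (⊤ : (↑U : Scheme.{u}).Opens) := ⟨⟨⟨x, hx⟩, trivial⟩⟩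
  exact false_of_nontrivial_of_subsingleton Γ((↑U : Scheme.{u}), ⊤)

/-- The short exact sequence of a monomorphism. -/
theorem exists_cok {A E : X.Modules} (j : A ⟶ E) [Mono j] :
    ∃ T : ShortComplex X.Modules, T.ShortExact ∧ T.X₂ = E ∧ T.X₁ = A ∧ T.X₃ = cokernel j := by
  refine ⟨ShortComplex.mk j (cokernel.π j) (cokernel.condition j), ?_, rfl, rfl, rfl⟩
  exact
    { exact := ShortComplex.exact_cokernel j
      mono_f := inferInstanceAs (Mono j)
      epi_g := inferInstanceAs (Epi (cokernel.π j)) }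

theorem exists_lift' {A B E E' : X.Modules} (a : A ⟶ E) (b : E ⟶ B) (w : a ≫ b = 0)
    (hT : (ShortComplex.mk a b w).ShortExact) (f : E' ⟶ E) (hf : f ≫ b = 0) :
    ∃ c : E' ⟶ A, c ≫ a = f := by
  haveI := hT.mono_f
  exact ⟨hT.exact.lift f hf, hT.exact.lift_f f hf⟩

theorem exists_lift {A E E' : X.Modules} (j : A ⟶ E) [hj : Mono j] (f : E' ⟶ E)
    (hf : f ≫ cokernel.π j = 0) : ∃ c : E' ⟶ A, c ≫ j = f :=
  exists_lift' j (cokernel.π j) (cokernel.condition j)
    { exact := ShortComplex.exact_cokernel j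
      mono_f := hj
      epi_g := inferInstanceAs (Epi (cokernel.π j)) } f hf

end Pre

/-- On a smooth proper integral curve over an algebraically closed field (any characteristic), let 0 → L
→ E → M → 0 be a short exact sequence of O_X-modules with E finite locally free of rank 2 and degree
0, L and M invertible and deg L > 0 (so M is det E ⊗ L⁻¹). Then: every invertible sheaf N admitting
a non-zero map N → E has deg N ≤ deg L, so L is the line bundle of maximal degree in E; every
invertible subsheaf N of E of positive degree with invertible quotient E/N coincides with L (some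
isomorphism N ≅ L commutes with the inclusions); and E is not an extension of two invertible sheaves
of degree 0. Degrees are χ(−) minus rank times χ(O_X). (The published lemma is stated on a curve of
genus 2 in characteristic p; its argument uses neither, and this row assumes neither.) -/
theorem result (k : Type u) [Field k] [IsAlgClosed k] (X : Scheme.{u}) [X.Over (Spec (CommRingCat.of k))]
    [IsIntegral X] [IsProper (X ↘ Spec (CommRingCat.of k))] [Smooth (X ↘ Spec (CommRingCat.of k))]
    (hdim : topologicalKrullDim X = 1)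
    (S : ShortComplex X.Modules) (hS : S.ShortExact)
    (hE : FlatMod.IsFinLocFreeOfRank 2 S.X₂) (hE0 : Curv2.deg k X S.X₂ 2 = 0)
    (hL : PicF.IsInvertible S.X₁) (hM : PicF.IsInvertible S.X₃) (hpos : 0 < Curv2.deg k X S.X₁ 1) :
    (∀ (N : X.Modules), PicF.IsInvertible N → ∀ j : N ⟶ S.X₂, j ≠ 0 →
        Curv2.deg k X N 1 ≤ Curv2.deg k X S.X₁ 1) ∧
    (∀ (N : X.Modules), PicF.IsInvertible N → ∀ (j : N ⟶ S.X₂), Mono j →
        PicF.IsInvertible (cokernel j) → 0 < Curv2.deg k X N 1 → ∃ φ : N ≅ S.X₁, φ.hom ≫ S.f = j) ∧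
    (∀ (N N' : X.Modules), PicF.IsInvertible N → PicF.IsInvertible N' →
        Curv2.deg k X N 1 = 0 → Curv2.deg k X N' 1 = 0 →
        ∀ (a : N ⟶ S.X₂) (b : S.X₂ ⟶ N') (w : a ≫ b = 0), ¬ (ShortComplex.mk a b w).ShortExact) := by
  have hXne : Nonempty X := inferInstance
  have i1 : Coh.IsCoh S.X₁ := Groth.Agent.Models.TrivGeom.isCoh_of_isInvertible hL
  have i3 : Coh.IsCoh S.X₃ := Groth.Agent.Models.TrivGeom.isCoh_of_isInvertible hM
  have i2 : Coh.IsCoh S.X₂ := Groth.Agent.PerfA.CohSerre.isCoh_of_isFinLocFree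
    (fun x => by obtain ⟨U, hx, e⟩ := hE x; exact ⟨U, 2, hx, e⟩)
  -- additivity
  have hadd : ∀ (T : ShortComplex X.Modules), T.ShortExact → T.X₂ = S.X₂ →
      PicF.IsInvertible T.X₁ → PicF.IsInvertible T.X₃ →
      Curv2.deg k X T.X₃ 1 = - Curv2.deg k X T.X₁ 1 := by
    intro T hT h2 h1 h3
    have h := Groth.Agent.S1524.result k X T hT
      (Groth.Agent.Models.TrivGeom.isCoh_of_isInvertible h1) (by rw [h2]; exact i2)
      (Groth.Agent.Models.TrivGeom.isCoh_of_isInvertible h3)
    rw [h2] at h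
    simp only [Curv2.deg] at hE0 ⊢
    push_cast at hE0 ⊢
    linarith
  have hdM : Curv2.deg k X S.X₃ 1 = - Curv2.deg k X S.X₁ 1 := hadd S hS rfl hL hM
  haveI := hS.mono_f
  haveI := hS.epi_g
  -- a map from an invertible module of positive degree to one of non-positive degree is zero
  have hzero : ∀ (A B : X.Modules), PicF.IsInvertible A → PicF.IsInvertible B → ∀ φ : A ⟶ B,
      Curv2.deg k X B 1 < Curv2.deg k X A 1 → φ = 0 := by
    intro A B hA hB φ hlt
    by_contra hφ
    have := (Groth.Agent.S1521.result k X hdim A B hA hB φ hφ).1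
    omega
  refine ⟨?_, ?_, ?_⟩
  · intro N hN j hj
    by_cases h : j ≫ S.g = 0
    · have h1 : hS.exact.lift j h ≠ 0 := by
        intro h0
        apply hj
        rw [← hS.exact.lift_f j h, h0, zero_comp]
      exact (Groth.Agent.S1521.result k X hdim N S.X₁ hN hL _ h1).1
    · have := (Groth.Agent.S1521.result k X hdim N S.X₃ hN hM _ h).1
      omega
  · intro N hN j hj hcok hpN
    obtain ⟨T, hT, hT2, hT1, hT3⟩ := exists_cok j
    have hdc : Curv2.deg k X (cokernel j) 1 = - Curv2.deg k X N 1 := by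
      have := hadd T hT hT2 (by rw [hT1]; exact hN) (by rw [hT3]; exact hcok)
      rwa [hT1, hT3] at this
    have h1 : j ≫ S.g = 0 := hzero N S.X₃ hN hM _ (by omega)
    have h2 : S.f ≫ cokernel.π j = 0 := hzero S.X₁ (cokernel j) hL hcok _ (by omega)
    obtain ⟨a, ha⟩ : ∃ a : N ⟶ S.X₁, a ≫ S.f = j := ⟨hS.exact.lift j h1, hS.exact.lift_f j h1⟩
    obtain ⟨b, hb⟩ : ∃ b : S.X₁ ⟶ N, b ≫ j = S.f := exists_lift j S.f h2
    refine ⟨⟨a, b, ?_, ?_⟩, ha⟩
    · rw [← cancel_mono j, Category.assoc, hb, ha, Category.id_comp]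
    · rw [← cancel_mono S.f, Category.assoc, ha, hb, Category.id_comp]
  · intro N N' hN hN' hdN hdN' a b w hT
    have h1 : S.f ≫ b = 0 := hzero S.X₁ N' hL hN' _ (by omega)
    obtain ⟨c, hc⟩ := exists_lift' a b w hT S.f h1
    have h2 : c = 0 := hzero S.X₁ N hL hN _ (by omega)
    have h3 : S.f = 0 := by rw [← hc, h2, zero_comp]
    apply id_ne_zero hL
    rw [← cancel_mono S.f, h3, comp_zero, comp_zero]

end Groth.Agent.S13934
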