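import Groth.Statements.S13935
import Groth.Agent.W4c1limliniiii.K808.RamD

set_option autoImplicit false
universe u
open W4c1limliniiii

namespace Groth.Agent.S13935

section Pre

open Polynomial

/-- A member of the span of `F` and `G` of degree at most that of `F₀`, `G₀` (incongruent
degrees `d` and `d - 1`), being a combination over polynomials in `X ^ p`, is a constant
combination. -/
theorem const_combo {k : Type u} [Field k] {p : ℕ} (hp2 : 2 ≤ p) {d : ℕ} {F₀ G₀ a b : k[X]}
    (hF0 : F₀ ≠ 0) (hG0 : G₀ ≠ 0) (hd : 1 ≤ d) (hF : F₀.natDegree = d) (hG : G₀.natDegree = d - 1)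
    (ha : K808.RamB.Con p a) (hb : K808.RamB.Con p b)
    (hdeg : (a * F₀ + b * G₀).natDegree ≤ d) : ∃ x y : k, a * F₀ + b * G₀ = x • F₀ + y • G₀ := by
  obtain ⟨s, hs⟩ := ha.natDegree_dvd
  obtain ⟨t, ht⟩ := hb.natDegree_dvd
  have hconst : a.natDegree = 0 ∧ b.natDegree = 0 := by
    by_cases ha0 : a = 0
    · subst ha0
      by_cases hb0 : b = 0
      · subst hb0; simp
      · rw [zero_mul, zero_add, natDegree_mul hb0 hG0, hG] at hdeg
        refine ⟨by simp, ?_⟩
        rcases t with _ | t
        · simpa using ht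
        · exfalso
          have : p ≤ b.natDegree := by rw [ht]; exact Nat.le_mul_of_pos_right p (Nat.succ_pos t)
          omega
    · by_cases hb0 : b = 0
      · subst hb0
        rw [zero_mul, add_zero, natDegree_mul ha0 hF0, hF] at hdeg
        exact ⟨by omega, by simp⟩
      · have h1 : (a * F₀).natDegree = a.natDegree + d := by rw [natDegree_mul ha0 hF0, hF]
        have h2 : (b * G₀).natDegree = b.natDegree + (d - 1) := by rw [natDegree_mul hb0 hG0, hG]
        have hne : (a * F₀).natDegree ≠ (b * G₀).natDegree := by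
          rw [h1, h2, hs, ht]
          intro h
          -- p * s + d = p * t + (d - 1)
          have h3 : p * t = p * s + 1 := by omega
          have h4 : p ∣ 1 := by
            have : p ∣ p * t - p * s := Nat.dvd_sub (dvd_mul_right _ _) (dvd_mul_right _ _)
            rwa [h3, Nat.add_sub_cancel_left] at this
          have := Nat.le_of_dvd one_pos h4
          omega
        rcases lt_or_gt_of_ne hne with h | h
        · rw [natDegree_add_eq_right_of_natDegree_lt h, h2] at hdeg
          rcases t with _ | t
          · rw [h1, h2] at h; omega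
          · have : p ≤ b.natDegree := by rw [ht]; exact Nat.le_mul_of_pos_right p (Nat.succ_pos t)
            omega
        · rw [natDegree_add_eq_left_of_natDegree_lt h, h1] at hdeg
          refine ⟨by omega, ?_⟩
          rcases t with _ | t
          · simpa using ht
          · have : p ≤ b.natDegree := by rw [ht]; exact Nat.le_mul_of_pos_right p (Nat.succ_pos t)
            omega
  obtain ⟨h1, h2⟩ := hconst
  rw [natDegree_eq_zero] at h1 h2
  obtain ⟨x, rfl⟩ := h1
  obtain ⟨y, rfl⟩ := h2
  exact ⟨x, y, by rw [smul_eq_C_mul, smul_eq_C_mul]⟩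

end Pre

open Polynomial in
/-- Let A be a discrete valuation ring of prime characteristic p containing a coefficient field — a
subfield k₀ ⊆ A mapping isomorphically onto the residue field k, which is algebraically closed —
with fraction field K. Let F, G ∈ A[x] have degree at most d and k-linearly independent reductions,
so that ⟨F, G⟩ is a family of pencils over Spec A; suppose F and G are coprime over K and the
generic member ⟨F, G⟩ ⊗ K is a base-point-free separable pencil of degree d with ramification index
exactly e_i at points P_1, …, P_n ∈ A of the affine line (admissible data: 2 ≤ e_i ≤ d, ∑ (e_i − 1)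
= 2d − 2, and every e_i < p), while its special member ⟨F̄, Ḡ⟩ over k is inseparable. If the
reductions P̄_i ∈ k are pairwise distinct, then they are in special position in the following sense:
for some integer m ≥ 1 with mp ≤ d and some ε ∈ {0, 1} there is a base-point-free separable pencil
over k of degree d + mp − 1 + ε with ramification index exactly e_i at P̄_i for each i and exactly
2mp − 1 + 2ε at infinity. (The companion case in which two of the sections meet in the special fibre
is not restated.) -/
theorem result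
    (p : ℕ) [Fact p.Prime] (k₀ : Type u) [Field k₀]
    (A : Type u) [CommRing A] [IsDomain A] [IsDiscreteValuationRing A] [CharP A p] [Algebra k₀ A]
    (hcoef : Function.Bijective (algebraMap k₀ (IsLocalRing.ResidueField A)))
    [IsAlgClosed (IsLocalRing.ResidueField A)]
    (K : Type u) [Field K] [Algebra A K] [IsFractionRing A K]
    (d n : ℕ) (e : Fin n → ℕ) (he : W4c1limliniiii.Admissible p d e) (hlt : ∀ i, e i < p)
    (P : Fin n → A) (F G : A[X]) (hF : F.natDegree ≤ d) (hG : G.natDegree ≤ d)
    (hind : LinearIndependent (IsLocalRing.ResidueField A)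
      ![F.map (IsLocalRing.residue A), G.map (IsLocalRing.residue A)])
    (hcop : IsCoprime (F.map (algebraMap A K)) (G.map (algebraMap A K)))
    (hgen : Submodule.span K {F.map (algebraMap A K), G.map (algebraMap A K)} ∈
      W4c1limliniiii.ramMaps d (fun i => algebraMap A K (P i)) e)
    (hinsep : ¬ W4c1limliniiii.IsSeparable
      (Submodule.span (IsLocalRing.ResidueField A)
        {F.map (IsLocalRing.residue A), G.map (IsLocalRing.residue A)}))
    (hdist : Function.Injective (fun i => IsLocalRing.residue A (P i))) :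
    ∃ m ε : ℕ, 1 ≤ m ∧ m * p ≤ d ∧ ε ≤ 1 ∧
      ∃ V ∈ W4c1limliniiii.ramMaps (d + m * p - 1 + ε) (fun i => IsLocalRing.residue A (P i)) e,
        W4c1limliniiii.HasRamIdxInf (d + m * p - 1 + ε) V (2 * m * p - 1 + 2 * ε) := by
  classical
  have hp := (inferInstance : Fact p.Prime).1
  have hp2 : 2 ≤ p := hp.two_le
  -- characteristic of the residue field and of the fraction field
  have hpA : (p : A) = 0 := CharP.cast_eq_zero A p
  haveI : CharP (IsLocalRing.ResidueField A) p := by
    rw [CharP.charP_iff_prime_eq_zero hp]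
    rw [← map_natCast (IsLocalRing.residue A), hpA, map_zero]
  haveI : CharP K p := charP_of_injective_algebraMap (IsFractionRing.injective A K) p
  -- the section of the residue map
  let ι : IsLocalRing.ResidueField A →+* A :=
    (algebraMap k₀ A).comp ((RingEquiv.ofBijective _ hcoef).symm : IsLocalRing.ResidueField A →+* k₀)
  have hι : (IsLocalRing.residue A).comp ι = RingHom.id _ := by
    ext x
    obtain ⟨y, rfl⟩ := hcoef.2 x
    have : (RingEquiv.ofBijective _ hcoef).symm ((algebraMap k₀ (IsLocalRing.ResidueField A)) y) = y :=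
      (RingEquiv.ofBijective _ hcoef).symm_apply_apply y
    simp only [ι, RingHom.comp_apply, RingHom.id_apply, RingHom.coe_coe, this]
    rfl
  obtain ⟨ϖ, hϖ⟩ := IsDiscreteValuationRing.exists_irreducible A
  obtain ⟨hadm, hsum⟩ := he
  obtain ⟨⟨hle, hfr, -, -⟩, hsep, hram⟩ := hgen
  have he1 : ∀ i, 1 ≤ e i := fun i => by have := (hadm i).1; omega
  set φ := algebraMap A K with hφ
  have hφi : Function.Injective φ := IsFractionRing.injective A K
  set ρ := IsLocalRing.residue A with hρ
  -- `d ≥ 1`
  have hd1 : 1 ≤ d := by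
    by_contra hd0
    have hd0' : d = 0 := by omega
    subst hd0'
    have h1 : n = 0 := by
      by_contra hn
      have := hadm ⟨0, Nat.pos_of_ne_zero hn⟩
      omega
    subst h1
    simp at hsum
  have hWK : wronskian (F.map φ) (G.map φ) ≠ 0 := by
    obtain ⟨s, hs, t, ht, hst⟩ := hsep
    obtain ⟨c, hc⟩ := K808.Ram.exists_wronskian_eq_smul hs ht
    intro h
    rw [h, smul_zero] at hc
    exact hst hc
  have hWA : wronskian F G ≠ 0 := by
    intro h
    apply hWK
    rw [← K808.RamD.map_wronskian, h, Polynomial.map_zero]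
  have hPinj : Function.Injective P := fun i j hij => hdist (by simp only [hij])
  have hPKinj : Function.Injective fun i => φ (P i) := fun i j hij => hPinj (hφi hij)
  -- generic members vanishing at the points
  have hgenv : ∀ i, ∃ x y : K, (x ≠ 0 ∨ y ≠ 0) ∧
      (X - C (φ (P i))) ^ e i ∣ C x * F.map φ + C y * G.map φ := by
    intro i
    obtain ⟨⟨s, hs, hs0, hse⟩, -⟩ := hram i
    obtain ⟨x, y, rfl⟩ := Submodule.mem_span_pair.1 hs
    refine ⟨x, y, ?_, ?_⟩
    · by_contra hcon
      push Not at hcon
      apply hs0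
      rw [hcon.1, hcon.2]; simp
    · have := (le_rootMultiplicity_iff hs0).1 hse
      rwa [smul_eq_C_mul, smul_eq_C_mul] at this
  have hFK : (F.map φ).natDegree ≤ d := natDegree_map_le.trans hF
  have hGK : (G.map φ).natDegree ≤ d := natDegree_map_le.trans hG
  have hdvdK : ∏ i, (X - C (φ (P i))) ^ (e i - 1) ∣ wronskian (F.map φ) (G.map φ) := by
    refine K808.RamD.prod_dvd_wronskian hPKinj fun i => ?_
    obtain ⟨x, y, hxy, hd⟩ := hgenv i
    exact K808.RamD.pow_dvd_wronskian_of_combo hxy hd
  have hsum' : ∑ i, (e i - 1) = 2 * d - 2 := by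
    have h1 : ∑ i, e i = ∑ i, (e i - 1) + n := by
      have : ∀ i : Fin n, e i = (e i - 1) + 1 := fun i => by have := he1 i; omega
      calc ∑ i, e i = ∑ i, ((e i - 1) + 1) := Finset.sum_congr rfl fun i _ => this i
        _ = ∑ i, (e i - 1) + n := by rw [Finset.sum_add_distrib]; simp
    omega
  have hdegWK : (wronskian (F.map φ) (G.map φ)).natDegree = 2 * d - 2 := by
    apply le_antisymm (K808.RamD.natDegree_wronskian_le _ _ d hd1 hFK hGK)
    rw [← hsum', ← K808.RamD.natDegree_prod (fun i => φ (P i)) e]
    exact natDegree_le_of_dvd hdvdK hWK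
  -- modification
  obtain ⟨l, F', G', hrel, hW'⟩ := K808.RamD.exists_good (p := p) hϖ ι hι hWA
  have hϖl : ϖ ^ l ≠ 0 := pow_ne_zero _ hϖ.ne_zero
  have hrelK := hrel.map φ
  have hϖlK : φ (ϖ ^ l) ≠ 0 := fun h => hϖl (hφi (by rw [h, map_zero]))
  -- the Wronskian of the modified pair
  have hW'A : ∃ q₀ : A, wronskian F' G' = (∏ i, (X - C (P i)) ^ (e i - 1)) * C q₀ := by
    have hmon := K808.RamD.monic_prod P e
    have h1 : (∏ i, (X - C (P i)) ^ (e i - 1)).map φ ∣ (wronskian F' G').map φ := by
      rw [Polynomial.map_prod]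
      have h2 := hdvdK
      rw [hrelK.wronskian] at h2
      have h3 : wronskian (F'.map φ) (G'.map φ) =
          C (φ (ϖ ^ l))⁻¹ * (C (φ (ϖ ^ l)) * wronskian (F'.map φ) (G'.map φ)) := by
        rw [← mul_assoc, ← map_mul, inv_mul_cancel₀ hϖlK, map_one, one_mul]
      rw [K808.RamD.map_wronskian, h3]
      refine Dvd.dvd.mul_left ?_ _
      convert h2 using 1
      refine Finset.prod_congr rfl fun i _ => ?_
      simp
    rw [map_dvd_map _ hφi hmon] at h1
    obtain ⟨q, hq⟩ := h1
    have hq0 : q ≠ 0 := by
      rintro rfl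
      rw [mul_zero] at hq
      apply hWA
      rw [hrel.wronskian, hq, mul_zero]
    have hdeg : (wronskian F' G').natDegree = 2 * d - 2 := by
      have h4 : (wronskian (F.map φ) (G.map φ)) = (C (ϖ ^ l) * wronskian F' G').map φ := by
        rw [← K808.RamD.map_wronskian, hrel.wronskian]
      rw [h4, natDegree_map_eq_of_injective hφi] at hdegWK
      rwa [natDegree_C_mul hϖl] at hdegWK
    rw [hq, hmon.natDegree_mul' hq0, K808.RamD.natDegree_prod, hsum'] at hdeg
    have h5 : q.natDegree = 0 := by omega
    rw [natDegree_eq_zero] at h5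
    obtain ⟨q₀, rfl⟩ := h5
    exact ⟨q₀, hq⟩
  obtain ⟨q₀, hq₀⟩ := hW'A
  have hWbar : wronskian (F'.map ρ) (G'.map ρ) =
      (∏ i, (X - C (ρ (P i))) ^ (e i - 1)) * C (ρ q₀) := by
    rw [← K808.RamD.map_wronskian, hq₀, Polynomial.map_mul, Polynomial.map_prod]
    simp
  have hq₀' : ρ q₀ ≠ 0 := by
    intro h
    rw [h, map_zero, mul_zero] at hWbar
    exact hW' hWbar
  -- reduction at infinity
  obtain ⟨F₀, G₀, hrel₀, hlt₀, hndvd⟩ := K808.RamC.exists_reduced (p := p) hW'
  have hW₀ : wronskian F₀ G₀ = wronskian (F'.map ρ) (G'.map ρ) := by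
    rw [hrel₀.wronskian, map_one, one_mul]
  have hW₀ne : wronskian F₀ G₀ ≠ 0 := by rw [hW₀]; exact hW'
  have hF₀ne : F₀ ≠ 0 := by rintro rfl; simp at hW₀ne
  have hG₀ne : G₀ ≠ 0 := by rintro rfl; simp at hW₀ne
  set D := F₀.natDegree with hD
  set D' := G₀.natDegree with hD'
  have hdegW₀ : (wronskian F₀ G₀).natDegree = 2 * d - 2 := by
    rw [hW₀, hWbar, natDegree_mul_C hq₀', K808.RamD.natDegree_prod, hsum']
  -- top coefficient
  have htop : (X * wronskian F₀ G₀).coeff (D + D') ≠ 0 := by
    rw [K808.RamB.coeff_wronskian_top F₀ G₀ D D' le_rfl le_rfl]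
    refine mul_ne_zero ?_ (mul_ne_zero ?_ ?_)
    · intro h
      apply hndvd
      have h1 : ((D - D' : ℕ) : IsLocalRing.ResidueField A) = 0 := by
        rw [Nat.cast_sub hlt₀.le]
        linear_combination -h
      exact (CharP.cast_eq_zero_iff _ p _).1 h1
    · exact leadingCoeff_ne_zero.2 hF₀ne
    · exact leadingCoeff_ne_zero.2 hG₀ne
  have hDD' : D + D' = 2 * d - 1 := by
    have h1 : (X * wronskian F₀ G₀).natDegree = 2 * d - 2 + 1 := by
      rw [natDegree_mul X_ne_zero hW₀ne, natDegree_X, hdegW₀]; ring
    have h2 : D + D' ≤ (X * wronskian F₀ G₀).natDegree := le_natDegree_of_ne_zero htop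
    have h3 : (X * wronskian F₀ G₀).natDegree ≤ D + D' := by
      rw [natDegree_le_iff_coeff_eq_zero]
      intro N hN
      rw [K808.RamB.coeff_X_mul_wronskian]
      refine Finset.sum_eq_zero fun x hx => ?_
      rw [Finset.mem_antidiagonal] at hx
      by_cases h1 : D < x.1
      · rw [coeff_eq_zero_of_natDegree_lt (p := F₀) (by omega)]; simp
      · rw [coeff_eq_zero_of_natDegree_lt (p := G₀) (by omega)]; simp
    omega
  -- the indicial relation
  have hind1 : ((D * D' : ℕ) : IsLocalRing.ResidueField A) =
      ((d * (d - 1) : ℕ) : IsLocalRing.ResidueField A) := by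
    have g1 := K808.RamB.indicial_generic F G d hd1 hF hG
    rw [hrel.wronskian, hrel.wronskian'] at g1
    have g2 : X ^ 3 * (C (ϖ ^ l) * wronskian (derivative F') (derivative G')) =
        C (ϖ ^ l) * (X ^ 3 * wronskian (derivative F') (derivative G')) := by ring
    have g3 : X * (C (ϖ ^ l) * wronskian F' G') = C (ϖ ^ l) * (X * wronskian F' G') := by ring
    rw [g2, g3, coeff_C_mul, coeff_C_mul] at g1
    have g4 : (X ^ 3 * wronskian (derivative F') (derivative G')).coeff (2 * d - 1) =
        ((d * (d - 1) : ℕ) : A) * (X * wronskian F' G').coeff (2 * d - 1) := by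
      apply mul_left_cancel₀ hϖl
      rw [g1]; ring
    have g5 := congrArg ρ g4
    rw [map_mul, map_natCast, ← coeff_map, ← coeff_map, Polynomial.map_mul, Polynomial.map_mul,
      Polynomial.map_pow, Polynomial.map_X, K808.RamD.map_wronskian, K808.RamD.map_wronskian,
      ← derivative_map, ← derivative_map, hrel₀.wronskian', hrel₀.wronskian, map_one, one_mul,
      one_mul] at g5
    have g6 := K808.RamB.indicial_special F₀ G₀ D D' le_rfl le_rfl
    rw [← hDD', g6] at g5
    exact mul_right_cancel₀ htop g5
  -- the defect `j`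
  obtain ⟨j, hj⟩ : ∃ j, D = d + j := ⟨D - d, by omega⟩
  have hj' : D' + j + 1 = d := by omega
  have hjj : p ∣ j * (j + 1) := by
    have h1 : D * D' + j * (j + 1) = d * (d - 1) := by
      have h2 : d - 1 = D' + j := by omega
      rw [h2, hj]
      have h3 : d = D' + j + 1 := hj'.symm
      rw [h3]; ring
    have h2 : ((j * (j + 1) : ℕ) : IsLocalRing.ResidueField A) = 0 := by
      have h3 := congrArg (Nat.cast : ℕ → IsLocalRing.ResidueField A) h1
      rw [Nat.cast_add, hind1] at h3
      simpa using h3
    exact (CharP.cast_eq_zero_iff _ p _).1 h2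
  have hj0 : j ≠ 0 := by
    rintro rfl
    -- then the special pencil would be separable
    apply hinsep
    obtain ⟨m11, m12, m21, m22, c11, c12, c21, c22, e1, e2, -⟩ := (hrel.map ρ).trans hrel₀
    have hDd : F₀.natDegree = d := by omega
    have hDd' : G₀.natDegree = d - 1 := by omega
    obtain ⟨x, y, hxy⟩ := const_combo hp2 hF₀ne hG₀ne hd1 hDd hDd' c11 c12
      (by rw [← e1]; exact natDegree_map_le.trans hF)
    obtain ⟨x', y', hxy'⟩ := const_combo hp2 hF₀ne hG₀ne hd1 hDd hDd' c21 c22
      (by rw [← e2]; exact natDegree_map_le.trans hG)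
    rw [← e1] at hxy
    rw [← e2] at hxy'
    refine ⟨F.map ρ, Submodule.subset_span (by simp), G.map ρ, Submodule.subset_span (by simp), ?_⟩
    rw [hxy, hxy', K808.Ram.wronskian_smul_combo]
    refine smul_ne_zero ?_ hW₀ne
    intro hdet
    -- dependence of the reductions
    have hli := LinearIndependent.pair_iff.1 hind
    have r1 := hli y' (-y) (by
      rw [hxy, hxy', smul_add, smul_add, smul_smul, smul_smul, smul_smul, smul_smul]
      have : (y' * x) • F₀ + (y' * y) • G₀ + ((-y * x') • F₀ + (-y * y') • G₀) =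
          (x * y' - y * x') • F₀ + (y' * y - y * y') • G₀ := by
        simp only [sub_smul, neg_mul, neg_smul, mul_comm x y', mul_comm y x']
        abel
      rw [this, hdet, mul_comm y' y, sub_self, zero_smul, zero_smul, add_zero])
    have r2 := hli x' (-x) (by
      rw [hxy, hxy', smul_add, smul_add, smul_smul, smul_smul, smul_smul, smul_smul]
      have : (x' * x) • F₀ + (x' * y) • G₀ + ((-x * x') • F₀ + (-x * y') • G₀) =
          (x' * x - x * x') • F₀ + (-(x * y' - y * x')) • G₀ := by
        simp only [sub_smul, neg_mul, neg_smul, neg_sub, mul_comm x' y]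
        abel
      rw [this, hdet, mul_comm x' x, sub_self, neg_zero, zero_smul, zero_smul, add_zero])
    have hx : x = 0 := by simpa using r2.2
    have hy : y = 0 := by simpa using r1.2
    rw [hx, hy, zero_smul, zero_smul, add_zero] at hxy
    have := (hli 1 0 (by rw [hxy]; simp)).1
    exact one_ne_zero this
  -- linear independence
  have hli₀ : LinearIndependent (IsLocalRing.ResidueField A) ![F₀, G₀] := by
    rw [LinearIndependent.pair_iff]
    intro x y hxy
    have h1 : y = 0 := by
      by_contra hy
      have h2 : wronskian F₀ (x • F₀ + y • G₀) = 0 := by rw [hxy]; simp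
      have h3 := K808.Ram.wronskian_smul_combo 1 0 x y F₀ G₀
      rw [one_smul, zero_smul, add_zero, h2, one_mul, zero_mul, sub_zero] at h3
      exact (smul_ne_zero hy hW₀ne) h3.symm
    subst h1
    refine ⟨?_, rfl⟩
    simpa [hF₀ne] using hxy
  -- the local conditions
  have hloc : ∀ i, HasRamIdx (Submodule.span (IsLocalRing.ResidueField A) {F₀, G₀}) (ρ (P i)) (e i) ∧
      ∃ s ∈ Submodule.span (IsLocalRing.ResidueField A) {F₀, G₀}, s.eval (ρ (P i)) ≠ 0 := by
    intro i
    obtain ⟨x, y, hxy, hdv⟩ := hgenv i
    obtain ⟨x', y', hxy', hdv'⟩ := hrelK.exists_dvd hϖlK (φ (P i)) (hlt i).le hxy hdv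
    obtain ⟨c, a, b, hc, hca, hcb, hab⟩ := K808.RamD.exists_primitive (A := A) hxy'
    have h1 : (X - C (P i)) ^ e i ∣ C a * F' + C b * G' := by
      rw [← map_dvd_map φ hφi ((monic_X_sub_C _).pow _)]
      have h2 : (C a * F' + C b * G').map φ = C c * (C x' * F'.map φ + C y' * G'.map φ) := by
        rw [Polynomial.map_add, Polynomial.map_mul, Polynomial.map_mul, map_C, map_C, ← hca, ← hcb,
          map_mul, map_mul]
        ring
      rw [h2, Polynomial.map_pow, Polynomial.map_sub, Polynomial.map_X, map_C]
      exact hdv'.mul_left _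
    have h2 := Polynomial.map_dvd ρ h1
    rw [Polynomial.map_pow, Polynomial.map_sub, Polynomial.map_X, map_C, Polynomial.map_add,
      Polynomial.map_mul, Polynomial.map_mul, map_C, map_C] at h2
    have hab' : ρ a ≠ 0 ∨ ρ b ≠ 0 := by
      rcases hab with rfl | rfl
      · left; rw [map_one]; exact one_ne_zero
      · right; rw [map_one]; exact one_ne_zero
    obtain ⟨x₀, y₀, hxy₀, hdv₀⟩ := hrel₀.exists_dvd one_ne_zero (ρ (P i)) (hlt i).le hab' h2
    refine K808.RamC.hasRamIdx_of_not_dvd (he1 i) ?_ hli₀ hxy₀ hdv₀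
    rw [hW₀, hWbar]
    intro h
    have hu : IsUnit (C (ρ q₀)) := isUnit_C.2 hq₀'.isUnit
    exact K808.RamD.not_dvd_prod hdist he1 i (hu.dvd_mul_right.1 h)
  have hbp : ∀ a, ∃ s ∈ Submodule.span (IsLocalRing.ResidueField A) {F₀, G₀}, s.eval a ≠ 0 := by
    intro a
    by_cases ha : ∃ i, a = ρ (P i)
    · obtain ⟨i, rfl⟩ := ha
      exact (hloc i).2
    · by_contra hcon
      push Not at hcon
      have hF₀a : F₀.eval a = 0 := hcon F₀ (Submodule.subset_span (by simp))
      have hG₀a : G₀.eval a = 0 := hcon G₀ (Submodule.subset_span (by simp))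
      have h1 : (wronskian F₀ G₀).eval a = 0 := by
        rw [wronskian]; simp [hF₀a, hG₀a]
      rw [hW₀, hWbar, eval_mul, eval_C, eval_prod] at h1
      rcases mul_eq_zero.1 h1 with h2 | h2
      · rw [Finset.prod_eq_zero_iff] at h2
        obtain ⟨i, -, hi⟩ := h2
        rw [eval_pow, eval_sub, eval_X, eval_C] at hi
        apply ha
        refine ⟨i, ?_⟩
        by_contra hne
        exact pow_ne_zero _ (sub_ne_zero.2 hne) hi
      · exact hq₀' h2
  have hVle : Submodule.span (IsLocalRing.ResidueField A) {F₀, G₀} ≤ degreeLE _ (D : ℕ) := by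
    rw [Submodule.span_le]
    rintro x (rfl | rfl)
    · exact mem_degreeLE.2 (degree_le_natDegree)
    · refine mem_degreeLE.2 (degree_le_natDegree.trans ?_)
      exact_mod_cast hlt₀.le
  have hVfr : Module.finrank (IsLocalRing.ResidueField A)
      (Submodule.span (IsLocalRing.ResidueField A) {F₀, G₀}) = 2 := by
    have := finrank_span_eq_card hli₀
    rw [Matrix.range_cons, Matrix.range_cons, Matrix.range_empty, Set.union_empty,
      Set.singleton_union] at this
    simpa using this
  have hmem : Submodule.span (IsLocalRing.ResidueField A) {F₀, G₀} ∈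
      ramMaps D (fun i => ρ (P i)) e :=
    ⟨⟨hVle, hVfr, ⟨F₀, Submodule.subset_span (by simp), rfl⟩, hbp⟩,
      ⟨F₀, Submodule.subset_span (by simp), G₀, Submodule.subset_span (by simp), hW₀ne⟩,
      fun i => (hloc i).1⟩
  have hinf : HasRamIdxInf D (Submodule.span (IsLocalRing.ResidueField A) {F₀, G₀}) (D - D') := by
    refine ⟨⟨G₀, Submodule.subset_span (by simp), hG₀ne, by omega⟩, ?_⟩
    intro s hs hs0
    obtain ⟨a, b, rfl⟩ := Submodule.mem_span_pair.1 hs
    by_cases ha : a = 0
    · subst ha
      have hb : b ≠ 0 := by rintro rfl; simp at hs0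
      have : (b • G₀).natDegree = G₀.natDegree := by
        rw [smul_eq_C_mul, natDegree_C_mul hb]
      simp only [zero_smul, zero_add, this]
      omega
    · have h1 : (a • F₀).natDegree = F₀.natDegree := by
        rw [smul_eq_C_mul, natDegree_C_mul ha]
      have h2 : (b • G₀).natDegree ≤ G₀.natDegree := natDegree_smul_le _ _
      have : (a • F₀ + b • G₀).natDegree = F₀.natDegree := by
        rw [natDegree_add_eq_left_of_natDegree_lt (by omega), h1]
      omega
  rcases (hp.dvd_mul).1 hjj with ⟨m, hm⟩ | ⟨m, hm⟩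
  · have hm1 : 1 ≤ m := by
      rcases m with _ | m
      · exact absurd (by simpa using hm) hj0
      · omega
    have hmp : m * p = j := by rw [hm, mul_comm]
    refine ⟨m, 1, hm1, by omega, le_rfl, Submodule.span (IsLocalRing.ResidueField A) {F₀, G₀}, ?_, ?_⟩
    · have : d + m * p - 1 + 1 = D := by omega
      rw [this]; exact hmem
    · have h1 : d + m * p - 1 + 1 = D := by omega
      have h2 : 2 * m * p - 1 + 2 * 1 = D - D' := by
        rw [mul_assoc, hmp]; omega
      rw [h1, h2]
      exact hinf
  · have hm1 : 1 ≤ m := by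
      rcases m with _ | m
      · simp at hm
      · omega
    have hmp : m * p = j + 1 := by rw [hm, mul_comm]
    refine ⟨m, 0, hm1, by omega, zero_le_one, Submodule.span (IsLocalRing.ResidueField A) {F₀, G₀}, ?_, ?_⟩
    · have : d + m * p - 1 + 0 = D := by omega
      rw [this]; exact hmem
    · have h1 : d + m * p - 1 + 0 = D := by omega
      have h2 : 2 * m * p - 1 + 2 * 0 = D - D' := by
        rw [mul_assoc, hmp]; omega
      rw [h1, h2]
      exact hinf

end Groth.Agent.S13935
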