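import Groth.Statements.S13936
import Groth.Agent.S3811

set_option autoImplicit false
universe u
open W4c1limliniiii

namespace Groth.Agent.S13936

section Pre

open PP16

variable {R S : Type u} [CommRing R] [CommRing S] [Algebra R S]

theorem dn_sub_mem (n : ℕ) (t : S) :
    dn n R S t - algebraMap S (P n R S) t ∈ augIdeal n R S := by
  have h : dn n R S t - algebraMap S (P n R S) t =
      Ideal.Quotient.mk _ ((1 : S) ⊗ₜ[R] t - t ⊗ₜ[R] (1 : S)) := by
    rw [map_sub]
    rfl
  rw [h]
  exact Ideal.mem_map_of_mem _ (KaehlerDifferential.one_smul_sub_smul_one_mem_ideal R t)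

theorem augIdeal_eq_span (n : ℕ) : augIdeal n R S =
    Ideal.span (Set.range fun t : S => dn n R S t - algebraMap S (P n R S) t) := by
  have h0 : augIdeal n R S = (Ideal.span (Set.range fun s : S =>
      (1 : S) ⊗ₜ[R] s - s ⊗ₜ[R] (1 : S))).map
        (Ideal.Quotient.mk ((KaehlerDifferential.ideal R S) ^ (n + 1))) :=
    congrArg (Ideal.map (Ideal.Quotient.mk ((KaehlerDifferential.ideal R S) ^ (n + 1))))
      (KaehlerDifferential.span_range_eq_ideal R S).symm
  rw [h0, Ideal.map_span]
  congr 1
  ext x
  constructor
  · rintro ⟨_, ⟨t, rfl⟩, rfl⟩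
    exact ⟨t, by rw [map_sub]; rfl⟩
  · rintro ⟨t, rfl⟩
    exact ⟨_, ⟨t, rfl⟩, by rw [map_sub]; rfl⟩

/-- Products of elements of `K`: the difference of two ring maps. -/
theorem sub_mem_sup {S Q : Type u} [CommRing S] [CommRing Q] (alg d : S →+* Q) (K : Ideal S)
    (T : Ideal Q) (hT : ∀ t, d t - alg t ∈ T) (m : ℕ) (t : S) (ht : t ∈ K ^ (m + 1)) :
    d t - alg t ∈ K.map alg * T ⊔ T ^ (m + 1) := by
  induction m generalizing t with
  | zero =>
    rw [zero_add, pow_one]
    exact Ideal.mem_sup_right (hT t)
  | succ m ih =>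
    rw [pow_succ] at ht
    refine Submodule.mul_induction_on ht ?_ ?_
    · intro x hx y hy
      have h1 := ih x hx
      have hxK : x ∈ K := Ideal.pow_le_self (Nat.succ_ne_zero m) hx
      have h2 : d (x * y) - alg (x * y) = alg y * (d x - alg x) + alg x * (d y - alg y) +
          (d x - alg x) * (d y - alg y) := by
        rw [map_mul, map_mul]; ring
      rw [h2]
      refine Ideal.add_mem _ (Ideal.add_mem _ ?_ ?_) ?_
      · exact Ideal.mem_sup_left (Ideal.mul_mem_mul (Ideal.mem_map_of_mem _ hy) (hT x))
      · exact Ideal.mem_sup_left (Ideal.mul_mem_mul (Ideal.mem_map_of_mem _ hxK) (hT y))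
      · obtain ⟨a, ha, b, hb, hab⟩ := Submodule.mem_sup.1 h1
        rw [← hab, add_mul]
        refine Ideal.add_mem _ (Ideal.mem_sup_left (Ideal.mul_mem_right _ _ ha))
          (Ideal.mem_sup_right ?_)
        rw [pow_succ _ (m + 1)]
        exact Ideal.mul_mem_mul hb (hT y)
    · intro x y hx hy
      rw [map_add, map_add, add_sub_add_comm]
      exact Ideal.add_mem _ hx hy

theorem sub_mem_of_pow_eq_bot {S Q : Type u} [CommRing S] [CommRing Q] (alg d : S →+* Q)
    (K : Ideal S) (T : Ideal Q) (hT : ∀ t, d t - alg t ∈ T) (m : ℕ) (hm : T ^ (m + 1) = ⊥) (t : S)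
    (ht : t ∈ K ^ (m + 1)) : d t - alg t ∈ K.map alg * T := by
  have := sub_mem_sup alg d K T hT m t ht
  rwa [hm, sup_bot_eq] at this

end Pre

/-- Let R be a commutative ring, S_Y → S_X a homomorphism of R-algebras (an affine piece of a morphism f
: X → Y of schemes over Spec R) and σ : S_X → R an R-algebra retraction (a section of X over the
base) with kernel I. For e ≥ 1 write T^{e−1} for the augmentation ideal of the ring of principal
parts of order e − 1 (the kernel of P^{e−1} → the algebra; for e = 2 this is the module of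
differentials). Then the natural map T^{e−1}(S_Y/R) → T^{e−1}(S_X/R) takes values in I ·
T^{e−1}(S_X/R) — that is, the induced map f^*T^{e−1}_Y → T^{e−1}_X vanishes at the section σ — if
and only if every element of S_Y whose image in S_X lies in I has image in I^e, which says that the
fibre of f through σ contains the e-th order thickening of σ. (The published statement is for a
morphism of separated schemes over a base and sections over an arbitrary base change; this row is
the affine computation it reduces to.) -/
theorem result (R SY SX : Type u)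
    [CommRing R] [CommRing SY] [CommRing SX] [Algebra R SY] [Algebra R SX] [Algebra SY SX]
    [IsScalarTower R SY SX] (σ : SX →ₐ[R] R) (e : ℕ) (he : 1 ≤ e) :
    (∀ y ∈ PP16.augIdeal (e - 1) R SY,
        PP16.map (e - 1) R SY R SX y ∈
          RingHom.ker σ.toRingHom • (PP16.augIdeal (e - 1) R SX).restrictScalars SX) ↔
      (∀ b : SY, algebraMap SY SX b ∈ RingHom.ker σ.toRingHom →
        algebraMap SY SX b ∈ RingHom.ker σ.toRingHom ^ e) := by
  obtain ⟨n, rfl⟩ : ∃ n, e = n + 1 := ⟨e - 1, by omega⟩
  rw [Nat.add_sub_cancel]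
  set K : Ideal SX := RingHom.ker σ.toRingHom with hK
  have hKσ : RingHom.ker σ = K := rfl
  have hsm : ∀ z : PP16.P n R SX, z ∈ K • (PP16.augIdeal n R SX).restrictScalars SX ↔
      z ∈ K.map (algebraMap SX (PP16.P n R SX)) * PP16.augIdeal n R SX := by
    intro z
    rw [← Ideal.smul_restrictScalars]
    rfl
  simp only [hsm]
  have hres := (Groth.Agent.S3811.result n R SX σ).2
  rw [hKσ] at hres
  constructor
  · intro h b hb
    have h1 := h _ (dn_sub_mem (R := R) n b)
    rw [map_sub, PP16.map_dn, PP16.map_algebraMap] at h1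
    have h2 : PP16.dn n R SX (algebraMap SY SX b) ∈ K.map (algebraMap SX (PP16.P n R SX)) := by
      have h3 := Ideal.add_mem _ (Ideal.mul_le_left h1)
        (Ideal.mem_map_of_mem (algebraMap SX (PP16.P n R SX)) hb)
      rwa [sub_add_cancel] at h3
    rw [← hres, RingHom.mem_ker, RingHom.comp_apply, Ideal.Quotient.eq_zero_iff_mem]
    exact h2
  · intro h
    have hle : PP16.augIdeal n R SY ≤
        (K.map (algebraMap SX (PP16.P n R SX)) * PP16.augIdeal n R SX).comap
          (PP16.map n R SY R SX).toRingHom := by
      rw [augIdeal_eq_span, Ideal.span_le]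
      rintro _ ⟨b, rfl⟩
      rw [SetLike.mem_coe, Ideal.mem_comap]
      change PP16.map n R SY R SX (PP16.dn n R SY b - algebraMap SY (PP16.P n R SY) b) ∈ _
      set r := σ (algebraMap SY SX b) with hr
      set b' := b - algebraMap R SY r with hb'
      have h1 : PP16.dn n R SY b - algebraMap SY (PP16.P n R SY) b =
          PP16.dn n R SY b' - algebraMap SY (PP16.P n R SY) b' := by
        rw [hb', map_sub, map_sub, AlgHom.commutes,
          ← IsScalarTower.algebraMap_apply R SY (PP16.P n R SY)]
        ring
      have h2 : algebraMap SY SX b' ∈ K := by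
        change σ (algebraMap SY SX b') = 0
        rw [hb', map_sub, map_sub, ← IsScalarTower.algebraMap_apply R SY SX, AlgHom.commutes, ← hr]
        simp
      have h3 := h b' h2
      rw [h1, map_sub, PP16.map_dn, PP16.map_algebraMap]
      exact sub_mem_of_pow_eq_bot (algebraMap SX (PP16.P n R SX)) (PP16.dn n R SX).toRingHom K
        (PP16.augIdeal n R SX) (fun t => dn_sub_mem n t) n
        (Groth.Agent.S3811.augIdeal_pow n R SX) _ h3
    intro y hy
    exact hle hy

end Groth.Agent.S13936
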