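import Groth.Statements.S13937
import Groth.Agent.W4c1limliniiii.K808.Ram

set_option autoImplicit false
universe u
open W4c1limliniiii

namespace Groth.Agent.S13937

section Pre

open Polynomial

/-- A polynomial of degree at most `d` divisible by powers of two distinct linear factors of total
degree larger than `d` is zero. -/
theorem eq_zero_of_two {k : Type u} [Field k] {d : ℕ} {a b : k} (hab : a ≠ b) {m n : ℕ}
    (hmn : d < m + n) {q : k[X]} (hq : q ∈ Polynomial.degreeLE k d) (ha : (X - C a) ^ m ∣ q)
    (hb : (X - C b) ^ n ∣ q) : q = 0 := by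
  by_contra h0
  have hcop : IsCoprime ((X - C a) ^ m) ((X - C b) ^ n) :=
    (isCoprime_X_sub_C_of_isUnit_sub (sub_ne_zero.2 hab).isUnit).pow
  have hd : (X - C a) ^ m * (X - C b) ^ n ∣ q := hcop.mul_dvd ha hb
  have h1 := natDegree_le_of_dvd hd h0
  rw [natDegree_mul (pow_ne_zero _ (X_sub_C_ne_zero _)) (pow_ne_zero _ (X_sub_C_ne_zero _)),
    natDegree_pow, natDegree_pow, natDegree_X_sub_C, natDegree_X_sub_C, mul_one, mul_one] at h1
  have h2 : q.natDegree ≤ d := natDegree_le_iff_degree_le.2 (mem_degreeLE.1 hq)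
  omega

/-- The linear space of pairs attached to the three Schubert conditions. -/
def pairSpace {k : Type u} [Field k] (d : ℕ) (P : Fin 3 → k) (e : Fin 3 → ℕ) :
    Submodule k (k[X] × k[X]) where
  carrier := {v | v.1 ∈ Polynomial.degreeLE k d ∧ v.2 ∈ Polynomial.degreeLE k d ∧
    (X - C (P 0)) ^ e 0 ∣ v.1 ∧ (X - C (P 1)) ^ e 1 ∣ v.2 ∧ (X - C (P 2)) ^ e 2 ∣ v.1 + v.2}
  add_mem' := by
    rintro v w ⟨h1, h2, h3, h4, h5⟩ ⟨h1', h2', h3', h4', h5'⟩
    refine ⟨add_mem h1 h1', add_mem h2 h2', dvd_add h3 h3', dvd_add h4 h4', ?_⟩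
    have : (v + w).1 + (v + w).2 = (v.1 + v.2) + (w.1 + w.2) := by
      simp only [Prod.fst_add, Prod.snd_add]; ring
    rw [this]
    exact dvd_add h5 h5'
  zero_mem' := ⟨zero_mem _, zero_mem _, dvd_zero _, dvd_zero _, by simp⟩
  smul_mem' := by
    rintro c v ⟨h1, h2, h3, h4, h5⟩
    refine ⟨Submodule.smul_mem _ c h1, Submodule.smul_mem _ c h2, ?_, ?_, ?_⟩
    · simpa only [Prod.smul_fst, smul_eq_C_mul] using h3.mul_left _
    · simpa only [Prod.smul_snd, smul_eq_C_mul] using h4.mul_left _
    · have : (c • v).1 + (c • v).2 = C c * (v.1 + v.2) := by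
        simp only [Prod.smul_fst, Prod.smul_snd, smul_eq_C_mul]; ring
      rw [this]
      exact h5.mul_left _

theorem pairSpace_ne_bot {k : Type u} [Field k] (d : ℕ) (P : Fin 3 → k) (e : Fin 3 → ℕ)
    (h0 : e 0 ≤ d) (h1 : e 1 ≤ d) (hsum : e 0 + e 1 + e 2 = 2 * d + 1) :
    pairSpace d P e ≠ ⊥ := by
  have hmon : ((X - C (P 2)) ^ e 2).Monic := (monic_X_sub_C _).pow _
  -- the linear map whose kernel is the space of solutions
  let μ : (degreeLT k (d + 1 - e 0) × degreeLT k (d + 1 - e 1)) →ₗ[k] k[X] :=
    LinearMap.coprod ((LinearMap.mulLeft k ((X - C (P 0)) ^ e 0)).comp (Submodule.subtype _))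
      ((LinearMap.mulLeft k ((X - C (P 1)) ^ e 1)).comp (Submodule.subtype _))
  let ρ : k[X] →ₗ[k] degreeLT k (e 2) :=
    LinearMap.codRestrict _ (modByMonicHom ((X - C (P 2)) ^ e 2)) (by
      intro q
      rw [mem_degreeLT]
      have h := degree_modByMonic_lt q hmon
      rw [degree_pow, degree_X_sub_C, nsmul_one] at h
      exact h)
  have hfin : ∀ n, FiniteDimensional k (degreeLT k n) := fun n =>
    Module.Finite.equiv (degreeLTEquiv k n).symm
  have hdim : ∀ n, Module.finrank k (degreeLT k n) = n := fun n => by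
    rw [(degreeLTEquiv k n).finrank_eq]; simp
  have := hfin (d + 1 - e 0); have := hfin (d + 1 - e 1); have := hfin (e 2)
  have hker : LinearMap.ker (ρ.comp μ) ≠ ⊥ := by
    intro h
    have h2 := LinearMap.finrank_range_add_finrank_ker (ρ.comp μ)
    have h3 := Submodule.finrank_le (LinearMap.range (ρ.comp μ))
    rw [h, finrank_bot, Module.finrank_prod, hdim, hdim] at h2
    rw [hdim] at h3
    omega
  obtain ⟨⟨a, b⟩, hab, hne⟩ := (Submodule.ne_bot_iff _).1 hker
  rw [Submodule.ne_bot_iff]
  refine ⟨((X - C (P 0)) ^ e 0 * a.1, (X - C (P 1)) ^ e 1 * b.1), ⟨?_, ?_, dvd_mul_right _ _,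
    dvd_mul_right _ _, ?_⟩, ?_⟩
  · have ha := mem_degreeLT.1 a.2
    rw [mem_degreeLE]
    rcases eq_or_ne a.1 0 with h | h
    · simp [h]
    · show (_ * a.1).degree ≤ _
      rw [degree_mul, degree_pow, degree_X_sub_C, nsmul_one, degree_eq_natDegree h]
      rw [degree_eq_natDegree h] at ha
      norm_cast at ha ⊢
      omega
  · have ha := mem_degreeLT.1 b.2
    rw [mem_degreeLE]
    rcases eq_or_ne b.1 0 with h | h
    · simp [h]
    · show (_ * b.1).degree ≤ _
      rw [degree_mul, degree_pow, degree_X_sub_C, nsmul_one, degree_eq_natDegree h]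
      rw [degree_eq_natDegree h] at ha
      norm_cast at ha ⊢
      omega
  · have h := congrArg Subtype.val (LinearMap.mem_ker.1 hab)
    rw [← modByMonic_eq_zero_iff_dvd hmon]
    exact h
  · intro h
    apply hne
    have h1 := (Prod.ext_iff.1 h).1
    have h2 := (Prod.ext_iff.1 h).2
    have h1' := (mul_eq_zero.1 h1).resolve_left (pow_ne_zero _ (X_sub_C_ne_zero _))
    have h2' := (mul_eq_zero.1 h2).resolve_left (pow_ne_zero _ (X_sub_C_ne_zero _))
    exact Prod.ext (Subtype.ext h1') (Subtype.ext h2')

end Pre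

open Polynomial in
/-- Over an algebraically closed field of characteristic p (zero allowed), fix three distinct points
P_1, P_2, P_3 of the affine line and admissible indices (2 ≤ e_i ≤ d, e_i prime to p, ∑ (e_i − 1) =
2d − 2). The two-dimensional spaces V of polynomials of degree at most d that contain, for each i, a
non-zero member vanishing to order at least e_i at P_i (the intersection of the three Schubert
cycles in the Grassmannian of pencils) form a projective space of some dimension m ≥ 0: there is a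
non-zero linear space L of pairs of polynomials such that sending a non-zero pair (F, G) ∈ L to the
span of F and G is a surjection onto that set of spaces under which two non-zero pairs have the same
image exactly when they are proportional. -/
theorem result (k : Type u) [Field k]
    [IsAlgClosed k] (p : ℕ) [CharP k p] (d : ℕ) (P : Fin 3 → k) (hP : Function.Injective P)
    (e : Fin 3 → ℕ) (he : W4c1limliniiii.Admissible p d e) :
    ∃ L : Submodule k (k[X] × k[X]), L ≠ ⊥ ∧
      (∀ v ∈ L, v ≠ 0 →
        Submodule.span k {v.1, v.2} ≤ Polynomial.degreeLE k d ∧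
          Module.finrank k (Submodule.span k {v.1, v.2}) = 2 ∧
          ∀ i, ∃ s ∈ Submodule.span k {v.1, v.2}, s ≠ 0 ∧
            e i ≤ Polynomial.rootMultiplicity (P i) s) ∧
      (∀ V : Submodule k k[X], V ≤ Polynomial.degreeLE k d → Module.finrank k V = 2 →
        (∀ i, ∃ s ∈ V, s ≠ 0 ∧ e i ≤ Polynomial.rootMultiplicity (P i) s) →
          ∃ v ∈ L, v ≠ 0 ∧ Submodule.span k {v.1, v.2} = V) ∧
      (∀ v ∈ L, ∀ w ∈ L, v ≠ 0 → w ≠ 0 →
        Submodule.span k {v.1, v.2} = Submodule.span k {w.1, w.2} → ∃ c : k, w = c • v) := by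
  obtain ⟨hadm, hsum⟩ := he
  have hsum' : e 0 + e 1 + e 2 = 2 * d + 1 := by
    simp only [Fin.sum_univ_three] at hsum
    omega
  have l0 := (hadm 0).2.1; have l1 := (hadm 1).2.1; have l2 := (hadm 2).2.1
  have k0 := (hadm 0).1; have k1 := (hadm 1).1; have k2 := (hadm 2).1
  have P01 : P 0 ≠ P 1 := fun h => by have := hP h; simp at this
  have P02 : P 0 ≠ P 2 := fun h => by have := hP h; simp at this
  have P12 : P 1 ≠ P 2 := fun h => by have := hP h; simp at this
  -- the two members of a non-zero pair are independent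
  have key : ∀ v ∈ pairSpace d P e, v ≠ 0 → LinearIndependent k ![v.1, v.2] := by
    rintro ⟨F, G⟩ ⟨hF, hG, hF0, hG1, hFG⟩ hv
    simp only at hF hG hF0 hG1 hFG
    have hFne : F ≠ 0 := by
      rintro rfl
      rw [zero_add] at hFG
      exact hv (Prod.ext rfl (eq_zero_of_two (m := e 1) (n := e 2) P12 (by omega) hG hG1 hFG))
    have hGne : G ≠ 0 := by
      rintro rfl
      rw [add_zero] at hFG
      exact hFne (eq_zero_of_two (m := e 0) (n := e 2) P02 (by omega) hF hF0 hFG)
    rw [LinearIndependent.pair_iff]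
    intro x y hxy
    have hy : y = 0 := by
      by_contra hy
      apply hGne
      refine eq_zero_of_two (m := e 0) (n := e 1) P01 (by omega) hG ?_ hG1
      have : G = C (-x / y) * F := by
        have h3 : y • G = (-x) • F := by
          have := hxy
          simp only [Matrix.cons_val_zero, Matrix.cons_val_one] at this
          rw [neg_smul]; exact eq_neg_of_add_eq_zero_right this
        rw [← smul_eq_C_mul, div_eq_inv_mul, mul_smul, ← h3, smul_smul, inv_mul_cancel₀ hy, one_smul]
      rw [this]
      exact hF0.mul_left _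
    subst hy
    refine ⟨?_, rfl⟩
    simpa [hFne] using hxy
  have hcard : ∀ v : k[X] × k[X], LinearIndependent k ![v.1, v.2] →
      Module.finrank k (Submodule.span k {v.1, v.2}) = 2 := by
    intro v hv
    have := finrank_span_eq_card hv
    rw [Matrix.range_cons, Matrix.range_cons, Matrix.range_empty, Set.union_empty,
      Set.singleton_union] at this
    simpa using this
  refine ⟨pairSpace d P e, pairSpace_ne_bot d P e l0 l1 hsum', ?_, ?_, ?_⟩
  · intro v hv hv0
    have hli := key v hv hv0
    obtain ⟨hF, hG, hF0, hG1, hFG⟩ := hv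
    have hne := LinearIndependent.pair_iff.1 hli
    have hF' : v.1 ≠ 0 := fun h => by simpa using (hne 1 0 (by simp [h])).1
    have hG' : v.2 ≠ 0 := fun h => by simpa using (hne 0 1 (by simp [h])).2
    have hFG' : v.1 + v.2 ≠ 0 := fun h => by simpa using (hne 1 1 (by simpa using h)).1
    refine ⟨?_, hcard v hli, ?_⟩
    · rw [Submodule.span_le]
      rintro x (rfl | rfl)
      · exact hF
      · exact hG
    · intro i
      fin_cases i
      · exact ⟨v.1, Submodule.subset_span (by simp), hF', (le_rootMultiplicity_iff hF').2 hF0⟩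
      · exact ⟨v.2, Submodule.subset_span (by simp), hG', (le_rootMultiplicity_iff hG').2 hG1⟩
      · exact ⟨v.1 + v.2, add_mem (Submodule.subset_span (by simp))
          (Submodule.subset_span (by simp)), hFG', (le_rootMultiplicity_iff hFG').2 hFG⟩
  · intro V hVd hV2 hVi
    obtain ⟨s0, hs0, hs0', hm0⟩ := hVi 0
    obtain ⟨s1, hs1, hs1', hm1⟩ := hVi 1
    obtain ⟨s2, hs2, hs2', hm2⟩ := hVi 2
    rw [le_rootMultiplicity_iff hs0'] at hm0
    rw [le_rootMultiplicity_iff hs1'] at hm1
    rw [le_rootMultiplicity_iff hs2'] at hm2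
    have hli : LinearIndependent k ![s0, s1] := by
      rw [LinearIndependent.pair_iff]
      intro x y hxy
      have hy : y = 0 := by
        by_contra hy
        apply hs1'
        refine eq_zero_of_two (m := e 0) (n := e 1) P01 (by omega) (hVd hs1) ?_ hm1
        have : s1 = C (-x / y) * s0 := by
          have h3 : y • s1 = (-x) • s0 := by
            rw [neg_smul]; exact eq_neg_of_add_eq_zero_right hxy
          rw [← smul_eq_C_mul, div_eq_inv_mul, mul_smul, ← h3, smul_smul, inv_mul_cancel₀ hy, one_smul]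
        rw [this]
        exact hm0.mul_left _
      subst hy
      refine ⟨?_, rfl⟩
      simpa [hs0'] using hxy
    have hspan := K808.Ram.span_pair_eq hV2 hs0 hs1 hli
    have hs2m := hs2
    rw [← hspan] at hs2m
    obtain ⟨a, b, hab⟩ := Submodule.mem_span_pair.1 hs2m
    have ha : a ≠ 0 := by
      rintro rfl
      rw [zero_smul, zero_add] at hab
      apply hs2'
      refine eq_zero_of_two (m := e 1) (n := e 2) P12 (by omega) (hVd hs2) ?_ hm2
      rw [← hab, smul_eq_C_mul]
      exact hm1.mul_left _
    have hb : b ≠ 0 := by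
      rintro rfl
      rw [zero_smul, add_zero] at hab
      apply hs2'
      refine eq_zero_of_two (m := e 0) (n := e 2) P02 (by omega) (hVd hs2) ?_ hm2
      rw [← hab, smul_eq_C_mul]
      exact hm0.mul_left _
    refine ⟨(a • s0, b • s1), ⟨Submodule.smul_mem _ _ (hVd hs0), Submodule.smul_mem _ _ (hVd hs1),
      ?_, ?_, ?_⟩, ?_, ?_⟩
    · simp only [smul_eq_C_mul]; exact hm0.mul_left _
    · simp only [smul_eq_C_mul]; exact hm1.mul_left _
    · simp only [hab]; exact hm2
    · intro h
      have := (Prod.ext_iff.1 h).1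
      simp [ha, hs0'] at this
    · rw [← hspan]
      refine le_antisymm ?_ ?_
      · rw [Submodule.span_le]
        rintro x (rfl | rfl)
        · exact Submodule.smul_mem _ _ (Submodule.subset_span (by simp))
        · exact Submodule.smul_mem _ _ (Submodule.subset_span (by simp))
      · rw [Submodule.span_le]
        rintro x (rfl | rfl)
        · exact (Submodule.smul_mem_iff _ ha).1 (Submodule.subset_span (by simp))
        · exact (Submodule.smul_mem_iff _ hb).1 (Submodule.subset_span (by simp))
  · intro v hv w hw hv0 hw0 hvw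
    have hliv := key v hv hv0
    obtain ⟨hF, hG, hF0, hG1, hFG⟩ := hv
    obtain ⟨hF', hG', hF0', hG1', hFG'⟩ := hw
    have hne := LinearIndependent.pair_iff.1 hliv
    have hv1 : v.1 ≠ 0 := fun h => by simpa using (hne 1 0 (by simp [h])).1
    have hv2 : v.2 ≠ 0 := fun h => by simpa using (hne 0 1 (by simp [h])).2
    have hv12 : v.1 + v.2 ≠ 0 := fun h => by simpa using (hne 1 1 (by simpa using h)).1
    have hw1 : w.1 ∈ Submodule.span k {v.1, v.2} := by rw [hvw]; exact Submodule.subset_span (by simp)
    have hw2 : w.2 ∈ Submodule.span k {v.1, v.2} := by rw [hvw]; exact Submodule.subset_span (by simp)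
    obtain ⟨a, b, hab⟩ := Submodule.mem_span_pair.1 hw1
    obtain ⟨a', b', hab'⟩ := Submodule.mem_span_pair.1 hw2
    have hb : b = 0 := by
      by_contra hb
      apply hv2
      refine eq_zero_of_two (m := e 0) (n := e 1) P01 (by omega) hG ?_ hG1
      have h3 : b • v.2 = w.1 - a • v.1 := by rw [← hab]; abel
      have h4 : v.2 = C b⁻¹ * (w.1 - C a * v.1) := by
        rw [← smul_eq_C_mul, ← smul_eq_C_mul, ← h3, smul_smul, inv_mul_cancel₀ hb, one_smul]
      rw [h4]
      exact (dvd_sub hF0' (hF0.mul_left _)).mul_left _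
    have ha' : a' = 0 := by
      by_contra ha
      apply hv1
      refine eq_zero_of_two (m := e 0) (n := e 1) P01 (by omega) hF hF0 ?_
      have h3 : a' • v.1 = w.2 - b' • v.2 := by rw [← hab']; abel
      have h4 : v.1 = C a'⁻¹ * (w.2 - C b' * v.2) := by
        rw [← smul_eq_C_mul, ← smul_eq_C_mul, ← h3, smul_smul, inv_mul_cancel₀ ha, one_smul]
      rw [h4]
      exact (dvd_sub hG1' (hG1.mul_left _)).mul_left _
    subst hb ha'
    rw [zero_smul, add_zero] at hab
    rw [zero_smul, zero_add] at hab'
    have hab'' : b' = a := by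
      by_contra hne'
      -- (b' - a) v.2 = w.1 + w.2 - a (v.1 + v.2)
      have h3 : (b' - a) • v.2 = (w.1 + w.2) - a • (v.1 + v.2) := by
        rw [← hab, ← hab', sub_smul, smul_add]; abel
      have hne2 : b' - a ≠ 0 := sub_ne_zero.2 hne'
      have h4 : v.2 = C (b' - a)⁻¹ * ((w.1 + w.2) - C a * (v.1 + v.2)) := by
        rw [← smul_eq_C_mul, ← smul_eq_C_mul, ← h3, smul_smul, inv_mul_cancel₀ hne2, one_smul]
      apply hv2
      refine eq_zero_of_two (m := e 1) (n := e 2) P12 (by omega) hG hG1 ?_
      rw [h4]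
      exact (dvd_sub hFG' (hFG.mul_left _)).mul_left _
    refine ⟨a, ?_⟩
    refine Prod.ext ?_ ?_
    · simp [← hab]
    · simp [← hab', hab'']

end Groth.Agent.S13937
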