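import Groth.Statements.S13940
import Groth.Agent.TateLoc.K809.TorsTwo

set_option autoImplicit false
universe u
open TateLoc

namespace Groth.Agent.S13940

open CategoryTheory AlgebraicGeometry in
/-- For a field k and a commutative k-group scheme G of finite type (not necessarily affine), every
element of H^2(k, G), the second cohomology of the sheaf of points of G on the big fppf site of Spec
k, has finite order. -/
theorem result (k : Type u) [Field k]
    (G : Over (Spec (CommRingCat.of k))) [GrpObj G] [IsCommMonObj G]
    [LocallyOfFiniteType G.hom] [QuasiCompact G.hom] :
    IsAddTorsion (BigSite.H Scheme.fppfPrecoverage (Spec (CommRingCat.of k)) (CGrpSh.pts Scheme.fppfPrecoverage G) 2) := by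
  exact fun x => K809.TorsTwo.isOfFinAddOrder k G 2 (by norm_num) x

end Groth.Agent.S13940
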