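import Groth.Statements.S13941
import Groth.Agent.TateLoc.K773.DualTors

set_option autoImplicit false
universe u
open TateLoc

namespace Groth.Agent.S13941

open CategoryTheory AlgebraicGeometry in
/-- For a field k and an affine commutative k-group scheme G of finite type, every element of H^2(k, Ĝ)
has finite order, where Ĝ is the dual sheaf of G (internal Hom from the sheaf of points of G into
the multiplicative group on the big fppf site of Spec k). -/
theorem result (k : Type u) [Field k]
    (G : Over (Spec (CommRingCat.of k))) [GrpObj G] [IsCommMonObj G] [IsAffine G.left] [LocallyOfFiniteType G.hom] :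
    IsAddTorsion (BigSite.H Scheme.fppfPrecoverage (Spec (CommRingCat.of k))
      (CGrpSh2.dualSh Scheme.fppfPrecoverage (CGrpSh.pts Scheme.fppfPrecoverage G)) 2) := by
  intro x
  obtain ⟨n, hn, h⟩ := K773.DualTors.torsion k G 1 x
  exact isOfFinAddOrder_iff_nsmul_eq_zero.2 ⟨n, hn, h⟩

end Groth.Agent.S13941
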