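import Groth.Statements.S13943
import Groth.Agent.TateLoc.K59.HTwoDual

set_option autoImplicit false
universe u
open TateLoc

namespace Groth.Agent.S13943

open CategoryTheory AlgebraicGeometry MonObj in
/-- Let k be a non-archimedean local field of characteristic p > 0. For an abelian sheaf F on the big
fppf site of Spec k send α ∈ H^2(k, F) to the homomorphism χ ↦ χ_*(α) from the group of characters
Hom(F, 𝔾_m) to H^2(k, 𝔾_m); this is the pairing of H^2(k, F) with the sections of the dual sheaf F̂
= Hom(F, 𝔾_m). Suppose that for the sheaf of points of every finite commutative k-group scheme this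
map is injective and every homomorphism from the character group to H^2(k, 𝔾_m) is of this form.
Then for every affine commutative k-group scheme G of finite type the map for the sheaf of points of
G is injective, and every homomorphism from the character group of G to H^2(k, 𝔾_m) is of this form.
(The published statement composes with the invariant isomorphism H^2(k, 𝔾_m) ≅ ℚ/ℤ and phrases the
conclusion as a continuous perfect pairing between the discrete torsion group H^2(k, G) and the
profinite completion of the finitely generated character group; it takes the case of finite group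
schemes from the literature, and this row carries that case as a hypothesis.) -/
theorem result (p : ℕ) [Fact p.Prime] (k : Type u) [Field k] [CharP k p]
    [ValuativeRel k] [TopologicalSpace k] [IsNonarchimedeanLocalField k]
    (hfin : ∀ (A : Over (Spec (CommRingCat.of k))) [GrpObj A] [IsCommMonObj A] [IsFinite A.hom],
      (∀ α : BigSite.H Scheme.fppfPrecoverage (Spec (CommRingCat.of k)) (CGrpSh.pts Scheme.fppfPrecoverage A) 2,
        (∀ χ : (CGrpSh.pts Scheme.fppfPrecoverage A) ⟶ (CGrpSh2.Gm Scheme.fppfPrecoverage (Spec (CommRingCat.of k))), Sheaf.H.map χ 2 α = 0) → α = 0) ∧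
      (∀ f : ((CGrpSh.pts Scheme.fppfPrecoverage A) ⟶ (CGrpSh2.Gm Scheme.fppfPrecoverage (Spec (CommRingCat.of k)))) →+ BigSite.H Scheme.fppfPrecoverage (Spec (CommRingCat.of k)) (CGrpSh2.Gm Scheme.fppfPrecoverage (Spec (CommRingCat.of k))) 2,
        ∃ α : BigSite.H Scheme.fppfPrecoverage (Spec (CommRingCat.of k)) (CGrpSh.pts Scheme.fppfPrecoverage A) 2, ∀ χ : (CGrpSh.pts Scheme.fppfPrecoverage A) ⟶ (CGrpSh2.Gm Scheme.fppfPrecoverage (Spec (CommRingCat.of k))), Sheaf.H.map χ 2 α = f χ))
    (G : Over (Spec (CommRingCat.of k))) [GrpObj G] [IsCommMonObj G] [IsAffine G.left] [LocallyOfFiniteType G.hom] :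
    (∀ α : BigSite.H Scheme.fppfPrecoverage (Spec (CommRingCat.of k)) (CGrpSh.pts Scheme.fppfPrecoverage G) 2,
      (∀ χ : (CGrpSh.pts Scheme.fppfPrecoverage G) ⟶ (CGrpSh2.Gm Scheme.fppfPrecoverage (Spec (CommRingCat.of k))), Sheaf.H.map χ 2 α = 0) → α = 0) ∧
    (∀ f : ((CGrpSh.pts Scheme.fppfPrecoverage G) ⟶ (CGrpSh2.Gm Scheme.fppfPrecoverage (Spec (CommRingCat.of k)))) →+ BigSite.H Scheme.fppfPrecoverage (Spec (CommRingCat.of k)) (CGrpSh2.Gm Scheme.fppfPrecoverage (Spec (CommRingCat.of k))) 2,
      ∃ α : BigSite.H Scheme.fppfPrecoverage (Spec (CommRingCat.of k)) (CGrpSh.pts Scheme.fppfPrecoverage G) 2, ∀ χ : (CGrpSh.pts Scheme.fppfPrecoverage G) ⟶ (CGrpSh2.Gm Scheme.fppfPrecoverage (Spec (CommRingCat.of k))), Sheaf.H.map χ 2 α = f χ) := by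
  have hdiv : ∀ (N : ℕ), 0 < N → ∀ x : Abelian.Ext (K59.HTwoDual.XX k) (K59.HTwoDual.GG k) 2, ∃ y, N • y = x :=
    fun N hN x => K59.BrDiv.divisible k (K59.CdLoc.cd_le_two k) N hN x
  have hfin' : ∀ F : BigSite.Ab Scheme.fppfPrecoverage (Spec (CommRingCat.of k)), K59.DevFin.Fin F →
      K59.Pair.Inj (K59.HTwoDual.XX k) (K59.HTwoDual.GG k) F ∧ K59.Pair.Sur (K59.HTwoDual.XX k) (K59.HTwoDual.GG k) F := by
    rintro F ⟨A, _, _, _, ⟨e⟩⟩
    obtain ⟨h1, h2⟩ := hfin A
    exact ⟨K59.Pair.inj_iso e h1, K59.Pair.sur_iso e h2⟩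
  exact K59.HTwoDual.main k p hdiv hfin' _ (K59.DevRep.rep_pts G)

end Groth.Agent.S13943
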