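import Groth.Statements.S13944
import Groth.Agent.TateLoc.K773.ScdAsm
import Groth.Agent.TateLoc.K773.ScdLocal
import Groth.Agent.TateLoc.K810.HThree
import Groth.Agent.Dix.K109.PadicLF
import Groth.Agent.HLoc2.K775.Tors

set_option autoImplicit false
universe u
open TateLoc

namespace Groth.Agent.S13944

open CategoryTheory AlgebraicGeometry in
/-- Take a non-archimedean local field k and a commutative group scheme G over k that is affine and of
finite type. If the third cohomology H^3(k, Ĝ_a) of the dual sheaf of the additive group vanishes
(dual sheaf = internal Hom into the multiplicative group on the big fppf site of Spec k), then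
H^3(k, Ĝ) vanishes for the dual sheaf Ĝ of G. (The published statement is unconditional and also
covers global fields without real places; its proof obtains the case of the additive group in
positive characteristic from a separate result, and this row carries that case as a hypothesis. In
characteristic zero the hypothesis holds for every perfect field.) -/
theorem result (k : Type u) [Field k] [ValuativeRel k] [TopologicalSpace k] [IsNonarchimedeanLocalField k]
    (hGa : Subsingleton (BigSite.H Scheme.fppfPrecoverage (Spec (CommRingCat.of k)) (CGrpSh2.dualSh Scheme.fppfPrecoverage (CGrpSh2.Ga Scheme.fppfPrecoverage (Spec (CommRingCat.of k)))) 3))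
    (G : Over (Spec (CommRingCat.of k))) [GrpObj G] [IsCommMonObj G] [IsAffine G.left] [LocallyOfFiniteType G.hom] :
    Subsingleton (BigSite.H Scheme.fppfPrecoverage (Spec (CommRingCat.of k)) (CGrpSh2.dualSh Scheme.fppfPrecoverage (CGrpSh.pts Scheme.fppfPrecoverage G)) 3) := by
  have hcd : ∀ p : ℕ, p.Prime → Dix.CohDimLEAt (Spec (CommRingCat.of k)) p 2 := fun p hp => K59.CdLoc.cd_le_two k p hp
  obtain ⟨p, hp⟩ := CharP.exists k
  rcases CharP.char_is_prime_or_zero k p with h | h
  · have : Fact p.Prime := ⟨h⟩
    have h2 : EtCoh.CohDimLE (Spec (CommRingCat.of k)) 2 := K775.Tors.cohDimLE_of_primes hcd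
    exact K773.ScdAsm.subsingleton p h2 3 (by omega) (fun N _ _ _ _ => K773.ScdLocal.subsingleton_local k N p) hGa G
  · subst h
    have : CharZero k := CharP.charP_to_charZero k
    have hk := Groth.Agent.Dix.K109.PadicLF.isLF_of_localField k
    exact K810.HThree.subsingleton_H 2 hcd 3 (by omega)
      (fun F hF htf => Groth.Agent.Dix.K109.LocCd.subsingleton_H3 k hk hF htf) G

end Groth.Agent.S13944
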