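import Groth.Statements.S13945
import Groth.Agent.TateLoc.K91.FunScd
import Groth.Agent.TateLoc.K773.ScdAsm

set_option autoImplicit false
universe u
open TateLoc

namespace Groth.Agent.S13945

attribute [-instance] IsDomain.of_isSimpleRing

open CategoryTheory AlgebraicGeometry in
/-- Let k be a global function field, i.e. a finite extension of the field of rational functions in one
variable over a finite field, and G a commutative group scheme over k that is affine and of finite
type. If the third cohomology H^3(k, Ĝ_a) of the dual sheaf of the additive group vanishes (dual
sheaf = internal Hom into the multiplicative group on the big fppf site of Spec k), then H^3(k, Ĝ)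
vanishes for the dual sheaf Ĝ of G. (The published statement is unconditional and covers
non-archimedean local fields and global fields without real places; its proof obtains the case of
the additive group in positive characteristic from a separate result, and this row carries that case
as a hypothesis. In characteristic zero the hypothesis holds for every perfect field.) -/
theorem result (Fq : Type u) [Field Fq] [Finite Fq] (k : Type u) [Field k] [Algebra (RatFunc Fq) k] [FunctionField Fq k]
    (hGa : Subsingleton (BigSite.H Scheme.fppfPrecoverage (Spec (CommRingCat.of k)) (CGrpSh2.dualSh Scheme.fppfPrecoverage (CGrpSh2.Ga Scheme.fppfPrecoverage (Spec (CommRingCat.of k)))) 3))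
    (G : Over (Spec (CommRingCat.of k))) [GrpObj G] [IsCommMonObj G] [IsAffine G.left] [LocallyOfFiniteType G.hom] :
    Subsingleton (BigSite.H Scheme.fppfPrecoverage (Spec (CommRingCat.of k)) (CGrpSh2.dualSh Scheme.fppfPrecoverage (CGrpSh.pts Scheme.fppfPrecoverage G)) 3) := by
  obtain ⟨p, hp⟩ := CharP.exists Fq
  have hprime : Fact p.Prime := ⟨(CharP.char_is_prime_or_zero Fq p).resolve_right
    (CharP.char_ne_zero_of_finite Fq p)⟩
  have hk : CharP k p := charP_of_injective_ringHom
    ((algebraMap (RatFunc Fq) k).comp (algebraMap Fq (RatFunc Fq))).injective p
  exact K773.ScdAsm.subsingleton p (K91.FunScd.cohDimLE_two Fq k) 3 (by norm_num)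
    (fun N _ _ _ _ => K91.FunScd.subsingleton_H3 Fq k N) hGa G

end Groth.Agent.S13945
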