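import Groth.Statements.S13946
import Groth.Agent.TateLoc.K447.FinField

set_option autoImplicit false
universe u
open TateLoc

namespace Groth.Agent.S13946

open CategoryTheory AlgebraicGeometry in
/-- For a finite field κ and an affine commutative κ-group scheme G of finite type, the group H^1(κ, G)
(first cohomology of the sheaf of points of G on the big fppf site of Spec κ) is finite. -/
theorem result (k : Type u) [Field k] [Finite k]
    (G : Over (Spec (CommRingCat.of k))) [GrpObj G] [IsCommMonObj G] [IsAffine G.left] [LocallyOfFiniteType G.hom] :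
    Finite (BigSite.H Scheme.fppfPrecoverage (Spec (CommRingCat.of k)) (CGrpSh.pts Scheme.fppfPrecoverage G) 1) := by
  have key : ∀ (R : Type u) [CommRing R] [Algebra k R] [Finite R],
      Finite ((CGrpSh.pts Scheme.fppfPrecoverage G).obj.obj
        (Opposite.op (Over.mk (Spec.map (CommRingCat.ofHom (algebraMap k R)))))) := by
    intro R _ _ _
    have : Finite Γ(Spec (CommRingCat.of R), ⊤) :=
      Finite.of_equiv R (Scheme.ΓSpecIso (CommRingCat.of R)).commRingCatIsoToRingEquiv.symm.toEquiv
    have := K447.FinField.finite_hom (Spec.map (CommRingCat.ofHom (algebraMap k R))) G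
    exact inferInstanceAs (Finite (ULift (Additive (Over.mk (Spec.map (CommRingCat.ofHom (algebraMap k R))) ⟶ G))))
  refine K447.FinField.finite_H_one _ (fun L _ _ _ => ?_) ?_
  · have : Finite L := Module.finite_of_finite k
    exact key L
  · have : Finite Γ(Spec (CommRingCat.of k), ⊤) :=
      Finite.of_equiv k (Scheme.ΓSpecIso (CommRingCat.of k)).commRingCatIsoToRingEquiv.symm.toEquiv
    have := K447.FinField.finite_hom (𝟙 (Spec (CommRingCat.of k))) G
    exact inferInstanceAs (Finite (ULift (Additive (Over.mk (𝟙 (Spec (CommRingCat.of k))) ⟶ G))))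

end Groth.Agent.S13946
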