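import Groth.Statements.S13947
import Groth.Agent.TateLoc.K146.CharFin
import Groth.Agent.GmDual.K789.DoubleDual
import Groth.Agent.TateLoc.K809.Les

set_option autoImplicit false
universe u
open TateLoc

namespace Groth.Agent.S13947

open CategoryTheory AlgebraicGeometry in
/-- For a finite field κ and an affine commutative κ-group scheme G of finite type, the group H^1(κ, Ĝ)
is finite, where Ĝ is the dual sheaf of G (internal Hom from the sheaf of points of G into the
multiplicative group on the big fppf site of Spec κ). -/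
theorem result (k : Type u) [Field k] [Finite k]
    (G : Over (Spec (CommRingCat.of k))) [GrpObj G] [IsCommMonObj G] [IsAffine G.left] [LocallyOfFiniteType G.hom] :
    Finite (BigSite.H Scheme.fppfPrecoverage (Spec (CommRingCat.of k)) (CGrpSh2.dualSh Scheme.fppfPrecoverage (CGrpSh.pts Scheme.fppfPrecoverage G)) 1) := by
  obtain ⟨A, _, _, e, he⟩ := Groth.Agent.Books.AffBridge.exists_hopf k G
  have he' : IsMonHom e.inv := inferInstance
  have hc : IsCommMonObj (Groth.Agent.Books.AffBridge.SpecOver k A) := K778.CharDict.isCommMonObj_of_mono e.inv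
  have hft : Algebra.FiniteType k A := K778.CharDict.finiteType_of_iso e
  have h1 : IsIso (CGrpSh.ptsMap Scheme.fppfPrecoverage e.hom) := by
    refine ⟨CGrpSh.ptsMap Scheme.fppfPrecoverage e.inv, ?_, ?_⟩
    · rw [← CGrpSh.ptsMap_comp]
      simp only [Iso.hom_inv_id]
      exact CGrpSh.ptsMap_id _
    · rw [← CGrpSh.ptsMap_comp]
      simp only [Iso.inv_hom_id]
      exact CGrpSh.ptsMap_id _
  have h2 : IsIso (HomSh.homShMap (EtFppf.J (Spec (CommRingCat.of k))) (CGrpSh.ptsMap Scheme.fppfPrecoverage e.hom)
      (𝟙 (CGrpSh2.Gm Scheme.fppfPrecoverage (Spec (CommRingCat.of k))))) := K789.DoubleDual.isIso_homShMap _ _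
  have h3 : Finite (BigSite.H Scheme.fppfPrecoverage (Spec (CommRingCat.of k)) (K789.GChar.Dl k A) 1) :=
    K146.CharFin.finite_H_one
  exact Finite.of_surjective _ (K809.Les.mpEquiv _ (asIso (HomSh.homShMap (EtFppf.J (Spec (CommRingCat.of k)))
    (CGrpSh.ptsMap Scheme.fppfPrecoverage e.hom) (𝟙 (CGrpSh2.Gm Scheme.fppfPrecoverage (Spec (CommRingCat.of k))))))
      1).surjective

end Groth.Agent.S13947
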