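import Groth.Statements.S13948
import Groth.Agent.TateLoc.K892.ExpMain
import Groth.Agent.TateLoc.K620.Devissage

set_option autoImplicit false
universe u
open TateLoc

namespace Groth.Agent.S13948

open CategoryTheory AlgebraicGeometry in
/-- For a field k and an affine commutative k-group scheme G of finite type, the group H^1(k, G) (first
cohomology of the sheaf of points of G on the big fppf site of Spec k) has finite exponent: a single
positive integer annihilates all of it. -/
theorem result (k : Type u) [Field k]
    (G : Over (Spec (CommRingCat.of k))) [GrpObj G] [IsCommMonObj G] [IsAffine G.left] [LocallyOfFiniteType G.hom] :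
    ∃ n : ℕ, 0 < n ∧ ∀ x : BigSite.H Scheme.fppfPrecoverage (Spec (CommRingCat.of k)) (CGrpSh.pts Scheme.fppfPrecoverage G) 1, n • x = 0 := by
  have hga : K892.ExpMain.Exp1 (Red.Ga (Spec (CommRingCat.of k))) := by
    refine ⟨1, one_pos, fun x => ?_⟩
    have : Subsingleton (BigSite.H Scheme.fppfPrecoverage (Spec (CommRingCat.of k))
        (CGrpSh.pts Scheme.fppfPrecoverage (Red.Ga (Spec (CommRingCat.of k)))) 1) :=
      K771.FppfGa.subsingleton _ 1 one_pos
    exact Subsingleton.elim _ _
  exact K620.Devissage.induct k (fun G _ _ => K892.ExpMain.Exp1 G)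
    (fun _ _ _ _ _ _ e _ h => K892.ExpMain.exp1_iso e h)
    (fun _ _ _ _ _ _ _ _ _ _ _ _ _ _ _ f g _ _ w hS h₁ h₃ => K892.ExpMain.exp1_ext f g w hS h₁ h₃)
    (fun G _ _ _ => K892.ExpMain.exp1_fin G)
    (fun T _ _ _ _ hT => K892.TorExp.exists_exponent T hT)
    hga G

end Groth.Agent.S13948
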