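import Groth.Statements.S13949
import Groth.Agent.TateLoc.K773.DualTors

set_option autoImplicit false
universe u
open TateLoc

namespace Groth.Agent.S13949

open CategoryTheory AlgebraicGeometry in
/-- For a field k and an affine commutative k-group scheme G of finite type, the group H^1(k, Ĝ) has
finite exponent, Ĝ being the dual sheaf of G (internal Hom from the sheaf of points of G into the
multiplicative group on the big fppf site of Spec k). -/
theorem result (k : Type u) [Field k]
    (G : Over (Spec (CommRingCat.of k))) [GrpObj G] [IsCommMonObj G] [IsAffine G.left] [LocallyOfFiniteType G.hom] :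
    ∃ n : ℕ, 0 < n ∧ ∀ x : BigSite.H Scheme.fppfPrecoverage (Spec (CommRingCat.of k)) (CGrpSh2.dualSh Scheme.fppfPrecoverage (CGrpSh.pts Scheme.fppfPrecoverage G)) 1, n • x = 0 := by
  exact K773.DualTors.exponent k G

end Groth.Agent.S13949
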