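import Groth.Statements.S13950
import Groth.Agent.TateLoc.K809.FinVan

set_option autoImplicit false
universe u
open TateLoc

namespace Groth.Agent.S13950

open CategoryTheory AlgebraicGeometry CategoryTheory.Limits in
/-- Let S be a scheme and I a finite locally free commutative S-group scheme (finite, flat and of finite
presentation over S). For the morphism of sites from the big fppf site of S to its small etale site,
the higher direct images R^i of the sheaf of points of I vanish for all i > 1 (R^i being the right
derived functors of restriction of fppf abelian sheaves to the small etale site). -/
theorem result (S : Scheme.{u})
    (I : Over S) [GrpObj I] [IsCommMonObj I] [IsFinite I.hom] [Flat I.hom] [LocallyOfFinitePresentation I.hom]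
    (i : ℕ) (hi : 1 < i) :
    IsZero ((BigSite.RresEt Scheme.fppfPrecoverage S i).obj (CGrpSh.pts Scheme.fppfPrecoverage I)) := by
  exact K809.FinVan.isZero S I i hi

end Groth.Agent.S13950
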