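import Groth.Statements.S13951
import Groth.Agent.TateLoc.K114.ConnFin

set_option autoImplicit false
universe u
open TateLoc

namespace Groth.Agent.S13951

open CategoryTheory AlgebraicGeometry CategoryTheory.Limits in
/-- Let S be a reduced scheme and I a finite locally free commutative S-group scheme (finite, flat, of
finite presentation) whose fibres over all points of S are connected. Then the restriction of the
sheaf of points of I from the big fppf site of S to the small etale site of S is the zero sheaf. -/
theorem result (S : Scheme.{u}) [IsReduced S]
    (I : Over S) [GrpObj I] [IsCommMonObj I] [IsFinite I.hom] [Flat I.hom] [LocallyOfFinitePresentation I.hom]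
    (hconn : ∀ s : S, ConnectedSpace ↥(I.hom.fiber s)) :
    IsZero ((BigSite.resEt Scheme.fppfPrecoverage S).obj (CGrpSh.pts Scheme.fppfPrecoverage I)) := by
  have key : ∀ U : S.Etaleᵒᵖ, Subsingleton (((BigSite.resEt Scheme.fppfPrecoverage S).obj
      (CGrpSh.pts Scheme.fppfPrecoverage I)).obj.obj U) := by
    intro U
    have : IsReduced ((EtFppf.a S).obj U.unop).left := by
      have h1 : Etale ((EtFppf.a S).obj U.unop).hom := U.unop.prop
      have h2 : Smooth ((EtFppf.a S).obj U.unop).hom := inferInstance
      have : IsReduced ((Functor.fromPUnit S).obj ((EtFppf.a S).obj U.unop).right) := by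
        change IsReduced S
        infer_instance
      exact K114.ConnFin.red_of_smooth ((EtFppf.a S).obj U.unop).hom
    have h : Subsingleton ((EtFppf.a S).obj U.unop ⟶ I) :=
      ⟨fun a b => (K114.ConnFin.lift_unit I hconn a).trans (K114.ConnFin.lift_unit I hconn b).symm⟩
    exact ⟨fun a b => by
      apply ULift.ext
      exact h.elim a.down.toMul b.down.toMul⟩
  rw [IsZero.iff_id_eq_zero]
  ext U x
  exact (key U).elim _ _

end Groth.Agent.S13951
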