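import Groth.Statements.S13952
import Groth.Agent.TateLoc.K502.EmbConn
import Groth.Agent.TateGlob.K828.Vanish2
import Groth.Agent.TateGlob.K827.Abs

set_option autoImplicit false
universe u
open TateLoc

namespace Groth.Agent.S13952

open CategoryTheory AlgebraicGeometry Limits

theorem subsingleton_smooth (O : Type u) [CommRing O] [HenselianLocalRing O]
    [Finite (IsLocalRing.ResidueField O)] (G : Over (Spec (CommRingCat.of O))) [GrpObj G] [IsCommMonObj G]
    (h1 : Smooth G.hom) (h2 : IsAffine G.left) (h3 : GeometricallyConnected G.hom) (n : ℕ) (hn : 0 < n) :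
    Subsingleton (BigSite.H Scheme.fppfPrecoverage (Spec (CommRingCat.of O))
      (CGrpSh.pts Scheme.fppfPrecoverage G) n) := by
  have hG : IsAffineHom G.hom := inferInstance
  have h4 := K828.Vanish.subsingleton_one G O (RingHom.id O)
    (inferInstanceAs (Smooth (pullback.snd G.hom (Spec.map (CommRingCat.ofHom (RingHom.id O))))))
    (inferInstanceAs (IsSeparated (pullback.snd G.hom (Spec.map (CommRingCat.ofHom (RingHom.id O))))))
    (inferInstanceAs (QuasiCompact (pullback.snd G.hom (Spec.map (CommRingCat.ofHom (RingHom.id O))))))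
    (inferInstanceAs (GeometricallyConnected (pullback.snd G.hom (Spec.map (CommRingCat.ofHom _))))) n hn
  have h5 : AdFn.specOf (RingHom.id O) = Over.mk (𝟙 (Spec (CommRingCat.of O))) := by
    change Over.mk (Spec.map (CommRingCat.ofHom (RingHom.id O))) = _
    rw [CommRingCat.ofHom_id, Spec.map_id]
  rw [h5] at h4
  exact (K827.Abs.absE (CGrpSh.pts Scheme.fppfPrecoverage G) n).toEquiv.subsingleton_congr.mpr h4

theorem lfp (O : Type u) [CommRing O] [IsLocalRing O] {X : Scheme.{u}} (f : X ⟶ Spec (CommRingCat.of O))
    [IsFinite f] [Flat f] : LocallyOfFinitePresentation f := by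
  have : IsAffine X := isAffine_of_isAffineHom f
  obtain ⟨C, φ, e, he⟩ : ∃ (C : CommRingCat.{u}) (φ : CommRingCat.of O ⟶ C) (e : X ≅ Spec C),
      f = e.hom ≫ Spec.map φ := by
    obtain ⟨φ, hφ⟩ := Spec.map_surjective (X.isoSpec.inv ≫ f)
    exact ⟨_, φ, X.isoSpec, by rw [hφ, Iso.hom_inv_id_assoc]⟩
  have h1 : IsFinite (Spec.map φ) := by
    have : Spec.map φ = e.inv ≫ f := by rw [he, Iso.inv_hom_id_assoc]
    rw [this]; infer_instance
  have h2 : Flat (Spec.map φ) := by
    have : Spec.map φ = e.inv ≫ f := by rw [he, Iso.inv_hom_id_assoc]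
    rw [this]; infer_instance
  rw [IsFinite.SpecMap_iff] at h1
  rw [Flat.SpecMap_iff] at h2
  let := φ.hom.toAlgebra
  have h3 : Module.Finite O C := h1
  have h4 : Module.Flat O C := h2
  have h5 : Module.Free O C := Module.free_of_flat_of_isLocalRing
  have h5' : Module.FinitePresentation O C := Module.finitePresentation_of_projective O C
  have h6 : Algebra.FinitePresentation O C := Algebra.FinitePresentation.of_finitePresentation O C
  have h7 : LocallyOfFinitePresentation (Spec.map φ) := by
    rw [HasRingHomProperty.Spec_iff (P := @LocallyOfFinitePresentation)]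
    exact h6
  rw [he]
  infer_instance

open CategoryTheory AlgebraicGeometry in
/-- For a Henselian local ring O with finite residue field and a finite flat commutative group scheme A
over Spec O, the cohomology H^i(O, A) of the sheaf of points of A on the big fppf site of Spec O
vanishes for all i > 1. -/
theorem result (O : Type u) [CommRing O]
    [HenselianLocalRing O] [Finite (IsLocalRing.ResidueField O)]
    (A : Over (Spec (CommRingCat.of O))) [GrpObj A] [IsCommMonObj A] [IsFinite A.hom] [Flat A.hom]
    (i : ℕ) (hi : 1 < i) :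
    Subsingleton (BigSite.H Scheme.fppfPrecoverage (Spec (CommRingCat.of O)) (CGrpSh.pts Scheme.fppfPrecoverage A) i) := by
  have hl := lfp O A.hom
  obtain ⟨G, M, _, _, _, _, v, _, q, _, w, ha, hM, hs, hsm, hgc, hgM, -, -, -, -, hex⟩ :=
    K502.EmbConn.exists_seq (CommRingCat.of O) A
  obtain ⟨n, rfl⟩ : ∃ n, i = n + 1 := ⟨i - 1, by omega⟩
  have h1 := subsingleton_smooth O G hs ha hgc (n + 1) (by omega)
  have h2 := subsingleton_smooth O M hsm hM hgM n (by omega)
  refine subsingleton_of_forall_eq 0 fun x => ?_
  obtain ⟨y, rfl⟩ := K828.Kit.exact₁ hex n x (h1.elim _ _)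
  have hy : y = 0 := h2.elim y 0
  rw [hy]
  exact map_zero _

end Groth.Agent.S13952
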