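import Groth.Statements.S13953
import Mathlib.Order.Filter.Ultrafilter.Basic
import Mathlib.Order.Filter.Ultrafilter.Defs
-- import your own Groth.Agent.* helpers here

set_option autoImplicit false
universe u
open TateLoc

namespace Groth.Agent.S13953

/-- Let (R_i) be a family of local commutative rings and R = ∏ R_i. Any open cover of Spec R can be
refined by one coming from a finite partition of the index set: there is a map c from the index set
to a finite set such that, for each value m, the basic open subset of Spec R defined by the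
idempotent which is 1 at the indices with c i = m and 0 elsewhere (this open is the spectrum of the
product of the R_i over that class) is contained in some member of the cover. -/
theorem result {ι : Type u} (R : ι → Type u)
    [∀ i, CommRing (R i)] [∀ i, IsLocalRing (R i)] {J : Type u}
    (U : J → TopologicalSpace.Opens (PrimeSpectrum (∀ i, R i))) (hU : ⨆ j, U j = ⊤) :
    ∃ (n : ℕ) (c : ι → Fin n), ∀ m : Fin n, ∃ j : J,
      PrimeSpectrum.basicOpen (fun i => if c i = m then (1 : R i) else 0) ≤ U j := by
  classical
  -- the family of index sets whose basic open refines the cover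
  let P : Set ι → Prop := fun s => ∃ j : J,
    PrimeSpectrum.basicOpen (fun i => if i ∈ s then (1 : R i) else 0) ≤ U j
  have hmono : ∀ s t : Set ι, s ⊆ t → P t → P s := by
    rintro s t hst ⟨j, hj⟩
    refine ⟨j, le_trans ?_ hj⟩
    have : (fun i => if i ∈ s then (1 : R i) else 0) =
        (fun i => if i ∈ t then (1 : R i) else 0) * (fun i => if i ∈ s then (1 : R i) else 0) := by
      funext i
      by_cases h : i ∈ s
      · simp [h, hst h]
      · simp [h]
    rw [this, PrimeSpectrum.basicOpen_mul]
    exact inf_le_left
  -- every ultrafilter contains such a set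
  have hultra : ∀ 𝒰 : Ultrafilter ι, ∃ s ∈ 𝒰, P s := by
    intro 𝒰
    let I : Ideal (∀ i, R i) :=
      { carrier := {f | ∀ᶠ i in (𝒰 : Filter ι), f i ∈ IsLocalRing.maximalIdeal (R i)}
        add_mem' := by
          intro a b ha hb
          filter_upwards [ha, hb] with i hi hi'
          exact Ideal.add_mem _ hi hi'
        zero_mem' := by
          exact Filter.Eventually.of_forall fun i => Ideal.zero_mem _
        smul_mem' := by
          intro c x hx
          filter_upwards [hx] with i hi
          exact Ideal.mul_mem_left _ _ hi }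
    have hI : I.IsPrime := by
      refine ⟨?_, ?_⟩
      · intro h
        have h1 : (1 : ∀ i, R i) ∈ I := by rw [h]; trivial
        have h2 : ∀ᶠ i in (𝒰 : Filter ι), False := by
          filter_upwards [h1] with i hi
          exact (Ideal.ne_top_iff_one _).1 (IsLocalRing.maximalIdeal.isMaximal (R i)).ne_top hi
        exact (Filter.eventually_false_iff_eq_bot.1 h2 |> 𝒰.neBot.ne)
      · intro x y hxy
        have : ∀ᶠ i in (𝒰 : Filter ι), x i ∈ IsLocalRing.maximalIdeal (R i) ∨
            y i ∈ IsLocalRing.maximalIdeal (R i) := by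
          filter_upwards [hxy] with i hi
          exact (Ideal.IsMaximal.isPrime' (IsLocalRing.maximalIdeal (R i))).mem_or_mem hi
        exact Ultrafilter.eventually_or.1 this
    let p : PrimeSpectrum (∀ i, R i) := ⟨I, hI⟩
    have hp : p ∈ ⨆ j, U j := by rw [hU]; trivial
    obtain ⟨j, hj⟩ := TopologicalSpace.Opens.mem_iSup.1 hp
    obtain ⟨V, ⟨f, rfl⟩, hfp, hfU⟩ :=
      (TopologicalSpace.Opens.isBasis_iff_nbhd.1 PrimeSpectrum.isBasis_basic_opens) hj
    have hf : ¬ ∀ᶠ i in (𝒰 : Filter ι), f i ∈ IsLocalRing.maximalIdeal (R i) := hfp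
    have hf' : ∀ᶠ i in (𝒰 : Filter ι), IsUnit (f i) := by
      have := Ultrafilter.eventually_not.2 hf
      filter_upwards [this] with i hi
      by_contra h
      exact hi ((IsLocalRing.mem_maximalIdeal _).2 h)
    refine ⟨{i | IsUnit (f i)}, hf', j, le_trans ?_ hfU⟩
    intro q hq hfq
    apply hq
    have hfac : (fun i => if i ∈ {i | IsUnit (f i)} then (1 : R i) else 0) =
        (fun i => if h : IsUnit (f i) then ((h.unit⁻¹ : (R i)ˣ) : R i) else 0) * f := by
      funext i
      by_cases h : IsUnit (f i)
      · simp [h]
      · simp [h]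
    have h3 := q.asIdeal.mul_mem_left
      (fun i => if h : IsUnit (f i) then ((h.unit⁻¹ : (R i)ˣ) : R i) else 0) hfq
    rw [← hfac] at h3
    convert h3
  -- finitely many such sets cover the index set
  have hfin : ∃ T : Finset (Set ι), (∀ s ∈ T, P s) ∧ (⋃ s ∈ T, s) = Set.univ := by
    by_contra hcon
    push Not at hcon
    have hne : Filter.NeBot (Filter.generate {s : Set ι | P sᶜ}) := by
      rw [Filter.generate_neBot_iff]
      intro T hT hTf
      have h1 := hcon (hTf.toFinset.image (fun s => sᶜ)) (by
        intro s hs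
        simp only [Finset.mem_image, Set.Finite.mem_toFinset] at hs
        obtain ⟨t, ht, rfl⟩ := hs
        exact hT ht)
      have h2 : ∃ x, x ∉ (⋃ s ∈ hTf.toFinset.image (fun s => sᶜ), s) := by
        by_contra h
        push Not at h
        exact h1 (Set.eq_univ_iff_forall.2 h)
      obtain ⟨x, hx⟩ := h2
      refine ⟨x, ?_⟩
      intro t ht
      by_contra hxt
      exact hx (Set.mem_biUnion (by
        simp only [Finset.coe_image, Set.Finite.coe_toFinset, Set.mem_image]
        exact ⟨t, ht, rfl⟩ : tᶜ ∈ (↑(hTf.toFinset.image (fun s => sᶜ)) : Set (Set ι))) hxt)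
    obtain ⟨s, hs, hPs⟩ := hultra (Ultrafilter.of (Filter.generate {s : Set ι | P sᶜ}))
    have h1 : sᶜ ∈ (Ultrafilter.of (Filter.generate {s : Set ι | P sᶜ})) := by
      apply Ultrafilter.of_le
      apply Filter.mem_generate_of_mem
      simpa using hPs
    exact (Ultrafilter.compl_mem_iff_notMem.1 h1) hs
  obtain ⟨T, hTP, hTU⟩ := hfin
  -- disjointify
  obtain ⟨n, ⟨e⟩⟩ := Finite.exists_equiv_fin T
  have hex : ∀ i : ι, ∃ m : Fin n, i ∈ (e.symm m : Set ι) := by
    intro i
    have : i ∈ ⋃ s ∈ T, s := by rw [hTU]; trivial
    simp only [Set.mem_iUnion, exists_prop] at this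
    obtain ⟨s, hs, his⟩ := this
    exact ⟨e ⟨s, hs⟩, by simpa using his⟩
  choose c hc using hex
  refine ⟨n, c, fun m => ?_⟩
  have h1 : P {i | c i = m} := by
    refine hmono _ (e.symm m : Set ι) ?_ (hTP _ (e.symm m).2)
    intro i hi
    have : c i = m := hi
    rw [← this]
    exact hc i
  obtain ⟨j, hj⟩ := h1
  refine ⟨j, ?_⟩
  convert hj using 3
  simp only [Set.mem_setOf_eq]

end Groth.Agent.S13953
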