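import Groth.Statements.S13954
import Groth.Agent.TateLoc.K119.PicLocal

set_option autoImplicit false
universe u
open TateLoc

namespace Groth.Agent.S13954

open CategoryTheory AlgebraicGeometry in
/-- Let X be a reduced scheme whose invertible modules are all trivial (Pic X = 0), and n a natural
number. If for every point x of X all invertible modules on affine n-space over Spec of the local
ring of X at x are trivial, then all invertible modules on affine n-space over X are trivial. -/
theorem result (X : Scheme.{u}) [IsReduced X] (n : ℕ)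
    (hX : (∀ L : (X).Modules, PicF.IsInvertible L → Nonempty (L ≅ Coh.structureModule (X))))
    (hloc : ∀ x : X, (∀ L : (AffineSpace (ULift.{u} (Fin n)) (Spec (X.presheaf.stalk x))).Modules, PicF.IsInvertible L → Nonempty (L ≅ Coh.structureModule (AffineSpace (ULift.{u} (Fin n)) (Spec (X.presheaf.stalk x)))))) :
    (∀ L : (AffineSpace (ULift.{u} (Fin n)) X).Modules, PicF.IsInvertible L → Nonempty (L ≅ Coh.structureModule (AffineSpace (ULift.{u} (Fin n)) X))) := by
  intro L hL
  obtain ⟨z, hz⟩ := K119.AffUnits.exists_section (ULift.{u} (Fin n)) X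
  obtain ⟨M, hM, ⟨e⟩⟩ := K119.PicLocal.exists_descent (AffineSpace (ULift.{u} (Fin n)) X ↘ X) z hz
    (fun V u hu => K119.AffUnits.exists_of_isUnit (ULift.{u} (Fin n)) V u hu) (L := L)
    (fun x => K119.PicLocal.exists_nbhd (AffineSpace (ULift.{u} (Fin n)) X ↘ X) x
      (AffineSpace.isPullback_map (X.fromSpecStalk x)) hL
      (hloc x _ (Groth.Agent.Fdesc.LocGen.isInvertible_pullback _ hL)))
  obtain ⟨f⟩ := hX M hM
  obtain ⟨g⟩ := K119.PicLocal.nonempty_pullback_structureModule (AffineSpace (ULift.{u} (Fin n)) X ↘ X)
  exact ⟨e.symm ≪≫ (Scheme.Modules.pullback _).mapIso f ≪≫ g⟩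

end Groth.Agent.S13954
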