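import Groth.Statements.S13955
import Groth.Agent.TateLoc.K82.PicVal

set_option autoImplicit false
universe u
open TateLoc

namespace Groth.Agent.S13955

/-- For a family (R_i) of valuation rings with product A = ∏ R_i and any n, the Picard group of the
polynomial ring in n variables over A is trivial. -/
theorem result {ι : Type u} (R : ι → Type u)
    [∀ i, CommRing (R i)] [∀ i, IsDomain (R i)] [∀ i, ValuationRing (R i)]
    (n : ℕ) : Subsingleton (CommRing.Pic (MvPolynomial (Fin n) (∀ i, R i))) := by
  rw [CommRing.Pic.subsingleton_iff]
  intro M _ _ _
  exact K82.PicVal.free_of_splits (fun N E hE => K82.PicVal.splits_pi E hE) M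

end Groth.Agent.S13955
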