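import Groth.Statements.S13956
import Groth.Agent.TateLoc.K810.ConstRat
import Groth.Agent.Sga5.CompDecomp
import Groth.Agent.Sga7.H77.HSigma
-- import your own Groth.Agent.* helpers here

set_option autoImplicit false
universe u
open TateLoc

namespace Groth.Agent.S13956

open CategoryTheory AlgebraicGeometry in
/-- For a Noetherian normal scheme X (quasi-compact, locally Noetherian, all local rings integrally
closed domains), the cohomology of the constant sheaf ℚ on the small etale site of X vanishes in
every positive degree. -/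
theorem result (X : Scheme.{u}) [IsLocallyNoetherian X] [CompactSpace X]
    (hN : ∀ x : X, IsDomain (X.presheaf.stalk x) ∧ IsIntegrallyClosed (X.presheaf.stalk x))
    (i : ℕ) (hi : 0 < i) :
    Subsingleton (EtCoh.H X (EtCoh.const X ℚ) i) := by
  have : LocallyConnectedSpace X :=
    Groth.Agent.Sga3C.LocConn.locallyConnectedSpace_of_isLocallyNoetherian X
  have : Finite (ConnectedComponents X) := finite_of_compact_of_discrete
  obtain ⟨n, ⟨e⟩⟩ := Finite.exists_equiv_fin (ConnectedComponents X)
  let V : Fin n → X.Etale := fun i => Groth.Agent.Sga5.CompDecomp.eo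
    (Groth.Agent.Sga5.CompDecomp.comp X (e.symm i))
  let f : ∀ i, V i ⟶ EtCoh.top X := fun i => Groth.Agent.Sga5.CompDecomp.toTop _
  obtain ⟨E⟩ := Groth.Agent.Sga7.H77.HSigma.nonempty_H_pi V f
    (fun i => (inferInstance : Mono (Groth.Agent.Sga5.CompDecomp.comp X (e.symm i)).ι)) (by
      intro i j x y h
      have h1 : (Groth.Agent.Sga5.CompDecomp.comp X (e.symm i)).ι x =
        (Groth.Agent.Sga5.CompDecomp.comp X (e.symm j)).ι y := h
      have h2 : ConnectedComponents.mk
        ((Groth.Agent.Sga5.CompDecomp.comp X (e.symm i)).ι x) = e.symm i := x.2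
      have h3 : ConnectedComponents.mk
        ((Groth.Agent.Sga5.CompDecomp.comp X (e.symm j)).ι y) = e.symm j := y.2
      rw [h1, h3] at h2
      exact (e.symm.injective h2).symm) (by
      intro (x : X)
      have hx : x ∈ Groth.Agent.Sga5.CompDecomp.comp X (e.symm (e (ConnectedComponents.mk x))) :=
        (e.symm_apply_apply _).symm
      exact ⟨e (ConnectedComponents.mk x), ⟨x, hx⟩, rfl⟩)
    (Groth.Agent.Etbase.ExactSections.topIsTerminal X) ℚ i
  have h4 : ∀ j : Fin n, Subsingleton (EtCoh.H (V j).left (EtCoh.const (V j).left ℚ) i) := by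
    intro j
    have := Groth.Agent.Sga5.CompDecomp.isIntegral_comp (fun x => (hN x).1) (e.symm j)
    refine K810.ConstRat.subsingleton_H_integral
      (Groth.Agent.Sga5.CompDecomp.comp X (e.symm j) : Scheme.{u}) (fun x => ?_) i hi
    have h5 := (hN ((Groth.Agent.Sga5.CompDecomp.comp X (e.symm j)).ι x)).2
    exact IsIntegrallyClosed.of_equiv
      (asIso ((Groth.Agent.Sga5.CompDecomp.comp X (e.symm j)).ι.stalkMap x)).commRingCatIsoToRingEquiv
  exact E.toEquiv.subsingleton

end Groth.Agent.S13956
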