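import Groth.Statements.S14581
import Groth.Agent.AlgGrp.K401.SmallProper

set_option autoImplicit false
universe u
open CategoryTheory MonoidalCategory CartesianMonoidalCategory MonObj GrpObj AlgebraicGeometry CategoryTheory.Limits
open AlgGrp

namespace Groth.Agent.S14581

/-- Smallest normal with proper quotient: let k be a field and G a k-group scheme of finite type. Then G
has a smallest normal subgroup scheme N with proper quotient: there are a closed normal subgroup
scheme i : N → G and a flat surjective homomorphism q : G → Q of k-group schemes of finite type with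
kernel N and Q proper over k, such that for every flat surjective homomorphism q' : G → Q' onto a
proper k-group scheme of finite type the composite N → G → Q' is trivial. Moreover N is affine and
connected. No smoothness and no hypothesis on k are assumed. -/
theorem result (k : Type u) [Field k]
    (G : Over (Spec (CommRingCat.of k))) [GrpObj G] [LocallyOfFiniteType G.hom] [QuasiCompact G.hom] :
    ∃ (N : Over (Spec (CommRingCat.of k))) (_ : GrpObj N) (i : N ⟶ G), IsMonHom i ∧ IsClosedImmersion i.left ∧ AlgGrp.IsNormalHom i ∧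
      IsAffine N.left ∧ ConnectedSpace ↥N.left ∧
      (∃ (Q : Over (Spec (CommRingCat.of k))) (_ : GrpObj Q) (q : G ⟶ Q),
        IsMonHom q ∧ Surjective q.left ∧ Flat q.left ∧ AlgGrp.IsKernel i q ∧ IsProper Q.hom) ∧
      ∀ (Q' : Over (Spec (CommRingCat.of k))) [GrpObj Q'] [IsProper Q'.hom]
        (q' : G ⟶ Q') [IsMonHom q'] [Surjective q'.left] [Flat q'.left], i ≫ q' = 1 := by
  obtain ⟨P, _, u, hu, hP, hmin⟩ := K401.SmallProper.exists_min G
  obtain ⟨_, hi⟩ := Groth.Agent.Sga3B.KerGrp.exists_grpObj u
  obtain ⟨Q, _, q, j, hq, hj, hqj, hcl, hs, hf, hqc, hQ, hk⟩ := K401.ProperQuot.exists_image G P u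
  refine ⟨Groth.Agent.Sga3B.KerGrp.kerObj u, inferInstance, Groth.Agent.Sga3B.KerGrp.kerι u, hi, inferInstance,
    Groth.Agent.Sga3.H794.ChevKer.isNormalHom_ker _ _ hk, ?_, ?_, ⟨Q, inferInstance, q, hq, hs, hf, hk, hQ⟩,
    fun Q' _ _ q' _ _ _ => hmin Q' inferInstance q' inferInstance inferInstance⟩
  · -- affine: contained in the affine kernel of another homomorphism
    obtain ⟨B, _, v, hv, hB, hA⟩ := K401.ProperQuot.hasAK G
    obtain ⟨t, ht⟩ := Groth.Agent.Sga3B.KerGrp.exists_lift v (Groth.Agent.Sga3B.KerGrp.kerι u)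
      (hmin B inferInstance v hv hB)
    have h1 : IsClosedImmersion (t.left ≫ (Groth.Agent.Sga3B.KerGrp.kerι v).left) := by
      rw [← Over.comp_left, ht]; infer_instance
    have h2 : IsClosedImmersion t.left := IsClosedImmersion.of_comp t.left (Groth.Agent.Sga3B.KerGrp.kerι v).left
    exact isAffine_of_isAffineHom t.left
  · -- connected: the quotient by the neutral component is proper
    obtain ⟨N₀, _, n₀, R, _, p, h1, h2, h3, h4, h5, h6, h7, h8⟩ :=
      K401.SmallProper.exists_quot_neutral (Groth.Agent.Sga3B.KerGrp.kerι u) q hk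
    obtain ⟨t, ht⟩ := K395.Pts.exists_of_comp_eq_one h7 (Groth.Agent.Sga3B.KerGrp.kerι u)
      (hmin R inferInstance p h4 h8)
    have h9 : t ≫ n₀ = 𝟙 _ := by
      rw [← cancel_mono (Groth.Agent.Sga3B.KerGrp.kerι u), Category.assoc, ht, Category.id_comp]
    have h10 : Function.Surjective n₀.left := fun x => ⟨t.left x, by
      rw [← Scheme.Hom.comp_apply, ← Over.comp_left, h9]; rfl⟩
    exact h10.connectedSpace n₀.left.continuous

end Groth.Agent.S14581
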