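import Groth.Statements.S13957
import Groth.Agent.TateLoc.K810.DivMain

set_option autoImplicit false
universe u
open TateLoc

namespace Groth.Agent.S13957

open CategoryTheory AlgebraicGeometry MonObj MonoidalCategory in
/-- Let k be a global function field (a finite extension of the field of rational functions in one
variable over a finite field) and G a commutative k-group scheme of finite type, not necessarily
affine. Then in the group G(k) of k-rational points (sections of G over Spec k) the only element
admitting an n-th root for every n ≥ 1 is the identity, and there is a single positive integer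
killing every element of finite order. -/
theorem result (Fq : Type u) [Field Fq] [Finite Fq] (k : Type u) [Field k] [Algebra (RatFunc Fq) k] [FunctionField Fq k]
    (G : Over (Spec (CommRingCat.of k))) [GrpObj G] [IsCommMonObj G] [LocallyOfFiniteType G.hom] [QuasiCompact G.hom] :
    (∀ g : 𝟙_ (Over (Spec (CommRingCat.of k))) ⟶ G, (∀ n : ℕ, 0 < n → ∃ h : 𝟙_ (Over (Spec (CommRingCat.of k))) ⟶ G, h ^ n = g) → g = 1) ∧
    (∃ N : ℕ, 0 < N ∧ ∀ g : 𝟙_ (Over (Spec (CommRingCat.of k))) ⟶ G, IsOfFinOrder g → g ^ N = 1) := by
  obtain ⟨p, hp⟩ := K810.FunUnits.Good.of_functionField Fq k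
  exact K810.DivMain.main hp G

end Groth.Agent.S13957
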