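import Groth.Statements.S13958
import Mathlib.GroupTheory.FiniteAbelian.Basic
-- import your own Groth.Agent.* helpers here

set_option autoImplicit false
universe u
open TateLoc

namespace Groth.Agent.S13958

/-- An element outside a subgroup of a finitely generated commutative group is outside some subgroup of finite
index containing the given one. -/
theorem exists_finiteIndex (A' : Type u) [CommGroup A'] [Group.FG A'] (A : Subgroup A') (x : A')
    (hx : x ∉ A) : ∃ N : Subgroup A', A ≤ N ∧ N.FiniteIndex ∧ x ∉ N := by
  classical
  -- the quotient is a product of cyclic groups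
  have : Group.FG (A' ⧸ A) := inferInstance
  obtain ⟨ι, j, _, _, p, hp, e, ⟨φ⟩⟩ := CommGroup.equiv_free_prod_prod_multiplicative_zmod (A' ⧸ A)
  have hne : φ (QuotientGroup.mk x) ≠ 1 := by
    intro h
    apply hx
    have h1 : (QuotientGroup.mk x : A' ⧸ A) = 1 := φ.injective (by rw [h, map_one])
    exact (QuotientGroup.eq_one_iff x).1 h1
  -- a homomorphism to a finite group not killing the class
  have key : ∃ (H : Type) (_ : Group H) (_ : Finite H)
      (f : ((j → Multiplicative ℤ) × ((i : ι) → Multiplicative (ZMod (p i ^ e i)))) →* H),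
      f (φ (QuotientGroup.mk x)) ≠ 1 := by
    by_cases h1 : (φ (QuotientGroup.mk x)).1 = 1
    · have h2 : (φ (QuotientGroup.mk x)).2 ≠ 1 := fun h => hne (Prod.ext h1 h)
      obtain ⟨i, hi⟩ := Function.ne_iff.1 h2
      have : NeZero (p i ^ e i) := ⟨pow_ne_zero _ (hp i).ne_zero⟩
      have hfin : Finite (Multiplicative (ZMod (p i ^ e i))) :=
        inferInstanceAs (Finite (ZMod (p i ^ e i)))
      exact ⟨Multiplicative (ZMod (p i ^ e i)), inferInstance, hfin,
        (Pi.evalMonoidHom _ i).comp (MonoidHom.snd _ _), hi⟩
    · obtain ⟨i, hi⟩ := Function.ne_iff.1 h1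
      let k : ℤ := Multiplicative.toAdd ((φ (QuotientGroup.mk x)).1 i)
      have hk : k ≠ 0 := fun h => hi h
      let n : ℕ := k.natAbs + 1
      have : NeZero n := ⟨Nat.succ_ne_zero _⟩
      have hfin : Finite (Multiplicative (ZMod n)) := inferInstanceAs (Finite (ZMod n))
      refine ⟨Multiplicative (ZMod n), inferInstance, hfin,
        (AddMonoidHom.toMultiplicative (Int.castAddHom (ZMod n))).comp
          ((Pi.evalMonoidHom _ i).comp (MonoidHom.fst _ _)), ?_⟩
      intro h
      have h3 : ((k : ℤ) : ZMod n) = 0 := h
      rw [ZMod.intCast_zmod_eq_zero_iff_dvd] at h3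
      have h4 := Int.natAbs_dvd_natAbs.2 h3
      have h5 := Nat.le_of_dvd (Int.natAbs_pos.2 hk) h4
      rw [Int.natAbs_natCast] at h5
      omega
  obtain ⟨H, _, _, f, hf⟩ := key
  let g : A' →* H := f.comp ((φ : (A' ⧸ A) →* _).comp (QuotientGroup.mk' A))
  refine ⟨g.ker, ?_, Subgroup.finiteIndex_ker g, ?_⟩
  · intro a ha
    rw [MonoidHom.mem_ker]
    have : (QuotientGroup.mk' A) a = 1 := (QuotientGroup.eq_one_iff a).2 ha
    change f (φ ((QuotientGroup.mk' A) a)) = 1
    rw [this, map_one, map_one]
  · rw [MonoidHom.mem_ker]
    exact hf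

open CategoryTheory in
/-- Let A' be a finitely generated abelian group (written multiplicatively, discrete) and A a subgroup.
If the image of x ∈ A' in the profinite completion of A' lies in the image of the profinite
completion of A under the map induced by the inclusion, then x ∈ A. (The published statement says
that the square formed by the two completion maps and the two inclusions is Cartesian; given the
injectivity of the induced map on completions, which holds here, that amounts to this membership
criterion.) -/
theorem result (A' : Type u) [CommGroup A'] [Group.FG A']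
    (A : Subgroup A') (x : A')
    (hx : ProfiniteGrp.ProfiniteCompletion.etaFn (GrpCat.of A') x ∈
      Set.range ⇑(ProfiniteGrp.profiniteCompletion.map (GrpCat.ofHom A.subtype)).hom) :
    x ∈ A := by
  by_contra hxA
  obtain ⟨N, hAN, hN, hxN⟩ := exists_finiteIndex A' A x hxA
  let N' : FiniteIndexNormalSubgroup (GrpCat.of A') := FiniteIndexNormalSubgroup.ofSubgroup N
  obtain ⟨c, hc⟩ := hx
  let F : ProfiniteGrp.ProfiniteCompletion.completion (GrpCat.of A) →
      ProfiniteGrp.ProfiniteCompletion.completion (GrpCat.of A') :=
    ⇑(ProfiniteGrp.profiniteCompletion.map (GrpCat.ofHom A.subtype)).hom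
  have hFc : Continuous F :=
    (ProfiniteGrp.profiniteCompletion.map (GrpCat.ofHom A.subtype)).hom.continuous_toFun
  let ev : ProfiniteGrp.ProfiniteCompletion.completion (GrpCat.of A') →
      (ProfiniteGrp.ProfiniteCompletion.diagram (GrpCat.of A')).obj N' := fun c => c.1 N'
  have hev : Continuous ev := (continuous_apply N').comp continuous_subtype_val
  have hF : ∀ a : A, F (ProfiniteGrp.ProfiniteCompletion.etaFn (GrpCat.of A) a) =
      ProfiniteGrp.ProfiniteCompletion.etaFn (GrpCat.of A') (a : A') := by
    intro a
    have := ProfiniteGrp.ProfiniteCompletion.lift_eta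
      (GrpCat.ofHom A.subtype ≫ ProfiniteGrp.ProfiniteCompletion.eta (GrpCat.of A'))
    exact ConcreteCategory.congr_hom this a
  have hconst : (ev ∘ F) = fun _ => 1 := by
    apply (ProfiniteGrp.ProfiniteCompletion.denseRange (GrpCat.of A)).equalizer
      (hev.comp hFc) continuous_const
    funext a
    have : ev (F (ProfiniteGrp.ProfiniteCompletion.etaFn (GrpCat.of A) a)) =
        (QuotientGroup.mk (a : A') : A' ⧸ N) := by
      rw [hF a]
      rfl
    refine this.trans ?_
    exact (QuotientGroup.eq_one_iff (a : A')).2 (hAN a.2)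
  have h1 : ev (F c) = 1 := congrFun hconst c
  rw [show F c = _ from hc] at h1
  exact hxN ((QuotientGroup.eq_one_iff x).1 h1)

end Groth.Agent.S13958
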