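import Groth.Statements.S13959
import Mathlib.AlgebraicGeometry.Morphisms.UniversallyInjective
import Mathlib.AlgebraicGeometry.ResidueField
import Mathlib.LinearAlgebra.Basis.VectorSpace
-- import your own Groth.Agent.* helpers here

set_option autoImplicit false
universe u
open TateLoc

namespace Groth.Agent.S13959

section Alg

open TensorProduct

/-- A field extension `κ/k` such that `κ ⊗ κ` is reduced with at most one prime is trivial. -/
theorem surjective_of_subsingleton {k κ : Type u} [Field k] [Field κ] [Algebra k κ]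
    [IsReduced (κ ⊗[k] κ)] [Subsingleton (PrimeSpectrum (κ ⊗[k] κ))] :
    Function.Surjective (algebraMap k κ) := by
  intro a
  by_contra hcon
  have ha : a ∉ (1 : Submodule k κ) := by
    intro h
    exact hcon (Submodule.mem_one.1 h)
  have hd : (a ⊗ₜ[k] (1 : κ)) - ((1 : κ) ⊗ₜ[k] a) = 0 := by
    let μ : κ ⊗[k] κ →ₐ[k] κ := Algebra.TensorProduct.lift (AlgHom.id k κ) (AlgHom.id k κ)
      (fun _ _ => Commute.all _ _)
    let p : PrimeSpectrum (κ ⊗[k] κ) := ⟨RingHom.ker (μ : κ ⊗[k] κ →+* κ), RingHom.ker_isPrime _⟩
    have hn : IsNilpotent ((a ⊗ₜ[k] (1 : κ)) - ((1 : κ) ⊗ₜ[k] a)) := by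
      rw [← mem_nilradical, nilradical_eq_sInf, Submodule.mem_sInf]
      intro q hq
      have hq' : (⟨q, hq⟩ : PrimeSpectrum (κ ⊗[k] κ)) = p := Subsingleton.elim _ _
      have : q = p.asIdeal := congrArg PrimeSpectrum.asIdeal hq'
      rw [this]
      change μ _ = 0
      simp [μ]
    exact hn.eq_zero
  obtain ⟨f, hfa, hf⟩ := Submodule.exists_le_ker_of_notMem ha
  have hf1 : f 1 = 0 := hf (Submodule.mem_one.2 ⟨1, map_one _⟩)
  have h1 := congrArg (TensorProduct.lid k κ ∘ (TensorProduct.map f (LinearMap.id : κ →ₗ[k] κ))) hd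
  simp only [Function.comp_apply, map_sub, TensorProduct.map_tmul, hf1, LinearMap.id_coe, id_eq,
    TensorProduct.lid_tmul, zero_smul, sub_zero, map_zero] at h1
  rw [← algebraMap_smul κ, smul_eq_mul, mul_one] at h1
  exact hfa ((algebraMap k κ).injective (by rw [h1, map_zero]))

end Alg

section Geo

open CategoryTheory Limits AlgebraicGeometry MonoidalCategory CartesianMonoidalCategory MonObj

theorem isPullback_unit {C : Type*} [Category C] [CartesianMonoidalCategory C] (I E : C) (e : 𝟙_ C ⟶ I) :
    IsPullback (lift (toUnit E ≫ e) (𝟙 E)) (toUnit E) (fst I E) e := by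
  refine ⟨⟨by simp⟩, ⟨PullbackCone.IsLimit.mk _ (fun s => s.fst ≫ snd I E) (fun s => ?_) (fun s => ?_)
    (fun s m h1 h2 => ?_)⟩⟩
  · apply CartesianMonoidalCategory.hom_ext
    · have h := s.condition
      rw [Category.assoc, lift_fst, ← Category.assoc, h]
      congr 1
      exact toUnit_unique _ _
    · simp
  · exact toUnit_unique _ _
  · rw [← h1]
    simp

variable {k : Type u} [Field k] (I E : Over (Spec (CommRingCat.of k))) [GrpObj I]

theorem injective_snd [Subsingleton ↥(I.left)] : Function.Injective (snd I E).left := by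
  have h := (isPullback_unit I E η[I]).map (Over.forget _)
  have h1 : Surjective (η[I] : 𝟙_ (Over (Spec (CommRingCat.of k))) ⟶ I).left :=
    ⟨fun y => ⟨(default : PrimeSpectrum k), Subsingleton.elim _ _⟩⟩
  have h2 : Surjective (lift (toUnit E ≫ η[I]) (𝟙 E)).left :=
    MorphismProperty.of_isPullback (P := @Surjective) h.flip h1
  have h3 : (lift (toUnit E ≫ η[I]) (𝟙 E)).left ≫ (snd I E).left = 𝟙 _ := by
    rw [← Over.comp_left, lift_snd]
    rfl
  intro a b hab
  obtain ⟨a, rfl⟩ := h2.1 a
  obtain ⟨b, rfl⟩ := h2.1 b
  have h4 : ∀ c, (snd I E).left ((lift (toUnit E ≫ η[I]) (𝟙 E)).left c) = c := by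
    intro c
    rw [← Scheme.Hom.comp_apply, h3]
    rfl
  rw [h4, h4] at hab
  rw [hab]

variable {I E}

/-- `E ⊗ E` has injective second projection if `E` is a pseudo-torsor under the one-point group scheme `I`. -/
theorem injective_snd_self [Subsingleton ↥(I.left)] (a : AlgGrp.Action I E)
    (ha : NonAbH1.IsPseudoTorsorSch a) : Function.Injective (snd E E).left := by
  have h1 : IsIso (lift a.act (snd I E)) := ha
  have h2 : lift a.act (snd I E) ≫ snd E E = snd I E := lift_snd _ _
  have h3 : snd E E = inv (lift a.act (snd I E)) ≫ snd I E := by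
    rw [IsIso.eq_inv_comp, h2]
  have h4 : (snd E E).left = (inv (lift a.act (snd I E))).left ≫ (snd I E).left := by
    rw [← Over.comp_left, ← h3]
  have h6 : IsIso (inv (lift a.act (snd I E))).left :=
    inferInstanceAs (IsIso ((Over.forget _).map (inv (lift a.act (snd I E)))))
  have h5 : Function.Injective (inv (lift a.act (snd I E))).left :=
    (Scheme.homeoOfIso (asIso (inv (lift a.act (snd I E))).left)).injective
  intro x y hxy
  rw [h4, Scheme.Hom.comp_apply, Scheme.Hom.comp_apply] at hxy
  exact h5 (injective_snd I E hxy)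

theorem exists_mem (x y : ↥E.left) :
    ∃ z : ↥(E ⊗ E).left, (fst E E).left z = x ∧ (snd E E).left z = y := by
  obtain ⟨z, h1, h2⟩ := Scheme.Pullback.exists_preimage_pullback (f := E.hom) (g := E.hom) x y
    (Subsingleton.elim (α := PrimeSpectrum k) _ _)
  exact ⟨z, h1, h2⟩

theorem subsingleton_left [Subsingleton ↥(I.left)] (a : AlgGrp.Action I E)
    (ha : NonAbH1.IsPseudoTorsorSch a) : Subsingleton ↥E.left := by
  refine ⟨fun x y => ?_⟩
  obtain ⟨z, hz1, hz2⟩ := exists_mem (E := E) x y
  obtain ⟨w, hw1, hw2⟩ := exists_mem (E := E) y y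
  have := injective_snd_self a ha (hz2.trans hw2.symm)
  rw [← hz1, ← hw1, this]

theorem subsingleton_left₂ [Subsingleton ↥(I.left)] (a : AlgGrp.Action I E)
    (ha : NonAbH1.IsPseudoTorsorSch a) : Subsingleton ↥(E ⊗ E).left := by
  have := subsingleton_left a ha
  exact ⟨fun x y => injective_snd_self a ha (Subsingleton.elim _ _)⟩

end Geo

open CategoryTheory AlgebraicGeometry in
/-- Let k be a field, L an extension field of k which is separable over k in the sense that L ⊗_k L is
reduced (not necessarily algebraic), and I an infinitesimal k-group scheme (finite over k with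
one-point underlying space). If a k-scheme E with an action of I is an fppf torsor under I and
acquires a point over L, then E already has a k-point. (The published statement is the injectivity
of H^1(k, I) → H^1(L, I); this row is its torsor form.) -/
theorem result (k : Type u) [Field k] (L : Type u) [Field L] [Algebra k L]
    [IsReduced (TensorProduct k L L)]
    (I E : Over (Spec (CommRingCat.of k))) [GrpObj I] [IsFinite I.hom] [Subsingleton ↥(I.left)]
    (a : AlgGrp.Action I E) (hE : NonAbH1.IsTorsorFor Scheme.fppfPrecoverage a)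
    (hL : NonAbH1.HasSectionOver E (Spec.map (CommRingCat.ofHom (algebraMap k L)))) :
    NonAbH1.HasSectionOver E (𝟙 (Spec (CommRingCat.of k))) := by
  have hE2 := subsingleton_left₂ a hE.1
  obtain ⟨s, hs⟩ := hL
  obtain ⟨⟨x, ψ⟩, hψ⟩ := (Scheme.SpecToEquivOfField L E.left).symm.surjective s
  have hψ' : Spec.map ψ ≫ E.left.fromSpecResidueField x = s := hψ
  obtain ⟨φ, hφ⟩ := Spec.map_surjective (E.left.fromSpecResidueField x ≫ E.hom)
  have hcomp : φ ≫ ψ = CommRingCat.ofHom (algebraMap k L) := by
    apply Spec.map_injective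
    rw [Spec.map_comp, hφ, ← Category.assoc, hψ', hs]
  let κ : Type u := E.left.residueField x
  let _ : Algebra k κ := φ.hom.toAlgebra
  let _ : Algebra κ L := ψ.hom.toAlgebra
  have : IsScalarTower k κ L := by
    apply IsScalarTower.of_algebraMap_eq'
    exact (congrArg CommRingCat.Hom.hom hcomp).symm
  have hinj : Function.Injective (Algebra.TensorProduct.map (IsScalarTower.toAlgHom k κ L)
      (IsScalarTower.toAlgHom k κ L)) := by
    have h1 : Function.Injective (IsScalarTower.toAlgHom k κ L).toLinearMap :=
      (algebraMap κ L).injective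
    exact TensorProduct.map_injective_of_flat_flat _ _ h1 h1
  have hred : IsReduced (TensorProduct k κ κ) := isReduced_of_injective _ hinj
  have hsub : Subsingleton (PrimeSpectrum (TensorProduct k κ κ)) := by
    let f : Spec (CommRingCat.of κ) ⟶ Spec (CommRingCat.of k) := Spec.map φ
    let m : Limits.pullback f f ⟶ Limits.pullback E.hom E.hom :=
      Limits.pullback.map f f E.hom E.hom (E.left.fromSpecResidueField x)
        (E.left.fromSpecResidueField x) (𝟙 _) (by rw [Category.comp_id]; exact hφ)
        (by rw [Category.comp_id]; exact hφ)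
    have hm : Mono m := by
      refine ⟨fun g h e => ?_⟩
      have e1 := congrArg (fun z => z ≫ Limits.pullback.fst E.hom E.hom) e
      have e2 := congrArg (fun z => z ≫ Limits.pullback.snd E.hom E.hom) e
      simp only [m, Category.assoc, Limits.pullback.map, Limits.pullback.lift_fst,
        Limits.pullback.lift_snd] at e1 e2
      rw [← Category.assoc, ← Category.assoc, cancel_mono] at e1 e2
      exact Limits.pullback.hom_ext e1 e2
    have h1 : Function.Injective m := m.injective
    have h2 : Subsingleton ↥(Limits.pullback E.hom E.hom) := hE2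
    have h3 : Subsingleton ↥(Limits.pullback f f) := ⟨fun a b => h1 (Subsingleton.elim _ _)⟩
    have e := Scheme.homeoOfIso (pullbackSpecIso k κ κ)
    exact e.symm.injective.subsingleton
  have hsurj : Function.Surjective (algebraMap k κ) := surjective_of_subsingleton
  have hbij : Function.Bijective φ.hom := ⟨φ.hom.injective, hsurj⟩
  have hiso : IsIso φ := by
    rw [ConcreteCategory.isIso_iff_bijective]
    exact hbij
  refine ⟨inv (Spec.map φ) ≫ E.left.fromSpecResidueField x, ?_⟩
  rw [Category.assoc, ← hφ, IsIso.inv_hom_id]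

end Groth.Agent.S13959
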