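import Groth.Statements.S13960
import Groth.Agent.TateLoc.K810.GaKer
import Groth.Agent.TateLoc.K810.DualUnip

set_option autoImplicit false
universe u
open TateLoc

namespace Groth.Agent.S13960

open CategoryTheory AlgebraicGeometry in
/-- Let k be a field and G a finite commutative k-group scheme whose Cartier dual is infinitesimal, i.e.
the dual sheaf Ĝ (internal Hom from the sheaf of points of G into the multiplicative group on the
big fppf site of Spec k) is isomorphic to the sheaf of points of a finite commutative k-group scheme
D whose underlying space is a single point. Then the second cohomology H^2(k, G) of the sheaf of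
points of G vanishes. -/
theorem result (k : Type u) [Field k]
    (G D : Over (Spec (CommRingCat.of k))) [GrpObj G] [IsCommMonObj G] [IsFinite G.hom]
    [GrpObj D] [IsCommMonObj D] [IsFinite D.hom] [Subsingleton ↥(D.left)]
    (e : (CGrpSh.pts Scheme.fppfPrecoverage D) ≅ (CGrpSh2.dualSh Scheme.fppfPrecoverage (CGrpSh.pts Scheme.fppfPrecoverage G))) :
    Subsingleton (BigSite.H Scheme.fppfPrecoverage (Spec (CommRingCat.of k)) (CGrpSh.pts Scheme.fppfPrecoverage G) 2) := by
  have h0 : IsAffine G.left := isAffine_of_isAffineHom G.hom
  obtain ⟨A, _, _, _, e', he', hft⟩ := K620.HopfSeq.exists_model G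
  have hA : Algebra.FiniteType k A := hft inferInstance
  have hfin : Module.Finite k A := by
    have h1 : IsFinite (Groth.Agent.Books.AffBridge.SpecOver k A).hom := by
      have h2 : (Groth.Agent.Books.AffBridge.SpecOver k A).hom = e'.inv.left ≫ G.hom := (Over.w e'.inv).symm
      have i1 : IsIso e'.inv.left := inferInstanceAs (IsIso ((Over.forget _).map e'.inv))
      rw [h2]
      infer_instance
    have h3 : IsFinite (Spec.map (CommRingCat.ofHom (algebraMap k A))) := h1
    rw [IsFinite.SpecMap_iff] at h3
    exact RingHom.finite_algebraMap.mp h3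
  let p : CGrpSh.pts Scheme.fppfPrecoverage G ≅ CGrpSh.pts Scheme.fppfPrecoverage
    (Groth.Agent.Books.AffBridge.SpecOver k A) := K810.GaKer.ptsIso e'
  have hU : HopfRep.IsUnipotent k A := K810.DualUnip.isUnipotent D
    (e ≪≫ (CGrpSh2.dualFunctor Scheme.fppfPrecoverage (Spec (CommRingCat.of k))).mapIso p.symm.op)
  have h := K810.GaKer.unipotent k A hU 2 le_rfl
  exact (K809.Les.mpEquiv _ p 2).toEquiv.subsingleton

end Groth.Agent.S13960
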