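import Groth.Statements.S13963
import Mathlib.Topology.Algebra.Group.OpenMapping
import Mathlib.Topology.Baire.LocallyCompactRegular
-- import your own Groth.Agent.* helpers here

set_option autoImplicit false
universe u
open TateLoc

namespace Groth.Agent.S13963

open scoped Pointwise

/-- Let A' → A → A'' be continuous homomorphisms of locally compact, second-countable, Hausdorff abelian
topological groups which form a short exact sequence of abstract groups (the first injective, the
second surjective, image equal to kernel). If A' and A'' are compact, then A is compact. -/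
theorem result (A' A A'' : Type u)
    [AddCommGroup A'] [TopologicalSpace A'] [IsTopologicalAddGroup A'] [SecondCountableTopology A'] [T2Space A']
    [CompactSpace A']
    [AddCommGroup A] [TopologicalSpace A] [IsTopologicalAddGroup A] [LocallyCompactSpace A]
    [SecondCountableTopology A] [T2Space A]
    [AddCommGroup A''] [TopologicalSpace A''] [IsTopologicalAddGroup A''] [SecondCountableTopology A''] [T2Space A'']
    [CompactSpace A'']
    (f : A' →+ A) (g : A →+ A'') (hf : Continuous f) (hg : Continuous g)
    (hinj : Function.Injective f) (hsurj : Function.Surjective g) (hex : g.ker = f.range) :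
    CompactSpace A := by

  have hopen : IsOpenMap g := AddMonoidHom.isOpenMap_of_sigmaCompact g hsurj hg
  have hK : IsCompact (Set.range f) := isCompact_range hf
  -- compact neighbourhoods
  choose C hC hCn using fun a : A => exists_compact_mem_nhds a
  have hcov : (Set.univ : Set A'') ⊆ ⋃ a : A, g '' interior (C a) := by
    intro y _
    obtain ⟨a, rfl⟩ := hsurj y
    exact Set.mem_iUnion.2 ⟨a, a, mem_interior_iff_mem_nhds.2 (hCn a), rfl⟩
  obtain ⟨t, ht⟩ := isCompact_univ.elim_finite_subcover _ (fun a => hopen _ isOpen_interior) hcov
  have hT : IsCompact (⋃ a ∈ t, (C a + Set.range f)) :=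
    t.isCompact_biUnion fun a _ => (hC a).add hK
  refine ⟨?_⟩
  convert hT
  symm
  rw [Set.eq_univ_iff_forall]
  intro x
  have hx := ht (Set.mem_univ (g x))
  simp only [Set.mem_iUnion, exists_prop] at hx ⊢
  obtain ⟨a, hat, c, hc, hcx⟩ := hx
  refine ⟨a, hat, Set.mem_add.2 ⟨c, interior_subset hc, x - c, ?_, by abel⟩⟩
  have : x - c ∈ g.ker := by rw [AddMonoidHom.mem_ker, map_sub, hcx, sub_self]
  rw [hex] at this
  exact this

end Groth.Agent.S13963
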