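import Groth.Statements.S13964
import Groth.Agent.TateLoc.K810.PushH1
import Groth.Agent.TateLoc.K810.GmIso
import Groth.Agent.TateLoc.K810.EtRes
import Groth.Agent.Sga4h.TameFieldK2
import Groth.Agent.RedSub.H606.TorConj

set_option autoImplicit false
universe u
open TateLoc

namespace Groth.Agent.S13964

open CategoryTheory AlgebraicGeometry in
/-- Take fields k and k' with k' finite and separable over k. The Weil restriction of the multiplicative
group from k' to k, as an abelian sheaf on the big fppf site of Spec k, is the direct image of the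
multiplicative group along Spec k' → Spec k; its first cohomology H^1(k, R_{k'/k}(𝔾_m)) vanishes.
(The published statement is for the Weil restriction of any split k'-torus, a finite product of
copies of this case.) -/
theorem result (k k' : Type u) [Field k] [Field k'] [Algebra k k']
    [FiniteDimensional k k'] [Algebra.IsSeparable k k'] :
    Subsingleton (BigSite.H Scheme.fppfPrecoverage (Spec (CommRingCat.of k)) ((BigSite.pushBig Scheme.fppfPrecoverage (Spec.map (CommRingCat.ofHom (algebraMap k k'))) AddCommGrpCat.{u+1}).obj (CGrpSh2.Gm Scheme.fppfPrecoverage (Spec (CommRingCat.of k')))) 1) := by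
  apply K810.PushH1.subsingleton_H1_push
  have h1 : Smooth (Red.Gm (Spec (CommRingCat.of k'))).hom := Groth.Agent.RedSub.H606.TorConj.smooth_gm _
  have h2 : IsAffineHom (Red.Gm (Spec (CommRingCat.of k'))).hom :=
    inferInstanceAs (IsAffineHom (Limits.pullback.snd (Red.diag (ULift.{u} ℤ) ℤ).hom
      (Limits.IsTerminal.from specULiftZIsTerminal (Spec (CommRingCat.of k')))))
  obtain ⟨e⟩ := K810.EtRes.nonempty_hEquiv (Spec (CommRingCat.of k'))
    (CGrpSh2.Gm Scheme.fppfPrecoverage (Spec (CommRingCat.of k')))
    (fun q hq => K809.SmoothVan.isZero_RresEt_pts (Red.Gm (Spec (CommRingCat.of k')))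
      (K809.SmoothVan.af_of_isAffineHom _) q hq) 1
  have h3 := Groth.Agent.Sga4h.TameFieldK2.subsingleton_H1_Gm k'
  have h4 : Subsingleton (EtCoh.H (Spec (CommRingCat.of k'))
      ((BigSite.resEt Scheme.fppfPrecoverage (Spec (CommRingCat.of k'))).obj
        (CGrpSh2.Gm Scheme.fppfPrecoverage (Spec (CommRingCat.of k')))) 1) :=
    (K809.Les.mpEquiv _ (K810.GmIso.isoEt (Spec (CommRingCat.of k'))) 1).toEquiv.subsingleton
  exact e.symm.toEquiv.subsingleton

end Groth.Agent.S13964
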