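import Groth.Statements.S13965
import Groth.Agent.TateLoc.K810.PushH1
import Groth.Agent.TateLoc.K810.IntH1
import Groth.Agent.TateLoc.K810.DualDS
import Groth.Agent.S15382
import Groth.Agent.S0093
import Mathlib.RingTheory.Etale.Field
import Groth.Agent.S15384

set_option autoImplicit false
universe u
open TateLoc

namespace Groth.Agent.S13965

open CategoryTheory AlgebraicGeometry in
/-- Take a finite separable field extension k'/k, and let R be the Weil restriction of the
multiplicative group from k' to k, i.e. the direct image of the multiplicative group along Spec k' →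
Spec k as an abelian sheaf on the big fppf site of Spec k. Then the first cohomology H^1(k, R̂) of
the dual sheaf R̂ (internal Hom from R into the multiplicative group) vanishes. (The published
statement is for the Weil restriction of any split k'-torus, a finite product of copies of this
case.) -/
theorem result (k k' : Type u) [Field k] [Field k'] [Algebra k k']
    [FiniteDimensional k k'] [Algebra.IsSeparable k k'] :
    Subsingleton (BigSite.H Scheme.fppfPrecoverage (Spec (CommRingCat.of k)) (CGrpSh2.dualSh Scheme.fppfPrecoverage ((BigSite.pushBig Scheme.fppfPrecoverage (Spec.map (CommRingCat.ofHom (algebraMap k k'))) AddCommGrpCat.{u+1}).obj (CGrpSh2.Gm Scheme.fppfPrecoverage (Spec (CommRingCat.of k'))))) 1) := by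
  let f : Spec (CommRingCat.of k') ⟶ Spec (CommRingCat.of k) := Spec.map (CommRingCat.ofHom (algebraMap k k'))
  have hfin : IsFinite f := by
    rw [IsFinite.SpecMap_iff]
    exact RingHom.finite_algebraMap.2 inferInstance
  have het : Etale f := by
    rw [HasRingHomProperty.Spec_iff (P := @Etale)]
    have h0 : Algebra.FormallyEtale k k' := Algebra.FormallyEtale.of_isSeparable k k'
    have h00 : Algebra.Etale k k' := ⟨h0, (Algebra.FinitePresentation.of_finiteType).1 inferInstance⟩
    exact RingHom.etale_algebraMap.2 h00
  obtain ⟨N, hN⟩ := Groth.Agent.S15384.result _ _ f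
  have h1 := Groth.Agent.S15382.result _ _ f N hN (CGrpSh2.Gm Scheme.fppfPrecoverage (Spec (CommRingCat.of k')))
  have h2 : Subsingleton (BigSite.H Scheme.fppfPrecoverage (Spec (CommRingCat.of k'))
      (EtDl.constF (Spec (CommRingCat.of k')) ℤ) 1) :=
    K810.IntH1.subsingleton_H1_int_fppf _ fun x =>
      Groth.Agent.S0093.isIntegrallyClosed_stalk_Spec (CommRingCat.of k') x
  have h3 : Subsingleton (BigSite.H Scheme.fppfPrecoverage (Spec (CommRingCat.of k'))
      (CGrpSh2.dualSh Scheme.fppfPrecoverage (CGrpSh2.Gm Scheme.fppfPrecoverage (Spec (CommRingCat.of k')))) 1) :=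
    (K809.Les.mpEquiv _ (K810.DualDS.dsDualIso (Spec (CommRingCat.of k')) ℤ) 1).symm.toEquiv.subsingleton
  have h4 := K810.PushH1.subsingleton_H1_push Scheme.fppfPrecoverage f _ h3
  exact (K809.Les.mpEquiv _ (asIso (CGrpSh3.dualNormMap Scheme.fppfPrecoverage f N
    (CGrpSh2.Gm Scheme.fppfPrecoverage (Spec (CommRingCat.of k'))))) 1).symm.toEquiv.subsingleton

end Groth.Agent.S13965
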