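import Groth.Statements.S6084
import Groth.Agent.S0114

set_option autoImplicit false
universe u
open CategoryTheory CategoryTheory.Limits MonoidalCategory CartesianMonoidalCategory MonObj GrpObj AlgebraicGeometry
open SGA3

namespace Groth.Agent.S6084

theorem isAffine_of_subsingleton (X : Scheme.{u}) [Subsingleton X] : IsAffine X := by
  rcases isEmpty_or_nonempty X with h | ⟨⟨x⟩⟩
  · infer_instance
  · obtain ⟨U, hU, hxU, -⟩ := exists_isAffineOpen_mem_and_subset (X := X) (x := x) (U := ⊤) trivial
    have hT : U = ⊤ := by
      ext y
      simp [Subsingleton.elim y x, hxU]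
    rw [hT] at hU
    have : IsAffine (⊤ : X.Opens) := hU
    exact IsAffine.of_isIso X.topIso.inv

theorem finite_of_subsingleton (k : Type u) [Field k] (X : Scheme.{u}) [Subsingleton X]
    (f : X ⟶ Spec (CommRingCat.of k)) [LocallyOfFiniteType f] : IsFinite f := by
  have : IsAffine X := isAffine_of_subsingleton X
  wlog hX : ∃ R, X = Spec R generalizing X
  · have inst := X.isoSpec.inv.isOpenEmbedding.injective.subsingleton
    have := this _ (X.isoSpec.inv ≫ f) inferInstance ⟨_, rfl⟩
    have h2 : IsFinite (X.isoSpec.hom ≫ X.isoSpec.inv ≫ f) := inferInstance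
    simpa using h2
  obtain ⟨R, rfl⟩ := hX
  obtain ⟨φ, rfl⟩ := Spec.map_surjective f
  rw [IsFinite.SpecMap_iff]
  have hft : φ.hom.FiniteType :=
    (HasRingHomProperty.Spec_iff (P := @LocallyOfFiniteType)).mp inferInstance
  algebraize [φ.hom]
  have hsub : Subsingleton (PrimeSpectrum R) := ‹Subsingleton (Spec R)›
  have h0 : Ring.KrullDimLE 0 R := inferInstance
  exact (Module.finite_iff_krullDimLE_zero k R).mpr h0

theorem isIso_residueFieldMap_of_section (k : Type u) [Field k] {X : Scheme.{u}}
    (f : X ⟶ Spec (CommRingCat.of k)) (s : Spec (CommRingCat.of k) ⟶ X) (hs : s ≫ f = 𝟙 _)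
    (x : X) (p : Spec (CommRingCat.of k)) (hx : s p = x) : IsIso (f.residueFieldMap x) := by
  subst hx
  have h1 : Function.Bijective ((s ≫ f).residueFieldMap p) := by
    have h0 : ∀ g : Spec (CommRingCat.of k) ⟶ Spec (CommRingCat.of k), g = 𝟙 _ →
        Function.Bijective (g.residueFieldMap p) := by
      rintro _ rfl
      rw [Scheme.residueFieldMap_id]
      exact Function.bijective_id
    exact h0 _ hs
  rw [Scheme.residueFieldMap_comp] at h1
  have h2 : Function.Surjective (s.residueFieldMap p) :=
    Function.Surjective.of_comp (g := f.residueFieldMap (s p)) h1.2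
  have h3 : Function.Injective (s.residueFieldMap p) := RingHom.injective _
  have : IsIso (s.residueFieldMap p) :=
    (ConcreteCategory.isIso_iff_bijective _).mpr ⟨h3, h2⟩
  have h4 : Function.Bijective (f.residueFieldMap (s p)) :=
    (Function.Bijective.of_comp_iff' ⟨h3, h2⟩ (f.residueFieldMap (s p))).mp h1
  exact (ConcreteCategory.isIso_iff_bijective _).mpr h4

/-- Let k be a perfect field, G a group scheme locally of finite type over k and u : F → G a
homomorphism of k-group schemes which is a closed immersion and surjective on underlying spaces,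
with F reduced (so F is G_red with its group structure). Let p : G → X be a k-morphism which is
flat, surjective and locally of finite presentation and makes the square formed by (f, g) ↦ u(f) ·
g, the second projection F ×_k G → G and p (twice) cartesian (X is the quotient of G by F acting by
left translations). Then X is the spectrum of a finite local k-algebra with residue field k: X is
affine, its underlying space is a single point at which the structure morphism induces an
isomorphism of residue fields, and the ring of global sections of X is finite over k. -/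
theorem result (k : Type u) [Field k] [PerfectField k]
    (F G : Over (Spec (CommRingCat.of k))) [GrpObj F] [GrpObj G] [LocallyOfFiniteType G.hom] [IsReduced F.left]
    (u : F ⟶ G) [IsMonHom u] [IsClosedImmersion u.left] [Surjective u.left]
    (X : Over (Spec (CommRingCat.of k))) (p : G ⟶ X) [Flat p.left] [Surjective p.left] [LocallyOfFinitePresentation p.left]
    (hp : IsPullback ((u ▷ G) ≫ μ[G]) (snd F G) p p) :
    IsAffine X.left ∧ (∃ x : X.left, (Set.univ : Set X.left) = {x} ∧ IsIso (X.hom.residueFieldMap x)) ∧
      ((Scheme.ΓSpecIso (CommRingCat.of k)).inv ≫ X.hom.appTop).hom.Finite := by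
  have h1 : u ≫ p = toUnit F ≫ η[G] ≫ p := by
    have h := lift (𝟙 F) (toUnit F ≫ η[G]) ≫= hp.w
    simp only [← Category.assoc] at h
    rw [lift_snd, lift_whiskerRight, Category.id_comp, MonObj.lift_comp_one_right,
      Category.assoc] at h
    exact h
  have hsurj : Surjective (u ≫ p).left := by
    rw [Over.comp_left]; infer_instance
  have : Subsingleton (𝟙_ (Over (Spec (CommRingCat.of k)))).left :=
    inferInstanceAs (Subsingleton (Spec (CommRingCat.of k)))
  have hone : ∀ y : X.left, y = (η[G] ≫ p).left (default : PrimeSpectrum k) := by
    intro y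
    obtain ⟨a, rfl⟩ := hsurj.surj y
    rw [h1, Over.comp_left, Scheme.Hom.comp_apply]
    congr 1
    exact Subsingleton.elim (α := PrimeSpectrum k) _ _
  have hXsub : Subsingleton X.left := ⟨fun a b => (hone a).trans (hone b).symm⟩
  have : LocallyOfFinitePresentation G.hom :=
    LocallyOfFinitePresentation.iff_locallyOfFiniteType.mpr inferInstance
  have hfp : LocallyOfFinitePresentation (p.left ≫ X.hom) := by rw [Over.w]; infer_instance
  have hX : LocallyOfFinitePresentation X.hom := Groth.Agent.S0114.result p.left X.hom
  have hfin : IsFinite X.hom := finite_of_subsingleton k X.left X.hom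
  refine ⟨isAffine_of_subsingleton X.left, ⟨(η[G] ≫ p).left (default : PrimeSpectrum k), ?_, ?_⟩, ?_⟩
  · ext y; simpa using hone y
  · exact isIso_residueFieldMap_of_section k X.hom (η[G] ≫ p).left (Over.w (η[G] ≫ p)) _ _ rfl
  · have := X.hom.finite_appTop
    rw [CommRingCat.hom_comp]
    exact this.comp (RingHom.Finite.of_surjective _
      (ConcreteCategory.bijective_of_isIso (Scheme.ΓSpecIso (CommRingCat.of k)).inv).2)

end Groth.Agent.S6084
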