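import Groth.Statements.S13966
import Groth.Agent.TateLoc.K770.InsepKer

set_option autoImplicit false
universe u
open TateLoc

namespace Groth.Agent.S13966

open CategoryTheory AlgebraicGeometry in
/-- Let k be a field and G a connected commutative k-group scheme of finite type whose underlying
reduced subscheme is not a smooth k-subgroup scheme, i.e. no smooth closed k-subgroup scheme of G
has the same underlying space as G. Then there are a finite purely inseparable extension k' of k, an
infinitesimal commutative k'-group scheme I' (finite over k' with a single point), a homomorphism of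
abelian sheaves on the big fppf site of Spec k from the sheaf of points of G to the Weil restriction
of I' (the direct image of the sheaf of points of I' along Spec k' → Spec k), and a closed
k-subgroup scheme H of G whose sheaf of points is exactly the kernel of this homomorphism, such that
dim H < dim G. -/
theorem result (k : Type u) [Field k]
    (G : Over (Spec (CommRingCat.of k))) [GrpObj G] [IsCommMonObj G] [LocallyOfFiniteType G.hom] [QuasiCompact G.hom]
    [ConnectedSpace ↥(G.left)]
    (hred : ¬ ∃ (H : Over (Spec (CommRingCat.of k))) (_ : GrpObj H) (i : H ⟶ G) (_ : IsMonHom i),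
      IsClosedImmersion i.left ∧ Smooth H.hom ∧ Surjective i.left) :
    ∃ (k' : Type u) (_ : Field k') (_ : Algebra k k') (_ : FiniteDimensional k k') (_ : IsPurelyInseparable k k')
      (I' : Over (Spec (CommRingCat.of k'))) (_ : GrpObj I') (_ : IsCommMonObj I') (_ : IsFinite I'.hom) (_ : Subsingleton ↥(I'.left))
      (φ : CGrpSh.pts Scheme.fppfPrecoverage G ⟶
        (BigSite.pushBig Scheme.fppfPrecoverage (Spec.map (CommRingCat.ofHom (algebraMap k k'))) AddCommGrpCat.{u+1}).obj (CGrpSh.pts Scheme.fppfPrecoverage I'))
      (H : Over (Spec (CommRingCat.of k))) (_ : GrpObj H) (_ : IsCommMonObj H) (j : H ⟶ G) (_ : IsMonHom j) (w : CGrpSh.ptsMap Scheme.fppfPrecoverage j ≫ φ = 0),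
      IsClosedImmersion j.left ∧ (ShortComplex.mk (CGrpSh.ptsMap Scheme.fppfPrecoverage j) φ w).Exact ∧
      topologicalKrullDim ↥(H.left) < topologicalKrullDim ↥(G.left) := by
  exact K770.InsepKer.main G hred

end Groth.Agent.S13966
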