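import Groth.Statements.S13967
import Groth.Agent.TateLoc.K227.CharZero
import Groth.Agent.TateLoc.K227.RealEmb
import Groth.Agent.Etbc.H236.NumberField

set_option autoImplicit false
universe u
open TateLoc

namespace Groth.Agent.S13967

open CategoryTheory AlgebraicGeometry in
/-- For a number field k without real places and a commutative k-group scheme G of finite type (not
necessarily affine), the cohomology H^i(k, G) of the sheaf of points of G on the big fppf site of
Spec k vanishes for every i > 2. (The published statement covers at once non-archimedean local
fields and global fields without real places; this row is the number-field case.) -/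
theorem result (k : Type u) [Field k] [NumberField k] [NumberField.IsTotallyComplex k]
    (G : Over (Spec (CommRingCat.of k))) [GrpObj G] [IsCommMonObj G]
    [LocallyOfFiniteType G.hom] [QuasiCompact G.hom] (i : ℕ) (hi : 2 < i) :
    Subsingleton (BigSite.H Scheme.fppfPrecoverage (Spec (CommRingCat.of k)) (CGrpSh.pts Scheme.fppfPrecoverage G) i) := by
  exact K227.CharZero.subsingleton_H 2 (fun ℓ hℓ =>
    Groth.Agent.Etbc.H236.NumberField.cd_numberField k ℓ hℓ (Or.inr (K227.RealEmb.not_order k))) G i
    (by omega) hi

end Groth.Agent.S13967
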