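import Groth.Statements.S13968
import Groth.Agent.Dix.K109.DualFin
import Groth.Agent.TateLoc.K227.RealEmb
-- import your own Groth.Agent.* helpers here

set_option autoImplicit false
universe u
open TateLoc

namespace Groth.Agent.S13968

open CategoryTheory AlgebraicGeometry in
/-- For a number field k without real places and an affine commutative k-group scheme G of finite type,
the third cohomology H^3(k, Ĝ) of the dual sheaf of G (internal Hom from the sheaf of points of G
into the multiplicative group on the big fppf site of Spec k) vanishes. (The published statement
also covers local fields and global function fields, written as separate rows with an extra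
hypothesis needed only in positive characteristic.) -/
theorem result (k : Type u) [Field k] [NumberField k] [NumberField.IsTotallyComplex k]
    (G : Over (Spec (CommRingCat.of k))) [GrpObj G] [IsCommMonObj G] [IsAffine G.left] [LocallyOfFiniteType G.hom] :
    Subsingleton (BigSite.H Scheme.fppfPrecoverage (Spec (CommRingCat.of k)) (CGrpSh2.dualSh Scheme.fppfPrecoverage (CGrpSh.pts Scheme.fppfPrecoverage G)) 3) := by
  exact Groth.Agent.Dix.K109.DualFin.subsingleton_numberField k (K227.RealEmb.not_order k) G

end Groth.Agent.S13968
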