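import Groth.Statements.S13970
import Groth.Agent.TateLoc.K810.CtbField

set_option autoImplicit false
universe u
open TateLoc

namespace Groth.Agent.S13970

open CategoryTheory AlgebraicGeometry in
/-- For a number field k and an affine commutative k-group scheme G of finite type, the groups H^i(k,
Ĝ), i ≤ 2, are countable, Ĝ being the dual sheaf of G (internal Hom from the sheaf of points of G
into the multiplicative group on the big fppf site of Spec k). -/
theorem result (k : Type u) [Field k] [NumberField k]
    (G : Over (Spec (CommRingCat.of k))) [GrpObj G] [IsCommMonObj G] [IsAffine G.left] [LocallyOfFiniteType G.hom]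
    (i : ℕ) (hi : i ≤ 2) :
    Countable (BigSite.H Scheme.fppfPrecoverage (Spec (CommRingCat.of k)) (CGrpSh2.dualSh Scheme.fppfPrecoverage (CGrpSh.pts Scheme.fppfPrecoverage G)) i) := by
  have := K810.CtbFppf.countable_numberField k
  exact K810.CtbFppf.countable_H_dual_field k G i

end Groth.Agent.S13970
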