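import Groth.Statements.S13975
import Groth.Agent.S5005
import Groth.Agent.Deform.K682.DualLift
import Groth.Agent.Deform.K682.DualDat

set_option autoImplicit false
universe u
open CategoryTheory CategoryTheory.Limits AlgebraicGeometry
open Deform

namespace Groth.Agent.S13975

open TopologicalSpace Opposite
open Groth.Agent.Fdesc.LocGen K682.DualThick K682.DualAut K682.DualLift K682.DualDat

section

variable {X S : Scheme.{u}} (x : X ⟶ S)

/-- A sectionwise derivation vanishing on functions from the base, as a derivation. -/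
noncomputable def toDer (D : SecDer X) (h : ∀ (V : S.Opens) (c : Γ(S, V)), D.δ (x ⁻¹ᵁ V) (x.app V c) = 0) :
    OmegaSh.Der x (Coh.structureModule X) where
  d {U} := (OmegaSh.strSect X U.unop).comp (D.δ U.unop)
  d_mul {U} a b := D.leib U.unop a b
  d_map {U V} f a := (D.nat (leOfHom f.unop) a).symm
  d_app {V} c := h V.unop c

/-- A derivation, sectionwise. -/
noncomputable def ofDer (D : OmegaSh.Der x (Coh.structureModule X)) : SecDer X where
  δ U := (OmegaSh.fnSect X U).comp (D.app U)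
  leib U a b := D.d_mul (X := op U) a b
  nat {U V} h a := (D.d_map (homOfLE h).op a).symm

theorem ofDer_app (D : OmegaSh.Der x (Coh.structureModule X)) (V : S.Opens) (c : Γ(S, V)) :
    (ofDer x D).δ (x ⁻¹ᵁ V) (x.app V c) = 0 := D.d_app (X := op V) c

theorem toDer_app (D : SecDer X) (h) (U : X.Opens) (a : Γ(X, U)) :
    (toDer x D h).app U a = OmegaSh.strSect X U (D.δ U a) := rfl

theorem toDer_ofDer (D : OmegaSh.Der x (Coh.structureModule X)) : toDer x (ofDer x D) (ofDer_app x D) = D := rfl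

end

section

variable {k : Type u} [Field k] {X Y : Scheme.{u}} {x : X ⟶ Spec (CommRingCat.of k)} {q : Y ⟶ X}
  {p : Y ⟶ Spec (CommRingCat.of (DualNumber k))}
  (hsq : IsPullback q p x (Spec.map (CommRingCat.ofHom (algebraMap k (DualNumber k)))))
  (i : X ⟶ Y) (hiq : i ≫ q = 𝟙 X)
  (hip : i ≫ p = x ≫ Spec.map (CommRingCat.ofHom (TrivSqZeroExt.fstHom k k k).toRingHom))

/-- Infinitesimal automorphisms. -/
abbrev IAut (p : Y ⟶ Spec (CommRingCat.of (DualNumber k))) (i : X ⟶ Y) : Type u :=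
  {φ : Y ≅ Y // φ.hom ≫ p = p ∧ i ≫ φ.hom = i}

theorem lift_i (φ : IAut p i) : (dat hsq i hiq hip).i ≫ (φ.1.hom ≫ q) = 𝟙 X := by
  change i ≫ φ.1.hom ≫ q = _
  rw [← Category.assoc, φ.2.2, hiq]

/-- The derivation of an infinitesimal automorphism. -/
noncomputable def derOf (φ : IAut p i) : SecDer X :=
  ofLift (dat hsq i hiq hip) (φ.1.hom ≫ q) (lift_i hsq i hiq hip φ)

theorem appLE_congr' {A B : Scheme.{u}} {f g : A ⟶ B} (h : f = g) (V : B.Opens) (U : A.Opens) (e : U ≤ f ⁻¹ᵁ V)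
    (c : Γ(B, V)) : f.appLE V U e c = g.appLE V U (h ▸ e) c := by
  subst h; rfl

theorem derOf_app (φ : IAut p i) (V : (Spec (CommRingCat.of k)).Opens) (c : Γ(Spec (CommRingCat.of k), V)) :
    (derOf hsq i hiq hip φ).δ (x ⁻¹ᵁ V) (x.app V c) = 0 := by
  let T := dat hsq i hiq hip
  refine coef_unique T (φ.1.hom ≫ q) (lift_i hsq i hiq hip φ) (x ⁻¹ᵁ V) (x.app V c) 0 ?_
  rw [map_zero, zero_mul, add_zero]
  have h1 : (φ.1.hom ≫ q) ≫ x = q ≫ x := by
    rw [Category.assoc, hsq.w, ← Category.assoc, φ.2.1]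
  have h2 := appLE_congr' h1 V (q ⁻¹ᵁ (x ⁻¹ᵁ V)) (by rw [h1]; exact le_rfl) c
  have h3 : ((φ.1.hom ≫ q) ≫ x).appLE V (q ⁻¹ᵁ (x ⁻¹ᵁ V)) (by rw [h1]; exact le_rfl) c =
      fA T (φ.1.hom ≫ q) (lift_i hsq i hiq hip φ) (x ⁻¹ᵁ V) (x.app V c) := rfl
  have h4 : (q ≫ x).appLE V ((q ≫ x) ⁻¹ᵁ V) le_rfl c = q.app (x ⁻¹ᵁ V) (x.app V c) := by
    rw [Scheme.Hom.appLE_eq_app]; rfl
  rw [← h3, h2]
  exact h4

theorem hom_eq (φ : IAut p i) (D : SecDer X) (hD : derOf hsq i hiq hip φ = D)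
    (hp : autHom (dat hsq i hiq hip) D ≫ p = p) : φ.1.hom = autHom (dat hsq i hiq hip) D := by
  apply hsq.hom_ext
  · rw [eq_autHom_ofLift (dat hsq i hiq hip) (φ.1.hom ≫ q) (lift_i hsq i hiq hip φ)]
    rw [← hD]
    rfl
  · rw [φ.2.1, hp]

theorem autHom_p (D : SecDer X)
    (hD : ∀ (V : (Spec (CommRingCat.of k)).Opens) (c : Γ(Spec (CommRingCat.of k), V)), D.δ (x ⁻¹ᵁ V) (x.app V c) = 0) :
    autHom (dat hsq i hiq hip) D ≫ p = p := by
  apply ext_of_isAffine
  apply CommRingCat.hom_ext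
  apply RingHom.ext
  intro z
  let T := dat hsq i hiq hip
  have h1 : (autHom T D ≫ p).appTop z = p.appTop z + T.qL ⊤ (D.δ _ (T.iA ⊤ (p.appTop z))) * T.eV ⊤ := rfl
  have h2 : T.iA ⊤ (p.appTop z) = (i ≫ p).appTop z := rfl
  have h3 : (i ≫ p).appTop z =
      x.appTop ((Spec.map (CommRingCat.ofHom (TrivSqZeroExt.fstHom k k k).toRingHom)).appTop z) := by
    rw [hip]; rfl
  have h4 : D.δ _ (T.iA ⊤ (p.appTop z)) = 0 := by
    rw [h2, h3]
    exact hD ⊤ _
  change (autHom T D ≫ p).appTop z = p.appTop z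
  rw [h1, h4, map_zero, zero_mul, add_zero]

theorem derOf_injective (φ ψ : IAut p i) (h : derOf hsq i hiq hip φ = derOf hsq i hiq hip ψ) : φ = ψ := by
  have hp := autHom_p hsq i hiq hip (derOf hsq i hiq hip ψ) (derOf_app hsq i hiq hip ψ)
  apply Subtype.ext
  apply Iso.ext
  rw [hom_eq hsq i hiq hip φ _ h hp, hom_eq hsq i hiq hip ψ _ rfl hp]

theorem derOf_add (φ ψ χ : IAut p i) (h : φ.1 ≪≫ ψ.1 = χ.1) (U : X.Opens) (a : Γ(X, U)) :
    (derOf hsq i hiq hip χ).δ U a = (derOf hsq i hiq hip φ).δ U a + (derOf hsq i hiq hip ψ).δ U a := by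
  let T := dat hsq i hiq hip
  let Dφ := derOf hsq i hiq hip φ
  let Dψ := derOf hsq i hiq hip ψ
  let D : SecDer X :=
    { δ := fun U => Dφ.δ U + Dψ.δ U
      leib := fun U a b => by
        rw [AddMonoidHom.add_apply, AddMonoidHom.add_apply, AddMonoidHom.add_apply, Dφ.leib, Dψ.leib]
        ring
      nat := fun h a => by
        rw [AddMonoidHom.add_apply, AddMonoidHom.add_apply, map_add, Dφ.nat, Dψ.nat] }
  have h1 : autHom T Dφ ≫ autHom T Dψ = autHom T D := autHom_comp T Dφ Dψ D fun U a => rfl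
  have h2 : φ.1.hom = autHom T Dφ := hom_eq hsq i hiq hip φ _ rfl
    (autHom_p hsq i hiq hip _ (derOf_app hsq i hiq hip φ))
  have h3 : ψ.1.hom = autHom T Dψ := hom_eq hsq i hiq hip ψ _ rfl
    (autHom_p hsq i hiq hip _ (derOf_app hsq i hiq hip ψ))
  have h4 : χ.1.hom ≫ q = autHom T D ≫ T.q := by
    rw [← h, Iso.trans_hom, h2, h3, h1]
    rfl
  have h5 : derOf hsq i hiq hip χ = D := by
    rw [← ofLift_autHom T D]
    unfold derOf
    congr 1
  rw [h5]
  rfl

end

/-- Let k be a field and X₀ a locally Noetherian k-scheme, and let X_ε be the trivial first-order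
deformation X₀ ×_k Spec k[ε], presented by a cartesian square with projections q : X_ε → X₀ and p :
X_ε → Spec k[ε], together with the closed immersion i : X₀ → X_ε over ε = 0 which is a section of q.
Then the infinitesimal automorphisms of X₀ — automorphisms of X_ε over Spec k[ε] that restrict to
the identity of X₀ along i — form a group isomorphic to the additive group of derivations
Der_k(O_{X₀}, O_{X₀}) = Hom_{O_{X₀}}(Ω_{X₀/k}, O_{X₀}): there is a bijection taking composition to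
addition. -/
theorem result (k : Type u) [Field k]
    (X₀ : Scheme.{u}) [IsLocallyNoetherian X₀] (x : X₀ ⟶ Spec (CommRingCat.of k))
    (Xε : Scheme.{u}) (q : Xε ⟶ X₀) (p : Xε ⟶ Spec (CommRingCat.of (DualNumber k)))
    (hsq : IsPullback q p x (Spec.map (CommRingCat.ofHom (algebraMap k (DualNumber k)))))
    (i : X₀ ⟶ Xε) (hiq : i ≫ q = 𝟙 X₀)
    (hip : i ≫ p = x ≫ Spec.map (CommRingCat.ofHom (TrivSqZeroExt.fstHom k k k).toRingHom)) :
    ∃ e : {φ : Xε ≅ Xε // φ.hom ≫ p = p ∧ i ≫ φ.hom = i} ≃ (Omega.sheaf x ⟶ Coh.structureModule X₀),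
      ∀ φ ψ χ : {φ : Xε ≅ Xε // φ.hom ≫ p = p ∧ i ≫ φ.hom = i},
        φ.1 ≪≫ ψ.1 = χ.1 → e χ = e φ + e ψ := by
  have hqs : QuasiSeparated x := inferInstance
  have hu := Groth.Agent.S5005.result x
  let T := dat hsq i hiq hip
  let Dr : IAut p i → OmegaSh.Der x (Coh.structureModule X₀) := fun φ =>
    toDer x (derOf hsq i hiq hip φ) (derOf_app hsq i hiq hip φ)
  let F : IAut p i → (Omega.sheaf x ⟶ Coh.structureModule X₀) := fun φ => (hu _ (Dr φ)).choose
  have hF : ∀ φ, (OmegaSh.dOmega x).postcomp (F φ).val = Dr φ := fun φ => (hu _ (Dr φ)).choose_spec.1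
  have hFu : ∀ φ (α : Omega.sheaf x ⟶ Coh.structureModule X₀), (OmegaSh.dOmega x).postcomp α.val = Dr φ → α = F φ :=
    fun φ α h => (hu _ (Dr φ)).choose_spec.2 α h
  have hinj : Function.Injective F := by
    intro φ ψ h
    apply derOf_injective hsq i hiq hip
    have h1 : Dr φ = Dr ψ := by rw [← hF, ← hF, h]
    ext U a
    have h2 := congrArg (fun D : OmegaSh.Der x (Coh.structureModule X₀) => D.app U a) h1
    exact h2
  have hsurj : Function.Surjective F := by
    intro α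
    let D : SecDer X₀ := ofDer x ((OmegaSh.dOmega x).postcomp α.val)
    have hD := ofDer_app x ((OmegaSh.dOmega x).postcomp α.val)
    let φ : IAut p i := ⟨autIso T D, autHom_p hsq i hiq hip D hD, i_autHom T D⟩
    refine ⟨φ, (hFu φ α ?_).symm⟩
    have h1 : derOf hsq i hiq hip φ = D := ofLift_autHom T D
    have h2 : ∀ (D' : SecDer X₀) (h), D' = D → toDer x D' h = toDer x D hD := by
      rintro D' h rfl
      rfl
    exact (h2 _ _ h1).symm
  refine ⟨Equiv.ofBijective F ⟨hinj, hsurj⟩, fun φ ψ χ h => ?_⟩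
  change F χ = F φ + F ψ
  symm
  apply hFu
  have hval : ∀ (α β : Omega.sheaf x ⟶ Coh.structureModule X₀) (U : X₀.Opens) (a : Γ(X₀, U)),
      OmegaSh.Der.app ((OmegaSh.dOmega x).postcomp (α + β).val) U a =
      OmegaSh.Der.app ((OmegaSh.dOmega x).postcomp α.val) U a +
        OmegaSh.Der.app ((OmegaSh.dOmega x).postcomp β.val) U a := fun _ _ _ _ => rfl
  have hext : ∀ D D' : OmegaSh.Der x (Coh.structureModule X₀), (∀ U a, D.app U a = D'.app U a) → D = D' := by
    intro D D' h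
    ext U a
    exact h U.unop a
  apply hext
  intro U a
  rw [hval, hF, hF]
  exact (congrArg (OmegaSh.strSect X₀ U) (derOf_add hsq i hiq hip φ ψ χ h U a)).symm

end Groth.Agent.S13975
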