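import Groth.Statements.S13976
import Groth.Agent.Deform.K682.ModLift
import Groth.Agent.ArtFun.K723.QuotArt

set_option autoImplicit false
universe u
open CategoryTheory CategoryTheory.Limits AlgebraicGeometry
open Deform

namespace Groth.Agent.S13976

open ArtFun ArtFun.Art

theorem subsingleton_ext_congr {D : Type*} [Category* D] [Abelian D] [HasExt.{u} D] {A B : D} (e : A ≅ B) (n : ℕ)
    (h : Subsingleton (Abelian.Ext.{u} A A n)) : Subsingleton (Abelian.Ext.{u} B B n) := by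
  refine subsingleton_of_forall_eq 0 fun x => ?_
  have h1 : (Abelian.Ext.mk₀ e.hom).comp (x.comp (Abelian.Ext.mk₀ e.inv) (add_zero n)) (zero_add n) = 0 :=
    Subsingleton.elim _ _
  have h2 : (Abelian.Ext.mk₀ e.inv).comp ((Abelian.Ext.mk₀ e.hom).comp
      (x.comp (Abelian.Ext.mk₀ e.inv) (add_zero n)) (zero_add n)) (zero_add n) = 0 := by
    rw [h1, Abelian.Ext.comp_zero]
  rw [Abelian.Ext.mk₀_comp_mk₀_assoc, e.inv_hom_id, Abelian.Ext.mk₀_id_comp] at h2
  have h3 : (x.comp (Abelian.Ext.mk₀ e.inv) (add_zero n)).comp (Abelian.Ext.mk₀ e.hom) (add_zero n) = 0 := by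
    rw [h2, Abelian.Ext.zero_comp]
  rw [Abelian.Ext.comp_assoc_of_third_deg_zero, Abelian.Ext.mk₀_comp_mk₀, e.inv_hom_id,
    Abelian.Ext.comp_mk₀_id] at h3
  exact h3

theorem isFlatOver_pull {X S X' S' : Scheme.{u}} {f : X ⟶ S} {f' : X' ⟶ S'} {g' : X' ⟶ X} {g : S' ⟶ S}
    (hc : IsPullback g' f' f g) (F : X.Modules) (hF : Coh.IsQCoh F) (h : FlatMod.IsFlatOver f F) :
    FlatMod.IsFlatOver f' ((Scheme.Modules.pullback g').obj F) :=
  fun x' => Groth.Agent.S1391.result f f' g' g hc F hF x' (h _)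

theorem isQCoh_pull {X Y : Scheme.{u}} (f : X ⟶ Y) {M : Y.Modules} (hM : Coh.IsQCoh M) :
    Coh.IsQCoh ((Scheme.Modules.pullback f).obj M) := by
  have : M.IsQuasicoherent := hM
  exact Groth.Agent.CohqA.PullbackQCoh.isQuasicoherent_pullback f M

theorem isPullback_congr {P X Y Z : Scheme.{u}} {f : P ⟶ X} {g : P ⟶ Y} {h : X ⟶ Z} {i i' : Y ⟶ Z}
    (hp : IsPullback f g h i) (e : i = i') : IsPullback f g h i' := e ▸ hp

section

variable {k : Type u} [Field k] {X : Scheme.{u}} (x : X ⟶ Spec (CommRingCat.of k)) (E₀ : X.Modules)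

/-- The lifting property along a morphism of `Art k k`. -/
def P ⦃C C' : ArtFun.Art k k⦄ (π : C' ⟶ C) : Prop :=
  ∀ (XC : Scheme.{u}) (q : XC ⟶ X) (pC : XC ⟶ ArtFun.Art.spec C)
    (_ : IsPullback q pC x (ArtFun.Art.specMap (ArtFun.Art.ofBase C)))
    (XC' : Scheme.{u}) (q' : XC' ⟶ X) (pC' : XC' ⟶ ArtFun.Art.spec C')
    (_ : IsPullback q' pC' x (ArtFun.Art.specMap (ArtFun.Art.ofBase C')))
    (g : XC ⟶ XC') (_ : g ≫ q' = q) (_ : g ≫ pC' = pC ≫ ArtFun.Art.specMap π)
    (j : X ⟶ XC) (_ : j ≫ q = 𝟙 X) (_ : j ≫ pC = x ≫ ArtFun.Art.specRes C)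
    (E : XC.Modules) (_ : Coh.IsQCoh E) (_ : FlatMod.IsFlatOver pC E)
    (_ : Nonempty ((Scheme.Modules.pullback j).obj E ≅ E₀)),
    ∃ E' : XC'.Modules, Coh.IsQCoh E' ∧ FlatMod.IsFlatOver pC' E' ∧
      Nonempty ((Scheme.Modules.pullback g).obj E' ≅ E)

variable {x} in
theorem isPullback_g {C' C : ArtFun.Art k k} {π : C' ⟶ C} {XC : Scheme.{u}} {q : XC ⟶ X}
    {pC : XC ⟶ ArtFun.Art.spec C} (hC : IsPullback q pC x (ArtFun.Art.specMap (ArtFun.Art.ofBase C)))
    {XC' : Scheme.{u}} {q' : XC' ⟶ X} {pC' : XC' ⟶ ArtFun.Art.spec C'}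
    (hC' : IsPullback q' pC' x (ArtFun.Art.specMap (ArtFun.Art.ofBase C')))
    {g : XC ⟶ XC'} (hgq : g ≫ q' = q) (hgp : g ≫ pC' = pC ≫ ArtFun.Art.specMap π) :
    IsPullback g pC pC' (ArtFun.Art.specMap π) := by
  refine IsPullback.of_right ?_ hgp hC'
  have h1 : specMap π ≫ specMap (ofBase C') = specMap (ofBase C) := specOver_comp π
  rw [hgq]
  exact isPullback_congr hC h1.symm

variable {x} in
theorem isPullback_j {C : ArtFun.Art k k} {XC : Scheme.{u}} {q : XC ⟶ X}
    {pC : XC ⟶ ArtFun.Art.spec C} (hC : IsPullback q pC x (ArtFun.Art.specMap (ArtFun.Art.ofBase C)))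
    {j : X ⟶ XC} (hjq : j ≫ q = 𝟙 X) (hjp : j ≫ pC = x ≫ ArtFun.Art.specRes C) :
    IsPullback j x pC (ArtFun.Art.specRes C) := by
  refine IsPullback.of_right ?_ hjp hC
  rw [hjq]
  have h1 : specRes C ≫ specMap (ofBase C) = 𝟙 (Spec (CommRingCat.of k)) := (specRes_comp (ofBase C)).trans (by
    change Spec.map (CommRingCat.ofHom (RingHom.id k)) = _
    rw [CommRingCat.ofHom_id, Spec.map_id])
  have h2 : IsPullback (𝟙 X) x x (𝟙 (Spec (CommRingCat.of k))) :=
    IsPullback.of_horiz_isIso ⟨by rw [Category.id_comp, Category.comp_id]⟩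
  exact isPullback_congr h2 h1.symm

theorem P_iso ⦃A B : ArtFun.Art k k⦄ (e : B ⟶ A) (he : IsIso e) : P x E₀ e := by
  intro XC q pC hC XC' q' pC' hC' g hgq hgp j hjq hjp E hE hEfl hE0
  have hg : IsPullback g pC pC' (specMap e) := isPullback_g hC hC' hgq hgp
  have he1 : IsIso (specMap e) := by
    refine ⟨specMap (inv e), ?_, ?_⟩
    · rw [← specMap_comp, IsIso.inv_hom_id, specMap_id]
    · rw [← specMap_comp, IsIso.hom_inv_id, specMap_id]
  have hgi : IsIso g := MorphismProperty.of_isPullback (P := MorphismProperty.isomorphisms Scheme.{u}) hg.flip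
    ((MorphismProperty.isomorphisms.iff _).2 he1)
  have hsq : IsPullback (inv g) pC' pC (inv (specMap e)) := IsPullback.of_horiz_isIso ⟨by
    rw [IsIso.inv_comp_eq, ← Category.assoc, hgp, Category.assoc, IsIso.hom_inv_id, Category.comp_id]⟩
  refine ⟨(Scheme.Modules.pullback (inv g)).obj E, isQCoh_pull _ hE, isFlatOver_pull hsq E hE hEfl,
    ⟨(Scheme.Modules.pullbackComp g (inv g)).app E ≪≫ (Scheme.Modules.pullbackCongr (IsIso.hom_inv_id g)).app E ≪≫
      (Scheme.Modules.pullbackId XC).app E⟩⟩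

theorem P_small [HasExt.{u} X.Modules] (hExt : Subsingleton (Abelian.Ext.{u} E₀ E₀ 2)) ⦃C C' : ArtFun.Art k k⦄
    (π : C' ⟶ C) (hπ : IsSmallExt π) : P x E₀ π := by
  intro XC q pC hC XC' q' pC' hC' g hgq hgp j hjq hjp E hE hEfl hE0
  obtain ⟨t, ht, hm⟩ := K723.QuotArt.exists_data π hπ
  have hg : IsPullback g pC pC' (specMap π) := isPullback_g hC hC' hgq hgp
  have hi : IsPullback (j ≫ g) x pC' (specRes C') := by
    refine isPullback_j hC' ?_ ?_
    · rw [Category.assoc, hgq, hjq]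
    · rw [Category.assoc, hgp, ← Category.assoc, hjp, Category.assoc, specRes_comp]
  have hsurj : Function.Surjective π.toAlgHom.toRingHom := hπ.1
  have hgc : IsClosedImmersion g := K723.QuotFib.isClosedImmersion_of_isPullback hg hsurj
  have hres : ∀ b : C', C'.res.toRingHom b = C.res.toRingHom (π.toAlgHom.toRingHom b) := fun b =>
    (res_app π b).symm
  have hker : RingHom.ker C'.res.toRingHom = IsLocalRing.maximalIdeal C' := by
    ext b
    exact (mem_maximalIdeal_iff C' b).symm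
  have : (RingHom.ker C'.res.toRingHom).IsMaximal := by
    rw [hker]
    infer_instance
  have hnil : IsNilpotent (RingHom.ker C'.res.toRingHom) := by
    rw [hker, ← IsLocalRing.jacobson_eq_maximalIdeal ⊥ bot_ne_top]
    exact IsArtinianRing.isNilpotent_jacobson_bot
  have htp : π.toAlgHom.toRingHom t = 0 := by
    have h1 : t ∈ RingHom.ker π.toAlgHom.toRingHom := by
      rw [ht]
      exact Ideal.mem_span_singleton_self t
    exact (RingHom.mem_ker).1 h1
  have htm : C'.res.toRingHom t = 0 := by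
    rw [hres, htp, map_zero]
  have hm' : ∀ b : C', b * t = 0 ↔ C'.res.toRingHom b = 0 := fun b => by
    rw [hm b, hres]
    exact Iff.rfl
  have hq' : IsAffineHom q' := MorphismProperty.of_isPullback (P := @IsAffineHom) hC'.flip inferInstance
  have hρ : (j ≫ g) ≫ q' = 𝟙 X := by rw [Category.assoc, hgq, hjq]
  have hcou := Groth.Agent.Krr.H466.ClosedLF.isIso_counit g
  obtain ⟨e0⟩ := hE0
  let e1 : (Scheme.Modules.pullback (j ≫ g)).obj ((Scheme.Modules.pushforward g).obj E) ≅ E₀ :=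
    (Scheme.Modules.pullbackComp j g).symm.app _ ≪≫
      (Scheme.Modules.pullback j).mapIso (asIso ((Scheme.Modules.pullbackPushforwardAdjunction g).counit.app E)) ≪≫ e0
  exact K682.ModLift.exists_lift_module (ρ := q') (i := j ≫ g) (a := g) hρ hg hi hsurj C'.res_surjective hnil ht htm hm'
    (fun M hM => isFlatOver_pull hC' M hM (K723.QuotArt.flat_over_field x M)) hE hEfl
    (subsingleton_ext_congr e1.symm 2 hExt)

theorem P_comp ⦃A B C : ArtFun.Art k k⦄ (p : C ⟶ B) (p' : B ⟶ A) (hp : P x E₀ p) (hp' : P x E₀ p') :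
    P x E₀ (p ≫ p') := by
  intro XC q pC hC XC' q' pC' hC' g hgq hgp j hjq hjp E hE hEfl hE0
  have hB : IsPullback (pullback.fst x (specMap (ofBase B))) (pullback.snd x (specMap (ofBase B))) x
    (specMap (ofBase B)) := IsPullback.of_hasPullback _ _
  have o1 : specMap p' ≫ specMap (ofBase B) = specMap (ofBase A) := specOver_comp p'
  have o2 : specMap p ≫ specMap (ofBase C) = specMap (ofBase B) := specOver_comp p
  have w1 : q ≫ x = (pC ≫ specMap p') ≫ specMap (ofBase B) := by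
    rw [Category.assoc, o1, hC.w]
    rfl
  have w2 : pullback.fst x (specMap (ofBase B)) ≫ x = (pullback.snd x (specMap (ofBase B)) ≫ specMap p) ≫
      specMap (ofBase C) := by
    rw [Category.assoc, o2, hB.w]
    rfl
  let g1 : XC ⟶ pullback x (specMap (ofBase B)) := hB.lift q (pC ≫ specMap p') w1
  let g2 : pullback x (specMap (ofBase B)) ⟶ XC' := hC'.lift _ _ w2
  have h11 : g1 ≫ pullback.fst x (specMap (ofBase B)) = q := hB.lift_fst _ _ _
  have h12 : g1 ≫ pullback.snd x (specMap (ofBase B)) = pC ≫ specMap p' := hB.lift_snd _ _ _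
  have h21 : g2 ≫ q' = pullback.fst x (specMap (ofBase B)) := hC'.lift_fst _ _ _
  have h22 : g2 ≫ pC' = pullback.snd x (specMap (ofBase B)) ≫ specMap p := hC'.lift_snd _ _ _
  have hgg : g1 ≫ g2 = g := by
    apply hC'.hom_ext
    · rw [Category.assoc, h21, h11, hgq]
    · rw [Category.assoc, h22, ← Category.assoc, h12, hgp, Category.assoc, specMap_comp]
  obtain ⟨EB, hEB, hEBfl, ⟨eB⟩⟩ := hp' XC q pC hC _ _ _ hB g1 h11 h12 j hjq hjp E hE hEfl hE0
  obtain ⟨e0⟩ := hE0
  obtain ⟨EC, hEC, hECfl, ⟨eC⟩⟩ := hp _ _ _ hB XC' q' pC' hC' g2 h21 h22 (j ≫ g1)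
    (by rw [Category.assoc, h11, hjq])
    (by rw [Category.assoc, h12, ← Category.assoc, hjp, Category.assoc, specRes_comp]) EB hEB hEBfl
    ⟨(Scheme.Modules.pullbackComp j g1).symm.app EB ≪≫ (Scheme.Modules.pullback j).mapIso eB ≪≫ e0⟩
  exact ⟨EC, hEC, hECfl, ⟨(Scheme.Modules.pullbackCongr hgg).symm.app EC ≪≫
    (Scheme.Modules.pullbackComp g1 g2).symm.app EC ≪≫ (Scheme.Modules.pullback g1).mapIso eC ≪≫ eB⟩⟩

end

/-- Let k be a field, X a locally Noetherian k-scheme and E₀ a quasi-coherent O_X-module with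
Ext²_{O_X}(E₀, E₀) = 0 (Ext in the category of O_X-modules). Let C' → C be a surjection of local
Artinian k-algebras with residue field k whose kernel is annihilated by the maximal ideal, X_C = X
×_k Spec C and X_{C'} = X ×_k Spec C' the trivial deformations (cartesian squares with projections
q, q'), g : X_C → X_{C'} the morphism induced by C' → C, and j : X → X_C the inclusion of the closed
fibre. Then every quasi-coherent O_{X_C}-module E flat over Spec C with j^*E ≅ E₀ lifts: there is a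
quasi-coherent O_{X_{C'}}-module E', flat over Spec C', with g^*E' ≅ E. (The published statement
gives an obstruction theory for deformations of E₀ with obstruction space Ext²(E₀, E₀); this row
states the lifting it yields when that space is zero.) -/
theorem result {k : Type u} [Field k]
    (X : Scheme.{u}) [IsLocallyNoetherian X] (x : X ⟶ Spec (CommRingCat.of k)) [HasExt.{u} X.Modules]
    (E₀ : X.Modules) (hE₀ : Coh.IsQCoh E₀) (hExt : Subsingleton (Abelian.Ext.{u} E₀ E₀ 2))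
    {C' C : ArtFun.Art k k} (π : C' ⟶ C) (hπ : ArtFun.Art.IsSemismallExt π)
    (XC : Scheme.{u}) (q : XC ⟶ X) (pC : XC ⟶ ArtFun.Art.spec C)
    (hC : IsPullback q pC x (ArtFun.Art.specMap (ArtFun.Art.ofBase C)))
    (XC' : Scheme.{u}) (q' : XC' ⟶ X) (pC' : XC' ⟶ ArtFun.Art.spec C')
    (hC' : IsPullback q' pC' x (ArtFun.Art.specMap (ArtFun.Art.ofBase C')))
    (g : XC ⟶ XC') (hgq : g ≫ q' = q) (hgp : g ≫ pC' = pC ≫ ArtFun.Art.specMap π)
    (j : X ⟶ XC) (hjq : j ≫ q = 𝟙 X) (hjp : j ≫ pC = x ≫ ArtFun.Art.specRes C)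
    (E : XC.Modules) (hE : Coh.IsQCoh E) (hEfl : FlatMod.IsFlatOver pC E)
    (hE0 : Nonempty ((Scheme.Modules.pullback j).obj E ≅ E₀)) :
    ∃ E' : XC'.Modules, Coh.IsQCoh E' ∧ FlatMod.IsFlatOver pC' E' ∧
      Nonempty ((Scheme.Modules.pullback g).obj E' ≅ E) := by
  exact K723.SmallExt.surjective_induction (P := P x E₀) (P_iso x E₀) (P_small x E₀ hExt) (P_comp x E₀) π hπ.1
    XC q pC hC XC' q' pC' hC' g hgq hgp j hjq hjp E hE hEfl hE0

end Groth.Agent.S13976
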