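import Groth.Statements.S13977
import Groth.Agent.ASBun.K792.HomBC
import Groth.Agent.Deform.K682.DualDat

set_option autoImplicit false
universe u
open CategoryTheory CategoryTheory.Limits AlgebraicGeometry
open Deform

namespace Groth.Agent.S13977

open K792.HomBC K792.SecBC

attribute [local instance] Groth.Agent.CurvesC.LinMod.linearModules

section

variable {k : Type u} [Field k] {X Y : Scheme.{u}} {x : X ⟶ Spec (CommRingCat.of k)} {q : Y ⟶ X}
  {p : Y ⟶ Spec (CommRingCat.of (DualNumber k))}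
  (hsq : IsPullback q p x (Spec.map (CommRingCat.ofHom (algebraMap k (DualNumber k)))))

/-- The pullback functor along `i` is faithful on pullbacks along `q`. -/
theorem pull_i_q {i : X ⟶ Y} (hiq : i ≫ q = 𝟙 X) {E F : X.Modules} (f g : E ⟶ F)
    (h : (Scheme.Modules.pullback i).map ((Scheme.Modules.pullback q).map f) =
      (Scheme.Modules.pullback i).map ((Scheme.Modules.pullback q).map g)) : f = g := by
  let α : Scheme.Modules.pullback q ⋙ Scheme.Modules.pullback i ≅ 𝟭 _ :=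
    Scheme.Modules.pullbackComp i q ≪≫ Scheme.Modules.pullbackCongr hiq ≪≫ Scheme.Modules.pullbackId X
  have hf := α.hom.naturality f
  have hg := α.hom.naturality g
  have h' : (Scheme.Modules.pullback q ⋙ Scheme.Modules.pullback i).map f =
    (Scheme.Modules.pullback q ⋙ Scheme.Modules.pullback i).map g := h
  rw [h', hg] at hf
  have := (cancel_epi (α.hom.app E)).mp hf
  exact this.symm

end

/-- Let k be a field, X₀ a locally Noetherian k-scheme and E₀ a quasi-coherent O_{X₀}-module. Let X_ε =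
X₀ ×_k Spec k[ε] be the trivial first-order deformation, presented by a cartesian square with
projections q : X_ε → X₀ and p : X_ε → Spec k[ε], with the closed immersion i : X₀ → X_ε over ε = 0,
a section of q, and let E_ε = q^*E₀ be the trivial lifting of E₀. Then the infinitesimal
automorphisms of E₀ — the O_{X_ε}-linear automorphisms of E_ε whose pullback along i is the identity
— form a group isomorphic to the additive group Hom_{O_{X₀}}(E₀, E₀): there is a bijection taking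
composition to addition. -/
theorem result (k : Type u) [Field k]
    (X₀ : Scheme.{u}) [IsLocallyNoetherian X₀] (x : X₀ ⟶ Spec (CommRingCat.of k))
    (E₀ : X₀.Modules) (hE₀ : Coh.IsQCoh E₀)
    (Xε : Scheme.{u}) (q : Xε ⟶ X₀) (p : Xε ⟶ Spec (CommRingCat.of (DualNumber k)))
    (hsq : IsPullback q p x (Spec.map (CommRingCat.ofHom (algebraMap k (DualNumber k)))))
    (i : X₀ ⟶ Xε) (hiq : i ≫ q = 𝟙 X₀)
    (hip : i ≫ p = x ≫ Spec.map (CommRingCat.ofHom (TrivSqZeroExt.fstHom k k k).toRingHom)) :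
    ∃ e : {φ : (Scheme.Modules.pullback q).obj E₀ ≅ (Scheme.Modules.pullback q).obj E₀ //
            (Scheme.Modules.pullback i).map φ.hom = 𝟙 _} ≃ (E₀ ⟶ E₀),
      ∀ φ ψ χ : {φ : (Scheme.Modules.pullback q).obj E₀ ≅ (Scheme.Modules.pullback q).obj E₀ //
            (Scheme.Modules.pullback i).map φ.hom = 𝟙 _},
        φ.1 ≪≫ ψ.1 = χ.1 → e χ = e φ + e ψ := by
  let _ : X₀.Over (Spec (CommRingCat.of k)) := ⟨x⟩
  let _ : Xε.Over (Spec (CommRingCat.of (DualNumber k))) := ⟨p⟩
  have sq : IsPullback q (Xε ↘ Spec (CommRingCat.of (DualNumber k))) (X₀ ↘ Spec (CommRingCat.of k))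
    (Spec.map (CommRingCat.ofHom (algebraMap k (DualNumber k)))) := hsq
  let _ : Algebra (DualNumber k) k := (TrivSqZeroExt.fstHom k k k).toRingHom.toAlgebra
  have sqi : IsPullback i (X₀ ↘ Spec (CommRingCat.of k)) (Xε ↘ Spec (CommRingCat.of (DualNumber k)))
    (Spec.map (CommRingCat.ofHom (algebraMap (DualNumber k) k))) := K682.DualDat.isPullback_i hsq i hiq hip
  let b := K682.DualDat.basis k
  let Q := Scheme.Modules.pullback q
  let εs : DualNumber k := DualNumber.eps
  have hεs : εs * εs = 0 := DualNumber.eps_mul_eps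
  -- pullback along i kills eps
  have hi0 : ∀ f : Q.obj E₀ ⟶ Q.obj E₀, (Scheme.Modules.pullback i).map (εs • f) = 0 := by
    intro f
    rw [map_smul i sqi εs f]
    have h0 : algebraMap (DualNumber k) k εs = 0 := rfl
    rw [h0, zero_smul]
  -- decomposition
  have hdec : ∀ f : Q.obj E₀ ⟶ Q.obj E₀, ∃ f₀ f₁ : E₀ ⟶ E₀, f = Q.map f₀ + εs • Q.map f₁ := by
    intro f
    obtain ⟨f₀, hf₀⟩ := exists_coord q sq b E₀ E₀ hE₀ f 0
    obtain ⟨f₁, hf₁⟩ := exists_coord q sq b E₀ E₀ hE₀ f 1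
    refine ⟨f₀, f₁, ?_⟩
    apply pull_hom_ext
    intro U hU s
    rw [add_app, smul_app, map_ps, map_ps, ← sub_eq_zero]
    apply eq_zero_of_cU q sq b E₀ hE₀ hU
    intro j
    have h0 : ps q E₀ U (f₀.app U s) = sc (DualNumber k) Xε (q ⁻¹ᵁ U) (b 0) • ps q E₀ U (f₀.app U s) := by
      rw [K682.DualDat.basis_zero, map_one, one_smul]
    have h1 : sc (DualNumber k) Xε (q ⁻¹ᵁ U) εs = sc (DualNumber k) Xε (q ⁻¹ᵁ U) (b 1) := by
      rw [K682.DualDat.basis_one]
    rw [h0, h1, map_sub, map_add, cU_smul_ps, cU_smul_ps]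
    fin_cases j
    · simp [hf₀ U hU]
    · simp [hf₁ U hU]
  have huniq : ∀ f₁ g₁ : E₀ ⟶ E₀, εs • Q.map f₁ = εs • Q.map g₁ → f₁ = g₁ := by
    intro f₁ g₁ h
    refine CohqA.BasisHom.hom_ext_of_basis (fun U : X₀.affineOpens => (U : X₀.Opens)) ?_ ?_
    · rw [Subtype.range_coe_subtype]
      exact X₀.isBasis_affineOpens
    intro U s
    have h2 := congrArg (fun φ => φ.app (q ⁻¹ᵁ U.1) (ps q E₀ U.1 s)) h
    have h3 : sc (DualNumber k) Xε (q ⁻¹ᵁ U.1) εs • ps q E₀ U.1 (f₁.app U.1 s) =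
        sc (DualNumber k) Xε (q ⁻¹ᵁ U.1) εs • ps q E₀ U.1 (g₁.app U.1 s) := by
      rw [← map_ps, ← map_ps, ← smul_app, ← smul_app]
      exact h2
    have h1 : sc (DualNumber k) Xε (q ⁻¹ᵁ U.1) εs = sc (DualNumber k) Xε (q ⁻¹ᵁ U.1) (b 1) := by
      rw [K682.DualDat.basis_one]
    rw [h1] at h3
    have h4 := congrArg (cU q sq b E₀ hE₀ U.2 1) h3
    rw [cU_smul_ps, cU_smul_ps, if_pos rfl, if_pos rfl] at h4
    exact h4
  -- the automorphism 1 + ε β
  have hcomp : ∀ β γ : E₀ ⟶ E₀, (𝟙 (Q.obj E₀) + εs • Q.map β) ≫ (𝟙 (Q.obj E₀) + εs • Q.map γ) =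
      𝟙 (Q.obj E₀) + εs • Q.map (β + γ) := by
    intro β γ
    have h0 : (εs • Q.map β) ≫ (εs • Q.map γ) = 0 := by
      have hz : ∀ f : Q.obj E₀ ⟶ Q.obj E₀, (0 : DualNumber k) • f = 0 := fun f => by
        have h5 := add_smul (0 : DualNumber k) 0 f
        rw [add_zero] at h5
        exact left_eq_add.mp h5
      rw [Linear.smul_comp, Linear.comp_smul, smul_smul, hεs]
      exact hz _
    rw [Preadditive.add_comp, Preadditive.comp_add, Preadditive.comp_add, h0, Category.id_comp, Category.id_comp,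
      Category.comp_id, add_zero, Functor.map_add, smul_add]
    abel
  have hone : 𝟙 (Q.obj E₀) + εs • Q.map (0 : E₀ ⟶ E₀) = 𝟙 _ := by
    rw [Functor.map_zero, smul_zero, add_zero]
  let A : (E₀ ⟶ E₀) → {φ : Q.obj E₀ ≅ Q.obj E₀ // (Scheme.Modules.pullback i).map φ.hom = 𝟙 _} := fun β =>
    ⟨{ hom := 𝟙 _ + εs • Q.map β
       inv := 𝟙 _ + εs • Q.map (-β)
       hom_inv_id := by rw [hcomp, add_neg_cancel, hone]
       inv_hom_id := by rw [hcomp, neg_add_cancel, hone] }, by
      change (Scheme.Modules.pullback i).map (𝟙 _ + εs • Q.map β) = 𝟙 _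
      rw [Functor.map_add, hi0, add_zero, CategoryTheory.Functor.map_id]⟩
  have hA : ∀ β, (A β).1.hom = 𝟙 _ + εs • Q.map β := fun β => rfl
  have hinj : Function.Injective A := by
    intro β γ h
    apply huniq
    have h1 : (A β).1.hom = (A γ).1.hom := by rw [h]
    rw [hA, hA] at h1
    exact add_left_cancel h1
  have hsurj : Function.Surjective A := by
    rintro ⟨φ, hφ⟩
    obtain ⟨f₀, f₁, hf⟩ := hdec φ.hom
    have h0 : f₀ = 𝟙 E₀ := by
      apply pull_i_q hiq
      have h1 := hφ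
      rw [hf, Functor.map_add, hi0, add_zero] at h1
      rw [h1, CategoryTheory.Functor.map_id, CategoryTheory.Functor.map_id]
    refine ⟨f₁, ?_⟩
    apply Subtype.ext
    apply Iso.ext
    rw [hA, hf, h0, CategoryTheory.Functor.map_id]
  refine ⟨(Equiv.ofBijective A ⟨hinj, hsurj⟩).symm, fun φ ψ χ h => ?_⟩
  apply (Equiv.ofBijective A ⟨hinj, hsurj⟩).injective
  rw [Equiv.apply_symm_apply]
  obtain ⟨β, rfl⟩ := hsurj φ
  obtain ⟨γ, rfl⟩ := hsurj ψ
  have h1 : (Equiv.ofBijective A ⟨hinj, hsurj⟩).symm (A β) = β := (Equiv.ofBijective A ⟨hinj, hsurj⟩).symm_apply_apply β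
  have h2 : (Equiv.ofBijective A ⟨hinj, hsurj⟩).symm (A γ) = γ := (Equiv.ofBijective A ⟨hinj, hsurj⟩).symm_apply_apply γ
  rw [h1, h2]
  change χ = A (β + γ)
  apply Subtype.ext
  apply Iso.ext
  rw [← h, Iso.trans_hom, hA, hA, hA, hcomp]

end Groth.Agent.S13977
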