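import Groth.Statements.S13982
import Groth.Agent.CAlg.K67.NodeMain

set_option autoImplicit false
universe u
open CategoryTheory CategoryTheory.Limits AlgebraicGeometry
open Curves

namespace Groth.Agent.S13982

/-- The implication its proof establishes. Let Λ be a complete Noetherian local ring of Krull dimension
1 and u ∈ Λ an element whose radical ideal is the maximal ideal (a system of parameters). Let f : X
→ Spec Λ be proper and flat with X locally Noetherian, and let P be a finite set of points of X over
the closed point of Spec Λ such that: (a) at every point of the closed fibre outside P the morphism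
f is smooth of relative dimension 1 on an open neighbourhood (the closed fibre is a curve, smooth
away from P), and (b) for every p ∈ P the completion of the local ring O_{X,p} is isomorphic,
compatibly with the maps from Λ, to Λ[[x, y]]/(xy − u) (p is a node of the closed fibre deformed by
the parameter u). Then f is smooth of relative dimension 1 on an open neighbourhood of every point
of X that does not lie over the closed point. (The published statement asserts that a flat
projective family over Λ with a prescribed projective nodal closed fibre exists and that it is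
smooth over the punctured spectrum away from the closed fibre; this row states the smoothness
implication for a given proper flat family, with smoothness of the closed fibre away from P put on
f, which for flat f is equivalent to smoothness of the fibre there.) -/
theorem result
    (Λ : Type u) [CommRing Λ] [IsLocalRing Λ] [IsNoetherianRing Λ]
    [IsAdicComplete (IsLocalRing.maximalIdeal Λ) Λ] (hdim : ringKrullDim Λ = 1)
    (u : Λ) (hu : (Ideal.span {u}).radical = IsLocalRing.maximalIdeal Λ)
    (X : Scheme.{u}) [IsLocallyNoetherian X] (f : X ⟶ Spec (CommRingCat.of Λ)) [IsProper f] [Flat f]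
    (P : Finset X) (hP : ∀ p ∈ P, f.base p = IsLocalRing.closedPoint Λ)
    (hsm : ∀ q : X, f.base q = IsLocalRing.closedPoint Λ → q ∉ P →
      ∃ U : X.Opens, q ∈ U ∧ SmoothOfRelativeDimension 1 (U.ι ≫ f))
    (hnode : ∀ p ∈ P, ∃ e : AdicCompletion (IsLocalRing.maximalIdeal (X.presheaf.stalk p)) (X.presheaf.stalk p) ≃+*
        (MvPowerSeries (Fin 2) Λ ⧸ Ideal.span {MvPowerSeries.X 0 * MvPowerSeries.X 1 - MvPowerSeries.C u}),
      ∀ c : Λ, e (algebraMap (X.presheaf.stalk p) _ (((X.presheaf.germ ⊤ p trivial).hom.comp (Coh.toGlobal f)) c)) =
        Ideal.Quotient.mk _ (MvPowerSeries.C c)) :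
    ∀ q : X, f.base q ≠ IsLocalRing.closedPoint Λ →
      ∃ U : X.Opens, q ∈ U ∧ SmoothOfRelativeDimension 1 (U.ι ≫ f) := by

  intro q hq
  have huq : u ∉ (f q).asIdeal := by
    intro h
    apply hq
    have h1 : IsLocalRing.maximalIdeal Λ ≤ (f q).asIdeal := by
      rw [← hu]
      exact Ideal.IsPrime.radical_le_iff (f q).isPrime |>.mpr ((Ideal.span_singleton_le_iff_mem _).mpr h)
    apply PrimeSpectrum.ext
    exact ((IsLocalRing.maximalIdeal.isMaximal Λ).eq_of_le (f q).isPrime.ne_top h1).symm
  have hum : u ∈ IsLocalRing.maximalIdeal Λ := by
    rw [← hu]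
    exact Ideal.le_radical (Ideal.mem_span_singleton_self u)
  obtain ⟨p, hpq, hp⟩ : ∃ p : X, q ⤳ p ∧ f p = IsLocalRing.closedPoint Λ := by
    have h1 : IsClosed (f '' closure {q}) := f.isClosedMap _ isClosed_closure
    have h2 : f q ⤳ IsLocalRing.closedPoint Λ := IsLocalRing.specializes_closedPoint _
    obtain ⟨p, hp, hp'⟩ := h2.mem_closed h1 ⟨q, subset_closure rfl, rfl⟩
    exact ⟨p, specializes_iff_mem_closure.mpr hp, hp'⟩
  by_cases hpP : p ∈ P
  · obtain ⟨e, he⟩ := hnode p hpP
    exact K67.NodeMain.exists_nbhd_of_node u hum f p hp e he q hpq huq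
  · obtain ⟨U, hU, hU'⟩ := hsm p hp hpP
    exact ⟨U, hpq.mem_open U.2 hU, hU'⟩

end Groth.Agent.S13982
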