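-- Solution for statement S13984.
import Groth.Statements.S13984
import Groth.Agent.LefPen.K725.HypEmb
import Groth.Agent.LefPen.K725.HypExt
import Groth.Agent.ArtFun.K723.LocHilb

set_option autoImplicit false
universe u
open CategoryTheory CategoryTheory.Limits AlgebraicGeometry
open LefPen

namespace Groth.Agent.S13984

/-- Let k be a field and Z₀ = V(F) ⊂ P³_k a smooth surface of degree d ≥ 6 (F a nonzero form). Then Z₀
is unobstructed, although H²(Z₀, T_{Z₀}) ≠ 0: every deformation of Z₀ over a local Artinian
k-algebra A with residue field k lifts along every surjection A' → A, i.e. the deformation functor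
Def_{Z₀} carries surjections to surjections. -/
theorem result (k : Type u) [Field k] (d : ℕ) (hd : 6 ≤ d)
    (F : LefPen.Form 3 k d) (hF : F ≠ 0)
    [Smooth ((LefPen.hypIdeal F).subschemeι ≫ CohB1.ProjSpace.toSpec 3 k)] :
    ArtFun.IsSmoothFunctor (ArtFun.defFunctor (Λ := k) (LefPen.hypIdeal F).subscheme
      ((LefPen.hypIdeal F).subschemeι ≫ CohB1.ProjSpace.toSpec 3 k)) :=
  K725.EmbHilb.isSmoothFunctor
    (fun ξ => K725.HypEmb.exists_localHilb k 3 F (by omega) (by omega) hF (by omega) ξ)
    (fun p hp => K723.LocHilb.surjective_map _ _ (K725.HypExt.splits k 3 F hF) p hp)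

end Groth.Agent.S13984
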