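import Groth.Statements.S13985
-- import your own Groth.Agent.* helpers here

set_option autoImplicit false
universe u
open CategoryTheory
open CohGab

namespace Groth.Agent.S13985

/-- For a ring A, the canonical map from the centre of A to the centre of the category of finitely
generated left A-modules (the endomorphism ring of its identity functor), sending a to
multiplication by a, is bijective: every natural endomorphism of the identity functor acts on each
finitely generated module as multiplication by a unique element of A, and that element is central.
(The published statement calls this map an isomorphism of commutative rings; this row states its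
bijectivity.) -/
theorem result (A : Type u) [Ring A]
    (φ : 𝟭 (FGModuleCat.{u} A) ⟶ 𝟭 (FGModuleCat.{u} A)) :
    ∃! a : A, a ∈ Subring.center A ∧
      ∀ (M : FGModuleCat.{u} A) (x : M), (φ.app M).hom.hom x = a • x := by
  let A₀ : FGModuleCat.{u} A := FGModuleCat.of A A
  let a : A := (φ.app A₀).hom.hom (1 : A)
  have key : ∀ (M : FGModuleCat.{u} A) (x : M), (φ.app M).hom.hom x = a • x := fun M x => by
    let f : A₀ ⟶ M := ObjectProperty.homMk (ModuleCat.ofHom (LinearMap.toSpanSingleton A M x))
    have h1 := φ.naturality f
    have h2 := congrArg (fun g => g.hom.hom (1 : A)) h1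
    have h3 : (φ.app M).hom.hom (LinearMap.toSpanSingleton A M x (1 : A)) =
        LinearMap.toSpanSingleton A M x ((φ.app A₀).hom.hom (1 : A)) := h2
    rw [LinearMap.toSpanSingleton_apply, LinearMap.toSpanSingleton_apply, one_smul] at h3
    exact h3
  refine ⟨a, ⟨?_, key⟩, ?_⟩
  · rw [Subring.mem_center_iff]
    intro b
    have h1 : (φ.app A₀).hom.hom (b • (1 : A)) = b • a := map_smul (φ.app A₀).hom.hom b (1 : A)
    have h2 : (φ.app A₀).hom.hom (b • (1 : A)) = a • (b • (1 : A)) := key A₀ (b • (1 : A))
    rw [h1] at h2
    simpa using h2
  · rintro a' ⟨-, ha'⟩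
    have h1 : (φ.app A₀).hom.hom (1 : A) = a' • (1 : A) := ha' A₀ (1 : A)
    have h2 : a = a' • (1 : A) := h1
    rw [h2, smul_eq_mul, mul_one]

end Groth.Agent.S13985
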