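import Groth.Statements.S13988
import Groth.Agent.FormalA.ExtendHomMain
import Groth.Agent.Fdesc.StructMod
import Groth.Agent.Dcoh.FreeSec

set_option autoImplicit false
universe u
open CategoryTheory AlgebraicGeometry
open CohGab

namespace Groth.Agent.S13988

open TopologicalSpace Opposite in
/-- A section of a coherent module over an open `V` is the image of a section of a coherent ideal. -/
theorem exists_ideal {X : Scheme.{u}} [IsLocallyNoetherian X] (M : X.Modules) (hM : Coh.IsCoh M)
    (U V : X.Opens) (hV : V = U.ι ''ᵁ ⊤) (m : Γ(M, V)) :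
    ∃ (I : X.Modules) (ι : I ⟶ Coh.structureModule X) (φ : I ⟶ M) (e : Γ(I, V)),
      Mono ι ∧ Coh.IsCoh I ∧ ι.app V e = (1 : Γ(X, V)) ∧ φ.app V e = m := by
  subst hV
  let m' : Γ(M.restrict U.ι, ⊤) := m
  obtain ⟨I, ι, φ, hι, hI, hiso, hφ⟩ := Groth.Agent.FormalA.ExtendHomMain.extend_hom X
    (Coh.structureModule X) M (Groth.Agent.Fdesc.StructMod.isCoh_structureModule _) hM U
    ((Scheme.Modules.restrictUnitIso U.ι).hom ≫ Groth.Agent.Dcoh.FreeSec.ofSec _ m')
  have h1 : (inv ((Scheme.Modules.restrictFunctor U.ι).map ι) ≫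
      (Scheme.Modules.restrictFunctor U.ι).map ι) = 𝟙 _ := IsIso.inv_hom_id _
  let e : Γ(I, U.ι ''ᵁ ⊤) := (inv ((Scheme.Modules.restrictFunctor U.ι).map ι)).app ⊤
    (1 : Γ(X, U.ι ''ᵁ ⊤))
  have he : ι.app (U.ι ''ᵁ ⊤) e = (1 : Γ(X, U.ι ''ᵁ ⊤)) :=
    congrArg (fun f => f.app ⊤ (1 : Γ(X, U.ι ''ᵁ ⊤))) h1
  refine ⟨I, ι, φ, e, hι, hI, he, ?_⟩
  have h2 : φ.app (U.ι ''ᵁ ⊤) e = ((Scheme.Modules.restrictUnitIso U.ι).hom ≫
      Groth.Agent.Dcoh.FreeSec.ofSec _ m').app ⊤ (ι.app (U.ι ''ᵁ ⊤) e) :=
    congrArg (fun f => f.app ⊤ e) hφ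
  rw [h2, he]
  have h3 : (Scheme.Modules.restrictUnitIso U.ι).hom.app ⊤ (1 : Γ(X, U.ι ''ᵁ ⊤)) =
      Groth.Agent.Dcoh.FreeSec.one _ := by
    change (U.ι.appIso ⊤).hom (1 : Γ(X, U.ι ''ᵁ ⊤)) = (1 : Γ((U : Scheme.{u}), ⊤))
    rw [map_one]
  exact (congrArg ((Groth.Agent.Dcoh.FreeSec.ofSec _ m').app ⊤) h3).trans
    (Groth.Agent.Dcoh.FreeSec.ofSec_app_one _ _)



/-- Let X be a Noetherian scheme. The canonical ring map from the global functions Γ(X, O_X) to the
centre of the category of coherent O_X-modules (the endomorphisms of its identity functor), sending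
r to multiplication by r, is bijective: for every natural endomorphism φ of the identity functor of
Coh(X) there is a unique global function r such that, for every coherent module M, φ_M is
multiplication by r (compared as maps of the underlying abelian sheaves). (The published result
builds a ringed space from Coh(X) — irreducible Serre subcategories of finite type, with the centres
of the categories Coh(U) as structure sheaf — and proves it isomorphic to X, for coherent sheaves
twisted by a class in the cohomological Brauer group and with X over a field, a hypothesis its proof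
does not use; this row is the ring-theoretic content of that isomorphism on global sections, for the
trivial class; applied to the open subschemes of X it gives the statement on every open.) -/
theorem result (X : Scheme.{u}) [IsNoetherian X]
    (φ : 𝟭 (ObjectProperty.FullSubcategory (fun M : X.Modules => Coh.IsCoh M)) ⟶ 𝟭 (ObjectProperty.FullSubcategory (fun M : X.Modules => Coh.IsCoh M))) :
    ∃! r : Coh.Γtop X, ∀ M : ObjectProperty.FullSubcategory (fun M : X.Modules => Coh.IsCoh M),
      (SheafOfModules.toSheaf X.ringCatSheaf).map (φ.app M).hom = Coh.smulAb M.obj r := by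
  let O : ObjectProperty.FullSubcategory (fun M : X.Modules => Coh.IsCoh M) :=
    ⟨Coh.structureModule X, Groth.Agent.Fdesc.StructMod.isCoh_structureModule X⟩
  let r : Coh.Γtop X := (φ.app O).hom.app ⊤ (1 : Γ(X, ⊤))
  have key : ∀ (M : ObjectProperty.FullSubcategory (fun M : X.Modules => Coh.IsCoh M))
      (U : X.Opens) (m : Γ(M.obj, U)), (φ.app M).hom.app U m =
        (show Γ(X, U) from Coh.resTop X (Opposite.op U) r) • m := by
    intro M U m
    obtain ⟨I, ι, ψ, e, hι, hI, he, hψ⟩ := exists_ideal M.obj M.property U U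
      (Scheme.Opens.ι_image_top U).symm m
    let I' : ObjectProperty.FullSubcategory (fun M : X.Modules => Coh.IsCoh M) := ⟨I, hI⟩
    have n1 := congrArg (fun f => f.hom.app U e)
      (φ.naturality (ObjectProperty.homMk ψ : I' ⟶ M))
    have n2 := congrArg (fun f => f.hom.app U e)
      (φ.naturality (ObjectProperty.homMk ι : I' ⟶ O))
    have n1' : (φ.app M).hom.app U (ψ.app U e) = ψ.app U ((φ.app I').hom.app U e) := n1
    have n2' : (φ.app O).hom.app U (ι.app U e) = ι.app U ((φ.app I').hom.app U e) := n2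
    have h1 : (φ.app O).hom.app U (1 : Γ(X, U)) = Coh.resTop X (Opposite.op U) r := by
      have h3 := congr($((φ.app O).hom.mapPresheaf.naturality (homOfLE le_top : U ⟶ ⊤).op) (1 : Γ(X, ⊤)))
      refine Eq.trans ?_ h3
      change _ = (φ.app O).hom.app U (X.presheaf.map (homOfLE le_top : U ⟶ ⊤).op (1 : Γ(X, ⊤)))
      rw [map_one]
    have h2 : (φ.app I').hom.app U e =
        (show Γ(X, U) from Coh.resTop X (Opposite.op U) r) • e := by
      apply (Groth.Agent.Ega1.SubSheaf.mono_iff_injective ι).mp hι U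
      rw [← n2', he, h1, Groth.Agent.Ega1.SubSheaf.app_smul', he]
      exact (mul_one (show Γ(X, U) from Coh.resTop X (Opposite.op U) r)).symm
    rw [← hψ, n1', h2, Groth.Agent.Ega1.SubSheaf.app_smul']
  refine ⟨r, fun M => ?_, fun r' hr' => ?_⟩
  · ext U m
    rw [Coh.smulAb_app]
    exact key M U.unop m
  · have h1 := hr' O
    have h2 : r = (Coh.smulAb (Coh.structureModule X) r').hom.app (Opposite.op ⊤) (1 : Γ(X, ⊤)) :=
      congrArg (fun f => f.hom.app (Opposite.op ⊤) (1 : Γ(X, ⊤))) h1
    have h3 : (Coh.smulAb (Coh.structureModule X) r').hom.app (Opposite.op ⊤) (1 : Γ(X, ⊤)) =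
        (show Γ(X, ⊤) from Coh.resTop X (Opposite.op ⊤) r') * (1 : Γ(X, ⊤)) := rfl
    rw [h2, h3, mul_one]
    change r' = X.presheaf.map (𝟙 _) r'
    rw [X.presheaf.map_id]
    rfl

end Groth.Agent.S13988
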