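import Groth.Statements.S13989
import Mathlib.CategoryTheory.Abelian.SerreClass.Localization
import Mathlib.CategoryTheory.Limits.Preserves.Shapes.AbelianImages

set_option autoImplicit false
universe v u v' u' v'' u''
open CategoryTheory CategoryTheory.Limits
open CohGab

namespace Groth.Agent.S13989

theorem isoModSerre_map_iff
    {A A' : Type u} [Category.{v} A] [Abelian A] [Category.{v} A'] [Abelian A']
    (i : A' ⥤ A) [i.PreservesZeroMorphisms] [PreservesFiniteLimits i] [PreservesFiniteColimits i]
    (J : ObjectProperty A) [J.IsSerreClass] [(J.inverseImage i).IsSerreClass]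
    {X Y : A'} (f : X ⟶ Y) : (J.inverseImage i).isoModSerre f ↔ J.isoModSerre (i.map f) := by
  rw [ObjectProperty.isoModSerre_iff, ObjectProperty.isoModSerre_iff,
    ObjectProperty.monoModSerre_iff, ObjectProperty.monoModSerre_iff,
    ObjectProperty.epiModSerre_iff, ObjectProperty.epiModSerre_iff]
  exact and_congr (J.prop_iff_of_iso (PreservesKernel.iso i f))
    (J.prop_iff_of_iso (PreservesCokernel.iso i f))



/-- Let A be an abelian category, A' a full abelian subcategory (given as a fully faithful exact functor
i : A' ⥤ A) and J a Serre subcategory of A, with J' = J ∩ A' (the preimage of J under i, a Serre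
subcategory of A'). Assume that every subobject and every quotient object, in A, of an object of A'
which belongs to J belongs to A' (lies in the essential image of i). Then the functor A'/J' ⥤ A/J
induced between the quotient categories is fully faithful: for L : A ⥤ Q and L' : A' ⥤ Q'
localization functors at the morphisms whose kernel and cokernel lie in J, resp. J', every functor Φ
: Q' ⥤ Q with L' ⋙ Φ ≅ i ⋙ L is full and faithful. -/
theorem result
    {A A' : Type u} [Category.{v} A] [Abelian A] [Category.{v} A'] [Abelian A']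
    (i : A' ⥤ A) [i.Full] [i.Faithful] [PreservesFiniteLimits i] [PreservesFiniteColimits i]
    (J : ObjectProperty A) [J.IsSerreClass] [(J.inverseImage i).IsSerreClass]
    (hsub : ∀ (M : A') (N : A) (f : N ⟶ i.obj M), Mono f → J N → i.essImage N)
    (hquot : ∀ (M : A') (N : A) (p : i.obj M ⟶ N), Epi p → J N → i.essImage N)
    {Q : Type u'} [Category.{v'} Q] (L : A ⥤ Q) [L.IsLocalization J.isoModSerre]
    {Q' : Type u''} [Category.{v''} Q'] (L' : A' ⥤ Q') [L'.IsLocalization (J.inverseImage i).isoModSerre]
    (Φ : Q' ⥤ Q) (e : L' ⋙ Φ ≅ i ⋙ L) : Φ.Full ∧ Φ.Faithful := by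
  have : i.Additive := Functor.additive_of_preserves_binary_products i
  have := Localization.essSurj L' (J.inverseImage i).isoModSerre
  constructor
  · refine Functor.full_of_comp_essSurj Φ L' fun X₁ X₂ φ => ?_
    obtain ⟨⟨s, hs, f⟩, hψ⟩ := Localization.exists_rightFraction L J.isoModSerre
      (e.inv.app X₁ ≫ φ ≫ e.hom.app X₂)
    have hψ' : L.map s ≫ (e.inv.app X₁ ≫ φ ≫ e.hom.app X₂) = L.map f := by
      rw [hψ]
      exact MorphismProperty.RightFraction.map_s_comp_map ⟨s, hs, f⟩ L
        (Localization.inverts L J.isoModSerre)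
    -- the domain
    obtain ⟨C', ⟨eC⟩⟩ := hquot X₁ (cokernel s) (cokernel.π s) inferInstance hs.2
    let c : X₁ ⟶ C' := i.preimage (cokernel.π s ≫ eC.inv)
    have hc : i.map c = cokernel.π s ≫ eC.inv := i.map_preimage _
    have hC' : (J.inverseImage i) C' := J.prop_of_iso eC.symm hs.2
    let w : Abelian.image s ≅ i.obj (kernel c) :=
      (kernelCompMono (cokernel.π s) eC.inv).symm ≪≫ kernelIsoOfEq hc.symm ≪≫
        (PreservesKernel.iso i c).symm
    have hw : w.hom ≫ i.map (kernel.ι c) = Abelian.image.ι s := by
      simp [w]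
    have hι : (J.inverseImage i).isoModSerre (kernel.ι c) := by
      rw [ObjectProperty.isoModSerre_iff_of_mono]
      exact (J.inverseImage i).prop_of_mono (Abelian.factorThruCoimage c) hC'
    have hf1 := ObjectProperty.monoModSerre.isoModSerre_factorThruImage hs.1
    -- the codomain
    let k := kernel.ι s ≫ f
    have hJM : J (Abelian.image k) := J.prop_of_epi (Abelian.factorThruImage k) hs.1
    obtain ⟨M', ⟨eM⟩⟩ := hsub X₂ (Abelian.image k) (Abelian.image.ι k) inferInstance hJM
    have hM' : (J.inverseImage i) M' := J.prop_of_iso eM.symm hJM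
    let m : M' ⟶ X₂ := i.preimage (eM.hom ≫ Abelian.image.ι k)
    have hm : i.map m = eM.hom ≫ Abelian.image.ι k := i.map_preimage _
    have hπ : (J.inverseImage i).isoModSerre (cokernel.π m) := by
      rw [ObjectProperty.isoModSerre_iff_of_epi]
      exact (J.inverseImage i).prop_of_epi (Abelian.factorThruImage m) hM'
    have hkπ : kernel.ι s ≫ f ≫ i.map (cokernel.π m) = 0 := by
      have h1 : k ≫ i.map (cokernel.π m) = 0 := by
        have h2 : k = Abelian.factorThruImage k ≫ eM.inv ≫ i.map m := by
          rw [hm]; simp
        rw [h2, Category.assoc, Category.assoc, ← i.map_comp, cokernel.condition]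
        simp
      simpa [k] using h1
    -- the middle
    let q := Abelian.factorThruImage s ≫ w.hom
    have hq : q ≫ i.map (kernel.ι c) = s := by simp [q, hw]
    have : Epi q := by dsimp only [q]; infer_instance
    let g := Abelian.epiDesc q (f ≫ i.map (cokernel.π m)) (by
      have h1 : kernel.ι q ≫ s = 0 := by
        have h2 : kernel.ι q ≫ s = kernel.ι q ≫ q ≫ i.map (kernel.ι c) := by rw [hq]
        rw [h2, ← Category.assoc, kernel.condition, zero_comp]
      rw [← kernel.lift_ι s (kernel.ι q) h1, Category.assoc, hkπ, comp_zero])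
    have hg : q ≫ g = f ≫ i.map (cokernel.π m) := Abelian.comp_epiDesc _ _ _
    have : IsIso (L.map q) := by
      have := Localization.inverts L J.isoModSerre _ hf1
      dsimp only [q]
      rw [L.map_comp]
      infer_instance
    have hmid : L.map (i.map (kernel.ι c)) ≫ (e.inv.app X₁ ≫ φ ≫ e.hom.app X₂) ≫
        L.map (i.map (cokernel.π m)) = L.map g := by
      have h1 : L.map q ≫ L.map (i.map (kernel.ι c)) = L.map s := by rw [← L.map_comp, hq]
      have h2 : L.map q ≫ L.map g = L.map f ≫ L.map (i.map (cokernel.π m)) := by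
        rw [← L.map_comp, ← L.map_comp, hg]
      rw [← cancel_epi (L.map q), h2, ← Category.assoc, h1, ← Category.assoc, hψ']
    have := Localization.inverts L' (J.inverseImage i).isoModSerre _ hι
    have := Localization.inverts L' (J.inverseImage i).isoModSerre _ hπ
    refine ⟨inv (L'.map (kernel.ι c)) ≫ L'.map (i.preimage g) ≫ inv (L'.map (cokernel.π m)), ?_⟩
    rw [Φ.map_comp, Φ.map_comp, Functor.map_inv, Functor.map_inv, IsIso.inv_comp_eq,
      IsIso.comp_inv_eq]
    have e1 := e.inv.naturality (kernel.ι c)
    have e2 := e.hom.naturality (cokernel.π m)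
    have e3 := e.hom.naturality (i.preimage g)
    simp only [Functor.comp_map, Functor.map_preimage] at e1 e2 e3
    rw [← cancel_mono (e.hom.app _), e3, ← hmid]
    simp only [Category.assoc]
    rw [e2, reassoc_of% e1]
    simp
  · refine Functor.faithful_of_comp_of_hasLeftCalculusOfFractions (L := L')
      (W := (J.inverseImage i).isoModSerre) Φ fun X₁ X₂ f g hfg => ?_
    have h1 : L.map (i.map f) = L.map (i.map g) := by
      have e1 := e.hom.naturality f
      have e2 := e.hom.naturality g
      simp only [Functor.comp_map] at e1 e2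
      rw [hfg, e2] at e1
      exact ((cancel_epi (e.hom.app X₁)).mp e1).symm
    rw [MorphismProperty.map_eq_iff_postcomp L J.isoModSerre] at h1
    obtain ⟨Z, s, hs, hfs⟩ := h1
    have h2 : J (Abelian.image (i.map (f - g))) :=
      (ObjectProperty.exists_comp_isoModSerre_eq_zero_iff J _).mp
        ⟨Z, s, hs, by rw [i.map_sub, Preadditive.sub_comp, hfs, sub_self]⟩
    have h3 : (J.inverseImage i) (Abelian.image (f - g)) :=
      J.prop_of_iso (Abelian.PreservesImage.iso i (f - g)).symm h2
    obtain ⟨Z', s', hs', hfs'⟩ :=
      (ObjectProperty.exists_comp_isoModSerre_eq_zero_iff (J.inverseImage i) _).mpr h3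
    rw [MorphismProperty.map_eq_iff_postcomp L' (J.inverseImage i).isoModSerre]
    exact ⟨Z', s', hs', by rwa [Preadditive.sub_comp, sub_eq_zero] at hfs'⟩

end Groth.Agent.S13989
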