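import Groth.Statements.S13990
import Groth.Agent.CohGab.K806.SerreGen

set_option autoImplicit false
universe u
open CategoryTheory AlgebraicGeometry
open CohGab

namespace Groth.Agent.S13990

/-- Let X be a Noetherian scheme. Then Z ↦ Coh_Z(X), the coherent O_X-modules with support contained in
Z, is a bijection from the closed subsets of X onto the Serre subcategories of finite type of Coh(X)
(those generated, as Serre subcategories, by one object). Spelled out with Serre subcategories of
Coh(X) as properties P of O_X-modules such that in a short exact sequence of coherent modules the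
middle term has P iff both outer terms do: (a) for every closed Z, 'support ⊆ Z' is such a property
and there is a coherent F supported in Z such that every such property containing F contains all
coherent modules supported in Z; (b) for every such property P generated on coherent modules by one
coherent module F, there is exactly one closed Z with P(M) ⟺ Supp(M) ⊆ Z for all coherent M. (The
published statement is about coherent sheaves twisted by a class in the second etale cohomology
group of the units of the structure sheaf; this row is its case of the trivial class.) -/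
theorem result (X : Scheme.{u}) [IsNoetherian X] :
    (∀ Z : TopologicalSpace.Closeds X,
      (∀ S : ShortComplex X.Modules, S.ShortExact → Coh.IsCoh S.X₁ → Coh.IsCoh S.X₂ →
          Coh.IsCoh S.X₃ → (CohB1.support S.X₂ ⊆ (↑Z : Set X) ↔
            CohB1.support S.X₁ ⊆ (↑Z : Set X) ∧ CohB1.support S.X₃ ⊆ (↑Z : Set X))) ∧
      ∃ F : X.Modules, Coh.IsCoh F ∧ CohB1.support F ⊆ (↑Z : Set X) ∧
        ∀ Q : ObjectProperty X.Modules, (∀ S : ShortComplex X.Modules, S.ShortExact → Coh.IsCoh S.X₁ → Coh.IsCoh S.X₂ →
          Coh.IsCoh S.X₃ → (Q S.X₂ ↔ Q S.X₁ ∧ Q S.X₃)) → Q F →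
          ∀ M : X.Modules, Coh.IsCoh M → CohB1.support M ⊆ (↑Z : Set X) → Q M) ∧
    (∀ P : ObjectProperty X.Modules, (∀ S : ShortComplex X.Modules, S.ShortExact → Coh.IsCoh S.X₁ → Coh.IsCoh S.X₂ →
          Coh.IsCoh S.X₃ → (P S.X₂ ↔ P S.X₁ ∧ P S.X₃)) →
      (∃ F : X.Modules, Coh.IsCoh F ∧ P F ∧
        ∀ Q : ObjectProperty X.Modules, (∀ S : ShortComplex X.Modules, S.ShortExact → Coh.IsCoh S.X₁ → Coh.IsCoh S.X₂ →
          Coh.IsCoh S.X₃ → (Q S.X₂ ↔ Q S.X₁ ∧ Q S.X₃)) → Q F →
          ∀ M : X.Modules, Coh.IsCoh M → P M → Q M) →
      ∃! Z : TopologicalSpace.Closeds X, ∀ M : X.Modules, Coh.IsCoh M →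
        (P M ↔ CohB1.support M ⊆ (↑Z : Set X))) := by
  constructor
  · intro Z
    refine ⟨K806.SerreGen.isSerreCoh_support _, ?_⟩
    obtain ⟨F, hF, hFZ⟩ := K806.SerreGen.exists_coh_support_eq Z
    refine ⟨F, hF, hFZ.le, fun Q hQ hQF M hM hMZ => ?_⟩
    exact K806.SerreGen.mem_of_support_subset (P := Q) hQ F hF hQF M hM (hFZ ▸ hMZ)
  · rintro P hP ⟨F, hF, hPF, hgen⟩
    refine ⟨⟨CohB1.support F, Groth.Agent.Ega3B.Devissage.isClosed_support hF⟩, fun M hM => ?_, ?_⟩
    · constructor
      · intro h
        exact hgen (fun M => CohB1.support M ⊆ CohB1.support F)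
          (K806.SerreGen.isSerreCoh_support _) subset_rfl M hM h
      · intro h
        exact K806.SerreGen.mem_of_support_subset (P := P) hP F hF hPF M hM h
    · intro Z hZ
      apply TopologicalSpace.Closeds.ext
      apply Set.Subset.antisymm
      · obtain ⟨G, hG, hGZ⟩ := K806.SerreGen.exists_coh_support_eq Z
        have h1 : P G := (hZ G hG).mpr hGZ.le
        have h2 := hgen (fun M => CohB1.support M ⊆ CohB1.support F)
          (K806.SerreGen.isSerreCoh_support _) subset_rfl G hG h1
        rw [← hGZ]
        exact h2
      · exact (hZ F hF).mp hPF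

end Groth.Agent.S13990
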