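import Groth.Statements.S13991
import Groth.Agent.CohGab.K806.SerreGen

set_option autoImplicit false
universe u
open CategoryTheory AlgebraicGeometry
open CohGab

namespace Groth.Agent.S13991

/-- Let X be a Noetherian scheme and Z ⊆ X a closed subset. Then Z is irreducible (or empty) if and only
if Coh_Z(X), the coherent O_X-modules supported in Z, is an irreducible Serre subcategory of Coh(X),
i.e. it is not generated as a Serre subcategory by two Serre subcategories properly contained in it:
whenever J₁, J₂ are Serre classes on coherent modules (middle term of a short exact sequence of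
coherent modules belongs iff both outer terms do), both contained in Coh_Z, such that every Serre
class on coherent modules containing J₁ and J₂ contains Coh_Z, then J₁ or J₂ contains Coh_Z.
Consequently the points of X correspond to the irreducible Serre subcategories of finite type other
than the zero subcategory. (The published statement says 'Z is irreducible iff Coh_Z is irreducible'
and deduces a bijection between the points of X and all irreducible Serre subcategories of finite
type; the zero subcategory Coh_∅ is irreducible in this sense while ∅ is not an irreducible space,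
so irreducibility of Z is read here as 'irreducible or empty'. The published statement is also about
coherent sheaves twisted by a class in the second etale cohomology group of the units of the
structure sheaf; this row is its case of the trivial class.) -/
theorem result (X : Scheme.{u}) [IsNoetherian X]
    (Z : TopologicalSpace.Closeds X) :
    IsPreirreducible (↑Z : Set X) ↔
    ∀ J₁ J₂ : ObjectProperty X.Modules, (∀ S : ShortComplex X.Modules, S.ShortExact → Coh.IsCoh S.X₁ → Coh.IsCoh S.X₂ →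
        Coh.IsCoh S.X₃ → (J₁ S.X₂ ↔ J₁ S.X₁ ∧ J₁ S.X₃)) → (∀ S : ShortComplex X.Modules, S.ShortExact → Coh.IsCoh S.X₁ → Coh.IsCoh S.X₂ →
        Coh.IsCoh S.X₃ → (J₂ S.X₂ ↔ J₂ S.X₁ ∧ J₂ S.X₃)) →
      (∀ M : X.Modules, Coh.IsCoh M → J₁ M → CohB1.support M ⊆ (↑Z : Set X)) →
      (∀ M : X.Modules, Coh.IsCoh M → J₂ M → CohB1.support M ⊆ (↑Z : Set X)) →
      (∀ Q : ObjectProperty X.Modules, (∀ S : ShortComplex X.Modules, S.ShortExact → Coh.IsCoh S.X₁ → Coh.IsCoh S.X₂ →
        Coh.IsCoh S.X₃ → (Q S.X₂ ↔ Q S.X₁ ∧ Q S.X₃)) →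
        (∀ M : X.Modules, Coh.IsCoh M → J₁ M → Q M) → (∀ M : X.Modules, Coh.IsCoh M → J₂ M → Q M) →
        ∀ M : X.Modules, Coh.IsCoh M → CohB1.support M ⊆ (↑Z : Set X) → Q M) →
      (∀ M : X.Modules, Coh.IsCoh M → CohB1.support M ⊆ (↑Z : Set X) → J₁ M) ∨
        (∀ M : X.Modules, Coh.IsCoh M → CohB1.support M ⊆ (↑Z : Set X) → J₂ M) := by
  constructor
  · intro hZ J₁ J₂ h₁ h₂ hJ₁ hJ₂ hgen
    -- some coherent member of `J₁` or `J₂` has support exactly `Z`
    suffices hex : (∃ M : X.Modules, Coh.IsCoh M ∧ J₁ M ∧ (↑Z : Set X) ⊆ CohB1.support M) ∨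
        (∃ M : X.Modules, Coh.IsCoh M ∧ J₂ M ∧ (↑Z : Set X) ⊆ CohB1.support M) by
      rcases hex with ⟨M, hM, hJM, hMZ⟩ | ⟨M, hM, hJM, hMZ⟩
      · exact Or.inl fun E hE hEZ =>
          K806.SerreGen.mem_of_support_subset (P := J₁) h₁ M hM hJM E hE (hEZ.trans hMZ)
      · exact Or.inr fun E hE hEZ =>
          K806.SerreGen.mem_of_support_subset (P := J₂) h₂ M hM hJM E hE (hEZ.trans hMZ)
    by_contra hcon
    rw [not_or] at hcon
    obtain ⟨hn₁, hn₂⟩ := hcon
    push Not at hn₁ hn₂
    obtain ⟨G, hG, hGZ⟩ := K806.SerreGen.exists_coh_support_eq Z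
    rcases (↑Z : Set X).eq_empty_or_nonempty with hZe | hZne
    · -- the classes have no coherent member
      refine hgen (fun _ => False) (fun _ _ _ _ _ => by simp) (fun M hM hJM => ?_)
        (fun M hM hJM => ?_) G hG hGZ.le
      · exact hn₁ M hM hJM (by rw [hZe]; exact Set.empty_subset _)
      · exact hn₂ M hM hJM (by rw [hZe]; exact Set.empty_subset _)
    · obtain ⟨y, hy⟩ := QuasiSober.sober (S := (↑Z : Set X)) ⟨hZne, hZ⟩ Z.isClosed
      have key : ∀ M : X.Modules, Coh.IsCoh M → ¬ (↑Z : Set X) ⊆ CohB1.support M →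
          y ∉ CohB1.support M := fun M hM hn hyM => hn (by
        rw [← hy.def]
        exact closure_minimal (Set.singleton_subset_iff.mpr hyM)
          (Groth.Agent.Ega3B.Devissage.isClosed_support hM))
      have hcon := hgen (fun M => y ∉ CohB1.support M) (K806.SerreGen.isSerreCoh_notMem y)
        (fun M hM hJM => key M hM (hn₁ M hM hJM)) (fun M hM hJM => key M hM (hn₂ M hM hJM))
        G hG hGZ.le
      apply hcon
      rw [hGZ, ← hy.def]
      exact subset_closure rfl
  · intro h
    rw [isPreirreducible_iff_isClosed_union_isClosed]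
    intro Z₁ Z₂ hZ₁ hZ₂ hZ
    have hc : ∀ Z' : Set X, IsClosed Z' → ∃ F : X.Modules, Coh.IsCoh F ∧
        CohB1.support F = (↑Z : Set X) ∩ Z' := fun Z' hZ' =>
      K806.SerreGen.exists_coh_support_eq ⟨(↑Z : Set X) ∩ Z', Z.isClosed.inter hZ'⟩
    obtain ⟨F₁, hF₁, hs₁⟩ := hc Z₁ hZ₁
    obtain ⟨F₂, hF₂, hs₂⟩ := hc Z₂ hZ₂
    obtain ⟨G, hG, hGZ⟩ := K806.SerreGen.exists_coh_support_eq Z
    have key : ∀ Q : ObjectProperty X.Modules, K806.SerreGen.IsSerreCoh Q →
        (∀ M : X.Modules, Coh.IsCoh M → CohB1.support M ⊆ (↑Z : Set X) ∩ Z₁ → Q M) →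
        (∀ M : X.Modules, Coh.IsCoh M → CohB1.support M ⊆ (↑Z : Set X) ∩ Z₂ → Q M) →
        ∀ M : X.Modules, Coh.IsCoh M → CohB1.support M ⊆ (↑Z : Set X) → Q M := by
      intro Q hQ hQ₁ hQ₂ M hM hMZ
      have e₁ : Q F₁ := hQ₁ F₁ hF₁ hs₁.le
      have e₂ : Q F₂ := hQ₂ F₂ hF₂ hs₂.le
      have hS : (ShortComplex.mk (Limits.biprod.inl : F₁ ⟶ F₁ ⊞ F₂)
        (Limits.biprod.snd : F₁ ⊞ F₂ ⟶ F₂) (by simp)).ShortExact :=
        (ShortComplex.Splitting.ofHasBinaryBiproduct F₁ F₂).shortExact
      have hB : Coh.IsCoh (F₁ ⊞ F₂) := Groth.Agent.Ega3B.DevQC.isCoh_biprod hF₁ hF₂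
      have e₃ : Q (F₁ ⊞ F₂) := (hQ _ hS hF₁ hB hF₂).mpr ⟨e₁, e₂⟩
      refine K806.SerreGen.mem_of_support_subset (P := Q) hQ (F₁ ⊞ F₂) hB e₃ M hM ?_
      have e₄ : CohB1.support (F₁ ⊞ F₂) = CohB1.support F₁ ∪ CohB1.support F₂ :=
        Groth.Agent.CohqB.DevSupport.support_shortExact hS
      rw [e₄, hs₁, hs₂, ← Set.inter_union_distrib_left, Set.inter_eq_left.mpr hZ]
      exact hMZ
    rcases h (fun M => CohB1.support M ⊆ (↑Z : Set X) ∩ Z₁) (fun M => CohB1.support M ⊆ (↑Z : Set X) ∩ Z₂)
      (K806.SerreGen.isSerreCoh_support _) (K806.SerreGen.isSerreCoh_support _)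
      (fun M _ hM => hM.trans Set.inter_subset_left) (fun M _ hM => hM.trans Set.inter_subset_left)
      key with h1 | h1
    · left
      have := h1 G hG hGZ.le
      rw [hGZ] at this
      exact this.trans Set.inter_subset_right
    · right
      have := h1 G hG hGZ.le
      rw [hGZ] at this
      exact this.trans Set.inter_subset_right

end Groth.Agent.S13991
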