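import Groth.Statements.S13995
import Mathlib.RingTheory.HopkinsLevitzki
import Mathlib.RingTheory.KrullDimension.Zero
import Mathlib.LinearAlgebra.Dimension.FreeAndStrongRankCondition
import Mathlib.LinearAlgebra.FiniteDimensional.Basic
import Mathlib.RingTheory.LocalProperties.Reduced
-- import your own Groth.Agent.* helpers here

set_option autoImplicit false
universe u
open CAlg

namespace Groth.Agent.S13995

theorem isField_localization {R : Type u} [CommRing R] [IsNoetherianRing R] [IsReduced R]
    (p : PrimeSpectrum R) (hp : p.asIdeal ∈ minimalPrimes R) :
    IsField (Localization.AtPrime p.asIdeal) := by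
  have h0 : Ring.KrullDimLE 0 (Localization.AtPrime p.asIdeal) :=
    Ring.KrullDimLE.of_isLocalization p.asIdeal hp _
  have h1 : IsNoetherianRing (Localization.AtPrime p.asIdeal) :=
    IsLocalization.isNoetherianRing p.asIdeal.primeCompl _ inferInstance
  have h2 : IsArtinianRing (Localization.AtPrime p.asIdeal) :=
    isArtinianRing_iff_isNoetherianRing_krullDimLE_zero.mpr ⟨h1, h0⟩
  have h3 : IsReduced (Localization.AtPrime p.asIdeal) :=
    isReduced_localizationPreserves p.asIdeal.primeCompl _ inferInstance
  exact IsArtinianRing.isField_of_isReduced_of_isLocalRing _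

theorem exists_generator {K V : Type u} [CommRing K] (hK : IsField K) [AddCommGroup V] [Module K V]
    (h : Module.finrank K V = 1) : ∃ v : V, ∀ w : V, ∃ c : K, c • v = w := by
  let _ := hK.toField
  have hfree : Module.Free K V := Module.Free.of_divisionRing K V
  obtain ⟨v, _, hv⟩ := finrank_eq_one_iff'.mp h
  exact ⟨v, hv⟩

/-- Let R be a reduced Noetherian ring, M a finitely generated R-module all of whose associated primes
are minimal primes of R and whose localization at each minimal prime p is one-dimensional over the
field R_p, and let g : M → Q be a surjection onto a finitely generated R-module Q all of whose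
associated primes are minimal primes of R. Then the kernel of g is the intersection, over the
minimal primes p of R lying in the support of Q, of the kernels of the localization maps M → M_p.
(The published statement is for a torsion-free coherent sheaf F of uniform rank one on a reduced
connected projective curve over a characteristic-zero algebraically closed field: its non-zero
torsion-free quotients are exactly the maximal torsion-free quotients F_D of the restrictions of F
to subcurves D; this row is the corresponding statement for modules over a reduced Noetherian ring,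
a subcurve being a set of minimal primes, and identifies each torsion-free quotient with F_D for D
the set of generic points of its support.) -/
theorem result (R : Type u) [CommRing R] [IsNoetherianRing R] [IsReduced R] (M : Type u) [AddCommGroup M] [Module R M] [Module.Finite R M] (hM : associatedPrimes R M ⊆ minimalPrimes R) (hrk : ∀ p : PrimeSpectrum R, p.asIdeal ∈ minimalPrimes R → Module.finrank (Localization.AtPrime p.asIdeal) (LocalizedModule p.asIdeal.primeCompl M) = 1) (Q : Type u) [AddCommGroup Q] [Module R Q] [Module.Finite R Q] (hQ : associatedPrimes R Q ⊆ minimalPrimes R) (g : M →ₗ[R] Q) (hg : Function.Surjective g) : LinearMap.ker g = ⨅ p ∈ {p : PrimeSpectrum R | p.asIdeal ∈ minimalPrimes R ∧ p ∈ Module.support R Q}, LinearMap.ker (LocalizedModule.mkLinearMap p.asIdeal.primeCompl M) := by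
  ext x
  rw [LinearMap.mem_ker]
  simp only [Submodule.mem_iInf]
  constructor
  · rintro hx p ⟨hp, hpQ⟩
    rw [LinearMap.mem_ker]
    have hF := isField_localization p hp
    obtain ⟨v, hv⟩ := exists_generator hF (hrk p hp)
    obtain ⟨c, hc⟩ := hv (LocalizedModule.mkLinearMap p.asIdeal.primeCompl M x)
    by_contra hne
    have hc0 : c ≠ 0 := by
      rintro rfl
      rw [zero_smul] at hc
      exact hne hc.symm
    obtain ⟨c', hc'⟩ := hF.mul_inv_cancel hc0
    have hgx : LocalizedModule.map p.asIdeal.primeCompl g (LocalizedModule.mkLinearMap p.asIdeal.primeCompl M x) = 0 := by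
      have h1 : LocalizedModule.map p.asIdeal.primeCompl g (LocalizedModule.mkLinearMap p.asIdeal.primeCompl M x) =
          LocalizedModule.mkLinearMap p.asIdeal.primeCompl Q (g x) :=
        IsLocalizedModule.map_apply p.asIdeal.primeCompl _ _ g x
      rw [h1, hx, map_zero]
    have hgv : LocalizedModule.map p.asIdeal.primeCompl g v = 0 := by
      have h1 : v = c' • (LocalizedModule.mkLinearMap p.asIdeal.primeCompl M x) := by
        rw [← hc, smul_smul, mul_comm, hc', one_smul]
      rw [h1, map_smul, hgx, smul_zero]
    have hg0 : ∀ w, LocalizedModule.map p.asIdeal.primeCompl g w = 0 := by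
      intro w
      obtain ⟨d, rfl⟩ := hv w
      rw [map_smul, hgv, smul_zero]
    have hsub : Subsingleton (LocalizedModule p.asIdeal.primeCompl Q) := by
      refine ⟨fun a b => ?_⟩
      have hsurj := LocalizedModule.map_surjective p.asIdeal.primeCompl g hg
      obtain ⟨a', rfl⟩ := hsurj a
      obtain ⟨b', rfl⟩ := hsurj b
      rw [hg0, hg0]
    rw [Module.mem_support_iff] at hpQ
    exact not_subsingleton _ hsub
  · intro hx
    by_contra hne
    obtain ⟨P, hP, hle⟩ := exists_le_isAssociatedPrime_of_isNoetherianRing R (g x) hne
    have hPmin := hQ hP
    have hPsupp : (⟨P, hP.1⟩ : PrimeSpectrum R) ∈ Module.support R Q := by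
      rw [Module.mem_support_iff_exists_annihilator]
      refine ⟨g x, ?_⟩
      intro r hr
      apply hle
      rw [Submodule.mem_colon_singleton, Submodule.mem_bot]
      exact Submodule.mem_annihilator_span_singleton _ _ |>.mp hr
    have h1 := hx ⟨P, hP.1⟩ ⟨hPmin, hPsupp⟩
    rw [LocalizedModule.mem_ker_mkLinearMap_iff] at h1
    obtain ⟨r, hr, hrx⟩ := h1
    have h3 : r • g x = 0 := by rw [← map_smul, hrx, map_zero]
    exact hr (hle (by rwa [Submodule.mem_colon_singleton, Submodule.mem_bot]))

end Groth.Agent.S13995
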