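import Groth.Statements.S13996
import Mathlib.RingTheory.Ideal.AssociatedPrime.Finiteness
import Mathlib.RingTheory.Ideal.MinimalPrime.Localization
-- import your own Groth.Agent.* helpers here

set_option autoImplicit false
universe u
open CAlg

namespace Groth.Agent.S13996

theorem exists_lt_of_dim {R : Type u} [CommRing R] [IsLocalRing R] (hdim : ringKrullDim R = 1) :
    ∃ q : Ideal R, q.IsPrime ∧ q < IsLocalRing.maximalIdeal R := by
  by_contra hcon
  push Not at hcon
  have h0 : Ring.KrullDimLE 0 R := by
    rw [Ring.krullDimLE_zero_iff]
    intro I hI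
    have h1 := IsLocalRing.le_maximalIdeal hI.ne_top
    have h2 : I = IsLocalRing.maximalIdeal R := by
      by_contra hne
      exact hcon I hI (lt_of_le_of_ne h1 hne)
    rw [h2]
    exact IsLocalRing.maximalIdeal.isMaximal R
  have h1 : ringKrullDim R ≤ 0 := by
    have := (Ring.krullDimLE_iff (n := 0) (R := R)).mp h0
    simpa using this
  rw [hdim] at h1
  exact absurd h1 (by decide)

/-- Let R be a reduced Noetherian local ring of Krull dimension one with maximal ideal m, and M a
non-zero finitely generated R-module. Then M is torsion-free in the sense that no element of m which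
is a non-zero-divisor on R is a zero-divisor on M, if and only if M has depth one, i.e. some element
of m is a non-zero-divisor on M. (The published statement is for a non-zero coherent sheaf F on a
connected reduced projective curve over a characteristic-zero algebraically closed field and asserts
the equivalence of: F torsion-free in the above sense at every closed point; F pure of dimension
one; depth of F_p equal to one at every closed point p. This row is the equivalence of the first and
third conditions at a single closed point p with F_p ≠ 0; at points outside the support the third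
condition as published cannot hold, so the row assumes the stalk non-zero.) -/
theorem result (R : Type u) [CommRing R] [IsLocalRing R] [IsNoetherianRing R] [IsReduced R] (hdim : ringKrullDim R = 1) (M : Type u) [AddCommGroup M] [Module R M] [Module.Finite R M] [Nontrivial M] : (∀ r : R, r ∈ IsLocalRing.maximalIdeal R → IsSMulRegular R r → IsSMulRegular M r) ↔ (∃ x : R, x ∈ IsLocalRing.maximalIdeal R ∧ IsSMulRegular M x) := by
  classical
  have hle1 : Ring.KrullDimLE 1 R := by
    rw [Ring.krullDimLE_iff, hdim]; rfl
  constructor
  · intro H
    by_contra hcon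
    push Not at hcon
    have hsub : (IsLocalRing.maximalIdeal R : Set R) ⊆ ⋃ p ∈ associatedPrimes R R, p := by
      rw [biUnion_associatedPrimes_eq_compl_nonZeroDivisors]
      intro x hx hx'
      exact hcon x hx (H x hx (isSMulRegular_iff_right_eq_zero_of_smul.mpr fun y hy => by
        rw [smul_eq_mul, mul_comm] at hy
        exact (mem_nonZeroDivisors_iff_right.mp hx') y hy))
    have hfin := associatedPrimes.finite R R
    have h2 : ∃ p ∈ hfin.toFinset, IsLocalRing.maximalIdeal R ≤ p := by
      have h3 := (Ideal.subset_union_prime (s := hfin.toFinset) (f := id) ⊥ ⊥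
        (fun i hi _ _ => ((Set.Finite.mem_toFinset hfin).mp hi).1) (I := IsLocalRing.maximalIdeal R)).mp
        (by simpa using hsub)
      exact h3
    obtain ⟨p, hp, hmp⟩ := h2
    rw [Set.Finite.mem_toFinset] at hp
    have hpm : IsLocalRing.maximalIdeal R = p :=
      le_antisymm hmp (IsLocalRing.le_maximalIdeal hp.1.ne_top)
    rw [AssociatedPrimes.mem_iff, isAssociatedPrime_iff] at hp
    obtain ⟨hpp, y, hy⟩ := hp
    obtain ⟨q, hq, hqm⟩ := exists_lt_of_dim hdim
    obtain ⟨z, hz, hzq⟩ := SetLike.exists_of_lt hqm
    have hzy : z * y = 0 := by
      have : z ∈ p := hpm ▸ hz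
      rw [hy, Submodule.mem_colon_singleton, Submodule.mem_bot] at this
      exact this
    have hyq : y ∈ q := (hq.mem_or_mem (by rw [hzy]; exact q.zero_mem : z * y ∈ q)).resolve_left hzq
    have hyp : y ∈ p := hpm ▸ (hqm.le hyq)
    rw [hy, Submodule.mem_colon_singleton, Submodule.mem_bot, smul_eq_mul] at hyp
    have hy0 : y = 0 := by
      have : IsNilpotent y := ⟨2, by rw [pow_two]; exact hyp⟩
      exact this.eq_zero
    apply hpp.ne_top
    rw [Ideal.eq_top_iff_one, hy, Submodule.mem_colon_singleton, Submodule.mem_bot, hy0, smul_zero]
  · rintro ⟨x, hx, hxM⟩ r hr hrR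
    by_contra hcon
    rw [isSMulRegular_iff_right_eq_zero_of_smul] at hcon
    push Not at hcon
    obtain ⟨z, hz, hz0⟩ := hcon
    obtain ⟨P, hP, hle⟩ := exists_le_isAssociatedPrime_of_isNoetherianRing R z hz0
    have hrP : r ∈ P := hle (by rwa [Submodule.mem_colon_singleton, Submodule.mem_bot])
    rcases (Ring.krullDimLE_one_iff.mp hle1) P hP.1 with hmin | hmax
    · have := notMem_nonZeroDivisors_of_mem_mem_minimalPrimes hrP hmin
      apply this
      rw [mem_nonZeroDivisors_iff_right]
      intro y hy
      rw [mul_comm] at hy
      exact (isSMulRegular_iff_right_eq_zero_of_smul.mp hrR) y hy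
    · rw [IsLocalRing.eq_maximalIdeal hmax, isAssociatedPrime_iff] at hP
      obtain ⟨hpp, w, hw⟩ := hP
      have hxw : x • w = 0 := by
        rw [hw, Submodule.mem_colon_singleton, Submodule.mem_bot] at hx
        exact hx
      have hw0 := (isSMulRegular_iff_right_eq_zero_of_smul.mp hxM) w hxw
      apply hpp.ne_top
      rw [Ideal.eq_top_iff_one, hw, Submodule.mem_colon_singleton, Submodule.mem_bot, hw0, smul_zero]

end Groth.Agent.S13996
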