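import Groth.Statements.S13998
import Groth.Agent.FlatMor.K262.NilFT
import Groth.Agent.S1305
import Mathlib.AlgebraicGeometry.Morphisms.Finite

set_option autoImplicit false
universe u
open FlatMor

namespace Groth.Agent.S13998

open AlgebraicGeometry CategoryTheory in
/-- Consider a cartesian square of schemes F₀ ≫ j = i ≫ F (so Y₀ = Y ×_X X₀) in which i : Y₀ ⟶ Y and j :
X₀ ⟶ X are closed immersions surjective on points whose ideals are locally nilpotent (nilpotent on
every affine open), and suppose moreover that the ideal of j is of finite type (finitely generated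
on every affine open of X). Then F : Y ⟶ X is finite if and only if F₀ : Y₀ ⟶ X₀ is finite. -/
theorem result {X X₀ Y Y₀ : Scheme.{u}}
    (F : Y ⟶ X) (F₀ : Y₀ ⟶ X₀) (i : Y₀ ⟶ Y) (j : X₀ ⟶ X)
    (hi : MoreMor.IsThickening i) (hj : MoreMor.IsThickening j)
    (hinil : ∀ U : Y.affineOpens, IsNilpotent (i.ker.ideal U))
    (hjnil : ∀ U : X.affineOpens, IsNilpotent (j.ker.ideal U))
    (hfg : ∀ U : X.affineOpens, (j.ker.ideal U).FG)
    (hc : IsPullback F₀ i j F) :
    IsFinite F ↔ IsFinite F₀ := by
  have := hi.1
  have := hj.1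
  constructor
  · intro h
    exact MorphismProperty.of_isPullback (P := @IsFinite) hc.flip h
  · intro h
    have h1 : IsIntegralHom F := (Groth.Agent.S1305.result i j F₀ F hi hj hc.w.symm).mp inferInstance
    have h2 : LocallyOfFiniteType F := by
      refine K262.NilFT.locallyOfFiniteType_of_comp_thickening' F i (fun U V e => ?_) ?_
      · rw [K262.NilFT.ker_eq_comap_of_isPullback hc, Groth.Agent.Divis.IdealComap.ideal_comap j.ker F U V e]
        refine ⟨?_, (hfg U).map _⟩
        obtain ⟨n, hn⟩ := hjnil U
        refine ⟨n, ?_⟩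
        rw [← Ideal.map_pow, hn, Ideal.zero_eq_bot, Ideal.map_bot, Ideal.zero_eq_bot]
      · rw [← hc.w]; infer_instance
    exact (IsFinite.iff_isIntegralHom_and_locallyOfFiniteType F).mpr ⟨h1, h2⟩

end Groth.Agent.S13998
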