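import Groth.Statements.S14000
-- import your own Groth.Agent.* helpers here
import Groth.Agent.Perf.K370.EulerZero

set_option autoImplicit false
universe u
open Perf

namespace Groth.Agent.S14000

open CategoryTheory CategoryTheory.Limits in
/-- Let A be a commutative ring and P a strictly perfect complex over A, that is a cochain complex of
finitely generated projective A-modules which is zero outside a finite set s of degrees. Suppose the
cohomological support of P has positive codimension: for every minimal prime q of A and every degree
i the localization at q of the cohomology module H^i(P) is zero. Then the Euler characteristic of P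
vanishes identically: at every prime of A the alternating sum over i ∈ s of the ranks of the P^i is
zero. -/
theorem result {A : Type u} [CommRing A]
    (P : CochainComplex (ModuleCat.{u} A) ℤ) (s : Finset ℤ)
    (hP : ∀ i : ℤ, Module.Finite A (P.X i) ∧ Module.Projective A (P.X i))
    (hs : ∀ i : ℤ, i ∉ s → IsZero (P.X i))
    (hsupp : ∀ q : PrimeSpectrum A, q.asIdeal ∈ minimalPrimes A →
      ∀ i : ℤ, Subsingleton (LocalizedModule q.asIdeal.primeCompl (P.homology i))) :
    ∀ x : PrimeSpectrum A,
      (s.sum fun i => ((i.negOnePow : ℤˣ) : ℤ) * (Module.rankAtStalk (R := A) (P.X i) x : ℤ)) = 0 := by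
  intro x
  obtain ⟨q, hq, hqx⟩ := Ideal.exists_minimalPrimes_le (bot_le (a := x.asIdeal))
  have hqp : q.IsPrime := hq.1.1
  have key := K370.EulerZero.euler_eq_zero P s hP hs ⟨q, hqp⟩ (hsupp ⟨q, hqp⟩ hq)
  rw [← key]
  refine Finset.sum_congr rfl fun i _ => ?_
  obtain ⟨_, _⟩ := hP i
  rw [Module.rankAtStalk_eq_of_le_of_finite_of_flat _ (show (⟨q, hqp⟩ : PrimeSpectrum A) ≤ x from hqx)]

end Groth.Agent.S14000
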