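import Groth.Statements.S14001
import Groth.Agent.KZero.K233.FinSupp
import Groth.Agent.Sga67.KZeroDb
import Groth.Agent.PerfA.BddDev
import Groth.Agent.Flat2H.KoszulRes
import Groth.Agent.LoccohB.PerfTri

set_option autoImplicit false
universe u
open CategoryTheory
attribute [local instance] HasDerivedCategory.standard
open KZero

namespace Groth.Agent.S14001

open CategoryTheory.Limits Groth.Agent K233.FinSupp Groth.Agent.Flat2H.KoszulReg Groth.Agent.Flat2H.KoszulRes

/-- For a regular sequence generating the maximal ideal the Koszul complex is the residue field in `D(R)`. -/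
theorem nonempty_iso (R : Type u) [CommRing R] [IsLocalRing R] (fs : List R)
    (hreg : RingTheory.Sequence.IsRegular R fs) (hgen : Ideal.ofList fs = IsLocalRing.maximalIdeal R) :
    Nonempty (DRing.toD (Koszul.koszul R fs) ≅ Dual.inD R (R ⧸ IsLocalRing.maximalIdeal R)) := by
  obtain ⟨e⟩ := nonempty_Q_kos_iso_of_kReg (kReg_of_isWeaklyRegular hreg.toIsWeaklyRegular)
  rw [koszul_eq_kos]
  refine ⟨e ≪≫ DerivedCategory.Q.mapIso ((CochainComplex.singleFunctor _ 0).mapIso
    (LinearEquiv.toModuleIso (Submodule.quotEquivOfEq (Ideal.ofList fs • ⊤ : Submodule R R)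
      (IsLocalRing.maximalIdeal R) (by simp [hgen])))) ≪≫ ?_⟩
  exact ((DerivedCategory.singleFunctorIsoCompQ _ 0).app _).symm

/-- The homology of a complex of finite modules over a Noetherian ring is finite. -/
theorem finite_homology {R : Type u} [CommRing R] [IsNoetherianRing R] (E : DRing.Cx R)
    (hE : ∀ i, Module.Finite R (E.X i)) (i : ℤ) : Module.Finite R (E.homology i) := by
  have h1 : Module.Finite R (E.sc i).X₂ := hE i
  have h2 : Module.Finite R (LinearMap.ker (E.sc i).g.hom) := Module.IsNoetherian.finite R _
  have h3 : Module.Finite R (LinearMap.ker (E.sc i).g.hom ⧸ LinearMap.range (E.sc i).moduleCatToCycles) :=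
    inferInstance
  exact @Module.Finite.equiv _ _ _ _ _ _ _ _ h3 (E.sc i).moduleCatHomologyIso.symm.toLinearEquiv

/-- The perfect objects with cohomology supported at the closed point are the bounded objects with finite cohomology
supported at the closed point. -/
theorem eq_Pb (R : Type u) [CommRing R] [IsNoetherianRing R] [IsLocalRing R] (fs : List R)
    (hreg : RingTheory.Sequence.IsRegular R fs) (hgen : Ideal.ofList fs = IsLocalRing.maximalIdeal R) :
    (fun K : Dual.D R => DRing.IsPerfect R K ∧
      ∀ i : ℤ, Module.support R (Dual.HD R K i) ⊆ {IsLocalRing.closedPoint R}) =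
      Sga67.KZeroDb.Pb (finSupp R) := by
  funext K
  refine propext ⟨?_, ?_⟩
  · rintro ⟨⟨E, a, b, hab, hE, ⟨e⟩⟩, h2⟩
    refine ⟨fun i => ⟨?_, h2 i⟩, a, b, ?_, ?_⟩
    · have h3 := finite_homology E (fun i => (hE i).1) i
      exact @Module.Finite.equiv _ _ _ _ _ _ _ _ h3
        (((DerivedCategory.homologyFunctorFactors _ i).symm.app E) ≪≫
          (DerivedCategory.homologyFunctor _ i).mapIso e).toLinearEquiv
    · have h3 : E.IsStrictlyGE a := (CochainComplex.isStrictlyGE_iff _ _).2 fun i hi => hab i (Or.inl hi)
      have h4 : (DerivedCategory.Q.obj E).IsGE a := inferInstance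
      exact (DerivedCategory.TStructure.t (C := ModuleCat.{u} R)).isGE_of_iso e a
    · have h3 : E.IsStrictlyLE b := (CochainComplex.isStrictlyLE_iff _ _).2 fun i hi => hab i (Or.inr hi)
      have h4 : (DerivedCategory.Q.obj E).IsLE b := inferInstance
      exact (DerivedCategory.TStructure.t (C := ModuleCat.{u} R)).isLE_of_iso e b
  · rintro ⟨h1, a, b, ha, hb⟩
    refine ⟨?_, fun i => (h1 i).2⟩
    have : K.IsGE a := ha
    have : K.IsLE b := hb
    refine PerfA.BddDev.devissage (finSupp R) (DRing.IsPerfect R) ?_ ?_ ?_ K a b h1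
    · intro K L e h
      exact LoccohB.PerfTri.isPerfect_of_iso e h
    · intro M n hM
      have h0 : DRing.IsPerfect R ((DerivedCategory.singleFunctor (ModuleCat.{u} R) 0).obj M) := by
        refine K233.FinSupp.induction (fun M => DRing.IsPerfect R
          ((DerivedCategory.singleFunctor (ModuleCat.{u} R) 0).obj M)) ?_ ?_ ?_ M hM
        · intro M hM
          have h1 : Subsingleton M := ModuleCat.isZero_iff_subsingleton.1 hM
          have h2 : Module.Finite R M := inferInstance
          have h3 : Module.Projective R M := inferInstance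
          exact LoccohB.PerfTri.isPerfect_inD_of_projective M
        · intro M e
          obtain ⟨e'⟩ := nonempty_iso R fs hreg hgen
          refine LoccohB.PerfTri.isPerfect_of_iso
            (e' ≪≫ (DerivedCategory.singleFunctor (ModuleCat.{u} R) 0).mapIso e.symm) ?_
          exact ⟨_, _, _, vanishesOutside_koszul fs, fun i => by
            have := (finite_free_koszul_X fs i).1
            have := (finite_free_koszul_X fs i).2
            exact ⟨inferInstance, inferInstance⟩, ⟨Iso.refl _⟩⟩
        · intro S hS _ _ _ h1 h3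
          exact LoccohB.PerfTri.isPerfect_obj₂ hS.singleTriangle_distinguished h1 h3
      exact LoccohB.PerfTri.isPerfect_of_iso
        (((DerivedCategory.singleFunctors (ModuleCat.{u} R)).shiftIso (-n) n 0 (by omega)).app M)
        (LoccohB.PerfTri.isPerfect_shift (-n) h0)
    · intro T hT h1 h3
      exact LoccohB.PerfTri.isPerfect_obj₂ hT h1 h3

/-- Let R be a Noetherian local ring whose maximal ideal is generated by an R-regular sequence f_1, …,
f_n. Let K_0 be the Grothendieck group of the full triangulated subcategory of D(R) consisting of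
the perfect complexes all of whose cohomology modules are supported at the closed point (the perfect
complexes acyclic off the closed point): the free abelian group on these objects modulo the
relations of distinguished triangles with all three vertices in the subcategory. Then K_0 is
generated by the class of the Koszul complex of f_1, …, f_n. -/
theorem result (R : Type u) [CommRing R]
    [IsNoetherianRing R] [IsLocalRing R] (fs : List R) (hreg : RingTheory.Sequence.IsRegular R fs)
    (hgen : Ideal.ofList fs = IsLocalRing.maximalIdeal R) :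
    AddSubgroup.closure
        {KZero.clTr (fun K : Dual.D R => DRing.IsPerfect R K ∧
            ∀ i : ℤ, Module.support R (Dual.HD R K i) ⊆ {IsLocalRing.closedPoint R})
          (DRing.toD (Koszul.koszul R fs))} = ⊤ := by
  have hQ := eq_Pb R fs hreg hgen
  obtain ⟨e₀⟩ := nonempty_iso R fs hreg hgen
  rw [hQ]
  set P := finSupp R
  set R' := AddSubgroup.closure
        {KZero.clTr (Sga67.KZeroDb.Pb P) (DRing.toD (Koszul.koszul R fs))} with hR'
  obtain ⟨φ, hφ⟩ := Sga67.KZeroDb.exists_equiv (P := P)
  have hres : P (ModuleCat.of R (R ⧸ IsLocalRing.maximalIdeal R)) := by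
    refine ⟨?_, ?_⟩
    · change Module.Finite R (R ⧸ IsLocalRing.maximalIdeal R)
      infer_instance
    · intro p hp
      change p ∈ Module.support R (R ⧸ IsLocalRing.maximalIdeal R) at hp
      rw [Module.mem_support_iff_of_finite, Ideal.annihilator_quotient] at hp
      exact PrimeSpectrum.ext ((IsLocalRing.maximalIdeal.isMaximal R).eq_of_le p.2.ne_top hp).symm
  have key : ∀ M : ModuleCat.{u} R, P M → P M →
      KZero.clTr (Sga67.KZeroDb.Pb P) ((DerivedCategory.singleFunctor (ModuleCat.{u} R) 0).obj M) ∈ R' := by
    intro M hM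
    refine K233.FinSupp.induction (fun M => P M → KZero.clTr (Sga67.KZeroDb.Pb P)
      ((DerivedCategory.singleFunctor (ModuleCat.{u} R) 0).obj M) ∈ R') ?_ ?_ ?_ M hM
    · intro M hM _
      rw [Sga67.KTrBasic.clTr_isZero _ ((DerivedCategory.singleFunctor _ 0).map_isZero hM)]
      exact R'.zero_mem
    · intro M e _
      have h1 : KZero.clTr (Sga67.KZeroDb.Pb P)
          ((DerivedCategory.singleFunctor (ModuleCat.{u} R) 0).obj M) =
          KZero.clTr (Sga67.KZeroDb.Pb P) (DRing.toD (Koszul.koszul R fs)) :=
        Sga67.KTrBasic.clTr_iso ((DerivedCategory.singleFunctor (ModuleCat.{u} R) 0).mapIso e ≪≫ e₀.symm)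
      rw [h1]
      exact AddSubgroup.subset_closure rfl
    · intro S hS f1 f2 f3 h1 h3 _
      have := Sga67.KTrBasic.clTr_add (P := Sga67.KZeroDb.Pb P) hS.singleTriangle
        hS.singleTriangle_distinguished (Sga67.KZeroDb.Pb_single f1) (Sga67.KZeroDb.Pb_single f2)
        (Sga67.KZeroDb.Pb_single f3)
      change KZero.clTr (Sga67.KZeroDb.Pb P)
          ((DerivedCategory.singleFunctor (ModuleCat.{u} R) 0).obj S.X₂) =
        KZero.clTr (Sga67.KZeroDb.Pb P)
          ((DerivedCategory.singleFunctor (ModuleCat.{u} R) 0).obj S.X₁) +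
        KZero.clTr (Sga67.KZeroDb.Pb P)
          ((DerivedCategory.singleFunctor (ModuleCat.{u} R) 0).obj S.X₃) at this
      rw [this]
      exact R'.add_mem (h1 f1) (h3 f3)
  rw [eq_top_iff]
  rintro x -
  obtain ⟨y, rfl⟩ := φ.surjective x
  have h5 : y ∈ R'.comap φ.toAddMonoidHom := by
    refine Sga67.KTrBasic.mem_of_forall _ (fun M hM => ?_) y
    change φ (KZero.clSub P M) ∈ R'
    rw [hφ M hM]
    exact key M hM hM
  exact h5

end Groth.Agent.S14001
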