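import Groth.Statements.S14002
import Groth.Agent.S0396
import Mathlib.RingTheory.Flat.Localization
-- import your own Groth.Agent.* helpers here

set_option autoImplicit false
universe u
open CAlg

namespace Groth.Agent.S14002

open TensorProduct in
/-- Flatness of an adic morphism of locally Noetherian formal schemes is detected on the truncations.
Let B → A be a homomorphism of Noetherian rings and J an ideal of B such that A is adically
separated and complete with respect to the extended ideal JA. Then A is a flat B-module if and only
if for every n ≥ 1 the base change (B/Jⁿ) ⊗_B A = A/JⁿA is a flat (B/Jⁿ)-module. The ring B is not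
assumed separated or complete for the J-adic topology. (The published statement is about an adic
morphism of locally Noetherian formal schemes, so that both rings are adic there; the criterion
holds without that assumption on B.) -/
theorem result (B A : Type u) [CommRing B] [CommRing A]
    [IsNoetherianRing B] [IsNoetherianRing A] [Algebra B A] (J : Ideal B)
    [IsAdicComplete (J.map (algebraMap B A)) A] :
    Module.Flat B A ↔ ∀ n : ℕ, 0 < n → Module.Flat (B ⧸ J ^ n) ((B ⧸ J ^ n) ⊗[B] A) := by
  constructor
  · intro h n _
    exact Module.Flat.baseChange B (B ⧸ J ^ n) A
  · intro h
    have hjac : J.map (algebraMap B A) ≤ Ideal.jacobson ⊥ := IsAdicComplete.le_jacobson_bot _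
    refine Module.flat_of_isLocalized_maximal (R := B) (S := A) A
      (fun P _ => LocalizedModule P.primeCompl A)
      (fun P _ => LocalizedModule.mkLinearMap P.primeCompl A) ?_
    intro P hP
    refine Groth.Agent.S0396.result (M := A) J h P ?_
    refine hjac.trans ?_
    rw [Ideal.jacobson]
    exact sInf_le ⟨bot_le, hP⟩

end Groth.Agent.S14002
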