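import Groth.Statements.S14003
import Groth.Agent.Ega3B.Devissage
import Groth.Agent.Sga67.KTrBasic
import Mathlib.RingTheory.Length

set_option autoImplicit false
universe u
open CategoryTheory AlgebraicGeometry
open KZero

namespace Groth.Agent.S14003

/-- Let X be a Noetherian scheme and Y' a closed subset; write K_0 for the Grothendieck group of the
abelian category of coherent O_X-modules with support in Y' (free abelian group on its objects
modulo the relations of short exact sequences). Let (F_a) be a family of such modules such that for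
every irreducible closed subset Z ⊆ Y' with generic point ζ there is an index a with the support of
F_a contained in Z and the stalk of F_a at ζ of length one over the local ring (a one-dimensional
vector space over the residue field). Then the classes of the F_a generate K_0. (The published
statement omits the condition that the support of F_a lie in Z; without it the claim fails already
for the spectrum of a product of two fields, where the modules k_1 ⊕ k_2 ⊕ k_2 and k_1 ⊕ k_1 ⊕ k_2
have one-dimensional stalks at the two points but their classes generate a subgroup of index 3 in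
K_0 = ℤ².) -/
theorem result (X : Scheme.{u}) [IsNoetherian X]
    (Y' : Set X) (hY' : IsClosed Y') {ι : Type u} (F : ι → X.Modules)
    (hF : ∀ a : ι, Coh.IsCoh (F a) ∧ CohB1.support (F a) ⊆ Y')
    (hgen : ∀ (Z : Set X), IsClosed Z → IsIrreducible Z → Z ⊆ Y' → ∀ y : X, closure ({y} : Set X) = Z →
      ∃ a : ι, CohB1.support (F a) ⊆ Z ∧ Module.length (X.presheaf.stalk y) ((F a).presheaf.stalk y) = 1) :
    AddSubgroup.closure (Set.range fun a : ι =>
        KZero.clSub (fun G : X.Modules => Coh.IsCoh G ∧ CohB1.support G ⊆ Y') (F a)) = ⊤ := by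
  set Q : ObjectProperty X.Modules := fun G => Coh.IsCoh G ∧ CohB1.support G ⊆ Y' with hQ
  set R := AddSubgroup.closure (Set.range fun a : ι => KZero.clSub Q (F a)) with hR
  have key : ∀ M : X.Modules, Coh.IsCoh M → CohB1.support M ⊆ Y' → KZero.clSub Q M ∈ R := by
    intro M hM hMs
    refine Groth.Agent.Ega3B.Devissage.devissage Y' hY' (fun M => KZero.clSub Q M ∈ R) ?_ ?_ ?_ M hM hMs
    · intro M hM
      rw [Groth.Agent.Sga67.KTrBasic.clSub_isZero M hM]
      exact R.zero_mem
    · intro S hS h1 h2 h3 hs
      have := hS.mono_f
      have := hS.epi_g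
      have q2 : Q S.X₂ := ⟨h2, hs⟩
      have q1 : Q S.X₁ := ⟨h1, (Groth.Agent.Ega3B.Devissage.support_subset_of_mono S.f).trans hs⟩
      have q3 : Q S.X₃ := ⟨h3, (Groth.Agent.Ega3B.Devissage.support_subset_of_epi S.g).trans hs⟩
      have hadd := Groth.Agent.Sga67.KTrBasic.clSub_add hS q1 q2 q3
      refine ⟨fun m1 m2 => ?_, fun m1 m3 => ?_, fun m2 m3 => ?_⟩
      · have e : KZero.clSub Q S.X₃ = KZero.clSub Q S.X₂ - KZero.clSub Q S.X₁ := by
          rw [hadd]; abel
        change KZero.clSub Q S.X₃ ∈ R
        rw [e]
        exact R.sub_mem m2 m1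
      · change KZero.clSub Q S.X₂ ∈ R
        rw [hadd]
        exact R.add_mem m1 m3
      · have e : KZero.clSub Q S.X₁ = KZero.clSub Q S.X₂ - KZero.clSub Q S.X₃ := by
          rw [hadd]; abel
        change KZero.clSub Q S.X₁ ∈ R
        rw [e]
        exact R.sub_mem m2 m3
    · intro y hy
      obtain ⟨a, ha, hlen⟩ := hgen (closure {y}) isClosed_closure
        isIrreducible_singleton.closure (closure_minimal (Set.singleton_subset_iff.mpr hy) hY') y rfl
      exact ⟨F a, (hF a).1, AddSubgroup.subset_closure ⟨a, rfl⟩, ha, Module.length_eq_one_iff.mp hlen⟩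
  rw [eq_top_iff]
  rintro x -
  exact Groth.Agent.Sga67.KTrBasic.mem_of_forall R (fun M hM => key M hM.1 hM.2) x

end Groth.Agent.S14003
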