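import Groth.Statements.S14004
import Groth.Agent.S1321
import Groth.Agent.S3857
import Groth.Agent.Fcompl.H545.SysBasic

set_option autoImplicit false
universe u
open CategoryTheory AlgebraicGeometry
open FSch

namespace Groth.Agent.S14004

/-- Formal schemes are modelled as ℕ-indexed systems of thickenings. Let 𝔛 and 𝔜 be locally Noetherian
adic formal systems and f : 𝔛 ⟶ 𝔜 an adic morphism (every square X_n → X_{n+1}, Y_n → Y_{n+1}
cartesian) all of whose levels f_n : X_n ⟶ Y_n are flat. Then f is smooth, in the sense that every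
level f_n is smooth, if and only if the bottom level f_0 is smooth. -/
theorem result (𝔛 𝔜 : FSch.Sys.{u})
    (h𝔛 : 𝔛.IsLocNoethFormal) (h𝔜 : 𝔜.IsLocNoethFormal) (f : 𝔛 ⟶ 𝔜) (hf : FSch.IsAdicHom f)
    (hflat : ∀ n : ℕ, Flat ((f : FSch.Hom 𝔛 𝔜).app n)) :
    (∀ n : ℕ, AlgebraicGeometry.Smooth ((f : FSch.Hom 𝔛 𝔜).app n)) ↔
      AlgebraicGeometry.Smooth ((f : FSch.Hom 𝔛 𝔜).app 0) := by
  refine ⟨fun h => h 0, fun h0 n => ?_⟩
  have hsq := S3857.isPullback_toX f hf n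
  have hS : MoreMor.IsFiniteOrderThickening (𝔜.toX n) :=
    ⟨⟨S3857.isClosedImmersion_toX 𝔜 h𝔜.1 n, S3857.surjective_toX 𝔜 h𝔜.1 n⟩,
      ⟨n + 1, Fcompl.H545.SysBasic.ker_toX_pow_eq_bot 𝔜 h𝔜.1 h𝔜.2.1 n⟩⟩
  have : Flat ((f : FSch.Hom 𝔛 𝔜).app n ≫ 𝟙 _) := by
    rw [Category.comp_id]; exact hflat n
  refine (S1321.result (𝔛.toX n) (𝔜.toX n) (𝔜.toX n) ((f : FSch.Hom 𝔛 𝔜).app 0)
    ((f : FSch.Hom 𝔛 𝔜).app n) (𝟙 _) (𝟙 _) hS ?_ ?_ hsq.w).mp h0
  · rw [Category.comp_id, Category.comp_id]; exact hsq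
  · exact IsPullback.of_vert_isIso ⟨by rw [Category.comp_id, Category.id_comp]⟩

end Groth.Agent.S14004
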