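import Groth.Statements.S14005
import Mathlib.Topology.Sheaves.Stalks
import Mathlib.Topology.NoetherianSpace
import Mathlib.Topology.Sober
import Mathlib.AlgebraicGeometry.Noetherian

set_option autoImplicit false
universe u
open CategoryTheory AlgebraicGeometry
open CohTop

namespace Groth.Agent.S14005

open TopologicalSpace

theorem main {X : TopCat.{u}} [T0Space X] [QuasiSober X]
    (hX : ∀ x : X, ∃ U : Opens X, x ∈ U ∧ TopologicalSpace.NoetherianSpace U)
    (F : TopCat.Presheaf AddCommGrpCat.{u} X) (x : X) (s : F.stalk x) :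
    (∃ (U : Opens X) (hx : x ∈ U) (t : F.obj (Opposite.op U)),
        F.germ U x hx t = s ∧
          ∀ (u : X) (hu : u ∈ U), F.germ U u hu t ≠ 0 → u ∈ closure ({x} : Set X)) ↔
      ∀ (y : X) (h : y ⤳ x), y ≠ x → F.stalkSpecializes h s = 0 := by
  constructor
  · rintro ⟨U, hx, t, rfl, ht⟩ y h hyx
    have e : F.stalkSpecializes h (F.germ U x hx t) = F.germ U y (h.mem_open U.isOpen hx) t :=
      ConcreteCategory.congr_hom (F.germ_stalkSpecializes hx h) t
    rw [e]
    by_contra hne
    have h2 : x ⤳ y := specializes_iff_mem_closure.2 (ht y (h.mem_open U.isOpen hx) hne)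
    exact hyx (h.antisymm h2).eq
  · intro H
    obtain ⟨U₀, hx₀, t₀, rfl⟩ := F.exists_germ_eq s
    obtain ⟨U₁, hx₁, hN⟩ := hX x
    let U : Opens X := U₀ ⊓ U₁
    have hU₀ : U ≤ U₀ := inf_le_left
    have hxU : x ∈ U := ⟨hx₀, hx₁⟩
    let t : F.obj (Opposite.op U) := F.map (homOfLE hU₀).op t₀
    have ht : ∀ (u : X) (hu : u ∈ U), F.germ U u hu t = F.germ U₀ u (hU₀ hu) t₀ := fun u hu =>
      F.germ_res_apply (homOfLE hU₀) u hu t₀
    have hNU : NoetherianSpace U := by
      have : Topology.IsInducing (Set.inclusion (show (U : Set X) ⊆ U₁ from inf_le_right)) :=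
        (Topology.IsEmbedding.inclusion _).isInducing
      exact this.noetherianSpace
    have hQ : QuasiSober U := U.isOpenEmbedding'.quasiSober
    let Z : Set U := {u | F.germ U u.1 u.2 t ≠ 0}
    have hZ : IsClosed Z := by
      rw [← isOpen_compl_iff, isOpen_iff_mem_nhds]
      intro u hu
      have hu0 : F.germ U u.1 u.2 t = F.germ U u.1 u.2 (0 : F.obj (Opposite.op U)) := by
        have : F.germ U u.1 u.2 t = 0 := by simpa [Z] using hu
        rw [this, map_zero]
      obtain ⟨W, hW, i₁, i₂, e⟩ := F.germ_eq u.1 u.2 u.2 _ _ hu0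
      refine Filter.mem_of_superset ((W.isOpen.preimage continuous_subtype_val).mem_nhds hW) ?_
      intro v hv
      have e1 : F.germ W v.1 hv (F.map i₁.op t) = F.germ U v.1 v.2 t := F.germ_res_apply i₁ v.1 hv t
      have e2 : F.germ U v.1 v.2 t = 0 := by
        rw [← e1, e, map_zero, map_zero]
      simpa [Z] using e2
    obtain ⟨S, hSf, hSc, hSi, hS⟩ := NoetherianSpace.exists_finite_set_isClosed_irreducible hZ
    let C : Set U := ⋃₀ {T ∈ S | (⟨x, hxU⟩ : U) ∉ T}
    have hC : IsClosed C := by
      rw [show C = ⋃ T ∈ {T ∈ S | (⟨x, hxU⟩ : U) ∉ T}, T from Set.sUnion_eq_biUnion]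
      exact (hSf.subset (fun T hT => hT.1)).isClosed_biUnion (fun T hT => hSc T hT.1)
    have hxC : (⟨x, hxU⟩ : U) ∉ C := by
      rintro ⟨T, hT, hxT⟩
      exact hT.2 hxT
    obtain ⟨W, hW, hWC⟩ := isOpen_induced_iff.1 hC.isOpen_compl
    let V : Opens X := U ⊓ ⟨W, hW⟩
    have hVU : V ≤ U := inf_le_left
    have hxV : x ∈ V := ⟨hxU, by
      have : (⟨x, hxU⟩ : U) ∈ Subtype.val ⁻¹' W := by rw [hWC]; exact hxC
      exact this⟩
    refine ⟨V, hxV, F.map (homOfLE hVU).op t, ?_, ?_⟩
    · rw [F.germ_res_apply (homOfLE hVU) x hxV t]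
      exact ht x hxU
    · intro u hu hne
      rw [F.germ_res_apply (homOfLE hVU) u hu t] at hne
      have huZ : (⟨u, hVU hu⟩ : U) ∈ Z := hne
      rw [hS] at huZ
      obtain ⟨T, hT, huT⟩ := huZ
      have huC : (⟨u, hVU hu⟩ : U) ∉ C := by
        have : (⟨u, hVU hu⟩ : U) ∈ Subtype.val ⁻¹' W := hu.2
        rw [hWC] at this
        exact this
      have hxT : (⟨x, hxU⟩ : U) ∈ T := by
        by_contra h
        exact huC ⟨T, ⟨hT, h⟩, huT⟩
      -- the generic point of T
      obtain ⟨g, hg⟩ := QuasiSober.sober (hSi T hT) (hSc T hT)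
      have hgT : g ∈ T := hg.mem
      have hgx : g ⤳ (⟨x, hxU⟩ : U) := hg.specializes hxT
      have hgx' : g.1 ⤳ x := hgx.map continuous_subtype_val
      have hgZ : g ∈ Z := by
        rw [hS]
        exact ⟨T, hT, hgT⟩
      have hgeq : g.1 = x := by
        by_contra hne'
        have h0 := H g.1 hgx' hne'
        have e : F.stalkSpecializes hgx' (F.germ U₀ x hx₀ t₀) =
            F.germ U₀ g.1 (hgx'.mem_open U₀.isOpen hx₀) t₀ :=
          ConcreteCategory.congr_hom (F.germ_stalkSpecializes hx₀ hgx') t₀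
        rw [e] at h0
        exact hgZ ((ht g.1 g.2).trans h0)
      have hgu : g ⤳ (⟨u, hVU hu⟩ : U) := hg.specializes huT
      have hgu' : g.1 ⤳ u := hgu.map continuous_subtype_val
      rw [hgeq] at hgu'
      exact specializes_iff_mem_closure.1 hgu'


/-- Take a scheme X with a locally Noetherian underlying topological space, F a sheaf of abelian groups
on X, x a point of X and s an element of the stalk F_x. Then the following are equivalent: (i) s is
the germ of a section t over some open neighbourhood U of x whose support in U is contained in the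
closure of {x} (that is, s belongs to the subgroup Γ_x(F) of F_x); (ii) for every generization y ≠ x
of x the image of s under the cospecialisation map F_x → F_y is zero (that is, viewed as a global
section of the inverse image of F on Spec O_{X,x}, s is supported at the closed point). -/
theorem result {X : Scheme.{u}}
    (hX : ∀ x : X, ∃ U : X.Opens, x ∈ U ∧ TopologicalSpace.NoetherianSpace U)
    (F : TopCat.Sheaf AddCommGrpCat.{u} X.carrier) (x : X) (s : F.presheaf.stalk x) :
    (∃ (U : X.Opens) (hx : x ∈ U) (t : F.presheaf.obj (Opposite.op U)),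
        F.presheaf.germ U x hx t = s ∧
          ∀ (u : X) (hu : u ∈ U), F.presheaf.germ U u hu t ≠ 0 → u ∈ closure ({x} : Set X)) ↔
      ∀ (y : X) (h : y ⤳ x), y ≠ x → F.presheaf.stalkSpecializes h s = 0 := by
  exact main (X := X.carrier) hX F.presheaf x s

end Groth.Agent.S14005
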