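import Groth.Statements.S14006
-- import your own Groth.Agent.* helpers here
import Groth.Agent.FSch.K655.SmLift
import Groth.Agent.FSch.K655.BcSys

set_option autoImplicit false
universe u
open CategoryTheory AlgebraicGeometry
open FSch

namespace Groth.Agent.S14006

/-- Formal schemes are modelled as ℕ-indexed systems of thickenings. Let S be a locally Noetherian
scheme, 𝒥 a quasi-coherent ideal of O_S, 𝔖 the completion of S along 𝒥 (the system of the closed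
subschemes defined by the powers 𝒥^{n+1}) and S₀ its bottom level. Let X₀ and Y₀ be schemes smooth
over S₀ via a and b, f : X₀ ⟶ Y₀ a morphism with f ≫ b = a, and x a point of X₀. Then there are an
open neighbourhood U₀ of x and an open V₀ of Y₀ with f(U₀) ⊆ V₀, systems 𝔘 and 𝔙 with adic morphisms
p : 𝔘 ⟶ 𝔖 and q : 𝔙 ⟶ 𝔖 (all squares cartesian) all of whose levels are smooth, a morphism Φ : 𝔘 ⟶ 𝔙
with Φ ≫ q = p, and isomorphisms of the bottom levels of 𝔘 and 𝔙 with U₀ and V₀, compatible with the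
maps to S₀, under which the bottom level of Φ is the restriction U₀ ⟶ V₀ of f. In words: locally on
X₀ the morphism f has a smooth formal lifting over 𝔖. -/
theorem result (S : Scheme.{u}) [IsLocallyNoetherian S]
    (𝒥 : S.IdealSheafData) {X₀ Y₀ : Scheme.{u}}
    (a : X₀ ⟶ (FSch.completionAlong S 𝒥).X 0) (b : Y₀ ⟶ (FSch.completionAlong S 𝒥).X 0)
    [AlgebraicGeometry.Smooth a] [AlgebraicGeometry.Smooth b] (f : X₀ ⟶ Y₀) (w : f ≫ b = a) (x : X₀) :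
    ∃ (U₀ : X₀.Opens) (V₀ : Y₀.Opens) (hU : x ∈ U₀) (hUV : U₀ ≤ f ⁻¹ᵁ V₀)
      (𝔘 𝔙 : FSch.Sys.{u}) (p : 𝔘 ⟶ FSch.completionAlong S 𝒥) (q : 𝔙 ⟶ FSch.completionAlong S 𝒥)
      (Φ : 𝔘 ⟶ 𝔙) (eU : 𝔘.X 0 ≅ U₀.toScheme) (eV : 𝔙.X 0 ≅ V₀.toScheme),
      Φ ≫ q = p ∧ FSch.IsAdicHom p ∧ FSch.IsAdicHom q ∧
      (∀ n : ℕ, AlgebraicGeometry.Smooth ((p : FSch.Hom 𝔘 _).app n)) ∧
      (∀ n : ℕ, AlgebraicGeometry.Smooth ((q : FSch.Hom 𝔙 _).app n)) ∧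
      eU.hom ≫ U₀.ι ≫ a = (p : FSch.Hom 𝔘 _).app 0 ∧
      eV.hom ≫ V₀.ι ≫ b = (q : FSch.Hom 𝔙 _).app 0 ∧
      (Φ : FSch.Hom 𝔘 𝔙).app 0 ≫ eV.hom = eU.hom ≫ f.resLE V₀ U₀ hUV := by
  have hi : IsClosedImmersion (completionToX S 𝒥 0) := K655.BcSys.isClosedImmersion_toS 𝒥 0
  obtain ⟨V₀, hxV, -, V, hVaff, v, jV, hv, hVpb⟩ :=
    K655.SmLift.exists_lift (completionToX S 𝒥 0) b ⊤ (f x) trivial
  obtain ⟨U₀, hxU, hUV, U, hUaff, u, jU, hu, hUpb⟩ :=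
    K655.SmLift.exists_lift (completionToX S 𝒥 0) a (f ⁻¹ᵁ V₀) x hxV
  let eU := (K655.BcSys.isPullback_bcFst 𝒥 u 0).isoIsPullback _ _ hUpb
  let eV := (K655.BcSys.isPullback_bcFst 𝒥 v 0).isoIsPullback _ _ hVpb
  have heU : eU.hom ≫ U₀.ι ≫ a = (K655.BcSys.bcHom 𝒥 u : FSch.Hom _ _).app 0 :=
    IsPullback.isoIsPullback_hom_snd _ _ _ _
  have heV : eV.hom ≫ V₀.ι ≫ b = (K655.BcSys.bcHom 𝒥 v : FSch.Hom _ _).app 0 :=
    IsPullback.isoIsPullback_hom_snd _ _ _ _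
  obtain ⟨Φ, hΦ, hΦ0⟩ := K655.BcSys.exists_hom 𝒥 u v (eU.hom ≫ f.resLE V₀ U₀ hUV ≫ eV.inv) (by
    rw [← heV, ← heU]
    simp only [Category.assoc, Iso.inv_hom_id_assoc]
    rw [← Category.assoc (f.resLE V₀ U₀ hUV), Scheme.Hom.resLE_comp_ι, Category.assoc, w])
  refine ⟨U₀, V₀, hxU, hUV, K655.BcSys.bc 𝒥 u, K655.BcSys.bc 𝒥 v, K655.BcSys.bcHom 𝒥 u,
    K655.BcSys.bcHom 𝒥 v, Φ, eU, eV, hΦ, K655.BcSys.isAdicHom_bcHom 𝒥 u,
    K655.BcSys.isAdicHom_bcHom 𝒥 v, K655.BcSys.smooth_bcHom 𝒥 u, K655.BcSys.smooth_bcHom 𝒥 v,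
    heU, heV, ?_⟩
  rw [hΦ0]
  simp

end Groth.Agent.S14006
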