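import Groth.Statements.S14007
import Groth.Agent.Ega3B.Devissage
import Groth.Agent.Sga67.KZeroDb
import Groth.Agent.PerfA.CohSerre
import Groth.Agent.PerfA.BddDev
import Groth.Agent.PerfA.PerfLocal
import Groth.Agent.S0887
import Groth.Agent.S1006

set_option autoImplicit false
universe u
open CategoryTheory AlgebraicGeometry
attribute [local instance] HasDerivedCategory.standard
open KZero

namespace Groth.Agent.S14007

open CategoryTheory.Limits Groth.Agent.PerfA Groth.Agent.Ega3B.Devissage

/-- Coherent modules supported in `Y'`. -/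
abbrev cohSupp (X : Scheme.{u}) (Y' : Set X) : ObjectProperty X.Modules :=
  fun G => Coh.IsCoh G ∧ CohB1.support G ⊆ Y'

instance (X : Scheme.{u}) (Y' : Set X) : (cohSupp X Y').IsClosedUnderIsomorphisms where
  of_iso e h := ⟨CohSerre.isCoh_of_iso e h.1, (support_subset_of_epi e.hom).trans h.2⟩

instance (X : Scheme.{u}) (Y' : Set X) : (cohSupp X Y').ContainsZero where
  exists_zero := by
    have hz : IsZero (kernel (𝟙 (FlatMod.freeMod X 0))) := isZero_kernel_of_mono _
    refine ⟨_, hz, CohSerre.isCoh_of_isZero hz, fun x hx => ?_⟩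
    refine absurd hx (notMem_support_kernel _ x ?_)
    have : Mono (𝟙 (FlatMod.freeMod X 0)) := inferInstance
    exact Groth.Agent.CycB.StalkExact.stalkLin_injective _ x

instance (X : Scheme.{u}) [IsNoetherian X] (Y' : Set X) : (cohSupp X Y').IsClosedUnderKernels where
  kernels_le := by
    rintro _ ⟨f, k, hk, hf⟩
    have h1 := (cohSupp X Y').prop_of_iso
      (IsLimit.conePointUniqueUpToIso (kernelIsKernel f) hk)
      ⟨CohSerre.isCoh_kernel f hf.1.1 hf.2.1.1, (support_subset_of_mono (kernel.ι f)).trans hf.1.2⟩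
    exact h1

lemma isPerfect_single {X : Scheme.{u}} (M : X.Modules) (h : DCoh.IsPerfect (DCoh.inD X M))
    (n : ℤ) : DCoh.IsPerfect ((DerivedCategory.singleFunctor X.Modules n).obj M) :=
  PerfLocal.isPerfect_of_iso
    (((DerivedCategory.singleFunctors X.Modules).shiftIso (-n) n 0 (by omega)).app M)
    (PerfLocal.isPerfect_shift h (-n))

/-- Let X be a Noetherian scheme and Y' ⊆ X a closed subset, and suppose that every coherent O_X-module
with support in Y', viewed in degree 0, is a perfect object of D(O_X). Write K_0(C) for the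
Grothendieck group of the abelian category C of coherent O_X-modules supported in Y' (objects modulo
short exact sequences) and K_0(D) for that of the full triangulated subcategory D of D(O_X) on the
perfect complexes all of whose cohomology sheaves are supported in Y' (objects modulo distinguished
triangles with vertices in D). Then the homomorphism K_0(C) → K_0(D) induced by G ↦ G[0] is an
isomorphism: there is an isomorphism of groups carrying the class of every G in C to the class of
G[0]. -/
theorem result (X : Scheme.{u}) [IsNoetherian X]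
    (Y' : Set X) (hY' : IsClosed Y')
    (hperf : ∀ G : X.Modules, Coh.IsCoh G → CohB1.support G ⊆ Y' → DCoh.IsPerfect (DCoh.inD X G)) :
    ∃ φ : KZero.K0sub (fun G : X.Modules => Coh.IsCoh G ∧ CohB1.support G ⊆ Y') ≃+
        KZero.K0tr (fun K : DCoh.D X => DCoh.IsPerfect K ∧ ∀ i : ℤ, CohB1.support (DCoh.HD K i) ⊆ Y'),
      ∀ G : X.Modules, Coh.IsCoh G → CohB1.support G ⊆ Y' →
        φ (KZero.clSub (fun G : X.Modules => Coh.IsCoh G ∧ CohB1.support G ⊆ Y') G) =
          KZero.clTr (fun K : DCoh.D X => DCoh.IsPerfect K ∧ ∀ i : ℤ, CohB1.support (DCoh.HD K i) ⊆ Y')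
            (DCoh.inD X G) := by
  have hQP : (fun K : DCoh.D X => DCoh.IsPerfect K ∧ ∀ i : ℤ, CohB1.support (DCoh.HD K i) ⊆ Y') =
      Groth.Agent.Sga67.KZeroDb.Pb (cohSupp X Y') := by
    funext K
    refine propext ⟨?_, ?_⟩
    · rintro ⟨h1, h2⟩
      obtain ⟨h3, a, b, ha, hb⟩ := Groth.Agent.S1006.result X K h1
      exact ⟨fun i => ⟨h3 i, h2 i⟩, a, b, ha, hb⟩
    · rintro ⟨h1, a, b, ha, hb⟩
      refine ⟨?_, fun i => (h1 i).2⟩
      have : K.IsGE a := ha
      have : K.IsLE b := hb
      refine BddDev.devissage (cohSupp X Y') DCoh.IsPerfect PerfLocal.isPerfect_of_iso ?_ ?_ K a b h1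
      · intro M n hM
        exact isPerfect_single M (hperf M hM.1 hM.2) n
      · intro T hT h1 h3
        exact (Groth.Agent.S0887.result T hT).2.1 h1 h3
  rw [hQP]
  obtain ⟨φ, hφ⟩ := Groth.Agent.Sga67.KZeroDb.exists_equiv (P := cohSupp X Y')
  exact ⟨φ, fun G h1 h2 => hφ G ⟨h1, h2⟩⟩

end Groth.Agent.S14007
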