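import Groth.Statements.S14012
import Groth.Agent.EtModW.K337.LimEpi
import Groth.Agent.EtModW.K337.Lin

set_option autoImplicit false
open CategoryTheory CategoryTheory.Limits AlgebraicGeometry Opposite
universe u
open EtModW

namespace Groth.Agent.S14012

/-- Let X be a Noetherian scheme, Λ a Noetherian commutative ring and I an ideal of Λ. Let 0 ⟶ A ⟶ B ⟶ C
⟶ 0 be a short exact sequence of inverse systems (indexed by ℕ) of sheaves of Λ-modules on the small
étale site of X, and assume A is I-adic up to translation: it receives a morphism, with kernel and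
cokernel null up to translation, from an I-adic system. Then the induced morphism lim_n ε⁻¹B_n ⟶
lim_n ε⁻¹C_n of sheaves on the small pro-étale site is an epimorphism; since the limit functor is
left exact this says that lim_n ε⁻¹(−) carries the given sequence to a short exact sequence. (The
published statement takes all three systems I-adic up to translation; only the hypothesis on A
enters, so B and C are arbitrary here. Continuity of the inclusion of the étale site into the
pro-étale site is carried as a binder.) -/
theorem result
    (Λ : Type (u + 1)) [CommRing Λ] [IsNoetherianRing Λ] (I : Ideal Λ)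
    (X : Scheme.{u}) [IsNoetherian X] [ProEtS.EpsCont X]
    (S : ShortComplex (ARSys.PS (EtModW.Mod Λ X))) (hS : S.ShortExact)
    (hA : ∃ (Y : ARSys.PS (EtModW.Mod Λ X)) (v : Y ⟶ S.X₁), ARSys.IsAdic I Y ∧ ARSys.IsARIso v) :
    Epi (limMap (Functor.whiskerRight S.g (EtModW.epsPullMod Λ X))) := by
  obtain ⟨Y, v, hY, hv⟩ := hA
  obtain ⟨r, hr⟩ := (Sga5.MLAR.isMLAR_iff _).1
    (Sga5.MLAR.isMLAR_of_isARIso hv (Sga5.MLAR.isMLAR_of_isStrict (Sga5.MLAR.isStrict_of_isAdic hY)))
  let W := (Functor.whiskeringRight ℕᵒᵖ _ _).obj (EtModW.epsPullMod Λ X)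
  refine K337.LimEpi.epi_limMap (S.map W) (fun n => ?_) (fun n => ?_)
    (K337.LimEpi.UML.map (EtModW.epsPullMod Λ X) hr)
  · exact (Sga5.ARBasic.exact_app hS.exact n).map (EtModW.epsPullMod Λ X)
  · have := hS.epi_g
    have := Sga5.ARBasic.epi_app S.g n
    exact inferInstanceAs (Epi ((EtModW.epsPullMod Λ X).map (S.g.app (op n))))

end Groth.Agent.S14012
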