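import Groth.Statements.S14016
import Groth.Agent.ProEtS.K371.EssSerre
import Groth.Agent.S0717
import Groth.Agent.S0718
import Groth.Agent.Proet.EpsBasic
import Groth.Agent.EtpbcB.RDerLES

set_option autoImplicit false
open CategoryTheory CategoryTheory.Limits AlgebraicGeometry Opposite
universe u
open ProEtS

namespace Groth.Agent.S14016

/-- Let X be a scheme and S a weak Serre subcategory of the abelian sheaves on the small étale site of
X, i.e. a property of objects holding for a zero object and closed under kernels, cokernels and
extensions. Then the essential image of S under the pullback ε⁻¹ to the small pro-étale site (the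
abelian pro-étale sheaves isomorphic to ε⁻¹G for some G satisfying S) is again a weak Serre
subcategory, now of the abelian sheaves on the small pro-étale site of X. (Continuity of the
inclusion of the étale site into the pro-étale site is carried as a binder.) -/
theorem result
    (X : Scheme.{u}) [ProEtS.EpsCont X]
    (S : ObjectProperty (EtCoh.Ab X)) [WSerre.IsWeakSerre S] :
    WSerre.IsWeakSerre (fun F : ProEtS.AbP X => ∃ G : EtCoh.Ab X, S G ∧ Nonempty ((ProEtS.epsPull X).obj G ≅ F)) := by
  have := Groth.Agent.Proet.EpsBasic.preservesFiniteLimits_epsPull X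
  have : PreservesLimits (ProEtS.epsPush X) := (ProEtS.epsAdj X).rightAdjoint_preservesLimits
  refine K371.EssSerre.isWeakSerre_essImage (ProEtS.epsPull X) (ProEtS.epsPush X) (ProEtS.epsAdj X)
    (fun F => Groth.Agent.S0717.result X F) ?_ S
  rintro T hT ⟨G, ⟨e⟩⟩
  exact Groth.Agent.EtpbcB.RDerLES.epi_map_g (ProEtS.epsPush X) hT
    ((Groth.Agent.S0718.result X G 1 one_pos).of_iso (((ProEtS.epsPush X).rightDerived 1).mapIso e.symm))

end Groth.Agent.S14016
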