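import Groth.Statements.S14020
import Mathlib.RingTheory.HopkinsLevitzki
import Mathlib.RingTheory.Noetherian.OfPrime
import Mathlib.RingTheory.Finiteness.Ideal
-- import your own Groth.Agent.* helpers here

set_option autoImplicit false
universe u
open CAlg

namespace Groth.Agent.S14020

/-- Let R be a commutative ring and I a finitely generated ideal such that the quotient ring R/I is
artinian. Then R/I^n is artinian for every n. -/
theorem result
    (R : Type u) [CommRing R] (I : Ideal R) (hI : I.FG) [IsArtinianRing (R ⧸ I)] (n : ℕ) :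
    IsArtinianRing (R ⧸ I ^ n) := by
  rcases Nat.eq_zero_or_pos n with rfl | hn
  · have hsub : Subsingleton (R ⧸ I ^ 0) := by
      rw [pow_zero, Ideal.one_eq_top]
      exact Ideal.Quotient.subsingleton_iff.mpr rfl
    infer_instance
  have hle : I ^ n ≤ I := Ideal.pow_le_self hn.ne'
  have key : ∀ P : Ideal R, P.IsPrime → I ^ n ≤ P → P.FG ∧ P.IsMaximal := by
    intro P hP hnP
    have hIP : I ≤ P := hP.le_of_pow_le hnP
    have hcm : Ideal.comap (Ideal.Quotient.mk I) (Ideal.map (Ideal.Quotient.mk I) P) = P := by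
      rw [Ideal.comap_map_of_surjective _ Ideal.Quotient.mk_surjective,
        ← RingHom.ker_eq_comap_bot, Ideal.mk_ker, sup_eq_left.mpr hIP]
    constructor
    · have h := Ideal.fg_ker_comp (Ideal.Quotient.mk I)
        (Ideal.Quotient.mk (Ideal.map (Ideal.Quotient.mk I) P))
        (by rwa [Ideal.mk_ker]) (IsNoetherian.noetherian _) Ideal.Quotient.mk_surjective
      rwa [← RingHom.comap_ker, Ideal.mk_ker, hcm] at h
    · have hP' : (Ideal.map (Ideal.Quotient.mk I) P).IsPrime :=
        Ideal.map_isPrime_of_surjective Ideal.Quotient.mk_surjective (by rwa [Ideal.mk_ker])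
      have hm : (Ideal.map (Ideal.Quotient.mk I) P).IsMaximal := inferInstance
      have := Ideal.comap_isMaximal_of_surjective (Ideal.Quotient.mk I)
        Ideal.Quotient.mk_surjective (K := Ideal.map (Ideal.Quotient.mk I) P)
      rwa [hcm] at this
  have hker : ∀ Q : Ideal (R ⧸ I ^ n), I ^ n ≤ Q.comap (Ideal.Quotient.mk (I ^ n)) := by
    intro Q x hx
    rw [Ideal.mem_comap, Ideal.Quotient.eq_zero_iff_mem.mpr hx]
    exact Q.zero_mem
  rw [isArtinianRing_iff_isNoetherianRing_krullDimLE_zero]
  constructor
  · refine IsNoetherianRing.of_prime fun Q hQ => ?_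
    have h2 := (key _ (Ideal.comap_isPrime _ Q) (hker Q)).1
    rw [← Ideal.map_comap_of_surjective _ Ideal.Quotient.mk_surjective Q]
    exact h2.map _
  · rw [Ring.krullDimLE_zero_iff]
    intro Q hQ
    have h2 := (key _ (Ideal.comap_isPrime _ Q) (hker Q)).2
    rw [← Ideal.map_comap_of_surjective _ Ideal.Quotient.mk_surjective Q]
    refine (Ideal.map_eq_top_or_isMaximal_of_surjective _ Ideal.Quotient.mk_surjective h2).resolve_left ?_
    rw [Ideal.map_comap_of_surjective _ Ideal.Quotient.mk_surjective Q]
    exact hQ.ne_top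

end Groth.Agent.S14020
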