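import Groth.Statements.S14023
import Groth.Agent.Sga5.ARBasic

set_option autoImplicit false
open CategoryTheory CategoryTheory.Limits Opposite
universe v u
open ARSys

namespace Groth.Agent.S14023

open Groth.Agent.Sga5.ARBasic

section Sky

variable {A : Type u} [Category.{v} A] [Abelian A]

open ZeroObject

/-- The object `M` in degree `0`, zero elsewhere. -/
noncomputable def skyObj (M : A) : ℕ → A
  | 0 => M
  | _ + 1 => 0

lemma isZero_skyObj (M : A) (n : ℕ) : IsZero (skyObj M (n + 1)) := isZero_zero A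

/-- The transition maps. -/
noncomputable def skyTr (M : A) : ∀ n m : ℕ, n ≤ m → (skyObj M m ⟶ skyObj M n)
  | 0, 0, _ => 𝟙 M
  | _, _ + 1, _ => 0
  | _ + 1, 0, h => absurd h (by omega)

noncomputable def sky (M : A) : PS A :=
  mkPS (skyObj M) (skyTr M)
    (fun n h => by
      cases n with
      | zero => rfl
      | succ n => exact (isZero_skyObj M n).eq_of_src _ _)
    (fun n m k h h' => by
      cases k with
      | zero =>
        obtain rfl : m = 0 := by omega
        obtain rfl : n = 0 := by omega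
        exact Category.comp_id (𝟙 M)
      | succ k => exact (isZero_skyObj M k).eq_of_src _ _)

/-- The components of a morphism out of `sky M`. -/
noncomputable def skyDescApp {M : A} {F : PS A} (f : M ⟶ F.obj (op 0)) :
    ∀ n : ℕ, (sky M).obj (op n) ⟶ F.obj (op n)
  | 0 => f
  | n + 1 => (isZero_skyObj M n).to_ _

noncomputable def skyDesc {M : A} {F : PS A} (f : M ⟶ F.obj (op 0)) : sky M ⟶ F :=
  mkHom (skyDescApp f) (fun n m h => by
    cases m with
    | zero =>
      obtain rfl : n = 0 := by omega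
      rw [tr_refl, tr_refl, Category.id_comp, Category.comp_id]
    | succ m => exact (isZero_skyObj M m).eq_of_src _ _)

lemma skyDesc_app_zero {M : A} {F : PS A} (f : M ⟶ F.obj (op 0)) :
    (skyDesc f).app (op 0) = f := rfl

lemma sky_hom_ext {M : A} {F : PS A} {f g : sky M ⟶ F} (h : f.app (op 0) = g.app (op 0)) :
    f = g := by
  apply hom_ext
  intro n
  cases n with
  | zero => exact h
  | succ n => exact (isZero_skyObj M n).eq_of_src _ _

lemma mono_of_sky {M : A} {F : PS A} (f : sky M ⟶ F) (h : Mono (f.app (op 0))) : Mono f := by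
  apply mono_of_app
  intro n
  cases n with
  | zero => exact h
  | succ n => exact ⟨fun _ _ _ => (isZero_skyObj M n).eq_of_tgt _ _⟩

lemma injective_zero {I : PS A} [Injective I] : Injective (I.obj (op 0)) where
  factors {P Q} f j _ := by
    let φ : sky P ⟶ sky Q := skyDesc (M := P) (F := sky Q) j
    have hφ : Mono φ := mono_of_sky φ (inferInstanceAs (Mono j))
    refine ⟨(Injective.factorThru (skyDesc f) φ).app (op 0), ?_⟩
    have := congrArg (fun (t : sky P ⟶ I) => t.app (op 0))
      (Injective.comp_factorThru (skyDesc f) φ)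
    exact this

end Sky

section Cofree

variable {A : Type u} [Category.{v} A] [Abelian A]

/-- The system `k ↦ ∏_{n ≤ k} I n`. -/
noncomputable def cofree (I : ℕ → A) : PS A :=
  mkPS (fun k => ∏ᶜ (fun n : Fin (k + 1) => I n))
    (fun n m h => Pi.lift (fun j : Fin (n + 1) =>
      Pi.π (fun j : Fin (m + 1) => I j) (Fin.castLE (by omega) j)))
    (fun n h => by
      apply Pi.hom_ext
      intro j
      rw [Pi.lift_π, Category.id_comp]
      rfl)
    (fun n m k h h' => by
      apply Pi.hom_ext
      intro j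
      rw [Category.assoc, Pi.lift_π, Pi.lift_π, Pi.lift_π]
      rfl)

/-- The projections. -/
noncomputable def cofreeπ (I : ℕ → A) {j k : ℕ} (h : j ≤ k) : (cofree I).obj (op k) ⟶ I j :=
  Pi.π (fun n : Fin (k + 1) => I n) ⟨j, Nat.lt_succ_of_le h⟩

lemma cofree_hom_ext (I : ℕ → A) {k : ℕ} {T : A} {f g : T ⟶ (cofree I).obj (op k)}
    (h : ∀ (j : ℕ) (hj : j ≤ k), f ≫ cofreeπ I hj = g ≫ cofreeπ I hj) : f = g := by
  apply Pi.hom_ext
  rintro ⟨j, hj⟩
  exact h j (Nat.le_of_lt_succ hj)

lemma cofree_tr_π (I : ℕ → A) {j k l : ℕ} (h : j ≤ k) (h' : k ≤ l) :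
    tr (cofree I) h' ≫ cofreeπ I h = cofreeπ I (h.trans h') :=
  Pi.lift_π _ _

noncomputable def cofreeLift (I : ℕ → A) {k : ℕ} {T : A} (f : ∀ j : ℕ, j ≤ k → (T ⟶ I j)) :
    T ⟶ (cofree I).obj (op k) :=
  Pi.lift (fun n : Fin (k + 1) => f n (Nat.le_of_lt_succ n.2))

lemma cofreeLift_π (I : ℕ → A) {k : ℕ} {T : A} (f : ∀ j : ℕ, j ≤ k → (T ⟶ I j)) {j : ℕ}
    (h : j ≤ k) : cofreeLift I f ≫ cofreeπ I h = f j h :=
  Pi.lift_π _ _

/-- Morphisms into a cofree system. -/
noncomputable def cofreeHom (I : ℕ → A) {F : PS A} (f : ∀ j : ℕ, F.obj (op j) ⟶ I j) :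
    F ⟶ cofree I :=
  mkHom (fun k => cofreeLift I (fun j hj => tr F hj ≫ f j)) (fun n m h => by
    apply cofree_hom_ext
    intro j hj
    rw [Category.assoc, Category.assoc, cofreeLift_π, cofree_tr_π, cofreeLift_π, tr_comp_assoc])

lemma cofreeHom_app_π (I : ℕ → A) {F : PS A} (f : ∀ j : ℕ, F.obj (op j) ⟶ I j) {j k : ℕ}
    (h : j ≤ k) : (cofreeHom I f).app (op k) ≫ cofreeπ I h = tr F h ≫ f j :=
  cofreeLift_π I (fun j hj => tr F hj ≫ f j) h

lemma cofree_hom_ext' (I : ℕ → A) {F : PS A} {f g : F ⟶ cofree I}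
    (h : ∀ j : ℕ, f.app (op j) ≫ cofreeπ I le_rfl = g.app (op j) ≫ cofreeπ I le_rfl) : f = g := by
  apply hom_ext
  intro k
  apply cofree_hom_ext
  intro j hj
  rw [← cofree_tr_π I le_rfl hj, ← tr_nat_assoc, ← tr_nat_assoc, h j]

lemma injective_cofree (I : ℕ → A) [∀ n, Injective (I n)] : Injective (cofree I) where
  factors {X Y} f i _ := by
    have h : ∀ j : ℕ, ∃ g : Y.obj (op j) ⟶ I j,
        i.app (op j) ≫ g = f.app (op j) ≫ cofreeπ I le_rfl := fun j => by
      have := mono_app i j
      exact Injective.factors _ _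
    choose g hg using h
    refine ⟨cofreeHom I g, ?_⟩
    apply cofree_hom_ext'
    intro j
    rw [NatTrans.comp_app, Category.assoc, cofreeHom_app_π, tr_refl, Category.id_comp, hg]

end Cofree

/-- For an abelian category A, the category of inverse systems (A_n)_n indexed by ℕ, i.e. of functors
ℕᵒᵖ ⥤ A, has enough injectives if and only if A has enough injectives. (The second assertion of the
published proposition, describing the injective systems, is not part of this row.) -/
theorem result
    (A : Type u) [Category.{v} A] [Abelian A] :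
    EnoughInjectives (ℕᵒᵖ ⥤ A) ↔ EnoughInjectives A := by
  constructor
  · intro h
    refine ⟨fun M => ⟨?_⟩⟩
    let I : PS A := Injective.under (sky M)
    let ι : sky M ⟶ I := Injective.ι (sky M)
    have : Injective I := inferInstance
    have : Mono (ι.app (op 0)) := mono_app ι 0
    exact ⟨I.obj (op 0), injective_zero, ι.app (op 0), this⟩
  · intro h
    refine ⟨fun F => ⟨?_⟩⟩
    let I : ℕ → A := fun n => Injective.under (F.obj (op n))
    let φ : F ⟶ cofree I := cofreeHom I (fun n => Injective.ι _)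
    have hφ : Mono φ := by
      apply mono_of_app
      intro n
      have h1 : φ.app (op n) ≫ cofreeπ I le_rfl = Injective.ι (F.obj (op n)) := by
        rw [cofreeHom_app_π, tr_refl, Category.id_comp]
      have h2 : Mono (φ.app (op n) ≫ cofreeπ I le_rfl) := by
        rw [h1]; infer_instance
      exact mono_of_mono (φ.app (op n)) (cofreeπ I le_rfl)
    exact ⟨cofree I, injective_cofree I, φ, hφ⟩

end Groth.Agent.S14023
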