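import Groth.Statements.S14024
import Groth.Agent.EtModW.K337.FTML
import Groth.Agent.EtModW.K337.Lin

set_option autoImplicit false
open CategoryTheory CategoryTheory.Limits AlgebraicGeometry Opposite
universe u
open EtModW

namespace Groth.Agent.S14024

/-- Let X be a Noetherian scheme, Λ a Noetherian commutative ring and I an ideal of Λ such that Λ/I is
artinian. Let (F_n) be an inverse system indexed by ℕ of sheaves of Λ-modules on the small étale
site of X with I^(n+1) F_n = 0 for every n and every F_n locally constant of finite type (on some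
étale covering isomorphic to constant sheaves with finitely generated values). Then the system
(ε⁻¹F_n) of pro-étale pullbacks satisfies the Mittag-Leffler condition: for each n, the image
subobjects of ε⁻¹F_(n+s) ⟶ ε⁻¹F_n are the same for all sufficiently large s. (Continuity of the
inclusion of the étale site into the pro-étale site is carried as a binder.) -/
theorem result
    (Λ : Type (u + 1)) [CommRing Λ] [IsNoetherianRing Λ] (I : Ideal Λ) [IsArtinianRing (Λ ⧸ I)]
    (X : Scheme.{u}) [IsNoetherian X] [ProEtS.EpsCont X]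
    (F : ARSys.PS (EtModW.Mod Λ X)) (hk : ARSys.TermKilled I F)
    (hF : ∀ n : ℕ, EtModW.IsFTLocConst Λ (F.obj (op n))) :
    ARSys.IsML (F ⋙ EtModW.epsPullMod Λ X) := by
  intro n
  obtain ⟨r, hr⟩ := K337.FTML.exists_ml I F hk hF n
  have key : ∀ s s' : ℕ, r ≤ s → r ≤ s' →
      imageSubobject (ARSys.shiftMap (F ⋙ EtModW.epsPullMod Λ X) s n) ≤
        imageSubobject (ARSys.shiftMap (F ⋙ EtModW.epsPullMod Λ X) s' n) := by
    intro s s' hs hs'
    rw [Sga5.MLAR.imageSubobject_le_iff]
    intro T φ hφ
    have h1 : (EtModW.epsPullMod Λ X).map (ARSys.shiftMap F s n) ≫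
        (EtModW.epsPullMod Λ X).map (cokernel.π (ARSys.shiftMap F s' n)) = 0 :=
      ((EtModW.epsPullMod Λ X).map_comp _ _).symm.trans
        ((congrArg _ (hr s s' hs hs')).trans ((EtModW.epsPullMod Λ X).map_zero _ _))
    have h2 : (EtModW.epsPullMod Λ X).map (ARSys.shiftMap F s' n) ≫ φ = 0 := hφ
    have h3 : cokernel.π ((EtModW.epsPullMod Λ X).map (ARSys.shiftMap F s' n)) ≫
        (PreservesCokernel.iso (EtModW.epsPullMod Λ X) (ARSys.shiftMap F s' n)).inv =
        (EtModW.epsPullMod Λ X).map (cokernel.π (ARSys.shiftMap F s' n)) :=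
      by simp
    have h4 : φ = (EtModW.epsPullMod Λ X).map (cokernel.π (ARSys.shiftMap F s' n)) ≫
        (PreservesCokernel.iso (EtModW.epsPullMod Λ X) (ARSys.shiftMap F s' n)).hom ≫
          cokernel.desc _ φ h2 := by
      rw [← h3]
      simp
    change (EtModW.epsPullMod Λ X).map (ARSys.shiftMap F s n) ≫ φ = 0
    rw [h4, reassoc_of% h1, zero_comp]
  exact ⟨r, fun s hs => le_antisymm (key s r hs le_rfl) (key r s le_rfl hs)⟩

end Groth.Agent.S14024
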