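import Groth.Statements.S14025
import Groth.Agent.EtModW.K337.EssCover
import Groth.Agent.EtModW.K337.StrataP

set_option autoImplicit false
open CategoryTheory CategoryTheory.Limits AlgebraicGeometry Opposite
universe u
open EtModW

namespace Groth.Agent.S14025

/-- Let X be a scheme, Λ a Noetherian commutative ring and F a sheaf of Λ-modules on the small pro-étale
site of X. Then F is constructible — isomorphic to the pro-étale pullback ε⁻¹E of a constructible
sheaf E of Λ-modules on the small étale site — exactly when each affine open U ⊆ X can be split into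
finitely many constructible locally closed strata, the images of immersions g_i : T_i ⟶ X, such that
for each i the pullback of F to the small pro-étale site of T_i is isomorphic to the pro-étale
pullback of a finite-type locally constant sheaf of Λ-modules on the small étale site of T_i.
(Continuity of the inclusions of étale into pro-étale sites and of the base-change functors between
pro-étale sites is carried as binders.) -/
theorem result
    (Λ : Type (u + 1)) [CommRing Λ] [IsNoetherianRing Λ]
    (X : Scheme.{u}) [∀ T : Scheme.{u}, ProEtS.EpsCont T]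
    [∀ (T : Scheme.{u}) (g : T ⟶ X), ProEtS.PCont g]
    (F : EtModW.ModP Λ X) :
    (∃ E : EtModW.Mod Λ X, EtModW.IsConstructible Λ E ∧ Nonempty ((EtModW.epsPullMod Λ X).obj E ≅ F)) ↔
      ∀ U : X.Opens, IsAffineOpen U →
        ∃ (m : ℕ) (T : Fin m → Scheme.{u}) (g : ∀ i, T i ⟶ X),
          (∀ i, IsImmersion (g i)) ∧
          (∀ i, Topology.IsConstructible ((Subtype.val : ↥(U : Set X) → X) ⁻¹' Set.range (fun t => (g i).base t))) ∧
          Pairwise (fun i j => Disjoint (Set.range (fun t => (g i).base t)) (Set.range (fun t => (g j).base t))) ∧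
          (⋃ i, Set.range (fun t => (g i).base t)) = (U : Set X) ∧
          ∀ i, ∃ E : EtModW.Mod Λ (T i), EtModW.IsFTLocConst Λ E ∧
            Nonempty ((EtModW.epsPullMod Λ (T i)).obj E ≅ (((ProEtS.bcP (g i)).sheafPullback (ModuleCat.{u + 1} Λ) (Scheme.ProEt.topology X) (Scheme.ProEt.topology (T i)))).obj F) := by
  constructor
  · rintro ⟨E, hE, ⟨e⟩⟩ U hU
    obtain ⟨m, T, g, h1, h2, h3, h4, h5⟩ := hE U hU
    exact ⟨m, T, g, h1, h2, h3, h4, fun i => K337.StrataP.exists_ftlc (g i) e (h5 i)⟩
  · intro H
    have hess : K337.Ess.Ess F := by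
      refine K337.Ess.ess_of_cover (ι := X.affineOpens) (fun U => U.1) (fun x => ?_) F fun U => ?_
      · obtain ⟨U, hU, hx, -⟩ := exists_isAffineOpen_mem_and_subset (x := x) (U := ⊤) trivial
        exact ⟨⟨U, hU⟩, hx⟩
      · obtain ⟨m, T, g, h1, h2, -, h4, h5⟩ := H U.1 U.2
        have hUa : IsAffine (U.1 : Scheme.{u}) := U.2
        have hr : ∀ i, Set.range (g i).base ⊆ Set.range U.1.ι.base := fun i => by
          rw [Scheme.Opens.range_ι, ← h4]
          exact Set.subset_iUnion (fun i => Set.range (fun t => (g i).base t)) i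
        let g' : ∀ i, T i ⟶ (U.1 : Scheme.{u}) := fun i => IsOpenImmersion.lift U.1.ι (g i) (hr i)
        have hg' : ∀ i, g' i ≫ U.1.ι = g i := fun i => IsOpenImmersion.lift_fac _ _ _
        have hrg : ∀ i, Set.range (g' i).base =
            (Subtype.val : ↥(U.1 : Set X) → X) ⁻¹' Set.range (fun t => (g i).base t) := by
          intro i
          ext y
          constructor
          · rintro ⟨t, rfl⟩
            refine ⟨t, ?_⟩
            rw [← hg' i]
            rfl
          · rintro ⟨t, ht⟩
            refine ⟨t, ?_⟩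
            apply U.1.ι.isOpenEmbedding.injective
            rw [← hg' i] at ht
            exact ht
        refine K337.Ess.ess_of_strata T g' (fun i => ?_) (fun i => ?_) ?_ _ fun i => ?_
        · have : IsImmersion (g' i ≫ U.1.ι) := by rw [hg' i]; exact h1 i
          exact IsImmersion.of_comp (g' i) U.1.ι
        · rw [hrg i]
          exact h2 i
        · apply Set.eq_univ_of_forall
          intro y
          have hy : y.1 ∈ ⋃ i, Set.range (fun t => (g i).base t) := by
            rw [h4]
            exact y.2
          obtain ⟨i, hi⟩ := Set.mem_iUnion.1 hy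
          refine Set.mem_iUnion.2 ⟨i, ?_⟩
          rw [hrg i]
          exact hi
        · obtain ⟨E, hE, ⟨e⟩⟩ := h5 i
          have := Proet.Cont.pCont (g' i)
          have hPc : ProEtS.PCont U.1.ι := inferInstance
          have key : ∀ f : T i ⟶ X, f = g i → K337.Ess.Ess ((K337.ProMod.pullM Λ f).obj F) := by
            rintro f rfl
            exact ⟨E, ⟨e⟩⟩
          exact K337.Ess.ess_of_iso ((K337.PullPComp.pullPComp Λ (g' i) U.1.ι).symm.app F)
            (key _ (hg' i))
    obtain ⟨E, ⟨e⟩⟩ := hess
    refine ⟨E, fun U hU => ?_, ⟨e⟩⟩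
    obtain ⟨m, T, g, h1, h2, h3, h4, h5⟩ := H U hU
    refine ⟨m, T, g, h1, h2, h3, h4, fun i => ?_⟩
    obtain ⟨E', hE', ⟨e'⟩⟩ := h5 i
    have e'' : (EtModW.epsPullMod Λ (T i)).obj E' ≅
        (EtModW.epsPullMod Λ (T i)).obj ((EtModW.pull Λ (g i)).obj E) :=
      e' ≪≫ ((K337.ProMod.pullM Λ (g i)).mapIso e).symm ≪≫ ((K337.ProEps.pullEps Λ (g i)).app E).symm
    exact Etcore.LPullComp.isFTLC_of_iso ((K337.ProMod.epsFF Λ (T i)).preimageIso e'') hE' 

end Groth.Agent.S14025
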