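import Groth.Statements.S14029
import Groth.Agent.CohSite.K298.FFSite

set_option autoImplicit false
open CategoryTheory CategoryTheory.Limits Opposite
universe v u
open CohSite

namespace Groth.Agent.S14029

/-- Let (C, J) be a site and U an object such that every object has at most one morphism to U; assume
extension by the empty set j_! from sheaves of sets on the localized site C/U to sheaves of sets on
C exists (through sheafification on C and left Kan extensions along C/U → C). If V is weakly
contractible in C — every epimorphism of sheaves of sets on C is surjective on sections over V —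
then for any morphism a : V ⟶ U the object V → U of C/U is weakly contractible in C/U: every
epimorphism of sheaves of sets on C/U is surjective on sections over it. Hence C/U has enough weakly
contractible objects when C does. -/
theorem result
    {C : Type u} [Category.{v} C] (J : GrothendieckTopology C) (U : C)
    (hU : ∀ W : C, Subsingleton (W ⟶ U))
    [HasWeakSheafify J (Type (max u v))]
    [∀ (P : (Over U)ᵒᵖ ⥤ Type (max u v)), (Over.forget U).op.HasLeftKanExtension P]
    (V : C) (hV : (∀ (A B : Sheaf J (Type (max u v))) (ψ : A ⟶ B), Epi ψ → Function.Surjective (ψ.hom.app (op V)))) (a : V ⟶ U) :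
    ∀ (A B : Sheaf (J.over U) (Type (max u v))) (ψ : A ⟶ B), Epi ψ →
      Function.Surjective (ψ.hom.app (op (Over.mk a))) := by
  intro A B ψ hψ b
  have := K298.FFSite.full_forget U hU
  let adj := (Over.forget U).sheafAdjunctionContinuous (Type (max u v)) (J.over U) J
  have h1 : ∀ F : Sheaf (J.over U) (Type (max u v)), IsIso (adj.unit.app F) := fun F =>
    K298.FFSite.isIso_unit_app (Over.forget U) (Type (max u v)) (J.over U) J F
  have h2 : ∀ F : Sheaf (J.over U) (Type (max u v)),
      Function.Bijective ((adj.unit.app F).hom.app (op (Over.mk a))) := by
    intro F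
    have := h1 F
    have h3 : IsIso ((sheafToPresheaf _ _ ⋙ (evaluation _ _).obj (op (Over.mk a))).map (adj.unit.app F)) :=
      inferInstance
    exact (isIso_iff_bijective _).1 h3
  have hL : ((Over.forget U).sheafPullback (Type (max u v)) (J.over U) J).IsLeftAdjoint := adj.isLeftAdjoint
  have h4 : Epi (((Over.forget U).sheafPullback (Type (max u v)) (J.over U) J).map ψ) := inferInstance
  obtain ⟨c, hc⟩ := hV _ _ _ h4 ((adj.unit.app B).hom.app (op (Over.mk a)) b)
  obtain ⟨d, hd⟩ := (h2 A).2 c
  refine ⟨d, (h2 B).1 ?_⟩
  have h5 := adj.unit.naturality ψ
  have h6 := ConcreteCategory.congr_hom (NatTrans.congr_app (congrArg (fun t => t.hom) h5) (op (Over.mk a))) d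
  refine h6.trans ?_
  refine Eq.trans ?_ hc
  rw [← hd]
  rfl

end Groth.Agent.S14029
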