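import Groth.Statements.S14045
import Groth.Agent.W4c1frobunstiva.K78.Main
import Groth.Agent.CAlg.K80.Kunz

set_option autoImplicit false
universe u
open W4c1frobunstiva

namespace Groth.Agent.S14045

/-- Let k be an algebraically closed field, n ≥ 0 and d ≥ 1 integers, and F_0, …, F_n forms of degree d
in R = k[X_0, …, X_n] that are algebraically independent over k — so that they define a dominant
rational self-map f of projective n-space — and such that R/(F_0, …, F_n) has Krull dimension at
most one — so that f is undefined at only finitely many points. Let δ be the total length of the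
base scheme E_f cut out by the F_i, which is the eventually constant value of dim_k of the degree-m
part of R/(F), and let D be the degree of the fraction field of R over the subfield generated by the
F_i, which is d times the degree of f. Then D + d·δ ≤ d^{n+1}, that is, deg f ≤ d^n − δ. Moreover
equality holds if and only if E_f is a local complete intersection, if and only if E_f is
Gorenstein; here both conditions are imposed on the localisations of the affine cone R/(F) at its
minimal primes, local rings which are localisations of polynomial rings in one variable over the
local rings of E_f at its points. (The particular case where every point of E_f has length 1 or 2 is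
not restated.) -/
theorem result (k : Type u) [Field k]
    [IsAlgClosed k] (n d : ℕ) (hd : 1 ≤ d)
    (F : Fin (n + 1) → MvPolynomial (Fin (n + 1)) k) (hF : ∀ i, (F i).IsHomogeneous d)
    (hind : AlgebraicIndependent k F)
    (hdim : ringKrullDim (MvPolynomial (Fin (n + 1)) k ⧸ Ideal.span (Set.range F)) ≤ 1)
    (δ : ℕ) (hδ : ∃ m₀ : ℕ, ∀ m : ℕ, m₀ ≤ m →
      Module.finrank k ↥(CohB1.polyGrading n k m) -
        Module.finrank k ↥(Submodule.restrictScalars k (Ideal.span (Set.range F)) ⊓
          CohB1.polyGrading n k m) = δ) :
    let R := MvPolynomial (Fin (n + 1)) k
    let I : Ideal R := Ideal.span (Set.range F)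
    let L := FractionRing R
    let K := IntermediateField.adjoin k (Set.range fun i => algebraMap R L (F i))
    let D := Module.finrank ↥K L
    let lci := ∀ q : Ideal (R ⧸ I), ∀ hq : q ∈ minimalPrimes (R ⧸ I),
      letI : q.IsPrime := hq.1.1; Pi1.IsCompleteIntersection (Localization.AtPrime q)
    let gor := ∀ q : Ideal (R ⧸ I), ∀ hq : q ∈ minimalPrimes (R ⧸ I),
      letI : q.IsPrime := hq.1.1; LocCoh.IsGorensteinLocalRing (Localization.AtPrime q)
    D + d * δ ≤ d ^ (n + 1) ∧ (D + d * δ = d ^ (n + 1) ↔ lci) ∧ (lci ↔ gor) := by
  have : Infinite k := IsAlgClosed.instInfinite
  exact K78.FU.main (fun A _ _ _ n hn x hx h0 hG => K80.Kunz.kunz A n hn x hx h0) hd F hF hind hdim δ hδ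

end Groth.Agent.S14045
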