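import Groth.Statements.S14048
import Mathlib.RingTheory.Flat.TorsionFree
import Mathlib.RingTheory.Ideal.KrullsHeightTheorem
import Mathlib.RingTheory.Ideal.MinimalPrime.Noetherian
import Mathlib.RingTheory.Localization.Integral
import Mathlib.RingTheory.DedekindDomain.Basic
import Mathlib.FieldTheory.Finite.Basic
import Mathlib.Data.ZMod.Basic
import Mathlib.Algebra.Algebra.ZMod
import Mathlib.Tactic.Ring
-- import your own Groth.Agent.* helpers here

set_option autoImplicit false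
universe u
open TensorProduct
open CAlg

namespace Groth.Agent.S14048

open Polynomial

section

variable {A : Type u} [CommRing A] {t : A}
  (h1 : Function.Bijective (Polynomial.aeval (R := ℚ) ((1 : ℚ) ⊗ₜ[ℤ] t : ℚ ⊗[ℤ] A)))

include h1 in
theorem charZero : CharZero A := by
  refine charZero_of_inj_zero fun n hn => ?_
  by_contra hn0
  have h2 : (1 : ℚ ⊗[ℤ] A) = 0 := by
    have h3 : (1 : ℚ ⊗[ℤ] A) = ((n : ℤ) • (n : ℚ)⁻¹) ⊗ₜ[ℤ] (1 : A) := by
      rw [Algebra.TensorProduct.one_def]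
      congr 1
      have : (n : ℚ) ≠ 0 := by exact_mod_cast hn0
      simp [this]
    rw [h3, TensorProduct.smul_tmul]
    have h4 : (n : ℤ) • (1 : A) = 0 := by simpa using hn
    rw [h4, TensorProduct.tmul_zero]
  have h3 : (1 : ℚ[X]) = 0 := h1.1 (by rw [map_one, map_zero, h2])
  exact one_ne_zero h3

theorem aeval_tmul (f : ℤ[X]) : Polynomial.aeval (R := ℚ) ((1 : ℚ) ⊗ₜ[ℤ] t : ℚ ⊗[ℤ] A) (f.map (algebraMap ℤ ℚ)) =
    (1 : ℚ) ⊗ₜ[ℤ] (Polynomial.aeval t f) := by
  rw [Polynomial.aeval_map_algebraMap]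
  exact (Polynomial.aeval_algHom_apply (Algebra.TensorProduct.includeRight : A →ₐ[ℤ] ℚ ⊗[ℤ] A) t f)

include h1 in
theorem eq_zero_of_aeval (f : ℤ[X]) (hf : Polynomial.aeval t f = 0) : f = 0 := by
  have h2 := aeval_tmul (t := t) f
  rw [hf, TensorProduct.tmul_zero] at h2
  have h3 : f.map (algebraMap ℤ ℚ) = 0 := h1.1 (by rw [h2, map_zero])
  exact (Polynomial.map_eq_zero_iff (algebraMap ℤ ℚ).injective_int).mp h3

include h1 in
theorem exists_int_mul [IsDomain A] (a : A) : ∃ (n : ℤ) (f : ℤ[X]), n ≠ 0 ∧ (n : A) * a = Polynomial.aeval t f := by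
  have := charZero h1
  obtain ⟨F, hF⟩ := h1.2 ((1 : ℚ) ⊗ₜ[ℤ] a)
  obtain ⟨b, hb0, hb⟩ := IsLocalization.integerNormalization_spec (nonZeroDivisors ℤ) F
  refine ⟨b, IsLocalization.integerNormalization (nonZeroDivisors ℤ) F, nonZeroDivisors.ne_zero hb0, ?_⟩
  have hinj : Function.Injective (Algebra.TensorProduct.includeRight : A →ₐ[ℤ] ℚ ⊗[ℤ] A) :=
    Algebra.TensorProduct.includeRight_injective (algebraMap ℤ ℚ).injective_int
  apply hinj
  change (1 : ℚ) ⊗ₜ[ℤ] (((b : ℤ) : A) * a) = (1 : ℚ) ⊗ₜ[ℤ] (Polynomial.aeval t _)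
  rw [← aeval_tmul, hb, map_zsmul, hF, ← zsmul_eq_mul, TensorProduct.tmul_smul]

end

theorem not_mem_of_map_ne_zero {A : Type u} [CommRing A] {t : A} (p : ℕ) [hp : Fact p.Prime] (P m : Ideal A)
    [P.IsPrime] (hm : m ≠ ⊤) (hPm : P ≤ m) (hpP : (p : A) ∈ P) (htP : t - 1 ∉ P) (htm : t - 1 ∈ m)
    (f : ℤ[X]) (hf : f.map (Int.castRingHom (ZMod p)) ≠ 0) : Polynomial.aeval t f ∉ P := by
  intro hfP
  let D := A ⧸ P
  have hpD : (p : D) = 0 := by
    have := Ideal.Quotient.eq_zero_iff_mem.mpr hpP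
    rwa [map_natCast] at this
  have hchar : CharP D p := (CharP.charP_iff_prime_eq_zero hp.out).mpr hpD
  let _ : Algebra (ZMod p) D := ZMod.algebra D p
  let π : A →+* D := Ideal.Quotient.mk P
  have h1 : IsAlgebraic (ZMod p) (π t) := by
    refine ⟨f.map (Int.castRingHom (ZMod p)), hf, ?_⟩
    have h2 : π (Polynomial.aeval t f) = 0 := Ideal.Quotient.eq_zero_iff_mem.mpr hfP
    rw [Polynomial.aeval_def, Polynomial.eval₂_map]
    rw [Polynomial.aeval_def, Polynomial.hom_eval₂] at h2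
    rw [show (algebraMap (ZMod p) D).comp (Int.castRingHom (ZMod p)) = π.comp (algebraMap ℤ A) from
      RingHom.ext_int _ _]
    exact h2
  have h3 : IsAlgebraic (ZMod p) (π t - 1) := h1.sub isAlgebraic_one
  have h4 : π t - 1 ≠ 0 := by
    intro h5
    apply htP
    rw [← Ideal.Quotient.eq_zero_iff_mem, map_sub, map_one]
    exact h5
  obtain ⟨r, hr, hdvd⟩ := h3.exists_nonzero_dvd (mem_nonZeroDivisors_of_ne_zero h4)
  have h5 : IsUnit (π t - 1) := isUnit_of_dvd_unit hdvd ((isUnit_iff_ne_zero.mpr hr).map (algebraMap (ZMod p) D))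
  obtain ⟨y, hy⟩ := h5.exists_right_inv
  obtain ⟨y', rfl⟩ := Ideal.Quotient.mk_surjective y
  have h6 : (t - 1) * y' - 1 ∈ P := by
    rw [← Ideal.Quotient.eq_zero_iff_mem, map_sub, map_mul, map_sub, map_one, sub_eq_zero]
    exact hy
  apply hm
  rw [Ideal.eq_top_iff_one]
  have h7 := m.sub_mem (m.mul_mem_right y' htm) (hPm h6)
  simpa using h7

theorem exists_coprime_mul {A : Type u} [CommRing A] [IsDomain A] [CharZero A] {t : A} (p : ℕ) [hp : Fact p.Prime] (P m : Ideal A)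
    [P.IsPrime] (hm : m ≠ ⊤) (hPm : P ≤ m) (hpP : (p : A) ∈ P) (htP : t - 1 ∉ P) (htm : t - 1 ∈ m)
    (hA : ∀ a : A, ∃ (n : ℤ) (f : ℤ[X]), n ≠ 0 ∧ (n : A) * a = Polynomial.aeval t f) (a : A) :
    ∃ (n : ℤ) (f : ℤ[X]), ¬ (p : ℤ) ∣ n ∧ (n : A) * a = Polynomial.aeval t f := by
  -- induct on the multiplicity of `p` in `n`
  have key : ∀ (k : ℕ) (n : ℤ) (f : ℤ[X]), ¬ (p : ℤ) ∣ n → (((p : ℤ) ^ k * n : ℤ) : A) * a = Polynomial.aeval t f →
      ∃ (n : ℤ) (f : ℤ[X]), ¬ (p : ℤ) ∣ n ∧ (n : A) * a = Polynomial.aeval t f := by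
    intro k
    induction k with
    | zero =>
      intro n f hn hf
      exact ⟨n, f, hn, by simpa using hf⟩
    | succ k ih =>
      intro n f hn hf
      have hmem : Polynomial.aeval t f ∈ P := by
        rw [← hf, pow_succ']
        push_cast
        rw [mul_assoc, mul_assoc]
        exact P.mul_mem_right _ hpP
      have h0 : f.map (Int.castRingHom (ZMod p)) = 0 := by
        by_contra hne
        exact not_mem_of_map_ne_zero p P m hm hPm hpP htP htm f hne hmem
      have hdvd : Polynomial.C (p : ℤ) ∣ f := by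
        rw [Polynomial.C_dvd_iff_dvd_coeff]
        intro i
        have := congrArg (fun g => Polynomial.coeff g i) h0
        simp only [Polynomial.coeff_map, Polynomial.coeff_zero] at this
        exact (ZMod.intCast_zmod_eq_zero_iff_dvd _ _).mp (by simpa using this)
      obtain ⟨g, rfl⟩ := hdvd
      refine ih n g hn ?_
      have hp0 : (p : A) ≠ 0 := by exact_mod_cast hp.out.ne_zero
      apply mul_left_cancel₀ hp0
      rw [map_mul, Polynomial.aeval_C] at hf
      rw [pow_succ'] at hf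
      push_cast at hf ⊢
      have hf' : (p : A) * p ^ k * n * a = (p : A) * Polynomial.aeval t g := by
        rw [hf]
      rw [← hf']
      ring
  obtain ⟨n, f, hn, hf⟩ := hA a
  obtain ⟨k, n', hn', hnn⟩ : ∃ (k : ℕ) (n' : ℤ), ¬ (p : ℤ) ∣ n' ∧ n = (p : ℤ) ^ k * n' := by
    have hfin : FiniteMultiplicity (p : ℤ) n := by
      rw [Int.finiteMultiplicity_iff]
      refine ⟨?_, hn⟩
      rw [Int.natAbs_natCast]
      exact hp.out.ne_one
    obtain ⟨c, hc1, hc2⟩ := hfin.exists_eq_pow_mul_and_not_dvd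
    exact ⟨_, c, hc2, hc1⟩
  rw [hnn] at hf
  exact key k n' f hn' hf
theorem no_two_primes {A : Type u} [CommRing A] (Q : Ideal A) (hQ : Q ≠ ⊤) :
    Set.Subsingleton {p : ℕ | p.Prime ∧ (p : A) ∈ Q} := by
  rintro p ⟨hp, hpQ⟩ q ⟨hq, hqQ⟩
  by_contra hne
  have hco : Nat.Coprime p q := (Nat.coprime_primes hp hq).mpr hne
  have h1 : IsCoprime ((p : ℤ) : A) ((q : ℤ) : A) := (Nat.isCoprime_iff_coprime.mpr hco).intCast
  obtain ⟨a, b, hab⟩ := h1
  apply hQ
  rw [Ideal.eq_top_iff_one, ← hab]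
  exact Q.add_mem (Q.mul_mem_left _ (by exact_mod_cast hpQ)) (Q.mul_mem_left _ (by exact_mod_cast hqQ))

/-- Let A be an integral domain in which 2 is invertible and let t be an element of A, so that Spec A is
a scheme over the affine line Spec ℤ[1/2][t]. Assume that (1) the ℚ-algebra map ℚ[X] → ℚ ⊗_ℤ A
sending X to 1 ⊗ t is bijective (the map Spec A → Spec ℤ[1/2][t] becomes an isomorphism after base
change to ℚ); (2) every prime number is invertible in A/(t) (the fibre over t = 0 is of pure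
characteristic zero); and (3) there is a ring homomorphism s : A → ℤ[1/2] with s(t) = 1 (the fibre
over t = 1 admits a section). Then A is not Noetherian. -/
theorem result (A : Type u) [CommRing A]
    [IsDomain A] (h2 : IsUnit (2 : A)) (t : A)
    (h1 : Function.Bijective (Polynomial.aeval (R := ℚ) ((1 : ℚ) ⊗ₜ[ℤ] t : ℚ ⊗[ℤ] A)))
    (h0 : ∀ p : ℕ, p.Prime → IsUnit ((p : ℕ) : A ⧸ Ideal.span ({t} : Set A)))
    (s : A →+* Localization.Away (2 : ℤ)) (hs : s t = 1) :
    ¬ IsNoetherianRing A := by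
  intro hN
  have := charZero h1
  have hA := exists_int_mul h1
  have ht1 : t - 1 ≠ 0 := by
    intro h
    have h2 := eq_zero_of_aeval h1 (X - 1) (by rw [map_sub, aeval_X, map_one, h])
    have h3 := congrArg (fun f => Polynomial.coeff f 1) h2
    simp [Polynomial.coeff_one] at h3
  have hfin : (Ideal.span {t - 1}).minimalPrimes.Finite := Ideal.finite_minimalPrimes_of_isNoetherianRing A _
  have hbad : {p : ℕ | p.Prime ∧ ∃ Q ∈ (Ideal.span {t - 1}).minimalPrimes, (p : A) ∈ Q}.Finite := by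
    refine (hfin.biUnion (t := fun Q => {p : ℕ | p.Prime ∧ (p : A) ∈ Q}) fun Q hQ =>
      (no_two_primes Q hQ.1.1.ne_top).finite).subset ?_
    rintro p ⟨hp, Q, hQ, hpQ⟩
    exact Set.mem_biUnion hQ ⟨hp, hpQ⟩
  obtain ⟨p, hp, hpbad⟩ := (Nat.infinite_setOfPred_prime.sdiff (hbad.union (Set.finite_singleton 2))).nonempty
  rw [Set.mem_union, not_or, Set.mem_singleton_iff] at hpbad
  have hpfact : Fact p.Prime := ⟨hp⟩
  have hunit : IsUnit (Int.castRingHom (ZMod p) 2) := by
    have h2p : Nat.Coprime 2 p := (Nat.coprime_primes Nat.prime_two hp).mpr (Ne.symm hpbad.2)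
    have := (ZMod.isUnit_iff_coprime 2 p).mpr h2p
    simpa using this
  let s' : A →+* ZMod p := (IsLocalization.Away.lift (2 : ℤ) (g := Int.castRingHom (ZMod p)) hunit).comp s
  have hm : RingHom.ker s' ≠ ⊤ := RingHom.ker_ne_top s'
  have hpm : (p : A) ∈ RingHom.ker s' := by
    rw [RingHom.mem_ker, map_natCast, ZMod.natCast_self]
  have htm : t - 1 ∈ RingHom.ker s' := by
    rw [RingHom.mem_ker, map_sub, map_one, RingHom.comp_apply, hs, map_one, sub_self]
  have hmprime : (RingHom.ker s').IsPrime := RingHom.ker_isPrime s'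
  obtain ⟨P, hP, hPm⟩ := Ideal.exists_minimalPrimes_le (I := Ideal.span {(p : A)}) (J := RingHom.ker s')
    ((Ideal.span_singleton_le_iff_mem _).mpr hpm)
  have hPprime := hP.1.1
  have hpP : (p : A) ∈ P := hP.1.2 (Ideal.mem_span_singleton_self _)
  have hPh : P.height ≤ 1 := Ideal.height_le_one_of_isPrincipal_of_mem_minimalPrimes (Ideal.span {(p : A)}) P hP
  have htP : t - 1 ∉ P := by
    intro htP
    obtain ⟨Q, hQ, hQP⟩ := Ideal.exists_minimalPrimes_le (I := Ideal.span {t - 1}) (J := P)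
      ((Ideal.span_singleton_le_iff_mem _).mpr htP)
    have hQprime := hQ.1.1
    rcases hQP.eq_or_lt with rfl | hlt
    · exact hpbad.1 ⟨hp, Q, hQ, hpP⟩
    · have hfh : P.FiniteHeight := ⟨Or.inr (ne_top_of_le_ne_top (by simp) hPh)⟩
      have h2 := Ideal.height_strict_mono_of_isPrime_of_isPrime hlt
      have h3 : Q.height = 0 := by
        have h4 : Q.height < 1 := lt_of_lt_of_le h2 hPh
        exact ENat.lt_one_iff_eq_zero.mp h4
      rw [Ideal.height_eq_zero_iff_eq_bot] at h3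
      rw [h3] at hQ
      exact ht1 ((Submodule.mem_bot A).mp (hQ.1.2 (Ideal.mem_span_singleton_self _)))
  obtain ⟨a', ha'⟩ := (h0 p hp).exists_right_inv
  obtain ⟨a, rfl⟩ := Ideal.Quotient.mk_surjective a'
  have h2 : (p : A) * a - 1 ∈ Ideal.span {t} := by
    rw [← Ideal.Quotient.eq_zero_iff_mem, map_sub, map_mul, map_one, map_natCast, ha', sub_self]
  obtain ⟨b, hb⟩ := Ideal.mem_span_singleton'.mp h2
  obtain ⟨n1, f, hn1, hf⟩ := exists_coprime_mul p P _ hm hPm hpP htP htm hA a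
  obtain ⟨n2, g, hn2, hg⟩ := exists_coprime_mul p P _ hm hPm hpP htP htm hA b
  have h3 := eq_zero_of_aeval h1 (C ((p : ℤ) * n2) * f - C (n1 * n2) - X * (C n1 * g)) (by
    simp only [map_sub, map_mul, aeval_X, aeval_C, ← hf, ← hg]
    simp only [eq_intCast, Int.cast_natCast, algebraMap_int_eq]
    have hb' : (p : A) * a = 1 + b * t := by rw [hb]; ring
    have : (p : A) * n2 * (n1 * a) = n1 * n2 * (p * a) := by ring
    rw [this, hb']
    ring)
  have h4 := congrArg (fun f => Polynomial.coeff f 0) h3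
  simp only [coeff_sub, mul_coeff_zero, coeff_C_zero, coeff_X_zero, zero_mul, sub_zero, coeff_zero] at h4
  have h5 : (p : ℤ) ∣ n1 * n2 := ⟨n2 * f.coeff 0, by linarith⟩
  rcases (Nat.prime_iff_prime_int.mp hp).dvd_or_dvd h5 with h6 | h6
  · exact hn1 h6
  · exact hn2 h6

end Groth.Agent.S14048
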