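import Groth.Statements.S14049
import Groth.Agent.Flat2C.AffineThickening
-- import your own Groth.Agent.* helpers here

set_option autoImplicit false
universe u
open CategoryTheory AlgebraicGeometry
open LocStr

namespace Groth.Agent.S14049

/-- For schemes. Let f : X → Y be a morphism of schemes and let I be a quasi-coherent sheaf of ideals on
X which is nilpotent (some power of I is zero). Let X₁ ⊆ X be the closed subscheme defined by I².
Then f is a closed immersion as soon as the composite X₁ → X → Y is one. (The published statement is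
the same assertion for a morphism of algebraic stacks; it is stated here for schemes.) -/
theorem result (X Y : Scheme.{u}) (f : X ⟶ Y)
    (I : X.IdealSheafData) (hI : IsNilpotent I)
    (h : IsClosedImmersion ((I ^ 2).subschemeι ≫ f)) :
    IsClosedImmersion f := by
  have key : ∀ {A B : Type u} [CommRing A] [CommRing B] (φ : B →+* A) (J : Ideal A) (N : ℕ),
      J ^ N = ⊥ → (∀ a : A, ∃ b : B, φ b - a ∈ J ^ 2) → Function.Surjective φ := by
    intro A B _ _ φ J N hN hs
    have h1 : ∀ n : ℕ, ∀ x ∈ J ^ (n + 1), ∃ b : B, φ b ∈ J ^ (n + 1) ∧ φ b - x ∈ J ^ (n + 2) := by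
      intro n
      induction n with
      | zero =>
        intro x hx
        obtain ⟨b, hb⟩ := hs x
        refine ⟨b, ?_, hb⟩
        rw [zero_add, pow_one] at hx ⊢
        have h2 : φ b - x ∈ J := Ideal.pow_le_self two_ne_zero hb
        have := J.add_mem h2 hx
        simpa using this
      | succ n ih =>
        intro x hx
        rw [pow_succ] at hx
        refine Submodule.mul_induction_on hx ?_ ?_
        · intro y hy z hz
          obtain ⟨b, hb1, hb2⟩ := ih y hy
          obtain ⟨c, hc⟩ := hs z
          have hc1 : φ c ∈ J := by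
            have h2 : φ c - z ∈ J := Ideal.pow_le_self two_ne_zero hc
            have := J.add_mem h2 hz
            simpa using this
          refine ⟨b * c, ?_, ?_⟩
          · rw [map_mul, pow_succ]
            exact Ideal.mul_mem_mul hb1 hc1
          · have h3 : φ (b * c) - y * z = φ b * (φ c - z) + (φ b - y) * z := by
              rw [map_mul]; ring
            rw [h3]
            refine Ideal.add_mem _ ?_ ?_
            · rw [show n + 1 + 2 = (n + 1) + 2 from rfl, pow_add]
              exact Ideal.mul_mem_mul hb1 hc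
            · rw [show n + 1 + 2 = (n + 2) + 1 by ring, pow_succ]
              exact Ideal.mul_mem_mul hb2 hz
        · rintro y z ⟨b, hb1, hb2⟩ ⟨c, hc1, hc2⟩
          refine ⟨b + c, ?_, ?_⟩
          · rw [map_add]; exact Ideal.add_mem _ hb1 hc1
          · have : φ (b + c) - (y + z) = (φ b - y) + (φ c - z) := by rw [map_add]; ring
            rw [this]; exact Ideal.add_mem _ hb2 hc2
    intro a
    have h2 : ∀ n : ℕ, ∃ b : B, φ b - a ∈ J ^ (n + 2) := by
      intro n
      induction n with
      | zero => exact hs a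
      | succ n ih =>
        obtain ⟨b, hb⟩ := ih
        obtain ⟨c, -, hc⟩ := h1 (n + 1) _ hb
        refine ⟨b - c, ?_⟩
        have h3 : φ (b - c) - a = -(φ c - (φ b - a)) := by rw [map_sub]; ring
        rw [h3]
        exact neg_mem hc
    obtain ⟨b, hb⟩ := h2 N
    refine ⟨b, ?_⟩
    have h3 : φ b - a ∈ J ^ N := Ideal.pow_le_pow_right (Nat.le_add_right _ _) hb
    rw [hN, Submodule.mem_bot, sub_eq_zero] at h3
    exact h3
  obtain ⟨N, hN⟩ := hI
  have hNV : ∀ V : X.affineOpens, (I.ideal V) ^ N = ⊥ := by
    intro V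
    have := congrArg (fun J : X.IdealSheafData => J.ideal V) hN
    simpa using this
  have hsurj : Surjective (I ^ 2).subschemeι := by
    refine ⟨fun x => ?_⟩
    have hx : x ∈ (I ^ 2).support := by
      obtain ⟨V, hV, hxV, -⟩ := exists_isAffineOpen_mem_and_subset (X := X) (x := x) (U := ⊤) trivial
      rw [Scheme.IdealSheafData.mem_support_iff_of_mem (U := ⟨V, hV⟩) hxV]
      rw [Scheme.mem_zeroLocus_iff]
      intro s hs hxs
      have h1 : s ∈ I.ideal ⟨V, hV⟩ := by
        have h2 : s ∈ (I.ideal ⟨V, hV⟩) ^ 2 := by simpa using hs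
        exact Ideal.pow_le_self two_ne_zero h2
      have h2 : s ^ N = 0 := by
        have := Ideal.pow_mem_pow h1 N
        rwa [hNV, Submodule.mem_bot] at this
      have h3 : X.basicOpen (s ^ N) ≤ ⊥ := by
        rw [h2, Scheme.basicOpen_zero]
      rcases Nat.eq_zero_or_pos N with hN0 | hN0
      · rw [hN0, pow_zero] at h2
        have h4 : s = 0 := by rw [← one_mul s, h2, zero_mul]
        rw [h4, Scheme.basicOpen_zero] at hxs
        exact hxs
      · rw [Scheme.basicOpen_pow _ _ hN0] at h3
        exact h3 hxs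
    rw [← SetLike.mem_coe, ← Scheme.IdealSheafData.range_subschemeι] at hx
    exact hx
  have haff : IsAffineHom f := by
    refine (Groth.Agent.Flat2C.AffineThickening.isAffineHom_iff_of_thickening (I ^ 2).subschemeι (𝟙 Y)
      ((I ^ 2).subschemeι ≫ f) f (by simp)).mp inferInstance
  rw [isClosedImmersion_iff_isAffineHom]
  refine ⟨haff, fun U hU => ?_⟩
  have hV : IsAffineOpen (f ⁻¹ᵁ U) := hU.preimage f
  refine key (f.app U).hom (I.ideal ⟨_, hV⟩) N (hNV _) fun a => ?_
  have h1 : Function.Surjective (((I ^ 2).subschemeι ≫ f).app U) := Scheme.Hom.app_surjective _ U hU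
  obtain ⟨b, hb⟩ := h1 ((I ^ 2).subschemeι.app (f ⁻¹ᵁ U) a)
  refine ⟨b, ?_⟩
  have h2 : (I.ideal ⟨_, hV⟩) ^ 2 = RingHom.ker ((I ^ 2).subschemeι.app (f ⁻¹ᵁ U)).hom := by
    rw [Scheme.IdealSheafData.ker_subschemeι_app (I ^ 2) ⟨_, hV⟩]
    simp
  rw [h2, RingHom.mem_ker, map_sub, sub_eq_zero]
  rw [← hb, Scheme.Hom.comp_app]
  rfl

end Groth.Agent.S14049
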