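import Groth.Statements.S14050
import Groth.Agent.S14624
import Groth.Agent.S0600
import Groth.Agent.Hensel.K142.ApproxPair

set_option autoImplicit false
universe u
open CategoryTheory CategoryTheory.Limits
open Hensel

namespace Groth.Agent.S14050

/-- Let A be a G-ring, that is a Noetherian ring whose local rings have regular completion maps (for
instance a quasi-excellent ring), let I be an ideal such that (A, I) is a henselian pair, and let Â
be the I-adic completion of A. Let F be a functor from A-algebras (commutative rings under A) to
sets which preserves filtered colimits, let ξ ∈ F(Â) and n ≥ 0. Then there is η ∈ F(A) such that η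
and ξ have the same image in F(A/I^(n+1)). Here π is the A-algebra map Â → A/I^(n+1), pinned by its
underlying ring map, and ρ is the structure map A → A/I^(n+1). (The published statement is for a
limit-preserving contravariant functor on all schemes over Spec A; only its values on affine schemes
enter, and those form a functor on A-algebras preserving filtered colimits, which is the form stated
here.) -/
theorem result (A : Type u) [CommRing A]
    (I : Ideal A) [HenselianRing A I] (hG : CAlg.IsGRing A)
    (F : Under (CommRingCat.of A) ⥤ Type u)
    (hF : ∀ (J : Type u) [SmallCategory J] [IsFiltered J], PreservesColimitsOfShape J F)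
    (n : ℕ)
    (π : Under.mk (CommRingCat.ofHom (algebraMap A (AdicCompletion I A))) ⟶
      Under.mk (CommRingCat.ofHom (algebraMap A (A ⧸ I ^ (n + 1)))))
    (hπ : π.right = CommRingCat.ofHom
      (AdicCompletion.evalₐ I (n + 1) : AdicCompletion I A →ₐ[A] A ⧸ I ^ (n + 1)).toRingHom)
    (ρ : Under.mk (𝟙 (CommRingCat.of A)) ⟶
      Under.mk (CommRingCat.ofHom (algebraMap A (A ⧸ I ^ (n + 1)))))
    (ξ : F.obj (Under.mk (CommRingCat.ofHom (algebraMap A (AdicCompletion I A))))) :
    ∃ η : F.obj (Under.mk (𝟙 (CommRingCat.of A))), F.map ρ η = F.map π ξ := by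
  have hN := hG.1
  by_cases hI : I = ⊤
  · -- the ring is trivial
    have hjac : I ≤ Ideal.jacobson ⊥ := HenselianRing.jac
    have h1 : IsUnit (-1 * 1 + 1 : A) := by
      have h2 : (-1 : A) ∈ Ideal.jacobson ⊥ := hjac (by rw [hI]; trivial)
      exact Ideal.mem_jacobson_bot.mp h2 1
    have h0 : IsUnit (0 : A) := by simpa using h1
    have hsub : Subsingleton A := subsingleton_of_zero_eq_one (isUnit_zero_iff.mp h0)
    have hsub' : Subsingleton (A ⧸ I ^ (n + 1)) :=
      Function.Surjective.subsingleton Ideal.Quotient.mk_surjective
    have hbij : Function.Bijective ρ.right.hom :=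
      ⟨fun x y _ => @Subsingleton.elim A hsub x y,
        fun y => ⟨(0 : A), @Subsingleton.elim (A ⧸ I ^ (n + 1)) hsub' _ _⟩⟩
    have hiso' : IsIso ρ.right := (ConcreteCategory.isIso_iff_bijective ρ.right).mpr hbij
    have hiso : IsIso ρ := by
      have : IsIso ((Under.forget (CommRingCat.of A)).map ρ) := hiso'
      exact isIso_of_reflects_iso ρ (Under.forget (CommRingCat.of A))
    refine ⟨F.map (inv ρ) (F.map π ξ), ?_⟩
    rw [← FunctorToTypes.map_comp_apply, IsIso.inv_hom_id, FunctorToTypes.map_id_apply]
  · exact Groth.Agent.S14624.result A I hI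
      (fun k l c f â hâ => K142.ApproxPair.approx A I (Groth.Agent.S0600.result A hG I) k l c f â hâ)
      F hF (n + 1) π hπ ρ ξ

end Groth.Agent.S14050
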