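import Groth.Statements.S14051
import Mathlib.Algebra.DirectSum.Decomposition
-- import your own Groth.Agent.* helpers here

set_option autoImplicit false
universe u
open CAlg

namespace Groth.Agent.S14051

theorem pow_mul_eq {R : Type u} [CommRing R] {A : Type u} [CommRing A] [Algebra R A]
    (𝒜 : ℕ → Submodule R A) [GradedAlgebra 𝒜]
    (hA : ∀ n : ℕ, 𝒜 (n + 1) = 𝒜 1 * 𝒜 n) (k l : ℕ) : 𝒜 (k + l) ≤ 𝒜 k * 𝒜 l := by
  induction k with
  | zero =>
    intro x hx
    rw [zero_add] at hx
    rw [← one_mul x]
    exact Submodule.mul_mem_mul (SetLike.GradedOne.one_mem) hx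
  | succ k ih =>
    rw [hA k, mul_assoc, show k + 1 + l = (k + l) + 1 by omega, hA (k + l)]
    exact mul_le_mul' le_rfl ih

/-- Let A be a commutative ℕ-graded algebra over a base ring R which is generated by A_1 as an
A_0-algebra, written as A_{n+1} = A_1 · A_n for every n, and let M be a graded A-module: an A-module
with R-submodules M_n giving a direct-sum decomposition and A_i · M_j ⊆ M_{i+j}. If M is spanned
over A by a set of homogeneous elements all of degree at most n₀, then for every n ≥ n₀ and every k
≥ 0 the degree-(n+k) part of M is A_k · M_n. -/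
theorem result
    (R : Type u) [CommRing R] (A : Type u) [CommRing A] [Algebra R A]
    (𝒜 : ℕ → Submodule R A) [GradedAlgebra 𝒜]
    (hA : ∀ n : ℕ, 𝒜 (n + 1) = 𝒜 1 * 𝒜 n)
    (M : Type u) [AddCommGroup M] [Module R M] [Module A M] [IsScalarTower R A M]
    (ℳ : ℕ → Submodule R M) [DirectSum.Decomposition ℳ] [SetLike.GradedSMul 𝒜 ℳ]
    (s : Set M) (n₀ : ℕ) (hs : ∀ y ∈ s, ∃ d : ℕ, d ≤ n₀ ∧ y ∈ ℳ d)
    (hspan : Submodule.span A s = ⊤)
    (n k : ℕ) (hn : n₀ ≤ n) :
    ℳ (n + k) = 𝒜 k • ℳ n := by
  classical
  apply le_antisymm
  · -- the key claim
    have key : ∀ x : M, ∀ (a : A) (m : ℕ), n ≤ m →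
        ((DirectSum.decompose ℳ (a • x) m : ℳ m) : M) ∈ 𝒜 (m - n) • ℳ n := by
      intro x
      have hx : x ∈ Submodule.span A s := by rw [hspan]; trivial
      induction hx using Submodule.span_induction with
      | mem y hy =>
        intro a m hm
        obtain ⟨d, hd, hyd⟩ := hs y hy
        induction a using DirectSum.Decomposition.inductionOn 𝒜 with
        | zero => simp
        | add a b ha hb =>
          rw [add_smul, DirectSum.decompose_add, DirectSum.add_apply, Submodule.coe_add]
          exact Submodule.add_mem _ ha hb
        | @homogeneous i a =>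
          have hmem : (a : A) • y ∈ ℳ (i + d) := SetLike.GradedSMul.smul_mem a.2 hyd
          by_cases him : i + d = m
          · subst him
            rw [DirectSum.decompose_of_mem_same ℳ hmem]
            have h1 : (a : A) ∈ 𝒜 (i + d - n) * 𝒜 (n - d) := by
              apply pow_mul_eq 𝒜 hA
              have : i + d - n + (n - d) = i := by omega
              rw [this]
              exact a.2
            refine Submodule.mul_induction_on h1 ?_ ?_
            · intro b hb c hc
              rw [mul_smul]
              refine Submodule.smul_mem_smul hb ?_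
              have := SetLike.GradedSMul.smul_mem hc hyd
              have h2 : n - d + d = n := by omega
              have h3 : (n - d) +ᵥ d = n := h2
              rwa [h3] at this
            · intro b c hb hc
              rw [add_smul]
              exact Submodule.add_mem _ hb hc
          · rw [DirectSum.decompose_of_mem_ne ℳ hmem him]
            exact Submodule.zero_mem _
      | zero => intro a m hm; simp
      | add x y _ _ hx hy =>
        intro a m hm
        rw [smul_add, DirectSum.decompose_add, DirectSum.add_apply, Submodule.coe_add]
        exact Submodule.add_mem _ (hx a m hm) (hy a m hm)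
      | smul b x _ hx =>
        intro a m hm
        rw [← mul_smul]
        exact hx _ m hm
    intro x hx
    have := key x 1 (n + k) (by omega)
    rw [one_smul, DirectSum.decompose_of_mem_same ℳ hx] at this
    rwa [show n + k - n = k by omega] at this
  · rw [Submodule.smul_le]
    intro a ha x hx
    have := SetLike.GradedSMul.smul_mem ha hx
    have h3 : k +ᵥ n = n + k := Nat.add_comm k n
    rwa [h3] at this

end Groth.Agent.S14051
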