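import Groth.Statements.S14053
import Mathlib.RingTheory.Adjoin.FG
import Mathlib.RingTheory.Adjoin.Polynomial.Basic
import Mathlib.Algebra.DirectSum.Decomposition
import Mathlib.LinearAlgebra.FiniteDimensional.Basic
import Mathlib.LinearAlgebra.Dimension.Finite
import Mathlib.Tactic.Ring
-- import your own Groth.Agent.* helpers here

set_option autoImplicit false
universe u
open CAlg

namespace Groth.Agent.S14053

theorem core {k R ι : Type*} [Field k] [CommRing R] [Algebra k R] (ℛ : ℕ → Submodule k R)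
    [GradedAlgebra ℛ] [Fintype ι] [DecidableEq ι]
    (g : ι → R) (w c : ι → ℕ) (hg : ∀ i, g i ∈ ℛ (w i)) (D : ℕ) (hD : ∀ i, w i * c i = D)
    (hgen : Algebra.adjoin k (Set.range g) = ⊤)
    (N : ℕ) (hN : ∑ i, w i * (c i - 1) < N) : ℛ N ≤ ℛ D * ℛ (N - D) := by
  classical
  intro x hx
  have hx1 : x ∈ Algebra.adjoin k (Set.range g) := by rw [hgen]; trivial
  rw [Algebra.adjoin_range_eq_range_aeval] at hx1
  obtain ⟨F, hF⟩ := hx1
  have hF' : MvPolynomial.aeval g F = x := hF
  rw [MvPolynomial.aeval_def, MvPolynomial.eval₂_eq'] at hF'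
  have hx2 : ((DirectSum.decompose ℛ x N : ℛ N) : R) = x := DirectSum.decompose_of_mem_same ℛ hx
  rw [← hx2, ← hF', DirectSum.decompose_sum, DFinsupp.finset_sum_apply, Submodule.coe_sum]
  refine Submodule.sum_mem _ fun s _ => ?_
  have hmem : algebraMap k R (MvPolynomial.coeff s F) * ∏ i, g i ^ s i ∈ ℛ (∑ i, s i • w i) := by
    rw [← Algebra.smul_def]
    exact Submodule.smul_mem _ _ (SetLike.prod_pow_mem_graded ℛ _ _ _ fun i _ => hg i)
  by_cases hs : ∑ i, s i • w i = N
  · rw [hs] at hmem
    rw [DirectSum.decompose_of_mem_same ℛ hmem, ← Algebra.smul_def]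
    refine Submodule.smul_mem _ _ ?_
    obtain ⟨i, hi⟩ : ∃ i, c i ≤ s i := by
      by_contra hcon
      push Not at hcon
      apply absurd hN
      rw [not_lt, ← hs]
      refine Finset.sum_le_sum fun i _ => ?_
      rw [smul_eq_mul, mul_comm]
      exact Nat.mul_le_mul_left _ (Nat.le_sub_one_of_lt (hcon i))
    let s' : ι → ℕ := fun j => if j = i then s j - c j else s j
    have h1 : ∏ j, g j ^ s j = g i ^ c i * ∏ j, g j ^ s' j := by
      rw [← Finset.mul_prod_erase Finset.univ (fun j => g j ^ s j) (Finset.mem_univ i),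
        ← Finset.mul_prod_erase Finset.univ (fun j => g j ^ s' j) (Finset.mem_univ i), ← mul_assoc]
      congr 1
      · simp only [s', if_true]
        rw [← pow_add, Nat.add_sub_cancel' hi]
      · refine Finset.prod_congr rfl fun j hj => ?_
        simp only [s', if_neg (Finset.ne_of_mem_erase hj)]
    have h2 : ∑ j, s j • w j = D + ∑ j, s' j • w j := by
      rw [← Finset.add_sum_erase Finset.univ (fun j => s j • w j) (Finset.mem_univ i),
        ← Finset.add_sum_erase Finset.univ (fun j => s' j • w j) (Finset.mem_univ i), ← add_assoc]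
      congr 1
      · simp only [s', if_true, smul_eq_mul]
        rw [← hD i, mul_comm (w i), ← Nat.add_mul, Nat.add_sub_cancel' hi]
      · refine Finset.sum_congr rfl fun j hj => ?_
        simp only [s', if_neg (Finset.ne_of_mem_erase hj)]
    rw [h1]
    refine Submodule.mul_mem_mul ?_ ?_
    · have := SetLike.pow_mem_graded (c i) (hg i)
      rwa [smul_eq_mul, mul_comm, hD] at this
    · have h3 := SetLike.prod_pow_mem_graded ℛ (F := Finset.univ) (fun j => w j) g s' fun i _ => hg i
      have h4 : ∑ j, s' j • w j = N - D := by omega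
      rwa [h4] at h3
  · rw [DirectSum.decompose_of_mem_ne ℛ hmem hs]
    exact Submodule.zero_mem _

/-- Let k be a field and R a commutative ℕ-graded k-algebra with R_0 = k · 1 which is generated as a
k-algebra by R_1, R_2 and R_3, each a finite-dimensional k-vector space, of dimensions d_1, d_2,
d_3. Then for every natural number e ≥ 5 d_1 + 4 d_2 + 3 d_3 the (6e)-th Veronese subring of R is
generated in degree one over k: R_{6em} = (R_{6e})^m for every m > 0. -/
theorem result
    (k : Type u) [Field k] (R : Type u) [CommRing R] [Algebra k R]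
    (ℛ : ℕ → Submodule k R) [GradedAlgebra ℛ]
    (h0 : ℛ 0 = 1)
    (hgen : Algebra.adjoin k ((ℛ 1 : Set R) ∪ (ℛ 2 : Set R) ∪ (ℛ 3 : Set R)) = ⊤)
    [Module.Finite k (ℛ 1)] [Module.Finite k (ℛ 2)] [Module.Finite k (ℛ 3)]
    (e : ℕ) (he : 5 * Module.finrank k (ℛ 1) + 4 * Module.finrank k (ℛ 2) + 3 * Module.finrank k (ℛ 3) ≤ e)
    (m : ℕ) (hm : 0 < m) :
    ℛ (m * (6 * e)) = ℛ (6 * e) ^ m := by
  classical
  let b1 := Module.finBasis k (ℛ 1)
  let b2 := Module.finBasis k (ℛ 2)
  let b3 := Module.finBasis k (ℛ 3)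
  let ι := Fin (Module.finrank k (ℛ 1)) ⊕ Fin (Module.finrank k (ℛ 2)) ⊕ Fin (Module.finrank k (ℛ 3))
  let g : ι → R := Sum.elim (fun i => (b1 i : R)) (Sum.elim (fun i => (b2 i : R)) (fun i => (b3 i : R)))
  let w : ι → ℕ := Sum.elim (fun _ => 1) (Sum.elim (fun _ => 2) (fun _ => 3))
  let c : ι → ℕ := Sum.elim (fun _ => 6) (Sum.elim (fun _ => 3) (fun _ => 2))
  have hg : ∀ i, g i ∈ ℛ (w i) := by
    rintro (i | i | i)
    · exact (b1 i).2
    · exact (b2 i).2
    · exact (b3 i).2
  have hD : ∀ i, w i * c i = 6 := by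
    rintro (i | i | i) <;> rfl
  have hsum : ∑ i, w i * (c i - 1) = 5 * Module.finrank k (ℛ 1) + 4 * Module.finrank k (ℛ 2) +
      3 * Module.finrank k (ℛ 3) := by
    rw [Fintype.sum_sum_type, Fintype.sum_sum_type]
    simp [w, c]
    ring
  have hspan : ∀ (d : ℕ) {m : ℕ} (b : Module.Basis (Fin m) k (ℛ d)), (ℛ d : Set R) ⊆
      Submodule.span k (Set.range fun i => (b i : R)) := by
    intro d m b x hx
    have h1 : (⟨x, hx⟩ : ℛ d) ∈ Submodule.span k (Set.range b) := by rw [b.span_eq]; trivial
    have h2 := Submodule.mem_map_of_mem (f := (ℛ d).subtype) h1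
    rw [Submodule.map_span, ← Set.range_comp] at h2
    exact h2
  have hgen' : Algebra.adjoin k (Set.range g) = ⊤ := by
    rw [eq_top_iff, ← hgen, Algebra.adjoin_le_iff]
    have h0 : Submodule.span k (Set.range g) ≤ Subalgebra.toSubmodule (Algebra.adjoin k (Set.range g)) :=
      Algebra.span_le_adjoin k _
    rintro x ((hx | hx) | hx)
    · exact h0 (Submodule.span_mono (by rintro _ ⟨i, rfl⟩; exact ⟨Sum.inl i, rfl⟩) (hspan 1 b1 hx))
    · exact h0 (Submodule.span_mono (by rintro _ ⟨i, rfl⟩; exact ⟨Sum.inr (Sum.inl i), rfl⟩) (hspan 2 b2 hx))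
    · exact h0 (Submodule.span_mono (by rintro _ ⟨i, rfl⟩; exact ⟨Sum.inr (Sum.inr i), rfl⟩) (hspan 3 b3 hx))
  have hcore := core ℛ g w c hg 6 hD hgen'
  rw [hsum] at hcore
  have hpow : ∀ (a n : ℕ), ℛ a ^ n ≤ ℛ (n * a) := by
    intro a n
    induction n with
    | zero => rw [pow_zero, zero_mul, h0]
    | succ n ih =>
      rw [pow_succ]
      refine (mul_le_mul' ih le_rfl).trans ?_
      rw [Submodule.mul_le]
      intro x hx y hy
      have := SetLike.GradedMul.mul_mem hx hy
      rwa [show n * a + a = (n + 1) * a by ring] at this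
  have hiter : ∀ (N n : ℕ), 5 * Module.finrank k (ℛ 1) + 4 * Module.finrank k (ℛ 2) +
      3 * Module.finrank k (ℛ 3) ≤ N → ℛ (N + 6 * n) ≤ ℛ 6 ^ n * ℛ N := by
    intro N n hN
    induction n with
    | zero => rw [pow_zero, one_mul, mul_zero, add_zero]
    | succ n ih =>
      refine (hcore (N + 6 * (n + 1)) (by omega)).trans ?_
      rw [show N + 6 * (n + 1) - 6 = N + 6 * n by omega, pow_succ', mul_assoc]
      exact mul_le_mul' le_rfl ih
  apply le_antisymm
  · induction m, hm using Nat.le_induction with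
    | base => rw [pow_one]; simp
    | succ m hm ih =>
      have h1 := hiter (m * (6 * e)) e (by
        refine he.trans ?_
        nlinarith)
      rw [show m * (6 * e) + 6 * e = (m + 1) * (6 * e) by ring] at h1
      refine h1.trans ?_
      rw [pow_succ']
      refine mul_le_mul' ?_ ih
      have := hpow 6 e
      rwa [mul_comm e 6] at this
  · exact hpow _ _

end Groth.Agent.S14053
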