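import Groth.Statements.S14054
import Groth.Agent.Variety.K428.ZTower
import Groth.Agent.AdjLin.K800.Crit

set_option autoImplicit false
universe u
open CategoryTheory CategoryTheory.Limits AlgebraicGeometry TopologicalSpace
open Variety

namespace Groth.Agent.S14054

open K800.Tower K800.SheafTower K800.MulMap K800.Cls K800.KosCrit
open Groth.Agent.Ega2 Groth.Agent.Ega2.Tens Groth.Agent.Fdesc.LocGen
open Groth.Agent.CurvesC

theorem isInvertible_of_iso {X : Scheme.{u}} {L L' : X.Modules} (e : L ≅ L') (h : PicF.IsInvertible L) :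
    PicF.IsInvertible L' := fun x => by
  obtain ⟨U, hU, ⟨f⟩⟩ := h x
  exact ⟨U, hU, ⟨(Scheme.Modules.restrictFunctor U.ι).mapIso e.symm ≪≫ f⟩⟩

section

attribute [local instance] LinMod.linearModules Abelian.hasFiniteBiproducts

/-- A basis of the sections of a globally generated invertible module generates it. -/
theorem exists_basis (k : Type u) [Field k]
    (X : Scheme.{u}) [X.Over (Spec (CommRingCat.of k))] [IsProper (X ↘ (Spec (CommRingCat.of k)))]
    (L : X.Modules) (hL : PicF.IsInvertible L) (hgg : Curv2.IsGloballyGenerated L) :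
    ∃ s : Fin (Module.finrank k (Coh.HH X L 0)) → (Coh.structureModule X ⟶ L),
      ∀ x : X, ∃ i, x ∈ CohB1.genLocus L (s i) := by
  have := K800.Crit.isLocallyNoetherian k (X := X)
  have hfin : Module.Finite k (Coh.HH X L 0) :=
    Groth.Agent.S0002.result k X L (Groth.Agent.Fdesc.CurveMap.isCoh_of_isInvertible hL) 0
  have h1 : Module.Finite k (Coh.structureModule X ⟶ L) :=
    Module.Finite.equiv (K800.HomDim.secHom k L).symm
  have h2 : Module.finrank k (Coh.structureModule X ⟶ L) = Module.finrank k (Coh.HH X L 0) :=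
    (K800.HomDim.secHom k L).finrank_eq
  rw [← h2]
  let B := Module.finBasis k (Coh.structureModule X ⟶ L)
  exact ⟨fun i => B i, K800.Crit.exists_mem_genLocus k hL hgg _ fun t => by rw [B.span_eq]; trivial⟩

end

/-- Let X be a proper scheme over a field k, L a globally generated invertible O_X-module with tensor
inverse M, r = dim_k H⁰(X, L), and b ≥ 1 an integer such that H^q(X, L^{⊗(b−q)}) = 0 whenever 1 ≤ q
≤ r − 1, where for q > b the module L^{⊗(b−q)} is the tensor power M^{⊗(q−b)}. Then the
multiplication map H⁰(X, L^{⊗b}) ⊗ H⁰(X, L) → H⁰(X, L^{⊗(b+1)}) is surjective. The map is written as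
the canonical map from the global sections of the sectionwise tensor product presheaf of L^{⊗b} and
L (these are H⁰(L^{⊗b}) ⊗ H⁰(L), tensor over the global functions) to the global sections of its
sheafification L^{⊗b} ⊗ L = L^{⊗(b+1)}. The base field is arbitrary. -/
theorem result (k : Type u) [Field k]
    (X : Scheme.{u}) [X.Over (Spec (CommRingCat.of k))] [IsProper (X ↘ (Spec (CommRingCat.of k)))]
    (L : X.Modules) (hL : PicF.IsInvertible L) (hgg : Curv2.IsGloballyGenerated L)
    (M : X.Modules) (hM : ClSub.IsInverseOf M L)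
    (b : ℕ) (hb : 1 ≤ b)
    (hvan₁ : ∀ q : ℕ, 1 ≤ q → q ≤ b → q < Module.finrank k (Coh.HH X L 0) →
      Subsingleton (Coh.HH X (CohB1.tensorPow L (b - q)) q))
    (hvan₂ : ∀ q : ℕ, b < q → q < Module.finrank k (Coh.HH X L 0) →
      Subsingleton (Coh.HH X (CohB1.tensorPow M (q - b)) q)) :
    Function.Surjective
      ((toSheafify (Opens.grothendieckTopology X) (CohB1.tensorPre (CohB1.tensorPow L b) L).presheaf).app
        (Opposite.op ⊤)) := by
  rw [← mulSurj_iff]
  obtain ⟨e⟩ := hM
  have hM' : PicF.IsInvertible M := by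
    obtain ⟨A', hA', ⟨a⟩⟩ := Groth.Agent.Grpsch.PicGrp.exists_inverse hL
    exact isInvertible_of_iso
      ((lunit A').symm ≪≫ mapTIso e.symm (Iso.refl A') ≪≫ Tens.assoc M L A' ≪≫
        mapTIso (Iso.refl M) a ≪≫ runit M) hA'
  obtain ⟨s, hs⟩ := exists_basis k X L hL hgg
  refine K428.ZTower.mulSurj e hL hM' (CohB1.tensorPow L b) s hs fun j h1 h2 => ?_
  change Subsingleton (Coh.HH X (towObj (CohB1.tensorPow L (b + 1)) M (j + 1)) j)
  rcases Nat.lt_or_ge b j with hj | hj
  · obtain ⟨c, rfl⟩ : ∃ c, j = b + c := ⟨j - b, by omega⟩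
    have h3 := hvan₂ (b + c) hj h2
    have e1 : b + c - b = c := by omega
    rw [e1, ← K428.ZTower.towObj_unit] at h3
    obtain ⟨f⟩ := K428.ZTower.towObj_pow e 0 (b + 1)
    rw [zero_add] at f
    have e2 : b + c + 1 = (b + 1) + c := by ring
    rw [e2, K428.ZTower.towObj_add]
    exact Groth.Agent.Fga.HShift.subsingleton_of_iso (K428.ZTower.towIso M f c).symm _ h3
  · obtain ⟨c, rfl⟩ : ∃ c, b = c + j := ⟨b - j, by omega⟩
    have h3 := hvan₁ j h1 hj h2
    have e1 : c + j - j = c := by omega
    rw [e1] at h3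
    obtain ⟨f⟩ := K428.ZTower.towObj_pow e c (j + 1)
    exact Groth.Agent.Fga.HShift.subsingleton_of_iso f.symm _ h3

end Groth.Agent.S14054
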