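import Groth.Statements.S14055
import Groth.Agent.Surf.K456.Adj
import Groth.Agent.Surf.K456.SecTriv

set_option autoImplicit false
universe u
open CategoryTheory CategoryTheory.Limits AlgebraicGeometry TopologicalSpace
open Surf

namespace Groth.Agent.S14055

open Groth.Agent.Grpsch.PicGrp K464.Base K464.Curves K464.Comp


/-- Let k be an algebraically closed field and X a smooth surface over k: an integral scheme, proper and
smooth over k, of dimension 2; let W be its canonical module, a second exterior power of Ω_{X/k}.
For an invertible module L and an integral closed one-dimensional subscheme C ⊆ X write (L·C) =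
χ(O_C ⊗ L) − χ(O_C). If W is nef, that is (W·C) ≥ 0 for every such C, then X is minimal: it contains
no (−1)-curve, where a (−1)-curve is taken, through its numerical characterization, to be an
integral closed one-dimensional subscheme E with H¹(E, O_E) = 0 and (O_X(E)·E) = −1, O_X(E) being a
tensor inverse of the ideal sheaf of E. -/
theorem result (k : Type u) [Field k] [IsAlgClosed k] (X : Scheme.{u})
    [X.Over (Spec (CommRingCat.of k))] [IsProper (X ↘ (Spec (CommRingCat.of k)))] [Smooth (X ↘ (Spec (CommRingCat.of k)))]
    [IsIntegral X] (hdim : topologicalKrullDim X = 2)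
    (W : X.Modules) (hW : ExtPow.IsExtPow 2 (Omega.sheaf (X ↘ (Spec (CommRingCat.of k)))) W)
    (hnef : (∀ C : X.IdealSheafData, IsIntegral C.subscheme → topologicalKrullDim (C.support : Set X) = 1 →
      0 ≤ Curv2.euler k X (CohB1.tensorMod (ClSub.quotMod C) W) - Curv2.euler k X (ClSub.quotMod C))) :
    (∀ (E : X.IdealSheafData) (N : X.Modules), IsIntegral E.subscheme →
      topologicalKrullDim (E.support : Set X) = 1 → ClSub.IsInverseOf N (ClSub.idealMod E) →
      Subsingleton (Coh.HH E.subscheme (Coh.structureModule E.subscheme) 1) →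
      Curv2.euler k X (CohB1.tensorMod (ClSub.quotMod E) N) - Curv2.euler k X (ClSub.quotMod E) ≠ -1) := by
  intro E N hE hEdim hN h1 hcon
  have hd : topologicalKrullDim X ≤ (2 : ℕ) := hdim.le
  have hC : IsCurve E := ⟨hE, hEdim⟩
  have hCe := isEff_of_smooth k hdim hC
  have hWi := K456.Adj.isInvertible_canonical k hdim hW
  have hNi : PicF.IsInvertible N := by
    obtain ⟨e⟩ := hN
    exact K456.SecTriv.isInvertible_of_inverse (Dix.IdealModCartier.isInvertible_idealMod hCe) e
  have h2 : mk N hNi = (ic E hCe)⁻¹ := mk_eq_ic_inv hN hNi hCe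
  have h3 := K456.Adj.eq_of_h1 k hdim hW hWi hC hCe h1
  have h4 : degOn k X E (mk N hNi) = -1 := by rw [degOn_mk]; exact hcon
  rw [h2, degOn_eq_neg_dot k X hCe, dot_inv_right k X hd] at h4
  have h5 : 0 ≤ degOn k X E (mk W hWi) := by rw [degOn_mk]; exact hnef E hE hEdim
  rw [degOn_eq_neg_dot k X hCe] at h5
  linarith

end Groth.Agent.S14055
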