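import Groth.Statements.S14056
import Groth.Agent.Surf.K456.Adj
import Groth.Agent.Surf.K456.SecTriv
import Groth.Agent.Surf.K456.NefSq

set_option autoImplicit false
universe u
open CategoryTheory CategoryTheory.Limits AlgebraicGeometry TopologicalSpace
open Surf

namespace Groth.Agent.S14056

open Groth.Agent.Grpsch.PicGrp K464.Base K464.Curves K464.Comp K464.DivLat


/-- Let k be an algebraically closed field and X a smooth surface over k: an integral scheme, proper and
smooth over k, of dimension 2; let W be its canonical module, a second exterior power of Ω_{X/k}.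
For an invertible module L and an integral closed one-dimensional subscheme C ⊆ X write (L·C) =
χ(O_C ⊗ L) − χ(O_C). Suppose that X has non-negative Kodaira dimension, that is some tensor power
W^{⊗m} with m > 0 has a nonzero global section, and that X is minimal: it contains no (−1)-curve,
where a (−1)-curve is taken, through its numerical characterization, to be an integral closed
one-dimensional subscheme E with H¹(E, O_E) = 0 and (O_X(E)·E) = −1, O_X(E) being a tensor inverse
of the ideal sheaf of E. Then W is nef: (W·C) ≥ 0 for every integral closed one-dimensional C ⊆ X.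
(Together with the first assertion: under non-negative Kodaira dimension, X is minimal if and only
if W is nef.) -/
theorem result (k : Type u) [Field k] [IsAlgClosed k] (X : Scheme.{u})
    [X.Over (Spec (CommRingCat.of k))] [IsProper (X ↘ (Spec (CommRingCat.of k)))] [Smooth (X ↘ (Spec (CommRingCat.of k)))]
    [IsIntegral X] (hdim : topologicalKrullDim X = 2)
    (W : X.Modules) (hW : ExtPow.IsExtPow 2 (Omega.sheaf (X ↘ (Spec (CommRingCat.of k)))) W)
    (m : ℕ) (hm : 0 < m) (hsec : Nontrivial (Coh.HH X (CohB1.tensorPow W m) 0))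
    (hmin : (∀ (E : X.IdealSheafData) (N : X.Modules), IsIntegral E.subscheme →
      topologicalKrullDim (E.support : Set X) = 1 → ClSub.IsInverseOf N (ClSub.idealMod E) →
      Subsingleton (Coh.HH E.subscheme (Coh.structureModule E.subscheme) 1) →
      Curv2.euler k X (CohB1.tensorMod (ClSub.quotMod E) N) - Curv2.euler k X (ClSub.quotMod E) ≠ -1)) :
    (∀ C : X.IdealSheafData, IsIntegral C.subscheme → topologicalKrullDim (C.support : Set X) = 1 →
      0 ≤ Curv2.euler k X (CohB1.tensorMod (ClSub.quotMod C) W) - Curv2.euler k X (ClSub.quotMod C)) := by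
  intro C hCi hCd
  have hd : topologicalKrullDim X ≤ (2 : ℕ) := hdim.le
  have : IsNoetherian X := CurvesB.CurveRR.isNoetherian_of_proper k X
  have hC : IsCurve C := ⟨hCi, hCd⟩
  have hCe := isEff_of_smooth k hdim hC
  have hWi := K456.Adj.isInvertible_canonical k hdim hW
  by_contra hcon
  have h0 : degOn k X C (mk W hWi) < 0 := by rw [degOn_mk]; exact not_le.1 hcon
  rw [degOn_eq_neg_dot k X hCe] at h0
  -- an effective pluricanonical divisor
  obtain ⟨s, hs⟩ := K456.SecTriv.exists_ne_zero_of_nontrivial hsec
  obtain ⟨D, hD, e⟩ := K456.NefSq.exists_divisor (Fdesc.LocGen.isInvertible_tensorPow hWi m) s hs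
  rw [mk_tensorPow hWi] at e
  obtain ⟨n, J, hJ, hDJ, hgp⟩ := exists_split (C := fun _ : Unit => C) (fun _ => hC) (fun _ => hCe) hD
  have hcyc : cyc (fun _ : Unit => C) n = C ^ n () := by
    unfold cyc
    simp
  rw [hcyc] at hDJ
  have e2 : ic D hD = ic C hCe ^ n () * ic J hJ := by
    rw [← ic_pow, ← ic_mul, ic_congr _ _ hDJ]
  have h1 := degOn_ic_nonpos k hC hJ (hgp ())
  rw [degOn_eq_neg_dot k X hCe] at h1
  have h2 : dot k X (ic C hCe) (mk W hWi ^ m) = -(n () * dot k X (ic C hCe) (ic C hCe) + dot k X (ic C hCe) (ic J hJ)) := by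
    rw [e, e2, dot_inv_right k X hd, dot_mul_right k X hd, dot_pow_right k X hd]
  rw [dot_pow_right k X hd] at h2
  have hm' : (0 : ℤ) < m := by exact_mod_cast hm
  have h3 : 0 < (m : ℤ) * dot k X (ic C hCe) (mk W hWi) := mul_pos hm' (by linarith)
  have hCC : dot k X (ic C hCe) (ic C hCe) < 0 := by
    by_contra h4
    have h5 : 0 ≤ (n () : ℤ) * dot k X (ic C hCe) (ic C hCe) := mul_nonneg (by positivity) (not_lt.1 h4)
    linarith
  obtain ⟨h5, h6⟩ := K456.Adj.h1_of_neg k hdim hW hWi hC hCe (by linarith)
  -- the inverse of the ideal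
  obtain ⟨N, hN, hNC⟩ := exists_mk (ic C hCe)⁻¹
  have hinv : ClSub.IsInverseOf N (ClSub.idealMod C) := by
    have h7 : mk N hN * ic C hCe = 1 := by rw [← hNC, inv_mul_cancel]
    unfold ic at h7
    rw [mk_mul_mk, mk_eq_one_iff] at h7
    exact h7
  refine hmin C N hCi hCd hinv h5 ?_
  rw [← degOn_mk k X C hN, ← hNC, degOn_eq_neg_dot k X hCe, dot_inv_right k X hd]
  omega

end Groth.Agent.S14056
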