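import Groth.Statements.S14057
import Groth.Agent.Surf.K456.Adj
import Groth.Agent.Surf.K456.SecTriv
import Groth.Agent.Surf.K456.Nakai
import Groth.Agent.Surf.K456.AmpleEx

set_option autoImplicit false
universe u
open CategoryTheory CategoryTheory.Limits AlgebraicGeometry TopologicalSpace
open Surf

namespace Groth.Agent.S14057

open Groth.Agent.Grpsch.PicGrp K464.Base K464.Curves K464.Comp K464.DivLat


/-- Let k be an algebraically closed field and X a smooth surface over k: an integral scheme, proper and
smooth over k, of dimension 2; let W be its canonical module, a second exterior power of Ω_{X/k}.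
For an invertible module L and an integral closed one-dimensional subscheme C ⊆ X write (L·C) =
χ(O_C ⊗ L) − χ(O_C), and (W·W) for the self-intersection number of W (the alternating sum χ(O_X) −
2χ(W) + χ(W ⊗ W)). Suppose W is nef and (W·W) > 0. Then W is ample if and only if X contains no
(−2)-curve, where a (−2)-curve is taken, through its numerical characterization, to be an integral
closed one-dimensional subscheme E with H¹(E, O_E) = 0 and (O_X(E)·E) = −2, O_X(E) being a tensor
inverse of the ideal sheaf of E. (The published statement is for a minimal surface of general type;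
its proof uses exactly that the canonical module is nef with positive self-intersection, which is
how the hypothesis is written here.) -/
theorem result (k : Type u) [Field k] [IsAlgClosed k] (X : Scheme.{u})
    [X.Over (Spec (CommRingCat.of k))] [IsProper (X ↘ (Spec (CommRingCat.of k)))] [Smooth (X ↘ (Spec (CommRingCat.of k)))]
    [IsIntegral X] (hdim : topologicalKrullDim X = 2)
    (W : X.Modules) (hW : ExtPow.IsExtPow 2 (Omega.sheaf (X ↘ (Spec (CommRingCat.of k)))) W)
    (hnef : (∀ C : X.IdealSheafData, IsIntegral C.subscheme → topologicalKrullDim (C.support : Set X) = 1 →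
      0 ≤ Curv2.euler k X (CohB1.tensorMod (ClSub.quotMod C) W) - Curv2.euler k X (ClSub.quotMod C)))
    (hpos : 0 < FGA.intNum k X 2 ![W, W] (Coh.structureModule X)) :
    CohB1.IsAmple W ↔
    (∀ (E : X.IdealSheafData) (N : X.Modules), IsIntegral E.subscheme →
      topologicalKrullDim (E.support : Set X) = 1 → ClSub.IsInverseOf N (ClSub.idealMod E) →
      Subsingleton (Coh.HH E.subscheme (Coh.structureModule E.subscheme) 1) →
      Curv2.euler k X (CohB1.tensorMod (ClSub.quotMod E) N) - Curv2.euler k X (ClSub.quotMod E) ≠ -2) := by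
  have hd : topologicalKrullDim X ≤ (2 : ℕ) := hdim.le
  have hWi := K456.Adj.isInvertible_canonical k hdim hW
  constructor
  · intro hamp E N hE hEdim hN h1 hcon
    have hC : IsCurve E := ⟨hE, hEdim⟩
    have hCe := isEff_of_smooth k hdim hC
    have hNi : PicF.IsInvertible N := by
      obtain ⟨e⟩ := hN
      exact K456.SecTriv.isInvertible_of_inverse (Dix.IdealModCartier.isInvertible_idealMod hCe) e
    have h2 : mk N hNi = (ic E hCe)⁻¹ := mk_eq_ic_inv hN hNi hCe
    have h3 := K456.Adj.eq_of_h1 k hdim hW hWi hC hCe h1
    have h4 : degOn k X E (mk N hNi) = -2 := by rw [degOn_mk]; exact hcon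
    rw [h2, degOn_eq_neg_dot k X hCe, dot_inv_right k X hd] at h4
    have h5 := degOn_pos_of_ample k hC hWi hamp
    rw [degOn_eq_neg_dot k X hCe] at h5
    linarith
  · intro hno
    obtain ⟨H, hH⟩ := K456.AmpleEx.exists_ample k X hdim
    have hsq : 0 < dot k X (mk W hWi) (mk W hWi) := by
      rw [← intNum_eq_dot k X hd hWi hWi]; exact hpos
    refine K456.Nakai.nakai k hdim hH hWi (fun C hC => ?_) hsq
    have hCe := isEff_of_smooth k hdim hC
    have h0 : 0 ≤ degOn k X C (mk W hWi) := by rw [degOn_mk]; exact hnef C hC.integral hC.dim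
    refine lt_of_le_of_ne h0 fun h1 => ?_
    have h2 : dot k X (mk W hWi) (ic C hCe) = 0 := by
      rw [degOn_eq_neg_dot k X hCe] at h1
      rw [dot_comm]; linarith
    have h3 : dot k X (ic C hCe) (mk H hH.1) ≠ 0 := by
      have h4 := degOn_pos_of_ample k hC hH.1 hH
      rw [degOn_eq_neg_dot k X hCe] at h4
      intro h5; rw [h5] at h4; linarith
    have hneg := K456.Nakai.hodge_neg k hdim hH hsq h2 h3
    rw [dot_comm] at h2
    obtain ⟨h5, h6⟩ := K456.Adj.h1_of_neg k hdim hW hWi hC hCe (by linarith)
    obtain ⟨N, hN, hNC⟩ := exists_mk (ic C hCe)⁻¹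
    have hinv : ClSub.IsInverseOf N (ClSub.idealMod C) := by
      have h7 : mk N hN * ic C hCe = 1 := by rw [← hNC, inv_mul_cancel]
      unfold ic at h7
      rw [mk_mul_mk, mk_eq_one_iff] at h7
      exact h7
    refine hno C N hC.integral hC.dim hinv h5 ?_
    rw [← degOn_mk k X C hN, ← hNC, degOn_eq_neg_dot k X hCe, dot_inv_right k X hd]
    linarith

end Groth.Agent.S14057
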