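import Groth.Statements.S14059
import Groth.Agent.Flat2D.SliceQF
import Groth.Agent.VarietyA.RegPoint
import Groth.Agent.Grpsch.Transl

set_option autoImplicit false
universe u
open CategoryTheory MonoidalCategory CartesianMonoidalCategory MonObj GrpObj AlgebraicGeometry
open GrpSch

namespace Groth.Agent.S14059

/-- An automorphism of a scheme carrying `x` to `y` identifies the local rings. -/
theorem isField_of_iso {X Y : Scheme.{u}} (f : X ⟶ Y) [IsIso f] (x : X) (y : Y) (h : f x = y)
    (hy : IsField (Y.presheaf.stalk y)) : IsField (X.presheaf.stalk x) := by
  subst h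
  exact (asIso (f.stalkMap x)).commRingCatIsoToRingEquiv.symm.toMulEquiv.isField hy

/-- Let k be an algebraically closed field and G a group scheme of finite type over k, with unit point e
(the image of the unit section). Then the tangent space of G at e is zero, that is the cotangent
space m_e/m_e² of the local ring O_{G,e} vanishes, if and only if G is isomorphic over k to a finite
disjoint union of copies of Spec k, stated as: the underlying space of G is finite and discrete and
the structure map k → O_{G,g} is bijective for every point g. (The published statement is over an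
arbitrary field; the group scheme of cube roots of unity over the rationals has zero tangent space
at the unit but a point with residue field larger than the base field, and the printed argument
translates by rational points, so the base field is taken algebraically closed here.) -/
theorem result (k : Type u) [Field k] [IsAlgClosed k]
    (G : Over (Spec (CommRingCat.of k))) [GrpObj G] [LocallyOfFiniteType G.hom] [QuasiCompact G.hom]
    (e : G.left) (he : e ∈ Set.range (η[G]).left.base) :
    letI : G.left.Over (Spec (CommRingCat.of k)) := ⟨G.hom⟩
    Subsingleton (IsLocalRing.CotangentSpace (G.left.presheaf.stalk e)) ↔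
      (Finite G.left ∧ DiscreteTopology G.left ∧
        ∀ g : G.left, Function.Bijective (Curv2.stalkMap k G.left g)) := by
  letI inst : G.left.Over (Spec (CommRingCat.of k)) := ⟨G.hom⟩
  have hN : IsLocallyNoetherian G.left :=
    LocallyOfFiniteType.isLocallyNoetherian (Y := Spec (CommRingCat.of k)) G.hom
  have hJ : JacobsonSpace G.left := LocallyOfFiniteType.jacobsonSpace (Y := Spec _) G.hom
  rw [IsLocalRing.subsingleton_cotangentSpace_iff]
  constructor
  · intro hf
    have hec : IsClosed ({e} : Set G.left) := by
      obtain ⟨s, rfl⟩ := he
      have h1 : (η[G]).left ≫ G.hom = 𝟙 _ := Over.w η[G]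
      have h2 := isClosedImmersion_of_comp_eq_id G.hom _ h1
      have h3 := (η[G]).left.isClosedEmbedding.isClosed_range
      have h4 : Set.range (η[G]).left = {(η[G]).left s} := by
        refine subset_antisymm ?_ (by rintro _ rfl; exact ⟨s, rfl⟩)
        rintro _ ⟨y, rfl⟩
        have : y = s := Subsingleton.elim (α := PrimeSpectrum k) _ _
        rw [this]; rfl
      rwa [h4] at h3
    have hfield : ∀ g : G.left, IsClosed ({g} : Set G.left) → IsField (G.left.presheaf.stalk g) := by
      intro g hg
      obtain ⟨α, hα⟩ := Grpsch.Transl.exists_iso_of_closedPoints G g e hg hec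
      have : IsIso α.hom.left := inferInstanceAs (IsIso ((Over.forget _).map α.hom))
      exact isField_of_iso α.hom.left g e hα hf
    have hopen : ∀ g : G.left, IsClosed ({g} : Set G.left) → IsOpen ({g} : Set G.left) := by
      intro g hg
      refine Flat2D.SliceQF.isOpen_singleton_of_dim_zero g hg ?_
      rw [ringKrullDim_eq_zero_of_isField (hfield g hg)]
    have hclosed : ∀ g : G.left, IsClosed ({g} : Set G.left) := by
      by_contra hcon
      push Not at hcon
      obtain ⟨g, hg⟩ := hcon
      have hΩ : IsOpen {x : G.left | IsClosed ({x} : Set G.left)} := by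
        rw [isOpen_iff_forall_mem_open]
        intro x hx
        exact ⟨{x}, by rintro _ rfl; exact hx, hopen x hx, rfl⟩
      obtain ⟨y, hy, hyc⟩ := nonempty_inter_closedPoints
        (Z := {x : G.left | IsClosed ({x} : Set G.left)}ᶜ) ⟨g, hg⟩ hΩ.isClosed_compl.isLocallyClosed
      exact hy hyc
    have hdisc : DiscreteTopology G.left :=
      discreteTopology_iff_isOpen_singleton.mpr fun g => hopen g (hclosed g)
    have : CompactSpace G.left := by
      have := QuasiCompact.compactSpace_of_compactSpace (f := G.hom)
      exact this
    refine ⟨finite_of_compact_of_discrete, hdisc, fun g => ⟨RingHom.injective _, fun a => ?_⟩⟩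
    have hl : LocallyOfFiniteType (G.left ↘ Spec (CommRingCat.of k)) :=
      inferInstanceAs (LocallyOfFiniteType G.hom)
    obtain ⟨c, hc⟩ := VarietyA.RegPoint.exists_sub_mem_maximalIdeal k G.left (hclosed g) a
    refine ⟨c, ?_⟩
    rw [IsLocalRing.isField_iff_maximalIdeal_eq.mp (hfield g (hclosed g)), Ideal.mem_bot,
      sub_eq_zero] at hc
    exact hc.symm
  · rintro ⟨-, -, h⟩
    exact (RingEquiv.ofBijective _ (h e)).symm.toMulEquiv.isField (Field.toIsField k)

end Groth.Agent.S14059
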