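import Groth.Statements.S14060
import Mathlib.Algebra.Homology.DerivedCategory.Ext.ExactSequences
import Mathlib.Algebra.Homology.ShortComplex.Abelian

set_option autoImplicit false
universe u
open CategoryTheory CategoryTheory.Limits TopologicalSpace
open CohTop

namespace Groth.Agent.S14060

open Abelian in
theorem sections_lift {X : TopCat.{u}}
    [HasExt.{u} (Sheaf (Opens.grothendieckTopology X) AddCommGrpCat.{u})]
    {T : ShortComplex (Sheaf (Opens.grothendieckTopology X) AddCommGrpCat.{u})} (hT : T.ShortExact)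
    (h : Subsingleton (Sheaf.H T.X₁ 1)) :
    Function.Surjective (T.g.hom.app (Opposite.op (⊤ : Opens X))) := by
  intro s
  obtain ⟨y, hy⟩ := Ext.covariant_sequence_exact₃ _ hT
    ((Sheaf.H.equiv₀ T.X₃ (isTerminalTop : IsTerminal (⊤ : Opens X))).symm s) (zero_add 1)
    (@Subsingleton.elim _ h _ _)
  refine ⟨Sheaf.H.equiv₀ T.X₂ (isTerminalTop : IsTerminal (⊤ : Opens X)) y, ?_⟩
  have hy' : Sheaf.H.map T.g 0 y =
    (Sheaf.H.equiv₀ T.X₃ (isTerminalTop : IsTerminal (⊤ : Opens X))).symm s := hy
  have e := Sheaf.H.equiv₀_naturality (isTerminalTop : IsTerminal (⊤ : Opens X)) T.g y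
  rw [hy', AddEquiv.apply_symm_apply] at e
  exact e

open Abelian in
theorem subsingleton_H_X₃ {X : TopCat.{u}}
    [HasExt.{u} (Sheaf (Opens.grothendieckTopology X) AddCommGrpCat.{u})]
    {T : ShortComplex (Sheaf (Opens.grothendieckTopology X) AddCommGrpCat.{u})} (hT : T.ShortExact)
    (n : ℕ) (h : Subsingleton (Sheaf.H T.X₁ (n + 1))) (h' : Subsingleton (Sheaf.H T.X₂ n)) :
    Subsingleton (Sheaf.H T.X₃ n) := by
  refine subsingleton_of_forall_eq 0 fun x => ?_
  obtain ⟨y, hy⟩ := Ext.covariant_sequence_exact₃ _ hT x (rfl : n + 1 = n + 1)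
    (@Subsingleton.elim _ h _ _)
  have hy0 : y = 0 := @Subsingleton.elim _ h' _ _
  rw [← hy, hy0, Ext.zero_comp]

theorem shortExact_kernel {C : Type*} [Category* C] [Abelian C] (F : ChainComplex C ℕ) (k : ℕ)
    (h : F.ExactAt (k + 1)) :
    (ShortComplex.mk (kernel.ι (F.d (k + 2) (k + 1)))
      (kernel.lift (F.d (k + 1) k) (F.d (k + 2) (k + 1)) (F.d_comp_d _ _ _)) (by
        rw [← cancel_mono (kernel.ι (F.d (k + 1) k)), Category.assoc, kernel.lift_ι,
          kernel.condition, zero_comp])).ShortExact := by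
  rw [F.exactAt_iff' (k + 2) (k + 1) k (by simp) (by simp)] at h
  have hepi : Epi (kernel.lift (F.d (k + 1) k) (F.d (k + 2) (k + 1)) (F.d_comp_d _ _ _)) :=
    h.epi_kernelLift
  refine { exact := ?_, mono_f := inferInstanceAs (Mono (kernel.ι _)), epi_g := hepi }
  have h2 : (ShortComplex.mk (kernel.ι (F.d (k + 2) (k + 1))) (F.d (k + 2) (k + 1))
    (kernel.condition _)).Exact := ShortComplex.exact_kernel _
  let φ : ShortComplex.mk (kernel.ι (F.d (k + 2) (k + 1)))
      (kernel.lift (F.d (k + 1) k) (F.d (k + 2) (k + 1)) (F.d_comp_d _ _ _)) (by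
        rw [← cancel_mono (kernel.ι (F.d (k + 1) k)), Category.assoc, kernel.lift_ι,
          kernel.condition, zero_comp]) ⟶
      ShortComplex.mk (kernel.ι (F.d (k + 2) (k + 1))) (F.d (k + 2) (k + 1))
        (kernel.condition _) :=
    { τ₁ := 𝟙 _
      τ₂ := 𝟙 _
      τ₃ := kernel.ι _ }
  have : Epi φ.τ₁ := inferInstanceAs (Epi (𝟙 _))
  have : IsIso φ.τ₂ := inferInstanceAs (IsIso (𝟙 _))
  have : Mono φ.τ₃ := inferInstanceAs (Mono (kernel.ι _))
  exact (ShortComplex.exact_iff_of_epi_of_isIso_of_mono φ).2 h2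

theorem subsingleton_of_isZero {X : TopCat.{u}}
    [HasExt.{u} (Sheaf (Opens.grothendieckTopology X) AddCommGrpCat.{u})]
    {G : Sheaf (Opens.grothendieckTopology X) AddCommGrpCat.{u}} (h : IsZero G) (n : ℕ) :
    Subsingleton (Sheaf.H G n) := by
  refine subsingleton_of_forall_eq 0 fun x => ?_
  have h1 : Sheaf.H.map (𝟙 G) n x = x := Sheaf.H.map_id_apply x
  rw [h.eq_zero_of_src (𝟙 G)] at h1
  rw [← h1]
  change ((Sheaf.functorH (Opens.grothendieckTopology X) n).map (0 : G ⟶ G)).hom x = 0
  rw [Functor.map_zero]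
  rfl


/-- Let X be a topological space, r ≥ 1 an integer and 0 → F_r → ⋯ → F_2 → F_1 → F_0 → 0 an exact
sequence of sheaves of abelian groups on X, presented as a chain complex F of abelian sheaves
indexed by the natural numbers whose differential F_r → F_{r−1} is a monomorphism, whose
differential F_1 → F_0 is an epimorphism of sheaves, and which is exact at F_j for 1 ≤ j ≤ r − 1
(for r = 1 the single map F_1 → F_0 is mono and epi). Assume the sheaf cohomology groups H^{j−1}(X,
F_j) vanish for 2 ≤ j ≤ r. Then the map on global sections F_1(X) → F_0(X) is surjective. (The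
instance hypothesis that the category of abelian sheaves on X has Ext groups in the universe of X
holds for every X, abelian sheaves on a space forming a Grothendieck abelian category; it is the
setting in which sheaf cohomology is defined.) -/
theorem result (X : TopCat.{u})
    [HasExt.{u} (Sheaf (Opens.grothendieckTopology X) AddCommGrpCat.{u})]
    (r : ℕ) (hr : 1 ≤ r)
    (F : ChainComplex (Sheaf (Opens.grothendieckTopology X) AddCommGrpCat.{u}) ℕ)
    (hmono : Mono (F.d r (r - 1))) (hepi : Epi (F.d 1 0))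
    (hex : ∀ j : ℕ, 1 ≤ j → j < r → F.ExactAt j)
    (hvan : ∀ j : ℕ, 2 ≤ j → j ≤ r → Subsingleton (Sheaf.H (F.X j) (j - 1))) :
    Function.Surjective ((F.d 1 0).hom.app (Opposite.op ⊤)) := by
  have key : ∀ n k : ℕ, k + 1 + n = r → Subsingleton (Sheaf.H (kernel (F.d (k + 1) k)) (k + 1)) := by
    intro n
    induction n with
    | zero =>
      intro k hk
      obtain rfl : k + 1 = r := by omega
      have hm : Mono (F.d (k + 1) k) := hmono
      exact subsingleton_of_isZero (isZero_kernel_of_mono (F.d (k + 1) k)) _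
    | succ n ih =>
      intro k hk
      have h1 := ih (k + 1) (by omega)
      have h2 := hvan (k + 2) (by omega) (by omega)
      exact subsingleton_H_X₃ (shortExact_kernel F k (hex (k + 1) (by omega) (by omega))) (k + 1)
        h1 h2
  obtain ⟨n, rfl⟩ : ∃ n, r = 0 + 1 + n := ⟨r - 1, by omega⟩
  have h1 := key n 0 rfl
  have hS : (ShortComplex.mk (kernel.ι (F.d 1 0)) (F.d 1 0) (kernel.condition _)).ShortExact :=
    { exact := ShortComplex.exact_kernel _
      mono_f := inferInstanceAs (Mono (kernel.ι _))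
      epi_g := hepi }
  exact sections_lift hS h1

end Groth.Agent.S14060
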