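import Groth.Statements.S14061
import Groth.Agent.Surf.K455.MinRes

set_option autoImplicit false
universe u
open CategoryTheory CategoryTheory.Limits AlgebraicGeometry TopologicalSpace
open Surf

namespace Groth.Agent.S14061

/-- Let k be an algebraically closed field and X a normal surface over k (an integral normal scheme,
proper over k, of dimension 2), with U its open subset of regular points. Here a resolution of X is
a proper morphism π : S → X from an integral scheme S of dimension 2 smooth over k such that O_X →
π_*O_S is an isomorphism and π is an isomorphism over the open subset U of regular points of X; it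
is minimal when every resolution π' : S' → X factors as π' = π ∘ u for a unique morphism u : S' → S.
Then a resolution π : S → X is minimal if and only if no (−1)-curve of S is contracted to a point by
π, where a (−1)-curve is taken, through its numerical characterization, to be an integral closed
one-dimensional subscheme E ⊆ S with H¹(E, O_E) = 0 and (N·E) = χ(O_E ⊗ N) − χ(O_E) = −1 for a
tensor inverse N of the ideal sheaf of E. The published statement asks that no component of the
reduced fibre over a singular point be an exceptional curve of the first kind; an integral curve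
mapped to a point lies over a singular point and is such a component, so the two conditions agree. -/
theorem result (k : Type u) [Field k] [IsAlgClosed k]
    (X : Scheme.{u}) [X.Over (Spec (CommRingCat.of k))] [IsProper (X ↘ (Spec (CommRingCat.of k)))] [IsIntegral X]
    (hdimX : topologicalKrullDim X = 2) (hnorm : Pi1.IsNormalScheme X)
    (U : X.Opens) (hU : ∀ x : X, x ∈ U ↔ IsRegularLocalRing (X.presheaf.stalk x))
    (S : Scheme.{u}) (π : S ⟶ X) [IsProper π] [IsIntegral S] (hdimS : topologicalKrullDim S = 2)
    [Smooth (π ≫ (X ↘ (Spec (CommRingCat.of k))))] (hO : IsIso (ClSub.unitToPush π)) (hiso : IsIso (π ∣_ U)) :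
    letI : S.Over (Spec (CommRingCat.of k)) := ⟨π ≫ (X ↘ (Spec (CommRingCat.of k)))⟩
    (∀ (S' : Scheme.{u}) (π' : S' ⟶ X), (IsProper π' ∧ IsIntegral S' ∧ topologicalKrullDim S' = 2 ∧ Smooth (π' ≫ (X ↘ (Spec (CommRingCat.of k)))) ∧
        IsIso (ClSub.unitToPush π') ∧ IsIso (π' ∣_ U)) → ∃! u : S' ⟶ S, u ≫ π = π') ↔
      (∀ (E : S.IdealSheafData) (N : S.Modules), IsIntegral E.subscheme →
        topologicalKrullDim (E.support : Set S) = 1 → ClSub.IsInverseOf N (ClSub.idealMod E) →
        Subsingleton (Coh.HH E.subscheme (Coh.structureModule E.subscheme) 1) →
        Curv2.euler k S (CohB1.tensorMod (ClSub.quotMod E) N) - Curv2.euler k S (ClSub.quotMod E) = -1 →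
        ¬ ∃ x : X, π.base '' (E.support : Set S) = {x}) := by
  have hres : K455.MinRes.IsRes k U π := ⟨inferInstance, inferInstance, hdimS, inferInstance, hO, hiso⟩
  constructor
  · rintro hmin E N hi hd hN h1 h2 ⟨x, hx⟩
    exact K455.MinRes.no_minus_of_minimal hres (fun S' π' h' => hmin S' π' h') E.subschemeι
      (K455.MinRes.isExcCurve_of_num hres.good hi hd hN h1 h2) (K455.MinRes.con_of_image E π x hx)
  · intro hno S' π' h'
    exact K455.MinRes.minimal_of_no_minus (K455.MinRes.nonempty_reg k hnorm U hU) hres hno π' h'

end Groth.Agent.S14061
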