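import Groth.Statements.S14062
import Groth.Agent.Surf.K455.MinCount

set_option autoImplicit false
universe u
open CategoryTheory CategoryTheory.Limits AlgebraicGeometry TopologicalSpace
open Surf

namespace Groth.Agent.S14062

/-- Let k be an algebraically closed field and X a normal surface over k (an integral normal scheme,
proper over k, of dimension 2), with U its open subset of regular points. Here a resolution of X is
a proper morphism π : S → X from an integral scheme S of dimension 2 smooth over k such that O_X →
π_*O_S is an isomorphism and π is an isomorphism over the open subset U of regular points of X; it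
is minimal when every resolution π' : S' → X factors as π' = π ∘ u for a unique morphism u : S' → S.
If X admits some resolution, then X admits a minimal resolution. (The published statement asserts
the existence of a minimal resolution outright, taking the existence of a resolution of the normal
surface from the literature at the start of its proof; that existence is carried as the hypothesis
here.) -/
theorem result (k : Type u) [Field k] [IsAlgClosed k]
    (X : Scheme.{u}) [X.Over (Spec (CommRingCat.of k))] [IsProper (X ↘ (Spec (CommRingCat.of k)))] [IsIntegral X]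
    (hdimX : topologicalKrullDim X = 2) (hnorm : Pi1.IsNormalScheme X)
    (U : X.Opens) (hU : ∀ x : X, x ∈ U ↔ IsRegularLocalRing (X.presheaf.stalk x))
    (hex : ∃ (S₀ : Scheme.{u}) (π₀ : S₀ ⟶ X), (IsProper π₀ ∧ IsIntegral S₀ ∧ topologicalKrullDim S₀ = 2 ∧ Smooth (π₀ ≫ (X ↘ (Spec (CommRingCat.of k)))) ∧
        IsIso (ClSub.unitToPush π₀) ∧ IsIso (π₀ ∣_ U))) :
    ∃ (S : Scheme.{u}) (π : S ⟶ X), (IsProper π ∧ IsIntegral S ∧ topologicalKrullDim S = 2 ∧ Smooth (π ≫ (X ↘ (Spec (CommRingCat.of k)))) ∧
        IsIso (ClSub.unitToPush π) ∧ IsIso (π ∣_ U)) ∧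
      (∀ (S' : Scheme.{u}) (π' : S' ⟶ X), (IsProper π' ∧ IsIntegral S' ∧ topologicalKrullDim S' = 2 ∧ Smooth (π' ≫ (X ↘ (Spec (CommRingCat.of k)))) ∧
        IsIso (ClSub.unitToPush π') ∧ IsIso (π' ∣_ U)) → ∃! u : S' ⟶ S, u ≫ π = π') := by
  obtain ⟨S₀, π₀, h₀⟩ := hex
  exact K455.MinRes.exists_minimal (k := k) (K455.MinRes.nonempty_reg k hnorm U hU) _ (π := π₀) h₀ rfl

end Groth.Agent.S14062
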