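import Groth.Statements.S14063
import Groth.Agent.Surf.K455.RatSing

set_option autoImplicit false
universe u
open CategoryTheory CategoryTheory.Limits AlgebraicGeometry TopologicalSpace
open Surf

namespace Groth.Agent.S14063

/-- Let k be an algebraically closed field and X a normal surface over k (an integral normal scheme,
proper over k, of dimension 2), with U its open subset of regular points; a resolution of X is a
proper morphism π : S → X from an integral scheme S of dimension 2 smooth over k such that O_X →
π_*O_S is an isomorphism and π is an isomorphism over U. A singular point x of X is a rational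
singularity when there are a resolution π : S → X and an affine open neighbourhood V of x with V ∖
{x} ⊆ U such that R¹π_*O_S restricted to V is zero (its sections vanish on every open subset of V).
Then all singular points of X are rational singularities exactly when some resolution π : S → X has
R¹π_*O_S = 0. Here R¹π_* is the first right derived functor of the direct image of abelian sheaves,
applied to the abelian sheaf underlying O_S. -/
theorem result (k : Type u) [Field k] [IsAlgClosed k]
    (X : Scheme.{u}) [X.Over (Spec (CommRingCat.of k))] [IsProper (X ↘ (Spec (CommRingCat.of k)))] [IsIntegral X]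
    (hdimX : topologicalKrullDim X = 2) (hnorm : Pi1.IsNormalScheme X)
    (U : X.Opens) (hU : ∀ x : X, x ∈ U ↔ IsRegularLocalRing (X.presheaf.stalk x)) :
    (∀ x : X, x ∉ U → ∃ (S : Scheme.{u}) (π : S ⟶ X), (IsProper π ∧ IsIntegral S ∧ topologicalKrullDim S = 2 ∧ Smooth (π ≫ (X ↘ (Spec (CommRingCat.of k)))) ∧
        IsIso (ClSub.unitToPush π) ∧ IsIso (π ∣_ U)) ∧
        ∃ V : X.Opens, x ∈ V ∧ IsAffineOpen V ∧ (∀ y : X, y ∈ V → y ≠ x → y ∈ U) ∧
          ∀ V' : X.Opens, V' ≤ V → Subsingleton (((Coh.RpushAb π 1).obj (Coh.toAb (Coh.structureModule S))).obj.obj (Opposite.op V'))) ↔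
    (∃ (S : Scheme.{u}) (π : S ⟶ X), (IsProper π ∧ IsIntegral S ∧ topologicalKrullDim S = 2 ∧ Smooth (π ≫ (X ↘ (Spec (CommRingCat.of k)))) ∧
        IsIso (ClSub.unitToPush π) ∧ IsIso (π ∣_ U)) ∧ IsZero ((Coh.RpushAb π 1).obj (Coh.toAb (Coh.structureModule S)))) := by
  constructor
  · intro hloc
    exact K455.RatSing.exists_of_local hdimX hnorm U hU hloc
  · rintro ⟨S, π, h, h0⟩ x hx
    exact K455.RatSing.local_of_exists hdimX hnorm U hU h h0 x hx

end Groth.Agent.S14063
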