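import Groth.Statements.S14064
import Groth.Agent.Surf.K456.SecTriv

set_option autoImplicit false
universe u
open CategoryTheory CategoryTheory.Limits AlgebraicGeometry TopologicalSpace
open Surf

namespace Groth.Agent.S14064

open Groth.Agent.Grpsch.PicGrp K456.SecTriv

/-- Fix a field k, an integral proper k-scheme X, and an invertible O_X-module L with tensor inverse M.
Suppose that L^{⊗j} has a nonzero global section for every j ≥ 4 and that no tensor power L^{⊗j}
with j ≥ 1 is isomorphic to O_X. Then H⁰(X, M^{⊗i}) = 0 for every i ≥ 1: the negative powers of L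
have no nonzero global sections. (The published statement is for the canonical module of a minimal
surface of general type over an algebraically closed field, where the fourth and higher powers are
globally generated by a deep result quoted without proof, and non-triviality of the positive powers
comes from bigness; the published deduction of this part uses exactly the two hypotheses carried
here, on an integral proper X.) -/
theorem result (k : Type u) [Field k]
    (X : Scheme.{u}) [X.Over (Spec (CommRingCat.of k))] [IsProper (X ↘ (Spec (CommRingCat.of k)))] [IsIntegral X]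
    (L M : X.Modules) (hL : PicF.IsInvertible L) (hM : ClSub.IsInverseOf M L)
    (hsec : ∀ j : ℕ, 4 ≤ j → Nontrivial (Coh.HH X (CohB1.tensorPow L j) 0))
    (hnt : ∀ j : ℕ, 1 ≤ j → IsEmpty (CohB1.tensorPow L j ≅ Coh.structureModule X))
    (i : ℕ) (hi : 1 ≤ i) :
    Subsingleton (Coh.HH X (CohB1.tensorPow M i) 0) := by
  by_contra hcon
  rw [not_subsingleton_iff_nontrivial] at hcon
  obtain ⟨e⟩ := hM
  have hMi : PicF.IsInvertible M := isInvertible_of_inverse hL e
  obtain ⟨t, ht⟩ := exists_ne_zero_of_nontrivial hcon
  obtain ⟨s, hs⟩ := exists_ne_zero_of_nontrivial (hsec (4 * i) (by lia))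
  obtain ⟨t', ht'⟩ := exists_ne_zero_tensorPow
    (Fdesc.LocGen.isInvertible_tensorPow hMi i) ht 4
  have hF : IsField Γ(X, ⊤) :=
    isField_of_universallyClosed k (X ↘ (Spec (CommRingCat.of k)))
  have hprod : mk (CohB1.tensorPow L (4 * i)) (Fdesc.LocGen.isInvertible_tensorPow hL _) *
      mk _ (Fdesc.LocGen.isInvertible_tensorPow (Fdesc.LocGen.isInvertible_tensorPow hMi i) 4) = 1 := by
    have h1 : mk M hMi * mk L hL = 1 := (mk_eq_one_iff _).2 ⟨e⟩
    rw [mk_tensorPow hL, mk_tensorPow (Fdesc.LocGen.isInvertible_tensorPow hMi i), mk_tensorPow hMi, ← pow_mul, mul_comm i 4, ← mul_pow,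
      mul_comm (mk L hL), h1, one_pow]
  have := eq_one_of_sections hF _ _ hprod s hs t' ht'
  obtain ⟨f⟩ := (mk_eq_one_iff _).1 this
  exact (hnt (4 * i) (by lia)).false f

end Groth.Agent.S14064
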