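import Groth.Statements.S14065
import Groth.Agent.Curves.K324.Basic
import Groth.Agent.VarietyA.CurveFin
import Groth.Agent.S1612

set_option autoImplicit false
universe u
open CategoryTheory CategoryTheory.Limits AlgebraicGeometry TopologicalSpace
open Curves
open Groth.Agent

namespace Groth.Agent.S14065

/-- Let k be an algebraically closed field and C a smooth projective connected curve over k — an
integral scheme, proper and smooth over k, of dimension 1 — of genus g = dim_k H¹(C, O_C) with g ≥
2, and let T be the tangent module of C, a tensor inverse of the module of differentials Ω_{C/k}.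
Then dim_k H¹(C, T) = 3g − 3. (The published proof makes this computation, together with the
vanishing of H⁰(C, T), to find the dimension of the tangent space of the moduli stack of genus-g
curves at C; only the dimension of H¹(C, T) is stated here.) -/
theorem result (k : Type u) [Field k] [IsAlgClosed k]
    (C : Scheme.{u}) [C.Over (Spec (CommRingCat.of k))] [IsProper (C ↘ (Spec (CommRingCat.of k)))] [Smooth (C ↘ (Spec (CommRingCat.of k)))] [IsIntegral C]
    (hdim : topologicalKrullDim C = 1) (g : ℕ) (hg : Curv2.genus k C = g) (h2 : 2 ≤ g)
    (T : C.Modules) (hT : ClSub.IsInverseOf T (Omega.sheaf (C ↘ (Spec (CommRingCat.of k))))) :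
    Module.finrank k (Coh.HH C T 1) = 3 * g - 3 := by
  have h0 : Module.finrank k (Coh.HH C (Coh.structureModule C) 0) = 1 :=
    VarietyA.CurveFin.finrank_h0_structure k C
  obtain ⟨-, hΩ⟩ := S1612.result k C ⟨inferInstance, inferInstance, inferInstance, hdim⟩ h0
  have hdeg := Dix.InterNum.deg_inverse k C hdim hT
  have hTinv := (Dix.IdealModCartier.isInvertible_of_isInverseOf hT).1
  have hneg : Curv2.deg k C T 1 < 0 := by rw [hdeg, hΩ, hg]; omega
  have hs := K324.Basic.H0_subsingleton_of_deg_neg C k hdim hTinv hneg
  have hRR := K324.Basic.riemannRoch C k hdim h0 T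
  rw [Module.finrank_zero_of_subsingleton, hdeg, hΩ, hg] at hRR
  push_cast at hRR
  omega

end Groth.Agent.S14065
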