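import Groth.Statements.S14066
import Groth.Agent.Variety.K429.LinEmb

set_option autoImplicit false
universe u
open CategoryTheory CategoryTheory.Limits AlgebraicGeometry TopologicalSpace
open Variety

namespace Groth.Agent.S14066

/-- Let k be a field, and let X₁ and X₂ be k-schemes with closed immersions i₁ : X₁ → P^n_k and i₂ : X₂
→ P^m_k over k. Then there is a closed immersion of the disjoint union X₁ ⨿ X₂ into P^{n+m+1}_k over
k, that is, compatible with the structure morphism of the coproduct induced by those of X₁ and X₂.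
(Stated as the step of the published proof showing that a disjoint union of two projective k-schemes
is projective.) -/
theorem result (k : Type u) [Field k] (n m : ℕ)
    (X₁ X₂ : Scheme.{u}) [X₁.Over (Spec (CommRingCat.of k))] [X₂.Over (Spec (CommRingCat.of k))]
    (i₁ : X₁ ⟶ CohB1.ProjSpace n k) [IsClosedImmersion i₁] (h₁ : i₁ ≫ CohB1.ProjSpace.toSpec n k = X₁ ↘ (Spec (CommRingCat.of k)))
    (i₂ : X₂ ⟶ CohB1.ProjSpace m k) [IsClosedImmersion i₂] (h₂ : i₂ ≫ CohB1.ProjSpace.toSpec m k = X₂ ↘ (Spec (CommRingCat.of k))) :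
    ∃ j : X₁ ⨿ X₂ ⟶ CohB1.ProjSpace (n + m + 1) k, IsClosedImmersion j ∧
      j ≫ CohB1.ProjSpace.toSpec (n + m + 1) k = coprod.desc (X₁ ↘ (Spec (CommRingCat.of k))) (X₂ ↘ (Spec (CommRingCat.of k))) := by
  let a : Fin (n + 1) → Fin (n + m + 1 + 1) := fun s => ⟨s, by omega⟩
  let b : Fin (m + 1) → Fin (n + m + 1 + 1) := fun t => ⟨n + 1 + t, by omega⟩
  have ha : Function.Injective a := fun s s' h => by
    have := congrArg Fin.val h
    exact Fin.ext this
  have hb : Function.Injective b := fun s s' h => by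
    have := congrArg Fin.val h
    simp only [b] at this
    exact Fin.ext (by omega)
  have hab : ∀ s t, a s ≠ b t := fun s t h => by
    have := congrArg Fin.val h
    simp only [a, b] at this
    omega
  let f := i₁ ≫ K429.LinEmb.emb k a ha
  let g := i₂ ≫ K429.LinEmb.emb k b hb
  have hd : Disjoint (Set.range f) (Set.range g) := by
    refine Set.disjoint_of_subset ?_ ?_ (K429.LinEmb.disjoint_range k a ha b hb hab)
    · rintro _ ⟨x, rfl⟩
      exact ⟨i₁ x, (Scheme.Hom.comp_apply i₁ (K429.LinEmb.emb k a ha) x).symm⟩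
    · rintro _ ⟨x, rfl⟩
      exact ⟨i₂ x, (Scheme.Hom.comp_apply i₂ (K429.LinEmb.emb k b hb) x).symm⟩
  refine ⟨coprod.desc f g, K429.LinEmb.isClosedImmersion_coprodDesc f g hd, ?_⟩
  apply coprod.hom_ext
  · rw [coprod.inl_desc_assoc, coprod.inl_desc]
    change (i₁ ≫ K429.LinEmb.emb k a ha) ≫ _ = _
    rw [Category.assoc, K429.LinEmb.emb_toSpec, h₁]
  · rw [coprod.inr_desc_assoc, coprod.inr_desc]
    change (i₂ ≫ K429.LinEmb.emb k b hb) ≫ _ = _
    rw [Category.assoc, K429.LinEmb.emb_toSpec, h₂]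

end Groth.Agent.S14066
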