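import Groth.Statements.S14074
import Groth.Agent.FamCyc.K812.TorDimCx
import Mathlib.AlgebraicGeometry.Morphisms.Smooth
import Mathlib.RingTheory.RingHom.StandardSmooth

set_option autoImplicit false
open CategoryTheory AlgebraicGeometry
universe u
attribute [local instance] HasDerivedCategory.standard
open FamCyc

namespace Groth.Agent.S14074

open Groth.Agent.FamCyc.K812.TorDimCx

/-- The complex of stalks of a module in degree zero. -/
noncomputable def stalkSingle {X Y : Scheme.{u}} (f : X ⟶ Y) (x : X) (F : X.Modules) :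
    (DerSch.stalkCxOver f x).obj
      ((HomologicalComplex.single X.Modules (ComplexShape.up ℤ) 0).obj F) ≅
      sgl ((DerSch.stalkOver f x).obj F) :=
  (HomologicalComplex.singleMapHomologicalComplex (DerSch.stalkOver f x) (ComplexShape.up ℤ) 0).app F

theorem exists_iff {X Y : Scheme.{u}} (f : X ⟶ Y) (x : X) (F : X.Modules) :
    (∃ a b : ℤ, DerSch.HasTorAmplitudeAt f a b
      ((HomologicalComplex.single X.Modules (ComplexShape.up ℤ) 0).obj F) x) ↔
    ∃ n : ℕ, DRing.HasTorDimLE (Y.presheaf.stalk (f.base x)) n ((DerSch.stalkOver f x).obj F) := by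
  rw [← exists_amplitude_iff]
  have e : DRing.toD ((DerSch.stalkCxOver f x).obj
      ((HomologicalComplex.single X.Modules (ComplexShape.up ℤ) 0).obj F)) ≅
      DRing.toD (sgl ((DerSch.stalkOver f x).obj F)) :=
    DerivedCategory.Q.mapIso (stalkSingle f x F)
  constructor
  · rintro ⟨a, b, h⟩
    exact ⟨a, b, hasTorAmplitudeIn_of_iso e h⟩
  · rintro ⟨a, b, h⟩
    exact ⟨a, b, hasTorAmplitudeIn_of_iso e.symm h⟩

theorem final_alg {R₀ B₀ RS RB RX : Type u} [CommRing R₀] [CommRing B₀] [CommRing RS] [CommRing RB]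
    [CommRing RX] {k : ℕ} (r : R₀ →+* B₀) (γ : MvPolynomial (Fin k) R₀ →+* B₀) (hγ : γ.Etale)
    (hγC : γ.comp MvPolynomial.C = r) (gS : R₀ →+* RS) (hgS : gS.Flat) (gB : B₀ →+* RB)
    (p : Ideal B₀) [p.IsPrime]
    (hloc : letI := gB.toAlgebra; IsLocalization.AtPrime RB p) (σ : RS →+* RX) (δ : RB →+* RX)
    (hcomm : ∀ a, σ (gS a) = δ (gB (r a))) (N : ModuleCat.{u} RX) (n : ℕ)
    (h : DRing.HasTorDimLE RS n ((ModuleCat.restrictScalars σ).obj N)) :
    DRing.HasTorDimLE RB (n + k) ((ModuleCat.restrictScalars δ).obj N) := by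
  let P := MvPolynomial (Fin k) R₀
  let _ : Algebra R₀ RS := gS.toAlgebra
  have : Module.Flat R₀ RS := hgS
  let _ : Algebra P B₀ := γ.toAlgebra
  have : Algebra.Etale P B₀ := hγ
  let _ : Algebra B₀ RB := gB.toAlgebra
  have : IsLocalization.AtPrime RB p := hloc
  let _ : Algebra P RB := (gB.comp γ).toAlgebra
  have : IsScalarTower P B₀ RB := IsScalarTower.of_algebraMap_eq' rfl
  let _ : Algebra R₀ RB := (gB.comp r).toAlgebra
  have : IsScalarTower R₀ P RB := IsScalarTower.of_algebraMap_eq' (by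
    change gB.comp r = (gB.comp γ).comp MvPolynomial.C
    rw [RingHom.comp_assoc, hγC])
  have : Module.Flat B₀ RB := IsLocalization.flat RB p.primeCompl
  have : Module.Flat P RB := Module.Flat.trans P B₀ RB
  have : Algebra.FormallyUnramified B₀ RB :=
    Algebra.FormallyUnramified.of_isLocalization p.primeCompl
  have : Algebra.FormallyUnramified P RB := Algebra.FormallyUnramified.comp P B₀ RB
  have : Algebra.EssFiniteType B₀ RB := Algebra.EssFiniteType.of_isLocalization RB p.primeCompl
  have : Algebra.EssFiniteType P RB := Algebra.EssFiniteType.comp P B₀ RB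
  let MS := (ModuleCat.restrictScalars σ).obj N
  let MB := (ModuleCat.restrictScalars δ).obj N
  let _ : Module R₀ MS := Module.compHom MS gS
  have : IsScalarTower R₀ RS MS := IsScalarTower.of_algebraMap_smul fun _ _ => rfl
  let _ : Module R₀ MB := Module.compHom MB (gB.comp r)
  have : IsScalarTower R₀ RB MB := IsScalarTower.of_algebraMap_smul fun _ _ => rfl
  have h1 : DRing.HasTorDimLE R₀ n MS := hasTorDimLE_restrict RS n MS h
  let e : MS ≃ₗ[R₀] MB :=
    { toFun := fun m => m
      invFun := fun m => m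
      map_add' := fun _ _ => rfl
      map_smul' := fun a m => by
        change (σ (gS a)) • (m : N) = (δ (gB (r a))) • (m : N)
        rw [hcomm]
      left_inv := fun _ => rfl
      right_inv := fun _ => rfl }
  exact exists_hasTorDimLE RB k MB n (hasTorDimLE_of_equiv e h1)

/-- Let h : B ⟶ S be a smooth morphism, φ : X ⟶ B a morphism locally of finite type and F a
quasi-coherent O_X-module of pointwise finite tor dimension over S, i.e. at every point x of X the
stalk F_x is, over the local ring of S below x, isomorphic in the derived category to a bounded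
complex of flat modules. Then F has finite tor dimension over B pointwise in the same sense. -/
theorem result {X B S : Scheme.{u}} (h : B ⟶ S) [Smooth h]
    (φ : X ⟶ B) [LocallyOfFiniteType φ] (F : X.Modules) (hF : Coh.IsQCoh F)
    (hS : ∀ x : X, ∃ a b : ℤ,
      DerSch.HasTorAmplitudeAt (φ ≫ h) a b ((HomologicalComplex.single X.Modules (ComplexShape.up ℤ) 0).obj F) x) :
    ∀ x : X, ∃ a b : ℤ,
      DerSch.HasTorAmplitudeAt φ a b ((HomologicalComplex.single X.Modules (ComplexShape.up ℤ) 0).obj F) x := by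
  intro x
  obtain ⟨n, hn⟩ := (exists_iff (φ ≫ h) x F).mp (hS x)
  rw [exists_iff]
  obtain ⟨U, hU, U', hU', hyU', hUU', hsm⟩ := Smooth.exists_isStandardSmooth h (φ x)
  obtain ⟨k, γ, hγC, hγ⟩ := hsm.exists_etale_mvPolynomial
  refine ⟨n + k, ?_⟩
  have hxU : (φ ≫ h) x ∈ U := hUU' hyU'
  refine final_alg (h.appLE U U' hUU').hom γ hγ hγC (S.presheaf.germ U ((φ ≫ h) x) hxU).hom ?_
    (B.presheaf.germ U' (φ x) hyU').hom (hU'.primeIdealOf ⟨φ x, hyU'⟩).asIdeal
    (hU'.isLocalization_stalk ⟨φ x, hyU'⟩)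
    ((φ ≫ h).stalkMap x).hom (φ.stalkMap x).hom ?_ _ n hn
  · let _ : Algebra Γ(S, U) (S.presheaf.stalk ((φ ≫ h) x)) :=
      (S.presheaf.germ U ((φ ≫ h) x) hxU).hom.toAlgebra
    have : IsLocalization.AtPrime (S.presheaf.stalk ((φ ≫ h) x))
        (hU.primeIdealOf ⟨(φ ≫ h) x, hxU⟩).asIdeal := hU.isLocalization_stalk ⟨(φ ≫ h) x, hxU⟩
    exact IsLocalization.flat _ (hU.primeIdealOf ⟨(φ ≫ h) x, hxU⟩).asIdeal.primeCompl
  · intro a
    have h1 : ((φ ≫ h).stalkMap x) (S.presheaf.germ U ((φ ≫ h) x) hxU a) =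
        φ.stalkMap x (h.stalkMap (φ x) (S.presheaf.germ U (h (φ x)) hxU a)) := by
      rw [Scheme.Hom.stalkMap_comp]
      rfl
    have h2 : h.stalkMap (φ x) (S.presheaf.germ U (h (φ x)) hxU a) =
        B.presheaf.germ U' (φ x) hyU' (h.appLE U U' hUU' a) := by
      rw [Scheme.Hom.germ_stalkMap_apply, Scheme.Hom.appLE]
      exact (B.presheaf.germ_res_apply (homOfLE hUU') (φ x) hyU' _).symm
    exact h1.trans (congrArg _ h2)

end Groth.Agent.S14074
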