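import Groth.Statements.S14078
import Groth.Agent.Flat2D.EtNbhd4

set_option autoImplicit false
open CategoryTheory CategoryTheory.Limits AlgebraicGeometry
universe u
open FamCyc

namespace Groth.Agent.S14078

/-- Let f : X ⟶ S be a morphism of schemes locally of finite type, i : Z ⟶ X an immersion such that Z ⟶
S is locally quasi-finite, and z a point of Z. Then there are an étale morphism g : T ⟶ S and an
open subscheme U of X ×_S T such that the preimage U ×_X Z of Z in U is finite over T and contains a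
point u over z whose residue field extension κ(z) → κ(u) is an isomorphism, u being moreover the
only point of U ×_X Z in its fibre over T. (The published statement covers algebraic spaces X, with
U ⟶ X ×_S T étale in general and an open subspace when X is a scheme; this row is the scheme case.) -/
theorem result {Z X S : Scheme.{u}} (f : X ⟶ S)
    [LocallyOfFiniteType f] (i : Z ⟶ X) [IsImmersion i] [LocallyQuasiFinite (i ≫ f)] (z : Z) :
    ∃ (T : Scheme.{u}) (g : T ⟶ S) (U : (pullback f g).Opens)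
      (u : ↥(pullback (U.ι ≫ pullback.fst f g) i)),
      Etale g ∧
      IsFinite (pullback.fst (U.ι ≫ pullback.fst f g) i ≫ U.ι ≫ pullback.snd f g) ∧
      (pullback.snd (U.ι ≫ pullback.fst f g) i).base u = z ∧
      IsIso ((pullback.snd (U.ι ≫ pullback.fst f g) i).residueFieldMap u) ∧
      ∀ u' : ↥(pullback (U.ι ≫ pullback.fst f g) i),
        (pullback.fst (U.ι ≫ pullback.fst f g) i ≫ U.ι ≫ pullback.snd f g).base u' =
          (pullback.fst (U.ι ≫ pullback.fst f g) i ≫ U.ι ≫ pullback.snd f g).base u → u' = u := by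
  obtain ⟨T, g, t, hT, V, v, hvV, hfin, hsnd, huniq, hfst, hres⟩ :=
    Flat2D.EtNbhd.exists_split (i ≫ f) z (Scheme.Hom.quasiFiniteAt (i ≫ f) z)
  let j : pullback (i ≫ f) g ⟶ pullback f g :=
    pullback.lift (pullback.fst _ _ ≫ i) (pullback.snd _ _) (by
      rw [Category.assoc, pullback.condition])
  have hj1 : j ≫ pullback.fst f g = pullback.fst (i ≫ f) g ≫ i := pullback.lift_fst _ _ _
  have hj2 : j ≫ pullback.snd f g = pullback.snd (i ≫ f) g := pullback.lift_snd _ _ _
  have hpb : IsPullback j (pullback.fst (i ≫ f) g) (pullback.fst f g) i := by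
    have h1 : IsPullback (j ≫ pullback.snd f g) (pullback.fst (i ≫ f) g) g (i ≫ f) := by
      rw [hj2]; exact (IsPullback.of_hasPullback (i ≫ f) g).flip
    exact IsPullback.of_right h1 hj1 (IsPullback.of_hasPullback f g).flip
  have hjimm : IsImmersion j := MorphismProperty.of_isPullback hpb.flip ‹_›
  obtain ⟨U, hU, hUV⟩ := j.isEmbedding.isOpen_iff.mp V.2
  let U' : (pullback f g).Opens := ⟨U, hU⟩
  obtain rfl : j ⁻¹ᵁ U' = V := by
    apply TopologicalSpace.Opens.ext
    exact hUV
  have hpb2 : IsPullback (j ∣_ U') ((j ⁻¹ᵁ U').ι ≫ pullback.fst (i ≫ f) g)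
      (U'.ι ≫ pullback.fst f g) i :=
    (isPullback_morphismRestrict j U').paste_vert hpb
  let e : pullback (U'.ι ≫ pullback.fst f g) i ≅ (j ⁻¹ᵁ U' : Scheme) :=
    hpb2.isoPullback.symm
  have he1 : e.hom ≫ j ∣_ U' = pullback.fst _ _ := hpb2.isoPullback_inv_fst
  have he2 : e.hom ≫ (j ⁻¹ᵁ U').ι ≫ pullback.fst (i ≫ f) g = pullback.snd _ _ :=
    hpb2.isoPullback_inv_snd
  have he3 : pullback.fst (U'.ι ≫ pullback.fst f g) i ≫ U'.ι ≫ pullback.snd f g =
      e.hom ≫ (j ⁻¹ᵁ U').ι ≫ pullback.snd (i ≫ f) g := by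
    rw [← he1, Category.assoc, morphismRestrict_ι_assoc, hj2]
  let v' : (j ⁻¹ᵁ U' : Scheme) := ⟨v, hvV⟩
  have hv' : (j ⁻¹ᵁ U').ι v' = v := rfl
  let w := e.inv v'
  have hw : e.hom w = v' := by simp [w]
  have hw2 : (pullback.fst (U'.ι ≫ pullback.fst f g) i ≫ U'.ι ≫ pullback.snd f g) w = t := by
    rw [he3, Scheme.Hom.comp_apply, hw, Scheme.Hom.comp_apply, hv', hsnd]
  refine ⟨T, g, U', w, hT.etale, ?_, ?_, ?_, ?_⟩
  · rw [he3]
    infer_instance
  · change pullback.snd (U'.ι ≫ pullback.fst f g) i w = z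
    rw [← he2, Scheme.Hom.comp_apply, hw, Scheme.Hom.comp_apply, hv', hfst]
  · refine (ConcreteCategory.isIso_iff_bijective _).mpr ?_
    apply Flat2D.EtNbhd.residueFieldMap_bijective_congr he2
    apply Flat2D.EtNbhd.residueFieldMap_comp_bijective hw
    · exact (ConcreteCategory.isIso_iff_bijective _).mp inferInstance
    apply Flat2D.EtNbhd.residueFieldMap_comp_bijective hv'
    · exact (ConcreteCategory.isIso_iff_bijective _).mp inferInstance
    · exact hres
  · intro u' hu'
    have h1 : (pullback.fst (U'.ι ≫ pullback.fst f g) i ≫ U'.ι ≫ pullback.snd f g) u' = t :=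
      hu'.trans hw2
    rw [he3, Scheme.Hom.comp_apply, Scheme.Hom.comp_apply] at h1
    have h2 := huniq _ (e.hom u').2 h1
    have h3 : e.hom u' = v' := Subtype.ext h2
    have h4 : e.hom u' = e.hom w := h3.trans hw.symm
    exact e.hom.homeomorph.injective h4

end Groth.Agent.S14078
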