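import Groth.Statements.S14080
-- import your own Groth.Agent.* helpers here
import Groth.Agent.ArSing.K813.Basic
import Mathlib.RingTheory.PowerSeries.Ideal

set_option autoImplicit false
universe u
open ArSing

namespace Groth.Agent.S14080

open IsLocalRing

theorem ps_mem_maximalIdeal_iff {k : Type u} [Field k] {f : PowerSeries k} :
    f ∈ maximalIdeal (PowerSeries k) ↔ PowerSeries.constantCoeff f = 0 :=
  K813.Basic.mem_maximalIdeal_iff

/-- Uniqueness of algebra endomorphisms of `k[[t]]`. -/
theorem ps_algHom_ext {k : Type u} [Field k] {f g : PowerSeries k →ₐ[k] PowerSeries k}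
    (h : f PowerSeries.X = g PowerSeries.X) : f = g := by
  refine K813.Basic.algHom_ext (R := k) (σ := Unit) (maximalIdeal (PowerSeries k)) (f := f) (g := g)
    ?_ (fun _ => h)
  intro i
  exact K813.Basic.map_mem_maximalIdeal (k := k) (A := PowerSeries k) (S := PowerSeries k)
    K813.Basic.exists_const f (K813.Basic.X_mem_maximalIdeal i)

/-- Let k be a field in which 2 is invertible and σ an involutive k-algebra automorphism of the power
series ring k[[t]], with ξ the coefficient of t in σ(t). Then ξ^2 = 1, the k-algebra endomorphism φ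
with φ(t) = (t + ξ σ(t))/2 is an automorphism, and φ⁻¹ σ φ is the automorphism t ↦ ξ t. (The
published statement is over an algebraically closed field of characteristic prime to 2; only the
invertibility of 2 is used, so any field with 2 ≠ 0 is allowed here.) -/
theorem result (k : Type u) [Field k] (h2 : (2 : k) ≠ 0)
    (σ : PowerSeries k ≃ₐ[k] PowerSeries k) (hσ : ∀ f, σ (σ f) = f) :
    (PowerSeries.coeff 1 (σ PowerSeries.X)) ^ 2 = 1 ∧
    ∃ φ : PowerSeries k ≃ₐ[k] PowerSeries k,
      φ PowerSeries.X = PowerSeries.C (2⁻¹ : k) *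
        (PowerSeries.X + PowerSeries.C (PowerSeries.coeff 1 (σ PowerSeries.X)) * σ PowerSeries.X) ∧
      ∀ f, φ.symm (σ (φ f)) = PowerSeries.rescale (PowerSeries.coeff 1 (σ PowerSeries.X)) f := by
  set ξ : k := PowerSeries.coeff 1 (σ PowerSeries.X) with hξ
  have hσX0 : PowerSeries.constantCoeff (σ PowerSeries.X) = 0 := by
    rw [← ps_mem_maximalIdeal_iff]
    exact K813.Basic.map_mem_maximalIdeal (k := k) (A := PowerSeries k) (S := PowerSeries k)
      K813.Basic.exists_const (σ : PowerSeries k →ₐ[k] PowerSeries k)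
      (K813.Basic.X_mem_maximalIdeal ())
  -- `σ X = ξ X + X^2 q`
  obtain ⟨p, hp⟩ : ∃ p, σ PowerSeries.X = PowerSeries.X * p :=
    PowerSeries.X_dvd_iff.2 hσX0
  have hp0 : PowerSeries.constantCoeff p = ξ := by
    rw [hξ, hp, PowerSeries.coeff_succ_X_mul, PowerSeries.coeff_zero_eq_constantCoeff]
  obtain ⟨q, hq⟩ : ∃ q, p - PowerSeries.C ξ = PowerSeries.X * q :=
    PowerSeries.X_dvd_iff.2 (by simp [hp0])
  have hσX : σ PowerSeries.X = PowerSeries.C ξ * PowerSeries.X + PowerSeries.X ^ 2 * q := by
    rw [hp]; linear_combination PowerSeries.X * hq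
  have hC : ∀ c : k, σ (PowerSeries.C c) = PowerSeries.C c := fun c => σ.commutes c
  have hξ2 : ξ ^ 2 = 1 := by
    have h1 := hσ PowerSeries.X
    rw [hσX, map_add, map_mul, map_mul, map_pow, hC, hp] at h1
    have h3 := congrArg (PowerSeries.coeff 1) h1
    rw [PowerSeries.coeff_one_X, map_add, PowerSeries.coeff_C_mul,
      PowerSeries.coeff_succ_X_mul, PowerSeries.coeff_zero_eq_constantCoeff, hp0] at h3
    have h4 : PowerSeries.coeff 1 ((PowerSeries.X * p) ^ 2 * σ q) = 0 := by
      have : (PowerSeries.X * p) ^ 2 * σ q = PowerSeries.X * (PowerSeries.X * (p ^ 2 * σ q)) := by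
        ring
      rw [this, PowerSeries.coeff_succ_X_mul]; simp
    rw [h4] at h3
    rw [sq]; simpa using h3
  refine ⟨hξ2, ?_⟩
  set P : PowerSeries k := PowerSeries.C (2⁻¹ : k) *
        (PowerSeries.X + PowerSeries.C ξ * σ PowerSeries.X) with hP
  have hP0 : PowerSeries.constantCoeff P = 0 := by simp [hP, hσX0]
  have hP1 : PowerSeries.coeff 1 P = 1 := by
    rw [hP, PowerSeries.coeff_C_mul, map_add, PowerSeries.coeff_C_mul, PowerSeries.coeff_one_X,
      ← hξ, ← sq, hξ2]
    field_simp
    norm_num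
  have hP1u : IsUnit (PowerSeries.coeff 1 P) := by rw [hP1]; exact isUnit_one
  have hsP : PowerSeries.HasSubst P := PowerSeries.HasSubst.of_constantCoeff_zero' hP0
  have hsQ : PowerSeries.HasSubst (P.substInvOfIsUnit hP1u) :=
    PowerSeries.HasSubst.substInvOfIsUnit _ _
  let f : PowerSeries k →ₐ[k] PowerSeries k := PowerSeries.substAlgHom hsP
  let g : PowerSeries k →ₐ[k] PowerSeries k := PowerSeries.substAlgHom hsQ
  have hfX : f PowerSeries.X = P := PowerSeries.substAlgHom_X hsP
  have hgX : g PowerSeries.X = P.substInvOfIsUnit hP1u := PowerSeries.substAlgHom_X hsQ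
  have hfg : f.comp g = AlgHom.id k _ := by
    apply ps_algHom_ext
    rw [AlgHom.comp_apply, hgX]
    change PowerSeries.substAlgHom hsP _ = _
    rw [PowerSeries.coe_substAlgHom, PowerSeries.subst_substInvOfIsUnit_left _ hP0]
    rfl
  have hgf : g.comp f = AlgHom.id k _ := by
    apply ps_algHom_ext
    rw [AlgHom.comp_apply, hfX]
    change PowerSeries.substAlgHom hsQ _ = _
    rw [PowerSeries.coe_substAlgHom, PowerSeries.subst_substInvOfIsUnit_right _ hP0]
    rfl
  let φ : PowerSeries k ≃ₐ[k] PowerSeries k := AlgEquiv.ofAlgHom f g hfg hgf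
  have hφX : φ PowerSeries.X = P := hfX
  refine ⟨φ, hφX, ?_⟩
  have hσP : σ P = PowerSeries.C ξ * P := by
    have h1 : σ P = PowerSeries.C (2⁻¹ : k) * (σ PowerSeries.X + PowerSeries.C ξ * PowerSeries.X) := by
      rw [hP, map_mul, map_add, map_mul, hσ, hC, hC]
    have h2 : PowerSeries.C ξ * PowerSeries.C ξ = (1 : PowerSeries k) := by
      rw [← map_mul, ← sq, hξ2, map_one]
    rw [h1, hP]
    linear_combination (-1 : PowerSeries k) * PowerSeries.C (2⁻¹ : k) * σ PowerSeries.X * h2
  have hres : ∀ h : PowerSeries k, PowerSeries.rescaleAlgHom ξ h = PowerSeries.rescale ξ h :=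
    fun h => DFunLike.congr_fun (PowerSeries.coe_rescaleAlgHom ξ) h
  have hcomp : ((φ.symm : PowerSeries k →ₐ[k] PowerSeries k).comp
      ((σ : PowerSeries k →ₐ[k] PowerSeries k).comp (φ : PowerSeries k →ₐ[k] PowerSeries k))) =
      PowerSeries.rescaleAlgHom ξ := by
    apply ps_algHom_ext
    change φ.symm (σ (φ PowerSeries.X)) = _
    rw [hφX, hσP, map_mul, ← hφX, AlgEquiv.symm_apply_apply, hres, PowerSeries.rescale_X]
    congr 1
    exact φ.symm.commutes ξ
  intro h
  have := DFunLike.congr_fun hcomp h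
  rw [hres] at this
  exact this

end Groth.Agent.S14080
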