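import Groth.Statements.S14081
-- import your own Groth.Agent.* helpers here
import Groth.Agent.ArSing.K813.Invol2
import Groth.Agent.ArSing.K813.Semi

set_option autoImplicit false
universe u
open ArSing

namespace Groth.Agent.S14081

open IsLocalRing K813.Basic K813.Ring K813.Invol2 K813.Len K813.Semi

/-- The eigencoordinates of an involution of `ring k 0 = k[[y]]`. -/
theorem exists_normal_zero (k : Type u) [Field k] (h2 : (2 : k) ≠ 0)
    (σ : ring k 0 ≃ₐ[k] ring k 0) (hσ : ∀ a, σ (σ a) = a) :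
    ∃ (φ : ring k 0 ≃ₐ[k] ring k 0) (β : k), β ^ 2 = 1 ∧
      φ.symm (σ (φ (x k 0))) = x k 0 ∧
      φ.symm (σ (φ (y k 0))) = algebraMap k _ β * y k 0 := by
  have hysq : y k 0 ^ 2 = x k 0 := by
    have h := y_sq (k := k) (r := 0)
    rwa [zero_add, pow_one] at h
  have hm : maximalIdeal (ring k 0) = Ideal.span {y k 0} := by
    rw [maximalIdeal_eq (k := k) (r := 0)]
    apply le_antisymm
    · rw [Ideal.span_le]
      rintro a (rfl | rfl)
      · rw [SetLike.mem_coe, ← hysq, Ideal.mem_span_singleton']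
        exact ⟨y k 0, by ring⟩
      · exact Ideal.subset_span rfl
    · exact Ideal.span_mono (by simp)
  have hy0 : y k 0 ≠ 0 := by
    intro h
    have h3 := y_mem_nonZeroDivisors (k := k) (r := 0)
    rw [h] at h3
    exact zero_notMem_nonZeroDivisors h3
  have hσy : σ (y k 0) ∈ maximalIdeal (ring k 0) :=
    map_mem_maximalIdeal (exC k 0) (σ : ring k 0 →ₐ[k] ring k 0) y_mem
  rw [hm, Ideal.mem_span_singleton'] at hσy
  obtain ⟨w, hw⟩ := hσy
  obtain ⟨c, hc, h, hu, hh⟩ := exists_semi h2 (exC k 0) σ hσ (y k 0) w hy0 hw.symm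
  have hm' : maximalIdeal (ring k 0) = Ideal.span {h * y k 0} := by
    rw [hm, Ideal.span_singleton_mul_left_unit hu]
  have hbm : h * y k 0 ∈ maximalIdeal (ring k 0) := by rw [hm']; exact Ideal.subset_span rfl
  obtain ⟨φ, hφx, hφy⟩ := exists_equiv (k := k) (r := 0) (a := (h * y k 0) ^ 2) (b := h * y k 0)
    (Ideal.pow_mem_of_mem _ hbm 2 (by norm_num)) hbm (by ring) (by
      rw [hm']
      exact Ideal.span_mono (by simp))
  refine ⟨φ, c, hc, ?_, ?_⟩
  · rw [AlgEquiv.symm_apply_eq, hφx, map_pow, hh, mul_pow, ← map_pow, hc, map_one]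
    ring
  · rw [AlgEquiv.symm_apply_eq, map_mul, AlgEquiv.commutes, hφy, hh]

/-- Over an algebraically closed field k of characteristic prime to 2 and to r+1, with r even, every
non-trivial k-algebra involution σ of A_r = k[[x,y]]/(y^2 - x^(r+1)) is conjugate, by a k-algebra
automorphism φ of A_r, to the involution x ↦ x, y ↦ -y (that is, φ⁻¹σφ fixes the class of x and
negates the class of y). -/
theorem result (k : Type u) [Field k] [IsAlgClosed k] (r : ℕ)
    (h2 : (2 : k) ≠ 0) (hr : ((r + 1 : ℕ) : k) ≠ 0) (hev : Even r)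
    (σ : ArSing.ring k r ≃ₐ[k] ArSing.ring k r) (hσ : ∀ a, σ (σ a) = a) (hne : σ ≠ AlgEquiv.refl) :
    ∃ φ : ArSing.ring k r ≃ₐ[k] ArSing.ring k r,
      φ.symm (σ (φ (ArSing.x k r))) = ArSing.x k r ∧
      φ.symm (σ (φ (ArSing.y k r))) = -ArSing.y k r := by
  have e1 : ∀ z : ring k r, algebraMap k (ring k r) 1 * z = z := by intro z; rw [map_one]; ring
  have e2 : ∀ z : ring k r, algebraMap k (ring k r) (-1) * z = -z := by
    intro z; rw [map_neg, map_one]; ring
  have key : ∃ (φ : ring k r ≃ₐ[k] ring k r) (β : k), β ^ 2 = 1 ∧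
      φ.symm (σ (φ (x k r))) = x k r ∧
      φ.symm (σ (φ (y k r))) = algebraMap k _ β * y k r := by
    rcases Nat.eq_zero_or_pos r with rfl | hpos
    · exact exists_normal_zero k h2 σ hσ
    · have hr2 : 2 ≤ r := by
        rcases hev with ⟨m, hm⟩
        omega
      obtain ⟨φ, γ, β, hγ, hβ, hγr, hx, hy⟩ := exists_normal h2 hr2 σ hσ
      have hγ1 : γ = 1 := by
        obtain ⟨m, hm⟩ := hev
        rw [hm, ← two_mul, pow_succ, pow_mul, hγ, one_pow, one_mul] at hγr
        exact hγr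
      rw [hγ1, e1] at hx
      exact ⟨φ, β, hβ, hx, hy⟩
  obtain ⟨φ, β, hβ, hx, hy⟩ := key
  have hβ1 : β = 1 ∨ β = -1 := by rw [sq] at hβ; exact mul_self_eq_one_iff.1 hβ
  refine ⟨φ, hx, ?_⟩
  rcases hβ1 with rfl | rfl
  · rw [e1] at hy
    exfalso
    apply hne
    rw [AlgEquiv.symm_apply_eq] at hx hy
    have hcomp : (σ : ring k r →ₐ[k] ring k r).comp (φ : ring k r →ₐ[k] ring k r) =
        (φ : ring k r →ₐ[k] ring k r) :=
      hom_ext (k := k) (r := r) (S := ring k r) (exC k r) hx hy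
    ext a
    obtain ⟨b, rfl⟩ := φ.surjective a
    exact DFunLike.congr_fun hcomp b
  · rw [e2] at hy
    exact hy

end Groth.Agent.S14081
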