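import Groth.Statements.S14082
-- import your own Groth.Agent.* helpers here
import Groth.Agent.ArSing.K813.Invol2

set_option autoImplicit false
universe u
open ArSing

namespace Groth.Agent.S14082

open IsLocalRing K813.Basic K813.Ring K813.Invol2

/-- Over an algebraically closed field k of characteristic prime to 2 and to r+1, with r odd and r ≥ 3,
every non-trivial k-algebra involution σ of A_r = k[[x,y]]/(y^2 - x^(r+1)) is conjugate, by a
k-algebra automorphism φ of A_r, to one of the three involutions (x, y) ↦ (x, -y), (x, y) ↦ (-x, y),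
(x, y) ↦ (-x, -y). -/
theorem result (k : Type u) [Field k] [IsAlgClosed k] (r : ℕ)
    (h2 : (2 : k) ≠ 0) (hr : ((r + 1 : ℕ) : k) ≠ 0) (hodd : Odd r) (h3 : 3 ≤ r)
    (σ : ArSing.ring k r ≃ₐ[k] ArSing.ring k r) (hσ : ∀ a, σ (σ a) = a) (hne : σ ≠ AlgEquiv.refl) :
    ∃ φ : ArSing.ring k r ≃ₐ[k] ArSing.ring k r,
      (φ.symm (σ (φ (ArSing.x k r))) = ArSing.x k r ∧ φ.symm (σ (φ (ArSing.y k r))) = -ArSing.y k r) ∨
      (φ.symm (σ (φ (ArSing.x k r))) = -ArSing.x k r ∧ φ.symm (σ (φ (ArSing.y k r))) = ArSing.y k r) ∨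
      (φ.symm (σ (φ (ArSing.x k r))) = -ArSing.x k r ∧ φ.symm (σ (φ (ArSing.y k r))) = -ArSing.y k r) := by
  obtain ⟨φ, γ, β, hγ, hβ, -, hx, hy⟩ := exists_normal h2 (by omega : 2 ≤ r) σ hσ
  have hγ1 : γ = 1 ∨ γ = -1 := by rw [sq] at hγ; exact mul_self_eq_one_iff.1 hγ
  have hβ1 : β = 1 ∨ β = -1 := by rw [sq] at hβ; exact mul_self_eq_one_iff.1 hβ
  have e1 : ∀ z : ring k r, algebraMap k (ring k r) 1 * z = z := by intro z; rw [map_one]; ring
  have e2 : ∀ z : ring k r, algebraMap k (ring k r) (-1) * z = -z := by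
    intro z; rw [map_neg, map_one]; ring
  refine ⟨φ, ?_⟩
  rcases hγ1 with rfl | rfl
  · rw [e1] at hx
    rcases hβ1 with rfl | rfl
    · rw [e1] at hy
      exfalso
      apply hne
      rw [AlgEquiv.symm_apply_eq] at hx hy
      have hcomp : (σ : ring k r →ₐ[k] ring k r).comp (φ : ring k r →ₐ[k] ring k r) =
          (φ : ring k r →ₐ[k] ring k r) :=
        hom_ext (k := k) (r := r) (S := ring k r) (exC k r) hx hy
      ext a
      obtain ⟨b, rfl⟩ := φ.surjective a
      exact DFunLike.congr_fun hcomp b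
    · rw [e2] at hy
      exact Or.inl ⟨hx, hy⟩
  · rw [e2] at hx
    rcases hβ1 with rfl | rfl
    · rw [e1] at hy
      exact Or.inr (Or.inl ⟨hx, hy⟩)
    · rw [e2] at hy
      exact Or.inr (Or.inr ⟨hx, hy⟩)

end Groth.Agent.S14082
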