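import Groth.Statements.S14083
-- import your own Groth.Agent.* helpers here
import Groth.Agent.ArSing.K813.Node
import Groth.Agent.ArSing.K813.Semi

set_option autoImplicit false
universe u
open ArSing

namespace Groth.Agent.S14083

open IsLocalRing K813.NF K813.Basic K813.Ring K813.Len K813.EvOdd K813.Node K813.Semi

theorem half_add (k : Type u) [Field k] (h2 : (2 : k) ≠ 0) :
    algebraMap k (ring k 1) 2⁻¹ + algebraMap k (ring k 1) 2⁻¹ = 1 := by
  rw [← map_add, ← two_mul, mul_inv_cancel₀ h2, map_one]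

/-- Automorphisms of the node algebra with prescribed branch coordinates. -/
theorem exists_conj (k : Type u) [Field k] (h2 : (2 : k) ≠ 0) (u' v' : ring k 1)
    (huv : u' * v' = 0) (hm : maximalIdeal (ring k 1) = Ideal.span {u', v'}) :
    ∃ φ : ring k 1 ≃ₐ[k] ring k 1, φ (x k 1) = algebraMap k (ring k 1) 2⁻¹ * (u' - v') ∧
      φ (y k 1) = algebraMap k (ring k 1) 2⁻¹ * (u' + v') := by
  have hh := half_add k h2
  have hu' : u' ∈ maximalIdeal (ring k 1) := by rw [hm]; exact Ideal.subset_span (Or.inl rfl)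
  have hv' : v' ∈ maximalIdeal (ring k 1) := by rw [hm]; exact Ideal.subset_span (Or.inr rfl)
  refine exists_equiv (k := k) (r := 1) (Ideal.mul_mem_left _ _ (Ideal.sub_mem _ hu' hv'))
    (Ideal.mul_mem_left _ _ (Ideal.add_mem _ hu' hv')) ?_ ?_
  · linear_combination 4 * algebraMap k (ring k 1) 2⁻¹ ^ 2 * huv
  · rw [hm, Ideal.span_le]
    rintro a (rfl | rfl)
    · rw [SetLike.mem_coe, Ideal.mem_span_pair]
      exact ⟨1, 1, by linear_combination a * hh⟩
    · rw [SetLike.mem_coe, Ideal.mem_span_pair]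
      exact ⟨-1, 1, by linear_combination a * hh⟩

/-- Conjugation when the two branches are preserved. -/
theorem caseA (k : Type u) [Field k] (h2 : (2 : k) ≠ 0)
    (σ : ring k 1 ≃ₐ[k] ring k 1) (u' v' : ring k 1)
    (huv : u' * v' = 0) (hm : maximalIdeal (ring k 1) = Ideal.span {u', v'})
    (hu : σ u' = u') (hv : σ v' = -v') :
    ∃ φ : ring k 1 ≃ₐ[k] ring k 1,
      φ.symm (σ (φ (ArSing.x k 1))) = ArSing.y k 1 ∧
      φ.symm (σ (φ (ArSing.y k 1))) = ArSing.x k 1 := by
  obtain ⟨φ, hφx, hφy⟩ := exists_conj k h2 u' v' huv hm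
  refine ⟨φ, ?_, ?_⟩
  · rw [AlgEquiv.symm_apply_eq, hφx, hφy, map_mul, AlgEquiv.commutes, map_sub, hu, hv]
    ring
  · rw [AlgEquiv.symm_apply_eq, hφx, hφy, map_mul, AlgEquiv.commutes, map_add, hu, hv]
    ring

/-- Over an algebraically closed field k of characteristic different from 2, every non-trivial k-algebra
involution σ of the node algebra A_1 = k[[x,y]]/(y^2 - x^2) is conjugate, by a k-algebra
automorphism φ of A_1, to one of the three involutions (x, y) ↦ (x, -y), (x, y) ↦ (-x, -y), (x, y) ↦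
(y, x). -/
theorem result (k : Type u) [Field k] [IsAlgClosed k]
    (h2 : (2 : k) ≠ 0)
    (σ : ArSing.ring k 1 ≃ₐ[k] ArSing.ring k 1) (hσ : ∀ a, σ (σ a) = a) (hne : σ ≠ AlgEquiv.refl) :
    ∃ φ : ArSing.ring k 1 ≃ₐ[k] ArSing.ring k 1,
      (φ.symm (σ (φ (ArSing.x k 1))) = ArSing.x k 1 ∧ φ.symm (σ (φ (ArSing.y k 1))) = -ArSing.y k 1) ∨
      (φ.symm (σ (φ (ArSing.x k 1))) = -ArSing.x k 1 ∧ φ.symm (σ (φ (ArSing.y k 1))) = -ArSing.y k 1) ∨
      (φ.symm (σ (φ (ArSing.x k 1))) = ArSing.y k 1 ∧ φ.symm (σ (φ (ArSing.y k 1))) = ArSing.x k 1) := by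
  have huX : piu k (uu k) = PowerSeries.X := piu_uu h2
  have hvX : piv k (vv k) = PowerSeries.X := piv_vv h2
  have hu0 : uu k ≠ 0 := by
    intro h
    rw [h, map_zero] at huX
    exact PowerSeries.X_ne_zero huX.symm
  have hv0 : vv k ≠ 0 := by
    intro h
    rw [h, map_zero] at hvX
    exact PowerSeries.X_ne_zero hvX.symm
  have huv : uu k * vv k = 0 := uu_mul_vv k
  have hhalf := half_add k h2
  have hm : maximalIdeal (ring k 1) = Ideal.span {uu k, vv k} := by
    rw [maximalIdeal_eq (k := k) (r := 1)]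
    apply le_antisymm
    · rw [Ideal.span_le]
      rintro a (rfl | rfl)
      · rw [SetLike.mem_coe, Ideal.mem_span_pair]
        exact ⟨algebraMap k (ring k 1) 2⁻¹, -algebraMap k (ring k 1) 2⁻¹, by
          rw [uu, vv]; linear_combination x k 1 * hhalf⟩
      · rw [SetLike.mem_coe, Ideal.mem_span_pair]
        exact ⟨algebraMap k (ring k 1) 2⁻¹, algebraMap k (ring k 1) 2⁻¹, by
          rw [uu, vv]; linear_combination y k 1 * hhalf⟩
    · rw [Ideal.span_le]
      rintro a (rfl | rfl)
      · rw [SetLike.mem_coe, Ideal.mem_span_pair]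
        exact ⟨1, 1, by rw [uu]; ring⟩
      · rw [SetLike.mem_coe, Ideal.mem_span_pair]
        exact ⟨-1, 1, by rw [vv]; ring⟩
  have hspanu : ∀ h g : ring k 1, IsUnit h → IsUnit g →
      maximalIdeal (ring k 1) = Ideal.span {h * uu k, g * vv k} := by
    intro h g hh hg
    rw [hm, Ideal.span_insert, Ideal.span_insert, Ideal.span_singleton_mul_left_unit hh,
      Ideal.span_singleton_mul_left_unit hg]
  have hσuv : σ (uu k) * σ (vv k) = 0 := by rw [← map_mul, huv, map_zero]
  have hpu : piu k (σ (uu k)) = 0 ∨ piu k (σ (vv k)) = 0 := by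
    rw [← mul_eq_zero, ← map_mul, hσuv, map_zero]
  have hpv : piv k (σ (uu k)) = 0 ∨ piv k (σ (vv k)) = 0 := by
    rw [← mul_eq_zero, ← map_mul, hσuv, map_zero]
  have hσu0 : σ (uu k) ≠ 0 := fun h => hu0 (σ.injective (h.trans (map_zero σ).symm))
  have hσv0 : σ (vv k) ≠ 0 := fun h => hv0 (σ.injective (h.trans (map_zero σ).symm))
  by_cases hc : piv k (σ (uu k)) = 0
  · -- the branches are preserved
    have hc' : piu k (σ (vv k)) = 0 := by
      rcases hpu with h | h
      · exact absurd (eq_zero_of_pi h2 h hc) hσu0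
      · exact h
    obtain ⟨w, hw⟩ := ker_piv h2 hc
    obtain ⟨w', hw'⟩ := ker_piu h2 hc'
    obtain ⟨c, hc2, h, hh, hch⟩ := exists_semi h2 (exC k 1) σ hσ (uu k) w hu0
      (by rw [hw, mul_comm])
    obtain ⟨c', hc2', h', hh', hch'⟩ := exists_semi h2 (exC k 1) σ hσ (vv k) w' hv0
      (by rw [hw', mul_comm])
    have huv' : h * uu k * (h' * vv k) = 0 := by linear_combination h * h' * huv
    have hm' := hspanu h h' hh hh'
    have hc1 : c = 1 ∨ c = -1 := by rw [sq] at hc2; exact mul_self_eq_one_iff.1 hc2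
    have hc1' : c' = 1 ∨ c' = -1 := by rw [sq] at hc2'; exact mul_self_eq_one_iff.1 hc2'
    rcases hc1 with rfl | rfl
    · rw [map_one, one_mul] at hch
      rcases hc1' with rfl | rfl
      · rw [map_one, one_mul] at hch'
        exfalso
        apply hne
        obtain ⟨φ, hφx, hφy⟩ := exists_conj k h2 _ _ huv' hm'
        have hcomp : (σ : ring k 1 →ₐ[k] ring k 1).comp (φ : ring k 1 →ₐ[k] ring k 1) =
            (φ : ring k 1 →ₐ[k] ring k 1) := by
          apply hom_ext (k := k) (r := 1) (S := ring k 1) (exC k 1)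
          · change σ (φ (x k 1)) = φ (x k 1)
            rw [hφx, map_mul, AlgEquiv.commutes, map_sub, hch, hch']
          · change σ (φ (y k 1)) = φ (y k 1)
            rw [hφy, map_mul, AlgEquiv.commutes, map_add, hch, hch']
        ext a
        obtain ⟨b, rfl⟩ := φ.surjective a
        exact DFunLike.congr_fun hcomp b
      · replace hch' : σ (h' * vv k) = -(h' * vv k) :=
          hch'.trans (by rw [map_neg, map_one]; ring)
        obtain ⟨φ, h3, h4⟩ := caseA k h2 σ _ _ huv' hm' hch hch'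
        exact ⟨φ, Or.inr (Or.inr ⟨h3, h4⟩)⟩
    · replace hch : σ (h * uu k) = -(h * uu k) :=
        hch.trans (by rw [map_neg, map_one]; ring)
      rcases hc1' with rfl | rfl
      · rw [map_one, one_mul] at hch'
        obtain ⟨φ, h3, h4⟩ := caseA k h2 σ _ _ ((mul_comm _ _).trans huv')
          (hm'.trans (by rw [Set.pair_comm])) hch' hch
        exact ⟨φ, Or.inr (Or.inr ⟨h3, h4⟩)⟩
      · replace hch' : σ (h' * vv k) = -(h' * vv k) :=
          hch'.trans (by rw [map_neg, map_one]; ring)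
        obtain ⟨φ, hφx, hφy⟩ := exists_conj k h2 _ _ huv' hm'
        refine ⟨φ, Or.inr (Or.inl ⟨?_, ?_⟩)⟩
        · rw [AlgEquiv.symm_apply_eq, map_neg, hφx, map_mul, AlgEquiv.commutes, map_sub, hch, hch']
          ring
        · rw [AlgEquiv.symm_apply_eq, map_neg, hφy, map_mul, AlgEquiv.commutes, map_add, hch, hch']
          ring
  · -- the branches are exchanged
    have hc1 : piv k (σ (vv k)) = 0 := hpv.resolve_left hc
    have hc2 : piu k (σ (uu k)) = 0 := by
      rcases hpu with h | h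
      · exact h
      · exact absurd (eq_zero_of_pi h2 h hc1) hσv0
    obtain ⟨w, hw⟩ := ker_piu h2 hc2
    obtain ⟨w', hw'⟩ := ker_piv h2 hc1
    have h3 : (1 - w' * σ w) * uu k = 0 := by
      have h := hσ (uu k)
      rw [hw, map_mul, hw'] at h
      linear_combination -h
    have h4 : 1 - w' * σ w ∈ maximalIdeal (ring k 1) := by
      by_contra hn
      have hunit : IsUnit (1 - w' * σ w) := by
        by_contra hu
        exact hn hu
      exact hu0 ((hunit.mul_right_eq_zero).1 h3)
    have h5 : IsUnit w := by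
      by_contra hn
      have h6 : σ w ∈ maximalIdeal (ring k 1) :=
        map_mem_maximalIdeal (exC k 1) (σ : ring k 1 →ₐ[k] ring k 1) hn
      have h7 := Ideal.add_mem _ h4 (Ideal.mul_mem_left _ w' h6)
      rw [sub_add_cancel] at h7
      exact (Ideal.ne_top_iff_one _).1 Ideal.IsPrime.ne_top' h7
    have huv' : 1 * uu k * (-w * vv k) = 0 := by linear_combination -w * huv
    have hm' := hspanu 1 (-w) isUnit_one h5.neg
    have e1 : σ (1 * uu k) = -(-w * vv k) := by rw [one_mul, hw]; ring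
    have e2 : σ (-w * vv k) = -(1 * uu k) := by
      have e3 : -w * vv k = -σ (uu k) := by rw [hw]; ring
      rw [e3, map_neg, hσ, one_mul]
    obtain ⟨φ, hφx, hφy⟩ := exists_conj k h2 _ _ huv' hm'
    refine ⟨φ, Or.inl ⟨?_, ?_⟩⟩
    · rw [AlgEquiv.symm_apply_eq, hφx, map_mul, AlgEquiv.commutes, map_sub, e1, e2]
      ring
    · rw [AlgEquiv.symm_apply_eq, map_neg, hφy, map_mul, AlgEquiv.commutes, map_add, e1, e2]
      ring

end Groth.Agent.S14083
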