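import Groth.Statements.S14084
import Groth.Agent.ArSing.K813.EquivNode2

set_option autoImplicit false
universe u
open ArSing

namespace Groth.Agent.S14084

open IsLocalRing K813.EquivNode K813.EquivNode2


/-- Let k be an algebraically closed field with 2 invertible, R → S a flat local homomorphism of
complete Noetherian local k-algebras whose closed fibre S/m_R S is isomorphic over k to the node
algebra k[[x,y]]/(y^2 - x^2), and σ an R-algebra involution of S whose reduction to the closed fibre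
does not exchange the two branches (it maps each minimal prime ideal over m_R S to itself). Then
there are t in R, signs ξ₁, ξ₂ in k and an R-algebra isomorphism of S with R[[x,y]]/(xy - t)
transporting σ to x ↦ ξ₂ x, y ↦ ξ₁ y; moreover t = 0 when ξ₁ = -ξ₂. -/
theorem result (k R S : Type u) [Field k] [IsAlgClosed k]
    (h2 : (2 : k) ≠ 0)
    [CommRing R] [IsLocalRing R] [IsNoetherianRing R] [IsAdicComplete (IsLocalRing.maximalIdeal R) R]
    [CommRing S] [IsLocalRing S] [IsNoetherianRing S] [IsAdicComplete (IsLocalRing.maximalIdeal S) S]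
    [Algebra k R] [Algebra R S] [Algebra k S] [IsScalarTower k R S]
    [IsLocalHom (algebraMap R S)] [Module.Flat R S]
    (e : (S ⧸ Ideal.map (algebraMap R S) (IsLocalRing.maximalIdeal R)) ≃ₐ[k]
      (MvPowerSeries (Fin 2) k ⧸
        Ideal.span {(MvPowerSeries.X 1 ^ 2 - MvPowerSeries.X 0 ^ 2 : MvPowerSeries (Fin 2) k)}))
    (σ : S ≃ₐ[R] S) (hσ : ∀ s, σ (σ s) = s)
    (hbr : ∀ P ∈ (Ideal.map (algebraMap R S) (IsLocalRing.maximalIdeal R)).minimalPrimes,
      Ideal.map (σ : S →+* S) P = P) :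
    ∃ (t : R) (ξ₁ ξ₂ : k), ξ₁ ^ 2 = 1 ∧ ξ₂ ^ 2 = 1 ∧ (ξ₁ = -ξ₂ → t = 0) ∧
      ∃ f : S ≃ₐ[R] (MvPowerSeries (Fin 2) R ⧸
          Ideal.span {(MvPowerSeries.X 0 * MvPowerSeries.X 1 - MvPowerSeries.C t : MvPowerSeries (Fin 2) R)}),
        f (σ (f.symm (Ideal.Quotient.mk _ (MvPowerSeries.X 0)))) =
          algebraMap k R ξ₂ • Ideal.Quotient.mk _ (MvPowerSeries.X 0) ∧
        f (σ (f.symm (Ideal.Quotient.mk _ (MvPowerSeries.X 1)))) =
          algebraMap k R ξ₁ • Ideal.Quotient.mk _ (MvPowerSeries.X 1) := by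
  classical
  have hle : nn R S ≤ maximalIdeal S := nn_le
  have hnt : Nontrivial (S ⧸ nn R S) := Ideal.Quotient.nontrivial_iff.2 (fun h => by
    rw [h, top_le_iff] at hle
    exact (IsLocalRing.maximalIdeal.isMaximal S).ne_top hle)
  have hlocB : IsLocalRing (S ⧸ nn R S) :=
    IsLocalRing.of_surjective' (Ideal.Quotient.mk _) Ideal.Quotient.mk_surjective
  have hcB : IsAdicComplete (maximalIdeal (S ⧸ nn R S)) (S ⧸ nn R S) :=
    K813.Basic.isAdicComplete_quotient S (nn R S)
  have hlhom : IsLocalHom (Ideal.Quotient.mk (nn R S)) :=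
    IsLocalHom.of_surjective _ Ideal.Quotient.mk_surjective
  have hmkB : ∀ s : S, Ideal.Quotient.mk (nn R S) s ∈ maximalIdeal (S ⧸ nn R S) ↔
      s ∈ maximalIdeal S := by
    intro s
    rw [IsLocalRing.mem_maximalIdeal, IsLocalRing.mem_maximalIdeal, mem_nonunits_iff,
      mem_nonunits_iff, isUnit_map_iff]
  obtain ⟨q, hqs, hq⟩ := exists_q h2 e
  have hresB := K813.Basic.exists_const_of_surjective q hqs K813.Basic.exists_const
  have hres : ∀ s : S, ∃ c : k, s - algebraMap k S c ∈ maximalIdeal S := by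
    intro s
    obtain ⟨c, hc⟩ := hresB (Ideal.Quotient.mk _ s)
    refine ⟨c, (hmkB _).1 ?_⟩
    rw [map_sub]
    exact hc
  have hresR : ∀ r : R, ∃ c : k, r - algebraMap k R c ∈ maximalIdeal R := by
    intro r
    obtain ⟨c, hc⟩ := hres (algebraMap R S r)
    refine ⟨c, fun hu => hc ?_⟩
    rw [IsScalarTower.algebraMap_apply k R S, ← map_sub]
    exact hu.map (algebraMap R S)
  obtain ⟨x₁, hx₁⟩ := Ideal.Quotient.mk_surjective (q (MvPowerSeries.X 0))
  obtain ⟨y₁, hy₁⟩ := Ideal.Quotient.mk_surjective (q (MvPowerSeries.X 1))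
  obtain ⟨hne0, hne1⟩ := q_X0_ne q hq
  have hx₁n : x₁ ∉ nn R S := by
    rw [← Ideal.Quotient.eq_zero_iff_mem, hx₁]; exact hne0
  have hy₁n : y₁ ∉ nn R S := by
    rw [← Ideal.Quotient.eq_zero_iff_mem, hy₁]; exact hne1
  have hxy : x₁ * y₁ ∈ nn R S := by
    rw [← Ideal.Quotient.eq_zero_iff_mem, map_mul, hx₁, hy₁, ← map_mul, hq]
  have hPx := mem_minimalPrimes q hqs hq 0 1 (by decide) rfl
    (Groth.Agent.CurvesC.NodalAlg.X0_prime k) hx₁
  have hPy := mem_minimalPrimes q hqs hq 1 0 (by decide) (mul_comm _ _)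
    (Groth.Agent.CurvesC.NodalAlg.X1_prime k) hy₁
  have hσx : σ x₁ ∈ Ideal.span {x₁} ⊔ nn R S := by
    have h1 := hbr _ hPx
    have h3 : σ x₁ ∈ Ideal.map (σ : S →+* S) (Ideal.span {x₁} ⊔ nn R S) :=
      Ideal.mem_map_of_mem (σ : S →+* S)
        (Ideal.mem_sup_left (Ideal.mem_span_singleton_self x₁))
    rwa [h1] at h3
  have hσy : σ y₁ ∈ Ideal.span {y₁} ⊔ nn R S := by
    have h1 := hbr _ hPy
    have h3 : σ y₁ ∈ Ideal.map (σ : S →+* S) (Ideal.span {y₁} ⊔ nn R S) :=
      Ideal.mem_map_of_mem (σ : S →+* S)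
        (Ideal.mem_sup_left (Ideal.mem_span_singleton_self y₁))
    rwa [h1] at h3
  obtain ⟨ξ₂, u₁, w₁, h2s, su, hw₁, hu₁⟩ := exists_semi h2 σ hσ hres hx₁n hσx
  obtain ⟨ξ₁, v₁, w₂, h1s, sv, hw₂, hv₁⟩ := exists_semi h2 σ hσ hres hy₁n hσy
  have hx₁m : x₁ ∈ maximalIdeal S := by
    rw [← hmkB, hx₁]
    exact K813.Basic.map_mem_maximalIdeal hresB q (K813.Basic.X_mem_maximalIdeal 0)
  have hy₁m : y₁ ∈ maximalIdeal S := by
    rw [← hmkB, hy₁]
    exact K813.Basic.map_mem_maximalIdeal hresB q (K813.Basic.X_mem_maximalIdeal 1)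
  have hum : u₁ ∈ maximalIdeal S := by
    have h3 := Ideal.add_mem _ (hle hu₁) (Ideal.mul_mem_left _ w₁ hx₁m)
    rwa [sub_add_cancel] at h3
  have hvm : v₁ ∈ maximalIdeal S := by
    have h3 := Ideal.add_mem _ (hle hv₁) (Ideal.mul_mem_left _ w₂ hy₁m)
    rwa [sub_add_cancel] at h3
  have huv : u₁ * v₁ ∈ nn R S := by
    have h3 := Ideal.add_mem _ (Ideal.add_mem _ (Ideal.mul_mem_right v₁ _ hu₁)
      (Ideal.mul_mem_left _ (w₁ * x₁) hv₁)) (Ideal.mul_mem_left _ (w₁ * w₂) hxy)
    have e : u₁ * v₁ = (u₁ - w₁ * x₁) * v₁ + w₁ * x₁ * (v₁ - w₂ * y₁) + w₁ * w₂ * (x₁ * y₁) := by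
      ring
    rw [e]; exact h3
  have hm₁ : maximalIdeal S ≤ Ideal.span {u₁, v₁} ⊔ nn R S := by
    intro s hs
    obtain ⟨z, hz⟩ := hqs (Ideal.Quotient.mk _ s)
    have hzm : z ∈ maximalIdeal (MvPowerSeries (Fin 2) k) := by
      intro hu
      have h3 := (hmkB s).2 hs
      rw [← hz] at h3
      exact h3 (hu.map q)
    rw [K813.Pow2.maximalIdeal_eq, Ideal.mem_span_pair] at hzm
    obtain ⟨a, b, rfl⟩ := hzm
    obtain ⟨a', ha'⟩ := Ideal.Quotient.mk_surjective (q a)
    obtain ⟨b', hb'⟩ := Ideal.Quotient.mk_surjective (q b)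
    rw [map_add, map_mul, map_mul, ← ha', ← hb', ← hx₁, ← hy₁, ← map_mul, ← map_mul, ← map_add,
      eq_comm, Ideal.Quotient.eq] at hz
    have hxs : x₁ ∈ Ideal.span {u₁, v₁} ⊔ nn R S := by
      rw [← Ideal.unit_mul_mem_iff_mem _ hw₁]
      have e : w₁ * x₁ = u₁ + -(u₁ - w₁ * x₁) := by ring
      rw [e]
      exact Submodule.add_mem_sup (Ideal.subset_span (by simp)) (neg_mem hu₁)
    have hys : y₁ ∈ Ideal.span {u₁, v₁} ⊔ nn R S := by
      rw [← Ideal.unit_mul_mem_iff_mem _ hw₂]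
      have e : w₂ * y₁ = v₁ + -(v₁ - w₂ * y₁) := by ring
      rw [e]
      exact Submodule.add_mem_sup (Ideal.subset_span (by simp)) (neg_mem hv₁)
    have e : s = (s - (a' * x₁ + b' * y₁)) + (a' * x₁ + b' * y₁) := by ring
    rw [e]
    exact Ideal.add_mem _ (Ideal.mem_sup_right hz)
      (Ideal.add_mem _ (Ideal.mul_mem_left _ _ hxs) (Ideal.mul_mem_left _ _ hys))
  obtain ⟨u, v, t, su', sv', htm, huvt, ht0, hum', hvm', hm⟩ :=
    exists_uvt h2 σ hσ hres h1s h2s su sv huv hm₁ hum hvm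
  refine ⟨t, ξ₁, ξ₂, h1s, h2s, ht0, ?_⟩
  -- the map from the power series ring
  obtain ⟨φ, hφ⟩ := K813.Basic.exists_algHom (R := R) (maximalIdeal S) ![u, v] (by
    intro i
    fin_cases i
    · exact hum'
    · exact hvm')
  have hφ0 : φ (MvPowerSeries.X 0) = u := hφ 0
  have hφ1 : φ (MvPowerSeries.X 1) = v := hφ 1
  have hφm : ∀ i, φ (MvPowerSeries.X i) ∈ maximalIdeal S := by
    intro i
    fin_cases i
    · change φ (MvPowerSeries.X 0) ∈ _
      rw [hφ0]; exact hum'
    · change φ (MvPowerSeries.X 1) ∈ _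
      rw [hφ1]; exact hvm'
  have hφC : ∀ r : R, φ (MvPowerSeries.C r) = algebraMap R S r := fun r => φ.commutes r
  have hφs : Function.Surjective φ := by
    refine K813.FlatInj.surjective_of_residue 2 φ hφm ?_ ?_
    · intro s
      obtain ⟨c, hc⟩ := hres s
      exact ⟨algebraMap k R c, by rwa [← IsScalarTower.algebraMap_apply]⟩
    · refine hm.trans (sup_le_sup_right (Ideal.span_mono ?_) _)
      intro z hz
      rcases hz with rfl | rfl
      · exact ⟨0, hφ0⟩
      · exact ⟨1, hφ1⟩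
  set I : Ideal (MvPowerSeries (Fin 2) R) :=
    Ideal.span {(MvPowerSeries.X 0 * MvPowerSeries.X 1 - MvPowerSeries.C t :
      MvPowerSeries (Fin 2) R)} with hI
  have hφI : ∀ a ∈ I, φ a = 0 := by
    intro a ha
    obtain ⟨b, rfl⟩ := Ideal.mem_span_singleton.1 ha
    rw [map_mul, map_sub, map_mul, hφ0, hφ1, hφC, huvt, sub_self, zero_mul]
  set φb : (MvPowerSeries (Fin 2) R ⧸ I) →ₐ[R] S := Ideal.Quotient.liftₐ I φ hφI with hφb
  have hφbmk : ∀ z, φb (Ideal.Quotient.mk I z) = φ z := fun z => rfl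
  have hφbs : Function.Surjective φb := by
    intro s
    obtain ⟨z, hz⟩ := hφs s
    exact ⟨Ideal.Quotient.mk I z, hz⟩
  have hntA : Nontrivial (MvPowerSeries (Fin 2) R ⧸ I) := hφbs.nontrivial
  have hlocA : IsLocalRing (MvPowerSeries (Fin 2) R ⧸ I) :=
    IsLocalRing.of_surjective' (Ideal.Quotient.mk _) Ideal.Quotient.mk_surjective
  have hinj : Function.Injective φb := by
    refine K813.FlatInj.injective_of_flat (maximalIdeal R) ?_ φb hφbs ?_
    · rw [Ideal.map_le_iff_le_comap]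
      intro r hr hu
      have h3 := hu.map φb
      rw [AlgHom.commutes] at h3
      exact (hle (Ideal.mem_map_of_mem _ hr)) h3
    · intro x hx
      obtain ⟨z, rfl⟩ := Ideal.Quotient.mk_surjective x
      have hz : φ z = 0 := hx
      choose c hc using hresR
      -- the reduction
      let z₀ : MvPowerSeries (Fin 2) k := fun d => c (MvPowerSeries.coeff d z)
      have hz₀ : ∀ d, MvPowerSeries.coeff d z₀ = c (MvPowerSeries.coeff d z) := fun d => rfl
      let ι : MvPowerSeries (Fin 2) k →+* MvPowerSeries (Fin 2) R :=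
        MvPowerSeries.map (algebraMap k R)
      have hz₁ : z - ι z₀ ∈ (maximalIdeal R).map (MvPowerSeries.C : R →+* MvPowerSeries (Fin 2) R) := by
        refine Groth.Agent.CalgB.PowSerHt.mv_mem_map_C_of_coeff_mem _
          (IsNoetherian.noetherian _) _ fun d => ?_
        rw [map_sub, MvPowerSeries.coeff_map, hz₀]
        exact hc _
      have hφn : ∀ y ∈ (maximalIdeal R).map (MvPowerSeries.C : R →+* MvPowerSeries (Fin 2) R),
          φ y ∈ nn R S := by
        intro y hy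
        have h3 := Ideal.mem_map_of_mem (φ : MvPowerSeries (Fin 2) R →+* S) hy
        have e5 : (φ : MvPowerSeries (Fin 2) R →+* S).comp
            (MvPowerSeries.C : R →+* MvPowerSeries (Fin 2) R) = algebraMap R S := by
          ext r
          exact hφC r
        rw [Ideal.map_map, e5] at h3
        exact h3
      let ψ : MvPowerSeries (Fin 2) k →ₐ[k] (S ⧸ nn R S) :=
        { (Ideal.Quotient.mk (nn R S)).comp ((φ : MvPowerSeries (Fin 2) R →+* S).comp ι) with
          commutes' := by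
            intro c
            change Ideal.Quotient.mk (nn R S) (φ (ι (MvPowerSeries.C c))) = _
            rw [MvPowerSeries.map_C, hφC, ← IsScalarTower.algebraMap_apply]
            rfl }
      have hψ : ∀ y, ψ y = Ideal.Quotient.mk (nn R S) (φ (ι y)) := fun y => rfl
      have hιX : ∀ i, ι (MvPowerSeries.X i) = MvPowerSeries.X i := fun i =>
        MvPowerSeries.map_X _ i
      have hdvd : (MvPowerSeries.X 0 * MvPowerSeries.X 1 : MvPowerSeries (Fin 2) k) ∣ z₀ := by
        refine dvd_of_map_eq_zero q hqs hq ψ ?_ ?_ ?_ ?_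
        · rw [hψ, map_mul, hιX, hιX, map_mul, hφ0, hφ1, huvt, Ideal.Quotient.eq_zero_iff_mem]
          exact Ideal.mem_map_of_mem _ htm
        · intro b hb
          obtain ⟨s, rfl⟩ := Ideal.Quotient.mk_surjective b
          rw [hmkB] at hb
          obtain ⟨y, hy, n, hn, rfl⟩ := Submodule.mem_sup.1 (hm hb)
          obtain ⟨y₁, y₂, rfl⟩ := Ideal.mem_span_pair.1 hy
          rw [map_add, Ideal.Quotient.eq_zero_iff_mem.2 hn, add_zero, map_add, map_mul, map_mul,
            hψ, hψ, hιX, hιX, hφ0, hφ1]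
          exact Ideal.mem_span_pair.2 ⟨_, _, rfl⟩
        · intro i
          rw [hψ, hιX, hmkB]; exact hφm i
        · rw [hψ, Ideal.Quotient.eq_zero_iff_mem]
          have h3 := hφn _ hz₁
          rw [map_sub, hz, zero_sub, neg_mem_iff] at h3
          exact h3
      obtain ⟨h, hh⟩ := hdvd
      have e3 : z = (MvPowerSeries.X 0 * MvPowerSeries.X 1 - MvPowerSeries.C t) * ι h +
          (MvPowerSeries.C t * ι h + (z - ι z₀)) := by
        rw [hh, map_mul, map_mul, hιX, hιX]; ring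
      have h4 : MvPowerSeries.C t * ι h + (z - ι z₀) ∈
          (maximalIdeal R).map (MvPowerSeries.C : R →+* MvPowerSeries (Fin 2) R) :=
        Ideal.add_mem _ (Ideal.mul_mem_right _ _ (Ideal.mem_map_of_mem _ htm)) hz₁
      have h5 : Ideal.Quotient.mk I z = Ideal.Quotient.mk I
          (MvPowerSeries.C t * ι h + (z - ι z₀)) := by
        rw [Ideal.Quotient.eq]
        have e4 : z - (MvPowerSeries.C t * ι h + (z - ι z₀)) =
          (MvPowerSeries.X 0 * MvPowerSeries.X 1 - MvPowerSeries.C t) * ι h := by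
          linear_combination e3
        rw [e4]
        exact Ideal.mul_mem_right _ _ (Ideal.mem_span_singleton_self _)
      rw [h5]
      have h6 := Ideal.mem_map_of_mem (Ideal.Quotient.mk I) h4
      rw [Ideal.map_map] at h6
      exact h6
  let E : (MvPowerSeries (Fin 2) R ⧸ I) ≃ₐ[R] S := AlgEquiv.ofBijective φb ⟨hinj, hφbs⟩
  have hE : ∀ z, E (Ideal.Quotient.mk I z) = φ z := fun z => rfl
  refine ⟨E.symm, ?_, ?_⟩
  · rw [AlgEquiv.symm_symm, hE, hφ0, su', AlgEquiv.symm_apply_eq, map_smul, hE, hφ0,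
      IsScalarTower.algebraMap_apply k R S, Algebra.smul_def]
  · rw [AlgEquiv.symm_symm, hE, hφ1, sv', AlgEquiv.symm_apply_eq, map_smul, hE, hφ1,
      IsScalarTower.algebraMap_apply k R S, Algebra.smul_def]

end Groth.Agent.S14084
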