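import Groth.Statements.S14091
-- import your own Groth.Agent.* helpers here
import Mathlib

set_option autoImplicit false
universe u
open ArSing

namespace Groth.Agent.S14091

open Polynomial in
/-- A finite local algebra over an algebraically closed field whose maximal ideal is principal is a
truncated polynomial ring. -/
theorem exists_equiv_of_isPrincipal (k B : Type u) [Field k] [IsAlgClosed k]
    [CommRing B] [IsLocalRing B] [Algebra k B] [Module.Finite k B]
    (hprin : (IsLocalRing.maximalIdeal B).IsPrincipal) :
    Nonempty (B ≃ₐ[k] (Polynomial k ⧸ Ideal.span {(X : Polynomial k) ^ Module.finrank k B})) := by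
  have : IsArtinianRing B := IsArtinianRing.of_finite k B
  obtain ⟨t, ht⟩ := hprin
  have ht' : IsLocalRing.maximalIdeal B = Ideal.span {t} := ht
  have htm : t ∈ IsLocalRing.maximalIdeal B := by
    rw [ht']; exact Ideal.subset_span rfl
  obtain ⟨N, hN⟩ : IsNilpotent t := by
    exact (Ring.KrullDimLE.isNilpotent_iff_mem_maximalIdeal).2 htm
  have hres : Function.Surjective (algebraMap k (IsLocalRing.ResidueField B)) :=
    (IsAlgClosed.algebraMap_bijective_of_isIntegral (k := k)
      (K := IsLocalRing.ResidueField B)).2
  have hdec : ∀ b : B, ∃ (a : k) (d : B), b = algebraMap k B a + t * d := by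
    intro b
    obtain ⟨a, ha⟩ := hres (IsLocalRing.residue B b)
    have : b - algebraMap k B a ∈ IsLocalRing.maximalIdeal B := by
      rw [← IsLocalRing.residue_eq_zero_iff, map_sub, sub_eq_zero, ← ha]
      rw [IsScalarTower.algebraMap_apply k B (IsLocalRing.ResidueField B)]
      rfl
    rw [ht', Ideal.mem_span_singleton'] at this
    obtain ⟨d, hd⟩ := this
    exact ⟨a, d, by rw [mul_comm, hd]; ring⟩
  have happ : ∀ (b : B) (n : ℕ), ∃ (p : k[X]) (d : B), b = aeval t p + t ^ n * d := by
    intro b n
    induction n with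
    | zero => exact ⟨0, b, by simp⟩
    | succ n ih =>
      obtain ⟨p, d, hpd⟩ := ih
      obtain ⟨a, e, hae⟩ := hdec d
      refine ⟨p + C a * X ^ n, e, ?_⟩
      rw [hpd, hae]
      simp only [map_add, map_mul, aeval_C, aeval_X, map_pow]
      ring
  have hsurj : Function.Surjective (aeval t : k[X] →ₐ[k] B) := by
    intro b
    obtain ⟨p, d, hpd⟩ := happ b N
    exact ⟨p, by rw [hpd, hN]; simp⟩
  obtain ⟨g, hg⟩ := (inferInstance : (RingHom.ker (aeval t : k[X] →ₐ[k] B)).IsPrincipal)
  have hg' : RingHom.ker (aeval t : k[X] →ₐ[k] B) = Ideal.span {g} := hg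
  have hXN : (X : k[X]) ^ N ∈ Ideal.span {g} := by
    rw [← hg', RingHom.mem_ker]; simpa using hN
  rw [Ideal.mem_span_singleton, dvd_prime_pow Polynomial.prime_X] at hXN
  obtain ⟨n, hn, hassoc⟩ := hXN
  have hker : RingHom.ker (aeval t : k[X] →ₐ[k] B) = Ideal.span {(X : k[X]) ^ n} := by
    rw [hg', Ideal.span_singleton_eq_span_singleton]; exact hassoc
  let e : B ≃ₐ[k] (k[X] ⧸ Ideal.span {(X : k[X]) ^ n}) :=
    ((Ideal.quotientEquivAlgOfEq k hker.symm).trans
      (Ideal.quotientKerAlgEquivOfSurjective hsurj)).symm
  have hfr : Module.finrank k B = n := by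
    rw [e.toLinearEquiv.finrank_eq, finrank_quotient_span_eq_natDegree]
    simp
  rw [hfr]
  exact ⟨e⟩

open Polynomial in
/-- Over an algebraically closed field k, a finite local k-algebra B whose cotangent space m/m^2 has
dimension at most one over the residue field is isomorphic, as a k-algebra, to k[t]/(t^n) with n =
dim_k B (curvilinear pointed algebras of degree n have a single isomorphism class). -/
theorem result (k B : Type u) [Field k] [IsAlgClosed k]
    [CommRing B] [IsLocalRing B] [Algebra k B] [Module.Finite k B]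
    (hcurv : Module.finrank (IsLocalRing.ResidueField B) (IsLocalRing.CotangentSpace B) ≤ 1) :
    Nonempty (B ≃ₐ[k] (Polynomial k ⧸ Ideal.span {(X : Polynomial k) ^ Module.finrank k B})) := by
  have : IsArtinianRing B := IsArtinianRing.of_finite k B
  exact exists_equiv_of_isPrincipal k B (IsLocalRing.finrank_cotangentSpace_le_one_iff.1 hcurv)

end Groth.Agent.S14091
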