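import Groth.Statements.S14087
-- import your own Groth.Agent.* helpers here
import Groth.Agent.S14091
import Mathlib

set_option autoImplicit false
universe u
open ArSing

namespace Groth.Agent.S14087

section
open Polynomial

/-- In `k[t]/(t^n)` every element is a power of `t` times a unit. -/
lemma exists_eq_pow_mul_unit (k : Type u) [Field k] (n : ℕ)
    (b : k[X] ⧸ Ideal.span {(X : k[X]) ^ n}) :
    ∃ (e : ℕ) (u : (k[X] ⧸ Ideal.span {(X : k[X]) ^ n})ˣ),
      b = (Ideal.Quotient.mk (Ideal.span {(X : k[X]) ^ n}) X) ^ e * u := by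
  obtain ⟨p, rfl⟩ := Ideal.Quotient.mk_surjective b
  have hXn : (Ideal.Quotient.mk (Ideal.span {(X : k[X]) ^ n}) X) ^ n = 0 := by
    rw [← map_pow]
    exact Ideal.Quotient.eq_zero_iff_mem.2 (Ideal.subset_span rfl)
  by_cases hp : p = 0
  · exact ⟨n, 1, by simp [hp, hXn]⟩
  · have hfin : FiniteMultiplicity (X : k[X]) p :=
      FiniteMultiplicity.of_prime_left Polynomial.prime_X hp
    obtain ⟨q, hq, hXq⟩ := hfin.exists_eq_pow_mul_and_not_dvd
    have hcop : IsCoprime q ((X : k[X]) ^ n) := by
      apply IsCoprime.pow_right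
      exact ((Polynomial.prime_X (R := k)).irreducible.coprime_iff_not_dvd.2 hXq).symm
    obtain ⟨a, b, hab⟩ := hcop
    have hu : Ideal.Quotient.mk (Ideal.span {(X : k[X]) ^ n}) q *
        Ideal.Quotient.mk (Ideal.span {(X : k[X]) ^ n}) a = 1 := by
      rw [← map_mul, ← map_one (Ideal.Quotient.mk (Ideal.span {(X : k[X]) ^ n})), ← hab, map_add,
        map_mul _ b, map_pow, hXn]
      simp [mul_comm]
    refine ⟨multiplicity X p, Units.mkOfMulEqOne _ _ hu, ?_⟩
    rw [← map_pow, Units.val_mkOfMulEqOne, ← map_mul, ← hq]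

lemma isLocalRing_trunc (k : Type u) [Field k] (n : ℕ) (hn : 0 < n) :
    IsLocalRing (k[X] ⧸ Ideal.span {(X : k[X]) ^ n}) := by
  have hXn : (Ideal.Quotient.mk (Ideal.span {(X : k[X]) ^ n}) X) ^ n = 0 := by
    rw [← map_pow]
    exact Ideal.Quotient.eq_zero_iff_mem.2 (Ideal.subset_span rfl)
  have hnt : Nontrivial (k[X] ⧸ Ideal.span {(X : k[X]) ^ n}) := by
    rw [Ideal.Quotient.nontrivial_iff]
    intro h
    rw [Ideal.span_singleton_eq_top, isUnit_pow_iff hn.ne'] at h
    exact Polynomial.not_isUnit_X h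
  have hnu : ∀ b : k[X] ⧸ Ideal.span {(X : k[X]) ^ n}, b ∈ nonunits _ ↔
      b ∈ Ideal.span {Ideal.Quotient.mk (Ideal.span {(X : k[X]) ^ n}) X} := by
    intro b
    obtain ⟨e, u, hb⟩ := exists_eq_pow_mul_unit k n b
    constructor
    · intro h
      rcases Nat.eq_zero_or_pos e with he | he
      · exfalso; apply h; rw [hb, he]; simp
      · rw [hb, Ideal.mem_span_singleton]
        exact Dvd.dvd.mul_right (dvd_pow_self _ he.ne') _
    · intro h hunit
      rw [Ideal.mem_span_singleton] at h
      have : IsUnit (Ideal.Quotient.mk (Ideal.span {(X : k[X]) ^ n}) X) :=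
        isUnit_of_dvd_unit h hunit
      have h0 := this.pow n
      rw [hXn] at h0
      exact not_isUnit_zero h0
  refine IsLocalRing.of_nonunits_add ?_
  intro a b ha hb
  rw [hnu] at ha hb ⊢
  exact Ideal.add_mem _ ha hb

end

open Polynomial in
/-- Over an algebraically closed field k, if B = k[t]/(t^n) with n ≥ 1 is flat over a k-subalgebra A ⊆ B
(a finite flat extension of pointed finite algebras with curvilinear top), then A is curvilinear
too: A is isomorphic as a k-algebra to k[t]/(t^m) for some m. -/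
theorem result (k : Type u) [Field k] [IsAlgClosed k]
    (n : ℕ) (hn : 0 < n)
    (A : Subalgebra k (Polynomial k ⧸ Ideal.span {(X : Polynomial k) ^ n}))
    [Module.Flat A (Polynomial k ⧸ Ideal.span {(X : Polynomial k) ^ n})] :
    ∃ m : ℕ, Nonempty (A ≃ₐ[k] (Polynomial k ⧸ Ideal.span {(X : Polynomial k) ^ m})) := by
  set B := (Polynomial k ⧸ Ideal.span {(X : Polynomial k) ^ n}) with hB
  have : IsLocalRing B := isLocalRing_trunc k n hn
  have hfinB : Module.Finite k B :=
    (Polynomial.monic_X_pow n).finite_quotient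
  have : Algebra.IsIntegral A B := Algebra.IsIntegral.tower_top (R := k)
  have : IsLocalHom (algebraMap A B) :=
    RingHom.IsIntegral.isLocalHom (algebraMap_isIntegral_iff.2 this) Subtype.val_injective
  have : IsLocalRing A := (algebraMap A B).domain_isLocalRing
  have hfl : @Module.Flat A B _ _ Algebra.toModule := ‹Module.Flat A _›
  have : @Module.FaithfullyFlat A B _ _ Algebra.toModule :=
    Module.FaithfullyFlat.of_flat_of_isLocalHom (A := A) (B := B)
  have : Module.Finite k A := Module.Finite.of_injective A.val.toLinearMap Subtype.val_injective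
  have hprin : (IsLocalRing.maximalIdeal A).IsPrincipal := by
    classical
    have hex : ∃ e : ℕ, ∃ a ∈ IsLocalRing.maximalIdeal A, ∃ u : Bˣ,
        (a : B) = (Ideal.Quotient.mk (Ideal.span {(X : k[X]) ^ n}) X) ^ e * u := by
      obtain ⟨e, u, h⟩ := exists_eq_pow_mul_unit k n (((0 : A) : B))
      exact ⟨e, 0, zero_mem _, u, h⟩
    obtain ⟨a, ha, u, hau⟩ := Nat.find_spec hex
    have hmin := fun m => Nat.find_min' hex (m := m)
    refine ⟨a, ?_⟩
    change _ = Ideal.span {a}
    apply le_antisymm
    · have hle : Ideal.map (algebraMap A B) (IsLocalRing.maximalIdeal A) ≤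
          Ideal.map (algebraMap A B) (Ideal.span {a}) := by
        rw [Ideal.map_le_iff_le_comap]
        intro b hb
        rw [Ideal.mem_comap, Ideal.map_span, Set.image_singleton, Ideal.mem_span_singleton]
        obtain ⟨e, v, hbv⟩ := exists_eq_pow_mul_unit k n (b : B)
        have hle := hmin e ⟨b, hb, v, hbv⟩
        change (a : B) ∣ (b : B)
        rw [hau, hbv]
        rw [Units.mul_right_dvd, Units.dvd_mul_right]
        exact pow_dvd_pow _ hle
      have := Ideal.comap_mono (f := algebraMap A B) hle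
      rwa [Ideal.comap_map_eq_self_of_faithfullyFlat, Ideal.comap_map_eq_self_of_faithfullyFlat]
        at this
    · rw [Ideal.span_singleton_le_iff_mem]; exact ha
  exact ⟨_, Groth.Agent.S14091.exists_equiv_of_isPrincipal k A hprin⟩

end Groth.Agent.S14087
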