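import Groth.Statements.S14088
-- import your own Groth.Agent.* helpers here
import Mathlib

set_option autoImplicit false
universe u
open ArSing

namespace Groth.Agent.S14088

lemma key (A : Type u) [CommRing A] (h τ : A) (m n : ℕ) :
    (∏ i ∈ Finset.range n, (h + (i : A) * τ)) * ∏ i ∈ Finset.range m, (h + (i : A) * τ) =
      ∑ s ∈ Finset.range (n + 1), (-1 : A) ^ s * (Nat.factorial s : A) * (Nat.choose n s : A) *
        (Nat.choose m s : A) * τ ^ s * ∏ i ∈ Finset.range (m + n - s), (h + (i : A) * τ) := by
  induction n with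
  | zero => simp
  | succ n ih =>
    rw [Finset.prod_range_succ, mul_right_comm, ih, Finset.sum_mul]
    have step : ∀ s ∈ Finset.range (n + 1),
        (-1 : A) ^ s * (Nat.factorial s : A) * (Nat.choose n s : A) *
        (Nat.choose m s : A) * τ ^ s * (∏ i ∈ Finset.range (m + n - s), (h + (i : A) * τ)) *
          (h + (n : A) * τ) =
        (-1 : A) ^ s * (Nat.factorial s : A) * (Nat.choose n s : A) *
          (Nat.choose m s : A) * τ ^ s * (∏ i ∈ Finset.range (m + (n + 1) - s), (h + (i : A) * τ))
        + (-1 : A) ^ (s + 1) * (Nat.factorial (s + 1) : A) * (Nat.choose n s : A) *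
          (Nat.choose m (s + 1) : A) * τ ^ (s + 1) *
          (∏ i ∈ Finset.range (m + (n + 1) - (s + 1)), (h + (i : A) * τ)) := by
      intro s hs
      have hs' : s ≤ n := by simpa [Nat.lt_succ_iff] using hs
      have e1 : m + (n + 1) - s = (m + n - s) + 1 := by omega
      have e2 : m + (n + 1) - (s + 1) = m + n - s := by omega
      rw [e1, e2, Finset.prod_range_succ]
      have hc : ((m + n - s : ℕ) : A) = (m : A) + n - s := by
        rw [Nat.cast_sub (by omega)]; push_cast; ring
      have hch : (Nat.choose m (s + 1) : A) * ((s : A) + 1) = (Nat.choose m s : A) * ((m : A) - s) := by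
        by_cases hms : s ≤ m
        · have := Nat.choose_succ_right_eq m s
          have h2 := congrArg (Nat.cast : ℕ → A) this
          push_cast [Nat.cast_sub hms] at h2
          exact h2
        · have h1 : Nat.choose m s = 0 := Nat.choose_eq_zero_of_lt (by omega)
          have h2 : Nat.choose m (s + 1) = 0 := Nat.choose_eq_zero_of_lt (by omega)
          simp [h1, h2]
      rw [hc, Nat.factorial_succ]
      push_cast
      set P := ∏ i ∈ Finset.range (m + n - s), (h + (i : A) * τ)
      have : (-1 : A) ^ (s + 1) * (((s : A) + 1) * (s.factorial : A)) * (n.choose s : A) *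
          (m.choose (s + 1) : A) * τ ^ (s + 1) * P =
          (-1 : A) ^ (s + 1) * (s.factorial : A) * (n.choose s : A) *
          ((m.choose (s + 1) : A) * ((s : A) + 1)) * τ ^ (s + 1) * P := by ring
      rw [this, hch]
      ring
    rw [Finset.sum_congr rfl step, Finset.sum_add_distrib]
    -- RHS
    rw [Finset.sum_range_succ' (fun s => (-1 : A) ^ s * (Nat.factorial s : A) *
        (Nat.choose (n + 1) s : A) * (Nat.choose m s : A) * τ ^ s *
        ∏ i ∈ Finset.range (m + (n + 1) - s), (h + (i : A) * τ)) (n + 1)]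
    have hR : ∀ s ∈ Finset.range (n + 1), (-1 : A) ^ (s + 1) * (Nat.factorial (s + 1) : A) *
        (Nat.choose (n + 1) (s + 1) : A) * (Nat.choose m (s + 1) : A) * τ ^ (s + 1) *
        ∏ i ∈ Finset.range (m + (n + 1) - (s + 1)), (h + (i : A) * τ) =
        (-1 : A) ^ (s + 1) * (Nat.factorial (s + 1) : A) *
        (Nat.choose n s : A) * (Nat.choose m (s + 1) : A) * τ ^ (s + 1) *
        ∏ i ∈ Finset.range (m + (n + 1) - (s + 1)), (h + (i : A) * τ) +
        (-1 : A) ^ (s + 1) * (Nat.factorial (s + 1) : A) *
        (Nat.choose n (s + 1) : A) * (Nat.choose m (s + 1) : A) * τ ^ (s + 1) *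
        ∏ i ∈ Finset.range (m + (n + 1) - (s + 1)), (h + (i : A) * τ) := by
      intro s _
      rw [Nat.choose_succ_succ]
      push_cast
      ring
    rw [Finset.sum_congr rfl hR, Finset.sum_add_distrib]
    have hlast : ∑ s ∈ Finset.range (n + 1), (-1 : A) ^ (s + 1) * (Nat.factorial (s + 1) : A) *
        (Nat.choose n (s + 1) : A) * (Nat.choose m (s + 1) : A) * τ ^ (s + 1) *
        ∏ i ∈ Finset.range (m + (n + 1) - (s + 1)), (h + (i : A) * τ) +
        (-1 : A) ^ 0 * (Nat.factorial 0 : A) *
        (Nat.choose (n + 1) 0 : A) * (Nat.choose m 0 : A) * τ ^ 0 *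
        ∏ i ∈ Finset.range (m + (n + 1) - 0), (h + (i : A) * τ) =
        ∑ s ∈ Finset.range (n + 1), (-1 : A) ^ s * (Nat.factorial s : A) * (Nat.choose n s : A) *
          (Nat.choose m s : A) * τ ^ s * (∏ i ∈ Finset.range (m + (n + 1) - s), (h + (i : A) * τ)) := by
      rw [Finset.sum_range_succ, Finset.sum_range_succ' (fun s => (-1 : A) ^ s *
        (Nat.factorial s : A) * (Nat.choose n s : A) *
          (Nat.choose m s : A) * τ ^ s * (∏ i ∈ Finset.range (m + (n + 1) - s), (h + (i : A) * τ)))]
      simp
    rw [← hlast]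
    ring

/-- The identity behind the torus-equivariant classes h_i = h_0 + i τ of the coordinate hyperplanes of a
projective space of binary forms, stated in an arbitrary commutative ring: for n ≤ m, (h_0 ⋯
h_(n-1))^2 · h_n ⋯ h_(m-1) equals the sum over s = 0, …, n of (-1)^s s! (n choose s) (m choose s)
τ^s h_0 ⋯ h_(m+n-s-1), where h_i = h + i τ. (The published statement is in the equivariant Chow ring
of that projective space; only the relations h_i = h_j + (j - i) τ are used, so it holds in any
commutative ring.) -/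
theorem result (A : Type u) [CommRing A] (h τ : A) (n m : ℕ) (hnm : n ≤ m) :
    (∏ i ∈ Finset.range n, (h + (i : A) * τ) ^ 2) * ∏ i ∈ Finset.Ico n m, (h + (i : A) * τ) =
      ∑ s ∈ Finset.range (n + 1), (-1 : A) ^ s * (Nat.factorial s : A) * (Nat.choose n s : A) *
        (Nat.choose m s : A) * τ ^ s * ∏ i ∈ Finset.range (m + n - s), (h + (i : A) * τ) := by
  rw [← key A h τ m n, Finset.prod_pow, ← Finset.prod_range_mul_prod_Ico _ hnm]
  ring

end Groth.Agent.S14088
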