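import Groth.Statements.S14089
import Groth.Agent.BlowUp.K483.FlatPow
import Groth.Agent.S2896
import Groth.Agent.Flat2C.BlowProper

set_option autoImplicit false
universe u
open CategoryTheory AlgebraicGeometry
open BlowUp

namespace Groth.Agent.S14089

open Groth.Agent.Ega4dB Groth.Agent.Ega4dB.BlowUpChart Groth.Agent.Divis.BlowChart

theorem flat_blowUp {X X' S : Scheme.{u}} (f : X ⟶ S) [Flat f] (𝓘 : X.IdealSheafData)
    (hfl : ∀ n : ℕ, Flat ((𝓘 ^ (n + 1)).subschemeι ≫ f))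
    (b : X' ⟶ X) (hb : BlowUp.IsBlowUp b 𝓘) : Flat (b ≫ f) := by
  apply flat_of_forall_exists
  intro e
  obtain ⟨W, hW, hsW, -⟩ := exists_isAffineOpen_mem_and_subset (U := (⊤ : S.Opens))
    (x := f (b e)) trivial
  obtain ⟨U, hU, hxU, hUW⟩ := exists_isAffineOpen_mem_and_subset (U := f ⁻¹ᵁ W) (x := b e) hsW
  obtain ⟨a, ha, j, hj, hx', hjb⟩ := exists_chart hb hU (𝓘.ideal ⟨U, hU⟩ : Set _) (Ideal.span_eq _) e hxU
  refine ⟨_, j, hj, hx', ?_⟩
  have hcomp : j ≫ b ≫ f = Spec.map (CommRingCat.ofHom ((algebraMap Γ(X, U)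
      (BlowUp.affineAlgebra Γ(X, U) (𝓘.ideal ⟨U, hU⟩) a)).comp (f.appLE W U hUW).hom)) ≫ hW.fromSpec := by
    rw [← Category.assoc, hjb, Category.assoc, ← IsAffineOpen.SpecMap_appLE_fromSpec f hW hU hUW,
      ← Category.assoc, CommRingCat.ofHom_comp, Spec.map_comp]
    rfl
  rw [hcomp]
  have h1 := K483.FlatPow.ringHom_flat_of_flat_pow (f.appLE W U hUW).hom
    (AffBlowFlat.affBlow_affineAlgebra (𝓘.ideal ⟨U, hU⟩) a ha) (Scheme.Hom.flat_appLE f hW hU hUW)
    (fun n => Groth.Agent.S2896.flat_thickening f (𝓘 ^ (n + 1)) hU hW hUW)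
  have h2 : Flat (Spec.map (CommRingCat.ofHom ((algebraMap Γ(X, U)
      (BlowUp.affineAlgebra Γ(X, U) (𝓘.ideal ⟨U, hU⟩) a)).comp (f.appLE W U hUW).hom))) := by
    rw [Flat.SpecMap_iff]
    exact h1
  infer_instance

theorem isBlowUp_baseChange {X X' S T XT XT' : Scheme.{u}} (f : X ⟶ S)
    (𝓘 : X.IdealSheafData) (b : X' ⟶ X) (hb : BlowUp.IsBlowUp b 𝓘)
    (hfl : Flat ((BlowUp.exceptional b 𝓘).subschemeι ≫ b ≫ f))
    (g : T ⟶ S) (pX : XT ⟶ X) (fT : XT ⟶ T) (hX : IsPullback pX fT f g)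
    (pX' : XT' ⟶ X') (bT : XT' ⟶ XT) (hX' : IsPullback pX' bT b pX) :
    BlowUp.IsBlowUp bT (𝓘.comap pX) := by
  have hout : IsPullback pX' (bT ≫ fT) (b ≫ f) g := hX'.paste_vert hX
  have e1 : (𝓘.comap b).comap pX' = (𝓘.comap pX).comap bT := by
    rw [← Scheme.IdealSheafData.comap_comp, hX'.w, Scheme.IdealSheafData.comap_comp]
  refine ⟨?_, fun Y h hY => ?_⟩
  · rw [← e1]
    have h1 := Groth.Agent.S1662.result (b ≫ f) (𝓘.comap b) hb.1 g
    have h2 : pX' = hout.isoPullback.hom ≫ Limits.pullback.fst (b ≫ f) g := by simp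
    rw [h2, Scheme.IdealSheafData.comap_comp]
    exact Groth.Agent.Divis.EffCartier.isEff_comap_flat h1 _
  · rw [← Scheme.IdealSheafData.comap_comp] at hY
    obtain ⟨l, hl, hlu⟩ := hb.2 Y (h ≫ pX) hY
    dsimp only at hl hlu
    refine ⟨hX'.lift l h hl, hX'.lift_snd _ _ _, fun m hm => ?_⟩
    apply hX'.hom_ext
    · rw [hX'.lift_fst]
      apply hlu
      rw [Category.assoc, hX'.w, ← Category.assoc, hm]
    · rw [hX'.lift_snd]
      exact hm

/-- Let f : X → S be flat, proper and of finite presentation, 𝓘 a quasi-coherent ideal of finite type on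
X with V(𝓘^m) flat over S for all m ≥ 1, and b : X' → X a blowing up of X in 𝓘. Then X' is flat and
proper over S, and blowing up commutes with every base change T → S: if X_T = X ×_S T and X'_T = X'
×_X X_T, the projection X'_T → X_T is a blowing up of X_T in the inverse image of 𝓘. (The published
statement puts no finiteness condition on the ideal; for S = X the spectrum of an infinite product
of fields and 𝓘 the ideal of finitely supported sequences every V(𝓘^m) is flat, yet the blow-up is a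
non-quasi-compact open subscheme, not proper — so the ideal is taken of finite type here, and finite
presentation of X' over S is not asserted.) -/
theorem result {X X' S T XT XT' : Scheme.{u}}
    (f : X ⟶ S) [Flat f] [IsProper f] [LocallyOfFinitePresentation f]
    (𝓘 : X.IdealSheafData) (hft : BlowUp.IsFiniteTypeIdeal 𝓘)
    (hfl : ∀ m : ℕ, 1 ≤ m → Flat ((𝓘 ^ m).subschemeι ≫ f))
    (b : X' ⟶ X) (hb : BlowUp.IsBlowUp b 𝓘)
    (g : T ⟶ S) (pX : XT ⟶ X) (fT : XT ⟶ T) (hX : IsPullback pX fT f g)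
    (pX' : XT' ⟶ X') (bT : XT' ⟶ XT) (hX' : IsPullback pX' bT b pX) :
    Flat (b ≫ f) ∧ IsProper (b ≫ f) ∧ BlowUp.IsBlowUp bT (𝓘.comap pX) := by
  have hfl' : ∀ n : ℕ, Flat ((𝓘 ^ (n + 1)).subschemeι ≫ f) := fun n => hfl (n + 1) (Nat.succ_pos n)
  have hp : IsProper b := Groth.Agent.Flat2C.BlowProper.isProper_of_isBlowUp hb hft
  refine ⟨flat_blowUp f 𝓘 hfl' b hb, inferInstance, ?_⟩
  exact isBlowUp_baseChange f 𝓘 b hb (Groth.Agent.S2896.part1 f 𝓘 hfl' b hb) g pX fT hX pX' bT hX'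

end Groth.Agent.S14089
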