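import Groth.Statements.S14092
import Groth.Agent.Sga7.H591.EnoughPts
import Groth.Agent.CurvesC.TailComp
import Groth.Agent.S1606
import Groth.Agent.S2501
import Groth.Agent.S1536
import Groth.Agent.Sga3C.GeomRedPerf

set_option autoImplicit false
universe u
open CategoryTheory CategoryTheory.Limits AlgebraicGeometry TopologicalSpace
open Curv2

namespace Groth.Agent.S14092

open CategoryTheory CategoryTheory.Limits AlgebraicGeometry TopologicalSpace
open Groth.Agent.Sga7.H591.EnoughPts Groth.Agent.CurvesC.TailGeom

/-- Non-negativity of the degree on every closed subscheme. -/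
theorem deg_nonneg (k : Type u) [Field k]
    (Z : Scheme.{u}) [Z.Over (Spec (CommRingCat.of k))] [IsProper (Z ↘ (Spec (CommRingCat.of k)))]
    (hdim : topologicalKrullDim Z = 1) (L : Z.Modules) (hL : PicF.IsInvertible L)
    (hdeg : ∀ C : Z.IdealSheafData, IsIntegral C.subscheme → topologicalKrullDim (C.support : Set Z) = 1 →
      0 ≤ @Curv2.deg k _ C.subscheme ⟨C.subschemeι ≫ (Z ↘ (Spec (CommRingCat.of k)))⟩
        ((Scheme.Modules.pullback C.subschemeι).obj L) 1) (J : Z.IdealSheafData) :
    0 ≤ @Curv2.deg k _ J.subscheme ⟨J.subschemeι ≫ (Z ↘ (Spec (CommRingCat.of k)))⟩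
        ((Scheme.Modules.pullback J.subschemeι).obj L) 1 := by
  by_contra hneg
  push Not at hneg
  obtain ⟨C, hC, -, hC1, hC2⟩ := Groth.Agent.CurvesC.TailComp.exists_component_neg k Z hdim.le J L hL hneg
  have hI : IsIntegral (compIdeal C hC).subscheme := by
    have h1 := irreducible_comp C hC
    have h2 : IsReduced (compIdeal C hC).subscheme := isReduced_comp C hC
    exact isIntegral_of_irreducibleSpace_of_isReduced _
  have hs : topologicalKrullDim ((compIdeal C hC).support : Set Z) = 1 := by
    rw [coe_support_compIdeal]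
    exact hC1
  exact absurd (hdeg _ hI hs) (not_le.mpr hC2)

/-- The structure sheaf of a closed connected reduced one-dimensional subscheme of a genus zero curve has Euler
characteristic one. -/
theorem numbers (k : Type u) [Field k] [IsAlgClosed k]
    (Z : Scheme.{u}) [Z.Over (Spec (CommRingCat.of k))] [IsProper (Z ↘ (Spec (CommRingCat.of k)))]
    (hdim : topologicalKrullDim Z = 1) (hg : Curv2.genus k Z = 0) (J : Z.IdealSheafData)
    [IsReduced J.subscheme] [ConnectedSpace J.subscheme] (hJ1 : topologicalKrullDim J.subscheme = 1) :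
    @Curv2.genus k _ J.subscheme ⟨J.subschemeι ≫ (Z ↘ (Spec (CommRingCat.of k)))⟩ = 0 ∧
    @Curv2.euler k _ J.subscheme ⟨J.subschemeι ≫ (Z ↘ (Spec (CommRingCat.of k)))⟩
      (Coh.structureModule J.subscheme) = 1 := by
  let _ : J.subscheme.Over (Spec (CommRingCat.of k)) := ⟨J.subschemeι ≫ (Z ↘ (Spec (CommRingCat.of k)))⟩
  have hP : IsProper (J.subscheme ↘ (Spec (CommRingCat.of k))) :=
    inferInstanceAs (IsProper (J.subschemeι ≫ (Z ↘ (Spec (CommRingCat.of k)))))
  have hNJ := CurvesC.CurveCoh.noetherianSpace k J.subscheme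
  have h3 := finrank_H1_le k Z hdim.le J
  have h4 : Module.finrank k (Coh.HH J.subscheme (Coh.structureModule J.subscheme) 1) = 0 := by
    have h5 : Module.finrank k (Coh.HH Z (Coh.structureModule Z) 1) = 0 := hg
    rw [h5] at h3
    exact Nat.le_zero.mp h3
  have h0 : Module.finrank k (Coh.HH J.subscheme (Coh.structureModule J.subscheme) 0) = 1 := by
    have h1 := Groth.Agent.Sga3C.GeomRedPerf.geometricallyReduced_of_isReduced
      (J.subscheme ↘ Spec (CommRingCat.of k))
    have h2 := Groth.Agent.S2501.result (J.subscheme ↘ Spec (CommRingCat.of k))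
    exact Groth.Agent.S1536.result k J.subscheme
  have h5 := CurvesC.CurveCoh.euler_eq k J.subscheme hJ1 (Coh.structureModule J.subscheme)
  refine ⟨h4, ?_⟩
  rw [h5, h0, h4]
  rfl

/-- Fix an algebraically closed field k and a genus-0 nodal curve Z over k (connected, reduced, proper,
one-dimensional, at-worst-nodal singularities, h^1(O_Z) = 0) and L an invertible O_Z-module whose
pullback to every irreducible component (integral closed subscheme of dimension one) has
non-negative degree. Then L is generated by global sections and H^1(Z, L) = 0. (The published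
statement also includes converse and weaker implications — a section vanishing identically on no
component forces non-negative degrees, and global generation is equivalent to non-negative degrees;
only the two implications from non-negative degrees are asserted here.) -/
theorem result (k : Type u) [Field k] [IsAlgClosed k]
    (Z : Scheme.{u}) [Z.Over (Spec (CommRingCat.of k))] [IsProper (Z ↘ (Spec (CommRingCat.of k)))] [IsReduced Z]
    [ConnectedSpace Z] (hdim : topologicalKrullDim Z = 1) (hnod : Curv2.AtWorstNodal k Z)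
    (hg : Curv2.genus k Z = 0) (L : Z.Modules) (hL : PicF.IsInvertible L)
    (hdeg : ∀ C : Z.IdealSheafData, IsIntegral C.subscheme → topologicalKrullDim (C.support : Set Z) = 1 →
      0 ≤ @Curv2.deg k _ C.subscheme ⟨C.subschemeι ≫ (Z ↘ Spec (CommRingCat.of k))⟩
        ((Scheme.Modules.pullback C.subschemeι).obj L) 1) :
    Curv2.IsGloballyGenerated L ∧ Subsingleton (Coh.HH Z L 1) := by
  have hnn := deg_nonneg k Z hdim L hL hdeg
  refine ⟨Groth.Agent.S1606.result k Z hdim L hL fun J hJr hJc hJ1 => ?_, ?_⟩
  · rw [(numbers k Z hdim hg J hJ1).1]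
    simpa using hnn J
  · by_contra hcon
    rw [not_subsingleton_iff_nontrivial] at hcon
    have e1 : Nonempty (ClSub.idealMod (⊤ : Z.IdealSheafData) ≅ Coh.structureModule Z) := by
      have := Groth.Agent.Sga7.H591.Dcl.dcl_top (Y := Z)
      rw [Groth.Agent.Sga7.H591.Dcl.dcl, Groth.Agent.Grpsch.PicGrp.mk_eq_one_iff] at this
      exact this
    obtain ⟨e1⟩ := e1
    have e2 : CohB1.tensorMod (ClSub.idealMod (⊤ : Z.IdealSheafData)) L ≅ L :=
      Ega2.Tens.mapTIso e1 (Iso.refl _) ≪≫ Ega2.Tens.lunit L
    have hcon' := CurvesB.SubAsm464.nontrivial_of_iso e2.symm 1 hcon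
    obtain ⟨J, hJr, hJc, hJ1, hJd⟩ := Groth.Agent.S1605.result k Z hdim L hL ⊤ (by
      rw [Scheme.IdealSheafData.support_top]
      have : IsEmpty ((⊥ : Closeds Z) : Set Z) := ⟨fun z => z.2⟩
      exact topologicalKrullDim_zero_of_discreteTopology _) hcon'
    have h4 : Module.finrank k (Coh.HH Z (ClSub.quotMod ((⊤ : Z.IdealSheafData) ⊔ J)) 0) = 0 := by
      rw [top_sup_eq]
      exact finrank_quotMod_top k Z
    have h5 := hnn J
    have h6 := (numbers k Z hdim hg J hJ1).2
    rw [h4, h6] at hJd
    have h7 := h5.trans hJd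
    norm_num at h7

end Groth.Agent.S14092
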