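import Groth.Statements.S14093
-- import your own Groth.Agent.* helpers here
import Groth.Agent.ArSing.K813.Len

set_option autoImplicit false
universe u
open ArSing

namespace Groth.Agent.S14093

open IsLocalRing K813.NF K813.Basic K813.Ring K813.Len

/-- `ring k r` is free of rank two over `k[[x]]`. -/
theorem flat_xMap (k : Type u) [Field k] (r : ℕ) : (xMap k r).toRingHom.Flat := by
  let : Algebra (PowerSeries k) (ring k r) := (xMap k r).toRingHom.toAlgebra
  change Module.Flat (PowerSeries k) (ring k r)
  have hsmul : ∀ (p : PowerSeries k) (a : ring k r), p • a = xMap k r p * a := fun p a => rfl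
  let f : (PowerSeries k × PowerSeries k) →ₗ[PowerSeries k] ring k r :=
    { toFun := fun pq => xMap k r pq.1 + xMap k r pq.2 * y k r
      map_add' := fun a b => by simp only [Prod.fst_add, Prod.snd_add, map_add]; ring
      map_smul' := fun c a => by
        simp only [Prod.smul_fst, Prod.smul_snd, smul_eq_mul, map_mul, RingHom.id_apply, hsmul]
        ring }
  have hf : Function.Bijective f := by
    constructor
    · rw [injective_iff_map_eq_zero]
      intro a ha
      obtain ⟨h1, h2⟩ := xy_unique (k := k) (r := r) (p := a.1) (q := a.2) ha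
      exact Prod.ext h1 h2
    · intro a
      obtain ⟨p, q, h⟩ := exists_xy a
      exact ⟨(p, q), h.symm⟩
  exact Module.Flat.of_linearEquiv (LinearEquiv.ofBijective f hf).symm

/-- For an algebraically closed field k of characteristic prime to 2 and to r+1 and the involution σ of
A_r = k[[x,y]]/(y^2 - x^(r+1)) with σ(x) = x, σ(y) = -y: the invariant subalgebra is k[[x]] (the
image of t ↦ x from k[[t]]), the inclusion k[[x]] → A_r is faithfully flat (flat, and the maximal
ideal of k[[t]] does not generate the unit ideal of A_r), and the fixed locus (the closed subscheme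
cut out by all σ(a) - a) is a Cartier divisor of length r + 1, i.e. its ideal is generated by one
nonzerodivisor and the quotient has length r + 1. -/
theorem result (k : Type u) [Field k] [IsAlgClosed k] (r : ℕ)
    (h2 : (2 : k) ≠ 0) (hr : ((r + 1 : ℕ) : k) ≠ 0)
    (σ : ArSing.ring k r ≃ₐ[k] ArSing.ring k r) (hx : σ (ArSing.x k r) = ArSing.x k r)
    (hy : σ (ArSing.y k r) = -ArSing.y k r) :
    (∀ a : ArSing.ring k r, σ a = a ↔ a ∈ (ArSing.xMap k r).range) ∧
    ((ArSing.xMap k r).toRingHom.Flat ∧
      Ideal.map (ArSing.xMap k r) (IsLocalRing.maximalIdeal (PowerSeries k)) ≠ ⊤) ∧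
    (∃ g : ArSing.ring k r, g ∈ nonZeroDivisors (ArSing.ring k r) ∧
      Ideal.span (Set.range fun a : ArSing.ring k r => σ a - a) = Ideal.span {g}) ∧
    Module.length (ArSing.ring k r)
      (ArSing.ring k r ⧸ Ideal.span (Set.range fun a : ArSing.ring k r => σ a - a)) = r + 1 := by
  have h2' : IsUnit (2 : ring k r) := by
    have := (IsUnit.mk0 (2 : k) h2).map (algebraMap k (ring k r))
    rwa [map_ofNat] at this
  have hσx : ∀ p, σ (xMap k r p) = xMap k r p := fun p =>
    map_xMap_of_fix (σ := (σ : ring k r →ₐ[k] ring k r)) hx p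
  have hσxy : ∀ p q, σ (xMap k r p + xMap k r q * y k r) = xMap k r p + xMap k r (-q) * y k r := by
    intro p q
    rw [map_add, map_mul, hσx, hσx, hy, map_neg]; ring
  have hspan : Ideal.span (Set.range fun a : ring k r => σ a - a) = Ideal.span {y k r} := by
    apply le_antisymm
    · rw [Ideal.span_le]
      rintro _ ⟨a, rfl⟩
      obtain ⟨p, q, rfl⟩ := exists_xy a
      change σ (xMap k r p + xMap k r q * y k r) - _ ∈ _
      rw [hσxy, SetLike.mem_coe, Ideal.mem_span_singleton']
      exact ⟨-2 * xMap k r q, by rw [map_neg]; ring⟩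
    · rw [Ideal.span_singleton_le_iff_mem]
      have h1 : σ (y k r) - y k r ∈ Ideal.span (Set.range fun a : ring k r => σ a - a) :=
        Ideal.subset_span ⟨y k r, rfl⟩
      rw [hy] at h1
      have h3 : -y k r - y k r = -(2 * y k r) := by ring
      rw [h3, neg_mem_iff] at h1
      exact (Ideal.unit_mul_mem_iff_mem _ h2').1 h1
  refine ⟨?_, ⟨flat_xMap k r, ?_⟩, ⟨y k r, y_mem_nonZeroDivisors, hspan⟩, ?_⟩
  · intro a
    constructor
    · intro ha
      obtain ⟨p, q, rfl⟩ := exists_xy a
      rw [hσxy] at ha
      have h3 := (xy_inj ha).2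
      have h4 : (2 : PowerSeries k) * q = 0 := by linear_combination (-1 : PowerSeries k) * h3
      have h5 : q = 0 := by
        rcases mul_eq_zero.1 h4 with h | h
        · exfalso
          apply h2
          have := congrArg PowerSeries.constantCoeff h
          rwa [map_ofNat, map_zero] at this
        · exact h
      refine ⟨p, ?_⟩
      rw [h5]; simp
    · rintro ⟨p, rfl⟩
      exact hσx p
  · intro htop
    have h1 : Ideal.map (xMap k r) (maximalIdeal (PowerSeries k)) ≤ maximalIdeal (ring k r) := by
      rw [Ideal.map_le_iff_le_comap]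
      intro p hp
      exact map_mem_maximalIdeal (exC k r) (xMap k r) hp
    rw [htop] at h1
    exact Ideal.IsPrime.ne_top' (top_le_iff.1 h1)
  · rw [hspan]
    have h := length_quotient_eq (Ideal.span {y k r}) (xMap k r : PowerSeries k →+* ring k r) (r + 1)
      ?_ ?_
    · rw [h]; push_cast; rfl
    · intro b
      obtain ⟨b, rfl⟩ := Ideal.Quotient.mk_surjective b
      obtain ⟨p, q, rfl⟩ := exists_xy b
      refine ⟨p, ?_⟩
      rw [RingHom.comp_apply, Ideal.Quotient.eq, Ideal.mem_span_singleton']
      refine ⟨-xMap k r q, ?_⟩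
      change _ = xMap k r p - _
      ring
    · ext p
      rw [RingHom.mem_ker, RingHom.comp_apply, Ideal.Quotient.eq_zero_iff_mem,
        Ideal.mem_span_singleton', Ideal.mem_span_singleton']
      constructor
      · rintro ⟨a, ha⟩
        obtain ⟨s, t, rfl⟩ := exists_xy a
        rw [xy_mul_y] at ha
        have h3 : xMap k r (t * PowerSeries.X ^ (r + 1)) + xMap k r s * y k r =
            xMap k r p + xMap k r 0 * y k r := by
          rw [ha, map_zero]; simp
        exact ⟨t, (xy_inj h3).1⟩
      · rintro ⟨t, rfl⟩
        refine ⟨xMap k r t * y k r, ?_⟩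
        change _ = xMap k r _
        rw [map_mul, map_pow, xMap_X, ← y_sq]; ring

end Groth.Agent.S14093
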