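import Groth.Statements.S14094
-- import your own Groth.Agent.* helpers here
import Groth.Agent.ArSing.K813.EvOdd

set_option autoImplicit false
universe u
open ArSing

namespace Groth.Agent.S14094

open IsLocalRing K813.NF K813.Basic K813.Ring K813.Len K813.EvOdd

theorem map_xy {k : Type u} [Field k] {s r : ℕ} {φ : ring k s →ₐ[k] ring k r}
    (hφx : φ (x k s) = x k r ^ 2) (hφy : φ (y k s) = y k r) (p q : PowerSeries k) :
    φ (xMap k s p + xMap k s q * y k s) = xMap k r (ev k p) + xMap k r (ev k q) * y k r := by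
  rw [map_add, map_mul, hφy, map_xMap_sq hφx, map_xMap_sq hφx]

/-- `ring k r` is free of rank two over `ring k s` with basis `1, x`. -/
theorem flat_map {k : Type u} [Field k] {s r : ℕ} {φ : ring k s →ₐ[k] ring k r}
    (hφx : φ (x k s) = x k r ^ 2) (hφy : φ (y k s) = y k r) : φ.toRingHom.Flat := by
  let : Algebra (ring k s) (ring k r) := φ.toRingHom.toAlgebra
  change Module.Flat (ring k s) (ring k r)
  have hsmul : ∀ (p : ring k s) (a : ring k r), p • a = φ p * a := fun p a => rfl
  let f : (ring k s × ring k s) →ₗ[ring k s] ring k r :=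
    { toFun := fun pq => φ pq.1 + φ pq.2 * x k r
      map_add' := fun a b => by simp only [Prod.fst_add, Prod.snd_add, map_add]; ring
      map_smul' := fun c a => by
        simp only [Prod.smul_fst, Prod.smul_snd, smul_eq_mul, map_mul, RingHom.id_apply, hsmul]
        ring }
  have hfapp : ∀ p₀ q₀ p₁ q₁ : PowerSeries k, φ (xMap k s p₀ + xMap k s q₀ * y k s) +
      φ (xMap k s p₁ + xMap k s q₁ * y k s) * x k r =
      xMap k r (ev k p₀ + PowerSeries.X * ev k p₁) +
        xMap k r (ev k q₀ + PowerSeries.X * ev k q₁) * y k r := by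
    intro p₀ q₀ p₁ q₁
    rw [map_xy hφx hφy, map_xy hφx hφy]
    simp only [map_add, map_mul, xMap_X]
    ring
  have hf : Function.Bijective f := by
    constructor
    · rw [injective_iff_map_eq_zero]
      rintro ⟨a, b⟩ ha
      obtain ⟨p₀, q₀, rfl⟩ := exists_xy a
      obtain ⟨p₁, q₁, rfl⟩ := exists_xy b
      change φ (xMap k s p₀ + xMap k s q₀ * y k s) +
        φ (xMap k s p₁ + xMap k s q₁ * y k s) * x k r = 0 at ha
      rw [hfapp] at ha
      obtain ⟨h1, h2⟩ := xy_unique ha
      obtain ⟨h3, h4⟩ := ev_unique h1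
      obtain ⟨h5, h6⟩ := ev_unique h2
      simp [h3, h4, h5, h6]
    · intro a
      obtain ⟨p, q, rfl⟩ := exists_xy a
      obtain ⟨p₀, p₁, rfl⟩ := exists_ev p
      obtain ⟨q₀, q₁, rfl⟩ := exists_ev q
      exact ⟨(xMap k s p₀ + xMap k s q₀ * y k s, xMap k s p₁ + xMap k s q₁ * y k s),
        hfapp p₀ q₀ p₁ q₁⟩
  exact Module.Flat.of_linearEquiv (LinearEquiv.ofBijective f hf).symm

/-- K algebraically closed of characteristic prime to 2 and to r+1, r = 2m - 1 with m ≥ 2, σ the
involution x ↦ -x, y ↦ y of A_r = k[[x,y]]/(y^2 - x^(r+1)), and φ : A_(m-1) → A_r the k-algebra map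
x ↦ x^2, y ↦ y. Then the invariant subalgebra of σ is the image of φ (so A_r^σ ≅ A_(m-1)), φ is
faithfully flat (flat, and the maximal ideal of A_(m-1) does not generate the unit ideal), and the
fixed locus of σ is a Cartier divisor of length 2: its ideal, generated by the elements σ(a) - a, is
generated by one nonzerodivisor and has quotient of length 2. -/
theorem result (k : Type u) [Field k] [IsAlgClosed k] (m r : ℕ)
    (hm : 2 ≤ m) (hr : r = 2 * m - 1) (h2 : (2 : k) ≠ 0) (hr1 : ((r + 1 : ℕ) : k) ≠ 0)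
    (σ : ArSing.ring k r ≃ₐ[k] ArSing.ring k r) (hx : σ (ArSing.x k r) = -ArSing.x k r)
    (hy : σ (ArSing.y k r) = ArSing.y k r)
    (φ : ArSing.ring k (m - 1) →ₐ[k] ArSing.ring k r) (hφx : φ (ArSing.x k (m - 1)) = ArSing.x k r ^ 2)
    (hφy : φ (ArSing.y k (m - 1)) = ArSing.y k r) :
    (∀ a : ArSing.ring k r, σ a = a ↔ a ∈ φ.range) ∧
    (φ.toRingHom.Flat ∧ ∀ I : Ideal (ArSing.ring k (m - 1)), I.IsMaximal → Ideal.map φ I ≠ ⊤) ∧
    (∃ g : ArSing.ring k r, g ∈ nonZeroDivisors (ArSing.ring k r) ∧ Ideal.span (Set.range fun a : ArSing.ring k r => σ a - a) = Ideal.span {g}) ∧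
    Module.length (ArSing.ring k r) (ArSing.ring k r ⧸ Ideal.span (Set.range fun a : ArSing.ring k r => σ a - a)) = 2 := by
  have h2' : IsUnit (2 : ring k r) := isUnit_two h2
  have hσx : ∀ p, σ (xMap k r p) = xMap k r (PowerSeries.rescale (-1) p) := fun p =>
    map_xMap_of_neg (σ := (σ : ring k r →ₐ[k] ring k r)) hx p
  have hσxy : ∀ p₀ p₁ q₀ q₁ : PowerSeries k, σ (xMap k r (ev k p₀ + PowerSeries.X * ev k p₁) +
      xMap k r (ev k q₀ + PowerSeries.X * ev k q₁) * y k r) =
      xMap k r (ev k p₀ + PowerSeries.X * ev k (-p₁)) +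
        xMap k r (ev k q₀ + PowerSeries.X * ev k (-q₁)) * y k r := by
    intro p₀ p₁ q₀ q₁
    rw [map_add, map_mul, hσx, hσx, hy, rescale_decomp, rescale_decomp]
  have hdec : ∀ a : ring k r, ∃ p₀ p₁ q₀ q₁ : PowerSeries k,
      a = xMap k r (ev k p₀ + PowerSeries.X * ev k p₁) +
        xMap k r (ev k q₀ + PowerSeries.X * ev k q₁) * y k r := by
    intro a
    obtain ⟨p, q, rfl⟩ := exists_xy a
    obtain ⟨p₀, p₁, rfl⟩ := exists_ev p
    obtain ⟨q₀, q₁, rfl⟩ := exists_ev q
    exact ⟨p₀, p₁, q₀, q₁, rfl⟩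
  have hspan : Ideal.span (Set.range fun a : ring k r => σ a - a) = Ideal.span {x k r} := by
    apply le_antisymm
    · rw [Ideal.span_le]
      rintro _ ⟨a, rfl⟩
      obtain ⟨p₀, p₁, q₀, q₁, rfl⟩ := hdec a
      change σ (_ + _ * y k r) - _ ∈ _
      rw [hσxy, SetLike.mem_coe, Ideal.mem_span_singleton']
      refine ⟨-2 * (xMap k r (ev k p₁) + xMap k r (ev k q₁) * y k r), ?_⟩
      simp only [map_add, map_mul, map_neg, xMap_X]
      ring
    · rw [Ideal.span_singleton_le_iff_mem]
      have h1 : σ (x k r) - x k r ∈ Ideal.span (Set.range fun a : ring k r => σ a - a) :=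
        Ideal.subset_span ⟨x k r, rfl⟩
      rw [hx] at h1
      have h3 : -x k r - x k r = -(2 * x k r) := by ring
      rw [h3, neg_mem_iff] at h1
      exact (Ideal.unit_mul_mem_iff_mem _ h2').1 h1
  refine ⟨?_, ⟨flat_map hφx hφy, map_ne_top φ⟩, ⟨x k r, x_mem_nonZeroDivisors, hspan⟩, ?_⟩
  · intro a
    constructor
    · intro ha
      obtain ⟨p₀, p₁, q₀, q₁, rfl⟩ := hdec a
      rw [hσxy] at ha
      obtain ⟨h3, h4⟩ := xy_inj ha
      have h5 := eq_zero_of_eq_neg h2 (ev_inj h3).2
      have h6 := eq_zero_of_eq_neg h2 (ev_inj h4).2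
      refine ⟨xMap k (m - 1) p₀ + xMap k (m - 1) q₀ * y k (m - 1), ?_⟩
      change φ _ = _
      rw [map_xy hφx hφy, h5, h6]
      simp
    · rintro ⟨b, rfl⟩
      obtain ⟨p, q, rfl⟩ := exists_xy b
      change σ (φ _) = φ _
      rw [map_xy hφx hφy, map_add, map_mul, hσx, hσx, hy, rescale_ev, rescale_ev]
  · rw [hspan]
    have hcomp := K813.Ring.isAdicComplete (k := k) (r := r)
    obtain ⟨j, hj⟩ := exists_algHom (R := k) (σ := Unit) (maximalIdeal (ring k r))
      (fun _ => y k r) (fun _ => y_mem)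
    have hjX : j PowerSeries.X = y k r := hj ()
    have hjC : ∀ c : k, j (PowerSeries.C c) = xMap k r (PowerSeries.C c) := by
      intro c
      rw [xMap_C]
      exact j.commutes c
    have hdec2 : ∀ p : PowerSeries k, ∃ (a b : k) (s : PowerSeries k),
        p = PowerSeries.C a + PowerSeries.C b * PowerSeries.X + PowerSeries.X ^ 2 * s := by
      intro p
      obtain ⟨p', hp'⟩ : ∃ p', p - PowerSeries.C (PowerSeries.constantCoeff p) =
        PowerSeries.X * p' := PowerSeries.X_dvd_iff.2 (by simp)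
      obtain ⟨p'', hp''⟩ : ∃ p'', p' - PowerSeries.C (PowerSeries.constantCoeff p') =
        PowerSeries.X * p'' := PowerSeries.X_dvd_iff.2 (by simp)
      refine ⟨PowerSeries.constantCoeff p, PowerSeries.constantCoeff p', p'', ?_⟩
      linear_combination hp' + PowerSeries.X * hp''
    have hjp : ∀ (a b : k) (s : PowerSeries k),
        j (PowerSeries.C a + PowerSeries.C b * PowerSeries.X + PowerSeries.X ^ 2 * s) =
        xMap k r (PowerSeries.C a) + xMap k r (PowerSeries.C b) * y k r +
          x k r ^ (r + 1) * j s := by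
      intro a b s
      rw [map_add, map_add, map_mul, map_mul, map_pow, hjC, hjC, hjX, y_sq]
    have hx1 : ∀ c : ring k r, x k r ^ (r + 1) * c ∈ Ideal.span {x k r} := fun c => by
      rw [Ideal.mem_span_singleton']
      exact ⟨x k r ^ r * c, by ring⟩
    refine length_quotient_eq (Ideal.span {x k r}) (j : PowerSeries k →+* ring k r) 2 ?_ ?_
    · intro b
      obtain ⟨b, rfl⟩ := Ideal.Quotient.mk_surjective b
      obtain ⟨p, q, rfl⟩ := exists_xy b
      obtain ⟨a₁, b₁, s₁, rfl⟩ := hdec2 p
      obtain ⟨a₂, b₂, s₂, rfl⟩ := hdec2 q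
      refine ⟨PowerSeries.C a₁ + PowerSeries.C a₂ * PowerSeries.X + PowerSeries.X ^ 2 * 0, ?_⟩
      rw [RingHom.comp_apply, Ideal.Quotient.eq, Ideal.mem_span_singleton']
      change ∃ a, _ = j _ - _
      rw [hjp]
      refine ⟨-(xMap k r (PowerSeries.C b₁) + x k r * xMap k r s₁) -
        (xMap k r (PowerSeries.C b₂) + x k r * xMap k r s₂) * y k r, ?_⟩
      simp only [map_add, map_mul, map_pow, xMap_X, map_zero]
      ring
    · ext p
      rw [RingHom.mem_ker, RingHom.comp_apply, Ideal.Quotient.eq_zero_iff_mem]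
      change j p ∈ _ ↔ _
      obtain ⟨a, b, s, rfl⟩ := hdec2 p
      rw [hjp, Ideal.add_mem_iff_left _ (hx1 _)]
      constructor
      · intro h
        rw [Ideal.mem_span_singleton'] at h
        obtain ⟨c, hc⟩ := h
        obtain ⟨p', q', rfl⟩ := exists_xy c
        rw [xy_mul_x] at hc
        obtain ⟨h3, h4⟩ := xy_inj hc
        have h5 := congrArg PowerSeries.constantCoeff h3
        have h6 := congrArg PowerSeries.constantCoeff h4
        simp only [map_mul, PowerSeries.constantCoeff_X, mul_zero, PowerSeries.constantCoeff_C] at h5 h6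
        rw [← h5, ← h6, Ideal.mem_span_singleton']
        exact ⟨s, by simp; ring⟩
      · intro h
        rw [Ideal.mem_span_singleton'] at h
        obtain ⟨c, hc⟩ := h
        have h5 := congrArg PowerSeries.constantCoeff hc
        have h6 := congrArg (PowerSeries.coeff 1) hc
        have h7 : PowerSeries.coeff 1 (c * PowerSeries.X ^ 2) = 0 := by
          rw [show c * PowerSeries.X ^ 2 = (c * PowerSeries.X) * PowerSeries.X by ring,
            PowerSeries.coeff_succ_mul_X]
          simp
        have h8 : PowerSeries.coeff 1 (PowerSeries.X ^ 2 * s) = 0 := by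
          rw [show PowerSeries.X ^ 2 * s = (s * PowerSeries.X) * PowerSeries.X by ring,
            PowerSeries.coeff_succ_mul_X]
          simp
        have ha : a = 0 := by simpa using h5.symm
        have hb : b = 0 := by
          rw [h7, map_add, map_add, h8, PowerSeries.coeff_C_mul, PowerSeries.coeff_one_X,
            PowerSeries.coeff_C] at h6
          simpa using h6.symm
        rw [ha, hb]
        simp

end Groth.Agent.S14094
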