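import Groth.Statements.S14095
-- import your own Groth.Agent.* helpers here
import Groth.Agent.ArSing.K813.EvOdd
import Groth.Agent.ArSing.K813.FlatRel
import Mathlib.RingTheory.SimpleModule.Basic

set_option autoImplicit false
universe u
open ArSing

namespace Groth.Agent.S14095

open IsLocalRing K813.NF K813.Basic K813.Ring K813.Len K813.EvOdd

theorem map_xy {k : Type u} [Field k] {s r : ℕ} {φ : ring k s →ₐ[k] ring k r}
    (hφx : φ (x k s) = x k r ^ 2) (hφy : φ (y k s) = x k r * y k r) (p q : PowerSeries k) :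
    φ (xMap k s p + xMap k s q * y k s) =
      xMap k r (ev k p) + xMap k r (PowerSeries.X * ev k q) * y k r := by
  rw [map_add, map_mul, hφy, map_xMap_sq hφx, map_xMap_sq hφx, map_mul, xMap_X]
  ring

theorem xy_mul_xy {k : Type u} [Field k] {r : ℕ} (a b p q : PowerSeries k) :
    (xMap k r a + xMap k r b * y k r) * (xMap k r p + xMap k r q * y k r) =
      xMap k r (a * p + b * q * PowerSeries.X ^ (r + 1)) + xMap k r (a * q + b * p) * y k r := by
  simp only [map_add, map_mul, map_pow, xMap_X, ← y_sq]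
  ring

/-- The maximal ideal of `ring k r` is not principal for `r ≥ 1`. -/
theorem not_principal {k : Type u} [Field k] {r : ℕ} (hr : 1 ≤ r) (g : ring k r)
    (hg : maximalIdeal (ring k r) = Ideal.span {g}) : False := by
  have hgm : g ∈ maximalIdeal (ring k r) := by rw [hg]; exact Ideal.subset_span rfl
  obtain ⟨p, q, rfl⟩ := exists_xy g
  rw [mem_maximalIdeal_xy] at hgm
  have hx1 : x k r ∈ Ideal.span {xMap k r p + xMap k r q * y k r} := by rw [← hg]; exact x_mem
  have hy1 : y k r ∈ Ideal.span {xMap k r p + xMap k r q * y k r} := by rw [← hg]; exact y_mem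
  rw [Ideal.mem_span_singleton'] at hx1 hy1
  obtain ⟨a, ha⟩ := hx1
  obtain ⟨b, hb⟩ := hy1
  obtain ⟨a₀, a₁, rfl⟩ := exists_xy a
  obtain ⟨b₀, b₁, rfl⟩ := exists_xy b
  rw [xy_mul_xy] at ha hb
  have ha' := xy_inj (p' := PowerSeries.X) (q' := 0) (ha.trans (by rw [xMap_X]; simp))
  have hb' := xy_inj (p' := 0) (q' := 1) (hb.trans (by simp))
  obtain ⟨h1, h2⟩ := ha'
  obtain ⟨-, h3⟩ := hb'
  have h4 : PowerSeries.constantCoeff q ≠ 0 := by
    intro h
    have := congrArg PowerSeries.constantCoeff h3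
    simp [h, hgm] at this
  have h5 : PowerSeries.constantCoeff a₀ = 0 := by
    have := congrArg PowerSeries.constantCoeff h2
    rw [map_add, map_mul, map_mul, hgm, mul_zero, add_zero, map_zero] at this
    exact (mul_eq_zero.1 this).resolve_right h4
  obtain ⟨a', rfl⟩ := PowerSeries.X_dvd_iff.2 h5
  obtain ⟨p', rfl⟩ := PowerSeries.X_dvd_iff.2 hgm
  obtain ⟨s, rfl⟩ : ∃ s, r = s + 1 := ⟨r - 1, by omega⟩
  have h6 : PowerSeries.X * (PowerSeries.X * (a' * p' + a₁ * q * PowerSeries.X ^ s)) =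
      PowerSeries.X * (1 : PowerSeries k) := by
    rw [mul_one]
    conv_rhs => rw [← h1]
    ring
  have h7 := mul_left_cancel₀ PowerSeries.X_ne_zero h6
  have h8 := congrArg PowerSeries.constantCoeff h7
  simp at h8

theorem not_flat {k : Type u} [Field k] {m r : ℕ} (hm : 1 ≤ m)
    {φ : ring k m →ₐ[k] ring k r}
    (hφx : φ (x k m) = x k r ^ 2) (hφy : φ (y k m) = x k r * y k r) : ¬ φ.toRingHom.Flat := by
  intro hflat
  have hrel : φ.toRingHom (x k m) * y k r + φ.toRingHom (-y k m) * x k r = 0 := by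
    change φ (x k m) * y k r + φ (-y k m) * x k r = 0
    rw [map_neg, hφx, hφy]
    ring
  obtain ⟨n, p, q, z, -, h1, h2⟩ := K813.FlatRel.exists_of_rel_two φ.toRingHom hflat
    (x k m) (-y k m) (y k r) (x k r) hrel
  have h3 : ∀ j, q j ∈ maximalIdeal (ring k m) := by
    intro j
    have h := h2 j
    obtain ⟨a₀, a₁, h0⟩ := exists_xy (p j)
    obtain ⟨b₀, b₁, h0'⟩ := exists_xy (q j)
    rw [h0, h0'] at h
    have h4 : (xMap k m a₀ + xMap k m a₁ * y k m) * x k m =
        (xMap k m b₀ + xMap k m b₁ * y k m) * y k m := by linear_combination h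
    rw [xy_mul_x, xy_mul_y] at h4
    have h5 := (xy_inj h4).2
    rw [h0', mem_maximalIdeal_xy, ← h5]
    simp
  have h4 : Ideal.map φ.toRingHom (maximalIdeal (ring k m)) ≤
      Ideal.span {x k r} * maximalIdeal (ring k r) := by
    rw [maximalIdeal_eq (k := k) (r := m), Ideal.map_span, Ideal.span_le]
    rintro _ ⟨a, rfl | rfl, rfl⟩
    · have h5 : φ.toRingHom (x k m) = x k r * x k r := by rw [← sq]; exact hφx
      rw [SetLike.mem_coe, h5]
      exact Ideal.mul_mem_mul (Ideal.subset_span rfl) x_mem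
    · have h5 : φ.toRingHom (y k m) = x k r * y k r := hφy
      rw [SetLike.mem_coe, h5]
      exact Ideal.mul_mem_mul (Ideal.subset_span rfl) y_mem
  have h5 : x k r ∈ Ideal.span {x k r} * maximalIdeal (ring k r) := by
    have h6 : ∑ j, φ.toRingHom (q j) * z j ∈ Ideal.span {x k r} * maximalIdeal (ring k r) :=
      Ideal.sum_mem _ fun j _ => Ideal.mul_mem_right _ _
        (h4 (Ideal.mem_map_of_mem φ.toRingHom (h3 j)))
    rwa [← h1] at h6
  rw [Ideal.mem_span_singleton_mul] at h5
  obtain ⟨c, hc, hxc⟩ := h5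
  have h6 : (1 - c) * x k r = 0 := by rw [sub_mul, one_mul, mul_comm c, hxc, sub_self]
  have h7 : 1 - c = 0 :=
    (mem_nonZeroDivisors_iff_right.1 (x_mem_nonZeroDivisors (k := k) (r := r))) _ h6
  have h8 : (1 : ring k r) ∈ maximalIdeal (ring k r) := by
    rw [sub_eq_zero.1 h7]; exact hc
  exact (Ideal.ne_top_iff_one _).1 Ideal.IsPrime.ne_top' h8

/-- K algebraically closed of characteristic prime to 2 and to r+1, r = 2m - 1 with m ≥ 1, σ the
involution x ↦ -x, y ↦ -y of A_r = k[[x,y]]/(y^2 - x^(r+1)), and φ : A_m → A_r the k-algebra map x ↦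
x^2, y ↦ xy. Then the invariant subalgebra of σ is the image of φ and φ is injective (so A_r^σ ≅
A_m), φ is not flat, and the fixed locus of σ is the reduced closed point and is not a Cartier
divisor: the ideal generated by the elements σ(a) - a has quotient of length 1 and is not generated
by one nonzerodivisor. -/
theorem result (k : Type u) [Field k] [IsAlgClosed k] (m r : ℕ)
    (hm : 1 ≤ m) (hr : r = 2 * m - 1) (h2 : (2 : k) ≠ 0) (hr1 : ((r + 1 : ℕ) : k) ≠ 0)
    (σ : ArSing.ring k r ≃ₐ[k] ArSing.ring k r) (hx : σ (ArSing.x k r) = -ArSing.x k r)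
    (hy : σ (ArSing.y k r) = -ArSing.y k r)
    (φ : ArSing.ring k m →ₐ[k] ArSing.ring k r) (hφx : φ (ArSing.x k m) = ArSing.x k r ^ 2)
    (hφy : φ (ArSing.y k m) = ArSing.x k r * ArSing.y k r) :
    (∀ a : ArSing.ring k r, σ a = a ↔ a ∈ φ.range) ∧ Function.Injective φ ∧
    ¬ φ.toRingHom.Flat ∧
    Module.length (ArSing.ring k r) (ArSing.ring k r ⧸ Ideal.span (Set.range fun a : ArSing.ring k r => σ a - a)) = 1 ∧
    ¬ (∃ g : ArSing.ring k r, g ∈ nonZeroDivisors (ArSing.ring k r) ∧ Ideal.span (Set.range fun a : ArSing.ring k r => σ a - a) = Ideal.span {g}) := by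
  have hr1' : 1 ≤ r := by omega
  have h2' : IsUnit (2 : ring k r) := isUnit_two h2
  have hσx : ∀ p, σ (xMap k r p) = xMap k r (PowerSeries.rescale (-1) p) := fun p =>
    map_xMap_of_neg (σ := (σ : ring k r →ₐ[k] ring k r)) hx p
  have hσxy : ∀ p₀ p₁ q₀ q₁ : PowerSeries k, σ (xMap k r (ev k p₀ + PowerSeries.X * ev k p₁) +
      xMap k r (ev k q₀ + PowerSeries.X * ev k q₁) * y k r) =
      xMap k r (ev k p₀ + PowerSeries.X * ev k (-p₁)) +
        xMap k r (ev k (-q₀) + PowerSeries.X * ev k q₁) * y k r := by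
    intro p₀ p₁ q₀ q₁
    rw [map_add, map_mul, hσx, hσx, hy, rescale_decomp, rescale_decomp]
    simp only [map_neg, map_add, map_mul]
    ring
  have hdec : ∀ a : ring k r, ∃ p₀ p₁ q₀ q₁ : PowerSeries k,
      a = xMap k r (ev k p₀ + PowerSeries.X * ev k p₁) +
        xMap k r (ev k q₀ + PowerSeries.X * ev k q₁) * y k r := by
    intro a
    obtain ⟨p, q, rfl⟩ := exists_xy a
    obtain ⟨p₀, p₁, rfl⟩ := exists_ev p
    obtain ⟨q₀, q₁, rfl⟩ := exists_ev q
    exact ⟨p₀, p₁, q₀, q₁, rfl⟩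
  have hspan : Ideal.span (Set.range fun a : ring k r => σ a - a) = maximalIdeal (ring k r) := by
    apply le_antisymm
    · rw [Ideal.span_le]
      rintro _ ⟨a, rfl⟩
      obtain ⟨p₀, p₁, q₀, q₁, rfl⟩ := hdec a
      change σ (_ + _ * y k r) - _ ∈ _
      rw [hσxy, SetLike.mem_coe]
      have h : xMap k r (ev k p₀ + PowerSeries.X * ev k (-p₁)) +
        xMap k r (ev k (-q₀) + PowerSeries.X * ev k q₁) * y k r -
        (xMap k r (ev k p₀ + PowerSeries.X * ev k p₁) +
        xMap k r (ev k q₀ + PowerSeries.X * ev k q₁) * y k r) =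
        xMap k r (PowerSeries.X * (-2 * ev k p₁)) + xMap k r (-2 * ev k q₀) * y k r := by
        simp only [map_neg, map_add, map_mul, map_ofNat]
        ring
      rw [h, mem_maximalIdeal_xy]
      simp
    · rw [maximalIdeal_eq (k := k) (r := r), Ideal.span_le]
      rintro a (rfl | rfl)
      · have h1 : σ (x k r) - x k r ∈ Ideal.span (Set.range fun a : ring k r => σ a - a) :=
          Ideal.subset_span ⟨x k r, rfl⟩
        rw [hx] at h1
        have h3 : -x k r - x k r = -(2 * x k r) := by ring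
        rw [h3, neg_mem_iff] at h1
        exact (Ideal.unit_mul_mem_iff_mem _ h2').1 h1
      · have h1 : σ (y k r) - y k r ∈ Ideal.span (Set.range fun a : ring k r => σ a - a) :=
          Ideal.subset_span ⟨y k r, rfl⟩
        rw [hy] at h1
        have h3 : -y k r - y k r = -(2 * y k r) := by ring
        rw [h3, neg_mem_iff] at h1
        exact (Ideal.unit_mul_mem_iff_mem _ h2').1 h1
  refine ⟨?_, ?_, not_flat hm hφx hφy, ?_, ?_⟩
  · intro a
    constructor
    · intro ha
      obtain ⟨p₀, p₁, q₀, q₁, rfl⟩ := hdec a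
      rw [hσxy] at ha
      obtain ⟨h3, h4⟩ := xy_inj ha
      have h5 := eq_zero_of_eq_neg h2 (ev_inj h3).2
      have h6 := eq_zero_of_eq_neg h2 (ev_inj h4).1
      refine ⟨xMap k m p₀ + xMap k m q₁ * y k m, ?_⟩
      change φ _ = _
      rw [map_xy hφx hφy, h5, h6]
      simp
    · rintro ⟨b, rfl⟩
      obtain ⟨p, q, rfl⟩ := exists_xy b
      change σ (φ _) = φ _
      rw [map_xy hφx hφy, map_add, map_mul, hσx, hσx, hy, rescale_ev, map_mul, rescale_ev,
        PowerSeries.rescale_X]
      simp only [map_neg, map_mul, map_one]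
      ring
  · rw [injective_iff_map_eq_zero]
    intro a ha
    obtain ⟨p, q, rfl⟩ := exists_xy a
    rw [map_xy hφx hφy] at ha
    obtain ⟨h3, h4⟩ := xy_unique ha
    have h5 := (ev_unique (p₀ := p) (p₁ := 0) (by rw [h3]; simp)).1
    have h6 := (ev_unique (p₀ := 0) (p₁ := q) (by rw [h4]; simp)).2
    rw [h5, h6]; simp
  · rw [hspan, Module.length_eq_one_iff, isSimpleModule_iff_quot_maximal]
    exact ⟨maximalIdeal (ring k r), inferInstance, ⟨LinearEquiv.refl _ _⟩⟩
  · rintro ⟨g, -, hg⟩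
    rw [hspan] at hg
    exact not_principal hr1' g hg

end Groth.Agent.S14095
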