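import Groth.Statements.S14096
-- import your own Groth.Agent.* helpers here
import Groth.Agent.ArSing.K813.Node
import Groth.Agent.ArSing.K813.FlatRel

set_option autoImplicit false
universe u
open ArSing

namespace Groth.Agent.S14096

open IsLocalRing K813.NF K813.Basic K813.Ring K813.Len K813.EvOdd K813.Node

/-- Algebra maps from the node algebra to `k[[t]]` agreeing on `u` and `v` are equal. -/
theorem hom_ext_uv {k : Type u} [Field k] (h2 : (2 : k) ≠ 0) {f g : ring k 1 →ₐ[k] PowerSeries k}
    (hu : f (uu k) = g (uu k)) (hv : f (vv k) = g (vv k)) : f = g := by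
  rw [uu, map_add, map_add] at hu
  rw [vv, map_sub, map_sub] at hv
  have h2' : (2 : PowerSeries k) ≠ 0 := by
    intro h
    apply h2
    have := congrArg PowerSeries.constantCoeff h
    rwa [map_ofNat, map_zero] at this
  refine hom_ext (k := k) (r := 1) (S := PowerSeries k) ps_exC ?_ ?_
  · refine mul_left_cancel₀ h2' ?_
    linear_combination hu - hv
  · refine mul_left_cancel₀ h2' ?_
    linear_combination hu + hv

/-- K algebraically closed of characteristic ≠ 2, σ the involution of the node algebra A_1 =
k[[x,y]]/(y^2 - x^2) exchanging x and y, and φ : A_1 → A_1 the k-algebra map with φ(x + y) = x + y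
and φ(y - x) = (y - x)^2 (in the branch coordinates u = x + y, v = y - x with uv = 0: u ↦ u, v ↦
v^2). Then the invariant subalgebra of σ is the image of φ and φ is injective (so A_1^σ ≅ A_1), and
the fixed locus of σ is the branch v = 0: the ideal generated by the elements σ(a) - a is the ideal
(y - x), a minimal prime ideal generated by a zero-divisor (so not a Cartier divisor). Moreover φ is
not flat. (The published statement asserts that this extension is faithfully flat; it is not: as a
module over the invariant subalgebra B = k[[u,w]]/(uw), w = v^2, A_1 is B ⊕ (B/uB)·v, and B/uB is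
not flat over B — equivalently the fibre length jumps from 1 on the branch w = 0 to 2 at the closed
point.) -/
theorem result (k : Type u) [Field k] [IsAlgClosed k]
    (h2 : (2 : k) ≠ 0)
    (σ : ArSing.ring k 1 ≃ₐ[k] ArSing.ring k 1) (hx : σ (ArSing.x k 1) = ArSing.y k 1)
    (hy : σ (ArSing.y k 1) = ArSing.x k 1)
    (φ : ArSing.ring k 1 →ₐ[k] ArSing.ring k 1) (hφu : φ (ArSing.x k 1 + ArSing.y k 1) = ArSing.x k 1 + ArSing.y k 1)
    (hφv : φ (ArSing.y k 1 - ArSing.x k 1) = (ArSing.y k 1 - ArSing.x k 1) ^ 2) :
    (∀ a : ArSing.ring k 1, σ a = a ↔ a ∈ φ.range) ∧ Function.Injective φ ∧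
    Ideal.span (Set.range fun a : ArSing.ring k 1 => σ a - a) = Ideal.span {ArSing.y k 1 - ArSing.x k 1} ∧
    (ArSing.y k 1 - ArSing.x k 1) ∉ nonZeroDivisors (ArSing.ring k 1) ∧
    Ideal.span {ArSing.y k 1 - ArSing.x k 1} ∈ minimalPrimes (ArSing.ring k 1) ∧
    ¬ φ.toRingHom.Flat := by
  have h2' : IsUnit (2 : ring k 1) := isUnit_two h2
  have hσu : σ (uu k) = uu k := by rw [uu, map_add, hx, hy, add_comm]
  have hσv : σ (vv k) = -vv k := by rw [vv, map_sub, hx, hy]; ring
  have hpu : ∀ a, piu k (σ a) = piu k a := by
    intro a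
    have h : (piu k).comp (σ : ring k 1 →ₐ[k] ring k 1) = piu k := by
      apply hom_ext_uv h2
      · change piu k (σ (uu k)) = _
        rw [hσu]
      · change piu k (σ (vv k)) = _
        rw [hσv, map_neg, piu_vv, neg_zero]
    exact DFunLike.congr_fun h a
  have hpv : ∀ a, piv k (σ a) = PowerSeries.rescale (-1) (piv k a) := by
    intro a
    have h : (piv k).comp (σ : ring k 1 →ₐ[k] ring k 1) =
        (PowerSeries.rescaleAlgHom (-1)).comp (piv k) := by
      apply hom_ext_uv h2
      · change piv k (σ (uu k)) = PowerSeries.rescaleAlgHom (-1) (piv k (uu k))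
        rw [hσu, piv_uu, map_zero]
      · change piv k (σ (vv k)) = PowerSeries.rescaleAlgHom (-1) (piv k (vv k))
        rw [hσv, map_neg, piv_vv h2, rescaleAlgHom_apply', PowerSeries.rescale_X, map_neg, map_one,
          neg_one_mul]
    have := DFunLike.congr_fun h a
    rwa [AlgHom.comp_apply, AlgHom.comp_apply, rescaleAlgHom_apply'] at this
  have hφu' : φ (uu k) = uu k := hφu
  have hφv' : φ (vv k) = vv k ^ 2 := hφv
  have hqu : ∀ a, piu k (φ a) = piu k a := by
    intro a
    have h : (piu k).comp φ = piu k := by
      apply hom_ext_uv h2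
      · change piu k (φ (uu k)) = _
        rw [hφu']
      · change piu k (φ (vv k)) = _
        rw [hφv', map_pow, piu_vv, zero_pow (by norm_num)]
    exact DFunLike.congr_fun h a
  have hqv : ∀ a, piv k (φ a) = ev k (piv k a) := by
    intro a
    have h : (piv k).comp φ = (ev k).comp (piv k) := by
      apply hom_ext_uv h2
      · change piv k (φ (uu k)) = ev k (piv k (uu k))
        rw [hφu', piv_uu, map_zero]
      · change piv k (φ (vv k)) = ev k (piv k (vv k))
        rw [hφv', map_pow, piv_vv h2, ev_X]
    exact DFunLike.congr_fun h a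
  have huv : uu k * vv k = 0 := uu_mul_vv k
  have hspan : Ideal.span {vv k} = RingHom.ker (piu k) := by
    ext a
    rw [RingHom.mem_ker, Ideal.mem_span_singleton']
    constructor
    · rintro ⟨c, rfl⟩
      rw [map_mul, piu_vv, mul_zero]
    · intro h
      obtain ⟨c, rfl⟩ := ker_piu h2 h
      exact ⟨c, mul_comm _ _⟩
  have huX : piu k (uu k) = PowerSeries.X := piu_uu h2
  refine ⟨?_, ?_, ?_, ?_, ?_, ?_⟩
  · intro a
    constructor
    · intro ha
      have h3 : PowerSeries.rescale (-1) (piv k a) = piv k a := by rw [← hpv, ha]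
      obtain ⟨p₀, p₁, hp⟩ := exists_ev (piv k a)
      rw [hp, rescale_decomp] at h3
      have h4 := eq_zero_of_eq_neg h2 (ev_inj h3).2
      rw [h4, map_zero, mul_zero, add_zero] at hp
      -- constant coefficients
      have h5 : PowerSeries.constantCoeff (piu k a) = PowerSeries.constantCoeff (piv k a) := by
        obtain ⟨p, q, rfl⟩ := exists_xy a
        have e1 : PowerSeries.constantCoeff (piu k (xMap k 1 p + xMap k 1 q * y k 1)) =
            PowerSeries.constantCoeff p := by
          rw [map_add, map_mul, piu_xMap, piu_y, map_add, map_mul, map_mul,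
            PowerSeries.constantCoeff_X, mul_zero, mul_zero, add_zero,
            ← PowerSeries.coeff_zero_eq_constantCoeff_apply, PowerSeries.coeff_rescale, pow_zero,
            one_mul, PowerSeries.coeff_zero_eq_constantCoeff_apply]
        have e2 : PowerSeries.constantCoeff (piv k (xMap k 1 p + xMap k 1 q * y k 1)) =
            PowerSeries.constantCoeff p := by
          rw [map_add, map_mul, piv_xMap, piv_y, map_add, map_mul, map_mul,
            PowerSeries.constantCoeff_X, mul_zero, mul_zero, add_zero,
            ← PowerSeries.coeff_zero_eq_constantCoeff_apply, PowerSeries.coeff_rescale, pow_zero,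
            one_mul, PowerSeries.coeff_zero_eq_constantCoeff_apply]
        rw [e1, e2]
      have h6 : PowerSeries.constantCoeff (ev k p₀) = PowerSeries.constantCoeff p₀ := by
        rw [← PowerSeries.coeff_zero_eq_constantCoeff_apply, coeff_ev]
        simp
      obtain ⟨b, hb1, hb2⟩ := exists_pi_eq h2 (f := piu k a) (g := p₀) (by rw [h5, hp, h6])
      refine ⟨b, ext_pi h2 ?_ ?_⟩
      · change piu k (φ b) = _
        rw [hqu, hb1]
      · change piv k (φ b) = _
        rw [hqv, hb2, hp]
    · rintro ⟨b, rfl⟩
      change σ (φ b) = φ b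
      apply ext_pi h2
      · rw [hpu]
      · rw [hpv, hqv, rescale_ev]
  · rw [injective_iff_map_eq_zero]
    intro a ha
    apply eq_zero_of_pi h2
    · rw [← hqu, ha, map_zero]
    · have h3 : ev k (piv k a) = 0 := by rw [← hqv, ha, map_zero]
      exact (ev_unique (p₀ := piv k a) (p₁ := 0) (by rw [h3]; simp)).1
  · change _ = Ideal.span {vv k}
    apply le_antisymm
    · rw [Ideal.span_le]
      rintro _ ⟨a, rfl⟩
      change σ a - a ∈ Ideal.span {vv k}
      rw [hspan, RingHom.mem_ker, map_sub, hpu, sub_self]
    · rw [Ideal.span_singleton_le_iff_mem]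
      have h1 : σ (vv k) - vv k ∈ Ideal.span (Set.range fun a : ring k 1 => σ a - a) :=
        Ideal.subset_span ⟨vv k, rfl⟩
      rw [hσv] at h1
      have h3 : -vv k - vv k = -(2 * vv k) := by ring
      rw [h3, neg_mem_iff] at h1
      exact (Ideal.unit_mul_mem_iff_mem _ h2').1 h1
  · intro h
    have h3 := (mem_nonZeroDivisors_iff_right.1 h) (uu k) huv
    rw [h3, map_zero] at huX
    exact PowerSeries.X_ne_zero huX.symm
  · change Ideal.span {vv k} ∈ _
    have hprime : (Ideal.span {vv k}).IsPrime := by
      rw [hspan]; exact RingHom.ker_isPrime _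
    refine ⟨⟨hprime, bot_le⟩, ?_⟩
    rintro P ⟨hP, -⟩ hle
    have h3 : uu k * vv k ∈ P := by rw [huv]; exact zero_mem _
    rcases hP.mem_or_mem h3 with h | h
    · exfalso
      have h4 := hle h
      rw [hspan, RingHom.mem_ker, huX] at h4
      exact PowerSeries.X_ne_zero h4
    · rw [Ideal.span_singleton_le_iff_mem]; exact h
  · intro hflat
    have hrel : φ.toRingHom (uu k) * vv k = 0 := by
      change φ (uu k) * vv k = 0
      rw [hφu', huv]
    obtain ⟨n, p, z, h1, h3⟩ := K813.FlatRel.exists_of_rel_one φ.toRingHom hflat (uu k) (vv k) hrel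
    have h4 : ∀ j, ∃ c, φ (p j) = vv k ^ 2 * φ c := by
      intro j
      have h5 := congrArg (piu k) (h3 j)
      rw [map_mul, huX, map_zero] at h5
      have h6 : piu k (p j) = 0 := (mul_eq_zero.1 h5).resolve_left PowerSeries.X_ne_zero
      obtain ⟨c, hc⟩ := ker_piu h2 h6
      exact ⟨c, by rw [hc, map_mul, hφv']⟩
    choose c hc using h4
    have h5 : vv k = vv k ^ 2 * ∑ j, φ (c j) * z j := by
      rw [Finset.mul_sum]
      refine h1.trans (Finset.sum_congr rfl fun j _ => ?_)
      change φ (p j) * z j = _
      rw [hc, mul_assoc]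
    have h6 := congrArg (piv k) h5
    rw [map_mul, map_pow, piv_vv h2] at h6
    have h7 : (PowerSeries.X : PowerSeries k) * (1 - PowerSeries.X *
        piv k (∑ j, φ (c j) * z j)) = 0 := by linear_combination h6
    have h8 := (mul_eq_zero.1 h7).resolve_left PowerSeries.X_ne_zero
    have h9 := congrArg PowerSeries.constantCoeff h8
    simp at h9

end Groth.Agent.S14096
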