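import Groth.Statements.S14097
-- import your own Groth.Agent.* helpers here
import Mathlib

set_option autoImplicit false
universe u
open ArSing

namespace Groth.Agent.S14097

lemma esymm_zero' {A : Type u} [CommRing A] (s : Multiset A) : s.esymm 0 = 1 := by
  simp [Multiset.esymm]

lemma esymm_cons_succ {A : Type u} [CommRing A] (a : A) (s : Multiset A) (n : ℕ) :
    (a ::ₘ s).esymm (n + 1) = s.esymm (n + 1) + a * s.esymm n := by
  simp only [Multiset.esymm, Multiset.powersetCard_cons, Multiset.map_add, Multiset.sum_add,
    Multiset.map_map, Function.comp_apply, Multiset.prod_cons]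
  rw [Multiset.sum_map_mul_left]

lemma esymm_card {A : Type u} [CommRing A] (s : Multiset A) : s.esymm (Multiset.card s) = s.prod := by
  simp [Multiset.esymm, Multiset.powersetCard_self]

/-- `E n = ∑_{j<n} τ^(n-1-j) e_j(h_0, …, h_{n-1})`. -/
noncomputable def E {A : Type u} [CommRing A] (τ : A) (h : ℕ → A) (n : ℕ) : A :=
  ∑ j ∈ Finset.range n, τ ^ (n - 1 - j) * (((Finset.range n).val.map h).esymm j)

lemma range_succ_map {A : Type u} (h : ℕ → A) (n : ℕ) :
    (Finset.range (n + 1)).val.map h = h n ::ₘ (Finset.range n).val.map h := by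
  simp [Finset.range_val, Multiset.range_succ]

lemma E_succ {A : Type u} [CommRing A] (τ : A) (h : ℕ → A) (n : ℕ) :
    E τ h (n + 1) = (τ + h n) * E τ h n + ∏ i ∈ Finset.range n, h i := by
  unfold E
  rw [Finset.sum_range_succ']
  simp only [range_succ_map, esymm_cons_succ, esymm_zero', Nat.add_sub_cancel, Nat.sub_zero, mul_one]
  simp only [mul_add, Finset.sum_add_distrib]
  have h1 : ∑ x ∈ Finset.range n, τ ^ (n - (x + 1)) * (h n * (Multiset.map h (Finset.range n).val).esymm x)
      = h n * ∑ j ∈ Finset.range n, τ ^ (n - 1 - j) * (((Finset.range n).val.map h).esymm j) := by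
    rw [Finset.mul_sum]
    refine Finset.sum_congr rfl fun j _ => ?_
    have : n - (j + 1) = n - 1 - j := by omega
    rw [this]; ring
  have h2 : ∑ x ∈ Finset.range n, τ ^ (n - (x + 1)) * (Multiset.map h (Finset.range n).val).esymm (x + 1) + τ ^ n
      = τ * (∑ j ∈ Finset.range n, τ ^ (n - 1 - j) * (((Finset.range n).val.map h).esymm j)) +
        ∏ i ∈ Finset.range n, h i := by
    have e : ∏ i ∈ Finset.range n, h i = (Multiset.map h (Finset.range n).val).esymm n := by
      have := esymm_card (Multiset.map h (Finset.range n).val)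
      simp only [Multiset.card_map, Finset.card_val, Finset.card_range] at this
      rw [this]
      rfl
    have hfull : ∑ j ∈ Finset.range (n + 1), τ ^ (n - j) * (((Finset.range n).val.map h).esymm j) =
        ∑ x ∈ Finset.range n, τ ^ (n - (x + 1)) * (Multiset.map h (Finset.range n).val).esymm (x + 1) + τ ^ n := by
      rw [Finset.sum_range_succ']
      simp [esymm_zero']
    rw [← hfull, Finset.sum_range_succ, e, Finset.mul_sum]
    simp only [Nat.sub_self, pow_zero, one_mul]
    congr 1
    refine Finset.sum_congr rfl fun j hj => ?_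
    have hj' : j < n := by simpa using hj
    have : n - j = (n - 1 - j) + 1 := by omega
    rw [this, pow_succ]; ring
  linear_combination h1 + h2

lemma main {A : Type u} [CommRing A] (τ : A) (h : ℕ → A) (n : ℕ)
    (hrel : ∀ i, i < n + 1 → h i ^ 2 + τ * h i = 0) :
    ∏ i ∈ Finset.range n, (h i + h (i + 1) + τ) = E τ h (n + 1) ∧
    h n * E τ h (n + 1) = ∏ i ∈ Finset.range (n + 1), h i := by
  induction n with
  | zero => simp [E, esymm_zero']
  | succ n ih =>
    obtain ⟨ih1, ih2⟩ := ih (fun i hi => hrel i (by omega))
    have hr := hrel (n + 1) (by omega)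
    constructor
    · rw [Finset.prod_range_succ, ih1, E_succ τ h (n + 1)]
      linear_combination ih2
    · rw [E_succ τ h (n + 1), Finset.prod_range_succ _ (n + 1)]
      linear_combination (E τ h (n + 1)) * hr

/-- In any commutative ring, if h_0, …, h_(k-1) (k ≥ 2) and τ satisfy h_i^2 + τ h_i = 0, then ∏_(i ≤
k-2) (h_i + h_(i+1) + τ) = Σ_(j ≤ k-1) τ^(k-1-j) e_j(h), e_j the elementary symmetric functions.
(The published statement is the resulting formula for the class of the small diagonal in the Chow
ring of (P^1)^k, where the h_i are the hyperplane classes of the factors and satisfy these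
relations; only the ring identity is asserted here.) -/
theorem result (A : Type u) [CommRing A] (k : ℕ) (hk : 2 ≤ k) (τ : A)
    (h : ℕ → A) (hrel : ∀ i, i < k → h i ^ 2 + τ * h i = 0) :
    ∏ i ∈ Finset.range (k - 1), (h i + h (i + 1) + τ) =
      ∑ j ∈ Finset.range k, τ ^ (k - 1 - j) * (((Finset.range k).val.map h).esymm j) := by
  obtain ⟨n, rfl⟩ : ∃ n, k = n + 1 := ⟨k - 1, by omega⟩
  have := (main τ h n hrel).1
  simpa [E] using this

end Groth.Agent.S14097
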