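import Groth.Statements.S14098
import Groth.Agent.FlatMor.K263.PushBC
import Groth.Agent.S1442
import Groth.Agent.S0448
import Mathlib.RingTheory.Flat.Equalizer

set_option autoImplicit false
universe u
open CategoryTheory AlgebraicGeometry
open FlatMor

namespace Groth.Agent.S14098


/-- The kernel of a surjection of flat modules is flat. -/
theorem flat_of_exact {R : Type u} [CommRing R] {M N P : Type u} [AddCommGroup M] [Module R M]
    [AddCommGroup N] [Module R N] [AddCommGroup P] [Module R P] [Module.Flat R N] [Module.Flat R P]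
    (g : M →ₗ[R] N) (f : N →ₗ[R] P) (hf : Function.Surjective f) (hg : Function.Injective g)
    (H : Function.Exact g f) : Module.Flat R M := by
  rw [Module.Flat.iff_rTensor_preserves_injective_linearMap]
  intro A B _ _ _ _ i hi
  have h1 := LinearMap.lTensor_injective_of_exact_of_flat f hf g hg H A
  have h2 := Module.Flat.rTensor_preserves_injective_linearMap (M := N) i hi
  have h3 : (g.lTensor B) ∘ₗ (i.rTensor M) = (i.rTensor N) ∘ₗ (g.lTensor A) := by
    rw [LinearMap.lTensor_comp_rTensor, LinearMap.rTensor_comp_lTensor]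
  have h4 : Function.Injective ((g.lTensor B) ∘ₗ (i.rTensor M)) := by
    rw [h3]
    exact h2.comp h1
  exact Function.Injective.of_comp (f := g.lTensor B) h4

open AlgebraicGeometry CategoryTheory Limits in
theorem flat_of_mil_ring {R B A C D : Type u} [CommRing R] [CommRing B] [CommRing A] [CommRing C] [CommRing D]
    (φ : R →+* B) (α : B →+* A) (β : B →+* C) (δ : A →+* D) (γ : C →+* D)
    (w : ∀ b, δ (α b) = γ (β b)) (hδ : Function.Surjective δ)
    (hmil : ∀ s t, δ s = γ t → ∃ b, α b = s ∧ β b = t)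
    (hinj : ∀ b b', α b = α b' → β b = β b' → b = b')
    (hA : (α.comp φ).Flat) (hC : (β.comp φ).Flat) (hD : ((δ.comp α).comp φ).Flat) : φ.Flat := by
  algebraize [φ, α.comp φ, β.comp φ, (δ.comp α).comp φ]
  have h1 : ∀ (r : R) (b : B), α (r • b) = r • α b := fun r b => by
    rw [Algebra.smul_def, Algebra.smul_def, map_mul]; rfl
  have h2 : ∀ (r : R) (b : B), β (r • b) = r • β b := fun r b => by
    rw [Algebra.smul_def, Algebra.smul_def, map_mul]; rfl
  have h3 : ∀ (r : R) (b : A), δ (r • b) = r • δ b := fun r b => by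
    rw [Algebra.smul_def, Algebra.smul_def, map_mul]; rfl
  have h4 : ∀ (r : R) (b : C), γ (r • b) = r • γ b := fun r b => by
    rw [Algebra.smul_def, Algebra.smul_def, map_mul]
    exact congrArg (· * γ b) (w (φ r)).symm
  let αL : B →ₗ[R] A := { toFun := α, map_add' := map_add α, map_smul' := h1 }
  let βL : B →ₗ[R] C := { toFun := β, map_add' := map_add β, map_smul' := h2 }
  let δL : A →ₗ[R] D := { toFun := δ, map_add' := map_add δ, map_smul' := h3 }
  let γL : C →ₗ[R] D := { toFun := γ, map_add' := map_add γ, map_smul' := h4 }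
  have hA' : Module.Flat R A := hA
  have hC' : Module.Flat R C := hC
  have hD' : Module.Flat R D := hD
  have hAC : Module.Flat R (A × C) := Groth.Agent.S0448.flat_prod
  change Module.Flat R B
  refine flat_of_exact (P := D) (αL.prod βL) (δL.coprod (-γL)) ?_ ?_ ?_
  · intro d
    obtain ⟨a, ha⟩ := hδ d
    exact ⟨(a, 0), by
      rw [LinearMap.coprod_apply, map_zero, add_zero]
      exact ha⟩
  · intro b b' h
    have h1 := congrArg Prod.fst h
    have h2 := congrArg Prod.snd h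
    exact hinj b b' h1 h2
  · rintro ⟨s, t⟩
    rw [LinearMap.coprod_apply, LinearMap.neg_apply, ← sub_eq_add_neg, sub_eq_zero]
    constructor
    · intro h
      obtain ⟨b, h1, h2⟩ := hmil s t h
      exact ⟨b, Prod.ext h1 h2⟩
    · rintro ⟨b, hb⟩
      obtain ⟨rfl, rfl⟩ := Prod.mk.inj hb
      exact w b

open AlgebraicGeometry CategoryTheory Limits K263.PushChar in
theorem flat_of_isGlued {Z X Y W S : Scheme.{u}} {i : Z ⟶ X} {j : Z ⟶ Y} {a : X ⟶ W} {b : Y ⟶ W}
    [IsClosedImmersion i] (h : IsGlued i j a b) (s : W ⟶ S) [Flat (a ≫ s)] [Flat (b ≫ s)]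
    (hZ : Flat (i ≫ a ≫ s)) : Flat s := by
  have ha : IsAffineHom a := h.isAffineHom_a
  have hb : IsClosedImmersion b := h.isClosedImmersion_b
  have hw := h.isPullback.w
  rw [HasRingHomProperty.iff_appLE (P := @Flat)]
  intro U V e
  have hVa : IsAffineOpen (a ⁻¹ᵁ V.1) := V.2.preimage a
  have hVb : IsAffineOpen (b ⁻¹ᵁ V.1) := V.2.preimage b
  have hVi : IsAffineOpen (i ⁻¹ᵁ a ⁻¹ᵁ V.1) := hVa.preimage i
  have hO : i ⁻¹ᵁ a ⁻¹ᵁ V.1 = j ⁻¹ᵁ b ⁻¹ᵁ V.1 := by
    rw [← Scheme.Hom.comp_preimage, ← Scheme.Hom.comp_preimage, hw]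
  have e1 : s.appLE U V e ≫ a.appLE V (a ⁻¹ᵁ V.1) le_rfl = (a ≫ s).appLE U (a ⁻¹ᵁ V.1)
      (fun x hx => e hx) := Scheme.Hom.appLE_comp_appLE _ _ _ _ _ _ _
  have e2 : s.appLE U V e ≫ b.appLE V (b ⁻¹ᵁ V.1) le_rfl = (b ≫ s).appLE U (b ⁻¹ᵁ V.1)
      (fun x hx => e hx) := Scheme.Hom.appLE_comp_appLE _ _ _ _ _ _ _
  have e3 : a.appLE V (a ⁻¹ᵁ V.1) le_rfl ≫ i.appLE (a ⁻¹ᵁ V.1) (i ⁻¹ᵁ a ⁻¹ᵁ V.1) le_rfl =
      (i ≫ a).appLE V (i ⁻¹ᵁ a ⁻¹ᵁ V.1) le_rfl := Scheme.Hom.appLE_comp_appLE _ _ _ _ _ _ _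
  have e4 : b.appLE V (b ⁻¹ᵁ V.1) le_rfl ≫ j.appLE (b ⁻¹ᵁ V.1) (i ⁻¹ᵁ a ⁻¹ᵁ V.1) hO.le =
      (j ≫ b).appLE V (i ⁻¹ᵁ a ⁻¹ᵁ V.1) hO.le := Scheme.Hom.appLE_comp_appLE _ _ _ _ _ _ _
  have e5 : s.appLE U V e ≫ (i ≫ a).appLE V (i ⁻¹ᵁ a ⁻¹ᵁ V.1) le_rfl =
      (i ≫ a ≫ s).appLE U (i ⁻¹ᵁ a ⁻¹ᵁ V.1) (fun x hx => e hx) := by
    refine (Scheme.Hom.appLE_comp_appLE (i ≫ a) s U.1 V.1 (i ⁻¹ᵁ a ⁻¹ᵁ V.1) e le_rfl).trans ?_
    simp only [Category.assoc]
  have hmil := h.mil V.1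
  have ea : a.appLE V (a ⁻¹ᵁ V.1) le_rfl = a.app V.1 := (Scheme.Hom.app_eq_appLE _).symm
  have eb : b.appLE V (b ⁻¹ᵁ V.1) le_rfl = b.app V.1 := (Scheme.Hom.app_eq_appLE _).symm
  refine flat_of_mil_ring (s.appLE U V e).hom (a.appLE V (a ⁻¹ᵁ V.1) le_rfl).hom
    (b.appLE V (b ⁻¹ᵁ V.1) le_rfl).hom (i.appLE (a ⁻¹ᵁ V.1) (i ⁻¹ᵁ a ⁻¹ᵁ V.1) le_rfl).hom
    (j.appLE (b ⁻¹ᵁ V.1) (i ⁻¹ᵁ a ⁻¹ᵁ V.1) hO.le).hom ?_ ?_ ?_ ?_ ?_ ?_ ?_
  · intro x
    have : a.appLE V (a ⁻¹ᵁ V.1) le_rfl ≫ i.appLE (a ⁻¹ᵁ V.1) (i ⁻¹ᵁ a ⁻¹ᵁ V.1) le_rfl =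
        b.appLE V (b ⁻¹ᵁ V.1) le_rfl ≫ j.appLE (b ⁻¹ᵁ V.1) (i ⁻¹ᵁ a ⁻¹ᵁ V.1) hO.le := by
      rw [e3, e4]
      congr 1
    exact congr($this x)
  · have := i.app_surjective (a ⁻¹ᵁ V.1) hVa
    rw [Scheme.Hom.app_eq_appLE] at this
    exact this
  · intro s' t' hst
    obtain ⟨r, h1, h2⟩ := hmil.1 s' t' _ rfl hO hst
    exact ⟨r, by rw [ea]; exact h1, by rw [eb]; exact h2⟩
  · intro r r' h1 h2
    rw [ea] at h1
    rw [eb] at h2
    exact hmil.2 r r' h1 h2
  · rw [← CommRingCat.hom_comp, e1]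
    exact HasRingHomProperty.appLE @Flat (a ≫ s) inferInstance U ⟨_, hVa⟩ _
  · rw [← CommRingCat.hom_comp, e2]
    exact HasRingHomProperty.appLE @Flat (b ≫ s) inferInstance U ⟨_, hVb⟩ _
  · rw [← CommRingCat.hom_comp, ← CommRingCat.hom_comp, e3, e5]
    exact HasRingHomProperty.appLE @Flat (i ≫ a ≫ s) hZ U ⟨_, hVi⟩ _

/-- Let S be a scheme, i : Y → X a closed immersion and h : Y → Y' a finite flat surjective morphism,
everything over S with X and Y' flat over S, and let the square (i, h, q : X → P, j : Y' → P) be a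
pushout of schemes with q affine, P carrying the induced morphism to S. Then P is flat over S and
the pushout commutes with base change: for T → S, with P_T, X_T, Y'_T, Y_T the fibre products and
i_T, h_T, q_T, j_T the induced morphisms, the square (i_T, h_T, q_T, j_T) is a pushout of schemes.
(The published statement assumes Y → Y' only finite flat and asserts that the pushout exists in the
category of schemes; its proof uses that Y → Y' is surjective and that X → P is affine, P being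
built affine-locally as the spectrum of the fibre product of rings O(Y') ×_O(Y) O(X). This row
assumes Y → Y' surjective, takes a pushout of schemes with X → P affine as given — then every fibre
of Y → Y' lies in an affine open of X and P is that affine-local pushout — and asserts neither
existence nor the properness and finite presentation of P for X, Y' proper and finitely presented,
which the published lemma also states.) -/
theorem result
    {S X Y Y' P T XT YT Y'T PT : Scheme.{u}}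
    (i : Y ⟶ X) [IsClosedImmersion i] (h : Y ⟶ Y') [IsFinite h] [Flat h] [Surjective h]
    (q : X ⟶ P) [IsAffineHom q] (j : Y' ⟶ P) (hP : IsPushout i h q j)
    (sP : P ⟶ S) [Flat (q ≫ sP)] [Flat (j ≫ sP)] (g : T ⟶ S)
    (pP : PT ⟶ P) (sPT : PT ⟶ T) (hPT : IsPullback pP sPT sP g)
    (pX : XT ⟶ X) (qT : XT ⟶ PT) (hXT : IsPullback pX qT q pP)
    (pY' : Y'T ⟶ Y') (jT : Y'T ⟶ PT) (hY'T : IsPullback pY' jT j pP)
    (pY : YT ⟶ Y) (iT : YT ⟶ XT) (hYT : IsPullback pY iT i pX)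
    (hT : YT ⟶ Y'T) (hhT₁ : hT ≫ pY' = pY ≫ h) (hhT₂ : hT ≫ jT = iT ≫ qT) :
    Flat sP ∧ IsPushout iT hT qT jT := by
  have H : ∀ y : Y', ∃ (U : X.Opens) (V : Y'.Opens), IsAffineOpen U ∧ IsAffineOpen V ∧ y ∈ V ∧
      i ⁻¹ᵁ U = h ⁻¹ᵁ V := by
    refine Groth.Agent.S1442.result i h ?_
    intro y
    obtain ⟨O, hO, hyO, -⟩ := exists_isAffineOpen_mem_and_subset (x := j y) (U := ⊤) trivial
    refine ⟨q ⁻¹ᵁ O, hO.preimage q, ?_⟩
    intro z hz
    change q (i z) ∈ O
    have : q (i z) = j y := by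
      rw [← Scheme.Hom.comp_apply, hP.w, Scheme.Hom.comp_apply]
      exact congrArg j hz
    rw [this]
    exact hyO
  have hgl := K263.PushChar.isGlued_of_isPushout H hP
  have hj : IsClosedImmersion j := hgl.isClosedImmersion_b
  have hfl : Flat (i ≫ q ≫ sP) := by
    rw [← Category.assoc, hP.w, Category.assoc]
    infer_instance
  refine ⟨flat_of_isGlued hgl sP hfl, ?_⟩
  have hX := hXT.paste_vert hPT
  have hY' := hY'T.paste_vert hPT
  have hY := hYT.paste_vert hX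
  exact K263.PushBC.isPushout_baseChange hP sP g (Or.inl hfl) hPT hX hY' hY hYT.w.symm rfl
    hhT₁ (by rw [← Category.assoc, hhT₂, Category.assoc]) hXT.w.symm rfl hY'T.w.symm rfl

end Groth.Agent.S14098
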