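import Groth.Statements.S14100
import Groth.Agent.S3731

set_option autoImplicit false
universe w v u
open DCoh

namespace Groth.Agent.S14100

open CategoryTheory in
/-- Let C be an abelian category, a an integer and n a natural number, and let K_0 → K_1 → ⋯ → K_{n+1}
be composable morphisms in the derived category of C such that each K_i has cohomology concentrated
in degrees a, …, a+n and each map K_i → K_{i+1} induces zero on every cohomology object. Then the
composite K_0 → K_{n+1} is zero. (The chain is given as a functor from the ordered set of natural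
numbers; only its values on 0, …, n+1 matter.) -/
theorem result
    (C : Type u) [Category.{v} C] [Abelian C] [HasDerivedCategory.{w} C]
    (a : ℤ) (n : ℕ) (K : ℕ ⥤ DerivedCategory C)
    (hGE : ∀ i : ℕ, i ≤ n + 1 → (K.obj i).IsGE a)
    (hLE : ∀ i : ℕ, i ≤ n + 1 → (K.obj i).IsLE (a + n))
    (hzero : ∀ i : ℕ, i ≤ n → ∀ q : ℤ,
      (DerivedCategory.homologyFunctor C q).map (K.map (homOfLE (Nat.le_succ i))) = 0) :
    K.map (homOfLE (Nat.zero_le (n + 1))) = 0 := by
  have key : ∀ (j : ℕ) (hj : j ≤ n + 1), ∃ (X' : DerivedCategory C)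
      (_ : X'.IsLE (a + n - j)) (f : K.obj 0 ⟶ X') (g : X' ⟶ K.obj j),
      K.map (homOfLE (Nat.zero_le j)) = f ≫ g := by
    intro j
    induction j with
    | zero =>
      intro hj
      refine ⟨K.obj 0, ?_, 𝟙 _, 𝟙 _, ?_⟩
      · have := hLE 0 (by omega)
        simpa using this
      · rw [Category.comp_id]
        exact K.map_id 0
    | succ j ih =>
      intro hj
      obtain ⟨X', hX', f, g, hfg⟩ := ih (by omega)
      obtain ⟨X'', hX'', f', g', hfg'⟩ := Groth.Agent.S3731.exists_factor (a + n - j)
        (a + n - (j + 1 : ℕ)) (by push_cast; omega) (g ≫ K.map (homOfLE (Nat.le_succ j))) hX' (by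
          rw [Functor.map_comp, hzero j (by omega), Limits.comp_zero])
      refine ⟨X'', hX'', f ≫ f', g', ?_⟩
      have h1 : homOfLE (Nat.zero_le (j + 1)) = homOfLE (Nat.zero_le j) ≫ homOfLE (Nat.le_succ j) := rfl
      rw [h1, K.map_comp, hfg, Category.assoc, hfg', Category.assoc]
  obtain ⟨X', hX', f, g, hfg⟩ := key (n + 1) le_rfl
  have hG := hGE (n + 1) le_rfl
  have hg : g = 0 := DerivedCategory.TStructure.t.zero_of_isLE_of_isGE g (a + n - (n + 1 : ℕ)) a
    (by push_cast; omega) hX' hG
  rw [hfg, hg, Limits.comp_zero]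

end Groth.Agent.S14100
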