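import Groth.Statements.S14101
import Groth.Agent.FlatB.GenFibRed
import Mathlib.RingTheory.TensorProduct.Quotient
import Mathlib.RingTheory.Localization.BaseChange
import Mathlib.RingTheory.LocalProperties.Reduced
import Mathlib.RingTheory.Int.Basic
import Mathlib.RingTheory.PrincipalIdealDomain
import Mathlib.Algebra.EuclideanDomain.Int
-- import your own Groth.Agent.* helpers here

set_option autoImplicit false
universe u
open CAlg

namespace Groth.Agent.S14101

open TensorProduct

theorem exists_bound (Z : Type u) [CommRing Z] [IsDomain Z] [CharZero Z] (A : Type u) [CommRing A] [Algebra Z A]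
    [Algebra.FiniteType Z A] [IsReduced A] :
    ∃ a : Z, a ≠ 0 ∧ ∀ I : Ideal Z, I.IsMaximal → a ∉ I → IsReduced (A ⧸ I.map (algebraMap Z A)) := by
  have h1 : IsLocalization (Algebra.algebraMapSubmonoid A (nonZeroDivisors Z)) (A ⊗[Z] FractionRing Z) :=
    inferInstance
  have h2' : IsReduced (A ⊗[Z] FractionRing Z) :=
    isReduced_localizationPreserves (Algebra.algebraMapSubmonoid A (nonZeroDivisors Z)) _ inferInstance
  have h2 : IsReduced (FractionRing Z ⊗[Z] A) :=
    isReduced_of_injective (Algebra.TensorProduct.comm Z (FractionRing Z) A)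
      (Algebra.TensorProduct.comm Z (FractionRing Z) A).injective
  have h3 : CharZero (FractionRing Z) := IsFractionRing.charZero Z
  obtain ⟨a, ha, h⟩ := Groth.Agent.FlatB.GenFibRed.exists_isReduced (A := Z) A (FractionRing Z)
    (IsFractionRing.injective Z (FractionRing Z))
  refine ⟨a, ha, fun I hI haI => ?_⟩
  let _ : Field (Z ⧸ I) := Ideal.Quotient.field I
  have h4 : IsReduced ((Z ⧸ I) ⊗[Z] A) := h (Z ⧸ I) (by
    rw [Ideal.Quotient.algebraMap_eq, Ne, Ideal.Quotient.eq_zero_iff_mem]
    exact haI)
  let e := Algebra.TensorProduct.quotIdealMapEquivQuotTensor A I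
  exact isReduced_of_injective e e.injective

/-- Affine form — let A be a reduced commutative ring of finite type over ℤ. Then for all but finitely
many prime numbers p the reduction A/pA is reduced. (The published statement is for a reduced scheme
of finite type over ℤ; such a scheme has a finite affine open cover, so the affine form carries the
same content.) -/
theorem result
    (A : Type u) [CommRing A] [Algebra.FiniteType ℤ A] [IsReduced A] :
    {p : ℕ | p.Prime ∧ ¬ IsReduced (A ⧸ Ideal.span {(p : A)})}.Finite := by
  let Z := ULift.{u} ℤ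
  let _ : Algebra Z A := ULift.algebra' ℤ A
  have : IsScalarTower ℤ Z A := ⟨fun m z a => by
    change (m • z.down) • a = m • (z.down • a)
    exact smul_assoc m z.down a⟩
  have : Algebra.FiniteType Z A := Algebra.FiniteType.of_restrictScalars_finiteType ℤ Z A
  let e : Z ≃+* ℤ := ULift.ringEquiv
  have : IsDomain Z := e.toMulEquiv.isDomain
  have : CharZero Z := ⟨fun m n h => by
    have h' := congrArg e h
    rw [map_natCast, map_natCast] at h'
    exact_mod_cast h'⟩
  obtain ⟨a, ha, h⟩ := exists_bound Z A
  have ha' : (e a).natAbs ≠ 0 := by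
    rw [Int.natAbs_ne_zero]
    intro h0
    exact ha (e.injective (by rw [h0, map_zero]))
  refine Set.Finite.subset (Set.finite_Iic (e a).natAbs) ?_
  rintro p ⟨hp, hnr⟩
  by_contra hpa
  apply hnr
  have hpa' : ¬ p ∣ (e a).natAbs := fun hd => hpa (Nat.le_of_dvd (Nat.pos_of_ne_zero ha') hd)
  have hmax : (Ideal.span {((p : ℕ) : Z)}).IsMaximal := by
    have h1 : (Ideal.span {((p : ℕ) : ℤ)}).IsMaximal :=
      PrincipalIdealRing.isMaximal_of_irreducible (Nat.prime_iff_prime_int.mp hp).irreducible
    have h2 := Ideal.map_isMaximal_of_equiv e.symm (p := Ideal.span {((p : ℕ) : ℤ)})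
    rwa [Ideal.map_span, Set.image_singleton, map_natCast] at h2
  have h1 := h (Ideal.span {((p : ℕ) : Z)}) hmax (by
    rw [Ideal.mem_span_singleton]
    rintro ⟨c, hc⟩
    apply hpa'
    have h3 := congrArg e hc
    rw [map_mul, map_natCast] at h3
    rw [← Int.natCast_dvd]
    exact ⟨e c, h3⟩)
  have h2 : (Ideal.span {((p : ℕ) : Z)}).map (algebraMap Z A) = Ideal.span {(p : A)} := by
    rw [Ideal.map_span, Set.image_singleton, map_natCast]
  rw [h2] at h1
  exact h1

end Groth.Agent.S14101
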