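import Groth.Statements.S14109
import Groth.Agent.CInt.K139.FibDim

set_option autoImplicit false
universe u
open CategoryTheory CategoryTheory.Limits AlgebraicGeometry Opposite TopologicalSpace
open CInt

namespace Groth.Agent.S14109

/-- Let f : X → S and g : X' → X be morphisms of locally Noetherian schemes with g surjective, Y a
closed subset of X and Y' its preimage under g. Then the codimension of Y' relative to the composite
X' → S (the infimum over y' ∈ Y' of the Krull dimension of the local ring at y' of the fibre of that
composite through y') is at most the codimension of Y relative to f (the same infimum over y ∈ Y for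
the fibres of f). -/
theorem result {X X' S : Scheme.{u}} [IsLocallyNoetherian X]
    [IsLocallyNoetherian X'] [IsLocallyNoetherian S] (f : X ⟶ S) (g : X' ⟶ X) [Surjective g]
    (Y : Set ↥X) (hY : IsClosed Y) :
    (⨅ y' : (fun x' => g x') ⁻¹' Y, ringKrullDim ↑(CInt.fiberStalk (g ≫ f) y'.1)) ≤
      ⨅ y : Y, ringKrullDim ↑(CInt.fiberStalk f y.1) := by
  refine le_iInf (fun y => ?_)
  obtain ⟨x₀, hx₀⟩ := Surjective.surj (f := g) y.1
  obtain ⟨x, -, hx, hdim⟩ := K139.FibDim.exists_generization_fiberStalk g x₀
  have hxy : g x = y.1 := hx.trans hx₀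
  refine (iInf_le _ (⟨x, by change g x ∈ Y; rw [hxy]; exact y.2⟩ : (fun x' => g x') ⁻¹' Y)).trans ?_
  have h := K139.FibDim.dim_fiberStalk_comp_le g f x
  rw [hdim, add_zero] at h
  obtain ⟨y, hy⟩ := y
  change g x = y at hxy
  subst hxy
  exact h

end Groth.Agent.S14109
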