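import Groth.Statements.S14116
import Groth.Agent.LocCohZ.K288.DepthGen
import Groth.Agent.LocCohZ.K288.TopSh
import Groth.Agent.QGor.K966.DualPres
import Groth.Agent.PerfA.CohSerre

set_option autoImplicit false
universe u
open CategoryTheory CategoryTheory.Limits AlgebraicGeometry Opposite TopologicalSpace
open LocCohZ

namespace Groth.Agent.S14116

theorem le_depth_of_free {R : Type u} [CommRing R] [IsLocalRing R] [IsNoetherianRing R] (M : Type u) [AddCommGroup M]
    [Module R M] [Module.Finite R M] [Module.Free R M] : LocCoh.depth R R ≤ LocCoh.depth R M := by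
  have e : M ≃ₗ[R] (Fin (Module.finrank R M) → R) := (Module.finBasis R M).equivFun
  have h1 := K966.DualPres.le_idealDepth_pi (IsLocalRing.maximalIdeal R) R (Module.finrank R M)
  rw [Groth.Agent.S2938.idealDepth_congr _ e.symm] at h1
  exact h1

/-- Let X be a locally Noetherian scheme, U ⊆ X open with closed complement Y, d a natural number such
that the depth of O_X along Y is at least d (every local ring O_{X,y}, y ∈ Y, has depth at least d),
and M a finite locally free O_X-module. Then Γ(X, ℋ^d_Y(M)) is isomorphic to H^d_Y(X, M), where
ℋ^d_Y is the d-th right derived functor of the sheaf of sections with support in Y (applied to the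
underlying abelian sheaf of M) and H^d_Y(X, M) is cohomology with support in Y. Existence of an
additive isomorphism only; the published statement asserts a canonical functorial isomorphism that
is linear over the global functions Γ(X, O_X) (obtained in its proof as the edge map of the
local-to-global spectral sequence), and adds that U ↦ H^d_{Y∩U}(U, M), U ⊆ X open, is a sheaf; none
of this is part of this row. (The published statement assumes a flat morphism X → S with
Cohen–Macaulay fibres and relative codimension of Y at least d; these enter only through the depth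
bound, which is the hypothesis of this row.) -/
theorem result (X : Scheme.{u}) [IsLocallyNoetherian X]
    (U : X.Opens) (d : ℕ)
    (hdepth : ∀ x : ↥X, x ∉ (U : Set ↥X) → (d : ℕ∞) ≤ LocCoh.depth ↑(X.presheaf.stalk x) ↑(X.presheaf.stalk x))
    (M : X.Modules) (hM : FlatMod.IsFinLocFree M) :
    Nonempty (↑(((LocCohZ.HZsh (X := X.carrier) U d).obj (Coh.toAb M)).obj.obj (op ⊤)) ≃+ LocCohZ.HZM X M d U) := by
  have hc : Coh.IsCoh M := Groth.Agent.PerfA.CohSerre.isCoh_of_isFinLocFree hM
  have h1 : ∀ x : X, x ∉ U → (d : ℕ∞) ≤ LocCoh.depth (X.presheaf.stalk x) (M.presheaf.stalk x) := fun x hx => by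
    obtain ⟨h2, h3⟩ := Groth.Agent.Divis.StalkMod.finite_free_stalk hc.1 hM x
    exact (hdepth x hx).trans (le_depth_of_free (R := X.presheaf.stalk x) (M.presheaf.stalk x))
  exact K288.TopSh.nonempty_global (X := X.toTopCat) U (Coh.toAb M) d ((K288.DepthGen.main M hc U d).2 h1)

end Groth.Agent.S14116
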