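import Groth.Statements.S14119
import Groth.Agent.BlowUp.K484.StalkAux
import Groth.Agent.BlowUp.K484.IrrEquidim
import Groth.Agent.Divis.CartierDim

set_option autoImplicit false
universe u
open CategoryTheory CategoryTheory.Limits AlgebraicGeometry Opposite TopologicalSpace
open BlowUp

namespace Groth.Agent.S14119

/-- Let X be a locally Noetherian scheme, Y an effective Cartier divisor on X (a quasi-coherent ideal
sheaf which, near every point, is generated on some affine open by one nonzerodivisor; Y is its
support) and Z a closed integral subscheme (a closed immersion i from an integral scheme with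
generic point ξ). Assume X irreducible with all local rings catenary (the first of the two printed
sufficient conditions), and assume that the inverse image ideal sheaf of Y on Z is the ideal of an
effective Cartier divisor on Z. Then Y and Z intersect properly: every point ζ of Y ∩ Z that is
maximal under generization inside Y ∩ Z satisfies dim O_{X,ζ} = codim(Y,X) + codim(Z,X), where
codim(Y,X) is the infimum over y ∈ Y of dim O_{X,y} and codim(Z,X) = dim O_{X,i(ξ)}. (The published
statement also has a second sufficient condition, X biequidimensional, and a fourth equivalent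
condition, vanishing of the higher Tor sheaves of O_Y against O_Z; neither is included in this row.) -/
theorem result {X Z : Scheme.{u}}
    [IsLocallyNoetherian X] [IrreducibleSpace ↥X] (hcat : ∀ x : ↥X, CAlg.IsCatenary ↑(X.presheaf.stalk x))
    (𝓘 : X.IdealSheafData) (hY : BlowUp.IsEffCartierIdeal 𝓘)
    (i : Z ⟶ X) [IsClosedImmersion i] [IsIntegral Z] (hc : BlowUp.IsEffCartierIdeal (𝓘.comap i)) :
    (∀ ζ : ↥X, ζ ∈ (𝓘.support : Set ↥X) ∩ Set.range i.base →
        (∀ ζ' : ↥X, ζ' ∈ (𝓘.support : Set ↥X) ∩ Set.range i.base → ζ' ⤳ ζ → ζ' = ζ) →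
        ringKrullDim ↑(X.presheaf.stalk ζ) =
          (⨅ y : (𝓘.support : Set ↥X), ringKrullDim ↑(X.presheaf.stalk y.1)) +
            ringKrullDim ↑(X.presheaf.stalk (i (genericPoint ↥Z)))) := by
  open Groth.Agent.Divis.CartierBasic Groth.Agent.Divis.CartierDim Groth.Agent.Divis.StalkPrime
    Groth.Agent.CycB.LocQuot K484.IrrEquidim in
  rintro ζ ⟨hζ, ⟨z, hz⟩⟩ hmax
  change i z = ζ at hz
  subst hz
  have hN : IsNoetherianRing (X.presheaf.stalk (i z)) := inferInstance
  have hZN : IsLocallyNoetherian Z := LocallyOfFiniteType.isLocallyNoetherian i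
  have hNz : IsNoetherianRing (Z.presheaf.stalk z) := inferInstance
  -- the dimension of the local ring of Z
  have hzs : z ∈ ((𝓘.comap i).support : Set Z) := (K484.StalkAux.mem_support_comap_iff 𝓘 i z).2 hζ
  have hdimz : ringKrullDim (Z.presheaf.stalk z) = 1 := by
    obtain ⟨g, hg, hgE⟩ := exists_stalkIdeal_eq_span hc z
    apply le_antisymm
    · refine ringKrullDim_stalk_le_one (𝓘.comap i) z hzs ?_ g hgE
      intro y hy hyz
      have h1 : i y ∈ (𝓘.support : Set ↥X) := (K484.StalkAux.mem_support_comap_iff 𝓘 i y).1 hy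
      have h2 := hmax (i y) ⟨h1, ⟨y, rfl⟩⟩ (hyz.map i.continuous)
      exact i.isEmbedding.injective h2
    · refine one_le_ringKrullDim_of_nzd g hg ?_
      apply (mem_support_iff_stalkIdeal_le (𝓘.comap i) z).1 hzs
      rw [hgE]; exact Ideal.mem_span_singleton_self g
  -- the codimension of Y
  have hinf : (⨅ y : (𝓘.support : Set ↥X), ringKrullDim ↑(X.presheaf.stalk y.1)) = 1 := by
    apply le_antisymm
    · obtain ⟨g, hg, hgE⟩ := exists_stalkIdeal_eq_span hY (i z)
      have hle := (mem_support_iff_stalkIdeal_le 𝓘 (i z)).1 hζ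
      obtain ⟨q, hq, hqm⟩ := Ideal.exists_minimalPrimes_le hle
      have hqp : q.IsPrime := hq.1.1
      have hpr : (stalkIdeal 𝓘 (i z)).IsPrincipal := ⟨g, hgE⟩
      have h2 := Ideal.height_le_one_of_isPrincipal_of_mem_minimalPrimes _ _ hq
      have h3 : ptOf (⟨q, hqp⟩ : PrimeSpectrum (X.presheaf.stalk (i z))) ∈ 𝓘.support := by
        rw [ptOf, fromSpecStalk_mem_support_iff]
        exact hq.1.2
      refine (iInf_le _ ⟨_, h3⟩).trans ?_
      change ringKrullDim (X.presheaf.stalk (ptOf ⟨q, hqp⟩)) ≤ 1
      rw [height_eq]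
      exact_mod_cast h2
    · refine le_iInf fun y => ?_
      obtain ⟨g, hg, hgE⟩ := exists_stalkIdeal_eq_span hY y.1
      refine one_le_ringKrullDim_of_nzd g hg ?_
      apply (mem_support_iff_stalkIdeal_le 𝓘 y.1).1 y.2
      rw [hgE]; exact Ideal.mem_span_singleton_self g
  have hformula := Groth.Agent.Ega4A.CatenaryDim.height_add_ringKrullDim_quotient (hcat (i z))
    (isEquidim_stalk (i z)) (RingHom.ker (i.stalkMap z).hom) (hq := RingHom.ker_isPrime _)
  have h1 : ringKrullDim (X.presheaf.stalk (i (genericPoint ↥Z))) =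
      (RingHom.ker (i.stalkMap z).hom).height := by
    rw [← ptOf_ker i z, height_eq]
  have h2 : ringKrullDim (X.presheaf.stalk (i z) ⧸ RingHom.ker (i.stalkMap z).hom) = 1 := by
    rw [← hdimz]
    exact ringKrullDim_eq_of_ringEquiv
      (RingHom.quotientKerEquivOfSurjective (i.stalkMap_surjective z))
  rw [← hformula, h2, h1, hinf, add_comm]

end Groth.Agent.S14119
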