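import Groth.Statements.S14122
import Mathlib.LinearAlgebra.FreeModule.PID
import Mathlib.LinearAlgebra.Matrix.ToLin
import Mathlib.LinearAlgebra.Matrix.Basis
import Mathlib.RingTheory.Localization.Module
import Mathlib.GroupTheory.OrderOfElement
import Mathlib.LinearAlgebra.Matrix.GeneralLinearGroup.Defs
import Mathlib.RingTheory.LocalRing.RingHom.Basic
-- import your own Groth.Agent.* helpers here

set_option autoImplicit false
universe u
open ValCrit

namespace Groth.Agent.S14122

section Lattice

variable {R : Type u} [CommRing R] [IsDomain R] [IsPrincipalIdealRing R]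
    {K : Type u} [Field K] [Algebra R K] [IsFractionRing R K]
    {N : ℕ} (g : GL (Fin N) K)

/-- The set of all translates of the standard basis vectors. -/
def gens : Set (Fin N → K) :=
  Set.range (fun p : (Subgroup.zpowers g) × Fin N => Matrix.toLin' (p.1 : GL (Fin N) K).1 (Pi.single p.2 1))

variable (R) in
/-- The lattice they span. -/
def lat : Submodule R (Fin N → K) := Submodule.span R (gens g)

omit [IsDomain R] [IsPrincipalIdealRing R] [IsFractionRing R K] in
theorem lat_fg (hg : IsOfFinOrder g) : (lat R g).FG := by
  have : Finite (Subgroup.zpowers g) := Set.finite_coe_iff.mpr (by simpa using hg)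
  exact Submodule.fg_span (Set.finite_range _)

omit [IsDomain R] [IsPrincipalIdealRing R] [IsFractionRing R K] in
theorem lat_stable (x : GL (Fin N) K) (hx : x ∈ Subgroup.zpowers g) {v : Fin N → K} (hv : v ∈ lat R g) :
    Matrix.toLin' x.1 v ∈ lat R g := by
  have h : Submodule.map ((Matrix.toLin' x.1).restrictScalars R) (lat R g) ≤ lat R g := by
    rw [lat, Submodule.map_span, Submodule.span_le]
    rintro _ ⟨_, ⟨⟨⟨y, hy⟩, i⟩, rfl⟩, rfl⟩
    refine Submodule.subset_span ⟨⟨⟨x * y, mul_mem hx hy⟩, i⟩, ?_⟩
    show Matrix.toLin' (x * y).1 (Pi.single i 1) = Matrix.toLin' x.1 (Matrix.toLin' y.1 (Pi.single i 1))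
    rw [Units.val_mul, Matrix.toLin'_mul, LinearMap.comp_apply]
  exact h ⟨v, hv, rfl⟩

omit [IsDomain R] [IsPrincipalIdealRing R] [IsFractionRing R K] in
theorem single_mem_lat (i : Fin N) : (Pi.single i 1 : Fin N → K) ∈ lat R g :=
  Submodule.subset_span ⟨⟨1, i⟩, by simp⟩

theorem exists_basis (hg : IsOfFinOrder g) :
    ∃ e : Module.Basis (Fin N) K (Fin N → K),
      ∀ x ∈ Subgroup.zpowers g, ∀ i j, ∃ r : R, algebraMap R K r = e.repr (Matrix.toLin' x.1 (e j)) i := by
  have hfin : Module.Finite R (lat R g) := Module.Finite.iff_fg.mpr (lat_fg g hg)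
  have htf : Module.IsTorsionFree R (lat R g) := inferInstance
  let ι := Module.Free.ChooseBasisIndex R (lat R g)
  let b : Module.Basis ι R (lat R g) := Module.Free.chooseBasis R (lat R g)
  let v : ι → (Fin N → K) := fun i => (b i : Fin N → K)
  have hli : LinearIndependent R v :=
    b.linearIndependent.map' (lat R g).subtype (Submodule.ker_subtype _)
  have hliK : LinearIndependent K v := (LinearIndependent.iff_fractionRing R K).mp hli
  have hmem : ∀ w ∈ lat R g, w ∈ Submodule.span K (Set.range v) := by
    intro w hw
    have h1 := b.sum_repr ⟨w, hw⟩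
    have h2 : w = ∑ i, (b.repr ⟨w, hw⟩ i) • v i := by
      have := congrArg (Subtype.val) h1
      simp only [Submodule.coe_sum, Submodule.coe_smul] at this
      exact this.symm
    rw [h2]
    refine Submodule.sum_mem _ fun i _ => ?_
    rw [← algebraMap_smul K]
    exact Submodule.smul_mem _ _ (Submodule.subset_span ⟨i, rfl⟩)
  have hspan : ⊤ ≤ Submodule.span K (Set.range v) := by
    intro w _
    rw [pi_eq_sum_univ' w]
    refine Submodule.sum_mem _ fun i _ => Submodule.smul_mem _ _ (hmem _ ?_)
    have := single_mem_lat (R := R) g i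
    convert this using 1
  let e0 : Module.Basis ι K (Fin N → K) := Module.Basis.mk hliK hspan
  let eq : ι ≃ Fin N := e0.indexEquiv (Pi.basisFun K (Fin N))
  have hrepr : ∀ (w : Fin N → K) (hw : w ∈ lat R g) (i : ι),
      algebraMap R K (b.repr ⟨w, hw⟩ i) = e0.repr w i := by
    intro w hw i
    have h1 := b.sum_repr ⟨w, hw⟩
    have h2 : ∑ i, (algebraMap R K (b.repr ⟨w, hw⟩ i)) • e0 i = w := by
      have := congrArg (Subtype.val) h1
      simp only [Submodule.coe_sum, Submodule.coe_smul] at this
      refine Eq.trans ?_ this
      refine Finset.sum_congr rfl fun i _ => ?_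
      rw [algebraMap_smul]
      simp [e0, v]
    have h3 := congrArg (fun z => e0.repr z i) h2
    simp only [Module.Basis.repr_sum_self] at h3
    exact h3
  refine ⟨e0.reindex eq, fun x hx i j => ?_⟩
  have hej : (e0.reindex eq) j = v (eq.symm j) := by simp [e0]
  have hw : Matrix.toLin' x.1 (v (eq.symm j)) ∈ lat R g := lat_stable g x hx (b (eq.symm j)).2
  refine ⟨b.repr ⟨_, hw⟩ (eq.symm i), ?_⟩
  rw [hej, Module.Basis.repr_reindex_apply, hrepr]

end Lattice

/-- Let `R` be a discrete valuation ring with fraction field `K` and `g ∈ GL_N(K)` an element of finite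
order. Then after passing to a finite extension `K'` of `K` and a discrete valuation ring `R'` of
`K'` dominating `R`, the element `g` becomes conjugate in `GL_N(K')` to an element of `GL_N(R')`.
(The published statement is that the classifying stack of `GL_N` over the integers satisfies a
valuative condition, for discrete valuation rings essentially of finite type over the integers, on
extending finite-order generic automorphisms along nearby modifications; since vector bundles over a
discrete valuation ring are trivial, that condition is this conjugacy statement for such rings, and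
this row states it for every discrete valuation ring, as the printed argument gives.) -/
theorem result
    (R : Type u) [CommRing R] [IsDomain R] [IsDiscreteValuationRing R]
    (K : Type u) [Field K] [Algebra R K] [IsFractionRing R K]
    (N : ℕ) (g : GL (Fin N) K) (hg : IsOfFinOrder g) :
    ∃ (R' : Type u) (_ : CommRing R') (_ : IsDomain R') (_ : IsDiscreteValuationRing R')
      (K' : Type u) (_ : Field K') (_ : Algebra R' K') (_ : IsFractionRing R' K')
      (_ : Algebra R R') (_ : Algebra K K') (_ : Algebra R K')
      (_ : IsScalarTower R R' K') (_ : IsScalarTower R K K')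
      (_ : Module.Finite K K') (_ : IsLocalHom (algebraMap R R'))
      (h : GL (Fin N) K') (g' : GL (Fin N) R'),
      h * Matrix.GeneralLinearGroup.map (algebraMap K K') g * h⁻¹ =
        Matrix.GeneralLinearGroup.map (algebraMap R' K') g' := by
  obtain ⟨e, he⟩ := exists_basis (R := R) g hg
  choose r hr using he g (Subgroup.mem_zpowers g)
  choose s hs using he g⁻¹ (inv_mem (Subgroup.mem_zpowers g))
  let P : Matrix (Fin N) (Fin N) K := e.toMatrix (Pi.basisFun K (Fin N))
  let Q : Matrix (Fin N) (Fin N) K := (Pi.basisFun K (Fin N)).toMatrix e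
  have hPQ : P * Q = 1 := Module.Basis.toMatrix_mul_toMatrix_flip _ _
  have hQP : Q * P = 1 := Module.Basis.toMatrix_mul_toMatrix_flip _ _
  have hconj : ∀ x : GL (Fin N) K, P * x.1 * Q = LinearMap.toMatrix e e (Matrix.toLin' x.1) := by
    intro x
    have := basis_toMatrix_mul_linearMap_toMatrix_mul_basis_toMatrix e (Pi.basisFun K (Fin N)) e
      (Pi.basisFun K (Fin N)) (Matrix.toLin' x.1)
    rw [← this]
    congr 2
    rw [LinearMap.toMatrix_eq_toMatrix', LinearMap.toMatrix'_toLin']
  have hmap1 : (Matrix.of r).map (algebraMap R K) = P * g.1 * Q := by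
    rw [hconj]
    ext i j
    rw [Matrix.map_apply, Matrix.of_apply, hr, LinearMap.toMatrix_apply]
  have hmap2 : (Matrix.of s).map (algebraMap R K) = P * (g⁻¹).1 * Q := by
    rw [hconj]
    ext i j
    rw [Matrix.map_apply, Matrix.of_apply, hs, LinearMap.toMatrix_apply]
  have hinj : Function.Injective (fun M : Matrix (Fin N) (Fin N) R => M.map (algebraMap R K)) :=
    Matrix.map_injective (IsFractionRing.injective R K)
  have hrs : Matrix.of r * Matrix.of s = 1 := by
    apply hinj
    simp only
    rw [Matrix.map_mul, hmap1, hmap2, Matrix.map_one _ (map_zero _) (map_one _)]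
    calc P * g.1 * Q * (P * (g⁻¹).1 * Q) = P * g.1 * (Q * P) * (g⁻¹).1 * Q := by
          simp only [Matrix.mul_assoc]
      _ = 1 := by
          rw [hQP, Matrix.mul_one, Matrix.mul_assoc P, ← Units.val_mul, mul_inv_cancel, Units.val_one,
            Matrix.mul_one, hPQ]
  have hsr : Matrix.of s * Matrix.of r = 1 := by
    apply hinj
    simp only
    rw [Matrix.map_mul, hmap1, hmap2, Matrix.map_one _ (map_zero _) (map_one _)]
    calc P * (g⁻¹).1 * Q * (P * g.1 * Q) = P * (g⁻¹).1 * (Q * P) * g.1 * Q := by
          simp only [Matrix.mul_assoc]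
      _ = 1 := by
          rw [hQP, Matrix.mul_one, Matrix.mul_assoc P, ← Units.val_mul, inv_mul_cancel, Units.val_one,
            Matrix.mul_one, hPQ]
  refine ⟨R, inferInstance, inferInstance, inferInstance, K, inferInstance, inferInstance, inferInstance,
    Algebra.id R, Algebra.id K, inferInstance, inferInstance, inferInstance, inferInstance, ?_,
    ⟨P, Q, hPQ, hQP⟩, ⟨Matrix.of r, Matrix.of s, hrs, hsr⟩, ?_⟩
  · rw [Algebra.algebraMap_self]
    infer_instance
  · apply Units.ext
    show P * (g.1.map (algebraMap K K)) * Q = (Matrix.of r).map (algebraMap R K)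
    rw [hmap1]
    congr 2

end Groth.Agent.S14122
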