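import Groth.Statements.S14123
import Groth.Agent.GmQuot.K821.Rescale
import Groth.Agent.MiscA.DVRExt
import Mathlib.FieldTheory.SplittingField.Construction
import Mathlib.Data.Rat.Cast.Order
-- import your own Groth.Agent.* helpers here

set_option autoImplicit false
universe u v
open GmQuot

namespace Groth.Agent.S14123

/-- Let `A = ⊕_{d ∈ ℤ} A_d` be a graded commutative ring whose ideal `I₊` generated by the homogeneous
elements of positive degree is finitely generated, `R` a discrete valuation ring with fraction field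
`K`, and `φ : A → R` a ring map with `φ(I₊) ≠ 0` and `φ(I₊)` inside the maximal ideal. Then after a
finite extension `K'/K` and a discrete valuation ring `R'` of `K'` dominating `R` there are a
nonzero non-unit `ϖ ∈ R'` and a ring map `g : A → R'` with `g(a) ϖ^d = φ(a)` for every homogeneous
`a` of degree `d` (so `g` is `φ` rescaled through the grading by `ϖ`), such that `g(I₊) R' = R'`.
(The published statement is phrased for the quotient stack of `Spec A` by the multiplicative group
and its closed substack cut out by `I₊`, in a setting where `A` is Noetherian, being of finite type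
over a Noetherian base: an `R`-point whose closed point lies in that substack and whose generic
point does not admits, after a finite extension, an elementary modification avoiding the substack;
this row is the graded-ring statement the printed argument proves, assuming only that `I₊` is
finitely generated, which is all that argument uses, and with `ϖ` not required to be a uniformizer.) -/
theorem result
    {A : Type u} [CommRing A] (𝒜 : ℤ → AddSubgroup A) [GradedRing 𝒜]
    (hfg : (Ideal.span {a : A | ∃ d : ℤ, 0 < d ∧ a ∈ 𝒜 d}).FG)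
    (R : Type v) [CommRing R] [IsDomain R] [IsDiscreteValuationRing R]
    (K : Type v) [Field K] [Algebra R K] [IsFractionRing R K]
    (φ : A →+* R)
    (hle : Ideal.map φ (Ideal.span {a : A | ∃ d : ℤ, 0 < d ∧ a ∈ 𝒜 d}) ≤ IsLocalRing.maximalIdeal R)
    (hne : Ideal.map φ (Ideal.span {a : A | ∃ d : ℤ, 0 < d ∧ a ∈ 𝒜 d}) ≠ ⊥) :
    ∃ (R' : Type v) (_ : CommRing R') (_ : IsDomain R') (_ : IsDiscreteValuationRing R')
      (K' : Type v) (_ : Field K') (_ : Algebra R' K') (_ : IsFractionRing R' K')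
      (_ : Algebra R R') (_ : Algebra K K') (_ : Algebra R K')
      (_ : IsScalarTower R R' K') (_ : IsScalarTower R K K')
      (_ : Module.Finite K K') (_ : IsLocalHom (algebraMap R R'))
      (ϖ : R') (g : A →+* R'),
      ϖ ≠ 0 ∧ ϖ ∈ IsLocalRing.maximalIdeal R' ∧
      (∀ (d : ℤ) (a : A), a ∈ 𝒜 d →
        algebraMap R' K' (g a) * algebraMap R' K' ϖ ^ d = algebraMap R K' (φ a)) ∧
      Ideal.map g (Ideal.span {a : A | ∃ d : ℤ, 0 < d ∧ a ∈ 𝒜 d}) = ⊤ := by
  classical
  set S : Set A := {a : A | ∃ d : ℤ, 0 < d ∧ a ∈ 𝒜 d} with hS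
  -- homogeneous generators
  obtain ⟨T, hTS, hTspan⟩ := (Submodule.fg_span_iff_fg_span_finset_subset S).mp hfg
  have hTspan' : Ideal.span S = Ideal.span (T : Set A) := hTspan
  have hdegex : ∀ t : A, ∃ d : ℤ, t ∈ T → 0 < d ∧ t ∈ 𝒜 d := by
    intro t
    by_cases ht : t ∈ T
    · obtain ⟨d, hd⟩ := hTS ht
      exact ⟨d, fun _ => hd⟩
    · exact ⟨0, fun h => absurd h ht⟩
  choose deg hdegT using hdegex
  -- the generators with nonzero image
  have hφmem : ∀ t ∈ T, φ t ∈ IsLocalRing.maximalIdeal R := fun t ht =>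
    hle (Ideal.mem_map_of_mem φ (Ideal.subset_span (hTS ht)))
  have hne' : (T.filter fun t => φ t ≠ 0).Nonempty := by
    by_contra hcon
    rw [Finset.not_nonempty_iff_eq_empty, Finset.filter_eq_empty_iff] at hcon
    refine hne ?_
    rw [hTspan', Ideal.map_span, Ideal.span_eq_bot]
    rintro _ ⟨t, ht, rfl⟩
    simpa using hcon ht
  let val : A → ℕ := fun t => (IsDiscreteValuationRing.addVal R (φ t)).toNat
  obtain ⟨t₀, ht₀, hmin⟩ := Finset.exists_min_image _ (fun t => (val t : ℚ) / (deg t : ℚ)) hne'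
  rw [Finset.mem_filter] at ht₀
  obtain ⟨ht₀T, ht₀0⟩ := ht₀
  have hd₀ : 0 < deg t₀ := (hdegT t₀ ht₀T).1
  obtain ⟨D, hD⟩ : ∃ D : ℕ, deg t₀ = D := ⟨(deg t₀).toNat, (Int.toNat_of_nonneg hd₀.le).symm⟩
  have hDpos : 0 < D := by omega
  have hdvd : ∀ t ∈ T, φ t₀ ^ (deg t).toNat ∣ φ t ^ D := by
    intro t ht
    by_cases h0 : φ t = 0
    · rw [h0, zero_pow hDpos.ne']
      exact dvd_zero _
    · have h1 := hmin t (Finset.mem_filter.mpr ⟨ht, h0⟩)
      have hdt : 0 < deg t := (hdegT t ht).1
      obtain ⟨E, hE⟩ : ∃ E : ℕ, deg t = E := ⟨(deg t).toNat, (Int.toNat_of_nonneg hdt.le).symm⟩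
      have hEpos : 0 < E := by omega
      rw [hE, hD] at h1
      have h2 : val t₀ * E ≤ val t * D := by
        have hD' : (0 : ℚ) < D := by exact_mod_cast hDpos
        have hE' : (0 : ℚ) < E := by exact_mod_cast hEpos
        rw [Int.cast_natCast, Int.cast_natCast, div_le_div_iff₀ hD' hE'] at h1
        exact_mod_cast h1
      rw [hE, Int.toNat_natCast, ← IsDiscreteValuationRing.addVal_le_iff_dvd,
        IsDiscreteValuationRing.addVal_pow, IsDiscreteValuationRing.addVal_pow]
      have e1 : IsDiscreteValuationRing.addVal R (φ t₀) = (val t₀ : ℕ∞) :=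
        (ENat.coe_toNat (fun h => ht₀0 (IsDiscreteValuationRing.addVal_eq_top_iff.mp h))).symm
      have e2 : IsDiscreteValuationRing.addVal R (φ t) = (val t : ℕ∞) :=
        (ENat.coe_toNat (fun h => h0 (IsDiscreteValuationRing.addVal_eq_top_iff.mp h))).symm
      rw [e1, e2, nsmul_eq_mul, nsmul_eq_mul]
      rw [mul_comm (E : ℕ∞), mul_comm (D : ℕ∞)]
      exact_mod_cast h2
  -- a root
  let c : K := algebraMap R K (φ t₀)
  let P : Polynomial K := Polynomial.X ^ D - Polynomial.C c
  let L := Polynomial.SplittingField P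
  have hPdeg : P.degree = D := Polynomial.degree_X_pow_sub_C hDpos c
  obtain ⟨ρ, hρ⟩ : ∃ ρ : L, ρ ^ D = algebraMap K L c := by
    have hs := Polynomial.SplittingField.splits P
    have hne0 : (P.map (algebraMap K L)).degree ≠ 0 := by
      rw [Polynomial.degree_map, hPdeg]
      exact_mod_cast hDpos.ne'
    obtain ⟨ρ, hρ⟩ := hs.exists_eval_eq_zero hne0
    refine ⟨ρ, ?_⟩
    rw [Polynomial.eval_map] at hρ
    simpa [P, sub_eq_zero] using hρ
  obtain ⟨R', _, _, _, _, _, φ', hloc, hcompat, hint⟩ :=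
    Groth.Agent.MiscA.DVRExt.exists_dvr_of_finite_extension R K L
  have hinjR' : Function.Injective (algebraMap R' L) := IsFractionRing.injective R' L
  have hinjRL : ∀ r : R, algebraMap K L (algebraMap R K r) = 0 → r = 0 := by
    intro r hr
    have h1 : algebraMap R K r = 0 := (map_eq_zero _).mp hr
    exact (IsFractionRing.injective R K) (by rw [h1, map_zero])
  have hρ0 : ρ ≠ 0 := by
    intro h
    rw [h, zero_pow hDpos.ne'] at hρ
    exact ht₀0 (hinjRL _ hρ.symm)
  have hroot : ∀ (x : L) (r : R), x ^ D = algebraMap K L (algebraMap R K r) →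
      ∃ y : R', algebraMap R' L y = x := by
    intro x r hx
    refine hint x ⟨Polynomial.X ^ D - Polynomial.C r, Polynomial.monic_X_pow_sub_C r hDpos.ne', ?_⟩
    simp [hx]
  obtain ⟨ϖ, hϖ⟩ := hroot ρ (φ t₀) hρ
  let φL : A →+* L := ((algebraMap K L).comp (algebraMap R K)).comp φ
  let O : Subring L := (algebraMap R' L).range
  have hO0 : ∀ a, φL a ∈ O := fun a => ⟨φ' (φ a), (hcompat (φ a)).symm⟩
  have hOρ : ρ ∈ O := ⟨ϖ, hϖ⟩
  have hTO : ∀ t ∈ T, φL t * ρ ^ (-(deg t)) ∈ O := by
    intro t ht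
    obtain ⟨r, hr⟩ := hdvd t ht
    have hdt : 0 < deg t := (hdegT t ht).1
    obtain ⟨E, hE⟩ : ∃ E : ℕ, deg t = E := ⟨(deg t).toNat, (Int.toNat_of_nonneg hdt.le).symm⟩
    obtain ⟨y, hy⟩ := hroot (φL t * ρ ^ (-(deg t))) r (by
      rw [hE, Int.toNat_natCast] at hr
      rw [hE, zpow_neg, zpow_natCast, mul_pow, inv_pow, ← pow_mul, mul_comm E D, pow_mul, hρ]
      have h1 : (φL t) ^ D = algebraMap K L (algebraMap R K (φ t₀)) ^ E * algebraMap K L (algebraMap R K r) := by
        have h2 : (φL t) ^ D = algebraMap K L (algebraMap R K (φ t ^ D)) := by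
          simp [φL]
        rw [h2, hr]
        simp
      rw [h1]
      have h3 : algebraMap K L (algebraMap R K (φ t₀)) ≠ 0 := fun h => ht₀0 (hinjRL _ h)
      change algebraMap K L (algebraMap R K (φ t₀)) ^ E * algebraMap K L (algebraMap R K r) *
        (algebraMap K L (algebraMap R K (φ t₀)) ^ E)⁻¹ = _
      rw [mul_right_comm, mul_inv_cancel₀ (pow_ne_zero E h3), one_mul])
    exact ⟨y, hy⟩
  have hspan : ∀ (d : ℤ) (a : A), 0 < d → a ∈ 𝒜 d → a ∈ Ideal.span (T : Set A) := by
    intro d a hd ha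
    rw [← hTspan']
    exact Ideal.subset_span ⟨d, hd, ha⟩
  have hg := K821.Rescale.rescale_mem 𝒜 φL ρ hρ0 O hO0 hOρ T deg (fun t ht => (hdegT t ht).1)
    (fun t ht => (hdegT t ht).2) hTO hspan
  -- the lift
  let e : R' ≃+* O := RingEquiv.ofBijective (algebraMap R' L).rangeRestrict
    ⟨fun x y h => hinjR' (congrArg Subtype.val h), (algebraMap R' L).rangeRestrict_surjective⟩
  let g : A →+* R' := e.symm.toRingHom.comp ((K821.Rescale.rescale 𝒜 φL ρ hρ0).codRestrict O hg)
  have hgL : ∀ a, algebraMap R' L (g a) = K821.Rescale.rescale 𝒜 φL ρ hρ0 a := by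
    intro a
    have h1 : e (g a) = (K821.Rescale.rescale 𝒜 φL ρ hρ0).codRestrict O hg a := e.apply_symm_apply _
    exact congrArg Subtype.val h1
  let algRR' : Algebra R R' := φ'.toAlgebra
  let algRL : Algebra R L := ((algebraMap K L).comp (algebraMap R K)).toAlgebra
  have hρmem : ϖ ∈ IsLocalRing.maximalIdeal R' := by
    rw [IsLocalRing.mem_maximalIdeal, mem_nonunits_iff]
    intro hu
    have h1 : IsUnit (ϖ ^ D) := hu.pow D
    have h2 : ϖ ^ D = φ' (φ t₀) := by
      apply hinjR'
      rw [map_pow, hϖ, hρ, ← hcompat]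
    rw [h2] at h1
    have h3 : IsUnit (φ t₀) := hloc.map_nonunit _ h1
    exact (IsLocalRing.mem_maximalIdeal _).mp (hφmem t₀ ht₀T) h3
  refine ⟨R', inferInstance, inferInstance, inferInstance, L, inferInstance, inferInstance, inferInstance,
    algRR', inferInstance, algRL, IsScalarTower.of_algebraMap_eq fun r => hcompat r,
    IsScalarTower.of_algebraMap_eq fun r => rfl, inferInstance, hloc, ϖ, g, ?_, hρmem, ?_, ?_⟩
  · rintro rfl
    rw [map_zero] at hϖ
    exact hρ0 hϖ.symm
  · intro d a ha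
    rw [hgL, K821.Rescale.rescale_of_mem 𝒜 φL ρ hρ0 ha, hϖ, mul_assoc, ← zpow_add₀ hρ0, neg_add_cancel,
      zpow_zero, mul_one]
    rfl
  · rw [Ideal.eq_top_iff_one]
    have h1 : g t₀ = 1 := by
      apply hinjR'
      rw [hgL, K821.Rescale.rescale_of_mem 𝒜 φL ρ hρ0 (hdegT t₀ ht₀T).2, map_one, hD, zpow_neg,
        zpow_natCast, hρ]
      have h3 : algebraMap K L (algebraMap R K (φ t₀)) ≠ 0 := fun h => ht₀0 (hinjRL _ h)
      exact mul_inv_cancel₀ h3
    rw [← h1]
    exact Ideal.mem_map_of_mem g (Ideal.subset_span (hTS ht₀T))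

end Groth.Agent.S14123
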