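import Groth.Statements.S14131
import Groth.Agent.AbDual.K732.RR
import Groth.Agent.AbVar.K524.Index

set_option autoImplicit false
universe u
open CategoryTheory CategoryTheory.Limits MonoidalCategory CartesianMonoidalCategory MonObj GrpObj AlgebraicGeometry
open AbVar

namespace Groth.Agent.S14131

/-- Let k be an algebraically closed field, A an abelian variety over k (a proper smooth k-group scheme
with geometrically connected fibres) of dimension g, (A^t, φ) a given dual abelian variety of A for
the fppf topology with A^t an abelian variety, L an invertible O_A-module with an inverse L', and Λ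
a module on A ×_k A isomorphic to the Mumford module m^*L ⊗ pr_1^*L' ⊗ pr_2^*L', whose class is
assumed algebraically trivial on every geometric fibre of the second projection. Let φ_L = φ(Λ) : A
→ A^t and assume L non-degenerate in the sense that φ_L is finite and flat, of constant rank d. Then
there is a natural number i ≤ g such that H^j(A, L) vanishes for all j ≠ i and the square of dim_k
H^i(A, L) equals d. (The published statement moreover writes the Fourier–Mukai transform of L as a
vector bundle on A^t placed in degree i; only the cohomological consequences are stated here.) -/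
theorem result (k : Type u) [Field k] [IsAlgClosed k]
    (A At : Over (Spec (CommRingCat.of k))) [GrpObj A] [IsProper A.hom] [Smooth A.hom] [GeometricallyConnected A.hom]
    [GrpObj At] [IsProper At.hom] [Smooth At.hom] [GeometricallyConnected At.hom]
    (φ : ∀ T : Over (Spec (CommRingCat.of k)), PicF.Cl (PicF.XT A.hom T) → (T ⟶ At))
    (hφ : AbDual.IsDualAV Scheme.fppfPrecoverage A At φ)
    (g : ℕ) (hg : topologicalKrullDim ↥A.left = g)
    (L : A.left.Modules) (hL : PicF.IsInvertible L) (L' : A.left.Modules) (hL' : Nonempty (CohB1.tensorMod L L' ≅ Coh.structureModule A.left))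
    (Λ : (PicF.XT A.hom A).Modules)
    (hΛ : Nonempty (Λ ≅ CohB1.tensorMod (CohB1.tensorMod ((Scheme.Modules.pullback μ[A].left).obj L)
      ((Scheme.Modules.pullback (fst A A).left).obj L')) ((Scheme.Modules.pullback (snd A A).left).obj L')))
    (hΛ0 : AbDual.IsPicZeroCl A.hom A (PicF.cl Λ))
    [IsFinite (φ A (PicF.cl Λ)).left] [Flat (φ A (PicF.cl Λ)).left]
    (d : ℕ) (hd : ∀ y : ↥At.left, Scheme.Hom.finrank (φ A (PicF.cl Λ)).left y = d) :
    ∃ i : ℕ, i ≤ g ∧ (∀ j : ℕ, j ≠ i → Subsingleton (Coh.HH A.left L j)) ∧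
      @Module.finrank k (Coh.HH A.left L i) _ _ (@Coh.moduleOver k _ A.left ⟨A.hom⟩ L i) ^ 2 = d := by
  have hL1 := K732.RR.cl_eq_mumCl (X := A) hL hL' hΛ
  have hlam : φ A (PicF.cl Λ) = K732.Lam.lam φ (Groth.Agent.Grpsch.PicGrp.mk L hL) := by
    rw [hL1]
    rfl
  have gi := K732.AV.geomInt A
  have hf : IsFinite (φ A (PicF.cl Λ)).left := inferInstance
  have hfl : Flat (φ A (PicF.cl Λ)).left := inferInstance
  rw [hlam] at hf hfl hd
  have h := K732.RR.chi_sq hφ g hg (Groth.Agent.Grpsch.PicGrp.mk L hL) hf d hd
  have hd1 : 1 ≤ d := by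
    rw [← hd ((K732.Lam.lam φ (Groth.Agent.Grpsch.PicGrp.mk L hL)).left (η[A].left (IsLocalRing.closedPoint k)))]
    exact Scheme.Hom.one_le_finrank_map _ _
  have hc : K524.Chi.chi (Groth.Agent.Grpsch.PicGrp.mk L hL) ≠ 0 := by
    intro h0
    rw [h0] at h
    have : (d : ℤ) = 0 := by rw [← h]; ring
    omega
  obtain ⟨i, hi, hidx, -⟩ := K524.Index.ND.exists_idx g hg (K524.Chi.nd_of_chi hc)
  rw [K524.Index.hasIdx_mk hL] at hidx
  refine ⟨i, hi, hidx.1, ?_⟩
  rw [K524.Chi.chi_mk] at h
  unfold Curv2.euler at h
  let _ : A.left.Over (Spec (CommRingCat.of k)) := ⟨A.hom⟩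
  rw [finsum_eq_single _ i] at h
  · rw [mul_pow, ← pow_mul, mul_comm i 2, pow_mul, neg_one_sq, one_pow, _root_.one_mul] at h
    exact_mod_cast h
  · intro j hj
    have h4 := hidx.1 j hj
    rw [Module.finrank_zero_of_subsingleton, Nat.cast_zero, mul_zero]

end Groth.Agent.S14131
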