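import Groth.Statements.S14133
import Groth.Agent.AbVar.K512.RankTransp
import Groth.Agent.AbVar.K512.RankKer
import Groth.Agent.AbDual.K732.EtKer
import Groth.Agent.Grpsch.KerMul

set_option autoImplicit false
universe u
open CategoryTheory CategoryTheory.Limits MonoidalCategory CartesianMonoidalCategory MonObj GrpObj AlgebraicGeometry
open AbVar

namespace Groth.Agent.S14133

/-- Let k be a field, A and B abelian varieties over k (proper smooth k-group schemes with geometrically
connected fibres), f : A → B a homomorphism which is an isogeny, taken here to mean finite, flat and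
surjective, of constant rank d = deg f, and let (A^t, φ_A), (B^t, φ_B) be given dual abelian
varieties for the fppf topology, both abelian varieties, with f^t : B^t → A^t the transpose of f.
Then f^t is again finite, flat and surjective, of the same constant rank d. (The published statement
takes an isogeny to be finite and surjective; flatness, which then holds, is assumed and concluded
explicitly here so that the rank is the degree.) -/
theorem result (k : Type u) [Field k]
    (A At B Bt : Over (Spec (CommRingCat.of k))) [GrpObj A] [IsProper A.hom] [Smooth A.hom] [GeometricallyConnected A.hom]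
    [GrpObj At] [IsProper At.hom] [Smooth At.hom] [GeometricallyConnected At.hom]
    [GrpObj B] [IsProper B.hom] [Smooth B.hom] [GeometricallyConnected B.hom]
    [GrpObj Bt] [IsProper Bt.hom] [Smooth Bt.hom] [GeometricallyConnected Bt.hom]
    (φA : ∀ T : Over (Spec (CommRingCat.of k)), PicF.Cl (PicF.XT A.hom T) → (T ⟶ At))
    (hφA : AbDual.IsDualAV Scheme.fppfPrecoverage A At φA)
    (φB : ∀ T : Over (Spec (CommRingCat.of k)), PicF.Cl (PicF.XT B.hom T) → (T ⟶ Bt))
    (hφB : AbDual.IsDualAV Scheme.fppfPrecoverage B Bt φB)
    (f : A ⟶ B) [IsMonHom f] [IsFinite f.left] [Flat f.left] [Surjective f.left]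
    (d : ℕ) (hd : ∀ y : ↥B.left, Scheme.Hom.finrank f.left y = d)
    (ft : Bt ⟶ At) (hft : AbDual.IsTranspose f φA φB ft) :
    IsFinite ft.left ∧ Flat ft.left ∧ Surjective ft.left ∧
      ∀ x : ↥At.left, Scheme.Hom.finrank ft.left x = d := by
  have gA : GeometricallyIntegral A.hom := K732.AV.geomInt A
  have gB : GeometricallyIntegral B.hom := K732.AV.geomInt B
  have gAt : GeometricallyIntegral At.hom := K732.AV.geomInt At
  have gBt : GeometricallyIntegral Bt.hom := K732.AV.geomInt Bt
  have cA : IsCommMonObj A := isCommMonObj_of_isProper_of_geometricallyIntegral A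
  obtain ⟨h1, h2, h3, d', hd'⟩ := K512.RankTransp.exists_rank_transp k hφA hφB f hft
  have hm : IsMonHom ft := K732.Transp.isMonHom_of_isTranspose hφA hφB (K732.AV.hF B) hft
  refine ⟨h1, h2, h3, ?_⟩
  obtain ⟨N, _, i, _, hN⟩ := Groth.Agent.Grpsch.KerMul.exists_kernel f
  obtain ⟨M, _, j, _, hM⟩ := Groth.Agent.Grpsch.KerMul.exists_kernel ft
  have hNf : IsFinite N.hom := by
    have h4 : IsPullback i.left (toUnit N).left f.left (η[B] : 𝟙_ (Over (Spec (CommRingCat.of k))) ⟶ B).left :=
      IsPullback.map (Over.forget _) hN
    have h5 : N.hom = (toUnit N).left := by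
      have h6 := Over.w (toUnit N)
      exact h6.symm.trans (Category.comp_id _)
    rw [h5]
    exact MorphismProperty.of_isPullback h4 (inferInstance : IsFinite f.left)
  obtain ⟨R, _, _, _, hR, e, _, R', _, _, e', ⟨E⟩⟩ :=
    K732.EtKer.exists_data hφA hφB f N i hN ft hft hM
  have hr : Module.finrank k R = d := K512.RankKer.finrank_eq k f i hN R e d hd
  have hr' : Module.finrank k R' = d' := K512.RankKer.finrank_eq k ft j hM R' e' d' hd'
  have hE : Module.finrank k R' = Module.finrank k (CartDual.D k R) :=
    LinearEquiv.finrank_eq (E : R' ≃ₗ[k] CartDual.D k R)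
  have hD : Module.finrank k (CartDual.D k R) = Module.finrank k R :=
    (LinearEquiv.finrank_eq (CartDual.toDual k R)).trans (Subspace.dual_finrank_eq (K := k) (V := R))
  intro x
  rw [hd', ← hr', hE, hD, hr]

end Groth.Agent.S14133
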