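import Groth.Statements.S14134
import Groth.Agent.AbVar.K512.FMTrans
import Groth.Agent.AbVar.K512.PoincMod

set_option autoImplicit false
universe u
open CategoryTheory CategoryTheory.Limits MonoidalCategory CartesianMonoidalCategory MonObj GrpObj AlgebraicGeometry
attribute [local instance] HasDerivedCategory.standard
open AbVar

namespace Groth.Agent.S14134

/-- Let k be a field, A an abelian variety over k (a proper smooth k-group scheme with geometrically
connected fibres), (A^t, φ) a given dual abelian variety of A for the fppf topology with A^t an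
abelian variety, P an invertible module on A ×_k A^t whose class is a Poincaré class, and x a
k-rational point of A^t. Let M_x be the restriction of P along A = A × {x} → A ×_k A^t, and t_x :
A^t → A^t the translation by x (the product of the identity and the constant map x in the group
Hom(A^t, A^t)). Write Φ_P = Rpr_{2,*}(Lpr_1^*(−) ⊗^L P) : D(O_A) → D(O_{A^t}); the derived functors
involved are assumed to exist. Then, restricted to objects of D(O_A) with quasi-coherent cohomology
sheaves, the functor F ↦ Φ_P(F ⊗^L M_x) is isomorphic to F ↦ Lt_x^*Φ_P(F) (existence of an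
isomorphism of functors). -/
theorem result (k : Type u) [Field k]
    (A At : Over (Spec (CommRingCat.of k))) [GrpObj A] [IsProper A.hom] [Smooth A.hom] [GeometricallyConnected A.hom]
    [GrpObj At] [IsProper At.hom] [Smooth At.hom] [GeometricallyConnected At.hom]
    (φ : ∀ T : Over (Spec (CommRingCat.of k)), PicF.Cl (PicF.XT A.hom T) → (T ⟶ At))
    (hφ : AbDual.IsDualAV Scheme.fppfPrecoverage A At φ)
    (P : (pullback A.hom At.hom).Modules) (hP : PicF.IsInvertible P)
    (hPξ : AbDual.IsPoincareCl A At φ (PicF.cl P))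
    (x : 𝟙_ (Over (Spec (CommRingCat.of k))) ⟶ At)
    [DCoh.HasLpull (pullback.fst A.hom At.hom)] [DCoh.HasLTensorMod P] [DCoh.HasRpush (pullback.snd A.hom At.hom)]
    [DCoh.HasLTensorMod ((Scheme.Modules.pullback (CartesianMonoidalCategory.lift (𝟙 A) (toUnit A ≫ x)).left).obj P)]
    [DCoh.HasLpull (𝟙 At * (toUnit At ≫ x)).left] :
    Nonempty (ObjectProperty.ι (DCoh.IsQCohD (X := A.left)) ⋙
        DCoh.LTensorMod ((Scheme.Modules.pullback (CartesianMonoidalCategory.lift (𝟙 A) (toUnit A ≫ x)).left).obj P) ⋙
        (DCoh.Lpull (pullback.fst A.hom At.hom) ⋙ DCoh.LTensorMod P ⋙ DCoh.Rpush (pullback.snd A.hom At.hom)) ≅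
      ObjectProperty.ι (DCoh.IsQCohD (X := A.left)) ⋙ (DCoh.Lpull (pullback.fst A.hom At.hom) ⋙ DCoh.LTensorMod P ⋙ DCoh.Rpush (pullback.snd A.hom At.hom)) ⋙
        DCoh.Lpull (𝟙 At * (toUnit At ≫ x)).left) := by
  have hgi : GeometricallyIntegral A.hom := K512.AV.geometricallyIntegral A
  let p := pullback.fst A.hom At.hom
  let q := pullback.snd A.hom At.hom
  let T : A ⊗ At ⟶ A ⊗ At := lift (fst A At) (snd A At ≫ (𝟙 At * (toUnit At ≫ x)))
  let t : At ⟶ At := 𝟙 At * (toUnit At ≫ x)
  obtain ⟨e⟩ := K512.PoincMod.nonempty_right hφ hP hPξ x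
  have i1 : IsIso T := K512.PoincMod.isIso_right x
  have i2 : IsIso t := K512.PoincMod.isIso_tr x
  have i3 : IsIso T.left := inferInstanceAs (IsIso ((Over.forget _).map T))
  have i4 : IsIso t.left := inferInstanceAs (IsIso ((Over.forget _).map t))
  have w1 : T.left ≫ q = q ≫ t.left := congrArg (fun f => f.left) (lift_snd (fst A At) (snd A At ≫ t))
  have w2 : T.left ≫ p = p := congrArg (fun f => f.left) (lift_fst (fst A At) (snd A At ≫ t))
  obtain ⟨i⟩ := K512.FMTrans.nonempty_right p q hP T.left t.left w1 w2
    (Groth.Agent.Fdesc.LocGen.isInvertible_pullback (lift (𝟙 A) (toUnit A ≫ x)).left hP) e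
  exact ⟨Functor.isoWhiskerLeft _ i⟩

end Groth.Agent.S14134
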