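import Groth.Statements.S14139
import Groth.Agent.VBCurve.K705.Setup

set_option autoImplicit false
universe u
open CategoryTheory CategoryTheory.Limits AlgebraicGeometry
open VBCurve

namespace Groth.Agent.S14139

open Groth.Agent.VarietyA.DegRank K707.Base K707.Deg K707.Slope K707.Semi K705.Setup


/-- Let C be a smooth proper geometrically connected curve over a field k (proper, smooth and
geometrically connected over k, of dimension one), and 0 → E₁ → E → E₂ → 0 a short exact sequence of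
finite locally free O_C-modules of ranks r₁, r, r₂ ≥ 1 whose slopes are all equal: deg E₁ · r = deg
E · r₁ and deg E₂ · r = deg E · r₂, the degree of a rank-n locally free module being χ − n·χ(O_C).
Then E is semistable (deg G · r ≤ deg E · r' for every finite locally free submodule G of E of rank
r' ≥ 1) if and only if both E₁ and E₂ are semistable in the same sense. -/
theorem result (k : Type u) [Field k] (X : Scheme.{u}) [X.Over (Spec (CommRingCat.of k))]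
    [IsProper (X ↘ Spec (CommRingCat.of k))] [Smooth (X ↘ Spec (CommRingCat.of k))]
    [GeometricallyConnected (X ↘ Spec (CommRingCat.of k))] (hdim : topologicalKrullDim ↥X = 1)
    (T : ShortComplex X.Modules) (hT : T.ShortExact)
    (r₁ r r₂ : ℕ) (hr₁ : 0 < r₁) (hr : 0 < r) (hr₂ : 0 < r₂)
    (hE₁ : FlatMod.IsFinLocFreeOfRank r₁ T.X₁) (hE : FlatMod.IsFinLocFreeOfRank r T.X₂) (hE₂ : FlatMod.IsFinLocFreeOfRank r₂ T.X₃)
    (hμ₁ : Curv2.deg k X T.X₁ r₁ * (r : ℤ) = Curv2.deg k X T.X₂ r * (r₁ : ℤ))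
    (hμ₂ : Curv2.deg k X T.X₃ r₂ * (r : ℤ) = Curv2.deg k X T.X₂ r * (r₂ : ℤ)) :
    (∀ (G : X.Modules) (r' : ℕ) (i : G ⟶ T.X₂), Mono i → 0 < r' → FlatMod.IsFinLocFreeOfRank r' G →
      Curv2.deg k X G r' * (r : ℤ) ≤ Curv2.deg k X T.X₂ r * (r' : ℤ)) ↔
      ((∀ (G : X.Modules) (r' : ℕ) (i : G ⟶ T.X₁), Mono i → 0 < r' → FlatMod.IsFinLocFreeOfRank r' G →
      Curv2.deg k X G r' * (r₁ : ℤ) ≤ Curv2.deg k X T.X₁ r₁ * (r' : ℤ)) ∧
       (∀ (G : X.Modules) (r' : ℕ) (i : G ⟶ T.X₃), Mono i → 0 < r' → FlatMod.IsFinLocFreeOfRank r' G →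
      Curv2.deg k X G r' * (r₂ : ℤ) ≤ Curv2.deg k X T.X₃ r₂ * (r' : ℤ))) := by
  have := isIntegral_of_geomConn k X
  let C : Crv k X := Crv.of_smooth hdim
  have v₁ := isFinLocFree_of_rank hE₁
  have v₂ := isFinLocFree_of_rank hE
  have v₃ := isFinLocFree_of_rank hE₂
  rw [← dg_of_rank k hE₁, ← dg_of_rank k hE, ← rk_of_rank hE₁, ← rk_of_rank hE] at hμ₁
  rw [← dg_of_rank k hE₂, ← dg_of_rank k hE, ← rk_of_rank hE₂, ← rk_of_rank hE] at hμ₂
  have i₁ : SS k T.X₁ ↔ _ := ss_iff C hE₁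
  have i₂ : SS k T.X₂ ↔ _ := ss_iff C hE
  have i₃ : SS k T.X₃ ↔ _ := ss_iff C hE₂
  have p₁ : 0 < rk T.X₁ := by rwa [rk_of_rank hE₁]
  have p₂ : 0 < rk T.X₂ := by rwa [rk_of_rank hE]
  have p₃ : 0 < rk T.X₃ := by rwa [rk_of_rank hE₂]
  refine i₂.symm.trans (Iff.trans ?_ (and_congr i₁ i₃))
  constructor
  · intro h
    exact ⟨ss_left C T hT v₂ p₂ hμ₁ h, ss_right C T hT v₂ v₃ p₂ hμ₂ h⟩
  · rintro ⟨h, h'⟩
    exact ss_ext C T hT v₁ v₂ v₃ p₁ p₃ hμ₁ hμ₂ h h'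

end Groth.Agent.S14139
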