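import Groth.Statements.S14140
import Groth.Agent.S7804
import Groth.Agent.Sga7.H270.FinStab
import Groth.Agent.AbVar.K512.Phi

set_option autoImplicit false
universe u
open CategoryTheory CategoryTheory.Limits MonoidalCategory CartesianMonoidalCategory MonObj GrpObj AlgebraicGeometry
open AbVar

namespace Groth.Agent.S14140

/-- Let k be an algebraically closed field, A an abelian variety over k (a proper smooth k-group scheme
with geometrically connected fibres), L an ample invertible O_A-module with an inverse L' (L ⊗ L' ≅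
O_A), and M an invertible O_A-module in Pic⁰(A), meaning that t_x^*M ≅ M for every k-rational point
x of A, where t_x : A → A is the translation by x (the product of the identity and the constant map
x in the group Hom(A, A)). Then there is a k-rational point x of A with M ≅ t_x^*L ⊗ L'. -/
theorem result (k : Type u) [Field k] [IsAlgClosed k]
    (A : Over (Spec (CommRingCat.of k))) [GrpObj A] [IsProper A.hom] [Smooth A.hom] [GeometricallyConnected A.hom]
    (L L' : A.left.Modules) (hLa : CohB1.IsAmple L) (hLL' : Nonempty (CohB1.tensorMod L L' ≅ Coh.structureModule A.left))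
    (M : A.left.Modules) (hM : PicF.IsInvertible M)
    (hM0 : ∀ x : 𝟙_ (Over (Spec (CommRingCat.of k))) ⟶ A, Nonempty ((Scheme.Modules.pullback (𝟙 A * (toUnit A ≫ x)).left).obj M ≅ M)) :
    ∃ x : 𝟙_ (Over (Spec (CommRingCat.of k))) ⟶ A,
      Nonempty (M ≅ CohB1.tensorMod ((Scheme.Modules.pullback (𝟙 A * (toUnit A ≫ x)).left).obj L) L') := by
  have hgi : GeometricallyIntegral A.hom := K512.AV.geometricallyIntegral A
  have hvan : K512.Phi.Van A := K512.Phi.van_of_modules fun N hN h1 h2 =>
    (Groth.Agent.S7804.result k A N hN h1).1 h2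
  have hcomm : IsCommMonObj A := isCommMonObj_of_isProper_of_geometricallyIntegral A
  have hnd : Set.Finite {x : 𝟙_ (Over (Spec (CommRingCat.of k))) ⟶ A |
      Nonempty ((Scheme.Modules.pullback (𝟙 A * (toUnit A ≫ x)).left).obj L ≅ L)} := by
    convert Groth.Agent.Sga7.H270.FinStab.finite_stab k A L hLa using 7 with x
    exact congrArg (fun f : A ⟶ A => f.left) (mul_comm (𝟙 A) (toUnit A ≫ x))
  obtain ⟨x, ⟨e⟩⟩ := K512.Phi.exists_iso_translate hvan L hLa.1 hnd M hM hM0
  obtain ⟨e'⟩ := hLL'
  exact ⟨x, ⟨(Ega2.Tens.runit M).symm ≪≫ Ega2.Tens.mapTIso (Iso.refl M) e'.symm ≪≫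
    (Ega2.Tens.assoc M L L').symm ≪≫ Ega2.Tens.mapTIso (Ega2.Tens.swap M L ≪≫ e.symm) (Iso.refl L')⟩⟩

end Groth.Agent.S14140
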