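import Groth.Statements.S14144
import Groth.Agent.AbVar.K512.IsogIdx
import Groth.Agent.AbVar.K512.AV

set_option autoImplicit false
universe u
open CategoryTheory CategoryTheory.Limits MonoidalCategory CartesianMonoidalCategory MonObj GrpObj AlgebraicGeometry
open AbVar

namespace Groth.Agent.S14144

/-- Let k be an algebraically closed field, A and B abelian varieties over k (proper smooth k-group
schemes with geometrically connected fibres), f : A → B a homomorphism which is an isogeny (finite,
flat and surjective), and L an invertible O_B-module which is non-degenerate: only finitely many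
k-rational points y of B satisfy t_y^*L ≅ L. Then f^*L is non-degenerate on A, and L and f^*L have
the same index: for every j, H^j(B, L) vanishes if and only if H^j(A, f^*L) vanishes. -/
theorem result (k : Type u) [Field k] [IsAlgClosed k]
    (A B : Over (Spec (CommRingCat.of k))) [GrpObj A] [IsProper A.hom] [Smooth A.hom] [GeometricallyConnected A.hom]
    [GrpObj B] [IsProper B.hom] [Smooth B.hom] [GeometricallyConnected B.hom]
    (f : A ⟶ B) [IsMonHom f] [IsFinite f.left] [Flat f.left] [Surjective f.left]
    (L : B.left.Modules) (hL : PicF.IsInvertible L) (hnd : (Set.Finite {x : 𝟙_ (Over (Spec (CommRingCat.of k))) ⟶ B |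
      Nonempty ((Scheme.Modules.pullback (𝟙 B * (toUnit B ≫ x)).left).obj L ≅ L)})) :
    (Set.Finite {x : 𝟙_ (Over (Spec (CommRingCat.of k))) ⟶ A |
      Nonempty ((Scheme.Modules.pullback (𝟙 A * (toUnit A ≫ x)).left).obj ((Scheme.Modules.pullback f.left).obj L) ≅ ((Scheme.Modules.pullback f.left).obj L))}) ∧
      ∀ j : ℕ, Subsingleton (Coh.HH B.left L j) ↔ Subsingleton (Coh.HH A.left ((Scheme.Modules.pullback f.left).obj L) j) := by
  have hA : GeometricallyIntegral A.hom := K512.AV.geometricallyIntegral A
  have hB : GeometricallyIntegral B.hom := K512.AV.geometricallyIntegral B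
  obtain ⟨h1, h2⟩ := K512.IsogIdx.van_pull_iff f ((K524.Index.nd_iff hL).2 hnd)
  have hfL := Groth.Agent.Fdesc.LocGen.isInvertible_pullback f.left hL
  have e : Groth.Agent.Grpsch.Cube.pl f (Groth.Agent.Grpsch.PicGrp.mk L hL) =
      Groth.Agent.Grpsch.PicGrp.mk _ hfL := Groth.Agent.Grpsch.PicGrp.pull_mk f.left hL
  rw [e] at h1 h2
  refine ⟨(K524.Index.nd_iff hfL).1 h1, fun j => ?_⟩
  rw [← K524.Kun.van_mk hL, ← K524.Kun.van_mk hfL]
  exact h2 j

end Groth.Agent.S14144
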