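import Groth.Statements.S14149
import Groth.Agent.VBCurve.K705.Setup

set_option autoImplicit false
universe u
open CategoryTheory CategoryTheory.Limits AlgebraicGeometry
open VBCurve

namespace Groth.Agent.S14149

open Groth.Agent.VarietyA.DegRank K707.Base K707.Deg K707.Slope K707.Semi K705.Setup


/-- Let C be a smooth proper geometrically connected curve over a field k (proper, smooth and
geometrically connected over k, of dimension one) and E a finite locally free O_C-module of rank r ≥
1, the degree of a rank-n locally free module being χ − n·χ(O_C). Then there is a finite locally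
free submodule E₁ of E, of some rank r₁ ≥ 1, such that: the slope of E₁ is maximal among finite
locally free submodules of E of positive rank (deg G · r₁ ≤ deg E₁ · r' for every such G of rank
r'); among submodules attaining that slope E₁ has the largest rank; and E₁ is semistable. (This is
the first step of the Harder–Narasimhan filtration, whose existence and uniqueness is the published
statement; the full filtration is not restated.) -/
theorem result (k : Type u) [Field k] (X : Scheme.{u}) [X.Over (Spec (CommRingCat.of k))]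
    [IsProper (X ↘ Spec (CommRingCat.of k))] [Smooth (X ↘ Spec (CommRingCat.of k))]
    [GeometricallyConnected (X ↘ Spec (CommRingCat.of k))] (hdim : topologicalKrullDim ↥X = 1)
    (r : ℕ) (hr : 0 < r) (E : X.Modules) (hE : FlatMod.IsFinLocFreeOfRank r E) :
    ∃ (E₁ : X.Modules) (r₁ : ℕ) (i₁ : E₁ ⟶ E), Mono i₁ ∧ 0 < r₁ ∧ FlatMod.IsFinLocFreeOfRank r₁ E₁ ∧
      (∀ (G : X.Modules) (r' : ℕ) (j : G ⟶ E), Mono j → 0 < r' → FlatMod.IsFinLocFreeOfRank r' G →
        Curv2.deg k X G r' * (r₁ : ℤ) ≤ Curv2.deg k X E₁ r₁ * (r' : ℤ)) ∧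
      (∀ (G : X.Modules) (r' : ℕ) (j : G ⟶ E), Mono j → 0 < r' → FlatMod.IsFinLocFreeOfRank r' G →
        Curv2.deg k X G r' * (r₁ : ℤ) = Curv2.deg k X E₁ r₁ * (r' : ℤ) → r' ≤ r₁) ∧
      (∀ (G : X.Modules) (r' : ℕ) (i : G ⟶ E₁), Mono i → 0 < r' → FlatMod.IsFinLocFreeOfRank r' G →
      Curv2.deg k X G r' * (r₁ : ℤ) ≤ Curv2.deg k X E₁ r₁ * (r' : ℤ)) := by
  have := isIntegral_of_geomConn k X
  let C : Crv k X := Crv.of_smooth hdim
  have hv := isFinLocFree_of_rank hE
  obtain ⟨G, i, hi, hG, h0, hmax⟩ := exists_maxSlope C hv (by rwa [rk_of_rank hE]) 1 (Or.inl rfl)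
  have hGr := isFinLocFreeOfRank_rk hG
  have key : ∀ (F : X.Modules) (r' : ℕ) (j : F ⟶ E), Mono j → 0 < r' → FlatMod.IsFinLocFreeOfRank r' F →
      Curv2.deg k X F r' * (rk G : ℤ) ≤ Curv2.deg k X G (rk G) * (r' : ℤ) ∧
        (Curv2.deg k X F r' * (rk G : ℤ) = Curv2.deg k X G (rk G) * (r' : ℤ) → r' ≤ rk G) := by
    intro F r' j hj hr' hF
    have h := hmax F j hj (isFinLocFree_of_rank hF) (by rwa [rk_of_rank hF])
    rw [dg_of_rank k hF, rk_of_rank hF, dg_of_rank k hGr] at h
    refine ⟨h.1, fun he => ?_⟩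
    have := h.2 he
    rw [one_mul, one_mul] at this
    exact_mod_cast this
  refine ⟨G, rk G, i, hi, h0, hGr, fun F r' j hj hr' hF => (key F r' j hj hr' hF).1,
    fun F r' j hj hr' hF => (key F r' j hj hr' hF).2, fun F r' j hj hr' hF => ?_⟩
  exact (key F r' (j ≫ i) (mono_comp _ _) hr' hF).1

end Groth.Agent.S14149
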