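import Groth.Statements.S14151
import Groth.Agent.VBCurve.K705.Setup

set_option autoImplicit false
universe u
open CategoryTheory CategoryTheory.Limits AlgebraicGeometry
open VBCurve

namespace Groth.Agent.S14151

open Groth.Agent.VarietyA.DegRank K707.Base K707.Deg K707.Slope K707.Semi K705.Setup


/-- Let C be a smooth proper geometrically connected curve over a field k (proper, smooth and
geometrically connected over k, of dimension one) and E a finite locally free O_C-module of rank r ≥
1; degrees of rank-n locally free modules are χ − n·χ(O_C) and slopes are compared by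
cross-multiplication. Then: E is semistable in the sense of quotients (μ(E) ≤ μ(F) for every locally
free quotient E ↠ F of rank s ≥ 1) if and only if μ(G) ≤ μ(E) for every finite locally free
submodule G of E of rank r' ≥ 1; and E is stable in the sense of quotients (μ(E) < μ(F) for every
such quotient map which is not an isomorphism) if and only if μ(G) < μ(E) for every such submodule
whose inclusion is not an isomorphism. (The printed lemma says every nonzero subsheaf; for the
strict inequalities the subsheaf and the quotient must be proper, as its proof uses.) -/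
theorem result (k : Type u) [Field k] (X : Scheme.{u}) [X.Over (Spec (CommRingCat.of k))]
    [IsProper (X ↘ Spec (CommRingCat.of k))] [Smooth (X ↘ Spec (CommRingCat.of k))]
    [GeometricallyConnected (X ↘ Spec (CommRingCat.of k))] (hdim : topologicalKrullDim ↥X = 1)
    (r : ℕ) (hr : 0 < r) (E : X.Modules) (hE : FlatMod.IsFinLocFreeOfRank r E) :
    ((∀ (F : X.Modules) (s : ℕ) (p : E ⟶ F), Epi p → 0 < s → FlatMod.IsFinLocFreeOfRank s F →
      Curv2.deg k X E r * (s : ℤ) ≤ Curv2.deg k X F s * (r : ℤ)) ↔
      (∀ (G : X.Modules) (r' : ℕ) (i : G ⟶ E), Mono i → 0 < r' → FlatMod.IsFinLocFreeOfRank r' G →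
      Curv2.deg k X G r' * (r : ℤ) ≤ Curv2.deg k X E r * (r' : ℤ))) ∧
    ((∀ (F : X.Modules) (s : ℕ) (p : E ⟶ F), Epi p → 0 < s → FlatMod.IsFinLocFreeOfRank s F → (¬ IsIso p) →
      Curv2.deg k X E r * (s : ℤ) < Curv2.deg k X F s * (r : ℤ)) ↔
      (∀ (G : X.Modules) (r' : ℕ) (i : G ⟶ E), Mono i → 0 < r' → FlatMod.IsFinLocFreeOfRank r' G → (¬ IsIso i) →
      Curv2.deg k X G r' * (r : ℤ) < Curv2.deg k X E r * (r' : ℤ))) := by
  have := isIntegral_of_geomConn k X
  let C : Crv k X := Crv.of_smooth hdim
  have hv := isFinLocFree_of_rank hE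
  have hrk := rk_of_rank hE
  constructor
  · rw [show (∀ (G : X.Modules) (r' : ℕ) (i : G ⟶ E), Mono i → 0 < r' → FlatMod.IsFinLocFreeOfRank r' G →
      Curv2.deg k X G r' * (r : ℤ) ≤ Curv2.deg k X E r * (r' : ℤ)) ↔ SS k E from (ss_iff C hE).symm]
    constructor
    · intro h
      refine ss_of_quot C hv fun Q p hp hQ => ?_
      rcases Nat.eq_zero_or_pos (rk Q) with h0 | h0
      · rw [dg_of_vb_of_rk_eq_zero C hQ h0, h0]; simp
      · have hQ' := isFinLocFreeOfRank_rk hQ
        have := h Q (rk Q) p hp h0 hQ'
        rwa [← dg_of_rank k hQ', ← dg_of_rank k hE, ← hrk] at this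
    · intro h F s p hp hs hF
      have := h.quot C hv p (isCoh_of_rank hF)
      rwa [dg_of_rank k hF, dg_of_rank k hE, rk_of_rank hF, hrk] at this
  · rw [← stI_iff C hr hE]
    constructor
    · intro h F i hi hF h0 h1
      obtain ⟨G', Q, a, j, q, w, ha, haj, hS, hG', hQ, e1, e2, e3, e4⟩ :=
        exists_saturation C i (coh_of_vb hF) (coh_of_vb hv)
      have hq : Epi q := hS.epi_g
      have hQ' := isFinLocFreeOfRank_rk hQ
      have hniso : ¬ IsIso q := fun _ => by
        have := rk_iso (asIso q)
        omega
      have h2 := h Q (rk Q) q hq (by omega) hQ' hniso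
      rw [← dg_of_rank k hQ', ← dg_of_rank k hE, ← hrk] at h2
      have e3' : (rk E : ℤ) = rk F + rk Q := by
        rw [e1] at e3
        exact_mod_cast e3
      have h3 : dg k F * rk E ≤ dg k G' * rk E := mul_le_mul_of_nonneg_right e2 (by positivity)
      rw [e3'] at h2 h3 ⊢
      rw [e4] at h2 ⊢
      nlinarith
    · intro h F s p hp hs hF hiso
      have hFv := isFinLocFree_of_rank hF
      have e1 := rk_of_rank hF
      have e2 := epi_numbers C p (coh_of_vb hv) (coh_of_vb hFv)
      have hlt : rk F < rk E := by
        rcases (rk_le_of_epi C p (coh_of_vb hv) (coh_of_vb hFv)).lt_or_eq with h1 | h1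
        · exact h1
        · exfalso
          apply hiso
          have hK : IsZero (kernel p) :=
            isZero_of_rk_eq_zero C (vb_kernel C p hv (coh_of_vb hFv)) (by omega)
          have : Mono p := Preadditive.mono_of_kernel_zero (hK.eq_of_src _ _)
          exact isIso_of_mono_of_epi p
      have := h.quot C hv p (coh_of_vb hFv) (by omega) hlt
      rwa [dg_of_rank k hF, dg_of_rank k hE, e1, hrk] at this

end Groth.Agent.S14151
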