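import Groth.Statements.S14153
import Groth.Agent.AbVar.K513.Theta3
import Groth.Agent.S2122

set_option autoImplicit false
universe u
open CategoryTheory CategoryTheory.Limits MonoidalCategory CartesianMonoidalCategory MonObj GrpObj AlgebraicGeometry
open AbVar

namespace Groth.Agent.S14153

/-- Let k be an algebraically closed field of characteristic 0, A an abelian variety over k (a proper
smooth k-group scheme with geometrically connected fibres), (A^t, φ) a given dual abelian variety
for the fppf topology with A^t an abelian variety, L an ample invertible O_A-module with an inverse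
L', and Λ a module on A ×_k A isomorphic to the Mumford module m^*L ⊗ pr_1^*L' ⊗ pr_2^*L', whose
class is assumed algebraically trivial on every geometric fibre of the second projection. Assume
that φ_L = φ(Λ) : A → A^t is an isomorphism, i.e. L defines a principal polarization, and let s be a
nonzero global section of L with zero scheme Θ ⊆ A (the theta divisor). If Θ is irreducible then Θ
is reduced. -/
theorem result (k : Type u) [Field k] [IsAlgClosed k] [CharZero k]
    (A At : Over (Spec (CommRingCat.of k))) [GrpObj A] [IsProper A.hom] [Smooth A.hom] [GeometricallyConnected A.hom]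
    [GrpObj At] [IsProper At.hom] [Smooth At.hom] [GeometricallyConnected At.hom]
    (φ : ∀ T : Over (Spec (CommRingCat.of k)), PicF.Cl (PicF.XT A.hom T) → (T ⟶ At))
    (hφ : AbDual.IsDualAV Scheme.fppfPrecoverage A At φ)
    (L : A.left.Modules) (hLa : CohB1.IsAmple L) (L' : A.left.Modules) (hL' : Nonempty (CohB1.tensorMod L L' ≅ Coh.structureModule A.left))
    (Λ : (PicF.XT A.hom A).Modules)
    (hΛ : Nonempty (Λ ≅ CohB1.tensorMod (CohB1.tensorMod ((Scheme.Modules.pullback μ[A].left).obj L)
      ((Scheme.Modules.pullback (fst A A).left).obj L')) ((Scheme.Modules.pullback (snd A A).left).obj L')))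
    (hΛ0 : AbDual.IsPicZeroCl A.hom A (PicF.cl Λ))
    [IsIso (φ A (PicF.cl Λ))]
    (s : Coh.structureModule A.left ⟶ L) (hs : s ≠ 0)
    [IrreducibleSpace ↥(PicF2.zeroScheme L s).subscheme] :
    IsReduced (PicF2.zeroScheme L s).subscheme := by
  have hL : PicF.IsInvertible L := hLa.1
  obtain ⟨eL⟩ := hL'
  have hL'i : PicF.IsInvertible L' :=
    Groth.Agent.S2122.result L' L (Groth.Agent.Ega2.Tens.swap _ _ ≪≫ eL)
  obtain ⟨eΛ⟩ := hΛ
  have h1 : Groth.Agent.Grpsch.PicGrp.mk L' hL'i = (Groth.Agent.Grpsch.PicGrp.mk L hL)⁻¹ := by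
    rw [eq_inv_iff_mul_eq_one, mul_comm, Groth.Agent.Grpsch.PicGrp.mk_mul_mk,
      Groth.Agent.Grpsch.PicGrp.mk_eq_one_iff]
    exact ⟨eL⟩
  have h2 : PicF.cl Λ = Groth.Agent.Fga.RigGrp.toCl (K513.Lam.lam (fst A A) (snd A A)
      (Groth.Agent.Grpsch.PicGrp.mk L hL) : Groth.Agent.Grpsch.PicGrp.Pic (A ⊗ A).left) := by
    have h3 : (μ[A] : A ⊗ A ⟶ A) = fst A A * snd A A := by
      rw [Hom.mul_def, lift_fst_snd, Category.id_comp]
    rw [K513.Lam.lam, ← h3, ← map_inv, ← map_inv, ← h1]
    exact (Groth.Agent.Fga.RigGrp.cl_eq_iff _ _).2 ⟨eΛ⟩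
  have hiso : IsIso (K513.Theta2.pol φ (Groth.Agent.Grpsch.PicGrp.mk L hL)) := by
    rw [K513.Theta2.pol, ← h2]
    infer_instance
  exact K513.Theta3.isReduced φ hφ L hL hiso s hs

end Groth.Agent.S14153
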