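import Groth.Statements.S14154
import Groth.Agent.VBCurve.K985.Final
import Groth.Agent.S14125
import Groth.Agent.AbVar.K511.DimEq

set_option autoImplicit false
universe u
open CategoryTheory CategoryTheory.Limits MonoidalCategory CartesianMonoidalCategory MonObj GrpObj AlgebraicGeometry
attribute [local instance] HasDerivedCategory.standard
open VBCurve

namespace Groth.Agent.S14154

/-- Let k be a field, E an abelian variety over k of dimension one, i.e. an elliptic curve (a proper
smooth k-group scheme with geometrically connected fibres, of dimension 1), (E^t, φ) a given dual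
abelian variety for the fppf topology with E^t an abelian variety, and P an invertible module on E
×_k E^t whose class is a Poincaré class. Let F be a finite locally free O_E-module of rank r ≥ 1
whose degree d = χ(F) − r·χ(O_E) is negative and which is semistable: deg F' · r ≤ d · r' for every
finite locally free submodule F' of F of rank r' ≥ 1. Write Φ_P = Rpr_{2,*}(Lpr_1^*(−) ⊗^L P); the
derived functors involved are assumed to exist. Then there is a finite locally free O_{E^t}-module G
of rank −d and degree r which is semistable (deg G' · (−d) ≤ deg G · r' for every finite locally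
free submodule G' of G of rank r' ≥ 1), together with an isomorphism Φ_P(F) ≅ G[−1] in D(O_{E^t}) (G
placed in degree 1); in particular Φ_P(F)[1] is a semistable bundle of slope −1/μ(F). (The published
statement asks only that F be a vector bundle of negative slope and omits its semistability; without
it the conclusion fails, for instance for the direct sum of invertible modules of degrees 1 and −2
on an elliptic curve, whose transform has a non-zero cohomology sheaf in degree 0; this row assumes
F semistable, which is what the printed proof uses.) -/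
theorem result (k : Type u) [Field k]
    (E Et : Over (Spec (CommRingCat.of k))) [GrpObj E] [IsProper E.hom] [Smooth E.hom] [GeometricallyConnected E.hom]
    [GrpObj Et] [IsProper Et.hom] [Smooth Et.hom] [GeometricallyConnected Et.hom]
    (hdim : topologicalKrullDim ↥E.left = 1)
    (φ : ∀ T : Over (Spec (CommRingCat.of k)), PicF.Cl (PicF.XT E.hom T) → (T ⟶ Et))
    (hφ : AbDual.IsDualAV Scheme.fppfPrecoverage E Et φ)
    (P : (pullback E.hom Et.hom).Modules) (hP : PicF.IsInvertible P)
    (hPξ : AbDual.IsPoincareCl E Et φ (PicF.cl P))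
    [DCoh.HasLpull (pullback.fst E.hom Et.hom)] [DCoh.HasLTensorMod P] [DCoh.HasRpush (pullback.snd E.hom Et.hom)]
    (r : ℕ) (hr : 0 < r) (F : E.left.Modules) (hF : FlatMod.IsFinLocFreeOfRank r F)
    (d : ℤ) (hd : @Curv2.deg k _ E.left ⟨E.hom⟩ F r = d) (hdneg : d < 0)
    (hFss : ∀ (F' : E.left.Modules) (r' : ℕ) (i : F' ⟶ F), Mono i → 0 < r' → FlatMod.IsFinLocFreeOfRank r' F' →
      @Curv2.deg k _ E.left ⟨E.hom⟩ F' r' * (r : ℤ) ≤ d * (r' : ℤ)) :
    ∃ (G : Et.left.Modules), FlatMod.IsFinLocFreeOfRank (-d).toNat G ∧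
      @Curv2.deg k _ Et.left ⟨Et.hom⟩ G (-d).toNat = (r : ℤ) ∧
      (∀ (F' : Et.left.Modules) (r' : ℕ) (i : F' ⟶ G), Mono i → 0 < r' → FlatMod.IsFinLocFreeOfRank r' F' →
        @Curv2.deg k _ Et.left ⟨Et.hom⟩ F' r' * ((-d).toNat : ℤ) ≤ @Curv2.deg k _ Et.left ⟨Et.hom⟩ G (-d).toNat * (r' : ℤ)) ∧
      Nonempty ((DCoh.Lpull (pullback.fst E.hom Et.hom) ⋙ DCoh.LTensorMod P ⋙ DCoh.Rpush (pullback.snd E.hom Et.hom)).obj (DCoh.inD E.left F) ≅
        (shiftFunctor (DCoh.D Et.left) (-1 : ℤ)).obj (DCoh.inD Et.left G)) := by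
  have hinj : HasInjectiveResolutions (pullback E.hom Et.hom).Modules :=
    Groth.Agent.Dcoh.DerSch.hasInjectiveResolutions _
  have hdim' : topologicalKrullDim ↥E.left = ((1 : ℕ) : WithBot ℕ∞) := by rw [hdim]; rfl
  obtain ⟨z1, s1⟩ := K232.FMPC.pc1 hφ hP hPξ 1 hdim'
  obtain ⟨z2, s2⟩ := K232.FMPC.pc2 hφ hP hPξ 1 hdim'
  have hdimt : topologicalKrullDim ↥Et.left = 1 := by
    obtain ⟨ζ, h1, h2, h3, h4⟩ := K732.AV.exists_of_isPoincareCl hPξ
    have hζ : ζ = Groth.Agent.Grpsch.PicGrp.mk P hP := Groth.Agent.Fga.RigGrp.toCl_injective h4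
    rw [K511.DimEq.dim_eq hφ h1 h2 h3 hP hζ 1 hdim']
    rfl
  have i1 : DCoh.HasLpull (pullback.fst Et.hom E.hom) := Groth.Agent.PerfC.PullKFlat.hasLpull _
  have i2 : DCoh.HasLTensorMod ((Scheme.Modules.pullback (pullbackSymmetry Et.hom E.hom).hom).obj P) :=
    Groth.Agent.PerfB.TensInv.hasLTensorMod_of_isInvertible (Groth.Agent.Fdesc.LocGen.isInvertible_pullback _ hP)
  have i3 : DCoh.HasRpush (pullback.snd Et.hom E.hom) := Groth.Agent.Dcoh.DerSch.hasRpush _
  have i4 : DCoh.HasLpull ((𝟙 E)⁻¹).left := Groth.Agent.PerfC.PullKFlat.hasLpull _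
  exact K985.Final.main k E Et hdim hdimt φ hφ P hP hPξ z1 s1 z2 s2
    (Groth.Agent.S14125.result k E Et φ hφ P hP hPξ 1 hdim') r hr F hF d hd hdneg hFss

end Groth.Agent.S14154
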