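import Groth.Statements.S14158
import Groth.Agent.AgPol.K117.Final
import Groth.Agent.AgPol.K272.FrLocal
import Groth.Agent.AgPol.K817.ClosedFin

set_option autoImplicit false
universe u
open CategoryTheory CategoryTheory.Limits MonoidalCategory CartesianMonoidalCategory MonObj AlgebraicGeometry
open AgPol

namespace Groth.Agent.S14158

/-- Let g ≥ 1, d ≥ 1 and let n satisfy n > 6^g · d · √(g!), written here as (6^g d)² · g! < n². Let
A_{g,d,n} be the moduli problem over Spec ℤ of abelian schemes of relative dimension g with (a
presentation of) their dual, a polarisation of degree d squared and a level-n structure, modulo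
isomorphism, pulled back by fibre product, tested on locally Noetherian schemes. Then A_{g,d,n} is
represented by a scheme quasi-projective over Spec ℤ: there are such a scheme M and an admissible
family ξ over M such that every admissible family over a locally Noetherian scheme T is isomorphic
to the pull back of ξ along exactly one morphism T → M; moreover M has a point over every
algebraically closed field in which n is non-zero, and ξ pulls back to an admissible family along
every such point (so M is not the empty scheme). -/
theorem result (g d n : ℕ) (hg : 1 ≤ g) (hd : 1 ≤ d)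
    (hn : (6 ^ g * d) ^ 2 * Nat.factorial g < n ^ 2) :
    ∃ (M : Over (Spec (CommRingCat.of (ULift.{u} ℤ))))
      (ξ : (AgPol.Agdn (Spec (CommRingCat.of (ULift.{u} ℤ))) g d n).Fam M),
      ModFun.IsUnivFamily (fun T => IsLocallyNoetherian T.left) (AgPol.Agdn (Spec (CommRingCat.of (ULift.{u} ℤ))) g d n) M ξ ∧
      RelProj.IsQuasiProjective M.hom ∧
      ∀ (Ω : Type u) [Field Ω] [IsAlgClosed Ω] (t : Spec (CommRingCat.of Ω) ⟶ Spec (CommRingCat.of (ULift.{u} ℤ))),
        (n : Ω) ≠ 0 → Nonempty (Over.mk t ⟶ M) ∧ ∀ k : Over.mk t ⟶ M,
          (AgPol.Agdn (Spec (CommRingCat.of (ULift.{u} ℤ))) g d n).ok _ ((AgPol.Agdn (Spec (CommRingCat.of (ULift.{u} ℤ))) g d n).pull k ξ) := by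
  exact K117.Final.main hg hd hn (fun _ hm => K272.Fr.frLocal_main K117.Final.stmt14161 hm) K817.Closed.vaMain

end Groth.Agent.S14158
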