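import Groth.Statements.S14157
import Groth.Agent.S14158
import Groth.Agent.AgPol.K691.CoarseFin

set_option autoImplicit false
universe u
open CategoryTheory CategoryTheory.Limits MonoidalCategory CartesianMonoidalCategory MonObj AlgebraicGeometry
open AgPol

namespace Groth.Agent.S14157

/-- Let g ≥ 1, d ≥ 1, n ≥ 1 and let A_{g,d,n} be the moduli problem over Spec ℤ of abelian schemes of
relative dimension g with (a presentation of) their dual, a polarisation of degree d squared and a
level-n structure, modulo isomorphism, pulled back by fibre product, tested on locally Noetherian
schemes. Then a coarse moduli scheme exists: a scheme M over Spec ℤ with a morphism Φ from A_{g,d,n}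
to the functor of points of M which is bijective on points with values in every algebraically closed
field and universal for morphisms from A_{g,d,n} to representable functors; for every prime p the
part of M over the open subset of Spec ℤ where p is invertible is quasi-projective over that open
subset; and M has a point over every algebraically closed field in which n is non-zero (products of
elliptic curves carry polarisations of every square degree and full level-n structures there, so M
is not the empty scheme). (The published statement allows all g, d, n; the degenerate values g = 0,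
d = 0 or n = 0 are excluded here.) -/
theorem result (g d n : ℕ) (hg : 1 ≤ g) (hd : 1 ≤ d) (hn : 1 ≤ n) :
    ∃ (M : Over (Spec (CommRingCat.of (ULift.{u} ℤ))))
      (Φ : (AgPol.Agdn (Spec (CommRingCat.of (ULift.{u} ℤ))) g d n).Hom (fun T => IsLocallyNoetherian T.left) M),
      ModFun.IsCoarseModuli (fun T => IsLocallyNoetherian T.left) (AgPol.Agdn (Spec (CommRingCat.of (ULift.{u} ℤ))) g d n) M Φ ∧
      (∀ p : ℕ, p.Prime → RelProj.IsQuasiProjective
        (M.hom ∣_ ((Spec (CommRingCat.of (ULift.{u} ℤ))).basicOpen ((Scheme.ΓSpecIso (CommRingCat.of (ULift.{u} ℤ))).inv (ULift.up (p : ℤ)))))) ∧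
      ∀ (Ω : Type u) [Field Ω] [IsAlgClosed Ω] (t : Spec (CommRingCat.of Ω) ⟶ Spec (CommRingCat.of (ULift.{u} ℤ))),
        (n : Ω) ≠ 0 → Nonempty (Over.mk t ⟶ M) := by
  exact K691.CoarseFin.main g d n hg hn (fun N hN => Groth.Agent.S14158.result g d N hg hd hN)

end Groth.Agent.S14157
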