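import Groth.Statements.S14159
import Groth.Agent.AgPol.K814.Graph
import Groth.Agent.AgPol.K814.AbBasic

set_option autoImplicit false
universe u
open CategoryTheory CategoryTheory.Limits MonoidalCategory CartesianMonoidalCategory MonObj AlgebraicGeometry
open AgPol

namespace Groth.Agent.S14159

/-- Let S be a locally Noetherian scheme, A a projective abelian scheme over S of relative dimension g
with commutative group law, (At, φ) a commutative group scheme with data presenting it as the dual
of A for the fppf topology, ξ a Poincaré class on A ×_S At (normalised along the unit section of A)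
and lam : A ⟶ At a polarisation. If L is a module on A whose isomorphism class is the pull back of ξ
along the graph (1, lam) : A ⟶ A ×_S At, then lam · lam (twice lam, in the group of A-valued points
of At) is the homomorphism attached to L through φ. -/
theorem result (S : Scheme.{u}) [IsLocallyNoetherian S] (A At : Over S) [GrpObj A] [IsCommMonObj A]
    [GrpObj At] [IsCommMonObj At] (g : ℕ) (hA : AgPol.IsAbSch A g) (hproj : RelProj.IsProjective A.hom)
    (φ : AgPol.DualMap A At) (hdual : AbDual.IsDualAV Scheme.fppfPrecoverage A At φ)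
    (ξ : PicF.Cl (PicF.XT A.hom At)) (hξ : AbDual.IsPoincareCl A At φ ξ)
    (lam : A ⟶ At) (hpol : AgPol.IsPolarization A At φ lam) (L : A.left.Modules)
    (hL : PicF.cl L = PicF.pullCl (pullback.lift (𝟙 A.left) (lam).left ((Category.id_comp A.hom).trans (Over.w (lam)).symm)) ξ) :
    AgPol.IsLambda A At φ L (lam * lam) := by
  have := hA.smooth
  have := hA.proper
  have := hA.geomConnected
  have hint : GeometricallyIntegral A.hom := K814.AbBasic.geometricallyIntegral A
  obtain ⟨ζ, h1, h2, h3, rfl⟩ := K732.AV.exists_of_isPoincareCl hξ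
  rw [← Groth.Agent.Fga.RigGrp.toCl_pull, K814.Graph.graph_eq] at hL
  change _ = Groth.Agent.Fga.RigGrp.toCl (K732.Prim.ev (𝟙 A) lam ζ) at hL
  obtain ⟨M, hM, hMe⟩ := Groth.Agent.Grpsch.PicGrp.exists_mk (K732.Prim.ev (𝟙 A) lam ζ)
  rw [hMe, Groth.Agent.Fga.RigGrp.toCl_mk, Groth.Agent.Fga.RigGrp.cl_eq_iff] at hL
  obtain ⟨e⟩ := hL
  have hLi : PicF.IsInvertible L := K814.Graph.isInvertible_of_iso e.symm hM
  refine K814.Graph.isLambda hdual h1 h2 h3 hpol L hLi ?_
  rw [hMe, Groth.Agent.Grpsch.PicGrp.mk_eq_iff]
  exact ⟨e⟩

end Groth.Agent.S14159
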