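import Groth.Statements.S14163
import Groth.Agent.AgPol.K814.PolTrans
import Groth.Agent.S7788

set_option autoImplicit false
universe u
open CategoryTheory CategoryTheory.Limits MonoidalCategory CartesianMonoidalCategory MonObj AlgebraicGeometry
open AgPol

namespace Groth.Agent.S14163

/-- Let S be a locally Noetherian scheme, A a projective abelian scheme over S of relative dimension g
with commutative group law, structure morphism π and unit section ε, (At, φ) a commutative group
scheme with data presenting it as the dual of A for the fppf topology, ξ a Poincaré class on A ×_S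
At, L an invertible module on A which is ample relative to π and whose pull back along ε is trivial,
and k ≥ 1. Then there is a closed subscheme S₀ of S such that a locally Noetherian S-scheme T
factors through S₀ if and only if there is a homomorphism lam : A_T ⟶ At_T of T-group schemes such
that lam ^ (2k) is the homomorphism attached to the pulled-back module L_T through the base-changed
dual data and the class of L_T is the pull back of ξ (moved to A_T ×_T At_T) along the graph of lam
^ k. (The published statement asks only for a homomorphism lam with L_T isomorphic to the pull back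
along the graph of lam ^ k; the closed subscheme the printed argument constructs represents that
condition together with the clause on lam ^ (2k), which holds automatically for a polarisation lam
and can fail for other homomorphisms — on the square of an elliptic curve with its product principal
polarisation lam₀ and α(x, y) = lam₀(y, 0), the pull back along the graph of lam₀ + α is ample and
normalised while its attached homomorphism is not divisible by 2 — so the clause is kept here.) -/
theorem result (S : Scheme.{u}) [IsLocallyNoetherian S] (A At : Over S) [GrpObj A] [IsCommMonObj A]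
    [GrpObj At] [IsCommMonObj At] (g : ℕ) (hA : AgPol.IsAbSch A g) (hproj : RelProj.IsProjective A.hom)
    (φ : AgPol.DualMap A At) (hdual : AbDual.IsDualAV Scheme.fppfPrecoverage A At φ)
    (ξ : PicF.Cl (PicF.XT A.hom At)) (hξ : AbDual.IsPoincareCl A At φ ξ)
    (L : A.left.Modules) (hL : PicF.IsInvertible L) (hample : RelAmple.IsRelAmple A.hom L)
    (hrig : PicF.IsTrivialCl (PicF.cl ((Scheme.Modules.pullback η[A].left).obj L))) (k : ℕ) (hk : 1 ≤ k) :
    ∃ (S₀ : Scheme.{u}) (i₀ : S₀ ⟶ S), IsClosedImmersion i₀ ∧
      ∀ T : Over S, IsLocallyNoetherian T.left →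
        ((∃ h : T.left ⟶ S₀, h ≫ i₀ = T.hom) ↔
          ∃ lam : Red.bc T.hom A ⟶ Red.bc T.hom At, IsMonHom lam ∧
            AgPol.IsLambda (Red.bc T.hom A) (Red.bc T.hom At) (AgPol.bcDual T.hom A At φ) ((Scheme.Modules.pullback (pullback.fst A.hom T.hom)).obj L) (lam ^ (2 * k)) ∧
            PicF.cl ((Scheme.Modules.pullback (pullback.fst A.hom T.hom)).obj L) =
              PicF.pullCl (pullback.lift (𝟙 (Red.bc T.hom A).left) (lam ^ k).left
                ((Category.id_comp (Red.bc T.hom A).hom).trans (Over.w (lam ^ k)).symm))
              (PicF.pullCl ((AgPol.bcXTIso T.hom A (Red.bc T.hom At)).hom ≫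
                PicF.XTmap A.hom (Over.homMk (pullback.fst At.hom T.hom) pullback.condition)) ξ)) := by
  have := hA.smooth
  have := hA.proper
  have := hA.geomConnected
  have hint : GeometricallyIntegral A.hom := K814.AbBasic.geometricallyIntegral A
  have hred : GeometricallyReduced A.hom := Groth.Agent.Flat2B.SmoothGeom.geometricallyReduced_of_smooth A.hom
  obtain ⟨ζ, z1, z2, z3, rfl⟩ := K732.AV.exists_of_isPoincareCl hξ
  have hfin : IsFinite (𝟙 A ^ (2 * k) : A ⟶ A).left := by
    have h := (Groth.Agent.S7788.result A (fun _ ↦ g) hA.fibreDim ((2 * k : ℕ) : ℤ) (by omega)).1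
    rwa [zpow_natCast] at h
  let c : Groth.Agent.Grpsch.PicGrp.Pic A.left := Groth.Agent.Grpsch.PicGrp.mk L hL
  have hc : Groth.Agent.Grpsch.PicGrp.pull (η[A] : 𝟙_ (Over S) ⟶ A).left c = 1 := by
    rw [← Groth.Agent.Fga.RigGrp.isTrivialCl_toCl_iff, Groth.Agent.Grpsch.PicGrp.pull_mk]
    exact hrig
  obtain ⟨S₀, z, hz, H⟩ := K814.PolClosed.closed_main hdual z1 z2 z3 hc (2 * k) k (by omega) hfin
  refine ⟨S₀, z, hz, fun T hT ↦ (H T hT).trans ((K814.PolTrans.trans hdual T hc (2 * k) k (by omega) ζ).trans ?_)⟩
  refine exists_congr fun lam ↦ and_congr_right fun _ ↦ and_congr ?_ ?_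
  · have hLT : PicF.IsInvertible ((Scheme.Modules.pullback (pullback.fst A.hom T.hom)).obj L) :=
      Groth.Agent.Fdesc.LocGen.isInvertible_pullback _ hL
    rw [K814.MumHom.isLambda_iff (A := Red.bc T.hom A) (At := Red.bc T.hom At) _ hLT, K814.MumHom.hom_bc hdual]
    rfl
  · have e1 : PicF.cl ((Scheme.Modules.pullback (pullback.fst A.hom T.hom)).obj L) =
        Groth.Agent.Fga.RigGrp.toCl (Groth.Agent.Grpsch.PicGrp.pull (pullback.fst A.hom T.hom) c) := by
      rw [Groth.Agent.Grpsch.PicGrp.pull_mk]
      rfl
    have e2 : Groth.Agent.Grpsch.PicGrp.pull ((AgPol.bcXTIso T.hom A (Red.bc T.hom At)).hom ≫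
        PicF.XTmap A.hom (Over.homMk (pullback.fst At.hom T.hom) pullback.condition)) ζ =
        K732.BC.bcXi T.hom A At ζ := by
      rw [Groth.Agent.Grpsch.PicGrp.pull_comp]
      rfl
    rw [← Groth.Agent.Fga.RigGrp.toCl_pull, ← Groth.Agent.Fga.RigGrp.toCl_pull, e1, e2, K814.Graph.graph_eq,
      Groth.Agent.Fga.RigGrp.toCl_injective.eq_iff]
    rfl

end Groth.Agent.S14163
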