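import Groth.Statements.S14165
import Groth.Agent.GIT.K610.MgEnd

set_option autoImplicit false
universe u
open CategoryTheory AlgebraicGeometry
open GIT

namespace Groth.Agent.S14165

/-- Let g ≥ 2 and let M_g be the moduli problem over Spec ℤ of curves of genus g (smooth proper families
every geometric fibre of which is an irreducible curve of genus g, modulo isomorphism over the base,
pulled back by fibre product), tested on Noetherian schemes. If (M, φ) is a coarse moduli scheme for
M_g (φ a morphism from M_g to the functor of points of M, bijective on points with values in every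
algebraically closed field and universal for morphisms from M_g to representable functors), then for
every prime p the part of M over the open subset of Spec ℤ where p is invertible is quasi-projective
over that open subset. -/
theorem result (g : ℕ) (hg : 2 ≤ g)
    (M : Over (Spec (CommRingCat.of (ULift.{u} ℤ))))
    (φ : (ModFun.Mg (Spec (CommRingCat.of (ULift.{u} ℤ))) g).Hom (fun T => IsNoetherian T.left) M)
    (hM : ModFun.IsCoarseModuli (fun T => IsNoetherian T.left) (ModFun.Mg (Spec (CommRingCat.of (ULift.{u} ℤ))) g) M φ)
    (p : ℕ) (hp : p.Prime) :
    RelProj.IsQuasiProjective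
      (M.hom ∣_ ((Spec (CommRingCat.of (ULift.{u} ℤ))).basicOpen ((Scheme.ΓSpecIso (CommRingCat.of (ULift.{u} ℤ))).inv (ULift.up (p : ℤ))))) :=
  K610.Mg.qp_of_AgInput hg (K610.MgStack.stackInputs _ hg) (K610.MgKM.km _) K610.MgEnd.nodeA0 K507.NodeB.main
    (K610.MgEnd.agInput g hg) M φ hM p hp

end Groth.Agent.S14165
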