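import Groth.Statements.S14170
import Groth.Agent.Variety.K429.FinRegMain
import Groth.Agent.S0844
import Groth.Agent.Dix.ProjProper

set_option autoImplicit false
universe u
open CategoryTheory CategoryTheory.Limits AlgebraicGeometry
open Variety

namespace Groth.Agent.S14170


open Groth.Agent.CohqB.HSeqMod in
theorem step {X : Scheme.{u}} {S : ShortComplex X.Modules} (hS : S.ShortExact) (p : ℕ)
    (h3 : Subsingleton (Coh.HH X S.X₃ p)) (h2 : Subsingleton (Coh.HH X S.X₂ (p + 1))) :
    Subsingleton (Coh.HH X S.X₁ (p + 1)) := by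
  refine subsingleton_of_forall_eq 0 fun x => ?_
  obtain ⟨y, hy⟩ := exact₁ hS p x (Subsingleton.elim _ _)
  rw [← hy, Subsingleton.elim y 0, map_zero]

open Groth.Agent.CohqB.HSeqMod in
theorem subsingleton_of_iso {X : Scheme.{u}} {M N : X.Modules} (e : M ≅ N) (p : ℕ) (h : Subsingleton (Coh.HH X M p)) :
    Subsingleton (Coh.HH X N p) := by
  refine subsingleton_of_forall_eq 0 fun x => ?_
  have h1 : hmap e.hom p (hmap e.inv p x) = x := by
    rw [← hmap_comp_apply, e.inv_hom_id, hmap_id_apply]
  rw [← h1, Subsingleton.elim (hmap e.inv p x) 0, map_zero]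

theorem dim_le_zero {T : Type u} [TopologicalSpace T] {S : Set T} (hS : S.Finite)
    (hc : ∀ x ∈ S, IsClosed ({x} : Set T)) : topologicalKrullDim S ≤ 0 := by
  have : Finite S := hS
  have : T1Space S := ⟨fun x => by
    have h1 : ({x} : Set S) = Subtype.val ⁻¹' ({x.1} : Set T) := by
      ext y
      simp [Subtype.ext_iff]
    rw [h1]
    exact (hc x.1 x.2).preimage continuous_subtype_val⟩
  rcases isEmpty_or_nonempty S with h | h
  · have h2 : topologicalKrullDim S = ⊥ := by
      unfold topologicalKrullDim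
      have : IsEmpty (TopologicalSpace.IrreducibleCloseds S) := ⟨fun s => by
        obtain ⟨x, -⟩ := s.isIrreducible.1
        exact h.elim x⟩
      exact Order.krullDim_eq_bot
    rw [h2]; exact bot_le
  · exact topologicalKrullDim_zero_of_discreteTopology S


/-- Let k be an algebraically closed field of characteristic zero (the published statement is over the
complex numbers; this row allows any algebraically closed field of characteristic zero), N ≥ 0, and
i : X → P^N_k a closed immersion with X finite as a set, say with t points (a zero-dimensional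
closed subscheme supported at t distinct points). Suppose μ : X → ℕ is such that for every point x
the maximal ideal of the local ring O_{X,x} satisfies m_x^(μ(x)+1) = 0 (so μ(x) bounds the largest
exponent with a nonzero power). Then H^1(P^N_k, I_X(j)) = 0 for every integer j ≥ Σ_x μ(x) + t - 1,
where I_X is the ideal sheaf of i viewed as an O-module; and I_X is (Σ_x μ(x) + t)-regular. -/
theorem result (k : Type u) [Field k] [IsAlgClosed k] [CharZero k]
    (N : ℕ) (X : Scheme.{u}) (i : X ⟶ CohB1.ProjSpace N k) [IsClosedImmersion i] [Finite X]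
    (μ : X → ℕ) (hμ : ∀ x : X, IsLocalRing.maximalIdeal (X.presheaf.stalk x) ^ (μ x + 1) = ⊥) :
    (∀ j : ℤ, (∑ᶠ x : X, (μ x : ℤ)) + (Nat.card X : ℤ) - 1 ≤ j →
      Subsingleton (Coh.HH (CohB1.ProjSpace N k)
        (CohB1.tensorMod (ClSub.idealMod i.ker) (Twist.twistProjSpace N k j)) 1)) ∧
    Curv2.IsMRegular k N (ClSub.idealMod i.ker) ((∑ᶠ x : X, (μ x : ℤ)) + (Nat.card X : ℤ)) := by

  let P : Scheme.{u} := CohB1.ProjSpace N k
  haveI : IsProper (CohB1.ProjSpace.toSpec N k) := Dix.ProjProper.isProper_toSpec N k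
  letI : P.Over (Spec (CommRingCat.of k)) := ⟨CohB1.ProjSpace.toSpec N k⟩
  haveI : IsProper (P ↘ Spec (CommRingCat.of k)) := ‹IsProper (CohB1.ProjSpace.toSpec N k)›
  have hsum : (0 : ℤ) ≤ ∑ᶠ x : X, (μ x : ℤ) := finsum_nonneg fun x => Int.natCast_nonneg _
  have hcard : (0 : ℤ) ≤ (Nat.card X : ℤ) := Int.natCast_nonneg _
  have hL : ∀ j : ℤ, PicF.IsInvertible (Twist.twistProjSpace N k j) := fun j => K429.FinRegMain.isInvertible_L j
  have hrange : (i.ker.support : Set P) = Set.range i := by
    rw [Scheme.Hom.support_ker]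
    exact i.isClosedEmbedding.isClosed_range.closure_eq
  haveI : JacobsonSpace X := LocallyOfFiniteType.jacobsonSpace (i ≫ CohB1.ProjSpace.toSpec N k)
  have hdim : topologicalKrullDim (i.ker.support : Set P) ≤ 0 := by
    refine dim_le_zero ?_ fun x hx => ?_
    · rw [hrange]
      exact Set.finite_range _
    · rw [hrange] at hx
      obtain ⟨x, rfl⟩ := hx
      rw [← Set.image_singleton]
      exact i.isClosedEmbedding.isClosedMap _ (isClosed_discrete _)
  have hX2 : ∀ (j : ℤ) (q : ℕ), 1 ≤ q → ¬ (q = N ∧ j ≤ -((N : ℤ) + 1)) →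
      Subsingleton (Coh.HH P (CurvesB.TwistIdeal.seq (Twist.twistProjSpace N k j) i.ker).X₂ q) := fun j q hq hj =>
    subsingleton_of_iso (CurvesB.TwistIdeal.iso₂ _ _).symm q
      (S0844.result k N j q (fun h => by omega) hj)
  have h1 : ∀ j : ℤ, (∑ᶠ x : X, (μ x : ℤ)) + (Nat.card X : ℤ) - 1 ≤ j →
      Subsingleton (Coh.HH P (CohB1.tensorMod (ClSub.idealMod i.ker) (Twist.twistProjSpace N k j)) 1) := by
    intro j hj
    refine subsingleton_of_iso (CurvesB.TwistIdeal.iso₁ (Twist.twistProjSpace N k j) i.ker).symm 1 ?_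
    refine Curves.K327.NefStep.subsingleton_H1_left (CurvesB.TwistIdeal.seq_shortExact (hL j) i.ker) ?_
      (hX2 j 1 le_rfl (by omega))
    rcases lt_or_ge j 0 with hj0 | hj0
    · have hc0 : Nat.card X = 0 := by omega
      haveI : IsEmpty X := (Nat.card_eq_zero.mp hc0).resolve_right (fun h => h.false)
      intro y
      refine ⟨0, ?_⟩
      rw [map_zero]
      symm
      refine K429.FinRegMain.eq_zero_of_res (L := Twist.twistProjSpace N k j) i.ker ⊥ bot_le ?_ y ?_
      · rw [hrange, Set.range_eq_empty]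
        exact Set.empty_subset _
      · exact FormalB.GlueHom.eq_of_local _ fun x hx => (Set.notMem_empty x hx).elim
    · lift j to ℕ using hj0
      exact K429.FinRegMain.app_top_surjective i μ hμ j hj
  refine ⟨h1, fun q hq1 hqN => ?_⟩
  obtain ⟨q, rfl⟩ : ∃ q', q = q' + 1 := ⟨q - 1, by omega⟩
  rcases Nat.eq_zero_or_pos q with rfl | hq
  · exact h1 _ (by push_cast; omega)
  · refine subsingleton_of_iso (CurvesB.TwistIdeal.iso₁ (Twist.twistProjSpace N k _) i.ker).symm _ ?_
    refine step (CurvesB.TwistIdeal.seq_shortExact (hL _) i.ker) q ?_ (hX2 _ (q + 1) hq1 (by push_cast; omega))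
    exact subsingleton_of_iso (CurvesB.TwistIdeal.iso₃ (Twist.twistProjSpace N k _) i.ker).symm q
      (CurvesB.TwistIdeal.subsingleton_tensor k (hL _) i.ker hdim q hq)


end Groth.Agent.S14170
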