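import Groth.Statements.S14171
import Groth.Agent.Variety.K104.FujInp
import Groth.Agent.Vanish.K909.AltFinal
import Groth.Agent.Vanish.K909.KodAkn
import Groth.Agent.Resolve.K284.NodeB

set_option autoImplicit false
universe u
open CategoryTheory CategoryTheory.Limits AlgebraicGeometry
open Variety

namespace Groth.Agent.S14171

/-- Let k be an algebraically closed field of characteristic zero (the published statement is over the
complex numbers; this row allows any algebraically closed field of characteristic zero), n ≥ 1, and
I a nonzero quasi-coherent ideal sheaf on P^n_k. Then there exist real numbers s and e such that for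
every p ≥ 1 and every integer m: if the p-th power I^p, viewed as an O-module, is m-regular then s p
≤ m; and if m ≥ s p + e then I^p is m-regular. In words, s p ≤ reg(I^p) ≤ s p + e for all p ≥ 1. (In
the published statement s is the s-invariant of I, the least real s with s H - E nef on the blowing
up of P^n along I, H the pulled-back hyperplane class and E the exceptional divisor; this row
asserts only that some real s admits both bounds, and the bounds force s = lim reg(I^p)/p. The zero
ideal and the case n = 0, where every module is m-regular for all m, are excluded.) -/
theorem result (k : Type u) [Field k] [IsAlgClosed k] [CharZero k]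
    (n : ℕ) (hn : 1 ≤ n) (I : (CohB1.ProjSpace n k).IdealSheafData) (hI : I ≠ ⊥) :
    ∃ s e : ℝ, ∀ p : ℕ, 1 ≤ p → ∀ m : ℤ,
      (Curv2.IsMRegular k n (ClSub.idealMod (I ^ p)) m → s * (p : ℝ) ≤ (m : ℝ)) ∧
      (s * (p : ℝ) + e ≤ (m : ℝ) → Curv2.IsMRegular k n (ClSub.idealMod (I ^ p)) m) := by
  exact K104.Fuj.row14171 (K909.AltFinal.alt k (K284.NodeB.nodeB k))
    (fun X _ _ _ _ m hm L Linv hL hLinv b hb => K909.KodAkn.kod k X m hm L Linv hL hLinv b hb) n hn I hI

end Groth.Agent.S14171
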