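import Groth.Statements.S14172
import Groth.Agent.Coherent.K422.PowTwist
import Groth.Agent.Gaga.H883.Serre

set_option autoImplicit false
universe u
open CategoryTheory CategoryTheory.Limits AlgebraicGeometry
open Variety

namespace Groth.Agent.S14172

open Groth.Agent Groth.Agent.Gaga.H883 Groth.Agent.Ega2

theorem nonempty_pow (R : Type u) [CommRing R] (n : ℕ) (d : ℤ) (p : ℕ) :
    Nonempty (CohB1.tensorPow (Twist.twistProjSpace n R d) p ≅ Twist.twistProjSpace n R (d * p)) := by
  induction p with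
  | zero =>
    obtain ⟨e⟩ := Serre.O_zero n R
    refine ⟨Iso.trans ?_ (e.symm ≪≫ eqToIso (by norm_num))⟩
    exact Iso.refl _
  | succ p ih =>
    obtain ⟨e⟩ := ih
    obtain ⟨e'⟩ := Serre.O_mul n R (d * p) d
    exact ⟨Tens.mapTIso e (Iso.refl _) ≪≫ e' ≪≫ eqToIso (by push_cast; ring_nf)⟩

theorem nonempty_iso (R : Type u) [CommRing R] (n : ℕ) (d : ℤ) (p e : ℕ) (J : (CohB1.ProjSpace n R).Modules)
    (m : ℤ) (hm : m = d * p + e) :
    Nonempty (CohB1.tensorMod (CohB1.tensorMod J (CohB1.tensorPow (Twist.twistProjSpace n R d) p))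
      (CohB1.tensorPow (Twist.twistProjSpace n R 1) e) ≅ CohB1.tensorMod J (Twist.twistProjSpace n R m)) := by
  subst hm
  obtain ⟨a⟩ := nonempty_pow R n d p
  obtain ⟨b⟩ := Serre.O_nat n R e
  obtain ⟨c⟩ := Serre.tw_tw n R (d * p) e J
  exact ⟨Tens.mapTIso (Tens.mapTIso (Iso.refl _) a) b.symm ≪≫ c⟩

/-- Let k be an algebraically closed field of characteristic zero (the published statement is over the
complex numbers; this row allows any algebraically closed field of characteristic zero), I a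
quasi-coherent ideal sheaf on P^n_k, viewed as an O-module, and d an integer such that I(d) = I ⊗
O(d) is generated by its global sections. Then reg(I^p) ≤ d p + e for a suitable integer e and every
p ≥ 1: the p-th power I^p is m-regular whenever m ≥ d p + e. -/
theorem result (k : Type u) [Field k] [IsAlgClosed k] [CharZero k]
    (n : ℕ) (I : (CohB1.ProjSpace n k).IdealSheafData) (d : ℤ)
    (hd : Curv2.IsGloballyGenerated (CohB1.tensorMod (ClSub.idealMod I) (Twist.twistProjSpace n k d))) :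
    ∃ e : ℤ, ∀ p : ℕ, 1 ≤ p → ∀ m : ℤ, d * (p : ℤ) + e ≤ m →
      Curv2.IsMRegular k n (ClSub.idealMod (I ^ p)) m := by
  have : IsProper (CohB1.ProjSpace.toSpec n k) := Ega3B.ProjProper.isProper_toSpec n k
  obtain ⟨e₀, h⟩ := K422.PowTwist.uniform_ideal (I := I) (CohB1.ProjSpace.toSpec n k)
    (Serre.isInvertible_O n k 1) (Serre.isAmple_O1 n k) (Serre.isInvertible_O n k d) hd
  refine ⟨e₀ + n, fun p _ m hm i hi hin => ?_⟩
  obtain ⟨e, he⟩ : ∃ e : ℕ, m - i = d * p + e := by
    obtain ⟨e, he⟩ := Int.eq_ofNat_of_zero_le (a := m - i - d * p) (by omega)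
    exact ⟨e, by omega⟩
  obtain ⟨φ⟩ := nonempty_iso k n d p e (ClSub.idealMod (I ^ p)) (m - i) he
  exact CohqB.LocBaseHH.subsingleton_of_iso φ i (h e (by omega) p i hi)

end Groth.Agent.S14172
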