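import Groth.Statements.S14174
import Groth.Agent.Variety.K348.NormSurf
import Groth.Agent.VarietyA.AmpleField
import Groth.Agent.VarietyB.ProjSpaceProper
import Groth.Agent.Flat2H.FamOpen
import Groth.Agent.DelIll.K890.Fibres

set_option autoImplicit false
universe u
open CategoryTheory CategoryTheory.Limits AlgebraicGeometry
open Variety

namespace Groth.Agent.S14174

/-- Let k be an algebraically closed field of characteristic zero (the published statement is over the
complex numbers; this row allows any algebraically closed field of characteristic zero), X an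
integral k-scheme of Krull dimension two all of whose local rings are integrally closed domains, i :
X → P^N_k a closed immersion over k (so X is a normal projective surface and L = i^* O(1) is very
ample), and (ω, tr) a 2-dualizing pair for X over Spec k: ω is quasi-coherent and φ ↦ tr ∘ H^2(φ) is
a bijection from Hom(F, ω) onto the k-dual of H^2(X, F) for every quasi-coherent F (ω is the
dualizing sheaf of X). Then H^1(X, ω ⊗ i^* O(1)) = 0 and H^2(X, ω ⊗ i^* O(1)) = 0. -/
theorem result (k : Type u) [Field k] [IsAlgClosed k] [CharZero k]
    (N : ℕ) (X : Scheme.{u}) [X.Over (Spec (CommRingCat.of k))] [IsIntegral X] (hnorm : Pi1.IsNormalScheme X)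
    (hdim : topologicalKrullDim X = 2)
    (i : X ⟶ CohB1.ProjSpace N k) [IsClosedImmersion i] (hi : i ≫ CohB1.ProjSpace.toSpec N k = X ↘ Spec (CommRingCat.of k))
    (ω : X.Modules) (tr : Coh.HH X ω 2 →ₗ[k] k) (hω : Canon.IsRDualOver k X 2 ω tr) :
    Subsingleton (Coh.HH X (CohB1.tensorMod ω ((Scheme.Modules.pullback i).obj (Twist.twistProjSpace N k 1))) 1) ∧
    Subsingleton (Coh.HH X (CohB1.tensorMod ω ((Scheme.Modules.pullback i).obj (Twist.twistProjSpace N k 1))) 2) := by
  have h0 : IsProper (CohB1.ProjSpace.toSpec N k) := VarietyB.ProjSpaceProper.isProper_toSpec N k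
  have h1 : IsProper (X ↘ Spec (CommRingCat.of k)) := by
    rw [← hi]
    infer_instance
  have h2 : GeometricallyConnected (X ↘ Spec (CommRingCat.of k)) :=
    K890.Fibres.geometricallyConnected_of_isSepClosed
  exact K348.NormSurf.vanish (k := k) hnorm hdim hω
    (Flat2H.FamOpen.isAmple_pullback_of_isAffineHom i (VarietyA.AmpleField.isAmple_twistProjSpace N k))

end Groth.Agent.S14174
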