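import Groth.Statements.S14175
import Mathlib.Algebra.BigOperators.Intervals
import Mathlib.Data.Nat.ModEq
import Mathlib.GroupTheory.OrderOfElement

set_option autoImplicit false
universe u v w
open GalCoh

namespace Groth.Agent.S14175

/-- Let G be a finite cyclic group generated by t, let m be a natural number dividing the order of G,
and let ρ be a linear representation of G on a module V over a commutative ring k such that m·V = 0
and every element of G whose m-th power is the identity acts trivially on V. Then evaluating a
crossed homomorphism at t induces a bijection from the first cohomology of G with values in V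
(crossed homomorphisms f, i.e. f(gh) = ρ(g)f(h) + f(g), modulo the principal ones g ↦ ρ(g)x − x)
onto the coinvariants V_G (the quotient of V by the span of all ρ(g)v − v): the class of f(t) in V_G
vanishes exactly when f is principal, and every class of V_G is the class of f(t) for some crossed
homomorphism f. The bijection depends on the choice of the generator t. -/
theorem result
    {k : Type u} {G : Type v} {V : Type w} [CommRing k] [Group G] [Finite G]
    [AddCommGroup V] [Module k V] (ρ : Representation k G V)
    (t : G) (ht : ∀ g : G, g ∈ Subgroup.zpowers t)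
    (m : ℕ) (hm : m ∣ Nat.card G) (htors : ∀ v : V, m • v = 0)
    (htriv : ∀ g : G, g ^ m = 1 → ∀ v : V, ρ g v = v) :
    (∀ f : G → V, (∀ g h : G, f (g * h) = ρ g (f h) + f g) →
        (Representation.Coinvariants.mk ρ (f t) = 0 ↔ ∃ x : V, ∀ g : G, f g = ρ g x - x)) ∧
    (∀ v : V, ∃ f : G → V, (∀ g h : G, f (g * h) = ρ g (f h) + f g) ∧
        Representation.Coinvariants.mk ρ (f t) = Representation.Coinvariants.mk ρ v) := by
  classical
  have hpow : ∀ g : G, ∃ i : ℕ, t ^ i = g := by
    intro g
    have h1 := ht g
    rw [← mem_powers_iff_mem_zpowers] at h1
    exact h1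
  constructor
  · intro f hf
    constructor
    · intro h0
      rw [Representation.Coinvariants.mk_eq_zero] at h0
      have hker : Representation.Coinvariants.ker ρ ≤ LinearMap.range (ρ t - LinearMap.id) := by
        rw [Representation.Coinvariants.ker, Submodule.span_le]
        rintro _ ⟨⟨g, x⟩, rfl⟩
        obtain ⟨i, rfl⟩ := hpow g
        show ρ (t ^ i) x - x ∈ LinearMap.range (ρ t - LinearMap.id)
        induction i generalizing x with
        | zero => simp
        | succ i ih =>
          have h2 : ρ (t ^ (i + 1)) x - x = (ρ (t ^ i) (ρ t x) - ρ t x) + (ρ t x - x) := by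
            rw [pow_succ, map_mul]
            simp
          rw [h2]
          exact Submodule.add_mem _ (ih (ρ t x)) ⟨x, rfl⟩
      obtain ⟨x, hx⟩ := hker h0
      have hx' : ρ t x - x = f t := hx
      refine ⟨x, fun g => ?_⟩
      obtain ⟨i, rfl⟩ := hpow g
      have hf1 : f 1 = 0 := by
        have := hf 1 1
        rw [mul_one, map_one] at this
        simpa using this
      induction i with
      | zero => simp [hf1]
      | succ i ih =>
        rw [pow_succ, hf, ih, ← hx', map_mul, map_sub]
        simp
    · rintro ⟨x, hx⟩
      rw [Representation.Coinvariants.mk_eq_zero, hx]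
      exact Representation.Coinvariants.sub_mem_ker t x
  · intro v
    let F : ℕ → V := fun i => ∑ j ∈ Finset.range i, ρ (t ^ j) v
    have hadd : ∀ i j : ℕ, F (i + j) = F i + ρ (t ^ i) (F j) := by
      intro i j
      show ∑ j ∈ Finset.range (i + j), ρ (t ^ j) v = _
      rw [Finset.sum_range_add, map_sum]
      congr 1
      refine Finset.sum_congr rfl fun l _ => ?_
      rw [pow_add, map_mul]
      rfl
    have hN : orderOf t = Nat.card G := orderOf_eq_card_of_forall_mem_zpowers ht
    have hFN : F (orderOf t) = 0 := by
      rw [hN]
      obtain ⟨q, hq⟩ := hm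
      have hq1 : ∀ v : V, ρ (t ^ q) v = v := by
        apply htriv
        rw [← pow_mul, mul_comm, ← hq, ← hN, pow_orderOf_eq_one]
      have hl : ∀ l : ℕ, F (l * q) = l • F q := by
        intro l
        induction l with
        | zero => simp [F]
        | succ l ih =>
          have hql : ∀ v : V, ρ (t ^ (l * q)) v = v := by
            apply htriv
            rw [← pow_mul, mul_assoc, mul_comm q m, ← hq, ← hN, mul_comm, pow_mul,
              pow_orderOf_eq_one, one_pow]
          rw [add_mul, one_mul, hadd, ih, hql, succ_nsmul]
      rw [hq, hl]
      exact htors _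
    have hper : ∀ i l : ℕ, F (i + orderOf t * l) = F i := by
      intro i l
      induction l with
      | zero => simp
      | succ l ih =>
        rw [mul_add, mul_one, ← add_assoc, hadd, ih, hFN, map_zero, add_zero]
    have hwd : ∀ i j : ℕ, t ^ i = t ^ j → F i = F j := by
      intro i j hij
      rw [pow_eq_pow_iff_modEq] at hij
      rw [← Nat.mod_add_div i (orderOf t), ← Nat.mod_add_div j (orderOf t), hper, hper]
      exact congrArg F hij
    choose e he using hpow
    refine ⟨fun g => F (e g), fun g h => ?_, ?_⟩
    · show F (e (g * h)) = ρ g (F (e h)) + F (e g)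
      have h1 : F (e (g * h)) = F (e g + e h) := hwd _ _ (by rw [he, pow_add, he, he])
      rw [h1, hadd, he, add_comm]
    · show Representation.Coinvariants.mk ρ (F (e t)) = _
      have h1 : F (e t) = F 1 := hwd _ _ (by rw [he, pow_one])
      rw [h1]
      simp [F]

end Groth.Agent.S14175
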