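import Groth.Statements.S14176
import Mathlib.GroupTheory.FiniteAbelian.Duality
import Mathlib.Topology.Algebra.Group.ClosedSubgroup
import Mathlib.Topology.Algebra.Group.Quotient

set_option autoImplicit false
universe u
open Pi1

namespace Groth.Agent.S14176

section Duality

/-- The cyclic group of order `n`. -/
abbrev Cy (n : ℕ) : Type := Multiplicative (ZMod n)

theorem hasEnough (n : ℕ) [NeZero n] : HasEnoughRootsOfUnity (Cy n) n where
  prim := ⟨Multiplicative.ofAdd 1, by
    rw [IsPrimitiveRoot.iff_orderOf, orderOf_ofAdd_eq_addOrderOf, ZMod.addOrderOf_one]⟩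
  cyc := by
    have : IsCyclic (Cy n)ˣ := isCyclic_of_surjective (toUnits : Cy n ≃* (Cy n)ˣ) (toUnits).surjective
    infer_instance

theorem cy_pow (n : ℕ) (x : Cy n) : x ^ n = 1 := by
  rw [← toAdd_eq_zero, toAdd_pow]
  simp

variable (Q : Type*) [CommGroup Q] [Finite Q] (n : ℕ) [NeZero n] (hQ : ∀ q : Q, q ^ n = 1)

include hQ

omit [Finite Q] in
theorem hasEnough' : HasEnoughRootsOfUnity (Cy n) (Monoid.exponent Q) :=
  have := hasEnough n
  HasEnoughRootsOfUnity.of_dvd (Cy n) (Monoid.exponent_dvd_of_forall_pow_eq_one hQ)

theorem exists_apply_ne_one {q : Q} (hq : q ≠ 1) : ∃ χ : Q →* Cy n, χ q ≠ 1 := by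
  have := hasEnough' Q n hQ
  obtain ⟨φ, hφ⟩ := CommGroup.exists_apply_ne_one_of_hasEnoughRootsOfUnity Q (Cy n) hq
  refine ⟨(toUnits (G := Cy n)).symm.toMonoidHom.comp φ, fun h => hφ ?_⟩
  have h2 : (toUnits (G := Cy n)).symm (φ q) = 1 := h
  exact (MulEquiv.map_eq_one_iff _).mp h2

theorem exists_eval (F : (Q →* Cy n) →* Cy n) : ∃ q : Q, ∀ χ : Q →* Cy n, F χ = χ q := by
  have := hasEnough' Q n hQ
  let F' : (Q →* (Cy n)ˣ) →* (Cy n)ˣ :=
    { toFun := fun φ => toUnits (F ((toUnits (G := Cy n)).symm.toMonoidHom.comp φ))
      map_one' := by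
        have : (toUnits (G := Cy n)).symm.toMonoidHom.comp (1 : Q →* (Cy n)ˣ) = 1 := by
          ext x; simp
        rw [this, map_one, map_one]
      map_mul' := fun a b => by
        have : (toUnits (G := Cy n)).symm.toMonoidHom.comp (a * b) =
          (toUnits (G := Cy n)).symm.toMonoidHom.comp a * (toUnits (G := Cy n)).symm.toMonoidHom.comp b := by
          ext x; simp
        rw [this, map_mul, map_mul] }
  refine ⟨CommGroup.monoidHomMonoidHomEquiv Q (Cy n) F', fun χ => ?_⟩
  have h1 := CommGroup.apply_monoidHomMonoidHomEquiv (M := Cy n) ((toUnits (G := Cy n)).toMonoidHom.comp χ) F'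
  have h2 : F' ((toUnits (G := Cy n)).toMonoidHom.comp χ) = toUnits (F χ) := by
    have : (toUnits (G := Cy n)).symm.toMonoidHom.comp ((toUnits (G := Cy n)).toMonoidHom.comp χ) = χ := by
      ext x; simp
    change toUnits (F ((toUnits (G := Cy n)).symm.toMonoidHom.comp
      ((toUnits (G := Cy n)).toMonoidHom.comp χ))) = _
    rw [this]
  rw [h2] at h1
  exact ((toUnits (G := Cy n)).injective h1).symm

end Duality

open W4c1etcurveeff2

section

variable {G : Type u} [Group G] [TopologicalSpace G] [IsTopologicalGroup G] (n : ℕ)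

theorem pow_mem (g : G) : g ^ n ∈ powCommClosure G n :=
  Subgroup.le_topologicalClosure _ (Subgroup.mem_sup_left (Subgroup.subset_closure ⟨g, rfl⟩))

theorem comm_le : commutator G ≤ powCommClosure G n :=
  le_sup_right.trans (Subgroup.le_topologicalClosure _)

theorem isClosed_pcc : IsClosed (powCommClosure G n : Set G) := Subgroup.isClosed_topologicalClosure _

theorem pcc_le (H : Subgroup G) (hc : IsClosed (H : Set G)) (h1 : ∀ g : G, g ^ n ∈ H)
    (h2 : commutator G ≤ H) : powCommClosure G n ≤ H := by
  refine Subgroup.topologicalClosure_minimal _ ?_ hc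
  refine sup_le ((Subgroup.closure_le _).mpr ?_) h2
  rintro _ ⟨g, rfl⟩
  exact h1 g

theorem normal_pcc : (powCommClosure G n).Normal := Subgroup.Normal.of_commutator_le _ (comm_le n)

/-- The quotient `G / S`. -/
abbrev Quo (G : Type u) [Group G] [TopologicalSpace G] [IsTopologicalGroup G] (n : ℕ) : Type u :=
  G ⧸ powCommClosure G n

noncomputable instance : CommGroup (Quo G n) :=
  have := normal_pcc (G := G) n
  { (inferInstance : Group (Quo G n)) with
    mul_comm := fun a b => by
      have h := (Subgroup.Normal.quotient_commutative_iff_commutator_le (N := powCommClosure G n)).mpr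
        (comm_le n)
      exact h.is_comm.comm a b }

/-- The projection. -/
noncomputable def mkQ (G : Type u) [Group G] [TopologicalSpace G] [IsTopologicalGroup G] (n : ℕ) :
    G →* Quo G n :=
  have := normal_pcc (G := G) n
  QuotientGroup.mk' (powCommClosure G n)

theorem mkQ_surjective : Function.Surjective (mkQ G n) :=
  have := normal_pcc (G := G) n
  QuotientGroup.mk'_surjective (powCommClosure G n)

theorem mkQ_eq_one (g : G) : mkQ G n g = 1 ↔ g ∈ powCommClosure G n :=
  have := normal_pcc (G := G) n
  QuotientGroup.eq_one_iff g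

theorem ker_mkQ : (mkQ G n).ker = powCommClosure G n := by
  ext g
  rw [MonoidHom.mem_ker, mkQ_eq_one]

theorem quo_pow (q : Quo G n) : q ^ n = 1 := by
  obtain ⟨g, rfl⟩ := mkQ_surjective n q
  rw [← map_pow, mkQ_eq_one]
  exact pow_mem n g

theorem quo_finite [NeZero n] (s : Finset G)
    (hs : Dense ((Subgroup.closure (s : Set G) : Subgroup G) : Set G)) : Finite (Quo G n) := by
  have hT1 : T1Space (Quo G n) := QuotientGroup.t1Space_iff.mpr (isClosed_pcc n)
  let Γ : Subgroup (Quo G n) := (Subgroup.closure (s : Set G)).map (mkQ G n)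
  have hfg : Group.FG Γ := by
    classical
    refine (Group.fg_iff_subgroup_fg _).mpr ⟨s.image (mkQ G n), ?_⟩
    rw [Finset.coe_image, ← MonoidHom.map_closure]
  have htor : Finite Γ := CommGroup.finite_of_fg_isMulTorsion (G := Γ) (fun x => by
    rw [isOfFinOrder_iff_pow_eq_one]
    exact ⟨n, NeZero.pos n, Subtype.ext (quo_pow n _)⟩)
  have hdense : Dense (Γ : Set (Quo G n)) := by
    have hc : Continuous (mkQ G n) := continuous_quot_mk
    exact DenseRange.dense_image (mkQ_surjective n).denseRange hc hs
  have hcl : IsClosed (Γ : Set (Quo G n)) := (Set.toFinite (Γ : Set (Quo G n))).isClosed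
  have htop : (Γ : Set (Quo G n)) = Set.univ := by
    rw [← hcl.closure_eq, hdense.closure_eq]
  have : (Set.univ : Set (Quo G n)).Finite := by
    rw [← htop]; exact Set.toFinite _
  exact Set.finite_univ_iff.mp this

theorem isOpen_pcc [Finite (Quo G n)] : IsOpen (powCommClosure G n : Set G) := by
  have : (powCommClosure G n).FiniteIndex := by
    rw [Subgroup.finiteIndex_iff_finite_quotient]
    infer_instance
  exact Subgroup.isOpen_of_isClosed_of_finiteIndex _ (isClosed_pcc n)

theorem le_ker (χ : G →* Multiplicative (ZMod n)) (hχ : IsOpen ((χ.ker : Subgroup G) : Set G)) :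
    powCommClosure G n ≤ χ.ker := by
  refine pcc_le n _ (Subgroup.isClosed_of_isOpen _ hχ) (fun g => ?_) ?_
  · rw [MonoidHom.mem_ker, map_pow]
    exact cy_pow n _
  · exact Abelianization.commutator_subset_ker χ

/-- The characters of `G / S` as continuous characters of `G`. -/
noncomputable def infl [Finite (Quo G n)] : (Quo G n →* Cy n) →* ContChar G n where
  toFun χ := ⟨χ.comp (mkQ G n), Subgroup.isOpen_mono (H₁ := powCommClosure G n) (fun g hg => by
    rw [MonoidHom.mem_ker, MonoidHom.comp_apply, (mkQ_eq_one n g).mpr hg, map_one]) (isOpen_pcc n)⟩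
  map_one' := rfl
  map_mul' _ _ := rfl

theorem infl_surjective [Finite (Quo G n)] : Function.Surjective (infl (G := G) n) := by
  intro χ
  have := normal_pcc (G := G) n
  refine ⟨QuotientGroup.lift (powCommClosure G n) χ.1 (fun g hg => le_ker n χ.1 χ.2 hg), ?_⟩
  apply Subtype.ext
  ext g
  rfl

theorem exists_eval_contChar [NeZero n] [Finite (Quo G n)] (F : ContChar G n →* Multiplicative (ZMod n)) :
    ∃ g : G, ∀ χ : ContChar G n, F χ = (χ.1 : G →* Multiplicative (ZMod n)) g := by
  obtain ⟨q, hq⟩ := exists_eval (Quo G n) n (quo_pow n) (F.comp (infl n))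
  obtain ⟨g, rfl⟩ := mkQ_surjective n q
  refine ⟨g, fun χ => ?_⟩
  obtain ⟨χ', rfl⟩ := infl_surjective n χ
  exact hq χ'

theorem mem_iff [NeZero n] [Finite (Quo G n)] (g : G) : g ∈ powCommClosure G n ↔
    ∀ χ : G →* Multiplicative (ZMod n), IsOpen ((χ.ker : Subgroup G) : Set G) → χ g = 1 := by
  constructor
  · intro hg χ hχ
    exact le_ker n χ hχ hg
  · intro h
    by_contra hg
    obtain ⟨χ, hχ⟩ := exists_apply_ne_one (Quo G n) n (quo_pow n) (q := mkQ G n g)
      (fun h' => hg ((mkQ_eq_one n g).mp h'))
    exact hχ (h (infl n χ).1 (infl n χ).2)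

/-- Evaluation. -/
noncomputable def evalHom : G →* (ContChar G n →* Multiplicative (ZMod n)) where
  toFun g := 
    { toFun := fun χ => χ.1 g
      map_one' := rfl
      map_mul' := fun _ _ => rfl }
  map_one' := by ext χ; simp
  map_mul' a b := by ext χ; simp

theorem evalHom_surjective [NeZero n] [Finite (Quo G n)] : Function.Surjective (evalHom (G := G) n) := by
  intro F
  obtain ⟨g, hg⟩ := exists_eval_contChar n F
  refine ⟨g, ?_⟩
  ext χ
  exact congrArg _ (hg χ).symm

theorem ker_evalHom [NeZero n] [Finite (Quo G n)] : (evalHom (G := G) n).ker = powCommClosure G n := by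
  ext g
  rw [mem_iff, MonoidHom.mem_ker]
  constructor
  · intro h χ hχ
    exact DFunLike.congr_fun h (⟨χ, hχ⟩ : ContChar G n)
  · intro h
    ext χ
    exact congrArg _ (h χ.1 χ.2)

theorem map_le (φ : G ≃* G) (hφ : Continuous φ) :
    (powCommClosure G n).map φ.toMonoidHom ≤ powCommClosure G n := by
  rw [Subgroup.map_le_iff_le_comap]
  refine pcc_le n _ ((isClosed_pcc n).preimage hφ) (fun g => ?_) ?_
  · rw [Subgroup.mem_comap, map_pow]
    exact pow_mem n _
  · rw [← Subgroup.map_le_iff_le_comap]
    refine le_trans ?_ (comm_le n)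
    rw [commutator_def, Subgroup.map_commutator]
    exact Subgroup.commutator_mono le_top le_top

end

open W4c1etcurveeff2 in
/-- Let G be a topological group in which some finite subset generates a dense subgroup, let n ≥ 1, and
let S be the closure of the subgroup generated by all n-th powers and all commutators. Write D for
the group of continuous homomorphisms from G to the discrete cyclic group ℤ/n, that is,
homomorphisms with open kernel (the first cohomology of G with coefficients in the trivial module
ℤ/n), and D^∨ for its ℤ/n-dual, the group of homomorphisms D → ℤ/n. Then: S is carried onto itself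
by every group automorphism of G that is a homeomorphism; an element g of G lies in S exactly when
every element of D kills g, and every element of D^∨ is evaluation at some element of G, so that
evaluation identifies G/S with D^∨; and S is the only closed normal subgroup H of G with G/H
isomorphic to D^∨. (The published statement is for a topologically finitely generated group, calls S
characteristic and does not restrict the competing subgroups H; this row asks the automorphisms to
be homeomorphisms and H to be closed, which is what the argument uses: for the integers with the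
p-adic topology times a cyclic group of prime order q ≠ p, the subgroup qℤ × ℤ/q is normal, not
closed, and has quotient isomorphic to D^∨ ≅ ℤ/q, while S = ℤ × 0.) -/
theorem result
    {G : Type u} [Group G] [TopologicalSpace G] [IsTopologicalGroup G]
    (s : Finset G) (hs : Dense ((Subgroup.closure (s : Set G) : Subgroup G) : Set G))
    (n : ℕ) [NeZero n] (S : Subgroup G) (hS : S = powCommClosure G n) :
    (∀ φ : G ≃* G, Continuous φ → Continuous φ.symm → S.map φ.toMonoidHom = S) ∧
    (∀ g : G, g ∈ S ↔
        ∀ χ : G →* Multiplicative (ZMod n), IsOpen ((χ.ker : Subgroup G) : Set G) → χ g = 1) ∧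
    (∀ F : ContChar G n →* Multiplicative (ZMod n), ∃ g : G,
        ∀ χ : ContChar G n, F χ = (χ.1 : G →* Multiplicative (ZMod n)) g) ∧
    (∀ (H : Subgroup G) [H.Normal], IsClosed (H : Set G) →
        Nonempty (G ⧸ H ≃* (ContChar G n →* Multiplicative (ZMod n))) → H = S) := by
  subst hS
  have hfin := quo_finite n s hs
  refine ⟨?_, mem_iff n, exists_eval_contChar n, ?_⟩
  · intro φ h1 h2
    refine le_antisymm (map_le n φ h1) ?_
    intro g hg
    refine ⟨φ.symm g, map_le n φ.symm h2 ⟨g, hg, rfl⟩, ?_⟩
    exact φ.apply_symm_apply g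
  · rintro H hHn hH ⟨e⟩
    have hle : powCommClosure G n ≤ H := by
      refine pcc_le n _ hH (fun g => ?_) ?_
      · rw [← QuotientGroup.eq_one_iff, QuotientGroup.mk_pow, ← MulEquiv.map_eq_one_iff e, map_pow]
        ext χ
        exact congrArg _ (cy_pow n _)
      · rw [← Subgroup.Normal.quotient_commutative_iff_commutator_le]
        refine ⟨⟨fun a b => ?_⟩⟩
        apply e.injective
        rw [map_mul, map_mul, mul_comm]
    have hcard : H.index = (powCommClosure G n).index := by
      have h1 : H.index = Nat.card (ContChar G n →* Multiplicative (ZMod n)) := by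
        rw [Subgroup.index, Nat.card_congr e.toEquiv]
      have h2 : (powCommClosure G n).index = Nat.card (ContChar G n →* Multiplicative (ZMod n)) := by
        rw [← ker_evalHom, Subgroup.index,
          Nat.card_congr (QuotientGroup.quotientKerEquivOfSurjective _ (evalHom_surjective n)).toEquiv]
      rw [h1, h2]
    have hne : H.index ≠ 0 := by
      rw [hcard, Subgroup.index]
      exact Nat.card_pos.ne'
    have h3 := Subgroup.relIndex_mul_index hle
    rw [← hcard] at h3
    have h4 : (powCommClosure G n).relIndex H = 1 := by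
      refine Nat.eq_of_mul_eq_mul_right (Nat.pos_of_ne_zero hne) ?_
      rw [h3, one_mul]
    exact le_antisymm (Subgroup.relIndex_eq_one.mp h4) hle

end Groth.Agent.S14176
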