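import Groth.Statements.S14177
import Mathlib.RingTheory.DedekindDomain.Different
import Mathlib.RingTheory.DedekindDomain.IntegralClosure
import Mathlib.RingTheory.DedekindDomain.Ideal.Basic
import Mathlib.RingTheory.Smooth.Fiber
import Mathlib.RingTheory.Unramified.Locus
import Mathlib.RingTheory.Flat.TorsionFree
import Mathlib.FieldTheory.SeparableDegree

set_option autoImplicit false
universe u v w
open scoped nonZeroDivisors
open EtAlg

namespace Groth.Agent.S14177

open Polynomial

/-- clear denominators prime to `p`. -/
theorem exists_multiplier {A : Type u} {K : Type v} [CommRing A] [IsDedekindDomain A]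
    [Field K] [Algebra A K] [IsFractionRing A K] (n : ℕ) (hn0 : n ≠ 0) (f : K) (hf : f ≠ 0)
    (I : FractionalIdeal A⁰ K) (hI : FractionalIdeal.spanSingleton A⁰ f = I ^ n)
    (p : Ideal A) [p.IsPrime] :
    ∃ (h : K) (a : A), h ≠ 0 ∧ h ^ n * f = algebraMap A K a ∧ a ∉ p := by
  have hI0 : I ≠ 0 := by
    rintro rfl
    rw [zero_pow hn0, FractionalIdeal.spanSingleton_eq_zero_iff] at hI
    exact hf hI
  have h1 : I⁻¹ * I = 1 := inv_mul_cancel₀ hI0
  obtain ⟨h, hh, x, hx, hhx⟩ : ∃ h ∈ I⁻¹, ∃ x ∈ I, h * x ∉ (p : FractionalIdeal A⁰ K) := by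
    by_contra hcon
    push Not at hcon
    have h2 : I⁻¹ * I ≤ (p : FractionalIdeal A⁰ K) := FractionalIdeal.mul_le.2 hcon
    rw [h1, ← FractionalIdeal.coeIdeal_top, FractionalIdeal.coeIdeal_le_coeIdeal] at h2
    exact ‹p.IsPrime›.ne_top (top_le_iff.1 h2)
  have hle : FractionalIdeal.spanSingleton A⁰ h * I ≤ 1 := by
    rw [← h1]
    exact mul_le_mul_left (FractionalIdeal.spanSingleton_le_iff_mem.2 hh) I
  obtain ⟨J, hJ⟩ := FractionalIdeal.le_one_iff_exists_coeIdeal.1 hle
  have hJn : ((J ^ n : Ideal A) : FractionalIdeal A⁰ K) =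
      FractionalIdeal.spanSingleton A⁰ (h ^ n * f) := by
    rw [FractionalIdeal.coeIdeal_pow, hJ, mul_pow, ← hI, FractionalIdeal.spanSingleton_pow,
      FractionalIdeal.spanSingleton_mul_spanSingleton]
  have h3 : h ^ n * f ∈ ((J ^ n : Ideal A) : FractionalIdeal A⁰ K) := by
    rw [hJn]; exact FractionalIdeal.mem_spanSingleton_self _ _
  obtain ⟨a, ha, ha'⟩ := (FractionalIdeal.mem_coeIdeal _).1 h3
  refine ⟨h, a, ?_, ha'.symm, ?_⟩
  · rintro rfl
    apply hhx
    rw [zero_mul]
    exact Submodule.zero_mem _
  · intro hap
    have h4 : J ^ n ≤ p := by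
      rw [← FractionalIdeal.coeIdeal_le_coeIdeal K, hJn, ← ha',
        FractionalIdeal.spanSingleton_le_iff_mem]
      exact FractionalIdeal.mem_coeIdeal_of_mem _ hap
    have h5 : J ≤ p := Ideal.IsPrime.le_of_pow_le h4
    apply hhx
    have h6 : h * x ∈ (J : FractionalIdeal A⁰ K) := by
      rw [hJ]
      exact FractionalIdeal.mul_mem_mul (FractionalIdeal.mem_spanSingleton_self _ _) hx
    exact (FractionalIdeal.coeIdeal_le_coeIdeal K).2 h5 h6

section aux

attribute [local instance] FractionRing.liftAlgebra FractionRing.isScalarTower_liftAlgebra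

theorem isSeparable_fractionRing (A : Type u) (K : Type v) (L : Type w) (B : Type w) [CommRing A]
    [IsDomain A] [Field K] [Algebra A K] [IsFractionRing A K]
    [Field L] [Algebra K L] [Algebra A L] [IsScalarTower A K L]
    [CommRing B] [IsDomain B] [Algebra A B] [Algebra B L] [IsScalarTower A B L]
    [IsFractionRing B L] [Module.IsTorsionFree A B] [Algebra.IsSeparable K L] :
    Algebra.IsSeparable (FractionRing A) (FractionRing B) := by
  have H : RingHom.comp (algebraMap (FractionRing A) (FractionRing B))
      ↑(FractionRing.algEquiv A K).symm.toRingEquiv =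
        RingHom.comp ↑(FractionRing.algEquiv B L).symm.toRingEquiv (algebraMap K L) := by
    apply IsLocalization.ringHom_ext A⁰
    ext
    simp only [RingHom.coe_comp, RingHom.coe_coe,
      AlgEquiv.coe_ringEquiv, Function.comp_apply, AlgEquiv.commutes,
      ← IsScalarTower.algebraMap_apply]
    rw [IsScalarTower.algebraMap_apply A B L, AlgEquiv.commutes, ← IsScalarTower.algebraMap_apply]
  exact Algebra.IsSeparable.of_equiv_equiv _ _ H

theorem unram_aux {A : Type u} {K : Type v} {L : Type w} (B : Type w) [CommRing A]
    [IsDedekindDomain A] [Field K] [Algebra A K] [IsFractionRing A K]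
    [Field L] [Algebra K L] [Algebra A L] [IsScalarTower A K L]
    [CommRing B] [IsDedekindDomain B] [Algebra A B] [Algebra B L] [IsScalarTower A B L]
    [IsIntegralClosure B A L] [FiniteDimensional K L]
    [IsFractionRing B L] [Module.IsTorsionFree A B] [Algebra.IsSeparable K L] [Module.Finite A B]
    (n : ℕ) (hn : IsUnit (n : A)) (hn0 : n ≠ 0) (f : K) (hf : f ≠ 0)
    (I : FractionalIdeal A⁰ K) (hI : FractionalIdeal.spanSingleton A⁰ f = I ^ n)
    (α : L) (hα : α ^ n = algebraMap K L f) (hadj : Algebra.adjoin K {α} = ⊤) :
    Algebra.FormallyUnramified A B := by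
  have hsepFr : Algebra.IsSeparable (FractionRing A) (FractionRing B) :=
    isSeparable_fractionRing A K L B
  rw [← Algebra.unramifiedLocus_eq_univ_iff, Set.eq_univ_iff_forall]
  rintro ⟨P, hP⟩
  change Algebra.IsUnramifiedAt A P
  rw [← not_dvd_differentIdeal_iff, Ideal.dvd_iff_le]
  intro hle
  obtain ⟨h, a, hh0, ha, hap⟩ := exists_multiplier n hn0 f hf I hI (P.comap (algebraMap A B))
  -- the generator `β`
  have hβn : (algebraMap K L h * α) ^ n = algebraMap A L a := by
    rw [mul_pow, hα, ← map_pow, ← map_mul, ha, ← IsScalarTower.algebraMap_apply]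
  have hβint : IsIntegral A (algebraMap K L h * α) := by
    refine ⟨X ^ n - C a, monic_X_pow_sub_C a hn0, ?_⟩
    rw [← aeval_def, map_sub, map_pow, aeval_X, aeval_C, hβn, sub_self]
  obtain ⟨b, hb0⟩ := (IsIntegralClosure.isIntegral_iff (A := B)).1 hβint
  have hinjBL : Function.Injective (algebraMap B L) := IsFractionRing.injective B L
  have hbn : b ^ n = algebraMap A B a := by
    apply hinjBL
    rw [map_pow, hb0, hβn, ← IsScalarTower.algebraMap_apply]
  have hb : Algebra.adjoin K {algebraMap B L b} = ⊤ := by
    rw [eq_top_iff, ← hadj]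
    apply Algebra.adjoin_le
    rw [Set.singleton_subset_iff]
    have h2 : α = h⁻¹ • (algebraMap B L b) := by
      rw [hb0, Algebra.smul_def, ← mul_assoc, ← map_mul, inv_mul_cancel₀ hh0, map_one, one_mul]
    have h2' : algebraMap B L b ∈ Algebra.adjoin K {algebraMap B L b} :=
      Algebra.subset_adjoin (Set.mem_singleton _)
    have h2'' : h⁻¹ • (algebraMap B L b) ∈ Algebra.adjoin K {algebraMap B L b} :=
      Subalgebra.smul_mem _ h2' _
    rw [← h2] at h2''
    exact h2''
  have h3 := hle (aeval_derivative_mem_differentIdeal A K L b hb)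
  have hbint : IsIntegral A b := by
    refine ⟨X ^ n - C a, monic_X_pow_sub_C a hn0, ?_⟩
    rw [← aeval_def, map_sub, map_pow, aeval_X, aeval_C, hbn, sub_self]
  have h40 : aeval b (X ^ n - C a) = 0 := by
    rw [map_sub, map_pow, aeval_X, aeval_C, hbn, sub_self]
  have h4 : minpoly A b ∣ X ^ n - C a := minpoly.isIntegrallyClosed_dvd hbint h40
  obtain ⟨q, hq⟩ := h4
  have h5 := congrArg (fun g => aeval b (derivative g)) hq
  simp only [derivative_sub, derivative_X_pow, derivative_C, sub_zero, derivative_mul, map_add,
    map_mul, minpoly.aeval, zero_mul, add_zero, map_pow, aeval_X, aeval_C] at h5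
  have h6 : algebraMap A B n * b ^ (n - 1) ∈ P := by
    rw [h5]; exact P.mul_mem_right _ h3
  have h7 : b ^ (n - 1) ∈ P := by
    rcases hP.mem_or_mem h6 with h7 | h7
    · exact absurd (Ideal.eq_top_of_isUnit_mem _ h7 (hn.map (algebraMap A B))) hP.ne_top
    · exact h7
  have h8 : b ^ n ∈ P := by
    obtain ⟨m, rfl⟩ := Nat.exists_eq_succ_of_ne_zero hn0
    rw [Nat.succ_sub_one] at h7
    rw [Nat.succ_eq_add_one, pow_succ]
    exact P.mul_mem_right _ h7
  rw [hbn] at h8
  exact hap h8

end aux

/-- Let A be a Dedekind domain with fraction field K, let n be a natural number invertible in A, let f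
be a nonzero element of K whose principal fractional ideal is the n-th power of a fractional ideal I
(the divisor of f is n times a divisor), and let L = K(α) be a field extension of K generated by a
single element α with α^n = f. Then the integral closure of A in L is finite and étale over A. (The
published statement is for the normalisation of an integral smooth curve over a perfect field in
such an extension of its function field; this row states the same for any Dedekind domain, the case
the local argument covers.) -/
theorem result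
    {A : Type u} {K : Type v} {L : Type w} [CommRing A] [IsDedekindDomain A]
    [Field K] [Algebra A K] [IsFractionRing A K]
    [Field L] [Algebra K L] [Algebra A L] [IsScalarTower A K L]
    (n : ℕ) (hn : IsUnit (n : A)) (f : K) (hf : f ≠ 0)
    (I : FractionalIdeal A⁰ K) (hI : FractionalIdeal.spanSingleton A⁰ f = I ^ n)
    (α : L) (hα : α ^ n = algebraMap K L f) (hgen : IntermediateField.adjoin K {α} = ⊤) :
    Algebra.Etale A (integralClosure A L) ∧ Module.Finite A (integralClosure A L) := by
  have hn0 : n ≠ 0 := by
    rintro rfl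
    rw [Nat.cast_zero] at hn
    exact not_isUnit_zero hn
  have hnK : (n : K) ≠ 0 := by
    have := hn.map (algebraMap A K)
    rw [map_natCast] at this
    exact this.ne_zero
  -- `L/K` is finite separable
  have hαint : IsIntegral K α := by
    refine ⟨X ^ n - C f, monic_X_pow_sub_C f hn0, ?_⟩
    rw [← aeval_def, map_sub, map_pow, aeval_X, aeval_C, hα, sub_self]
  have hαsep : IsSeparable K α := by
    have h1 : (X ^ n - C f : K[X]).Separable := separable_X_pow_sub_C f hnK hf
    refine h1.of_dvd (minpoly.dvd K α ?_)
    rw [map_sub, map_pow, aeval_X, aeval_C, hα, sub_self]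
  have hsep : Algebra.IsSeparable K L := by
    have h1 : Algebra.IsSeparable K (IntermediateField.adjoin K {α}) :=
      (IntermediateField.isSeparable_adjoin_simple_iff_isSeparable K L).2 hαsep
    rw [hgen] at h1
    exact AlgEquiv.Algebra.isSeparable (IntermediateField.topEquiv (F := K) (E := L))
  have hfd : FiniteDimensional K L := by
    have h1 : FiniteDimensional K (IntermediateField.adjoin K {α}) :=
      IntermediateField.adjoin.finiteDimensional hαint
    rw [hgen] at h1
    exact Module.Finite.equiv (IntermediateField.topEquiv (F := K) (E := L)).toLinearEquiv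
  have hadj : Algebra.adjoin K {α} = ⊤ := by
    rw [← IntermediateField.adjoin_simple_toSubalgebra_of_isAlgebraic hαint.isAlgebraic, hgen]
    rfl
  let B := integralClosure A L
  have hfin : Module.Finite A B := IsIntegralClosure.finite A K L B
  have hD : IsDedekindDomain B := integralClosure.isDedekindDomain A K L
  have hfrac : IsFractionRing B L := IsIntegralClosure.isFractionRing_of_finite_extension A K L B
  have hinjL : Function.Injective (algebraMap A L) := by
    rw [IsScalarTower.algebraMap_eq A K L]
    exact (algebraMap K L).injective.comp (IsFractionRing.injective A K)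
  have hinj : Function.Injective (algebraMap A B) := by
    intro x y hxy
    apply hinjL
    rw [IsScalarTower.algebraMap_apply A B L, hxy, ← IsScalarTower.algebraMap_apply A B L]
  have : FaithfulSMul A B := (faithfulSMul_iff_algebraMap_injective A B).2 hinj
  have htf : Module.IsTorsionFree A B := inferInstance
  have hflat : Module.Flat A B := inferInstance
  have hfp : Algebra.FinitePresentation A B := Algebra.FinitePresentation.of_finiteType.1 inferInstance
  refine ⟨?_, hfin⟩
  have hunr : Algebra.FormallyUnramified A B :=
    unram_aux (K := K) (L := L) B n hn hn0 f hf I hI α hα hadj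
  exact Algebra.Etale.of_formallyUnramified_of_flat

end Groth.Agent.S14177
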