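import Groth.Statements.S14178
import Groth.Agent.EtAlg.K364.Kummer

set_option autoImplicit false
universe u v w
open scoped nonZeroDivisors
open EtAlg

namespace Groth.Agent.S14178

/-- Let A be a Dedekind domain with fraction field K, let n be a natural number invertible in A such
that K contains a primitive n-th root of unity, let f be a nonzero element of K and I an invertible
fractional ideal of A with (f) = I^n whose class in the ideal class group of A has order exactly n
(the divisor of f is n times a divisor whose class has order n), and let L = K(α) be a field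
extension of K generated by a single element α with α^n = f. Then L is Galois over K of degree n
with cyclic Galois group. (The published statement is for an integral smooth curve over a perfect
field containing a primitive n-th root of unity, with the Picard group of the curve in place of the
class group; this row states it for any Dedekind domain.) -/
theorem result
    {A : Type u} {K : Type v} {L : Type w} [CommRing A] [IsDedekindDomain A]
    [Field K] [Algebra A K] [IsFractionRing A K]
    [Field L] [Algebra K L]
    (n : ℕ) (hn : IsUnit (n : A)) (ζ : K) (hζ : IsPrimitiveRoot ζ n) (f : K) (hf : f ≠ 0)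
    (I : (FractionalIdeal A⁰ K)ˣ) (hI : FractionalIdeal.spanSingleton A⁰ f = (I : FractionalIdeal A⁰ K) ^ n)
    (hord : orderOf (ClassGroup.mk K I) = n)
    (α : L) (hα : α ^ n = algebraMap K L f) (hgen : IntermediateField.adjoin K {α} = ⊤) :
    IsGalois K L ∧ IsCyclic (L ≃ₐ[K] L) ∧ Module.finrank K L = n := by
  have hnK : (n : K) ≠ 0 := by
    have h1 : IsUnit (algebraMap A K (n : A)) := hn.map _
    rw [map_natCast] at h1
    exact h1.ne_zero
  have hn0 : n ≠ 0 := by rintro rfl; simp at hnK
  obtain ⟨hgal, hcyc, ⟨k, hk⟩, g, hg⟩ :=
    K364.Kummer.kummer_pow n hnK ζ hζ f hf α hα hgen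
  refine ⟨hgal, hcyc, ?_⟩
  set m := Module.finrank K L with hm
  have hm0 : m ≠ 0 := by
    rintro h0
    rw [h0, zero_mul] at hk
    exact hn0 hk
  have hk0 : k ≠ 0 := by
    rintro rfl
    rw [mul_zero] at hk
    exact hn0 hk
  -- `f = g ^ k`
  have hfg : g ^ k = f := by
    apply (algebraMap K L).injective
    rw [map_pow, ← hg, ← pow_mul, ← hk, hα]
  have hg0 : g ≠ 0 := by
    rintro rfl
    rw [zero_pow hk0] at hfg
    exact hf hfg.symm
  let G : (FractionalIdeal A⁰ K)ˣ := toPrincipalIdeal A K (Units.mk0 g hg0)
  have hG : G ^ k = (I ^ m) ^ k := by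
    apply Units.ext
    rw [← pow_mul, ← hk, Units.val_pow_eq_pow_val, Units.val_pow_eq_pow_val, ← hI,
      coe_toPrincipalIdeal, Units.val_mk0, FractionalIdeal.spanSingleton_pow, hfg]
  have h1 : G = I ^ m := K364.Kummer.eq_of_pow_eq_pow G (I ^ m) hk0 hG
  have h2 : ClassGroup.mk K (I ^ m) = 1 := by
    rw [ClassGroup.mk_eq_one_iff, ← h1]
    refine ⟨⟨g, ?_⟩⟩
    change ((toPrincipalIdeal A K (Units.mk0 g hg0) : FractionalIdeal A⁰ K) : Submodule A K) = _
    rw [coe_toPrincipalIdeal, FractionalIdeal.coe_spanSingleton]
    rfl
  have h3 : n ∣ m := by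
    rw [← hord]
    apply orderOf_dvd_of_pow_eq_one
    rw [← map_pow, h2]
  exact Nat.dvd_antisymm ⟨k, hk⟩ h3

end Groth.Agent.S14178
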