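import Groth.Statements.S14180
-- import your own Groth.Agent.* helpers here
import Groth.Agent.EtCore.K301.NodeCount
import Groth.Agent.S1585
import Groth.Agent.Unram17.K135.NormIff
import Groth.Agent.CurvesC.RegNormal
import Groth.Agent.VarietyA.SmoothLocusSch

set_option autoImplicit false
universe u
open CategoryTheory CategoryTheory.Limits AlgebraicGeometry
open EtCore

namespace Groth.Agent.S14180

/-- Let k be an algebraically closed field and n ≥ 1 an integer invertible in k; let X be an integral
proper curve over k (separated and of finite type, of dimension one) whose closed points are all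
smooth points or nodes, with exactly one node, and let ν : X^ν ⟶ X be its normalization. Then the
pullback map H¹(X, μ_n) → H¹(X^ν, ν⁻¹μ_n) on étale cohomology is surjective and its kernel has
exactly n elements (it is the image of (μ_n(k) × μ_n(k))/μ_n(k)). (The published statement is for
the base change to an algebraic closure of a projective nodal curve with one node over a perfect
field and records the Galois-module structure of the short exact sequence; this row keeps the part
over the algebraically closed field. Exactness of pullback and the quasi-compactness and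
quasi-separatedness of Spec K(X) ⟶ X always hold; the binders only serve to form the map and the
normalization.) -/
theorem result
    (k : Type u) [Field k] [IsAlgClosed k] (X : Scheme.{u}) [X.Over (Spec (CommRingCat.of k))]
    [IsProper (X ↘ Spec (CommRingCat.of k))] [IsIntegral X]
    (hdim : topologicalKrullDim X = 1)
    (hnodal : Curv2.AtWorstNodal k X) (hone : Nat.card {x : X // Curv2.IsNode k X x} = 1)
    [QuasiCompact (X.fromSpecStalk (genericPoint X))] [QuasiSeparated (X.fromSpecStalk (genericPoint X))]
    [PreservesFiniteLimits (EtCoh.pull (Curv2.normalizationι X))]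
    (n : ℕ) (hn : 1 ≤ n) (hnk : (n : k) ≠ 0) :
    Function.Surjective (EtCore.Hpull (Curv2.normalizationι X) (EtCoh.mu X n) 1) ∧
    Nat.card (EtCore.Hpull (Curv2.normalizationι X) (EtCoh.mu X n) 1).ker = n := by
  let f : X ⟶ Spec (CommRingCat.of k) := X ↘ Spec (CommRingCat.of k)
  obtain ⟨hfin, hdom, ⟨U₀, hU₀, hiso₀⟩, hint, hnorm⟩ := Groth.Agent.S1585.result k X
  obtain ⟨⟨z, hz⟩, hall⟩ := Nat.card_eq_one_iff_exists.1 hone
  have hN : IsNoetherian X := Models.H58.NodalGlueGeo.isNoetherian f
  have hzc : IsClosed ({z} : Set X) := hz.1
  have hu : ∀ x : X, Curv2.IsNode k X x → x = z := fun x hx =>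
    congrArg Subtype.val (hall ⟨x, hx⟩)
  have hIC : ∀ x : X, x ≠ z → IsIntegrallyClosed (X.presheaf.stalk x) := by
    intro x hxz
    by_cases hx : IsClosed ({x} : Set X)
    · rcases hnodal x hx with ⟨W, hxW, hW⟩ | h
      · have h1 : x ∈ f.smoothLocus := VarietyA.SmoothLocusSch.le_smoothLocus _ W hxW
        have h2 := (VarietyA.SmoothReg.mem_smoothLocus_iff_of_perfectField f x).1 h1
        exact CurvesC.RegNormal.isIntegrallyClosed _
      · exact absurd (hu x h) hxz
    · have h1 := CurvesB.DimPts.ringKrullDim_stalk_eq_zero_of_not_isClosed hdim.le x hx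
      have : Ring.KrullDimLE 0 (X.presheaf.stalk x) := Ring.krullDimLE_iff.2 h1.le
      have h2 : IsField (X.presheaf.stalk x) := Ring.KrullDimLE.isField_of_isDomain
      let _ := h2.toField
      infer_instance
  let U : X.Opens := ⟨{z}ᶜ, hzc.isOpen_compl⟩
  have hU : (U : Set X).Nonempty :=
    ⟨genericPoint X, fun h => K301.NodeFib.ne_genericPoint k X z hz h.symm⟩
  have hiso : IsIso (Curv2.normalizationι X ∣_ U) :=
    Unram17.K135.NormIff.isIso_restrict_of_normal X U hU (fun x hx => hIC x hx)
  obtain ⟨D, hD⟩ := K301.NormCurve.exists_data f hdim.le (Curv2.normalizationι X) U hU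
  have hD' : (D.T : Set X) = {z} := by
    rw [hD]
    exact compl_compl _
  obtain ⟨x, y, hx, hy, hxy, hfib⟩ := K301.NodeFib.node_fibre k X hdim.le
    (Curv2.normalizationι X) (fun x' => (hnorm x').2) U hU z hz
  have h := (K301.NormCurve.HE_mu f (Curv2.normalizationι X) n hn hnk 1).symm
  obtain ⟨h1, h2⟩ := K301.NodeCount.main f (Curv2.normalizationι X) n hn D z hD' hzc x y hx hy hxy
    hfib
  exact ⟨h.surjective h1, h.card_ker.symm.trans h2⟩

end Groth.Agent.S14180
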