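import Groth.Statements.S14184
import Groth.Agent.LocSym.K717.Recip

set_option autoImplicit false
universe u
open CategoryTheory AlgebraicGeometry
open LocSym

namespace Groth.Agent.S14184

/-- Let k be an algebraically closed field and X a smooth proper integral curve over k (structure
morphism c, dimension one); points are k-points and ord_x is the valuation at x. Let n ≥ 1, let Z be
a finite set of points, let f₁, f₂ be nonzero rational functions and D₁, D₁′, D₂ divisors (finitely
supported integer-valued functions on points) with n·D₁ = div(f₁) + D₁′, D₁′ supported on Z, n·D₂ =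
div(f₂), f₂ taking the value 1 at every point of Z, and div(f₁) and D₂ with disjoint supports. Let
v₁(x) ∈ kˣ be the value of f₁ at each point of the support of D₂ and v₂(x) ∈ kˣ the value of f₂ at
each point of the support of D₁. Then the quotient of ∏_x v₁(x)^{D₂(x)} by ∏_x v₂(x)^{D₁(x)} is an
n-th root of unity: its n-th power is 1. (This quotient f₁(D₂)/f₂(D₁) is the generalised Weil
pairing of the classes of (D₁, D₁′, f₁) and D₂; the published statement also normalises f₁, f₂ at a
base point, which is not needed for this assertion.) -/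
theorem result
    (k : Type u) [Field k] [IsAlgClosed k] (X : Scheme.{u}) [IsIntegral X]
    (c : X ⟶ Spec (CommRingCat.of k)) [IsProper c] [Smooth c] (hdim : topologicalKrullDim X = 1)
    (n : ℕ) (hn : 1 ≤ n) (Z : Finset (LocSym.Pt c))
    (f₁ f₂ : X.functionField) (hf₁ : f₁ ≠ 0) (hf₂ : f₂ ≠ 0)
    (D₁ D₁' D₂ : LocSym.Pt c →₀ ℤ)
    (hD₁ : ∀ x : LocSym.Pt c, (n : ℤ) * D₁ x = x.ord f₁ + D₁' x) (hD₁' : D₁'.support ⊆ Z)
    (hD₂ : ∀ x : LocSym.Pt c, (n : ℤ) * D₂ x = x.ord f₂)
    (hf₂Z : ∀ x ∈ Z, LocSym.HasValueAt x f₂ 1)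
    (hdisj : ∀ x : LocSym.Pt c, x.ord f₁ = 0 ∨ D₂ x = 0)
    (v₁ v₂ : LocSym.Pt c → kˣ)
    (hv₁ : ∀ x ∈ D₂.support, LocSym.HasValueAt x f₁ (v₁ x : k))
    (hv₂ : ∀ x ∈ D₁.support, LocSym.HasValueAt x f₂ (v₂ x : k)) :
    ((D₂.prod fun x e => v₁ x ^ e) / (D₁.prod fun x e => v₂ x ^ e)) ^ n = 1 := by
  classical
  have h1 : ∏ᶠ x : LocSym.Pt c, (v₁ x ^ ((n : ℤ) * D₂ x) * v₂ x ^ (-((n : ℤ) * D₁ x))) = 1 := by
    refine K717.Recip.finprod_tm hdim hf₁ hf₂ _ fun x => ?_
    have hval : ∀ x ∈ Z, LocSym.HasValueAt x f₂ (((1 : kˣ) : kˣ) : k) := by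
      intro x hx
      rw [Units.val_one]
      exact hf₂Z x hx
    by_cases h2 : D₂ x = 0
    · have h2' : x.ord f₂ = 0 := by rw [← hD₂, h2, mul_zero]
      rw [h2, mul_zero, zpow_zero, one_mul]
      by_cases h3 : D₁ x = 0
      · rw [h3, mul_zero, neg_zero, zpow_zero]
        by_cases h4 : x.ord f₁ = 0
        · obtain ⟨a, ha⟩ := K717.Value.exists_unit_value hdim x hf₂ h2'
          have h5 := K717.Recip.isTm_of_right hdim (f := f₁) h2' ha
          rwa [h4, neg_zero, zpow_zero] at h5
        · have h5 : D₁' x ≠ 0 := by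
            intro h5
            have := hD₁ x
            rw [h3, h5] at this
            exact h4 (by omega)
          have h6 : x ∈ Z := hD₁' (Finsupp.mem_support_iff.2 h5)
          have h7 := K717.Recip.isTm_of_right hdim (f := f₁) h2' (hval x h6)
          rwa [one_zpow] at h7
      · have h4 := hv₂ x (Finsupp.mem_support_iff.2 h3)
        have h5 := K717.Recip.isTm_of_right hdim (f := f₁) h2' h4
        by_cases h6 : D₁' x = 0
        · have h7 := hD₁ x
          rw [h6, add_zero] at h7
          rwa [h7]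
        · have h7 : x ∈ Z := hD₁' (Finsupp.mem_support_iff.2 h6)
          have h8 : v₂ x = 1 := Units.ext (K717.Basic.value_unique hdim x _ h4 (hval x h7))
          rw [h8, one_zpow] at h5 ⊢
          exact h5
    · have h3 : x.ord f₁ = 0 := (hdisj x).resolve_right h2
      have h4 := K717.Recip.isTm_of_left hdim (g := f₂) h3 (hv₁ x (Finsupp.mem_support_iff.2 h2))
      have h5 : D₁ x = 0 := by
        by_contra h5
        have h6 := K717.Value.ord_eq_zero hdim (hv₂ x (Finsupp.mem_support_iff.2 h5)) (Units.ne_zero _)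
        rw [← hD₂] at h6
        rcases mul_eq_zero.1 h6 with h7 | h7
        · have : n = 0 := by exact_mod_cast h7
          omega
        · exact h2 h7
      rw [h5, mul_zero, neg_zero, zpow_zero, mul_one, hD₂]
      exact h4
  have hs1 : (Function.mulSupport fun x : LocSym.Pt c => v₁ x ^ ((n : ℤ) * D₂ x)).Finite := by
    refine D₂.support.finite_toSet.subset ?_
    intro x hx
    rw [Finset.mem_coe, Finsupp.mem_support_iff]
    intro h0
    exact hx (by simp only [h0, mul_zero, zpow_zero])
  have hs2 : (Function.mulSupport fun x : LocSym.Pt c => v₂ x ^ (-((n : ℤ) * D₁ x))).Finite := by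
    refine D₁.support.finite_toSet.subset ?_
    intro x hx
    rw [Finset.mem_coe, Finsupp.mem_support_iff]
    intro h0
    exact hx (by simp only [h0, mul_zero, neg_zero, zpow_zero])
  rw [finprod_mul_distrib hs1 hs2] at h1
  have e1 : ∏ᶠ x : LocSym.Pt c, v₁ x ^ ((n : ℤ) * D₂ x) = (D₂.prod fun x e => v₁ x ^ e) ^ n := by
    rw [finprod_eq_prod_of_mulSupport_subset (s := D₂.support), Finsupp.prod, ← Finset.prod_pow]
    · refine Finset.prod_congr rfl fun x _ => ?_
      rw [mul_comm, zpow_mul, zpow_natCast]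
    · intro x hx
      rw [Finset.mem_coe, Finsupp.mem_support_iff]
      intro h0
      exact hx (by simp only [h0, mul_zero, zpow_zero])
  have e2 : ∏ᶠ x : LocSym.Pt c, v₂ x ^ (-((n : ℤ) * D₁ x)) = ((D₁.prod fun x e => v₂ x ^ e) ^ n)⁻¹ := by
    rw [finprod_eq_prod_of_mulSupport_subset (s := D₁.support), Finsupp.prod, ← Finset.prod_pow,
      ← Finset.prod_inv_distrib]
    · refine Finset.prod_congr rfl fun x _ => ?_
      rw [zpow_neg, mul_comm, zpow_mul, zpow_natCast]
    · intro x hx
      rw [Finset.mem_coe, Finsupp.mem_support_iff]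
      intro h0
      exact hx (by simp only [h0, mul_zero, neg_zero, zpow_zero])
  rw [e1, e2] at h1
  rw [div_pow, div_eq_mul_inv]
  exact h1

end Groth.Agent.S14184
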