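import Groth.Statements.S14185
import Groth.Agent.LocSym.K717.ShriekMain

set_option autoImplicit false
universe u
open CategoryTheory CategoryTheory.Limits AlgebraicGeometry
open LocSym

namespace Groth.Agent.S14185

open W4c1etcurveeff2 in
/-- Let k be an algebraically closed field, X a smooth proper integral curve over k (structure morphism
c, dimension one), m a reduced modulus (every multiplicity at most 1) and j : U ⟶ X an open
immersion whose image is exactly the complement of the points of the support of m; let n ≥ 1 be
invertible in k. Then the compactly supported cohomology group H¹_c(U, μ_n), that is H¹(X, j_!μ_n),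
is isomorphic to the n-torsion subgroup of the generalised Picard group Pic_m(X) (divisors vanishing
on the support of m modulo divisors of nonzero rational functions congruent to 1 modulo m).
(Existence of an isomorphism of groups only; the published statement is an isomorphism of Galois
modules with the degree-zero part Pic⁰_m(X)[n], which equals Pic_m(X)[n].) -/
theorem result
    (k : Type u) [Field k] [IsAlgClosed k] (X : Scheme.{u}) [IsIntegral X]
    (c : X ⟶ Spec (CommRingCat.of k)) [IsProper c] [Smooth c] (hdim : topologicalKrullDim X = 1)
    (m : LocSym.Pt c →₀ ℕ) (hm : ∀ x : LocSym.Pt c, m x ≤ 1)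
    {U : Scheme.{u}} (j : U ⟶ X) [IsOpenImmersion j] [EtShriek.JCont j]
    (hU : ∀ x : LocSym.Pt c, x ∈ m.support ↔ x.pt ∉ Set.range j.base)
    (n : ℕ) (hn : 1 ≤ n) (hnk : (n : k) ≠ 0) :
    Nonempty (EtCoh.H X ((EtShriek.extZero j).obj (EtCoh.mu U n)) 1 ≃+
      (nsmulAddMonoidHom (α := PicMod c m) n).ker) := by
  exact K717.ShriekMain.main c hdim j m hm hU n hnk

end Groth.Agent.S14185
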