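import Groth.Statements.S14186
import Groth.Agent.EtDual.K338.CurveOpen
import Groth.Agent.Sga5.H852.ShriekLoc
import Groth.Agent.Sga5.H856.HYStalk
import Groth.Agent.EtpbcB.TorsionBasic
import Mathlib.AlgebraicGeometry.AlgClosed.Basic

set_option autoImplicit false
universe u
open CategoryTheory CategoryTheory.Limits AlgebraicGeometry
open EtDual

namespace Groth.Agent.S14186

open Groth.Agent.Sga4h Groth.Agent.Sga4h.LocCohLES Groth.Agent.Sga5.H852

/-- Let k be an algebraically closed field, X an integral curve over k (separated and of finite type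
over k, of dimension one), z a closed point of X and j : U ⟶ X an open immersion with image X ∖ {z};
let n ≥ 1 be invertible in k and F a finite locally constant abelian sheaf on the small étale site
of U killed by n (a lisse sheaf of ℤ/n-modules). Then, for cohomology with support in z: H⁰_z(X,
j_!F) vanishes, H⁰_z(X, j_*F) and H¹_z(X, j_*F) vanish, and H^i_z(X, j_!F) and H^i_z(X, j_*F) vanish
for every i ≥ 3. (The published statement also identifies H¹_z(X, j_!F) with H⁰(z, F) and H²_z(X,
j_!F) with H²_z(X, j_*F); this row states only the vanishing assertions. No regularity of X at z is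
assumed.) -/
theorem result
    (k : Type u) [Field k] [IsAlgClosed k] (X : Scheme.{u}) (f : X ⟶ Spec (CommRingCat.of k))
    [IsSeparated f] [LocallyOfFiniteType f] [QuasiCompact f] [IsIntegral X]
    (hdim : topologicalKrullDim X = 1)
    (z : X) (hz : IsClosed ({z} : Set X))
    {U : Scheme.{u}} (j : U ⟶ X) [IsOpenImmersion j] [EtCoh.BCCont j] [EtShriek.JCont j]
    (hU : Set.range j.base = {z}ᶜ)
    (n : ℕ) (hn : 1 ≤ n) (hnk : (n : k) ≠ 0)
    (F : EtCoh.Ab U) (hF : EtCoh.IsFiniteLocallyConstant F) (hFn : EtCoh.KilledBy n F) :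
    Subsingleton ((EtDual.HY j 0).obj ((EtShriek.extZero j).obj F)) ∧
    Subsingleton ((EtDual.HY j 0).obj ((EtCoh.push j).obj F)) ∧
    Subsingleton ((EtDual.HY j 1).obj ((EtCoh.push j).obj F)) ∧
    (∀ i : ℕ, 3 ≤ i →
      Subsingleton ((EtDual.HY j i).obj ((EtShriek.extZero j).obj F)) ∧
      Subsingleton ((EtDual.HY j i).obj ((EtCoh.push j).obj F))) := by
  -- the geometric point at `z`
  have hcl : IsClosedImmersion (X.fromSpecResidueField z) :=
    isClosed_singleton_iff_isClosedImmersion.1 hz
  let ξ : Spec (CommRingCat.of k) ⟶ X := pointOfClosedPoint f z hz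
  have hξ : IsClosedImmersion ξ := by
    change IsClosedImmersion (Spec.map (residueFieldIsoBase f z hz).hom ≫ X.fromSpecResidueField z)
    infer_instance
  have hrξ : Set.range ξ = {z} := by
    ext x
    constructor
    · rintro ⟨a, rfl⟩
      exact pointOfClosedPoint_apply f z hz a
    · rintro rfl
      exact ⟨default, pointOfClosedPoint_apply f _ hz _⟩
  have hd : IsCompl (Set.range ξ) (Set.range j) := by
    have h2 : Set.range j = {z}ᶜ := hU
    rw [hrξ, h2]
    exact isCompl_compl
  have key : ∀ (q : ℕ) (G : EtCoh.Ab X), IsZero ((EtDual.locCoh j q).obj G) →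
      Subsingleton ((EtDual.HY j q).obj G) := by
    intro q G h
    have h1 : IsZero ((EtDual.HY j q).obj G) :=
      ((EtCoh.stalk ξ).map_isZero h).of_iso ((Sga5.H856.HYStalk.HYIsoStalk j ξ hd q).app G)
    exact AddCommGrpCat.subsingleton_of_isZero h1
  have htor : EtCoh.IsTorsion F := by
    intro V s x
    refine ⟨V, 𝟙 V, ⟨x, rfl⟩, ?_⟩
    refine isOfFinAddOrder_iff_nsmul_eq_zero.2 ⟨n, hn, ?_⟩
    exact hFn V _
  have hR : ∀ q, 2 ≤ q → IsZero ((EtCoh.Rpush j q).obj F) := fun q hq =>
    K338.CurveOpen.isZero_Rpush k X f hdim.le j F htor q hq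
  have hunit : IsIso (EtDual.unitApp j ((EtCoh.push j).obj F)) := by
    have h1 : IsIso ((EtCoh.pullPushAdj j).counit.app F) := inferInstance
    have h2 := (EtCoh.pullPushAdj j).right_triangle_components F
    have h3 : IsIso ((EtCoh.push j).map ((EtCoh.pullPushAdj j).counit.app F)) := inferInstance
    exact IsIso.of_isIso_fac_right h2
  refine ⟨key 0 _ (ShriekLoc.isZero_locCoh_zero j F), key 0 _ ?_, key 1 _ ?_, ?_⟩
  · rw [isZero_locCoh_zero_iff]
    infer_instance
  · rw [isZero_locCoh_one_iff]
    infer_instance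
  · intro i hi
    obtain ⟨q, rfl⟩ : ∃ q, i = q + 2 := ⟨i - 2, by omega⟩
    refine ⟨key _ _ ?_, key _ _ ?_⟩
    · exact (hR (q + 1) (by omega)).of_iso (ShriekLoc.succIso j F q)
    · exact (hR (q + 1) (by omega)).of_iso ((locCohSuccIso j ((EtCoh.push j).obj F) q).symm ≪≫
        (EtCoh.Rpush j (q + 1)).mapIso (asIso ((EtCoh.pullPushAdj j).counit.app F)))

end Groth.Agent.S14186
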