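import Groth.Statements.S14187
import Groth.Agent.LocSym.K869.KumSeq
import Groth.Agent.Etcore.MuCard
import Groth.Agent.S0231
import Groth.Agent.CurvesA.CurveDvr
import Groth.Agent.CycB.OrdFrac
import Mathlib.AlgebraicGeometry.AlgClosed.Basic

set_option autoImplicit false
universe u
open CategoryTheory CategoryTheory.Limits AlgebraicGeometry
open LocSym

namespace Groth.Agent.S14187

open W4c1etcurveeff2 K869.KumSeq Groth.Agent.CurvesA Groth.Agent.CurvesA.RatSec Groth.Agent.CurvesA.OrdMap

/-- the two order functions agree -/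
theorem ordFrac_eq_ordU (R : Type u) [CommRing R] [IsDomain R] [IsDiscreteValuationRing R]
    (K : Type u) [Field K] [Algebra R K] [IsFractionRing R K] (f : Additive Kˣ) :
    CycAlg.ordFrac R K ((f.toMul : Kˣ) : K) = DvrExt.ordU R K f := by
  rw [Groth.Agent.CycB.OrdFrac.ordFrac_eq_iff R K (Units.ne_zero _)]
  have h1 : Ring.ordFrac R ((f.toMul : Kˣ) : K) ≠ 0 := by simp
  exact (WithZero.exp_log h1).symm

section

variable {k : Type u} [Field k] {X : Scheme.{u}} [IsIntegral X] (c : X ⟶ Spec (CommRingCat.of k))
  (hord : ∀ x : LocSym.Pt c, ∃ φ : Additive (X.functionField)ˣ →+ ℤ,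
    ∀ f : Additive (X.functionField)ˣ, φ f = x.ord ((f.toMul : (X.functionField)ˣ) : X.functionField)) (n : ℕ)

include hord in
theorem mem_kummerPairs (p : (LocSym.Pt c →₀ ℤ) × Additive (X.functionField)ˣ) :
    p ∈ kummerPairs c n ↔ ∀ x : LocSym.Pt c, (n : ℤ) * p.1 x = x.ord ((p.2).toMul : X.functionField) := by
  constructor
  · intro hp x
    obtain ⟨φ, hφ⟩ := hord x
    rw [← hφ]
    induction hp using AddSubgroup.closure_induction with
    | mem p hp => rw [hφ]; exact hp x
    | zero => simp
    | add p q _ _ h1 h2 =>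
      rw [Prod.fst_add, Prod.snd_add, Finsupp.add_apply, map_add, mul_add, h1, h2]
    | neg p _ h1 => rw [Prod.fst_neg, Prod.snd_neg, Finsupp.neg_apply, map_neg, mul_neg, h1]
  · intro h
    exact AddSubgroup.subset_closure h

include hord in
theorem mem_kummerPairsPow (p : (LocSym.Pt c →₀ ℤ) × Additive (X.functionField)ˣ) :
    p ∈ kummerPairsPow c n ↔ (∀ x : LocSym.Pt c, (n : ℤ) * p.1 x = x.ord ((p.2).toMul : X.functionField)) ∧
      ∃ h : (X.functionField)ˣ, (p.2).toMul = h ^ n := by
  constructor
  · intro hp
    constructor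
    · intro x
      obtain ⟨φ, hφ⟩ := hord x
      rw [← hφ]
      induction hp using AddSubgroup.closure_induction with
      | mem p hp => rw [hφ]; exact hp.1 x
      | zero => simp
      | add p q _ _ h1 h2 =>
        rw [Prod.fst_add, Prod.snd_add, Finsupp.add_apply, map_add, mul_add, h1, h2]
      | neg p _ h1 => rw [Prod.fst_neg, Prod.snd_neg, Finsupp.neg_apply, map_neg, mul_neg, h1]
    · induction hp using AddSubgroup.closure_induction with
      | mem p hp => exact hp.2
      | zero => exact ⟨1, by simp⟩
      | add p q _ _ h1 h2 =>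
        obtain ⟨a, ha⟩ := h1
        obtain ⟨b, hb⟩ := h2
        exact ⟨a * b, by rw [Prod.snd_add, toMul_add, ha, hb, mul_pow]⟩
      | neg p _ h1 =>
        obtain ⟨a, ha⟩ := h1
        exact ⟨a⁻¹, by rw [Prod.snd_neg, toMul_neg, ha, inv_pow]⟩
  · intro h
    exact AddSubgroup.subset_closure h

end

open W4c1etcurveeff2 in
/-- Let k be an algebraically closed field, X a smooth integral curve over k (separated and of finite
type over k, of dimension one, affine or not; structure morphism c, points the k-points with
valuations ord_x), and n ≥ 1 an integer invertible in k. Then the étale cohomology group H¹(X, μ_n)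
is isomorphic to the group of pairs (D, f) consisting of a divisor D on the points and a nonzero
rational function f with n·D = div(f), modulo the pairs whose f is an n-th power. (Existence of an
isomorphism of groups only; the published isomorphism is canonical, sending (D, f) to the line
bundle O(D) with the trivialisation of its n-th power given by f.) -/
theorem result
    (k : Type u) [Field k] [IsAlgClosed k] (X : Scheme.{u}) [IsIntegral X]
    (c : X ⟶ Spec (CommRingCat.of k)) [IsSeparated c] [LocallyOfFiniteType c] [QuasiCompact c] [Smooth c]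
    (hdim : topologicalKrullDim X = 1)
    (n : ℕ) (hn : 1 ≤ n) (hnk : (n : k) ≠ 0) :
    Nonempty (EtCoh.H X (EtCoh.mu X n) 1 ≃+ KummerPairGrp c n) := by
  have hXn : IsLocallyNoetherian X := LocallyOfFiniteType.isLocallyNoetherian c
  have hXc : CompactSpace X := (quasiCompact_iff_compactSpace (f := c)).mp inferInstance
  have hX : DivPoint.IsDed X := fun x hx => CurveDvr.isDiscreteValuationRing_stalk c hdim.le x hx
  let e : LocSym.Pt c ≃ {x : X // x ≠ genericPoint X} :=
    (pointEquivClosedPoint c).trans (Equiv.subtypeEquivRight fun x => CurveDvr.isClosed_singleton_iff hdim x)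
  have he : ∀ x, (e x).1 = x.pt := fun x => rfl
  have hordE : ∀ (x : LocSym.Pt c) (f : Additive (X.functionField)ˣ),
      x.ord ((f.toMul : (X.functionField)ˣ) : X.functionField) = ordAt hX (e x) f := by
    intro x f
    have : IsDiscreteValuationRing (X.presheaf.stalk (e x).1) := hX _ (e x).2
    exact ordFrac_eq_ordU (X.presheaf.stalk (e x).1) X.functionField f
  have hord : ∀ x : LocSym.Pt c, ∃ φ : Additive (X.functionField)ˣ →+ ℤ,
      ∀ f : Additive (X.functionField)ˣ, φ f = x.ord ((f.toMul : (X.functionField)ˣ) : X.functionField) :=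
    fun x => ⟨ordAt hX (e x), fun f => (hordE x f).symm⟩
  have hH : Subsingleton (EtCoh.H X (jGm X) 1) := Groth.Agent.S0231.result k X c hdim 1 le_rfl
  have hpow := Groth.Agent.Etcore.MuCard.epi_powMap X c n hnk
  have hdivE : ∀ (x : LocSym.Pt c) (f : Additive (X.functionField)ˣ), div hX f (e x) =
      x.ord ((f.toMul : (X.functionField)ˣ) : X.functionField) := fun x f => by
    rw [div_apply, hordE]
  obtain ⟨Φ, hΦ, hker⟩ := exists_equiv n hX hpow hH (A := kummerPairs c n)
    ((Finsupp.domCongr e).toAddMonoidHom.comp ((AddMonoidHom.fst _ _).comp (kummerPairs c n).subtype))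
    ((AddMonoidHom.snd _ _).comp (kummerPairs c n).subtype)
    (by
      intro a
      ext y
      obtain ⟨x, rfl⟩ := e.surjective y
      rw [hdivE, Finsupp.smul_apply]
      have h1 := (mem_kummerPairs c hord n a.1).1 a.2 x
      refine Eq.trans ?_ h1
      rw [nsmul_eq_mul]
      congr 1
      change (Finsupp.domCongr e) a.1.1 (e x) = _
      rw [Finsupp.domCongr_apply, Finsupp.equivMapDomain_apply, Equiv.symm_apply_apply])
    (by
      intro E f hEf
      refine ⟨⟨((Finsupp.domCongr e).symm E, f), ?_⟩, ?_, rfl⟩
      · rw [mem_kummerPairs c hord n]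
        intro x
        rw [← hdivE, ← hEf, Finsupp.smul_apply, nsmul_eq_mul]
        congr 1
      · exact (Finsupp.domCongr e).apply_symm_apply E)
  refine ⟨((QuotientAddGroup.quotientAddEquivOfEq ?_).trans
    (QuotientAddGroup.quotientKerEquivOfSurjective Φ hΦ)).symm⟩
  ext a
  rw [AddSubgroup.mem_addSubgroupOf, AddMonoidHom.mem_ker, hker, mem_kummerPairsPow c hord n]
  constructor
  · rintro ⟨h1, g, hg⟩
    refine ⟨Additive.ofMul g, ?_, ?_⟩
    · ext y
      obtain ⟨x, rfl⟩ := e.surjective y
      rw [hdivE]
      have h2 := h1 x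
      change (Finsupp.domCongr e) a.1.1 (e x) = _
      rw [Finsupp.domCongr_apply, Finsupp.equivMapDomain_apply, Equiv.symm_apply_apply]
      obtain ⟨φ, hφ⟩ := hord x
      have h3 : φ a.1.2 = n • φ (Additive.ofMul g) := by
        rw [← map_nsmul]
        congr 1
      rw [← hφ, h3, nsmul_eq_mul] at h2
      have hn0 : (n : ℤ) ≠ 0 := by positivity
      rw [← hφ]
      exact mul_left_cancel₀ hn0 h2
    · exact Additive.toMul.injective hg
  · rintro ⟨g, hg1, hg2⟩
    refine ⟨(mem_kummerPairs c hord n a.1).1 a.2, g.toMul, ?_⟩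
    exact congrArg Additive.toMul hg2

end Groth.Agent.S14187
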