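import Groth.Statements.S14189
import Groth.Agent.FlatMor.K262.GenExt

set_option autoImplicit false
universe u
open CategoryTheory CategoryTheory.Limits AlgebraicGeometry
open FlatMor

namespace Groth.Agent.S14189

/-- Let T be an integral scheme with generic point η, let Y and Z be schemes flat over T with Z
separated over T, and let ψ : Y_η → Z be a T-morphism from the generic fibre Y_η = Y ×_T Spec
O_{T,η}. Let g : T' → T be flat, surjective and quasi-compact, and let φ' : Y_{T'} → Z_{T'} be a
T'-morphism which agrees with ψ over T' ×_T η, in the sense that on Y_{T'} ×_Y Y_η = Y ×_T T' ×_T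
Spec O_{T,η} the composite of the first projection with φ' and with Z_{T'} → Z equals the composite
of the second projection with ψ. Then ψ extends to a T-morphism φ : Y → Z, one whose composite with
Y_η → Y is ψ. (The published statement is an equivalence and also records that an extension, when it
exists, is unique; the converse direction, that an extension over T base-changes to such a φ' over
any such T', is immediate, and this row states the existence direction only.) -/
theorem result (T Y Z T' : Scheme.{u}) [IsIntegral T]
    (pY : Y ⟶ T) (pZ : Z ⟶ T) [Flat pY] [Flat pZ] [IsSeparated pZ]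
    (ψ : pullback pY (T.fromSpecStalk (genericPoint T)) ⟶ Z)
    (hψ : ψ ≫ pZ = pullback.fst pY (T.fromSpecStalk (genericPoint T)) ≫ pY)
    (g : T' ⟶ T) [Flat g] [Surjective g] [QuasiCompact g]
    (φ' : pullback pY g ⟶ pullback pZ g) (hφ' : φ' ≫ pullback.snd pZ g = pullback.snd pY g)
    (hagree : pullback.fst (pullback.fst pY g) (pullback.fst pY (T.fromSpecStalk (genericPoint T))) ≫ φ' ≫ pullback.fst pZ g =
      pullback.snd (pullback.fst pY g) (pullback.fst pY (T.fromSpecStalk (genericPoint T))) ≫ ψ) :
    ∃ φ : Y ⟶ Z, φ ≫ pZ = pY ∧ pullback.fst pY (T.fromSpecStalk (genericPoint T)) ≫ φ = ψ := by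
  have := K262.GenExt.quasiCompact_fromSpecStalk T
  have := K262.GenExt.schDom_fromSpecStalk T
  -- the morphism to descend
  obtain ⟨a, ha0⟩ : ∃ a : pullback pY g ⟶ Z, a = φ' ≫ pullback.fst pZ g := ⟨_, rfl⟩
  have ha : a ≫ pZ = pullback.fst pY g ≫ pY := by
    rw [ha0, Category.assoc, pullback.condition, ← Category.assoc, hφ', pullback.condition]
  rw [← ha0] at hagree
  have key : ∀ {W : Scheme.{u}} (g₁ g₂ : W ⟶ pullback pY g),
      g₁ ≫ pullback.fst pY g = g₂ ≫ pullback.fst pY g → g₁ ≫ a = g₂ ≫ a := by
    intro W g₁ g₂ h
    let p₁ := pullback.fst (pullback.fst pY g) (pullback.fst pY g)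
    let p₂ := pullback.snd (pullback.fst pY g) (pullback.fst pY g)
    have hp : p₁ ≫ a = p₂ ≫ a := by
      let r := p₁ ≫ pullback.fst pY g
      let d := pullback.fst r (pullback.fst pY (T.fromSpecStalk (genericPoint T)))
      let d' := pullback.snd r (pullback.fst pY (T.fromSpecStalk (genericPoint T)))
      have hr : d ≫ r = d' ≫ pullback.fst pY (T.fromSpecStalk (genericPoint T)) := pullback.condition
      have hfl : Flat r := inferInstance
      refine Groth.Agent.S2299.result d pZ (p₁ ≫ a) (p₂ ≫ a) ?_ ?_
      · rw [Category.assoc, Category.assoc, ha, ← Category.assoc, ← Category.assoc]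
        exact congrArg (· ≫ pY) pullback.condition
      · have e1 : d ≫ p₁ ≫ a = d' ≫ ψ := by
          let l := pullback.lift (f := pullback.fst pY g) (g := pullback.fst pY (T.fromSpecStalk (genericPoint T)))
            (d ≫ p₁) d' (by rw [Category.assoc]; exact hr)
          have hl1 : l ≫ pullback.fst _ _ = d ≫ p₁ := pullback.lift_fst _ _ _
          have hl2 : l ≫ pullback.snd _ _ = d' := pullback.lift_snd _ _ _
          have := congrArg (l ≫ ·) hagree
          simp only [← Category.assoc] at this
          rw [hl1, hl2] at this
          simpa only [Category.assoc] using this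
        have e2 : d ≫ p₂ ≫ a = d' ≫ ψ := by
          let l := pullback.lift (f := pullback.fst pY g) (g := pullback.fst pY (T.fromSpecStalk (genericPoint T)))
            (d ≫ p₂) d' (by
              rw [Category.assoc, ← hr]
              exact congrArg (d ≫ ·) pullback.condition.symm)
          have hl1 : l ≫ pullback.fst _ _ = d ≫ p₂ := pullback.lift_fst _ _ _
          have hl2 : l ≫ pullback.snd _ _ = d' := pullback.lift_snd _ _ _
          have := congrArg (l ≫ ·) hagree
          simp only [← Category.assoc] at this
          rw [hl1, hl2] at this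
          simpa only [Category.assoc] using this
        rw [e1, e2]
    have h1 : g₁ = pullback.lift g₁ g₂ h ≫ p₁ := (pullback.lift_fst _ _ _).symm
    have h2 : g₂ = pullback.lift g₁ g₂ h ≫ p₂ := (pullback.lift_snd _ _ _).symm
    rw [h1, Category.assoc, hp, ← Category.assoc, ← h2]
  let φ := EffectiveEpi.desc (pullback.fst pY g) a key
  have hφ : pullback.fst pY g ≫ φ = a := EffectiveEpi.fac _ _ _
  refine ⟨φ, ?_, ?_⟩
  · rw [← cancel_epi (pullback.fst pY g), ← Category.assoc, hφ, ha]
  · rw [← cancel_epi (pullback.snd (pullback.fst pY g) (pullback.fst pY (T.fromSpecStalk (genericPoint T)))),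
      ← hagree, ← Category.assoc, ← pullback.condition, Category.assoc, hφ]

end Groth.Agent.S14189
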