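import Groth.Statements.S14190
import Groth.Agent.Models.K379.RDualOpen

set_option autoImplicit false
universe u
open CategoryTheory CategoryTheory.Limits AlgebraicGeometry Opposite
open Models

namespace Groth.Agent.S14190

theorem basicOpen_le {R : Type u} [CommRing R] [IsDomain R] [IsDiscreteValuationRing R] {X : Scheme.{u}}
    (p : X ⟶ Spec (CommRingCat.of R)) [UniversallyClosed p] (ϖ : R) (hϖ : ϖ ∈ IsLocalRing.maximalIdeal R)
    (U : X.Opens) (hcl : ∀ x : X, x ∉ U → IsClosed ({x} : Set X)) :
    X.basicOpen (Coh.toGlobal p ϖ : Γ(X, ⊤)) ≤ U := by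
  intro x hx
  by_contra hxU
  have h1 : IsClosed ({p x} : Set (Spec (CommRingCat.of R))) := by
    rw [← Set.image_singleton]
    exact p.isClosedMap _ (hcl x hxU)
  have h2 : (p x : PrimeSpectrum R).asIdeal = IsLocalRing.maximalIdeal R :=
    IsLocalRing.eq_maximalIdeal ((PrimeSpectrum.isClosed_singleton_iff_isMaximal (p x)).1 h1)
  have h3 : X.basicOpen (Coh.toGlobal p ϖ : Γ(X, ⊤)) =
      p ⁻¹ᵁ ((Spec (CommRingCat.of R)).basicOpen ((Scheme.ΓSpecIso (CommRingCat.of R)).inv.hom ϖ)) := by
    rw [Scheme.preimage_basicOpen]
    rfl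
  rw [h3] at hx
  have h4 : p x ∈ (Spec (CommRingCat.of R)).basicOpen ((Scheme.ΓSpecIso (CommRingCat.of R)).inv.hom ϖ) := hx
  rw [basicOpen_eq_of_affine'] at h4
  have h5 : (Scheme.ΓSpecIso (CommRingCat.of R)).hom.hom ((Scheme.ΓSpecIso (CommRingCat.of R)).inv.hom ϖ) = ϖ :=
    Iso.inv_hom_id_apply _ _
  have h6 : ϖ ∉ (p x : PrimeSpectrum R).asIdeal := by
    intro h7
    apply h4
    rw [← h5] at h7
    exact h7
  rw [h2] at h6
  exact h6 hϖ

/-- Let R be a discrete valuation ring with fraction field K, let C be a proper K-curve which is smooth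
of relative dimension 1 and geometrically connected over K, and let X be a model of C over R (flat
and of finite type over R with generic fibre C) which is proper over R and normal; so X is a proper
relative curve over R, integral of dimension 2. Let (ω, tr) be a 1-dualizing pair for X over R: ω is
a quasi-coherent O_X-module and tr : H¹(X, ω) → R an R-linear map such that φ ↦ tr ∘ H¹(φ) is a
bijection from Hom(F, ω) onto Hom_R(H¹(X, F), R) for every quasi-coherent F (such a pair is a
relative dualizing sheaf of X over R with its trace, and is unique up to isomorphism). Let U ⊆ X be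
an open subscheme whose complement is a finite set of closed points of X (these lie in the closed
fibre and have codimension 2). Then the canonical map from ω to the direct image of its restriction
to U is an isomorphism: for every open V ⊆ X the restriction map ω(V) → ω(V ∩ U) is bijective. (The
published statement is for a relative curve which need not be proper and for the relative dualizing
sheaf of duality theory; this row takes X proper over R, where a 1-dualizing pair in the above
global-sections sense determines that sheaf up to isomorphism.) -/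
theorem result (R : Type u) [CommRing R] [IsDomain R] [IsDiscreteValuationRing R]
    (X C : Scheme.{u}) [X.Over (Spec (CommRingCat.of R))]
    (f : C ⟶ Spec (CommRingCat.of (FractionRing R)))
    [SmoothOfRelativeDimension 1 f] [IsProper f] [GeometricallyConnected f]
    (hX : Models.IsModel R X (X ↘ Spec (CommRingCat.of R)) C f)
    [IsProper (X ↘ Spec (CommRingCat.of R))] (hn : Pi1.IsNormalScheme X)
    (ω : X.Modules) (tr : Coh.HH X ω 1 →ₗ[R] R) (hω : Canon.IsRDualOver R X 1 ω tr)
    (U : X.Opens) (hfin : ((U : Set X)ᶜ).Finite) (hcl : ∀ x : X, x ∉ U → IsClosed ({x} : Set X))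
    (V : X.Opens) :
    Function.Bijective (ω.presheaf.map (homOfLE (inf_le_left : V ⊓ U ≤ V)).op).hom := by
  have : IsLocallyNoetherian X :=
    LocallyOfFiniteType.isLocallyNoetherian (X ↘ Spec (CommRingCat.of R))
  have : CompactSpace X := QuasiCompact.compactSpace_of_compactSpace (X ↘ Spec (CommRingCat.of R))
  obtain ⟨ϖ, hϖ⟩ := IsDiscreteValuationRing.exists_irreducible R
  have hU := basicOpen_le (X ↘ Spec (CommRingCat.of R)) ϖ
    ((IsLocalRing.mem_maximalIdeal ϖ).2 hϖ.not_isUnit) U hcl
  have h := K379.RDualOpen.isIso_unit ϖ hϖ.ne_zero U hU hfin hcl ω tr hω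
  have h1 : IsIso (((Scheme.Modules.restrictAdjunction U.ι).unit.app ω).app V) := inferInstance
  rw [Scheme.Modules.restrictAdjunction_unit_app_app] at h1
  have h2 : U.ι ''ᵁ (U.ι ⁻¹ᵁ V) = V ⊓ U := by
    rw [Scheme.Hom.image_preimage_eq_opensRange_inf, Scheme.Opens.opensRange_ι, inf_comm]
  have h3 : ∀ (W : X.Opens) (hW : W = V ⊓ U) (hWV : W ≤ V),
      IsIso (ω.presheaf.map (homOfLE hWV).op) →
      Function.Bijective (ω.presheaf.map (homOfLE (inf_le_left : V ⊓ U ≤ V)).op).hom := by
    rintro W rfl hWV hi
    exact ConcreteCategory.bijective_of_isIso (ω.presheaf.map (homOfLE hWV).op)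
  exact h3 _ h2 _ h1

end Groth.Agent.S14190
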