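import Groth.Statements.S14191
import Groth.Agent.Models.K379.RDualCurve
import Groth.Agent.CurvesC.UnitCoh

set_option autoImplicit false
universe u
open CategoryTheory CategoryTheory.Limits AlgebraicGeometry Opposite
open Models

namespace Groth.Agent.S14191

theorem projective_submodule {R M : Type*} [CommRing R] [IsDomain R] [IsPrincipalIdealRing R] [AddCommGroup M]
    [Module R M] [Module.Free R M] [Module.Finite R M] (N : Submodule R M) : Module.Projective R N := by
  have : Module.Free R N := inferInstance
  infer_instance

theorem free_rank_one {R M : Type*} [CommRing R] [IsDomain R] [IsPrincipalIdealRing R] [AddCommGroup M]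
    [Module R M] [Nontrivial M] (t : M →ₗ[R] R) (ht : Function.Injective t) :
    Module.Free R M ∧ Module.finrank R M = 1 := by
  let e1 : M ≃ₗ[R] LinearMap.range t := LinearEquiv.ofInjective t ht
  have hfree : Module.Free R (LinearMap.range t) := inferInstance
  have : Module.Finite R (LinearMap.range t) := inferInstance
  have : Nontrivial (LinearMap.range t) := e1.symm.toEquiv.nontrivial
  refine ⟨Module.Free.of_equiv e1.symm, ?_⟩
  rw [e1.finrank_eq]
  apply le_antisymm
  · refine (Submodule.finrank_le _).trans ?_
    rw [Module.finrank_self]
  · exact Module.finrank_pos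

/-- Let R be a discrete valuation ring with fraction field K, let C be a proper K-curve which is smooth
of relative dimension 1 and geometrically connected over K, and let X be a model of C over R (flat
and of finite type over R with generic fibre C) which is proper over R and normal; so X is a proper
relative curve over R. Let (ω, tr) be a 1-dualizing pair for X over R: ω is a quasi-coherent
O_X-module and tr : H¹(X, ω) → R an R-linear map such that φ ↦ tr ∘ H¹(φ) is a bijection from Hom(F,
ω) onto Hom_R(H¹(X, F), R) for every quasi-coherent F. Suppose that H¹(X, O_X) is a free R-module,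
which for such X says that X → Spec R is cohomologically flat in dimension 0. Then H¹(X, ω) is a
free R-module and its rank equals the rank of the free R-module H⁰(X, O_X); that is, H¹(X, ω) is
R-dual to H⁰(X, O_X) up to isomorphism. (The published statement is phrased for the relative
dualizing sheaf of duality theory and its higher direct image R¹f_*; over the affine base Spec R a
1-dualizing pair in the above global-sections sense determines that sheaf up to isomorphism, and
local freeness of R¹f_* is freeness of H¹.) -/
theorem result (R : Type u) [CommRing R] [IsDomain R] [IsDiscreteValuationRing R]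
    (X C : Scheme.{u}) [X.Over (Spec (CommRingCat.of R))]
    (f : C ⟶ Spec (CommRingCat.of (FractionRing R)))
    [SmoothOfRelativeDimension 1 f] [IsProper f] [GeometricallyConnected f]
    (hX : Models.IsModel R X (X ↘ Spec (CommRingCat.of R)) C f)
    [IsProper (X ↘ Spec (CommRingCat.of R))] (hn : Pi1.IsNormalScheme X)
    (ω : X.Modules) (tr : Coh.HH X ω 1 →ₗ[R] R) (hω : Canon.IsRDualOver R X 1 ω tr)
    (hcf : Module.Free R (Coh.HH X (Coh.structureModule X) 1)) :
    Module.Free R (Coh.HH X ω 1) ∧
      Module.finrank R (Coh.HH X ω 1) = Module.finrank R (Coh.HH X (Coh.structureModule X) 0) := by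
  have hX' := hX
  have hsm : Smooth f := SmoothOfRelativeDimension.smooth 1 f
  obtain ⟨hflat, hft, hqc, g, hg⟩ := hX
  have hf : IsIso f.appTop := K379.RDualCurve.isIso_appTop_of_field _ f
  have hp : IsIso (X ↘ Spec (CommRingCat.of R)).appTop :=
    Groth.Agent.Models.DVRGeneric.isIso_appTop hg hf
  have h0 := K379.RDualCurve.smul_one_bijective (R := R) (X := X) hp
  have : IsLocallyNoetherian X :=
    LocallyOfFiniteType.isLocallyNoetherian (X ↘ Spec (CommRingCat.of R))
  -- `H⁰(X, O_X)` is free of rank one
  let e0 : R ≃ₗ[R] Coh.HH X (Coh.structureModule X) 0 :=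
    LinearEquiv.ofBijective (LinearMap.toSpanSingleton R _ (K379.ExtOne.one X)) h0
  have hr0 : Module.finrank R (Coh.HH X (Coh.structureModule X) 0) = 1 := by
    rw [← e0.finrank_eq, Module.finrank_self]
  -- the trace is injective
  have hcoh : Coh.IsCoh (Coh.structureModule X) := Groth.Agent.CurvesC.UnitCoh.isCoh_unit X
  have hfin : Module.Finite R (Coh.HH X (Coh.structureModule X) 1) := Groth.Agent.S0002.result R X _ hcoh 1
  have hinj : Function.Injective tr := by
    rw [injective_iff_map_eq_zero]
    intro c hc
    refine K379.RDualTrace.eq_zero_of_tr_eq_zero hω (fun N => ?_) (fun x => ?_) c hc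
    · exact projective_submodule N
    · obtain ⟨r, hr⟩ := h0.2 x
      exact ⟨r, hr.symm⟩
  -- `H¹(X, ω)` is not zero
  have hnt : Nontrivial (Coh.HH X ω 1) := by
    by_contra hcon
    rw [not_nontrivial_iff_subsingleton] at hcon
    obtain ⟨F, hF, φ, hφ⟩ := K379.RDualCurve.exists_form_ne_zero X C f hX'
    obtain ⟨ρ, hρ⟩ := K769.Basic.exists_hom hω hF.1 φ
    apply hφ
    rw [← hρ]
    apply LinearMap.ext
    intro x
    change tr (Canon.HHlin R ρ 1 x) = 0
    rw [Subsingleton.elim (Canon.HHlin R ρ 1 x) 0, map_zero]
  rw [hr0]
  exact free_rank_one tr hinj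

end Groth.Agent.S14191
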