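import Groth.Statements.S14193
import Groth.Agent.StackCount.K221.ExpSum

set_option autoImplicit false
open PowerSeries
open StackCount

namespace Groth.Agent.S14193

/-- Let q > 1 be an integer and let F be an element of the subring of the rational function field ℚ(X)
generated by X, X^(-1) and the fractions 1/(X^n - 1) for n ≥ 1 (so F(q^v) is defined for every v ≥
1). If the formal power series exp(Σ_{v ≥ 1} F(q^v) t^v / v) in ℚ⟦t⟧ is the expansion of a rational
function, i.e. its product with some non-zero polynomial in t is a polynomial, then F is a Laurent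
polynomial with integer coefficients: F · X^a is the image of a polynomial with integer coefficients
for some a. (The published statement also assumes that the series defines a meromorphic function on
the complex plane; that is implied by rationality and is omitted here.) -/
theorem result (q : ℤ) (hq : 1 < q) (F : RatFunc ℚ)
    (hF : F ∈ Subring.closure
      (({RatFunc.X, (RatFunc.X : RatFunc ℚ)⁻¹} : Set (RatFunc ℚ)) ∪
        Set.range fun n : ℕ => ((RatFunc.X : RatFunc ℚ) ^ (n + 1) - 1)⁻¹))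
    (hrat : ∃ P Q : Polynomial ℚ, Q ≠ 0 ∧
      (PowerSeries.exp ℚ).subst
          (PowerSeries.mk fun v : ℕ => if v = 0 then (0 : ℚ)
            else F.eval (RingHom.id ℚ) ((q : ℚ) ^ v) / (v : ℚ))
        * (Q : PowerSeries ℚ) = (P : PowerSeries ℚ)) :
    ∃ (P : Polynomial ℤ) (a : ℕ),
      F * RatFunc.X ^ a = algebraMap (Polynomial ℚ) (RatFunc ℚ) (P.map (Int.castRingHom ℚ)) := by
  classical
  obtain ⟨P, Q, hQ, hrat⟩ := hrat
  set g : ℚ⟦X⟧ := PowerSeries.mk fun v : ℕ => if v = 0 then (0 : ℚ)
            else F.eval (RingHom.id ℚ) ((q : ℚ) ^ v) / (v : ℚ) with hg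
  have hgs : HasSubst g := HasSubst.of_constantCoeff_zero' (by
    rw [← coeff_zero_eq_constantCoeff_apply, hg, coeff_mk, if_pos rfl])
  set R := (PowerSeries.exp ℚ).subst g with hR
  have hRu : IsUnit R := by
    have := (isUnit_exp ℚ).map (PowerSeries.substAlgHom hgs)
    rwa [coe_substAlgHom] at this
  have hQ0 : (Q : ℚ⟦X⟧) ≠ 0 := by
    intro h; exact hQ (by exact_mod_cast h)
  have hP0 : (P : ℚ⟦X⟧) ≠ 0 := by
    rw [← hrat]; exact mul_ne_zero hRu.ne_zero hQ0
  have hd : d⁄dX ℚ R = R * d⁄dX ℚ g := by rw [hR, derivative_subst hgs, derivative_exp]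
  have h1 : d⁄dX ℚ g * ((P : ℚ⟦X⟧) * Q) = (Polynomial.derivative P : Polynomial ℚ) * (Q : ℚ⟦X⟧) -
      (P : ℚ⟦X⟧) * (Polynomial.derivative Q : Polynomial ℚ) := by
    have h2 := congrArg (d⁄dX ℚ) hrat
    rw [Derivation.leibniz, derivative_coe, derivative_coe, hd, smul_eq_mul, smul_eq_mul] at h2
    linear_combination (Q : ℚ⟦X⟧) * h2 + (Polynomial.derivative Q : ℚ⟦X⟧) * hrat * (-1) + (-(d⁄dX ℚ g) * Q) * hrat
  -- over an algebraic closure
  let K := AlgebraicClosure ℚ
  let ι : ℚ →+* K := algebraMap ℚ K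
  obtain ⟨a, s, hs⟩ := K221.ExpSum.good_of_splits (P.map ι)
  obtain ⟨b, t, ht⟩ := K221.ExpSum.good_of_splits (Q.map ι)
  have hmP : PowerSeries.map ι (P : ℚ⟦X⟧) = (P.map ι : Polynomial K) := (Polynomial.polynomial_map_coe).symm
  have hmQ : PowerSeries.map ι (Q : ℚ⟦X⟧) = (Q.map ι : Polynomial K) := (Polynomial.polynomial_map_coe).symm
  have hmP' : PowerSeries.map ι ((Polynomial.derivative P : Polynomial ℚ) : ℚ⟦X⟧) =
      (Polynomial.derivative (P.map ι) : Polynomial K) := by
    rw [Polynomial.derivative_map]; exact (Polynomial.polynomial_map_coe).symm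
  have hmQ' : PowerSeries.map ι ((Polynomial.derivative Q : Polynomial ℚ) : ℚ⟦X⟧) =
      (Polynomial.derivative (Q.map ι) : Polynomial K) := by
    rw [Polynomial.derivative_map]; exact (Polynomial.polynomial_map_coe).symm
  have h3 := congrArg (PowerSeries.map ι) h1
  rw [map_mul, map_sub, map_mul, map_mul, map_mul, hmP, hmQ, hmP', hmQ'] at h3
  have hPQ : ((P.map ι : Polynomial K) : K⟦X⟧) * (Q.map ι : Polynomial K) ≠ 0 := by
    refine mul_ne_zero ?_ ?_
    · rw [← hmP]; exact fun h => hP0 (PowerSeries.map_injective ι ι.injective (by rw [h, map_zero]))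
    · rw [← hmQ]; exact fun h => hQ0 (PowerSeries.map_injective ι ι.injective (by rw [h, map_zero]))
  have h4 : (PowerSeries.X : K⟦X⟧) * PowerSeries.map ι (d⁄dX ℚ g) =
      C (a : K) - (s.map fun α : Kˣ => K221.ExpSum.geo (α : K)).sum -
        (C (b : K) - (t.map fun α : Kˣ => K221.ExpSum.geo (α : K)).sum) := by
    refine mul_right_cancel₀ hPQ ?_
    linear_combination (PowerSeries.X : K⟦X⟧) * h3 + ((Q.map ι : Polynomial K) : K⟦X⟧) * hs -
      ((P.map ι : Polynomial K) : K⟦X⟧) * ht
  have hval : ∀ v : ℕ, 1 ≤ v → ι (F.eval (RingHom.id ℚ) ((q : ℚ) ^ v)) =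
      (t.map fun α : Kˣ => (α : K) ^ v).sum - (s.map fun α : Kˣ => (α : K) ^ v).sum := by
    intro v hv
    have h5 := congrArg (coeff v) h4
    obtain ⟨w, rfl⟩ : ∃ w, v = w + 1 := ⟨v - 1, by omega⟩
    rw [coeff_succ_X_mul, coeff_map, coeff_derivative, map_sub, map_sub, map_sub, coeff_C, coeff_C,
      if_neg (by omega), if_neg (by omega), hg, coeff_mk, if_neg (by omega)] at h5
    have h6 : F.eval (RingHom.id ℚ) ((q : ℚ) ^ (w + 1)) / ((w + 1 : ℕ) : ℚ) * ((w : ℚ) + 1) =
        F.eval (RingHom.id ℚ) ((q : ℚ) ^ (w + 1)) := by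
      push_cast
      exact div_mul_cancel₀ _ (by positivity)
    rw [h6] at h5
    have h7 : ∀ m : Multiset Kˣ, coeff (w + 1) (m.map fun α : Kˣ => K221.ExpSum.geo (α : K)).sum =
        (m.map fun α : Kˣ => (α : K) ^ (w + 1)).sum := by
      intro m
      induction m using Multiset.induction with
      | empty => simp
      | cons x m ih =>
        rw [Multiset.map_cons, Multiset.sum_cons, Multiset.map_cons, Multiset.sum_cons, map_add, ih,
          K221.ExpSum.coeff_geo _ _ (by omega)]
    rw [h5, h7, h7]; ring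
  -- integral multiplicities
  let cnt : Multiset Kˣ → (Kˣ →₀ ℤ) := fun m => (m.map fun α => Finsupp.single α 1).sum
  have hcnt : ∀ (m : Multiset Kˣ) v, ((cnt m).sum fun α c => (c : K) * (α : K) ^ v) =
      (m.map fun α : Kˣ => (α : K) ^ v).sum := by
    intro m v
    induction m using Multiset.induction with
    | empty => simp [cnt]
    | cons x m ih =>
      have h8 : cnt (x ::ₘ m) = Finsupp.single x 1 + cnt m := by
        simp only [cnt, Multiset.map_cons, Multiset.sum_cons]
      rw [h8, Finsupp.sum_add_index' (by simp) (by intro a b c; push_cast; ring), ih,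
        Finsupp.sum_single_index (by simp), Multiset.map_cons, Multiset.sum_cons]
      simp
  -- the denominator does not vanish at `q ^ v` for large `v`
  have hqinj : Function.Injective (fun v : ℕ => (q : ℚ) ^ v) :=
    pow_right_injective₀ (by exact_mod_cast (by omega : 0 < q)) (by exact_mod_cast (by omega : q ≠ 1))
  have hden : F.denom ≠ 0 := F.denom_ne_zero
  obtain ⟨v0, hv0⟩ : ∃ v0 : ℕ, ∀ v, v0 ≤ v → F.denom.eval ((q : ℚ) ^ v) ≠ 0 := by
    have hfin : Set.Finite {v : ℕ | F.denom.eval ((q : ℚ) ^ v) = 0} := by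
      refine Set.Finite.of_finite_image (f := fun v : ℕ => (q : ℚ) ^ v) ?_ hqinj.injOn
      refine (F.denom.roots.toFinset.finite_toSet).subset ?_
      rintro _ ⟨v, hv, rfl⟩
      simp only [Finset.mem_coe, Multiset.mem_toFinset]
      exact (Polynomial.mem_roots hden).2 hv
    obtain ⟨M, hM⟩ := hfin.bddAbove
    refine ⟨M + 1, fun v hv h => ?_⟩
    have := hM h
    omega
  obtain ⟨P', c, hPc⟩ := K221.ExpSum.exists_laurent (K := K) q hq F.num F.denom (cnt t - cnt s) (max v0 1) (by
    intro v hv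
    have hv1 : v0 ≤ v := le_trans (le_max_left _ _) hv
    have hv2 : 1 ≤ v := le_trans (le_max_right _ _) hv
    have h9 : ((cnt t - cnt s).sum fun α c => (c : K) * (α : K) ^ v) =
        (t.map fun α : Kˣ => (α : K) ^ v).sum - (s.map fun α : Kˣ => (α : K) ^ v).sum := by
      rw [← hcnt, ← hcnt]
      exact Finsupp.sum_sub_index (by intro a b c; push_cast; ring)
    rw [h9, ← hval v hv2]
    change ι _ * ι _ = ι _
    rw [← map_mul]
    congr 1
    have h12 : F.eval (RingHom.id ℚ) ((q : ℚ) ^ v) =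
        F.num.eval ((q : ℚ) ^ v) / F.denom.eval ((q : ℚ) ^ v) := by
      change F.num.eval₂ (RingHom.id ℚ) _ / F.denom.eval₂ (RingHom.id ℚ) _ = _
      rw [Polynomial.eval₂_id, Polynomial.eval₂_id]
    rw [h12]
    exact div_mul_cancel₀ _ (hv0 v hv1))
  refine ⟨P', c, ?_⟩
  have hdenA : algebraMap (Polynomial ℚ) (RatFunc ℚ) F.denom ≠ 0 := by
    intro h
    exact hden ((IsFractionRing.injective (Polynomial ℚ) (RatFunc ℚ)) (by rw [h, map_zero]))
  have h10 := congrArg (algebraMap (Polynomial ℚ) (RatFunc ℚ)) hPc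
  rw [map_mul, map_mul, map_pow, RatFunc.algebraMap_X] at h10
  have h11 := RatFunc.num_div_denom F
  rw [div_eq_iff hdenA] at h11
  rw [h11] at h10
  refine mul_right_cancel₀ hdenA ?_
  linear_combination h10

end Groth.Agent.S14193
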