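import Groth.Statements.S14202
import Groth.Agent.S13688
import Groth.Agent.ASBun.K791.Dual

set_option autoImplicit false
universe u
open CategoryTheory CategoryTheory.Limits AlgebraicGeometry
open ASBun

namespace Groth.Agent.S14202

open Groth.Agent.ASBun.K791 in
/-- Uniqueness of the indecomposable module of a given type. -/
theorem unique (k : Type u) [Field k] {X : Scheme.{u}}
    (p : X ⟶ Spec (CommRingCat.of k)) [IsProper p] (K : Type u) [Field K] [Algebra k K]
    [Algebra.IsAlgebraic k K] (W : (BrSev.bc p K).Modules) (E E' : X.Modules)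
    (hE : FlatMod.IsFinLocFree E) (hE' : FlatMod.IsFinLocFree E')
    (hEi : (¬ IsZero E ∧ ∀ A B : X.Modules, Nonempty (E ≅ A ⊞ B) → IsZero A ∨ IsZero B))
    (hE'i : (¬ IsZero E' ∧ ∀ A B : X.Modules, Nonempty (E' ≅ A ⊞ B) → IsZero A ∨ IsZero B))
    (r s : ℕ) (eE : Nonempty (BrSev.bcMod p K E ≅ BrSev.pow W r))
    (eE' : Nonempty (BrSev.bcMod p K E' ≅ BrSev.pow W s)) : Nonempty (E ≅ E') :=
  Groth.Agent.S13688.result k p K W E E' hE hE' hEi hE'i r s eE eE'

/-- Let X be a scheme proper over a field k, K an algebraic closure of k, e a K-isomorphism X_K ≅ P^n_K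
with O_e(j) the pullback of O(j) along e, and j an integer. If W and W' are indecomposable finite
locally free O_X-modules (nonzero, and in any decomposition as a direct sum one summand is zero)
with W_K ≅ O_e(j)^{⊕r} and W'_K ≅ O_e(−j)^{⊕r'} for some r, r' ≥ 1, then r = r': the indecomposable
modules of types O(j) and O(−j) have the same rank (W' is isomorphic to the dual of W). -/
theorem result (k : Type u) [Field k] {X : Scheme.{u}}
    (f : X ⟶ Spec (CommRingCat.of k)) [IsProper f] (n : ℕ)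
    (K : Type u) [Field K] [Algebra k K] [IsAlgClosure k K] (e : BrSev.Splitting f K n) (j : ℤ)
    (W W' : X.Modules) (hW : FlatMod.IsFinLocFree W) (hW' : FlatMod.IsFinLocFree W')
    (hWi : (¬ IsZero W ∧ ∀ M₁ M₂ : X.Modules, Nonempty (W ≅ M₁ ⊞ M₂) → IsZero M₁ ∨ IsZero M₂))
    (hW'i : (¬ IsZero W' ∧ ∀ M₁ M₂ : X.Modules, Nonempty (W' ≅ M₁ ⊞ M₂) → IsZero M₁ ∨ IsZero M₂))
    (r r' : ℕ) (hr : 0 < r) (hr' : 0 < r') (hWt : BrSev.IsTwPow e j r W)
    (hW't : BrSev.IsTwPow e (-j) r' W') : r = r' := by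
  obtain ⟨V, hV, ⟨pV⟩⟩ := Groth.Agent.ASBun.K791.Dual.exists_dual hW
  have hVi := Groth.Agent.ASBun.K791.Dual.indec_dual (W := W) hV hWi
  have hVt := Groth.Agent.ASBun.K791.Dual.dual_isTwPow e (V := V) hWt
  have : Algebra.IsAlgebraic k K := IsAlgClosure.isAlgebraic
  obtain ⟨i⟩ := unique k f K (e.twist (-j)) V W' hV hW' hVi hW'i r r' hVt hW't
  obtain ⟨a⟩ := hVt
  exact Groth.Agent.ASBun.K791.Dual.isTwPow_inj e (W := W')
    ⟨(Scheme.Modules.pullback (BrSev.proj f K)).mapIso i.symm ≪≫ a⟩ hW't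

end Groth.Agent.S14202
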