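import Groth.Statements.S14203
import Groth.Agent.S13688
import Groth.Agent.S14199
import Groth.Agent.S14200
import Groth.Agent.ASBun.K791.Dual
import Groth.Agent.Grpsch.PicGrp

set_option autoImplicit false
universe u
open CategoryTheory CategoryTheory.Limits AlgebraicGeometry
open ASBun

namespace Groth.Agent.S14203

/-- Uniqueness of the indecomposable module of a given type. -/
theorem unique (k : Type u) [Field k] {X : Scheme.{u}}
    (p : X ⟶ Spec (CommRingCat.of k)) [IsProper p] (K : Type u) [Field K] [Algebra k K]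
    [Algebra.IsAlgebraic k K] (W : (BrSev.bc p K).Modules) (E E' : X.Modules)
    (hE : FlatMod.IsFinLocFree E) (hE' : FlatMod.IsFinLocFree E')
    (hEi : (¬ IsZero E ∧ ∀ A B : X.Modules, Nonempty (E ≅ A ⊞ B) → IsZero A ∨ IsZero B))
    (hE'i : (¬ IsZero E' ∧ ∀ A B : X.Modules, Nonempty (E' ≅ A ⊞ B) → IsZero A ∨ IsZero B))
    (r s : ℕ) (eE : Nonempty (BrSev.bcMod p K E ≅ BrSev.pow W r))
    (eE' : Nonempty (BrSev.bcMod p K E' ≅ BrSev.pow W s)) : Nonempty (E ≅ E') :=
  Groth.Agent.S13688.result k p K W E E' hE hE' hEi hE'i r s eE eE'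

/-- Let A be a central simple algebra of degree n ≥ 1 over a field k (of dimension n² over k), X a
proper k-scheme which is the Severi–Brauer scheme of A (for every commutative k-algebra R its
R-points over k are, naturally in R, the left ideals of R ⊗_k A with projective quotient of rank n²
− n), K an algebraic closure of k and e a K-isomorphism X_K ≅ P^{n−1}_K, along which O_e(j) denotes
the pullback of the twisting sheaf O(j); let p be the period of A (the least p ≥ 1 for which the
p-fold tensor power of A is a full matrix algebra over k) and j, a integers. If W and W' are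
indecomposable finite locally free O_X-modules (nonzero, and in any decomposition as a direct sum
one summand is zero) with W_K ≅ O_e(j)^{⊕r} and W'_K ≅ O_e(j + ap)^{⊕r'} for some r, r' ≥ 1, then r
= r': the rank of the indecomposable module of type O(j) depends only on j modulo the period (W' is
W twisted by the descent of O(ap)). -/
theorem result (k : Type u) [Field k] (A : Type u) [Ring A] [Algebra k A]
    [Algebra.IsCentral k A] [IsSimpleRing A] (n : ℕ) (hn : 0 < n)
    (hA : Module.finrank k A = n * n) {X : Scheme.{u}} (f : X ⟶ Spec (CommRingCat.of k))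
    [IsProper f] (hX : BrSev.IsSBOf k A (n * n - n) f)
    (K : Type u) [Field K] [Algebra k K] [IsAlgClosure k K] (e : BrSev.Splitting f K (n - 1))
    (p : ℕ) (hp : CSAGal.IsPeriod k A p) (j a : ℤ)
    (W W' : X.Modules) (hW : FlatMod.IsFinLocFree W) (hW' : FlatMod.IsFinLocFree W')
    (hWi : (¬ IsZero W ∧ ∀ M₁ M₂ : X.Modules, Nonempty (W ≅ M₁ ⊞ M₂) → IsZero M₁ ∨ IsZero M₂))
    (hW'i : (¬ IsZero W' ∧ ∀ M₁ M₂ : X.Modules, Nonempty (W' ≅ M₁ ⊞ M₂) → IsZero M₁ ∨ IsZero M₂))
    (r r' : ℕ) (hr : 0 < r) (hr' : 0 < r') (hWt : BrSev.IsTwPow e j r W)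
    (hW't : BrSev.IsTwPow e (j + a * (p : ℤ)) r' W') : r = r' := by
  have : Algebra.IsAlgebraic k K := IsAlgClosure.isAlgebraic
  obtain ⟨L, q, hL, hLi, hq, hLt⟩ := Groth.Agent.S14200.result k f (n - 1) K e (a * (p : ℤ))
  obtain ⟨hLinv, hq1⟩ := Groth.Agent.S14199.result k A n hn hA f hX K e p hp a L hL hLi q hq hLt
  subst hq1
  -- the inverse of `L`
  obtain ⟨L_inv, _, ⟨θ⟩⟩ := Groth.Agent.Grpsch.PicGrp.exists_inverse hLinv
  have h1 := Groth.Agent.ASBun.K791.Dual.indec_tens θ hWi
  have h2 := Sga67.LocBasis.isFinLocFree_tensorMod hW hL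
  have h3 := Groth.Agent.ASBun.K791.Tens.isTwPow_tensor e hWt hLt
  obtain ⟨i⟩ := unique k f K (e.twist (j + a * (p : ℤ))) _ W' h2 hW' h1 hW'i (r * 1) r' h3 hW't
  obtain ⟨b⟩ := h3
  have h4 := Groth.Agent.ASBun.K791.Dual.isTwPow_inj e (W := W')
    ⟨(Scheme.Modules.pullback (BrSev.proj f K)).mapIso i.symm ≪≫ b⟩ hW't
  rwa [mul_one] at h4

end Groth.Agent.S14203
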