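import Groth.Statements.S14207
import Groth.Agent.S14198
import Groth.Agent.ASBun.K791.IndPow
import Groth.Agent.S14206

set_option autoImplicit false
universe u
open CategoryTheory CategoryTheory.Limits AlgebraicGeometry
open ASBun

namespace Groth.Agent.S14207

/-- Let A be a central simple algebra of degree n ≥ 1 over a field k (of dimension n² over k), X a
proper k-scheme which is the Severi–Brauer scheme of A (for every commutative k-algebra R its
R-points over k are, naturally in R, the left ideals of R ⊗_k A with projective quotient of rank n²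
− n), K an algebraic closure of k and e a K-isomorphism X_K ≅ P^{n−1}_K, along which O_e(j) denotes
the pullback of the twisting sheaf O(j); suppose the degree n is a prime number and A is not split
(not isomorphic over k to a full matrix algebra over k). Let W be an indecomposable finite locally
free O_X-module (nonzero, and in any decomposition as a direct sum one summand is zero) with W_K ≅
O_e(j)^{⊕r}, r ≥ 1, for an integer j. Then r = n / gcd(n, |j|), that is r = 1 when n divides j and r
= n otherwise: all non-split Severi–Brauer varieties of dimension n − 1 with n prime have the same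
multiplicities, 1 for j divisible by n and n otherwise; for n = 2, on a non-split conic the
indecomposable module of type O(j) has rank 1 for j even and 2 for j odd. -/
theorem result (k : Type u) [Field k] (A : Type u) [Ring A] [Algebra k A]
    [Algebra.IsCentral k A] [IsSimpleRing A] (n : ℕ) (hn : 0 < n)
    (hA : Module.finrank k A = n * n) {X : Scheme.{u}} (f : X ⟶ Spec (CommRingCat.of k))
    [IsProper f] (hX : BrSev.IsSBOf k A (n * n - n) f)
    (K : Type u) [Field K] [Algebra k K] [IsAlgClosure k K] (e : BrSev.Splitting f K (n - 1))
    (hq : n.Prime) (hns : ¬ Curves.Splits k A k)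
    (W : X.Modules) (hW : FlatMod.IsFinLocFree W)
    (hWi : (¬ IsZero W ∧ ∀ M₁ M₂ : X.Modules, Nonempty (W ≅ M₁ ⊞ M₂) → IsZero M₁ ∨ IsZero M₂))
    (j : ℤ) (r : ℕ) (hr : 0 < r) (hWt : BrSev.IsTwPow e j r W) :
    r = n / Nat.gcd n j.natAbs := by
  have hfd : FiniteDimensional k A := FiniteDimensional.of_finrank_pos (by rw [hA]; positivity)
  have hC : K441.Br.IsCSA k A := K441.Br.IsCSA.of_inst
  obtain ⟨i, hi⟩ := K438.PerInd.exists_isIndex hC
  obtain ⟨p, hp⟩ := K438.PerInd.exists_isPeriod hC
  have hin : i = n := by
    obtain ⟨m, D, _, _, hm, hD, hf, ⟨φ⟩⟩ := K438.PerInd.IsIndex.exists_div hC hi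
    have := hD.3
    have h1 := K438.Index.finrank_matrix_eq k D A m φ i hf
    rw [hA, ← sq] at h1
    have h2 : n = m * i := Nat.pow_left_injective (n := 2) (by norm_num) h1
    rcases (Nat.dvd_prime hq).1 (Dvd.intro_left m h2.symm) with h3 | h3
    · exfalso
      apply hns
      rw [h3] at hi
      exact (K441.Br.splits_iff_brEq hC).2 ((K438.PerInd.isIndex_one_iff hC).1 hi)
    · exact h3
  rw [hin] at hi
  have hpn : p = n := by
    rcases (Nat.dvd_prime hq).1 (K438.PerInd.isPeriod_dvd_isIndex hC hi hp) with h3 | h3
    · exfalso
      apply hns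
      rw [h3] at hp
      exact (K441.Br.splits_iff_brEq hC).2 ((K438.PerInd.isPeriod_one_iff hC).1 hp)
    · exact h3
  rw [hpn] at hp
  exact Groth.Agent.S14206.result k A n hn hA f hX K e n hp hi W hW hWi j r hr hWt

end Groth.Agent.S14207
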