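import Groth.Statements.S14211
import Groth.Agent.Brauer.K442.Quat

set_option autoImplicit false
universe u v
open scoped TensorProduct
open Brauer

namespace Groth.Agent.S14211

/-- Let k be a field in which 2 ≠ 0 and A a finite-dimensional central simple k-algebra. Then A has
period 2 and index 2 (its Severi–Brauer variety has type (2, 2, 2m)) if and only if A is isomorphic
over k to a matrix algebra M_m(Q), m ≥ 1, over a quaternion algebra Q = (a, b)_k (the k-algebra with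
basis 1, i, j, ij, i² = a, j² = b, ij = −ji) which is a division ring; moreover such a quaternion
algebra is unique up to k-isomorphism. -/
theorem result (k : Type u) [Field k] (h2 : (2 : k) ≠ 0)
    (A : Type v) [Ring A] [Algebra k A] [Algebra.IsCentral k A] [IsSimpleRing A]
    [FiniteDimensional k A] :
    ((CSAGal.IsPeriod k A 2 ∧ CSAGal.IsIndex k A 2) ↔
      ∃ (a b : k) (m : ℕ), 0 < m ∧ (∀ x : QuaternionAlgebra k a 0 b, x ≠ 0 → IsUnit x) ∧
        Nonempty (A ≃ₐ[k] Matrix (Fin m) (Fin m) (QuaternionAlgebra k a 0 b))) ∧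
    (∀ (a b a' b' : k) (m m' : ℕ),
      (∀ x : QuaternionAlgebra k a 0 b, x ≠ 0 → IsUnit x) →
      (∀ x : QuaternionAlgebra k a' 0 b', x ≠ 0 → IsUnit x) →
      Nonempty (A ≃ₐ[k] Matrix (Fin m) (Fin m) (QuaternionAlgebra k a 0 b)) →
      Nonempty (A ≃ₐ[k] Matrix (Fin m') (Fin m') (QuaternionAlgebra k a' 0 b')) →
      Nonempty (QuaternionAlgebra k a 0 b ≃ₐ[k] QuaternionAlgebra k a' 0 b')) := by
  have hA : K441.Br.IsCSA k A := K441.Br.IsCSA.of_inst
  refine ⟨⟨?_, ?_⟩, ?_⟩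
  · rintro ⟨-, -, m, D, iD, iA, hm, h4, ⟨e⟩⟩
    have hD : K441.Br.IsCSA k D := hA.of_brEq (K441.Br.BrEq.of_matrix hm.ne' e)
    obtain ⟨a, b, ⟨f⟩⟩ := K442.Quat.exists_quaternion h2 hD (by rw [h4]; norm_num)
    refine ⟨a, b, m, hm, fun x hx => ?_, ⟨e.trans f.symm.mapMatrix⟩⟩
    have h1 : IsUnit (f x) := IsUnit.mk0 _ ((map_ne_zero_iff f f.injective).2 hx)
    have h3 := h1.map f.symm
    rwa [AlgEquiv.symm_apply_apply] at h3
  · rintro ⟨a, b, m, hm, hq, ⟨e⟩⟩
    exact ⟨K442.Quat.period_two_of_matrix hA hm hq e, K442.Quat.index_two_of_matrix hA hm hq e⟩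
  · rintro a b a' b' m m' hq hq' ⟨e⟩ ⟨e'⟩
    have hne : ∀ (Q : Type u) [Ring Q] [Algebra k Q] (m : ℕ) (_ : A ≃ₐ[k] Matrix (Fin m) (Fin m) Q),
        m ≠ 0 := by
      rintro Q _ _ m e rfl
      have : Nontrivial A := hA.nontrivial
      have h0 : (1 : A) = 0 := e.injective (Subsingleton.elim _ _)
      exact one_ne_zero h0
    have h1 := K441.Br.BrEq.of_matrix (hne _ m e) e
    have h2 := K441.Br.BrEq.of_matrix (hne _ m' e') e'
    let := K442.Quat.divRing hq
    let := K442.Quat.divRing hq'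
    exact K441.Br.BrEq.div_unique (hA.of_brEq h1) (h1.symm.trans h2)

end Groth.Agent.S14211
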