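import Groth.Statements.S14212
import Groth.Agent.S14200
import Groth.Agent.ASBun.K791.QuRes
import Groth.Agent.ASBun.K791.EndDiv

set_option autoImplicit false
universe u
open CategoryTheory CategoryTheory.Limits AlgebraicGeometry
open ASBun

namespace Groth.Agent.S14212

/-- Existence of indecomposable modules of every type. -/
theorem exists_type (k : Type u) [Field k] {X : Scheme.{u}}
    (f : X ⟶ Spec (CommRingCat.of k)) [IsProper f] (n : ℕ)
    (K : Type u) [Field K] [Algebra k K] [IsAlgClosure k K] (e : BrSev.Splitting f K n) (j : ℤ) :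
    ∃ (W : X.Modules) (r : ℕ), FlatMod.IsFinLocFree W ∧
      (¬ IsZero W ∧ ∀ M₁ M₂ : X.Modules, Nonempty (W ≅ M₁ ⊞ M₂) → IsZero M₁ ∨ IsZero M₂) ∧
      0 < r ∧ BrSev.IsTwPow e j r W :=
  Groth.Agent.S14200.result k f n K e j

open Groth.Agent.ASBun.K791 in
theorem mem_of_good (k : Type u) [Field k] {X : Scheme.{u}}
    (f : X ⟶ Spec (CommRingCat.of k)) [IsProper f] (n : ℕ)
    (K : Type u) [Field K] [Algebra k K] [IsAlgClosure k K] (e : BrSev.Splitting f K n)
    (H : AddSubgroup (KZero.K0sub (fun M : X.Modules => FlatMod.IsFinLocFree M)))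
    (hH : ∀ (W : X.Modules) (j : ℕ) (r : ℕ), FlatMod.IsFinLocFree W →
          (¬ IsZero W ∧ ∀ M₁ M₂ : X.Modules, Nonempty (W ≅ M₁ ⊞ M₂) → IsZero M₁ ∨ IsZero M₂) →
          0 < r → BrSev.IsTwPow e (-(j : ℤ)) r W →
          KZero.clSub (fun M : X.Modules => FlatMod.IsFinLocFree M) W ∈ H) :
    ∀ (d i : ℕ), i + d = n + 1 → ∀ (m : ℕ) (F : X.Modules), QuRes.Good e m i F →
      KZero.clSub (fun M : X.Modules => FlatMod.IsFinLocFree M) F ∈ H := by
  have hK : IsAlgClosed K := IsAlgClosure.isAlgClosed k
  intro d
  induction d with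
  | zero =>
    intro i hi m F hF
    obtain rfl : i = n + 1 := by omega
    rw [Groth.Agent.Sga67.K0Basic.clSub_of_isZero (QuRes.isZero_of_good e hF)]
    exact H.zero_mem
  | succ d ih =>
    intro i hi m F hF
    obtain ⟨W, r, hW, hWi, hr, hWt⟩ := exists_type k f n K e (-(m : ℤ))
    obtain ⟨s, Φ, hΦ, hker⟩ := QuRes.step e hr hW hWt (EndDiv.isIso_of_ne_zero e hr hW hWi hWt)
      (by omega) hF
    have h1 : KZero.clSub (fun M : X.Modules => FlatMod.IsFinLocFree M) (kernel Φ) ∈ H := by
      refine ih (i + 1) (by omega) (m + 1) (kernel Φ) ?_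
      have h2 : ((m + 1 : ℕ) : ℤ) = (m : ℤ) + 1 := by push_cast; ring
      rw [h2]
      exact hker
    have hS : (ShortComplex.mk (kernel.ι Φ) Φ (kernel.condition Φ)).ShortExact :=
      { exact := ShortComplex.exact_kernel Φ
        mono_f := inferInstanceAs (Mono (kernel.ι Φ))
        epi_g := inferInstanceAs (Epi Φ) }
    have h3 := Groth.Agent.Sga67.K0Basic.clSub_of_shortExact
      (P := fun M : X.Modules => FlatMod.IsFinLocFree M) _ hS hker.flf (K0Pow.isFinLocFree_pow hW s) hF.flf
    have h4 : KZero.clSub (fun M : X.Modules => FlatMod.IsFinLocFree M) F =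
        s • KZero.clSub (fun M : X.Modules => FlatMod.IsFinLocFree M) W -
          KZero.clSub (fun M : X.Modules => FlatMod.IsFinLocFree M) (kernel Φ) := by
      rw [← K0Pow.clSub_pow hW s]
      exact eq_sub_of_add_eq' h3.symm
    rw [h4]
    exact H.sub_mem (H.nsmul_mem (hH W m r hW hWi hr hWt) s) h1

/-- Let A be a central simple algebra of degree n ≥ 1 over a field k (of dimension n² over k), X a
proper k-scheme which is the Severi–Brauer scheme of A (for every commutative k-algebra R its
R-points over k are, naturally in R, the left ideals of R ⊗_k A with projective quotient of rank n²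
− n), K an algebraic closure of k and e a K-isomorphism X_K ≅ P^{n−1}_K, along which O_e(j) denotes
the pullback of the twisting sheaf O(j). Then the Grothendieck group of finite locally free
O_X-modules (the free abelian group on them modulo [M₂] − [M₁] − [M₃] for every short exact sequence
0 → M₁ → M₂ → M₃ → 0 of O_X-modules with finite locally free terms) is spanned over ℤ by the classes
of the indecomposable finite locally free modules W (nonzero, and in any decomposition as a direct
sum one summand is zero) with W_K ≅ O_e(−j)^{⊕r} for some j ≥ 0 and r ≥ 1. (The published statement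
speaks of the duals of the indecomposable modules of types O(j), j ≥ 0, which are these modules, and
of the Grothendieck group of coherent modules, which for this smooth X is that of locally free
ones.) -/
theorem result (k : Type u) [Field k] (A : Type u) [Ring A] [Algebra k A]
    [Algebra.IsCentral k A] [IsSimpleRing A] (n : ℕ) (hn : 0 < n)
    (hA : Module.finrank k A = n * n) {X : Scheme.{u}} (f : X ⟶ Spec (CommRingCat.of k))
    [IsProper f] (hX : BrSev.IsSBOf k A (n * n - n) f)
    (K : Type u) [Field K] [Algebra k K] [IsAlgClosure k K] (e : BrSev.Splitting f K (n - 1)) :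
    AddSubgroup.closure {c : KZero.K0sub (fun M : X.Modules => FlatMod.IsFinLocFree M) |
        ∃ (W : X.Modules) (j : ℕ) (r : ℕ), FlatMod.IsFinLocFree W ∧
          (¬ IsZero W ∧ ∀ M₁ M₂ : X.Modules, Nonempty (W ≅ M₁ ⊞ M₂) → IsZero M₁ ∨ IsZero M₂) ∧
          0 < r ∧ BrSev.IsTwPow e (-(j : ℤ)) r W ∧
          c = KZero.clSub (fun M : X.Modules => FlatMod.IsFinLocFree M) W} = ⊤ := by
  apply Groth.Agent.Sga67.K0Basic.eq_top_of_clSub_mem
  intro F hF
  obtain ⟨m, hm⟩ := Groth.Agent.ASBun.K791.QuRes.exists_good e hF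
  refine mem_of_good k f (n - 1) K e _ ?_ (n - 1 + 1) 0 (by omega) m F hm
  intro W j r hW hWi hr hWt
  exact AddSubgroup.subset_closure ⟨W, j, r, hW, hWi, hr, hWt, rfl⟩

end Groth.Agent.S14212
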