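import Groth.Statements.S14214
import Groth.Agent.S14208
import Groth.Agent.S14221
import Groth.Agent.ASBun.K824.Conic

set_option autoImplicit false
universe u
open CategoryTheory CategoryTheory.Limits AlgebraicGeometry
open ASBun

namespace K824.Birat

theorem preirreducible {k : Type u} [Field k] {X : Scheme.{u}} {f : X ⟶ Spec (CommRingCat.of k)} {K : Type u} [Field K]
    [Algebra k K] {m : ℕ} (e : BrSev.Splitting f K m) : PreirreducibleSpace X := by
  have := K824.Split.isIntegral_bc e
  have h := (PreirreducibleSpace.isPreirreducible_univ (X := BrSev.bc f K)).image (BrSev.proj f K)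
    (BrSev.proj f K).continuous.continuousOn
  rw [Set.image_univ, (K824.Index2.surjective_proj f K).range_eq] at h
  exact ⟨h⟩

theorem dense {k : Type u} [Field k] {X : Scheme.{u}} {f : X ⟶ Spec (CommRingCat.of k)} {K : Type u} [Field K]
    [Algebra k K] {m : ℕ} (e : BrSev.Splitting f K m) (U : X.Opens) (hU : Nonempty U) : Dense (U : Set X) := by
  have := preirreducible e
  exact U.2.dense (by obtain ⟨x⟩ := hU; exact ⟨x.1, x.2⟩)

end K824.Birat

namespace Groth.Agent.S14214

/-- Let A and B be central simple algebras of degrees n, n' ≥ 1 over a field k, and X, Y proper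
k-schemes which are the Severi–Brauer schemes of A and of B (R-points = left ideals of R ⊗_k A,
resp. R ⊗_k B, with projective quotient of rank n² − n, resp. n'² − n', naturally in R). Suppose X
and Y are birational over k: there are nonempty open subschemes U ⊆ X and V ⊆ Y and an isomorphism U
≅ V compatible with the structure morphisms to Spec k. Let K be an algebraic closure of k with
K-isomorphisms e : X_K ≅ P^{n−1}_K and e' : Y_K ≅ P^{n'−1}_K, and j an integer. If W on X and W' on
Y are indecomposable finite locally free modules (nonzero, and in any decomposition as a direct sum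
one summand is zero) with W_K ≅ O_e(j)^{⊕r} and W'_K ≅ O_{e'}(j)^{⊕r'}, r, r' ≥ 1, then r = r'
(birational Severi–Brauer varieties have, for every integer j, indecomposable modules of type O(j)
of the same multiplicity). -/
theorem result (k : Type u) [Field k]
    (A : Type u) [Ring A] [Algebra k A] [Algebra.IsCentral k A] [IsSimpleRing A]
    (B : Type u) [Ring B] [Algebra k B] [Algebra.IsCentral k B] [IsSimpleRing B]
    (n n' : ℕ) (hn : 0 < n) (hn' : 0 < n')
    (hA : Module.finrank k A = n * n) (hB : Module.finrank k B = n' * n')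
    {X Y : Scheme.{u}} (f : X ⟶ Spec (CommRingCat.of k)) (g : Y ⟶ Spec (CommRingCat.of k))
    [IsProper f] [IsProper g]
    (hX : BrSev.IsSBOf k A (n * n - n) f) (hY : BrSev.IsSBOf k B (n' * n' - n') g)
    (U : X.Opens) (V : Y.Opens) (hU : Nonempty ↥U) (hV : Nonempty ↥V)
    (φ : (U : Scheme.{u}) ≅ (V : Scheme.{u})) (hφ : φ.hom ≫ V.ι ≫ g = U.ι ≫ f)
    (K : Type u) [Field K] [Algebra k K] [IsAlgClosure k K]
    (e : BrSev.Splitting f K (n - 1)) (e' : BrSev.Splitting g K (n' - 1)) (j : ℤ)
    (W : X.Modules) (W' : Y.Modules) (hW : FlatMod.IsFinLocFree W) (hW' : FlatMod.IsFinLocFree W')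
    (hWi : (¬ IsZero W ∧ ∀ M₁ M₂ : X.Modules, Nonempty (W ≅ M₁ ⊞ M₂) → IsZero M₁ ∨ IsZero M₂))
    (hW'i : (¬ IsZero W' ∧ ∀ M₁ M₂ : Y.Modules, Nonempty (W' ≅ M₁ ⊞ M₂) → IsZero M₁ ∨ IsZero M₂))
    (r r' : ℕ) (hr : 0 < r) (hr' : 0 < r')
    (hWt : BrSev.IsTwPow e j r W) (hW't : BrSev.IsTwPow e' j r' W') : r = r' := by
  obtain ⟨⟨i, p, q, hp, hq, ⟨e1⟩⟩, ⟨i', p', q', hp', hq', ⟨e2⟩⟩⟩ :=
    Groth.Agent.S14221.result k A B n n' hn hn' hA hB f g hX hY
      ⟨⟨U, K824.Birat.dense e U hU, V, K824.Birat.dense e' V hV, φ⟩, hφ⟩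
  exact Groth.Agent.S14208.result k A B n n' hn hn' hA hB i i' q p q' p' hq.bot_lt hp.bot_lt hq'.bot_lt hp'.bot_lt
    ⟨e1.symm⟩ ⟨e2.symm⟩ f g hX hY K e e' j W W' hW hW' hWi hW'i r r' hr hr' hWt hW't

end Groth.Agent.S14214
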