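import Groth.Statements.S14216
import Groth.Agent.S14215
import Groth.Agent.S14198
import Groth.Agent.ASBun.K824.Index2

set_option autoImplicit false
universe u
open CategoryTheory CategoryTheory.Limits AlgebraicGeometry
open ASBun

namespace Groth.Agent.S14216

/-- Let A be a central simple algebra of degree n ≥ 1 over a field k (of dimension n² over k), X a
proper k-scheme which is the Severi–Brauer scheme of A (for every commutative k-algebra R its
R-points over k are, naturally in R, the left ideals of R ⊗_k A with projective quotient of rank n²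
− n), K an algebraic closure of k and e a K-isomorphism X_K ≅ P^{n−1}_K, along which O_e(j) denotes
the pullback of the twisting sheaf O(j); suppose A has index 2 (A is a matrix algebra over a
division ring of dimension 4 over k). Let E be a finite locally free O_X-module which is absolutely
split: E_K is isomorphic to a finite direct sum of invertible O_{X_K}-modules. Then E ≅ (L_1 ⊕ ⋯ ⊕
L_s) ⊕ (M_1 ⊕ ⋯ ⊕ M_t) where each L_i is an invertible O_X-module with (L_i)_K ≅ O_e(2a_i) and each
M_i is an indecomposable finite locally free O_X-module (nonzero, and in any decomposition as a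
direct sum one summand is zero) of rank 2 with (M_i)_K ≅ O_e(2b_i + 1)^{⊕2}, for integers a_i, b_i.
(The published statement also records that s, t and the a_i, b_j are unique, which is the
Krull–Schmidt uniqueness and is not restated here.) -/
theorem result (k : Type u) [Field k] (A : Type u) [Ring A] [Algebra k A]
    [Algebra.IsCentral k A] [IsSimpleRing A] (n : ℕ) (hn : 0 < n)
    (hA : Module.finrank k A = n * n) {X : Scheme.{u}} (f : X ⟶ Spec (CommRingCat.of k))
    [IsProper f] (hX : BrSev.IsSBOf k A (n * n - n) f)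
    (K : Type u) [Field K] [Algebra k K] [IsAlgClosure k K] (e : BrSev.Splitting f K (n - 1))
    (hi : CSAGal.IsIndex k A 2) (E : X.Modules) (hE : FlatMod.IsFinLocFree E)
    (s₀ : ℕ) (Ns : Fin s₀ → (BrSev.bc f K).Modules) (hNs : ∀ i, PicF.IsInvertible (Ns i))
    (hsplit : Nonempty (BrSev.bcMod f K E ≅ ∐ Ns)) :
    ∃ (s t : ℕ) (Ls : Fin s → X.Modules) (Ms : Fin t → X.Modules) (a : Fin s → ℤ) (b : Fin t → ℤ),
      (∀ i, PicF.IsInvertible (Ls i) ∧ BrSev.IsTwPow e (2 * a i) 1 (Ls i)) ∧
      (∀ i, FlatMod.IsFinLocFree (Ms i) ∧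
        (¬ IsZero (Ms i) ∧ ∀ M₁ M₂ : X.Modules, Nonempty ((Ms i) ≅ M₁ ⊞ M₂) → IsZero M₁ ∨ IsZero M₂) ∧
        BrSev.IsTwPow e (2 * b i + 1) 2 (Ms i)) ∧
      Nonempty (E ≅ (∐ Ls) ⊞ (∐ Ms)) := by
  have hfd : FiniteDimensional k A := FiniteDimensional.of_finrank_pos (by rw [hA]; positivity)
  have hcsa : K441.Br.IsCSA k A := ⟨inferInstance, inferInstance, hfd⟩
  have hp := K824.Index2.isPeriod_two hcsa hi
  obtain ⟨t, Ms, js, rs, h1, ⟨eE⟩⟩ := Groth.Agent.S14215.result k A n hn hA f hX K e E hE s₀ Ns hNs hsplit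
  obtain ⟨a, b, As, Bs, hAs, hBs, ⟨e1⟩⟩ := K824.Index2.exists_partition Ms
    (fun M => ∃ c : ℤ, PicF.IsInvertible M ∧ BrSev.IsTwPow e (2 * c) 1 M)
  have hr : ∀ i, rs i = 2 / Nat.gcd 2 (js i).natAbs := fun i =>
    Groth.Agent.ASBun.K791.IndPow.index_tpow hcsa hp hi (Groth.Agent.S14198.result k A n hn hA f hX K e (Ms i) (h1 i).1
      (h1 i).2.1 (js i) (rs i) (h1 i).2.2.1 (h1 i).2.2.2)
  have hodd : ∀ i, ∃ c : ℤ, FlatMod.IsFinLocFree (Bs i) ∧
        (¬ IsZero (Bs i) ∧ ∀ M₁ M₂ : X.Modules, Nonempty ((Bs i) ≅ M₁ ⊞ M₂) → IsZero M₁ ∨ IsZero M₂) ∧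
        BrSev.IsTwPow e (2 * c + 1) 2 (Bs i) := by
    intro i
    obtain ⟨hP, l, hl⟩ := hBs i
    rw [hl] at hP ⊢
    rcases Int.even_or_odd (js l) with h | h
    · exfalso
      apply hP
      obtain ⟨c, hc⟩ := even_iff_two_dvd.1 h
      have h2 : rs l = 1 := by
        rw [hr l, hc, Int.natAbs_mul]
        simp
      have h3 := (h1 l).2.2.2
      rw [h2, hc] at h3
      refine ⟨c, K824.Index2.isInvertible_of_bc f K (h1 l).1 ?_, h3⟩
      obtain ⟨i3⟩ := h3
      refine K824.Split.isInvertible_of_iso i3 ?_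
      refine K824.Split.isInvertible_of_iso (coproductUniqueIso _) ?_
      exact Groth.Agent.Fdesc.LocGen.isInvertible_pullback e.iso.hom (K792.TautMain2.isInvertible_twist _ _ _)
    · obtain ⟨c, hc⟩ := h
      have h2 : rs l = 2 := by
        rw [hr l, hc]
        have h4 : Nat.gcd 2 (2 * c + 1).natAbs = 1 :=
          Nat.coprime_two_left.2 (Int.natAbs_odd.2 ⟨c, rfl⟩)
        rw [h4]
      have h3 := (h1 l).2.2.2
      rw [h2, hc] at h3
      exact ⟨c, (h1 l).1, (h1 l).2.1, h3⟩
  choose bs hbs using hodd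
  choose as has using fun i => (hAs i).1
  exact ⟨a, b, As, Bs, as, bs, has, hbs, ⟨eE ≪≫ e1⟩⟩

end Groth.Agent.S14216
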