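import Groth.Statements.S14252
import Groth.Agent.FrobAlg.K674.PerfTor
import Groth.Agent.Flat2H.TorDim

set_option autoImplicit false
universe u
open CategoryTheory
open FrobAlg

namespace Groth.Agent.S14252

/-- Let p be a prime, A a commutative ring with p = 0 whose p-th power map is bijective, and B, C two
commutative A-algebras whose p-th power maps are bijective (a diagram C ← A → B of perfect rings of
characteristic p). Then Tor_i^A(B, C) vanishes for all i > 0. -/
theorem result (p : ℕ) [Fact p.Prime] (A B C : Type u) [CommRing A] [CommRing B] [CommRing C]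
    [CharP A p] [Algebra A B] [Algebra A C]
    (hA : Function.Bijective fun a : A => a ^ p) (hB : Function.Bijective fun b : B => b ^ p)
    (hC : Function.Bijective fun c : C => c ^ p) (i : ℕ) (hi : 0 < i) :
    Limits.IsZero (((Tor (ModuleCat.{u} A) i).obj (ModuleCat.of A B)).obj (ModuleCat.of A C)) := by
  have hp : PerfectRing A p := ⟨hA⟩
  obtain ⟨n, rfl⟩ := Nat.exists_eq_succ_of_ne_zero hi.ne'
  let P := projectiveResolution (ModuleCat.of A C)
  have h := (Groth.Agent.Flat2H.TorDim.subsingleton_tor_succ_iff (M := B) (N := C) P n).2 (by
    have : Epi (P.π.f 0) := inferInstance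
    exact K674.PerfTor.exact_lTensor p hB hC (fun n => P.complex.X n) (fun n => (P.complex.d (n + 1) n).hom)
      (P.π.f 0).hom ((ModuleCat.epi_iff_surjective _).1 this)
      (Groth.Agent.Flat2H.TorDim.resolution_exact₀ P) (fun n => Groth.Agent.Flat2H.TorDim.resolution_exact P n) n)
  exact (ModuleCat.isZero_iff_subsingleton).2 h

end Groth.Agent.S14252
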