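import Groth.Statements.S14254
import Groth.Agent.FrobAlg.K674.Perf
import Groth.Agent.S0418
import Groth.Agent.S0416

set_option autoImplicit false
universe u
open CategoryTheory AlgebraicGeometry
open FrobAlg

namespace Groth.Agent.S14254

/-- Let p be a prime, φ : A → B a map of commutative rings of characteristic p, i : A → A' and j : B →
B' perfect closures (A' and B' are perfect rings of characteristic p, every element of A' resp. B'
has a p^n-th power in the image of i resp. j, and the kernels of i and j consist of nilpotent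
elements), and φ' : A' → B' the induced map, φ' ∘ i = j ∘ φ. Then Spec φ : Spec B ⟶ Spec A is a
universal homeomorphism if and only if φ' is bijective. (The published statement is for an arbitrary
morphism of schemes over the prime field and its perfection; this row is the case of affine schemes,
the perfection of Spec A being Spec of the perfect closure of A.) -/
theorem result (p : ℕ) [Fact p.Prime]
    {A B A' B' : Type u} [CommRing A] [CommRing B] [CommRing A'] [CommRing B']
    [CharP A p] [CharP B p] [CharP A' p] [CharP B' p] [PerfectRing A' p] [PerfectRing B' p]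
    (φ : A →+* B) (i : A →+* A') (j : B →+* B') [IsPerfectClosure i p] [IsPerfectClosure j p]
    (φ' : A' →+* B') (hφ : φ'.comp i = j.comp φ) :
    FlatMor.IsUnivHomeo (Spec.map (CommRingCat.ofHom φ)) ↔ Function.Bijective φ' := by
  have hp : (p : A) = 0 := CharP.cast_eq_zero A p
  have hpB : (p : B) = 0 := CharP.cast_eq_zero B p
  have hprime : p.Prime := Fact.out
  -- `Spec` of a `p`-radical map is a universal homeomorphism
  have hsub : ∀ {R S : Type u} [CommRing R] [CommRing S] [CharP R p] [CharP S p] (ψ : R →+* S),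
      FlatMor.IsUnivHomeo (Spec.map (CommRingCat.ofHom ψ)) ↔
        (∀ a ∈ RingHom.ker ψ, IsNilpotent a) ∧ ∀ b : S, ∃ n : ℕ, b ^ (p ^ n) ∈ ψ.range := by
    intro R S _ _ _ _ ψ
    have hR : (p : R) = 0 := CharP.cast_eq_zero R p
    have hS : (p : S) = 0 := CharP.cast_eq_zero S p
    have hloc : Function.Bijective (Localization.awayMap ψ (p : R)) := by
      have h1 : Subsingleton (Localization.Away (p : R)) := by
        rw [hR]
        exact IsLocalization.subsingleton_iff (M := Submonoid.powers (0 : R)) (S := _) |>.2 (Submonoid.mem_powers _)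
      have h2 : Subsingleton (Localization.Away (ψ (p : R))) := by
        rw [map_natCast, hS]
        exact IsLocalization.subsingleton_iff (M := Submonoid.powers (0 : S)) (S := _) |>.2 (Submonoid.mem_powers _)
      exact ⟨fun _ _ _ => Subsingleton.elim _ _, fun y => ⟨0, Subsingleton.elim _ _⟩⟩
    rw [Groth.Agent.S0418.result ψ p hprime hloc]
    refine and_congr_right fun _ => forall_congr' fun b => ⟨fun ⟨n, _, h⟩ => ⟨n, h⟩, fun ⟨n, h⟩ => ⟨n + 1, ?_, ?_⟩⟩
    · rw [hS, zero_pow (Nat.succ_ne_zero _), zero_mul]; exact zero_mem _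
    · rw [pow_succ, pow_mul]; exact pow_mem h _
  have hrad : ∀ {R S : Type u} [CommRing R] [CommRing S] [CharP R p] [CharP S p] (ψ : R →+* S) [IsPRadical ψ p],
      FlatMor.IsUnivHomeo (Spec.map (CommRingCat.ofHom ψ)) := by
    intro R S _ _ _ _ ψ _
    rw [hsub]
    refine ⟨fun a ha => ?_, fun b => ?_⟩
    · have := (IsPRadical.ker_le ψ p).trans pNilradical_le_nilradical ha
      exact this
    · obtain ⟨n, y, hy⟩ := IsPRadical.pow_mem ψ p b
      exact ⟨n, y, hy⟩
  have hi := hrad i
  have hj := hrad j
  have hcomp : ∀ {X Y Z : Scheme.{u}} (f : X ⟶ Y) (g : Y ⟶ Z), FlatMor.IsUnivHomeo f → FlatMor.IsUnivHomeo g →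
      FlatMor.IsUnivHomeo (f ≫ g) := by
    intro X Y Z f g hf hg
    rw [Groth.Agent.FlatA.UnivHomeo.isUnivHomeo_iff] at hf hg ⊢
    obtain ⟨_, _, _⟩ := hf
    obtain ⟨_, _, _⟩ := hg
    exact ⟨inferInstance, MorphismProperty.comp_mem @UniversallyInjective f g inferInstance inferInstance, inferInstance⟩
  -- `Spec j ≫ Spec φ = Spec φ' ≫ Spec i`
  have hsq : Spec.map (CommRingCat.ofHom j) ≫ Spec.map (CommRingCat.ofHom φ) =
      Spec.map (CommRingCat.ofHom φ') ≫ Spec.map (CommRingCat.ofHom i) := by
    rw [← Spec.map_comp, ← Spec.map_comp, ← CommRingCat.ofHom_comp, ← CommRingCat.ofHom_comp, hφ]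
  have h1 : FlatMor.IsUnivHomeo (Spec.map (CommRingCat.ofHom φ)) ↔
      FlatMor.IsUnivHomeo (Spec.map (CommRingCat.ofHom φ')) := by
    constructor
    · intro h
      refine (Groth.Agent.S0416.result (Spec.map (CommRingCat.ofHom φ')) (Spec.map (CommRingCat.ofHom i))).2 ?_ hi
      rw [← hsq]
      exact hcomp _ _ hj h
    · intro h
      refine (Groth.Agent.S0416.result (Spec.map (CommRingCat.ofHom j)) (Spec.map (CommRingCat.ofHom φ))).1 ?_ hj
      rw [hsq]
      exact hcomp _ _ h hi
  rw [h1, hsub]
  constructor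
  · rintro ⟨hk, hr⟩
    have hred := K674.Perf.isReduced (A' := A') p
    refine ⟨(injective_iff_map_eq_zero _).2 fun a ha => (hk a ha).eq_zero, fun b => ?_⟩
    obtain ⟨n, a, ha⟩ := hr b
    refine ⟨K674.Perf.root p n a, K674.Perf.pow_inj p n ?_⟩
    rw [← map_pow, K674.Perf.root_pow, ha]
  · rintro ⟨hinj, hsurj⟩
    refine ⟨fun a ha => ?_, fun b => ⟨0, ?_⟩⟩
    · rw [RingHom.mem_ker] at ha
      rw [(injective_iff_map_eq_zero _).1 hinj a ha]; exact IsNilpotent.zero
    · obtain ⟨a, ha⟩ := hsurj b
      exact ⟨a, by simp [ha]⟩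

end Groth.Agent.S14254
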