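import Groth.Statements.S14258
import Groth.Agent.HTop.K348.HCart
import Groth.Agent.S4599

set_option autoImplicit false
universe u
open HTop

namespace Groth.Agent.S14258

open CategoryTheory CategoryTheory.Limits AlgebraicGeometry Opposite in
/-- Let S be a scheme and F a sheaf of sets on the big h site of S. Let Y be an affine scheme over S, f
: X ⟶ Y a proper surjective morphism of finite presentation over S which is an isomorphism over the
open complement U of a closed subscheme i : Z ⟶ Y of finite presentation, and E = X ×_Y Z with its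
projections e : E ⟶ X and π : E ⟶ Z. Then the square of sets of sections F(Y) → F(X), F(Z) → F(E) is
cartesian: a section over Z and a section over X with the same restriction to E come from exactly
one section over Y. (The published statement is for quasi-compact quasi-separated schemes of finite
presentation over a quasi-compact quasi-separated S and sheaves on those; this row works on all
S-schemes; with Y affine and f proper the four schemes are quasi-compact and quasi-separated.) -/
theorem result (S : Scheme.{u}) (F : HTop.ShH S)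
    {E Z X Y : Over S} (e : E ⟶ X) (π : E ⟶ Z) (f : X ⟶ Y) (i : Z ⟶ Y) [IsAffine Y.left]
    [IsProper f.left] [Surjective f.left] [LocallyOfFinitePresentation f.left]
    [IsClosedImmersion i.left] [LocallyOfFinitePresentation i.left]
    (hsq : IsPullback e.left π.left f.left i.left)
    (U : Y.left.Opens) (hU : (U : Set Y.left) = (Set.range i.left.base)ᶜ) (hiso : IsIso (f.left ∣_ U))
    (t : F.obj.obj (op Z)) (s' : F.obj.obj (op X)) (hts : F.obj.map π.op t = F.obj.map e.op s') :
    ∃! s : F.obj.obj (op Y), F.obj.map i.op s = t ∧ F.obj.map f.op s = s' := by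
  have hP : Presieve.IsSheaf (HTop.Jh S) F.obj := (isSheaf_iff_isSheaf_of_type _ _).mp F.property
  have hff : (Presieve.singleton f).IsSheafFor F.obj :=
    K346.Site.isSheafFor_singleton_of_isHCover hP f (K346.PhBasic.isHCover_singleton f.left)
  have hπ1 : IsProper π.left := MorphismProperty.of_isPullback hsq inferInstance
  have hπ2 : Surjective π.left := MorphismProperty.of_isPullback hsq inferInstance
  have hπ3 : LocallyOfFinitePresentation π.left := MorphismProperty.of_isPullback hsq inferInstance
  have hfπ : (Presieve.singleton π).IsSheafFor F.obj :=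
    K346.Site.isSheafFor_singleton_of_isHCover hP π (K346.PhBasic.isHCover_singleton π.left)
  have hw : e ≫ f = π ≫ i := Over.OverMorphism.ext hsq.w
  -- the two pullbacks of `s'` agree
  have key : ∀ {W : Over S} (p₁ p₂ : W ⟶ X), p₁ ≫ f = p₂ ≫ f →
      F.obj.map p₁.op s' = F.obj.map p₂.op s' := by
    intro W p₁ p₂ hp
    have hp' : p₁.left ≫ f.left = p₂.left ≫ f.left := congrArg CommaMorphism.left hp
    obtain ⟨l, hl1, hl2⟩ : ∃ l : W.left ⟶ pullback f.left f.left,
        l ≫ pullback.fst _ _ = p₁.left ∧ l ≫ pullback.snd _ _ = p₂.left :=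
      ⟨pullback.lift _ _ hp', pullback.lift_fst _ _ _, pullback.lift_snd _ _ _⟩
    let i₁ := pullback.fst l (pullback.diagonal f.left)
    have hi₁ : i₁ ≫ l = pullback.snd l (pullback.diagonal f.left) ≫ pullback.diagonal f.left :=
      pullback.condition
    have hi₁a : i₁ ≫ p₁.left = pullback.snd l (pullback.diagonal f.left) := by
      rw [← hl1, reassoc_of% hi₁, pullback.diagonal_fst, Category.comp_id]
    have hi₁b : i₁ ≫ p₂.left = pullback.snd l (pullback.diagonal f.left) := by
      rw [← hl2, reassoc_of% hi₁, pullback.diagonal_snd, Category.comp_id]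
    let i₂ := pullback.fst (p₁.left ≫ f.left) i.left
    let W₁ : Over S := Over.mk (i₁ ≫ W.hom)
    let W₂ : Over S := Over.mk (i₂ ≫ W.hom)
    let j₁ : W₁ ⟶ W := Over.homMk i₁ rfl
    let j₂ : W₂ ⟶ W := Over.homMk i₂ rfl
    have c1 : IsClosedImmersion j₁.left := inferInstanceAs (IsClosedImmersion i₁)
    have c2 : IsClosedImmersion j₂.left := inferInstanceAs (IsClosedImmersion i₂)
    have c0 : LocallyOfFinitePresentation (pullback.diagonal f.left) :=
      Groth.Agent.S4599.result f.left
    have c3 : LocallyOfFinitePresentation j₁.left :=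
      inferInstanceAs (LocallyOfFinitePresentation i₁)
    have c4 : LocallyOfFinitePresentation j₂.left :=
      inferInstanceAs (LocallyOfFinitePresentation i₂)
    refine K348.HCart.eq_of_closed_pair hP j₁ j₂ ?_ _ _ ?_ ?_
    · intro w
      by_cases hwr : (p₁.left ≫ f.left) w ∈ Set.range i.left
      · right
        obtain ⟨z, hz⟩ := hwr
        obtain ⟨v, hv, -⟩ := Scheme.Pullback.exists_preimage_pullback
          (f := p₁.left ≫ f.left) (g := i.left) w z hz.symm
        exact ⟨v, hv⟩
      · left
        have hwU : (p₁.left ≫ f.left) w ∈ U := by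
          change _ ∈ (U : Set Y.left)
          rw [hU]
          exact hwr
        let k := ((p₁.left ≫ f.left) ⁻¹ᵁ U).ι
        have hpb := (isPullback_morphismRestrict f.left U).flip
        have hr : Set.range (k ≫ p₁.left ≫ f.left) ⊆ Set.range U.ι := by
          rintro _ ⟨v, rfl⟩
          rw [Scheme.Opens.range_ι]
          exact v.2
        let m := IsOpenImmersion.lift U.ι (k ≫ p₁.left ≫ f.left) hr
        have hm : m ≫ U.ι = k ≫ p₁.left ≫ f.left := IsOpenImmersion.lift_fac _ _ _
        have hmono : Mono (f.left ∣_ U) := inferInstance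
        have h1 : k ≫ p₁.left = k ≫ p₂.left := by
          have e1 := hpb.lift_fst (k ≫ p₁.left) m (by rw [Category.assoc, hm])
          have e2 := hpb.lift_fst (k ≫ p₂.left) m (by
            rw [Category.assoc, hm]; exact congrArg (k ≫ ·) hp'.symm)
          rw [← e1, ← e2]
          congr 1
          rw [← cancel_mono (f.left ∣_ U), hpb.lift_snd, hpb.lift_snd]
        let q : ((p₁.left ≫ f.left) ⁻¹ᵁ U).toScheme ⟶ pullback l (pullback.diagonal f.left) :=
          pullback.lift k (k ≫ p₁.left) (by
            apply pullback.hom_ext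
            · rw [Category.assoc, hl1, Category.assoc, pullback.diagonal_fst, Category.comp_id]
            · rw [Category.assoc, hl2, Category.assoc, pullback.diagonal_snd, Category.comp_id, h1])
        refine ⟨q ⟨w, hwU⟩, ?_⟩
        change (q ≫ i₁) _ = w
        rw [pullback.lift_fst]
        rfl
    · have : j₁ ≫ p₁ = j₁ ≫ p₂ := Over.OverMorphism.ext (hi₁a.trans hi₁b.symm)
      rw [← Functor.map_comp_apply, ← Functor.map_comp_apply, ← op_comp, ← op_comp, this]
    · have hc : i₂ ≫ p₁.left ≫ f.left = pullback.snd (p₁.left ≫ f.left) i.left ≫ i.left :=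
        pullback.condition
      have hr2 : (i₂ ≫ W.hom) = pullback.snd (p₁.left ≫ f.left) i.left ≫ Z.hom := by
        rw [← Over.w i, ← reassoc_of% hc, Over.w f, Over.w p₁]
      let r : W₂ ⟶ Z := Over.homMk (pullback.snd (p₁.left ≫ f.left) i.left) hr2.symm
      have hlift : ∀ p : W ⟶ X, p.left ≫ f.left = p₁.left ≫ f.left →
          ∃ q : W₂ ⟶ E, q ≫ e = j₂ ≫ p ∧ q ≫ π = r := by
        intro p hpp
        have h2 : (i₂ ≫ p.left) ≫ f.left = pullback.snd (p₁.left ≫ f.left) i.left ≫ i.left := by
          rw [Category.assoc, hpp]; exact hc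
        refine ⟨Over.homMk (hsq.lift (i₂ ≫ p.left) (pullback.snd (p₁.left ≫ f.left) i.left) h2) ?_,
          ?_, ?_⟩
        · rw [← Over.w e, hsq.lift_fst_assoc, Category.assoc, Over.w p]
          rfl
        · apply Over.OverMorphism.ext
          exact hsq.lift_fst _ _ _
        · apply Over.OverMorphism.ext
          exact hsq.lift_snd _ _ _
      have hval : ∀ p : W ⟶ X, p.left ≫ f.left = p₁.left ≫ f.left →
          F.obj.map j₂.op (F.obj.map p.op s') = F.obj.map r.op t := by
        intro p hpp
        obtain ⟨q, hq1, hq2⟩ := hlift p hpp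
        rw [← Functor.map_comp_apply, ← op_comp, ← hq1, op_comp, Functor.map_comp_apply, ← hts,
          ← Functor.map_comp_apply, ← op_comp, hq2]
      rw [hval p₁ rfl, hval p₂ hp'.symm]
  rw [Presieve.isSheafFor_singleton] at hff hfπ
  obtain ⟨s, hs, hu⟩ := hff s' key
  refine ⟨s, ⟨?_, hs⟩, fun r hr => hu r hr.2⟩
  have hcomp : ∀ {W : Over S} (p₁ p₂ : W ⟶ E), p₁ ≫ π = p₂ ≫ π →
      F.obj.map p₁.op (F.obj.map π.op t) = F.obj.map p₂.op (F.obj.map π.op t) := by
    intro W p₁ p₂ hp
    rw [← Functor.map_comp_apply, ← Functor.map_comp_apply, ← op_comp, ← op_comp, hp]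
  obtain ⟨t', -, ht'⟩ := hfπ (F.obj.map π.op t) hcomp
  rw [ht' (F.obj.map i.op s) ?_, ht' t rfl]
  dsimp only
  rw [← Functor.map_comp_apply, ← op_comp, ← hw, op_comp, Functor.map_comp_apply, hs, hts]

end Groth.Agent.S14258
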