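import Groth.Statements.S14273
import Groth.Agent.NonAbH1.K550.ExtTors

set_option autoImplicit false
universe u
open scoped CategoryTheory.Obj
open NonAbH1

namespace Groth.Agent.S14273

open AlgebraicGeometry CategoryTheory CategoryTheory.Limits MonoidalCategory in
/-- Let X be a scheme, G a finite locally free X-group scheme (finite, flat and locally of finite
presentation over X, not necessarily commutative), and U an open subscheme of X whose inclusion is
quasi-compact, such that for every point z of X outside U the local ring of X at z is regular of
Krull dimension at least 2. Then every torsor for the fppf topology over U under the base change of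
G to U is isomorphic, over U and compatibly with the actions, to the base change of an fppf G-torsor
over X. (The base change of G acts on the base change of an X-scheme through the monoidal structure
of the base-change functor; the published statement is that pullback is an equivalence of categories
of torsors, and this row is its essential surjectivity; its clause on gerbes is not stated.) -/
theorem result {X : Scheme.{u}} (G : Over X) [GrpObj G]
    [IsFinite G.hom] [Flat G.hom] [LocallyOfFinitePresentation G.hom]
    (U : X.Opens) [QuasiCompact U.ι]
    (hZ : ∀ z : X, z ∉ U → IsRegularLocalRing (X.presheaf.stalk z) ∧ (2 : WithBot ℕ∞) ≤ ringKrullDim (X.presheaf.stalk z))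
    (P : Over (U : Scheme.{u})) (b : AlgGrp.Action ((Over.pullback U.ι).obj G) P)
    (hb : NonAbH1.IsTorsorFor Scheme.fppfPrecoverage b) :
    ∃ (Q : Over X) (a : AlgGrp.Action G Q) (φ : (Over.pullback U.ι).obj Q ≅ P),
      NonAbH1.IsTorsorFor Scheme.fppfPrecoverage a ∧
      Functor.LaxMonoidal.μ (Over.pullback U.ι) G Q ≫ (Over.pullback U.ι).map a.act ≫ φ.hom =
        ((Over.pullback U.ι).obj G ◁ φ.hom) ≫ b.act := by
  exact K550.ExtTors.exists_extension G U hZ P b hb

end Groth.Agent.S14273
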