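import Groth.Statements.S14275
import Groth.Agent.CAlg.K84.AdicExact
-- import your own Groth.Agent.* helpers here

set_option autoImplicit false
universe u
open CAlg

namespace Groth.Agent.S14275

open RingTheory.Sequence

section

variable {A : Type u} [CommRing A] (a : A)

/-- One step: `I ≤ I' = I ⊔ (x)`. -/
theorem step (I I' : Ideal A) (x : A) (hI' : I' = I ⊔ Ideal.span {x})
    (hx : ∀ z : A, x * z ∈ I → z ∈ I)
    (hbd : ∃ N : ℕ, ∀ y : A ⧸ I', (∃ m : ℕ, a ^ m • y = 0) → a ^ N • y = 0)
    (hker : ∀ y, AdicCompletion.map (Ideal.span {a}) I.mkQ y = 0 ↔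
      y ∈ I.map (algebraMap A (AdicCompletion (Ideal.span {a}) A))) :
    (∀ y : AdicCompletion (Ideal.span {a}) A,
      algebraMap A (AdicCompletion (Ideal.span {a}) A) x * y ∈
        I.map (algebraMap A (AdicCompletion (Ideal.span {a}) A)) →
      y ∈ I.map (algebraMap A (AdicCompletion (Ideal.span {a}) A))) ∧
    ∀ y, AdicCompletion.map (Ideal.span {a}) I'.mkQ y = 0 ↔
      y ∈ I'.map (algebraMap A (AdicCompletion (Ideal.span {a}) A)) := by
  have hle : I ≤ I' := hI' ▸ le_sup_left
  let f : (A ⧸ I) →ₗ[A] (A ⧸ I) := LinearMap.lsmul A (A ⧸ I) x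
  let g : (A ⧸ I) →ₗ[A] (A ⧸ I') := Submodule.factor hle
  have hfmk : ∀ z : A, f (Submodule.Quotient.mk z) = Submodule.Quotient.mk (x * z) := fun z => rfl
  have hf : Function.Injective f := by
    rw [injective_iff_map_eq_zero]
    intro z hz
    obtain ⟨z, rfl⟩ := Submodule.Quotient.mk_surjective _ z
    rw [hfmk] at hz
    exact (Submodule.Quotient.mk_eq_zero I).mpr (hx z ((Submodule.Quotient.mk_eq_zero I).mp hz))
  have hg : Function.Surjective g := Submodule.factor_surjective hle
  have hfg : Function.Exact f g := by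
    intro z
    obtain ⟨z, rfl⟩ := Submodule.Quotient.mk_surjective _ z
    constructor
    · intro hz
      have hz' : z ∈ I' := (Submodule.Quotient.mk_eq_zero I').mp hz
      rw [hI', Submodule.mem_sup] at hz'
      obtain ⟨y, hy, w, hw, rfl⟩ := hz'
      obtain ⟨c, rfl⟩ := Ideal.mem_span_singleton'.mp hw
      refine ⟨Submodule.Quotient.mk c, ?_⟩
      rw [hfmk]
      refine (Submodule.Quotient.eq I).mpr ?_
      have : x * c - (y + c * x) = - y := by ring
      rw [this]
      exact I.neg_mem hy
    · rintro ⟨c, hc⟩
      obtain ⟨c, rfl⟩ := Submodule.Quotient.mk_surjective _ c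
      rw [← hc, hfmk]
      refine (Submodule.Quotient.mk_eq_zero I').mpr ?_
      rw [hI']
      exact Ideal.mul_mem_right _ _ ((le_sup_right : Ideal.span {x} ≤ I ⊔ Ideal.span {x}) (Ideal.mem_span_singleton_self x))
  obtain ⟨N, hN⟩ := hbd
  have hk := K84.AdicExact.mem_of_bounded_torsion N a hf hfg hN
  have hinj := K84.AdicExact.map_injective_of (Ideal.span {a}) N hk
  have hex := K84.AdicExact.map_exact_of (Ideal.span {a}) N hk hfg hg
  have hfmap : ∀ y : AdicCompletion (Ideal.span {a}) A,
      AdicCompletion.map (Ideal.span {a}) f (AdicCompletion.map (Ideal.span {a}) I.mkQ y) =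
      AdicCompletion.map (Ideal.span {a}) I.mkQ (algebraMap A (AdicCompletion (Ideal.span {a}) A) x * y) := by
    intro y
    have h1 := AdicCompletion.map_comp_apply (Ideal.span {a}) I.mkQ f y
    refine h1.trans ?_
    have h2 : f ∘ₗ I.mkQ = I.mkQ ∘ₗ (LinearMap.lsmul A A x) := by
      ext; rfl
    have h3 := AdicCompletion.map_comp_apply (Ideal.span {a}) (LinearMap.lsmul A A x) I.mkQ y
    have h4 : AdicCompletion.map (Ideal.span {a}) (LinearMap.lsmul A A x) y =
        algebraMap A (AdicCompletion (Ideal.span {a}) A) x * y := by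
      rw [← Algebra.smul_def]
      refine AdicCompletion.ext fun n => ?_
      rw [AdicCompletion.map_val_apply, AdicCompletion.val_smul_apply]
      obtain ⟨z, hz⟩ := Submodule.Quotient.mk_surjective _ (y.val n)
      rw [← hz]
      rfl
    rw [← h4]
    refine Eq.trans ?_ h3.symm
    rw [h2]
  constructor
  · intro y hy
    rw [← hker] at hy ⊢
    rw [← hfmap] at hy
    exact hinj (by rw [hy, map_zero])
  · have hcomp : ∀ y, AdicCompletion.map (Ideal.span {a}) I'.mkQ y =
        AdicCompletion.map (Ideal.span {a}) g (AdicCompletion.map (Ideal.span {a}) I.mkQ y) := by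
      intro y
      have h1 := AdicCompletion.map_comp_apply (Ideal.span {a}) I.mkQ g y
      refine Eq.trans ?_ h1.symm
      rfl
    have hxI' : x ∈ I' := hI' ▸ ((le_sup_right : Ideal.span {x} ≤ I ⊔ Ideal.span {x}) (Ideal.mem_span_singleton_self x))
    intro y
    constructor
    · intro hy
      rw [hcomp] at hy
      obtain ⟨z, hz⟩ := (hex _).mp hy
      obtain ⟨z', rfl⟩ := AdicCompletion.map_surjective (Ideal.span {a}) (Submodule.mkQ_surjective I) z
      rw [hfmap] at hz
      have h1 : AdicCompletion.map (Ideal.span {a}) I.mkQ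
          (y - algebraMap A (AdicCompletion (Ideal.span {a}) A) x * z') = 0 := by
        rw [map_sub, hz, sub_self]
      rw [hker] at h1
      have h2 := Ideal.add_mem _ (Ideal.map_mono hle h1) (Ideal.mul_mem_right z' _
        (Ideal.mem_map_of_mem (algebraMap A (AdicCompletion (Ideal.span {a}) A)) hxI'))
      rwa [sub_add_cancel] at h2
    · intro hy
      have h3 : I'.map (algebraMap A (AdicCompletion (Ideal.span {a}) A)) ≤
          LinearMap.ker (AdicCompletion.map (Ideal.span {a}) I'.mkQ) := by
        refine Ideal.map_le_iff_le_comap.mpr ?_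
        intro z hz
        refine LinearMap.mem_ker.mpr ?_
        have h4 := AdicCompletion.map_of (Ideal.span {a}) I'.mkQ z
        rw [Submodule.mkQ_apply, (Submodule.Quotient.mk_eq_zero I').mpr hz, map_zero] at h4
        exact h4
      exact h3 hy

theorem main (rs : List A) (hreg : IsWeaklyRegular A rs)
    (hbd : ∀ i ≤ rs.length, ∃ N : ℕ, ∀ x : A ⧸ Ideal.ofList (rs.take i), (∃ m : ℕ, a ^ m • x = 0) → a ^ N • x = 0)
    (i : ℕ) (hi : i ≤ rs.length) :
    (∀ y, AdicCompletion.map (Ideal.span {a}) (Ideal.ofList (rs.take i)).mkQ y = 0 ↔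
      y ∈ (Ideal.ofList (rs.take i)).map (algebraMap A (AdicCompletion (Ideal.span {a}) A))) ∧
    ∀ h : i < rs.length, ∀ y : AdicCompletion (Ideal.span {a}) A,
      algebraMap A (AdicCompletion (Ideal.span {a}) A) rs[i] * y ∈
        (Ideal.ofList (rs.take i)).map (algebraMap A (AdicCompletion (Ideal.span {a}) A)) →
      y ∈ (Ideal.ofList (rs.take i)).map (algebraMap A (AdicCompletion (Ideal.span {a}) A)) := by
  have hstep : ∀ (i : ℕ) (h : i < rs.length),
      (∀ y, AdicCompletion.map (Ideal.span {a}) (Ideal.ofList (rs.take i)).mkQ y = 0 ↔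
      y ∈ (Ideal.ofList (rs.take i)).map (algebraMap A (AdicCompletion (Ideal.span {a}) A))) → _ :=
    fun i h hk => step a (Ideal.ofList (rs.take i)) (Ideal.ofList (rs.take (i + 1))) rs[i]
      (by rw [List.take_succ_eq_append_getElem h, Ideal.ofList_append, Ideal.ofList_singleton])
      (by
        intro z hz
        have h1 := hreg.regular_mod_prev i h
        rw [isSMulRegular_iff_right_eq_zero_of_smul] at h1
        have h2 := h1 (Submodule.Quotient.mk z) (by
          rw [← Submodule.Quotient.mk_smul]
          refine (Submodule.Quotient.mk_eq_zero _).mpr ?_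
          rw [smul_eq_mul, smul_eq_mul, Ideal.mul_top]
          exact hz)
        have h3 := (Submodule.Quotient.mk_eq_zero _).mp h2
        rw [smul_eq_mul, Ideal.mul_top] at h3
        exact h3) (hbd (i + 1) h) hk
  have hK : ∀ i ≤ rs.length, ∀ y, AdicCompletion.map (Ideal.span {a}) (Ideal.ofList (rs.take i)).mkQ y = 0 ↔
      y ∈ (Ideal.ofList (rs.take i)).map (algebraMap A (AdicCompletion (Ideal.span {a}) A)) := by
    intro i
    induction i with
    | zero =>
      intro _ y
      rw [List.take_zero, Ideal.ofList_nil, Ideal.map_bot, Ideal.mem_bot]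
      constructor
      · intro h
        let e := Submodule.quotEquivOfEqBot (⊥ : Ideal A) rfl
        have h1 := AdicCompletion.map_comp_apply (Ideal.span {a}) (⊥ : Ideal A).mkQ e.toLinearMap y
        have h2 : e.toLinearMap ∘ₗ (⊥ : Ideal A).mkQ = LinearMap.id := by
          ext; rfl
        rw [h2, AdicCompletion.map_id] at h1
        have h3 := h1.symm
        rw [h] at h3
        rw [map_zero] at h3
        exact h3
      · rintro rfl
        exact map_zero _
    | succ i ih =>
      intro h
      exact (hstep i h (ih (by omega))).2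
  exact ⟨hK i hi, fun h => (hstep i h (hK i hi)).1⟩

end

open RingTheory.Sequence in
/-- Let A be a commutative ring, a an element of A with a-adic completion A^, and a_1, ..., a_n a weakly
regular sequence on A such that for each i = 0, ..., n the quotient A/(a_1, ..., a_i) has bounded
a-power torsion (some fixed power of a kills every element killed by a power of a). Then the images
of a_1, ..., a_n form a weakly regular sequence on A^, and the canonical map from A^ to the a-adic
completion of A/(a_1, ..., a_n) is surjective with kernel the ideal generated by the images of a_1,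
..., a_n. -/
theorem result (A : Type u) [CommRing A] (a : A) (rs : List A)
    (hreg : IsWeaklyRegular A rs)
    (hbd : ∀ i ≤ rs.length, ∃ N : ℕ, ∀ x : A ⧸ Ideal.ofList (rs.take i), (∃ m : ℕ, a ^ m • x = 0) → a ^ N • x = 0) :
    IsWeaklyRegular (AdicCompletion (Ideal.span {a}) A)
        (rs.map (algebraMap A (AdicCompletion (Ideal.span {a}) A))) ∧
      Function.Surjective (AdicCompletion.map (Ideal.span {a}) (Ideal.ofList rs).mkQ) ∧
      LinearMap.ker (AdicCompletion.map (Ideal.span {a}) (Ideal.ofList rs).mkQ) =
        (Ideal.ofList rs).map (algebraMap A (AdicCompletion (Ideal.span {a}) A)) := by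
  have hm := main a rs hreg hbd
  refine ⟨⟨?_⟩, AdicCompletion.map_surjective (Ideal.span {a}) (Submodule.mkQ_surjective _), ?_⟩
  · intro i hi
    rw [List.length_map] at hi
    rw [isSMulRegular_iff_right_eq_zero_of_smul]
    intro z hz
    obtain ⟨z, rfl⟩ := Submodule.Quotient.mk_surjective _ z
    rw [List.getElem_map, ← Submodule.Quotient.mk_smul] at hz
    have h1 := (Submodule.Quotient.mk_eq_zero _).mp hz
    refine (Submodule.Quotient.mk_eq_zero _).mpr ?_
    rw [smul_eq_mul, Ideal.mul_top, ← List.map_take, ← Ideal.map_ofList] at h1 ⊢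
    exact (hm i hi.le).2 hi z h1
  · ext y
    have h1 := (hm rs.length le_rfl).1 y
    rw [List.take_length] at h1
    exact h1

end Groth.Agent.S14275
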