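import Groth.Statements.S14278
import Groth.Agent.NonAbH1.K976.LftFin
import Groth.Agent.CurvSt.K902.CurveCover
import Groth.Agent.AlgSp.K639.Dim
import Groth.Agent.Ega3B.ProjProper

set_option autoImplicit false
universe u
open CategoryTheory CategoryTheory.Limits MonoidalCategory CartesianMonoidalCategory MonObj GrpObj AlgebraicGeometry
open NonAbH1

namespace Groth.Agent.S14278

/-- Let S = Spec A with A a Noetherian local ring, T ⊂ S the closed subscheme defined by an ideal J with
J² = 0, π : X → S a curve over S (a smooth projective morphism, X being a closed subscheme of a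
projective space over S, whose geometric fibres are connected and one-dimensional) and G a group
scheme which is smooth and affine over X. Write X_T = X ×_S T, i : X_T → X and G_T = G ×_X X_T. Then
every G_T-torsor over X_T which is locally trivial for the Zariski topology lifts to X: there are a
G-torsor E over X, locally trivial for the Zariski topology, and a morphism j from the given torsor
to E lying over i which is equivariant for the projection G_T → G and whose underlying square of
schemes is cartesian (so that the given torsor is the base change of E along i). (The published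
statement is for all torsors in the sense of the flat topology and for G smooth; the published proof
works with sheaves on the Zariski site and establishes the Zariski-locally trivial case stated here,
and G is taken affine so that torsors are schemes.) -/
theorem result
    (A : Type u) [CommRing A] [IsNoetherianRing A] [IsLocalRing A] (J : Ideal A) (hJ : J * J = ⊥)
    (X : Scheme.{u}) (π : X ⟶ Spec (CommRingCat.of A)) [Smooth π]
    (n : ℕ) (imm : X ⟶ CohB1.ProjSpaceOver n (Spec (CommRingCat.of A))) [IsClosedImmersion imm]
    (himm : imm ≫ CohB1.ProjSpaceOver.toBase n (Spec (CommRingCat.of A)) = π)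
    (hfib : ∀ (Ω : Type u) [Field Ω] [IsAlgClosed Ω] (s : Spec (CommRingCat.of Ω) ⟶ Spec (CommRingCat.of A)),
      ConnectedSpace ↑(pullback π s) ∧ topologicalKrullDim ↑(pullback π s) = 1)
    (G : Over X) [GrpObj G] [Smooth G.hom] [IsAffineHom G.hom]
    (XT : Scheme.{u}) (i : XT ⟶ X) (πT : XT ⟶ Spec (CommRingCat.of (A ⧸ J)))
    (hT : IsPullback i πT π (Spec.map (CommRingCat.ofHom (Ideal.Quotient.mk J))))
    (ET : Over XT) (aT : AlgGrp.Action (Red.bc i G) ET)
    (hET : NonAbH1.IsTorsorFor Scheme.zariskiPrecoverage aT) :
    ∃ (E : Over X) (a : AlgGrp.Action G E) (j : (Over.map i).obj ET ⟶ E),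
      NonAbH1.IsTorsorFor Scheme.zariskiPrecoverage a ∧
      IsPullback j.left ET.hom E.hom i ∧
      (Over.map i).map aT.act ≫ j =
        CartesianMonoidalCategory.lift
          ((Over.map i).map (CartesianMonoidalCategory.fst _ _) ≫ (Over.mapPullbackAdj i).counit.app G)
          ((Over.map i).map (CartesianMonoidalCategory.snd _ _) ≫ j) ≫ a.act := by
  have himm' : IsProper π := by
    rw [← himm]
    have := Groth.Agent.Ega3B.ProjProper.isProper_toBase n (Spec (CommRingCat.of A))
    infer_instance
  -- the thickening
  have hJn : J ≤ nilradical A := by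
    intro x hx
    refine ⟨2, ?_⟩
    have h1 : x * x ∈ J * J := Ideal.mul_mem_mul hx hx
    rw [hJ] at h1
    rw [pow_two]
    exact h1
  have hci : IsClosedImmersion i := MorphismProperty.of_isPullback hT.flip
    (IsClosedImmersion.spec_of_surjective _ Ideal.Quotient.mk_surjective)
  have hsu : Surjective i := by
    refine MorphismProperty.of_isPullback (P := @Surjective) hT.flip ⟨fun x => ?_⟩
    have h1 := _root_.range_comap_of_surjective (A ⧸ J) (Ideal.Quotient.mk J) Ideal.Quotient.mk_surjective
    have h2 : ∀ x : PrimeSpectrum A, x ∈ Set.range (PrimeSpectrum.comap (Ideal.Quotient.mk J)) := by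
      intro x
      rw [h1, Ideal.mk_ker, PrimeSpectrum.mem_zeroLocus]
      exact hJn.trans (nilradical_le_prime _)
    exact h2 x
  -- cover
  have hdim : topologicalKrullDim (π.fiber (IsLocalRing.closedPoint A)) ≤ 1 := by
    let κ := IsLocalRing.ResidueField A
    let Ω := AlgebraicClosure κ
    let t : Spec (CommRingCat.of Ω) ⟶ Spec (CommRingCat.of A) :=
      Spec.map (CommRingCat.ofHom ((algebraMap κ Ω).comp (IsLocalRing.residue A)))
    have h1 := K639.Dim.dim_pullback_field π t
    have h2 : t (IsLocalRing.closedPoint Ω) = IsLocalRing.closedPoint A := by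
      apply PrimeSpectrum.ext
      change Ideal.comap ((algebraMap κ Ω).comp (IsLocalRing.residue A)) (IsLocalRing.maximalIdeal Ω) =
        IsLocalRing.maximalIdeal A
      rw [IsLocalRing.maximalIdeal_eq_bot, ← RingHom.ker_eq_comap_bot]
      rw [RingHom.ker_comp_of_injective _ (algebraMap κ Ω).injective, IsLocalRing.ker_residue]
    rw [h2] at h1
    rw [← h1, (hfib Ω t).2]
  have hsm : π.smoothLocus = ⊤ := π.smoothLocus_eq_top
  obtain ⟨U₁, U₂, hU₁, hU₂, hU, hU₁₂, -⟩ := K902.CurveCover.exists_cover (A := CommRingCat.of A) π
    ⟨n, imm, inferInstance, himm⟩ hdim (by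
      rw [hsm]
      convert Set.finite_empty using 1
      ext x
      simp)
  have hb : K976.Lft.Tr (K552.Push.push aT) := K976.LftFin.tr_push i hET.1
  have hbot : K976.Lft.HasLft (K552.Push.push aT) (Over.mk i) ⊥ := K976.LftFin.hasLft_bot _
  have hloc := K976.LftFin.hasLft_local i aT hET.2
  have h1 := K976.LftAff.of_isAffineOpen J hJ π i πT hT hb hbot hloc hU₁
  have h2 := K976.LftAff.of_isAffineOpen J hJ π i πT hT hb hbot hloc hU₂
  have h3 := K976.LftAff.sup J hJ π i πT hT hb h1 h2 hU₁₂
  rw [hU] at h3
  exact K976.LftFin.exists_torsor i hET.1 h3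

end Groth.Agent.S14278
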