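import Groth.Statements.S14279
import Groth.Agent.FGA.K37.WeilProj

set_option autoImplicit false
universe u
open CategoryTheory CategoryTheory.Limits AlgebraicGeometry
open FGA

namespace Groth.Agent.S14279

/-- Let k be a field, X a projective k-scheme (a closed subscheme of P^n_k), S a k-scheme and Y → X_S =
X ×_k S an affine morphism of finite presentation. Then the direct image of Y along X_S → S, i.e.
the functor sending an S-scheme T to the set of X_S-morphisms from X_T = X_S ×_S T to Y, is an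
affine S-scheme of finite presentation: there are an S-scheme R, affine and of finite presentation
over S, and an X_S-morphism g_R : X_R → Y such that for every S-scheme T and every X_S-morphism g :
X_T → Y there is exactly one S-morphism τ : T → R for which g is the composite of the induced
morphism X_T → X_R with g_R. -/
theorem result
    (k : Type u) [Field k] (n : ℕ) (X : Scheme.{u}) (imm : X ⟶ CohB1.ProjSpace n k) [IsClosedImmersion imm]
    (S : Scheme.{u}) (σ : S ⟶ Spec (CommRingCat.of k))
    (Y : Scheme.{u}) (y : Y ⟶ pullback (imm ≫ CohB1.ProjSpace.toSpec n k) σ)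
    [IsAffineHom y] [LocallyOfFinitePresentation y] :
    ∃ (R : Scheme.{u}) (r : R ⟶ S)
      (gR : pullback (pullback.snd (imm ≫ CohB1.ProjSpace.toSpec n k) σ) r ⟶ Y),
      IsAffineHom r ∧ LocallyOfFinitePresentation r ∧
      gR ≫ y = pullback.fst (pullback.snd (imm ≫ CohB1.ProjSpace.toSpec n k) σ) r ∧
      ∀ (T : Scheme.{u}) (t : T ⟶ S)
        (g : pullback (pullback.snd (imm ≫ CohB1.ProjSpace.toSpec n k) σ) t ⟶ Y),
        g ≫ y = pullback.fst (pullback.snd (imm ≫ CohB1.ProjSpace.toSpec n k) σ) t →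
        ∃! τ : T ⟶ R, τ ≫ r = t ∧
          ∃ m : pullback (pullback.snd (imm ≫ CohB1.ProjSpace.toSpec n k) σ) t ⟶
              pullback (pullback.snd (imm ≫ CohB1.ProjSpace.toSpec n k) σ) r,
            m ≫ pullback.fst (pullback.snd (imm ≫ CohB1.ProjSpace.toSpec n k) σ) r =
                pullback.fst (pullback.snd (imm ≫ CohB1.ProjSpace.toSpec n k) σ) t ∧
              m ≫ pullback.snd (pullback.snd (imm ≫ CohB1.ProjSpace.toSpec n k) σ) r =
                pullback.snd (pullback.snd (imm ≫ CohB1.ProjSpace.toSpec n k) σ) t ≫ τ ∧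
              m ≫ gR = g := by
  obtain ⟨R, q, h1, h2, h3⟩ := K37.WeilProj.exists_weilRes imm
    (IsPullback.of_hasPullback (imm ≫ CohB1.ProjSpace.toSpec n k) σ) y
  refine ⟨R.left, R.hom, K37.WeilConv.toG _ y q, h1, h2, K37.WeilConv.toG_comp _ y q, fun T t g hg => ?_⟩
  obtain ⟨τ, ⟨e, he⟩, hu⟩ := K37.WeilProj.exists_of_isWeilRes h3 t g hg
  refine ⟨τ, ⟨e, _, K37.AffWeil.bc_fst _ τ e, K37.AffWeil.bc_snd _ τ e, he⟩, ?_⟩
  rintro τ' ⟨e', m, hm1, hm2, hm3⟩
  refine hu τ' ⟨e', ?_⟩
  rw [← hm3]
  congr 1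
  apply pullback.hom_ext
  · rw [hm1]
    exact K37.AffWeil.bc_fst _ τ' e'
  · rw [hm2]
    exact K37.AffWeil.bc_snd _ τ' e'

end Groth.Agent.S14279
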