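import Groth.Statements.S14281
import Groth.Agent.FinFr.K721.TopScal
import Groth.Agent.FinFr.K721.Comp2
import Groth.Agent.Sga4h.H931.ConstOn
import Groth.Agent.Sga4h.H915.ShriekPull
import Groth.Agent.Sga4h.H157.ConstExt
import Groth.Agent.Sga4h.H912.CoeffFrob
import Groth.Agent.Picfga.CurveRelDim
import Groth.Agent.S4244

set_option autoImplicit false
universe u
open CategoryTheory CategoryTheory.Limits AlgebraicGeometry Opposite
open FinFr

namespace Groth.Agent.S14281

theorem isConstructible_constLam (ℓ : ℕ) [Fact ℓ.Prime] (X : Scheme.{u}) :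
    EtLam.IsConstructible (constLam (ZMod ℓ) X) := by
  refine Groth.Agent.Sga4h.H931.ConstOn.isConstructible_of_isConstOn (𝟙 X) _ ⟨EtCore.pullConst (𝟙 X) (ZMod ℓ), ?_⟩
  exact Groth.Agent.Sga4h.H915.ShriekPull.equi_pullConst (𝟙 X)

section Main

variable (k K : Type u) [Field k] [Fintype k] [Field K] [Algebra k K] [IsAlgClosed K] [Algebra.IsAlgebraic k K]
  [Fact FinFr.PullExact.{u}]

theorem trFor {X₀ P₀ : Scheme.{u}} (a : X₀ ⟶ Spec (CommRingCat.of k)) [IsSeparated a] [LocallyOfFiniteType a]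
    [QuasiCompact a] (j : X₀ ⟶ P₀) [IsOpenImmersion j] (b : P₀ ⟶ Spec (CommRingCat.of k)) [IsProper b]
    (hj : j ≫ b = a) (ℓ : ℕ) [Fact ℓ.Prime] (hℓ : (ℓ : k) ≠ 0) : K721.DualSum.TrFor k K a j b ℓ :=
  Groth.Agent.S4244.result k K (ZMod ℓ) (by rw [ZMod.ringChar_zmod_n]; exact hℓ) a j b hj (constLam (ZMod ℓ) X₀)
    (isConstructible_constLam ℓ X₀)

/-- The formula for `ℤ/ℓ`. -/
theorem formula (ℓ : ℕ) [Fact ℓ.Prime] (hℓ : (ℓ : k) ≠ 0)
    {X₀ : Scheme.{u}} (a : X₀ ⟶ Spec (CommRingCat.of k)) [Smooth a] [IsSeparated a]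
    [LocallyOfFiniteType a] [QuasiCompact a] [IrreducibleSpace ↑X₀]
    (d : ℕ) (hd : topologicalKrullDim ↑X₀ = d) :
    (Fintype.card k : ZMod ℓ) ^ d *
        ∑ᶠ i : ℕ, (-1 : ZMod ℓ) ^ i *
          LinearMap.trace (ZMod ℓ) _ (FinFr.galLin (K := K) a (FinFr.arith k K) (FinFr.constLam (ZMod ℓ) X₀) i) =
      (Nat.card (FinFr.RatPt a) : ZMod ℓ) := by
  have hN : IsLocallyNoetherian X₀ := LocallyOfFiniteType.isLocallyNoetherian a
  have hInt : IsIntegral X₀ := (Groth.Agent.Ega1.GenPts.isIntegral_iff X₀).2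
    ⟨inferInstance, fun x => (Groth.Agent.Dix.NormalLoc.stalk_of_smooth a x).1⟩
  have hsm : SmoothOfRelativeDimension d a :=
    Groth.Agent.Picfga.CurveRelDim.smoothOfRelativeDimension_of_topologicalKrullDim_eq k X₀ a d hd
  by_cases hX : ConnectedSpace (FinFr.ext K a)
  · obtain ⟨P, j, b, hj, -, hb, w⟩ := Groth.Agent.S0384.result a
    have hT := trFor k K a j b w ℓ hℓ
    obtain ⟨c, hc⟩ := K721.DualTr2.exists_top (K := K) a b j w d ℓ (K721.DualSum.cast_ne ℓ hℓ) (arith k K)
    have h1 := K721.DualSum.sum_eq (K := K) a b j w d ℓ hℓ hT c hc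
    have h2 : K721.TopScal.TrAff k K d ℓ := fun P' b' _ j' _ hj' => by
      have hA : SmoothOfRelativeDimension d (Groth.Agent.Sga2lef.H101.AffOrigin.f k d) :=
        Groth.Agent.Sga2lef.H101.AffOrigin.smooth_mvPolynomial k d
      have hA' : Smooth (Groth.Agent.Sga2lef.H101.AffOrigin.f k d) := SmoothOfRelativeDimension.smooth d _
      exact trFor k K _ j' b' hj' ℓ hℓ
    have h3 := K721.TopScal.top_eq (K := K) a b j w d ℓ hℓ h2 c hc
    rw [h1, ← mul_assoc, mul_comm (_ ^ d) c, h3, one_mul]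
  · have h0 : IsEmpty (RatPt a) := by
      have hG := K721.Comp.isGalois k K
      exact ⟨fun x => hX (K721.Comp.connectedSpace_of_rat (K := K) a x)⟩
    rw [Nat.card_of_isEmpty, Nat.cast_zero]
    have h1 : ∀ i : ℕ, (-1 : ZMod ℓ) ^ i *
          LinearMap.trace (ZMod ℓ) _ (FinFr.galLin (K := K) a (FinFr.arith k K) (FinFr.constLam (ZMod ℓ) X₀) i) = 0 :=
      fun i => (congrArg (fun t => (-1 : ZMod ℓ) ^ i * t) (K721.Comp2.trace_eq_zero (K := K) a ℓ hX i)).trans
        (mul_zero _)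
    rw [finsum_congr h1, finsum_zero, mul_zero]

end Main

/-- Let k be a finite field with q elements, K an algebraic closure of k, and X₀ a smooth separated
irreducible k-scheme of finite type, of dimension d. With coefficients in a finite field Λ whose
characteristic is invertible in k (in place of Q_ℓ), q^d · Σ_i (−1)^i Tr(Φ_q | H^i((X₀ ⊗_k K)_ét,
Λ)) equals the number of k-rational points of X₀, read in Λ; here Φ_q is the arithmetic Frobenius,
the transport of structure on cohomology by the automorphism x ↦ x^q of K over k, and the sum over i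
has finite support. (The published statement is for a smooth variety, a term the text leaves
undefined; this row takes X₀ separated and irreducible.) -/
theorem result
    (k K : Type u) [Field k] [Fintype k] [Field K] [Algebra k K] [IsAlgClosed K] [Algebra.IsAlgebraic k K]
    (Λ : Type) [Field Λ] [Finite Λ] (hΛ : (ringChar Λ : k) ≠ 0) [Fact FinFr.PullExact.{u}]
    {X₀ : Scheme.{u}} (a : X₀ ⟶ Spec (CommRingCat.of k)) [Smooth a] [IsSeparated a]
    [LocallyOfFiniteType a] [QuasiCompact a] [IrreducibleSpace ↑X₀]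
    (d : ℕ) (hd : topologicalKrullDim ↑X₀ = d) :
    (Fintype.card k : Λ) ^ d *
        ∑ᶠ i : ℕ, (-1 : Λ) ^ i *
          LinearMap.trace Λ _ (FinFr.galLin (K := K) a (FinFr.arith k K) (FinFr.constLam Λ X₀) i) =
      (Nat.card (FinFr.RatPt a) : Λ) := by
  have hprime : Fact (ringChar Λ).Prime := ⟨CharP.char_is_prime Λ (ringChar Λ)⟩
  have h1 := formula k K (ringChar Λ) hΛ a d hd
  let _ : Algebra (ZMod (ringChar Λ)) Λ := ZMod.algebra Λ (ringChar Λ)
  have hfin : Module.Finite (ZMod (ringChar Λ)) Λ := Module.Finite.of_finite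
  have hext := Groth.Agent.Sga4h.H157.ConstExt.isExtSh_const (ZMod (ringChar Λ)) Λ X₀
  have h2 : ∀ i, LinearMap.trace Λ _ (FinFr.galLin (K := K) a (FinFr.arith k K) (FinFr.constLam Λ X₀) i) =
      algebraMap (ZMod (ringChar Λ)) Λ (LinearMap.trace (ZMod (ringChar Λ)) _
        (FinFr.galLin (K := K) a (FinFr.arith k K) (FinFr.constLam (ZMod (ringChar Λ)) X₀) i)) := fun i =>
    Groth.Agent.Sga4h.H912.CoeffFrob.trace_galLin a hext (FinFr.arith k K) i
  have h3 := AddMonoidHom.map_finsum_of_injective (algebraMap (ZMod (ringChar Λ)) Λ : ZMod (ringChar Λ) →+ Λ)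
    (FaithfulSMul.algebraMap_injective (ZMod (ringChar Λ)) Λ)
    (fun i : ℕ => (-1 : ZMod (ringChar Λ)) ^ i * LinearMap.trace (ZMod (ringChar Λ)) _
      (FinFr.galLin (K := K) a (FinFr.arith k K) (FinFr.constLam (ZMod (ringChar Λ)) X₀) i))
  have h4 : ∑ᶠ i : ℕ, (-1 : Λ) ^ i *
          LinearMap.trace Λ _ (FinFr.galLin (K := K) a (FinFr.arith k K) (FinFr.constLam Λ X₀) i) =
      algebraMap (ZMod (ringChar Λ)) Λ (∑ᶠ i : ℕ, (-1 : ZMod (ringChar Λ)) ^ i *
        LinearMap.trace (ZMod (ringChar Λ)) _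
          (FinFr.galLin (K := K) a (FinFr.arith k K) (FinFr.constLam (ZMod (ringChar Λ)) X₀) i)) := by
    refine Eq.trans ?_ h3.symm
    refine finsum_congr fun i => ?_
    rw [h2 i]
    change _ = algebraMap (ZMod (ringChar Λ)) Λ _
    rw [map_mul, map_pow, map_neg, map_one]
  have h5 := congrArg (algebraMap (ZMod (ringChar Λ)) Λ) h1
  rw [map_mul, map_pow, map_natCast, map_natCast, ← h4] at h5
  exact h5

end Groth.Agent.S14281
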