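import Groth.Statements.S14282
import Groth.Agent.FGA.K37.WeilProj
import Groth.Agent.FGA.K37.IsomW

set_option autoImplicit false
universe u
open CategoryTheory CategoryTheory.Limits MonoidalCategory CartesianMonoidalCategory MonObj GrpObj AlgebraicGeometry
open FGA

namespace Groth.Agent.S14282

/-- Let k be a field, X a projective k-scheme (a closed subscheme of P^n_k), G a group scheme which is
affine and of finite type over X, S a k-scheme, and E, F two torsors for the fppf topology under G_S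
= G ×_X X_S over X_S = X ×_k S (X_S-schemes with G_S-actions that are pseudo-torsors acquiring
sections on some fppf covering family). Then the direct image along X_S → S of the sheaf of
G-isomorphisms from E to F is an affine S-scheme of finite presentation. Concretely, writing X_T for
X_S ×_S T viewed over X_S and E_T = E ×_{X_S} X_T with the induced G_S-action: there are an S-scheme
R, affine and of finite presentation over S, and a G_S-equivariant isomorphism ψ_R : E_R ≅ F_R over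
X_R, such that for every S-scheme T every G_S-equivariant isomorphism ψ : E_T ≅ F_T over X_T is
obtained from ψ_R by base change along the morphism X_T → X_R induced by a unique S-morphism τ : T →
R. In the formulas the products are fibre products over X_S, the unnamed factor acted on is G_S, and
equivariance is written through the associativity isomorphism. -/
theorem result
    (k : Type u) [Field k] (n : ℕ) (X : Scheme.{u}) (imm : X ⟶ CohB1.ProjSpace n k) [IsClosedImmersion imm]
    (G : Over X) [GrpObj G] [IsAffineHom G.hom] [LocallyOfFiniteType G.hom]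
    (S : Scheme.{u}) (σ : S ⟶ Spec (CommRingCat.of k))
    (E F : Over (pullback (imm ≫ CohB1.ProjSpace.toSpec n k) σ))
    (aE : AlgGrp.Action (Red.bc (pullback.fst (imm ≫ CohB1.ProjSpace.toSpec n k) σ) G) E)
    (aF : AlgGrp.Action (Red.bc (pullback.fst (imm ≫ CohB1.ProjSpace.toSpec n k) σ) G) F)
    (hE : NonAbH1.IsTorsorFor Scheme.fppfPrecoverage aE)
    (hF : NonAbH1.IsTorsorFor Scheme.fppfPrecoverage aF) :
    ∃ (R : Scheme.{u}) (r : R ⟶ S)
      (ψR : E ⊗ Over.mk (pullback.fst (pullback.snd (imm ≫ CohB1.ProjSpace.toSpec n k) σ) r) ⟶ F ⊗ Over.mk (pullback.fst (pullback.snd (imm ≫ CohB1.ProjSpace.toSpec n k) σ) r)),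
      IsAffineHom r ∧ LocallyOfFinitePresentation r ∧
      ψR ≫ snd _ _ = snd _ _ ∧ IsIso ψR ∧
      (α_ _ _ _).inv ≫ (aE.act ▷ _) ≫ ψR = (_ ◁ ψR) ≫ (α_ _ _ _).inv ≫ (aF.act ▷ _) ∧
      ∀ (T : Scheme.{u}) (t : T ⟶ S)
        (ψ : E ⊗ Over.mk (pullback.fst (pullback.snd (imm ≫ CohB1.ProjSpace.toSpec n k) σ) t) ⟶ F ⊗ Over.mk (pullback.fst (pullback.snd (imm ≫ CohB1.ProjSpace.toSpec n k) σ) t)),
        ψ ≫ snd _ _ = snd _ _ → IsIso ψ →
        (α_ _ _ _).inv ≫ (aE.act ▷ _) ≫ ψ = (_ ◁ ψ) ≫ (α_ _ _ _).inv ≫ (aF.act ▷ _) →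
        ∃! τ : T ⟶ R, τ ≫ r = t ∧
          ∃ m : Over.mk (pullback.fst (pullback.snd (imm ≫ CohB1.ProjSpace.toSpec n k) σ) t) ⟶ Over.mk (pullback.fst (pullback.snd (imm ≫ CohB1.ProjSpace.toSpec n k) σ) r),
            m.left ≫ pullback.snd (pullback.snd (imm ≫ CohB1.ProjSpace.toSpec n k) σ) r = pullback.snd (pullback.snd (imm ≫ CohB1.ProjSpace.toSpec n k) σ) t ≫ τ ∧
            ψ = lift ((E ◁ m) ≫ ψR ≫ fst _ _) (snd _ _) := by
  let a := pullback.fst (imm ≫ CohB1.ProjSpace.toSpec n k) σ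
  let f := pullback.snd (imm ≫ CohB1.ProjSpace.toSpec n k) σ
  have hp : IsProper (CohB1.ProjSpace.toSpec n k) := Groth.Agent.Ega3B.ProjProper.isProper_toSpec n k
  have hX : IsLocallyNoetherian X := LocallyOfFiniteType.isLocallyNoetherian (imm ≫ CohB1.ProjSpace.toSpec n k)
  have hG : LocallyOfFinitePresentation G.hom := inferInstance
  have hG1 : IsAffineHom (Red.bc a G).hom := MorphismProperty.pullback_snd (P := @IsAffineHom) _ _ inferInstance
  have hG2 : LocallyOfFinitePresentation (Red.bc a G).hom :=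
    MorphismProperty.pullback_snd (P := @LocallyOfFinitePresentation) _ _ inferInstance
  have hE' : NonAbH1.IsTorsorFor Scheme.fpqcPrecoverage aE := K37.IsomW.fpqc_of_fppf hE
  have hF' : NonAbH1.IsTorsorFor Scheme.fpqcPrecoverage aF := K37.IsomW.fpqc_of_fppf hF
  obtain ⟨I, hI1, hI2, ⟨ρ⟩⟩ := K37.IsomF.exists_rep hE' hF'
  obtain ⟨R, q, h1, h2, h3⟩ := K37.WeilProj.exists_weilRes imm
    (IsPullback.of_hasPullback (imm ≫ CohB1.ProjSpace.toSpec n k) σ) I.hom
  let ξ := ρ.homEquiv (𝟙 I)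
  have hξ : ∀ {W : Over (pullback (imm ≫ CohB1.ProjSpace.toSpec n k) σ)} (x : W ⟶ I),
      (ρ.homEquiv x).1 = E ◁ x ≫ ξ.1 := by
    intro W x
    rw [ρ.homEquiv_eq]
    rfl
  let W {T : Scheme.{u}} (t : T ⟶ S) : Over (pullback (imm ≫ CohB1.ProjSpace.toSpec n k) σ) :=
    Over.mk (pullback.fst f t)
  let qR : W R.hom ⟶ I := Over.homMk (K37.WeilConv.toG f I.hom q) (K37.WeilConv.toG_comp f I.hom q)
  let sR : E ⊗ W R.hom ⟶ F := E ◁ qR ≫ ξ.1
  have hsR : K37.IsomF.Eqv aE aF sR := ξ.2.comp qR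
  refine ⟨R.left, R.hom, lift sR (snd _ _), h1, h2, lift_snd _ _, K37.IsomW.isIso_of_eqv hE' hF'.1 hsR, ?_, ?_⟩
  · rw [K37.IsomW.assoc_iff _ (lift_snd _ _), lift_fst]
    exact hsR
  · intro T t ψ hψ _ hψe
    rw [K37.IsomW.assoc_iff _ hψ] at hψe
    let x : W t ⟶ I := ρ.homEquiv.symm ⟨ψ ≫ fst _ _, hψe⟩
    have hx : E ◁ x ≫ ξ.1 = ψ ≫ fst _ _ := by
      rw [← hξ]
      exact congrArg Subtype.val (ρ.homEquiv.apply_symm_apply _)
    obtain ⟨τ, ⟨e, he⟩, hu⟩ := K37.WeilProj.exists_of_isWeilRes h3 t x.left (Over.w x)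
    have hm : ∀ (m : W t ⟶ W R.hom), ψ = lift ((E ◁ m) ≫ lift sR (snd _ _) ≫ fst _ _) (snd _ _) ↔
        m ≫ qR = x := by
      intro m
      rw [lift_fst]
      constructor
      · intro h
        apply ρ.homEquiv.injective
        apply Subtype.ext
        refine (hξ (m ≫ qR)).trans (Eq.trans ?_ (hξ x).symm)
        rw [hx, whiskerLeft_comp, Category.assoc, h, lift_fst]
      · intro h
        apply CartesianMonoidalCategory.hom_ext
        · rw [lift_fst, ← hx, ← h, whiskerLeft_comp, Category.assoc]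
        · rw [lift_snd, hψ]
    refine ⟨τ, ⟨e, Over.homMk (K37.AffWeil.bc f τ e) (K37.AffWeil.bc_fst f τ e), K37.AffWeil.bc_snd f τ e, ?_⟩, ?_⟩
    · rw [hm]
      apply Over.OverMorphism.ext
      exact he
    · rintro τ' ⟨e', m, hm1, hm2⟩
      refine hu τ' ⟨e', ?_⟩
      rw [hm] at hm2
      rw [← hm2]
      change _ = m.left ≫ K37.WeilConv.toG f I.hom q
      congr 1
      apply pullback.hom_ext
      · exact (K37.AffWeil.bc_fst f τ' e').trans (Over.w m).symm
      · exact (K37.AffWeil.bc_snd f τ' e').trans hm1.symm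

end Groth.Agent.S14282
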