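import Groth.Statements.S14285
import Groth.Agent.PerfA.FlatH0Noeth
import Groth.Agent.PerfA.StalkPush

set_option autoImplicit false
universe u
open CategoryTheory AlgebraicGeometry
open EllLift

namespace Groth.Agent.S14285

open Groth.Agent.PerfA.StalkPush Groth.Agent.PerfA.FlatH0Noeth Groth.Agent.PerfA.CechH0

/-- Let R be a complete Noetherian local ring with maximal ideal m and residue field k = R/m, g : X →
Spec R a proper and flat morphism, and i : X₀ → X the fibre of g over the closed point, i.e. a
pullback of g along Spec k → Spec R, with structure map f₀ : X₀ → Spec k. If the induced ring map k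
→ Γ(X₀, O_{X₀}) is bijective, then so is R → Γ(X, O_X). -/
theorem result (R : Type u) [CommRing R]
    [IsLocalRing R] [IsNoetherianRing R] [IsAdicComplete (IsLocalRing.maximalIdeal R) R]
    (X X₀ : Scheme.{u}) (g : X ⟶ Spec (CommRingCat.of R)) [IsProper g] [Flat g]
    (i : X₀ ⟶ X) (f₀ : X₀ ⟶ Spec (CommRingCat.of (R ⧸ IsLocalRing.maximalIdeal R)))
    (hsq : IsPullback i f₀ g
      (Spec.map (CommRingCat.ofHom (Ideal.Quotient.mk (IsLocalRing.maximalIdeal R)))))
    (h0 : Function.Bijective ((Scheme.ΓSpecIso (CommRingCat.of (R ⧸ IsLocalRing.maximalIdeal R))).inv ≫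
      f₀.appTop)) :
    Function.Bijective ((Scheme.ΓSpecIso (CommRingCat.of R)).inv ≫ g.appTop) := by
  have key : ∀ {A : Type u} [CommRing A] {X : Scheme.{u}} (f : X ⟶ Spec (CommRingCat.of A)),
      Function.Bijective (str f ⊤) ↔ Function.Bijective ((Scheme.ΓSpecIso (CommRingCat.of A)).inv ≫ f.appTop) := by
    intro A _ X f
    rw [bijective_str_top_iff]
    constructor
    · intro h
      exact ConcreteCategory.bijective_of_isIso ((Scheme.ΓSpecIso (CommRingCat.of A)).inv ≫ f.appTop)
    · intro h
      have h1 : IsIso ((Scheme.ΓSpecIso (CommRingCat.of A)).inv ≫ f.appTop) :=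
        (ConcreteCategory.isIso_iff_bijective _).mpr h
      exact (isIso_comp_left_iff _ _).mp h1
  exact (key g).mp (bijective_str_of_isNoetherianRing (A := R) g i f₀ hsq ((key f₀).mpr h0))

end Groth.Agent.S14285
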