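import Groth.Statements.S14286
import Groth.Agent.EllLift.K820.IntVC
import Groth.Agent.S0427
import Mathlib.AlgebraicGeometry.EllipticCurve.IsomOfJ
import Mathlib.RingTheory.Henselian
import Mathlib.RingTheory.AdicCompletion.Basic
import Mathlib.RingTheory.Localization.FractionRing
import Mathlib.FieldTheory.IsAlgClosed.AlgebraicClosure

set_option autoImplicit false
universe u
open EllLift

namespace Groth.Agent.S14286

open WeierstrassCurve K820.Rigid K820.IntVC

/-- Version over a subalgebra: if a finite local extension `A` of a henselian local ring `R` with algebraically closed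
residue field is generated by the coefficients of a change of variables, it is a quotient of `R`. -/
theorem surjective_of_generated (R A : Type u) [CommRing R] [IsLocalRing R] [IsAlgClosed (IsLocalRing.ResidueField R)]
    [CommRing A] [IsLocalRing A] [Algebra R A] [Module.Finite R A] [IsLocalHom (algebraMap R A)]
    (W₁ W₂ : WeierstrassCurve R) (h1 : IsUnit W₁.Δ) (C : VariableChange A)
    (hC : C • W₁.map (algebraMap R A) = W₂.map (algebraMap R A))
    (hgen : Algebra.adjoin R {(C.u : A), C.r, C.s, C.t} = ⊤) :
    Function.Surjective (algebraMap R A) := by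
  have hint : Algebra.IsIntegral (IsLocalRing.ResidueField R) (IsLocalRing.ResidueField A) := by
    have : Module.Finite (IsLocalRing.ResidueField R) (IsLocalRing.ResidueField A) := inferInstance
    infer_instance
  have hbij : Function.Bijective (algebraMap (IsLocalRing.ResidueField R) (IsLocalRing.ResidueField A)) :=
    IsAlgClosed.algebraMap_bijective_of_isIntegral
  -- lifting residues
  have hlift : ∀ x : A, ∃ y : R, x - algebraMap R A y ∈ IsLocalRing.maximalIdeal A := by
    intro x
    obtain ⟨z, hz⟩ := hbij.2 (IsLocalRing.residue A x)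
    obtain ⟨y, rfl⟩ := IsLocalRing.residue_surjective z
    refine ⟨y, ?_⟩
    rw [← IsLocalRing.residue_eq_zero_iff, map_sub, ← hz, sub_eq_zero]
    exact IsLocalRing.ResidueField.algebraMap_residue y
  have hker : ∀ y : R, algebraMap R A y ∈ IsLocalRing.maximalIdeal A → y ∈ IsLocalRing.maximalIdeal R := by
    intro y hy hu
    exact hy (hu.map _)
  obtain ⟨u₀, hu₀⟩ := hlift C.u
  obtain ⟨r₀, hr₀⟩ := hlift C.r
  obtain ⟨s₀, hs₀⟩ := hlift C.s
  obtain ⟨t₀, ht₀⟩ := hlift C.t
  have hunit : IsUnit u₀ := by
    by_contra hcon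
    have h2 : u₀ ∈ IsLocalRing.maximalIdeal R := hcon
    have h3 : algebraMap R A u₀ ∈ IsLocalRing.maximalIdeal A := fun h => hcon (isUnit_of_map_unit (algebraMap R A) _ h)
    have h4 : (C.u : A) ∈ IsLocalRing.maximalIdeal A := by
      have := Ideal.add_mem _ hu₀ h3
      rwa [sub_add_cancel] at this
    exact h4 C.u.isUnit
  let C₀ : VariableChange R := ⟨hunit.unit, r₀, s₀, t₀⟩
  -- `C₀ • W₁ ≡ W₂` modulo the maximal ideal
  have hk : (C₀.map (IsLocalRing.residue R)) • (W₁.map (IsLocalRing.residue R)) = W₂.map (IsLocalRing.residue R) := by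
    apply WeierstrassCurve.map_injective hbij.1
    beta_reduce
    rw [← map_variableChange]
    have e1 : (W₁.map (IsLocalRing.residue R)).map (algebraMap (IsLocalRing.ResidueField R) (IsLocalRing.ResidueField A))
        = (W₁.map (algebraMap R A)).map (IsLocalRing.residue A) := by
      rw [map_map, map_map]
      rfl
    have e2 : (W₂.map (IsLocalRing.residue R)).map (algebraMap (IsLocalRing.ResidueField R) (IsLocalRing.ResidueField A))
        = (W₂.map (algebraMap R A)).map (IsLocalRing.residue A) := by
      rw [map_map, map_map]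
      rfl
    have hr : ∀ (x : A) (y : R), x - algebraMap R A y ∈ IsLocalRing.maximalIdeal A →
        algebraMap (IsLocalRing.ResidueField R) (IsLocalRing.ResidueField A) (IsLocalRing.residue R y)
          = IsLocalRing.residue A x := by
      intro x y hxy
      rw [← IsLocalRing.residue_eq_zero_iff, map_sub, sub_eq_zero] at hxy
      rw [hxy]
      exact IsLocalRing.ResidueField.algebraMap_residue y
    have e3 : (C₀.map (IsLocalRing.residue R)).map
        (algebraMap (IsLocalRing.ResidueField R) (IsLocalRing.ResidueField A)) = C.map (IsLocalRing.residue A) := by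
      refine VariableChange.ext (Units.ext ?_) ?_ ?_ ?_
      · exact hr _ _ hu₀
      · exact hr _ _ hr₀
      · exact hr _ _ hs₀
      · exact hr _ _ ht₀
    rw [e1, e2, e3, map_variableChange, hC]
  -- pass to `A / m A`
  let I : Ideal A := (IsLocalRing.maximalIdeal R).map (algebraMap R A)
  have hIle : I ≤ IsLocalRing.maximalIdeal A := by
    rw [Ideal.map_le_iff_le_comap]
    intro x hx h
    exact hx (isUnit_of_map_unit (algebraMap R A) _ h)
  have hInt : I ≠ ⊤ := fun h => (IsLocalRing.maximalIdeal.isMaximal A).ne_top (top_le_iff.mp (h ▸ hIle))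
  have : Nontrivial (A ⧸ I) := Ideal.Quotient.nontrivial_iff.mpr hInt
  let q : A →+* A ⧸ I := Ideal.Quotient.mk I
  have hloc : IsLocalRing (A ⧸ I) := IsLocalRing.of_surjective' q Ideal.Quotient.mk_surjective
  -- the reduction map `k → A / m A`
  let κ : IsLocalRing.ResidueField R →+* A ⧸ I :=
    Ideal.Quotient.lift (IsLocalRing.maximalIdeal R) (q.comp (algebraMap R A)) (fun x hx =>
      Ideal.Quotient.eq_zero_iff_mem.mpr (Ideal.mem_map_of_mem _ hx))
  have hκ : κ.comp (IsLocalRing.residue R) = q.comp (algebraMap R A) := by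
    ext x; rfl
  have hb : (C₀.map (q.comp (algebraMap R A))) • (W₁.map (q.comp (algebraMap R A))) = W₂.map (q.comp (algebraMap R A)) := by
    rw [← hκ, ← map_map, ← map_map, ← VariableChange.map_map, map_variableChange, hk]
  have hc : (C.map q) • (W₁.map (q.comp (algebraMap R A))) = W₂.map (q.comp (algebraMap R A)) := by
    rw [← map_map, ← map_map, map_variableChange, hC]
  have hJmem : ∀ (x : A) (y : R), x - algebraMap R A y ∈ IsLocalRing.maximalIdeal A →
      q x - (q.comp (algebraMap R A)) y ∈ IsLocalRing.maximalIdeal (A ⧸ I) := by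
    intro x y hxy
    rw [RingHom.comp_apply, ← map_sub]
    have hlh : IsLocalHom q := IsLocalHom.of_surjective q Ideal.Quotient.mk_surjective
    intro h
    exact hxy (isUnit_of_map_unit q _ h)
  have heq : C.map q = C₀.map (q.comp (algebraMap R A)) := by
    refine eq_of_smul_eq _ _ ?_ _ _ hc hb (IsLocalRing.maximalIdeal (A ⧸ I)) ?_ ?_ ?_ ?_ ?_
    · rw [map_Δ]; exact h1.map _
    · rw [IsLocalRing.jacobson_eq_maximalIdeal ⊥ bot_ne_top]
    · exact hJmem _ _ hu₀
    · exact hJmem _ _ hr₀
    · exact hJmem _ _ hs₀
    · exact hJmem _ _ ht₀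
  have hmem : ∀ (x : A) (y : R), q x = (q.comp (algebraMap R A)) y → x - algebraMap R A y ∈ I := fun x y h =>
    Ideal.Quotient.eq.mp h
  have hqu : q (C.u : A) = (q.comp (algebraMap R A)) u₀ := congrArg (fun D : VariableChange (A ⧸ I) => (D.u : A ⧸ I)) heq
  have hqr : q C.r = (q.comp (algebraMap R A)) r₀ := congrArg (fun D : VariableChange (A ⧸ I) => D.r) heq
  have hqs : q C.s = (q.comp (algebraMap R A)) s₀ := congrArg (fun D : VariableChange (A ⧸ I) => D.s) heq
  have hqt : q C.t = (q.comp (algebraMap R A)) t₀ := congrArg (fun D : VariableChange (A ⧸ I) => D.t) heq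
  -- every element of `A` is congruent to an element of `R` modulo `m A`
  have hall : ∀ x : A, ∃ y : R, x - algebraMap R A y ∈ I := by
    intro x
    have hx : x ∈ Algebra.adjoin R {(C.u : A), C.r, C.s, C.t} := by rw [hgen]; trivial
    induction hx using Algebra.adjoin_induction with
    | mem x hx =>
      rcases hx with rfl | rfl | rfl | rfl
      exacts [⟨_, hmem _ _ hqu⟩, ⟨_, hmem _ _ hqr⟩, ⟨_, hmem _ _ hqs⟩, ⟨_, hmem _ _ hqt⟩]
    | algebraMap r => exact ⟨r, by simp⟩
    | add x y _ _ hx hy =>
      obtain ⟨a, ha⟩ := hx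
      obtain ⟨b, hb⟩ := hy
      refine ⟨a + b, ?_⟩
      have : x + y - algebraMap R A (a + b) = (x - algebraMap R A a) + (y - algebraMap R A b) := by
        rw [map_add]; ring
      rw [this]; exact add_mem ha hb
    | mul x y _ _ hx hy =>
      obtain ⟨a, ha⟩ := hx
      obtain ⟨b, hb⟩ := hy
      refine ⟨a * b, ?_⟩
      have : x * y - algebraMap R A (a * b) = y * (x - algebraMap R A a) + algebraMap R A a * (y - algebraMap R A b) := by
        rw [map_mul]; ring
      rw [this]; exact add_mem (Ideal.mul_mem_left _ _ ha) (Ideal.mul_mem_left _ _ hb)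
  have hN : (⊤ : Submodule R A) ≤ LinearMap.range (Algebra.linearMap R A) := by
    refine Submodule.le_of_le_smul_of_le_jacobson_bot (I := IsLocalRing.maximalIdeal R) Module.Finite.fg_top
      (IsLocalRing.maximalIdeal_le_jacobson _) ?_
    intro x _
    obtain ⟨y, hy⟩ := hall x
    rw [Ideal.smul_top_eq_map]
    have : x = algebraMap R A y + (x - algebraMap R A y) := by ring
    rw [this]
    exact Submodule.add_mem_sup ⟨y, rfl⟩ hy
  intro x
  obtain ⟨y, hy⟩ := hN (Submodule.mem_top : x ∈ ⊤)
  exact ⟨y, hy⟩

/-- The statement over a henselian local domain. -/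
theorem of_henselian (R : Type u) [CommRing R] [IsDomain R] [HenselianLocalRing R]
    [IsAlgClosed (IsLocalRing.ResidueField R)]
    (W₁ W₂ : WeierstrassCurve R) [W₁.IsElliptic] [W₂.IsElliptic] (hj : W₁.j = W₂.j) :
    ∃ C : WeierstrassCurve.VariableChange R, C • W₁ = W₂ := by
  let K := FractionRing R
  let Ω := AlgebraicClosure K
  have hinj : Function.Injective (algebraMap R Ω) := by
    rw [IsScalarTower.algebraMap_eq R K Ω]
    exact (algebraMap K Ω).injective.comp (IsFractionRing.injective R K)
  obtain ⟨C, hC⟩ := exists_variableChange_of_j_eq (W₁.map (algebraMap R Ω)) (W₂.map (algebraMap R Ω)) (by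
    rw [map_j, map_j, hj])
  obtain ⟨iu, ir, is, it⟩ := isIntegral_of_smul_eq W₁ W₂ W₂.isUnit_Δ C hC
  let A := Algebra.adjoin R {(C.u : Ω), C.r, C.s, C.t}
  have hfin : Module.Finite R A := by
    refine (Module.Finite.iff_fg (N := Subalgebra.toSubmodule A)).mpr ?_
    refine fg_adjoin_of_finite (Set.toFinite _) ?_
    rintro x (rfl | rfl | rfl | rfl)
    exacts [iu, ir, is, it]
  have hAinj : Function.Injective (algebraMap R A) := by
    have h2 : (algebraMap R Ω : R → Ω) = (algebraMap A Ω) ∘ (algebraMap R A) := rfl
    exact Function.Injective.of_comp (h2 ▸ hinj)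
  have hfs : FaithfulSMul R A := (faithfulSMul_iff_algebraMap_injective R A).mpr hAinj
  have hA : IsLocalRing A := Groth.Agent.S0427.isLocalRing_of_finite R A
  have hAint : Algebra.IsIntegral R A := inferInstance
  have hlh : IsLocalHom (algebraMap R A) := inferInstance
  have mu : (C.u : Ω) ∈ A := Algebra.subset_adjoin (by simp)
  have mr : C.r ∈ A := Algebra.subset_adjoin (by simp)
  have ms : C.s ∈ A := Algebra.subset_adjoin (by simp)
  have mt : C.t ∈ A := Algebra.subset_adjoin (by simp)
  have hu12 : (⟨C.u, mu⟩ : A) ^ 12 = algebraMap R A (W₁.Δ * ↑(W₂.isUnit_Δ).unit⁻¹) :=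
    Subtype.ext (pow_twelve_eq W₁ W₂ W₂.isUnit_Δ C hC)
  have huu : IsUnit (⟨C.u, mu⟩ : A) := by
    rw [← isUnit_pow_iff (n := 12) (by norm_num), hu12]
    exact (W₁.isUnit_Δ.mul (Units.isUnit _)).map _
  let CA : VariableChange A := ⟨huu.unit, ⟨C.r, mr⟩, ⟨C.s, ms⟩, ⟨C.t, mt⟩⟩
  have hCA : CA.map (algebraMap A Ω) = C := by
    refine VariableChange.ext (Units.ext ?_) rfl rfl rfl
    rfl
  have hCA2 : CA • W₁.map (algebraMap R A) = W₂.map (algebraMap R A) := by
    apply WeierstrassCurve.map_injective (f := algebraMap A Ω) Subtype.val_injective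
    beta_reduce
    rw [← map_variableChange, hCA, map_map, map_map]
    exact hC
  have hgen : Algebra.adjoin R {(CA.u : A), CA.r, CA.s, CA.t} = ⊤ := by
    apply Subalgebra.map_injective (f := A.val) Subtype.val_injective
    rw [AlgHom.map_adjoin, Algebra.map_top, Subalgebra.range_val]
    congr 1
    simp only [Set.image_insert_eq, Set.image_singleton]
    rfl
  have hsurj := surjective_of_generated R A W₁ W₂ W₁.isUnit_Δ CA hCA2 hgen
  have hbij : Function.Bijective (algebraMap R A) := ⟨hAinj, hsurj⟩
  let e : R ≃+* A := RingEquiv.ofBijective (algebraMap R A) hbij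
  refine ⟨CA.map (e.symm : A →+* R), ?_⟩
  apply WeierstrassCurve.map_injective hAinj
  beta_reduce
  rw [← map_variableChange]
  have : (CA.map (e.symm : A →+* R)).map (algebraMap R A) = CA := by
    rw [VariableChange.map_map]
    have h3 : (algebraMap R A).comp (e.symm : A →+* R) = RingHom.id A := by
      ext x
      exact congrArg Subtype.val (e.apply_symm_apply x)
    rw [h3]; rfl
  rw [this, hCA2]

/-- Let R be a complete Noetherian local domain with algebraically closed residue field, and let W₁, W₂
be Weierstrass cubics over R whose discriminants are units (elliptic curves over R; over a local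
ring every elliptic curve has such an equation and isomorphisms of elliptic curves are the
admissible changes of variables). If W₁ and W₂ have the same j-invariant, then some change of
variables over R carries W₁ to W₂. (The published statement does not require R to be a domain. That
hypothesis is needed: over the dual numbers k[e], e² = 0, of an algebraically closed field k of
characteristic neither 2 nor 3, the cubics y² = x³ + x + e and y² = x³ + x both have j = 1728 and no
change of variables relates them.) -/
theorem result (R : Type u) [CommRing R] [IsDomain R]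
    [IsNoetherianRing R] [IsLocalRing R] [IsAdicComplete (IsLocalRing.maximalIdeal R) R]
    [IsAlgClosed (IsLocalRing.ResidueField R)]
    (W₁ W₂ : WeierstrassCurve R) [W₁.IsElliptic] [W₂.IsElliptic] (hj : W₁.j = W₂.j) :
    ∃ C : WeierstrassCurve.VariableChange R, C • W₁ = W₂ := by
  have hh : HenselianRing R (IsLocalRing.maximalIdeal R) := inferInstance
  have : HenselianLocalRing R := ⟨fun f hf a₀ h₁ h₂ => hh.is_henselian f hf a₀ h₁ (h₂.map _)⟩
  exact of_henselian R W₁ W₂ hj

end Groth.Agent.S14286
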