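import Groth.Statements.S14287
import Groth.Agent.AlgSp.K613.FormAmple
import Groth.Agent.AlgSp.K597.LocP
import Groth.Agent.AlgSp.K597.EtLoc
import Groth.Agent.FSch.K178.LiftSys
import Groth.Agent.CalgB.AmpleProj
import Groth.Agent.S10673

set_option autoImplicit false
universe u
open CategoryTheory CategoryTheory.Limits AlgebraicGeometry
open AlgSp

namespace Groth.Agent.S14287

open AlgSp IsLocalRing K613.FormTower K613.FormAmple

theorem algMor (A : Type u) [CommRing A] [IsNoetherianRing A] (I : Ideal A) [IsAdicComplete I A] : AlgMor A I :=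
  fun sX sY hX hY1 hY2 Xn pX snX hXn tX htX Yn pY snY hYn tY htY g hg1 hg2 =>
    Groth.Agent.S10673.result A I sX sY hX hY1 hY2 Xn pX snX hXn tX htX Yn pY snY hYn tY htY g hg1 hg2

/-- Let (A, m, k) be a complete Noetherian local ring and X an algebraic space over Spec A whose
structure morphism s (to h_{Spec A}) is proper and flat. Suppose the fibre of s over the closed
point is represented by a scheme X₀ over k (a pullback square of fppf sheaves with h_{X₀} in the
corner) which is projective over k, i.e. admits a closed immersion over k into some projective space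
P^{n₀}_k, and that H²(X₀, O_{X₀}) = 0. Then X is a projective A-scheme: X is represented by a scheme
admitting a closed immersion over A into some P^n_A. (The published statement does not assume X flat
over A; this row does.) -/
theorem result
    (A : Type u) [CommRing A] [IsNoetherianRing A] [IsLocalRing A]
    [IsAdicComplete (IsLocalRing.maximalIdeal A) A]
    {X : AlgSp.Space (Spec (CommRingCat.of A))}
    (s : X.obj ⟶ (AlgSp.yon (Spec (CommRingCat.of A))).obj (Over.mk (𝟙 _)))
    (hs : AlgSp.IsProperMor s) (hflat : AlgSp.LocP @Flat s)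
    (X₀ : Scheme.{u}) (p₀ : X₀ ⟶ Spec (CommRingCat.of (IsLocalRing.ResidueField A)))
    (hproj : ∃ (n₀ : ℕ) (i₀ : X₀ ⟶ CohB1.ProjSpace n₀ (IsLocalRing.ResidueField A)),
      IsClosedImmersion i₀ ∧ i₀ ≫ CohB1.ProjSpace.toSpec n₀ (IsLocalRing.ResidueField A) = p₀)
    (fst : (AlgSp.yon (Spec (CommRingCat.of A))).obj
      (Over.mk (p₀ ≫ Spec.map (CommRingCat.ofHom (IsLocalRing.residue A)))) ⟶ X.obj)
    (hsq : IsPullback fst
      ((AlgSp.yon (Spec (CommRingCat.of A))).map (Over.homMk p₀ rfl :
        Over.mk (p₀ ≫ Spec.map (CommRingCat.ofHom (IsLocalRing.residue A))) ⟶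
          Over.mk (Spec.map (CommRingCat.ofHom (IsLocalRing.residue A)))))
      s
      ((AlgSp.yon (Spec (CommRingCat.of A))).map (Over.homMk (Spec.map (CommRingCat.ofHom (IsLocalRing.residue A)))
        (Category.comp_id _) :
        Over.mk (Spec.map (CommRingCat.ofHom (IsLocalRing.residue A))) ⟶ Over.mk (𝟙 _))))
    (hH2 : Subsingleton (Coh.HH X₀ (Coh.structureModule X₀) 2)) :
    ∃ (n : ℕ) (T : Scheme.{u}) (i : T ⟶ CohB1.ProjSpace n A), IsClosedImmersion i ∧
      Nonempty (X.obj ≅ (AlgSp.yon (Spec (CommRingCat.of A))).obj (Over.mk (i ≫ CohB1.ProjSpace.toSpec n A))) := by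
  have hjac : maximalIdeal A ≤ Ideal.jacobson ⊥ := (IsLocalRing.jacobson_eq_maximalIdeal ⊥ bot_ne_top).ge
  refine projective_of (I := maximalIdeal A) hjac (algMor A _) s hs fun Xn pX sX t hXn ht hpr => ?_
  obtain ⟨q', hq'⟩ := isPullback_residue (hXn 0)
  let e₀ := hsq.isoIsPullback _ _ hq'
  obtain ⟨T, e, p, i, hT0, hp, hi, hcart⟩ := exists_schemes ht _ e₀
  have hp0 : IsProper (p 0).left := isProper_left (Xn 0).property (hp 0) (hpr 0)
  have hcart' : ∀ n, IsPullback (i n).left (p n).left (p (n + 1)).left (CohB1.specQuotTrans (maximalIdeal A) n) :=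
    fun n => K635.Thick.isPullback_left (hcart n)
  have hfl : ∀ n, Flat (p n).left := fun n => by
    have h1 : LocP @Flat (sX n) := by
      have := K597.stableBC_of_listed (P := @Flat) (Or.inr (Or.inr (Or.inl rfl)))
      exact K597.locP_bc (K597.etLoc_of_listed (Or.inr (Or.inr (Or.inl rfl)))) (hXn n) X.property.hasAtlas
        (IsAlgSpace.yon_obj _).hasAtlas (IsAlgSpace.yon_obj _).hasAtlas hflat
    exact h1 (e n).hom (𝟙 _) (p n) (K610.OpenImm.repWith_etale_of_open (K610.SchLocus.repWith_iso (e n)))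
      (repWith_id _ _) (by rw [Category.comp_id]; exact (hp n).symm)
  have hH2' : Subsingleton (Coh.HH (T 0).left (Coh.structureModule (T 0).left) 2) := by
    rw [hT0]
    exact hH2
  obtain ⟨L₀, hL₀⟩ : ∃ L₀ : (T 0).left.Modules, CohB1.IsAmple L₀ := by
    rw [hT0]
    obtain ⟨n₀, i₀, hi₀, -⟩ := hproj
    obtain ⟨E, hE⟩ := Groth.Agent.CalgB.AmpleProj.exists_isAmple_projSpace n₀ (ResidueField A)
    exact ⟨_, Groth.Agent.CalgB.AmpleBase.isAmple_pullback_of_isImmersion i₀ hE⟩
  obtain ⟨L, h1, h3, h4⟩ := K178.LiftSys.main (A := A) (fun n => (T n).left) (fun n => (p n).left)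
    (fun n => (i n).left) hcart' hfl hH2' L₀ hL₀.1
  obtain ⟨N, Y, j, f, hj, hf, hfi⟩ := exists_projective_of_ample (maximalIdeal A) hcart' hp0 L h1 h4 (by
    rw [h3]
    exact hL₀)
  exact algebraize_of hp hi j hj f hf hfi

end Groth.Agent.S14287
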