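import Groth.Statements.S14288
import Groth.Agent.EllLift.K820.FamGlue
import Groth.Agent.PerfA.FlatH0Noeth
import Groth.Agent.PerfA.StalkPush
import Groth.Agent.PerfA.H0AlgClosed
import Groth.Agent.AlgSp.K595.DescInst
import Groth.Agent.Pic13.H703.KPoints

set_option autoImplicit false
universe u
open CategoryTheory CategoryTheory.Limits MonoidalCategory CartesianMonoidalCategory MonObj AlgebraicGeometry
open EllLift

namespace Groth.Agent.S14288

open Groth.Agent.PerfA.StalkPush Groth.Agent.PerfA.FlatH0Noeth Groth.Agent.PerfA.CechH0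

/-- The structure morphism of the Weierstrass model of a family is a family of elliptic curves. -/
theorem isAbSch_of_pullback (Λ : Type u) [CommRing Λ] [IsArtinianRing Λ] [IsLocalRing Λ]
    [IsAlgClosed (IsLocalRing.ResidueField Λ)]
    (S S₀ : Scheme.{u}) (f : S ⟶ Spec (CommRingCat.of Λ)) [IsProper f] [Flat f]
    (i : S₀ ⟶ S) (f₀ : S₀ ⟶ Spec (CommRingCat.of (IsLocalRing.ResidueField Λ)))
    (hsq : IsPullback i f₀ f (Spec.map (CommRingCat.ofHom (IsLocalRing.residue Λ)))) [IsIntegral S₀]
    (J : Over S) [GrpObj J] (hJ : AgPol.IsAbSch J 1) (E : Over (Spec (CommRingCat.of Λ)))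
    (Ψ : J.left ⟶ E.left) (hΨ : IsPullback Ψ J.hom E.hom f) : AgPol.IsAbSch E 1 := by
  have hJs := hJ.smooth
  have hJp := hJ.proper
  have hne : Nonempty S := ⟨i (Classical.arbitrary S₀)⟩
  have hsub : Subsingleton (Spec (CommRingCat.of Λ)) := inferInstanceAs (Subsingleton (PrimeSpectrum Λ))
  have hsurj : Surjective f := ⟨fun p => ⟨Classical.arbitrary S, Subsingleton.elim _ _⟩⟩
  have hloc : IsLocallyNoetherian (Spec (CommRingCat.of Λ)) := inferInstance
  have hfp : LocallyOfFinitePresentation f := inferInstance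
  have hF : K595.RepDesc.Fppf f := ⟨⟨hsurj, inferInstance⟩, hfp⟩
  have h1 : Smooth E.hom := by
    have := K595.DescInst.smooth.{u}
    exact MorphismProperty.of_isPullback_of_descendsAlong (P := @Smooth) (Q := K595.RepDesc.Fppf) hΨ.flip hF hJs
  have h2 : IsProper E.hom := by
    have := K595.DescInst.isProper.{u}
    exact MorphismProperty.of_isPullback_of_descendsAlong (P := @IsProper) (Q := K595.RepDesc.Fppf) hΨ.flip hF hJp
  have hf₀ : IsProper f₀ := MorphismProperty.of_isPullback (P := @IsProper) hsq inferInstance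
  obtain ⟨x, hx⟩ := Groth.Agent.Pic13.H703.KPoints.exists_section f₀
  refine K820.EW.isAbSch_of_ellFib E h1 h2 ?_
  intro K _ t X' g q' hP
  -- every field-valued point factors through the residue field
  obtain ⟨φ, rfl⟩ := Spec.map_surjective t
  have hker : ∀ a ∈ IsLocalRing.maximalIdeal Λ, φ.hom a = 0 := by
    intro a ha
    have h3 : IsNilpotent a := Ring.KrullDimLE.isNilpotent_iff_mem_maximalIdeal.mpr ha
    exact (h3.map φ.hom).eq_zero
  let ψ : IsLocalRing.ResidueField Λ →+* K := Ideal.Quotient.lift _ φ.hom hker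
  have hψ : ∀ a, ψ (IsLocalRing.residue Λ a) = φ.hom a := fun a => Ideal.Quotient.lift_mk _ _ _
  let y : Spec (CommRingCat.of K) ⟶ S := Spec.map (CommRingCat.ofHom ψ) ≫ x ≫ i
  have hy : y ≫ f = Spec.map φ := by
    change (Spec.map (CommRingCat.ofHom ψ) ≫ x ≫ i) ≫ f = Spec.map φ
    rw [Category.assoc, Category.assoc, hsq.w, reassoc_of% hx, ← Spec.map_comp]
    exact congrArg Spec.map (CommRingCat.hom_ext (RingHom.ext hψ))
  have hg : g ≫ E.hom = q' ≫ y ≫ f := by rw [hy]; exact hP.w
  let l : X' ⟶ J.left := hΨ.lift g (q' ≫ y) (hg.trans (Category.assoc _ _ _).symm)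
  have hl1 : l ≫ Ψ = g := hΨ.lift_fst _ _ _
  have hl2 : l ≫ J.hom = q' ≫ y := hΨ.lift_snd _ _ _
  have hP' : IsPullback l q' J.hom y := by
    refine IsPullback.of_right (h₁₂ := Ψ) (h₂₂ := f) (v₁₃ := E.hom) ?_ hl2 hΨ
    rw [hl1, hy]
    exact hP
  exact K820.Genus.ellFib J hJ K y X' l q' hP'

/-- Let Λ be an Artinian local ring with algebraically closed residue field k, f : S → Spec Λ a proper
flat morphism whose fibre S₀ over the closed point is an integral scheme, and J an S-group scheme
which is an abelian scheme of relative dimension 1 (an elliptic curve over S). Let n ≥ 3 be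
invertible in Λ and suppose J carries a full level-n structure σ (two n-torsion sections generating,
at every geometric point of S, the n-torsion subgroup of order n²; with n invertible this says the
n-torsion of J is the constant group (Z/n)²). Then there exist a smooth proper Λ-scheme E with
geometrically connected fibres of dimension 1 together with a section ε of E over Λ (an elliptic
curve over Λ, its group law being determined by ε), and an isomorphism of S-schemes from J to E ×_Λ
S carrying the unit section of J to the section induced by ε. -/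
theorem result (Λ : Type u) [CommRing Λ]
    [IsArtinianRing Λ] [IsLocalRing Λ] [IsAlgClosed (IsLocalRing.ResidueField Λ)]
    (S S₀ : Scheme.{u}) (f : S ⟶ Spec (CommRingCat.of Λ)) [IsProper f] [Flat f]
    (i : S₀ ⟶ S) (f₀ : S₀ ⟶ Spec (CommRingCat.of (IsLocalRing.ResidueField Λ)))
    (hsq : IsPullback i f₀ f (Spec.map (CommRingCat.ofHom (IsLocalRing.residue Λ)))) [IsIntegral S₀]
    (J : Over S) [GrpObj J] (hJ : AgPol.IsAbSch J 1)
    (n : ℕ) (hn : 3 ≤ n) (hunit : IsUnit (n : Λ))
    (σ : Fin (2 * 1) → (𝟙_ (Over S) ⟶ J)) (hσ : AgPol.IsLevelStr J 1 n σ) :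
    ∃ (E : Over (Spec (CommRingCat.of Λ))) (ε : Spec (CommRingCat.of Λ) ⟶ E.left), ε ≫ E.hom = 𝟙 _ ∧ AgPol.IsAbSch E 1 ∧
      ∃ e : J.left ≅ pullback E.hom f, e.hom ≫ pullback.snd E.hom f = J.hom ∧
        η[J].left ≫ e.hom ≫ pullback.fst E.hom f = (𝟙_ (Over S)).hom ≫ f ≫ ε := by
  have hgood := K820.LevelGrp.good_of_isLevelStr J hJ hn σ hσ
  obtain ⟨W, Ψ, hΨ, hη, -⟩ := K820.EW.exists_model hJ hgood
  -- the global functions on `S`
  have hf₀ : IsProper f₀ := MorphismProperty.of_isPullback (P := @IsProper) hsq inferInstance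
  have hb₀ : Function.Bijective (str f₀ ⊤) := Groth.Agent.PerfA.H0AlgClosed.bijective_str_of_isAlgClosed f₀
  have hb : Function.Bijective (str f ⊤) := bijective_str_of_isNoetherianRing f i f₀ hsq hb₀
  have hiso : IsIso f.appTop := (bijective_str_top_iff f).mp hb
  let α : CommRingCat.of Λ ⟶ Γ(S, ⊤) := (Scheme.ΓSpecIso (CommRingCat.of Λ)).inv ≫ f.appTop
  have hα : IsIso α := inferInstance
  have hαf : S.toSpecΓ ≫ Spec.map α = f := by
    change S.toSpecΓ ≫ Spec.map ((Scheme.ΓSpecIso (CommRingCat.of Λ)).inv ≫ f.appTop) = f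
    rw [Spec.map_comp, ← Category.assoc, ← Scheme.toSpecΓ_naturality, Category.assoc,
      toSpecΓ_SpecMap_ΓSpecIso_inv, Category.comp_id]
  let E : Over (Spec (CommRingCat.of Λ)) := Over.mk (K820.EW.str W ≫ Spec.map α)
  have hP : IsPullback Ψ J.hom E.hom f := by
    have h1 : IsPullback (𝟙 (K820.EW.E W)) (K820.EW.str W) E.hom (Spec.map α) :=
      IsPullback.of_horiz_isIso ⟨by rw [Category.id_comp]; rfl⟩
    have h2 := hΨ.paste_horiz h1
    rw [Category.comp_id, hαf] at h2
    exact h2
  let ε : Spec (CommRingCat.of Λ) ⟶ E.left := inv (Spec.map α) ≫ K820.EW.zero W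
  refine ⟨E, ε, ?_, isAbSch_of_pullback Λ S S₀ f i f₀ hsq J hJ E Ψ hP, hP.isoPullback, hP.isoPullback_hom_snd, ?_⟩
  · change (inv (Spec.map α) ≫ K820.EW.zero W) ≫ K820.EW.str W ≫ Spec.map α = 𝟙 _
    have h1 : K820.EW.zero W ≫ K820.EW.str W = 𝟙 _ := K820.EW.zero_str W
    rw [Category.assoc, reassoc_of% h1, IsIso.inv_hom_id]
  · have h1 : hP.isoPullback.hom ≫ pullback.fst E.hom f = Ψ := hP.isoPullback_hom_fst
    rw [h1]
    have h2 : f ≫ ε = S.toSpecΓ ≫ K820.EW.zero W := by
      change f ≫ inv (Spec.map α) ≫ K820.EW.zero W = _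
      rw [← hαf, Category.assoc, IsIso.hom_inv_id_assoc]
    rw [h2]
    refine hη.trans ?_
    exact (Category.id_comp _).symm

end Groth.Agent.S14288
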