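import Groth.Statements.S14289
import Groth.Agent.EllLift.K820.GenPt
import Groth.Agent.EllLift.K820.LevelMove

set_option autoImplicit false
universe u
open CategoryTheory CategoryTheory.Limits MonoidalCategory CartesianMonoidalCategory MonObj GrpObj AlgebraicGeometry
open EllLift

namespace Groth.Agent.S14289

open K820.EW K820.LevelGrp

/-- Points of the generic fibre as points of the family. -/
theorem C_iff {A B : Type u} [Group A] [Group B] (e : A ≃* B) {p r : A} (h : C p r) : C (e p) (e r) :=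
  C.map_of_mem e.toMonoidHom ⊤ (fun _ _ hw => e.injective (hw.trans (map_one e).symm)) (Subgroup.mem_top p)
    (Subgroup.mem_top r) h

theorem main (S : Scheme.{u}) [IsIntegral S] (n : ℕ) (hn : 3 ≤ n)
    (E E' : Over S) [GrpObj E] [GrpObj E'] (hE : AgPol.IsAbSch E 1) (hE' : AgPol.IsAbSch E' 1)
    (σ : Fin (2 * 1) → (𝟙_ (Over S) ⟶ E)) (hσ : AgPol.IsLevelStr E 1 n σ)
    (σ' : Fin (2 * 1) → (𝟙_ (Over S) ⟶ E')) (hσ' : AgPol.IsLevelStr E' 1 n σ')
    (f : Red.bc (S.fromSpecStalk (genericPoint S)) E ≅ Red.bc (S.fromSpecStalk (genericPoint S)) E')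
    [IsMonHom f.hom] :
    ∃ θ : E ≅ E', η[E] ≫ θ.hom = η[E'] ∧
      (Over.pullback (S.fromSpecStalk (genericPoint S))).map θ.hom = f.hom := by
  let K : Type u := S.functionField
  let _ : Field K := inferInstanceAs (Field S.functionField)
  let j : Spec (CommRingCat.of K) ⟶ S := jx S (genericPoint S)
  have hn0 : 0 < n := by omega
  have hf1 : η[Red.bc j E] ≫ f.hom = η[Red.bc j E'] := IsMonHom.one_hom f.hom
  -- points of the generic fibres
  let e₁ := Sga3B.RadOpen.ptMulEquiv j E
  let e₂ := Sga3B.RadOpen.ptMulEquiv j E'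
  let F : (𝟙_ (Over (Spec (CommRingCat.of K))) ⟶ Red.bc j E) →* (𝟙_ (Over (Spec (CommRingCat.of K))) ⟶ Red.bc j E') :=
    { toFun := fun z => z ≫ f.hom
      map_one' := MonObj.one_comp f.hom
      map_mul' := fun a b => MonObj.mul_comp a b f.hom }
  have hF : Function.Injective F := by
    intro a b hab
    exact (cancel_mono f.hom).mp hab
  let Φ : (Over.mk j ⟶ E) →* (Over.mk j ⟶ E') := e₂.toMonoidHom.comp (F.comp e₁.symm.toMonoidHom)
  have hΦ : Function.Injective Φ := e₂.injective.comp (hF.comp e₁.symm.injective)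
  have hex : ∀ i, ∃ x ∈ Subgroup.closure {σ' 0, σ' 1}, rho E' (Over.mk j) x = Φ (rho E (Over.mk j) (σ i)) := by
    intro i
    refine exists_section_of_torsion E' hσ' j _ ?_
    rw [← map_pow, ← map_pow, hσ.1 i, map_one, map_one]
  obtain ⟨x₀, hx₀, h0⟩ := hex 0
  obtain ⟨x₁, hx₁, h1⟩ := hex 1
  have hgood : Good E (σ 0) (σ 1) := good_of_isLevelStr E hE hn σ hσ
  have hC : C x₀ x₁ := by
    let Ω := AlgebraicClosure K
    let a : Spec (CommRingCat.of Ω) ⟶ Spec (CommRingCat.of K) := Spec.map (CommRingCat.ofHom (algebraMap K Ω))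
    let h : Over.mk (a ≫ j) ⟶ Over.mk j := Over.homMk a rfl
    have h2 := (good_iff E).mp hgood Ω (a ≫ j)
    rw [← pb_rho E h, ← pb_rho E h] at h2
    have h3 := C.of_map _ h2
    have h4 := C.map_of_mem Φ ⊤ (fun w _ hw => hΦ (hw.trans (map_one Φ).symm)) (Subgroup.mem_top _)
      (Subgroup.mem_top _) h3
    rw [← h0, ← h1] at h4
    exact C.of_map _ h4
  have hgood' : Good E' x₀ x₁ := good_of_mem E' hE' hn0 hσ' hx₀ hx₁ hC
  let a : XJ E j ≅ XJ E' j := (Over.forget _).mapIso f
  have ha : a.hom ≫ qJ E' j = qJ E j := Over.w f.hom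
  have hunit : secJ E j η[E] ≫ a.hom = secJ E' j η[E'] := by
    rw [← one_left, ← one_left]
    exact congrArg (fun z : 𝟙_ (Over (Spec (CommRingCat.of K))) ⟶ Red.bc j E' => z.left) hf1
  have hsec : ∀ (i : Fin (2 * 1)) (x : 𝟙_ (Over S) ⟶ E'), rho E' (Over.mk j) x = Φ (rho E (Over.mk j) (σ i)) →
      secJ E j (σ i) ≫ a.hom = secJ E' j x := by
    intro i x hx
    have h3 : e₁.symm (rho E (Over.mk j) (σ i)) = ptJ E j (σ i) := by
      rw [MulEquiv.symm_apply_eq]
      apply Over.OverMorphism.ext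
      have h4 : (e₁ (ptJ E j (σ i))).left = (ptJ E j (σ i)).left ≫ pullback.fst E.hom j :=
        Sga3B.RadOpen.ptEquiv_left j _
      rw [h4, ptJ_comp]
      rfl
    have h5 : Φ (rho E (Over.mk j) (σ i)) = e₂ (ptJ E j (σ i) ≫ f.hom) := by
      change e₂ (F (e₁.symm _)) = _
      rw [h3]
      rfl
    have h6 : (e₂ (ptJ E j (σ i) ≫ f.hom)).left = (ptJ E j (σ i) ≫ f.hom).left ≫ pullback.fst E'.hom j :=
      Sga3B.RadOpen.ptEquiv_left j _
    apply secJ_unique
    · rw [Category.assoc, ha, secJ_q]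
    · have h7 : (secJ E j (σ i) ≫ a.hom) ≫ gJ E' j = (e₂ (ptJ E j (σ i) ≫ f.hom)).left := h6.symm
      rw [h7, ← h5, ← hx]
      rfl
  have hinj : Function.Injective (gx (genericPoint S)) := germ_injective_of_isIntegral (U := ⊤) S (genericPoint S) trivial
  obtain ⟨θ, hθ1, hθ2⟩ := exists_ext hE hE' hgood hgood' (genericPoint S) hinj a ha hunit (hsec 0 x₀ h0) (hsec 1 x₁ h1)
  refine ⟨θ, hθ1, ?_⟩
  apply Over.OverMorphism.ext
  apply pullback.hom_ext
  · refine Eq.trans ?_ hθ2
    exact pullback.lift_fst _ _ _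
  · exact (Over.w ((Over.pullback j).map θ.hom)).trans (Over.w f.hom).symm

/-- Let S be an integral scheme with generic point η, let n ≥ 3 be invertible on S, and let E, E' be
S-group schemes which are abelian schemes of relative dimension 1 (elliptic curves over S), each
carrying a full level-n structure (so that E[n] and E'[n] are both the constant group (Z/n)²). Then
every isomorphism of group schemes between the generic fibres E ×_S η ≅ E' ×_S η is the base change
of an isomorphism of S-group schemes E ≅ E'. (The published lemma is stated for generalized elliptic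
curves, whose fibres may be Néron polygons; this row is its case of elliptic curves, i.e. smooth
fibres.) -/
theorem result (S : Scheme.{u}) [IsIntegral S]
    (n : ℕ) (hn : 3 ≤ n) (hunit : IsUnit (n : Γ(S, ⊤)))
    (E E' : Over S) [GrpObj E] [GrpObj E'] (hE : AgPol.IsAbSch E 1) (hE' : AgPol.IsAbSch E' 1)
    (σ : Fin (2 * 1) → (𝟙_ (Over S) ⟶ E)) (hσ : AgPol.IsLevelStr E 1 n σ)
    (σ' : Fin (2 * 1) → (𝟙_ (Over S) ⟶ E')) (hσ' : AgPol.IsLevelStr E' 1 n σ')
    (φ : Grp.mk (Red.bc (S.fromSpecStalk (genericPoint S)) E) ≅ Grp.mk (Red.bc (S.fromSpecStalk (genericPoint S)) E')) :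
    ∃ ψ : Grp.mk E ≅ Grp.mk E',
      (Over.pullback (S.fromSpecStalk (genericPoint S))).map ψ.hom.hom.hom = φ.hom.hom.hom := by
  let f : Red.bc (S.fromSpecStalk (genericPoint S)) E ≅ Red.bc (S.fromSpecStalk (genericPoint S)) E' :=
    (Grp.forget _).mapIso φ
  have i0 : IsMonHom f.hom := φ.hom.hom.isMonHom_hom
  obtain ⟨θ, h1, h2⟩ := main S n hn E E' hE hE' σ hσ σ' hσ' f
  have i1 := hE.smooth
  have i2 := hE.proper
  have i3 := hE.geomConnected
  have i4 : GeometricallyReduced E.hom := K820.EW.geometricallyReduced_of_ellFib (K820.Genus.ellFib E hE)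
  have i5 := hE'.proper
  have : IsMonHom θ.hom := K448.PointedHom.isMonHom_of_pointed θ.hom h1
  exact ⟨Grp.mkIso' θ, h2⟩

end Groth.Agent.S14289
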