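import Groth.Statements.S14290
import Groth.Agent.EllLift.K262.Main90
import Groth.Agent.S14288

set_option autoImplicit false
universe u
open CategoryTheory CategoryTheory.Limits MonoidalCategory CartesianMonoidalCategory MonObj GrpObj AlgebraicGeometry
open EllLift

namespace Groth.Agent.S14290

/-- Let Λ be an Artinian local ring with algebraically closed residue field k, S a connected scheme with
a proper flat morphism f : S → Spec Λ whose fibre S₀ over the closed point is a regular scheme, J an
S-group scheme which is an abelian scheme of relative dimension 1 (an elliptic curve over S), n ≥ 3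
invertible in Λ, and S' → S a connected finite étale cover which is Galois (its S-automorphisms act
transitively on geometric fibres), with group G = Aut_S(S'), such that the base change J ×_S S'
carries a full level-n structure. Then there are a Λ-group scheme E which is an abelian scheme of
relative dimension 1 (an elliptic curve over Λ), a group homomorphism ρ : G → Aut(E) into the
automorphisms of the group scheme E, and an isomorphism of S'-group schemes e : J ×_S S' ≅ E ×_Λ S'
such that for every g ∈ G the square formed by e, the automorphism 1 × g of J ×_S S' and the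
automorphism ρ(g) × g of E ×_Λ S' commutes; that is, J is the quotient of E ×_Λ S' by the diagonal
action of G. (The published statement allows any finite étale covering S' → S that is Galois with
group G in the sense that G × S' ≅ S' ×_S S', connected or not, over a base not assumed connected;
this row requires S and S' connected, so that S' → S is surjective and G = Aut_S(S'), which is the
setting the published proof works in. For a disconnected covering induced from a connected cyclic
covering of a curve the published statement fails.) -/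
theorem result (Λ : Type u) [CommRing Λ]
    [IsArtinianRing Λ] [IsLocalRing Λ] [IsAlgClosed (IsLocalRing.ResidueField Λ)]
    (S S₀ : Scheme.{u}) [ConnectedSpace S] (f : S ⟶ Spec (CommRingCat.of Λ)) [IsProper f] [Flat f]
    (i : S₀ ⟶ S) (f₀ : S₀ ⟶ Spec (CommRingCat.of (IsLocalRing.ResidueField Λ)))
    (hsq : IsPullback i f₀ f (Spec.map (CommRingCat.ofHom (IsLocalRing.residue Λ))))
    (hreg : Models.IsRegularScheme S₀)
    (J : Over S) [GrpObj J] (hJ : AgPol.IsAbSch J 1)
    (n : ℕ) (hn : 3 ≤ n) (hunit : IsUnit (n : Λ))
    (S' : FEt.Cat S) (hgal : PiSp.IsGaloisCover S')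
    (σ : Fin (2 * 1) → (𝟙_ (Over S'.left) ⟶ Red.bc S'.hom J)) (hσ : AgPol.IsLevelStr (Red.bc S'.hom J) 1 n σ) :
    ∃ (E : Over (Spec (CommRingCat.of Λ))) (_ : GrpObj E), AgPol.IsAbSch E 1 ∧
      ∃ (ρ : Aut S' →* Aut (Grp.mk E)) (e : Grp.mk (Red.bc S'.hom J) ≅ Grp.mk (Red.bc (S'.hom ≫ f) E)),
        ∀ g : Aut S',
          (pullback.map J.hom S'.hom J.hom S'.hom (𝟙 J.left) g.hom.hom.left (𝟙 S)
          ((Category.comp_id _).trans (Category.id_comp _).symm)
          ((Category.comp_id _).trans (Over.w g.hom.hom).symm)) ≫ e.hom.hom.hom.left =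
          e.hom.hom.hom.left ≫ (pullback.map E.hom (S'.hom ≫ f) E.hom (S'.hom ≫ f) (ρ g).hom.hom.hom.left g.hom.hom.left (𝟙 _)
          ((Category.comp_id _).trans (Over.w (ρ g).hom.hom.hom).symm)
          ((Category.comp_id _).trans
            (((Category.assoc _ _ _).symm).trans (eq_whisker (Over.w g.hom.hom) f)).symm)) := by
  have hf : Smooth f := K262.EllSplit.smooth_of_isRegularScheme f i f₀ hsq hreg
  have hc : ConnectedSpace S'.left := hgal.1
  have hS1 : IsFinite S'.hom := S'.prop.1
  have hS2 : Etale S'.hom := S'.prop.2
  have hp : IsProper (S'.hom ≫ f) := inferInstanceAs (IsProper ((S'.hom : S'.left ⟶ S) ≫ f))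
  have hsm : Smooth (S'.hom ≫ f) := inferInstanceAs (Smooth ((S'.hom : S'.left ⟶ S) ≫ f))
  have hfl : Flat (S'.hom ≫ f) := inferInstance
  have hsq' : IsPullback (pullback.fst (S'.hom ≫ f) (K262.EllGeom.res Λ))
      (pullback.snd (S'.hom ≫ f) (K262.EllGeom.res Λ)) (S'.hom ≫ f) (K262.EllGeom.res Λ) := IsPullback.of_hasPullback _ _
  have hc' : ConnectedSpace ↥(pullback (S'.hom ≫ f) (K262.EllGeom.res Λ)) :=
    K262.EllGeom.connectedSpace_fibre (S := S'.left) (S'.hom ≫ f) _ _ hsq'
  have hint : IsIntegral (pullback (S'.hom ≫ f) (K262.EllGeom.res Λ)) :=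
    K262.EllGeom.isIntegral_of_smooth (pullback.snd (S'.hom ≫ f) (K262.EllGeom.res Λ))
  exact K262.EllSplit.exists_equivariant f hf J hJ S'
    (Groth.Agent.S14288.result Λ S'.left _ (S'.hom ≫ f) _ _ hsq' (Red.bc S'.hom J)
      (K262.EllSplit.isAbSch_bc S'.hom hJ) n hn hunit σ hσ)

end Groth.Agent.S14290
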