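import Groth.Statements.S14291
import Groth.Agent.EllLift.K820.Cusp2
import Groth.Agent.EllLift.K820.CuspNF

set_option autoImplicit false
universe u
open EllLift

namespace Groth.Agent.S14291

open WeierstrassCurve K820.PtVC K820.Cusp K820.CuspNF IsDiscreteValuationRing IsDedekindDomain.HeightOneSpectrum

section

variable (R : Type u) [CommRing R] [IsDomain R] [IsDiscreteValuationRing R] (K : Type u) [Field K] [Algebra R K]
  [IsFractionRing R K]

theorem exists_of_lt_one (ϖ : R) (hϖ : Irreducible ϖ) {x : K}
    (hx : valuation K (IsDiscreteValuationRing.maximalIdeal R) x < 1) :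
    ∃ y : R, x = algebraMap R K ϖ * algebraMap R K y := by
  obtain ⟨r, rfl⟩ := exists_lift_of_le_one hx.le
  rw [valuation_lt_one_iff_mem] at hx
  have h2 : r ∈ IsLocalRing.maximalIdeal R := hx
  rw [hϖ.maximalIdeal_eq, Ideal.mem_span_singleton] at h2
  obtain ⟨y, rfl⟩ := h2
  exact ⟨y, map_mul _ _ _⟩

/-- A minimal equation with additive reduction: if all coefficients are in the maximal ideal, no point `P` has
`P, 2P, 3P, 4P` reducing to the cusp. -/
theorem not_minimal [DecidableEq K] (W : WeierstrassCurve K) [W.IsElliptic] [IsMinimal R W]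
    (C : VariableChange K) (hCu : C.u = 1) (e g w : K)
    (he : valuation K (IsDiscreteValuationRing.maximalIdeal R) e < 1)
    (hg : valuation K (IsDiscreteValuationRing.maximalIdeal R) g < 1)
    (hw : valuation K (IsDiscreteValuationRing.maximalIdeal R) w < 1)
    (h1 : (C • W).a₁ = e - g) (h2 : (C • W).a₂ = w * g) (h3 : (C • W).a₃ = e * w * g) (h4 : (C • W).a₄ = 0)
    (h6 : (C • W).a₆ = 0) : False := by
  obtain ⟨ϖ, hϖ⟩ := IsDiscreteValuationRing.exists_irreducible R
  obtain ⟨e', rfl⟩ := exists_of_lt_one R K ϖ hϖ he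
  obtain ⟨g', rfl⟩ := exists_of_lt_one R K ϖ hϖ hg
  obtain ⟨w', rfl⟩ := exists_of_lt_one R K ϖ hϖ hw
  have hϖ0 : algebraMap R K ϖ ≠ 0 := by
    rw [ne_eq, map_eq_zero_iff _ (IsFractionRing.injective R K)]
    exact hϖ.ne_zero
  let u : Kˣ := Units.mk0 _ hϖ0
  have hui : (↑u⁻¹ : K) * algebraMap R K ϖ = 1 := by
    rw [Units.val_inv_eq_inv_val]; exact inv_mul_cancel₀ hϖ0
  let D : VariableChange K := ⟨u, 0, 0, 0⟩
  have hint : IsIntegral R ((D * C) • W) := by
    rw [mul_smul]
    refine isIntegral_of_exists_lift R ⟨e' - g', ?_⟩ ⟨w' * g', ?_⟩ ⟨e' * w' * g', ?_⟩ ⟨0, ?_⟩ ⟨0, ?_⟩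
    · rw [variableChange_a₁, h1]
      simp only [D, map_sub]
      linear_combination -(algebraMap R K e' - algebraMap R K g') * hui
    · rw [variableChange_a₂, h2, h1]
      simp only [D, map_mul]
      linear_combination -(algebraMap R K w' * algebraMap R K g') * (↑u⁻¹ * algebraMap R K ϖ + 1) * hui
    · rw [variableChange_a₃, h3, h1]
      simp only [D, map_mul]
      linear_combination -(algebraMap R K e' * algebraMap R K w' * algebraMap R K g') *
        ((↑u⁻¹ * algebraMap R K ϖ) ^ 2 + ↑u⁻¹ * algebraMap R K ϖ + 1) * hui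
    · rw [variableChange_a₄, h4]
      simp [D]
    · rw [variableChange_a₆, h6, h4]
      simp [D]
  have hmin := (IsMinimal.val_Δ_maximal (R := R) (W := W)).2 hint
  have hΔ : ((D * C) • W).Δ = (↑u⁻¹ : K) ^ 12 * W.Δ := by
    rw [mul_smul, variableChange_Δ, variableChange_Δ, hCu]
    simp [D]
  have hvΔ : valuation K (IsDiscreteValuationRing.maximalIdeal R) W.Δ ≠ 0 := by
    rw [ne_eq, map_eq_zero]; exact W.isUnit_Δ.ne_zero
  have hvϖ : valuation K (IsDiscreteValuationRing.maximalIdeal R) (algebraMap R K ϖ) < 1 := by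
    rw [valuation_lt_one_iff_mem]
    exact hϖ.1
  have hvϖ0 : valuation K (IsDiscreteValuationRing.maximalIdeal R) (algebraMap R K ϖ) ≠ 0 := by
    rw [ne_eq, map_eq_zero]; exact hϖ0
  have hvui : 1 < valuation K (IsDiscreteValuationRing.maximalIdeal R) ((↑u⁻¹ : K) ^ 12) := by
    rw [map_pow, Units.val_inv_eq_inv_val, map_inv₀]
    refine one_lt_pow₀ ?_ (by norm_num)
    exact (one_lt_inv₀ (zero_lt_iff.mpr hvϖ0)).mpr hvϖ
  have hlt : valuation K (IsDiscreteValuationRing.maximalIdeal R) W.Δ <
      valuation K (IsDiscreteValuationRing.maximalIdeal R) ((D * C) • W).Δ := by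
    rw [hΔ, map_mul]
    calc _ = 1 * valuation K (IsDiscreteValuationRing.maximalIdeal R) W.Δ := (one_mul _).symm
      _ < _ := mul_lt_mul_of_pos_right hvui (zero_lt_iff.mpr hvΔ)
  have e1 := valuation_Δ_aux_eq_of_isIntegral R ((D * C) • W)
  have e2 := valuation_Δ_aux_eq_of_isIntegral R W
  have hone : (1 : VariableChange K) • W = W := one_smul _ _
  have hle : valuation_Δ_aux R ((1 : VariableChange K) • W) ≤ valuation_Δ_aux R ((D * C) • W) := by
    rw [hone, ← Subtype.coe_le_coe, e1, e2]
    exact hlt.le
  have := hmin hle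
  beta_reduce at this
  rw [hone, ← Subtype.coe_le_coe, e1, e2] at this
  exact absurd hlt (not_lt_of_ge this)

end

/-- Let R be a Henselian discrete valuation ring with algebraically closed residue field k and fraction
field K, and W an elliptic curve over K (a Weierstrass cubic with unit discriminant) given by an
equation which is minimal with respect to R. If W has a K-rational point of exact order n for some
integer n > 4 whose image in k is non-zero, then W has good or multiplicative (that is, semistable)
reduction. (The published statement takes R to be the Henselisation of the local ring of a smooth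
curve over an algebraically closed field at a closed point, and asks that the n-torsion of the
elliptic curve over R contain the constant group Z/nZ; this row allows any Henselian discrete
valuation ring with algebraically closed residue field and asks for a K-rational point of exact
order n, which over such R is the same condition.) -/
theorem result (R : Type u) [CommRing R] [IsDomain R]
    [IsDiscreteValuationRing R] [HenselianLocalRing R] [IsAlgClosed (IsLocalRing.ResidueField R)]
    (K : Type u) [Field K] [DecidableEq K] [Algebra R K] [IsFractionRing R K]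
    (W : WeierstrassCurve K) [W.IsElliptic] [WeierstrassCurve.IsMinimal R W]
    (n : ℕ) (hn : 4 < n) (hk : (n : IsLocalRing.ResidueField R) ≠ 0)
    (P : W.toAffine.Point) (hP : addOrderOf P = n) :
    W.HasGoodReduction R ∨ W.HasMultiplicativeReduction R := by
  rcases hasGoodReduction_or_hasMultiplicativeReduction_or_hasAdditiveReduction (R := R) (W := W) with h | h | h
  · exact Or.inl h
  · exact Or.inr h
  exfalso
  have bΔ := h.badReduction
  have bc := h.additiveReduction
  rw [← integralModel_Δ_eq R W, valuation_lt_one_iff_mem] at bΔ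
  rw [← integralModel_c₄_eq R W, valuation_lt_one_iff_mem] at bc
  have bΔ' : ((integralModel R W).map (IsLocalRing.residue R)).Δ = 0 := by
    rw [map_Δ, IsLocalRing.residue_eq_zero_iff]; exact bΔ
  have bc' : ((integralModel R W).map (IsLocalRing.residue R)).c₄ = 0 := by
    rw [map_c₄, IsLocalRing.residue_eq_zero_iff]; exact bc
  obtain ⟨Cb, hCb, z1, z2, z3, z4, z6⟩ := exists_cusp _ bΔ' bc'
  obtain ⟨r, hr⟩ := IsLocalRing.residue_surjective Cb.r
  obtain ⟨s, hs⟩ := IsLocalRing.residue_surjective Cb.s
  obtain ⟨t, ht⟩ := IsLocalRing.residue_surjective Cb.t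
  let C₀ : VariableChange R := ⟨1, r, s, t⟩
  have hC₀ : C₀.map (IsLocalRing.residue R) = Cb := by
    refine VariableChange.ext ?_ hr hs ht
    rw [hCb]
    exact map_one _
  rw [← hC₀, map_variableChange] at z1 z2 z3 z4 z6
  simp only [map_a₁, map_a₂, map_a₃, map_a₄, map_a₆, IsLocalRing.residue_eq_zero_iff] at z1 z2 z3 z4 z6
  let C₁ : VariableChange K := C₀.map (algebraMap R K)
  have hW : C₁ • W = (C₀ • integralModel R W).map (algebraMap R K) := by
    rw [← map_variableChange]
    congr 1
    exact (baseChange_integralModel_eq R W).symm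
  let W' := C₁ • W
  have hlt : ∀ x : R, x ∈ IsLocalRing.maximalIdeal R →
      valuation K (IsDiscreteValuationRing.maximalIdeal R) (algebraMap R K x) < 1 := fun x hx => by
    rw [valuation_lt_one_iff_mem]; exact hx
  have v1 : valuation K (IsDiscreteValuationRing.maximalIdeal R) (C₁ • W).a₁ < 1 := by rw [hW]; exact hlt _ z1
  have v2 : valuation K (IsDiscreteValuationRing.maximalIdeal R) (C₁ • W).a₂ < 1 := by rw [hW]; exact hlt _ z2
  have v3 : valuation K (IsDiscreteValuationRing.maximalIdeal R) (C₁ • W).a₃ < 1 := by rw [hW]; exact hlt _ z3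
  have v4 : valuation K (IsDiscreteValuationRing.maximalIdeal R) (C₁ • W).a₄ < 1 := by rw [hW]; exact hlt _ z4
  have v6 : valuation K (IsDiscreteValuationRing.maximalIdeal R) (C₁ • W).a₆ < 1 := by rw [hW]; exact hlt _ z6
  have vn : valuation K (IsDiscreteValuationRing.maximalIdeal R) (n : K) = 1 := by
    have h5 : (n : R) ∉ IsLocalRing.maximalIdeal R := by
      intro h6
      apply hk
      rw [← map_natCast (IsLocalRing.residue R), IsLocalRing.residue_eq_zero_iff]
      exact h6
    have h6 : (n : K) = algebraMap R K (n : R) := (map_natCast _ _).symm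
    rw [h6]
    refine le_antisymm (valuation_le_one _ _) ?_
    by_contra hcon
    push Not at hcon
    rw [valuation_lt_one_iff_mem] at hcon
    exact h5 hcon
  let P' := ptMap C₁ W P
  have hred : ∀ j ∈ ({1, 2, 3, 4} : Set ℕ), Red (valuation K (IsDiscreteValuationRing.maximalIdeal R)) (j • P') := by
    intro j hj
    have hj0 : 0 < j ∧ j < n := by
      rcases hj with rfl | rfl | rfl | rfl <;> omega
    refine red_of_nsmul_eq_zero _ (C₁ • W) v1 v2 v3 v4 v6 _ ?_ n vn ?_
    · intro h0
      have h7 : ptMap C₁ W (j • P) = 0 := by rw [map_nsmul]; exact h0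
      rw [← map_zero (ptMap C₁ W)] at h7
      have h8 := ptMap_injective C₁ W h7
      have h9 := addOrderOf_dvd_iff_nsmul_eq_zero.mpr h8
      rw [hP] at h9
      exact absurd (Nat.le_of_dvd hj0.1 h9) (not_le_of_gt hj0.2)
    · have h7 : n • P = 0 := by rw [← hP]; exact addOrderOf_nsmul_eq_zero P
      rw [smul_comm, ← map_nsmul, h7, map_zero, smul_zero]
  obtain ⟨C₂, hC₂, e, g, w, ve, vg, vw, q1, q2, q3, q4, q6⟩ := exists_small _ (C₁ • W) v1 v2 v3 v4 P' hred
  rw [← mul_smul] at q1 q2 q3 q4 q6
  refine not_minimal R K W (C₂ * C₁) ?_ e g w ve vg vw q1 q2 q3 q4 q6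
  have : (C₂ * C₁).u = C₂.u * C₁.u := rfl
  rw [this, hC₂, one_mul]
  exact map_one _

end Groth.Agent.S14291
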