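import Groth.Statements.S14293
import Groth.Agent.EllLift.K262.Ab
import Groth.Agent.EllLift.K262.Ba
import Groth.Agent.EllLift.K262.GalFin
import Groth.Agent.S14290

set_option autoImplicit false
universe u
open CategoryTheory CategoryTheory.Limits MonoidalCategory CartesianMonoidalCategory MonObj GrpObj AlgebraicGeometry
open EllLift

namespace Groth.Agent.S14293

/-- Let Λ be an Artinian local ring with algebraically closed residue field k, S a connected scheme with
a proper flat morphism f : S → Spec Λ whose fibre S₀ over the closed point (structure map f₀) is a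
regular scheme, S' → S a connected finite étale Galois cover with group G = Aut_S(S'), and S₀' → S₀
its restriction to S₀ (a pullback square), with θ the induced identification of G with the
S₀-automorphisms of S₀'. Let E be a k-group scheme which is an abelian scheme of dimension 1 (an
elliptic curve over k) with a homomorphism ρ₀ : G → Aut(E), and let J be an S₀-group scheme which is
an abelian scheme of relative dimension 1 together with an isomorphism of S₀'-group schemes e₀ : J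
×_{S₀} S₀' ≅ E ×_k S₀' that is G-equivariant for the action of G on the first through S₀' (via θ)
and on the second diagonally through ρ₀ and θ; in other words J = (E ×_k S₀')/G. Then the following
are equivalent: (a) J lifts to S, i.e. there is an S-group scheme 𝒥, abelian of relative dimension
1, whose base change to S₀ is isomorphic to J as an S₀-group scheme; (b) E lifts to Λ together with
the action: there are a Λ-group scheme 𝓔, abelian of relative dimension 1, a homomorphism ρ : G →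
Aut(𝓔) and an isomorphism of k-group schemes 𝓔 ×_Λ k ≅ E carrying the base change of ρ(g) to ρ₀(g)
for every g ∈ G. (The published statement allows any finite étale covering that is Galois with group
G in the sense that G × S' ≅ S' ×_S S', connected or not, and does not ask the base to be connected;
this row requires S and S' connected, so that S' → S is surjective, which is the setting the
published proof works in. Without it the equivalence fails in both directions: over the Witt vectors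
of length two of an algebraically closed field of characteristic 3, the trivial covering of the
point with group Z/3 and the curve y² = x³ − x with the automorphism (x, y) ↦ (x + 1, y) give (a)
without (b); and over a disconnected base met by a connected S' in one component only, (b) can hold
without (a).) -/
theorem result (Λ : Type u) [CommRing Λ]
    [IsArtinianRing Λ] [IsLocalRing Λ] [IsAlgClosed (IsLocalRing.ResidueField Λ)]
    (S S₀ : Scheme.{u}) [ConnectedSpace S] (f : S ⟶ Spec (CommRingCat.of Λ)) [IsProper f] [Flat f]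
    (i : S₀ ⟶ S) (f₀ : S₀ ⟶ Spec (CommRingCat.of (IsLocalRing.ResidueField Λ)))
    (hsq : IsPullback i f₀ f (Spec.map (CommRingCat.ofHom (IsLocalRing.residue Λ))))
    (hreg : Models.IsRegularScheme S₀)
    (S' : FEt.Cat S) (hgal : PiSp.IsGaloisCover S')
    (S₀' : FEt.Cat S₀) (i' : S₀'.left ⟶ S'.left) (hsq' : IsPullback i' S₀'.hom S'.hom i)
    (θ : Aut S' ≃* Aut S₀') (hθ : ∀ g : Aut S', i' ≫ g.hom.hom.left = (θ g).hom.hom.left ≫ i')
    (E : Over (Spec (CommRingCat.of (IsLocalRing.ResidueField Λ)))) [GrpObj E] (hE : AgPol.IsAbSch E 1) (ρ₀ : Aut S' →* Aut (Grp.mk E))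
    (J : Over S₀) [GrpObj J] (hJ : AgPol.IsAbSch J 1)
    (e₀ : Grp.mk (Red.bc S₀'.hom J) ≅ Grp.mk (Red.bc (S₀'.hom ≫ f₀) E))
    (he₀ : ∀ g : Aut S',
      (pullback.map J.hom S₀'.hom J.hom S₀'.hom (𝟙 J.left) (θ g).hom.hom.left (𝟙 S₀)
            ((Category.comp_id _).trans (Category.id_comp _).symm)
            ((Category.comp_id _).trans (Over.w (θ g).hom.hom).symm)) ≫ e₀.hom.hom.hom.left =
        e₀.hom.hom.hom.left ≫ (pullback.map E.hom (S₀'.hom ≫ f₀) E.hom (S₀'.hom ≫ f₀) (ρ₀ g).hom.hom.hom.left (θ g).hom.hom.left (𝟙 _)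
            ((Category.comp_id _).trans (Over.w (ρ₀ g).hom.hom.hom).symm)
            ((Category.comp_id _).trans
              (((Category.assoc _ _ _).symm).trans (eq_whisker (Over.w (θ g).hom.hom) f₀)).symm))) :
    (∃ (JJ : Over S) (_ : GrpObj JJ), AgPol.IsAbSch JJ 1 ∧ Nonempty (Grp.mk (Red.bc i JJ) ≅ Grp.mk J)) ↔
    (∃ (EE : Over (Spec (CommRingCat.of Λ))) (_ : GrpObj EE), AgPol.IsAbSch EE 1 ∧
      ∃ (ρ : Aut S' →* Aut (Grp.mk EE)) (ee : Grp.mk (Red.bc (Spec.map (CommRingCat.ofHom (IsLocalRing.residue Λ))) EE) ≅ Grp.mk E),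
        ∀ g : Aut S',
          (Over.pullback (Spec.map (CommRingCat.ofHom (IsLocalRing.residue Λ)))).map (ρ g).hom.hom.hom ≫ ee.hom.hom.hom = ee.hom.hom.hom ≫ (ρ₀ g).hom.hom.hom) := by
  have hf : Smooth f := K262.EllSplit.smooth_of_isRegularScheme f i f₀ hsq hreg
  have hc : ConnectedSpace S'.left := hgal.1
  have hS1 : IsFinite (S'.hom : S'.left ⟶ S) := S'.prop.1
  have hS2 : Etale (S'.hom : S'.left ⟶ S) := S'.prop.2
  have hS3 : IsFinite (S₀'.hom : S₀'.left ⟶ S₀) := S₀'.prop.1
  have hf₀ : IsProper f₀ := MorphismProperty.of_isPullback hsq ‹_›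
  have hpf : IsProper ((S₀'.hom : S₀'.left ⟶ S₀) ≫ f₀) := inferInstance
  have hbig : IsPullback i' ((S₀'.hom : S₀'.left ⟶ S₀) ≫ f₀) ((S'.hom : S'.left ⟶ S) ≫ f) (K262.EllGeom.res Λ) :=
    hsq'.paste_vert hsq
  have hc₀ : ConnectedSpace S₀'.left := K262.EllGeom.connectedSpace_fibre (S := S'.left) _ i' _ hbig
  have hgalD := K262.GalD.gal_of_isGaloisCover S' hgal
  have hfin : Finite (Aut S') := K262.GalD.finite_aut S'
  have hfree := K262.GalD.free_of_connected S'
  have hgalD₀ : K262.GalD.Gal (S₀'.hom : S₀'.left ⟶ S₀) (fun g : Aut S' => (θ g).hom.hom.left) :=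
    hgalD.bc hsq' _ (fun g => (hθ g).symm) (fun g => Over.w (θ g).hom.hom)
  have aE : K262.EllPtd.AbS E := K262.EllPtd.AbS.of_isAbSch hE
  have aJ : K262.EllPtd.AbS J := K262.EllPtd.AbS.of_isAbSch hJ
  -- the projection of `J ×_{S₀} S₀'` to `E`
  have hq₀ : K262.EllSplit.CP (S₀'.hom ≫ f₀) (Red.bc S₀'.hom J) E
      (e₀.hom.hom.hom.left ≫ pullback.fst E.hom (S₀'.hom ≫ f₀)) :=
    ((K262.EllSplit.CP.of_iso e₀).comp (K262.EllSplit.cp_bc (S₀'.hom ≫ f₀) E)).congr (Category.id_comp _)
  have hρ₀ : ∀ g : Aut S', K262.GalD.act S₀'.hom (fun g : Aut S' => (θ g).hom.hom.left) hgalD₀.comp J g ≫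
      e₀.hom.hom.hom.left ≫ pullback.fst E.hom (S₀'.hom ≫ f₀) =
      (e₀.hom.hom.hom.left ≫ pullback.fst E.hom (S₀'.hom ≫ f₀)) ≫ (ρ₀ g).hom.hom.hom.left := fun g => by
    have h1 := congrArg (· ≫ pullback.fst E.hom (S₀'.hom ≫ f₀)) (he₀ g)
    simp only [Category.assoc] at h1
    refine h1.trans ?_
    rw [pullback.lift_fst]
    exact (Category.assoc _ _ _).symm
  constructor
  · rintro ⟨JJ, _, hJJ, ⟨jj⟩⟩
    have aJJ : K262.EllPtd.AbS JJ := K262.EllPtd.AbS.of_isAbSch hJJ
    have hu : K262.EllSplit.CP i J JJ (jj.inv.hom.hom.left ≫ pullback.fst JJ.hom i) :=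
      ((K262.EllSplit.CP.of_iso jj.symm).comp (K262.EllSplit.cp_bc i JJ)).congr (Category.id_comp _)
    obtain ⟨n, hn3, hn⟩ := K262.AB.exists_isUnit Λ
    obtain ⟨τ, hτ⟩ := K262.AB.exists_levelStr_lift S'.hom S₀'.hom i i' f f₀ hsq hsq' E hE J _ hq₀ JJ _ hu n hn
    obtain ⟨E', _, hE', ρ', e', he'⟩ :=
      Groth.Agent.S14290.result Λ S S₀ f i f₀ hsq hreg JJ hJJ n hn3 hn S' hgal τ hτ
    have aE' : K262.EllPtd.AbS E' := K262.EllPtd.AbS.of_isAbSch hE'
    have hq' : K262.EllSplit.CP (S'.hom ≫ f) (Red.bc S'.hom JJ) E'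
        (e'.hom.hom.hom.left ≫ pullback.fst E'.hom (S'.hom ≫ f)) :=
      ((K262.EllSplit.CP.of_iso e').comp (K262.EllSplit.cp_bc (S'.hom ≫ f) E')).congr (Category.id_comp _)
    have hρ' : ∀ g : Aut S', K262.GalD.act S'.hom (fun g : Aut S' => g.hom.hom.left) hgalD.comp JJ g ≫
        e'.hom.hom.hom.left ≫ pullback.fst E'.hom (S'.hom ≫ f) =
        (e'.hom.hom.hom.left ≫ pullback.fst E'.hom (S'.hom ≫ f)) ≫ (ρ' g).hom.hom.hom.left := fun g => by
      have h1 := congrArg (· ≫ pullback.fst E'.hom (S'.hom ≫ f)) (he' g)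
      simp only [Category.assoc] at h1
      refine h1.trans ?_
      rw [pullback.lift_fst]
      exact (Category.assoc _ _ _).symm
    have hc₀' : ConnectedSpace ↥((𝟭 Scheme).obj S₀'.left) := hc₀
    obtain ⟨r, hr, hrρ⟩ := K262.AB.core S'.hom S₀'.hom i i' f f₀ hsq hsq' (fun g : Aut S' => g.hom.hom.left)
      hgalD.comp (fun g : Aut S' => (θ g).hom.hom.left) hgalD₀.comp hθ E (fun g => (ρ₀ g).hom.hom.hom.left) J _ hq₀ hρ₀
      JJ _ hu E' (fun g => (ρ' g).hom.hom.hom.left) _ hq' hρ'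
    refine ⟨E', inferInstance, hE', ρ', hr.iso.symm, fun g => ?_⟩
    have h1 : hr.iso.hom.hom.hom ≫ (Over.pullback (Spec.map (CommRingCat.ofHom (IsLocalRing.residue Λ)))).map
        (ρ' g).hom.hom.hom = (ρ₀ g).hom.hom.hom ≫ hr.iso.hom.hom.hom := by
      ext1
      refine pullback.hom_ext ?_ ?_
      · rw [Over.comp_left, Over.comp_left, Category.assoc, Category.assoc, K262.GalD.map_left_fst,
          K262.EllSplit.CP.iso_hom_fst, K262.EllSplit.CP.iso_hom_fst_assoc]
        exact (hrρ g).symm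
      · rw [Over.comp_left, Over.comp_left, Category.assoc, Category.assoc, K262.GalD.map_left_snd,
          K262.EllSplit.CP.iso_hom_snd]
        exact (Over.w (ρ₀ g).hom.hom.hom).symm
    have h2 : hr.iso.symm.hom.hom.hom ≫ hr.iso.hom.hom.hom = 𝟙 _ :=
      congrArg (fun m : Grp.mk _ ⟶ Grp.mk _ => m.hom.hom) hr.iso.inv_hom_id
    have h3 : hr.iso.hom.hom.hom ≫ hr.iso.symm.hom.hom.hom = 𝟙 _ :=
      congrArg (fun m : Grp.mk _ ⟶ Grp.mk _ => m.hom.hom) hr.iso.hom_inv_id
    calc _ = (hr.iso.symm.hom.hom.hom ≫ hr.iso.hom.hom.hom) ≫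
            (Over.pullback (Spec.map (CommRingCat.ofHom (IsLocalRing.residue Λ)))).map (ρ' g).hom.hom.hom ≫
              hr.iso.symm.hom.hom.hom := by rw [h2, Category.id_comp]
      _ = hr.iso.symm.hom.hom.hom ≫ (hr.iso.hom.hom.hom ≫
            (Over.pullback (Spec.map (CommRingCat.ofHom (IsLocalRing.residue Λ)))).map (ρ' g).hom.hom.hom) ≫
              hr.iso.symm.hom.hom.hom := by simp only [Category.assoc]
      _ = hr.iso.symm.hom.hom.hom ≫ (ρ₀ g).hom.hom.hom ≫ hr.iso.hom.hom.hom ≫ hr.iso.symm.hom.hom.hom := by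
        rw [h1, Category.assoc]
      _ = _ := by rw [h3, Category.comp_id]
  · rintro ⟨EE, _, hEE, ρ, ee, hee⟩
    have aEE : K262.EllPtd.AbS EE := K262.EllPtd.AbS.of_isAbSch hEE
    obtain ⟨JJ, _, q, hJJ, hcp, hinv⟩ := K262.BA.exists_model (S'.hom : S'.left ⟶ S) f
      (fun g : Aut S' => g.hom.hom.left) hgalD rfl (fun g g' => rfl) hfree EE hEE ρ
    have aJJ : K262.EllPtd.AbS JJ := K262.EllPtd.AbS.of_isAbSch hJJ
    refine ⟨JJ, inferInstance, hJJ, ?_⟩
    have hr : K262.EllSplit.CP (K262.EllGeom.res Λ) E EE (ee.inv.hom.hom.left ≫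
        pullback.fst EE.hom (K262.EllGeom.res Λ)) :=
      ((K262.EllSplit.CP.of_iso ee.symm).comp (K262.EllSplit.cp_bc (K262.EllGeom.res Λ) EE)).congr (Category.id_comp _)
    have hw1 : ∀ g, EE.hom ≫ 𝟙 _ = (ρ g).hom.hom.hom.left ≫ EE.hom := fun g =>
      (Category.comp_id _).trans (Over.w (ρ g).hom.hom.hom).symm
    have hw2 : ∀ g : Aut S', ((S'.hom : S'.left ⟶ S) ≫ f) ≫ 𝟙 _ = g.hom.hom.left ≫ (S'.hom : S'.left ⟶ S) ≫ f :=
      fun g => by
        rw [Category.comp_id, ← Category.assoc, hgalD.comp]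
    refine K262.BA.compare (S'.hom : S'.left ⟶ S) (S₀'.hom : S₀'.left ⟶ S₀) i i' f f₀ hsq hsq'
      (fun g : Aut S' => g.hom.hom.left) (fun g : Aut S' => (θ g).hom.hom.left) hgalD₀ hθ E
      (fun g => (ρ₀ g).hom.hom.hom) J _ hq₀ hρ₀ EE (fun g => (ρ g).hom.hom.hom) _ hr (fun g => ?_) JJ q hcp
      (fun g => pullback.map EE.hom ((S'.hom : S'.left ⟶ S) ≫ f) EE.hom ((S'.hom : S'.left ⟶ S) ≫ f)
        (ρ g).hom.hom.hom.left g.hom.hom.left (𝟙 _) (hw1 g) (hw2 g))
      (fun g => pullback.lift_fst _ _ _) (fun g => pullback.lift_snd _ _ _)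
      (fun g => hinv g _ (pullback.lift_fst _ _ _) (pullback.lift_snd _ _ _))
    have h2 : ee.inv.hom.hom ≫ ee.hom.hom.hom = 𝟙 _ :=
      congrArg (fun m : Grp.mk _ ⟶ Grp.mk _ => m.hom.hom) ee.inv_hom_id
    have h3 : ee.hom.hom.hom ≫ ee.inv.hom.hom = 𝟙 _ :=
      congrArg (fun m : Grp.mk _ ⟶ Grp.mk _ => m.hom.hom) ee.hom_inv_id
    have h4 : (ρ₀ g).hom.hom.hom ≫ ee.inv.hom.hom = ee.inv.hom.hom ≫
        (Over.pullback (Spec.map (CommRingCat.ofHom (IsLocalRing.residue Λ)))).map (ρ g).hom.hom.hom := by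
      calc _ = (ee.inv.hom.hom ≫ ee.hom.hom.hom) ≫ (ρ₀ g).hom.hom.hom ≫ ee.inv.hom.hom := by
              rw [h2, Category.id_comp]
        _ = ee.inv.hom.hom ≫ (ee.hom.hom.hom ≫ (ρ₀ g).hom.hom.hom) ≫ ee.inv.hom.hom := by
              simp only [Category.assoc]
        _ = ee.inv.hom.hom ≫ (Over.pullback (Spec.map (CommRingCat.ofHom (IsLocalRing.residue Λ)))).map
              (ρ g).hom.hom.hom ≫ ee.hom.hom.hom ≫ ee.inv.hom.hom := by rw [← hee, Category.assoc]
        _ = _ := by rw [h3, Category.comp_id]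
    have h5 := congrArg (fun m => m.left ≫ pullback.fst EE.hom (K262.EllGeom.res Λ)) h4
    simp only [Over.comp_left, Category.assoc] at h5
    refine h5.trans ?_
    rw [K262.GalD.map_left_fst]
    exact (Category.assoc _ _ _).symm

end Groth.Agent.S14293
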