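import Groth.Statements.S14296
import Groth.Agent.PtDeg.K821.DegTwo
-- import your own Groth.Agent.* helpers here

set_option autoImplicit false
universe u v
open PtDeg

namespace Groth.Agent.S14296

/-- Let G and H be abelian groups, written additively, n an integer such that 2n²·x = 0 for every x in
G, and d : G → H a quadratic map, meaning that d is pointed of degree 2 (d(x+y+z) + d(x) + d(y) +
d(z) = d(x+y) + d(x+z) + d(y+z) for all x, y, z) and even (d(−x) = d(x) for all x). Then d(2n·x) = 0
for every x in G. -/
theorem result {G : Type u} {H : Type v} [AddCommGroup G] [AddCommGroup H]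
    (n : ℤ) (hn : ∀ x : G, (2 * n ^ 2) • x = 0)
    (d : G → H) (hd : ∀ x y z : G, d (x + y + z) + d x + d y + d z = d (x + y) + d (x + z) + d (y + z))
    (heven : ∀ x : G, d (-x) = d x) (x : G) :
    d ((2 * n) • x) = 0 := by
  have key : ∀ (N : ℤ), Even N → d (N • x) = (N ^ 2) • d x := by
    intro N hN
    obtain ⟨k, rfl⟩ := hN
    rw [K821.DegTwo.map_zsmul hd, heven, ← add_smul]
    congr 1
    have e1 : (k + k) * (k + k + 1) / 2 = k * (k + k + 1) := by
      rw [show (k + k) * (k + k + 1) = 2 * (k * (k + k + 1)) by ring]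
      exact Int.mul_ediv_cancel_left _ (by norm_num)
    have e2 : (k + k) * (k + k - 1) / 2 = k * (k + k - 1) := by
      rw [show (k + k) * (k + k - 1) = 2 * (k * (k + k - 1)) by ring]
      exact Int.mul_ediv_cancel_left _ (by norm_num)
    rw [e1, e2]; ring
  rw [key _ (even_two_mul n)]
  have h := K821.DegTwo.two_mul_zsmul_map_eq_zero hd (2 * n ^ 2) hn x
  rw [← h]
  congr 1
  ring

end Groth.Agent.S14296
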