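import Groth.Statements.S14299
import Groth.Agent.GrpSch.K269.QuotSemi

set_option autoImplicit false
universe u
open CategoryTheory CategoryTheory.Limits MonoidalCategory CartesianMonoidalCategory MonObj GrpObj AlgebraicGeometry
open GrpSch

namespace Groth.Agent.S14299

/-- Let S be a locally Noetherian scheme and A → S a semi-stable S-group scheme, that is a commutative
S-group scheme which is smooth, separated and of finite type over S and none of whose geometric
fibres contains a closed subgroup isomorphic to the additive group (the neutral components of the
fibres are extensions of abelian varieties by tori). Let i : K → A be a closed subgroup scheme which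
is flat and quasi-finite over S, and assume one of: (i) there is an étale surjective S′ → S such
that A ×_S S′ is quasi-projective over S′; (ii) K is étale over S. Then the quotient sheaf A/K is an
S-group scheme: there are a commutative S-group scheme Q and a homomorphism q : A → Q which is flat
and surjective and whose kernel is K (so that Q is the quotient of A by K for the fppf topology),
and Q is again semi-stable. -/
theorem result {S : Scheme.{u}} [IsLocallyNoetherian S]
    (A : Over S) [GrpObj A] [IsCommMonObj A] [Smooth A.hom] [IsSeparated A.hom] [QuasiCompact A.hom]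
    (hA : SGA7.FibresUnipotentRankZero A)
    (K : Over S) [GrpObj K] (i : K ⟶ A) [IsMonHom i] [IsClosedImmersion i.left]
    [Flat K.hom] [LocallyQuasiFinite K.hom]
    (hcase : (∃ (S' : Scheme.{u}) (g : S' ⟶ S), Etale g ∧ Surjective g ∧ RelProj.IsQuasiProjective (Red.bc g A).hom) ∨
      Etale K.hom) :
    ∃ (Q : Over S) (_ : GrpObj Q) (_ : IsCommMonObj Q) (q : A ⟶ Q),
      IsMonHom q ∧ Flat q.left ∧ Surjective q.left ∧ AlgGrp.IsKernel i q ∧
      Smooth Q.hom ∧ IsSeparated Q.hom ∧ QuasiCompact Q.hom ∧ SGA7.FibresUnipotentRankZero Q := by
  obtain ⟨Q, gQ, cQ, q, h1, h2, h3, -, h5, h6, h7, h8, h9⟩ := K269.QuotSemi.main i hA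
  exact ⟨Q, gQ, cQ, q, h1, h2, h3, h5, h6, h7, h8, h9⟩

end Groth.Agent.S14299
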