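import Groth.Statements.S14300
import Groth.Agent.GrpSch.K269.PushSemi

set_option autoImplicit false
universe u
open CategoryTheory CategoryTheory.Limits MonoidalCategory CartesianMonoidalCategory MonObj GrpObj AlgebraicGeometry
open GrpSch

namespace Groth.Agent.S14300

/-- Let S be a locally Noetherian scheme and A → S a semi-stable S-group scheme (commutative, smooth,
separated and of finite type over S, no geometric fibre containing a closed subgroup isomorphic to
the additive group). Let H and H′ be commutative S-group schemes which are étale, separated and
quasi-finite over S, j : H → H′ a homomorphism which is an open immersion and φ : H → A a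
homomorphism which is a finite morphism. Then the amalgamated sum A′ = A ⊔_H H′ exists in the
category of commutative S-group schemes: there are a commutative S-group scheme A′ and homomorphisms
u : A → A′, v : H′ → A′ with φu = jv such that every pair of homomorphisms a : A → Q, b : H′ → Q
into a commutative S-group scheme Q with φa = jb factors through a unique homomorphism A′ → Q;
moreover v is finite, u is an open immersion and A′ is semi-stable. (The published statement allows
any base scheme S; its proof goes through the quotient lemma for semi-stable groups by closed flat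
quasi-finite étale subgroups, which is stated for locally Noetherian bases, so this row assumes S
locally Noetherian.) -/
theorem result {S : Scheme.{u}} [IsLocallyNoetherian S]
    (A : Over S) [GrpObj A] [IsCommMonObj A] [Smooth A.hom] [IsSeparated A.hom] [QuasiCompact A.hom]
    (hA : SGA7.FibresUnipotentRankZero A)
    (H H' : Over S) [GrpObj H] [IsCommMonObj H] [GrpObj H'] [IsCommMonObj H']
    [Etale H.hom] [IsSeparated H.hom] [QuasiCompact H.hom] [LocallyQuasiFinite H.hom]
    [Etale H'.hom] [IsSeparated H'.hom] [QuasiCompact H'.hom] [LocallyQuasiFinite H'.hom]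
    (j : H ⟶ H') [IsMonHom j] [IsOpenImmersion j.left]
    (φ : H ⟶ A) [IsMonHom φ] [IsFinite φ.left] :
    ∃ (A' : Over S) (_ : GrpObj A') (_ : IsCommMonObj A') (u : A ⟶ A') (v : H' ⟶ A'),
      IsMonHom u ∧ IsMonHom v ∧ φ ≫ u = j ≫ v ∧
      (∀ (Q : Over S) [GrpObj Q] [IsCommMonObj Q] (a : A ⟶ Q) (b : H' ⟶ Q),
        IsMonHom a → IsMonHom b → φ ≫ a = j ≫ b →
          ∃! c : A' ⟶ Q, IsMonHom c ∧ u ≫ c = a ∧ v ≫ c = b) ∧
      IsFinite v.left ∧ IsOpenImmersion u.left ∧
      Smooth A'.hom ∧ IsSeparated A'.hom ∧ QuasiCompact A'.hom ∧ SGA7.FibresUnipotentRankZero A' := by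
  exact K269.PushSemi.main A hA H H' j φ

end Groth.Agent.S14300
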