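import Groth.Statements.S14306
import Groth.Agent.GrpSch.K270.MB.Asm
import Groth.Agent.GrpSch.K270.MB.PackV
import Groth.Agent.GrpSch.K269.EmOf
import Groth.Agent.GrpSch.K269.RedBridge
import Groth.Agent.GrpSch.K567.PackR
import Groth.Agent.GrpSch.K86.KMFin
import Groth.Agent.GrpSch.K388.NodeTPair

set_option autoImplicit false
universe u
open CategoryTheory CategoryTheory.Limits MonoidalCategory CartesianMonoidalCategory MonObj GrpObj AlgebraicGeometry
open GrpSch

namespace Groth.Agent.S14306

/-- Let S be an integral, locally Noetherian and normal scheme with generic point η, and A → S a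
semi-stable S-group scheme (commutative, smooth, separated and of finite type over S, no geometric
fibre containing a closed subgroup isomorphic to the additive group) whose generic fibre A_η is an
abelian variety (proper over κ(η) and connected). Let A_η^t be a commutative κ(η)-group scheme
which, with dual data φ, presents the dual of A_η for the fppf topology, and L an invertible module
on A_η which is non-degenerate: the homomorphism λ : A_η → A_η^t attached to L through φ has finite
kernel K(L). Assume either that every local ring of S is regular, or that L is symmetric ([−1]^*L ≅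
L). Then K(L) extends to a closed subgroup scheme of A which is flat and quasi-finite over S: there
are an S-group scheme K and a homomorphism i : K → A which is a closed immersion, with K flat and
locally quasi-finite over S, such that the generic fibre i_η : K_η → A_η is a kernel of λ. (Such a K
is then the schematic closure of K(L) in A. The published statement assumes, instead of L symmetric,
that L with its cubical structure extends as a cubical torsor to the neutral component of A, a
condition it derives from either of the two assumptions made here.) -/
theorem result {S : Scheme.{u}} [IsIntegral S] [IsLocallyNoetherian S]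
    (hSn : Pi1.IsNormalScheme S)
    (A : Over S) [GrpObj A] [IsCommMonObj A] [Smooth A.hom] [IsSeparated A.hom] [QuasiCompact A.hom]
    (hA : SGA7.FibresUnipotentRankZero A)
    (hprop : IsProper (Red.bc (S.fromSpecResidueField (genericPoint S)) A).hom)
    (hconn : ConnectedSpace ↥((Red.bc (S.fromSpecResidueField (genericPoint S)) A).left))
    (At : Over (Spec (S.residueField (genericPoint S)))) [GrpObj At] [IsCommMonObj At]
    (φ : AgPol.DualMap (Red.bc (S.fromSpecResidueField (genericPoint S)) A) At)
    (hdual : AbDual.IsDualAV Scheme.fppfPrecoverage (Red.bc (S.fromSpecResidueField (genericPoint S)) A) At φ)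
    (L : ((Red.bc (S.fromSpecResidueField (genericPoint S)) A).left).Modules) (hL : PicF.IsInvertible L)
    (hsuff : (∀ x : S, IsRegularLocalRing (S.presheaf.stalk x)) ∨
      Nonempty ((Scheme.Modules.pullback (𝟙 (Red.bc (S.fromSpecResidueField (genericPoint S)) A) ^ (-1 : ℤ)).left).obj L ≅ L))
    (lam : Red.bc (S.fromSpecResidueField (genericPoint S)) A ⟶ At) (hlam : AgPol.IsLambda (Red.bc (S.fromSpecResidueField (genericPoint S)) A) At φ L lam)
    (hfin : ∀ (N : Over (Spec (S.residueField (genericPoint S)))) (j : N ⟶ Red.bc (S.fromSpecResidueField (genericPoint S)) A),
      AlgGrp.IsKernel j lam → IsFinite N.hom) :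
    ∃ (K : Over S) (_ : GrpObj K) (i : K ⟶ A), IsMonHom i ∧ IsClosedImmersion i.left ∧
      Flat K.hom ∧ LocallyQuasiFinite K.hom ∧
      AlgGrp.IsKernel ((Over.pullback (S.fromSpecResidueField (genericPoint S))).map i) lam := by
  exact K269.RedBridge.main (K270.MB.nodeLocal (K269.EmOf.main (K567.PackR.main
    (K270.MB.packV K86.KMFin.main K388.TPair.nodeTPair)))) hSn A hA hprop hconn At φ hdual L hL lam hlam hfin

end Groth.Agent.S14306
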