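import Groth.Statements.S14301
import Groth.Agent.GrpSch.K567.Row14301
import Groth.Agent.S14306

set_option autoImplicit false
universe u
open CategoryTheory CategoryTheory.Limits MonoidalCategory CartesianMonoidalCategory MonObj GrpObj AlgebraicGeometry
open GrpSch

namespace Groth.Agent.S14301

/-- Let S be an integral, locally Noetherian and normal scheme with generic point η, and A → S a
semi-stable S-group scheme (commutative, smooth, separated and of finite type over S, no geometric
fibre containing a closed subgroup isomorphic to the additive group) whose generic fibre A_η is an
abelian variety, i.e. proper over κ(η) and connected. Let A_η^t be a commutative κ(η)-group scheme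
which, with dual data φ, presents the dual of A_η for the fppf topology. Then A_η^t extends to a
semi-stable S-group scheme with connected fibres: there are a commutative S-group scheme B which is
smooth, separated and of finite type over S, all of whose fibres are connected and none of whose
geometric fibres contains a closed subgroup isomorphic to the additive group, and an isomorphism of
κ(η)-group schemes B_η ≅ A_η^t. (The published statement adds that such an extension is unique, and
extends the Poincaré biextension as well; only the existence of the extension is stated here.) -/
theorem result {S : Scheme.{u}} [IsIntegral S] [IsLocallyNoetherian S]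
    (hSn : Pi1.IsNormalScheme S)
    (A : Over S) [GrpObj A] [IsCommMonObj A] [Smooth A.hom] [IsSeparated A.hom] [QuasiCompact A.hom]
    (hA : SGA7.FibresUnipotentRankZero A)
    (hprop : IsProper (Red.bc (S.fromSpecResidueField (genericPoint S)) A).hom)
    (hconn : ConnectedSpace ↥((Red.bc (S.fromSpecResidueField (genericPoint S)) A).left))
    (At : Over (Spec (S.residueField (genericPoint S)))) [GrpObj At] [IsCommMonObj At]
    (φ : AgPol.DualMap (Red.bc (S.fromSpecResidueField (genericPoint S)) A) At)
    (hdual : AbDual.IsDualAV Scheme.fppfPrecoverage (Red.bc (S.fromSpecResidueField (genericPoint S)) A) At φ) :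
    ∃ (B : Over S) (_ : GrpObj B) (_ : IsCommMonObj B)
      (e : Red.bc (S.fromSpecResidueField (genericPoint S)) B ≅ At),
      IsMonHom e.hom ∧ Smooth B.hom ∧ IsSeparated B.hom ∧ QuasiCompact B.hom ∧
      SGA7.FibresUnipotentRankZero B ∧ ∀ s : S, ConnectedSpace ↥(B.hom.fiber s) := by
  exact K567.Row14301.of14306 A hA hprop hconn At φ hdual fun L hL hs lam hlam hfin =>
    S14306.result hSn A hA hprop hconn At φ hdual L hL (Or.inr hs) lam hlam hfin

end Groth.Agent.S14301
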