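import Groth.Statements.S14302
import Groth.Agent.GrpSch.K267.SemiPow

set_option autoImplicit false
universe u
open CategoryTheory CategoryTheory.Limits MonoidalCategory CartesianMonoidalCategory MonObj GrpObj AlgebraicGeometry
open GrpSch

namespace Groth.Agent.S14302

open CategoryTheory.MonoidalCategory CartesianMonoidalCategory Groth.Agent K267.SemiPow Groth.Agent.Sga3B.KerGrp Groth.Agent.Ega4fib.H141

/-- Let R be a Noetherian normal local domain, S = Spec R with closed point s, and A → S a semi-stable
S-group scheme (commutative, smooth, separated and of finite type over S, no geometric fibre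
containing a closed subgroup isomorphic to the additive group). Let U ⊆ S be a big open subscheme
(the local ring of S at every point outside U has depth at least 2) and n ≥ 1 an integer killing the
group of connected components of the special fibre: multiplication by n on A maps every point of A_s
into the connected component of the unit section inside A_s. Assume that for every algebraically
closed field Ω with an injective ring map R → Ω, every point c of A with values in Spec Ω over S
satisfying c^n = 1 is obtained from a section u of A over U with u^n = 1 by composing with a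
morphism Spec Ω → U over S. Then for every point a of the special fibre A_s there is a section u of
A over S with u^n = 1 whose value at s lies in the connected component of a inside A_s. (The
published lemma takes n killing the component groups of the fibres at the points outside U; this row
assumes it for the special fibre, which is the hypothesis its proof uses.) -/
theorem result (R : Type u) [CommRing R] [IsDomain R]
    [IsNoetherianRing R] [IsLocalRing R] [IsIntegrallyClosed R]
    (A : Over (Spec (CommRingCat.of R))) [GrpObj A] [IsCommMonObj A] [Smooth A.hom] [IsSeparated A.hom] [QuasiCompact A.hom]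
    (hA : SGA7.FibresUnipotentRankZero A)
    (U : (Spec (CommRingCat.of R)).Opens)
    (hU : ∀ x : ↥(Spec (CommRingCat.of R)), x ∉ U →
      2 ≤ LocCoh.depth ((Spec (CommRingCat.of R)).presheaf.stalk x) ((Spec (CommRingCat.of R)).presheaf.stalk x))
    (n : ℕ) (hn : 1 ≤ n)
    (hΦ : ∀ a ∈ SGA7.specialFibreSet R A,
      ((𝟙 A) ^ n).left.base a ∈ connectedComponentIn (SGA7.specialFibreSet R A) (η[A].left.base (IsLocalRing.closedPoint R)))
    (hR1 : ∀ (Ω : Type u) [Field Ω] [IsAlgClosed Ω] [Algebra R Ω], Function.Injective (algebraMap R Ω) →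
      ∀ c : Over.mk (Spec.map (CommRingCat.ofHom (algebraMap R Ω))) ⟶ A, c ^ n = 1 →
        ∃ (v : Over.mk U.ι ⟶ A) (g : Spec (CommRingCat.of Ω) ⟶ (U : Scheme.{u})),
          v ^ n = 1 ∧ g ≫ U.ι = Spec.map (CommRingCat.ofHom (algebraMap R Ω)) ∧ g ≫ v.left = c.left) :
    ∀ a ∈ SGA7.specialFibreSet R A,
      ∃ u : 𝟙_ (Over (Spec (CommRingCat.of R))) ⟶ A, u ^ n = 1 ∧ a ∈ SGA7.secComp R A u := by
  have hn' : 0 < n := hn
  obtain ⟨hfl, hlqf⟩ := flat_lqf_pow A hA n hn'
  have hmon := isMonHom_pow A n
  let s : Spec (CommRingCat.of R) := IsLocalRing.closedPoint R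
  -- the kernel
  let N : Over (Spec (CommRingCat.of R)) := kerObj ((𝟙 A : A ⟶ A) ^ n)
  let i : N ⟶ A := kerι ((𝟙 A : A ⟶ A) ^ n)
  have hNfl : Flat N.hom := inferInstanceAs (Flat (pullback.snd ((𝟙 A : A ⟶ A) ^ n).left _))
  have hNlqf : LocallyQuasiFinite N.hom :=
    inferInstanceAs (LocallyQuasiFinite (pullback.snd ((𝟙 A : A ⟶ A) ^ n).left _))
  have hicl : IsClosedImmersion i.left := inferInstance
  have hi : i.left ≫ A.hom = N.hom := Over.w i
  have hNlft : LocallyOfFiniteType N.hom := by rw [← hi]; infer_instance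
  have hNqc : QuasiCompact N.hom := by rw [← hi]; infer_instance
  have hNsep : IsSeparated N.hom := by rw [← hi]; infer_instance
  intro a ha
  obtain ⟨x', hx'1, hx1⟩ := exists_torsion_point_fibre A hA n hn' s a ha (hΦ a ha)
  obtain ⟨x, hx, hxs⟩ := Scheme.Pullback.exists_preimage_pullback
    (f := ((𝟙 A : A ⟶ A) ^ n).left) (g := (η[A] : 𝟙_ (Over (Spec (CommRingCat.of R))) ⟶ A).left)
    x' s hx1
  have hxi : i.left x = x' := hx
  have hxs' : N.hom x = s := hxs
  -- a generization over the generic point
  obtain ⟨y, hyx, hy⟩ : ∃ y : N.left, y ⤳ x ∧ N.hom y = genericPoint (Spec (CommRingCat.of R)) := by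
    have h1 := Flat.generalizingMap N.hom
    obtain ⟨y, hy, hy'⟩ := h1 (a := x) (b := genericPoint (Spec (CommRingCat.of R)))
      (genericPoint_specializes _)
    exact ⟨y, hy, hy'⟩
  let Ω : Type u := AlgebraicClosure (N.left.residueField y)
  let g0 : Spec (CommRingCat.of Ω) ⟶ N.left :=
    Spec.map (CommRingCat.ofHom (algebraMap (N.left.residueField y) Ω)) ≫ N.left.fromSpecResidueField y
  have hg0 : g0 (IsLocalRing.closedPoint Ω) = y :=
    (Scheme.Hom.comp_apply _ _ _).trans (Scheme.fromSpecResidueField_apply _ _)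
  obtain ⟨p₀, hp₀⟩ : ∃ p₀ : ↥(Spec (CommRingCat.of Ω)), g0 p₀ = y := ⟨_, hg0⟩
  let ψ : R →+* Ω := (Spec.preimage (g0 ≫ N.hom)).hom
  have hψ : Spec.map (CommRingCat.ofHom ψ) = g0 ≫ N.hom := Spec.map_preimage _
  let _ : Algebra R Ω := ψ.toAlgebra
  have hinj : Function.Injective (algebraMap R Ω) := by
    rw [injective_iff_map_eq_zero]
    intro r hr
    have h1 : (Spec.map (CommRingCat.ofHom ψ)) p₀ = genericPoint (Spec (CommRingCat.of R)) := by
      rw [hψ, Scheme.Hom.comp_apply, hp₀, hy]
    have h2 : r ∈ ((Spec.map (CommRingCat.ofHom ψ)) p₀).asIdeal := by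
      change ψ r ∈ p₀.asIdeal
      have : ψ r = 0 := hr
      rw [this]
      exact Ideal.zero_mem _
    rw [h1, genericPoint_eq_bot_of_affine] at h2
    exact h2
  let T : Over (Spec (CommRingCat.of R)) := Over.mk (Spec.map (CommRingCat.ofHom (algebraMap R Ω)))
  let c0 : T ⟶ N := Over.homMk g0 hψ.symm
  have hc : (c0 ≫ i) ^ n = 1 := by
    have h1 : (c0 ≫ i) ^ n = (c0 ≫ i) ≫ ((𝟙 A : A ⟶ A) ^ n) := by
      rw [MonObj.comp_pow, Category.comp_id]
    rw [h1, Category.assoc, kerι_comp, MonObj.comp_one]
  obtain ⟨v, g, hv, hg, hgv⟩ := hR1 Ω hinj (c0 ≫ i) hc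
  obtain ⟨v', hv'⟩ := exists_lift ((𝟙 A : A ⟶ A) ^ n) v (by rw [MonObj.comp_pow, Category.comp_id, hv])
  -- the section passes through `y`
  have hgy : v'.left (g p₀) = y := by
    have h1 : Function.Injective i.left := i.left.isClosedEmbedding.injective
    apply h1
    have h2 : v'.left ≫ i.left = v.left := congrArg CommaMorphism.left hv'
    have h3 : i.left (v'.left (g p₀)) = (g ≫ v'.left ≫ i.left) p₀ := by
      rw [Scheme.Hom.comp_apply, Scheme.Hom.comp_apply]
    rw [h3, h2, hgv, Over.comp_left, Scheme.Hom.comp_apply]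
    exact congrArg _ hp₀
  have hUne : Nonempty U := ⟨g p₀⟩
  have hcl : x ∈ closure (Set.range v'.left) :=
    closure_mono (Set.singleton_subset_iff.2 (Set.mem_range.2 ⟨g p₀, hgy⟩)) hyx.mem_closure
  have hnorm : ∀ z : Spec (CommRingCat.of R), IsIntegrallyClosed ((Spec (CommRingCat.of R)).presheaf.stalk z) := by
    intro z
    let _ : Algebra R ((Spec (CommRingCat.of R)).presheaf.stalk z) := StructureSheaf.stalkAlgebra R z
    have hz : z.asIdeal.IsPrime := PrimeSpectrum.isPrime z
    have : IsLocalization.AtPrime ((Spec (CommRingCat.of R)).presheaf.stalk z) z.asIdeal :=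
      StructureSheaf.IsLocalization.to_stalk R z
    exact isIntegrallyClosed_of_isLocalization _ z.asIdeal.primeCompl
      (Ideal.primeCompl_le_nonZeroDivisors _)
  obtain ⟨σ, hσ1, hσ2⟩ := exists_section (X := Spec (CommRingCat.of R)) hnorm N.hom U v'.left
    (Over.w v') x hcl (fun z => by rw [hxs']; exact IsLocalRing.specializes_closedPoint (R := R) z)
  let σ' : 𝟙_ (Over (Spec (CommRingCat.of R))) ⟶ N := Over.homMk σ hσ1
  refine ⟨σ' ≫ i, ?_, ?_⟩
  · have h1 : (σ' ≫ i) ^ n = (σ' ≫ i) ≫ ((𝟙 A : A ⟶ A) ^ n) := by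
      rw [MonObj.comp_pow, Category.comp_id]
    rw [h1, Category.assoc, kerι_comp, MonObj.comp_one]
  · have h1 : (σ' ≫ i).left s = x' := by
      rw [Over.comp_left, Scheme.Hom.comp_apply, ← hxi]
      congr 1
      rw [← hxs']
      exact hσ2
    change a ∈ connectedComponentIn (SGA7.specialFibreSet R A) ((σ' ≫ i).left s)
    rw [h1]
    have h2 : connectedComponentIn (SGA7.specialFibreSet R A) a =
        connectedComponentIn (SGA7.specialFibreSet R A) x' := connectedComponentIn_eq hx'1
    rw [← h2]
    exact mem_connectedComponentIn ha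

end Groth.Agent.S14302
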