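import Groth.Statements.S14303
import Groth.Agent.GrpSch.K267.LamSurj
import Groth.Agent.S4061
import Groth.Agent.Sga7.H756.DvrPt
import Groth.Agent.Sga7.H756.GenBase
import Groth.Agent.TateLoc.K59.DevKey
import Groth.Agent.Sga3C.GrpIrr

set_option autoImplicit false
universe u
open CategoryTheory CategoryTheory.Limits MonoidalCategory CartesianMonoidalCategory MonObj GrpObj AlgebraicGeometry
open GrpSch

namespace Groth.Agent.S14303

open Groth.Agent Groth.Agent.Grpsch.PicGrp K732.Dual K528.MumZero K267.LamSurj
  Groth.Agent.Sga7.H756.GenBase Groth.Agent.Sga7.H756.DvrPt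

/-- An isogeny over an open point gives an isogeny on the fibre. -/
theorem isIsogenyOver_fibreHom {S T : Scheme.{u}} (j : T ⟶ S) (t : S)
    (g : Spec (S.residueField t) ⟶ T) (hg : g ≫ j = S.fromSpecResidueField t)
    {G H : Over S} [GrpObj G] [GrpObj H] (v : G ⟶ H)
    (hs : Surjective ((Over.pullback j).map v).left)
    (hfin : ∀ (N : Over T) (i : N ⟶ Red.bc j G), AlgGrp.IsKernel i ((Over.pullback j).map v) →
      IsFinite N.hom) : SGA7.IsIsogenyOver (SGA7.fibreHom t v) := by
  constructor
  · refine ⟨fun h => ?_⟩
    let f : Spec (S.residueField t) ⟶ S := S.fromSpecResidueField t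
    let h' : H.left := bcι f H h
    have h1 : h' ∈ Set.range (bcι j H) := by
      change h' ∈ Set.range (pullback.fst H.hom j)
      rw [Scheme.Pullback.range_fst]
      refine ⟨g (((Over.pullback f).obj H).hom h), ?_⟩
      have h2 := (isPullback_bcι f H).w
      have h3 : H.hom h' = f (((Over.pullback f).obj H).hom h) := by
        rw [← Scheme.Hom.comp_apply, h2, Scheme.Hom.comp_apply]
      rw [h3, ← Scheme.Hom.comp_apply, hg]
    obtain ⟨h2, hh2⟩ := h1
    obtain ⟨g2, hg2⟩ := ((Over.pullback j).map v).left.surjective h2
    have h3 : v.left (bcι j G g2) = h' := by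
      rw [← hh2, ← hg2, ← Scheme.Hom.comp_apply, ← Scheme.Hom.comp_apply, bcι_naturality]
    obtain ⟨z, hz1, -⟩ := Scheme.exists_preimage_of_isPullback (isPullback_map f v) h
      (bcι j G g2) h3.symm
    exact ⟨z, hz1⟩
  · intro N i hN
    have hk := Sga3B.KerGrp.isPullback_ker v
    obtain ⟨e, -⟩ := Sga7.H760.KerBc.exists_iso hN
      (Sga7.H760.KerBc.isKernel_bc (S.fromSpecResidueField t) hk)
    have h1 : IsFinite (Red.bc j (Sga3B.KerGrp.kerObj v)).hom :=
      hfin _ _ (Sga7.H760.KerBc.isKernel_bc j hk)
    have h2 : IsFinite (Red.bc (S.fromSpecResidueField t) (Sga3B.KerGrp.kerObj v)).hom := by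
      have h3 : IsPullback (pullback.fst (Sga3B.KerGrp.kerObj v).hom (S.fromSpecResidueField t))
          (pullback.snd (Sga3B.KerGrp.kerObj v).hom (S.fromSpecResidueField t))
          (Sga3B.KerGrp.kerObj v).hom (g ≫ j) := by
        rw [hg]
        exact IsPullback.of_hasPullback _ _
      exact MorphismProperty.of_isPullback (P := @IsFinite)
        (IsPullback.of_right' h3 (IsPullback.of_hasPullback (Sga3B.KerGrp.kerObj v).hom j)) h1
    rw [← Over.w e.hom]
    have heiso : IsIso e.hom.left := inferInstanceAs (IsIso ((Over.forget _).map e.hom))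
    infer_instance

/-- A morphism into a separated group which is a homomorphism on a schematically dense open. -/
theorem isMonHom_of_gen {S T : Scheme.{u}} (j : T ⟶ S) [QuasiCompact j]
    [IsSchemeTheoreticallyDominant j] {G H : Over S} [GrpObj G] [GrpObj H] [Flat G.hom]
    [IsSeparated H.hom] (v : G ⟶ H) (h : IsMonHom ((Over.pullback j).map v)) : IsMonHom v := by
  have h2 : Flat (G ⊗ G : Over S).hom := by
    rw [Over.tensorObj_hom]
    infer_instance
  have key : (fst G G * snd G G) ≫ v = (fst G G ≫ v) * (snd G G ≫ v) := by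
    apply ext_of_flat j
    have hmul : ∀ {X Y : Over S} [GrpObj Y] (a b : X ⟶ Y), (Over.pullback j).map (a * b) =
        ((Over.pullback j).map a : Red.bc j X ⟶ Red.bc j Y) * (Over.pullback j).map b :=
      fun a b => Functor.map_mul _ _ _
    rw [Functor.map_comp, hmul, hmul, Functor.map_comp, Functor.map_comp, MonObj.mul_comp]
  have hmulcomp : ∀ (X : Over S) (x y : X ⟶ G), (x * y) ≫ v = (x ≫ v) * (y ≫ v) := by
    intro X x y
    have h1 := lift x y ≫= key
    rw [← Category.assoc, MonObj.comp_mul, MonObj.comp_mul, lift_fst, lift_snd, ← Category.assoc,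
      ← Category.assoc, lift_fst, lift_snd] at h1
    exact h1
  exact K59.DevKey.isMonHom_of_mul v hmulcomp


/-- Let R be a discrete valuation ring with fraction field K and S = Spec R; let A → S be a semi-stable
S-group scheme (commutative, smooth, separated and of finite type over S, no geometric fibre
containing a closed subgroup isomorphic to the additive group) whose generic fibre A_K is an abelian
variety (proper over K and connected); let A^t → S be a commutative S-group scheme which is a Néron
model of its generic fibre A^t_K, and let dual data φ present A^t_K as the dual of A_K for the fppf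
topology. Let L be an invertible module on A_K whose associated homomorphism λ_K : A_K → A^t_K has
finite kernel (L is non-degenerate), and let λ : A → A^t be an S-morphism inducing λ_K on generic
fibres (it exists and is unique by the Néron property). Then λ is flat and locally quasi-finite; in
particular its kernel, the closed subgroup K_S(L) of A, is flat and quasi-finite over S. (The
published statement assumes A only smooth of finite type with semi-stability as an extra hypothesis,
takes L rigidified, and also asserts that λ is surjective on neutral components; that assertion is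
not stated here.) -/
theorem result
    (R K : Type u) [CommRing R] [IsDomain R] [IsDiscreteValuationRing R] [Field K] [Algebra R K] [IsFractionRing R K]
    (A : Over (Spec (CommRingCat.of R))) [GrpObj A] [IsCommMonObj A] [Smooth A.hom] [IsSeparated A.hom] [QuasiCompact A.hom]
    (hA : SGA7.FibresUnipotentRankZero A)
    (hprop : IsProper ((SGA7.genFib R K).obj A).hom) (hconn : ConnectedSpace ↥(((SGA7.genFib R K).obj A).left))
    (At : Over (Spec (CommRingCat.of R))) [GrpObj At] [IsCommMonObj At] (hAt : SGA7.IsNeron R K At)
    (φ : AgPol.DualMap ((SGA7.genFib R K).obj A) ((SGA7.genFib R K).obj At))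
    (hdual : AbDual.IsDualAV Scheme.fppfPrecoverage ((SGA7.genFib R K).obj A) ((SGA7.genFib R K).obj At) φ)
    (L : (((SGA7.genFib R K).obj A).left).Modules) (hL : PicF.IsInvertible L)
    (lamK : (SGA7.genFib R K).obj A ⟶ (SGA7.genFib R K).obj At)
    (hlamK : AgPol.IsLambda ((SGA7.genFib R K).obj A) ((SGA7.genFib R K).obj At) φ L lamK)
    (hfin : ∀ (N : Over (Spec (CommRingCat.of K))) (i : N ⟶ (SGA7.genFib R K).obj A), AlgGrp.IsKernel i lamK → IsFinite N.hom)
    (lam : A ⟶ At) (hlam : (SGA7.genFib R K).map lam = lamK) :
    Flat lam.left ∧ LocallyQuasiFinite lam.left := by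
  obtain ⟨hAt1, hAt2, hAt3, -⟩ := hAt
  have i1 : Smooth ((SGA7.genFib R K).obj A).hom :=
    inferInstanceAs (Smooth (pullback.snd A.hom (jK R K)))
  have i2 : IsProper ((SGA7.genFib R K).obj A).hom := hprop
  have i3 : ConnectedSpace ((SGA7.genFib R K).obj A).left := hconn
  have i4 : GeometricallyConnected ((SGA7.genFib R K).obj A).hom := by
    have hg : GrpObj (Over.mk ((SGA7.genFib R K).obj A).hom) :=
      (inferInstance : GrpObj ((SGA7.genFib R K).obj A))
    have h2 : GeometricallyIrreducible ((SGA7.genFib R K).obj A).hom :=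
      Sga3C.GrpIrr.geometricallyIrreducible_of_connectedSpace _
    refine ⟨fun K' _ y Z g1 g2 h => ?_⟩
    have h3 : IrreducibleSpace Z := h2.geometrically_irreducibleSpace y g1 g2 h
    infer_instance
  have i5 : IsSeparated ((SGA7.genFib R K).obj At).hom :=
    inferInstanceAs (IsSeparated (pullback.snd At.hom (jK R K)))
  have hl : lamK = cm φ (mumCl ((SGA7.genFib R K).obj A) (mk L hL)) := lam_eq hL hlamK
  have hmonK : IsMonHom lamK := hl ▸ isMonHom_lam hdual _
  have hsurj : Surjective lamK.left := by
    rw [hl] at hfin ⊢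
    exact surjective_lam hdual _ hfin
  have hmon : IsMonHom lam := isMonHom_of_gen (jK R K) lam (by
    have : (Over.pullback (jK R K)).map lam = lamK := hlam
    rw [this]
    exact hmonK)
  let s : Spec (CommRingCat.of R) := IsLocalRing.closedPoint R
  let t : Spec (CommRingCat.of R) := jK R K (IsLocalRing.closedPoint K)
  have hts : t ⤳ s := IsLocalRing.specializes_closedPoint (R := R) t
  obtain ⟨g, hg⟩ : ∃ g : Spec ((Spec (CommRingCat.of R)).residueField t) ⟶
      Spec (CommRingCat.of K), g ≫ jK R K = (Spec (CommRingCat.of R)).fromSpecResidueField t := by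
    refine ⟨IsOpenImmersion.lift (jK R K) _ ?_, IsOpenImmersion.lift_fac _ _ _⟩
    rw [Scheme.range_fromSpecResidueField, Set.singleton_subset_iff]
    exact ⟨_, rfl⟩
  have hiso : SGA7.IsIsogenyOver (SGA7.fibreHom t lam) := by
    refine isIsogenyOver_fibreHom (jK R K) t g hg lam ?_ ?_
    · have : (Over.pullback (jK R K)).map lam = lamK := hlam
      rw [this]
      exact hsurj
    · intro N i hN
      have h1 : (Over.pullback (jK R K)).map lam = lamK := hlam
      rw [h1] at hN
      exact hfin N i hN
  have : LocallyOfFinitePresentation A.hom := inferInstance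
  obtain ⟨U, hsU, hU1, hU2⟩ := Groth.Agent.S4061.result A At lam s t hts (hA s) hiso
  have hU : U = ⊤ := by
    rw [eq_top_iff]
    intro x _
    exact (IsLocalRing.specializes_closedPoint (R := R) x).mem_open U.2 hsU
  subst hU
  have hιiso : IsIso (⊤ : (Spec (CommRingCat.of R)).Opens).ι :=
    inferInstanceAs (IsIso (Scheme.topIso (Spec (CommRingCat.of R))).hom)
  have hpb2 := isPullback_map (⊤ : (Spec (CommRingCat.of R)).Opens).ι lam
  have hi1 : IsIso (bcι (⊤ : (Spec (CommRingCat.of R)).Opens).ι A) :=
    inferInstanceAs (IsIso (pullback.fst A.hom (⊤ : (Spec (CommRingCat.of R)).Opens).ι))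
  have hi2 : IsIso (bcι (⊤ : (Spec (CommRingCat.of R)).Opens).ι At) :=
    inferInstanceAs (IsIso (pullback.fst At.hom (⊤ : (Spec (CommRingCat.of R)).Opens).ι))
  have hN : lam.left = inv (bcι (⊤ : (Spec (CommRingCat.of R)).Opens).ι A) ≫
      ((Over.pullback (⊤ : (Spec (CommRingCat.of R)).Opens).ι).map lam).left ≫
      bcι (⊤ : (Spec (CommRingCat.of R)).Opens).ι At := by
    rw [IsIso.eq_inv_comp]
    exact hpb2.w.symm
  rw [hN]
  exact ⟨inferInstance, inferInstance⟩

end Groth.Agent.S14303
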