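import Groth.Statements.S14304
import Groth.Agent.GrpSch.K269.NormMain

set_option autoImplicit false
universe u
open CategoryTheory CategoryTheory.Limits MonoidalCategory CartesianMonoidalCategory MonObj GrpObj AlgebraicGeometry
open GrpSch

namespace Groth.Agent.S14304

/-- Let S be an integral Noetherian scheme which is excellent (every affine coordinate ring is
excellent), A → S a semi-stable S-group scheme (commutative, smooth, separated and of finite type
over S, no geometric fibre containing a closed subgroup isomorphic to the additive group) and N ≥ 1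
an integer. Then there are a finite surjective morphism π : S₁ → S with S₁ integral and normal, a
semi-stable S₁-group scheme A′₁, and a homomorphism u : A ×_S S₁ → A′₁ which is an open immersion
and induces an isomorphism of generic fibres over the generic point of S₁, such that the kernel of
multiplication by N on A′₁ is finite over S₁. -/
theorem result {S : Scheme.{u}} [IsIntegral S] [IsNoetherian S]
    (hSe : ∀ U : S.affineOpens, EGA4.IsExcellent Γ(S, U.1))
    (A : Over S) [GrpObj A] [IsCommMonObj A] [Smooth A.hom] [IsSeparated A.hom] [QuasiCompact A.hom]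
    (hA : SGA7.FibresUnipotentRankZero A) (N : ℕ) (hN : 1 ≤ N) :
    ∃ (S₁ : Scheme.{u}) (π : S₁ ⟶ S) (_ : IsIntegral S₁), IsFinite π ∧ Surjective π ∧ Pi1.IsNormalScheme S₁ ∧
      ∃ (A₁ : Over S₁) (_ : GrpObj A₁) (_ : IsCommMonObj A₁) (u : Red.bc π A ⟶ A₁),
        IsMonHom u ∧ IsOpenImmersion u.left ∧
        IsIso ((Over.pullback (S₁.fromSpecResidueField (genericPoint S₁))).map u) ∧
        Smooth A₁.hom ∧ IsSeparated A₁.hom ∧ QuasiCompact A₁.hom ∧ SGA7.FibresUnipotentRankZero A₁ ∧
        ∀ (T : Over S₁) (i : T ⟶ A₁), AlgGrp.IsKernel i ((𝟙 A₁) ^ N) → IsFinite T.hom := by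
  exact K269.NormMain.main hSe A hA N hN

end Groth.Agent.S14304
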