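import Groth.Statements.S14309
-- import your own Groth.Agent.* helpers here

set_option autoImplicit false
universe u v w x y
open CAlg

namespace Groth.Agent.S14309

theorem decomp {R : Type u} [CommRing R] {σ : Type y} (F : MvPolynomial (Option σ) R) :
    ∃ (F0 : MvPolynomial σ R) (G : MvPolynomial (Option σ) R),
      F = MvPolynomial.rename (Option.some : σ → Option σ) F0 + MvPolynomial.X none * G := by
  induction F using MvPolynomial.induction_on with
  | C r => exact ⟨MvPolynomial.C r, 0, by simp⟩
  | add F F' h h' =>
    obtain ⟨F0, G, rfl⟩ := h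
    obtain ⟨F0', G', rfl⟩ := h'
    exact ⟨F0 + F0', G + G', by rw [map_add]; ring⟩
  | mul_X F s h =>
    obtain ⟨F0, G, rfl⟩ := h
    rcases s with _ | s
    · exact ⟨0, MvPolynomial.rename Option.some F0 + MvPolynomial.X none * G, by rw [map_zero]; ring⟩
    · exact ⟨F0 * MvPolynomial.X s, G * MvPolynomial.X (some s), by
        rw [map_mul, MvPolynomial.rename_X]; ring⟩

/-- Let R be a commutative ring; A, B, C commutative R-algebras; i : A → B and j : A → C jointly
injective R-algebra maps; c a non-zero-divisor of B; u : C → B/(c) a ring map with u ∘ j equal to i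
followed by reduction modulo c; ζ in A with i ζ = c and j ζ = 0; η : R[X_σ, Z] → A an R-algebra map
with η(Z) = ζ; a : R[Y_τ] → B a surjective R-algebra map; η_Z : R[X_σ, Z] → R[Y_τ] a surjective
R-algebra map with a ∘ η_Z = i ∘ η. Fix c̃ in R[Y_τ] with a(c̃) = c, a family (p_h) generating the
kernel of the composite R[X_σ] → R[X_σ, Z] → A → C, a family (q'_h) generating the kernel of a
together with lifts q_h along η_Z, a family (v_h) generating the kernel of η_Z, and elements g'_h of
R[Y_τ] with η_Z(p_h) + g'_h c̃ in the ideal (q'_h), together with lifts g_h along η_Z. Then the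
kernel of η is the ideal generated by the elements Z q_h, Z v_h and p_h + Z g_h. (The published
statement is for the rings of cycle classes, with coefficients ℤ[1/6], of a smooth quotient stack, a
smooth closed substack whose normal bundle has top Chern class c a non-zero-divisor, and the open
complement; this row states the ring-theoretic content for any such square of commutative rings in
which A embeds in B × C.) -/
theorem result
    {R : Type u} [CommRing R] {A : Type v} {B : Type w} {C : Type x}
    [CommRing A] [CommRing B] [CommRing C] [Algebra R A] [Algebra R B] [Algebra R C]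
    (i : A →ₐ[R] B) (j : A →ₐ[R] C)
    (hinj : ∀ t : A, i t = 0 → j t = 0 → t = 0)
    (c : B) (hc : c ∈ nonZeroDivisors B) (u : C →+* B ⧸ Ideal.span ({c} : Set B))
    (hu : ∀ t : A, u (j t) = Ideal.Quotient.mk (Ideal.span ({c} : Set B)) (i t))
    (ζ : A) (hiζ : i ζ = c) (hjζ : j ζ = 0)
    {σ τ ιp ιq ιv : Type y}
    (η : MvPolynomial (Option σ) R →ₐ[R] A) (hη : η (MvPolynomial.X none) = ζ)
    (a : MvPolynomial τ R →ₐ[R] B) (ha : Function.Surjective a)
    (ηZ : MvPolynomial (Option σ) R →ₐ[R] MvPolynomial τ R)
    (hcomm : ∀ t, a (ηZ t) = i (η t)) (hηZ : Function.Surjective ηZ)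
    (cZ : MvPolynomial τ R) (hcZ : a cZ = c)
    (p : ιp → MvPolynomial σ R)
    (hp : Ideal.span (Set.range p) =
      RingHom.ker ((j.comp η).comp (MvPolynomial.rename (Option.some : σ → Option σ))))
    (q' : ιq → MvPolynomial τ R) (hq' : Ideal.span (Set.range q') = RingHom.ker a)
    (q : ιq → MvPolynomial (Option σ) R) (hq : ∀ h, ηZ (q h) = q' h)
    (v : ιv → MvPolynomial (Option σ) R) (hv : Ideal.span (Set.range v) = RingHom.ker ηZ)
    (g' : ιp → MvPolynomial τ R)
    (hg' : ∀ h, ηZ (MvPolynomial.rename (Option.some : σ → Option σ) (p h)) + g' h * cZ ∈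
      Ideal.span (Set.range q'))
    (g : ιp → MvPolynomial (Option σ) R) (hg : ∀ h, ηZ (g h) = g' h) :
    RingHom.ker η = Ideal.span
      (Set.range (fun h : ιq => MvPolynomial.X none * q h) ∪
        Set.range (fun h : ιv => MvPolynomial.X none * v h) ∪
        Set.range (fun h : ιp =>
          MvPolynomial.rename (Option.some : σ → Option σ) (p h) + MvPolynomial.X none * g h)) := by
  set I := Ideal.span
      (Set.range (fun h : ιq => MvPolynomial.X none * q h) ∪
        Set.range (fun h : ιv => MvPolynomial.X none * v h) ∪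
        Set.range (fun h : ιp =>
          MvPolynomial.rename (Option.some : σ → Option σ) (p h) + MvPolynomial.X none * g h)) with hI
  have hle : I ≤ RingHom.ker η := by
    rw [hI, Ideal.span_le]
    rintro x ((⟨h, rfl⟩ | ⟨h, rfl⟩) | ⟨h, rfl⟩)
    · rw [SetLike.mem_coe, RingHom.mem_ker]
      apply hinj
      · have h0 : q' h ∈ RingHom.ker a := by rw [← hq']; exact Ideal.subset_span ⟨h, rfl⟩
        rw [RingHom.mem_ker] at h0
        rw [map_mul, map_mul, ← hcomm (q h), hq, h0, mul_zero]
      · rw [map_mul, map_mul, hη, hjζ, zero_mul]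
    · rw [SetLike.mem_coe, RingHom.mem_ker]
      apply hinj
      · have h0 : v h ∈ RingHom.ker ηZ := by rw [← hv]; exact Ideal.subset_span ⟨h, rfl⟩
        rw [RingHom.mem_ker] at h0
        rw [map_mul, map_mul, ← hcomm (v h), h0, map_zero, mul_zero]
      · rw [map_mul, map_mul, hη, hjζ, zero_mul]
    · rw [SetLike.mem_coe, RingHom.mem_ker]
      apply hinj
      · have h0 := hg' h
        rw [hq', RingHom.mem_ker, map_add, map_mul, hcZ, hcomm] at h0
        rw [map_add, map_mul, hη, map_add, map_mul, hiζ, ← hcomm (g h), hg, mul_comm]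
        exact h0
      · have h0 : p h ∈ RingHom.ker ((j.comp η).comp (MvPolynomial.rename (Option.some : σ → Option σ))) := by
          rw [← hp]; exact Ideal.subset_span ⟨h, rfl⟩
        rw [RingHom.mem_ker] at h0
        rw [map_add, map_mul, hη, map_add, map_mul, hjζ, zero_mul, add_zero]
        exact h0
  apply le_antisymm
  · intro F hF
    rw [RingHom.mem_ker] at hF
    obtain ⟨F0, G, rfl⟩ := decomp F
    have h1 : F0 ∈ Ideal.span (Set.range p) := by
      rw [hp, RingHom.mem_ker]
      have := congrArg j hF
      rw [map_add, map_mul, hη, map_add, map_mul, hjζ, zero_mul, add_zero, map_zero] at this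
      exact this
    have h2 : ∀ F0 ∈ Ideal.span (Set.range p), ∃ G : MvPolynomial (Option σ) R,
        MvPolynomial.rename (Option.some : σ → Option σ) F0 + MvPolynomial.X none * G ∈ I := by
      intro F0 hF0
      induction hF0 using Submodule.span_induction with
      | mem x hx =>
        obtain ⟨h, rfl⟩ := hx
        exact ⟨g h, Ideal.subset_span (Or.inr ⟨h, rfl⟩)⟩
      | zero => exact ⟨0, by simp⟩
      | add x y _ _ hx hy =>
        obtain ⟨G, hG⟩ := hx
        obtain ⟨G', hG'⟩ := hy
        refine ⟨G + G', ?_⟩
        have := I.add_mem hG hG'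
        rw [map_add]
        convert this using 1
        ring
      | smul a x _ hx =>
        obtain ⟨G, hG⟩ := hx
        refine ⟨MvPolynomial.rename Option.some a * G, ?_⟩
        have := I.mul_mem_left (MvPolynomial.rename Option.some a) hG
        rw [smul_eq_mul, map_mul]
        convert this using 1
        ring
    obtain ⟨G1, hG1⟩ := h2 F0 h1
    have h3 : MvPolynomial.X none * (G - G1) ∈ RingHom.ker η := by
      rw [RingHom.mem_ker]
      have h4 := hle hG1
      rw [RingHom.mem_ker] at h4
      have h5 : MvPolynomial.X none * (G - G1) = (MvPolynomial.rename (Option.some : σ → Option σ) F0 + MvPolynomial.X none * G) - (MvPolynomial.rename (Option.some : σ → Option σ) F0 + MvPolynomial.X none * G1) := by ring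
      rw [h5, map_sub, hF, h4, sub_zero]
    have h6 : a (ηZ (G - G1)) = 0 := by
      rw [RingHom.mem_ker] at h3
      have := congrArg i h3
      rw [map_mul, hη, map_mul, hiζ, map_zero, ← hcomm] at this
      exact (mul_left_mem_nonZeroDivisors_eq_zero_iff hc).mp this
    have h7 : G - G1 ∈ Ideal.span (Set.range q) ⊔ Ideal.span (Set.range v) := by
      have h8 : ηZ (G - G1) ∈ Ideal.map ηZ (Ideal.span (Set.range q)) := by
        rw [Ideal.map_span, ← Set.range_comp]
        have : (⇑ηZ ∘ q) = q' := funext hq
        rw [this, hq', RingHom.mem_ker]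
        exact h6
      rw [Ideal.mem_map_iff_of_surjective _ hηZ] at h8
      obtain ⟨x, hx, hx'⟩ := h8
      have h9 : G - G1 - x ∈ Ideal.span (Set.range v) := by
        rw [hv, RingHom.mem_ker, map_sub, hx', sub_self]
      have := Ideal.add_mem _ ((le_sup_left : _ ≤ Ideal.span (Set.range q) ⊔ Ideal.span (Set.range v)) hx)
        ((le_sup_right : _ ≤ Ideal.span (Set.range q) ⊔ Ideal.span (Set.range v)) h9)
      convert this using 1
      ring
    have h10 : Ideal.span (Set.range q) ⊔ Ideal.span (Set.range v) ≤
        Submodule.comap (LinearMap.mulLeft (MvPolynomial (Option σ) R) (MvPolynomial.X none)) I := by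
      rw [sup_le_iff, Ideal.span_le, Ideal.span_le]
      constructor
      · rintro _ ⟨h, rfl⟩
        exact Ideal.subset_span (Or.inl (Or.inl ⟨h, rfl⟩))
      · rintro _ ⟨h, rfl⟩
        exact Ideal.subset_span (Or.inl (Or.inr ⟨h, rfl⟩))
    have h11 : MvPolynomial.X none * (G - G1) ∈ I := h10 h7
    have := I.add_mem hG1 h11
    convert this using 1
    ring
  · exact hle

end Groth.Agent.S14309
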