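import Groth.Statements.S14310
import Groth.Agent.ArSing.K813.Recenter

set_option autoImplicit false
universe u
open ArSing

namespace Groth.Agent.S14310

open IsLocalRing K813.Pow2 K813.Recenter

section Aux

variable {k : Type u} [Field k]

theorem isDomain : IsDomain (MvPowerSeries (Fin 2) k) := NoZeroDivisors.to_isDomain _

theorem X1_not_mem : (MvPowerSeries.X 1 : MvPowerSeries (Fin 2) k) ∉
    maximalIdeal (MvPowerSeries (Fin 2) k) ^ 2 := by
  classical
  intro h
  have h1 := (mem_pow_iff 2).1 h (Finsupp.single 1 1) (by simp)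
  rw [MvPowerSeries.coeff_X, if_pos rfl] at h1
  exact one_ne_zero h1

theorem map_mem_pow' (φ : MvPowerSeries (Fin 2) k ≃ₐ[k] MvPowerSeries (Fin 2) k) (n : ℕ)
    (z : MvPowerSeries (Fin 2) k) : φ z ∈ maximalIdeal (MvPowerSeries (Fin 2) k) ^ n ↔
    z ∈ maximalIdeal (MvPowerSeries (Fin 2) k) ^ n := by
  constructor
  · intro h
    have := K813.Invol.map_mem_pow K813.Basic.exists_const
      (φ.symm : MvPowerSeries (Fin 2) k →ₐ[k] MvPowerSeries (Fin 2) k) n h
    simpa using this
  · intro h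
    exact K813.Invol.map_mem_pow K813.Basic.exists_const
      (φ : MvPowerSeries (Fin 2) k →ₐ[k] MvPowerSeries (Fin 2) k) n h

/-- The backward direction. -/
theorem backward (g h : MvPolynomial (Fin 2) k) (a : Fin 2 → k)
    (hh : MvPolynomial.eval a h ≠ 0) (hg : MvPolynomial.eval a g = 0)
    (hd : ∃ i : Fin 2, MvPolynomial.eval a (MvPolynomial.pderiv i g) ≠ 0) :
    Nonempty ((MvPowerSeries (Fin 2) k ⧸ Ideal.span
        ({((T a (g ^ 2 * h) : MvPolynomial (Fin 2) k) : MvPowerSeries (Fin 2) k)} :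
          Set (MvPowerSeries (Fin 2) k))) ≃ₐ[k]
      (MvPowerSeries (Fin 2) k ⧸ Ideal.span ({MvPowerSeries.X 1 ^ 2} :
        Set (MvPowerSeries (Fin 2) k)))) := by
  classical
  have hdom : IsDomain (MvPowerSeries (Fin 2) k) := isDomain
  obtain ⟨i, hi⟩ := hd
  have hgm : ((T a g : MvPolynomial (Fin 2) k) : MvPowerSeries (Fin 2) k) ∈
      maximalIdeal (MvPowerSeries (Fin 2) k) := by
    rw [K813.Basic.mem_maximalIdeal_iff, constantCoeff_coe, eval_T, hg]
  have hgm2 : ((T a g : MvPolynomial (Fin 2) k) : MvPowerSeries (Fin 2) k) ∉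
      maximalIdeal (MvPowerSeries (Fin 2) k) ^ 2 := by
    intro h1
    have h2 := (mem_pow_iff 2).1 h1 (Finsupp.single i 1) (by simp)
    rw [MvPolynomial.coeff_coe, coeff_single, pderiv_T, eval_T] at h2
    exact hi h2
  obtain ⟨L, hL⟩ := exists_gen hgm hgm2
  obtain ⟨φ, hφ0, hφ1⟩ := exists_aut hL
  have hunit : IsUnit ((T a h : MvPolynomial (Fin 2) k) : MvPowerSeries (Fin 2) k) := by
    rw [MvPowerSeries.isUnit_iff_constantCoeff, constantCoeff_coe, eval_T]
    exact IsUnit.mk0 _ hh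
  obtain ⟨e⟩ := nonempty_equiv (F := ((T a (g ^ 2 * h) : MvPolynomial (Fin 2) k) :
    MvPowerSeries (Fin 2) k)) (G := MvPowerSeries.X 1 ^ 2) φ (by
      rw [map_pow, hφ1, map_mul, map_pow, MvPolynomial.coe_mul, MvPolynomial.coe_pow,
        Ideal.span_singleton_eq_span_singleton]
      exact (associated_mul_unit_left _ _ hunit).symm)
  exact ⟨e.symm⟩

theorem forward [IsAlgClosed k] (F : MvPolynomial (Fin 2) k)
    (e : (MvPowerSeries (Fin 2) k ⧸ Ideal.span
        ({(F : MvPowerSeries (Fin 2) k)} : Set (MvPowerSeries (Fin 2) k))) ≃ₐ[k]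
      (MvPowerSeries (Fin 2) k ⧸ Ideal.span ({MvPowerSeries.X 1 ^ 2} :
        Set (MvPowerSeries (Fin 2) k)))) :
    ∃ p h : MvPolynomial (Fin 2) k, F = p ^ 2 * h ∧ MvPolynomial.eval 0 h ≠ 0 ∧
      MvPolynomial.eval 0 p = 0 ∧ ∃ i : Fin 2, MvPolynomial.eval 0 (MvPolynomial.pderiv i p) ≠ 0 := by
  classical
  have hdom : IsDomain (MvPowerSeries (Fin 2) k) := isDomain
  have hX : (MvPowerSeries.X 1 : MvPowerSeries (Fin 2) k) ^ 2 ∈
      maximalIdeal (MvPowerSeries (Fin 2) k) ^ 2 :=
    Ideal.pow_mem_pow (K813.Basic.X_mem_maximalIdeal 1) 2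
  obtain ⟨ψ, hψ⟩ := exists_lift hX e
  -- `φ = ψ⁻¹`
  obtain ⟨φ, hφ⟩ : ∃ φ : MvPowerSeries (Fin 2) k ≃ₐ[k] MvPowerSeries (Fin 2) k,
      Associated (φ (MvPowerSeries.X 1) ^ 2) (F : MvPowerSeries (Fin 2) k) := by
    refine ⟨ψ.symm, ?_⟩
    rw [Ideal.span_singleton_eq_span_singleton] at hψ
    have := hψ.symm.map (ψ.symm : MvPowerSeries (Fin 2) k →ₐ[k] MvPowerSeries (Fin 2) k)
    simpa using this
  set G := φ (MvPowerSeries.X 1) with hG
  have hGm : G ∈ maximalIdeal (MvPowerSeries (Fin 2) k) := by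
    have := (map_mem_pow' φ 1 (MvPowerSeries.X 1)).2 (by
      rw [pow_one]; exact K813.Basic.X_mem_maximalIdeal 1)
    rwa [pow_one] at this
  have hGm2 : G ∉ maximalIdeal (MvPowerSeries (Fin 2) k) ^ 2 := by
    rw [hG, map_mem_pow']; exact X1_not_mem
  have hGp : Prime G := (MulEquiv.prime_iff φ.toMulEquiv).2 (Groth.Agent.CurvesC.NodalAlg.X1_prime k)
  have hspG : (Ideal.span {G}).IsPrime := (Ideal.span_singleton_prime hGp.ne_zero).2 hGp
  have hle : Ideal.span {G} ≤ maximalIdeal (MvPowerSeries (Fin 2) k) :=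
    (Ideal.span_singleton_le_iff_mem _).2 hGm
  -- the primes
  set c : MvPolynomial (Fin 2) k →+* MvPowerSeries (Fin 2) k := MvPolynomial.coeToMvPowerSeries.ringHom
    with hc
  have hcc : ∀ P : MvPolynomial (Fin 2) k, c P = (P : MvPowerSeries (Fin 2) k) := fun P => rfl
  have h𝔮 : ((Ideal.span {G}).comap c).IsPrime := Ideal.IsPrime.comap c
  have h𝔪 : ((maximalIdeal (MvPowerSeries (Fin 2) k)).comap c).IsPrime := Ideal.IsPrime.comap c
  have hmem𝔮 : ∀ P, P ∈ (Ideal.span {G}).comap c ↔ G ∣ (P : MvPowerSeries (Fin 2) k) := by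
    intro P; rw [Ideal.mem_comap, Ideal.mem_span_singleton]; rfl
  have hlt : (Ideal.span {G}).comap c < (maximalIdeal (MvPowerSeries (Fin 2) k)).comap c := by
    refine lt_of_le_of_ne (Ideal.comap_mono hle) ?_
    intro heq
    have hX' : ∀ i : Fin 2, G ∣ (MvPowerSeries.X i : MvPowerSeries (Fin 2) k) := by
      intro i
      have h1 : (MvPolynomial.X i : MvPolynomial (Fin 2) k) ∈
          (maximalIdeal (MvPowerSeries (Fin 2) k)).comap c := by
        rw [Ideal.mem_comap, hcc, MvPolynomial.coe_X]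
        exact K813.Basic.X_mem_maximalIdeal i
      rw [← heq, hmem𝔮, MvPolynomial.coe_X] at h1
      exact h1
    have h2 : maximalIdeal (MvPowerSeries (Fin 2) k) ≤ Ideal.span {G} := by
      rw [maximalIdeal_eq, Ideal.span_le]
      rintro z (rfl | rfl)
      · exact Ideal.mem_span_singleton.2 (hX' 0)
      · exact Ideal.mem_span_singleton.2 (hX' 1)
    have h3 : φ (MvPowerSeries.X 0) ∈ maximalIdeal (MvPowerSeries (Fin 2) k) := by
      have := (map_mem_pow' φ 1 (MvPowerSeries.X 0)).2 (by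
        rw [pow_one]; exact K813.Basic.X_mem_maximalIdeal 0)
      rwa [pow_one] at this
    have h4 := Ideal.mem_span_singleton.1 (h2 h3)
    rw [hG] at h4
    have h5 := (map_dvd_iff φ).1 h4
    exact Groth.Agent.CurvesC.NodalAlg.X1_not_dvd_X0 k h5
  -- `F ≠ 0`
  have hF0 : F ≠ 0 := by
    rintro rfl
    rw [MvPolynomial.coe_zero, associated_zero_iff_eq_zero] at hφ
    exact hGp.ne_zero (pow_eq_zero_iff (by norm_num) |>.1 hφ)
  have hFq : F ∈ (Ideal.span {G}).comap c := by
    rw [hmem𝔮]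
    exact (dvd_pow_self G (by norm_num)).trans hφ.dvd
  obtain ⟨p, hpq, hp⟩ := h𝔮.exists_mem_prime_of_ne_bot (fun h => by
    rw [h, Ideal.mem_bot] at hFq
    exact hF0 hFq)
  have hqp : (Ideal.span {G}).comap c = Ideal.span {p} := eq_span_of_lt hp h𝔮 h𝔪 hpq hlt
  have hdvd : ∀ P : MvPolynomial (Fin 2) k, G ∣ (P : MvPowerSeries (Fin 2) k) → p ∣ P := by
    intro P hP
    rw [← hmem𝔮, hqp, Ideal.mem_span_singleton] at hP
    exact hP
  obtain ⟨f₁, hf₁⟩ := hdvd F ((hmem𝔮 F).1 hFq)
  obtain ⟨w, hw⟩ := (hmem𝔮 p).1 hpq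
  -- `G ∤ w`
  have hGw : ¬ G ∣ w := by
    rintro ⟨w', hw'⟩
    refine K324.PlaneSing.not_irreducible_of_pderiv_eq_zero p ?_ hp.irreducible
    intro i
    by_contra hne
    have h1 : G ∣ ((MvPolynomial.pderiv i p : MvPolynomial (Fin 2) k) :
        MvPowerSeries (Fin 2) k) := by
      rw [← MvPowerSeries.pderiv_coe, hw, hw', Derivation.leibniz, Derivation.leibniz]
      simp only [smul_eq_mul]
      exact ⟨G * MvPowerSeries.pderiv k i w' + w' * MvPowerSeries.pderiv k i G +
        w' * MvPowerSeries.pderiv k i G, by ring⟩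
    obtain ⟨q, hq⟩ := hdvd _ h1
    have h2 := K324.PlaneSing.totalDegree_pderiv_lt hne
    have hq0 : q ≠ 0 := by
      rintro rfl
      rw [mul_zero] at hq
      exact hne hq
    rw [hq, MvPolynomial.totalDegree_mul_of_isDomain hp.ne_zero hq0] at h2
    omega
  obtain ⟨u, hu⟩ := hφ
  have h1 : w * (f₁ : MvPowerSeries (Fin 2) k) = G * u := by
    apply mul_left_cancel₀ hGp.ne_zero
    rw [← mul_assoc, ← hw, ← MvPolynomial.coe_mul, ← hf₁, ← hu]
    ring
  have h2 : G ∣ (f₁ : MvPowerSeries (Fin 2) k) := by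
    rcases hGp.dvd_or_dvd (Dvd.intro _ h1.symm) with h | h
    · exact absurd h hGw
    · exact h
  obtain ⟨h, hh⟩ := hdvd _ h2
  have h3 : w * (w * (h : MvPowerSeries (Fin 2) k)) = u := by
    apply mul_left_cancel₀ hGp.ne_zero
    rw [← h1, hh, MvPolynomial.coe_mul, hw]
    ring
  have h4 : IsUnit w := by
    have := u.isUnit
    rw [← h3] at this
    exact isUnit_of_mul_isUnit_left this
  have h5 : IsUnit (h : MvPowerSeries (Fin 2) k) := by
    have := u.isUnit
    rw [← h3] at this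
    exact isUnit_of_mul_isUnit_right (isUnit_of_mul_isUnit_right this)
  have hpm : (p : MvPowerSeries (Fin 2) k) ∈ maximalIdeal (MvPowerSeries (Fin 2) k) := by
    rw [hw]; exact Ideal.mul_mem_right _ _ hGm
  have hp0 : MvPolynomial.eval 0 p = 0 := by
    rw [← constantCoeff_coe, ← K813.Basic.mem_maximalIdeal_iff]; exact hpm
  refine ⟨p, h, ?_, ?_, hp0, ?_⟩
  · rw [hf₁, hh]; ring
  · rw [← constantCoeff_coe]
    exact (MvPowerSeries.isUnit_iff_constantCoeff.1 h5).ne_zero
  · by_contra hcon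
    push Not at hcon
    have h6 := exists_lin (p : MvPowerSeries (Fin 2) k) (by rw [constantCoeff_coe, hp0])
    rw [MvPolynomial.coeff_coe, MvPolynomial.coeff_coe, coeff_single, coeff_single, hcon 0, hcon 1,
      map_zero, zero_mul, zero_mul, add_zero, sub_zero, hw] at h6
    obtain ⟨w', hw'⟩ := h4
    apply hGm2
    have h7 := Ideal.mul_mem_right (↑w'⁻¹ : MvPowerSeries (Fin 2) k) _ h6
    rw [← hw', mul_assoc, Units.mul_inv, mul_one] at h7
    exact h7

end Aux

/-- Let k be an algebraically closed field, f a polynomial in two variables x = X_0, y = X_1 over k, and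
a a point of k². The quotient of the power series ring k[[x,y]] by the polynomial f recentred at a
(which is the completed local ring at a of the plane curve f = 0) is isomorphic as a k-algebra to
k[[x,y]]/(y^2) if and only if f = g^2 h for polynomials g and h with h(a) ≠ 0, g(a) = 0 and some
first partial derivative of g non-zero at a. (The published statement asks for the component through
a to be the square of a smooth plane curve; only smoothness at a matters and is what is stated here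
— for the square of a nodal cubic the completed local ring at a smooth point of the cubic is still
k[[x,y]]/(y^2). No hypothesis on the characteristic of k is imposed; the published setting assumes a
characteristic different from 2, 3, 5 and 7, which the argument does not use.) -/
theorem result
    {k : Type u} [Field k] [IsAlgClosed k] (f : MvPolynomial (Fin 2) k) (a : Fin 2 → k) :
    Nonempty ((MvPowerSeries (Fin 2) k ⧸ Ideal.span
        ({(MvPolynomial.aeval (fun i : Fin 2 => MvPolynomial.X i + MvPolynomial.C (a i)) f).toMvPowerSeries} :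
          Set (MvPowerSeries (Fin 2) k))) ≃ₐ[k]
      (MvPowerSeries (Fin 2) k ⧸ Ideal.span ({MvPowerSeries.X 1 ^ 2} : Set (MvPowerSeries (Fin 2) k)))) ↔
    ∃ g h : MvPolynomial (Fin 2) k, f = g ^ 2 * h ∧ MvPolynomial.eval a h ≠ 0 ∧ MvPolynomial.eval a g = 0 ∧
      ∃ i : Fin 2, MvPolynomial.eval a (MvPolynomial.pderiv i g) ≠ 0 := by
  constructor
  · rintro ⟨e⟩
    obtain ⟨p, h, h1, h2, h3, i, h4⟩ := forward (T a f) e
    refine ⟨T (-a) p, T (-a) h, ?_, ?_, ?_, i, ?_⟩
    · rw [← map_pow, ← map_mul, ← h1, T_neg_T]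
    · rw [← eval_T, T_T_neg]; exact h2
    · rw [← eval_T, T_T_neg]; exact h3
    · rw [← eval_T, ← pderiv_T, T_T_neg]; exact h4
  · rintro ⟨g, h, rfl, h1, h2, h3⟩
    exact backward g h a h1 h2 h3

end Groth.Agent.S14310
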