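import Groth.Statements.S14311
import Groth.Agent.ArSing.K813.Recenter
import Groth.Agent.ArSing.K813.ASing

set_option autoImplicit false
universe u
open ArSing

namespace Groth.Agent.S14311

open IsLocalRing K813.Pow2 K813.Recenter K813.ASing

section Aux

variable {k : Type u} [Field k]

theorem coeff_two (P : MvPolynomial (Fin 2) k) (i j : Fin 2) :
    MvPolynomial.eval 0 (MvPolynomial.pderiv i (MvPolynomial.pderiv j P)) =
      MvPolynomial.coeff (Finsupp.single i 1 + Finsupp.single j 1) P *
        (if i = j then 2 else 1) := by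
  classical
  rw [← coeff_single, MvPolynomial.coeff_pderiv]
  congr 1
  by_cases h : i = j
  · subst h
    rw [if_pos rfl, Finsupp.single_eq_same]
    norm_num
  · rw [if_neg h, Finsupp.single_eq_of_ne (Ne.symm h)]
    norm_num

/-- Vanishing of the first and second partials. -/
theorem mem_cube_iff (h2 : (2 : k) ≠ 0) (f : MvPolynomial (Fin 2) k) (a : Fin 2 → k)
    (hfa : MvPolynomial.eval a f = 0) :
    ((∀ i : Fin 2, MvPolynomial.eval a (MvPolynomial.pderiv i f) = 0) ∧
      ∀ i j : Fin 2, MvPolynomial.eval a (MvPolynomial.pderiv i (MvPolynomial.pderiv j f)) = 0) ↔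
    ((T a f : MvPolynomial (Fin 2) k) : MvPowerSeries (Fin 2) k) ∈
      maximalIdeal (MvPowerSeries (Fin 2) k) ^ 3 := by
  classical
  have e1 : ∀ i, MvPolynomial.eval a (MvPolynomial.pderiv i f) =
      MvPowerSeries.coeff (Finsupp.single i 1)
        ((T a f : MvPolynomial (Fin 2) k) : MvPowerSeries (Fin 2) k) := by
    intro i
    rw [MvPolynomial.coeff_coe, coeff_single, pderiv_T, eval_T]
  have e2 : ∀ i j, MvPolynomial.eval a (MvPolynomial.pderiv i (MvPolynomial.pderiv j f)) =
      MvPowerSeries.coeff (Finsupp.single i 1 + Finsupp.single j 1)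
        ((T a f : MvPolynomial (Fin 2) k) : MvPowerSeries (Fin 2) k) * (if i = j then 2 else 1) := by
    intro i j
    rw [MvPolynomial.coeff_coe, ← coeff_two, pderiv_T, pderiv_T, eval_T]
  have h00 : (Finsupp.single (0 : Fin 2) 1 + Finsupp.single 0 1 : Fin 2 →₀ ℕ) =
    Finsupp.single 0 2 := by rw [← Finsupp.single_add]
  have h11 : (Finsupp.single (1 : Fin 2) 1 + Finsupp.single 1 1 : Fin 2 →₀ ℕ) =
    Finsupp.single 1 2 := by rw [← Finsupp.single_add]
  rw [mem_pow_iff]
  constructor
  · rintro ⟨h, h'⟩ d hd
    rcases degree_two_cases d hd with rfl | rfl | rfl | rfl | rfl | rfl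
    · rw [MvPowerSeries.coeff_zero_eq_constantCoeff_apply, constantCoeff_coe, eval_T, hfa]
    · rw [← e1]; exact h 0
    · rw [← e1]; exact h 1
    · have := h' 0 0
      rw [e2, h00, if_pos rfl] at this
      exact (mul_eq_zero.1 this).resolve_right h2
    · have := h' 0 1
      rw [e2, if_neg (by decide), mul_one] at this
      exact this
    · have := h' 1 1
      rw [e2, h11, if_pos rfl] at this
      exact (mul_eq_zero.1 this).resolve_right h2
  · intro h
    refine ⟨fun i => ?_, fun i j => ?_⟩
    · rw [e1]; exact h _ (by simp)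
    · rw [e2, h _ (by rw [map_add]; simp), zero_mul]

end Aux

/-- Let k be an algebraically closed field in which 2 ≠ 0, f a polynomial in x = X_0, y = X_1 over k and
a a zero of f in k². Then the gradient and all second partial derivatives of f vanish at a if and
only if the completed local ring k[[x,y]]/(f recentred at a) of the plane curve f = 0 at a is
isomorphic as a k-algebra neither to k[[x,y]]/(y^2 - x^(n+1)) for any natural number n nor to
k[[x,y]]/(y^2). (Here n = 0, a smooth point, is allowed; with n ≥ 1 only, as in the published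
definition of an A-singularity, the equivalence fails at smooth points of the curve. Only 2 ≠ 0 is
assumed of the characteristic; the published setting assumes a characteristic different from 2, 3, 5
and 7.) -/
theorem result
    {k : Type u} [Field k] [IsAlgClosed k] (h2 : (2 : k) ≠ 0) (f : MvPolynomial (Fin 2) k) (a : Fin 2 → k)
    (hfa : MvPolynomial.eval a f = 0) :
    ((∀ i : Fin 2, MvPolynomial.eval a (MvPolynomial.pderiv i f) = 0) ∧
      ∀ i j : Fin 2, MvPolynomial.eval a (MvPolynomial.pderiv i (MvPolynomial.pderiv j f)) = 0) ↔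
    ¬ ((∃ n : ℕ, Nonempty ((MvPowerSeries (Fin 2) k ⧸ Ideal.span
        ({(MvPolynomial.aeval (fun i : Fin 2 => MvPolynomial.X i + MvPolynomial.C (a i)) f).toMvPowerSeries} :
          Set (MvPowerSeries (Fin 2) k))) ≃ₐ[k] ArSing.ring k n)) ∨
        Nonempty ((MvPowerSeries (Fin 2) k ⧸ Ideal.span
        ({(MvPolynomial.aeval (fun i : Fin 2 => MvPolynomial.X i + MvPolynomial.C (a i)) f).toMvPowerSeries} :
          Set (MvPowerSeries (Fin 2) k))) ≃ₐ[k]
          (MvPowerSeries (Fin 2) k ⧸ Ideal.span ({MvPowerSeries.X 1 ^ 2} : Set (MvPowerSeries (Fin 2) k))))) := by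
  classical
  have hc0 : MvPowerSeries.constantCoeff ((T a f : MvPolynomial (Fin 2) k) :
      MvPowerSeries (Fin 2) k) = 0 := by
    rw [constantCoeff_coe, eval_T, hfa]
  rw [mem_cube_iff h2 f a hfa]
  constructor
  · intro hF3
    have hF2 := Ideal.pow_le_pow_right (by norm_num : 2 ≤ 3) hF3
    have key : ∀ G : MvPowerSeries (Fin 2) k,
        MvPowerSeries.coeff (Finsupp.single 1 2) G ≠ 0 →
        ((MvPowerSeries (Fin 2) k ⧸ Ideal.span {((T a f : MvPolynomial (Fin 2) k) :
          MvPowerSeries (Fin 2) k)}) ≃ₐ[k] (MvPowerSeries (Fin 2) k ⧸ Ideal.span {G})) →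
        False := by
      intro G hG e
      obtain ⟨φ, hφ⟩ := exists_lift hF2 e.symm
      have h3 : φ G ∈ maximalIdeal (MvPowerSeries (Fin 2) k) ^ 3 := by
        have h4 : φ G ∈ Ideal.span {φ G} := Ideal.mem_span_singleton_self _
        rw [hφ] at h4
        exact ((Ideal.span_singleton_le_iff_mem _).2 hF3) h4
      rw [K813.ASing.map_mem_pow, mem_pow_iff] at h3
      exact hG (h3 _ (by simp))
    rintro (⟨n, ⟨e⟩⟩ | e)
    · refine key _ ?_ e
      rw [ArSing.eqn, map_sub, MvPowerSeries.coeff_X_pow, MvPowerSeries.coeff_X_pow, if_pos rfl,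
        if_neg, sub_zero]
      · exact one_ne_zero
      · intro h
        have := DFunLike.congr_fun h 1
        simp at this
    · obtain ⟨e⟩ := e
      refine key _ ?_ e
      rw [MvPowerSeries.coeff_X_pow, if_pos rfl]
      exact one_ne_zero
  · intro hno
    by_contra hF3
    apply hno
    by_cases hF2 : ((T a f : MvPolynomial (Fin 2) k) : MvPowerSeries (Fin 2) k) ∈
      maximalIdeal (MvPowerSeries (Fin 2) k) ^ 2
    · exact classify h2 _ hF2 hF3
    · left
      refine ⟨0, equiv_of_smooth (K813.Basic.mem_maximalIdeal_iff.2 hc0) hF2 ?_ ?_⟩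
      · rw [K813.Basic.mem_maximalIdeal_iff, ArSing.eqn]
        simp
      · rw [mem_pow_iff, ArSing.eqn]
        intro h
        have := h (Finsupp.single 0 1) (by simp)
        rw [map_sub, MvPowerSeries.coeff_X_pow, MvPowerSeries.coeff_X_pow, if_pos rfl, if_neg] at this
        · simp at this
        · intro h
          have := DFunLike.congr_fun h 0
          simp at this

end Groth.Agent.S14311
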