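import Groth.Statements.S14312
-- import your own Groth.Agent.* helpers here
import Groth.Agent.Curves.K324.PlaneSing
import Groth.Agent.Fano.K713.Count
import Groth.Agent.S10824
import Mathlib.Algebra.MvPolynomial.Nilpotent

set_option autoImplicit false
universe u
open Curves

namespace Groth.Agent.S14312

open MvPolynomial K324.PlaneSing

/-- a direction other than `p` in the kernel of a functional -/
theorem exists_direction {k : Type*} [Field k] (p : Fin 3 → k) (hp : p ≠ 0)
    (φ : (Fin 3 → k) →ₗ[k] k) : ∃ u : Fin 3 → k, φ u = 0 ∧ u ∉ Submodule.span k {p} := by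
  by_contra hcon
  push Not at hcon
  have h1 : LinearMap.ker φ ≤ Submodule.span k {p} := fun u hu => hcon u (LinearMap.mem_ker.mp hu)
  have h2 := Submodule.finrank_mono h1
  have h3 := φ.finrank_range_add_finrank_ker
  have h4 : Module.finrank k (LinearMap.range φ) ≤ 1 := by
    have := Submodule.finrank_le (LinearMap.range φ)
    simpa using this
  rw [finrank_span_singleton hp] at h2
  have h5 : Module.finrank k (Fin 3 → k) = 3 := by simp
  omega

theorem no_seven {k : Type u} [Field k] [IsAlgClosed k] (f : MvPolynomial (Fin 3) k)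
    (hf : f.IsHomogeneous 4) (hred : Squarefree f) {ι : Type} [Fintype ι]
    (hι : Fintype.card ι = 7) (P : ι → Projectivization k (Fin 3 → k)) (hP : Function.Injective P)
    (h0 : ∀ i, eval (P i).rep f = 0) (h1 : ∀ i (j : Fin 3), eval (P i).rep (pderiv j f) = 0) :
    False := by
  classical
  have hf0 : f ≠ 0 := hred.ne_zero
  obtain ⟨v, hv⟩ := exists_polar_isRelPrime hred
  have hg : (polar v f).IsHomogeneous 3 := isHomogeneous_polar v hf
  have hg0 : polar v f ≠ 0 := by
    intro h
    rw [h] at hv
    have hu := hv (dvd_refl f) (dvd_zero f)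
    have h3 := hf.totalDegree hf0
    have h4 := (MvPolynomial.isUnit_iff_totalDegree_of_isReduced.mp hu).2
    omega
  -- the jets
  have hdir : ∀ i, ∃ u : Fin 3 → k, eval (P i).rep (polar u (polar v f)) = 0 ∧
      u ∉ Submodule.span k {(P i).rep} := by
    intro i
    obtain ⟨u, hu, hu'⟩ := exists_direction (P i).rep (P i).rep_nonzero
      (Fintype.linearCombination k (fun j => eval (P i).rep (pderiv j (polar v f))))
    refine ⟨u, ?_, hu'⟩
    rw [eval_polar]
    simpa [Fintype.linearCombination_apply, smul_eq_mul] using hu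
  choose u hu hu' using hdir
  have hpp : ∀ i j, i ≠ j → (P i).rep ∉ Submodule.span k {(P j).rep} := by
    intro i j hij hmem
    obtain ⟨c, hc⟩ := Submodule.mem_span_singleton.mp hmem
    apply hij
    apply hP
    rw [← (P i).mk_rep, ← (P j).mk_rep, Projectivization.mk_eq_mk_iff']
    exact ⟨c, hc⟩
  have hpu : ∀ i, (P i).rep ∉ Submodule.span k {u i} := by
    intro i hmem
    obtain ⟨c, hc⟩ := Submodule.mem_span_singleton.mp hmem
    apply hu' i
    have hc0 : c ≠ 0 := by
      rintro rfl
      rw [zero_smul] at hc
      exact (P i).rep_nonzero hc.symm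
    rw [← hc, Submodule.mem_span_singleton]
    exact ⟨c⁻¹, by rw [smul_smul, inv_mul_cancel₀ hc0, one_smul]⟩
  have hjf : ∀ i, jet (P i).rep (u i) f = 0 := by
    intro i
    rw [jet_apply, h0 i, eval_polar_eq_zero _ _ _ (h1 i)]
    rfl
  have hjg : ∀ i, jet (P i).rep (u i) (polar v f) = 0 := by
    intro i
    rw [jet_apply, hu i, eval_polar_eq_zero _ _ _ (h1 i)]
    rfl
  -- the linear map
  let Φ : ↥(homogeneousSubmodule (Fin 3) k 13) →ₗ[k] (ι → k × k) :=
    (LinearMap.pi fun i => jet (P i).rep (u i)) ∘ₗ (homogeneousSubmodule (Fin 3) k 13).subtype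
  have hΦ : Function.Surjective Φ := by
    intro t
    obtain ⟨h, hh, ht⟩ := exists_jet (fun i => (P i).rep) u hpp hpu hu' t
    rw [hι] at hh
    exact ⟨⟨h, hh⟩, funext ht⟩
  have hker : Submodule.comap (homogeneousSubmodule (Fin 3) k 13).subtype
      ((Ideal.span ({f, polar v f} : Set (MvPolynomial (Fin 3) k))).restrictScalars k) ≤
      LinearMap.ker Φ := by
    rintro ⟨h, hh⟩ hmem
    have hmem' : h ∈ Ideal.span ({f, polar v f} : Set (MvPolynomial (Fin 3) k)) := hmem
    obtain ⟨a, b, rfl⟩ := Ideal.mem_span_pair.mp hmem'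
    rw [LinearMap.mem_ker]
    funext i
    change jet (P i).rep (u i) (a * f + b * polar v f) = 0
    rw [map_add, mul_comm a, mul_comm b, jet_mul_eq_zero _ _ _ _ (hjf i),
      jet_mul_eq_zero _ _ _ _ (hjg i), add_zero]
  have hfin : Module.Finite k (homogeneousSubmodule (Fin 3) k 13) :=
    K713.Count.finite_homogeneous k 3 13
  have hsurj : Function.Surjective (Submodule.liftQ _ Φ hker) := by
    intro t
    obtain ⟨h, rfl⟩ := hΦ t
    exact ⟨Submodule.Quotient.mk h, by rw [Submodule.liftQ_apply]⟩
  have hle := LinearMap.finrank_le_finrank_of_surjective (f := Submodule.liftQ _ Φ hker) hsurj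
  have h12 := Groth.Agent.S10824.result k 4 3 13 f (polar v f) hf hg (by norm_num) (by norm_num)
    hf0 hg0 hv (by norm_num)
  rw [h12] at hle
  have h14 : Module.finrank k (ι → k × k) = 14 := by
    rw [Module.finrank_pi_fintype]
    simp [hι]
  omega

/-- Over an algebraically closed field k, a reduced plane quartic — the zero locus in the projective
plane of a square-free homogeneous polynomial f of degree 4 in three variables — has at most 6
singular points, a singular point being a point of the projective plane at which f and its three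
first partial derivatives vanish. (No hypothesis on the characteristic of k is imposed here. The
further assertions describing the quartics with exactly 5 or exactly 6 singular points are not part
of this row.) -/
theorem result
    {k : Type u} [Field k] [IsAlgClosed k] (f : MvPolynomial (Fin 3) k)
    (hf : f.IsHomogeneous 4) (hred : Squarefree f) :
    ∃ s : Finset (Projectivization k (Fin 3 → k)), s.card ≤ 6 ∧
      ∀ p : Projectivization k (Fin 3 → k),
        MvPolynomial.eval p.rep f = 0 →
          (∀ i : Fin 3, MvPolynomial.eval p.rep (MvPolynomial.pderiv i f) = 0) → p ∈ s := by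
  classical
  by_contra hcon
  push Not at hcon
  have key : ∀ n ≤ 7, ∃ s : Finset (Projectivization k (Fin 3 → k)), s.card = n ∧
      ∀ p ∈ s, MvPolynomial.eval p.rep f = 0 ∧
        ∀ i : Fin 3, MvPolynomial.eval p.rep (MvPolynomial.pderiv i f) = 0 := by
    intro n
    induction n with
    | zero => exact fun _ => ⟨∅, rfl, by simp⟩
    | succ n ih =>
      intro hn
      obtain ⟨s, hs, hs'⟩ := ih (by omega)
      obtain ⟨p, hp1, hp2, hp3⟩ := hcon s (by omega)
      refine ⟨insert p s, by rw [Finset.card_insert_of_notMem hp3, hs], ?_⟩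
      intro q hq
      rcases Finset.mem_insert.mp hq with rfl | hq
      · exact ⟨hp1, hp2⟩
      · exact hs' q hq
  obtain ⟨s, hs, hs'⟩ := key 7 le_rfl
  let e := s.equivFinOfCardEq hs
  refine no_seven f hf hred (ι := Fin 7) (by simp) (fun i => (e.symm i).1) ?_ ?_ ?_
  · intro i j hij
    exact e.symm.injective (Subtype.ext hij)
  · exact fun i => (hs' _ (e.symm i).2).1
  · exact fun i => (hs' _ (e.symm i).2).2

end Groth.Agent.S14312
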