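import Groth.Statements.S14313
import Groth.Agent.Surf.K456.NefSq
import Groth.Agent.Surf.K456.FibDiv
import Groth.Agent.Surf.K456.AmpleEx

set_option autoImplicit false
universe u
open CategoryTheory CategoryTheory.Limits AlgebraicGeometry TopologicalSpace
open Surf

namespace Groth.Agent.S14313

open Groth.Agent.Grpsch.PicGrp K464.Base K464.Curves K464.Comp

theorem tele : ∀ (n : ℕ) (Q : Fin (n + 1) → ℚ),
    (Finset.univ.sum fun i : Fin n => (Q i.succ - Q i.castSucc)) = Q (Fin.last n) - Q 0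
  | 0, Q => by simp
  | n + 1, Q => by
    rw [Fin.sum_univ_castSucc]
    have h := tele n (fun i => Q i.castSucc)
    simp only [Fin.succ_castSucc] at h ⊢
    rw [h, Fin.succ_last, Fin.castSucc_zero]
    ring

/-- Let k be an algebraically closed field, S a smooth projective surface over k (integral, proper and
smooth over k, of dimension 2), f : S → C a surjective k-morphism onto a smooth projective curve
(integral, proper and smooth over k, of dimension 1) and F = f⁻¹(p) the fibre over a closed point p,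
with O_S(F) a tensor inverse of its ideal sheaf. Let D be a divisor (L = O_S(D) an invertible
module), Z_1 ≥ Z_2 ≥ ⋯ ≥ Z_n ≥ Z_{n+1} = 0 effective Cartier divisors (ideal sheaves I_1 ⊆ I_2 ⊆ ⋯ ⊆
I_{n+1} = O_S) and μ_1 > μ_2 > ⋯ > μ_n > μ_{n+1} = 0 rational numbers such that every N_i = D − Z_i
− μ_i F (1 ≤ i ≤ n + 1) is a nef ℚ-divisor: (D·Γ) − (Z_i·Γ) − μ_i (F·Γ) ≥ 0 for every integral curve
Γ ⊆ S, where (L·Γ) = χ(O_Γ ⊗ L) − χ(O_Γ) and (Z_i·Γ) = −(I_i·Γ). Put d_i = N_i·F = (D·F) − (Z_i·F) −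
μ_i (F·F). Then D² ≥ Σ_{i=1}^{n} (d_i + d_{i+1})(μ_i − μ_{i+1}); here (L·M) = χ(O_S) − χ(L) − χ(M) +
χ(L ⊗ M) for invertible L, M, packaged as FGA.intNum. (Indices run over Fin (n+1), position i
standing for i + 1.) (The published statement is for the chapter's fibration, with connected fibres,
semi-stable and relatively minimal, over an algebraically closed field of positive characteristic;
this row asks only that f be surjective and allows any algebraically closed field.) -/
theorem result (k : Type u) [Field k] [IsAlgClosed k]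
    (S : Scheme.{u}) [S.Over (Spec (CommRingCat.of k))] [IsProper (S ↘ (Spec (CommRingCat.of k)))]
    [Smooth (S ↘ (Spec (CommRingCat.of k)))] [IsIntegral S] (hdim : topologicalKrullDim S = 2)
    (C : Scheme.{u}) [C.Over (Spec (CommRingCat.of k))] [IsProper (C ↘ (Spec (CommRingCat.of k)))]
    [Smooth (C ↘ (Spec (CommRingCat.of k)))] [IsIntegral C] (hdimC : topologicalKrullDim C = 1)
    (f : S ⟶ C) [f.IsOver (Spec (CommRingCat.of k))] [Surjective f]
    (p : C) (hp : IsClosed ({p} : Set C))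
    (LF : S.Modules) (hLF : ClSub.IsInverseOf LF (ClSub.idealMod (f.fiberι p).ker))
    (L : S.Modules) (hL : PicF.IsInvertible L)
    (n : ℕ) (Z : Fin (n + 1) → S.IdealSheafData) (hZ : ∀ i, FGA.IsEffCartier (Z i))
    (hZmono : Monotone Z) (hZlast : Z (Fin.last n) = ⊤)
    (μ : Fin (n + 1) → ℚ) (hμ : StrictAnti μ) (hμlast : μ (Fin.last n) = 0)
    (hnef : ∀ (i : Fin (n + 1)) (Γ : S.IdealSheafData), IsIntegral Γ.subscheme →
      topologicalKrullDim (Γ.support : Set S) = 1 →
      (0 : ℚ) ≤ ((Curv2.euler k S (CohB1.tensorMod (ClSub.quotMod Γ) L) - Curv2.euler k S (ClSub.quotMod Γ)) : ℚ) + ((Curv2.euler k S (CohB1.tensorMod (ClSub.quotMod Γ) (ClSub.idealMod (Z i))) - Curv2.euler k S (ClSub.quotMod Γ)) : ℚ)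
        - μ i * ((Curv2.euler k S (CohB1.tensorMod (ClSub.quotMod Γ) LF) - Curv2.euler k S (ClSub.quotMod Γ)) : ℚ)) :
    (Finset.univ.sum fun i : Fin n =>
        (((FGA.intNum k S 2 ![L, LF] (Coh.structureModule S) : ℚ) + (FGA.intNum k S 2 ![ClSub.idealMod (Z i.castSucc), LF] (Coh.structureModule S) : ℚ) - μ i.castSucc * (FGA.intNum k S 2 ![LF, LF] (Coh.structureModule S) : ℚ))
          + ((FGA.intNum k S 2 ![L, LF] (Coh.structureModule S) : ℚ) + (FGA.intNum k S 2 ![ClSub.idealMod (Z i.succ), LF] (Coh.structureModule S) : ℚ) - μ i.succ * (FGA.intNum k S 2 ![LF, LF] (Coh.structureModule S) : ℚ)))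
        * (μ i.castSucc - μ i.succ)) ≤ (FGA.intNum k S 2 ![L, L] (Coh.structureModule S) : ℚ) := by
  have hd : topologicalKrullDim S ≤ (2 : ℕ) := hdim.le
  have : IsNoetherian S := CurvesB.CurveRR.isNoetherian_of_proper k S
  have : IsNoetherian C := CurvesB.CurveRR.isNoetherian_of_proper k C
  -- the fibre
  have hF : BlowUp.IsEffCartierIdeal (f.fiberι p).ker :=
    K456.FibDiv.isEff_fiber f p hdimC (fun x => S1535.result k C x) hp
  have hLFi : PicF.IsInvertible LF := by
    obtain ⟨e⟩ := hLF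
    exact K456.SecTriv.isInvertible_of_inverse (Dix.IdealModCartier.isInvertible_idealMod hF) e
  have hZe : ∀ i, BlowUp.IsEffCartierIdeal (Z i) := hZ
  set a : Pic S := mk L hL with ha
  set F : Pic S := mk LF hLFi with hFdef
  let z : Fin (n + 1) → Pic S := fun i => ic (Z i) (hZe i)
  have e1 : FGA.intNum k S 2 ![L, LF] (Coh.structureModule S) = dot k S a F := intNum_eq_dot k S hd hL hLFi
  have e2 : ∀ i, FGA.intNum k S 2 ![ClSub.idealMod (Z i), LF] (Coh.structureModule S) = dot k S (z i) F := fun i =>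
    intNum_eq_dot k S hd (Dix.IdealModCartier.isInvertible_idealMod (hZe i)) hLFi
  have e3 : FGA.intNum k S 2 ![LF, LF] (Coh.structureModule S) = dot k S F F := intNum_eq_dot k S hd hLFi hLFi
  have e4 : FGA.intNum k S 2 ![L, L] (Coh.structureModule S) = dot k S a a := intNum_eq_dot k S hd hL hL
  -- nefness on curves
  have nef1 : ∀ (i : Fin (n + 1)) (Γ : S.IdealSheafData), IsCurve Γ →
      (0 : ℚ) ≤ (degOn k S Γ a : ℚ) + (degOn k S Γ (z i) : ℚ) - μ i * (degOn k S Γ F : ℚ) := by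
    intro i Γ hΓ
    have h := hnef i Γ hΓ.integral hΓ.dim
    have h1 : degOn k S Γ a = Curv2.euler k S (CohB1.tensorMod (ClSub.quotMod Γ) L) -
      Curv2.euler k S (ClSub.quotMod Γ) := degOn_mk k S Γ hL
    have h2 : degOn k S Γ F = Curv2.euler k S (CohB1.tensorMod (ClSub.quotMod Γ) LF) -
      Curv2.euler k S (ClSub.quotMod Γ) := degOn_mk k S Γ hLFi
    have h3 : degOn k S Γ (z i) = Curv2.euler k S (CohB1.tensorMod (ClSub.quotMod Γ) (ClSub.idealMod (Z i))) -
      Curv2.euler k S (ClSub.quotMod Γ) := degOn_mk k S Γ (Dix.IdealModCartier.isInvertible_idealMod (hZe i))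
    rw [h1, h2, h3]
    push_cast
    exact h
  -- nefness on effective divisors
  have nef2 : ∀ (i : Fin (n + 1)) (D : S.IdealSheafData) (hD : BlowUp.IsEffCartierIdeal D),
      (dot k S (ic D hD) a : ℚ) + (dot k S (ic D hD) (z i) : ℚ) - μ i * (dot k S (ic D hD) F : ℚ) ≤ 0 := by
    intro i D hD
    have key : (0 : ℚ) ≤ (degOn k S D a : ℚ) + (degOn k S D (z i) : ℚ) - μ i * (degOn k S D F : ℚ) := by
      refine eff_induction k (S ↘ Spec (CommRingCat.of k)) hdim (fun x => S1535.result k S x)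
        (P := fun D => BlowUp.IsEffCartierIdeal D →
          (0 : ℚ) ≤ (degOn k S D a : ℚ) + (degOn k S D (z i) : ℚ) - μ i * (degOn k S D F : ℚ)) ?_ ?_ D hD hD
      · intro _
        rw [degOn_top, degOn_top, degOn_top]
        simp
      · intro C' D' hC hCe hDe ih _
        rw [degOn_eff_mul k hd hCe hDe, degOn_eff_mul k hd hCe hDe, degOn_eff_mul k hd hCe hDe]
        have h1 := nef1 i C' hC
        have h2 := ih hDe
        push_cast
        linarith
    rw [degOn_eq_neg_dot k S hD, degOn_eq_neg_dot k S hD, degOn_eq_neg_dot k S hD] at key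
    push_cast at key
    linarith
  -- the squares
  let Q : Fin (n + 1) → ℚ := fun i => (dot k S a a : ℚ) + 2 * (dot k S a (z i) : ℚ) - 2 * μ i * (dot k S a F : ℚ) +
    (dot k S (z i) (z i) : ℚ) - 2 * μ i * (dot k S (z i) F : ℚ) + μ i * μ i * (dot k S F F : ℚ)
  have hQ0 : 0 ≤ Q 0 := by
    obtain ⟨H, hH⟩ := K456.AmpleEx.exists_ample k S hdim
    have hm : (0 : ℚ) < ((μ 0).den : ℚ) := by exact_mod_cast (μ 0).den_pos
    have hmq : μ 0 * ((μ 0).den : ℚ) = ((μ 0).num : ℚ) := Rat.mul_den_eq_num (μ 0)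
    have h := K456.NefSq.nef_sq k hdim hH (a := a ^ (μ 0).den * z 0 ^ (μ 0).den * F ^ (-(μ 0).num)) (by
      intro Γ hΓ
      rw [degOn_mul k hΓ, degOn_mul k hΓ, degOn_pow k hΓ, degOn_pow k hΓ, degOn_zpow k hΓ]
      have h1 := nef1 0 Γ hΓ
      have h2 : (0 : ℚ) ≤ ((μ 0).den : ℚ) * ((degOn k S Γ a : ℚ) + (degOn k S Γ (z 0) : ℚ) -
        μ 0 * (degOn k S Γ F : ℚ)) := mul_nonneg hm.le h1
      have h3 : ((μ 0).den : ℚ) * ((degOn k S Γ a : ℚ) + (degOn k S Γ (z 0) : ℚ) -
        μ 0 * (degOn k S Γ F : ℚ)) = (((μ 0).den : ℤ) * degOn k S Γ a + ((μ 0).den : ℤ) * degOn k S Γ (z 0) +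
          -(μ 0).num * degOn k S Γ F : ℤ) := by
        push_cast
        rw [← hmq]
        ring
      rw [h3] at h2
      exact_mod_cast h2)
    have h1 : (dot k S (a ^ (μ 0).den * z 0 ^ (μ 0).den * F ^ (-(μ 0).num))
        (a ^ (μ 0).den * z 0 ^ (μ 0).den * F ^ (-(μ 0).num)) : ℚ) = ((μ 0).den : ℚ) * ((μ 0).den : ℚ) * Q 0 := by
      simp only [dot_mul_left k S hd, dot_mul_right k S hd, dot_pow_left k S hd, dot_pow_right k S hd,
        dot_zpow_left k S hd, dot_zpow_right k S hd, Q]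
      rw [dot_comm k S (z 0) a, dot_comm k S F a, dot_comm k S F (z 0)]
      push_cast
      rw [← hmq]
      ring
    have h2 : (0 : ℚ) ≤ ((μ 0).den : ℚ) * ((μ 0).den : ℚ) * Q 0 := by
      rw [← h1]
      exact_mod_cast h
    exact nonneg_of_mul_nonneg_right h2 (mul_pos hm hm)
  have hQl : Q (Fin.last n) = (dot k S a a : ℚ) := by
    have h1 : z (Fin.last n) = 1 := by
      change ic (Z (Fin.last n)) _ = 1
      rw [ic_congr (hZe (Fin.last n)) Divis.EffCartier.isEff_top hZlast, ic_top]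
    simp only [Q, h1, hμlast, dot_one_right, dot_one_left]
    push_cast
    ring
  rw [e4, ← hQl]
  have h5 : (Finset.univ.sum fun i : Fin n =>
        (((FGA.intNum k S 2 ![L, LF] (Coh.structureModule S) : ℚ) + (FGA.intNum k S 2 ![ClSub.idealMod (Z i.castSucc), LF] (Coh.structureModule S) : ℚ) - μ i.castSucc * (FGA.intNum k S 2 ![LF, LF] (Coh.structureModule S) : ℚ))
          + ((FGA.intNum k S 2 ![L, LF] (Coh.structureModule S) : ℚ) + (FGA.intNum k S 2 ![ClSub.idealMod (Z i.succ), LF] (Coh.structureModule S) : ℚ) - μ i.succ * (FGA.intNum k S 2 ![LF, LF] (Coh.structureModule S) : ℚ)))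
        * (μ i.castSucc - μ i.succ)) ≤ Finset.univ.sum fun i : Fin n => (Q i.succ - Q i.castSucc) := by
    refine Finset.sum_le_sum fun i _ => ?_
    rw [e1, e3, e2, e2]
    obtain ⟨J, hJ, hmul⟩ := Divis.ColonIdeal.exists_mul_eq (hZe i.succ) (hZe i.castSucc)
      (hZmono (Fin.castSucc_lt_succ).le)
    have hz : z i.castSucc = z i.succ * ic J hJ := by
      change ic (Z i.castSucc) _ = ic (Z i.succ) _ * ic J hJ
      rw [← ic_mul, ic_congr _ _ hmul]
    have h1 := nef2 i.succ J hJ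
    have h2 := nef2 i.castSucc J hJ
    rw [hz, dot_mul_right k S hd] at h2
    simp only [Q]
    rw [hz]
    simp only [dot_mul_left k S hd, dot_mul_right k S hd]
    rw [dot_comm k S (ic J hJ) a] at h1 h2
    rw [dot_comm k S (ic J hJ) (z i.succ)] at h1 h2 ⊢
    push_cast at h1 h2 ⊢
    have hid : ∀ aa az aj aF zz zj jj zF jF FF mc ms : ℚ,
        (aa + 2 * az - 2 * ms * aF + zz - 2 * ms * zF + ms * ms * FF) -
        (aa + 2 * (az + aj) - 2 * mc * aF + (zz + zj + (zj + jj)) - 2 * mc * (zF + jF) + mc * mc * FF) -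
        ((aF + (zF + jF) - mc * FF + (aF + zF - ms * FF)) * (mc - ms)) =
        - (aj + zj - ms * jF) - (aj + (zj + jj) - mc * jF) := by
      intros; ring
    have h6 := hid (dot k S a a) (dot k S a (z i.succ)) (dot k S a (ic J hJ)) (dot k S a F)
      (dot k S (z i.succ) (z i.succ)) (dot k S (z i.succ) (ic J hJ)) (dot k S (ic J hJ) (ic J hJ))
      (dot k S (z i.succ) F) (dot k S (ic J hJ) F) (dot k S F F) (μ i.castSucc) (μ i.succ)
    linarith
  refine h5.trans ?_
  rw [tele]
  linarith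

end Groth.Agent.S14313
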