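import Groth.Statements.S14314
import Groth.Agent.Surf.K456.FibDiv

set_option autoImplicit false
universe u
open CategoryTheory CategoryTheory.Limits AlgebraicGeometry TopologicalSpace
open Surf

namespace Groth.Agent.S14314

open K456.Base K456.FibDiv Groth.Agent.Dix.IdealModCartier

/-- Let k be an algebraically closed field, S a smooth projective surface over k (integral, proper and
smooth over k, of dimension 2), f : S → C a surjective k-morphism onto a smooth projective curve and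
F = f⁻¹(p) the fibre over a closed point p, with O_S(F) a tensor inverse of its ideal sheaf. Let
D_1, D_2 be numerically equivalent divisors (invertible modules L_1, L_2 with (L_1·Γ) = (L_2·Γ) for
every integral curve Γ ⊆ S, where (L·Γ) = χ(O_Γ ⊗ L) − χ(O_Γ)), μ_1 ≥ μ_2 rational numbers and Z_1,
Z_2 effective Cartier divisors with common part Z, that is Z_i = Z + Y_i with Z, Y_1, Y_2 effective
Cartier divisors and Y_1, Y_2 without common component (Y_1 ∩ Y_2 finite); in terms of ideal sheaves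
I_{Z_i} = I_Z · I_{Y_i}. If N_i = D_i − Z_i − μ_i F is nef for i = 1, 2, that is (D_i·Γ) +
(I_{Z_i}·Γ) − μ_i (F·Γ) ≥ 0 for every integral curve Γ, then N = D_2 − Z − μ_2 F is nef. (The
published statement is for the chapter's fibration over an algebraically closed field of positive
characteristic; this row asks only that f be surjective and allows any algebraically closed field.) -/
theorem result (k : Type u) [Field k] [IsAlgClosed k]
    (S : Scheme.{u}) [S.Over (Spec (CommRingCat.of k))] [IsProper (S ↘ (Spec (CommRingCat.of k)))]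
    [Smooth (S ↘ (Spec (CommRingCat.of k)))] [IsIntegral S] (hdim : topologicalKrullDim S = 2)
    (C : Scheme.{u}) [C.Over (Spec (CommRingCat.of k))] [IsProper (C ↘ (Spec (CommRingCat.of k)))]
    [Smooth (C ↘ (Spec (CommRingCat.of k)))] [IsIntegral C] (hdimC : topologicalKrullDim C = 1)
    (f : S ⟶ C) [f.IsOver (Spec (CommRingCat.of k))] [Surjective f]
    (p : C) (hp : IsClosed ({p} : Set C))
    (LF : S.Modules) (hLF : ClSub.IsInverseOf LF (ClSub.idealMod (f.fiberι p).ker))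
    (L₁ L₂ : S.Modules) (hL₁ : PicF.IsInvertible L₁) (hL₂ : PicF.IsInvertible L₂)
    (hnum : ∀ Γ : S.IdealSheafData, IsIntegral Γ.subscheme → topologicalKrullDim (Γ.support : Set S) = 1 →
      (Curv2.euler k S (CohB1.tensorMod (ClSub.quotMod Γ) L₁) - Curv2.euler k S (ClSub.quotMod Γ)) = (Curv2.euler k S (CohB1.tensorMod (ClSub.quotMod Γ) L₂) - Curv2.euler k S (ClSub.quotMod Γ)))
    (μ₁ μ₂ : ℚ) (hμ : μ₂ ≤ μ₁)
    (Z Y₁ Y₂ Z₁ Z₂ : S.IdealSheafData) (hZ : FGA.IsEffCartier Z) (hY₁ : FGA.IsEffCartier Y₁) (hY₂ : FGA.IsEffCartier Y₂)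
    (hZ₁ : Z₁ = Z * Y₁) (hZ₂ : Z₂ = Z * Y₂) (hY : ((Y₁ ⊔ Y₂).support : Set S).Finite)
    (hnef₁ : (∀ Γ : S.IdealSheafData, IsIntegral Γ.subscheme → topologicalKrullDim (Γ.support : Set S) = 1 →
      (0 : ℚ) ≤ ((Curv2.euler k S (CohB1.tensorMod (ClSub.quotMod Γ) L₁) - Curv2.euler k S (ClSub.quotMod Γ)) : ℚ) + ((Curv2.euler k S (CohB1.tensorMod (ClSub.quotMod Γ) (ClSub.idealMod Z₁)) - Curv2.euler k S (ClSub.quotMod Γ)) : ℚ)
        - μ₁ * ((Curv2.euler k S (CohB1.tensorMod (ClSub.quotMod Γ) LF) - Curv2.euler k S (ClSub.quotMod Γ)) : ℚ)))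
    (hnef₂ : (∀ Γ : S.IdealSheafData, IsIntegral Γ.subscheme → topologicalKrullDim (Γ.support : Set S) = 1 →
      (0 : ℚ) ≤ ((Curv2.euler k S (CohB1.tensorMod (ClSub.quotMod Γ) L₂) - Curv2.euler k S (ClSub.quotMod Γ)) : ℚ) + ((Curv2.euler k S (CohB1.tensorMod (ClSub.quotMod Γ) (ClSub.idealMod Z₂)) - Curv2.euler k S (ClSub.quotMod Γ)) : ℚ)
        - μ₂ * ((Curv2.euler k S (CohB1.tensorMod (ClSub.quotMod Γ) LF) - Curv2.euler k S (ClSub.quotMod Γ)) : ℚ))) :
    (∀ Γ : S.IdealSheafData, IsIntegral Γ.subscheme → topologicalKrullDim (Γ.support : Set S) = 1 →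
      (0 : ℚ) ≤ ((Curv2.euler k S (CohB1.tensorMod (ClSub.quotMod Γ) L₂) - Curv2.euler k S (ClSub.quotMod Γ)) : ℚ) + ((Curv2.euler k S (CohB1.tensorMod (ClSub.quotMod Γ) (ClSub.idealMod Z)) - Curv2.euler k S (ClSub.quotMod Γ)) : ℚ)
        - μ₂ * ((Curv2.euler k S (CohB1.tensorMod (ClSub.quotMod Γ) LF) - Curv2.euler k S (ClSub.quotMod Γ)) : ℚ)) := by
  intro Γ hΓ hΓd
  have hCn : IsLocallyNoetherian C :=
    LocallyOfFiniteType.isLocallyNoetherian (C ↘ (Spec (CommRingCat.of k)))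
  have hreg : ∀ c : C, IsRegularLocalRing (C.presheaf.stalk c) :=
    fun c => isRegular_of_smooth (C ↘ (Spec (CommRingCat.of k))) c
  have hdom : IsDominant f := inferInstance
  have hF := isEff_fiber f p hdimC hreg hp
  obtain ⟨hLFi, -⟩ := isInvertible_of_isInverseOf hLF
  -- the degrees
  have eφ : dg k Γ LF = - dg k Γ (ClSub.idealMod (f.fiberι p).ker) :=
    dg_inverse k Γ hΓd hLFi (isInvertible_idealMod hF) hLF
  have hφ : 0 ≤ dg k Γ LF := by
    rw [eφ]
    have := dg_fiber_le k f p hdimC hreg hp Γ hΓd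
    linarith
  obtain ⟨e1⟩ := idealMod_mul hZ hY₁
  obtain ⟨e2⟩ := idealMod_mul hZ hY₂
  have hz1 : dg k Γ (ClSub.idealMod Z₁) = dg k Γ (ClSub.idealMod Z) + dg k Γ (ClSub.idealMod Y₁) := by
    rw [hZ₁, ← dg_congr k Γ e1,
      dg_tensor k Γ hΓd (isInvertible_idealMod hZ) (isInvertible_idealMod hY₁)]
  have hz2 : dg k Γ (ClSub.idealMod Z₂) = dg k Γ (ClSub.idealMod Z) + dg k Γ (ClSub.idealMod Y₂) := by
    rw [hZ₂, ← dg_congr k Γ e2,
      dg_tensor k Γ hΓd (isInvertible_idealMod hZ) (isInvertible_idealMod hY₂)]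
  have hL : dg k Γ L₁ = dg k Γ L₂ := hnum Γ hΓ hΓd
  have h1 := hnef₁ Γ hΓ hΓd
  have h2 := hnef₂ Γ hΓ hΓd
  have c1 : (0 : ℚ) ≤ (dg k Γ L₁ : ℚ) + (dg k Γ (ClSub.idealMod Z₁) : ℚ) - μ₁ * (dg k Γ LF : ℚ) := by
    simpa only [dg, Int.cast_sub] using h1
  have c2 : (0 : ℚ) ≤ (dg k Γ L₂ : ℚ) + (dg k Γ (ClSub.idealMod Z₂) : ℚ) - μ₂ * (dg k Γ LF : ℚ) := by
    simpa only [dg, Int.cast_sub] using h2
  have goal : (0 : ℚ) ≤ (dg k Γ L₂ : ℚ) + (dg k Γ (ClSub.idealMod Z) : ℚ) - μ₂ * (dg k Γ LF : ℚ) := by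
    rw [hz1, hL] at c1
    rw [hz2] at c2
    push_cast at c1 c2
    have hφ' : (0 : ℚ) ≤ (dg k Γ LF : ℚ) := by exact_mod_cast hφ
    by_cases hg : Γ.subschemeι (genericPoint Γ.subscheme) ∈ Y₂.support
    · have hg1 : Γ.subschemeι (genericPoint Γ.subscheme) ∉ Y₁.support := by
        intro hg1
        -- then the support of `Γ` is finite
        exact not_finite_support k Γ hΓd (hY.subset (support_subset Γ _ (by
          rw [Scheme.IdealSheafData.support_sup]
          exact ⟨hg1, hg⟩)))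
      have hy1 : ((dg k Γ (ClSub.idealMod Y₁) : ℤ) : ℚ) ≤ 0 := by
        exact_mod_cast dg_ideal_le k Γ hΓd hY₁ hg1
      nlinarith [mul_nonneg (sub_nonneg.2 hμ) hφ']
    · have hy2 : ((dg k Γ (ClSub.idealMod Y₂) : ℤ) : ℚ) ≤ 0 := by
        exact_mod_cast dg_ideal_le k Γ hΓd hY₂ hg
      linarith
  simpa only [dg, Int.cast_sub] using goal

end Groth.Agent.S14314
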