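import Groth.Statements.S14316
import Groth.Agent.Curves.K324.KumUnr
import Groth.Agent.Curves.K324.CovSect
import Groth.Agent.Curves.K324.Basic
import Groth.Agent.CurvesC.RegNormal
import Groth.Agent.VarietyA.RegSmoothSch
import Groth.Agent.Pi1.H386.NormalCurve
import Groth.Agent.Sga3C.DimTop

set_option autoImplicit false
universe u
open CategoryTheory CategoryTheory.Limits AlgebraicGeometry TopologicalSpace
open Curves

namespace Groth.Agent.S14316

open K324 NormExt KumSec KumUnr
open Groth.Agent.Fdesc.LocGen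

theorem isNormalScheme_of_smooth {k : Type u} [Field k] {X : Scheme.{u}} (f : X ⟶ Spec (CommRingCat.of k)) [Smooth f] :
    Pi1.IsNormalScheme X := by
  intro x
  have h1 : IsRegularLocalRing (X.presheaf.stalk x) :=
    Groth.Agent.VarietyA.RegSmoothSch.isRegularLocalRing_stalk_of_mem_smoothLocus f x (by
      rw [Scheme.Hom.smoothLocus_eq_top]; trivial)
  exact ⟨Groth.Agent.CurvesC.RegNormal.isDomain _, Groth.Agent.CurvesC.RegNormal.isIntegrallyClosed _⟩

theorem isUnit_natCast {k : Type u} [Field k] {X : Scheme.{u}} (f : X ⟶ Spec (CommRingCat.of k)) {n : ℕ}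
    (hn : (n : k) ≠ 0) (W : X.Opens) : IsUnit (n : Γ(X, W)) := by
  let φ : k →+* Γ(X, W) := (X.presheaf.map (homOfLE le_top).op).hom.comp (f.appTop.hom.comp
    (Scheme.ΓSpecIso (CommRingCat.of k)).inv.hom)
  have h1 : IsUnit (φ (n : k)) := (isUnit_iff_ne_zero.2 hn).map φ
  rwa [map_natCast] at h1


/-- Rank-one case. Let k be an algebraically closed field, C a smooth projective curve over k (integral,
proper and smooth over k, of dimension 1), E an invertible O_C-module of positive degree χ(E) −
χ(O_C) > 0, and T ⊆ C a finite set of points. Then there are a smooth projective curve C' over k and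
a finite k-morphism ψ : C' → C which is generically unramified (separable) and unramified at every
point lying over T, such that H⁰(C', ψ^*E) ≠ 0. (This is the rank-one step of the published lemma,
which is stated for locally free E of any rank and positive degree modulo a good base extension for
a fibration over C, the extension being required unramified over the images of the singular fibres;
here that finite set is an arbitrary finite set T. The steps for higher rank are not restated. The
published statement works over an algebraically closed field of positive characteristic; this row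
allows any algebraically closed field.) -/
theorem result (k : Type u) [Field k] [IsAlgClosed k]
    (C : Scheme.{u}) [C.Over (Spec (CommRingCat.of k))] [IsProper (C ↘ (Spec (CommRingCat.of k)))]
    [Smooth (C ↘ (Spec (CommRingCat.of k)))] [IsIntegral C] (hdimC : topologicalKrullDim C = 1)
    (E : C.Modules) (hE : PicF.IsInvertible E) (hdeg : 0 < Curv2.deg k C E 1)
    (T : Set C) (hT : T.Finite) :
    ∃ (C' : Scheme.{u}) (_ : C'.Over (Spec (CommRingCat.of k))) (ψ : C' ⟶ C),
      IsProper (C' ↘ (Spec (CommRingCat.of k))) ∧ Smooth (C' ↘ (Spec (CommRingCat.of k))) ∧ IsIntegral C' ∧ topologicalKrullDim C' = 1 ∧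
      ψ.IsOver (Spec (CommRingCat.of k)) ∧ IsFinite ψ ∧
      (∃ U : C'.Opens, (U : Set C').Nonempty ∧ FormallyUnramified (U.ι ≫ ψ)) ∧
      (∀ c : C', ψ.base c ∈ T → ∃ U : C'.Opens, c ∈ U ∧ FormallyUnramified (U.ι ≫ ψ)) ∧
      Nontrivial (Coh.HH C' ((Scheme.Modules.pullback ψ).obj E) 0) := by
  have hC : Pi1.IsNormalScheme C := isNormalScheme_of_smooth (C ↘ (Spec (CommRingCat.of k)))
  have hN : IsLocallyNoetherian C := LocallyOfFiniteType.isLocallyNoetherian (C ↘ (Spec (CommRingCat.of k)))
  have hcpt : CompactSpace C := QuasiCompact.compactSpace_of_compactSpace (C ↘ (Spec (CommRingCat.of k)))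
  have hNN : IsNoetherian C := { hN, hcpt with }
  obtain ⟨n, hn, s, hs⟩ := CovSect.exists_section k C hdimC E hE hdeg (insert (genericPoint C) T) (hT.insert _)
  have hn0 : n ≠ 0 := by
    rintro rfl
    exact hn Nat.cast_zero
  obtain ⟨V₀, e₀, hV₀, -, -, he₀⟩ :=
    Groth.Agent.Ega2.TensGen.exists_affine_gen hE (genericPoint C) (V := ⊤) trivial
  obtain ⟨h₀, hh₀⟩ := (he₀.pow n).exists_eq (sec s V₀)
  have hgerm : IsUnit (C.presheaf.germ V₀ (genericPoint C) hV₀ h₀) := by
    have h1 : genericPoint C ∈ C.basicOpen h₀ := by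
      rw [← genLocus_inf_eq s (he₀.pow n) hh₀]
      exact ⟨hs _ (Set.mem_insert _ _), hV₀⟩
    exact (Scheme.mem_basicOpen _ _ _ hV₀).1 h1
  have hnK : (n : C.functionField) ≠ 0 := by
    have h1 := (isUnit_natCast (C ↘ (Spec (CommRingCat.of k))) hn ⊤).map
      (C.presheaf.germ ⊤ (genericPoint C) trivial).hom
    rw [map_natCast] at h1
    exact h1.ne_zero
  obtain ⟨L, _, _, hfd, hsep, α, hα, hαtop⟩ := RootExt.exists_ext C.functionField n hnK
    (C.presheaf.germ V₀ (genericPoint C) hV₀ h₀) hgerm.ne_zero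
  have hα' : α ^ n = val L V₀ hV₀ h₀ := hα
  have hα0 : α ≠ 0 := by
    rintro rfl
    rw [zero_pow hn0] at hα
    exact hgerm.ne_zero ((map_eq_zero _).1 hα.symm)
  have hfin : IsFinite (proj (C := C) L) := isFinite_proj L hC
  have hp : pt (C := C) L ≫ proj L = gen L := pt_proj L
  have hl : ∀ x, Nonempty (Loc L (proj L) (pt L) hp n s e₀ hV₀ α x) :=
    exists_loc L (proj L) (pt L) hp hE n hn0 s e₀ he₀ hV₀ h₀ hh₀ α hα' (fun hV hg z hz => exists_ev L hV hg z hz)
  have l := fun x => (hl x).some
  have hdim' : topologicalKrullDim (Nm (C := C) L) = 1 := by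
    rw [← hdimC]
    exact Groth.Agent.Sga3C.DimTop.topologicalKrullDim_eq_of_isIntegralHom (proj L)
  have hun : ∀ x ∈ insert (genericPoint C) T, ∃ W : C.Opens, x ∈ W ∧
      FormallyUnramified ((proj (C := C) L ⁻¹ᵁ W).ι ≫ proj L) := fun x hx =>
    unram_near L hC (proj L) (pt L) hp (isUnit_natCast (C ↘ (Spec (CommRingCat.of k))) hn) hαtop (l x) (hs x hx)
  let oo : (Nm (C := C) L).Over (Spec (CommRingCat.of k)) := ⟨proj L ≫ (C ↘ (Spec (CommRingCat.of k)))⟩
  refine ⟨Nm (C := C) L, oo, proj L, ?_, ?_, inferInstance, hdim', ⟨rfl⟩, hfin, ?_, ?_, ?_⟩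
  · exact inferInstanceAs (IsProper (proj L ≫ (C ↘ (Spec (CommRingCat.of k)))))
  · exact Groth.Agent.Pi1.H386.NormalCurve.smooth_of_normal k (proj L ≫ (C ↘ (Spec (CommRingCat.of k))))
      (isNormalScheme L) hdim'.le
  · obtain ⟨W, hW, hW'⟩ := hun _ (Set.mem_insert _ _)
    exact ⟨_, ⟨_, pt_mem L hW (IsLocalRing.closedPoint L)⟩, hW'⟩
  · intro c hc
    obtain ⟨W, hW, hW'⟩ := hun _ (Set.mem_insert_of_mem _ hc)
    exact ⟨_, hW, hW'⟩
  · obtain ⟨t, ht⟩ := exists_section L (proj L) (pt L) hp hα0 l
    exact K324.Basic.ne_zero_of_hom _ t ht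

end Groth.Agent.S14316
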