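import Groth.Statements.S14317
import Groth.Agent.Surf.K456.RelCanB

set_option autoImplicit false
universe u
open CategoryTheory CategoryTheory.Limits AlgebraicGeometry TopologicalSpace
open Surf

namespace Groth.Agent.S14317


/-- Let k be an algebraically closed field, S a smooth projective surface over k (integral, proper and
smooth, of dimension 2) and f : S → C a fibration onto a smooth projective curve (a surjective
k-morphism with O_C → f_*O_S an isomorphism) which is semi-stable (flat, of finite presentation, all
fibres one-dimensional with at worst nodal singularities); let g ≥ 2 be the genus of the fibres, 1 −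
g = χ(O_F) for the fibre F = f⁻¹(p) over a closed point p (computed on S through the direct image of
O_F). Let ω_{S/C} = ω_S ⊗ (f^*ω_C)^{-1} be the relative canonical module, ω_S a second exterior
power of Ω_{S/k} and (f^*Ω_{C/k})^{-1} a tensor inverse of f^*Ω_{C/k}. Then deg f_*ω_{S/C} = χ(O_S)
− (g(C) − 1)(g − 1), the degree of the rank-g module f_*ω_{S/C} on C being χ(f_*ω_{S/C}) − g·χ(O_C)
and g(C) = dim H¹(C, O_C). (The published statement carries the further standing hypotheses of the
chapter — generically ordinary, strongly l-ordinary generic fibre, non-isotrivial, relatively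
minimal — which the degree computation does not use; semi-stability is kept, since with multiple
fibres R¹f_*O_S may have torsion and the formula can fail. The published statement works over an
algebraically closed field of positive characteristic; this row allows any algebraically closed
field.) -/
theorem result (k : Type u) [Field k] [IsAlgClosed k]
    (S : Scheme.{u}) [S.Over (Spec (CommRingCat.of k))] [IsProper (S ↘ (Spec (CommRingCat.of k)))]
    [Smooth (S ↘ (Spec (CommRingCat.of k)))] [IsIntegral S] (hdim : topologicalKrullDim S = 2)
    (C : Scheme.{u}) [C.Over (Spec (CommRingCat.of k))] [IsProper (C ↘ (Spec (CommRingCat.of k)))]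
    [Smooth (C ↘ (Spec (CommRingCat.of k)))] [IsIntegral C] (hdimC : topologicalKrullDim C = 1)
    (f : S ⟶ C) [f.IsOver (Spec (CommRingCat.of k))] [Surjective f] (hconn : IsIso (ClSub.unitToPush f))
    (hss : Curv2.IsNodalFamily f)
    (p : C) (hp : IsClosed ({p} : Set C))
    (g : ℕ) (hg2 : 2 ≤ g) (hg : Curv2.euler k S (ClSub.quotMod (f.fiberι p).ker) = 1 - (g : ℤ))
    (WS : S.Modules) (hWS : ExtPow.IsExtPow 2 (Omega.sheaf (S ↘ (Spec (CommRingCat.of k)))) WS)
    (M : S.Modules) (hM : ClSub.IsInverseOf M ((Scheme.Modules.pullback f).obj (Omega.sheaf (C ↘ (Spec (CommRingCat.of k)))))) :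
    Curv2.euler k C ((Coh.push f).obj (CohB1.tensorMod WS M)) - (g : ℤ) * Curv2.euler k C (Coh.structureModule C) =
      Curv2.euler k S (Coh.structureModule S) - ((Curv2.genus k C : ℤ) - 1) * ((g : ℤ) - 1) := by
  have hf : f ≫ (C ↘ (Spec (CommRingCat.of k))) = S ↘ (Spec (CommRingCat.of k)) := comp_over f _
  have := K456.Resol.hasInjectiveResolutions S
  exact K456.RelCan.deg_push k hdim hdimC f hf hconn hWS p hp g hg hM hss

end Groth.Agent.S14317
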