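import Groth.Statements.S14318
import Groth.Agent.Surf.K456.RelCanB

set_option autoImplicit false
universe u
open CategoryTheory CategoryTheory.Limits AlgebraicGeometry TopologicalSpace
open Surf

namespace Groth.Agent.S14318


/-- Let k be an algebraically closed field, S a smooth projective surface over k (integral, proper and
smooth, of dimension 2) and f : S → C a fibration onto a smooth projective curve (a surjective
k-morphism with O_C → f_*O_S an isomorphism); let g ≥ 2 be the genus of the fibres, 1 − g = χ(O_F)
for the fibre F = f⁻¹(p) over a closed point p (computed on S through the direct image of O_F). Let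
ω_{S/C} = ω_S ⊗ (f^*ω_C)^{-1} be the relative canonical module, ω_S a second exterior power of
Ω_{S/k} and (f^*Ω_{C/k})^{-1} a tensor inverse of f^*Ω_{C/k}. Then f_*ω_{S/C} is locally free of
rank g on C. (The published statement carries the chapter's standing hypotheses — semi-stable,
generically ordinary, strongly l-ordinary generic fibre, non-isotrivial, relatively minimal — none
of which this part uses. The published statement works over an algebraically closed field of
positive characteristic; this row allows any algebraically closed field.) -/
theorem result (k : Type u) [Field k] [IsAlgClosed k]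
    (S : Scheme.{u}) [S.Over (Spec (CommRingCat.of k))] [IsProper (S ↘ (Spec (CommRingCat.of k)))]
    [Smooth (S ↘ (Spec (CommRingCat.of k)))] [IsIntegral S] (hdim : topologicalKrullDim S = 2)
    (C : Scheme.{u}) [C.Over (Spec (CommRingCat.of k))] [IsProper (C ↘ (Spec (CommRingCat.of k)))]
    [Smooth (C ↘ (Spec (CommRingCat.of k)))] [IsIntegral C] (hdimC : topologicalKrullDim C = 1)
    (f : S ⟶ C) [f.IsOver (Spec (CommRingCat.of k))] [Surjective f] (hconn : IsIso (ClSub.unitToPush f))
    (p : C) (hp : IsClosed ({p} : Set C))
    (g : ℕ) (hg2 : 2 ≤ g) (hg : Curv2.euler k S (ClSub.quotMod (f.fiberι p).ker) = 1 - (g : ℤ))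
    (WS : S.Modules) (hWS : ExtPow.IsExtPow 2 (Omega.sheaf (S ↘ (Spec (CommRingCat.of k)))) WS)
    (M : S.Modules) (hM : ClSub.IsInverseOf M ((Scheme.Modules.pullback f).obj (Omega.sheaf (C ↘ (Spec (CommRingCat.of k)))))) :
    FlatMod.IsFinLocFreeOfRank g ((Coh.push f).obj (CohB1.tensorMod WS M)) := by
  have hf : f ≫ (C ↘ (Spec (CommRingCat.of k))) = S ↘ (Spec (CommRingCat.of k)) := comp_over f _
  have := K456.Resol.hasInjectiveResolutions S
  exact K456.RelCan.isFinLocFreeOfRank_push k hdim hdimC f hf hconn hWS p hp g hg hM

end Groth.Agent.S14318
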