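import Groth.Statements.S14320
import Groth.Agent.AbSch.K258.KeyCharP

set_option autoImplicit false
universe u
open CategoryTheory CategoryTheory.Limits MonoidalCategory CartesianMonoidalCategory MonObj GrpObj AlgebraicGeometry
open AbSch

namespace Groth.Agent.S14320

/-- Let p be a prime number and S a locally Noetherian scheme on which p = 0. Let f : A → S be an
abelian scheme of relative dimension g ≥ 1 (a commutative S-group scheme, smooth and proper with
geometrically connected fibres of dimension g) with unit section e, and let L be an invertible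
O_A-module which is rigidified along e (e^*L ≅ O_S), symmetric ([-1]^*L ≅ L, [-1] the inverse of the
identity in the group of S-endomorphisms of A), ample relative to S, and principal in the sense that
f_*L is an invertible O_S-module. Let ω be the top exterior power Λ^g e^*Ω¹_{A/S} of the conormal
module of the unit section, and put δ = (f_*L)^{⊗2} ⊗ ω. Then δ^{⊗ (p²−1)p^{2g+2}} is isomorphic to
O_S. (The published statement covers semi-stable group schemes degenerating an abelian scheme, with
a cubical structure on L, and produces a canonical trivialisation compatible with base change; this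
row is the case of an abelian scheme, where a rigidified invertible module carries exactly one
cubical structure, and asserts only the existence of a trivialisation.) -/
theorem result {S : Scheme.{u}} [IsLocallyNoetherian S]
    (p : ℕ) [Fact p.Prime] (hp : (p : Γ(S, ⊤)) = 0)
    (A : Over S) [GrpObj A] [IsCommMonObj A] (g : ℕ) (hg : 1 ≤ g) (hA : AgPol.IsAbSch A g)
    (L : A.left.Modules) (hL : PicF.IsInvertible L)
    (hrig : Nonempty ((Scheme.Modules.pullback η[A].left).obj L ≅ Coh.structureModule S))
    (hsym : Nonempty ((Scheme.Modules.pullback (𝟙 A ^ (-1 : ℤ)).left).obj L ≅ L))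
    (hamp : RelAmple.IsRelAmple A.hom L)
    (hpr : PicF.IsInvertible ((Coh.push A.hom).obj L))
    (ω : S.Modules) (hω : ExtPow.IsExtPow g ((Scheme.Modules.pullback η[A].left).obj (Omega.sheaf A.hom)) ω) :
    Nonempty (CohB1.tensorPow (CohB1.tensorMod (CohB1.tensorPow ((Coh.push A.hom).obj L) 2) ω)
        ((p ^ 2 - 1) * p ^ (2 * g + 2)) ≅ Coh.structureModule S) := by
  have hc : FrobSch.IsCharP S p := ⟨hp⟩
  let D : K258.KeyDat.Dat A g L := ⟨hA, hL, hrig, hsym, hamp, hpr⟩
  have hom := K451.OmegaBox.isFinLocFreeOfRank_om hA
  have hωi := K451.DetMat.isInvertible_of_isExtPow hom hω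
  have h1 := K258.KeyCharP.delta_pow p D
  have h2 : K258.KeyDat.delta D = Groth.Agent.Grpsch.PicGrp.mk _
      (Groth.Agent.Fdesc.LocGen.isInvertible_tensorMod
        (Groth.Agent.Fdesc.LocGen.isInvertible_tensorPow hpr 2) hωi) := by
    rw [← Groth.Agent.Grpsch.PicGrp.mk_mul_mk (Groth.Agent.Fdesc.LocGen.isInvertible_tensorPow hpr 2) hωi,
      Groth.Agent.Grpsch.PicGrp.mk_tensorPow hpr, K451.DetPic.mk_eq_det hom hω]
    rfl
  rw [h2, ← Groth.Agent.Grpsch.PicGrp.mk_tensorPow] at h1
  exact (Groth.Agent.Grpsch.PicGrp.mk_eq_one_iff _).mp h1

end Groth.Agent.S14320
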