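import Groth.Statements.S14321
import Groth.Agent.AgPol.K245.FinalZ
import Groth.Agent.AgPol.K245.FineBig

set_option autoImplicit false
universe u
open CategoryTheory CategoryTheory.Limits MonoidalCategory CartesianMonoidalCategory MonObj AlgebraicGeometry
open AgPol

namespace Groth.Agent.S14321

/-- Let g ≥ 1, d ≥ 1 and n ≥ 3, and work over Spec ℤ[1/n]. Let Ab_{g,d,n} be the moduli problem of
abelian schemes A → T of relative dimension g (commutative group schemes, smooth and proper with
geometrically connected fibres of dimension g) given with a presentation (A^t, φ) of the dual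
abelian scheme for the fppf topology, a polarisation λ : A → A^t of degree d squared which
fppf-locally on T is the homomorphism attached to an invertible module ample relative to the base,
and a level-n structure (2g sections generating the n-torsion of every geometric fibre, which has
order n^{2g}), modulo isomorphism, pulled back by fibre product, tested on all schemes. Then: (1)
Ab_{g,d,n} is represented by a scheme M quasi-projective over Spec ℤ[1/n] — there is a family ξ = (f
: A → M, A^t, φ, λ, σ) over M such that every admissible family over a scheme T over ℤ[1/n] is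
isomorphic to the pull back of ξ along exactly one morphism T → M; M has a point over every
algebraically closed field over ℤ[1/n] and ξ pulls back to an admissible family along every such
point (products of elliptic curves carry such structures, so M is not the empty scheme); (2) for
every Poincaré class P for (A^t, φ) and every invertible O_A-module L whose class is the pull back
of P along the graph A → A ×_M A^t of λ (so that L is the module L^Δ(λ) and L^{⊗2} the module L(λ)
with attached homomorphism 4λ), if D is the (4^g d)-th exterior power of f_*(L^{⊗2}) — the rank of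
this locally free module — and D′ is an inverse of D, then D′ is ample on M. (The published
statement defines a polarisation as an isogeny of degree d squared which is fppf-locally of the form
φ_L with L ample; the moduli problem used here adds this fppf-local condition (the predicate Q,
pinned by an equation) to the fibrewise notion of polarisation, so that its admissible families are
exactly those triples.) -/
theorem result (g d n : ℕ) (hg : 1 ≤ g) (hd : 1 ≤ d) (hn : 3 ≤ n)
    (Q : ∀ T : Over (Spec (CommRingCat.of (ULift.{u} (Localization.Away (n : ℤ))))), AgPol.Fam T g → Prop)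
    (hQ : ∀ (T : Over (Spec (CommRingCat.of (ULift.{u} (Localization.Away (n : ℤ)))))) (x : AgPol.Fam T g), Q T x ↔ (letI := x.grp
        letI := x.grpt
        ∃ (T' : Scheme.{u}) (k : T' ⟶ T.left), Surjective k ∧ Flat k ∧ LocallyOfFinitePresentation k ∧
          ∃ L : (Red.bc k x.X).left.Modules, PicF.IsInvertible L ∧ RelAmple.IsRelAmple (Red.bc k x.X).hom L ∧
            AgPol.IsLambda (Red.bc k x.X) (Red.bc k x.Xt) (AgPol.bcDual k x.X x.Xt x.φ) L ((Over.pullback k).map x.lam))) :
    ∃ (M : Over (Spec (CommRingCat.of (ULift.{u} (Localization.Away (n : ℤ)))))) (ξ : AgPol.Fam M g),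
      ModFun.IsUnivFamily ⊤ ((AgPol.Agdn (Spec (CommRingCat.of (ULift.{u} (Localization.Away (n : ℤ))))) g d n).restrict Q) M ξ ∧ RelProj.IsQuasiProjective M.hom ∧
      (∀ (Ω : Type u) [Field Ω] [IsAlgClosed Ω] (t : Spec (CommRingCat.of Ω) ⟶ (Spec (CommRingCat.of (ULift.{u} (Localization.Away (n : ℤ)))))),
        Nonempty (Over.mk t ⟶ M) ∧ ∀ k : Over.mk t ⟶ M, ((AgPol.Agdn (Spec (CommRingCat.of (ULift.{u} (Localization.Away (n : ℤ))))) g d n).restrict Q).ok _ (((AgPol.Agdn (Spec (CommRingCat.of (ULift.{u} (Localization.Away (n : ℤ))))) g d n).restrict Q).pull k ξ)) ∧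
      (letI := ξ.grp
       letI := ξ.grpt
       ∀ (P : PicF.Cl (PicF.XT ξ.X.hom ξ.Xt)), AbDual.IsPoincareCl ξ.X ξ.Xt ξ.φ P →
        ∀ (L : ξ.X.left.Modules), PicF.IsInvertible L →
          PicF.cl L = PicF.pullCl (pullback.lift (𝟙 ξ.X.left) ξ.lam.left
            ((Category.id_comp ξ.X.hom).trans (Over.w ξ.lam).symm)) P →
          ∀ (D : M.left.Modules), ExtPow.IsExtPow (4 ^ g * d) ((Coh.push ξ.X.hom).obj (CohB1.tensorPow L 2)) D →
            ∀ (D' : M.left.Modules), ClSub.IsInverseOf D D' → CohB1.IsAmple D') :=
  K245.FinalZ.result_of hg hd hn (K245.FineBig.fine hg hd hn) @K969.QLoc.qloc Q hQ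

end Groth.Agent.S14321
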