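import Groth.Statements.S14322
import Groth.Agent.AbSch.K450.TorsMono
import Groth.Agent.AbSch.K450.DetGG
import Groth.Agent.SDiv.K471.NormLF
import Groth.Agent.AbSch.K451.DetPic

set_option autoImplicit false
universe u
open CategoryTheory CategoryTheory.Limits MonoidalCategory CartesianMonoidalCategory MonObj GrpObj AlgebraicGeometry
open AbSch

namespace Groth.Agent.S14322

/-- Let S be a connected Noetherian scheme, f : A → S an abelian scheme of relative dimension g (a
commutative S-group scheme, smooth and proper with geometrically connected fibres of dimension g)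
with unit section e, and L an invertible O_A-module which is rigidified along e, symmetric ([-1]^*L
≅ L) and ample relative to S. Assume that f_*L is finite locally free of rank d ≥ 1 and that 2d is
invertible on S. Then: (i) there are a finite étale surjective morphism π : S′ → S, an integer r and
a monomorphism π^*(f_*L) → O_{S′}^r of O_{S′}-modules whose cokernel is finite locally free
(π^*(f_*L) is locally a direct summand of a free module, so its dual is generated by global
sections); (ii) if D is the determinant Λ^d f_*L and D′ an inverse of D, then D′^{⊗n} is generated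
by its global sections for some n ≥ 1. (The published statement covers semi-stable group schemes
degenerating an abelian scheme, with a cubical structure on L and K(L^{⊗2}) finite étale over S;
this row is the case of an abelian scheme, where a rigidified invertible module carries exactly one
cubical structure and the étaleness of K(L^{⊗2}) amounts to 2d being invertible on S.) -/
theorem result {S : Scheme.{u}} [IsNoetherian S] [ConnectedSpace S]
    (A : Over S) [GrpObj A] [IsCommMonObj A] (g : ℕ) (hA : AgPol.IsAbSch A g)
    (L : A.left.Modules) (hL : PicF.IsInvertible L)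
    (hrig : Nonempty ((Scheme.Modules.pullback η[A].left).obj L ≅ Coh.structureModule S))
    (hsym : Nonempty ((Scheme.Modules.pullback (𝟙 A ^ (-1 : ℤ)).left).obj L ≅ L))
    (hamp : RelAmple.IsRelAmple A.hom L)
    (d : ℕ) (hd : 1 ≤ d) (hfree : FlatMod.IsFinLocFreeOfRank d ((Coh.push A.hom).obj L))
    (h2d : IsUnit ((2 * d : ℕ) : Γ(S, ⊤))) :
    (∃ (S' : Scheme.{u}) (π : S' ⟶ S), IsFinite π ∧ Etale π ∧ Surjective π ∧
        ∃ (r : ℕ) (v : (Scheme.Modules.pullback π).obj ((Coh.push A.hom).obj L) ⟶ FlatMod.freeMod S' r),
          Mono v ∧ FlatMod.IsFinLocFree (cokernel v)) ∧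
      ∀ (D : S.Modules), ExtPow.IsExtPow d ((Coh.push A.hom).obj L) D →
        ∀ (D' : S.Modules), ClSub.IsInverseOf D D' →
          ∃ n : ℕ, 1 ≤ n ∧ Curv2.IsGloballyGenerated (CohB1.tensorPow D' n) := by
  have h1 := hA.smooth
  have h3 := hA.proper
  have h4 := hA.geomConnected
  have h2 : IsUnit (2 : Γ(S, ⊤)) := by
    rw [Nat.cast_mul] at h2d
    exact_mod_cast isUnit_of_mul_isUnit_left h2d
  have hE : FlatMod.IsFinLocFree ((Scheme.Modules.pushforward A.hom).obj L) := K451.DetPic.isFinLocFree_of_rank hfree
  obtain ⟨S', π, hfin, het, hsurj, r, v, hv, hcok⟩ := K450.TorsMono.exists_cover A hL hrig hsym hamp hE h2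
  refine ⟨⟨S', π, hfin, het, hsurj, r, v, hv, hcok⟩, fun D hD D' hDD' => ?_⟩
  obtain ⟨s⟩ : Nonempty S := inferInstance
  have hloc : IsLocallyConstant π.finrank := Scheme.Hom.isLocallyConstant_finrank π
  have hdeg : Mor2.IsFinLocFreeOfDeg (π.finrank s) π :=
    ⟨⟨hfin, inferInstance, inferInstance⟩, fun y => hloc.apply_eq_of_isPreconnected isPreconnected_univ trivial trivial⟩
  have hone : 1 ≤ π.finrank s := (Scheme.Hom.one_le_finrank_iff_surjective π).2 hsurj s
  obtain ⟨N⟩ := K471.NormLF.hasNorm hone hdeg
  have h2' : ∀ x : S', (2 : S'.residueField x) ≠ 0 := fun x => by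
    have h5 : IsUnit (2 : Γ(S', ⊤)) := by
      have := h2.map π.appTop.hom
      rwa [map_ofNat] at this
    have h6 := h5.map (S'.evaluation ⊤ x trivial).hom
    rw [map_ofNat] at h6
    exact h6.ne_zero
  exact K450.DetGG.exists_gg π N h2' hfree v hcok hD hDD'

end Groth.Agent.S14322
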