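import Groth.Statements.S14323
import Groth.Agent.AbSch.K999.Two

set_option autoImplicit false
universe u
open CategoryTheory CategoryTheory.Limits MonoidalCategory CartesianMonoidalCategory MonObj GrpObj AlgebraicGeometry
open AbSch

namespace Groth.Agent.S14323

/-- Let S be a locally Noetherian scheme, f : A → S an abelian scheme of relative dimension g (a
commutative S-group scheme, smooth and proper with geometrically connected fibres of dimension g)
with unit section e, given with a commutative S-group scheme A^t and dual data φ presenting the dual
of A for the fppf topology, and L an invertible O_A-module which is rigidified along e, symmetric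
([-1]^*L ≅ L) and ample relative to S; let λ : A → A^t be the homomorphism attached to L through φ.
Let X be the kernel of λ ∘ [2], i.e. the fibre of [2] followed by λ over the unit section of A^t
(the subgroup K(L^{⊗2})), with its morphism i : X → A. Then the map f_*L → f_*(i_* i^*L) induced by
restriction of sections to X is a monomorphism whose cokernel is a finite locally free O_S-module:
f_*L is locally a direct summand of f_*(L|_X), and in particular f_*L is locally free. (The
published statement covers semi-stable group schemes degenerating an abelian scheme over a base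
normal at the points of bad reduction, with a cubical structure on L and K(L^{⊗2}) assumed finite
over S; this row is the case of an abelian scheme, where a rigidified invertible module carries
exactly one cubical structure and K(L^{⊗2}) is finite.) -/
theorem result {S : Scheme.{u}} [IsLocallyNoetherian S]
    (A At : Over S) [GrpObj A] [IsCommMonObj A] [GrpObj At] [IsCommMonObj At]
    (φ : AgPol.DualMap A At) (hdual : AbDual.IsDualAV Scheme.fppfPrecoverage A At φ)
    (g : ℕ) (hA : AgPol.IsAbSch A g)
    (L : A.left.Modules) (hL : PicF.IsInvertible L)
    (hrig : Nonempty ((Scheme.Modules.pullback η[A].left).obj L ≅ Coh.structureModule S))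
    (hsym : Nonempty ((Scheme.Modules.pullback (𝟙 A ^ (-1 : ℤ)).left).obj L ≅ L))
    (hamp : RelAmple.IsRelAmple A.hom L)
    (lam : A ⟶ At) (hlam : AgPol.IsLambda A At φ L lam) :
    Mono ((Coh.push A.hom).map ((Scheme.Modules.pullbackPushforwardAdjunction
        (pullback.fst ((𝟙 A ^ (2 : ℕ)) ≫ lam).left η[At].left)).unit.app L)) ∧
      FlatMod.IsFinLocFree (cokernel ((Coh.push A.hom).map ((Scheme.Modules.pullbackPushforwardAdjunction
        (pullback.fst ((𝟙 A ^ (2 : ℕ)) ≫ lam).left η[At].left)).unit.app L))) := by
  obtain ⟨h1, h2, h3, -⟩ := hA
  have gA := K732.AV.geomInt A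
  obtain rfl := (K814.MumHom.isLambda_iff φ hL lam).1 hlam
  have hη : Groth.Agent.Grpsch.PicGrp.pull (η[A] : 𝟙_ (Over S) ⟶ A).left
      (Groth.Agent.Grpsch.PicGrp.mk L hL) = 1 := by
    rw [Groth.Agent.Grpsch.PicGrp.pull_mk _ hL, Groth.Agent.Grpsch.PicGrp.one_def,
      Groth.Agent.Grpsch.PicGrp.mk_eq_iff]
    exact hrig
  exact K999.Two.main hdual hL hη hamp

end Groth.Agent.S14323
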