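import Groth.Statements.S14324
import Groth.Agent.S14321
import Groth.Agent.AgPol.K691.ZMain

set_option autoImplicit false
universe u
open CategoryTheory CategoryTheory.Limits MonoidalCategory CartesianMonoidalCategory MonObj AlgebraicGeometry
open AgPol

namespace Groth.Agent.S14324

/-- Let g ≥ 1 and d ≥ 1, and let Ab_{g,d,1} be the moduli problem over Spec ℤ of abelian schemes A → T
of relative dimension g (commutative group schemes, smooth and proper with geometrically connected
fibres of dimension g) given with a presentation of the dual abelian scheme A^t for the fppf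
topology and a polarisation λ : A → A^t of degree d squared which fppf-locally on T is the
homomorphism attached to an invertible module ample relative to the base (a level-1 structure being
no condition), modulo isomorphism, pulled back by fibre product, tested on all schemes. Then a
coarse moduli scheme for Ab_{g,d,1} exists and is quasi-projective over Spec ℤ: there are a scheme M
quasi-projective over Spec ℤ and a morphism Φ from Ab_{g,d,1} to the functor of points of M which is
bijective on points with values in every algebraically closed field and universal for morphisms from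
Ab_{g,d,1} to representable functors; and M has a point over every algebraically closed field
(products of elliptic curves carry such polarisations, so M is not the empty scheme). (The published
statement defines a polarisation as an isogeny of degree d squared which is fppf-locally of the form
φ_L with L ample; the moduli problem used here adds this fppf-local condition (the predicate Q,
pinned by an equation) to the fibrewise notion of polarisation, so that its admissible families are
exactly those pairs.) -/
theorem result (g d : ℕ) (hg : 1 ≤ g) (hd : 1 ≤ d)
    (Q : ∀ T : Over (Spec (CommRingCat.of (ULift.{u} ℤ))), AgPol.Fam T g → Prop)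
    (hQ : ∀ (T : Over (Spec (CommRingCat.of (ULift.{u} ℤ)))) (x : AgPol.Fam T g), Q T x ↔ (letI := x.grp
        letI := x.grpt
        ∃ (T' : Scheme.{u}) (k : T' ⟶ T.left), Surjective k ∧ Flat k ∧ LocallyOfFinitePresentation k ∧
          ∃ L : (Red.bc k x.X).left.Modules, PicF.IsInvertible L ∧ RelAmple.IsRelAmple (Red.bc k x.X).hom L ∧
            AgPol.IsLambda (Red.bc k x.X) (Red.bc k x.Xt) (AgPol.bcDual k x.X x.Xt x.φ) L ((Over.pullback k).map x.lam))) :
    ∃ (M : Over (Spec (CommRingCat.of (ULift.{u} ℤ)))) (Φ : ((AgPol.Agdn (Spec (CommRingCat.of (ULift.{u} ℤ))) g d 1).restrict Q).Hom ⊤ M),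
      ModFun.IsCoarseModuli ⊤ ((AgPol.Agdn (Spec (CommRingCat.of (ULift.{u} ℤ))) g d 1).restrict Q) M Φ ∧ RelProj.IsQuasiProjective M.hom ∧
      ∀ (Ω : Type u) [Field Ω] [IsAlgClosed Ω] (t : Spec (CommRingCat.of Ω) ⟶ (Spec (CommRingCat.of (ULift.{u} ℤ)))),
        Nonempty (Over.mk t ⟶ M) := by
  refine K691.ZMain.main g d hg Q hQ fun n hn => ?_
  obtain ⟨M, ξ, h1, h2, h3, h4⟩ := Groth.Agent.S14321.result g d n hg hd hn (fun T x => K691.ZCorr.QF T x)
    (fun _ _ => Iff.rfl)
  exact ⟨M, ξ, h1, h2, fun Ω _ _ t => (h3 Ω t).1, h4⟩
end Groth.Agent.S14324
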