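import Groth.Statements.S14325
import Groth.Agent.AbSch.K258.KeyInt

set_option autoImplicit false
universe u
open CategoryTheory CategoryTheory.Limits MonoidalCategory CartesianMonoidalCategory MonObj GrpObj AlgebraicGeometry
open AbSch

namespace Groth.Agent.S14325

/-- Let S be a Noetherian scheme which is normal and excellent (every affine coordinate ring excellent),
and g ≥ 1. For a locally Noetherian scheme T, a datum of type (g, d) over T is an abelian scheme f :
A → T of relative dimension g (a commutative T-group scheme, smooth and proper with geometrically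
connected fibres of dimension g) with unit section e, and an invertible O_A-module L, rigidified
along e, symmetric ([-1]^*L ≅ L) and ample relative to T, such that f_*L is finite locally free of
rank d; its key module is δ = (Λ^d f_*L)^{⊗2} ⊗ (Λ^g e^*Ω¹_{A/T})^{⊗d}. Suppose that for every
Noetherian normal scheme S′ quasi-finite over S (by a morphism locally quasi-finite, locally of
finite type and quasi-compact) and every datum of type (g, 1) over S′, some power δ^{⊗m} with m ≥ 1
is isomorphic to O_{S′}. Then for every d ≥ 1 and every datum of type (g, d) over S, some power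
δ^{⊗m} with m ≥ 1 is isomorphic to O_S. (The published statement is for semi-stable group schemes
degenerating an abelian scheme, with cubical invertible modules, and has a second version for
abelian schemes; this row is that second version, where a rigidified invertible module carries
exactly one cubical structure.) -/
theorem result {S : Scheme.{u}} [IsNoetherian S]
    (hSn : Pi1.IsNormalScheme S) (hSe : ∀ U : S.affineOpens, EGA4.IsExcellent Γ(S, U.1))
    (g : ℕ) (hg : 1 ≤ g)
    (H : ∀ (S' : Scheme.{u}) (q : S' ⟶ S) [IsNoetherian S'] [LocallyQuasiFinite q] [LocallyOfFiniteType q] [QuasiCompact q],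
      Pi1.IsNormalScheme S' →
      ∀ (A : Over S') [GrpObj A] [IsCommMonObj A], AgPol.IsAbSch A g →
        ∀ (L : A.left.Modules), PicF.IsInvertible L →
          Nonempty ((Scheme.Modules.pullback η[A].left).obj L ≅ Coh.structureModule S') →
          Nonempty ((Scheme.Modules.pullback (𝟙 A ^ (-1 : ℤ)).left).obj L ≅ L) →
          RelAmple.IsRelAmple A.hom L →
          PicF.IsInvertible ((Coh.push A.hom).obj L) →
          ∀ (ω : S'.Modules), ExtPow.IsExtPow g ((Scheme.Modules.pullback η[A].left).obj (Omega.sheaf A.hom)) ω →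
            ∃ m : ℕ, 1 ≤ m ∧ Nonempty (CohB1.tensorPow (CohB1.tensorMod (CohB1.tensorPow ((Coh.push A.hom).obj L) 2) ω) m ≅
              Coh.structureModule S'))
    (d : ℕ) (hd : 1 ≤ d)
    (A : Over S) [GrpObj A] [IsCommMonObj A] (hA : AgPol.IsAbSch A g)
    (L : A.left.Modules) (hL : PicF.IsInvertible L)
    (hrig : Nonempty ((Scheme.Modules.pullback η[A].left).obj L ≅ Coh.structureModule S))
    (hsym : Nonempty ((Scheme.Modules.pullback (𝟙 A ^ (-1 : ℤ)).left).obj L ≅ L))
    (hamp : RelAmple.IsRelAmple A.hom L)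
    (hfree : FlatMod.IsFinLocFreeOfRank d ((Coh.push A.hom).obj L))
    (D : S.Modules) (hD : ExtPow.IsExtPow d ((Coh.push A.hom).obj L) D)
    (ω : S.Modules) (hω : ExtPow.IsExtPow g ((Scheme.Modules.pullback η[A].left).obj (Omega.sheaf A.hom)) ω) :
    ∃ m : ℕ, 1 ≤ m ∧ Nonempty (CohB1.tensorPow (CohB1.tensorMod (CohB1.tensorPow D 2) (CohB1.tensorPow ω d)) m ≅
      Coh.structureModule S) := by
  have hH : K258.KeyInt.Hyp S g := by
    intro S' q _ _ _ _ hS' A _ _ L D
    have hom := K451.OmegaBox.isFinLocFreeOfRank_om D.ab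
    obtain ⟨ω, hω⟩ := Groth.Agent.Dual.H366.ExtQCoh.exists_isExtPow g (K451.DetPic.isQCoh_of_rank hom)
    have hωi := K451.DetMat.isInvertible_of_isExtPow hom hω
    obtain ⟨m, hm, e⟩ := H S' q hS' A D.ab L D.inv D.rig D.sym D.amp D.prin ω hω
    refine ⟨m, hm, ?_⟩
    have h3 := Groth.Agent.Fdesc.LocGen.isInvertible_tensorMod
      (Groth.Agent.Fdesc.LocGen.isInvertible_tensorPow D.prin 2) hωi
    have h1 := (Groth.Agent.Grpsch.PicGrp.mk_eq_one_iff
      (Groth.Agent.Fdesc.LocGen.isInvertible_tensorPow h3 m)).mpr e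
    rw [Groth.Agent.Grpsch.PicGrp.mk_tensorPow h3, ← Groth.Agent.Grpsch.PicGrp.mk_mul_mk
      (Groth.Agent.Fdesc.LocGen.isInvertible_tensorPow D.prin 2) hωi,
      Groth.Agent.Grpsch.PicGrp.mk_tensorPow D.prin, K451.DetPic.mk_eq_det hom hω] at h1
    exact h1
  obtain ⟨m, hm, h1⟩ := K258.KeyInt.torsion hSn (K377.QESch.of_excellent hSe) g hH A hA L hL hrig hsym hamp hfree
  refine ⟨m, hm, ?_⟩
  have hom := K451.OmegaBox.isFinLocFreeOfRank_om hA
  have hωi := K451.DetMat.isInvertible_of_isExtPow hom hω
  have hDi := K451.DetMat.isInvertible_of_isExtPow hfree hD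
  have h2 := Groth.Agent.Fdesc.LocGen.isInvertible_tensorPow hDi 2
  have h3 := Groth.Agent.Fdesc.LocGen.isInvertible_tensorPow hωi d
  have h4 := Groth.Agent.Fdesc.LocGen.isInvertible_tensorMod h2 h3
  rw [← Groth.Agent.Grpsch.PicGrp.mk_eq_one_iff (Groth.Agent.Fdesc.LocGen.isInvertible_tensorPow h4 m),
    Groth.Agent.Grpsch.PicGrp.mk_tensorPow h4, ← Groth.Agent.Grpsch.PicGrp.mk_mul_mk h2 h3,
    Groth.Agent.Grpsch.PicGrp.mk_tensorPow hDi, Groth.Agent.Grpsch.PicGrp.mk_tensorPow hωi,
    K451.DetPic.mk_eq_det hfree hD, K451.DetPic.mk_eq_det hom hω]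
  exact h1


end Groth.Agent.S14325
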