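import Groth.Statements.S14326
import Groth.Agent.AbVar.K817.FormSec
import Groth.Agent.AbVar.K817.VeryAmple
import Groth.Agent.Fga.PosMain
import Groth.Agent.AbSch.K451.Prod
import Groth.Agent.S2122
import Groth.Agent.GIT.K688.AbTorsFin

set_option autoImplicit false
universe u
open CategoryTheory CategoryTheory.Limits MonoidalCategory CartesianMonoidalCategory MonObj AlgebraicGeometry
open AbVar

namespace Groth.Agent.S14326

section aux

open Groth.Agent.Fga.PicMon Groth.Agent.Fga.PosMain

variable {k : Type u} [Field k]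

/-- The dimension of the fibre over the point of a field. -/
theorem dim_eq {X : Scheme.{u}} (f : X ⟶ Spec (CommRingCat.of k)) (s : Spec (CommRingCat.of k)) :
    topologicalKrullDim (f.fiber s) = topologicalKrullDim X := by
  have h1 := IsHomeomorph.topologicalKrullDim_eq _ (f.fiberHomeo s).isHomeomorph
  rw [h1]
  have h2 : (f ⁻¹' {s} : Set X) = Set.univ := by
    ext x
    simp only [Set.mem_preimage, Set.mem_singleton_iff, Set.mem_univ, iff_true]
    exact Subsingleton.elim (α := PrimeSpectrum k) _ _
  rw [h2]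
  exact IsHomeomorph.topologicalKrullDim_eq _ (Homeomorph.Set.univ X).isHomeomorph

/-- The inverse of `φ^* O(s)`. -/
theorem isInverseOf_pow {A : Scheme.{u}} {m : ℕ} (φ : A ⟶ CohB1.ProjSpace m k) (L' : A.Modules)
    (hL' : ClSub.IsInverseOf L' ((Scheme.Modules.pullback φ).obj (Twist.twistProjSpace m k 1))) (s : ℕ) :
    ClSub.IsInverseOf (CohB1.tensorPow L' s)
      ((Scheme.Modules.pullback φ).obj (Twist.twistProjSpace m k (s : ℤ))) := by
  obtain ⟨e0⟩ := K817.VeryAmple.nonempty_gr_iso φ (Iso.refl _) s
  have e : (Scheme.Modules.pullback φ).obj (Twist.twistProjSpace m k (s : ℤ)) ≅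
      CohB1.tensorPow ((Scheme.Modules.pullback φ).obj (Twist.twistProjSpace m k 1)) s := e0
  have h1 : mc L' * mc ((Scheme.Modules.pullback φ).obj (Twist.twistProjSpace m k 1)) = 1 := by
    rw [← mc_tensor, ← mc_one, mc_eq_iff]
    exact hL'
  have h2 : mc (CohB1.tensorPow L' s) * mc ((Scheme.Modules.pullback φ).obj (Twist.twistProjSpace m k (s : ℤ))) =
      1 := by
    rw [mc_eq e, mc_tensorPow, mc_tensorPow, ← mul_pow, h1, one_pow]
  rw [← mc_tensor, ← mc_one, mc_eq_iff] at h2
  exact h2

theorem intNum_pow_cons (A : Scheme.{u}) [A.Over (Spec (CommRingCat.of k))]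
    [IsProper (A ↘ Spec (CommRingCat.of k))] (n : ℕ) (hd : topologicalKrullDim A = ((n + 1 : ℕ) : WithBot ℕ∞))
    (L' : A.Modules) (hL' : PicF.IsInvertible L') (s : ℕ) :
    FGA.intNum k A (n + 1) (Fin.cons (CohB1.tensorPow L' s) (fun _ : Fin n => L') : Fin (n + 1) → A.Modules)
      (Coh.structureModule A) =
      s * FGA.intNum k A (n + 1) (fun _ : Fin (n + 1) => L') (Coh.structureModule A) := by
  have := K817.VeryAmple.isNoetherian k A
  have h1 := intNum_cons_tensorPow k A (n + 1) hd.le L' hL' (fun _ : Fin n => L') (fun _ => hL')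
    (Coh.structureModule A) (Groth.Agent.Fdesc.StructMod.isCoh_structureModule A)
    (((topologicalKrullDim_subspace_le _ _).trans hd.le).trans_lt (by
      exact_mod_cast Nat.lt_succ_self (n + 1))) s
  rw [h1]
  congr 2
  funext i
  induction i using Fin.cases with
  | zero => rfl
  | succ i => rfl

end aux

variable (k : Type u) [Field k] [IsAlgClosed k] (A : Scheme.{u})
    [A.Over (Spec (CommRingCat.of k))] [GrpObj (A.asOver (Spec (CommRingCat.of k)))]

/-- Two points of a scheme of dimension zero, irreducible, agree. -/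
theorem eq_of_dim_zero {X : Scheme.{u}} [IrreducibleSpace X] (hX : topologicalKrullDim X = 0)
    (x y : X) : x = y := by
  have key : ∀ z : X, genericPoint X = z := by
    intro z
    by_contra hne
    have h1 : TopologicalSpace.IrreducibleCloseds.mk (closure {z}) isIrreducible_singleton.closure isClosed_closure <
        TopologicalSpace.IrreducibleCloseds.mk (closure {genericPoint X}) isIrreducible_singleton.closure
          isClosed_closure := by
      refine lt_of_le_of_ne ?_ ?_
      · change closure {z} ⊆ closure {genericPoint X}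
        rw [genericPoint_closure]
        exact Set.subset_univ _
      · intro h
        have h2 : closure {z} = closure {genericPoint X} := congrArg (fun C => C.carrier) h
        exact hne ((inseparable_iff_closure_eq.2 h2).eq.symm)
    have h2 : Order.krullDim (TopologicalSpace.IrreducibleCloseds X) = 0 := hX
    exact absurd (Order.krullDim_pos_iff.2 ⟨_, _, h1⟩) (not_lt.2 h2.le)
  rw [← key x, ← key y]



section core

open Groth.Agent.Grpsch.PicGrp Groth.Agent.Grpsch.Cube K518.Phi K518.AVNum K518.Points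
open Groth.Agent.Fdesc.LocGen Groth.Agent.Fga.RegSec Groth.Agent.Fga.PicMon K688.HypPt

theorem mk_eq_inv {X : Scheme.{u}} {L L' : X.Modules} (hL : PicF.IsInvertible L) (hL' : PicF.IsInvertible L')
    (h : ClSub.IsInverseOf L' L) : mk L' hL' = (mk L hL)⁻¹ := by
  rw [eq_inv_iff_mul_eq_one, mk_mul_mk, mk_eq_one_iff]
  exact h

theorem isInvertible_of_inverse {X : Scheme.{u}} {L L' : X.Modules} (h : ClSub.IsInverseOf L' L) :
    PicF.IsInvertible L' := by
  obtain ⟨e⟩ := h
  exact Groth.Agent.S2122.result _ _ e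

variable {k : Type u} [Field k] [IsAlgClosed k] {A : Over (Spec (CommRingCat.of k))} [GrpObj A] [IsProper A.hom]
  [GeometricallyIntegral A.hom]

omit [IsAlgClosed k] [GrpObj A] [GeometricallyIntegral A.hom] in
theorem JA_eq {n : ℕ} (hg : topologicalKrullDim A.left = (n + 1 : ℕ)) {T T' M L' : A.left.Modules}
    (hT : PicF.IsInvertible T) (hM : PicF.IsInvertible M) (hT' : ClSub.IsInverseOf T' T)
    (hL' : ClSub.IsInverseOf L' M) :
    JA hg (Fin.cons (Additive.ofMul (mk T hT)) (fun _ : Fin n => Additive.ofMul (mk M hM))) =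
      FGA.intNum k A.left (n + 1) (Fin.cons T' (fun _ : Fin n => L') : Fin (n + 1) → A.left.Modules)
        (Coh.structureModule A.left) := by
  have i1 := isInvertible_of_inverse hT'
  have i2 := isInvertible_of_inverse hL'
  have hinv : ∀ i : Fin (n + 1),
      PicF.IsInvertible ((Fin.cons T' (fun _ : Fin n => L') : Fin (n + 1) → A.left.Modules) i) := by
    intro i
    cases i using Fin.cases with
    | zero => exact i1
    | succ i => exact i2
  rw [Pic13.H970.IntForm.intNum_eq k A.left (n + 1) _ _ hinv, K518.IntMul.J_apply]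
  congr 1
  funext i
  cases i using Fin.cases with
  | zero => exact (mk_eq_inv hT i1 hT').symm
  | succ i => exact (mk_eq_inv hM i2 hL').symm

theorem core (n : ℕ) (hg : topologicalKrullDim A.left = (n + 1 : ℕ)) (m : ℕ) (φ : A.left ⟶ CohB1.ProjSpace m k)
    (hφ : IsClosedImmersion φ) (hφk : φ ≫ CohB1.ProjSpace.toSpec m k = A.hom)
    (T T' L' : A.left.Modules) (hT : PicF.IsInvertible T) (hT' : ClSub.IsInverseOf T' T)
    (hL' : ClSub.IsInverseOf L' ((Scheme.Modules.pullback φ).obj (Twist.twistProjSpace m k 1)))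
    (t : Coh.structureModule A.left ⟶ T) (ht : CohB1.genLocus T t ≠ ⊥) (N : ℕ) (hN : 1 ≤ N) :
    (Nat.card {x : 𝟙_ (Over (Spec (CommRingCat.of k))) ⟶ A // x ^ N = 1 ∧ pt x ∉ CohB1.genLocus T t} : ℤ) ≤
      N ^ (2 * n) * FGA.intNum k A.left (n + 1) (Fin.cons T' (fun _ : Fin n => L') : Fin (n + 1) → A.left.Modules)
        (Coh.structureModule A.left) := by
  classical
  have hpt : ∀ x : Pt A, (x.left ≫ φ) ≫ CohB1.ProjSpace.toSpec m k = 𝟙 _ := fun x => by
    rw [Category.assoc, hφk]
    exact Over.w x
  have hzero : ∀ (c : Fin (m + 1) → k) (x : Pt A), φ (pt x) ∈ CohB1.genLocus _ (linHom c) ↔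
      c ∉ ProjUP.secKernel m k (x.left ≫ φ) := fun c x => by
    rw [← mem_genLocus_lin (x.left ≫ φ) (hpt x) c (IsLocalRing.closedPoint k)]
    rfl
  have hM : PicF.IsInvertible ((Scheme.Modules.pullback φ).obj (Twist.twistProjSpace m k 1)) :=
    isInvertible_pullback φ isInvertible_twist
  have hgl : ∀ c : Fin (m + 1) → k, CohB1.genLocus _ (pullHom φ (linHom c)) = φ ⁻¹ᵁ CohB1.genLocus _ (linHom c) :=
    fun c => Ega1.AmpFam.genLocus_pullHom φ isInvertible_twist _
  have hsep : ∀ p q : Pt A, p ≠ q → ∃ s : Coh.structureModule A.left ⟶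
      (Scheme.Modules.pullback φ).obj (Twist.twistProjSpace m k 1),
      pt p ∉ CohB1.genLocus _ s ∧ pt q ∈ CohB1.genLocus _ s := by
    intro p q hpq
    have hne : p.left ≫ φ ≠ q.left ≫ φ := by
      intro h
      apply hpq
      ext1
      exact (cancel_mono φ).1 h
    obtain ⟨c', h1, h2⟩ := exists_separating _ _ (hpt p) (hpt q) hne
    refine ⟨pullHom φ (linHom c'), ?_, ?_⟩
    · rw [hgl]
      exact fun h => (hzero c' p).1 h h1
    · rw [hgl]
      exact (hzero c' q).2 h2
  have hmain : ∀ E : Finset A.left, (∀ e ∈ E, e ∉ CohB1.genLocus T t ∧ ∃ x : Pt A, x ^ N = 1 ∧ pt x = e) →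
      (E.card : ℤ) ≤ N ^ (2 * n) * FGA.intNum k A.left (n + 1)
        (Fin.cons T' (fun _ : Fin n => L') : Fin (n + 1) → A.left.Modules) (Coh.structureModule A.left) := by
    intro E hE
    rw [← JA_eq hg hT hM hT' hL']
    exact K688.AbTors.card_le hg N hN hM hT hsep t ht E hE
  by_cases hfin : Finite {x : 𝟙_ (Over (Spec (CommRingCat.of k))) ⟶ A // x ^ N = 1 ∧ pt x ∉ CohB1.genLocus T t}
  swap
  · rw [not_finite_iff_infinite] at hfin
    rw [Nat.card_eq_zero_of_infinite]
    have h0 := hmain ∅ (by simp)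
    exact_mod_cast h0
  let _ := Fintype.ofFinite {x : 𝟙_ (Over (Spec (CommRingCat.of k))) ⟶ A // x ^ N = 1 ∧ pt x ∉ CohB1.genLocus T t}
  let E : Finset A.left := Finset.univ.image fun x : {x : 𝟙_ (Over (Spec (CommRingCat.of k))) ⟶ A //
    x ^ N = 1 ∧ pt x ∉ CohB1.genLocus T t} => pt x.1
  have hEcard : E.card = Nat.card {x : 𝟙_ (Over (Spec (CommRingCat.of k))) ⟶ A //
      x ^ N = 1 ∧ pt x ∉ CohB1.genLocus T t} := by
    rw [Finset.card_image_of_injective, Finset.card_univ, Nat.card_eq_fintype_card]
    intro x y hxy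
    exact Subtype.ext (pt_ext hxy)
  have h1 := hmain E (fun e he => by
    obtain ⟨x, -, rfl⟩ := Finset.mem_image.1 he
    exact ⟨x.2.2, x.1, x.2.1, rfl⟩)
  rw [hEcard] at h1
  exact h1

end core

/-- Let k be an algebraically closed field, A an abelian variety over k of dimension g (commutative
group law, smooth and proper, geometrically connected of dimension g), and φ : A → P^m_k a closed
immersion over k given by a complete linear system: the image lies in no hyperplane and m + 1 is the
dimension of the space of global sections of φ^*O(1). Let r be the degree of φ(A) in P^m_k, that is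
the g-fold self-intersection number of φ^*O(1) (written with an inverse L′ of φ^*O(1) as an
alternating sum of Euler characteristics), let F be a homogeneous form of degree s ≥ 1 in the m + 1
coordinates whose hypersurface does not contain φ(A) (some k-point of A maps outside it), and let N
≥ 1. Then the number of k-points x of A with x^N = 1 whose image lies on the hypersurface F = 0 is
at most N^{2g−2}·s·r. Here a k-point y of P^m_k lies on F = 0 when F vanishes at a non-zero vector
of homogeneous coordinates of y, that is at a non-zero vector whose orthogonal is the space of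
linear relations among the coordinates pulled back along y. (The published statement bounds by the
same quantity the length of the scheme-theoretic intersection of the hypersurface with the N-torsion
subgroup scheme; the number of k-rational N-torsion points on the hypersurface is at most that
length, so this row states the weaker count.) -/
theorem result (k : Type u) [Field k] [IsAlgClosed k] (A : Scheme.{u})
    [A.Over (Spec (CommRingCat.of k))] [GrpObj (A.asOver (Spec (CommRingCat.of k)))] [IsCommMonObj (A.asOver (Spec (CommRingCat.of k)))]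
    (g : ℕ) (hA : AgPol.IsAbSch (A.asOver (Spec (CommRingCat.of k))) g) (m : ℕ) (φ : A ⟶ CohB1.ProjSpace m k)
    (hφ : IsClosedImmersion φ) (hφk : φ ≫ CohB1.ProjSpace.toSpec m k = A ↘ (Spec (CommRingCat.of k)))
    (hspan : ∀ c : Fin (m + 1) → k, c ≠ 0 → ∃ x : (𝟙_ (Over (Spec (CommRingCat.of k))) ⟶ A.asOver (Spec (CommRingCat.of k))), c ∉ ProjUP.secKernel m k (x.left ≫ φ))
    (hcomplete : Module.finrank k (Coh.HH A ((Scheme.Modules.pullback φ).obj (Twist.twistProjSpace m k 1)) 0) = m + 1)
    (L' : A.Modules) (hL' : ClSub.IsInverseOf L' ((Scheme.Modules.pullback φ).obj (Twist.twistProjSpace m k 1)))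
    (r : ℕ) (hr : FGA.intNum k A g (fun _ : Fin g => L') (Coh.structureModule A) = r)
    (s : ℕ) (hs : 1 ≤ s) (F : MvPolynomial (Fin (m + 1)) k) (hF : F.IsHomogeneous s)
    (hnot : ∃ x : (𝟙_ (Over (Spec (CommRingCat.of k))) ⟶ A.asOver (Spec (CommRingCat.of k))), ¬ (∃ v : Fin (m + 1) → k, v ≠ 0 ∧
          (∀ c : Fin (m + 1) → k, c ∈ ProjUP.secKernel m k (x.left ≫ φ) ↔ ∑ i, c i * v i = 0) ∧
          MvPolynomial.eval v F = 0))
    (N : ℕ) (hN : 1 ≤ N) :
    Nat.card {x : (𝟙_ (Over (Spec (CommRingCat.of k))) ⟶ A.asOver (Spec (CommRingCat.of k))) // x ^ N = 1 ∧ (∃ v : Fin (m + 1) → k, v ≠ 0 ∧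
          (∀ c : Fin (m + 1) → k, c ∈ ProjUP.secKernel m k (x.left ≫ φ) ↔ ∑ i, c i * v i = 0) ∧
          MvPolynomial.eval v F = 0)} ≤ N ^ (2 * g - 2) * s * r := by
  have hprop : IsProper (A ↘ Spec (CommRingCat.of k)) := hA.proper
  have hdim : topologicalKrullDim A = g := by
    rw [← dim_eq (A ↘ Spec (CommRingCat.of k)) (K817.FormSec.pt k)]
    exact hA.fibreDim _
  have hx : ∀ x : (𝟙_ (Over (Spec (CommRingCat.of k))) ⟶ A.asOver (Spec (CommRingCat.of k))),
      (x.left ≫ φ) ≫ CohB1.ProjSpace.toSpec m k = 𝟙 _ := fun x => by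
    exact (Category.assoc _ _ _).trans ((congrArg (fun q => x.left ≫ q) hφk).trans (Over.w x))
  have key : ∀ x : (𝟙_ (Over (Spec (CommRingCat.of k))) ⟶ A.asOver (Spec (CommRingCat.of k))),
      (∃ v : Fin (m + 1) → k, v ≠ 0 ∧
          (∀ c : Fin (m + 1) → k, c ∈ ProjUP.secKernel m k (x.left ≫ φ) ↔ ∑ i, c i * v i = 0) ∧
          MvPolynomial.eval v F = 0) ↔ (show Spec (CommRingCat.of k) ⟶ A from x.left) (K817.FormSec.pt k) ∉
            CohB1.genLocus _ (K817.FormSec.formSec φ hF) := fun x =>
    K817.FormSec.onForm_iff_genLocus φ x.left (hx x) hF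
  obtain ⟨x0, hx0⟩ := hnot
  rw [key x0, not_not] at hx0
  simp only [key]
  cases g with
  | zero =>
    have hgi : GeometricallyIntegral (A ↘ Spec (CommRingCat.of k)) := K451.Prod.geometricallyIntegral_of_isAbSch hA
    have hint : IsIntegral A := GeometricallyIntegral.isIntegral_of_subsingleton (A ↘ Spec (CommRingCat.of k))
    have h1 : IsEmpty {x : (𝟙_ (Over (Spec (CommRingCat.of k))) ⟶ A.asOver (Spec (CommRingCat.of k))) // x ^ N = 1 ∧
        (show Spec (CommRingCat.of k) ⟶ A from x.left) (K817.FormSec.pt k) ∉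
          CohB1.genLocus _ (K817.FormSec.formSec φ hF)} := by
      refine ⟨fun x => x.2.2 ?_⟩
      rw [eq_of_dim_zero hdim ((show Spec (CommRingCat.of k) ⟶ A from x.1.left) (K817.FormSec.pt k)) _]
      exact hx0
    rw [Nat.card_of_isEmpty]
    exact Nat.zero_le _
  | succ n =>
    have hL'inv : PicF.IsInvertible L' := by
      obtain ⟨e⟩ := hL'
      exact Groth.Agent.S2122.result _ _ e
    have hprop' : IsProper (A.asOver (Spec (CommRingCat.of k))).hom := hprop
    have hgi : GeometricallyIntegral (A.asOver (Spec (CommRingCat.of k))).hom :=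
      K451.Prod.geometricallyIntegral_of_isAbSch hA
    have hne : CohB1.genLocus _ (K817.FormSec.formSec φ hF) ≠ ⊥ := by
      intro h
      rw [h] at hx0
      exact hx0
    have h1 : (Nat.card {x : (𝟙_ (Over (Spec (CommRingCat.of k))) ⟶ A.asOver (Spec (CommRingCat.of k))) // x ^ N = 1 ∧
        (show Spec (CommRingCat.of k) ⟶ A from x.left) (K817.FormSec.pt k) ∉
          CohB1.genLocus _ (K817.FormSec.formSec φ hF)} : ℤ) ≤
        N ^ (2 * n) * FGA.intNum k A (n + 1) (Fin.cons (CohB1.tensorPow L' s) (fun _ : Fin n => L') :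
          Fin (n + 1) → A.Modules) (Coh.structureModule A) :=
      core (A := A.asOver (Spec (CommRingCat.of k))) n hdim m φ hφ hφk _ _ L'
      (K817.FormSec.isInvertible φ (s : ℤ)) (isInverseOf_pow φ L' hL' s) hL' (K817.FormSec.formSec φ hF) hne N hN
    rw [intNum_pow_cons A n hdim L' hL'inv s, hr] at h1
    have h2 : 2 * (n + 1) - 2 = 2 * n := by omega
    rw [h2, _root_.mul_assoc]
    exact_mod_cast h1

end Groth.Agent.S14326
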