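import Groth.Statements.S14327
import Groth.Agent.AbSch.K451.TopMain
import Groth.Agent.Ega2.TensPow

set_option autoImplicit false
universe u
open CategoryTheory CategoryTheory.Limits MonoidalCategory CartesianMonoidalCategory MonObj GrpObj AlgebraicGeometry
open AbSch

namespace Groth.Agent.S14327

/-- Let S be a connected Noetherian scheme which is normal and excellent (every affine coordinate ring
excellent), f : A → S an abelian scheme of relative dimension g (a commutative S-group scheme,
smooth and proper with geometrically connected fibres of dimension g), and A^t → S an abelian scheme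
of relative dimension g which, with dual data φ, presents the dual of A for the fppf topology. Let
ω_A = Λ^g e_A^*Ω¹_{A/S} and ω_{A^t} = Λ^g e_{A^t}^*Ω¹_{A^t/S}, e denoting unit sections. Then the
invertible module ω_A ⊗ ω_{A^t}^{⊗-1} has finite order in Pic(S): there is m ≥ 1 with ω_A^{⊗m}
isomorphic to ω_{A^t}^{⊗m}. (The published statement is for a semi-stable group scheme A over S,
abelian over a dense open, and a semi-stable model A^t of the dual of its generic fibre; this row is
the case where A is an abelian scheme, A^t then being its dual abelian scheme.) -/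
theorem result {S : Scheme.{u}} [IsNoetherian S] [ConnectedSpace S]
    (hSn : Pi1.IsNormalScheme S) (hSe : ∀ U : S.affineOpens, EGA4.IsExcellent Γ(S, U.1))
    (A At : Over S) [GrpObj A] [IsCommMonObj A] [GrpObj At] [IsCommMonObj At]
    (φ : AgPol.DualMap A At) (hdual : AbDual.IsDualAV Scheme.fppfPrecoverage A At φ)
    (g : ℕ) (hA : AgPol.IsAbSch A g) (hAt : AgPol.IsAbSch At g)
    (ωA : S.Modules) (hωA : ExtPow.IsExtPow g ((Scheme.Modules.pullback η[A].left).obj (Omega.sheaf A.hom)) ωA)
    (ωAt : S.Modules) (hωAt : ExtPow.IsExtPow g ((Scheme.Modules.pullback η[At].left).obj (Omega.sheaf At.hom)) ωAt) :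
    ∃ m : ℕ, 1 ≤ m ∧ Nonempty (CohB1.tensorPow ωA m ≅ CohB1.tensorPow ωAt m) := by
  obtain ⟨e⟩ := K451.TopMain.nonempty_omega hA hAt hdual ωA ωAt hωA hωAt
  exact ⟨1, le_rfl, ⟨Groth.Agent.Ega2.TensPow.powIso e 1⟩⟩

end Groth.Agent.S14327
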