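import Groth.Statements.S14329
import Groth.Agent.GrpSch.K269.PushCoh

set_option autoImplicit false
universe u
open CategoryTheory CategoryTheory.Limits MonoidalCategory CartesianMonoidalCategory MonObj GrpObj AlgebraicGeometry
open GrpSch

namespace Groth.Agent.S14329

/-- Let S be a locally Noetherian scheme and f : A → S a commutative S-group scheme which is smooth,
separated and of finite type over S; let U be a schematically dense open subscheme of S over which A
is an abelian scheme, that is f is proper over U and the fibres of f at the points of U are
connected. Then for every invertible O_A-module L the direct image f_*L is coherent: quasi-coherent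
of finite type over the locally Noetherian scheme S. (The published statement is for a cubical
G_m-torsor L in a setting with further data — an isogeny and a theta group —; the printed proof uses
only the hypotheses kept here.) -/
theorem result {S : Scheme.{u}} [IsLocallyNoetherian S]
    (A : Over S) [GrpObj A] [IsCommMonObj A] [Smooth A.hom] [IsSeparated A.hom] [QuasiCompact A.hom]
    (U : S.Opens) (hU : CInt.IsSchematicallyDense U) (hprop : IsProper (A.hom ∣_ U))
    (hconn : ∀ s : S, s ∈ U → ConnectedSpace ↥(A.hom.fiber s))
    (L : A.left.Modules) (hL : PicF.IsInvertible L) :
    Coh.IsCoh ((Coh.push A.hom).obj L) := by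
  refine K269.PushCoh.isCoh_push A.hom (show S ⟶ A.left from η[A].left) ?_ L hL U hU hprop fun s hs => ?_
  · exact Over.w η[A]
  · have := hconn s hs
    have h1 : Set.range (Subtype.val : (A.hom ⁻¹' {s}) → A.left) = A.hom ⁻¹' {s} := Subtype.range_coe
    rw [← h1]
    have h2 : ConnectedSpace (A.hom ⁻¹' {s}) :=
      (A.hom.fiberHomeo s).surjective.connectedSpace (A.hom.fiberHomeo s).continuous
    exact isPreconnected_range continuous_subtype_val

end Groth.Agent.S14329
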