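import Groth.Statements.S14331
import Groth.Agent.AbSch.K451.DetPic
import Groth.Agent.AbSch.K451.OmegaBox
import Groth.Agent.AbSch.K451.Box
import Groth.Agent.AbSch.K451.BoxPush

set_option autoImplicit false
universe u
open CategoryTheory CategoryTheory.Limits MonoidalCategory CartesianMonoidalCategory MonObj GrpObj AlgebraicGeometry
open AbSch

namespace Groth.Agent.S14331

/-- Let S be a locally Noetherian scheme and d ≥ 1. For integers g, r call datum of type (g, r) over S
an abelian scheme f : A → S of relative dimension g (a commutative S-group scheme, smooth and proper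
with geometrically connected fibres of dimension g) together with an invertible O_A-module L which
is rigidified along the unit section e, symmetric ([-1]^*L ≅ L) and ample relative to S, with f_*L
finite locally free of rank r; its key module is δ = (Λ^r f_*L)^{⊗2} ⊗ (Λ^g e^*Ω¹_{A/S})^{⊗r}.
Suppose that for every datum of type (2, d^2) over S some power δ^{⊗m} with m ≥ 1 is isomorphic to
O_S. Then for every datum of type (1, d) over S some power δ^{⊗m} with m ≥ 1 is isomorphic to O_S.
(The published lemma is the implication between the canonical versions of these properties, where a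
trivialisation of a fixed power is given compatibly with base change, for data over all schemes over
a fixed base and for semi-stable group schemes as well; this row is the finite-order version for
abelian schemes over one base.) -/
theorem result {S : Scheme.{u}} [IsLocallyNoetherian S]
    (d : ℕ) (hd : 1 ≤ d)
    (H : (∀ (A' : Over S) [GrpObj A'] [IsCommMonObj A'], AgPol.IsAbSch A' 2 →
        ∀ (L' : A'.left.Modules), PicF.IsInvertible L' →
          Nonempty ((Scheme.Modules.pullback η[A'].left).obj L' ≅ Coh.structureModule S) →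
          Nonempty ((Scheme.Modules.pullback (𝟙 A' ^ (-1 : ℤ)).left).obj L' ≅ L') →
          RelAmple.IsRelAmple A'.hom L' →
          FlatMod.IsFinLocFreeOfRank (d ^ 2) ((Coh.push A'.hom).obj L') →
          ∀ (D' : S.Modules), ExtPow.IsExtPow (d ^ 2) ((Coh.push A'.hom).obj L') D' →
          ∀ (ω' : S.Modules), ExtPow.IsExtPow 2 ((Scheme.Modules.pullback η[A'].left).obj (Omega.sheaf A'.hom)) ω' →
            ∃ m : ℕ, 1 ≤ m ∧ Nonempty (CohB1.tensorPow (CohB1.tensorMod (CohB1.tensorPow D' 2) (CohB1.tensorPow ω' (d ^ 2))) m ≅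
              Coh.structureModule S))) :
    (∀ (A : Over S) [GrpObj A] [IsCommMonObj A], AgPol.IsAbSch A 1 →
        ∀ (L : A.left.Modules), PicF.IsInvertible L →
          Nonempty ((Scheme.Modules.pullback η[A].left).obj L ≅ Coh.structureModule S) →
          Nonempty ((Scheme.Modules.pullback (𝟙 A ^ (-1 : ℤ)).left).obj L ≅ L) →
          RelAmple.IsRelAmple A.hom L →
          FlatMod.IsFinLocFreeOfRank d ((Coh.push A.hom).obj L) →
          ∀ (D : S.Modules), ExtPow.IsExtPow d ((Coh.push A.hom).obj L) D →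
          ∀ (ω : S.Modules), ExtPow.IsExtPow 1 ((Scheme.Modules.pullback η[A].left).obj (Omega.sheaf A.hom)) ω →
            ∃ m : ℕ, 1 ≤ m ∧ Nonempty (CohB1.tensorPow (CohB1.tensorMod (CohB1.tensorPow D 2) (CohB1.tensorPow ω d)) m ≅
              Coh.structureModule S)) := by
  intro A _ _ hA L hL hrig hsym hamp hfree D hD ω hω
  have := hA.smooth
  have := hA.proper
  -- the product
  let A' : Over S := A ⊗ A
  have hA' : AgPol.IsAbSch A' 2 := K451.Prod.isAbSch_tensor hA hA
  let L' : A'.left.Modules := CohB1.tensorMod ((Scheme.Modules.pullback (fst A A).left).obj L)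
      ((Scheme.Modules.pullback (snd A A).left).obj L)
  have hL' : PicF.IsInvertible L' := Groth.Agent.Fdesc.LocGen.isInvertible_tensorMod
    (Groth.Agent.Fdesc.LocGen.isInvertible_pullback _ hL) (Groth.Agent.Fdesc.LocGen.isInvertible_pullback _ hL)
  have hrig' := K451.Box.rig_box hL hL hrig hrig
  have hsym' := K451.Box.sym_box hL hL hsym hsym
  have hamp' : RelAmple.IsRelAmple A'.hom L' := K451.Box.isRelAmple_box A.hom A.hom hamp hamp
  -- the direct image
  have hLq : Coh.IsQCoh L := Groth.Agent.PerfA.QCohEpi.isQCoh_of_isFinLocFree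
    (K451.DetPic.isFinLocFree_of_rank (K451.DetPic.rank_one_iff.mpr hL))
  obtain ⟨e⟩ := K451.BoxPush.nonempty_push_box (IsPullback.of_hasPullback A.hom A.hom)
    (Groth.Agent.VarietyB.TensCoh.HasBases.of_isFinLocFree
      (K451.DetPic.isFinLocFree_of_rank (K451.DetPic.rank_one_iff.mpr hL)))
    (M := L) (Groth.Agent.VarietyB.TensCoh.HasBases.of_isFinLocFree (K451.DetPic.isFinLocFree_of_rank hfree))
  have hEE := K451.DetPic.rank_tensor hfree hfree
  have hfree' : FlatMod.IsFinLocFreeOfRank (d ^ 2) ((Coh.push A'.hom).obj L') := by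
    rw [sq]
    exact K451.DetPic.rank_of_iso e.symm hEE
  obtain ⟨D', hD'⟩ := Groth.Agent.Dual.H366.ExtQCoh.exists_isExtPow (d ^ 2) (K451.DetPic.isQCoh_of_rank hfree')
  have hom' := K451.OmegaBox.isFinLocFreeOfRank_om hA'
  have hom := K451.OmegaBox.isFinLocFreeOfRank_om hA
  obtain ⟨ω', hω'⟩ := Groth.Agent.Dual.H366.ExtQCoh.exists_isExtPow 2 (K451.DetPic.isQCoh_of_rank hom')
  obtain ⟨m, hm, hiso⟩ := H A' hA' L' hL' hrig' hsym' hamp' hfree' D' hD' ω' hω'
  -- the classes
  have hDi := K451.DetMat.isInvertible_of_isExtPow hfree hD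
  have hDi' := K451.DetMat.isInvertible_of_isExtPow hfree' hD'
  have hωi := K451.DetMat.isInvertible_of_isExtPow hom hω
  have hωi' := K451.DetMat.isInvertible_of_isExtPow hom' hω'
  have e1 : Groth.Agent.Grpsch.PicGrp.mk D' hDi' = Groth.Agent.Grpsch.PicGrp.mk D hDi ^ (2 * d) := by
    rw [K451.DetPic.mk_eq_det hfree' hD', K451.DetPic.mk_eq_det hfree hD,
      K451.DetPic.det_congr hfree' hEE (sq d) e, K451.DetPic.det_tensor, two_mul, pow_add]
  have e2 : Groth.Agent.Grpsch.PicGrp.mk ω' hωi' = Groth.Agent.Grpsch.PicGrp.mk ω hωi ^ 2 := by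
    obtain ⟨C, hC, ⟨c1⟩, ⟨c2⟩, ⟨c3⟩⟩ := K451.OmegaBox.exists_shortExact_unit hA hA
    have h1 := K451.DetPic.rank_of_iso c1.symm hom
    have h3 := K451.DetPic.rank_of_iso c3.symm hom
    rw [K451.DetPic.mk_eq_det hom' hω', K451.DetPic.mk_eq_det hom hω,
      K451.DetPic.det_congr hom' (K451.DetPic.rank_extension hC h1 h3) rfl c2.symm,
      K451.DetPic.det_extension hC h1 h3, K451.DetPic.det_congr h1 hom rfl c1, K451.DetPic.det_congr h3 hom rfl c3, sq]
  have hc' := Groth.Agent.Fdesc.LocGen.isInvertible_tensorMod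
    (Groth.Agent.Fdesc.LocGen.isInvertible_tensorPow hDi' 2) (Groth.Agent.Fdesc.LocGen.isInvertible_tensorPow hωi' (d ^ 2))
  have hc := Groth.Agent.Fdesc.LocGen.isInvertible_tensorMod
    (Groth.Agent.Fdesc.LocGen.isInvertible_tensorPow hDi 2) (Groth.Agent.Fdesc.LocGen.isInvertible_tensorPow hωi d)
  have e3 := (Groth.Agent.Grpsch.PicGrp.mk_eq_one_iff
    (Groth.Agent.Fdesc.LocGen.isInvertible_tensorPow hc' m)).mpr hiso
  rw [Groth.Agent.Grpsch.PicGrp.mk_tensorPow hc', ← Groth.Agent.Grpsch.PicGrp.mk_mul_mk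
    (Groth.Agent.Fdesc.LocGen.isInvertible_tensorPow hDi' 2) (Groth.Agent.Fdesc.LocGen.isInvertible_tensorPow hωi' (d ^ 2)),
    Groth.Agent.Grpsch.PicGrp.mk_tensorPow hDi', Groth.Agent.Grpsch.PicGrp.mk_tensorPow hωi', e1, e2] at e3
  refine ⟨2 * d * m, Nat.mul_pos (Nat.mul_pos two_pos hd) hm, (Groth.Agent.Grpsch.PicGrp.mk_eq_one_iff
    (Groth.Agent.Fdesc.LocGen.isInvertible_tensorPow hc (2 * d * m))).mp ?_⟩
  rw [Groth.Agent.Grpsch.PicGrp.mk_tensorPow hc, ← Groth.Agent.Grpsch.PicGrp.mk_mul_mk
    (Groth.Agent.Fdesc.LocGen.isInvertible_tensorPow hDi 2) (Groth.Agent.Fdesc.LocGen.isInvertible_tensorPow hωi d),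
    Groth.Agent.Grpsch.PicGrp.mk_tensorPow hDi, Groth.Agent.Grpsch.PicGrp.mk_tensorPow hωi, ← e3]
  simp only [mul_pow, ← pow_mul]
  congr 2 <;> ring

end Groth.Agent.S14331
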