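import Groth.Statements.S14337
import Mathlib.RingTheory.Flat.EquationalCriterion
import Mathlib.LinearAlgebra.TensorProduct.RightExactness
import Mathlib.Algebra.Module.FinitePresentation
-- import your own Groth.Agent.* helpers here

set_option autoImplicit false
universe u
open scoped TensorProduct
open CAlg

namespace Groth.Agent.S14337

theorem exists_retraction {B K' : Type u} [CommRing B] [AddCommGroup K'] [Module B K'] (N : Submodule B K')
    (hc : Module.Projective B (K' ⧸ N)) : ∃ r : K' →ₗ[B] N, r ∘ₗ N.subtype = LinearMap.id := by
  obtain ⟨s, hs⟩ := Module.projective_lifting_property N.mkQ LinearMap.id N.mkQ_surjective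
  have h1 : ∀ x : K', x - s (N.mkQ x) ∈ N := by
    intro x
    rw [← Submodule.Quotient.mk_eq_zero, Submodule.Quotient.mk_sub]
    have := LinearMap.congr_fun hs (N.mkQ x)
    simp only [LinearMap.comp_apply, Submodule.mkQ_apply, LinearMap.id_apply] at this ⊢
    rw [this, sub_self]
  refine ⟨LinearMap.codRestrict N (LinearMap.id - s ∘ₗ N.mkQ) h1, ?_⟩
  ext x
  simp [(Submodule.Quotient.mk_eq_zero N).mpr x.2]

theorem projective_of_retraction {B K' : Type u} [CommRing B] [AddCommGroup K'] [Module B K'] (N : Submodule B K')
    (hK : Module.Projective B K') (hc : Module.Projective B (K' ⧸ N)) : Module.Projective B N := by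
  obtain ⟨r, hr⟩ := exists_retraction N hc
  exact Module.Projective.of_split N.subtype r hr

/-- Let B be a Noetherian ring, K and K' finitely generated flat B-modules and φ : K → K' a B-linear
map; for a prime y of B write κ(y) for its residue field and φ_y for the base change κ(y) ⊗ K → κ(y)
⊗ K'. If the cokernel K'/Im φ is a projective (locally free) B-module, then Im φ is projective, and
the formation of Im φ commutes with every base change: for every commutative B-algebra B' the map B'
⊗ Im φ → B' ⊗ K' induced by the inclusion is injective and its range is the range of the base change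
B' ⊗ K → B' ⊗ K' of φ. -/
theorem result (B : Type u) [CommRing B] [IsNoetherianRing B] (K K' : Type u) [AddCommGroup K] [Module B K] [Module.Finite B K] [Module.Flat B K] [AddCommGroup K'] [Module B K'] [Module.Finite B K'] [Module.Flat B K'] (φ : K →ₗ[B] K') (hc : Module.Projective B (K' ⧸ LinearMap.range φ)) : Module.Projective B ↥(LinearMap.range φ) ∧ ∀ (B' : Type u) [CommRing B'] [Algebra B B'], Function.Injective ((LinearMap.range φ).subtype.baseChange B') ∧ LinearMap.range ((LinearMap.range φ).subtype.baseChange B') = LinearMap.range (φ.baseChange B') := by
  have hfp : Module.FinitePresentation B K' := Module.finitePresentation_of_finite B K'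
  have hK : Module.Projective B K' := Module.Flat.projective_of_finitePresentation
  refine ⟨projective_of_retraction _ hK hc, ?_⟩
  intro B' _ _
  obtain ⟨r, hr⟩ := exists_retraction _ hc
  constructor
  · have h1 : (r.baseChange B') ∘ₗ ((LinearMap.range φ).subtype.baseChange B') = LinearMap.id := by
      rw [← LinearMap.baseChange_comp, hr, LinearMap.baseChange_id]
    have h2 : Function.LeftInverse (r.baseChange B') ((LinearMap.range φ).subtype.baseChange B') :=
      fun x => LinearMap.congr_fun h1 x
    exact h2.injective
  · have h1 : φ = (LinearMap.range φ).subtype ∘ₗ φ.rangeRestrict := (LinearMap.subtype_comp_codRestrict _ _ _).symm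
    have h2 : Function.Surjective (φ.rangeRestrict.baseChange B') :=
      LinearMap.lTensor_surjective _ φ.surjective_rangeRestrict
    conv_rhs => rw [h1, LinearMap.baseChange_comp, LinearMap.range_comp, LinearMap.range_eq_top.mpr h2, Submodule.map_top]

end Groth.Agent.S14337
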