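import Groth.Statements.S14341
import Groth.Agent.Curves.K259.GenusOne
import Groth.Agent.Curves.K317.SmoothCurve
import Groth.Agent.S1535
import Groth.Agent.S9829
-- import your own Groth.Agent.* helpers here

set_option autoImplicit false
universe u
open CategoryTheory CategoryTheory.Limits AlgebraicGeometry
open Curves

namespace Groth.Agent.S14341

/-- Let k be a field and X a smooth proper geometrically connected curve over k (of dimension one) of
genus dim_k H^1(X, O_X) = 1, with a k-rational point O (a closed point with residue field k); for a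
k-rational point P write I_P for the ideal sheaf of the reduced point P, an invertible ideal with
inverse O_X(P). Then for every invertible O_X-module L of degree 0 there is exactly one k-rational
point P with L ⊗ I_P ≅ I_O, that is L ≅ O_X(P − O): the map P ↦ O_X(P − O) is a bijection from X(k)
onto the isomorphism classes of invertible modules of degree zero. -/
theorem result (k : Type u) [Field k] (X : Scheme.{u}) [X.Over (Spec (CommRingCat.of k))] [IsProper (X ↘ Spec (CommRingCat.of k))] [Smooth (X ↘ Spec (CommRingCat.of k))] [GeometricallyConnected (X ↘ Spec (CommRingCat.of k))] (hX : topologicalKrullDim X = 1) (hg : Curv2.genus k X = 1) (O : X) (hOc : IsClosed ({O} : Set X)) (hO : Function.Bijective (Curv2.resMap k X O)) (L : X.Modules) (hL : PicF.IsInvertible L) (hdeg : Curv2.deg k X L 1 = 0) : ∃! P : {x : X // IsClosed ({x} : Set X) ∧ Function.Bijective (Curv2.resMap k X x)}, Nonempty (CohB1.tensorMod L (ClSub.idealMod (Scheme.IdealSheafData.vanishingIdeal ⟨{P.1}, P.2.1⟩)) ≅ ClSub.idealMod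 (Scheme.IdealSheafData.vanishingIdeal ⟨{O}, hOc⟩)) := by
  have hint : IsIntegral X := K317.SmoothCurve.isIntegral k X
  have h0 := K317.SmoothCurve.h0_eq_one k X
  have hN : Pi1.IsNormalScheme X := fun x => by
    have := S1535.result k X x
    exact ⟨inferInstance, S9829.result _⟩
  have hn : IsLocallyNoetherian X := LocallyOfFiniteType.isLocallyNoetherian (X ↘ Spec (CommRingCat.of k))
  have key : ∀ P : X, IsClosed ({P} : Set X) →
      PicF.IsInvertible (ClSub.idealMod (X.fromSpecResidueField P).ker) := by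
    intro P hP
    have hclx : IsClosedImmersion (X.fromSpecResidueField P) := isClosed_singleton_iff_isClosedImmersion.mp hP
    obtain ⟨ϖ, h1, h2⟩ := K314.PointDeg.exists_uniformizer hX P hP (hN P).2
    exact Dix.IdealModCartier.isInvertible_idealMod (Models.H55.PtDeg.isEff_ker_fromSpecResidueField P ϖ h1 h2)
  have hclO : IsClosedImmersion (X.fromSpecResidueField O) := isClosed_singleton_iff_isClosedImmersion.mp hOc
  have hIO := key O hOc
  obtain ⟨N, hNi, ⟨e⟩⟩ := Grpsch.PicGrp.exists_inverse hIO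
  have hND : ClSub.IsInverseOf N (ClSub.idealMod (X.fromSpecResidueField O).ker) :=
    ⟨Ega2.Tens.swap N (ClSub.idealMod (X.fromSpecResidueField O).ker) ≪≫ e⟩
  have hdegN : Curv2.deg k X N 1 = 1 := by
    obtain ⟨ϖ, h1, h2⟩ := K314.PointDeg.exists_uniformizer hX O hOc (hN O).2
    rw [Dix.InterNum.deg_of_effCartier k X hX _ (Models.H55.PtDeg.isEff_ker_fromSpecResidueField O ϖ h1 h2) N hND,
      K314.PointDeg.finrank_quotMod_point, K259.RatPt.finrank_residueField_eq_one k X O hO.2]
    rfl
  have hM : PicF.IsInvertible (CohB1.tensorMod L N) := Fdesc.LocGen.isInvertible_tensorMod hL hNi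
  have hdegM : Curv2.deg k X (CohB1.tensorMod L N) 1 = 1 := by
    rw [Dix.InterNum.deg_tensor k X hX hL hNi, hdeg, hdegN]; rfl
  have hh0 := K533.CurveH1.h0_eq k hX h0 hM (by rw [hdegM, hg]; norm_num)
  rw [hdegM, hg] at hh0
  have hnt : Nontrivial (Coh.HH X (CohB1.tensorMod L N) 0) := by
    rw [← not_subsingleton_iff_nontrivial]
    intro hss
    rw [Module.finrank_zero_of_subsingleton] at hh0
    norm_num at hh0
  obtain ⟨s, hs⟩ := K259.GenusOne.exists_ne_zero hnt
  obtain ⟨P, hPc, hPb, ⟨eP⟩⟩ := K259.GenusOne.exists_point k X hX hM hdegM s hs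
  have hIP := key P hPc
  -- in the Picard group
  have hp1 : Grpsch.PicGrp.mk L hL * Grpsch.PicGrp.mk N hNi * Grpsch.PicGrp.mk _ hIP = 1 := by
    rw [Grpsch.PicGrp.mk_mul_mk, Grpsch.PicGrp.mk_mul_mk, Grpsch.PicGrp.mk_eq_one_iff]
    exact ⟨eP⟩
  have hp2 : Grpsch.PicGrp.mk N hNi * Grpsch.PicGrp.mk _ hIO = 1 := by
    rw [Grpsch.PicGrp.mk_mul_mk, Grpsch.PicGrp.mk_eq_one_iff]
    exact hND
  have hp3 : Grpsch.PicGrp.mk L hL * Grpsch.PicGrp.mk _ hIP = Grpsch.PicGrp.mk _ hIO := by
    rw [← mul_left_inj (Grpsch.PicGrp.mk N hNi), mul_comm (Grpsch.PicGrp.mk _ hIO), hp2, ← hp1, mul_right_comm]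
  refine ⟨⟨P, hPc, hPb⟩, ?_, ?_⟩
  · dsimp only
    rw [K259.GenusOne.vanishingIdeal_point, K259.GenusOne.vanishingIdeal_point]
    rw [Grpsch.PicGrp.mk_mul_mk, Grpsch.PicGrp.mk_eq_iff] at hp3
    exact hp3
  · rintro ⟨Q, hQc, hQb⟩ hQ
    dsimp only at hQ
    rw [K259.GenusOne.vanishingIdeal_point, K259.GenusOne.vanishingIdeal_point] at hQ
    have hIQ := key Q hQc
    rw [← Grpsch.PicGrp.mk_eq_iff (Fdesc.LocGen.isInvertible_tensorMod hL hIQ) hIO, ← Grpsch.PicGrp.mk_mul_mk hL hIQ,
      ← hp3, mul_right_inj, Grpsch.PicGrp.mk_eq_iff] at hQ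
    obtain ⟨φ⟩ := hQ
    by_contra hne
    have hne' : Q ≠ P := fun h => hne (by subst h; rfl)
    obtain ⟨e, he⟩ := K259.TwoPts.exists_iso_P1_of_points k X hN hX Q P hQc hPc hQb.2 hne' φ
    have := K259.GenusOne.genus_eq_zero k X e he
    omega

end Groth.Agent.S14341
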