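import Groth.Statements.S14343
import Groth.Agent.QuotLF.K821.BlowTensor
-- import your own Groth.Agent.* helpers here

set_option autoImplicit false
universe u
open CategoryTheory CategoryTheory.Limits AlgebraicGeometry TopologicalSpace
open QuotLF

namespace Groth.Agent.S14343

/-- Let 𝓘 be a Koszul-regular quasi-coherent ideal sheaf on a scheme X (the ideal of a Koszul-regularly
immersed closed subscheme Z) and let g : X' ⟶ X be a morphism which is Tor-independent with respect
to Z ⟶ X, stated in the following equivalent form: whenever 𝓘(U) is generated on an affine open U by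
a Koszul-regular sequence, the image of that sequence in Γ(X', V) is again Koszul-regular for every
affine open V of X' lying over U (for a Koszul-regular ideal the Koszul complex of such a sequence
resolves O_Z on U, so this says exactly that the higher Tor groups of O_Z against O_{X'} vanish).
Then for every blowing-up b : B ⟶ X of X in 𝓘, the base change B ×_X X' ⟶ X' is a blowing-up of X'
in the inverse image ideal sheaf 𝓘·O_{X'} (the ideal of Z ×_X X'). Blowing-ups are taken through
their universal property. -/
theorem result {X X' B : Scheme.{u}} (𝓘 : X.IdealSheafData)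
    (h𝓘 : RegImm.IsRegularIdeal .koszul 𝓘) (g : X' ⟶ X)
    (hg : ∀ (U : X.affineOpens) (rs : List Γ(X, U.1)), LCI.IsKoszulRegularSeq Γ(X, U.1) rs →
      𝓘.ideal U = Ideal.ofList rs → ∀ (V : X'.affineOpens) (e : V.1 ≤ g ⁻¹ᵁ U.1),
        LCI.IsKoszulRegularSeq Γ(X', V.1) (rs.map fun r => (g.appLE U.1 V.1 e).hom r))
    (b : B ⟶ X) (hb : BlowUp.IsBlowUp b 𝓘) :
    BlowUp.IsBlowUp (pullback.snd b g) (𝓘.comap g) := by
  constructor
  · rw [← Scheme.IdealSheafData.comap_comp, ← pullback.condition]
    refine Groth.Agent.Divis.EffCartier.isEff_of_forall_comap fun p => ?_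
    by_cases hp : (pullback.fst b g ≫ b) p ∈ 𝓘.support
    · obtain ⟨U, hxU, rs, hrs, hU⟩ := h𝓘 _ hp
      have hx' : (pullback.snd b g) p ∈ g ⁻¹ᵁ U.1 := by
        change (pullback.snd b g ≫ g) p ∈ U.1
        rw [← pullback.condition]
        exact hxU
      obtain ⟨V, hV, hxV, hVU⟩ := exists_isAffineOpen_mem_and_subset hx'
      have hrs' := hg U rs hrs hU ⟨V, hV⟩ hVU
      letI : Algebra Γ(X, U.1) Γ(X', V) := ((g.appLE U.1 V hVU).hom).toAlgebra
      obtain ⟨a, ha, c, hc, q, hcq, hcb⟩ : ∃ a ∈ {r | r ∈ rs}, ∃ (c : Spec (CommRingCat.of (BlowUp.affineAlgebra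
          Γ(X, U.1) (Ideal.ofList rs) a)) ⟶ B) (_ : IsOpenImmersion c) (q : Spec (CommRingCat.of
          (BlowUp.affineAlgebra Γ(X, U.1) (Ideal.ofList rs) a))), c q = pullback.fst b g p ∧
          c ≫ b = Groth.Agent.Divis.BlowChart.chartMap (Ideal.ofList rs) a ≫ U.2.fromSpec := by
        rw [← hU]
        exact Groth.Agent.Sga67.BlowCover.exists_chart hb U _ hU _ hxU
      let m := pullback.map (Groth.Agent.Divis.BlowChart.chartMap (Ideal.ofList rs) a)
        (Spec.map (CommRingCat.ofHom (algebraMap Γ(X, U.1) Γ(X', V)))) b g c hV.fromSpec U.2.fromSpec hcb.symm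
        (U.2.SpecMap_appLE_fromSpec g hV hVU)
      have hm : IsOpenImmersion m := inferInstance
      refine ⟨_, m, hm, ?_, ?_⟩
      · rw [Scheme.Pullback.range_map]
        refine ⟨⟨q, hcq⟩, ?_⟩
        change _ ∈ Set.range hV.fromSpec
        rw [hV.range_fromSpec]
        exact hxV
      · have h1 : m ≫ pullback.fst b g ≫ b = (pullback.fst _ _ ≫
            Groth.Agent.Divis.BlowChart.chartMap (Ideal.ofList rs) a) ≫ U.2.fromSpec := by
          have h2 : m ≫ pullback.fst b g = pullback.fst _ _ ≫ c := pullback.lift_fst _ _ _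
          rw [Category.assoc, ← hcb, reassoc_of% h2]
        rw [← Scheme.IdealSheafData.comap_comp, h1, Scheme.IdealSheafData.comap_comp,
          Groth.Agent.Sga67.BlowCover.comap_fromSpec, hU]
        exact K821.BlowTensor.isEff_chart rs hrs hrs' a ha
    · let W : X.Opens := 𝓘.support.compl
      refine ⟨_, ((pullback.fst b g ≫ b) ⁻¹ᵁ W).ι, inferInstance, ?_, ?_⟩
      · rw [Scheme.Opens.range_ι]
        exact hp
      · rw [← Scheme.IdealSheafData.comap_comp, ← morphismRestrict_ι, Scheme.IdealSheafData.comap_comp]
        have h1 : 𝓘.comap W.ι = ⊤ := by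
          rw [← Scheme.IdealSheafData.support_eq_bot_iff, Scheme.IdealSheafData.support_comap]
          ext x
          simp only [TopologicalSpace.Closeds.coe_preimage, Set.mem_preimage, TopologicalSpace.Closeds.coe_bot,
            Set.mem_empty_iff_false, iff_false]
          intro hx
          exact x.2 hx
        rw [h1, Scheme.IdealSheafData.comap_top]
        exact Groth.Agent.Divis.EffCartier.isEff_top
  · intro Y h hY
    rw [← Scheme.IdealSheafData.comap_comp] at hY
    obtain ⟨k, hk, huniq⟩ := hb.2 Y (h ≫ g) hY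
    refine ⟨pullback.lift k h hk, pullback.lift_snd _ _ _, fun l hl ↦ ?_⟩
    apply pullback.hom_ext
    · rw [pullback.lift_fst]
      apply huniq
      simp only [Category.assoc]
      rw [pullback.condition, reassoc_of% hl]
    · rw [pullback.lift_snd]
      exact hl

end Groth.Agent.S14343
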