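import Groth.Statements.S14344
import Groth.Agent.QuotLF.K821.CokerBlow
-- import your own Groth.Agent.* helpers here

set_option autoImplicit false
universe u
open CategoryTheory AlgebraicGeometry TensorProduct
open QuotLF

namespace Groth.Agent.S14344

/-- Let R be a commutative ring, n ≥ 1, f = (f_1, …, f_n) a Koszul-regular sequence in R generating the
ideal I, and M = R^n / R·f the cokernel of R → R^n, 1 ↦ f (the cokernel of a Koszul-regular section
of a trivial rank-n bundle). If b : B ⟶ Spec R is a blowing-up of Spec R in I (universal property),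
then B is a Quot scheme of rank-(n−1) locally free quotients of M: on R-algebras A there are
bijections, natural in A, between R-morphisms Spec A → B and submodules of A ⊗_R M whose quotient is
finite projective of constant rank n − 1. (This is the affine case with trivial bundle, to which the
general statement reduces; the comparison of the tautological invertible modules and the local
complete intersection property of the projection are not part of this row.) -/
theorem result {R : Type u} [CommRing R] (n : ℕ) (hn : 1 ≤ n)
    (f : Fin n → R) (hf : LCI.IsKoszulRegularSeq R (List.ofFn f))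
    {B : Scheme.{u}} (b : B ⟶ Spec (CommRingCat.of R))
    (hb : BlowUp.IsBlowUp b
      (Spec.map (CommRingCat.ofHom (Ideal.Quotient.mk (Ideal.span (Set.range f))))).ker) :
    ∃ e : ∀ A : CommAlgCat.{u} R,
        (Over.mk (Spec.map (CommRingCat.ofHom (algebraMap R A))) ⟶ Over.mk b) ≃
          (Module.Grassmannian.functor (R := R) (M := (Fin n → R) ⧸ Submodule.span R {f}) (n - 1)).obj A,
      ∀ (A A' : CommAlgCat.{u} R) (φ : A ⟶ A')
        (g : Over.mk (Spec.map (CommRingCat.ofHom (algebraMap R A))) ⟶ Over.mk b)
        (g' : Over.mk (Spec.map (CommRingCat.ofHom (algebraMap R A'))) ⟶ Over.mk b),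
        g'.left = Spec.map (CommRingCat.ofHom φ.hom.toRingHom) ≫ g.left →
          e A' g' = (Module.Grassmannian.functor (R := R) (M := (Fin n → R) ⧸ Submodule.span R {f}) (n - 1)).map φ
            (e A g) := by
  obtain ⟨n, rfl⟩ : ∃ k, n = k + 1 := ⟨n - 1, by omega⟩
  obtain ⟨X, eX, heX⟩ := K652.RepFG.exists_rep_fg (R := R) ((Fin (n + 1) → R) ⧸ Submodule.span R {f}) n
  obtain ⟨D⟩ := K821.GrData.exists_data (LinearEquiv.refl R (Fin (n + 1) → R)) (Submodule.span R {f}).mkQ
    (Submodule.mkQ_surjective _) eX heX
  have h1 := K821.CokerBlow.isBlowUp D hf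
  rw [Groth.Agent.Ega4dB.BlowUpChart.ker_SpecMap_mk] at hb
  obtain ⟨i, hi⟩ := Groth.Agent.Divis.BlowUpFormal.exists_iso_of_isBlowUp hb h1
  let i' : Over.mk b ≅ X := Over.isoMk i hi
  refine ⟨fun A => ((Iso.refl _).homCongr i').trans (eX A), ?_⟩
  intro A A' φ g g' h
  refine heX A A' φ _ _ ?_
  change (𝟙 _ ≫ g' ≫ i'.hom).left = _ ≫ (𝟙 _ ≫ g ≫ i'.hom).left
  rw [Category.id_comp, Category.id_comp]
  change g'.left ≫ i.hom = _ ≫ g.left ≫ i.hom
  rw [h, Category.assoc]

end Groth.Agent.S14344
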