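import Groth.Statements.S14345
import Groth.Agent.QuotLF.K821.DetZero
-- import your own Groth.Agent.* helpers here

set_option autoImplicit false
universe u v
open TensorProduct
open QuotLF

namespace Groth.Agent.S14345

/-- Let R be a commutative ring, M a finitely generated R-module and k ≥ 0. If for an R-algebra A the
module A ⊗_R M admits a quotient that is finite projective of constant rank k (an A-valued point of
the Quot scheme of rank-k locally free quotients of M), then every Fitting ideal Fit_j(M) with j < k
extends to the zero ideal of A; that is, the structure map of the Quot scheme of rank-k locally free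
quotients factors through the closed subscheme cut out by Fit_{k-1}(M). -/
theorem result (R : Type u) [CommRing R]
    (M : Type v) [AddCommGroup M] [Module R M] [Module.Finite R M] (k : ℕ)
    (A : Type u) [CommRing A] [Algebra R A] (N : Module.Grassmannian A (A ⊗[R] M) k)
    (j : ℕ) (hj : j < k) :
    (Fitt.ideal R M j).map (algebraMap R A) = ⊥ := by
  unfold Fitt.ideal
  rw [Ideal.map_span, Ideal.span_eq_bot]
  rintro _ ⟨_, ⟨n, x, a, hx, ha, rfl⟩, rfl⟩
  rw [RingHom.map_det]
  have hspan : Submodule.span A (Set.range fun i => N.toSubmodule.mkQ ((1 : A) ⊗ₜ[R] x i)) = ⊤ := by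
    have h1 : Submodule.span A (Set.range fun i => (1 : A) ⊗ₜ[R] x i) = ⊤ := by
      have h2 := Submodule.baseChange_span (R := R) (M := M) (A := A) (Set.range x)
      rw [hx, Submodule.baseChange_top] at h2
      rw [h2, ← Set.range_comp]
      rfl
    have h3 : (Set.range fun i => N.toSubmodule.mkQ ((1 : A) ⊗ₜ[R] x i)) =
        N.toSubmodule.mkQ '' (Set.range fun i => (1 : A) ⊗ₜ[R] x i) := by
      rw [← Set.range_comp]; rfl
    rw [h3, Submodule.span_image, h1, Submodule.map_top, Submodule.range_mkQ]
  refine K821.DetZero.det_eq_zero k N.rankAtStalk_eq _ hspan _ (n - j) (Nat.sub_le _ _) (by omega) ?_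
  intro i hi
  have h := congrArg (fun m => N.toSubmodule.mkQ ((1 : A) ⊗ₜ[R] m)) (ha i hi)
  simp only [TensorProduct.tmul_sum, TensorProduct.tmul_zero, map_sum, map_zero] at h
  rw [← h]
  refine Finset.sum_congr rfl fun l _ => ?_
  simp only [RingHom.mapMatrix_apply, Matrix.map_apply]
  rw [← map_smul, TensorProduct.tmul_smul, ← algebraMap_smul A (a i l)]

end Groth.Agent.S14345
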