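import Groth.Statements.S14352
import Groth.Agent.Ega2.SmoothBdry
import Groth.Agent.Flat2E.Thick
import Groth.Agent.Flat2B.SmoothGeom
import Groth.Agent.Dix.PointSite
import Mathlib.AlgebraicGeometry.Morphisms.LocalFlatDescent
import Mathlib.FieldTheory.IsAlgClosed.AlgebraicClosure

set_option autoImplicit false
universe u
open Mor

namespace Groth.Agent.S14352

open CategoryTheory CategoryTheory.Limits AlgebraicGeometry in
/-- A morphism of schemes f : X → S which is locally of finite presentation is unramified (formally
unramified) if and only if all its geometric fibres are reduced with discrete underlying space: for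
every algebraically closed field K and every S-point Spec K → S, the fibre product X ×_S Spec K is a
reduced scheme whose topological space is discrete. -/
theorem result {X S : Scheme.{u}} (f : X ⟶ S)
    [LocallyOfFinitePresentation f] :
    FormallyUnramified f ↔
      ∀ (K : Type u) [Field K] [IsAlgClosed K] (s : Spec (CommRingCat.of K) ⟶ S),
        IsReduced (pullback f s) ∧ DiscreteTopology ↥(pullback f s) := by
  constructor
  · intro hf K _ _ s
    have h0 : Subsingleton ↥(Spec (CommRingCat.of K)) := inferInstanceAs (Subsingleton (PrimeSpectrum K))
    have h1 : Flat (pullback.snd f s) := inferInstance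
    have h1' : FormallyUnramified (pullback.snd f s) :=
      MorphismProperty.pullback_snd (P := @FormallyUnramified) f s hf
    have h2 : Etale (pullback.snd f s) := Etale.of_formallyUnramified_of_flat _
    exact ⟨Groth.Agent.Flat2B.SmoothGeom.isReduced_of_smooth (pullback.snd f s),
      Groth.Agent.Dix.PointSite.discreteTopology_of_etale (pullback.snd f s)⟩
  · intro h
    apply Groth.Agent.Flat2E.Thick.formallyUnramified_of_fiber
    intro y
    let K : Type u := AlgebraicClosure (S.residueField y)
    let q : Spec (CommRingCat.of K) ⟶ Spec (S.residueField y) :=
      Spec.map (CommRingCat.ofHom (algebraMap (S.residueField y) K))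
    have h0 : Subsingleton ↥(Spec (S.residueField y)) :=
      inferInstanceAs (Subsingleton (PrimeSpectrum (S.residueField y)))
    have hqf : Flat q := by
      rw [Flat.SpecMap_iff]
      exact (RingHom.flat_algebraMap_iff).2 inferInstance
    have hqs : Surjective q := ⟨fun x ↦ ⟨IsLocalRing.closedPoint K, Subsingleton.elim _ _⟩⟩
    obtain ⟨h1, h2⟩ := h K (q ≫ S.fromSpecResidueField y)
    have h3 : Etale (pullback.snd f (q ≫ S.fromSpecResidueField y)) :=
      Groth.Agent.Ega2.SmoothBdry.etale_of_discrete _
    have h4 : FormallyUnramified (pullback.snd f (q ≫ S.fromSpecResidueField y)) := inferInstance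
    have hpb : IsPullback (pullback.lift (pullback.fst f (q ≫ S.fromSpecResidueField y))
        (pullback.snd f (q ≫ S.fromSpecResidueField y) ≫ q)
        (by rw [pullback.condition, Category.assoc]))
        (pullback.snd f (q ≫ S.fromSpecResidueField y)) (f.fiberToSpecResidueField y) q := by
      have ha : IsPullback (pullback.fst f (S.fromSpecResidueField y))
        (pullback.snd f (S.fromSpecResidueField y)) f (S.fromSpecResidueField y) :=
        IsPullback.of_hasPullback _ _
      refine IsPullback.of_right ?_ (pullback.lift_snd _ _ _) ha
      rw [pullback.lift_fst]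
      exact IsPullback.of_hasPullback _ _
    exact MorphismProperty.of_isPullback_of_descendsAlong (P := @FormallyUnramified)
      (Q := @Surjective ⊓ @Flat ⊓ @QuasiCompact) hpb.flip ⟨⟨hqs, hqf⟩, inferInstance⟩ h4

end Groth.Agent.S14352
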