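import Groth.Statements.S14353
import Groth.Agent.CAlg.K84.Tower
import Mathlib.CategoryTheory.Limits.Preserves.Basic
import Mathlib.CategoryTheory.Limits.ConcreteCategory.Basic
import Mathlib.CategoryTheory.Limits.Types.Limits
import Mathlib.Algebra.Category.ModuleCat.EpiMono
-- import your own Groth.Agent.* helpers here

set_option autoImplicit false
universe u
open CategoryTheory CategoryTheory.Limits CategoryTheory.MonoidalCategory
open CAlg

namespace Groth.Agent.S14353

theorem limit_ext {R : Type u} [CommRing R] (M : ℕᵒᵖ ⥤ ModuleCat.{u} R)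
    (x : (limit M : ModuleCat.{u} R)) (h : ∀ n : ℕ, (limit.π M (Opposite.op n)).hom x = 0) : x = 0 := by
  apply Concrete.limit_ext M
  intro j
  induction j using Opposite.rec with
  | op n =>
    rw [map_zero]
    exact h n

theorem limit_exists {R : Type u} [CommRing R] (M : ℕᵒᵖ ⥤ ModuleCat.{u} R)
    (v : ∀ n : ℕ, M.obj (Opposite.op n))
    (hv : ∀ n m (h : n ≤ m), (M.map (homOfLE h).op).hom (v m) = v n) :
    ∃ x : (limit M : ModuleCat.{u} R), ∀ n : ℕ, (limit.π M (Opposite.op n)).hom x = v n := by
  let e := Types.isLimitEquivSections (isLimitOfPreserves (forget (ModuleCat.{u} R)) (limit.isLimit M))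
  refine ⟨e.symm ⟨fun j => v j.unop, ?_⟩, fun n => ?_⟩
  · intro i j f
    exact hv _ _ (leOfHom f.unop)
  · exact Types.isLimitEquivSections_symm_apply (isLimitOfPreserves (forget (ModuleCat.{u} R)) (limit.isLimit M)) _ (Opposite.op n)

/-- For a commutative ring R, an inverse system (M_n)_{n ∈ ℕ} of R-modules of finite length and a
finitely presented R-module N, the canonical comparison map (lim_n M_n) ⊗_R N ⟶ lim_n (M_n ⊗_R N) is
an isomorphism. (The published statement takes N = R/I for a finitely generated ideal I; the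
argument covers every finitely presented N, which is the form stated here.) -/
theorem result (R : Type u) [CommRing R]
    (M : ℕᵒᵖ ⥤ ModuleCat.{u} R) (hM : ∀ n : ℕᵒᵖ, IsFiniteLength R (M.obj n))
    (N : Type u) [AddCommGroup N] [Module R N] [Module.FinitePresentation R N] :
    IsIso (limit.post M (tensorRight (ModuleCat.of R N))) := by
  obtain ⟨b, β, hβ⟩ := Module.Finite.exists_fin' R N
  have hker : (LinearMap.ker β).FG := Module.FinitePresentation.fg_ker β hβ
  obtain ⟨a, α, hα⟩ := (Submodule.fg_iff_exists_fin_linearMap R _).mp hker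
  have hαβ : Function.Exact α β := by
    rw [LinearMap.exact_iff, ← hα]
  let t : ∀ n m : ℕ, n ≤ m → ((M.obj (Opposite.op m)) →ₗ[R] (M.obj (Opposite.op n))) :=
    fun n m h => (M.map (homOfLE h).op).hom
  have ht : ∀ (n m k : ℕ) (h : n ≤ m) (h' : m ≤ k) (x : M.obj (Opposite.op k)),
      t n m h (t m k h' x) = t n k (h.trans h') x := by
    intro n m k h h' x
    change ((M.map (homOfLE h').op) ≫ (M.map (homOfLE h).op)).hom x = _
    rw [← M.map_comp]
    rfl
  have ht1 : ∀ n x, t n n le_rfl x = x := by
    intro n x
    change (M.map (𝟙 _)).hom x = x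
    rw [M.map_id]
    rfl
  have hArt : ∀ n : ℕ, IsArtinian R (M.obj (Opposite.op n)) := fun n =>
    (isFiniteLength_iff_isNoetherian_isArtinian.mp (hM (Opposite.op n))).2
  let π : ∀ n : ℕ, (limit M : ModuleCat.{u} R) →ₗ[R] M.obj (Opposite.op n) := fun n => (limit.π M (Opposite.op n)).hom
  have hπ : ∀ n m h x, t n m h (π m x) = π n x := by
    intro n m h x
    change (limit.π M (Opposite.op m) ≫ M.map (homOfLE h).op).hom x = _
    rw [limit.w]
  rw [ConcreteCategory.isIso_iff_bijective]
  have hpost : ∀ (z : (tensorRight (ModuleCat.of R N)).obj (limit M)) (n : ℕ),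
      (limit.π (M ⋙ tensorRight (ModuleCat.of R N)) (Opposite.op n)).hom
        ((limit.post M (tensorRight (ModuleCat.of R N))).hom z) = (π n).rTensor N z := by
    intro z n
    rw [← LinearMap.comp_apply, ← ModuleCat.hom_comp, limit.post_π]
    rfl
  constructor
  · rw [injective_iff_map_eq_zero]
    intro z hz
    refine K84.Tower.tensor_ext t ht ht1 π (limit_ext M) (limit_exists M) α β hβ hαβ hπ z ?_
    intro n
    have h1 := hpost z n
    have h2 : (limit.post M (tensorRight (ModuleCat.of R N))).hom z = 0 := hz
    rw [h2, map_zero] at h1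
    exact h1.symm
  · intro y
    obtain ⟨z, hz⟩ := K84.Tower.tensor_exists t ht ht1 π (limit_exists M) β hβ
      (fun n => (limit.π (M ⋙ tensorRight (ModuleCat.of R N)) (Opposite.op n)).hom y) (by
        intro n m h
        have h1 := congrArg (fun f => f.hom y) (limit.w (M ⋙ tensorRight (ModuleCat.of R N)) (homOfLE h).op)
        exact h1)
    refine ⟨z, ?_⟩
    rw [← sub_eq_zero]
    apply limit_ext
    intro n
    rw [map_sub, sub_eq_zero, ← hz n]
    exact hpost z n

end Groth.Agent.S14353
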