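import Groth.Statements.S14354
import Groth.Agent.Coh.K415.TowerTensor
import Groth.Agent.FormalA.Support

set_option autoImplicit false
universe u
open CategoryTheory CategoryTheory.Limits AlgebraicGeometry Opposite
open Coh

namespace Groth.Agent.S14354

/-- Let X be a locally Noetherian scheme and (G_e)_{e ∈ ℕ} an inverse system of coherent O_X-modules
satisfying the Mittag-Leffler condition, in the sense that for every e the image subobject of G_d ⟶
G_e is the same for all sufficiently large d. Then for every e the support of the image of the
canonical map lim_d G_d ⟶ G_e is closed in X. (The published statement is the case where G_e is the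
i-th cohomology sheaf of the Fourier–Mukai transform of the e-th member of a Mittag-Leffler inverse
system of coherent modules on an abelian variety; the argument uses only the coherence of the G_e
and their Mittag-Leffler condition, which is the form stated here.) -/
theorem result (X : Scheme.{u}) [IsLocallyNoetherian X]
    (G : ℕᵒᵖ ⥤ X.Modules) (hG : ∀ n : ℕᵒᵖ, Coh.IsCoh (G.obj n))
    (hML : ∀ e : ℕ, ∃ (d : ℕ) (hd : e ≤ d), ∀ (d' : ℕ) (hd' : d ≤ d'),
      imageSubobject (G.map (homOfLE (hd.trans hd')).op) = imageSubobject (G.map (homOfLE hd).op))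
    (e : ℕ) : IsClosed (CohB1.support (image (limit.π G (op e)))) := by
  have hF : ∀ n : ℕ, Coh.IsQCoh (G.obj (op n)) := fun n ↦ (hG (op n)).1
  obtain ⟨m, h, hlift⟩ := K415.TowerSheaf.exists_limit_lift G hF hML e
  let t := K415.TowerSheaf.trL G h
  let p := factorThruImage t
  let i := image.ι t
  have hpi : p ≫ i = t := image.fac t
  have hI : Coh.IsCoh (image t) :=
    Groth.Agent.FormalB.FormalLoc.isCoh_of_epi_mono p i (hG (op m)) (hF e)
  let q : limit G ⟶ image t := limit.π G (op m) ≫ p
  have hq : q ≫ i = limit.π G (op e) := by
    rw [Category.assoc, hpi]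
    exact limit.w G (homOfLE h).op
  have hqe : Epi q := by
    refine Groth.Agent.FormalB.SysSect.epi_of_affine q fun U hU b ↦ ?_
    obtain ⟨a, rfl⟩ := Groth.Agent.FormalB.FormalLoc.app_surjective_of_epi p (hF m) hI.1 hU b
    obtain ⟨y, hy⟩ := hlift U hU a
    refine ⟨y, ?_⟩
    apply Groth.Agent.PerfB.ModExact.app_injective_of_mono i U
    have h1 : i.app U (q.app U y) = (limit.π G (op e)).app U y := congr(($hq).app U y)
    have h2 : i.app U (p.app U a) = t.app U a := congr(($hpi).app U a)
    rw [h1, h2, hy]
  have hqs : StrongEpi q := strongEpi_of_epi q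
  have e1 : image t ≅ image (limit.π G (op e)) := image.isoStrongEpiMono q i hq
  rw [← Groth.Agent.FormalA.Support.support_eq_of_iso e1]
  exact Groth.Agent.FormalA.Support.isClosed_support _ hI.2

end Groth.Agent.S14354
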