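import Groth.Statements.S14356
import Groth.Agent.AbVar.K785.FMUse
import Groth.Agent.AbVar.K528.PushITD
import Groth.Agent.AbVar.K528.LimTens
import Groth.Agent.AbVar.K528.MateSum

set_option autoImplicit false
universe u
open CategoryTheory CategoryTheory.Limits MonoidalCategory CartesianMonoidalCategory MonObj GrpObj AlgebraicGeometry Opposite
attribute [local instance] HasDerivedCategory.standard
open AbVar

namespace Groth.Agent.S14356

/-- Let k be an algebraically closed field of characteristic p > 0, A an abelian variety over k (a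
proper smooth k-group scheme with geometrically connected fibres) of dimension g, (A^t, φ) a given
dual abelian variety of A for the fppf topology with A^t an abelian variety, and P an invertible
module on A ×_k A^t whose class is a Poincaré class; let P^t be its pullback to A^t ×_k A along the
swap, Φ_P = Rpr_{2,*}(Lpr_1^*(−) ⊗^L P) : D(O_A) → D(O_{A^t}) and Φ_{P^t} : D(O_{A^t}) → D(O_A) the
Fourier–Mukai functors (the derived functors involved are assumed to exist), and R^iŜ(F) =
H^i(Φ_P(F)) for a module F placed in degree 0. Let (Ω_e)_{e ∈ ℕ} be an inverse system of coherent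
O_A-modules satisfying the Mittag-Leffler condition (for each e the image subobject of Ω_d ⟶ Ω_e is
the same for all large d) and Ω = lim_e Ω_e. Suppose that for every integer i the inverse system
(R^iŜ(Ω_e))_e satisfies the Mittag-Leffler condition, and that for every 0 ≤ i ≤ g and all
sufficiently large e, every point of the support of the image of lim_e R^iŜ(Ω_e) ⟶ R^iŜ(Ω_e) has
codimension at least i (the local ring of A^t there has Krull dimension ≥ i). Then for every ample
invertible O_{A^t}-module L, writing L̂ for (any O_A-module isomorphic to) the degree-zero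
Fourier–Mukai transform H^0(Φ_{P^t}(L)) and L̂^∨ = Hom_{O_A}(L̂, O_A) for its dual (the sheaf Hom
taken as the right adjoint of L̂ ⊗ −, assumed to exist), the cohomology H^i(A, Ω ⊗ L̂^∨) vanishes
for every i > 0. -/
theorem result (k : Type u) [Field k] [IsAlgClosed k]
    (p : ℕ) [Fact p.Prime] [CharP k p]
    (A At : Over (Spec (CommRingCat.of k))) [GrpObj A] [IsProper A.hom] [Smooth A.hom] [GeometricallyConnected A.hom]
    [GrpObj At] [IsProper At.hom] [Smooth At.hom] [GeometricallyConnected At.hom]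
    (φ : ∀ T : Over (Spec (CommRingCat.of k)), PicF.Cl (PicF.XT A.hom T) → (T ⟶ At))
    (hφ : AbDual.IsDualAV Scheme.fppfPrecoverage A At φ)
    (P : (pullback A.hom At.hom).Modules) (hP : PicF.IsInvertible P)
    (hPξ : AbDual.IsPoincareCl A At φ (PicF.cl P))
    (g : ℕ) (hg : topologicalKrullDim ↥A.left = g)
    [DCoh.HasLpull (pullback.fst A.hom At.hom)] [DCoh.HasLTensorMod P] [DCoh.HasRpush (pullback.snd A.hom At.hom)]
    [DCoh.HasLpull (pullback.fst At.hom A.hom)]
    [DCoh.HasLTensorMod ((Scheme.Modules.pullback (pullbackSymmetry At.hom A.hom).hom).obj P)]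
    [DCoh.HasRpush (pullback.snd At.hom A.hom)]
    (Ω : ℕᵒᵖ ⥤ A.left.Modules) (hΩ : ∀ n : ℕᵒᵖ, Coh.IsCoh (Ω.obj n))
    (hML : ∀ e : ℕ, ∃ (d : ℕ) (hd : e ≤ d), ∀ (d' : ℕ) (hd' : d ≤ d'),
      imageSubobject (Ω.map (homOfLE (hd.trans hd')).op) = imageSubobject (Ω.map (homOfLE hd).op))
    (hMLS : ∀ (i : ℤ) (e : ℕ), ∃ (d : ℕ) (hd : e ≤ d), ∀ (d' : ℕ) (hd' : d ≤ d'),
      imageSubobject ((Ω ⋙ DerivedCategory.singleFunctor A.left.Modules 0 ⋙ (DCoh.Lpull (pullback.fst A.hom At.hom) ⋙ DCoh.LTensorMod P ⋙ DCoh.Rpush (pullback.snd A.hom At.hom)) ⋙ DerivedCategory.homologyFunctor At.left.Modules i).map (homOfLE (hd.trans hd')).op) =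
        imageSubobject ((Ω ⋙ DerivedCategory.singleFunctor A.left.Modules 0 ⋙ (DCoh.Lpull (pullback.fst A.hom At.hom) ⋙ DCoh.LTensorMod P ⋙ DCoh.Rpush (pullback.snd A.hom At.hom)) ⋙ DerivedCategory.homologyFunctor At.left.Modules i).map (homOfLE hd).op))
    (hcodim : ∀ i : ℕ, i ≤ g → ∃ e₀ : ℕ, ∀ e : ℕ, e₀ ≤ e →
      ∀ y ∈ CohB1.support (image (limit.π (Ω ⋙ DerivedCategory.singleFunctor A.left.Modules 0 ⋙ (DCoh.Lpull (pullback.fst A.hom At.hom) ⋙ DCoh.LTensorMod P ⋙ DCoh.Rpush (pullback.snd A.hom At.hom)) ⋙ DerivedCategory.homologyFunctor At.left.Modules (i : ℤ)) (op e))),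
        (i : WithBot ℕ∞) ≤ ringKrullDim ↑(At.left.presheaf.stalk y))
    (L : At.left.Modules) (hL : PicF.IsInvertible L) (hLa : CohB1.IsAmple L)
    (Lhat : A.left.Modules) (eLhat : Lhat ≅ DCoh.HD ((DCoh.Lpull (pullback.fst At.hom A.hom) ⋙ DCoh.LTensorMod ((Scheme.Modules.pullback (pullbackSymmetry At.hom A.hom).hom).obj P) ⋙ DCoh.Rpush (pullback.snd At.hom A.hom)).obj (DCoh.inD At.left L)) 0)
    [DCoh.HasSheafHom Lhat]
    (i : ℕ) (hi : 0 < i) :
    Subsingleton (Coh.HH A.left (CohB1.tensorMod (limit Ω) ((DCoh.sheafHom Lhat).obj (Coh.structureModule A.left))) i) := by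
  have gA : GeometricallyIntegral A.hom := K732.AV.geomInt A
  have gAt : GeometricallyIntegral At.hom := K732.AV.geomInt At
  have fA : Flat A.hom := inferInstance
  obtain ⟨Lh, hLh, ⟨e⟩⟩ := K528.PushITD.exists_hat hφ hP hPξ L hLa
  let e0 : Lhat ≅ Lh := eLhat ≪≫ (DerivedCategory.homologyFunctor A.left.Modules 0).mapIso e ≪≫
    (DerivedCategory.singleFunctorCompHomologyFunctorIso A.left.Modules 0).app Lh
  have hE : FlatMod.IsFinLocFree Lhat := Groth.Agent.Dcoh.FinLocFree.isFinLocFree_of_iso e0.symm hLh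
  have eE : Nonempty ((DCoh.Lpull (pullback.fst At.hom A.hom) ⋙ DCoh.LTensorMod ((Scheme.Modules.pullback (pullbackSymmetry At.hom A.hom).hom).obj P) ⋙ DCoh.Rpush (pullback.snd At.hom A.hom)).obj (DCoh.inD At.left L) ≅ DCoh.inD A.left Lhat) :=
    ⟨e ≪≫ (DerivedCategory.singleFunctor A.left.Modules 0).mapIso e0.symm⟩
  obtain ⟨pair⟩ := K528.MateSum.nonempty_pairing hE (Iso.refl Lhat)
  have hV : FlatMod.IsFinLocFree ((DCoh.sheafHom Lhat).obj (Coh.structureModule A.left)) :=
    Groth.Agent.Dcoh.DualFLF.isFinLocFree_dual hE _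
  refine K785.FMUse.main hφ hP hPξ g hg Ω hΩ (fun i => hMLS i) hcodim L hL Lhat hE eE i hi ?_
  intro x hx
  obtain ⟨j, rfl⟩ : ∃ j, i = j + 1 := ⟨i - 1, by omega⟩
  let _ : A.left.Over (Spec (CommRingCat.of k)) := ⟨A.hom⟩
  have hAp : IsProper (A.left ↘ Spec (CommRingCat.of k)) := inferInstanceAs (IsProper A.hom)
  exact K528.LimTens.eq_zero k Ω hΩ hML (E := Lhat) hV j x hx

end Groth.Agent.S14356
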