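import Groth.Statements.S14357
import Groth.Agent.S0024
import Mathlib.AlgebraicGeometry.Morphisms.IsIso
import Mathlib.Algebra.MvPolynomial.Division

set_option autoImplicit false
universe u
open AlgebraicGeometry
open Proj

namespace Groth.Agent.S14357

open CategoryTheory MvPolynomial in
/-- For a field k the projective line over k is not an affine scheme. (The projective line is taken here
as Proj of the polynomial ring in two variables over k with its standard grading; the book builds it
by gluing two affine lines and identifies the two constructions later.) -/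
theorem result (k : Type u) [Field k] :
    ¬ IsAffine (CohB1.ProjSpace 1 k) := by
  intro haff
  have h0 : IsIso (CohB1.ProjSpace.toSpec 1 k).appTop := Groth.Agent.S0024.result 1 k
  have hiso : IsIso (CohB1.ProjSpace.toSpec 1 k) :=
    ((MorphismProperty.isomorphisms Scheme.{u}).arrow_mk_iso_iff
      (arrowIsoSpecΓOfIsAffine (CohB1.ProjSpace.toSpec 1 k))).mpr
      (inferInstanceAs (IsIso (Spec.map (CohB1.ProjSpace.toSpec 1 k).appTop)))
  have hsub : Subsingleton ↥(CohB1.ProjSpace 1 k) := by
    have hinj : Function.Injective (CohB1.ProjSpace.toSpec 1 k).base :=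
      (Scheme.homeoOfIso (asIso (CohB1.ProjSpace.toSpec 1 k))).injective
    have : Subsingleton ↥(Spec (CommRingCat.of k)) :=
      inferInstanceAs (Subsingleton (PrimeSpectrum k))
    exact hinj.subsingleton
  have hX : ∀ I : Ideal (MvPolynomial (Fin 2) k), (X 1 : MvPolynomial (Fin 2) k) ∉ I →
      ∀ hI : I.IsHomogeneous (CohB1.polyGrading 1 k),
      ¬ HomogeneousIdeal.irrelevant (CohB1.polyGrading 1 k) ≤ (⟨I, hI⟩ : HomogeneousIdeal _) := by
    intro I hI hh hle
    apply hI
    apply hle
    rw [HomogeneousIdeal.mem_irrelevant_iff, GradedRing.proj_apply]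
    rw [DirectSum.decompose_of_mem_ne _ (Groth.Agent.S0024.X_mem (n := 1) (R := k) 1) one_ne_zero]
  have hbot : (⊥ : Ideal (MvPolynomial (Fin 2) k)).IsHomogeneous (CohB1.polyGrading 1 k) :=
    Ideal.IsHomogeneous.bot _
  have hspan : (Ideal.span {(X 0 : MvPolynomial (Fin 2) k)}).IsHomogeneous
      (CohB1.polyGrading 1 k) := by
    apply Ideal.homogeneous_span
    intro x hx
    rw [Set.mem_singleton_iff.mp hx]
    exact ⟨1, Groth.Agent.S0024.X_mem (n := 1) (R := k) 0⟩
  have hp : (Ideal.span {(X 0 : MvPolynomial (Fin 2) k)}).IsPrime := by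
    rw [Ideal.span_singleton_prime (X_ne_zero 0)]
    exact MvPolynomial.X_prime
  let x : ↥(CohB1.ProjSpace 1 k) :=
    (⟨⟨⊥, hbot⟩, Ideal.isPrime_bot, hX _ (by
      rw [Ideal.mem_bot]; exact X_ne_zero 1) _⟩ : ProjectiveSpectrum (CohB1.polyGrading 1 k))
  let y : ↥(CohB1.ProjSpace 1 k) :=
    (⟨⟨_, hspan⟩, hp, hX _ (by
      rw [Ideal.mem_span_singleton, MvPolynomial.X_dvd_X]
      exact by decide) _⟩ : ProjectiveSpectrum (CohB1.polyGrading 1 k))
  have hxy : x = y := Subsingleton.elim _ _
  have h1 : (x : ProjectiveSpectrum (CohB1.polyGrading 1 k)).asHomogeneousIdeal.toIdeal =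
      (y : ProjectiveSpectrum (CohB1.polyGrading 1 k)).asHomogeneousIdeal.toIdeal := by
    rw [hxy]
  have h2 : (X 0 : MvPolynomial (Fin 2) k) ∈ (⊥ : Ideal (MvPolynomial (Fin 2) k)) := by
    have : (X 0 : MvPolynomial (Fin 2) k) ∈ Ideal.span {(X 0 : MvPolynomial (Fin 2) k)} :=
      Ideal.subset_span rfl
    rw [show (⊥ : Ideal (MvPolynomial (Fin 2) k)) = Ideal.span {(X 0 : MvPolynomial (Fin 2) k)}
      from h1]
    exact this
  exact X_ne_zero 0 ((Ideal.mem_bot).mp h2)

end Groth.Agent.S14357
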