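import Groth.Statements.S14358
import Mathlib.Tactic.FieldSimp
-- import your own Groth.Agent.* helpers here

set_option autoImplicit false
universe u
open CAlg

namespace Groth.Agent.S14358

/-- Let A be a Noetherian integral domain with fraction field K and let r ∈ K. Then r belongs to A if
and only if, for every nonzero g ∈ A and every associated prime p of the A-module A/(g), the element
r belongs to the local ring A_p inside K, i.e. s r = a in K for some a ∈ A and some s ∈ A outside p. -/
theorem result (A K : Type u)
    [CommRing A] [IsDomain A] [IsNoetherianRing A] [Field K] [Algebra A K] [IsFractionRing A K]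
    (r : K) :
    r ∈ Set.range (algebraMap A K) ↔
      ∀ g : A, g ≠ 0 → ∀ p ∈ associatedPrimes A (A ⧸ Ideal.span {g}),
        ∃ a s : A, s ∉ p ∧ algebraMap A K s * r = algebraMap A K a := by
  constructor
  · rintro ⟨a, rfl⟩ g _ p hp
    exact ⟨a, 1, fun h => hp.1.ne_top ((Ideal.eq_top_iff_one p).mpr h), by rw [map_one, one_mul]⟩
  · intro h
    obtain ⟨f, g, hg, rfl⟩ := IsFractionRing.div_surjective (A := A) r
    have hg0 : g ≠ 0 := nonZeroDivisors.ne_zero hg
    have hgK : algebraMap A K g ≠ 0 := by
      rwa [Ne, IsFractionRing.to_map_eq_zero_iff]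
    by_contra hf
    have hfg : (Ideal.Quotient.mk (Ideal.span {g}) f : A ⧸ Ideal.span {g}) ≠ 0 := by
      rw [Ne, Ideal.Quotient.eq_zero_iff_mem, Ideal.mem_span_singleton']
      rintro ⟨b, rfl⟩
      apply hf
      refine ⟨b, ?_⟩
      rw [map_mul, mul_div_assoc, div_self hgK, mul_one]
    obtain ⟨P, hP, hle⟩ := exists_le_isAssociatedPrime_of_isNoetherianRing A _ hfg
    obtain ⟨a, s, hs, hsa⟩ := h g hg0 P hP
    apply hs
    apply hle
    rw [Submodule.mem_colon_singleton, Submodule.mem_bot]
    have h1 : s * f = a * g := by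
      apply IsFractionRing.injective A K
      rw [map_mul, map_mul, ← hsa]
      field_simp
    have h2 : s • (Ideal.Quotient.mk (Ideal.span {g}) f) = Ideal.Quotient.mk (Ideal.span {g}) (s * f) := rfl
    rw [h2, h1, Ideal.Quotient.eq_zero_iff_mem]
    exact Ideal.mul_mem_left _ _ (Ideal.mem_span_singleton_self g)

end Groth.Agent.S14358
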