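import Groth.Statements.S14359
import Groth.Agent.Ega4B.NormalAssoc
import Mathlib.RingTheory.Ideal.KrullsHeightTheorem

set_option autoImplicit false
universe u
open CAlg

namespace Groth.Agent.S14359

theorem height_le_one {S : Type u} [CommRing S] [IsDomain S]
    [IsNoetherianRing S] [IsIntegrallyClosed S] {t : S} (ht : t ≠ 0) {P : Ideal S} [P.IsPrime]
    (hP : P ∈ associatedPrimes S (S ⧸ Ideal.span {t})) : P.height ≤ 1 := by
  obtain ⟨π, -, hπ⟩ := Groth.Agent.Ega4B.NormalAssoc.exists_generator_of_mem_associatedPrimes ht hP
  have h1 : (IsLocalRing.maximalIdeal (Localization.AtPrime P)).height ≤ 1 := by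
    rw [hπ]
    have hprime : (Ideal.span {π}).IsPrime := by
      rw [← hπ]; infer_instance
    refine Ideal.height_le_one_of_isPrincipal_of_mem_minimalPrimes (Ideal.span {π}) _ ?_
    rw [Ideal.minimalPrimes_eq_subsingleton_self]
    rfl
  have h2 := IsLocalization.AtPrime.ringKrullDim_eq_height P (Localization.AtPrime P)
  have h3 := IsLocalRing.maximalIdeal_height_eq_ringKrullDim (R := Localization.AtPrime P)
  rw [← h3] at h2
  have h4 : (IsLocalRing.maximalIdeal (Localization.AtPrime P)).height = P.height :=
    WithBot.coe_injective h2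
  rwa [h4] at h1

/-- Let A be a Noetherian integrally closed integral domain and b a nonzero element of A. Then every
associated prime of the A-module A/(b) has height one, so that A/(b) has no embedded associated
primes. -/
theorem result
    (A : Type u) [CommRing A] [IsDomain A] [IsNoetherianRing A] [IsIntegrallyClosed A]
    (b : A) (hb : b ≠ 0) (p : Ideal A) (hp : p ∈ associatedPrimes A (A ⧸ Ideal.span {b})) :
    p.height = 1 := by
  have : p.IsPrime := hp.isPrime
  refine le_antisymm (height_le_one hb hp) ?_
  have hbp : b ∈ p := by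
    refine hp.annihilator_le ?_
    rw [Submodule.mem_annihilator]
    rintro x -
    obtain ⟨y, rfl⟩ := Ideal.Quotient.mk_surjective x
    rw [Algebra.smul_def, Ideal.Quotient.algebraMap_eq, ← map_mul, Ideal.Quotient.eq_zero_iff_mem]
    exact Ideal.mul_mem_right _ _ (Ideal.mem_span_singleton_self b)
  rw [Order.one_le_iff_ne_zero]
  intro h0
  rw [Ideal.height_eq_zero_iff_eq_bot] at h0
  exact hb (by simpa [h0] using hbp)

end Groth.Agent.S14359
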