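import Groth.Statements.S14360

set_option autoImplicit false
set_option backward.isDefEq.respectTransparency false
set_option backward.defeqAttrib.useBackward true
universe u
open AlgebraicGeometry
open Variety

namespace Groth.Agent.S14360

open CategoryTheory CategoryTheory.Limits

theorem comp_equiv_id {X Y : Scheme.{u}} [IsIntegral X] [IsIntegral Y] (f : X.PartialMap Y) (g : Y.PartialMap X)
    [IsDominant f.hom] (W : X.Opens) (hW : Dense (W : Set X)) (hWf : W ≤ f.domain) (φ : (W : Scheme) ⟶ g.domain)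
    (h1 : X.homOfLE hWf ≫ f.hom = φ ≫ g.domain.ι) (h2 : φ ≫ g.hom = W.ι) :
    (f.comp g).equiv (Scheme.PartialMap.id X) := by
  have hle : W ≤ (f.comp g).domain := by
    intro x hx
    refine ⟨⟨x, hWf hx⟩, ?_, rfl⟩
    have : f.hom (X.homOfLE hWf ⟨x, hx⟩) = g.domain.ι (φ ⟨x, hx⟩) := by
      rw [← Scheme.Hom.comp_apply, h1, Scheme.Hom.comp_apply]
    have e : X.homOfLE hWf ⟨x, hx⟩ = ⟨x, hWf hx⟩ := Subtype.ext (Scheme.homOfLE_apply ..)
    rw [e] at this
    change f.hom ⟨x, hWf hx⟩ ∈ g.domain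
    rw [this]
    exact (φ ⟨x, hx⟩).2
  refine ⟨W, hW, hle, le_top, ?_⟩
  have h3 : X.homOfLE hle ≫ (f.domain.ι.isoImage (f.hom ⁻¹ᵁ g.domain)).inv ≫ f.hom ∣_ g.domain = φ := by
    rw [← cancel_mono g.domain.ι, Category.assoc, Category.assoc, morphismRestrict_ι, ← h1,
      f.domain.isoImage_ι_inv_ι_assoc]
    exact (X.homOfLE_homOfLE_assoc hle _ _)
  have h4 : (X.homOfLE hle ≫ (f.comp g).hom) = W.ι := by
    rw [← h2, ← h3, Category.assoc, Category.assoc]
    rfl
  refine h4.trans ?_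
  change W.ι = X.homOfLE _ ≫ X.topIso.hom ≫ 𝟙 X
  simp

theorem of_comp_equiv_id {X Y : Scheme.{u}} [IsIntegral X] [IsIntegral Y] (f : X.PartialMap Y) (g : Y.PartialMap X)
    [IsDominant f.hom] (h : (f.comp g).equiv (Scheme.PartialMap.id X)) :
    ∃ (W : X.Opens) (_ : Dense (W : Set X)) (hWf : W ≤ f.domain) (φ : (W : Scheme) ⟶ g.domain),
      X.homOfLE hWf ≫ f.hom = φ ≫ g.domain.ι ∧ φ ≫ g.hom = W.ι := by
  obtain ⟨W, hW, hle, hle', h⟩ := h
  refine ⟨W, hW, hle.trans (f.domain.ι_image_le _), X.homOfLE hle ≫ (f.domain.ι.isoImage (f.hom ⁻¹ᵁ g.domain)).inv ≫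
    f.hom ∣_ g.domain, ?_, ?_⟩
  · rw [Category.assoc, Category.assoc, morphismRestrict_ι, f.domain.isoImage_ι_inv_ι_assoc]
    exact (X.homOfLE_homOfLE_assoc hle _ _).symm
  · refine Eq.trans ?_ (h.trans ?_)
    · rw [Category.assoc, Category.assoc]
      rfl
    · change X.homOfLE _ ≫ X.topIso.hom ≫ 𝟙 X = W.ι
      simp

/-- the composition of a partial isomorphism with its inverse -/
theorem comp_symm {X Y : Scheme.{u}} [IsIntegral X] [IsIntegral Y] (e : X.PartialIso Y)
    [IsDominant e.toPartialMap.hom] :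
    (e.toPartialMap.comp e.symm.toPartialMap).equiv (Scheme.PartialMap.id X) := by
  refine comp_equiv_id e.toPartialMap e.symm.toPartialMap e.source e.dense_source le_rfl e.iso.hom ?_ ?_
  · change X.homOfLE _ ≫ e.iso.hom ≫ e.target.ι = e.iso.hom ≫ e.target.ι
    simp
  · change e.iso.hom ≫ e.iso.inv ≫ e.source.ι = e.source.ι
    simp

/-- The half of the isomorphism of fibre products -/
theorem key {X Y : Scheme.{u}} {W : X.Opens} {V : Y.Opens} {U' : Y.Opens} (φ : (W : Scheme) ⟶ Y)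
    (ψ : (V : Scheme) ⟶ X) (hV : V ≤ U') (g : (U' : Scheme) ⟶ X) (hg : Y.homOfLE hV ≫ g = ψ)
    (φ' : (W : Scheme) ⟶ U') (h1 : φ = φ' ≫ U'.ι) (h2 : φ' ≫ g = W.ι)
    {T : Scheme.{u}} (a : T ⟶ W) (b : T ⟶ V) (hab : a ≫ φ = b ≫ V.ι) : b ≫ ψ = a ≫ W.ι := by
  have h3 : a ≫ φ' = b ≫ Y.homOfLE hV := by
    rw [← cancel_mono U'.ι, Category.assoc, ← h1, hab, Category.assoc, Y.homOfLE_ι]
  rw [← hg, ← Category.assoc, ← h3, Category.assoc, h2]

/-- Key: mutually inverse partial maps -/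
theorem birational_of {X Y : Scheme.{u}} [IsIntegral X] [IsIntegral Y] (f : X.PartialMap Y) (g : Y.PartialMap X)
    [IsDominant f.hom] [IsDominant g.hom]
    (h₁ : (f.comp g).equiv (Scheme.PartialMap.id X)) (h₂ : (g.comp f).equiv (Scheme.PartialMap.id Y)) :
    Scheme.Birational X Y := by
  obtain ⟨W, hW, hWf, φ', ha, hb⟩ := of_comp_equiv_id f g h₁
  obtain ⟨V, hV, hVg, ψ', hc, hd⟩ := of_comp_equiv_id g f h₂
  set φ : (W : Scheme) ⟶ Y := X.homOfLE hWf ≫ f.hom with hφ
  set ψ : (V : Scheme) ⟶ X := Y.homOfLE hVg ≫ g.hom with hψ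
  have k1 : ∀ {T : Scheme.{u}} (a : T ⟶ W) (b : T ⟶ V), a ≫ φ = b ≫ V.ι → b ≫ ψ = a ≫ W.ι :=
    fun a b hab => key φ ψ hVg g.hom hψ.symm φ' ha hb a b hab
  have k2 : ∀ {T : Scheme.{u}} (b : T ⟶ V) (a : T ⟶ W), b ≫ ψ = a ≫ W.ι → a ≫ φ = b ≫ V.ι :=
    fun b a hab => key ψ φ hWf f.hom hφ.symm ψ' hc hd b a hab
  let e : pullback φ V.ι ≅ pullback ψ W.ι :=
    { hom := pullback.lift (pullback.snd _ _) (pullback.fst _ _) (k1 _ _ pullback.condition)
      inv := pullback.lift (pullback.snd _ _) (pullback.fst _ _) (k2 _ _ pullback.condition)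
      hom_inv_id := by ext <;> simp
      inv_hom_id := by ext <;> simp }
  have dom : ∀ {X Y : Scheme.{u}} [IsIntegral X] [IsIntegral Y] {W : X.Opens} {V : Y.Opens} (hV : Dense (V : Set Y))
      (φ : (W : Scheme) ⟶ Y), IsDominant φ → IsDominant (pullback.fst φ V.ι ≫ W.ι) := by
    intro X Y _ _ W V hV φ hφ
    have h1 : (φ ⁻¹ᵁ V : Set W).Nonempty := by
      obtain ⟨y, hy, x, rfl⟩ := φ.denseRange.inter_open_nonempty _ V.2 hV.nonempty
      exact ⟨x, hy⟩
    obtain ⟨x, hx⟩ := h1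
    obtain ⟨z, hz⟩ : ∃ z, pullback.fst φ V.ι z = x := by
      have : x ∈ Set.range (pullback.fst φ V.ι) := by
        rw [Scheme.Pullback.range_fst]
        simpa using hx
      exact this
    refine ⟨?_⟩
    refine IsOpen.dense (Scheme.Hom.isOpenEmbedding _).isOpen_range ⟨_, z, rfl⟩
  have d1 : IsDominant φ := by
    have : IsDominant (X.homOfLE hWf) := Opens.isDominant_homOfLE hW hWf
    infer_instance
  have d2 : IsDominant ψ := by
    have : IsDominant (Y.homOfLE hVg) := Opens.isDominant_homOfLE hV hVg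
    infer_instance
  have d3 := dom hV φ d1
  have d4 := dom hW ψ d2
  exact ((Scheme.Hom.birational (pullback.fst φ V.ι ≫ W.ι)).symm.trans ⟨.ofIso e⟩).trans
    (Scheme.Hom.birational (pullback.fst ψ W.ι ≫ V.ι))

/-- Let X and Y be integral schemes. Then X and Y have isomorphic dense open subschemes if and only if
they are birational in the sense of rational maps, i.e. there exist dominant rational maps f : X ⤏ Y
and g : Y ⤏ X such that the composites g ∘ f and f ∘ g are the identity rational maps of X and of Y. -/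
theorem result (X Y : Scheme.{u})
    [IsIntegral X] [IsIntegral Y] :
    Scheme.Birational X Y ↔
      ∃ (f : X ⤏ Y) (g : Y ⤏ X) (_ : f.IsDominant) (_ : g.IsDominant),
        f.comp g = Scheme.RationalMap.id X ∧ g.comp f = Scheme.RationalMap.id Y := by
  constructor
  · rintro ⟨e⟩
    have hd : ∀ {X Y : Scheme.{u}} [IsIntegral X] [IsIntegral Y] (e : X.PartialIso Y),
        IsDominant e.toPartialMap.hom := fun e => by
      have := Opens.isDominant_ι e.dense_target
      exact inferInstanceAs (IsDominant (e.iso.hom ≫ e.target.ι))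
    have h1 := hd e
    have h2 := hd e.symm
    refine ⟨e.toRationalMap, e.symm.toRationalMap, inferInstance, inferInstance, ?_, ?_⟩
    · rw [Scheme.RationalMap.toRationalMap_comp, Scheme.PartialMap.toRationalMap_eq_iff]
      exact comp_symm e
    · rw [Scheme.RationalMap.toRationalMap_comp, Scheme.PartialMap.toRationalMap_eq_iff]
      exact comp_symm e.symm
  · rintro ⟨f, g, hf, hg, h1, h2⟩
    obtain ⟨f, rfl⟩ := f.exists_rep
    obtain ⟨g, rfl⟩ := g.exists_rep
    rw [Scheme.PartialMap.isDominant_toRationalMap_iff] at hf hg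
    rw [Scheme.RationalMap.toRationalMap_comp, Scheme.PartialMap.toRationalMap_eq_iff] at h1 h2
    exact birational_of f g h1 h2

end Groth.Agent.S14360
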