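import Groth.Statements.S14362
import Groth.Agent.S14361

set_option autoImplicit false
universe u
open AlgebraicGeometry
open SchImage

namespace Groth.Agent.S14362

open CategoryTheory Opposite TopologicalSpace Scheme in
/-- Let π : X → Y be a morphism of schemes with X reduced. Then the closed subset underlying the
scheme-theoretic image of π, i.e. the support of its kernel ideal sheaf, is the closure of the image
of π. (The published statement allows, as an alternative to X being reduced, that π be
quasi-compact; this row is the reduced case and assumes no quasi-compactness.) -/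
theorem result (X Y : Scheme.{u}) [IsReduced X]
    (π : X ⟶ Y) :
    (π.ker.support : Set Y) = closure (Set.range π) := by
  apply subset_antisymm
  · intro y hy
    by_contra hcl
    obtain ⟨_, ⟨U, hU, rfl⟩, hyU, hUle⟩ :=
      Y.isBasis_affineOpens.exists_subset_of_mem_open (a := y)
        (u := (closure (Set.range π))ᶜ) hcl isClosed_closure.isOpen_compl
    have hy' := ((IdealSheafData.coe_support_inter π.ker ⟨U, hU⟩).le ⟨hy, hyU⟩).1
    have hemp : π ⁻¹ᵁ U = ⊥ := by
      ext x
      simp only [Scheme.Hom.coe_preimage, Set.mem_preimage, SetLike.mem_coe, Opens.coe_bot,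
        Set.mem_empty_iff_false, iff_false]
      intro hx
      exact hUle hx (subset_closure ⟨x, rfl⟩)
    have h1 : (1 : Γ(Y, U)) ∈ π.ker.ideal ⟨U, hU⟩ := by
      rw [Groth.Agent.S14361.result, RingHom.mem_ker]
      have : Subsingleton Γ(X, π ⁻¹ᵁ U) := by
        rw [hemp]
        infer_instance
      exact Subsingleton.elim _ _
    rw [Scheme.mem_zeroLocus_iff] at hy'
    have h2 := hy' 1 h1
    rw [Scheme.basicOpen_one] at h2
    exact h2 hyU
  · rw [(IdealSheafData.support _).isClosed.closure_subset_iff]
    exact π.range_subset_ker_support

end Groth.Agent.S14362
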