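import Groth.Statements.S14363

set_option autoImplicit false
universe u
open CAlg

namespace Groth.Agent.S14363

/-- Let A be a Noetherian ring and 0 → M' → M → M'' → 0 a short exact sequence of A-modules. If a prime
p of A is an associated prime of M'' and is not in the support of M', then p is an associated prime
of M. -/
theorem result (A : Type u) [CommRing A] [IsNoetherianRing A]
    (M' M M'' : Type u) [AddCommGroup M'] [Module A M'] [AddCommGroup M] [Module A M]
    [AddCommGroup M''] [Module A M'']
    (f : M' →ₗ[A] M) (g : M →ₗ[A] M'') (hf : Function.Injective f) (hg : Function.Surjective g)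
    (hfg : Function.Exact f g)
    (p : PrimeSpectrum A) (hp : p.asIdeal ∈ associatedPrimes A M'') (hsupp : p ∉ Module.support A M') :
    p.asIdeal ∈ associatedPrimes A M := by
  rw [AssociatedPrimes.mem_iff, isAssociatedPrime_iff] at hp ⊢
  obtain ⟨hpp, x'', hx''⟩ := hp
  obtain ⟨x, rfl⟩ := hg x''
  have key : ∀ a : A, a ∈ p.asIdeal ↔ a • g x = 0 := by
    intro a
    rw [hx'', Submodule.mem_colon_singleton, Submodule.mem_bot]
  -- every `a ∈ p` has `a • x = f (m a)`, killed by some `s ∉ p`
  have hs : ∀ a ∈ p.asIdeal, ∃ s ∉ p.asIdeal, s • (a • x) = 0 := by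
    intro a ha
    have h1 : g (a • x) = 0 := by rw [map_smul]; exact (key a).1 ha
    obtain ⟨m, hm⟩ := (hfg _).1 h1
    rw [Module.notMem_support_iff'] at hsupp
    obtain ⟨s, hs, hsm⟩ := hsupp m
    exact ⟨s, hs, by rw [← hm, ← map_smul, hsm, map_zero]⟩
  obtain ⟨t, ht⟩ := (inferInstance : IsNoetherian A A).noetherian p.asIdeal
  have : ∀ u : Finset A, (u : Set A) ⊆ p.asIdeal → ∃ s ∉ p.asIdeal, ∀ a ∈ u, s • (a • x) = 0 := by
    classical
    intro u
    induction u using Finset.induction_on with
    | empty => exact fun _ => ⟨1, (Ideal.ne_top_iff_one _).1 p.2.ne_top, by simp⟩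
    | insert a u ha ih =>
      intro hu
      obtain ⟨s, hs1, hs2⟩ := ih (fun b hb => hu (by simp at hb ⊢; exact Or.inr hb))
      obtain ⟨s', hs1', hs2'⟩ := hs a (hu (by simp))
      refine ⟨s * s', fun h => (p.2.mem_or_mem h).elim hs1 hs1', ?_⟩
      intro b hb
      rw [Finset.mem_insert] at hb
      rcases hb with rfl | hb
      · rw [mul_smul, hs2', smul_zero]
      · rw [mul_comm, mul_smul, hs2 b hb, smul_zero]
  obtain ⟨s, hs1, hs2⟩ := this t (by rw [← ht]; exact Submodule.subset_span)
  refine ⟨p.2, s • x, ?_⟩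
  ext a
  rw [Submodule.mem_colon_singleton, Submodule.mem_bot]
  constructor
  · intro ha
    rw [← ht] at ha
    induction ha using Submodule.span_induction with
    | mem a ha => rw [smul_comm]; exact hs2 a ha
    | zero => simp
    | add a b _ _ iha ihb => rw [add_smul, iha, ihb, add_zero]
    | smul c a _ iha => rw [smul_eq_mul, mul_smul, iha, smul_zero]
  · intro ha
    have h2 : a • s • g x = 0 := by rw [← map_smul, ← map_smul, ha, map_zero]
    rw [smul_smul] at h2
    exact ((p.2.mem_or_mem ((key _).2 h2)).resolve_right hs1)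

end Groth.Agent.S14363
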