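import Groth.Statements.S14364
import Groth.Agent.CxOX.K822.Core
-- import your own Groth.Agent.* helpers here

set_option autoImplicit false
universe u
open CategoryTheory CategoryTheory.Limits AlgebraicGeometry
attribute [local instance] HasDerivedCategory.standard
open CxOX

namespace Groth.Agent.S14364

/-- Let f : X ⟶ Y be a finite-type morphism between Noetherian schemes, U ⊆ Y an open subscheme with
closed complement Z, and Z' = f⁻¹(Z), the closed complement of f⁻¹(U) in X. For every K in D(O_X)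
with quasi-coherent cohomology sheaves, the morphism Rf_*(RΓ_{Z'}(K) ⟶ K) factors through the
canonical morphism RΓ_Z(Rf_* K) ⟶ Rf_* K, and every morphism Rf_* RΓ_{Z'}(K) ⟶ RΓ_Z(Rf_* K) giving
such a factorisation is an isomorphism; this is the isomorphism Rf_* RΓ_{Z'} ≅ RΓ_Z Rf_*.
(Throughout, RΓ with support is the total right derived functor of the sheaf of sections supported
in the closed subset. The published statement derives instead the functor of sections killed by some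
power of a defining ideal; on complexes with quasi-coherent cohomology sheaves over a Noetherian
scheme the two derived functors agree.) -/
theorem result {X Y : Scheme.{u}} [IsNoetherian X] [IsNoetherian Y]
    (f : X ⟶ Y) [LocallyOfFiniteType f] (U : Y.Opens)
    [CxOX.HasRgammaZ U.ι] [CxOX.HasRgammaZ (f ⁻¹ᵁ U).ι] [DCoh.HasRpush f]
    (K : DCoh.D X) (hK : DCoh.IsQCohD K) :
    (∃ α : (DCoh.Rpush f).obj ((CxOX.RgammaZ (f ⁻¹ᵁ U).ι).obj K) ⟶ (CxOX.RgammaZ U.ι).obj ((DCoh.Rpush f).obj K),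
        α ≫ (CxOX.RgammaZToId U.ι).app ((DCoh.Rpush f).obj K) =
          (DCoh.Rpush f).map ((CxOX.RgammaZToId (f ⁻¹ᵁ U).ι).app K)) ∧
    ∀ α : (DCoh.Rpush f).obj ((CxOX.RgammaZ (f ⁻¹ᵁ U).ι).obj K) ⟶ (CxOX.RgammaZ U.ι).obj ((DCoh.Rpush f).obj K),
        α ≫ (CxOX.RgammaZToId U.ι).app ((DCoh.Rpush f).obj K) =
          (DCoh.Rpush f).map ((CxOX.RgammaZToId (f ⁻¹ᵁ U).ι).app K) → IsIso α := by
  have := Groth.Agent.Dcoh.DerPull.hasLpull f
  have hcomm : (f ∣_ U) ≫ U.ι = (f ⁻¹ᵁ U).ι ≫ f := by simp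
  refine K822.Core.factors_isIso U.ι _ ?_ ?_
  · exact Groth.Agent.LoccohB.VanOn.vanOn_Rpush f U _
      (K478.GammaZ.isZero_restrictD_RgammaZ (f ⁻¹ᵁ U).ι K)
  · intro T hT
    have h1 := K478.GammaZ.bijective_comp_RgammaZToId (f ⁻¹ᵁ U).ι
      (K822.Core.isZero_restrictD_Lpull (f ⁻¹ᵁ U).ι f (f ∣_ U) U.ι hcomm hT) K
    let adj := Groth.Agent.Dcoh.DerPull.lpullAdj f
    have h2 : (fun ψ : T ⟶ (DCoh.Rpush f).obj ((CxOX.RgammaZ (f ⁻¹ᵁ U).ι).obj K) =>
        ψ ≫ (DCoh.Rpush f).map ((CxOX.RgammaZToId (f ⁻¹ᵁ U).ι).app K)) =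
        (adj.homEquiv T K) ∘ (fun φ => φ ≫ (CxOX.RgammaZToId (f ⁻¹ᵁ U).ι).app K) ∘
          (adj.homEquiv T _).symm := by
      funext ψ
      change _ = adj.homEquiv T K ((adj.homEquiv T _).symm ψ ≫ _)
      refine ((congrArg (fun t => t ≫ _) ((adj.homEquiv T _).apply_symm_apply ψ).symm).trans
        (adj.homEquiv_naturality_right _ _).symm)
    rw [h2]
    exact (adj.homEquiv T K).bijective.comp (h1.comp (adj.homEquiv T _).symm.bijective)


end Groth.Agent.S14364
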