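import Groth.Statements.S14365
import Groth.Agent.CxOX.K822.Core
import Groth.Agent.PerfA.QCohD
import Groth.Agent.S1058
-- import your own Groth.Agent.* helpers here

set_option autoImplicit false
universe u
open CategoryTheory CategoryTheory.Limits AlgebraicGeometry
attribute [local instance] HasDerivedCategory.standard
open CxOX

namespace Groth.Agent.S14365

open Groth.Agent.Dcoh.DerPull Groth.Agent.Dcoh.DerSch

/-- Let f : X ⟶ Y be a flat morphism of finite type of Noetherian schemes, U ⊆ Y an open subscheme with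
closed complement Z, Z' = f⁻¹(Z) the closed complement of f⁻¹(U), and let the derived pullback Lf^*
: D(O_Y) ⥤ D(O_X) exist. For every K in D(O_Y) with quasi-coherent cohomology sheaves, the morphism
Lf^*(RΓ_Z(K) ⟶ K) factors through the canonical morphism RΓ_{Z'}(Lf^* K) ⟶ Lf^* K, and every
morphism Lf^* RΓ_Z(K) ⟶ RΓ_{Z'}(Lf^* K) giving such a factorisation is an isomorphism; this is the
isomorphism f^* RΓ_Z ≅ RΓ_{Z'} f^* for flat f. (Throughout, RΓ with support is the total right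
derived functor of the sheaf of sections supported in the closed subset. The published statement
derives instead the functor of sections killed by some power of a defining ideal; on complexes with
quasi-coherent cohomology sheaves over a Noetherian scheme the two derived functors agree.) -/
theorem result {X Y : Scheme.{u}} [IsNoetherian X] [IsNoetherian Y]
    (f : X ⟶ Y) [LocallyOfFiniteType f] [Flat f] (U : Y.Opens)
    [CxOX.HasRgammaZ U.ι] [CxOX.HasRgammaZ (f ⁻¹ᵁ U).ι] [DCoh.HasLpull f]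
    (K : DCoh.D Y) (hK : DCoh.IsQCohD K) :
    (∃ β : (DCoh.Lpull f).obj ((CxOX.RgammaZ U.ι).obj K) ⟶ (CxOX.RgammaZ (f ⁻¹ᵁ U).ι).obj ((DCoh.Lpull f).obj K),
        β ≫ (CxOX.RgammaZToId (f ⁻¹ᵁ U).ι).app ((DCoh.Lpull f).obj K) =
          (DCoh.Lpull f).map ((CxOX.RgammaZToId U.ι).app K)) ∧
    ∀ β : (DCoh.Lpull f).obj ((CxOX.RgammaZ U.ι).obj K) ⟶ (CxOX.RgammaZ (f ⁻¹ᵁ U).ι).obj ((DCoh.Lpull f).obj K),
        β ≫ (CxOX.RgammaZToId (f ⁻¹ᵁ U).ι).app ((DCoh.Lpull f).obj K) =
          (DCoh.Lpull f).map ((CxOX.RgammaZToId U.ι).app K) → IsIso β := by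
  have hcomm : (f ∣_ U) ≫ U.ι = (f ⁻¹ᵁ U).ι ≫ f := by simp
  have := hasRpush U.ι
  have := hasRpush f
  have := hasRpush (f ⁻¹ᵁ U).ι
  have := hasRpush (pullback.snd U.ι f)
  have := hasRpush (pullback.fst U.ι f)
  have := hasLpull (pullback.fst U.ι f)
  -- the triangle of `RΓ_Z K`, pulled back
  obtain ⟨w, hT⟩ := K478.GammaZ.exists_triangle U.ι K (restrictAdj U.ι)
  let := lpullCommShift f
  have := lpull_isTriangulated f
  have hT' := (DCoh.Lpull f).map_distinguished _ hT
  -- flat base change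
  obtain ⟨e, he⟩ := Groth.Agent.S1058.result U.ι f (lpullAdj f) (lpullAdj (pullback.fst U.ι f))
  have hq : DCoh.IsQCohD ((DCoh.restrictD U.ι).obj K) :=
    Groth.Agent.PerfA.QCohD.isQCohD_restrictD U.ι hK
  have e₁ := @asIso _ _ _ _ _ (he _ hq)
  -- `pullback.snd` is, up to isomorphism, the inclusion of `f⁻¹ U`
  let t := (isPullback_morphismRestrict f U).isoPullback
  have ht : t.inv ≫ (f ⁻¹ᵁ U).ι = pullback.snd U.ι f :=
    (isPullback_morphismRestrict f U).isoPullback_inv_snd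
  have := hasRpush t.inv
  have := hasRpush (t.inv ≫ (f ⁻¹ᵁ U).ι)
  obtain ⟨e₂⟩ := exists_rpushCompIso t.inv (f ⁻¹ᵁ U).ι
  have e₃ : DCoh.Rpush (t.inv ≫ (f ⁻¹ᵁ U).ι) ≅ DCoh.Rpush (pullback.snd U.ι f) := by
    clear e₂
    revert this
    rw [ht]
    intro _
    exact Iso.refl _
  exact K822.Core.factors_isIso_of_triangle' (f ⁻¹ᵁ U).ι hT'
    (e₁ ≪≫ (e₂ ≪≫ e₃).symm.app _)
    (K822.Core.isZero_restrictD_Lpull (f ⁻¹ᵁ U).ι f (f ∣_ U) U.ι hcomm
      (K478.GammaZ.isZero_restrictD_RgammaZ U.ι K))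


end Groth.Agent.S14365
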