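import Groth.Statements.S14366
import Groth.Agent.CxOX.K822.UnitIso
import Groth.Agent.PerfA.QCohD
-- import your own Groth.Agent.* helpers here

set_option autoImplicit false
universe u
open CategoryTheory CategoryTheory.Limits AlgebraicGeometry
attribute [local instance] HasDerivedCategory.standard
open CxOX

namespace Groth.Agent.S14366

open Groth.Agent.LoccohB.VanOn

/-- Let j : X ⟶ X̄ be an open immersion of Noetherian schemes, U ⊆ X an open subscheme with closed
complement Z, U' ⊆ X̄ the open complement of the closure Z̄ of j(Z) in X̄, and T = U' ∪ j(X), the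
open complement of the closed subset Z̄ ∖ j(X). Let Rj_* exist and preserve complexes with
quasi-coherent cohomology, and let an adjunction j^* ⊣ Rj_* between D(O_X̄) and D(O_X) be given.
Then Rj_* and j^* are inverse equivalences between the objects of D_qc(O_X) whose cohomology sheaves
are supported on Z and the objects of D_qc(O_X̄) whose cohomology sheaves are supported on Z̄ and on
which RΓ_{Z̄ ∖ j(X)} vanishes: for F in the first class, Rj_* F has cohomology supported on Z̄ and
RΓ_{Z̄ ∖ j(X)}(Rj_* F) is zero; the counit j^* Rj_* F ⟶ F is an isomorphism for every F; and for G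
in the second class the unit G ⟶ Rj_* j^* G is an isomorphism and j^* G is in the first class.
(Throughout, RΓ with support is the total right derived functor of the sheaf of sections supported
in the closed subset. The published statement derives instead the functor of sections killed by some
power of a defining ideal; on complexes with quasi-coherent cohomology sheaves over a Noetherian
scheme the two derived functors agree.) -/
theorem result {X Xbar : Scheme.{u}} [IsNoetherian Xbar] [IsNoetherian X]
    (j : X ⟶ Xbar) [IsOpenImmersion j] (U : X.Opens) (U' T : Xbar.Opens)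
    (hU' : (U' : Set Xbar) = (closure (j.base '' ((U : Set X)ᶜ)))ᶜ)
    (hT : (T : Set Xbar) = (U' : Set Xbar) ∪ Set.range j.base)
    [DCoh.HasRpush j] [CxOX.HasRgammaZ T.ι] (hj : DCoh.RpushPreservesQCoh j)
    (adj : DCoh.restrictD j ⊣ DCoh.Rpush j) :
    (∀ F : DCoh.D X, DCoh.IsQCohD F → CxOX.IsSuppD U.ι F →
        CxOX.IsSuppD U'.ι ((DCoh.Rpush j).obj F) ∧ IsZero ((CxOX.RgammaZ T.ι).obj ((DCoh.Rpush j).obj F))) ∧
    (∀ F : DCoh.D X, IsIso (adj.counit.app F)) ∧
    (∀ G : DCoh.D Xbar, DCoh.IsQCohD G → CxOX.IsSuppD U'.ι G → IsZero ((CxOX.RgammaZ T.ι).obj G) →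
        IsIso (adj.unit.app G) ∧ DCoh.IsQCohD ((DCoh.restrictD j).obj G) ∧ CxOX.IsSuppD U.ι ((DCoh.restrictD j).obj G)) := by
  have hrange : Set.range j ⊆ (T : Set Xbar) := by
    rw [hT]; exact Set.subset_union_right
  have hzT : ∀ M : DCoh.D Xbar, IsZero ((DCoh.restrictD T.ι).obj M) →
      IsZero ((DCoh.restrictD j).obj M) := by
    intro M hM
    rw [isZero_restrictD_iff]
    exact fun x => (vanOn_iff_vanAt T M).1 hM (j x) (hrange ⟨x, rfl⟩)
  refine ⟨fun F _ hF => ⟨?_, ?_⟩, fun F => ?_, fun G hG hGs hGz => ⟨?_, ?_, ?_⟩⟩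
  · rw [K478.GammaZ.isSuppD_iff] at hF ⊢
    refine vanOn_Rpush j U' F (vanOn_mono ?_ hF)
    intro x hx
    by_contra hxU
    have h1 : j x ∈ (U' : Set Xbar) := hx
    rw [hU'] at h1
    exact h1 (subset_closure ⟨x, hxU, rfl⟩)
  · rw [K822.Core.isZero_RgammaZ_iff]
    intro M hM ψ
    exact K478.GammaZ.eq_zero_of_isZero j (hzT M hM) ψ
  · have := K822.UnitIso.isIso_counit j adj
    infer_instance
  · rw [K478.GammaZ.isSuppD_iff] at hGs
    refine K822.UnitIso.isIso_unit_of_hom j adj U' G hGs fun M hM hM' ψ => ?_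
    refine (K822.Core.isZero_RgammaZ_iff T.ι G).1 hGz M ?_ ψ
    change vanOn T M
    rw [vanOn_iff_vanAt]
    intro y hy
    have hy' : y ∈ (U' : Set Xbar) ∪ Set.range j := by
      rw [← hT]; exact hy
    rcases hy' with hy' | ⟨x, rfl⟩
    · exact (vanOn_iff_vanAt U' M).1 hM y hy'
    · exact (isZero_restrictD_iff j M).1 hM' x
  · exact Groth.Agent.PerfA.QCohD.isQCohD_restrictD j hG
  · rw [K478.GammaZ.isSuppD_iff] at hGs ⊢
    change vanOn U _
    rw [vanOn_iff_vanAt]
    intro x hx
    rw [vanAt_restrictD]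
    refine (vanOn_iff_vanAt U' G).1 hGs (j x) ?_
    change j x ∈ (U' : Set Xbar)
    rw [hU', Set.mem_compl_iff, mem_closure_iff]
    push Not
    refine ⟨j '' (U : Set X), j.isOpenEmbedding.isOpenMap _ U.isOpen, ⟨x, hx, rfl⟩, ?_⟩
    rw [← Set.disjoint_iff_inter_eq_empty]
    exact Set.disjoint_image_image fun a ha b hb h =>
      hb (j.isOpenEmbedding.injective h ▸ ha)


end Groth.Agent.S14366
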