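import Groth.Statements.S14367
import Groth.Agent.CxOX.K822.Core
import Groth.Agent.PerfA.QCohD
import Groth.Agent.S1118
import Groth.Agent.Models2.TensRes
-- import your own Groth.Agent.* helpers here

set_option autoImplicit false
universe u
open CategoryTheory CategoryTheory.Limits AlgebraicGeometry
attribute [local instance] HasDerivedCategory.standard
open CxOX

namespace Groth.Agent.S14367

open Groth.Agent.Dcoh.DerPull Groth.Agent.Dcoh.DerSch

/-- Let X be a Noetherian scheme, U ⊆ X an open subscheme with closed complement Z, F an object of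
D(O_X) and E a cochain complex of O_X-modules, both with quasi-coherent cohomology sheaves vanishing
outside a bounded range of degrees, and let the derived functor − ⊗^L E on D(O_X) exist. Then the
morphism (RΓ_Z(F)) ⊗^L E ⟶ F ⊗^L E induced by RΓ_Z(F) ⟶ F factors through the canonical morphism
RΓ_Z(F ⊗^L E) ⟶ F ⊗^L E, and every morphism (RΓ_Z(F)) ⊗^L E ⟶ RΓ_Z(F ⊗^L E) giving such a
factorisation is an isomorphism; this is the isomorphism RΓ_Z(F) ⊗^L E ≅ RΓ_Z(F ⊗^L E) (the
companion isomorphism F ⊗^L RΓ_Z(E) ≅ RΓ_Z(F ⊗^L E) differs from it by the symmetry of ⊗^L).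
(Throughout, RΓ with support is the total right derived functor of the sheaf of sections supported
in the closed subset. The published statement derives instead the functor of sections killed by some
power of a defining ideal; on complexes with quasi-coherent cohomology sheaves over a Noetherian
scheme the two derived functors agree.) -/
theorem result {X : Scheme.{u}} [IsNoetherian X] (U : X.Opens) [CxOX.HasRgammaZ U.ι]
    (F : DCoh.D X) (hF : DCoh.IsQCohD F) (a b : ℤ) (hFa : DerivedCategory.IsGE F a) (hFb : DerivedCategory.IsLE F b)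
    (E : CochainComplex X.Modules ℤ) (hE : DCoh.IsQCohD (DCoh.toD X E))
    (a' b' : ℤ) (hEa : DerivedCategory.IsGE (DCoh.toD X E) a') (hEb : DerivedCategory.IsLE (DCoh.toD X E) b')
    [DCoh.HasLTensorCx E] :
    (∃ φ : (DCoh.LTensorCx E).obj ((CxOX.RgammaZ U.ι).obj F) ⟶ (CxOX.RgammaZ U.ι).obj ((DCoh.LTensorCx E).obj F),
        φ ≫ (CxOX.RgammaZToId U.ι).app ((DCoh.LTensorCx E).obj F) =
          (DCoh.LTensorCx E).map ((CxOX.RgammaZToId U.ι).app F)) ∧
    ∀ φ : (DCoh.LTensorCx E).obj ((CxOX.RgammaZ U.ι).obj F) ⟶ (CxOX.RgammaZ U.ι).obj ((DCoh.LTensorCx E).obj F),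
        φ ≫ (CxOX.RgammaZToId U.ι).app ((DCoh.LTensorCx E).obj F) =
          (DCoh.LTensorCx E).map ((CxOX.RgammaZToId U.ι).app F) → IsIso φ := by
  have := hasRpush U.ι
  have := hasLpull U.ι
  -- the triangle of `RΓ_Z F`, tensored with `E`
  obtain ⟨w, hT⟩ := K478.GammaZ.exists_triangle U.ι F (restrictAdj U.ι)
  obtain ⟨h1, h2⟩ := Groth.Agent.PerfC.DTens.isTriang_LTensorCx E
  have hT' := (DCoh.LTensorCx E).map_distinguished _ hT
  -- the projection formula
  have hq : DCoh.IsQCohD ((DCoh.restrictD U.ι).obj F) :=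
    Groth.Agent.PerfA.QCohD.isQCohD_restrictD U.ι hF
  obtain ⟨M, ⟨eM⟩⟩ : ∃ M : CochainComplex (U : Scheme.{u}).Modules ℤ,
      Nonempty (DCoh.toD U M ≅ (DCoh.Lpull U.ι).obj (DCoh.toD X E)) :=
    ⟨_, ⟨DerivedCategory.Q.objObjPreimageIso _⟩⟩
  have := Groth.Agent.PerfC.DTens.hasLTensorCx M
  obtain ⟨e⟩ := Groth.Agent.S1118.result U.ι ((DCoh.restrictD U.ι).obj F) hq E hE M ⟨eM⟩
  refine K822.Core.factors_isIso_of_triangle' U.ι hT' e ?_
  -- the restriction to `U`
  have := Groth.Agent.PerfC.DTens.hasLTensorCx ((Groth.Agent.Models2.TensRes.resCx U.ι).obj E)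
  obtain ⟨e'⟩ := Groth.Agent.Models2.TensRes.nonempty_restrict_LTensorCx U.ι E
    ((CxOX.RgammaZ U.ι).obj F)
  obtain ⟨h3, h4⟩ := Groth.Agent.PerfC.DTens.isTriang_LTensorCx
    ((Groth.Agent.Models2.TensRes.resCx U.ι).obj E)
  exact ((DCoh.LTensorCx _).map_isZero (K478.GammaZ.isZero_restrictD_RgammaZ U.ι F)).of_iso e'


end Groth.Agent.S14367
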