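import Groth.Statements.S14369
import Groth.Agent.Variety.K429.FibDim

set_option autoImplicit false
universe u
open CategoryTheory CategoryTheory.Limits AlgebraicGeometry
open Variety

namespace Groth.Agent.S14369

/-- Let k be an algebraically closed field, X and Y schemes of finite type over k with Y irreducible,
and f : X → Y a k-morphism whose underlying continuous map is closed. Suppose that for some natural
number d the fibre of f over every closed point y of Y (the subspace of points mapping to y) is
irreducible of dimension d. Then X is irreducible and dim X = d + dim Y. (The published statement is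
for varieties, i.e. reduced separated schemes; this row assumes neither.) -/
theorem result (k : Type u) [Field k] [IsAlgClosed k]
    {X Y : Scheme.{u}} (qX : X ⟶ Spec (CommRingCat.of k)) (qY : Y ⟶ Spec (CommRingCat.of k))
    [LocallyOfFiniteType qX] [QuasiCompact qX] [LocallyOfFiniteType qY] [QuasiCompact qY]
    (f : X ⟶ Y) (hf : f ≫ qY = qX) [IrreducibleSpace ↥Y] (hcl : IsClosedMap f.base) (d : ℕ)
    (hirr : ∀ y : ↥Y, IsClosed ({y} : Set ↥Y) → IsIrreducible (f.base ⁻¹' {y}))
    (hdim : ∀ y : ↥Y, IsClosed ({y} : Set ↥Y) → topologicalKrullDim ↥(f.base ⁻¹' {y}) = d) :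
    IrreducibleSpace ↥X ∧ topologicalKrullDim ↥X = d + topologicalKrullDim ↥Y := by
  obtain ⟨Z, hZ, hZd⟩ := K429.FibDim.exists_dominating k qX qY f hf hirr
  obtain ⟨⟨b, h1, h2⟩, h3⟩ := K429.FibDim.whole k qX qY f hf d hirr hdim Z hZ
  have hJX : JacobsonSpace X := LocallyOfFiniteType.jacobsonSpace qX
  have hJY : JacobsonSpace Y := LocallyOfFiniteType.jacobsonSpace qY
  have hlft : LocallyOfFiniteType f := K429.FibDim.lft k qX qY f hf
  have hZc := isClosed_of_mem_irreducibleComponents Z hZ
  have him : f '' Z = Set.univ := by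
    have h4 : IsClosed (f '' Z) := hcl Z hZc
    rw [← h4.closure_eq]
    exact hZd.closure_eq
  have huniv : Z = Set.univ := by
    rw [← Set.univ_subset_iff, ← closure_closedPoints (X := X)]
    refine closure_minimal ?_ hZc
    intro x hx
    have hyc : IsClosed ({f x} : Set Y) := Scheme.Hom.closePoints_subset_preimage_closedPoints f hx
    obtain ⟨z, hz, hzx⟩ := him.ge (Set.mem_univ (f x))
    exact h3 (f x) hyc ⟨z, hzx, hz⟩ rfl
  subst huniv
  refine ⟨(irreducibleSpace_def _).mpr hZ.1, ?_⟩
  have h5 : closure (f '' Set.univ) = Set.univ := by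
    rw [him, closure_univ]
  rw [h5] at h2
  rw [K429.FibDim.dim_eq_of_homeo (Homeomorph.Set.univ X).symm, h1,
    K429.FibDim.dim_eq_of_homeo (Homeomorph.Set.univ Y).symm, h2]
  push_cast
  rfl

end Groth.Agent.S14369
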