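import Groth.Statements.S14370
import Groth.Agent.Variety.K429.FibDim

set_option autoImplicit false
universe u
open CategoryTheory CategoryTheory.Limits AlgebraicGeometry
open Variety

namespace Groth.Agent.S14370

/-- Let k be an algebraically closed field, X and Y schemes of finite type over k with Y irreducible,
and f : X → Y a k-morphism. Suppose that X is pure-dimensional (every irreducible component of X has
dimension dim X) and that for some natural number d the fibre of f over every closed point y of Y
(the subspace of points mapping to y) is irreducible of dimension d. Then X is irreducible and dim X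
= d + dim Y. (The published statement is for varieties, i.e. reduced separated schemes; this row
assumes neither.) -/
theorem result (k : Type u) [Field k] [IsAlgClosed k]
    {X Y : Scheme.{u}} (qX : X ⟶ Spec (CommRingCat.of k)) (qY : Y ⟶ Spec (CommRingCat.of k))
    [LocallyOfFiniteType qX] [QuasiCompact qX] [LocallyOfFiniteType qY] [QuasiCompact qY]
    (f : X ⟶ Y) (hf : f ≫ qY = qX) [IrreducibleSpace ↥Y]
    (hpure : ∀ Z ∈ irreducibleComponents (↥X), topologicalKrullDim ↥Z = topologicalKrullDim ↥X) (d : ℕ)
    (hirr : ∀ y : ↥Y, IsClosed ({y} : Set ↥Y) → IsIrreducible (f.base ⁻¹' {y}))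
    (hdim : ∀ y : ↥Y, IsClosed ({y} : Set ↥Y) → topologicalKrullDim ↥(f.base ⁻¹' {y}) = d) :
    IrreducibleSpace ↥X ∧ topologicalKrullDim ↥X = d + topologicalKrullDim ↥Y := by
  obtain ⟨Z, hZ, hZd⟩ := K429.FibDim.exists_dominating k qX qY f hf hirr
  obtain ⟨⟨b, h1, h2⟩, h3⟩ := K429.FibDim.whole k qX qY f hf d hirr hdim Z hZ
  have h5 : closure (f '' Z) = Set.univ := hZd.closure_eq
  rw [h5] at h2
  have hall : ∀ Z' ∈ irreducibleComponents X, Z' = Z := by
    intro Z' hZ'
    obtain ⟨⟨b', h1', h2'⟩, -⟩ := K429.FibDim.whole k qX qY f hf d hirr hdim Z' hZ'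
    have e := (hpure Z' hZ').trans (hpure Z hZ).symm
    rw [h1, h1'] at e
    have e' : d + b' = d + b := by exact_mod_cast e
    obtain rfl : b' = b := by omega
    refine K429.FibDim.unique_dominating k qX qY f hf hirr Z' Z hZ' hZ ?_ hZd
    rw [dense_iff_closure_eq]
    by_contra hne
    have h6 := Groth.Agent.Fga.DimLt.topologicalKrullDim_lt (IrreducibleSpace.isIrreducible_univ Y)
      (isClosed_closure (s := f '' Z')) (Set.subset_univ _) hne (d := b') (by
        rw [h2]; exact_mod_cast Nat.lt_succ_self b')
    rw [h2'] at h6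
    exact lt_irrefl _ h6
  have huniv : Z = Set.univ := by
    rw [← sUnion_irreducibleComponents (X := X)]
    refine Set.Subset.antisymm (Set.subset_sUnion_of_mem hZ) (Set.sUnion_subset fun Z' hZ' => ?_)
    rw [hall Z' hZ']
  subst huniv
  refine ⟨(irreducibleSpace_def _).mpr hZ.1, ?_⟩
  rw [K429.FibDim.dim_eq_of_homeo (Homeomorph.Set.univ X).symm, h1,
    K429.FibDim.dim_eq_of_homeo (Homeomorph.Set.univ Y).symm, h2]
  push_cast
  rfl

end Groth.Agent.S14370
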