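import Groth.Statements.S14371
import Groth.Agent.Ega4dB.RegQuot
import Mathlib.RingTheory.KrullDimension.Regular
import Mathlib.RingTheory.Ideal.KrullsHeightTheorem
import Mathlib.RingTheory.RegularLocalRing.Defs

set_option autoImplicit false
universe u
open CAlg

namespace Groth.Agent.S14371

open RingTheory.Sequence IsLocalRing

theorem exists_gens {A : Type u} [CommRing A] [IsRegularLocalRing A]
    (I : Ideal A) (hq : IsRegularLocalRing (A ⧸ I)) (n a : ℕ) (hn : ringKrullDim A = n)
    (ha : ringKrullDim (A ⧸ I) = a) :
    ∃ s : Finset A, I = Ideal.span (s : Set A) ∧ s.card + a ≤ n := by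
  classical
  obtain ⟨rs, hrs, hI⟩ := Groth.Agent.Ega4dB.RegQuot.isRegularIdeal_of_isRegularLocalRing I hq
  have hlen := ringKrullDim_add_length_eq_ringKrullDim_of_isRegular rs hrs
  refine ⟨rs.toFinset, ?_, ?_⟩
  · rw [← hI, Ideal.ofList]
    congr 1
    ext x
    simp
  · rw [hI, ha, hn] at hlen
    have h1 : a + rs.length = n := by exact_mod_cast hlen
    have h2 := rs.toFinset_card_le
    omega

/-- Let R be a regular local ring of dimension n with maximal ideal m and residue field κ, and I, J
ideals of R such that R/I and R/J are regular local rings of dimensions a and b (two subvarieties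
smooth at the point). Suppose the quotient R/(I + J) is local with cotangent space m/(m² + I + J) of
dimension a + b − n over κ (the tangent spaces of the two subvarieties meet in the expected
dimension, i.e. they intersect transversally at the point). Then R/(I + J) is a regular local ring
of dimension a + b − n; in particular I + J is a prime ideal. (The published statement is about the
local rings of a smooth variety over an algebraically closed field at a point where two smooth
closed subvarieties meet transversally, and also states the resulting equalities of tangent spaces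
and of ideals; this row is the local-ring form, for an arbitrary regular local ring.) -/
theorem result {R : Type u} [CommRing R] [IsRegularLocalRing R]
    (I J : Ideal R) [IsRegularLocalRing (R ⧸ I)] [IsRegularLocalRing (R ⧸ J)] [IsLocalRing (R ⧸ (I ⊔ J))]
    (n a b : ℕ) (hn : ringKrullDim R = n) (ha : ringKrullDim (R ⧸ I) = a) (hb : ringKrullDim (R ⧸ J) = b)
    (ht : Module.finrank (IsLocalRing.ResidueField (R ⧸ (I ⊔ J))) (IsLocalRing.CotangentSpace (R ⧸ (I ⊔ J))) + n = a + b) :
    IsRegularLocalRing (R ⧸ (I ⊔ J)) ∧ ringKrullDim (R ⧸ (I ⊔ J)) = ((a + b - n : ℕ) : WithBot ℕ∞) := by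
  classical
  obtain ⟨s, hs, hs'⟩ := exists_gens I inferInstance n a hn ha
  obtain ⟨t, ht1, ht'⟩ := exists_gens J inferInstance n b hn hb
  have hne : I ⊔ J ≠ ⊤ := by
    intro h
    have := Ideal.Quotient.subsingleton_iff.2 h
    exact not_subsingleton (R ⧸ (I ⊔ J)) this
  have hst : I ⊔ J = Ideal.span ((s ∪ t : Finset R) : Set R) := by
    rw [hs, ht1, Finset.coe_union, Ideal.span_union]
  have hjac : ((s ∪ t : Finset R) : Set R) ⊆ Ring.jacobson R := by
    intro x hx
    rw [IsLocalRing.ringJacobson_eq_maximalIdeal]
    refine IsLocalRing.le_maximalIdeal hne ?_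
    rw [hst]
    exact Ideal.subset_span hx
  have h1 := ringKrullDim_le_ringKrullDim_quotient_add_card (s ∪ t) hjac
  rw [← hst, hn] at h1
  have hcard := Finset.card_union_le s t
  set e := Module.finrank (IsLocalRing.ResidueField (R ⧸ (I ⊔ J))) (IsLocalRing.CotangentSpace (R ⧸ (I ⊔ J))) with he
  have hle : ringKrullDim (R ⧸ (I ⊔ J)) ≤ (e : WithBot ℕ∞) := by
    have := ringKrullDim_le_spanFinrank_maximalIdeal (R := R ⧸ (I ⊔ J))
    rw [IsLocalRing.spanFinrank_maximalIdeal_eq_finrank_cotangentSpace] at this
    exact this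
  have hge : (e : WithBot ℕ∞) ≤ ringKrullDim (R ⧸ (I ⊔ J)) := by
    obtain ⟨m, hm⟩ : ∃ m : ℕ, ringKrullDim (R ⧸ (I ⊔ J)) = (m : WithBot ℕ∞) := by
      have h0 : (0 : WithBot ℕ∞) ≤ ringKrullDim (R ⧸ (I ⊔ J)) := ringKrullDim_nonneg_of_nontrivial
      generalize ringKrullDim (R ⧸ (I ⊔ J)) = D at h0 hle
      induction D using WithBot.recBotCoe with
      | bot => simp at h0
      | coe D =>
        have hle' : D ≤ (e : ℕ∞) := by exact_mod_cast hle
        lift D to ℕ using ne_top_of_le_ne_top (ENat.coe_ne_top e) hle'
        exact ⟨D, rfl⟩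
    rw [hm] at h1 ⊢
    have h2 : n ≤ m + (s ∪ t).card := by exact_mod_cast h1
    have h3 : e ≤ m := by omega
    exact_mod_cast h3
  have hd : ringKrullDim (R ⧸ (I ⊔ J)) = (e : WithBot ℕ∞) := le_antisymm hle hge
  refine ⟨(IsRegularLocalRing.iff_finrank_cotangentSpace _).2 hd.symm, ?_⟩
  rw [hd]
  congr 2
  omega

end Groth.Agent.S14371
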