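import Groth.Statements.S14375
import Groth.Agent.S2500

set_option autoImplicit false
universe u
open CategoryTheory CategoryTheory.Limits AlgebraicGeometry
open Variety

namespace Groth.Agent.S14375

/-- Let k be an algebraically closed field, F an irreducible scheme of finite type over k, and f : X → Y
a k-morphism of schemes of finite type over k with Y irreducible which is locally trivial with fibre
F: every point of Y has an open neighbourhood V such that f⁻¹(V) is isomorphic over V to V ×_k F.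
Then X is irreducible. (The published statement is for varieties, i.e. reduced separated schemes;
this row assumes neither.) -/
theorem result (k : Type u) [Field k] [IsAlgClosed k]
    {X Y F : Scheme.{u}} (qX : X ⟶ Spec (CommRingCat.of k)) (qY : Y ⟶ Spec (CommRingCat.of k))
    (qF : F ⟶ Spec (CommRingCat.of k))
    [LocallyOfFiniteType qX] [QuasiCompact qX] [LocallyOfFiniteType qY] [QuasiCompact qY]
    [LocallyOfFiniteType qF] [QuasiCompact qF] [IrreducibleSpace ↥F] [IrreducibleSpace ↥Y]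
    (f : X ⟶ Y) (hf : f ≫ qY = qX)
    (htriv : ∀ y : ↥Y, ∃ V : Y.Opens, y ∈ V ∧
      ∃ e : (↑(f ⁻¹ᵁ V) : Scheme.{u}) ≅ pullback (V.ι ≫ qY) qF, e.hom ≫ pullback.fst (V.ι ≫ qY) qF = f ∣_ V) :
    IrreducibleSpace ↥X := by
  have hgi : GeometricallyIrreducible qF := Groth.Agent.S2500.result qF
  have hsurj : Surjective qF := inferInstance
  have hpre : ∀ y : Y, ∃ V : Y.Opens, y ∈ V ∧ IsIrreducible ((f ⁻¹ᵁ V : X.Opens) : Set X) ∧
      (V : Set Y) ⊆ Set.range f := by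
    intro y
    obtain ⟨V, hyV, e, he⟩ := htriv y
    have h1 : IrreducibleSpace (V : Set Y) :=
      Subtype.irreducibleSpace ⟨⟨y, hyV⟩, (IrreducibleSpace.isIrreducible_univ Y).2.open_subset V.2 (Set.subset_univ _)⟩
    have h2 : IrreducibleSpace ↥(V : Scheme.{u}) := h1
    have h3 : IrreducibleSpace ↥(pullback (V.ι ≫ qY) qF) := inferInstance
    have h4 : IrreducibleSpace ↥(f ⁻¹ᵁ V : Scheme.{u}) := (Scheme.homeoOfIso e).irreducibleSpace_iff.mpr h3
    refine ⟨V, hyV, ?_, ?_⟩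
    · have h5 := (IrreducibleSpace.isIrreducible_univ ↥(f ⁻¹ᵁ V : Scheme.{u})).image (f ⁻¹ᵁ V).ι
        (f ⁻¹ᵁ V).ι.continuous.continuousOn
      rw [Set.image_univ] at h5
      convert h5
      simp
    · intro z hz
      have h6 : Surjective (f ∣_ V) := by
        rw [← he]
        infer_instance
      obtain ⟨w, hw⟩ := h6.surj ⟨z, hz⟩
      refine ⟨(f ⁻¹ᵁ V).ι w, ?_⟩
      rw [← Scheme.Hom.comp_apply, ← morphismRestrict_ι, Scheme.Hom.comp_apply, hw]
      rfl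
  have hfs : Function.Surjective f := by
    intro y
    obtain ⟨V, hy, -, h⟩ := hpre y
    exact h hy
  have hne : Nonempty X := by
    obtain ⟨y⟩ : Nonempty Y := inferInstance
    obtain ⟨x, -⟩ := hfs y
    exact ⟨x⟩
  have hp : PreirreducibleSpace X := by
    refine ⟨fun U₁ U₂ hU₁ hU₂ h₁ h₂ => ?_⟩
    obtain ⟨x₁, -, hx₁⟩ := h₁
    obtain ⟨x₂, -, hx₂⟩ := h₂
    obtain ⟨V₁, hy₁, hi₁, -⟩ := hpre (f x₁)
    obtain ⟨V₂, hy₂, hi₂, -⟩ := hpre (f x₂)
    obtain ⟨y, hyV₁, hyV₂⟩ := nonempty_preirreducible_inter V₁.2 V₂.2 ⟨_, hy₁⟩ ⟨_, hy₂⟩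
    obtain ⟨x, rfl⟩ := hfs y
    obtain ⟨x', -, hx'1, hx'2⟩ := hi₁.2 U₁ (f ⁻¹ᵁ V₂) hU₁ (f ⁻¹ᵁ V₂).2 ⟨x₁, hy₁, hx₁⟩ ⟨x, hyV₁, hyV₂⟩
    obtain ⟨x'', -, h⟩ := hi₂.2 U₁ U₂ hU₁ hU₂ ⟨x', hx'2, hx'1⟩ ⟨x₂, hy₂, hx₂⟩
    exact ⟨x'', trivial, h⟩
  exact { toNonempty := hne }

end Groth.Agent.S14375
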