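import Groth.Statements.S14376
import Groth.Agent.Fano.K713.RangeOpen
import Groth.Agent.Fano.K713.HomFactor
import Mathlib.RingTheory.MvPolynomial.IrreducibleQuadratic
import Mathlib.Algebra.Squarefree.Basic
import Mathlib.RingTheory.Polynomial.UniqueFactorization

set_option autoImplicit false
universe u
open Fano

namespace Groth.Agent.S14376

open LefPen Groth.Agent.Lefpen.H703.ZOpen Groth.Agent.Lefpen.H703.Elim K713.RangeOpen MvPolynomial

variable {k : Type u} [Field k]

/-- Multiplication by the square of a form. -/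
noncomputable def mulSq {n : ℕ} (a b d : ℕ) (h : a + a + b = d) (A : Form n k a) : Form n k b →ₗ[k] Form n k d where
  toFun B := ⟨A.1 * A.1 * B.1, h ▸ (((mem_homogeneousSubmodule _ _).1 A.2).mul
    ((mem_homogeneousSubmodule _ _).1 A.2)).mul ((mem_homogeneousSubmodule _ _).1 B.2)⟩
  map_add' B B' := Subtype.ext (mul_add _ _ _)
  map_smul' c B := Subtype.ext (mul_smul_comm c (A.1 * A.1) B.1)

/-- The trilinear product of forms. -/
noncomputable def mul3 {n : ℕ} (a b d : ℕ) (h : a + a + b = d) (B : Form n k b) :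
    Form n k a →ₗ[k] Form n k a →ₗ[k] Form n k d :=
  LinearMap.mk₂ k (fun A A' => ⟨A.1 * A'.1 * B.1, h ▸ (((mem_homogeneousSubmodule _ _).1 A.2).mul
    ((mem_homogeneousSubmodule _ _).1 A'.2)).mul ((mem_homogeneousSubmodule _ _).1 B.2)⟩)
    (fun A A' C => Subtype.ext (by
      change (A.1 + A'.1) * C.1 * B.1 = A.1 * C.1 * B.1 + A'.1 * C.1 * B.1
      ring))
    (fun c A A' => Subtype.ext (by
      change (c • A.1) * A'.1 * B.1 = c • (A.1 * A'.1 * B.1)
      rw [smul_mul_assoc, smul_mul_assoc]))
    (fun A A' C => Subtype.ext (by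
      change A.1 * (A'.1 + C.1) * B.1 = A.1 * A'.1 * B.1 + A.1 * C.1 * B.1
      ring))
    (fun c A A' => Subtype.ext (by
      change A.1 * (c • A'.1) * B.1 = c • (A.1 * A'.1 * B.1)
      rw [mul_smul_comm, smul_mul_assoc]))

theorem isZOpen_sq [IsAlgClosed k] (n a b d : ℕ) (h : a + a + b = d) :
    IsZOpen k {F : Form n k d | ∀ A : Form n k a, A ≠ 0 → F ∉ LinearMap.range (mulSq a b d h A)} := by
  refine isZOpen_not_mem_range (fun A => mulSq a b d h A) ?_ ?_ ?_
  · intro B
    exact pm_bilin (mul3 a b d h B) isPolyMap_id isPolyMap_id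
  · intro A hA
    rw [injective_iff_map_eq_zero]
    intro B hB
    have h1 : A.1 * A.1 * B.1 = 0 := congrArg Subtype.val hB
    have hA' : A.1 ≠ 0 := fun h => hA (Subtype.ext h)
    rcases mul_eq_zero.1 h1 with h2 | h2
    · exact absurd (mul_self_eq_zero.1 h2) hA'
    · exact Subtype.ext h2
  · intro A c hc
    have key : ∀ (A : Form n k a) (c : k), LinearMap.range (mulSq a b d h (c • A)) ≤
        LinearMap.range (mulSq a b d h A) := by
      rintro A c _ ⟨B, rfl⟩
      refine ⟨(c * c) • B, Subtype.ext ?_⟩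
      change A.1 * A.1 * ((c * c) • B.1) = (c • A.1) * (c • A.1) * B.1
      rw [mul_smul_comm, smul_mul_smul_comm, smul_mul_assoc]
    refine le_antisymm (key A c) ?_
    have := key (c • A) c⁻¹
    rwa [smul_smul, inv_mul_cancel₀ hc, one_smul] at this

theorem squarefree_iff [IsAlgClosed k] {n d : ℕ} (F : Form n k d) :
    Squarefree F.1 ↔ F ≠ 0 ∧ ∀ a : Fin (d + 1), 1 ≤ a.1 → ∀ (b : ℕ) (h : a.1 + a.1 + b = d),
      ∀ A : Form n k a.1, A ≠ 0 → F ∉ LinearMap.range (mulSq a.1 b d h A) := by
  constructor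
  · intro hF
    have hF0 : F.1 ≠ 0 := hF.ne_zero
    refine ⟨fun h => hF0 (congrArg Subtype.val h), ?_⟩
    rintro a ha b h A hA ⟨_, rfl⟩
    have h1 : IsUnit A.1 := hF A.1 (Dvd.intro _ rfl)
    have h2 := ((mem_homogeneousSubmodule _ _).1 A.2).totalDegree (fun h => hA (Subtype.ext h))
    rw [MvPolynomial.isUnit_iff_totalDegree_of_isReduced] at h1
    omega
  · rintro ⟨hF0, hF⟩ x ⟨y, hy⟩
    have hF0' : F.1 ≠ 0 := fun h => hF0 (Subtype.ext h)
    have h1 : F.1.IsHomogeneous d := (mem_homogeneousSubmodule _ _).1 F.2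
    rw [hy] at h1 hF0'
    obtain ⟨c, b, hcb, hc, hb⟩ := K713.HomFactor.exists_isHomogeneous h1 hF0'
    obtain ⟨a, a', haa, ha, ha'⟩ := K713.HomFactor.exists_isHomogeneous hc (left_ne_zero_of_mul hF0')
    have hx0 : x ≠ 0 := left_ne_zero_of_mul (left_ne_zero_of_mul hF0')
    have h2 : a = a' := ha.inj_right ha' hx0
    subst h2
    by_contra hx
    have ha1 : 1 ≤ a := by
      by_contra h0
      have h3 : a = 0 := by omega
      subst h3
      apply hx
      rw [isUnit_iff_eq_C_of_isReduced]
      have h4 := totalDegree_eq_zero_iff_eq_C.1 (ha.totalDegree hx0)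
      refine ⟨_, ?_, h4⟩
      rw [isUnit_iff_ne_zero]
      intro h5
      rw [h5, map_zero] at h4
      exact hx0 h4
    refine hF ⟨a, by omega⟩ ha1 b (by subst haa; exact hcb) ⟨x, ha⟩ (fun h => hx0 (congrArg Subtype.val h))
      ⟨⟨y, hb⟩, Subtype.ext hy.symm⟩

theorem irreducible_linear [IsAlgClosed k] {n : ℕ} (i j : Fin (n + 1)) (hij : i ≠ j) (c : k) :
    Irreducible (X i - C c * X j : MvPolynomial (Fin (n + 1)) k) := by
  have h1 : (X i - C c * X j : MvPolynomial (Fin (n + 1)) k).IsHomogeneous 1 :=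
    (isHomogeneous_X k i).sub (isHomogeneous_C_mul_X c j)
  have h2 : coeff (Finsupp.single i 1) (X i - C c * X j : MvPolynomial (Fin (n + 1)) k) = 1 := by
    rw [coeff_sub, coeff_C_mul, coeff_X, coeff_X, if_pos rfl, if_neg, mul_zero, sub_zero]
    intro h
    exact hij (Finsupp.single_left_injective one_ne_zero h).symm
  refine irreducible_of_totalDegree_eq_one (h1.totalDegree ?_) fun x hx => ?_
  · intro h
    rw [h, coeff_zero] at h2
    exact zero_ne_one h2
  · have := hx (Finsupp.single i 1)
    rw [h2] at this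
    exact isUnit_of_dvd_one this

theorem exists_squarefree [IsAlgClosed k] (n d : ℕ) (hn : 1 ≤ n) :
    ∃ F : Form n k d, Squarefree F.1 := by
  have : Infinite k := IsAlgClosed.instInfinite
  have hij : (0 : Fin (n + 1)) ≠ Fin.last n := by
    intro h
    have := congrArg Fin.val h
    simp at this
    omega
  let f : Fin d → MvPolynomial (Fin (n + 1)) k := fun i =>
    X 0 - C (Infinite.natEmbedding k i.1) * X (Fin.last n)
  refine ⟨⟨∏ i, f i, ?_⟩, ?_⟩
  · rw [mem_homogeneousSubmodule]
    have := IsHomogeneous.prod (Finset.univ : Finset (Fin d)) f (fun _ => 1) fun i _ =>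
      (isHomogeneous_X k 0).sub (isHomogeneous_C_mul_X _ _)
    simpa using this
  · change Squarefree (∏ i ∈ Finset.univ, f i)
    refine Finset.squarefree_prod_of_pairwise_isCoprime (f := f) ?_
      fun i _ => (irreducible_linear (k := k) _ _ hij _).squarefree
    intro i _ j _ hne
    refine (irreducible_linear _ _ hij _).isRelPrime_iff_not_dvd.2 ?_
    rintro ⟨q, hq⟩
    have h1 := congrArg (eval (Function.update (Function.update (0 : Fin (n + 1) → k) 0
      (Infinite.natEmbedding k i.1)) (Fin.last n) 1)) hq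
    simp only [f, map_sub, map_mul, eval_X, eval_C, Function.update_self, Function.update_of_ne hij,
      mul_one, sub_self, zero_mul, sub_eq_zero] at h1
    exact hne (Fin.ext ((Infinite.natEmbedding k).injective h1))

/-- Over an algebraically closed field k, let n ≥ 1 and d ≥ 1. In the vector space of degree-d forms in
n + 1 variables, the forms F that are squarefree (equivalently, nonzero with (F) a radical ideal:
the reduced hypersurfaces of degree d in P^n) form a Zariski-open subset, and this subset is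
nonempty. (The published statement allows projective space of every dimension n; for n = 0 and d ≥ 2
there is no squarefree form of degree d, so this row assumes n ≥ 1.) -/
theorem result (k : Type u) [Field k] [IsAlgClosed k]
    (n d : ℕ) (hn : 1 ≤ n) (hd : 1 ≤ d) :
    LefPen.IsZOpen k {F : LefPen.Form n k d | Squarefree F.1} ∧
      ({F : LefPen.Form n k d | Squarefree F.1}).Nonempty := by
  refine ⟨?_, exists_squarefree n d hn⟩
  have h1 : IsZOpen k ({F : Form n k d | F ≠ 0} ∩ ⋂ a : Fin (d + 1),
      {F : Form n k d | 1 ≤ a.1 → ∀ (b : ℕ) (h : a.1 + a.1 + b = d),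
      ∀ A : Form n k a.1, A ≠ 0 → F ∉ LinearMap.range (mulSq a.1 b d h A)}) := by
    refine zo_inter isZOpen_ne_zero (isZOpen_iInter fun a => ?_)
    by_cases ha : 1 ≤ a.1 ∧ a.1 + a.1 ≤ d
    · refine (isZOpen_congr fun F => ?_).1 (isZOpen_sq n a.1 (d - (a.1 + a.1)) d (by omega))
      constructor
      · intro h _ b hb
        obtain rfl : b = d - (a.1 + a.1) := by omega
        exact h
      · intro h
        exact h ha.1 _ _
    · refine (isZOpen_congr fun F => ?_).1 isZOpen_univ
      simp only [Set.mem_univ, true_iff]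
      intro h b hb
      omega
  refine (isZOpen_congr fun F => ?_).1 h1
  change _ ↔ Squarefree F.1
  rw [squarefree_iff]
  simp only [Set.mem_inter_iff, Set.mem_iInter]
  rfl

end Groth.Agent.S14376
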