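import Groth.Statements.S14379
import Groth.Agent.CAlg.K85.NoetherPow
import Mathlib.RingTheory.FiniteStability
-- import your own Groth.Agent.* helpers here

set_option autoImplicit false
open scoped TensorProduct
universe u
open CAlg

namespace Groth.Agent.S14379

/-- Let V be a discrete valuation ring with residue field k and fraction field K, let R be a flat
V-algebra of finite type such that both fibre rings k ⊗_V R and K ⊗_V R have Krull dimension at most
d, let x_1, …, x_d be elements of R and let N ≥ 1 be an integer. Then there are elements y_1, …, y_d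
of the subring of R generated by the N-th powers of elements of R such that, setting f_i = x_i +
y_i, the fibre ring k ⊗_V R is finite over the polynomial ring k[T_1, …, T_d] via T_i ↦ 1 ⊗ f_i and
K ⊗_V R is finite over K[T_1, …, T_d] via T_i ↦ 1 ⊗ f_i; in other words the morphism (f_1, …, f_d)
to affine d-space over V is finite on both fibres. -/
theorem result (V : Type u) [CommRing V] [IsDomain V]
    [IsDiscreteValuationRing V] (R : Type u) [CommRing R] [Algebra V R] [Module.Flat V R]
    [Algebra.FiniteType V R] (d : ℕ)
    (hs : ringKrullDim (IsLocalRing.ResidueField V ⊗[V] R) ≤ d)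
    (hη : ringKrullDim (FractionRing V ⊗[V] R) ≤ d)
    (x : Fin d → R) (N : ℕ) (hN : 1 ≤ N) :
    ∃ y : Fin d → R, (∀ i, y i ∈ Subring.closure (Set.range fun r : R => r ^ N)) ∧
      (MvPolynomial.aeval (fun i => (1 : IsLocalRing.ResidueField V) ⊗ₜ[V] (x i + y i)) :
          MvPolynomial (Fin d) (IsLocalRing.ResidueField V) →ₐ[IsLocalRing.ResidueField V]
            IsLocalRing.ResidueField V ⊗[V] R).toRingHom.Finite ∧
      (MvPolynomial.aeval (fun i => (1 : FractionRing V) ⊗ₜ[V] (x i + y i)) :
          MvPolynomial (Fin d) (FractionRing V) →ₐ[FractionRing V] FractionRing V ⊗[V] R).toRingHom.Finite := by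
  obtain ⟨m, g, hg⟩ := Algebra.FiniteType.iff_quotient_mvPolynomial''.1
    (inferInstance : Algebra.FiniteType V R)
  let b : Fin (d + m) → R := Fin.append x (fun i => g (MvPolynomial.X i))
  have hb : ∀ S : Subalgebra V R, (∀ i, b i ∈ S) → S = ⊤ := by
    intro S hS
    rw [eq_top_iff]
    intro r _
    obtain ⟨f, rfl⟩ := hg r
    have hX : ∀ i, g (MvPolynomial.X i) ∈ S := fun i => by
      have h1 := hS (Fin.natAdd d i)
      simpa only [b, Fin.append_right] using h1
    induction f using MvPolynomial.induction_on with
    | C a => rw [MvPolynomial.algHom_C]; exact algebraMap_mem S a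
    | add f g hf hg => rw [map_add]; exact add_mem (hf trivial) (hg trivial)
    | mul_X f i hf => rw [map_mul]; exact mul_mem (hf trivial) (hX i)
  have hs1 := K85.NoetherPow.surjective_baseChange (IsLocalRing.ResidueField V) b hb
  have hs2 := K85.NoetherPow.surjective_baseChange (FractionRing V) b hb
  have hft1 : Algebra.FiniteType (IsLocalRing.ResidueField V) (IsLocalRing.ResidueField V ⊗[V] R) :=
    inferInstance
  have hft2 : Algebra.FiniteType (FractionRing V) (FractionRing V ⊗[V] R) :=
    inferInstance
  obtain ⟨y, hy, h1, h2⟩ := K85.NoetherPow.exists_pow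
    (Algebra.TensorProduct.includeRight : R →ₐ[V] IsLocalRing.ResidueField V ⊗[V] R).toRingHom
    (Algebra.TensorProduct.includeRight : R →ₐ[V] FractionRing V ⊗[V] R).toRingHom d
    (fun n b hn => K85.NoetherPow.not_injective hs hn b)
    (fun n b hn => K85.NoetherPow.not_injective hη hn b) N hN m b
    (RingHom.isIntegral_of_surjective _ hs1) (RingHom.isIntegral_of_surjective _ hs2)
  refine ⟨y, hy, K85.NoetherPow.finite_of_isIntegral _ ?_, K85.NoetherPow.finite_of_isIntegral _ ?_⟩
  · simp only [b, Fin.append_left] at h1
    exact h1
  · simp only [b, Fin.append_left] at h2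
    exact h2

end Groth.Agent.S14379
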