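import Groth.Statements.S14387
import Groth.Agent.Hensel.K653.Milnor
import Groth.Agent.S0540
import Groth.Agent.Sga3C.LocConn

set_option autoImplicit false
open scoped TensorProduct
universe u
open Hensel

namespace Groth.Agent.S14387

/-- Let V be a strictly henselian discrete valuation ring (henselian with separably closed residue field
k) of characteristic zero with k perfect, L an algebraically closed field algebraic over the
fraction field of V, given as a V-algebra into which V embeds, A a V-algebra of finite type, 𝔭 a
prime ideal of A lying in the closed fibre (it contains the maximal ideal of V), and B a strict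
henselization of the local ring A_𝔭. Then the spectrum of L ⊗_V B, which is the algebraic Milnor
fibre of Spec A → Spec V at a geometric point over 𝔭, has finitely many connected components; being
affine it is also quasi-compact and quasi-separated. (The published statement is for a scheme of
finite type over a henselian discrete valuation ring; this row states the affine case over a
strictly henselian V, to which it reduces.) -/
theorem result (V : Type u) [CommRing V] [IsDomain V]
    [IsDiscreteValuationRing V] [HenselianLocalRing V] [IsSepClosed (IsLocalRing.ResidueField V)]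
    [PerfectField (IsLocalRing.ResidueField V)] [CharZero V]
    (L : Type u) [Field L] [IsAlgClosed L] [Algebra V L] [FaithfulSMul V L] [Algebra.IsAlgebraic V L]
    (A : Type u) [CommRing A] [Algebra V A] [Algebra.FiniteType V A]
    (𝔭 : Ideal A) [𝔭.IsPrime] (h𝔭 : (IsLocalRing.maximalIdeal V).map (algebraMap V A) ≤ 𝔭)
    (B : Type u) [CommRing B] [IsLocalRing B] [Algebra (Localization.AtPrime 𝔭) B]
    [IsLocalHom (algebraMap (Localization.AtPrime 𝔭) B)]
    [Hensel.IsStrictHenselization (Localization.AtPrime 𝔭) B]
    [Algebra V B] [IsScalarTower V (Localization.AtPrime 𝔭) B] :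
    Finite (ConnectedComponents (PrimeSpectrum (L ⊗[V] B))) := by
  have : IsLocalHom (algebraMap V (Localization.AtPrime 𝔭)) := by
    constructor
    intro a ha
    by_contra hna
    have h1 : a ∈ IsLocalRing.maximalIdeal V := hna
    rw [IsScalarTower.algebraMap_apply V A (Localization.AtPrime 𝔭)] at ha
    exact (IsLocalization.AtPrime.isUnit_to_map_iff (Localization.AtPrime 𝔭) 𝔭 _).1 ha
      (h𝔭 (Ideal.mem_map_of_mem _ h1))
  have hloc : IsLocalHom (algebraMap V B) := by
    rw [IsScalarTower.algebraMap_eq V (Localization.AtPrime 𝔭) B]
    infer_instance
  have hA : IsNoetherianRing A := Algebra.FiniteType.isNoetherianRing V A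
  have hAm : IsNoetherianRing (Localization.AtPrime 𝔭) :=
    IsLocalization.isNoetherianRing 𝔭.primeCompl _ hA
  have hB : IsNoetherianRing B := (Groth.Agent.S0540.result (Localization.AtPrime 𝔭) B).1 hAm
  have hN : IsNoetherianRing (L ⊗[V] B) := K653.Milnor.isNoetherianRing V L B
  have := Groth.Agent.Sga3C.LocConn.locallyConnectedSpace_of_locally_noetherian
    (PrimeSpectrum (L ⊗[V] B)) (fun x => ⟨Set.univ, isOpen_univ, Set.mem_univ x, inferInstance⟩)
  infer_instance

end Groth.Agent.S14387
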