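import Groth.Statements.S14388
import Groth.Agent.Cohder.TruncFactor
import Groth.Agent.CohtopB.DTrunc

set_option autoImplicit false
open CategoryTheory CategoryTheory.Limits
universe w v u
open CohDer

namespace Groth.Agent.S14388

open DerivedCategory Pretriangulated

section

variable {C : Type u} [Category.{v} C] [Abelian C] [HasDerivedCategory.{w} C]

/-- Factorisation of a map between the middle terms of two distinguished triangles. -/
theorem existsUnique_factor (q : ℤ) (T T' : Triangle (DerivedCategory C))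
    (hT : T ∈ distTriang (DerivedCategory C)) (hT' : T' ∈ distTriang (DerivedCategory C))
    (h₁ : T.obj₁.IsLE (q - 1)) (h₃ : T.obj₃.IsLE q) (h₂' : T'.obj₂.IsGE (q - 1))
    (h₃' : T'.obj₃.IsGE q) (g : T.obj₂ ⟶ T'.obj₂)
    (hg : (homologyFunctor C (q - 1)).map g = 0) (hg' : (homologyFunctor C q).map g = 0) :
    ∃! L : T.obj₃ ⟶ T'.obj₁, g = T.mor₂ ≫ L ≫ T'.mor₁ := by
  have hz : T.mor₁ ≫ g = 0 := by
    apply Groth.Agent.Cohder.TruncFactor.hom_eq_zero (q - 1)
    rw [Functor.map_comp, hg, comp_zero]
  obtain ⟨g', hg₂⟩ := Triangle.yoneda_exact₂ _ hT g hz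
  have hepi : Epi ((homologyFunctor C q).map T.mor₂) :=
    (HomologySequence.epi_homologyMap_mor₂_iff _ hT q (q + 1) rfl).2
      ((isZero_of_isLE T.obj₁ (q - 1) (q + 1) (by lia)).eq_of_tgt _ _)
  have hz' : g' ≫ T'.mor₂ = 0 := by
    apply Groth.Agent.Cohder.TruncFactor.hom_eq_zero q
    rw [← cancel_epi ((homologyFunctor C q).map T.mor₂), ← Functor.map_comp, ← Category.assoc,
      ← hg₂, Functor.map_comp, hg', zero_comp, comp_zero]
  obtain ⟨L, hL⟩ := Triangle.coyoneda_exact₂ _ hT' g' hz'
  refine ⟨L, ?_, ?_⟩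
  · change g = T.mor₂ ≫ L ≫ T'.mor₁
    rw [← hL, ← hg₂]
  · intro L' hL'
    have e : T.mor₂ ≫ ((L' - L) ≫ T'.mor₁) = 0 := by
      rw [Preadditive.sub_comp, Preadditive.comp_sub, ← hL', ← hL, ← hg₂, sub_self]
    obtain ⟨r, hr⟩ := Triangle.yoneda_exact₃ _ hT _ e
    have hr0 : r = 0 := by
      have : TStructure.t.IsLE (T.obj₁⟦(1 : ℤ)⟧) (q - 2) :=
        TStructure.t.isLE_shift T.obj₁ (q - 1) 1 (q - 2) (by lia)
      exact TStructure.t.zero_of_isLE_of_isGE r (q - 2) (q - 1) (by lia) inferInstance h₂'
    rw [hr0, comp_zero] at hr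
    obtain ⟨r', hr'⟩ := Triangle.coyoneda_exact₂ _ (inv_rot_of_distTriang _ hT') (L' - L) hr
    have hr0' : r' = 0 := by
      have : TStructure.t.IsGE (T'.obj₃⟦(-1 : ℤ)⟧) (q + 1) :=
        TStructure.t.isGE_shift T'.obj₃ q (-1) (q + 1) (by lia)
      exact TStructure.t.zero_of_isLE_of_isGE r' q (q + 1) (by lia) h₃ this
    rw [hr0', zero_comp] at hr'
    exact sub_eq_zero.1 hr'

end

/-- Let A be an abelian category, D(A) its derived category with the canonical t-structure and
truncation functors τ_{≥a}, τ_{<b}, and write τ_[a,b] = τ_{≥a} ∘ τ_{<b+1}, so that τ_[q,q] K is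
H^q(K) placed in degree q. Let f : K → K' be a morphism in D(A) and q an integer such that the
induced maps H^(q-1)(K) → H^(q-1)(K') and H^q(K) → H^q(K') are both zero. Then there is a unique
morphism L : τ_[q,q] K → τ_[q-1,q-1] K' such that τ_[q-1,q](f) : τ_[q-1,q] K → τ_[q-1,q] K' is the
composite of the canonical projection τ_[q-1,q] K → τ_[q,q] K, the morphism L, and the canonical
inclusion τ_[q-1,q-1] K' → τ_[q-1,q] K'. (Under τ_[n,n] ≅ H^n(−)[−n] the morphism L corresponds to a
morphism L_f[−q] : H^q(K)[−q] → H^(q-1)(K')[1−q].) -/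
theorem result {C : Type u} [Category.{v} C] [Abelian C]
    [HasDerivedCategory.{w} C] {K K' : DerivedCategory C} (f : K ⟶ K') (q : ℤ)
    (h₁ : (DerivedCategory.homologyFunctor C (q - 1)).map f = 0)
    (h₂ : (DerivedCategory.homologyFunctor C q).map f = 0) :
    ∃! L : ((DerivedCategory.TStructure.t (C := C)).truncGELT q (q + 1)).obj K ⟶
        ((DerivedCategory.TStructure.t (C := C)).truncGELT (q - 1) q).obj K',
      ((DerivedCategory.TStructure.t (C := C)).truncGELT (q - 1) (q + 1)).map f =
        ((DerivedCategory.TStructure.t (C := C)).natTransTruncGEOfLE (q - 1) q (sub_one_lt q).le).app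
            (((DerivedCategory.TStructure.t (C := C)).truncLT (q + 1)).obj K) ≫ L ≫
          ((DerivedCategory.TStructure.t (C := C)).truncGE (q - 1)).map
            (((DerivedCategory.TStructure.t (C := C)).natTransTruncLTOfLE q (q + 1) (lt_add_one q).le).app K') := by
  set t := DerivedCategory.TStructure.t (C := C) with ht
  -- the truncated map has zero homology in degrees `q - 1` and `q`
  have hH : ∀ m : ℤ, q - 1 ≤ m → m < q + 1 → (homologyFunctor C m).map f = 0 →
      (homologyFunctor C m).map ((t.truncGELT (q - 1) (q + 1)).map f) = 0 := by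
    intro m hm hm' hf
    have i1 := Groth.Agent.CohtopB.DTrunc.isIso_homology_map_truncGEπ
      ((t.truncLT (q + 1)).obj K) (q - 1) m hm
    have i2 := Groth.Agent.CohtopB.DTrunc.isIso_homology_map_truncGEπ
      ((t.truncLT (q + 1)).obj K') (q - 1) m hm
    have i3 := Groth.Agent.CohtopB.DTrunc.isIso_homology_map_truncLTι K' (q + 1) m hm'
    have e1 : (homologyFunctor C m).map ((t.truncLT (q + 1)).map f) = 0 := by
      rw [← cancel_mono ((homologyFunctor C m).map ((TStructure.t.truncLTι (q + 1)).app K')),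
        ← Functor.map_comp]
      have := (t.truncLTι (q + 1)).naturality f
      rw [this]
      simp only [Functor.id_map, Functor.map_comp, hf, comp_zero, zero_comp]
    rw [← cancel_epi ((homologyFunctor C m).map
      ((TStructure.t.truncGEπ (q - 1)).app ((t.truncLT (q + 1)).obj K))), ← Functor.map_comp]
    have h4 := (t.truncGEπ (q - 1)).naturality ((t.truncLT (q + 1)).map f)
    have h5 : (t.truncGEπ (q - 1)).app ((t.truncLT (q + 1)).obj K) ≫
        (t.truncGELT (q - 1) (q + 1)).map f =
        (t.truncLT (q + 1)).map f ≫ (t.truncGEπ (q - 1)).app ((t.truncLT (q + 1)).obj K') := h4.symm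
    rw [h5, Functor.map_comp, e1, zero_comp, comp_zero]
  -- the first triangle
  obtain ⟨M', a, b, hT, -, hM', -⟩ := Groth.Agent.CohtopB.DTrunc.exists_fibre_truncGE
    ((t.truncLT (q + 1)).obj K) (q - 1) q (sub_one_lt q).le
  -- the second triangle
  obtain ⟨N'', c, d, hT'⟩ := Pretriangulated.distinguished_cocone_triangle
    ((t.truncGE (q - 1)).map ((t.natTransTruncLTOfLE q (q + 1) (lt_add_one q).le).app K'))
  have hiso : ∀ m : ℤ, q - 1 ≤ m → m < q → IsIso ((homologyFunctor C m).map
      ((t.truncGE (q - 1)).map ((t.natTransTruncLTOfLE q (q + 1) (lt_add_one q).le).app K'))) := by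
    intro m hm hm'
    have i1 := Groth.Agent.CohtopB.DTrunc.isIso_homology_map_truncGEπ
      ((t.truncLT q).obj K') (q - 1) m hm
    have i2 := Groth.Agent.CohtopB.DTrunc.isIso_homology_map_truncGEπ
      ((t.truncLT (q + 1)).obj K') (q - 1) m hm
    have i3 := Groth.Agent.CohtopB.DTrunc.isIso_homology_map_truncLTι K' (q + 1) m (by lia)
    have i4 := Groth.Agent.CohtopB.DTrunc.isIso_homology_map_truncLTι K' q m hm'
    have e1 : IsIso ((homologyFunctor C m).map
        ((t.natTransTruncLTOfLE q (q + 1) (lt_add_one q).le).app K')) := by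
      have := t.natTransTruncLTOfLE_ι_app q (q + 1) (lt_add_one q).le K'
      rw [← this, Functor.map_comp] at i4
      exact IsIso.of_isIso_comp_right _ ((homologyFunctor C m).map ((t.truncLTι (q + 1)).app K'))
    have h4 := (t.truncGEπ (q - 1)).naturality
      ((t.natTransTruncLTOfLE q (q + 1) (lt_add_one q).le).app K')
    have h5 := congrArg (fun z => (homologyFunctor C m).map z) h4
    rw [Functor.map_comp, Functor.map_comp, Functor.id_map] at h5
    have i5 : IsIso ((homologyFunctor C m).map
      ((t.natTransTruncLTOfLE q (q + 1) (lt_add_one q).le).app K') ≫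
      (homologyFunctor C m).map ((t.truncGEπ (q - 1)).app ((t.truncLT (q + 1)).obj K'))) :=
      inferInstance
    rw [h5] at i5
    exact IsIso.of_isIso_comp_left ((homologyFunctor C m).map
      ((t.truncGEπ (q - 1)).app ((t.truncLT q).obj K'))) _
  have hN'' : N''.IsGE q := by
    rw [isGE_iff]
    intro i hi
    have hN' : ((t.truncGE (q - 1)).obj ((t.truncLT q).obj K')).IsLE (q - 1) := by
      have : ((t.truncLT q).obj K').IsLE (q - 1) := t.isLE_truncLT_obj _ _ _ (by lia)
      infer_instance
    set n := (t.truncGE (q - 1)).map ((t.natTransTruncLTOfLE q (q + 1) (lt_add_one q).le).app K')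
      with hn
    have hmor : (homologyFunctor C i).map c = 0 := by
      by_cases hi' : i = q - 1
      · subst hi'
        have i1 : IsIso ((homologyFunctor C (q - 1)).map n) := hiso (q - 1) le_rfl (by lia)
        have i2 : Epi ((homologyFunctor C (q - 1)).map n) := inferInstance
        exact (HomologySequence.epi_homologyMap_mor₁_iff _ hT' (q - 1)).1 i2
      · have z1 : IsZero ((homologyFunctor C i).obj
            ((t.truncGE (q - 1)).obj ((t.truncLT (q + 1)).obj K'))) :=
          isZero_of_isGE _ (q - 1) i (by lia)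
        exact z1.eq_of_src _ _
    have hmono : Mono ((homologyFunctor C (i + 1)).map n) := by
      by_cases hi' : i + 1 = q - 1
      · rw [hi']
        have i1 : IsIso ((homologyFunctor C (q - 1)).map n) := hiso (q - 1) le_rfl (by lia)
        infer_instance
      · have z1 : IsZero ((homologyFunctor C (i + 1)).obj
            ((t.truncGE (q - 1)).obj ((t.truncLT q).obj K'))) := by
          by_cases hi2 : i + 1 < q - 1
          · exact isZero_of_isGE _ (q - 1) (i + 1) hi2
          · exact isZero_of_isLE _ (q - 1) (i + 1) (by lia)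
        exact ⟨fun _ _ _ => z1.eq_of_tgt _ _⟩
    have hepi' : Epi ((homologyFunctor C i).map c) :=
      (HomologySequence.epi_homologyMap_mor₂_iff _ hT' i (i + 1) (by lia)).2
        ((HomologySequence.mono_homologyMap_mor₁_iff _ hT' i (i + 1) (by lia)).1 hmono)
    exact @IsZero.of_epi_eq_zero _ _ _ _ _ _ hepi' hmor
  have hN₂ : ((t.truncGE (q - 1)).obj ((t.truncLT (q + 1)).obj K')).IsGE (q - 1) := inferInstance
  have hK : ((t.truncGE q).obj ((t.truncLT (q + 1)).obj K)).IsLE q := by
    have : ((t.truncLT (q + 1)).obj K).IsLE q := t.isLE_truncLT_obj _ _ _ (by lia)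
    infer_instance
  have := existsUnique_factor q _ _ hT hT' hM' hK hN₂ hN''
    ((t.truncGELT (q - 1) (q + 1)).map f) (hH _ le_rfl (by lia) h₁) (hH _ (by lia) (by lia) h₂)
  exact this

end Groth.Agent.S14388
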