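import Groth.Statements.S14391
import Groth.Agent.EtCoh.K298.SemiPi
import Groth.Agent.EtCoh.K720.KPi1

set_option autoImplicit false
open CategoryTheory CategoryTheory.Limits AlgebraicGeometry Opposite
universe u
open EtCoh

namespace Groth.Agent.S14391

/-- Let V be a discrete valuation ring of characteristic zero with uniformizer ϖ whose residue field k
is perfect of characteristic p > 0, S = Spec V, and let X be an S-scheme of finite type which is
étale-locally semistable: every point of X lies in the image of an étale morphism U → X such that U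
admits an étale S-morphism to Spec V[x_1, …, x_n]/(x_1⋯x_r − ϖ) for some 1 ≤ r ≤ n (these are log
smooth over S with smooth generic fibre). Call a scheme Z a K(π,1) when for every finite locally
constant abelian sheaf F on the small étale site of Z killed by some integer n ≥ 1, every q > 0 and
every class ζ ∈ H^q(Z_ét, F) there is a finite étale surjective g : Z' → Z with g^*ζ = 0. Assume
(hypothesis hF) that for every smooth S-scheme Y of finite type and every point y of Y there is an
open neighbourhood W of y whose generic fibre W_η = W ∩ p_Y⁻¹(D(ϖ)) is a K(π,1). Then for every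
point x of X in the closed fibre there is a scheme U with an étale morphism e : U → X whose image
contains x (an étale neighbourhood of any geometric point over x) such that the generic fibre U_η =
(e ≫ p_X)⁻¹(D(ϖ)) is a K(π,1). (The published statement is for any log smooth fs log scheme over S
with its standard log structure whose generic fibre is smooth, and for geometric points anywhere on
X; it takes the existence of K(π,1) neighbourhoods of smooth S-schemes from the literature, carried
here as the hypothesis hF, and treats points of the generic fibre by a separate published result on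
good neighbourhoods of smooth schemes over a field of characteristic zero, omitted here by
restricting to the closed fibre.) (Exactness of pullback of abelian sheaves, which always holds, is
carried as an instance hypothesis.) -/
theorem result (V : Type u) [CommRing V] [IsDomain V]
    [IsDiscreteValuationRing V] [CharZero V] (ϖ : V) (hϖ : Irreducible ϖ) (p : ℕ) [Fact p.Prime]
    [CharP (IsLocalRing.ResidueField V) p] [PerfectField (IsLocalRing.ResidueField V)]
    {X : Scheme.{u}} (pX : X ⟶ Spec (CommRingCat.of V)) [LocallyOfFiniteType pX] [QuasiCompact pX]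
    (hss : ∀ x : X, ∃ (U : Scheme.{u}) (e : U ⟶ X) (n r : ℕ) (hr : 1 ≤ r ∧ r ≤ n)
      (c : U ⟶ Spec (CommRingCat.of (MvPolynomial (Fin n) V ⧸ Ideal.span
        {((Finset.univ.filter fun i : Fin n => (i : ℕ) < r).prod fun i => MvPolynomial.X i) -
          MvPolynomial.C ϖ}))),
      Etale e ∧ x ∈ Set.range e.base ∧ Etale c ∧
        c ≫ Spec.map (CommRingCat.ofHom (algebraMap V _)) = e ≫ pX)
    (hF : ∀ (Y : Scheme.{u}) (pY : Y ⟶ Spec (CommRingCat.of V)) [LocallyOfFiniteType pY]
      [QuasiCompact pY] [Smooth pY] (y : Y), ∃ W : Y.Opens, y ∈ W ∧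
        (∀ (F : EtCoh.Ab ↑(W ⊓ pY ⁻¹ᵁ (PrimeSpectrum.basicOpen ϖ : (Spec (CommRingCat.of V)).Opens))), EtCoh.IsFiniteLocallyConstant F → (∃ n : ℕ, 0 < n ∧ EtCoh.KilledBy n F) →
          ∀ q : ℕ, 0 < q → ∀ ζ : EtCoh.H ↑(W ⊓ pY ⁻¹ᵁ (PrimeSpectrum.basicOpen ϖ : (Spec (CommRingCat.of V)).Opens)) F q,
            ∃ (W' : Scheme.{u}) (g : W' ⟶ ↑(W ⊓ pY ⁻¹ᵁ (PrimeSpectrum.basicOpen ϖ : (Spec (CommRingCat.of V)).Opens))), IsFinite g ∧ Etale g ∧ Surjective g ∧
              ∀ [PreservesFiniteLimits (EtCoh.pull g)], EtCore.Hpull g F q ζ = 0))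
    (x : X) (hx : pX.base x = IsLocalRing.closedPoint V) :
    ∃ (U : Scheme.{u}) (e : U ⟶ X), Etale e ∧ x ∈ Set.range e.base ∧
      (∀ (F : EtCoh.Ab ↑((e ≫ pX) ⁻¹ᵁ (PrimeSpectrum.basicOpen ϖ : (Spec (CommRingCat.of V)).Opens))), EtCoh.IsFiniteLocallyConstant F → (∃ n : ℕ, 0 < n ∧ EtCoh.KilledBy n F) →
          ∀ q : ℕ, 0 < q → ∀ ζ : EtCoh.H ↑((e ≫ pX) ⁻¹ᵁ (PrimeSpectrum.basicOpen ϖ : (Spec (CommRingCat.of V)).Opens)) F q,
            ∃ (U' : Scheme.{u}) (g : U' ⟶ ↑((e ≫ pX) ⁻¹ᵁ (PrimeSpectrum.basicOpen ϖ : (Spec (CommRingCat.of V)).Opens))), IsFinite g ∧ Etale g ∧ Surjective g ∧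
              ∀ [PreservesFiniteLimits (EtCoh.pull g)], EtCore.Hpull g F q ζ = 0) := by
  obtain ⟨U0, e0, n, r, hr, c, he0, ⟨u0, hu0⟩, hc, hcomm⟩ := hss x
  have hpm : (p : V) ∈ IsLocalRing.maximalIdeal V := by
    rw [← IsLocalRing.residue_eq_zero_iff, map_natCast]
    exact CharP.cast_eq_zero _ p
  rw [hϖ.maximalIdeal_eq, Ideal.mem_span_singleton'] at hpm
  obtain ⟨a, ha⟩ := hpm
  have hϖm : ϖ ∈ IsLocalRing.maximalIdeal V := by
    rw [hϖ.maximalIdeal_eq]
    exact Ideal.mem_span_singleton_self ϖ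
  have hpt : (c ≫ Spec.map (CommRingCat.ofHom (algebraMap V _))) u0 =
      IsLocalRing.closedPoint V := by
    rw [hcomm, ← hx, ← hu0]
    rfl
  obtain ⟨Y, pY, y, hY, hYs, H⟩ := K298.SemiPi.exists_chart V ϖ hϖm r (p ^ 2) n hr
    (pow_pos (Fact.out (p := p.Prime)).pos 2) (a ^ 2) (by push_cast; rw [← ha]; ring) c u0 hpt
  obtain ⟨W, hyW, hW⟩ := hF Y pY y
  obtain ⟨U, e, he, ⟨u, hu⟩, hf⟩ := H W hyW
  refine ⟨U, e ≫ e0, inferInstance, ⟨u, ?_⟩, ?_⟩
  · rw [← hu0, ← hu]
    rfl
  · obtain ⟨f, hf1, hf2⟩ := hf ((e ≫ e0) ≫ pX) (by rw [Category.assoc, ← hcomm])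
    intro F hF ⟨N, hN, hk⟩ q hq ζ
    refine (K720.KPi1.kills_iff F q ζ).1 (K720.KPi1.Kills.of_push f F q ζ fun η => ?_)
    exact (K720.KPi1.kills_iff _ q η).2 (hW _ (Groth.Agent.S0106.result f F hF)
      ⟨N, hN, Groth.Agent.Sga4B.ShriekTools.killedBy_map (EtCoh.push f) N F hk⟩ q hq η)

end Groth.Agent.S14391
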