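import Groth.Statements.S14393
import Groth.Agent.EtCoh.K720.NormExt

set_option autoImplicit false
open CategoryTheory CategoryTheory.Limits AlgebraicGeometry Opposite
universe u
open EtCoh

namespace Groth.Agent.S14393

/-- Let X be a normal integral scheme (all local rings integrally closed domains), j : U → X the
inclusion of an open subscheme and F a finite locally constant abelian sheaf on the small étale site
of U. The following are equivalent: (a) there is a finite locally constant abelian sheaf F' on X
whose restriction j⁻¹F' is isomorphic to F; (b) there are a finite group G and a principal G-cover f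
: V → U (a finite étale cover with an action of G by U-automorphisms which is simply transitive on
geometric fibres, f surjective) such that f⁻¹F is isomorphic to a constant sheaf with finite value
group and the relative normalization of X in V (for the composite V → U → X) is étale over X. (Here
j is assumed quasi-compact, i.e. U retrocompact in X, so that the relative normalization of the
library applies; the published statement allows any open U. The quasi-compactness and
quasi-separatedness of V → X, which follow, are carried as instance hypotheses. The published
statement also lists a third equivalent condition, that j_*F is locally constant; it is not part of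
this row.) -/
theorem result (X : Scheme.{u}) [IsIntegral X]
    (hX : Pi1.IsNormalScheme X) (U : X.Opens) [QuasiCompact U.ι] (F : EtCoh.Ab ↑U) (hF : EtCoh.IsFiniteLocallyConstant F) :
    (∃ F' : EtCoh.Ab X, EtCoh.IsFiniteLocallyConstant F' ∧ Nonempty ((EtCoh.pull U.ι).obj F' ≅ F)) ↔
    ∃ (G : Type) (_ : Group G) (_ : Finite G) (P : FEt.Cat ↑U) (ρ : G →* Aut P),
      SGA1t.IsPrincipal G P ρ ∧
      (∃ (M : Type) (_ : AddCommGroup M) (_ : Finite M),
        Nonempty ((EtCoh.pull P.hom).obj F ≅ EtCoh.const P.left M)) ∧
      ∀ [QuasiCompact (P.hom ≫ U.ι)] [QuasiSeparated (P.hom ≫ U.ι)],
        Etale (P.hom ≫ U.ι).fromNormalization := by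
  constructor
  · rintro ⟨F', hF', ⟨e⟩⟩
    exact K720.NormExt.exists_cover X hX U F F' hF' e
  · rintro ⟨G, _, _, P, ρ, hP, ⟨M, _, _, ⟨c⟩⟩, hE⟩
    exact K720.NormExt.exists_extension X hX U F P hP.1 M c hE

end Groth.Agent.S14393
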