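import Groth.Statements.S14395
import Groth.Agent.SemiFact.K794.SecThm

set_option autoImplicit false
universe u
open CategoryTheory AlgebraicGeometry
open SemiFact

namespace Groth.Agent.S14395

/-- Let R be a discrete valuation ring with perfect fraction field K and residue field k, ϖ a
uniformizer of R, and f : X → Spec R a nodal curve (proper, flat, locally of finite presentation,
geometric fibres connected with one-dimensional irreducible components and at most ordinary double
points) whose special fibre X_k has split singularities: every closed point of X_k either has an
open neighbourhood smooth over k or has completed local ring isomorphic over k to k[[u,v]]/(uv);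
assume moreover that R is henselian with separably closed residue field (the base is strictly
henselian). Let (V, E) with endpoint map E → V × V be the dual graph of X_k (cv matches vertices
with irreducible components, ce matches edges with the non-smooth points of X_k over k, an edge
ending exactly at the vertices whose component contains its point), labelled by thicknesses l : E →
ℕ in the following sense: for every edge e the local ring of X at the point of e is formally a node
R̂[[x,y]]/(xy − ϖ^(l e)) over R when l e ≥ 1, and R̂[[x,y]]/(xy) when l e = 0 (infinite thickness: a
singular point of the generic fibre X_K specializes to this point). If X is semi-factorial over R —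
every invertible module on the generic fibre X_K is, up to isomorphism, the restriction of an
invertible module on X — then the labelled graph is circuit-coprime: along every circuit the labels
l e generate the unit ideal of ℤ (in particular no circuit has all its labels equal to 0). -/
theorem result
    (R : Type u) [CommRing R] [IsDomain R] [IsDiscreteValuationRing R]
    [HenselianLocalRing R] [IsSepClosed (IsLocalRing.ResidueField R)]
    [PerfectField (FractionRing R)]
    {X : Scheme.{u}} (f : X ⟶ Spec (CommRingCat.of R)) [IsProper f]
    (hf : Curv2.IsNodalFamily f)
    (hconn : ∀ (L : Type u) [Field L] (t : Spec (CommRingCat.of L) ⟶ Spec (CommRingCat.of R)),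
      ConnectedSpace ↑(Limits.pullback f t))
    (hsplit : ∀ y : ↥(f.fiber (IsLocalRing.closedPoint R)), IsClosed ({y} : Set ↥(f.fiber (IsLocalRing.closedPoint R))) →
        (∃ W : (f.fiber (IsLocalRing.closedPoint R)).Opens, y ∈ W ∧ Smooth (W.ι ≫ f.fiberToSpecResidueField (IsLocalRing.closedPoint R))) ∨
        @Curv2.IsOrdDoublePt ((Spec (CommRingCat.of R)).residueField (IsLocalRing.closedPoint R)) _ ((f.fiber (IsLocalRing.closedPoint R)).presheaf.stalk y) _ (@Curv2.stalkAlgebra ((Spec (CommRingCat.of R)).residueField (IsLocalRing.closedPoint R)) _ (f.fiber (IsLocalRing.closedPoint R)) ⟨f.fiberToSpecResidueField (IsLocalRing.closedPoint R)⟩ y) _)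
    {V E : Type} [Fintype V] [Fintype E] [DecidableEq V] [DecidableEq E]
    (cv : V → Set ↥(f.fiber (IsLocalRing.closedPoint R))) (ce : E → ↥(f.fiber (IsLocalRing.closedPoint R)))
    (ends : E → V × V) (ϖ : R) (hϖ : Irreducible ϖ) (l : E → ℕ)
    (hΓ : DualGr.IsLabelledDualGraph R f cv ce ends (fun e => if l e = 0 then 0 else ϖ ^ l e))
    (hsf : Formal2.PicPullbackSurjective (Limits.pullback.fst f (Neron.genPt R))) :
    LabGraph.IsCircuitCoprime ends l := by
  exact K794.SecThm.isCircuitCoprime f hf hϖ hΓ hsf

end Groth.Agent.S14395
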