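import Groth.Statements.S14396
import Groth.Agent.SemiFact.K794.Tree

set_option autoImplicit false
universe u
open CategoryTheory AlgebraicGeometry
open SemiFact

namespace Groth.Agent.S14396

/-- Let R be a discrete valuation ring with perfect fraction field K and residue field k and f : X →
Spec R a nodal curve (proper, flat, locally of finite presentation, geometric fibres connected with
one-dimensional irreducible components and at most ordinary double points) whose special fibre X_k
has split singularities: every closed point of X_k either has an open neighbourhood smooth over k or
has completed local ring isomorphic over k to k[[u,v]]/(uv). Let (V, E) with endpoint map E → V × V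
be the dual graph of X_k relative to its structure morphism to Spec k: cv matches vertices with the
irreducible components of X_k, ce matches edges with the points where X_k is not smooth over k, and
an edge ends exactly at the vertices whose component contains its point. If this graph is a tree —
connected and without circuits, that is, X_k is of compact type — then X is semi-factorial over R:
every invertible module on the generic fibre X_K is, up to isomorphism, the restriction of an
invertible module on X. -/
theorem result
    (R : Type u) [CommRing R] [IsDomain R] [IsDiscreteValuationRing R]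
    [PerfectField (FractionRing R)]
    {X : Scheme.{u}} (f : X ⟶ Spec (CommRingCat.of R)) [IsProper f]
    (hf : Curv2.IsNodalFamily f)
    (hconn : ∀ (L : Type u) [Field L] (t : Spec (CommRingCat.of L) ⟶ Spec (CommRingCat.of R)),
      ConnectedSpace ↑(Limits.pullback f t))
    (hsplit : ∀ y : ↥(f.fiber (IsLocalRing.closedPoint R)), IsClosed ({y} : Set ↥(f.fiber (IsLocalRing.closedPoint R))) →
        (∃ W : (f.fiber (IsLocalRing.closedPoint R)).Opens, y ∈ W ∧ Smooth (W.ι ≫ f.fiberToSpecResidueField (IsLocalRing.closedPoint R))) ∨
        @Curv2.IsOrdDoublePt ((Spec (CommRingCat.of R)).residueField (IsLocalRing.closedPoint R)) _ ((f.fiber (IsLocalRing.closedPoint R)).presheaf.stalk y) _ (@Curv2.stalkAlgebra ((Spec (CommRingCat.of R)).residueField (IsLocalRing.closedPoint R)) _ (f.fiber (IsLocalRing.closedPoint R)) ⟨f.fiberToSpecResidueField (IsLocalRing.closedPoint R)⟩ y) _)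
    {V E : Type} [Fintype V] [Fintype E] [DecidableEq V] [DecidableEq E]
    (cv : V → Set ↥(f.fiber (IsLocalRing.closedPoint R))) (ce : E → ↥(f.fiber (IsLocalRing.closedPoint R)))
    (ends : E → V × V)
    (hΓ : DualGr.IsDualGraph (f.fiberToSpecResidueField (IsLocalRing.closedPoint R)) cv ce ends)
    (htree : DualGr.IsTree ends) :
    Formal2.PicPullbackSurjective (Limits.pullback.fst f (Neron.genPt R)) := by
  have hflat : Flat f := hf.1
  have hlfp : LocallyOfFinitePresentation f := hf.2.1
  have hN : IsLocallyNoetherian X := LocallyOfFiniteType.isLocallyNoetherian f
  obtain ⟨ϖ, hϖ⟩ := IsDiscreteValuationRing.exists_irreducible R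
  obtain ⟨l, hl⟩ := K794.Nodal.exists_labels f hΓ hϖ hsplit
  exact K794.Nodal.picPullbackSurjective f hϖ hl hf fun C hC => absurd hC (htree.2 C)

end Groth.Agent.S14396
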