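import Groth.Statements.S14397

set_option autoImplicit false
universe u
open DualGr

namespace Groth.Agent.S14397

/-- Let (V, E) with endpoint map E → V × V be a finite multigraph (loops and parallel edges allowed; the
order of the two endpoints is an auxiliary orientation), and let D_1, …, D_n be finite sets of edges
such that every edge lies outside at least one D_i. For each i let Γ_i be the multigraph obtained by
contracting the edges of D_i, and let H₁(Γ, ℤ) → H₁(Γ_i, ℤ) be the map of cycle lattices (integer
edge vectors with zero boundary) given by restriction to the surviving edges. Then the map H₁(Γ, ℤ)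
→ ⊕_i H₁(Γ_i, ℤ) has torsion-free cokernel. (The published statement is about the connected labelled
dual graph of the closed fibre of a nodal curve, smooth outside a normal crossing divisor with
components D_1, …, D_n, over a Noetherian regular strictly local base; Γ_i is the dual graph of the
fibre over the generic point of D_i, the lattices are identified with the character groups of the
toric parts of the Picard schemes of these fibres, and the map is the generization map of character
groups; this row states the assertion about cycle lattices, for any finite multigraph, which is what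
the argument establishes.) -/
theorem result
    {V E : Type u} [Fintype V] [Fintype E] [DecidableEq V] [DecidableEq E]
    (ends : E → V × V) {n : ℕ} (D : Fin n → Finset E) (hcover : ∀ e : E, ∃ i : Fin n, e ∉ D i) :
    IsAddTorsionFree (((i : Fin n) → ↥(DualGr.cycleLattice (DualGr.ctrEnds ends (D i)))) ⧸
      LinearMap.range (LinearMap.pi fun i : Fin n => DualGr.genMap ends (D i))) := by
  refine ⟨fun m hm => ?_⟩
  -- reduce to: `m • z = 0 → z = 0`
  suffices H : ∀ z : ((i : Fin n) → ↥(DualGr.cycleLattice (DualGr.ctrEnds ends (D i)))) ⧸
      LinearMap.range (LinearMap.pi fun i : Fin n => DualGr.genMap ends (D i)), m • z = 0 → z = 0 by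
    intro a b hab
    have h1 : m • (a - b) = 0 := by
      rw [smul_sub, sub_eq_zero]; exact hab
    exact sub_eq_zero.mp (H _ h1)
  intro z hz
  obtain ⟨x, rfl⟩ := Submodule.Quotient.mk_surjective _ z
  rw [← Submodule.Quotient.mk_smul, Submodule.Quotient.mk_eq_zero] at hz
  rw [Submodule.Quotient.mk_eq_zero]
  obtain ⟨γ, hγ⟩ := hz
  have hm' : (m : ℤ) ≠ 0 := by exact_mod_cast hm
  -- the value of `γ` on an edge outside `D i`
  have hval : ∀ (i : Fin n) (e : DualGr.CtrEdge (D i)), γ.1 e.1 = (m : ℤ) * (x i).1 e := by
    intro i e
    have h1 := congrFun (congrArg Subtype.val (congrFun hγ i)) e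
    have h2 : ((m • x) i).1 e = (m : ℤ) * (x i).1 e := by
      rw [Pi.smul_apply]
      change (m • (x i).1) e = _
      rw [Pi.smul_apply, nsmul_eq_mul]
    rw [h2] at h1
    exact h1
  have hdvd : ∀ e : E, ∃ c : ℤ, γ.1 e = (m : ℤ) * c := by
    intro e
    obtain ⟨i, hi⟩ := hcover e
    exact ⟨(x i).1 ⟨e, hi⟩, hval i ⟨e, hi⟩⟩
  choose c hc using hdvd
  have hγc : γ.1 = (m : ℤ) • c := by
    funext e; rw [hc e, Pi.smul_apply, smul_eq_mul]
  have hcmem : c ∈ DualGr.cycleLattice ends := by
    have h1 : DualGr.boundaryHom ends γ.1 = 0 := γ.2
    rw [hγc, map_smul] at h1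
    have h2 : DualGr.boundaryHom ends c = 0 := by
      funext v
      have := congrFun h1 v
      rw [Pi.smul_apply, smul_eq_mul, Pi.zero_apply] at this
      exact (mul_eq_zero.mp this).resolve_left hm'
    exact h2
  refine ⟨⟨c, hcmem⟩, ?_⟩
  funext i
  apply Subtype.ext
  funext e
  have h1 := hval i e
  rw [hc e.1] at h1
  exact mul_left_cancel₀ hm' h1

end Groth.Agent.S14397
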