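import Groth.Statements.S14398
import Groth.Agent.SemiFact.K793.VertMain

set_option autoImplicit false
universe u
open CategoryTheory AlgebraicGeometry
open SemiFact

namespace Groth.Agent.S14398

/-- Let R be a discrete valuation ring with perfect fraction field K and residue field k, ϖ a
uniformizer of R, and f : X → Spec R a nodal curve (proper, flat, locally of finite presentation,
geometric fibres connected with one-dimensional irreducible components and at most ordinary double
points) whose special fibre X_k has split singularities: every closed point of X_k either has an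
open neighbourhood smooth over k or has completed local ring isomorphic over k to k[[u,v]]/(uv). Let
(V, E) with endpoint map E → V × V be the dual graph of X_k (cv matches vertices with irreducible
components, ce matches edges with the non-smooth points of X_k over k, an edge ending exactly at the
vertices whose component contains its point), labelled by thicknesses l : E → ℕ: for every edge e
the local ring of X at the point of e is formally a node R̂[[x,y]]/(xy − ϖ^(l e)) over R when l e ≥
1, and R̂[[x,y]]/(xy) when l e = 0 (infinite thickness). For each vertex v let X_v be the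
corresponding irreducible component of X_k with its reduced structure, given as an integral curve
over k closed-immersed in X over Spec R with underlying set that component. Call a vertex labelling
φ : V → ℤ Cartier when for every edge e the label l e divides the difference of the values of φ at
its two endpoints (for l e = 0 this forces equal values), and let its multidegree be the vector
whose value at v is the sum, over the edge-ends at v, of (value of φ at the other endpoint − φ(v)) /
l e (zero for l e = 0). Then, for a vector d : V → ℤ, the following are equivalent: (a) there is an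
invertible O_X-module L whose pullback to the generic fibre X_K is isomorphic to the structure sheaf
and whose degree on X_v (over k) is d v for every v; (b) d is the multidegree of some Cartier vertex
labelling. (The published lemma identifies the group of Cartier divisors on X trivial on X_K with
the group of Cartier vertex labellings, compatibly with the multidegree of the associated invertible
module on the one side and the multidegree operator on the other; this row states the resulting
description of the set of multidegrees of generically trivial invertible modules.) -/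
theorem result
    (R : Type u) [CommRing R] [IsDomain R] [IsDiscreteValuationRing R]
    [PerfectField (FractionRing R)]
    {X : Scheme.{u}} (f : X ⟶ Spec (CommRingCat.of R)) [IsProper f]
    (hf : Curv2.IsNodalFamily f)
    (hconn : ∀ (L : Type u) [Field L] (t : Spec (CommRingCat.of L) ⟶ Spec (CommRingCat.of R)),
      ConnectedSpace ↑(Limits.pullback f t))
    (hsplit : ∀ y : ↥(f.fiber (IsLocalRing.closedPoint R)), IsClosed ({y} : Set ↥(f.fiber (IsLocalRing.closedPoint R))) →
        (∃ W : (f.fiber (IsLocalRing.closedPoint R)).Opens, y ∈ W ∧ Smooth (W.ι ≫ f.fiberToSpecResidueField (IsLocalRing.closedPoint R))) ∨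
        @Curv2.IsOrdDoublePt ((Spec (CommRingCat.of R)).residueField (IsLocalRing.closedPoint R)) _ ((f.fiber (IsLocalRing.closedPoint R)).presheaf.stalk y) _ (@Curv2.stalkAlgebra ((Spec (CommRingCat.of R)).residueField (IsLocalRing.closedPoint R)) _ (f.fiber (IsLocalRing.closedPoint R)) ⟨f.fiberToSpecResidueField (IsLocalRing.closedPoint R)⟩ y) _)
    {V E : Type} [Fintype V] [Fintype E] [DecidableEq V] [DecidableEq E]
    (cv : V → Set ↥(f.fiber (IsLocalRing.closedPoint R))) (ce : E → ↥(f.fiber (IsLocalRing.closedPoint R)))
    (ends : E → V × V) (ϖ : R) (hϖ : Irreducible ϖ) (l : E → ℕ)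
    (hΓ : DualGr.IsLabelledDualGraph R f cv ce ends (fun e => if l e = 0 then 0 else ϖ ^ l e))
    (Xv : V → ArSurf.VertComp R (Over.mk f))
    (hXv : ∀ v : V, Set.range ((Xv v).ι.base : ↥(Xv v).curve.left → ↥X) =
      ((f.fiberι (IsLocalRing.closedPoint R)).base : ↥(f.fiber (IsLocalRing.closedPoint R)) → ↥X) '' cv v)
    (d : V → ℤ) :
    (∃ L : X.Modules, PicF.IsInvertible L ∧
        Nonempty ((Scheme.Modules.pullback (Limits.pullback.fst f (Neron.genPt R))).obj L ≅
          Coh.structureModule (Limits.pullback f (Neron.genPt R))) ∧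
        ∀ v : V, ArSurf.inter R (Over.mk f) L (Xv v) = d v) ↔
      ∃ φ : V → ℤ, LabGraph.IsCartier ends l φ ∧ ∀ v : V, LabGraph.mdeg ends l φ v = d v := by
  classical
  have hflat : Flat f := hf.1
  have hlfp : LocallyOfFinitePresentation f := hf.2.1
  have hred := K793.NodalFib.isReduced_fiber f hf (IsLocalRing.closedPoint R)
  have hN : IsLocallyNoetherian X := LocallyOfFiniteType.isLocallyNoetherian f
  have hcX : CompactSpace X := QuasiCompact.compactSpace_of_compactSpace f
  have hqX : QuasiSeparatedSpace X := by
    have : QuasiSeparatedSpace ↥(Spec (CommRingCat.of R)) := inferInstance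
    exact quasiSeparatedSpace_of_quasiSeparated f
  have hpr : IsProper (Over.mk f).hom := (inferInstance : IsProper f)
  obtain ⟨η, hcv, S⟩ := K793.VertMain.exists_setup hϖ hΓ
  have hgp : ∀ v, Groth.Agent.Dix.InterSurf.gp (Xv v) = η v := by
    intro v
    have hmem : ∀ x : X, x ∈ Set.range (Xv v).ι ↔ ∃ z ∈ cv v, f.fiberι (IsLocalRing.closedPoint R) z = x := by
      intro x
      have := hXv v
      exact (Set.ext_iff.1 this x)
    obtain ⟨z, hz, hzx⟩ := (hmem (Groth.Agent.Dix.InterSurf.gp (Xv v))).1 ⟨_, rfl⟩
    have h1 : η v ⤳ Groth.Agent.Dix.InterSurf.gp (Xv v) := by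
      rw [← hzx]
      exact (hcv v z).1 hz
    obtain ⟨z', hz'⟩ := K793.Basic.exists_fiber_point f (η v) (S.gen.closed v)
    obtain ⟨y, hy⟩ : η v ∈ Set.range (Xv v).ι := (hmem _).2 ⟨z', (hcv v z').2 (by rw [hz']), hz'⟩
    have h2 : Groth.Agent.Dix.InterSurf.gp (Xv v) ⤳ η v := by
      rw [← hy]
      exact (genericPoint_specializes y).map (Xv v).ι.continuous
    exact (h2.antisymm h1).eq
  have hjr := K793.FibGeom.mem_range_iff f
  have hoi := K793.FibGeom.isOpenImmersion_fst f
  constructor
  · rintro ⟨L, hL, htriv, hdeg⟩
    obtain ⟨D, hD, hLD, hsupp⟩ := Groth.Agent.Models.H38.TrivGen.exists_divisor_of_trivial (K := FractionRing R)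
      (IsPullback.of_hasPullback f (Neron.genPt R)) hL htriv
    have hord : ∀ v, ∃ n : ℕ, Groth.Agent.Divis.CartierBasic.stalkIdeal D (η v) = Ideal.span {DualGr.stalkHom f (η v) ϖ ^ n} := by
      intro v
      obtain ⟨h1, h2⟩ := S.gen.isDiscreteValuationRing v
      obtain ⟨g, hg, hgJ⟩ := Groth.Agent.Divis.CartierBasic.exists_stalkIdeal_eq_span hD (η v)
      have hirr : Irreducible (DualGr.stalkHom f (η v) ϖ) := by
        rw [IsDiscreteValuationRing.irreducible_iff_uniformizer]
        exact S.gen.maximalIdeal_eq hϖ v
      obtain ⟨n, hn⟩ := IsDiscreteValuationRing.associated_pow_irreducible (nonZeroDivisors.ne_zero hg) hirr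
      exact ⟨n, by rw [hgJ]; exact Ideal.span_singleton_eq_span_singleton.2 hn⟩
    choose φ hφ using hord
    have hJ : K793.VertUniq.IsVert f ϖ η D φ := by
      refine ⟨hD, fun x hx => ?_, hφ⟩
      rw [← Groth.Agent.Divis.CartierBasic.notMem_support_iff_stalkIdeal_eq_top]
      intro h
      exact hx (hsupp h)
    refine ⟨fun v => φ v, fun e => hJ.dvd hϖ (K793.VertMain.Setup.hend₁ S e) (K793.VertMain.Setup.hend₂ S e) (S.data e).node, fun v => ?_⟩
    have h1 := hdeg v
    have h2 : ArSurf.inter R (Over.mk f) L (Xv v) = - Groth.Agent.Dix.InterSurf.dd (Xv v) D :=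
      Groth.Agent.Models.H39.InterProper.inter_of_isInverseOf (X := Over.mk f) hLD (Xv v)
    rw [h2, S.dd_vert hϖ (Xv v) v (hgp v) hJ, neg_neg] at h1
    exact h1
  · rintro ⟨φ, hφ, hd⟩
    let N : ℤ := ∑ v, |φ v|
    have hN : ∀ v, 0 ≤ φ v + N := by
      intro v
      have h3 : |φ v| ≤ N := Finset.single_le_sum (f := fun v => |φ v|) (fun _ _ => abs_nonneg _) (Finset.mem_univ v)
      have h4 := neg_abs_le (φ v)
      linarith
    have hN' : ∀ v, ((φ v + N).toNat : ℤ) = φ v + N := fun v => Int.toNat_of_nonneg (hN v)
    obtain ⟨J, hJ⟩ := S.exists_vert hϖ (fun v => (φ v + N).toNat) (fun e => by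
      rw [hN', hN']
      have : φ (ends e).1 + N - (φ (ends e).2 + N) = φ (ends e).1 - φ (ends e).2 := by ring
      rw [this]
      exact hφ e)
    have hinvJ := Groth.Agent.Dix.IdealModCartier.isInvertible_idealMod hJ.eff
    obtain ⟨L, hL, ⟨g⟩⟩ := Groth.Agent.Grpsch.PicGrp.exists_inverse hinvJ
    have hinv : ClSub.IsInverseOf L (ClSub.idealMod J) := ⟨Groth.Agent.Ega2.Tens.swap _ _ ≪≫ g⟩
    refine ⟨L, hL, ?_, fun v => ?_⟩
    · have hJK : J.comap (Limits.pullback.fst f (Neron.genPt R)) = 1 := by
        apply Groth.Agent.Divis.CartierBasic.ext_stalkIdeal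
        intro z
        rw [Groth.Agent.Divis.CartierStalk.stalkIdeal_comap, hJ.top _ ((hjr _).1 ⟨z, rfl⟩), Ideal.map_top,
          Scheme.IdealSheafData.one_eq_top, Groth.Agent.Divis.CartierBasic.stalkIdeal_top]
      have hJK' : BlowUp.IsEffCartierIdeal (J.comap (Limits.pullback.fst f (Neron.genPt R))) := by
        rw [hJK, Scheme.IdealSheafData.one_eq_top]
        exact Groth.Agent.Divis.EffCartier.isEff_top
      obtain ⟨e1⟩ := Groth.Agent.Dix.IdealModCartier.pullback_tensorMod (Limits.pullback.fst f (Neron.genPt R)) hL hinvJ
      obtain ⟨e2⟩ := Groth.Agent.Dix.IdealModCartier.pullback_idealMod (Limits.pullback.fst f (Neron.genPt R)) hJ.eff hJK'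
      obtain ⟨e3⟩ := hinv
      rw [hJK] at e2
      have e4 := (Scheme.Modules.pullback (Limits.pullback.fst f (Neron.genPt R))).mapIso e3
      have e5 := Groth.Agent.CurvesA.HHMap.pullbackUnit (Limits.pullback.fst f (Neron.genPt R))
      have m1 := (Groth.Agent.Fga.PicMon.mc_eq_iff _ _).2 ⟨e1.symm ≪≫ e4 ≪≫ e5⟩
      have m2 := (Groth.Agent.Fga.PicMon.mc_eq_iff _ _).2 ⟨e2⟩
      rw [Groth.Agent.Fga.PicMon.mc_tensor, m2, Groth.Agent.Models.H38.TrivGen.mc_idealMod_one, mul_one] at m1
      exact (Groth.Agent.Fga.PicMon.mc_eq_iff _ _).1 m1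
    · have h2 : ArSurf.inter R (Over.mk f) L (Xv v) = - Groth.Agent.Dix.InterSurf.dd (Xv v) J :=
        Groth.Agent.Models.H39.InterProper.inter_of_isInverseOf (X := Over.mk f) hinv (Xv v)
      rw [h2, S.dd_vert hϖ (Xv v) v (hgp v) hJ, neg_neg, ← hd v]
      unfold LabGraph.mdeg
      refine Finset.sum_congr rfl fun e _ => ?_
      simp only [hN']
      congr 1
      · split_ifs
        · congr 1; ring
        · rfl
      · split_ifs
        · congr 1; ring
        · rfl

end Groth.Agent.S14398
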