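import Groth.Statements.S14399
import Groth.Agent.SemiFact.K793.Vert
import Groth.Agent.SemiFact.K793.NodalFib

set_option autoImplicit false
universe u
open CategoryTheory AlgebraicGeometry
open SemiFact

namespace Groth.Agent.S14399

/-- Let R be a discrete valuation ring with perfect fraction field K and residue field k, and f : X →
Spec R a nodal curve (proper, flat, locally of finite presentation, geometric fibres connected with
one-dimensional irreducible components and at most ordinary double points) whose special fibre X_k
has split singularities: every closed point of X_k either has an open neighbourhood smooth over k or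
has completed local ring isomorphic over k to k[[u,v]]/(uv). Let L be an invertible O_X-module whose
pullback to the generic fibre X_K is isomorphic to the structure sheaf. If the degree over k of the
restriction of L to every irreducible component of X_k — each taken with its reduced structure, as
an integral curve over k closed-immersed in X over Spec R — is zero, then L is isomorphic to O_X.
(The published lemma states that the multidegree of generically trivial invertible modules is
computed by the multidegree operator on Cartier vertex labellings of the labelled dual graph, and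
its proof records that this multidegree map on generically trivial invertible modules is injective;
this row is that injectivity.) -/
theorem result
    (R : Type u) [CommRing R] [IsDomain R] [IsDiscreteValuationRing R]
    [PerfectField (FractionRing R)]
    {X : Scheme.{u}} (f : X ⟶ Spec (CommRingCat.of R)) [IsProper f]
    (hf : Curv2.IsNodalFamily f)
    (hconn : ∀ (L : Type u) [Field L] (t : Spec (CommRingCat.of L) ⟶ Spec (CommRingCat.of R)),
      ConnectedSpace ↑(Limits.pullback f t))
    (hsplit : ∀ y : ↥(f.fiber (IsLocalRing.closedPoint R)), IsClosed ({y} : Set ↥(f.fiber (IsLocalRing.closedPoint R))) →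
        (∃ W : (f.fiber (IsLocalRing.closedPoint R)).Opens, y ∈ W ∧ Smooth (W.ι ≫ f.fiberToSpecResidueField (IsLocalRing.closedPoint R))) ∨
        @Curv2.IsOrdDoublePt ((Spec (CommRingCat.of R)).residueField (IsLocalRing.closedPoint R)) _ ((f.fiber (IsLocalRing.closedPoint R)).presheaf.stalk y) _ (@Curv2.stalkAlgebra ((Spec (CommRingCat.of R)).residueField (IsLocalRing.closedPoint R)) _ (f.fiber (IsLocalRing.closedPoint R)) ⟨f.fiberToSpecResidueField (IsLocalRing.closedPoint R)⟩ y) _)
    (L : X.Modules) (hL : PicF.IsInvertible L)
    (hgen : Nonempty ((Scheme.Modules.pullback (Limits.pullback.fst f (Neron.genPt R))).obj L ≅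
      Coh.structureModule (Limits.pullback f (Neron.genPt R))))
    (hdeg : ∀ Γ : ArSurf.VertComp R (Over.mk f), ArSurf.inter R (Over.mk f) L Γ = 0) :
    Nonempty (L ≅ Coh.structureModule X) := by
  have hprop : IsProper (Over.mk f).hom := ‹IsProper f›
  have hflat : Flat f := hf.1
  have hred := K793.NodalFib.isReduced_fiber f hf (IsLocalRing.closedPoint R)
  have hN : IsLocallyNoetherian X := LocallyOfFiniteType.isLocallyNoetherian f
  have hc : CompactSpace X := QuasiCompact.compactSpace_of_compactSpace f
  have hNX : IsNoetherian X := { }
  have hcs := hconn (IsLocalRing.ResidueField R) (Spec.map (CommRingCat.ofHom (algebraMap R (IsLocalRing.ResidueField R))))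
  have hr := Groth.Agent.Models.H71.Comps.range_specialFibre (R := R) (p := f)
  have hconn' : _root_.IsConnected (Models.specialFibreSet R (Over.mk f)) := by
    rw [← hr]
    exact isConnected_range (Scheme.Hom.continuous _)
  obtain ⟨D, hD, hinv, hsupp⟩ := Groth.Agent.Models.H38.TrivGen.exists_divisor_of_trivial
    (IsPullback.of_hasPullback f (Neron.genPt R)) hL hgen
  obtain ⟨e⟩ := K793.Vert.nonempty_iso_of_dd_eq_zero f (hf.2.2 (IsLocalRing.closedPoint R)).1
    hconn'.isPreconnected hconn'.nonempty D hD hsupp (by
      intro Δ
      have h1 := hdeg Δ
      rw [Groth.Agent.Models.H39.InterProper.inter_of_isInverseOf (X := Over.mk f) hinv Δ] at h1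
      exact neg_eq_zero.1 h1)
  unfold ClSub.IsInverseOf at hinv
  rw [← Groth.Agent.Fga.PicMon.mc_eq_iff] at hinv ⊢
  rw [Groth.Agent.Fga.PicMon.mc_tensor, Groth.Agent.Fga.PicMon.mc_eq e, Groth.Agent.Fga.PicMon.mc_one, mul_one] at hinv
  rw [Groth.Agent.Fga.PicMon.mc_one]
  exact hinv

end Groth.Agent.S14399
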