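import Groth.Statements.S14400
import Groth.Agent.GalTw.K869.MorDesc

set_option autoImplicit false
universe u
open CategoryTheory CategoryTheory.Limits AlgebraicGeometry
open Desc

namespace Groth.Agent.S14400

/-- Let K/k be a finite Galois extension of fields, X and Y schemes over k with base changes X_K and
Y_K, and g : X_K ⟶ Y_K a morphism over Spec K. Then g is the base change of a k-morphism f : X ⟶ Y
(that is, g followed by the projection Y_K ⟶ Y is the projection X_K ⟶ X followed by f) if and only
if g commutes with the action of every k-automorphism σ of K on X_K and on Y_K (the identity on X,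
resp. Y, and Spec σ on the factor Spec K). In other words the image of the k-morphisms X ⟶ Y among
the K-morphisms X_K ⟶ Y_K is exactly the set of Galois-invariant ones. -/
theorem result (k : Type u) [Field k] (K : Type u) [Field K]
    [Algebra k K] [FiniteDimensional k K] [IsGalois k K]
    (X Y : Scheme.{u}) [X.Over (Spec (CommRingCat.of k))] [Y.Over (Spec (CommRingCat.of k))]
    (g : Curv2.bc k X K ⟶ Curv2.bc k Y K) (hg : g ≫ Curv2.bcSnd k Y K = Curv2.bcSnd k X K) :
    (∃ f : X ⟶ Y, f ≫ (Y ↘ Spec (CommRingCat.of k)) = X ↘ Spec (CommRingCat.of k) ∧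
        g ≫ Curv2.bcFst k Y K = Curv2.bcFst k X K ≫ f) ↔
      ∀ σ : K ≃ₐ[k] K, Curv2.galAct k X K σ ≫ g = g ≫ Curv2.galAct k Y K σ := by
  let X' : Over (Spec (CommRingCat.of k)) := Over.mk (X ↘ Spec (CommRingCat.of k))
  let Y' : Over (Spec (CommRingCat.of k)) := Over.mk (Y ↘ Spec (CommRingCat.of k))
  let g' : GalTw.bcK K X' ⟶ GalTw.bcK K Y' := Over.homMk g hg
  have key : ∀ σ : K ≃ₐ[k] K, Curv2.galAct k X K σ ≫ g = g ≫ Curv2.galAct k Y K σ ↔
      GalTw.twHom σ g' = g' := fun σ => (K869.MorDesc.twHom_eq_iff σ g' g').symm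
  constructor
  · rintro ⟨f, hf, hfg⟩ σ
    rw [key]
    let f' : X' ⟶ Y' := Over.homMk f hf
    have h1 : g' = (K869.MorDesc.F k K).map f' := by
      ext1
      apply Limits.pullback.hom_ext
      · rw [K869.MorDesc.map_left_fst]
        exact hfg
      · rw [K869.MorDesc.map_left_snd]
        exact hg
    rw [h1, K869.MorDesc.twHom_map]
  · intro h
    obtain ⟨f, hf⟩ := K869.MorDesc.exists_map_eq g' (fun σ => (key σ).1 (h σ))
    refine ⟨f.left, Over.w f, ?_⟩
    have h2 := K869.MorDesc.map_left_fst (K := K) f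
    rw [hf] at h2
    exact h2

end Groth.Agent.S14400
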