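import Groth.Statements.S14402
import Groth.Agent.CohtopA.PushClosed

set_option autoImplicit false
universe u
open CategoryTheory CategoryTheory.Limits
open CohTop

namespace Groth.Agent.S14402

theorem isZero_rightDerived_of_exact {A : Type*} [Category* A] [Abelian A] [HasInjectiveResolutions A]
    {B : Type*} [Category* B] [Abelian B] (F : A ⥤ B) [F.Additive] [PreservesFiniteLimits F]
    [PreservesFiniteColimits F] (M : A) (n : ℕ) : IsZero ((F.rightDerived (n + 1)).obj M) := by
  refine IsZero.of_iso ?_ ((injectiveResolution M).isoRightDerivedObj F (n + 1))
  have h1 := (injectiveResolution M).cocomplex_exactAt_succ n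
  have h2 : (((F.mapHomologicalComplex (ComplexShape.up ℕ)).obj
      (injectiveResolution M).cocomplex).sc (n + 1)).Exact :=
    ShortComplex.Exact.map h1 F
  exact (ShortComplex.exact_iff_isZero_homology _).1 h2


/-- If a continuous map f : X → Y is a closed embedding (a homeomorphism onto a closed subset), then for
every abelian sheaf F on X and every q ≥ 0 the higher direct image R^{q+1} f_* F is zero. (The
published statement is for modules over a sheaf of rings on X along a morphism of ringed spaces;
this row is the case of abelian sheaves, the sheaf of rings being the constant sheaf ℤ.) -/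
theorem result {X Y : TopCat.{u}} (f : X ⟶ Y)
    (hf : Topology.IsClosedEmbedding f) (F : CohTop.Ab X) (q : ℕ) :
    IsZero ((CohTop.Rpush f (q + 1)).obj F) := by
  have hex : PreservesFiniteColimits (CohTop.push f) :=
    Groth.Agent.CohtopA.PushClosed.preservesFiniteColimits_push_of_isClosedEmbedding f hf
  have hl' : PreservesLimitsOfSize.{0, 0} (CohTop.push f) :=
    (CohtopB.TopPull.adj f).rightAdjoint_preservesLimits
  have hl : PreservesFiniteLimits (CohTop.push f) :=
    PreservesLimitsOfSize.preservesFiniteLimits.{0, 0} _
  exact isZero_rightDerived_of_exact (CohTop.push f) F q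

end Groth.Agent.S14402
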