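import Groth.Statements.S14404
import Groth.Agent.FlatMor.K262.FlatDim2

set_option autoImplicit false
universe u
open CategoryTheory AlgebraicGeometry
open FlatMor
open K262.FlatDim Groth.Agent.CycB.RelDim Groth.Agent.Ega4fib.H174

namespace Groth.Agent.S14404

/-- Let k be a field, X and Y irreducible schemes of finite type over k and f : X ⟶ Y a flat k-morphism.
Then dim Y ≤ dim X, and for every point y of Y every irreducible component Z of the scheme-theoretic
fibre of f over y has dim Z + dim Y = dim X; that is, every non-empty fibre has all its irreducible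
components of dimension dim X − dim Y. -/
theorem result (k : Type u) [Field k]
    {X Y : Scheme.{u}} (qX : X ⟶ Spec (CommRingCat.of k)) (qY : Y ⟶ Spec (CommRingCat.of k))
    [LocallyOfFiniteType qX] [QuasiCompact qX] [LocallyOfFiniteType qY] [QuasiCompact qY]
    [IrreducibleSpace X] [IrreducibleSpace Y] (f : X ⟶ Y) (hf : f ≫ qY = qX) [Flat f] :
    topologicalKrullDim Y ≤ topologicalKrullDim X ∧
      ∀ (y : Y), ∀ Z ∈ irreducibleComponents (f.fiber y : Type u),
        topologicalKrullDim Z + topologicalKrullDim Y = topologicalKrullDim X := by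
  have hlf : LocallyOfFiniteType f := by
    have : LocallyOfFiniteType (f ≫ qY) := by rw [hf]; infer_instance
    exact locallyOfFiniteType_of_comp f qY
  obtain ⟨e, he1, he2⟩ := dim_closure qX (genericPoint X)
  obtain ⟨d, hd1, hd2⟩ := dim_closure qY (genericPoint Y)
  rw [genericPoint_closure] at he2 hd2
  have hX : topologicalKrullDim X = e := by
    rw [← he2]; exact (IsHomeomorph.topologicalKrullDim_eq _ (Homeomorph.Set.univ X).isHomeomorph).symm
  have hY : topologicalKrullDim Y = d := by
    rw [← hd2]; exact (IsHomeomorph.topologicalKrullDim_eq _ (Homeomorph.Set.univ Y).isHomeomorph).symm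
  have hmax : ∀ ξ : X, (∀ z : X, z ⤳ ξ → z = ξ) → ξ = genericPoint X := fun ξ hξ =>
    (hξ _ (genericPoint_specializes ξ)).symm
  have hη : f (genericPoint X) = genericPoint Y := by
    refine (maximal_image f (ξ := genericPoint X) (fun z hz => ?_) _ (genericPoint_specializes _)).symm
    exact (hz.antisymm (genericPoint_specializes z)).eq
  obtain ⟨r, hr1, hr2⟩ := dim_closure_fiber f (f (genericPoint X)) (f.asFiber (genericPoint X))
  rw [f.fiberι_asFiber] at hr1
  have hsum : e = d + r := by
    have h1 := rtd_comp f qY (genericPoint X)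
    rw [hf, he1, hη, hd1, hr1] at h1
    exact_mod_cast h1
  refine ⟨?_, ?_⟩
  · rw [hX, hY, hsum]
    exact_mod_cast Nat.le_add_right d r
  · intro y Z hZ
    obtain ⟨z, hz, rfl⟩ := Equidim.mem_irreducibleComponents_iff.mp hZ
    obtain ⟨ξ, h1, h2, h3⟩ := exists_component f y z hz
    obtain ⟨m, hm1, hm2⟩ := dim_closure_fiber f y z
    rw [hmax ξ h2, hm1, hr1] at h3
    have hmr : m = r := by exact_mod_cast h3
    rw [hm2, hX, hY, hmr, hsum, add_comm d r]
    push_cast
    rfl

end Groth.Agent.S14404
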