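import Groth.Statements.S14405
import Mathlib.NumberTheory.BernoulliPolynomials

set_option autoImplicit false
open Polynomial
open HilbNum

namespace Groth.Agent.S14405

theorem natDegree_bernoulli (n : ℕ) : (Polynomial.bernoulli n).natDegree = n := by
  apply Polynomial.natDegree_eq_of_le_of_coeff_ne_zero
  · rw [Polynomial.natDegree_le_iff_coeff_eq_zero]
    intro N hN
    rw [Polynomial.coeff_bernoulli, if_neg (by omega)]
  · rw [Polynomial.coeff_bernoulli, if_pos le_rfl]
    simp

/-- Let φ be a function from the integers to the rationals and Q a nonzero polynomial with rational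
coefficients of degree d such that φ(m) - φ(m-1) = Q(m) for every integer m. Then there is a
polynomial P with rational coefficients, of degree d + 1, such that φ(m) = P(m) for every integer m.
(The explicit form of P in the binomial basis is not part of this statement.) -/
theorem result (φ : ℤ → ℚ) (d : ℕ) (Q : ℚ[X]) (hQ : Q ≠ 0)
    (hd : Q.natDegree = d) (h : ∀ m : ℤ, φ m - φ (m - 1) = Q.eval (m : ℚ)) :
    ∃ P : ℚ[X], P.natDegree = d + 1 ∧ ∀ m : ℤ, φ m = P.eval (m : ℚ) := by
  set R : ℕ → ℚ[X] := fun k =>
    C (Q.coeff k / (k + 1)) * (Polynomial.bernoulli (k + 1)).comp (1 + X) with hR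
  set P0 : ℚ[X] := ∑ k ∈ Finset.range (d + 1), R k with hP0
  have hcomp : ∀ k : ℕ, ((Polynomial.bernoulli (k + 1)).comp (1 + X)).natDegree = k + 1 := by
    intro k
    rw [Polynomial.natDegree_comp, natDegree_bernoulli, add_comm (1 : ℚ[X]) X,
      ← Polynomial.C_1, Polynomial.natDegree_X_add_C, mul_one]
  have hle : ∀ k : ℕ, (R k).natDegree ≤ k + 1 := fun k =>
    (Polynomial.natDegree_C_mul_le _ _).trans (hcomp k).le
  have hlead : Q.coeff d ≠ 0 := by
    rw [← hd]; exact Polynomial.leadingCoeff_ne_zero.mpr hQ
  have hlast : (R d).natDegree = d + 1 := by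
    rw [hR]
    simp only
    rw [Polynomial.natDegree_C_mul, hcomp]
    exact div_ne_zero hlead (by positivity)
  have hdeg : P0.natDegree = d + 1 := by
    rw [hP0, Finset.sum_range_succ, Polynomial.natDegree_add_eq_right_of_natDegree_lt, hlast]
    rw [hlast]
    refine lt_of_le_of_lt (Polynomial.natDegree_sum_le_of_forall_le (n := d) _ _ ?_) (Nat.lt_succ_self d)
    intro k hk
    exact (hle k).trans (by have := Finset.mem_range.mp hk; omega)
  have hdiff : ∀ x : ℚ, P0.eval x - P0.eval (x - 1) = Q.eval x := by
    intro x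
    rw [hP0, Polynomial.eval_finset_sum, Polynomial.eval_finset_sum, ← Finset.sum_sub_distrib,
      Polynomial.eval_eq_sum_range, hd]
    refine Finset.sum_congr rfl fun k _ => ?_
    simp only [hR, Polynomial.eval_mul, Polynomial.eval_C, Polynomial.eval_comp,
      Polynomial.eval_add, Polynomial.eval_one, Polynomial.eval_X]
    rw [Polynomial.bernoulli_eval_one_add]
    have hx : (1 : ℚ) + (x - 1) = x := by ring
    rw [hx]
    have hk : ((k : ℚ) + 1) ≠ 0 := by positivity
    have : k + 1 - 1 = k := rfl
    rw [this]
    push_cast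
    field_simp
    ring
  refine ⟨P0 + C (φ 0 - P0.eval 0), ?_, ?_⟩
  · rw [Polynomial.natDegree_add_C, hdeg]
  · intro m
    have key : ∀ m : ℤ, φ m - P0.eval (m : ℚ) = φ (m - 1) - P0.eval ((m - 1 : ℤ) : ℚ) := by
      intro m
      have h1 := h m
      have h2 := hdiff (m : ℚ)
      push_cast
      linarith
    have const : ∀ m : ℤ, φ m - P0.eval (m : ℚ) = φ 0 - P0.eval 0 := by
      intro m
      induction m using Int.induction_on with
      | zero => simp
      | succ i ih =>
        rw [key]
        simpa using ih
      | pred i ih =>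
        rw [← ih, key (-(i : ℤ))]
    rw [Polynomial.eval_add, Polynomial.eval_C, ← const m]
    ring

end Groth.Agent.S14405
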