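import Groth.Statements.S14410
import Mathlib.Topology.Sheaves.Flasque
import Mathlib.Tactic.Abel

set_option autoImplicit false
universe u
open CategoryTheory TopologicalSpace
open CohTop

namespace Groth.Agent.S14410

/-- Let X be a topological space and 0 → F₁ → F₂ → F₃ → 0 a short exact sequence of sheaves of abelian
groups on X. If F₁ and F₃ are flasque (every restriction map is surjective), then F₂ is flasque.
(The published statement is for O_X-modules on a ringed space and is an equivalence; this row states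
the implication from the outer terms to the middle term, for the underlying abelian sheaves.) -/
theorem result (X : TopCat.{u})
    (S : ShortComplex (TopCat.Sheaf AddCommGrpCat.{u} X)) (hS : S.ShortExact)
    [S.X₁.IsFlasque] [S.X₃.IsFlasque] : S.X₂.IsFlasque := by
  constructor
  intro U V i
  rw [AddCommGrpCat.epi_iff_surjective]
  intro s
  have nat1 : ∀ x, (S.f.hom.app V).hom ((S.X₁.obj.map i).hom x) =
      (S.X₂.obj.map i).hom ((S.f.hom.app U).hom x) := fun x =>
    ConcreteCategory.congr_hom (S.f.hom.naturality i) x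
  have nat2 : ∀ x, (S.g.hom.app V).hom ((S.X₂.obj.map i).hom x) =
      (S.X₃.obj.map i).hom ((S.g.hom.app U).hom x) := fun x =>
    ConcreteCategory.congr_hom (S.g.hom.naturality i) x
  have h3 : Epi (S.X₃.obj.map i) := inferInstance
  rw [AddCommGrpCat.epi_iff_surjective] at h3
  obtain ⟨t3, ht3⟩ := h3 ((S.g.hom.app V).hom s)
  have h23 : Epi (S.g.hom.app (Opposite.op U.unop)) := TopCat.Sheaf.IsFlasque.epi_of_shortExact hS
  rw [AddCommGrpCat.epi_iff_surjective] at h23
  obtain ⟨t2, ht2⟩ := h23 t3
  have h0 : (S.g.hom.app (Opposite.op V.unop)).hom (s - (S.X₂.obj.map i).hom t2) = 0 := by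
    have e : (S.g.hom.app V).hom (s - (S.X₂.obj.map i).hom t2) = 0 := by
      rw [map_sub, nat2, sub_eq_zero]
      exact (ht3.symm.trans (congrArg _ ht2.symm))
    exact e
  have := hS.mono_f
  obtain ⟨t1, ht1⟩ := TopCat.Sheaf.sections_exact_of_left_exact hS.1 hS.2 _ h0
  have h1 : Epi (S.X₁.obj.map i) := inferInstance
  rw [AddCommGrpCat.epi_iff_surjective] at h1
  obtain ⟨u1, hu1⟩ := h1 t1
  refine ⟨t2 + (S.f.hom.app U).hom u1, ?_⟩
  have e : (S.X₂.obj.map i).hom (t2 + (S.f.hom.app U).hom u1) = s := by
    rw [map_add, ← nat1]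
    have e1 : (S.X₁.obj.map i).hom u1 = t1 := hu1
    have e2 : (S.f.hom.app V).hom t1 = s - (S.X₂.obj.map i).hom t2 := ht1
    rw [e1, e2]
    abel
  exact e

end Groth.Agent.S14410
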