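import Groth.Statements.S14416
import Mathlib.RingTheory.LocalRing.Module
import Mathlib.LinearAlgebra.TensorProduct.RightExactness
import Mathlib.LinearAlgebra.FiniteDimensional.Lemmas
import Mathlib.RingTheory.TensorProduct.Finite
import Mathlib.RingTheory.Support

set_option autoImplicit false
universe u
open scoped TensorProduct
open CAlg

namespace Groth.Agent.S14416

/-- Let B → A be a ring map with A a finitely generated B-module such that for every prime ideal p of B
the fibre κ(p) ⊗_B A has dimension at most one over the residue field κ(p). Then B → A is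
surjective. In scheme language: a finite morphism whose degree at every point of the target is 0 or
1 is a closed immersion. (The published statement assumes the two schemes Noetherian; that
hypothesis plays no role and is dropped here.) -/
theorem result
    (B A : Type u) [CommRing B] [CommRing A] [Algebra B A] [Module.Finite B A]
    (h : ∀ p : PrimeSpectrum B,
      Module.finrank p.asIdeal.ResidueField (p.asIdeal.ResidueField ⊗[B] A) ≤ 1) :
    Function.Surjective (algebraMap B A) := by
  set N : Submodule B A := LinearMap.range (Algebra.linearMap B A) with hN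
  have hsub : Subsingleton (A ⧸ N) := by
    rw [← Module.support_eq_empty_iff (R := B), Set.eq_empty_iff_forall_notMem]
    intro p hp
    rw [Module.mem_support_iff_nontrivial_residueField_tensorProduct] at hp
    rw [← not_subsingleton_iff_nontrivial] at hp
    apply hp
    -- the map `κ ⊗ A → κ ⊗ (A / B)` is surjective and kills `1`
    let κ := p.asIdeal.ResidueField
    let π : κ ⊗[B] A →ₗ[κ] κ ⊗[B] (A ⧸ N) := N.mkQ.baseChange κ
    have hπ : Function.Surjective π := LinearMap.lTensor_surjective κ N.mkQ_surjective
    have h1 : π 1 = 0 := by
      have : N.mkQ (1 : A) = 0 := by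
        rw [Submodule.mkQ_apply, Submodule.Quotient.mk_eq_zero]
        exact ⟨1, by simp⟩
      rw [Algebra.TensorProduct.one_def, LinearMap.baseChange_tmul, this, TensorProduct.tmul_zero]
    by_cases h0 : (1 : κ ⊗[B] A) = 0
    · have := subsingleton_of_zero_eq_one h0.symm
      exact hπ.subsingleton
    · have h2 : ∀ x : κ ⊗[B] A, ∃ c : κ, c • (1 : κ ⊗[B] A) = x := by
        have h3 : Module.finrank κ (κ ⊗[B] A) = 1 := by
          refine le_antisymm (h p) ?_
          have : Nontrivial (κ ⊗[B] A) := ⟨⟨1, 0, h0⟩⟩
          exact Module.finrank_pos
        exact (finrank_eq_one_iff_of_nonzero' _ h0).1 h3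
      refine ⟨fun a b => ?_⟩
      obtain ⟨a, rfl⟩ := hπ a
      obtain ⟨b, rfl⟩ := hπ b
      obtain ⟨c, rfl⟩ := h2 a
      obtain ⟨d, rfl⟩ := h2 b
      rw [map_smul, map_smul, h1, smul_zero, smul_zero]
  rw [Submodule.Quotient.subsingleton_iff, hN, LinearMap.range_eq_top] at hsub
  exact hsub

end Groth.Agent.S14416
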