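import Groth.Statements.S14417
import Groth.Agent.Variety.K429.GenSm

set_option autoImplicit false
universe u
open CategoryTheory AlgebraicGeometry
open Variety

namespace Groth.Agent.S14417

/-- Generic smoothness on the source: let π : X → Y be a dominant morphism of finite type between
integral Noetherian schemes, sending the generic point of X to that of Y, such that the function
field K(Y) (equivalently K(X)) has characteristic zero, and let n be the transcendence degree of
K(X) over K(Y). Then there is a nonempty (equivalently dense) open subscheme U of X on which π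
restricts to a smooth morphism U → Y of relative dimension n. -/
theorem result
    (X Y : Scheme.{u}) [IsIntegral X] [IsIntegral Y] [IsNoetherian X] [IsNoetherian Y]
    (π : X ⟶ Y) [LocallyOfFiniteType π] [QuasiCompact π]
    (hdom : π.base (genericPoint X) = genericPoint Y) [CharZero Y.functionField]
    (n : ℕ) (hn : @Algebra.trdeg (Y.presheaf.stalk (π.base (genericPoint X))) X.functionField _ _
      (π.stalkMap (genericPoint X)).hom.toAlgebra = n) :
    ∃ U : X.Opens, (U : Set X).Nonempty ∧ SmoothOfRelativeDimension n (U.ι ≫ π) := by
  have hX : IsField (X.presheaf.stalk (genericPoint X)) :=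
    isField_stalk_of_closure_mem_irreducibleComponents X _ (by simp [irreducibleComponents_eq_singleton])
  have hY : IsField (Y.presheaf.stalk (π (genericPoint X))) := by
    refine isField_stalk_of_closure_mem_irreducibleComponents Y _ ?_
    rw [show π (genericPoint X) = genericPoint Y from hdom]
    simp [irreducibleComponents_eq_singleton]
  have h0 : CharZero (Y.presheaf.stalk (π (genericPoint X))) := by
    have h : CharZero (Y.presheaf.stalk (genericPoint Y)) := ‹CharZero Y.functionField›
    rw [show π (genericPoint X) = genericPoint Y from hdom]
    exact h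
  have hfp : LocallyOfFinitePresentation π := LocallyOfFinitePresentation.iff_locallyOfFiniteType.mpr inferInstance
  have hfs := K429.GenSm.formallySmooth_stalkMap π (genericPoint X) hX hY h0
  obtain ⟨m, U, hU, V, hV, hxV, e, hst⟩ := K429.GenSm.exists_chart π (genericPoint X) hfs
  have hneV : Nonempty V := ⟨⟨_, hxV⟩⟩
  have hneU : Nonempty U := ⟨⟨_, e hxV⟩⟩
  have hmn : m = n := by
    letI := hX.toField
    letI := hY.toField
    have h1 := K429.GenSm.trd_of_standardSmooth (π.appLE U V e).hom m hst
      (Y.presheaf.germ U (π (genericPoint X)) (e hxV)).hom (X.presheaf.germ V (genericPoint X) hxV).hom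
      (π.stalkMap (genericPoint X)).hom (by
        rw [← CommRingCat.hom_comp, ← CommRingCat.hom_comp, Scheme.Hom.germ_stalkMap, Scheme.Hom.appLE, Category.assoc,
          TopCat.Presheaf.germ_res])
      (K429.GenSm.fracGen_germ U hU _ _ hY) (K429.GenSm.fracGen_germ V hV _ _ hX)
      (germ_injective_of_isIntegral Y _ _) (germ_injective_of_isIntegral X _ _)
    have h2 : (n : Cardinal.{u}) = m := hn.symm.trans h1
    exact_mod_cast h2.symm
  subst hmn
  exact ⟨V, ⟨_, hxV⟩, Groth.Agent.Ega2.GeoRelDim.smoothOfRelativeDimension_ι_comp π m U hU V hV e hst⟩

end Groth.Agent.S14417
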