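import Groth.Statements.S14418
import Mathlib.RingTheory.Ideal.AssociatedPrime.Finiteness
import Mathlib.RingTheory.Nakayama
import Mathlib.Algebra.Homology.ShortComplex.ModuleCat

set_option autoImplicit false
universe u
open CategoryTheory
open CAlg

namespace Groth.Agent.S14418

open IsLocalRing

theorem key {B A : Type u} [CommRing B] [CommRing A]
    [IsNoetherianRing B] [IsLocalRing B] [IsNoetherianRing A] [IsLocalRing A] [Algebra B A]
    [IsLocalHom (algebraMap B A)] (T : ModuleCat.{u} B ⥤ ModuleCat.{u} A) [T.Additive]
    (hlin : ∀ (N : ModuleCat.{u} B) (b : B),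
      T.map (ModuleCat.ofHom (b • (LinearMap.id : N →ₗ[B] N))) =
        ModuleCat.ofHom (algebraMap B A b • (LinearMap.id : T.obj N →ₗ[A] T.obj N)))
    (hfin : ∀ N : ModuleCat.{u} B, Module.Finite B N → Module.Finite A (T.obj N))
    (hex : ∀ S : ShortComplex (ModuleCat.{u} B), S.ShortExact → Module.Finite B S.X₁ →
      Module.Finite B S.X₂ → Module.Finite B S.X₃ → (S.map T).Exact)
    (h0 : Limits.IsZero (T.obj (ModuleCat.of B (B ⧸ IsLocalRing.maximalIdeal B)))) :
    ∀ I : Ideal B, ∀ (N : Type u) [AddCommGroup N] [Module B N] [Module.Finite B N],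
      (∀ a ∈ I, ∀ x : N, a • x = 0) → Limits.IsZero (T.obj (ModuleCat.of B N)) := by
  intro I
  induction I using WellFoundedGT.induction with
  | ind I ih =>
  intro N _ _ hfN
  -- exactness for linear maps
  have hexact : ∀ (N₁ N₂ N₃ : Type u) [AddCommGroup N₁] [Module B N₁] [Module.Finite B N₁]
      [AddCommGroup N₂] [Module B N₂] [Module.Finite B N₂]
      [AddCommGroup N₃] [Module B N₃] [Module.Finite B N₃] (f : N₁ →ₗ[B] N₂) (g : N₂ →ₗ[B] N₃)
      (_ : Function.Injective f) (_ : Function.Surjective g) (h : Function.Exact f g),
      ∃ w : T.map (ModuleCat.ofHom f) ≫ T.map (ModuleCat.ofHom g) = 0,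
        (ShortComplex.mk (T.map (ModuleCat.ofHom f)) (T.map (ModuleCat.ofHom g)) w).Exact := by
    intro N₁ N₂ N₃ _ _ _ _ _ _ _ _ _ f g hf hg h
    let S : ShortComplex (ModuleCat.{u} B) := ShortComplex.mk (ModuleCat.ofHom f) (ModuleCat.ofHom g)
      (by rw [← ModuleCat.ofHom_comp, h.linearMap_comp_eq_zero]; rfl)
    have hS : S.ShortExact :=
      { exact := (ShortComplex.ShortExact.moduleCat_exact_iff_function_exact _).2 h
        mono_f := (ModuleCat.mono_iff_injective _).2 hf
        epi_g := (ModuleCat.epi_iff_surjective _).2 hg }
    exact ⟨(S.map T).zero, hex S hS ‹_› ‹_› ‹_›⟩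
  induction hfN using IsNoetherianRing.induction_on_isQuotientEquivQuotientPrime with
  | subsingleton N =>
    intro _
    exact T.map_isZero (ModuleCat.isZero_of_subsingleton _)
  | exact N₁ N₂ N₃ f g hf hg hfg ih₁ ih₃ =>
    intro h₂
    have z₁ := ih₁ (fun a ha x => hf (by rw [map_smul, h₂ a ha, map_zero]))
    have z₃ := ih₃ (fun a ha x => by
      obtain ⟨y, rfl⟩ := hg x
      rw [← map_smul, h₂ a ha, map_zero])
    obtain ⟨w, hw⟩ := hexact N₁ N₂ N₃ f g hf hg hfg
    exact hw.isZero_of_both_zeros (z₁.eq_of_src _ _) (z₃.eq_of_tgt _ _)
  | quotient N p e =>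
    intro hN
    have hkill : ∀ a ∈ p.asIdeal, ∀ x : N, a • x = 0 := by
      intro a ha x
      apply e.injective
      rw [map_smul, map_zero]
      obtain ⟨y, hy⟩ := Ideal.Quotient.mk_surjective (e x)
      rw [← hy, Algebra.smul_def, Ideal.Quotient.algebraMap_eq, ← map_mul,
        Ideal.Quotient.eq_zero_iff_mem]
      exact Ideal.mul_mem_right _ _ ha
    have hIp : I ≤ p.asIdeal := by
      intro a ha
      have h1 := hN a ha (e.symm (Ideal.Quotient.mk _ 1))
      rw [← map_smul, LinearEquiv.map_eq_zero_iff, Algebra.smul_def, Ideal.Quotient.algebraMap_eq,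
        ← map_mul, mul_one, Ideal.Quotient.eq_zero_iff_mem] at h1
      exact h1
    rcases hIp.eq_or_lt with hIp | hIp
    · by_cases hp : p.asIdeal = maximalIdeal B
      · refine h0.of_iso (T.mapIso ?_)
        exact (e.trans (Submodule.quotEquivOfEq _ _ hp)).toModuleIso
      · have hlt : p.asIdeal < maximalIdeal B :=
          lt_of_le_of_ne (IsLocalRing.le_maximalIdeal p.2.ne_top) hp
        obtain ⟨x, hx, hxp⟩ := SetLike.exists_of_lt hlt
        let f : N →ₗ[B] N := x • LinearMap.id
        have hf : Function.Injective f := by
          rw [injective_iff_map_eq_zero]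
          intro y hy
          have h1 : x • e y = 0 := by
            rw [← map_smul]
            have : x • y = 0 := hy
            rw [this, map_zero]
          apply e.injective
          rw [map_zero]
          obtain ⟨z, hz⟩ := Ideal.Quotient.mk_surjective (e y)
          rw [← hz] at h1 ⊢
          rw [Algebra.smul_def, Ideal.Quotient.algebraMap_eq, ← map_mul,
            Ideal.Quotient.eq_zero_iff_mem] at h1
          rw [Ideal.Quotient.eq_zero_iff_mem]
          exact (p.2.mem_or_mem h1).resolve_left hxp
        obtain ⟨w, hw⟩ := hexact N N (N ⧸ LinearMap.range f) f (LinearMap.range f).mkQ hf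
          (Submodule.mkQ_surjective _) (LinearMap.exact_map_mkQ_range f)
        have z₃ : Limits.IsZero (T.obj (ModuleCat.of B (N ⧸ LinearMap.range f))) := by
          refine ih (I ⊔ Ideal.span {x}) ?_ _ ?_
          · refine lt_of_le_of_ne le_sup_left fun h => hxp ?_
            rw [← hIp, h]
            exact Ideal.mem_sup_right (Ideal.mem_span_singleton_self x)
          · intro a ha y
            obtain ⟨y, rfl⟩ := Submodule.mkQ_surjective _ y
            rw [← map_smul, Submodule.mkQ_apply, Submodule.Quotient.mk_eq_zero]
            obtain ⟨i, hi, c, hc, rfl⟩ := Submodule.mem_sup.1 ha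
            obtain ⟨c, rfl⟩ := Ideal.mem_span_singleton'.1 hc
            rw [add_smul, hN i hi, zero_add]
            refine ⟨c • y, ?_⟩
            change x • c • y = _
            rw [smul_smul, mul_comm]
        have hepi := hw.epi_f (z₃.eq_of_tgt _ _)
        have hsurj := (ModuleCat.epi_iff_surjective _).1 hepi
        have hfinT := hfin (ModuleCat.of B N) ‹_›
        have hsub : Subsingleton (T.obj (ModuleCat.of B N)) := by
          rw [← Submodule.subsingleton_iff A]
          refine subsingleton_of_bot_eq_top ?_
          symm
          refine Submodule.eq_bot_of_le_smul_of_le_jacobson_bot (maximalIdeal A) _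
            (Module.finite_def.1 hfinT) ?_ ?_
          · intro y _
            obtain ⟨z, hz⟩ := hsurj y
            have h2 := hlin (ModuleCat.of B N) x
            have h3 : T.map (ModuleCat.ofHom f) = ModuleCat.ofHom (algebraMap B A x •
              (LinearMap.id : T.obj (ModuleCat.of B N) →ₗ[A] T.obj (ModuleCat.of B N))) := h2
            change (T.map (ModuleCat.ofHom f)) z = y at hz
            rw [h3] at hz
            rw [← hz]
            exact Submodule.smul_mem_smul (by
              rw [mem_maximalIdeal, mem_nonunits_iff, isUnit_map_iff]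
              exact (mem_maximalIdeal x).1 hx) trivial
          · rw [IsLocalRing.jacobson_eq_maximalIdeal _ bot_ne_top]
        exact ModuleCat.isZero_of_subsingleton _
    · exact ih p.asIdeal hIp N hkill

/-- Let B → A be a local homomorphism of Noetherian local rings, n the maximal ideal of B, and T an
additive functor from B-modules to A-modules which is B-linear (T applied to multiplication by b ∈ B
is multiplication by the image of b in A), carries finitely generated B-modules to finitely
generated A-modules, and is half-exact on finitely generated modules (every short exact sequence of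
finitely generated B-modules goes to a sequence exact at its middle term). If T(B/n) = 0 then T(N) =
0 for every finitely generated B-module N. (The published statement takes T defined on finitely
generated modules only; here T is defined on all B-modules while every hypothesis and the conclusion
concern finitely generated modules.) -/
theorem result {B A : Type u} [CommRing B] [CommRing A]
    [IsNoetherianRing B] [IsLocalRing B] [IsNoetherianRing A] [IsLocalRing A] [Algebra B A]
    [IsLocalHom (algebraMap B A)] (T : ModuleCat.{u} B ⥤ ModuleCat.{u} A) [T.Additive]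
    (hlin : ∀ (N : ModuleCat.{u} B) (b : B),
      T.map (ModuleCat.ofHom (b • (LinearMap.id : N →ₗ[B] N))) =
        ModuleCat.ofHom (algebraMap B A b • (LinearMap.id : T.obj N →ₗ[A] T.obj N)))
    (hfin : ∀ N : ModuleCat.{u} B, Module.Finite B N → Module.Finite A (T.obj N))
    (hex : ∀ S : ShortComplex (ModuleCat.{u} B), S.ShortExact → Module.Finite B S.X₁ →
      Module.Finite B S.X₂ → Module.Finite B S.X₃ → (S.map T).Exact)
    (h0 : Limits.IsZero (T.obj (ModuleCat.of B (B ⧸ IsLocalRing.maximalIdeal B))))
    (N : ModuleCat.{u} B) [Module.Finite B N] : Limits.IsZero (T.obj N) :=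
  key T hlin hfin hex h0 ⊥ N (fun a ha x => by
    rw [Submodule.mem_bot] at ha
    rw [ha, zero_smul])

end Groth.Agent.S14418
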