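import Groth.Statements.S14420
import Groth.Agent.Localalg.Depth
import Groth.Agent.Ega4A.Depth
import Mathlib.RingTheory.KrullDimension.Module

set_option autoImplicit false
universe u
open CategoryTheory
open LocCoh

namespace Groth.Agent.S14420

/-- Let A be a Noetherian local ring and M, N nonzero finitely generated A-modules. Then Ext^i_A(N, M) =
0 for all i < depth M − dim Supp N. Here depth M = d and the Krull dimension of the support of N = r
are given as natural numbers and the conclusion is stated for every i with i + r < d. -/
theorem result (A : Type u) [CommRing A] [IsNoetherianRing A]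
    [IsLocalRing A] (M N : Type u) [AddCommGroup M] [Module A M] [AddCommGroup N] [Module A N]
    [Module.Finite A M] [Module.Finite A N] [Nontrivial M] [Nontrivial N]
    (d r i : ℕ) (hd : LocCoh.depth A M = d) (hr : Module.supportDim A N = r) (hi : i + r < d) :
    Subsingleton (Abelian.Ext (ModuleCat.of A N) (ModuleCat.of A M) i) := by
  have hN : Module.annihilator A N ≤ IsLocalRing.maximalIdeal A := by
    refine IsLocalRing.le_maximalIdeal fun h => ?_
    rw [Module.annihilator_eq_top_iff] at h
    exact not_subsingleton N h
  have h1 := Groth.Agent.Ega4A.Depth.depth_le_idealDepth_add (R := A) (M := M) hN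
  rw [← Module.supportDim_eq_ringKrullDim_quotient_annihilator, hr, hd] at h1
  refine Groth.Agent.Localalg.Depth.ext_subsingleton_of_lt_idealDepth (Module.annihilator A N) N
    (Module.support_eq_zeroLocus (R := A) (M := N)).le M i ?_
  by_contra hcon
  rw [not_lt] at hcon
  have h2 : ((d : ℕ) : WithBot ℕ∞) ≤ ((i + r : ℕ) : WithBot ℕ∞) := by
    refine h1.trans ?_
    push_cast
    gcongr
    exact WithBot.coe_le_coe.mpr hcon
  have h3 : d ≤ i + r := by exact_mod_cast h2
  omega

end Groth.Agent.S14420
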