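import Groth.Statements.S14421

set_option autoImplicit false
universe u v
open CategoryTheory
open HomAlg

namespace Groth.Agent.S14421

/-- Let φ : K → J be a morphism of cochain complexes of modules over a ring which is surjective in
degree p − 1. Then the map induced on cohomology in degree p is surjective if and only if the map
induced on cocycles in degree p is surjective. (Stated for cochain complexes indexed by the
integers; the published statement is for three-term complexes in degrees p − 1, p, p + 1, which
embed as such complexes.) -/
theorem result {R : Type u} [Ring R]
    (K J : CochainComplex (ModuleCat.{v} R) ℤ) (φ : K ⟶ J) (p : ℤ) [Epi (φ.f (p - 1))] :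
    Epi (HomologicalComplex.homologyMap φ p) ↔ Epi (HomologicalComplex.cyclesMap φ p) := by
  constructor
  · intro h
    rw [Preadditive.epi_iff_cancel_zero]
    intro T g hg
    have h1 : J.toCycles (p - 1) p ≫ g = 0 := by
      rw [← cancel_epi (φ.f (p - 1))]
      have : φ.f (p - 1) ≫ J.toCycles (p - 1) p = K.toCycles (p - 1) p ≫
          HomologicalComplex.cyclesMap φ p := by
        rw [← cancel_mono (J.iCycles p)]
        simp
      rw [reassoc_of% this, hg]
      simp
    have hc := J.homologyIsCokernel (p - 1) p (by simp)
    obtain ⟨g', hg'⟩ := Limits.CokernelCofork.IsColimit.desc' hc g h1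
    change J.homologyπ p ≫ g' = g at hg'
    have h2 : HomologicalComplex.homologyMap φ p ≫ g' = 0 := by
      rw [← cancel_epi (K.homologyπ p)]
      rw [HomologicalComplex.homologyπ_naturality_assoc, hg', hg]
      simp
    have h3 : g' = 0 := by
      rw [← cancel_epi (HomologicalComplex.homologyMap φ p), h2]
      simp
    rw [← hg', h3]
    simp
  · intro h
    have : Epi (K.homologyπ p ≫ HomologicalComplex.homologyMap φ p) := by
      rw [HomologicalComplex.homologyπ_naturality]
      infer_instance
    exact epi_of_epi (K.homologyπ p) _

end Groth.Agent.S14421
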