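import Groth.Statements.S14423
import Groth.Agent.CycA.TorShift
import Mathlib.RingTheory.MvPolynomial.Homogeneous
import Mathlib.RingTheory.Nakayama
import Mathlib.RingTheory.Polynomial.Basic
import Mathlib.LinearAlgebra.TensorProduct.Quotient

set_option autoImplicit false
universe u
open CategoryTheory
open CAlg

namespace Groth.Agent.S14423

open MvPolynomial TensorProduct

section Graded

variable (k : Type u) [Field k] (n : ℕ)
    (M : Type u) [AddCommGroup M] [Module (MvPolynomial (Fin (n + 1)) k) M]
    (ℳ : ℕ → AddSubgroup M)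
    [SetLike.GradedSMul (MvPolynomial.homogeneousSubmodule (Fin (n + 1)) k) ℳ]
    [DirectSum.Decomposition ℳ]

/-- The degree `d` component of `a • m`, `m` homogeneous of degree `e`. -/
theorem comp_smul (d e : ℕ) (m : M) (hm : m ∈ ℳ e) (a : MvPolynomial (Fin (n + 1)) k) :
    ((DirectSum.decompose ℳ (a • m) d : ℳ d) : M) =
      (∑ j ∈ Finset.range (a.totalDegree + 1), if j + e = d then homogeneousComponent j a else 0) • m := by
  conv_lhs => rw [← sum_homogeneousComponent a, Finset.sum_smul, DirectSum.decompose_sum]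
  rw [Finset.sum_smul, DirectSum.sum_apply, AddSubgroup.val_finsetSum]
  refine Finset.sum_congr rfl fun j _ => ?_
  have h1 : homogeneousComponent j a • m ∈ ℳ (j + e) :=
    SetLike.GradedSMul.smul_mem (A := MvPolynomial.homogeneousSubmodule (Fin (n + 1)) k) (B := ℳ)
      (homogeneousComponent_mem j a) hm
  split_ifs with hj
  · subst hj
    exact DirectSum.decompose_of_mem_same ℳ h1
  · rw [zero_smul]
    exact DirectSum.decompose_of_mem_ne ℳ h1 hj

theorem comp_smul_self (d : ℕ) (m : M) (hm : m ∈ ℳ d) (a : MvPolynomial (Fin (n + 1)) k) :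
    ((DirectSum.decompose ℳ (a • m) d : ℳ d) : M) = (C (constantCoeff a) : MvPolynomial (Fin (n + 1)) k) • m := by
  rw [comp_smul k n M ℳ d d m hm a]
  congr 1
  rw [Finset.sum_eq_single 0]
  · rw [if_pos (zero_add d), homogeneousComponent_zero]
    rfl
  · intro j _ hj
    rw [if_neg (by omega)]
  · intro h
    exact absurd (Finset.mem_range.2 (Nat.succ_pos _)) h

/-- A family of `r` homogeneous generators. -/
def HasGens (r : ℕ) : Prop :=
  ∃ (m : Fin r → M) (deg : Fin r → ℕ), (∀ i, m i ∈ ℳ (deg i)) ∧
    Submodule.span (MvPolynomial (Fin (n + 1)) k) (Set.range m) = ⊤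

omit [SetLike.GradedSMul (MvPolynomial.homogeneousSubmodule (Fin (n + 1)) k) ℳ] in
theorem exists_hasGens [Module.Finite (MvPolynomial (Fin (n + 1)) k) M] :
    ∃ r, HasGens k n M ℳ r := by
  classical
  obtain ⟨s, hs⟩ := (Module.finite_def.1 (inferInstance : Module.Finite (MvPolynomial (Fin (n + 1)) k) M))
  let t : Finset M := s.biUnion fun x => (DirectSum.decompose ℳ x).support.image
    fun i => ((DirectSum.decompose ℳ x i : ℳ i) : M)
  have ht : ∀ y ∈ t, ∃ d, y ∈ ℳ d := by
    intro y hy
    simp only [t, Finset.mem_biUnion, Finset.mem_image] at hy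
    obtain ⟨x, _, i, _, rfl⟩ := hy
    exact ⟨i, (DirectSum.decompose ℳ x i).2⟩
  have hspan : Submodule.span (MvPolynomial (Fin (n + 1)) k) (t : Set M) = ⊤ := by
    rw [eq_top_iff, ← hs, Submodule.span_le]
    intro x hx
    rw [SetLike.mem_coe, ← DirectSum.sum_support_decompose ℳ x]
    refine Submodule.sum_mem _ fun i hi => Submodule.subset_span ?_
    simp only [t, Finset.coe_biUnion, Set.mem_iUnion, Finset.mem_coe, Finset.mem_image]
    exact ⟨x, hx, i, hi, rfl⟩
  let e := t.equivFin
  choose deg hdeg using ht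
  refine ⟨t.card, fun i => (e.symm i : M), fun i => deg _ (e.symm i).2, fun i => hdeg _ _, ?_⟩
  rw [← hspan]
  congr 1
  ext x
  constructor
  · rintro ⟨i, rfl⟩
    exact (e.symm i).2
  · intro hx
    exact ⟨e ⟨x, hx⟩, by simp⟩

/-- For a minimal family of homogeneous generators every relation has coefficients in `S_+`. -/
theorem constantCoeff_eq_zero {r : ℕ} (hmin : ∀ r' < r, ¬ HasGens k n M ℳ r')
    (m : Fin r → M) (deg : Fin r → ℕ) (hm : ∀ i, m i ∈ ℳ (deg i))
    (hspan : Submodule.span (MvPolynomial (Fin (n + 1)) k) (Set.range m) = ⊤)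
    (a : Fin r → MvPolynomial (Fin (n + 1)) k) (ha : ∑ i, a i • m i = 0) (i₀ : Fin r) :
    constantCoeff (a i₀) = 0 := by
  classical
  by_contra hne
  obtain ⟨r, rfl⟩ : ∃ s, r = s + 1 := ⟨r - 1, by have := i₀.2; omega⟩
  -- `m i₀` is a combination of the others
  have h1 : (∑ i, ((DirectSum.decompose ℳ (a i • m i) (deg i₀) : ℳ (deg i₀)) : M)) = 0 := by
    have := congrArg (fun x => ((DirectSum.decompose ℳ x (deg i₀) : ℳ (deg i₀)) : M)) ha
    simp only [DirectSum.decompose_sum, DirectSum.sum_apply, AddSubgroup.val_finsetSum,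
      DirectSum.decompose_zero] at this
    rw [this]
    rfl
  rw [← Finset.add_sum_erase _ _ (Finset.mem_univ i₀), comp_smul_self k n M ℳ _ _ (hm i₀)] at h1
  have h2 : m i₀ ∈ Submodule.span (MvPolynomial (Fin (n + 1)) k) (Set.range (m ∘ i₀.succAbove)) := by
    have h3 : (C (constantCoeff (a i₀)) : MvPolynomial (Fin (n + 1)) k) • m i₀ ∈
        Submodule.span (MvPolynomial (Fin (n + 1)) k) (Set.range (m ∘ i₀.succAbove)) := by
      rw [eq_neg_of_add_eq_zero_left h1]
      refine neg_mem (Submodule.sum_mem _ fun i hi => ?_)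
      rw [comp_smul k n M ℳ _ _ _ (hm i)]
      refine Submodule.smul_mem _ _ (Submodule.subset_span ?_)
      obtain ⟨j, hj⟩ := Fin.exists_succAbove_eq (Finset.ne_of_mem_erase hi)
      exact ⟨j, by simp [hj]⟩
    have h4 := Submodule.smul_mem _ (C (constantCoeff (a i₀))⁻¹ : MvPolynomial (Fin (n + 1)) k) h3
    rwa [smul_smul, ← C_mul, inv_mul_cancel₀ hne, C_1, one_smul] at h4
  refine hmin r (Nat.lt_succ_self r) ⟨m ∘ i₀.succAbove, deg ∘ i₀.succAbove, fun i => hm _, ?_⟩
  rw [eq_top_iff, ← hspan, Submodule.span_le]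
  rintro _ ⟨i, rfl⟩
  by_cases hi : i = i₀
  · subst hi; exact h2
  · obtain ⟨j, hj⟩ := Fin.exists_succAbove_eq hi
    exact Submodule.subset_span ⟨j, by simp [hj]⟩

end Graded

/-- Graded freeness criterion: let k be a field, S = k[x_0, …, x_n] with its standard grading by degree,
and M a finitely generated graded S-module. If Tor_1^S(M, k) = 0, where k = S/S_+ (S modulo the
ideal of polynomials with zero constant term) and Tor_1^S(M, ·) is the first left derived functor of
M ⊗_S ·, then M is free with a basis of homogeneous elements, i.e. M is isomorphic as a graded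
module to a finite direct sum of shifted copies S(−d_i). (Here the module is graded in non-negative
degrees; the published statement allows any integer degrees.) -/
theorem result (k : Type u) [Field k] (n : ℕ)
    (M : Type u) [AddCommGroup M] [Module (MvPolynomial (Fin (n + 1)) k) M]
    [Module.Finite (MvPolynomial (Fin (n + 1)) k) M]
    (ℳ : ℕ → AddSubgroup M)
    [SetLike.GradedSMul (MvPolynomial.homogeneousSubmodule (Fin (n + 1)) k) ℳ]
    [DirectSum.Decomposition ℳ]
    (h : Limits.IsZero (((Tor (ModuleCat.{u} (MvPolynomial (Fin (n + 1)) k)) 1).obj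
      (ModuleCat.of (MvPolynomial (Fin (n + 1)) k) M)).obj
      (ModuleCat.of (MvPolynomial (Fin (n + 1)) k)
        (MvPolynomial (Fin (n + 1)) k ⧸
          RingHom.ker (MvPolynomial.constantCoeff : MvPolynomial (Fin (n + 1)) k →+* k))))) :
    ∃ (ι : Type u) (b : Module.Basis ι (MvPolynomial (Fin (n + 1)) k) M),
      ∀ i, SetLike.IsHomogeneousElem ℳ (b i) := by
  classical
  let r := Nat.find (exists_hasGens k n M ℳ)
  obtain ⟨m, deg, hm, hspan⟩ := Nat.find_spec (exists_hasGens k n M ℳ)
  have hmin : ∀ r' < r, ¬ HasGens k n M ℳ r' := fun r' hr' => Nat.find_min _ hr'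
  set S := MvPolynomial (Fin (n + 1)) k with hS
  let I : Ideal S := RingHom.ker (MvPolynomial.constantCoeff : S →+* k)
  let g : (Fin r → S) →ₗ[S] M := Fintype.linearCombination S m
  have hg : Function.Surjective g := by
    rw [← LinearMap.range_eq_top, ← hspan]
    exact Fintype.range_linearCombination S m
  let K := LinearMap.ker g
  have hK : ∀ x ∈ K, ∀ i, constantCoeff (x i) = 0 := by
    intro x hx i
    refine constantCoeff_eq_zero k n M ℳ hmin m deg hm hspan x ?_ i
    have h1 : g x = 0 := hx
    rwa [Fintype.linearCombination_apply] at h1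
  have hKI : ∀ x ∈ K, x ∈ I • (⊤ : Submodule S (Fin r → S)) := by
    intro x hx
    have h1 : x = ∑ i, x i • (Pi.single i 1 : Fin r → S) := by
      ext j
      simp [Finset.sum_apply, Pi.single_apply]
    rw [h1]
    exact Submodule.sum_mem _ fun i _ => Submodule.smul_mem_smul (hK x hx i) trivial
  -- the Tor computation
  obtain ⟨e⟩ := Groth.Agent.CycA.TorShift.shiftL_one K.subtype g K.injective_subtype
    (LinearMap.exact_subtype_ker_map g) hg (S ⧸ I)
  have hsub : Subsingleton (DRing.Tor S 1 M (S ⧸ I)) := ModuleCat.subsingleton_of_isZero h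
  have hinj : Function.Injective (LinearMap.rTensor (S ⧸ I) K.subtype) := by
    rw [injective_iff_map_eq_zero]
    intro x hx
    have h1 := e.symm.toEquiv.subsingleton
    exact congrArg Subtype.val (h1.elim ⟨x, hx⟩ 0)
  have hzero : ∀ x : K ⊗[S] (S ⧸ I), LinearMap.rTensor (S ⧸ I) K.subtype x = 0 := by
    intro x
    induction x using TensorProduct.induction_on with
    | zero => simp
    | add x y hx hy => rw [map_add, hx, hy, add_zero]
    | tmul x y =>
      rw [LinearMap.rTensor_tmul, Submodule.subtype_apply]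
      obtain ⟨y, rfl⟩ := Ideal.Quotient.mk_surjective y
      apply (TensorProduct.tensorQuotEquivQuotSMul (Fin r → S) I).injective
      rw [map_zero, TensorProduct.tensorQuotEquivQuotSMul_tmul_mk, Submodule.Quotient.mk_eq_zero]
      exact Submodule.smul_mem _ _ (hKI x x.2)
  have hsubK : Subsingleton (K ⊗[S] (S ⧸ I)) :=
    ⟨fun a b => hinj ((hzero a).trans (hzero b).symm)⟩
  have hsubK' : Subsingleton (K ⧸ (I • (⊤ : Submodule S K))) :=
    (TensorProduct.tensorQuotEquivQuotSMul K I).symm.toEquiv.subsingleton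
  rw [Submodule.Quotient.subsingleton_iff] at hsubK'
  have hKfg : K.FG := IsNoetherian.noetherian K
  have hKle : K ≤ I • K := by
    have h1 := congrArg (Submodule.map K.subtype) hsubK'
    rw [Submodule.map_smul'', Submodule.map_top, Submodule.range_subtype] at h1
    exact h1.ge
  obtain ⟨s, hs1, hs2⟩ := Submodule.exists_sub_one_mem_and_smul_eq_zero_of_fg_of_le_smul I K hKfg hKle
  have hs0 : s ≠ 0 := by
    rintro rfl
    have : constantCoeff ((0 : S) - 1) = 0 := hs1
    simp at this
  have hKbot : K = ⊥ := by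
    rw [eq_bot_iff]
    intro x hx
    have h1 := hs2 x hx
    rw [Submodule.mem_bot]
    ext1 i
    have h2 := congrFun h1 i
    simp only [Pi.smul_apply, smul_eq_mul, Pi.zero_apply] at h2 ⊢
    exact (mul_eq_zero.1 h2).resolve_left hs0
  have hbij : Function.Bijective g := ⟨LinearMap.ker_eq_bot.1 hKbot, hg⟩
  let b0 : Module.Basis (Fin r) S M := (Pi.basisFun S (Fin r)).map (LinearEquiv.ofBijective g hbij)
  have hb0 : ∀ i, b0 i = m i := by
    intro i
    simp [b0, g, Fintype.linearCombination_apply, Pi.single_apply]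
  refine ⟨ULift (Fin r), b0.reindex Equiv.ulift.symm, fun i => ?_⟩
  rw [Module.Basis.reindex_apply, hb0]
  exact ⟨_, hm _⟩

end Groth.Agent.S14423
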