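import Groth.Statements.S14426
import Groth.Agent.Koszul3.K96.Depth

set_option autoImplicit false
universe u
open Koszul3

namespace Groth.Agent.S14426

open CategoryTheory CategoryTheory.Limits in
/-- Let (R, m) be a Noetherian local ring, M a nonzero finitely generated R-module and x_1, …, x_n
elements of m generating the ideal a. Then depth(a, M) ≤ n; the Koszul cohomology H^p(x; M) vanishes
for every p < depth(a, M); and H^r(x; M) is nonzero for r = depth(a, M). (Cohomological indexing
with H^n(x; M) = M/(x)M; in homological indexing this reads H_i = 0 for i > n − r and H_{n−r} ≠ 0.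
Koszul complex realised by iterated mapping cones, as in the prelude.) -/
theorem result {R : Type u} [CommRing R] [IsNoetherianRing R] [IsLocalRing R]
    (M : Type u) [AddCommGroup M] [Module R M] [Module.Finite R M] [Nontrivial M]
    (xs : List R) (hxs : ∀ x ∈ xs, x ∈ IsLocalRing.maximalIdeal R) :
    LocCoh.idealDepth (Ideal.span {x | x ∈ xs}) M ≤ xs.length ∧
      (∀ p : ℕ, (p : ℕ∞) < LocCoh.idealDepth (Ideal.span {x | x ∈ xs}) M → IsZero (CohIII.koszulH xs (ModuleCat.of R M) p)) ∧
      (∀ r : ℕ, LocCoh.idealDepth (Ideal.span {x | x ∈ xs}) M = r → ¬ IsZero (CohIII.koszulH xs (ModuleCat.of R M) r)) := by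
  have hI : Ideal.span {x | x ∈ xs} ≤ IsLocalRing.maximalIdeal R := Ideal.span_le.2 hxs
  refine ⟨?_, ?_, ?_⟩
  · by_contra h
    rw [not_le] at h
    have h1 : ((xs.length + 1 : ℕ) : ℕ∞) ≤ LocCoh.idealDepth (Ideal.span {x | x ∈ xs}) M := by
      push_cast
      exact Order.add_one_le_of_lt h
    have h2 := (K96.KDepth.main xs hxs (xs.length + 1) M h1).1 0 (by push_cast; omega)
    have h3 := (ModuleCat.isZero_iff_subsingleton
      (M := (CohIII.koszulCx (ModuleCat.of R M) xs).homology 0)).mp h2
    have e := (Submodule.quotEquivOfEq _ _ (Groth.Agent.Sga67.TorKoszul.ker_qMap (ModuleCat.of R M) xs).symm).trans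
      ((Groth.Agent.Sga67.TorKoszul.qMap (ModuleCat.of R M) xs).hom.quotKerEquivOfSurjective
        (Groth.Agent.Sga67.TorKoszul.qMap_surjective (ModuleCat.of R M) xs))
    have h4 := e.toEquiv.subsingleton
    exact K96.KDepth.smul_top_ne_top hI M (Submodule.Quotient.subsingleton_iff.1 h4)
  · intro p hp
    have h1 : ((p + 1 : ℕ) : ℕ∞) ≤ LocCoh.idealDepth (Ideal.span {x | x ∈ xs}) M := by
      push_cast
      exact Order.add_one_le_of_lt hp
    exact (K96.KDepth.main xs hxs (p + 1) M h1).1 _ (by push_cast; omega)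
  · intro r hr
    exact (K96.KDepth.main xs hxs r M hr.ge).2 hr

end Groth.Agent.S14426
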