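import Groth.Statements.S14427
import Groth.Agent.CAlgX.K581.PlanePts

set_option autoImplicit false
universe u
open CAlgX

namespace Groth.Agent.S14427

/-- Let k be a field and Λ a set of n ≥ 3 nonzero vectors of k^3 which are pairwise linearly
independent, i.e. n distinct k-rational points of the projective plane. Then the space of
homogeneous forms of degree n − 1 in k[x_0, x_1, x_2] vanishing at every point of Λ — the global
sections of I_Λ(n − 1) — has dimension C(n+1, 2) − n over k, the same for all such Λ. (The published
statement is over an algebraically closed field; this row allows any field and k-rational points,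
which is all its argument uses.) -/
theorem result (k : Type u) [Field k] (n : ℕ) (hn : 3 ≤ n)
    (Λ : Finset (Fin 3 → k)) (hcard : Λ.card = n) (h0 : ∀ v ∈ Λ, v ≠ 0)
    (hdist : ∀ v ∈ Λ, ∀ w ∈ Λ, v ≠ w → LinearIndependent k ![v, w]) :
    Module.finrank k ↥(MvPolynomial.homogeneousSubmodule (Fin 3) k (n - 1) ⊓ ⨅ v ∈ Λ, LinearMap.ker (MvPolynomial.aeval v).toLinearMap) = Nat.choose (n + 1) 2 - n := by
  classical
  have h := K581.PlanePts.finrank_V (k := k) (m := 2) (d := n - 1) Λ (by
    intro v hv
    obtain ⟨F, hF1, hF2, hF3⟩ := K581.PlanePts.exists_prod (Λ.erase v) v (by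
      intro w hw hvw
      obtain ⟨c, hc⟩ := Submodule.mem_span_singleton.1 hvw
      have hne : v ≠ w := (Finset.mem_erase.1 hw).1.symm
      have h1 := hdist v hv w (Finset.mem_erase.1 hw).2 hne
      rw [LinearIndependent.pair_iff] at h1
      have h2 := h1 1 (-c) (by rw [one_smul, neg_smul, hc, add_neg_cancel])
      exact one_ne_zero h2.1)
    rw [Finset.card_erase_of_mem hv, hcard] at hF1
    exact ⟨F, hF1, fun w hw hwv => hF2 w (Finset.mem_erase.2 ⟨hwv, hw⟩), hF3⟩)
  rw [hcard] at h
  rw [show n - 1 + 2 = n + 1 by omega] at h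
  exact h

end Groth.Agent.S14427
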