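import Groth.Statements.S14428
import Groth.Agent.CAlgX.K581.PlanePts

set_option autoImplicit false
universe u
open CAlgX

namespace Groth.Agent.S14428

open MvPolynomial in
/-- a form of degree `n - 1` through `n` non-collinear points avoiding `q` -/
lemma exists_form (k : Type u) [Field k] (n : ℕ) (hn : 3 ≤ n)
    (Λ : Finset (Fin 3 → k)) (hcard : Λ.card = n) 
    (hline : ¬ ∃ ℓ : (Fin 3 → k) →ₗ[k] k, ℓ ≠ 0 ∧ ∀ v ∈ Λ, ℓ v = 0)
    (q : Fin 3 → k) (hq : ∀ w ∈ Λ, ∀ c : k, q ≠ c • w) :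
    ∃ F : MvPolynomial (Fin 3) k, F.IsHomogeneous (n - 1) ∧ (∀ v ∈ Λ, aeval v F = 0) ∧
      aeval q F ≠ 0 := by
  classical
  have hq' : ∀ w ∈ Λ, q ∉ Submodule.span k {w} := by
    intro w hw h
    obtain ⟨c, hc⟩ := Submodule.mem_span_singleton.1 h
    exact hq w hw c hc.symm
  -- two points of `Λ` whose line avoids `q`
  obtain ⟨p₁, hp₁, p₂, hp₂, hne, hp⟩ : ∃ p₁ ∈ Λ, ∃ p₂ ∈ Λ, p₁ ≠ p₂ ∧
      q ∉ Submodule.span k {p₁, p₂} := by
    by_contra hcon
    push Not at hcon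
    obtain ⟨p₁, hp₁⟩ : Λ.Nonempty := Finset.card_pos.1 (by omega)
    have hmem : ∀ p ∈ Λ, p ∈ Submodule.span k {p₁, q} := by
      intro p hp
      by_cases hpp : p₁ = p
      · subst hpp
        exact Submodule.subset_span (by simp)
      · obtain ⟨a, b, hab⟩ := Submodule.mem_span_pair.1 (hcon p₁ hp₁ p hp hpp)
        have hb : b ≠ 0 := by
          rintro rfl
          exact hq p₁ hp₁ a (by rw [← hab, zero_smul, add_zero])
        have h1 : p = b⁻¹ • (q - a • p₁) := by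
          rw [← hab, add_sub_cancel_left, smul_smul, inv_mul_cancel₀ hb, one_smul]
        rw [h1]
        exact Submodule.smul_mem _ _ (Submodule.sub_mem _ (Submodule.subset_span (by simp))
          (Submodule.smul_mem _ _ (Submodule.subset_span (by simp))))
    have hlt : Submodule.span k {p₁, q} < ⊤ := by
      refine lt_top_iff_ne_top.2 fun h => ?_
      have h1 := finrank_span_le_card (R := k) ({p₁, q} : Set (Fin 3 → k))
      rw [h, finrank_top, Module.finrank_fintype_fun_eq_card, Fintype.card_fin] at h1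
      have h2 : ({p₁, q} : Set (Fin 3 → k)).toFinset.card ≤ 2 := by
        rw [Set.toFinset_insert, Set.toFinset_singleton]
        exact Finset.card_le_two
      omega
    obtain ⟨ℓ, hℓ, hℓ'⟩ := Submodule.exists_le_ker_of_lt_top _ hlt
    exact hline ⟨ℓ, hℓ, fun v hv => hℓ' (hmem v hv)⟩
  obtain ⟨L, hL1, hL2, hL3⟩ := K581.PlanePts.exists_lin _ q hp
  obtain ⟨F, hF1, hF2, hF3⟩ := K581.PlanePts.exists_prod ((Λ.erase p₁).erase p₂) q
    (fun v hv => hq' v (Finset.mem_of_mem_erase (Finset.mem_of_mem_erase hv)))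
  rw [Finset.card_erase_of_mem (Finset.mem_erase.2 ⟨hne.symm, hp₂⟩),
    Finset.card_erase_of_mem hp₁, hcard] at hF1
  refine ⟨L * F, ?_, ?_, ?_⟩
  · have := hL1.mul hF1
    rwa [show 1 + (n - 1 - 1) = n - 1 by omega] at this
  · intro v hv
    rw [map_mul]
    by_cases h1 : v = p₁
    · rw [hL2 v (by rw [h1]; exact Submodule.subset_span (by simp)), zero_mul]
    · by_cases h2 : v = p₂
      · rw [hL2 v (by rw [h2]; exact Submodule.subset_span (by simp)), zero_mul]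
      · rw [hF2 v (Finset.mem_erase.2 ⟨h2, Finset.mem_erase.2 ⟨h1, hv⟩⟩), mul_zero]
  · rw [map_mul]
    exact mul_ne_zero hL3 hF3

lemma half (k : Type u) [Field k] (n : ℕ) (hn : 3 ≤ n)
    (Λ Λ' : Finset (Fin 3 → k)) (hcard : Λ.card = n) 
    (hline : ¬ ∃ ℓ : (Fin 3 → k) →ₗ[k] k, ℓ ≠ 0 ∧ ∀ v ∈ Λ, ℓ v = 0)
    (heq : K581.PlanePts.V 3 (n - 1) Λ ≤ K581.PlanePts.V 3 (n - 1) Λ') :
    ∀ w ∈ Λ', ∃ v ∈ Λ, ∃ c : k, w = c • v := by
  intro w hw
  by_contra hcon
  push Not at hcon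
  obtain ⟨F, hF1, hF2, hF3⟩ := exists_form k n hn Λ hcard hline w hcon
  exact hF3 ((K581.PlanePts.mem_V.1 (heq (K581.PlanePts.mem_V.2 ⟨hF1, hF2⟩))).2 w hw)

/-- Let k be a field, n ≥ 3, and let Λ and Λ' be two sets of n nonzero, pairwise linearly independent
vectors of k^3 (n distinct k-rational points of the projective plane each), neither lying on a line
(no nonzero linear form vanishes on all of Λ, resp. Λ'). If the spaces of homogeneous forms of
degree n − 1 vanishing on Λ and on Λ' coincide, then Λ and Λ' define the same set of points of the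
plane: the assignment Λ ↦ H^0(P^2, I_Λ(n − 1)), with values in a Grassmannian, is injective on
non-collinear sets. (The published statement is over an algebraically closed field; this row allows
any field and k-rational points, which is all its argument uses.) -/
theorem result (k : Type u) [Field k] (n : ℕ) (hn : 3 ≤ n)
    (Λ Λ' : Finset (Fin 3 → k)) (hcard : Λ.card = n) (hcard' : Λ'.card = n)
    (h0 : ∀ v ∈ Λ, v ≠ 0) (h0' : ∀ v ∈ Λ', v ≠ 0)
    (hdist : ∀ v ∈ Λ, ∀ w ∈ Λ, v ≠ w → LinearIndependent k ![v, w])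
    (hdist' : ∀ v ∈ Λ', ∀ w ∈ Λ', v ≠ w → LinearIndependent k ![v, w])
    (hline : ¬ ∃ ℓ : (Fin 3 → k) →ₗ[k] k, ℓ ≠ 0 ∧ ∀ v ∈ Λ, ℓ v = 0)
    (hline' : ¬ ∃ ℓ : (Fin 3 → k) →ₗ[k] k, ℓ ≠ 0 ∧ ∀ v ∈ Λ', ℓ v = 0)
    (heq : (MvPolynomial.homogeneousSubmodule (Fin 3) k (n - 1) ⊓ ⨅ v ∈ Λ, LinearMap.ker (MvPolynomial.aeval v).toLinearMap) = (MvPolynomial.homogeneousSubmodule (Fin 3) k (n - 1) ⊓ ⨅ v ∈ Λ', LinearMap.ker (MvPolynomial.aeval v).toLinearMap)) :
    (∀ v ∈ Λ, ∃ w ∈ Λ', ∃ c : k, v = c • w) ∧ (∀ w ∈ Λ', ∃ v ∈ Λ, ∃ c : k, w = c • v) :=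
  ⟨half k n hn Λ' Λ hcard' hline' heq.ge, half k n hn Λ Λ' hcard hline heq.le⟩

end Groth.Agent.S14428
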