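import Groth.Statements.S14429
import Groth.Agent.KZero.K233.ProjFree
import Groth.Agent.KZero.K233.IsoTransfer
import Groth.Agent.Ega3A.PChart

set_option autoImplicit false
universe u
open CategoryTheory CategoryTheory.Limits AlgebraicGeometry
open KZero

namespace Groth.Agent.S14429

/-- Let k be an algebraically closed field and n ≥ 0. The Grothendieck group of coherent sheaves on
P^n_k (K_0 of the full subcategory of O-modules on the coherent ones, with relations from short
exact sequences) is freely generated by the classes of O, O(−1), …, O(−n): the homomorphism ℤ^{n+1}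
→ K_0 sending (a_0, …, a_n) to Σ a_i [O(−i)] is bijective. -/
theorem result (k : Type u) [Field k] [IsAlgClosed k] (n : ℕ) :
    Function.Bijective (fun a : Fin (n + 1) → ℤ =>
      ∑ i : Fin (n + 1), a i • KZero.clSub (fun M : (CohB1.ProjSpace n k).Modules => Coh.IsCoh M)
        (Twist.twistProjSpace n k (-((i : ℕ) : ℤ)))) := by
  let c : CohB1.ProjSpace n k ⟶ CohB1.ProjSpaceOver n (Spec (CommRingCat.of k)) :=
    Groth.Agent.Ega3A.PChart.chart n (𝟙 (Spec (CommRingCat.of k)))
  have hc : IsIso c :=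
    MorphismProperty.of_isPullback (P := MorphismProperty.isomorphisms Scheme.{u})
      (Groth.Agent.Ega3A.PChart.isPullback_chart n (𝟙 (Spec (CommRingCat.of k)))).flip
      (MorphismProperty.isomorphisms.infer_property _)
  have hprop : IsProper (CohB1.ProjSpace.toSpec n k) := Groth.Agent.Ega3B.ProjProper.isProper_toSpec n k
  have hprop' : IsProper (CohB1.ProjSpaceOver.toBase n (Spec (CommRingCat.of k))) :=
    Groth.Agent.Ega3B.ProjProper.isProper_toBase n _
  have hN : IsLocallyNoetherian (CohB1.ProjSpace n k) :=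
    LocallyOfFiniteType.isLocallyNoetherian (CohB1.ProjSpace.toSpec n k)
  have hN' : IsLocallyNoetherian (CohB1.ProjSpaceOver n (Spec (CommRingCat.of k))) :=
    LocallyOfFiniteType.isLocallyNoetherian (CohB1.ProjSpaceOver.toBase n (Spec (CommRingCat.of k)))
  obtain ⟨φ, hφ⟩ := K233.IsoTransfer.exists_equiv_coh c
  have h1 := φ.bijective.comp (K233.ProjFree.bijective_coh k n (-(n : ℤ)))
  have h2 : Function.Bijective (fun (a : Fin (n + 1) → ℤ) => a ∘ Fin.rev) :=
    (Equiv.arrowCongr Fin.revPerm (Equiv.refl ℤ)).bijective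
  have h3 := h1.comp h2
  convert h3 using 1
  funext a
  dsimp only [Function.comp_apply]
  rw [map_sum]
  refine (Equiv.sum_comp Fin.revPerm _).symm.trans (Finset.sum_congr rfl fun i _ => ?_)
  have hcoh : Coh.IsCoh (Twist.twistOver n (Spec (CommRingCat.of k)) (-(n : ℤ) + (i : ℕ))) :=
    Groth.Agent.PerfA.CohSerre.isCoh_of_isFinLocFree
      (Groth.Agent.Krr.H465.ProjBase.isFinLocFree_twistOver n _ _)
  rw [map_zsmul, hφ _ hcoh]
  have h4 : (-(((Fin.rev i : Fin (n + 1)) : ℕ) : ℤ)) = -(n : ℤ) + (i : ℕ) := by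
    rw [Fin.val_rev]
    omega
  change a (Fin.rev i) • KZero.clSub (fun M : (CohB1.ProjSpace n k).Modules => Coh.IsCoh M)
    (Twist.twistProjSpace n k (-(((Fin.rev i : Fin (n + 1)) : ℕ) : ℤ))) = _
  rw [h4]
  congr 1
  have e := Groth.Agent.Ega3A.PChart.chartTwistIso n (𝟙 (Spec (CommRingCat.of k)))
    (-(n : ℤ) + (i : ℕ))
  exact (K233.IsoTransfer.clCoh_iso e (Groth.Agent.FormalA.PullbackQC.isCoh_pullback c _ hcoh)).symm

end Groth.Agent.S14429
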