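import Groth.Statements.S14431
import Groth.Agent.Variety.K429.BertiniGeom

set_option autoImplicit false
universe u
open CategoryTheory CategoryTheory.Limits AlgebraicGeometry
open Variety
open Groth.Agent.Fdesc.LocGen Groth.Agent.Pi1C.ZeroScheme

namespace Groth.Agent.S14431

/-- Let k be an algebraically closed field of characteristic zero, X an integral k-scheme of finite type
which is smooth over k, L an invertible O_X-module and s_0, …, s_m global sections of L (morphisms
O_X → L) generating L, i.e. their zero schemes have empty intersection (the sum of their zero ideal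
sheaves is the unit ideal). Then the members of the linear system spanned by the s_i corresponding
to a nonempty Zariski-open set of parameters are smooth: there is a nonzero polynomial p in m + 1
variables over k such that for every c ∈ k^{m+1} with p(c) ≠ 0 the zero scheme of the section Σ c_i
s_i is smooth over k (equivalently, the corresponding divisor is reduced with smooth support). (The
published statement is for varieties, which are separated; this row does not assume X separated.) -/
theorem result (k : Type u) [Field k] [IsAlgClosed k] [CharZero k]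
    (X : Scheme.{u}) [X.Over (Spec (CommRingCat.of k))] [IsIntegral X]
    [Smooth (X ↘ Spec (CommRingCat.of k))] [QuasiCompact (X ↘ Spec (CommRingCat.of k))]
    (L : X.Modules) (hL : FlatMod.IsFinLocFreeOfRank 1 L) (m : ℕ)
    (s : Fin (m + 1) → (Coh.structureModule X ⟶ L))
    (hgen : ⨆ i : Fin (m + 1), PicF2.zeroScheme L (s i) = ⊤) :
    ∃ p : MvPolynomial (Fin (m + 1)) k, p ≠ 0 ∧ ∀ c : Fin (m + 1) → k, MvPolynomial.eval c p ≠ 0 →
      Smooth ((PicF2.zeroScheme L (∑ i : Fin (m + 1), Formal.smulMod k (Coh.structureModule X) (c i) ≫ s i)).subschemeι ≫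
        (X ↘ Spec (CommRingCat.of k))) := by
  classical
  have hLi : PicF.IsInvertible L := Groth.Agent.Ega2.QCohLocal.isFinLocFreeOfRank_one_iff.1 hL
  haveI : CompactSpace X := QuasiCompact.compactSpace_of_compactSpace (X ↘ Spec (CommRingCat.of k))
  choose U hU hxU hle e he using fun x : X => exists_affine_isGen hLi ⊤ x trivial
  obtain ⟨t, ht⟩ := isCompact_univ.elim_finite_subcover (fun x : X => (U x : Set X)) (fun x => (U x).isOpen)
    (fun x _ => Set.mem_iUnion.mpr ⟨x, hxU x⟩)
  have key : ∀ x : X, ∃ p : MvPolynomial (Fin (m + 1)) k, p ≠ 0 ∧ ∀ c : Fin (m + 1) → k, MvPolynomial.eval c p ≠ 0 →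
      ((Ideal.Quotient.mk ((PicF2.zeroScheme L
        (∑ i : Fin (m + 1), Formal.smulMod k (Coh.structureModule X) (c i) ≫ s i)).ideal ⟨U x, hU x⟩)).comp
        (K429.BertiniGeom.str (X ↘ Spec (CommRingCat.of k)) (U x))).Smooth := by
    intro x
    choose a ha using fun i => (he x).exists_eq (sec (s i) (U x))
    have hspan : Ideal.span (Set.range a) = ⊤ := by
      have h1 := congrArg (fun I : X.IdealSheafData => I.ideal ⟨U x, hU x⟩) hgen
      simp only [Scheme.IdealSheafData.ideal_iSup, iSup_apply] at h1
      have h2 : ∀ i, (PicF2.zeroScheme L (s i)).ideal ⟨U x, hU x⟩ = Ideal.span {a i} := fun i =>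
        ideal_eq_span (s i) hLi ⟨U x, hU x⟩ (he x) (ha i)
      simp only [h2] at h1
      rw [← Set.iUnion_singleton_eq_range, Ideal.span_iUnion]
      exact h1
    obtain ⟨b, hb⟩ := (Ideal.mem_span_range_iff_exists_fun (x := (1 : Γ(X, U x)))).mp (hspan ▸ Submodule.mem_top)
    letI : Algebra k Γ(X, U x) := (K429.BertiniGeom.str (X ↘ Spec (CommRingCat.of k)) (U x)).toAlgebra
    haveI : Algebra.Smooth k Γ(X, U x) := K429.BertiniGeom.smooth_str (X ↘ Spec (CommRingCat.of k)) (hU x)
    obtain ⟨p, hp0, hp⟩ := K429.BertiniAlg.exists_smooth_hyperplane (k := k) a b hb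
    refine ⟨p, hp0, fun c hc => ?_⟩
    have h3 : (PicF2.zeroScheme L (∑ i : Fin (m + 1), Formal.smulMod k (Coh.structureModule X) (c i) ≫ s i)).ideal ⟨U x, hU x⟩
        = Ideal.span {∑ i, algebraMap k Γ(X, U x) (c i) * a i} := by
      refine ideal_eq_span _ hLi ⟨U x, hU x⟩ (he x) ?_
      rw [K429.BertiniGeom.sec_sum, Finset.sum_smul]
      refine Finset.sum_congr rfl fun i _ => ?_
      rw [K429.BertiniGeom.sec_smulMod, ha i, mul_smul]
      rfl
    rw [h3]
    exact hp c hc
  choose p hp0 hp using key
  refine ⟨∏ x ∈ t, p x, Finset.prod_ne_zero_iff.mpr fun x _ => hp0 x, fun c hc => ?_⟩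
  refine K429.BertiniGeom.smooth_subscheme (X ↘ Spec (CommRingCat.of k)) _ (fun x : t => (⟨U x, hU x⟩ : X.affineOpens)) ?_
    (fun x => hp x c ?_)
  · rw [eq_top_iff]
    intro y _
    obtain ⟨x, hx⟩ := Set.mem_iUnion.mp (ht (Set.mem_univ y))
    obtain ⟨hxt, hx⟩ := Set.mem_iUnion.mp hx
    exact TopologicalSpace.Opens.mem_iSup.mpr ⟨⟨x, hxt⟩, hx⟩
  · rw [map_prod] at hc
    exact Finset.prod_ne_zero_iff.mp hc x x.2

end Groth.Agent.S14431
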