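import Groth.Statements.S14434
import Groth.Agent.CycA.TorShift

set_option autoImplicit false
universe u
open CAlg

namespace Groth.Agent.S14434

open Groth.Agent.CycA.TorShift

/-- Let R be a commutative ring, M an R-module and x ∈ R a non-zero-divisor on R and on M. Then
Tor_i^R(M, R/(x)) = 0 for all i ≥ 1 (Tor computed as the left derived functors of the tensor product
on R-modules). -/
theorem result {R : Type u} [CommRing R] (M : Type u) [AddCommGroup M] [Module R M]
    (x : R) (hxR : IsSMulRegular R x) (hxM : IsSMulRegular M x) (i : ℕ) (hi : 1 ≤ i) :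
    Subsingleton (DRing.Tor R i M (R ⧸ Ideal.span {x})) := by
  have hinj : Function.Injective (LinearMap.mulLeft R x) := hxR
  have hex : Function.Exact (LinearMap.mulLeft R x) (Submodule.mkQ (Ideal.span {x})) := by
    intro y
    rw [Submodule.mkQ_apply, Submodule.Quotient.mk_eq_zero, Ideal.mem_span_singleton']
    constructor
    · rintro ⟨a, rfl⟩; exact ⟨a, mul_comm _ _⟩
    · rintro ⟨a, rfl⟩; exact ⟨a, mul_comm _ _⟩
  have hsurj := Submodule.mkQ_surjective (Ideal.span {x})
  obtain ⟨i, rfl⟩ : ∃ j, i = j + 1 := ⟨i - 1, by omega⟩
  cases i with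
  | zero =>
    obtain ⟨e⟩ := shiftR_one (LinearMap.mulLeft R x) (Submodule.mkQ (Ideal.span {x})) hinj hex hsurj M
    have h : LinearMap.ker (LinearMap.lTensor M (LinearMap.mulLeft R x)) = ⊥ := by
      rw [LinearMap.ker_eq_bot]
      have h1 : LinearMap.lTensor M (LinearMap.mulLeft R x) =
          (TensorProduct.rid R M).symm.toLinearMap ∘ₗ (LinearMap.lsmul R M x) ∘ₗ
            (TensorProduct.rid R M).toLinearMap := by
        apply TensorProduct.ext'
        intro m r
        simp only [LinearMap.lTensor_tmul, LinearMap.mulLeft_apply, LinearMap.coe_comp,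
          LinearEquiv.coe_coe, Function.comp_apply, TensorProduct.rid_tmul, LinearMap.lsmul_apply,
          TensorProduct.rid_symm_apply, smul_smul, TensorProduct.smul_tmul, smul_eq_mul, mul_one]
      rw [h1]
      exact (TensorProduct.rid R M).symm.injective.comp
        (Function.Injective.comp (g := LinearMap.lsmul R M x) hxM (TensorProduct.rid R M).injective)
    rw [h] at e
    exact e.toEquiv.subsingleton
  | succ n =>
    obtain ⟨e⟩ := shiftR (LinearMap.mulLeft R x) (Submodule.mkQ (Ideal.span {x})) hinj hex hsurj n M
    have := subsingleton_of_projective_right R n M R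
    exact e.toEquiv.subsingleton

end Groth.Agent.S14434
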