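import Groth.Statements.S14436
import Groth.Agent.CurvesB.SmoothCurveAlg
import Mathlib.RingTheory.Smooth.Field

set_option autoImplicit false
universe u
open CAlg

namespace Groth.Agent.S14436

/-- Let L/K be a finitely generated field extension which is separable in the sense that it has a
transcendence basis a_1, …, a_n over which L is a (finite) separable extension of K(a_1, …, a_n).
Then dim_L Ω_{L/K} = n, the transcendence degree of L over K. -/
theorem result (K L : Type u) [Field K] [Field L] [Algebra K L]
    (hfg : ∃ s : Finset L, IntermediateField.adjoin K (s : Set L) = ⊤)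
    (n : ℕ) (a : Fin n → L) (ha : IsTranscendenceBasis K a)
    (hsep : Algebra.IsSeparable ↥(IntermediateField.adjoin K (Set.range a)) L) :
    Module.finrank L (Ω[L⁄K]) = n := by
  have h1 : Algebra.FormallySmooth K L :=
    Algebra.FormallySmooth.of_algebraicIndependent_of_isSeparable ha.1
  have h2 : Algebra.EssFiniteType K L := by
    have h4 : Algebra.EssFiniteType K (⊤ : IntermediateField K L) := IntermediateField.essFiniteType_iff.2 hfg
    exact Algebra.EssFiniteType.of_surjective (IntermediateField.topEquiv (F := K) (E := L)).toAlgHom IntermediateField.topEquiv.surjective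
  rw [Groth.Agent.CurvesB.SmoothCurveAlg.finrank_kaehler_eq_trdeg]
  have h3 := ha.lift_cardinalMk_eq_trdeg
  simp at h3
  rw [← h3]
  simp

end Groth.Agent.S14436
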