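import Groth.Statements.S14437
import Mathlib.RingTheory.Ideal.Cotangent
import Mathlib.RingTheory.Kaehler.Basic
import Mathlib.LinearAlgebra.TensorProduct.Quotient
import Mathlib.LinearAlgebra.FiniteDimensional.Lemmas
import Mathlib.LinearAlgebra.Dimension.Free

set_option autoImplicit false
universe u
open CAlg

namespace Groth.Agent.S14437

open IsLocalRing TensorProduct

section

variable (k : Type u) [Field k]
    (A B : Type u) [CommRing A] [CommRing B] [IsLocalRing A] [IsLocalRing B]
    [Algebra k A] [Algebra k B] [Algebra A B] [IsScalarTower k A B]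
    (hle : IsLocalRing.maximalIdeal A ≤ Ideal.comap (IsScalarTower.toAlgHom k A B) (IsLocalRing.maximalIdeal B))

/-- The image of `m_A/m_A²` as a `B`-submodule. -/
def imgSub (hB : Function.Surjective (algebraMap k (ResidueField B))) :
    Submodule B (maximalIdeal B).Cotangent where
  __ := LinearMap.range (Ideal.mapCotangent (maximalIdeal A) (maximalIdeal B)
        (IsScalarTower.toAlgHom k A B) hle)
  smul_mem' := by
    intro b x hx
    obtain ⟨c, hc⟩ := hB (residue B b)
    have h1 : b - algebraMap k B c ∈ maximalIdeal B := by
      rw [← residue_eq_zero_iff, map_sub, ← hc]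
      rw [IsScalarTower.algebraMap_apply k B (ResidueField B)]
      exact sub_self _
    have h2 : b • x = c • x := by
      have : (b - algebraMap k B c) • x = 0 := Ideal.Cotangent.smul_eq_zero_of_mem h1 x
      rw [sub_smul, sub_eq_zero] at this
      rw [this, algebraMap_smul]
    change b • x ∈ LinearMap.range _
    rw [h2]
    exact Submodule.smul_mem _ c hx

end

/-- Let k be a field and A → B a local homomorphism of Noetherian local k-algebras with residue fields k
(k → A/m_A and k → B/m_B bijective) — for instance the local rings at a closed point x and at its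
image y under a morphism of schemes of finite type over an algebraically closed k. Then dim_k
(Ω_{B/A} ⊗_B B/m_B) + rank(m_A/m_A² → m_B/m_B²) = dim_k (m_B/m_B²): the fibre at x of the sheaf of
relative differentials is dual to the kernel of the tangent map T_x X → T_y Y. (The published
statement is the canonical isomorphism (Ω_{X/Y})_(x)^∨ ≅ ker(df_x); stated here as the resulting
equality of dimensions. Its second assertion, dim (Ω_{X/Y})_(x) ≥ r when the fibre has an
r-dimensional component through x, is not included.) -/
theorem result (k : Type u) [Field k]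
    (A B : Type u) [CommRing A] [CommRing B] [IsLocalRing A] [IsLocalRing B] [IsNoetherianRing A] [IsNoetherianRing B]
    [Algebra k A] [Algebra k B] [Algebra A B] [IsScalarTower k A B]
    (hle : IsLocalRing.maximalIdeal A ≤ Ideal.comap (IsScalarTower.toAlgHom k A B) (IsLocalRing.maximalIdeal B))
    (hA : Function.Bijective (algebraMap k (IsLocalRing.ResidueField A)))
    (hB : Function.Bijective (algebraMap k (IsLocalRing.ResidueField B))) :
    Module.finrank (IsLocalRing.ResidueField B) (TensorProduct B (IsLocalRing.ResidueField B) (Ω[B⁄A])) +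
      Module.finrank k ↥(LinearMap.range (Ideal.mapCotangent (IsLocalRing.maximalIdeal A) (IsLocalRing.maximalIdeal B)
        (IsScalarTower.toAlgHom k A B) hle)) =
      Module.finrank k (IsLocalRing.CotangentSpace B) := by
  classical
  set N := imgSub k A B hle hB.2 with hN
  let e : k ≃+* ResidueField B := RingEquiv.ofBijective _ hB
  let c : B → k := fun b => e.symm (residue B b)
  have hc : ∀ b : B, b - algebraMap k B (c b) ∈ maximalIdeal B := by
    intro b
    rw [← residue_eq_zero_iff, map_sub, sub_eq_zero]
    have : e (c b) = residue B b := e.apply_symm_apply _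
    rw [← this]
    exact (IsScalarTower.algebraMap_apply k B (ResidueField B) _)
  have hcadd : ∀ a b : B, c (a + b) = c a + c b := fun a b => by simp [c]
  have hcmul : ∀ a b : B, c (a * b) = c a * c b := fun a b => by simp [c]
  have hcone : c 1 = 1 := by simp [c]
  have hcsmul : ∀ (x : (maximalIdeal B).Cotangent) (b : B), c b • x = b • x := by
    intro x b
    have : (b - algebraMap k B (c b)) • x = 0 := Ideal.Cotangent.smul_eq_zero_of_mem (hc b) x
    rw [sub_smul, sub_eq_zero] at this
    rw [this, algebraMap_smul]
  -- the derivation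
  let D₀ : B → (maximalIdeal B).Cotangent := fun b => (maximalIdeal B).toCotangent ⟨_, hc b⟩
  have hD₀add : ∀ a b, D₀ (a + b) = D₀ a + D₀ b := by
    intro a b
    simp only [D₀]
    rw [← map_add]
    congr 1
    ext
    simp [hcadd]
    ring
  have hD₀mul : ∀ a b, D₀ (a * b) = a • D₀ b + b • D₀ a := by
    intro a b
    have : D₀ (a * b) = a • D₀ b + c b • D₀ a := by
      simp only [D₀]
      rw [← algebraMap_smul B (c b), ← map_smul, ← map_smul, ← map_add]
      congr 1
      ext
      simp [hcmul, Algebra.smul_def]
      ring
    rw [this, hcsmul]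
  have hD₀A : ∀ a : A, D₀ (algebraMap A B a) ∈ N := by
    intro a
    obtain ⟨c', hc'⟩ := hA.2 (residue A a)
    have h1 : a - algebraMap k A c' ∈ maximalIdeal A := by
      rw [← residue_eq_zero_iff, map_sub, ← hc', IsScalarTower.algebraMap_apply k A (ResidueField A)]
      exact sub_self _
    have h2 : algebraMap A B a - algebraMap k B c' ∈ maximalIdeal B := by
      have := hle h1
      rw [Ideal.mem_comap, map_sub] at this
      rwa [AlgHom.commutes, IsScalarTower.coe_toAlgHom'] at this
    have h3 : c (algebraMap A B a) = c' := by
      simp only [c]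
      rw [RingEquiv.symm_apply_eq]
      rw [← residue_eq_zero_iff, map_sub, sub_eq_zero] at h2
      rw [h2]
      rfl
    change D₀ (algebraMap A B a) ∈ LinearMap.range _
    refine ⟨(maximalIdeal A).toCotangent ⟨_, h1⟩, ?_⟩
    rw [Ideal.mapCotangent_toCotangent]
    simp only [D₀]
    congr 1
    ext
    simp only [h3, map_sub, AlgHom.commutes, IsScalarTower.coe_toAlgHom']
  have hD₀m : ∀ x : maximalIdeal B, D₀ x = (maximalIdeal B).toCotangent x := by
    intro x
    simp only [D₀]
    congr 1
    ext
    have : residue B (x : B) = 0 := (residue_eq_zero_iff _).2 x.2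
    simp [c, this]
  let D₁ : B →ₗ[A] ((maximalIdeal B).Cotangent ⧸ N) :=
    { toFun := fun b => N.mkQ (D₀ b)
      map_add' := fun a b => by rw [hD₀add, map_add]
      map_smul' := fun a b => by
        rw [Algebra.smul_def, hD₀mul, map_add, map_smul, map_smul, algebraMap_smul]
        have : N.mkQ (D₀ (algebraMap A B a)) = 0 := (Submodule.Quotient.mk_eq_zero _).2 (hD₀A a)
        rw [this, smul_zero, add_zero]
        rfl }
  let D : Derivation A B ((maximalIdeal B).Cotangent ⧸ N) :=
    Derivation.mk' D₁ (fun a b => by
      change N.mkQ (D₀ (a * b)) = a • N.mkQ (D₀ b) + b • N.mkQ (D₀ a)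
      rw [hD₀mul, map_add, map_smul, map_smul])
  have hDm : ∀ x : maximalIdeal B, D x = N.mkQ ((maximalIdeal B).toCotangent x) := by
    intro x
    change N.mkQ (D₀ x) = _
    rw [hD₀m]
  -- the map `φ`
  let φ₀ : (maximalIdeal B) →ₗ[k] (ResidueField B ⊗[B] Ω[B⁄A]) :=
    { toFun := fun x => 1 ⊗ₜ (KaehlerDifferential.D A B (x : B))
      map_add' := fun x y => by rw [Submodule.coe_add, map_add, tmul_add]
      map_smul' := fun r x => by
        rw [Submodule.coe_smul_of_tower, RingHom.id_apply, ← algebraMap_smul A r (x : B),
          Derivation.map_smul, ← algebraMap_smul B (algebraMap k A r),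
          ← IsScalarTower.algebraMap_apply k A B, tmul_smul, smul_tmul', smul_tmul',
          algebraMap_smul] }
  let φ : (maximalIdeal B).Cotangent →ₗ[k] (ResidueField B ⊗[B] Ω[B⁄A]) :=
    Ideal.Cotangent.lift φ₀ (by
      intro x y
      change (1 : ResidueField B) ⊗ₜ[B] (KaehlerDifferential.D A B ((x : B) * y)) = 0
      have h0 : ∀ z : maximalIdeal B, (z : B) • (1 : ResidueField B) = 0 := by
        intro z
        rw [Algebra.smul_def, mul_one]
        exact (residue_eq_zero_iff _).2 z.2
      rw [Derivation.leibniz, tmul_add, tmul_smul, tmul_smul, smul_tmul', smul_tmul', h0, h0,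
        zero_tmul, zero_tmul, add_zero])
  have hφ : ∀ x : maximalIdeal B, φ ((maximalIdeal B).toCotangent x) =
      (1 : ResidueField B) ⊗ₜ[B] (KaehlerDifferential.D A B (x : B)) := fun x => rfl
  have hφs : Function.Surjective φ := by
    rw [← LinearMap.range_eq_top, eq_top_iff]
    rintro t -
    have key : ∀ ω : Ω[B⁄A], ∀ r : ResidueField B, r ⊗ₜ[B] ω ∈ LinearMap.range φ := by
      intro ω
      have hω : ω ∈ Submodule.span B (Set.range (KaehlerDifferential.D A B)) := by
        rw [KaehlerDifferential.span_range_derivation]; trivial
      induction hω using Submodule.span_induction with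
      | mem ω h =>
        obtain ⟨b, rfl⟩ := h
        intro r
        obtain ⟨r, rfl⟩ := hB.2 r
        refine ⟨r • (maximalIdeal B).toCotangent ⟨_, hc b⟩, ?_⟩
        rw [map_smul, hφ, map_sub, IsScalarTower.algebraMap_apply k A B,
          Derivation.map_algebraMap, sub_zero, smul_tmul', Algebra.smul_def, mul_one]
      | zero => intro r; rw [tmul_zero]; exact zero_mem _
      | add x y _ _ ihx ihy => intro r; rw [tmul_add]; exact add_mem (ihx r) (ihy r)
      | smul b x _ ih => intro r; rw [tmul_smul, smul_tmul']; exact ih _
    induction t using TensorProduct.induction_on with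
    | zero => exact zero_mem _
    | tmul r ω => exact key ω r
    | add x y hx hy => exact add_mem hx hy
  have hφk : LinearMap.ker φ = LinearMap.range (Ideal.mapCotangent (maximalIdeal A) (maximalIdeal B)
        (IsScalarTower.toAlgHom k A B) hle) := by
    apply le_antisymm
    · intro y hy
      obtain ⟨x, rfl⟩ := (maximalIdeal B).toCotangent_surjective y
      rw [LinearMap.mem_ker, hφ] at hy
      have h1 : (Submodule.Quotient.mk (KaehlerDifferential.D A B (x : B)) :
          Ω[B⁄A] ⧸ (maximalIdeal B • (⊤ : Submodule B (Ω[B⁄A])))) = 0 := by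
        have := TensorProduct.quotTensorEquivQuotSMul_mk_one_tmul (maximalIdeal B)
          (KaehlerDifferential.D A B (x : B))
        rw [← this]
        have h' : ((1 : B ⧸ maximalIdeal B) ⊗ₜ[B] (KaehlerDifferential.D A B (x : B))) = 0 := hy
        rw [h', map_zero]
      rw [Submodule.Quotient.mk_eq_zero] at h1
      have h2 : D.liftKaehlerDifferential (KaehlerDifferential.D A B (x : B)) ∈
          maximalIdeal B • (⊤ : Submodule B ((maximalIdeal B).Cotangent ⧸ N)) := by
        have := Submodule.mem_map_of_mem (f := D.liftKaehlerDifferential) h1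
        rw [Submodule.map_smul''] at this
        exact Submodule.smul_mono le_rfl le_top this
      have h3 : maximalIdeal B • (⊤ : Submodule B ((maximalIdeal B).Cotangent ⧸ N)) = ⊥ := by
        rw [eq_bot_iff, Submodule.smul_le]
        intro r hr q _
        obtain ⟨q, rfl⟩ := N.mkQ_surjective q
        rw [← map_smul, Ideal.Cotangent.smul_eq_zero_of_mem hr, map_zero]
        exact zero_mem _
      rw [h3, Submodule.mem_bot, Derivation.liftKaehlerDifferential_comp_D, hDm] at h2
      have h4 : (maximalIdeal B).toCotangent x ∈ N := (Submodule.Quotient.mk_eq_zero _).1 h2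
      exact h4
    · rintro _ ⟨y, rfl⟩
      obtain ⟨a, rfl⟩ := (maximalIdeal A).toCotangent_surjective y
      rw [LinearMap.mem_ker, Ideal.mapCotangent_toCotangent, hφ]
      change (1 : ResidueField B) ⊗ₜ[B] (KaehlerDifferential.D A B (algebraMap A B a)) = 0
      rw [Derivation.map_algebraMap, tmul_zero]
  have hfin0 : Module.Finite k (ResidueField B) :=
    Module.Finite.of_surjective (Algebra.linearMap k (ResidueField B)) hB.2
  have htow : IsScalarTower k (ResidueField B) (CotangentSpace B) :=
    IsScalarTower.of_algebraMap_smul fun r x => by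
      rw [IsScalarTower.algebraMap_apply k B (ResidueField B), algebraMap_smul, algebraMap_smul]
  have hfin : Module.Finite k (CotangentSpace B) := Module.Finite.trans (ResidueField B) _
  have h1 := LinearMap.finrank_range_add_finrank_ker φ
  rw [hφk, LinearMap.range_eq_top.2 hφs, finrank_top] at h1
  have h2 : Module.finrank k (ResidueField B ⊗[B] Ω[B⁄A]) =
      Module.finrank (ResidueField B) (ResidueField B ⊗[B] Ω[B⁄A]) := by
    rw [← Module.finrank_mul_finrank k (ResidueField B) (ResidueField B ⊗[B] Ω[B⁄A]),
      ← (LinearEquiv.ofBijective (Algebra.linearMap k (ResidueField B)) hB).finrank_eq,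
      Module.finrank_self, one_mul]
  rw [h2] at h1
  exact h1

end Groth.Agent.S14437
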