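import Groth.Statements.S14438
import Groth.Agent.CycB.SemiLocalLen
import Mathlib.RingTheory.QuasiFinite.Basic
import Mathlib.RingTheory.LocalRing.Length
import Mathlib.LinearAlgebra.TensorProduct.Quotient
import Mathlib.RingTheory.TensorProduct.Free
import Mathlib.LinearAlgebra.Dimension.Constructions

set_option autoImplicit false
universe u
open CAlg

namespace Groth.Agent.S14438

open IsLocalRing TensorProduct

theorem finite_maximalSpectrum (A B : Type u) [CommRing A] [IsLocalRing A] [CommRing B] [Algebra A B]
    [Module.Finite A B] : Finite (MaximalSpectrum B) := by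
  have h := Algebra.QuasiFinite.finite_primesOver (S := B) (IsLocalRing.maximalIdeal A)
  have : Finite ((IsLocalRing.maximalIdeal A).primesOver B) := h
  have hover : ∀ m : MaximalSpectrum B, m.asIdeal.LiesOver (IsLocalRing.maximalIdeal A) := fun m => by
    constructor
    have := m.isMaximal
    have h1 : (m.asIdeal.comap (algebraMap A B)).IsMaximal :=
      Ideal.isMaximal_comap_of_isIntegral_of_isMaximal _
    exact (IsLocalRing.eq_maximalIdeal h1).symm
  let f : MaximalSpectrum B → (IsLocalRing.maximalIdeal A).primesOver B :=
    fun m => ⟨m.asIdeal, m.isMaximal.isPrime, hover m⟩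
  refine Finite.of_injective f fun m m' hm => MaximalSpectrum.ext ?_
  exact congrArg (fun x => x.1) hm

theorem map_le (A B : Type u) [CommRing A] [IsLocalRing A] [CommRing B] [Algebra A B]
    [Module.Finite A B] (m : MaximalSpectrum B) :
    Ideal.map (algebraMap A B) (maximalIdeal A) ≤ m.asIdeal := by
  rw [Ideal.map_le_iff_le_comap]
  have := m.isMaximal
  have h1 : (m.asIdeal.comap (algebraMap A B)).IsMaximal :=
    Ideal.isMaximal_comap_of_isIntegral_of_isMaximal _
  exact (IsLocalRing.eq_maximalIdeal h1).ge

/-- Let (A, m) be a local ring, B a commutative A-algebra which is free of finite rank d as an A-module,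
and assume that for every maximal ideal n of B containing mB the induced map of residue fields A/m →
B/n is bijective (as for the points of a fibre of a finite flat morphism of varieties over an
algebraically closed field). Then the multiplicities of the points of the fibre add up to the
degree: the sum over all such n of the length of the B_n-module (B/mB)_n equals d. -/
theorem result (A B : Type u) [CommRing A] [IsLocalRing A] [CommRing B] [Algebra A B]
    [Module.Free A B] [Module.Finite A B] (d : ℕ) (hd : Module.finrank A B = d)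
    (hres : ∀ (n : Ideal B) [n.IsMaximal] (h : Ideal.map (algebraMap A B) (IsLocalRing.maximalIdeal A) ≤ n),
      Function.Bijective (Ideal.quotientMap n (algebraMap A B) (Ideal.map_le_iff_le_comap.mp h))) :
    finsum (fun n : {n : MaximalSpectrum B // Ideal.map (algebraMap A B) (IsLocalRing.maximalIdeal A) ≤ n.asIdeal} =>
      Module.length (Localization.AtPrime n.1.asIdeal)
        (LocalizedModule n.1.asIdeal.primeCompl (B ⧸ Ideal.map (algebraMap A B) (IsLocalRing.maximalIdeal A)))) = (d : ℕ∞) := by
  classical
  set mB := Ideal.map (algebraMap A B) (maximalIdeal A) with hmB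
  have hfinite := finite_maximalSpectrum A B
  let _ : Fintype (MaximalSpectrum B) := Fintype.ofFinite _
  -- length over `A` of `B/mB`
  have hk : Module.length A (A ⧸ maximalIdeal A) = 1 := by
    have : IsSimpleModule A (A ⧸ maximalIdeal A) :=
      isSimpleModule_iff_quot_maximal.mpr ⟨maximalIdeal A, inferInstance, ⟨LinearEquiv.refl _ _⟩⟩
    exact Module.length_eq_one A _
  have hlen : Module.length A (B ⧸ mB) = d := by
    let b := Module.Free.chooseBasis A B
    let b' := Algebra.TensorProduct.basis (A ⧸ maximalIdeal A) b
    let e1 : ((A ⧸ maximalIdeal A) ⊗[A] B) ≃ₗ[A] B ⧸ (maximalIdeal A • (⊤ : Submodule A B)) :=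
      TensorProduct.quotTensorEquivQuotSMul B (maximalIdeal A)
    let e2 : (B ⧸ (maximalIdeal A • (⊤ : Submodule A B))) ≃ₗ[A] B ⧸ (mB.restrictScalars A) :=
      Submodule.quotEquivOfEq _ _ (Ideal.smul_top_eq_map _)
    let e3 : (B ⧸ (mB.restrictScalars A)) ≃ₗ[A] B ⧸ mB := Submodule.Quotient.restrictScalarsEquiv A mB
    let e4 : ((A ⧸ maximalIdeal A) ⊗[A] B) ≃ₗ[A] (Module.Free.ChooseBasisIndex A B → A ⧸ maximalIdeal A) :=
      b'.equivFun.restrictScalars A
    rw [← ((e1.trans e2).trans e3).length_eq, e4.length_eq, Module.length_pi, hk, mul_one,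
      ENat.card_eq_coe_fintype_card, ← Module.finrank_eq_card_basis b, hd]
  have hfl : IsFiniteLength B (B ⧸ mB) := by
    rw [← Module.length_ne_top_iff]
    intro htop
    have h1 : Module.length B (B ⧸ mB) ≤ Module.length A (B ⧸ mB) := by
      have := Submodule.length_le_length_restrictScalars A (⊤ : Submodule B (B ⧸ mB))
      rwa [Submodule.restrictScalars_top, Module.length_top, Module.length_top] at this
    rw [htop, hlen] at h1
    exact absurd h1 (by simp)
  have hsum := Groth.Agent.CycB.SemiLocalLen.length_eq_sum A B hfl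
  rw [hlen] at hsum
  rw [hsum, finsum_eq_sum_of_fintype]
  have h1 : ∀ m : MaximalSpectrum B, Module.length A (B ⧸ m.asIdeal) = 1 := by
    intro m
    have hm := m.isMaximal
    have hsurj : Function.Surjective (Algebra.linearMap A (B ⧸ m.asIdeal)) := by
      intro x
      obtain ⟨y, hy⟩ := (hres m.asIdeal (map_le A B m)).2 x
      obtain ⟨a, rfl⟩ := Ideal.Quotient.mk_surjective y
      exact ⟨a, by rw [← hy]; rfl⟩
    have hker : LinearMap.ker (Algebra.linearMap A (B ⧸ m.asIdeal)) = maximalIdeal A := by
      have h1 : (m.asIdeal.comap (algebraMap A B)).IsMaximal :=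
        Ideal.isMaximal_comap_of_isIntegral_of_isMaximal _
      rw [← IsLocalRing.eq_maximalIdeal h1]
      ext x
      rw [LinearMap.mem_ker, Algebra.linearMap_apply, Ideal.mem_comap,
        IsScalarTower.algebraMap_apply A B (B ⧸ m.asIdeal), Ideal.Quotient.algebraMap_eq,
        Ideal.Quotient.eq_zero_iff_mem]
    have : IsSimpleModule A (B ⧸ m.asIdeal) :=
      isSimpleModule_iff_quot_maximal.mpr ⟨maximalIdeal A, inferInstance,
        ⟨((Submodule.quotEquivOfEq _ _ hker).symm.trans
          (LinearMap.quotKerEquivOfSurjective _ hsurj)).symm⟩⟩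
    exact Module.length_eq_one A _
  simp only [h1, one_mul]
  refine Fintype.sum_bijective Subtype.val ⟨Subtype.val_injective, fun m => ⟨⟨m, map_le A B m⟩, rfl⟩⟩ _ _ ?_
  intro m
  rfl

end Groth.Agent.S14438
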