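import Groth.Statements.S14439
import Groth.Agent.Variety.K429.TwFinal

set_option autoImplicit false
universe u
open CategoryTheory CategoryTheory.Limits AlgebraicGeometry
open Variety

namespace Groth.Agent.S14439

/-- Let k be an algebraically closed field, n ≥ 0 and F a coherent sheaf on P^n_k. Then F has a locally
free resolution 0 → E_{n+1} → ⋯ → E_1 → E_0 → F → 0 of length at most n + 1 in which every E_i is a
finite direct sum of twisting sheaves O(d): there are a chain complex C of O-modules with C_i = 0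
for i > n + 1, each C_i isomorphic to a finite coproduct of twisting sheaves, exact in positive
degrees, and an epimorphism C_0 → F whose kernel is the image of C_1 → C_0. -/
theorem result (k : Type u) [Field k] [IsAlgClosed k] (n : ℕ)
    (F : (CohB1.ProjSpace n k).Modules) (hF : Coh.IsCoh F) :
    ∃ (C : ChainComplex (CohB1.ProjSpace n k).Modules ℕ) (π : C.X 0 ⟶ F) (w : C.d 1 0 ≫ π = 0),
      (∀ i : ℕ, n + 1 < i → IsZero (C.X i)) ∧
      (∀ i : ℕ, ∃ (m : ℕ) (d : Fin m → ℤ), Nonempty (C.X i ≅ ∐ fun j : Fin m => Twist.twistProjSpace n k (d j))) ∧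
      (∀ i : ℕ, 1 ≤ i → IsZero (C.homology i)) ∧ Epi π ∧ (ShortComplex.mk (C.d 1 0) π w).Exact := by

  obtain ⟨rk, e', d, π, hd, hπ, hex, hex0, hepi, hlen⟩ := K429.TwFinal.exists_resolution (k := k) (n := n) F hF
  let X : ℕ → (CohB1.ProjSpace n k).Modules := fun i => K429.TwRes.E (CohB1.polyGrading n k) (e' i)
  let C : ChainComplex (CohB1.ProjSpace n k).Modules ℕ := ChainComplex.of X d hd
  have hC : ∀ i, C.d (i + 1) i = d i := fun i => ChainComplex.of_d _ _ _
  have h10 : C.d 1 0 = d 0 := hC 0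
  refine ⟨C, π, by rw [h10]; exact hπ, fun i hi => ?_, fun i => ⟨rk i, fun j => -(e' i j : ℤ), ⟨Iso.refl _⟩⟩, fun i hi => ?_,
    hepi, ?_⟩
  · have h0 : rk i = 0 := hlen i hi
    haveI : IsEmpty (Fin (rk i)) := by rw [h0]; infer_instance
    change IsZero (∐ fun j : Fin (rk i) => Twist.twist (CohB1.polyGrading n k) (-(e' i j : ℤ)))
    rw [IsZero.iff_id_eq_zero]
    exact Sigma.hom_ext _ _ fun j => isEmptyElim j
  · obtain ⟨i, rfl⟩ : ∃ i', i = i' + 1 := ⟨i - 1, by omega⟩
    rw [← HomologicalComplex.exactAt_iff_isZero_homology,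
      HomologicalComplex.exactAt_iff' _ (i + 1 + 1) (i + 1) i (by simp) (by simp)]
    have h := hex i
    refine (ShortComplex.exact_iff_of_iso ?_).mp h
    exact ShortComplex.isoMk (Iso.refl _) (Iso.refl _) (Iso.refl _)
      (by
        change 𝟙 _ ≫ C.d (i + 1 + 1) (i + 1) = d (i + 1) ≫ 𝟙 _
        rw [hC, Category.id_comp, Category.comp_id])
      (by
        change 𝟙 _ ≫ C.d (i + 1) i = d i ≫ 𝟙 _
        rw [hC, Category.id_comp, Category.comp_id])
  · refine (ShortComplex.exact_iff_of_iso ?_).mp hex0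
    exact ShortComplex.isoMk (Iso.refl _) (Iso.refl _) (Iso.refl _)
      (by
        change 𝟙 _ ≫ C.d 1 0 = d 0 ≫ 𝟙 _
        rw [h10, Category.id_comp, Category.comp_id])
      (by
        change 𝟙 _ ≫ π = π ≫ 𝟙 _
        rw [Category.id_comp, Category.comp_id])


end Groth.Agent.S14439
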