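import Groth.Statements.S14442
import Groth.Agent.GrNak.K990.Basic

set_option autoImplicit false
universe u
open GrNak

namespace Groth.Agent.S14442

/-- Let R be a commutative ℕ-graded ring with irrelevant ideal R_+ = ⊕_{i>0} R_i, M an ℕ-graded R-module
and N a graded submodule of M (closed under taking homogeneous components). If M = R_+ M + N then N
= M. (The published statement is for finitely generated ℤ-graded modules over a graded quotient of a
polynomial ring, whose degrees are then bounded below; stated here for non-negatively graded modules
over any ℕ-graded commutative ring, where the same lowest-degree argument applies without finite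
generation.) -/
theorem result {R : Type u} [CommRing R] {σ : Type u} [SetLike σ R] [AddSubmonoidClass σ R]
    (𝒜 : ℕ → σ) [GradedRing 𝒜]
    {M : Type u} [AddCommGroup M] [Module R M] {τ : Type u} [SetLike τ M] [AddSubmonoidClass τ M]
    (ℳ : ℕ → τ) [DirectSum.Decomposition ℳ] [SetLike.GradedSMul 𝒜 ℳ]
    (N : Submodule R M) (hN : ∀ x ∈ N, ∀ i : ℕ, (DirectSum.decompose ℳ x i : M) ∈ N)
    (h : (HomogeneousIdeal.irrelevant 𝒜).toIdeal • (⊤ : Submodule R M) ⊔ N = ⊤) :
    N = ⊤ := by
  classical
  have key : ∀ i : ℕ, ∀ x : M, (DirectSum.decompose ℳ x i : M) ∈ N := by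
    intro i
    induction i using Nat.strong_induction_on with
    | _ i ih =>
      intro x
      have hx : x ∈ (HomogeneousIdeal.irrelevant 𝒜).toIdeal • (⊤ : Submodule R M) ⊔ N := by
        rw [h]; trivial
      obtain ⟨y, hy, z, hz, rfl⟩ := Submodule.mem_sup.mp hx
      rw [DirectSum.decompose_add, DirectSum.add_apply, AddMemClass.coe_add]
      refine N.add_mem ?_ (hN z hz i)
      refine Submodule.smul_induction_on hy ?_ ?_
      · intro r hr m _
        rw [K990.GrNak.coe_decompose_smul 𝒜 ℳ r m i]
        refine N.sum_mem fun a ha => N.sum_mem fun b _ => ?_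
        split_ifs with hab
        · rcases Nat.eq_zero_or_pos a with h0 | hpos
          · subst h0
            have : (DirectSum.decompose 𝒜 r 0 : R) = 0 := hr
            rw [this, zero_smul]
            exact N.zero_mem
          · exact N.smul_mem _ (ih b (by omega) m)
        · exact N.zero_mem
      · intro x y hx hy
        rw [DirectSum.decompose_add, DirectSum.add_apply, AddMemClass.coe_add]
        exact N.add_mem hx hy
  rw [eq_top_iff]
  intro x _
  rw [← DirectSum.sum_support_decompose ℳ x]
  exact N.sum_mem fun i _ => key i x

end Groth.Agent.S14442
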