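import Groth.Statements.S14445
import Groth.Agent.NonAbH1.K554.Fpqc

set_option autoImplicit false
universe u
open NonAbH1

namespace Groth.Agent.S14445

section Aux

open CategoryTheory CategoryTheory.Limits MonoidalCategory CartesianMonoidalCategory MonObj GrpObj AlgebraicGeometry
open Groth.Agent.Books.BorelOrb K554.Fpqc

variable {S : Scheme.{u}} {G X : Over S} [GrpObj G] {a : AlgGrp.Action G X}

/-- the map `(g, t) ↦ (g s(t), t)` -/
private noncomputable def shearAt (a : AlgGrp.Action G X) {T : Over S} (s : T ⟶ X) : G ⊗ T ⟶ X ⊗ T :=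
  lift ((G ◁ s) ≫ a.act) (snd G T)

private lemma comp_shearAt {T Y : Over S} (s : T ⟶ X) (g : Y ⟶ G) (t : Y ⟶ T) :
    lift g t ≫ shearAt a s = lift (sm a g (t ≫ s)) t := by
  rw [shearAt, comp_lift, lift_snd, ← Category.assoc, lift_whiskerLeft, sm]

private lemma isIso_shearAt (ha : NonAbH1.IsPseudoTorsorSch a) {T : Over S} (s : T ⟶ X) :
    IsIso (shearAt a s) := by
  refine ⟨⟨lift (dif ha (fst X T) (snd X T ≫ s)) (snd X T), ?_, ?_⟩⟩
  · rw [comp_lift, comp_dif]
    have h1 : shearAt a s ≫ fst X T = sm a (fst G T) (snd G T ≫ s) := by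
      have := comp_shearAt (a := a) s (fst G T) (snd G T)
      rw [lift_fst_snd, Category.id_comp] at this
      rw [this, lift_fst]
    have h2 : shearAt a s ≫ snd X T = snd G T := by rw [shearAt, lift_snd]
    rw [← Category.assoc (shearAt a s) (snd X T) s, h1, h2, dif_sm_left, dif_self, _root_.mul_one, lift_fst_snd]
  · rw [comp_shearAt, sm_dif, lift_fst_snd]

private lemma existsUnique_of_point {T : Over S} (s : T ⟶ X) [IsIso (shearAt a s)] {Y : Over S} (t : Y ⟶ T)
    (x x' : Y ⟶ X) : ∃! g : Y ⟶ G, sm a g x' = x := by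
  have key : ∀ y : Y ⟶ X, ∃! g : Y ⟶ G, sm a g (t ≫ s) = y := by
    intro y
    refine ⟨lift y t ≫ inv (shearAt a s) ≫ fst G T, ?_, ?_⟩
    · have h1 : lift (lift y t ≫ inv (shearAt a s) ≫ fst G T) t = lift y t ≫ inv (shearAt a s) := by
        apply CartesianMonoidalCategory.hom_ext
        · simp
        · have h2 : inv (shearAt a s) ≫ snd G T = snd X T := by
            rw [IsIso.inv_comp_eq, shearAt, lift_snd]
          rw [lift_snd, Category.assoc, h2, lift_snd]
      have h3 := comp_shearAt (a := a) s (lift y t ≫ inv (shearAt a s) ≫ fst G T) t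
      rw [h1, Category.assoc, IsIso.inv_hom_id, Category.comp_id] at h3
      have h4 := congrArg (· ≫ fst X T) h3
      simpa using h4.symm
    · intro g hg
      have h1 := comp_shearAt (a := a) s g t
      rw [hg] at h1
      rw [← h1]
      simp
  obtain ⟨g₁, h₁, -⟩ := key x
  obtain ⟨g₂, h₂, -⟩ := key x'
  refine ⟨g₁ * g₂⁻¹, ?_, fun g hg => ?_⟩
  · change sm a (g₁ * g₂⁻¹) x' = x
    rw [← h₂, ← mul_sm, inv_mul_cancel_right, h₁]
  · have h3 : g * g₂ = g₁ := (key x).unique (by rw [mul_sm, h₂]; exact hg) h₁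
    rw [← h3, mul_inv_cancel_right]

private lemma isPseudoTorsorSch_of_family {R : Presieve S} (hR : R ∈ Scheme.fpqcPrecoverage S)
    (h : ∀ ⦃S' : Scheme.{u}⦄ (f : S' ⟶ S), R f → ∃ s : Over.mk f ⟶ X, IsIso (shearAt a s)) :
    NonAbH1.IsPseudoTorsorSch a := by
  have hloc : ∀ ⦃S' : Scheme.{u}⦄ (f : S' ⟶ S), R f → ∀ (Y : Over S) (_ : Y ⟶ Over.mk f) (x x' : Y ⟶ X),
      ∃! g : Y ⟶ G, sm a g x' = x := by
    intro S' f hf Y t x x'
    obtain ⟨s, hs⟩ := h f hf
    exact existsUnique_of_point s t x x'
  have hmono : Mono (lift a.act (snd G X)) := by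
    constructor
    intro W p q hpq
    have h1 : p ≫ snd G X = q ≫ snd G X := by
      have := congrArg (· ≫ snd X X) hpq
      simpa using this
    have h2 : p ≫ a.act = q ≫ a.act := by
      have := congrArg (· ≫ fst X X) hpq
      simpa using this
    refine CartesianMonoidalCategory.hom_ext _ _ ?_ h1
    apply Over.OverMorphism.ext
    refine eq_of_cover Scheme.fpqcPrecoverage (Precoverage.pullbackArrows_mem W.hom hR) ?_
    rintro U v ⟨Z, w, hw⟩
    let W' : Over S := Over.mk (pullback.snd w W.hom ≫ W.hom)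
    let b : W' ⟶ W := Over.homMk (pullback.snd w W.hom) rfl
    let t : W' ⟶ Over.mk w := Over.homMk (pullback.fst w W.hom) pullback.condition
    have e : ∀ p : W ⟶ G ⊗ X, b ≫ p ≫ a.act = sm a (b ≫ p ≫ fst G X) (b ≫ p ≫ snd G X) := by
      intro p
      rw [sm]
      simp only [← Category.assoc]
      congr 1
      rw [← comp_lift, lift_fst_snd, Category.comp_id]
    have h3 : b ≫ p ≫ fst G X = b ≫ q ≫ fst G X := by
      refine (hloc w hw W' t (b ≫ q ≫ a.act) (b ≫ q ≫ snd G X)).unique ?_ ?_
      · change sm a (b ≫ p ≫ fst G X) (b ≫ q ≫ snd G X) = _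
        rw [← h1, ← e, h2]
      · exact (e q).symm
    exact congrArg (fun k => k.left) h3
  have hm : Mono (lift a.act (snd G X)).left :=
    inferInstanceAs (Mono ((Over.forget S).map (lift a.act (snd G X))))
  have h1 : IsIso (lift a.act (snd G X)).left := by
    refine isIso_of_mono_of_local_sections Scheme.fpqcPrecoverage (lift a.act (snd G X)).left
      (Precoverage.pullbackArrows_mem (X ⊗ X).hom hR) ?_
    rintro U v ⟨Z, w, hw⟩
    let Y' : Over S := Over.mk (pullback.snd w (X ⊗ X).hom ≫ (X ⊗ X).hom)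
    let b : Y' ⟶ X ⊗ X := Over.homMk (pullback.snd w (X ⊗ X).hom) rfl
    let t : Y' ⟶ Over.mk w := Over.homMk (pullback.fst w (X ⊗ X).hom) pullback.condition
    obtain ⟨g, hg, -⟩ := hloc w hw Y' t (b ≫ fst X X) (b ≫ snd X X)
    have hg : sm a g (b ≫ snd X X) = b ≫ fst X X := hg
    refine ⟨(lift g (b ≫ snd X X)).left, ?_⟩
    rw [← Over.comp_left, comp_lift, lift_snd]
    have h2 : lift g (b ≫ snd X X) ≫ a.act = b ≫ fst X X := hg
    rw [h2, ← comp_lift, lift_fst_snd, Category.comp_id]
    rfl
  have : IsIso ((Over.forget S).map (lift a.act (snd G X))) := h1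
  exact isIso_of_reflects_iso (lift a.act (snd G X)) (Over.forget S)

end Aux


open CategoryTheory MonoidalCategory CartesianMonoidalCategory AlgebraicGeometry in
/-- Let S be a scheme, G a group scheme over S and X an S-scheme with an action of G. Then X is a
G-torsor for the fpqc topology — the morphism G ×_S X → X ×_S X, (g, x) ↦ (gx, x), is an isomorphism
and X → S acquires sections over the members of some fpqc covering family of S — if and only if
there are an fpqc covering family of S and, for each member S' → S, an S-morphism s : S' → X for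
which the G-equivariant S'-morphism G ×_S S' → X ×_S S', (g, t) ↦ (g·s(t), t), is an isomorphism; in
words, X becomes equivariantly isomorphic to the trivial torsor over each member of the covering.
(The published statement is set in any subcanonical site with fibre products, for an invariant arrow
X → Y; this row is its instance for schemes over S with the fpqc topology and Y = S.) -/
theorem result {S : Scheme.{u}} {G X : Over S} [GrpObj G]
    (a : AlgGrp.Action G X) :
    NonAbH1.IsTorsorFor Scheme.fpqcPrecoverage a ↔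
      ∃ R ∈ Scheme.fpqcPrecoverage S, ∀ ⦃S' : Scheme.{u}⦄ (f : S' ⟶ S), R f →
        ∃ s : Over.mk f ⟶ X, IsIso (lift ((G ◁ s) ≫ a.act) (snd G (Over.mk f))) := by
  constructor
  · rintro ⟨ha, R, hR, hsec⟩
    refine ⟨R, hR, fun S' f hf => ?_⟩
    obtain ⟨σ, hσ⟩ := hsec f hf
    exact ⟨Over.homMk σ hσ, isIso_shearAt ha _⟩
  · rintro ⟨R, hR, h⟩
    exact ⟨isPseudoTorsorSch_of_family hR h, R, hR, fun S' f hf => by
      obtain ⟨s, -⟩ := h f hf
      exact ⟨s.left, Over.w s⟩⟩

end Groth.Agent.S14445
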