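import Groth.Statements.S14447
import Mathlib.CategoryTheory.Limits.Constructions.FiniteProductsOfBinaryProducts
import Mathlib.CategoryTheory.Limits.Types.Products
import Mathlib.CategoryTheory.Limits.Preserves.Shapes.BinaryProducts
import Mathlib.CategoryTheory.Limits.Preserves.Shapes.Terminal

set_option autoImplicit false
universe w v u
open AlgGrp

namespace Groth.Agent.S14447

open CategoryTheory CategoryTheory.Limits in
/-- Let C be a category with finite products and with all coproducts indexed by sets, and assume that
for every set I and every object U the canonical arrow ∐_{i∈I} U → (∐_{i∈I} pt) × U, whose i-th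
component pairs U → pt → ∐_{i∈I} pt (i-th coprojection) with the identity of U, is an isomorphism.
Then the discrete-object functor from sets to C, I ↦ ∐_{i∈I} pt, preserves finite products. (Sets
are the types of one fixed universe, the one indexing the coproducts. The published statement asks
only for the coproducts of copies of one object; this row assumes that C has all coproducts indexed
by sets, which Mathlib's discrete-object functor sigmaConst requires.) -/
theorem result {C : Type u} [Category.{v} C]
    [HasFiniteProducts C] [HasCoproducts.{w} C]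
    (h : ∀ (I : Type w) (U : C), IsIso (Sigma.desc fun i : I =>
      prod.lift (terminal.from U ≫ Sigma.ι (fun _ : I => ⊤_ C) i) (𝟙 U))) :
    PreservesFiniteProducts (sigmaConst.{w}.obj (⊤_ C)) := by
  have ht : PreservesLimit (Functor.empty.{0} (Type w)) (sigmaConst.{w}.obj (⊤_ C)) := by
    refine preservesLimit_of_preserves_limit_cone (t := asEmptyCone PUnit.{w+1}) Types.isTerminalPUnit ?_
    refine (isLimitMapConeEmptyConeEquiv _ _).symm ?_
    refine IsTerminal.ofIso terminalIsTerminal ?_
    exact
      { hom := Sigma.ι (fun _ : PUnit.{w+1} => ⊤_ C) PUnit.unit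
        inv := Sigma.desc fun _ => 𝟙 _
        hom_inv_id := by simp
        inv_hom_id := by
          apply Sigma.hom_ext
          rintro ⟨⟩
          simp }
  have hb : ∀ I J : Type w, PreservesLimit (pair I J) (sigmaConst.{w}.obj (⊤_ C)) := by
    intro I J
    refine preservesLimit_of_preserves_limit_cone (Types.binaryProductLimit I J) ?_
    refine (isLimitMapConeBinaryFanEquiv _ _ _).symm ?_
    let F := sigmaConst.{w}.obj (⊤_ C)
    let κ : F.obj (I × J) ≅ ∐ fun _ : I => F.obj J :=
      { hom := Sigma.desc fun x => Sigma.ι (fun _ : J => ⊤_ C) x.2 ≫ Sigma.ι (fun _ : I => F.obj J) x.1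
        inv := Sigma.desc fun i => Sigma.desc fun j => Sigma.ι (fun _ : I × J => ⊤_ C) (i, j)
        hom_inv_id := by
          apply Sigma.hom_ext
          rintro ⟨i, j⟩
          simp only [colimit.ι_desc_assoc, Cofan.mk_ι_app, Category.assoc, colimit.ι_desc]
          exact (Category.comp_id _).symm
        inv_hom_id := by
          apply Sigma.hom_ext
          intro i
          apply Sigma.hom_ext
          intro j
          simp }
    let θ : (∐ fun _ : I => F.obj J) ≅ F.obj I ⨯ F.obj J :=
      @asIso _ _ _ _ _ (h I (F.obj J))
    have hκθ : (κ ≪≫ θ).hom = prod.lift (F.map (↾(Prod.fst : I × J → I))) (F.map (↾(Prod.snd : I × J → J))) := by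
      apply Sigma.hom_ext
      rintro ⟨i, j⟩
      have e1 : terminal.from (⊤_ C) = 𝟙 _ := Subsingleton.elim _ _
      apply prod.hom_ext
      · simp [κ, θ, F, e1]
      · simp [κ, θ, F, e1]
    have key : IsLimit (BinaryFan.mk (F.map (↾(Prod.fst : I × J → I))) (F.map (↾(Prod.snd : I × J → J)))) := by
      let e : BinaryFan.mk (F.map (↾(Prod.fst : I × J → I))) (F.map (↾(Prod.snd : I × J → J))) ≅
          BinaryFan.mk (Limits.prod.fst : F.obj I ⨯ F.obj J ⟶ F.obj I) Limits.prod.snd :=
        BinaryFan.ext (show F.obj (I × J) ≅ F.obj I ⨯ F.obj J from κ ≪≫ θ) (by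
          rw [hκθ]; exact (Limits.prod.lift_fst _ _).symm) (by
          rw [hκθ]; exact (Limits.prod.lift_snd _ _).symm)
      exact IsLimit.ofIsoLimit (prodIsProd (F.obj I) (F.obj J)) e.symm
    exact key
  have hb' : PreservesLimitsOfShape (Discrete WalkingPair) (sigmaConst.{w}.obj (⊤_ C)) :=
    ⟨fun {K} => preservesLimit_of_iso_diagram _ (diagramIsoPair K).symm⟩
  have ht' : PreservesLimitsOfShape (Discrete PEmpty.{1}) (sigmaConst.{w}.obj (⊤_ C)) := 
    preservesLimitsOfShape_pempty_of_preservesTerminal _
  exact PreservesFiniteProducts.of_preserves_binary_and_terminal _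

end Groth.Agent.S14447
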