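import Groth.Statements.S14449
import Groth.Agent.EtCore.K301.Recoll
import Groth.Agent.Etcore.OpenClosed
import Groth.Agent.Etcore.PullJoint
import Groth.Agent.Sga4h.EtaleRes
import Groth.Agent.S0651

set_option autoImplicit false
universe u
open CategoryTheory CategoryTheory.Limits AlgebraicGeometry
open EtCore

namespace Groth.Agent.S14449

/-- `j⁻¹ i_* M = 0`. -/
theorem isZero_pull_push {X Z U : Scheme.{u}}
    (i : Z ⟶ X) [IsClosedImmersion i] (j : U ⟶ X) [IsOpenImmersion j]
    (hZU : Set.range j.base = (Set.range i.base)ᶜ) (M : EtCoh.Ab Z) :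
    IsZero ((EtCoh.pull j).obj ((EtCoh.push i).obj M)) := by
  have : EtShriek.JCont j := Sga4h.EtaleRes.jCont j
  refine Etcore.Stalks.isZero_of_stalks _ fun y => ?_
  obtain ⟨Ω, _, _, ξ, hξ⟩ := Etcore.Stalks.exists_geom y
  refine ⟨Ω, inferInstance, inferInstance, ξ, hξ, ?_⟩
  have hd : Disjoint (Set.range i) (Set.range j) := by
    have h1 : Set.range j = (Set.range i)ᶜ := hZU
    rw [h1]
    exact disjoint_compl_right
  have h := Etcore.OpenClosed.isZero_stalk_push i j hd (ξ ≫ j) ⟨ξ default, rfl⟩ M
  exact h.of_iso ((Etbase.StalkPull.stalkPullIso j ξ).symm.app _)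

/-- Let X be a scheme, i : Z ⟶ X a closed immersion and j : U ⟶ X an open immersion whose image is the
complement of the image of i. Then the functor from abelian sheaves on the small étale site of X to
the category of triples (G on Z, H on U, φ : G ⟶ i⁻¹ j_* H), sending F to (i⁻¹ F, j⁻¹ F, i⁻¹ of the
unit F ⟶ j_* j⁻¹ F), is an equivalence of categories. The category of triples is the comma category
of the identity functor of Ab(Z) over j_* ⋙ i⁻¹. -/
theorem result {X Z U : Scheme.{u}}
    (i : Z ⟶ X) [IsClosedImmersion i] (j : U ⟶ X) [IsOpenImmersion j]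
    (hZU : Set.range j.base = (Set.range i.base)ᶜ) :
    (EtCore.recollTriple i j).IsEquivalence := by
  have : EtShriek.JCont j := Sga4h.EtaleRes.jCont j
  have hi : PreservesFiniteLimits (EtCoh.pull i) := S0101.result i
  have hj : PreservesFiniteLimits (EtCoh.pull j) := S0101.result j
  have hci : ∀ M, IsIso ((EtCoh.pullPushAdj i).counit.app M) := fun M => inferInstance
  have hcj : ∀ N, IsIso ((EtCoh.pullPushAdj j).counit.app N) := fun N => (S0651.result j N).1
  refine K301.Recoll.isEquivalence (EtCoh.pullPushAdj i) (EtCoh.pullPushAdj j) (fun M => ?_)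
    (fun {F G} f h1 h2 => ?_)
  · exact ⟨(isZero_pull_push i j hZU M).isTerminal⟩
  · let Y : Bool → Scheme.{u} := fun b => match b with | true => Z | false => U
    let π : ∀ b, Y b ⟶ X := fun b => match b with | true => i | false => j
    refine Etcore.PullJoint.isIso_of_pull π (fun x => ?_) f (fun b => ?_)
    · by_cases hx : x ∈ Set.range i
      · obtain ⟨z, hz⟩ := hx
        exact ⟨true, z, hz⟩
      · have h3 : x ∈ Set.range j := by
          have h4 : Set.range j = (Set.range i)ᶜ := hZU
          rw [h4]
          exact hx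
        obtain ⟨z, hz⟩ := h3
        exact ⟨false, z, hz⟩
    · cases b
      · exact h2
      · exact h1

end Groth.Agent.S14449
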