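import Groth.Statements.S14454
import Groth.Agent.S0728
import Groth.Agent.Sga4h.HYRestr

set_option autoImplicit false
universe u
open CategoryTheory CategoryTheory.Limits AlgebraicGeometry Opposite
open EtDual

namespace Groth.Agent.S14454

open Groth.Agent.Sga4h Groth.Agent.Sga4h.EtaleRes Groth.Agent.Sga4h.EtaleRes2 Groth.Agent.Sga4h.KerSect
  Groth.Agent.Sga4h.PullInj Groth.Agent.Sga4h.HYRestr

/-- An isomorphism of kernels of restriction maps from a commutative square inducing bijections. -/
noncomputable def kerSectSqIso {X : Scheme.{u}} {W W₁ V V₁ : X.Etale} (m : W₁ ⟶ W) (n : V₁ ⟶ V)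
    (σ : V ⟶ W)
    (h : ∀ F : EtCoh.Ab X, Set.BijOn (F.obj.map σ.op) {s | F.obj.map m.op s = 0}
      {s | F.obj.map n.op s = 0}) : kerSect m ≅ kerSect n :=
  NatIso.ofComponents (fun F =>
    (AddEquiv.toAddCommGrpIso
      (AddEquiv.ofBijective
        (((F.obj.map σ.op).hom.comp (F.obj.map m.op).hom.ker.subtype).codRestrict
          (F.obj.map n.op).hom.ker (fun s => (h F).mapsTo s.2))
        ⟨fun s t hst => Subtype.ext ((h F).injOn s.2 t.2 (congrArg Subtype.val hst)),
          fun s => by
            obtain ⟨t, ht, ht'⟩ := (h F).surjOn s.2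
            exact ⟨⟨t, ht⟩, Subtype.ext ht'⟩⟩) :
      (kerSect m).obj F ≅ (kerSect n).obj F))
    (by
      intro F G φ
      ext s
      exact Subtype.ext (ConcreteCategory.congr_hom (φ.hom.naturality σ.op) s.1).symm)

/-- Let X be a scheme, j : U ⟶ X an open immersion with closed complement Z, f : X' ⟶ X an étale
morphism and j' : U' ⟶ X' an open immersion with image f⁻¹(U), such that f maps Z' = X' − U'
bijectively onto Z with trivial residue field extensions at the points of Z' (f restricts to an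
isomorphism from (f⁻¹Z)_red onto Z_red). Then for every abelian sheaf F on the small étale site of X
and every r, the groups H^r_Z(X, F) and H^r_{Z'}(X', f⁻¹F) are isomorphic; existence of an
isomorphism only, the canonical one being restriction along f. No Noetherian hypothesis on X is
made. -/
theorem result {X X' U U' : Scheme.{u}}
    (f : X' ⟶ X) [AlgebraicGeometry.Etale f] (j : U ⟶ X) [IsOpenImmersion j]
    (j' : U' ⟶ X') [IsOpenImmersion j']
    (hU' : Set.range j'.base = f.base ⁻¹' Set.range j.base)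
    (hZ : Set.BijOn f.base (Set.range j'.base)ᶜ (Set.range j.base)ᶜ)
    (hκ : ∀ x' : ↥X', x' ∉ Set.range j'.base → Function.Surjective (f.residueFieldMap x'))
    (F : EtCoh.Ab X) (r : ℕ) :
    Nonempty ((EtDual.HY j r).obj F ≅ (EtDual.HY j' r).obj ((EtCoh.pull f).obj F)) := by
  have := jCont f
  let m : obj j ⟶ EtCoh.top X := (isTerminalTop X).from (obj j)
  let n₀ : obj j' ⟶ EtCoh.top X' := (isTerminalTop X').from (obj j')
  let n : (EtShriek.compEtale f).obj (obj j') ⟶ obj f := (EtShriek.compEtale f).map n₀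
  let σ : obj f ⟶ EtCoh.top X := (isTerminalTop X).from (obj f)
  have hsets : ∀ {α : Type u} (A B : Set α), A ∩ B = ∅ ↔ B ⊆ Aᶜ := fun A B => by
    rw [← Set.disjoint_iff_inter_eq_empty, Set.subset_compl_iff_disjoint_left]
  have hml : (m.left : U ⟶ X) = j := by
    have h : m.left ≫ 𝟙 X = 𝟙 U ≫ j := MorphismProperty.Over.w m
    exact (Category.comp_id _).symm.trans (h.trans (Category.id_comp _))
  have hnl : (n₀.left : U' ⟶ X') = j' := by
    have h : n₀.left ≫ 𝟙 X' = 𝟙 U' ≫ j' := MorphismProperty.Over.w n₀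
    exact (Category.comp_id _).symm.trans (h.trans (Category.id_comp _))
  have hσ : (σ.left : X' ⟶ X) = f := by
    have h : σ.left ≫ 𝟙 X = 𝟙 X' ≫ f := MorphismProperty.Over.w σ
    exact (Category.comp_id _).symm.trans (h.trans (Category.id_comp _))
  have hmr : ∀ (F : EtCoh.Ab X) (s : EtCoh.sect F (EtCoh.top X)),
      F.obj.map m.op s = 0 ↔ EtShriek.sectSupp F (EtCoh.top X) s ⊆ (Set.range j)ᶜ := by
    intro F s
    refine (Etrest.Supp.map_eq_zero_iff F m s).trans ?_
    have h2 : Set.range (m.left : U ⟶ X) = Set.range j := congrArg (fun q : U ⟶ X => Set.range q) hml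
    refine Iff.trans ?_ (hsets (Set.range j) (EtShriek.sectSupp F (EtCoh.top X) s))
    exact Eq.to_iff (congrArg (fun A : Set X => A ∩ EtShriek.sectSupp F (EtCoh.top X) s = ∅) h2)
  have hnr : ∀ (F : EtCoh.Ab X) (s : EtCoh.sect F (obj f)),
      F.obj.map n.op s = 0 ↔ EtShriek.sectSupp F (obj f) s ⊆ (Set.range j')ᶜ := by
    intro F s
    refine (Etrest.Supp.map_eq_zero_iff F n s).trans ?_
    have h2 : Set.range (n₀.left : U' ⟶ X') = Set.range j' := congrArg (fun q : U' ⟶ X' => Set.range q) hnl
    refine Iff.trans ?_ (hsets (Set.range j') (EtShriek.sectSupp F (obj f) s))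
    exact Eq.to_iff (congrArg (fun A : Set X' => A ∩ EtShriek.sectSupp F (obj f) s = ∅) h2)
  have hpre : (σ.left.base ⁻¹' (Set.range j)ᶜ : Set (obj f).left) = (Set.range j')ᶜ := by
    change (σ.left : X' ⟶ X) ⁻¹' (Set.range j)ᶜ = (Set.range j')ᶜ
    rw [hσ]
    exact congrArg compl hU'.symm
  have key : ∀ F : EtCoh.Ab X, Set.BijOn (F.obj.map σ.op) {s | F.obj.map m.op s = 0}
      {s | F.obj.map n.op s = 0} := by
    intro F
    have h := Groth.Agent.S0728.result F σ ((Set.range j)ᶜ) j.isOpenEmbedding.isOpen_range.isClosed_compl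
      (by
        rw [hpre]
        change Set.BijOn (σ.left : X' ⟶ X) _ _
        rw [hσ]
        exact hZ)
      (by
        intro x hx
        rw [hpre] at hx
        change X' at x
        change Function.Bijective ((σ.left : X' ⟶ X).residueFieldMap x)
        have : ∀ (q : X' ⟶ X) (_ : q = f), Function.Bijective (q.residueFieldMap x) := by
          rintro q rfl
          exact ⟨(Scheme.Hom.residueFieldMap _ x).hom.injective, hκ x hx⟩
        exact this _ hσ)
    rw [hpre] at h
    have h1 : {s | F.obj.map m.op s = 0} = {s | EtShriek.sectSupp F (EtCoh.top X) s ⊆ (Set.range j)ᶜ} :=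
      Set.ext fun s => hmr F s
    have h2 : {s | F.obj.map n.op s = 0} = {s | EtShriek.sectSupp F (obj f) s ⊆ (Set.range j')ᶜ} :=
      Set.ext fun s => hnr F s
    rw [h1, h2]
    exact h
  have e1 : EtDual.gammaSupp j ≅ kerSect m := gammaSuppIso' j
  have e2 : kerSect m ≅ kerSect n := kerSectSqIso m n σ key
  have e3 : EtCoh.pull f ⋙ EtDual.gammaSupp j' ≅ kerSect n :=
    Functor.isoWhiskerLeft (EtCoh.pull f) (gammaSuppIso' j') ≪≫
      Functor.isoWhiskerRight (pullIsoRestr f) _ ≪≫ restrKerSect f n₀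
  exact ⟨(RightDer.rightDerivedIso (e1 ≪≫ e2 ≪≫ e3.symm) r).app F ≪≫
    rightDerivedPull f (EtDual.gammaSupp j') r F⟩

end Groth.Agent.S14454
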