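import Groth.Statements.S14455
import Groth.Agent.Zeta.K468.Basic
import Mathlib.RingTheory.PowerSeries.Substitution

set_option autoImplicit false
universe u
open CategoryTheory AlgebraicGeometry
open Zeta

namespace Groth.Agent.S14455

open Groth.Agent.MiscA K468.Basic

/-- For a scheme X of finite type over a finite field k with q elements, the zeta function of the affine
line over X (a k-scheme through X) is obtained from that of X by the substitution t ↦ qt, that is
Z(𝔸¹_X, t) = Z(X, qt) in ℚ⟦t⟧. (The published statement is the equality ζ(𝔸¹_X, s) = ζ(X, s − 1) of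
zeta functions in the variable s; under the substitution t = q^(−s), which turns ζ(Y, s) into Z(Y,
t) for every Y of finite type over k, it is the identity stated here.) -/
theorem result {k : Type u} [Field k] [Finite k] {X : Scheme.{u}}
    (f : X ⟶ Spec (CommRingCat.of k)) [LocallyOfFiniteType f] [QuasiCompact f] :
    Zeta.zetaFun ((𝔸(PUnit.{u + 1}; X) ↘ X) ≫ f) =
      PowerSeries.rescale (Nat.card k : ℚ) (Zeta.zetaFun f) := by
  classical
  have hN : ∀ m : ℕ, Zeta.nPts ((𝔸(PUnit.{u + 1}; X) ↘ X) ≫ f) m = Nat.card k ^ m * Zeta.nPts f m := by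
    intro m
    rcases Nat.eq_zero_or_pos m with rfl | hm
    · simp [Zeta.nPts]
    obtain ⟨k', _, _, _, hk'⟩ := PointCount.exists_extension k m hm.ne'
    rw [← hk', ← pointCount_eq_nPts, ← pointCount_eq_nPts, ← Module.natCard_eq_pow_finrank (K := k) (V := k'),
      mul_comm, SgaExt.pointCount, SgaExt.pointCount, ← Nat.card_prod]
    refine Nat.card_congr ?_
    let e : Γ(Spec (CommRingCat.of k'), ⊤) ≃ k' := (Scheme.ΓSpecIso (CommRingCat.of k')).commRingCatIsoToRingEquiv.toEquiv
    exact
      { toFun := fun p => (⟨p.1 ≫ (𝔸(PUnit.{u + 1}; X) ↘ X), by rw [Category.assoc]; exact p.2⟩,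
          e (p.1.appTop (AffineSpace.coord X PUnit.unit)))
        invFun := fun p => ⟨AffineSpace.homOfVector p.1.1 (fun _ => e.symm p.2), by
          rw [AffineSpace.homOfVector_over_assoc]; exact p.1.2⟩
        left_inv := fun p => by
          apply Subtype.ext
          apply AffineSpace.hom_ext
          · rw [AffineSpace.homOfVector_over]
          · rintro ⟨⟩
            rw [AffineSpace.homOfVector_appTop_coord, Equiv.symm_apply_apply]
        right_inv := fun p => by
          apply Prod.ext
          · apply Subtype.ext
            exact AffineSpace.homOfVector_over _ _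
          · dsimp only
            rw [AffineSpace.homOfVector_appTop_coord, Equiv.apply_symm_apply] }
  refine K468.PS.LogD_eq (logD_zetaFun _) ?_ (constantCoeff_zetaFun _) ?_
  · have h1 := logD_zetaFun f
    unfold ZetaAbsCx.LogD at h1 ⊢
    ext n
    rcases n with _ | n
    · simp [Zeta.nPts, PowerSeries.coeff_mul]
    · have h2 := congrArg (PowerSeries.coeff (n + 1)) h1
      rw [PowerSeries.coeff_succ_X_mul, PowerSeries.coeff_derivative] at h2 ⊢
      rw [PowerSeries.coeff_rescale, mul_assoc, h2, PowerSeries.coeff_mul, PowerSeries.coeff_mul,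
        Finset.mul_sum]
      refine Finset.sum_congr rfl fun p hp => ?_
      rw [PowerSeries.coeff_rescale, PowerSeries.coeff_mk, PowerSeries.coeff_mk, hN,
        ← Finset.mem_antidiagonal.mp hp]
      push_cast
      ring
  · rw [← PowerSeries.coeff_zero_eq_constantCoeff_apply, PowerSeries.coeff_rescale, pow_zero, one_mul,
      PowerSeries.coeff_zero_eq_constantCoeff_apply]
    exact constantCoeff_zetaFun f

end Groth.Agent.S14455
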