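import Groth.Statements.S14456
import Mathlib.RingTheory.Flat.Tensor
import Mathlib.LinearAlgebra.TensorProduct.Pi
import Mathlib.RingTheory.Filtration
import Mathlib.LinearAlgebra.TensorProduct.RightExactness
import Mathlib.RingTheory.TensorProduct.Finite

set_option autoImplicit false
universe u
open CAlg

namespace Groth.Agent.S14456

open TensorProduct

/-- Take a local homomorphism A → B between Noetherian local rings, M a finitely generated B-module and
f an element of the maximal ideal of B. If M/f^(n+1)M is flat over A for every n ≥ 0, then M is flat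
over A. -/
theorem result {A B : Type u} [CommRing A] [CommRing B]
    [IsNoetherianRing A] [IsNoetherianRing B] [IsLocalRing A] [IsLocalRing B] [Algebra A B]
    [IsLocalHom (algebraMap A B)] (M : Type u) [AddCommGroup M] [Module B M] [Module A M]
    [IsScalarTower A B M] [Module.Finite B M] (f : B) (hf : f ∈ IsLocalRing.maximalIdeal B)
    (hflat : ∀ n : ℕ, Module.Flat A (M ⧸ (Ideal.span {f ^ (n + 1)} • (⊤ : Submodule B M)))) :
    Module.Flat A M := by
  rw [Module.Flat.iff_lTensor_injective']
  intro J
  rw [injective_iff_map_eq_zero]
  intro x hx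
  -- `M ⊗[A] J` is a finite `B`-module
  have hfin : Module.Finite B (M ⊗[A] J) := by
    have hJ : Module.Finite A J := inferInstance
    obtain ⟨n, g, hg⟩ := Module.Finite.exists_fin' A J
    have h1 : Function.Surjective (AlgebraTensorModule.lTensor B M g) := by
      exact LinearMap.lTensor_surjective M hg
    have : Module.Finite B (M ⊗[A] (Fin n → A)) := by
      let e := (TensorProduct.piScalarRight A B M (Fin n))
      exact Module.Finite.equiv e.symm
    exact Module.Finite.of_surjective _ h1
  have key : ∀ n : ℕ, x ∈ (IsLocalRing.maximalIdeal B) ^ n • (⊤ : Submodule B (M ⊗[A] J)) := by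
    intro n
    have hfl := hflat n
    set Q : Submodule B M := Ideal.span {f ^ (n + 1)} • (⊤ : Submodule B M) with hQ
    let π : M →ₗ[A] (M ⧸ Q) := (Q.mkQ).restrictScalars A
    let μ : M →ₗ[A] M := (LinearMap.lsmul B M (f ^ (n + 1))).restrictScalars A
    have hex : Function.Exact μ π := by
      intro m
      constructor
      · intro hm
        have : m ∈ Q := by simpa [π] using hm
        rw [hQ, Submodule.ideal_span_singleton_smul, Submodule.mem_smul_pointwise_iff_exists] at this
        obtain ⟨m', -, rfl⟩ := this
        exact ⟨m', rfl⟩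
      · rintro ⟨m', rfl⟩
        simp only [μ, π, LinearMap.coe_restrictScalars, LinearMap.lsmul_apply, Submodule.mkQ_apply,
          Submodule.Quotient.mk_eq_zero, hQ]
        exact Submodule.smul_mem_smul (Ideal.mem_span_singleton_self _) trivial
    have hπ : Function.Surjective π := Submodule.mkQ_surjective Q
    have h2 : LinearMap.rTensor J π x = 0 := by
      have hinj := (Module.Flat.iff_lTensor_injective' (R := A) (M := (M ⧸ Q))).1 hfl J
      apply hinj
      rw [map_zero]
      have : LinearMap.lTensor (M ⧸ Q) J.subtype (LinearMap.rTensor J π x) =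
          LinearMap.rTensor A π (LinearMap.lTensor M J.subtype x) := by
        rw [← LinearMap.comp_apply, ← LinearMap.comp_apply, LinearMap.lTensor_comp_rTensor,
          LinearMap.rTensor_comp_lTensor]
      rw [this, hx, map_zero]
    obtain ⟨y, rfl⟩ := (rTensor_exact J hex hπ x).1 h2
    have h3 : LinearMap.rTensor J μ y = f ^ (n + 1) • y := by
      clear hx h2
      induction y using TensorProduct.induction_on with
      | zero => simp
      | tmul a b => rfl
      | add a b ha hb => rw [map_add, ha, hb, smul_add]
    rw [h3]
    exact Submodule.smul_mem_smul (Ideal.pow_le_pow_right (Nat.le_succ n)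
      (Ideal.pow_mem_pow hf _)) trivial
  have h4 := Ideal.iInf_pow_smul_eq_bot_of_isLocalRing (R := B) (M := M ⊗[A] J)
    (IsLocalRing.maximalIdeal B) (IsLocalRing.maximalIdeal.isMaximal B).ne_top
  have h5 : x ∈ (⨅ i : ℕ, (IsLocalRing.maximalIdeal B) ^ i • (⊤ : Submodule B (M ⊗[A] J))) := by
    rw [Submodule.mem_iInf]; exact key
  rw [h4] at h5
  simpa using h5

end Groth.Agent.S14456
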