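import Groth.Statements.S14459
import Groth.Agent.Zeta.K468.Basic

set_option autoImplicit false
universe u
open CategoryTheory AlgebraicGeometry
open Zeta

namespace Groth.Agent.S14459

open Groth.Agent.MiscA K468.Basic

/-- Let X be a scheme of finite type over a finite field k and (Y_i) a family of subschemes of X (closed
subschemes of open subschemes, given as immersions Y_i → X) whose closed points partition the closed
points of X: every closed point of X is in the image of exactly one Y_i. Then the zeta function of X
is the product of the zeta functions of the Y_i, viewed over k through X. (The published statement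
is for a scheme of finite type over ℤ, an arbitrary family, and the zeta functions ζ(·, s) as Euler
products; this row is the case of a scheme over a finite field and a finite family, written for Z(·,
t), t = q^(−s).) -/
theorem result {k : Type u} [Field k] [Finite k] {X : Scheme.{u}}
    (f : X ⟶ Spec (CommRingCat.of k)) [LocallyOfFiniteType f] [QuasiCompact f]
    {ι : Type u} [Fintype ι] (Y : ι → Scheme.{u}) (g : ∀ i, Y i ⟶ X) [∀ i, IsImmersion (g i)]
    (hpart : ∀ x : X, IsClosed ({x} : Set X) → ∃! i, x ∈ Set.range (g i).base) :
    Zeta.zetaFun f = ∏ i, Zeta.zetaFun (g i ≫ f) := by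
  classical
  have hcount : ∀ e : ℕ, 0 < e → Zeta.degCount f e = ∑ i, Zeta.degCount (g i ≫ f) e := by
    intro e he
    rw [degCount_eq_ncard f e he, ← Nat.card_coe_set_eq]
    simp_rw [fun i => degCount_eq_ncard (g i ≫ f) e he, ← Nat.card_coe_set_eq]
    have hfin : Finite {x : X | PointCount.degree f x = e} := PointCount.finite_degree_eq f e he
    have hfi : ∀ i, Finite {y : Y i | PointCount.degree (g i ≫ f) y = e} := by
      intro i
      refine Finite.of_injective (fun y : {y : Y i | PointCount.degree (g i ≫ f) y = e} =>
        (⟨g i y.1, by rw [Set.mem_ofPred_eq, ← degree_comp]; exact y.2⟩ :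
          {x : X | PointCount.degree f x = e})) ?_
      rintro ⟨y, hy⟩ ⟨y', hy'⟩ h
      exact Subtype.ext ((g i).isEmbedding.injective (congrArg Subtype.val h))
    rw [← Nat.card_sigma]
    symm
    refine Nat.card_congr (Equiv.ofBijective (fun p : Σ i, {y : Y i | PointCount.degree (g i ≫ f) y = e} =>
        (⟨g p.1 p.2.1, by rw [Set.mem_ofPred_eq, ← degree_comp]; exact p.2.2⟩ :
          {x : X | PointCount.degree f x = e})) ⟨?_, ?_⟩)
    · rintro ⟨i, y, hy⟩ ⟨j, y', hy'⟩ h
      have h1 : g i y = g j y' := congrArg Subtype.val h
      have hcl : IsClosed ({g i y} : Set X) := by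
        rw [isClosed_iff_degree_pos f, ← degree_comp, show _ = e from hy]
        exact he
      obtain rfl : i = j := (hpart _ hcl).unique ⟨y, rfl⟩ ⟨y', h1.symm⟩
      obtain rfl : y = y' := (g i).isEmbedding.injective h1
      rfl
    · rintro ⟨x, hx⟩
      have hcl : IsClosed ({x} : Set X) := by
        rw [isClosed_iff_degree_pos f, show _ = e from hx]
        exact he
      obtain ⟨i, ⟨y, hy⟩, -⟩ := hpart x hcl
      have hy' : g i y = x := hy
      subst hy'
      exact ⟨⟨i, y, by rw [Set.mem_ofPred_eq, degree_comp]; exact hx⟩, rfl⟩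
  have hN : ∀ m : ℕ, Zeta.nPts f m = ∑ i, Zeta.nPts (g i ≫ f) m := by
    intro m
    unfold Zeta.nPts
    rw [Finset.sum_comm]
    refine Finset.sum_congr rfl fun e he => ?_
    rw [hcount e (Nat.pos_of_mem_divisors he), Finset.mul_sum]
  refine K468.PS.LogD_eq (logD_zetaFun f) ?_ (constantCoeff_zetaFun f) ?_
  · have h1 := ZetaAbsCx.LogD.prod Finset.univ (fun i => Zeta.zetaFun (g i ≫ f)) _
      (fun i _ => logD_zetaFun (g i ≫ f))
    have h2 : (PowerSeries.mk fun m => (Zeta.nPts f m : ℚ)) =
        ∑ i, (PowerSeries.mk fun m => (Zeta.nPts (g i ≫ f) m : ℚ)) := by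
      ext m
      rw [map_sum]
      simp only [PowerSeries.coeff_mk]
      rw [hN]
      push_cast
      rfl
    rw [h2]
    exact h1
  · rw [map_prod]
    exact Finset.prod_eq_one fun i _ => constantCoeff_zetaFun _

end Groth.Agent.S14459
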