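import Groth.Statements.S14460
import Groth.Agent.S0294
import Mathlib.AlgebraicGeometry.Morphisms.FlatMono
import Mathlib.AlgebraicGeometry.Morphisms.Etale
import Mathlib.AlgebraicGeometry.Morphisms.UniversallyInjective
import Mathlib.FieldTheory.IsAlgClosed.AlgebraicClosure
import Mathlib.FieldTheory.IsSepClosed

set_option autoImplicit false
universe u
open CategoryTheory CategoryTheory.Limits AlgebraicGeometry
open Pi1

namespace Groth.Agent.S14460

/-- A point with values in a field of a disjoint union factors through a component. -/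
theorem exists_lift_sigma {ι : Type u} (Z : ι → Scheme.{u}) {K : Type u} [Field K]
    (a : Spec (CommRingCat.of K) ⟶ ∐ Z) :
    ∃ (i : ι) (a' : Spec (CommRingCat.of K) ⟶ Z i), a' ≫ Limits.Sigma.ι Z i = a := by
  obtain ⟨⟨i, z⟩, hz⟩ := (sigmaMk Z).surjective (a (IsLocalRing.closedPoint K))
  rw [sigmaMk_mk] at hz
  refine ⟨i, IsOpenImmersion.lift (Limits.Sigma.ι Z i) a ?_, IsOpenImmersion.lift_fac _ _ _⟩
  rintro _ ⟨x, rfl⟩
  have : x = IsLocalRing.closedPoint K := Subsingleton.elim _ _
  exact ⟨z, by rw [this]; exact hz⟩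

/-- An etale universally injective morphism is an open immersion. -/
theorem isOpenImmersion_of_etale {Z W : Scheme.{u}} (φ : Z ⟶ W) [Etale φ] [UniversallyInjective φ] :
    IsOpenImmersion φ := by
  have h1 : Surjective (pullback.diagonal φ) := (UniversallyInjective.iff_diagonal φ).mp inferInstance
  have h2 : IsOpenImmersion (pullback.diagonal φ) := inferInstance
  have h3 : IsIso (pullback.diagonal φ) := by
    have : Epi (pullback.diagonal φ).base := (TopCat.epi_iff_surjective _).mpr h1.1
    exact IsOpenImmersion.isIso _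
  have h4 : Mono φ := (pullback.isIso_diagonal_iff φ).mp h3
  exact IsOpenImmersion.of_flat_of_mono φ

section

variable {X : Scheme.{u}} (Y : FEt.Cat X) {G : Type u} [Group G] (ρ : G →* Aut Y)

/-- The action of `g` on `Y` as a morphism of schemes. -/
noncomputable abbrev act (g : G) : Y.left ⟶ Y.left := (ρ g).hom.left

theorem act_mul (g h : G) : act Y ρ (g * h) = act Y ρ h ≫ act Y ρ g := by
  simp only [act, map_mul]
  rfl

theorem act_one : act Y ρ 1 = 𝟙 Y.left := by
  simp only [act, map_one]
  rfl

theorem act_w (g : G) : act Y ρ g ≫ Y.hom = Y.hom := Over.w (ρ g).hom.hom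

theorem eq_of_comp_act_eq
    (hfree : ∀ g : G, g ≠ 1 → ∀ (K : Type u) [Field K] (y : Spec (CommRingCat.of K) ⟶ Y.left),
      y ≫ act Y ρ g ≠ y) {K : Type u} [Field K] (y : Spec (CommRingCat.of K) ⟶ Y.left) (g h : G)
    (e : y ≫ act Y ρ g = y ≫ act Y ρ h) : g = h := by
  by_contra hne
  refine hfree (g⁻¹ * h) (fun h' => hne (inv_mul_eq_one.mp h')) K y ?_
  rw [act_mul, ← Category.assoc, ← e, Category.assoc, ← act_mul, inv_mul_cancel, act_one,
    Category.comp_id]

/-- The orbit map of a geometric point. -/
noncomputable def orb {K : Type u} [Field K] (y : Spec (CommRingCat.of K) ⟶ Y.left)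
    (ξ : Spec (CommRingCat.of K) ⟶ X) (hy : y ≫ Y.hom = ξ) (g : G) : FEt.fiberObj ξ Y :=
  ⟨y ≫ act Y ρ g, by rw [Category.assoc, act_w, hy]⟩

/-- The map `∐_G Y ⟶ Y ×_X Y`. -/
noncomputable abbrev shear : (∐ fun _ : G => Y.left) ⟶ pullback Y.hom Y.hom :=
  Limits.Sigma.desc fun g : G => pullback.lift (𝟙 Y.left) (act Y ρ g)
    ((Category.id_comp Y.hom).trans (act_w Y ρ g).symm)

theorem ι_shear_fst (g : G) : Limits.Sigma.ι (fun _ : G => Y.left) g ≫ shear Y ρ ≫
    pullback.fst Y.hom Y.hom = 𝟙 _ := by
  rw [Limits.Sigma.ι_desc_assoc]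
  exact pullback.lift_fst _ _ _

theorem ι_shear_snd (g : G) : Limits.Sigma.ι (fun _ : G => Y.left) g ≫ shear Y ρ ≫
    pullback.snd Y.hom Y.hom = act Y ρ g := by
  rw [Limits.Sigma.ι_desc_assoc]
  exact pullback.lift_snd _ _ _

theorem etale_shear : Etale (shear Y ρ) := by
  have h1 : Etale Y.hom := Y.prop.2
  have h2 : Etale (pullback.fst Y.hom Y.hom) := inferInstance
  apply IsZariskiLocalAtSource.sigmaDesc (P := @Etale)
  intro g
  have h3 : Etale (pullback.lift (𝟙 Y.left) (act Y ρ g)
    ((Category.id_comp Y.hom).trans (act_w Y ρ g).symm) ≫ pullback.fst Y.hom Y.hom) := by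
    rw [pullback.lift_fst]
    infer_instance
  exact Etale.of_comp _ (pullback.fst Y.hom Y.hom)

theorem universallyInjective_shear 
    (hfree : ∀ g : G, g ≠ 1 → ∀ (K : Type u) [Field K] (y : Spec (CommRingCat.of K) ⟶ Y.left),
      y ≫ act Y ρ g ≠ y) : UniversallyInjective (shear Y ρ) := by
  refine ((tfae_universallyInjective (shear Y ρ)).out 0 1).mpr ?_
  intro K _ a b hab
  obtain ⟨g, a', rfl⟩ := exists_lift_sigma _ a
  obtain ⟨h, b', rfl⟩ := exists_lift_sigma _ b
  have e1 : a' = b' := by
    have := congr($hab ≫ pullback.fst Y.hom Y.hom)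
    simpa only [Category.assoc, ι_shear_fst, Category.comp_id] using this
  have e2 : a' ≫ act Y ρ g = b' ≫ act Y ρ h := by
    have := congr($hab ≫ pullback.snd Y.hom Y.hom)
    simpa only [Category.assoc, ι_shear_snd, Category.comp_id] using this
  subst e1
  obtain rfl := eq_of_comp_act_eq Y ρ hfree a' g h e2
  rfl

end

/-- Let Y → X be finite étale with Y nonempty and all geometric fibres of the same cardinality n, and
let a finite group G act on Y over X without fixed points (no point of Y with values in a field is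
fixed by a non-identity element). Then G has at most n elements, and it has exactly n elements if
and only if the morphism from the disjoint union of copies of Y indexed by G to Y ×_X Y, given on
the copy indexed by g by the identity and g, is an isomorphism. (For Y empty the bound fails, since
every finite group acts without fixed points on the empty cover, whose fibres have cardinality 0;
this row assumes Y nonempty.) -/
theorem result {X : Scheme.{u}} (Y : FEt.Cat X)
    [Nonempty ↥Y.left] (n : ℕ)
    (hn : ∀ (Ω : Type u) [Field Ω] [IsSepClosed Ω] (ξ : Spec (CommRingCat.of Ω) ⟶ X), Nat.card (FEt.fiberObj ξ Y) = n)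
    (G : Type u) [Group G] [Finite G] (ρ : G →* Aut Y)
    (hfree : ∀ g : G, g ≠ 1 → ∀ (K : Type u) [Field K] (y : Spec (CommRingCat.of K) ⟶ Y.left),
      y ≫ (ρ g).hom.left ≠ y) :
    Nat.card G ≤ n ∧
      (Nat.card G = n ↔ IsIso (Limits.Sigma.desc fun g : G =>
        pullback.lift (𝟙 Y.left) (ρ g).hom.left
          ((Category.id_comp Y.hom).trans (Over.w (ρ g).hom.hom).symm) : (∐ fun _ : G => Y.left) ⟶ pullback Y.hom Y.hom)) := by
  have hinj : ∀ {K : Type u} [Field K] (y : Spec (CommRingCat.of K) ⟶ Y.left),
      Function.Injective (orb Y ρ y _ rfl) := by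
    intro K _ y g h e
    exact eq_of_comp_act_eq Y ρ hfree y g h congr(($e).1)
  have hle : Nat.card G ≤ n := by
    obtain ⟨z⟩ := ‹Nonempty ↥Y.left›
    let K := AlgebraicClosure (Y.left.residueField z)
    let y : Spec (CommRingCat.of K) ⟶ Y.left :=
      Spec.map (CommRingCat.ofHom (algebraMap (Y.left.residueField z) K)) ≫ Y.left.fromSpecResidueField z
    have := S0294.result (y ≫ Y.hom) Y
    rw [← hn K (y ≫ Y.hom)]
    exact Nat.card_le_card_of_injective _ (hinj y)
  refine ⟨hle, ?_, ?_⟩
  · intro hG
    change IsIso (shear Y ρ)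
    have := etale_shear Y ρ
    have := universallyInjective_shear Y ρ hfree
    have := isOpenImmersion_of_etale (shear Y ρ)
    have hs : Surjective (shear Y ρ) := by
      constructor
      intro p
      let K := AlgebraicClosure ((pullback Y.hom Y.hom).residueField p)
      let π : Spec (CommRingCat.of K) ⟶ pullback Y.hom Y.hom :=
        Spec.map (CommRingCat.ofHom (algebraMap ((pullback Y.hom Y.hom).residueField p) K)) ≫
          (pullback Y.hom Y.hom).fromSpecResidueField p
      let y := π ≫ pullback.fst Y.hom Y.hom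
      let s : FEt.fiberObj (y ≫ Y.hom) Y := ⟨π ≫ pullback.snd Y.hom Y.hom, by
        simp only [y, Category.assoc, pullback.condition]⟩
      have hfin := S0294.result (y ≫ Y.hom) Y
      have hbij : Function.Bijective (orb Y ρ y _ rfl) := by
        rw [Nat.bijective_iff_injective_and_card]
        exact ⟨hinj y, hG.trans (hn K (y ≫ Y.hom)).symm⟩
      obtain ⟨g, hg⟩ := hbij.2 s
      have hg' : y ≫ act Y ρ g = π ≫ pullback.snd Y.hom Y.hom := congr(($hg).1)
      have hfac : y ≫ Limits.Sigma.ι (fun _ : G => Y.left) g ≫ shear Y ρ = π := by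
        apply pullback.hom_ext
        · simp only [Category.assoc, ι_shear_fst]
          exact Category.comp_id _
        · simp only [Category.assoc, ι_shear_snd, hg']
      refine ⟨(y ≫ Limits.Sigma.ι (fun _ : G => Y.left) g) (IsLocalRing.closedPoint K), ?_⟩
      rw [← Scheme.Hom.comp_apply, Category.assoc, hfac]
      simp only [π, Scheme.Hom.comp_apply]
      exact Scheme.fromSpecResidueField_apply _ _
    have : Epi (shear Y ρ).base := (TopCat.epi_iff_surjective _).mpr hs.1
    exact IsOpenImmersion.isIso _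
  · intro hI
    change IsIso (shear Y ρ) at hI
    obtain ⟨z⟩ := ‹Nonempty ↥Y.left›
    let K := AlgebraicClosure (Y.left.residueField z)
    let y : Spec (CommRingCat.of K) ⟶ Y.left :=
      Spec.map (CommRingCat.ofHom (algebraMap (Y.left.residueField z) K)) ≫ Y.left.fromSpecResidueField z
    have := S0294.result (y ≫ Y.hom) Y
    refine (Nat.card_eq_of_bijective _ ⟨hinj y, ?_⟩).trans (hn K (y ≫ Y.hom))
    rintro ⟨s, hs⟩
    let π : Spec (CommRingCat.of K) ⟶ pullback Y.hom Y.hom := pullback.lift y s hs.symm
    obtain ⟨g, a, ha⟩ := exists_lift_sigma _ (π ≫ inv (shear Y ρ))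
    have ha' : a ≫ Limits.Sigma.ι (fun _ : G => Y.left) g ≫ shear Y ρ = π := by
      rw [← Category.assoc, ha]; simp
    have e1 : a = y := by
      have := congr($ha' ≫ pullback.fst Y.hom Y.hom)
      simpa only [Category.assoc, ι_shear_fst, Category.comp_id, π, pullback.lift_fst] using this
    have e2 : a ≫ act Y ρ g = s := by
      have := congr($ha' ≫ pullback.snd Y.hom Y.hom)
      simpa only [Category.assoc, ι_shear_snd, Category.comp_id, π, pullback.lift_snd] using this
    refine ⟨g, Subtype.ext ?_⟩
    change y ≫ act Y ρ g = s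
    rw [← e1, e2]

end Groth.Agent.S14460
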