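import Groth.Statements.S14461
import Groth.Agent.Pi1A.ClopenCrit
import Mathlib.AlgebraicGeometry.Noetherian
import Mathlib.AlgebraicGeometry.Morphisms.FiniteType
import Mathlib.Topology.Connected.Clopen

set_option autoImplicit false
universe u
open CategoryTheory CategoryTheory.Limits AlgebraicGeometry
open Pi1

namespace Groth.Agent.S14461

/-- In a noetherian space a union of connected components is closed. -/
theorem isClosed_of_saturated {A : Type*} [TopologicalSpace A] [TopologicalSpace.NoetherianSpace A]
    (U : Set A) (h : ∀ x ∈ U, connectedComponent x ⊆ U) : IsClosed U := by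
  have hf := TopologicalSpace.NoetherianSpace.finite_irreducibleComponents (α := A)
  have hU : U = ⋃₀ {Z | Z ∈ irreducibleComponents A ∧ Z ⊆ U} := by
    apply Set.Subset.antisymm
    · intro x hx
      refine ⟨irreducibleComponent x, ⟨irreducibleComponent_mem_irreducibleComponents x, ?_⟩,
        mem_irreducibleComponent⟩
      exact ((isIrreducible_irreducibleComponent (x := x)).isPreirreducible.isPreconnected
        |>.subset_connectedComponent mem_irreducibleComponent).trans (h x hx)
    · exact Set.sUnion_subset fun Z hZ => hZ.2
  rw [hU, Set.sUnion_eq_biUnion]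
  exact Set.Finite.isClosed_biUnion (hf.subset fun Z hZ => hZ.1) fun Z hZ =>
    isClosed_of_mem_irreducibleComponents Z hZ.1

theorem isClopen_of_saturated {A : Type*} [TopologicalSpace A] [TopologicalSpace.NoetherianSpace A]
    (U : Set A) (h : ∀ x ∈ U, connectedComponent x ⊆ U) : IsClopen U := by
  refine ⟨isClosed_of_saturated U h, ?_⟩
  rw [← isClosed_compl_iff]
  refine isClosed_of_saturated _ fun x hx y hy hyU => hx ?_
  have := h y hyU
  rw [← connectedComponent_eq hy] at this
  exact this mem_connectedComponent

/-- Let X be a Noetherian scheme and X₀ → X a closed immersion such that, for every finite étale Y → X,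
the projection Y ×_X X₀ → Y induces a bijection on connected components. Then restriction of finite
étale covers from X to X₀ is full and faithful. -/
theorem result {X X₀ : Scheme.{u}} [IsNoetherian X]
    (i : X₀ ⟶ X) [IsClosedImmersion i]
    (h : ∀ Y : FEt.Cat X, Function.Bijective (pullback.fst Y.hom i).continuous.connectedComponentsMap) :
    (FEt.restrict i).Full ∧ (FEt.restrict i).Faithful := by
  apply Pi1A.ClopenCrit.restrict_fullyFaithful_of_isClopen
  · intro T U hU hU0
    by_contra hne
    obtain ⟨x, hx⟩ := Set.nonempty_iff_ne_empty.mpr hne
    obtain ⟨c, hc⟩ := (h T).2 (x : ConnectedComponents T.left)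
    obtain ⟨x₀, rfl⟩ := ConnectedComponents.surjective_coe c
    have h1 : connectedComponent ((pullback.fst T.hom i) x₀) = connectedComponent x :=
      ConnectedComponents.coe_eq_coe.mp hc
    have h2 : (pullback.fst T.hom i) x₀ ∈ U := by
      apply hU.connectedComponent_subset hx
      rw [← h1]
      exact mem_connectedComponent
    have h3 : x₀ ∈ (pullback.fst T.hom i) ⁻¹' U := h2
    rw [hU0] at h3
    exact h3
  · intro T V hV
    let g : T.left ⟶ X := T.hom
    have hf : IsFinite g := T.prop.1
    have : IsLocallyNoetherian T.left := LocallyOfFiniteType.isLocallyNoetherian g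
    have : CompactSpace T.left := QuasiCompact.compactSpace_of_compactSpace g
    have hN : IsNoetherian T.left := {}
    let f := pullback.fst T.hom i
    refine ⟨{x | ∃ v ∈ V, connectedComponent (f v) = connectedComponent x}, ?_, ?_⟩
    · apply isClopen_of_saturated
      rintro x ⟨v, hv, hvx⟩ y hy
      exact ⟨v, hv, hvx.trans (connectedComponent_eq hy)⟩
    · ext z
      constructor
      · rintro ⟨v, hv, hvz⟩
        have : (f.continuous.connectedComponentsMap (v : ConnectedComponents _)) =
            f.continuous.connectedComponentsMap (z : ConnectedComponents _) :=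
          ConnectedComponents.coe_eq_coe.mpr hvz
        have h2 := (h T).1 this
        rw [ConnectedComponents.coe_eq_coe] at h2
        apply hV.connectedComponent_subset hv
        rw [h2]
        exact mem_connectedComponent
      · intro hz
        exact ⟨z, hz, rfl⟩

end Groth.Agent.S14461
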