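import Groth.Statements.S14462
import Groth.Agent.Unram.K147.CodimTwo
import Groth.Agent.Unram.K147.AffPull
import Groth.Agent.S0288

set_option autoImplicit false
universe u
open CategoryTheory AlgebraicGeometry
open Unram

namespace Groth.Agent.S14462


/-- Let f : X → Y be finite and flat with Y locally Noetherian, and let U ⊆ Y be open with every point
of the complement having a local ring of Krull dimension at least 2. If f is étale over U, then f is
étale. -/
theorem result {X Y : Scheme.{u}} [IsLocallyNoetherian Y]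
    (f : X ⟶ Y) [IsFinite f] [Flat f] (U : Y.Opens)
    (hU : ∀ y : Y, y ∉ U → (2 : WithBot ℕ∞) ≤ ringKrullDim (Y.presheaf.stalk y))
    [Etale (f ∣_ U)] : Etale f := by
  refine Groth.Agent.S0288.etale_of_forall_app f fun V hV => ?_
  have hN : IsNoetherianRing Γ(Y, V) := IsLocallyNoetherian.component_noetherian ⟨V, hV⟩
  have hfin : (f.app V).hom.Finite := IsFinite.finite_app f V hV
  have hflat : (f.app V).hom.Flat := by
    rw [Scheme.Hom.app_eq_appLE]
    exact HasRingHomProperty.appLE (P := @Flat) f inferInstance ⟨V, hV⟩ ⟨_, hV.preimage f⟩ le_rfl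
  algebraize [(f.app V).hom]
  refine K147.CodimTwo.etale_of_codim Γ(Y, V) Γ(X, f ⁻¹ᵁ V) ?_
  intro p hp hdim
  let K := Localization.AtPrime p
  let x : Spec Γ(Y, V) := ⟨p, hp⟩
  let y : Y := hV.fromSpec x
  have hyV : y ∈ V := by
    have : y ∈ hV.fromSpec.opensRange := ⟨x, rfl⟩
    rwa [IsAffineOpen.opensRange_fromSpec] at this
  have hyU : y ∈ U := by
    by_contra hyU
    have h2 := hU y hyU
    have h3 := hV.isLocalization_stalk ⟨y, hyV⟩
    have h4 : hV.primeIdealOf ⟨y, hyV⟩ = x := hV.fromSpec.injective (hV.fromSpec_primeIdealOf ⟨y, hyV⟩)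
    have h5 : (hV.primeIdealOf ⟨y, hyV⟩).asIdeal = p := congrArg PrimeSpectrum.asIdeal h4
    let := TopCat.Presheaf.algebra_section_stalk Y.presheaf ⟨y, hyV⟩
    have h6 : ringKrullDim (Y.presheaf.stalk y) = p.height := by
      rw [← h5]
      exact @IsLocalization.AtPrime.ringKrullDim_eq_height _ _ _ _ _ _ _ h3
    rw [h6, ← IsLocalization.AtPrime.ringKrullDim_eq_height p K] at h2
    have h7 := h2.trans hdim
    exact absurd h7 (by decide)
  -- the point of `Spec K` lands in `U`
  refine K147.AffPull.etale_tensor f hV K rfl U ?_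
  let g := Spec.map (CommRingCat.ofHom (algebraMap Γ(Y, V) K)) ≫ hV.fromSpec
  have h1 : g (IsLocalRing.closedPoint K) = y := by
    change hV.fromSpec (Spec.map (CommRingCat.ofHom (algebraMap Γ(Y, V) K)) (IsLocalRing.closedPoint K)) = hV.fromSpec x
    congr 1
    exact PrimeSpectrum.ext (IsLocalization.AtPrime.under_maximalIdeal K p)
  have h2 : g ⁻¹ᵁ U = ⊤ := IsLocalRing.closed_point_mem_iff.mp (by
    change g (IsLocalRing.closedPoint K) ∈ U
    rw [h1]; exact hyU)
  rintro _ ⟨z, rfl⟩
  have h3 : z ∈ g ⁻¹ᵁ U := by rw [h2]; trivial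
  rw [Scheme.Opens.range_ι]
  exact h3

end Groth.Agent.S14462
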