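import Groth.Statements.S14464
import Groth.Agent.EtPBC.K349.NagataPush
import Groth.Agent.S0127

set_option autoImplicit false
universe u
open CategoryTheory CategoryTheory.Limits AlgebraicGeometry Opposite
open EtPBC

namespace Groth.Agent.S14464

/-- Let X be a Noetherian scheme whose affine opens have universally Japanese coordinate rings, q : Y →
X a quasi-compact quasi-finite morphism locally of finite type, and F a constructible abelian étale
sheaf on Y. Then q_* F is constructible. -/
theorem result {X Y : Scheme.{u}} [IsNoetherian X]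
    (hX : ∀ U : X.Opens, IsAffineOpen U → CAlg.IsUniversallyJapanese Γ(X, U))
    (q : Y ⟶ X) [LocallyQuasiFinite q] [LocallyOfFiniteType q] [QuasiCompact q]
    (F : EtCoh.Ab Y) (hF : EtPBC.IsConstructible F) :
    EtPBC.IsConstructible ((EtCoh.push q).obj F) := by
  have hYN : IsLocallyNoetherian Y := LocallyOfFiniteType.isLocallyNoetherian q
  have hoi : ∀ U : X.affineOpens, IsOpenImmersion (IsAffineOpen.fromSpec U.2) :=
    fun U => IsAffineOpen.isOpenImmersion_fromSpec U.2
  refine Groth.Agent.EtpbcA.StrataGlob.isConstructible_of_openImmersions _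
    (fun U : X.affineOpens => Spec Γ(X, U.1)) (fun U => U.2.fromSpec) ?_ fun U => ?_
  · intro x
    obtain ⟨_, ⟨U, hU, rfl⟩, hxU, -⟩ := X.isBasis_affineOpens.exists_subset_of_mem_open
      (Set.mem_univ x) isOpen_univ
    refine ⟨⟨U, hU⟩, ?_⟩
    have hU' : IsAffineOpen U := hU
    change x ∈ Set.range hU'.fromSpec
    rw [hU'.range_fromSpec]
    exact hxU
  · have hR : CAlg.IsNagata Γ(X, U.1) :=
      (Groth.Agent.S0567.result _).2 ⟨IsLocallyNoetherian.component_noetherian U, hX U.1 U.2⟩
    let j := U.2.fromSpec
    have e1 : (EtCoh.pull j).obj ((EtCoh.push q).obj F) ≅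
        (EtCoh.push (pullback.snd q j)).obj ((EtCoh.pull (pullback.fst q j)).obj F) :=
      (Groth.Agent.EtpbcA.OverSite.pullIsoRestr j).app _ ≪≫
        (Groth.Agent.EtpbcA.OverSite2.restrPushSq j q (pullback.fst q j) (pullback.snd q j)
          (IsPullback.of_hasPullback q j)).symm.app F ≪≫
        (EtCoh.push (pullback.snd q j)).mapIso
          ((Groth.Agent.EtpbcA.OverSite.pullIsoRestr (pullback.fst q j)).symm.app F)
    refine Groth.Agent.EtpbcA.StrataGlob.isConstructible_of_iso e1.symm ?_
    exact K349.NagataPush.isConstructible_affine (R := Γ(X, U.1)) hR (pullback.snd q j) _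
      (Groth.Agent.S0127.result (pullback.fst q j) F hF)

end Groth.Agent.S14464
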