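import Groth.Statements.S14468
import Groth.Agent.Curves.K324.NodeDer3

set_option autoImplicit false
universe u
open CategoryTheory CategoryTheory.Limits AlgebraicGeometry
open Curves
open K324.NodeAlg K324.RDer K324.NodeNorm K324.NodeDer K324.NodeDer2 K324.NodeDer3 IsLocalRing

namespace Groth.Agent.S14468

/-- Let k be an algebraically closed field and X a proper connected k-scheme of dimension one with
at-worst-nodal singularities; let ν : X' → X be a finite morphism from a normal scheme which is an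
isomorphism over a dense open subset of X with dense preimage (the normalization of X). A
k-derivation D' of O_{X'} into itself is said to fix the point x' when, for every open W containing
x' and every function t on W whose germ at x' lies in the maximal ideal, the germ of D'(t) at x'
again lies in the maximal ideal. Then the k-derivations of O_X into itself correspond exactly to the
k-derivations of O_{X'} into itself fixing every point of X' over a node of X: (1) for every
k-derivation D of O_X there is exactly one k-derivation D' of O_{X'} with D'(ν♯ s) = ν♯(D s) for all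
opens V of X and all s in O_X(V), and this D' fixes every point of X' mapping to a node of X; (2)
every k-derivation D' of O_{X'} which fixes all points mapping to nodes of X satisfies D'(ν♯ s) =
ν♯(D s) for some k-derivation D of O_X. -/
theorem result (k : Type u) [Field k] [IsAlgClosed k]
    (X : Scheme.{u}) [X.Over (Spec (CommRingCat.of k))] [IsProper (X ↘ (Spec (CommRingCat.of k)))] [ConnectedSpace X]
    (hdim : topologicalKrullDim X = 1) (hX : Curv2.AtWorstNodal k X)
    (X' : Scheme.{u}) (ν : X' ⟶ X) [IsFinite ν] (hX' : Pi1.IsNormalScheme X')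
    (U : X.Opens) (hU : Dense (U : Set X)) (hU' : Dense ((ν ⁻¹ᵁ U : X'.Opens) : Set X')) (hνU : IsIso (ν ∣_ U)) :
    (∀ D : OmegaSh.Der (X ↘ (Spec (CommRingCat.of k))) (Coh.structureModule X),
      ∃ D' : OmegaSh.Der (ν ≫ (X ↘ (Spec (CommRingCat.of k)))) (Coh.structureModule X'),
        (∀ (V : X.Opens) (s : Γ(X, V)),
          OmegaSh.fnSect X' (ν ⁻¹ᵁ V) (D'.app (ν ⁻¹ᵁ V) (ν.app V s)) = ν.app V (OmegaSh.fnSect X V (D.app V s))) ∧
        (∀ D'' : OmegaSh.Der (ν ≫ (X ↘ (Spec (CommRingCat.of k)))) (Coh.structureModule X'),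
          (∀ (V : X.Opens) (s : Γ(X, V)),
            OmegaSh.fnSect X' (ν ⁻¹ᵁ V) (D''.app (ν ⁻¹ᵁ V) (ν.app V s)) = ν.app V (OmegaSh.fnSect X V (D.app V s))) →
          D'' = D') ∧
        (∀ x' : X', Curv2.IsNode k X (ν x') →
          ∀ (W : X'.Opens) (hx : x' ∈ W) (t : Γ(X', W)),
            X'.presheaf.germ W x' hx t ∈ IsLocalRing.maximalIdeal (X'.presheaf.stalk x') →
            X'.presheaf.germ W x' hx (OmegaSh.fnSect X' W (D'.app W t)) ∈ IsLocalRing.maximalIdeal (X'.presheaf.stalk x'))) ∧
    (∀ D' : OmegaSh.Der (ν ≫ (X ↘ (Spec (CommRingCat.of k)))) (Coh.structureModule X'),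
      (∀ x' : X', Curv2.IsNode k X (ν x') →
        ∀ (W : X'.Opens) (hx : x' ∈ W) (t : Γ(X', W)),
          X'.presheaf.germ W x' hx t ∈ IsLocalRing.maximalIdeal (X'.presheaf.stalk x') →
          X'.presheaf.germ W x' hx (OmegaSh.fnSect X' W (D'.app W t)) ∈ IsLocalRing.maximalIdeal (X'.presheaf.stalk x')) →
      ∃ D : OmegaSh.Der (X ↘ (Spec (CommRingCat.of k))) (Coh.structureModule X),
        ∀ (V : X.Opens) (s : Γ(X, V)),
          OmegaSh.fnSect X' (ν ⁻¹ᵁ V) (D'.app (ν ⁻¹ᵁ V) (ν.app V s)) = ν.app V (OmegaSh.fnSect X V (D.app V s))) := by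
  have hdim1 : topologicalKrullDim X ≤ 1 := hdim.le
  have : IsReduced X := isReduced_of_atWorstNodal X k hX
  have hred' : IsReduced X' := by
    have : ∀ x : X', _root_.IsReduced (X'.presheaf.stalk x) := fun x => by
      have := (hX' x).1
      infer_instance
    exact isReduced_of_isReduced_stalk X'
  refine ⟨fun D => ?_, fun D' hfix => ?_⟩
  · obtain ⟨R', hR'⟩ := exists_ext hU' hνU (fun w τ => hE k hdim1 hX hX' hU hU' hνU D w τ)
    have hbase : ∀ (V : (Spec (CommRingCat.of k)).Opens) (c : Γ(Spec (CommRingCat.of k), V)),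
        R'.d ((ν ≫ (X ↘ (Spec (CommRingCat.of k)))) ⁻¹ᵁ V) ((ν ≫ (X ↘ (Spec (CommRingCat.of k)))).app V c) = 0 := by
      intro V c
      have h1 := Rel.app (R := RD.ofDer D) hνU ((X ↘ (Spec (CommRingCat.of k))) ⁻¹ᵁ V)
        ((X ↘ (Spec (CommRingCat.of k))).app V c)
      rw [RD.ofDer_base, map_zero] at h1
      exact (hR' _ _).unique hU' hνU h1
    have hcomp : ∀ (V : X.Opens) (s : Γ(X, V)),
        R'.d (ν ⁻¹ᵁ V) (ν.app V s) = ν.app V ((RD.ofDer D).d V s) := fun V s =>
      (hR' _ _).unique hU' hνU (Rel.app hνU V s)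
    refine ⟨R'.toDer _ hbase, hcomp, fun D'' hD'' => ?_, fun x' hx' W hxW t ht => ?_⟩
    · refine der_ext fun W t => ?_
      refine Rel.unique (ν := ν) (R := RD.ofDer D) (t := t) hU' hνU ?_ (hR' W t)
      intro w hw hwU σ hσ
      obtain ⟨V, hV, a, rfl⟩ := TopCat.Presheaf.exists_germ_eq X.presheaf σ
      have hwV : w ∈ ν ⁻¹ᵁ V := hV
      have h1 : X'.presheaf.germ W w hw ((RD.ofDer D'').d W t) =
          X'.presheaf.germ _ w hwV ((RD.ofDer D'').d _ (ν.app V a)) := by
        rw [← RD.st_germ, ← RD.st_germ, ← hσ, germ_app]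
      have h2 : (RD.ofDer D'').d (ν ⁻¹ᵁ V) (ν.app V a) = ν.app V ((RD.ofDer D).d V a) := hD'' V a
      rw [RD.st_germ]
      refine h1.trans ?_
      rw [h2, germ_app]
    · have h1 : R'.st x' (X'.presheaf.germ W x' hxW t) = X'.presheaf.germ W x' hxW (R'.d W t) :=
        R'.st_germ x' W hxW t
      change X'.presheaf.germ W x' hxW (R'.d W t) ∈ _
      rw [← h1]
      have h2 := max_le_map k hX' hU hU' hνU x' hx' ht
      generalize X'.presheaf.germ W x' hxW t = τ at h2
      let _ := Curv2.stalkAlgebra k X (ν x')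
      obtain ⟨φ, ψ, hb⟩ := exists_isBranch_of_isNode X k (ν x') hx'
      have h3 : ∀ σ : X.presheaf.stalk (ν x'), R'.st x' (ν.stalkMap x' σ) =
          ν.stalkMap x' ((RD.ofDer D).st (ν x') σ) := by
        intro σ
        obtain ⟨V, hV, a, rfl⟩ := TopCat.Presheaf.exists_germ_eq X.presheaf σ
        have hwV : x' ∈ ν ⁻¹ᵁ V := hV
        have h4 := germ_app (ν := ν) x' hwV a
        rw [← h4, RD.st_germ, RD.st_germ, hcomp, germ_app]
      refine Submodule.span_induction (p := fun τ _ => R'.st x' τ ∈ maximalIdeal (X'.presheaf.stalk x'))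
        ?_ ?_ ?_ ?_ h2
      · rintro _ ⟨m, hm, rfl⟩
        change R'.st x' (ν.stalkMap x' m) ∈ _
        rw [h3]
        exact map_nonunit (ν.stalkMap x').hom _ (hb.der_max _ (RD.st_mul _ _) (st_algebraMap k D _) hm)
      · rw [map_zero]
        exact Ideal.zero_mem _
      · rintro x y - - hx hy
        rw [map_add]
        exact Ideal.add_mem _ hx hy
      · rintro a x hx hx'
        rw [smul_eq_mul, RD.st_mul]
        refine Ideal.add_mem _ (Ideal.mul_mem_left _ _ hx') (Ideal.mul_mem_right _ _ ?_)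
        refine Ideal.map_le_iff_le_comap.2 (fun m hm => ?_) hx
        exact map_nonunit (ν.stalkMap _).hom _ hm
  · obtain ⟨R, hR⟩ := exists_desc k hdim1 hX hX' hU hU' hνU D' hfix
    refine ⟨R.toDer _ fun V c => ?_, fun V s => (hR V s).symm⟩
    apply injective_app hU hνU
    rw [hR, map_zero]
    exact RD.ofDer_base D' V c

end Groth.Agent.S14468
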