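import Groth.Statements.S14471
import Groth.Agent.Curves.K325.VanOrd
import Groth.Agent.CycB.ModStalk
import Groth.Agent.CurvesC.InvSec
import Groth.Agent.VarietyA.RegPoint
import Groth.Agent.CurvesA.CurveDvr

set_option autoImplicit false
universe u
open CategoryTheory CategoryTheory.Limits AlgebraicGeometry
open Curves

namespace Groth.Agent.S14471

/-- On an integral scheme a global section of an invertible module with zero germ at a point is zero. -/
theorem eq_zero_of_germ {X : Scheme.{u}} [IsIntegral X] {L : X.Modules} (hL : PicF.IsInvertible L) (p : X)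
    (s : L.presheaf.obj (Opposite.op ⊤)) (h : (L.presheaf.germ ⊤ p trivial) s = 0) : s = 0 := by
  have h0 : (L.presheaf.germ ⊤ p trivial) s = (L.presheaf.germ ⊤ p trivial) 0 := by rw [h, map_zero]
  obtain ⟨W, hpW, iU, iV, hW⟩ := L.presheaf.germ_eq (U := ⊤) (V := ⊤) p trivial trivial _ _ h0
  refine Groth.Agent.CurvesC.InvSec.eq_zero_of_res_eq_zero hL (le_top : W ≤ ⊤) ⟨p, hpW⟩ s ?_
  rw [map_zero] at hW
  exact hW

/-- Let k be an algebraically closed field, C a smooth proper curve over k (proper and smooth over k,
integral, of dimension one), (L, s_0, …, s_r) a linear series g^r_d on C (L an invertible module of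
degree d with k-linearly independent global sections s_0, …, s_r spanning a subspace V of Γ(C, L))
and p a closed point of C. For a nonzero σ ∈ V write ord_p σ for the length of the O_{C,p}-module
L_p/(σ_p), the order of vanishing of σ at p. Then σ ↦ ord_p σ takes exactly r + 1 distinct values on
V minus 0. (The published statement is for a smooth projective curve over the complex numbers and a
complex point p; this row states it over any algebraically closed field.) -/
theorem result (k : Type u) [Field k] [IsAlgClosed k]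
    (C : Scheme.{u}) [C.Over (Spec (CommRingCat.of k))] (hC : Curve.IsSmoothProperCurve k C (C ↘ (Spec (CommRingCat.of k))))
    (L : C.Modules) (d r : ℕ) (s : Fin (r + 1) → LinSer.Sect C L) (hL : LinSer.IsLinSer k C L d r s)
    (p : C) (hp : IsClosed ({p} : Set C)) :
    Set.ncard ((fun c : Fin (r + 1) → k =>
        Module.length (C.presheaf.stalk p)
          (↥(L.presheaf.stalk p) ⧸ Submodule.span (C.presheaf.stalk p)
            {(L.presheaf.germ ⊤ p trivial) (∑ i, (Coh.toGlobal (C ↘ Spec (CommRingCat.of k)) (c i)) • s i)})) ''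
        {c : Fin (r + 1) → k | c ≠ 0}) = r + 1 := by
  obtain ⟨hprop, hsm, hint, hdim⟩ := hC
  obtain ⟨hinv, -, hind⟩ := hL
  have hgen : p ≠ genericPoint C := Groth.Agent.VarietyA.RegPoint.ne_genericPoint_of_isClosed hdim hp
  have hdvr : IsDiscreteValuationRing (C.presheaf.stalk p) :=
    Groth.Agent.CurvesA.CurveDvr.isDiscreteValuationRing_stalk (C ↘ (Spec (CommRingCat.of k))) hdim.le p hgen
  obtain ⟨t, ht⟩ := Groth.Agent.CycB.ModStalk.exists_isGen hinv p
  let e : C.presheaf.stalk p ≃ₗ[C.presheaf.stalk p] L.presheaf.stalk p :=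
    LinearEquiv.ofBijective (LinearMap.toSpanSingleton _ _ t) ht
  letI : Algebra k (C.presheaf.stalk p) := Curv2.stalkAlgebra k C p
  let σ : (Fin (r + 1) → k) → LinSer.Sect C L := fun c =>
    ∑ i, (Coh.toGlobal (C ↘ Spec (CommRingCat.of k)) (c i)) • s i
  have hσadd : ∀ c c', σ (c + c') = σ c + σ c' := by
    intro c c'
    simp only [σ, Pi.add_apply, map_add, add_smul]
    exact Finset.sum_add_distrib
  have hσsmul : ∀ (a : k) c, σ (a • c) = (Coh.toGlobal (C ↘ Spec (CommRingCat.of k)) a) • σ c := by
    intro a c
    simp only [σ, Pi.smul_apply, smul_eq_mul, map_mul, mul_smul]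
    exact (Finset.smul_sum).symm
  let g : (Fin (r + 1) → k) →ₗ[k] C.presheaf.stalk p :=
    { toFun := fun c => e.symm ((L.presheaf.germ ⊤ p trivial) (σ c))
      map_add' := by
        intro c c'
        rw [hσadd]
        have h1 : (L.presheaf.germ ⊤ p trivial) (σ c + σ c') =
          (L.presheaf.germ ⊤ p trivial) (σ c) + (L.presheaf.germ ⊤ p trivial) (σ c') :=
          map_add (L.presheaf.germ ⊤ p trivial).hom _ _
        rw [h1, map_add]
      map_smul' := by
        intro a c
        rw [hσsmul]
        have h1 : (L.presheaf.germ ⊤ p trivial) ((Coh.toGlobal (C ↘ Spec (CommRingCat.of k)) a) • σ c) =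
          (algebraMap k (C.presheaf.stalk p) a) • (L.presheaf.germ ⊤ p trivial) (σ c) :=
          Groth.Agent.CycB.ModStalk.germ_smul (L := L) ⊤ p trivial _ _
        rw [h1, map_smul, RingHom.id_apply]
        exact (Algebra.smul_def a _).symm }
  have hginj : Function.Injective g := by
    rw [injective_iff_map_eq_zero]
    intro c hc
    have h1 : (L.presheaf.germ ⊤ p trivial) (σ c) = 0 := by
      have h2 : e.symm ((L.presheaf.germ ⊤ p trivial) (σ c)) = 0 := hc
      exact (LinearEquiv.map_eq_zero_iff _).1 h2
    exact hind c (eq_zero_of_germ hinv p _ h1)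
  have hmain := (K325.VanOrd.ncard_image g hginj
    (fun a => Groth.Agent.VarietyA.RegPoint.exists_sub_mem_maximalIdeal k C hp a) (r + 1) ⊤ inferInstance
    (by rw [finrank_top, Module.finrank_fin_fun])).1
  have himg : ((fun c : Fin (r + 1) → k =>
        Module.length (C.presheaf.stalk p)
          (↥(L.presheaf.stalk p) ⧸ Submodule.span (C.presheaf.stalk p)
            {(L.presheaf.germ ⊤ p trivial) (∑ i, (Coh.toGlobal (C ↘ Spec (CommRingCat.of k)) (c i)) • s i)})) ''
        {c : Fin (r + 1) → k | c ≠ 0}) =
      (fun v => K325.VanOrd.len (g v)) '' {v | v ∈ (⊤ : Submodule k (Fin (r + 1) → k)) ∧ v ≠ 0} := by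
    have hset : {v : Fin (r + 1) → k | v ∈ (⊤ : Submodule k (Fin (r + 1) → k)) ∧ v ≠ 0} = {c | c ≠ 0} := by
      ext v
      simp
    rw [hset]
    refine Set.image_congr fun c _ => ?_
    unfold K325.VanOrd.len
    refine (LinearEquiv.length_eq (Submodule.Quotient.equiv _ _ e ?_)).symm
    rw [Ideal.span, Submodule.map_span, Set.image_singleton]
    congr 2
    exact e.apply_symm_apply _
  rw [himg]
  exact hmain

end Groth.Agent.S14471
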