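import Groth.Statements.S14474
import Groth.Agent.S1591

set_option autoImplicit false
universe u
open CategoryTheory CategoryTheory.Limits AlgebraicGeometry
open Curves

namespace Groth.Agent.S14474

open Groth.Agent.CurvesB.NodalPoint
open Groth.Agent.CurvesB Groth.Agent

/-- A point of the fibre over `s` of a flat lfp morphism is a `Pt` if this fibre is pure of dimension one and nodal. -/
theorem pt_of_fibre {X S : Scheme.{u}} (f : X ⟶ S) [Flat f] [LocallyOfFinitePresentation f] (x : X)
    (hdim : ∀ Z ∈ irreducibleComponents (f.fiber (f x) : Type u), topologicalKrullDim Z = 1)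
    (hawn : letI : (f.fiber (f x)).Over (Spec (S.residueField (f x))) := ⟨f.fiberToSpecResidueField (f x)⟩
      Curv2.AtWorstNodal (S.residueField (f x)) (f.fiber (f x))) : Pt f x := by
  have hlfp' : LocallyOfFinitePresentation (f.fiberToSpecResidueField (f x)) :=
    MorphismProperty.pullback_snd _ _ inferInstance
  have hne : Nonempty (f.fiber (f x)) := ⟨f.asFiber x⟩
  have hN : IsLocallyNoetherian (f.fiber (f x)) :=
    @LocallyOfFiniteType.isLocallyNoetherian _ (Spec (CommRingCat.of (S.residueField (f x))))
      (f.fiberToSpecResidueField (f x)) _ _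
  have key : f.asFiber x ∈ (f.fiberToSpecResidueField (f x)).smoothLocus ∨
      IsN f (f x) (f.asFiber x) := by
    have h1 := (DimOneTop.topologicalKrullDim_eq_one_iff.1
      (FibreBC.topologicalKrullDim_eq_one hdim)).2 (f.asFiber x)
    rcases h1 with h1 | h1
    · have hcl : IsClosed ({f.asFiber x} : Set (f.fiber (f x))) := by
        have : closure {f.asFiber x} = ({f.asFiber x} : Set (f.fiber (f x))) := by
          ext z
          rw [← specializes_iff_mem_closure, Set.mem_singleton_iff]
          exact ⟨h1 z, fun h => h ▸ specializes_rfl⟩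
        rw [← this]
        exact isClosed_closure
      rcases hawn _ hcl with ⟨U, hU, hsm⟩ | h2
      · left
        have hsm' : Smooth (U.ι ≫ f.fiberToSpecResidueField (f x)) := hsm
        exact VarietyA.SmoothLocusSch.le_smoothLocus _ U hU
      · exact Or.inr h2
    · left
      have hgr : GeometricallyReduced (f.fiberToSpecResidueField (f x)) :=
        (@S1589.result (S.residueField (f x)) _ (f.fiber (f x)) ⟨f.fiberToSpecResidueField (f x)⟩
          (inferInstanceAs (LocallyOfFiniteType (f.fiberToSpecResidueField (f x)))) hdim hawn).2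
      have hd := @VarietyA.GeomRedSch.dense_smoothLocus (S.residueField (f x)) _ (f.fiber (f x))
        (f.fiberToSpecResidueField (f x)) hlfp' hgr
      exact Pi1B.FlowSmooth.mem_of_generic (f.asFiber x) h1 _
        (f.fiberToSpecResidueField (f x)).smoothLocus.2 (hd _)
  rcases key with h1 | h1
  · left
    have hx : x ∈ f.smoothLocus := (S2156.result f x).2 ⟨Flat.stalkMap f x, h1⟩
    refine sm_of_mem_smoothLocus f x hx fun n V hV hn => ?_
    exact Models.SmoothCase.relDim_eq_one f V.ι n hn (f x) hdim ((V.ι ≫ f).asFiber ⟨x, hV⟩)
  · exact Or.inr h1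

/-- The fibre over `s` is nodal if all its points are `Pt`. -/
theorem atWorstNodal_of_pt {X S : Scheme.{u}} (f : X ⟶ S) [Flat f] [LocallyOfFinitePresentation f] (s : S)
    (h : ∀ x : X, f x = s → Pt f x) :
    letI : (f.fiber s).Over (Spec (S.residueField s)) := ⟨f.fiberToSpecResidueField s⟩
    Curv2.AtWorstNodal (S.residueField s) (f.fiber s) := by
  intro y hy
  let x : X := f.fiberι s y
  have hx : f x = s := by
    have h1 : f.fiberι s y ∈ Set.range (f.fiberι s) := ⟨y, rfl⟩
    rw [Scheme.Hom.range_fiberι] at h1
    exact h1
  rcases h x hx with h1 | h1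
  · left
    have h2 := mem_smoothLocus_of_sm f x h1
    have h3 : Smooth (f.smoothLocus.ι ≫ f) := VarietyA.SmoothLocusSch.smooth_smoothLocus_ι f
    let U : (f.fiber s).Opens := f.fiberι s ⁻¹ᵁ f.smoothLocus
    refine ⟨U, h2, ?_⟩
    change Smooth (U.ι ≫ f.fiberToSpecResidueField s)
    have H1 : IsPullback (f.fiberι s ∣_ f.smoothLocus) U.ι f.smoothLocus.ι (f.fiberι s) :=
      isPullback_morphismRestrict _ _
    have H2 : IsPullback (f.fiberι s) (f.fiberToSpecResidueField s) f (S.fromSpecResidueField s) :=
      IsPullback.of_hasPullback f (S.fromSpecResidueField s)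
    exact MorphismProperty.of_isPullback (H1.paste_vert H2) h3
  · right
    exact (isN_iff f x s y rfl).2 h1

/-- Let π : C → S be a proper, flat morphism of finite presentation all of whose fibres have every
irreducible component of dimension one (every geometric fibre is a curve). Then the set of points s
of S such that the fibre C_s, as a scheme over κ(s), has at-worst-nodal singularities (each closed
point has a smooth open neighbourhood or is a node) is open in S. -/
theorem result {C S : Scheme.{u}} (π : C ⟶ S)
    [IsProper π] [Flat π] [LocallyOfFinitePresentation π]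
    (hfib : ∀ s : S, ∀ Z ∈ irreducibleComponents (↥(π.fiber s) : Type u), topologicalKrullDim Z = 1) :
    IsOpen {s : S | letI : (π.fiber s).Over (Spec (S.residueField s)) := ⟨π.fiberToSpecResidueField s⟩
      Curv2.AtWorstNodal (S.residueField s) (π.fiber s)} := by
  have h : {s : S | letI : (π.fiber s).Over (Spec (S.residueField s)) := ⟨π.fiberToSpecResidueField s⟩
      Curv2.AtWorstNodal (S.residueField s) (π.fiber s)} =
      (π '' ((S1591.nodalLocus π : Set C)ᶜ))ᶜ := by
    ext s
    simp only [Set.mem_ofPred_eq, Set.mem_compl_iff, Set.mem_image, not_exists, not_and]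
    constructor
    · rintro hs x hx rfl
      exact hx ((S1591.mem_nodalLocus_iff π x).2 (pt_of_fibre π x (hfib _) hs))
    · intro hs
      refine atWorstNodal_of_pt π s fun x hx => ?_
      by_contra hcon
      exact hs x (fun h => hcon ((S1591.mem_nodalLocus_iff π x).1 h)) hx
  rw [h, isOpen_compl_iff]
  exact π.isClosedMap _ (S1591.nodalLocus π).2.isClosed_compl

end Groth.Agent.S14474
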