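-- Statement S14478: a complement for which the graph of the extended map meets `T` trivially.
import Groth.Statements.S14478
import Mathlib.LinearAlgebra.Dual.Lemmas
import Mathlib.LinearAlgebra.FiniteDimensional.Lemmas
import Mathlib.Tactic

set_option autoImplicit false
universe u
open CharCyc

namespace Groth.Agent.S14478

/-- two subspaces of the same finite dimension have a common complement -/
theorem exists_common_isCompl {k V : Type u} [Field k] [AddCommGroup V] [Module k V]
    [FiniteDimensional k V] :
    ∀ (n : ℕ) (U W : Submodule k V), Module.finrank k V = Module.finrank k U + n →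
      Module.finrank k U = Module.finrank k W → ∃ C : Submodule k V, IsCompl U C ∧ IsCompl W C := by
  intro n
  induction n with
  | zero =>
    intro U W h h'
    have hU : U = ⊤ := Submodule.eq_top_of_finrank_eq (by omega)
    have hW : W = ⊤ := Submodule.eq_top_of_finrank_eq (by omega)
    subst hU
    subst hW
    exact ⟨⊥, isCompl_top_bot, isCompl_top_bot⟩
  | succ n ih =>
    intro U W h h'
    obtain ⟨v, hvU, hvW⟩ : ∃ v, v ∉ U ∧ v ∉ W := by
      by_contra hcon
      push Not at hcon
      have hUne : U ≠ ⊤ := by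
        rintro rfl
        rw [finrank_top] at h
        omega
      have hWne : W ≠ ⊤ := by
        rintro rfl
        rw [finrank_top] at h'
        omega
      obtain ⟨a, ha⟩ : ∃ a, a ∉ U := by
        by_contra h1
        push Not at h1
        exact hUne (Submodule.eq_top_iff'.mpr h1)
      obtain ⟨b, hb⟩ : ∃ b, b ∉ W := by
        by_contra h1
        push Not at h1
        exact hWne (Submodule.eq_top_iff'.mpr h1)
      have haW := hcon a ha
      have hbU : b ∈ U := by
        by_contra h1
        exact hb (hcon b h1)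
      have hab : a + b ∉ U := fun h1 => ha (by simpa using U.sub_mem h1 hbU)
      have hab' : a + b ∈ W := hcon _ hab
      exact hb (by simpa using W.sub_mem hab' haW)
    have key : ∀ X : Submodule k V, v ∉ X → Disjoint X (k ∙ v) := by
      intro X hX
      rw [Submodule.disjoint_span_singleton' (by rintro rfl; exact hX X.zero_mem)]
      exact hX
    have key2 : ∀ X : Submodule k V, v ∉ X →
        Module.finrank k ↥(X ⊔ (k ∙ v)) = Module.finrank k X + 1 := by
      intro X hX
      have h1 := Submodule.finrank_sup_add_finrank_inf_eq X (k ∙ v)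
      rw [(key X hX).eq_bot, finrank_bot, finrank_span_singleton
        (by rintro rfl; exact hX X.zero_mem)] at h1
      omega
    obtain ⟨C, hC1, hC2⟩ := ih (U ⊔ (k ∙ v)) (W ⊔ (k ∙ v)) (by rw [key2 U hvU]; omega)
      (by rw [key2 U hvU, key2 W hvW, h'])
    refine ⟨(k ∙ v) ⊔ C, ⟨(key U hvU).disjoint_sup_right_of_disjoint_sup_left hC1.1, ?_⟩,
      ⟨(key W hvW).disjoint_sup_right_of_disjoint_sup_left hC2.1, ?_⟩⟩
    · rw [codisjoint_iff, ← sup_assoc, hC1.sup_eq_top]
    · rw [codisjoint_iff, ← sup_assoc, hC2.sup_eq_top]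

/-- Let V be a finite-dimensional vector space over a field k, let W = V × V^∨ with V^∨ the dual space,
and let T ⊆ W be a subspace with dim T = dim V; put V₁ = V ∩ T, where V sits in W as V × 0. Then
there is a complement V₂ of V₁ in V with the following property: for every injective linear map A₁ :
V₁ → V₁^∨, the map A : V → V^∨ extending A₁ by zero along the decompositions V = V₁ ⊕ V₂ and V^∨ =
V₁^∨ ⊕ V₂^∨ (so A v = A₁(p v) ∘ p, with p : V → V₁ the projection along V₂) has graph Γ ⊆ W with Γ ∩
T = 0. -/
theorem result (k V : Type u) [Field k] [AddCommGroup V] [Module k V]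
    [FiniteDimensional k V] (T : Submodule k (V × Module.Dual k V))
    (hT : Module.finrank k T = Module.finrank k V) :
    ∃ (V₂ : Submodule k V) (h : IsCompl (T.comap (LinearMap.inl k V (Module.Dual k V))) V₂),
      ∀ A₁ : T.comap (LinearMap.inl k V (Module.Dual k V)) →ₗ[k]
          Module.Dual k (T.comap (LinearMap.inl k V (Module.Dual k V))),
        Function.Injective A₁ →
          LinearMap.graph ((Submodule.projectionOnto _ V₂ h).dualMap ∘ₗ A₁ ∘ₗ
              Submodule.projectionOnto _ V₂ h) ⊓ T = ⊥ := by
  set V₁ := T.comap (LinearMap.inl k V (Module.Dual k V)) with hV₁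
  -- the image of `T` in the dual
  let T₂ : Submodule k (Module.Dual k V) := T.map (LinearMap.snd k V (Module.Dual k V))
  let U : Submodule k V := T₂.dualCoannihilator
  -- dimension of `T₂`
  have hdim : Module.finrank k T₂ + Module.finrank k V₁ = Module.finrank k V := by
    let φ : T →ₗ[k] Module.Dual k V := (LinearMap.snd k V (Module.Dual k V)).domRestrict T
    have h1 := LinearMap.finrank_range_add_finrank_ker (K := k) (V := T) (V₂ := Module.Dual k V) φ
    have h2 : LinearMap.range φ = T₂ := by
      ext x
      simp [φ, T₂]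
    have h3 : Module.finrank k (LinearMap.ker φ) = Module.finrank k V₁ := by
      refine LinearEquiv.finrank_eq ?_
      refine LinearEquiv.ofBijective
        (LinearMap.codRestrict V₁
          ((LinearMap.fst k V (Module.Dual k V)) ∘ₗ T.subtype ∘ₗ (LinearMap.ker φ).subtype) ?_) ⟨?_, ?_⟩
      · rintro ⟨⟨⟨a, b⟩, hab⟩, hx⟩
        have hb : b = 0 := by simpa [φ] using hx
        subst hb
        simpa [hV₁] using hab
      · rintro ⟨⟨⟨a, b⟩, hab⟩, hx⟩ ⟨⟨⟨a', b'⟩, hab'⟩, hx'⟩ h0
        have hb : b = 0 := by simpa [φ] using hx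
        have hb' : b' = 0 := by simpa [φ] using hx'
        subst hb
        subst hb'
        have ha : a = a' := congrArg Subtype.val h0
        subst ha
        rfl
      · rintro ⟨a, ha⟩
        exact ⟨⟨⟨(a, 0), by simpa [hV₁] using ha⟩, by simp [φ]⟩, rfl⟩
    rw [h2, h3, hT] at h1
    exact h1
  have hU : Module.finrank k U = Module.finrank k V₁ := by
    have h1 : Module.finrank k T₂ + Module.finrank k U = Module.finrank k V :=
      Subspace.finrank_add_finrank_dualCoannihilator_eq T₂
    omega
  obtain ⟨V₂, h1, h2⟩ := exists_common_isCompl (Module.finrank k V - Module.finrank k V₁) V₁ U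
    (by have := Submodule.finrank_le V₁; omega) hU.symm
  refine ⟨V₂, h1, fun A₁ hA₁ => ?_⟩
  rw [eq_bot_iff]
  rintro ⟨v, f⟩ ⟨hg, ht⟩
  have hf : f = ((Submodule.projectionOnto _ V₂ h1).dualMap ∘ₗ A₁ ∘ₗ
              Submodule.projectionOnto _ V₂ h1) v := by
    simpa [LinearMap.mem_graph_iff] using hg
  -- `f` kills `V₂`
  have hf2 : ∀ w ∈ V₂, f w = 0 := by
    intro w hw
    rw [hf]
    simp only [LinearMap.comp_apply, LinearMap.dualMap_apply]
    rw [Submodule.projectionOnto_apply_of_mem_right h1 hw, map_zero]
  have hfU : ∀ w ∈ U, f w = 0 := by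
    intro w hw
    have : f ∈ T₂ := ⟨(v, f), ht, rfl⟩
    exact (Submodule.mem_dualCoannihilator (Φ := T₂) w).mp hw f this
  have hf0 : f = 0 := by
    ext w
    have hw : w ∈ U ⊔ V₂ := by rw [h2.sup_eq_top]; trivial
    obtain ⟨a, ha, b, hb, rfl⟩ := Submodule.mem_sup.mp hw
    rw [map_add, hfU a ha, hf2 b hb]
    simp
  subst hf0
  have hv1 : v ∈ V₁ := by simpa [hV₁] using ht
  have hv : Submodule.projectionOnto _ V₂ h1 v = ⟨v, hv1⟩ :=
    Submodule.projectionOnto_apply_of_mem_left h1 hv1
  have hA0 : A₁ ⟨v, hv1⟩ = 0 := by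
    ext ⟨w, hw⟩
    have h3 : (0 : Module.Dual k V) w = (((Submodule.projectionOnto _ V₂ h1).dualMap ∘ₗ A₁ ∘ₗ
              Submodule.projectionOnto _ V₂ h1) v) w := by rw [← hf]
    simp only [LinearMap.comp_apply, LinearMap.dualMap_apply] at h3
    rw [hv, Submodule.projectionOnto_apply_of_mem_left h1 hw] at h3
    simpa using h3.symm
  have hv0 : (⟨v, hv1⟩ : V₁) = 0 := hA₁ (by rw [hA0, map_zero])
  have : v = 0 := by simpa [Subtype.ext_iff] using hv0
  subst this
  simp

end Groth.Agent.S14478
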