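-- Statement S14479: a bilinear form `B` with `B + Bᵀ` nondegenerate.
import Groth.Statements.S14479
import Mathlib.LinearAlgebra.BilinearForm.Properties
import Mathlib.LinearAlgebra.Matrix.BilinearForm
import Mathlib.LinearAlgebra.FreeModule.Finite.Matrix
import Mathlib.Tactic

set_option autoImplicit false
universe u
open CharCyc

namespace Groth.Agent.S14479

/-- a sum over a function twisted by an involution: nondegeneracy -/
theorem nondeg_of_involution {k V : Type u} [Field k] [AddCommGroup V] [Module k V]
    {ι : Type} [Fintype ι] [DecidableEq ι] (b : Module.Basis ι k V) (σ : ι → ι)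
    (hσ : ∀ i, σ (σ i) = i) (B : LinearMap.BilinForm k V) (c : k) (hc : c ≠ 0)
    (hB : ∀ i j, B (b i) (b j) = if j = σ i then c else 0) : B.Nondegenerate := by
  have h1 : ∀ (x : V) (j : ι), B x (b j) = b.repr x (σ j) * c := by
    intro x j
    conv_lhs => rw [← b.sum_repr x]
    rw [map_sum, LinearMap.sum_apply]
    rw [Finset.sum_eq_single (σ j)]
    · rw [map_smul, LinearMap.smul_apply, hB, if_pos (hσ j).symm, smul_eq_mul]
    · intro i _ hi
      rw [map_smul, LinearMap.smul_apply, hB, if_neg, smul_zero]
      rintro rfl
      exact hi (hσ i).symm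
    · intro h
      exact absurd (Finset.mem_univ _) h
  have h2 : ∀ (x : V) (j : ι), B (b j) x = b.repr x (σ j) * c := by
    intro x j
    conv_lhs => rw [← b.sum_repr x]
    rw [map_sum]
    rw [Finset.sum_eq_single (σ j)]
    · rw [map_smul, hB, if_pos rfl, smul_eq_mul]
    · intro i _ hi
      rw [map_smul, hB, if_neg hi, smul_zero]
    · intro h
      exact absurd (Finset.mem_univ _) h
  refine ⟨fun x hx => ?_, fun x hx => ?_⟩
  · apply b.ext_elem
    intro i
    have := h1 x (σ i)
    rw [hx, hσ] at this
    simpa [hc] using this.symm
  · apply b.ext_elem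
    intro i
    have := h2 x (σ i)
    rw [hx, hσ] at this
    simpa [hc] using this.symm

/-- Let V be a finite-dimensional vector space over a field k. If dim V is even or the characteristic of
k is different from 2, there is a bilinear form B on V such that the bilinear form (v, w) ↦ B(v, w)
+ B(w, v) (B plus its transpose, as a map V → V^∨) is nondegenerate. -/
theorem result (k V : Type u) [Field k] [AddCommGroup V] [Module k V]
    [FiniteDimensional k V] (h : Even (Module.finrank k V) ∨ ringChar k ≠ 2) :
    ∃ B : LinearMap.BilinForm k V, (B + B.flip).Nondegenerate := by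
  rcases h with h | h
  · obtain ⟨m, hm⟩ := h
    let e : Fin (Module.finrank k V) ≃ Fin m ⊕ Fin m := (finCongr hm).trans finSumFinEquiv.symm
    let b : Module.Basis (Fin m ⊕ Fin m) k V := (Module.finBasis k V).reindex e
    let B : LinearMap.BilinForm k V := b.constr k fun i => b.constr k fun j =>
      (match i, j with
      | Sum.inl i, Sum.inr j => if i = j then (1 : k) else 0
      | _, _ => 0)
    refine ⟨B, nondeg_of_involution b Sum.swap Sum.swap_swap _ 1 one_ne_zero ?_⟩
    rintro (i | i) (j | j) <;> simp [B, LinearMap.BilinForm.flip_apply, eq_comm]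
  · have h2 : (2 : k) ≠ 0 := Ring.two_ne_zero h
    let b := Module.finBasis k V
    let B : LinearMap.BilinForm k V := b.constr k fun i => b.constr k fun j =>
      if i = j then (1 : k) else 0
    refine ⟨B, nondeg_of_involution b id (fun _ => rfl) _ 2 h2 ?_⟩
    intro i j
    by_cases hij : i = j
    · subst hij
      simp [B, LinearMap.BilinForm.flip_apply]
      norm_num
    · have hji : ¬ j = i := fun h => hij h.symm
      simp [B, LinearMap.BilinForm.flip_apply, hij, hji]

end Groth.Agent.S14479
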