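-- Statement S14480.
import Groth.Statements.S14480
import Groth.Agent.CharCyc.K716.DimB

set_option autoImplicit false
universe u
open CategoryTheory AlgebraicGeometry
open CharCyc

namespace Groth.Agent.S14480

/-- Let k be a field, let π : C → X be a morphism between k-schemes of finite type, and let n be a
natural number. For j ≥ 0 let B_j ⊆ X be the set of points x whose fibre π⁻¹(x) has dimension at
least j (so B_0 is the image of π). Then dim C ≤ n if and only if, for every j, the closure of B_j
in X has dimension at most n − j. Dimensions are topological Krull dimensions with the empty space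
of dimension ⊥, and the inequality is written additively as dim cl(B_j) + j ≤ n. -/
theorem result (k : Type u) [Field k] (C X : Scheme.{u})
    (q : X ⟶ Spec (CommRingCat.of k)) (π : C ⟶ X)
    [LocallyOfFiniteType q] [CompactSpace X] [LocallyOfFiniteType π] [CompactSpace C] (n : ℕ) :
    topologicalKrullDim C ≤ n ↔
      ∀ j : ℕ, topologicalKrullDim (closure {x : X | (j : WithBot ℕ∞) ≤ topologicalKrullDim (π.fiber x)}) +
        (j : WithBot ℕ∞) ≤ n := by
  have hLFT : LocallyOfFiniteType (π ≫ q) := inferInstance
  rw [K716.Td.dim_le_iff (π ≫ q)]
  constructor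
  · intro h j
    rw [K716.Td.dim_sub_add_le_iff q isClosed_closure.isLocallyClosed]
    intro x hx
    obtain ⟨b, hb, hbx⟩ := K716.DimB.exists_specializes q π j hx
    obtain ⟨c, rfl, hc⟩ := (K716.DimB.mem_B_iff π j b).mp hb
    have h1 := h c
    rw [K716.Td.td_comp] at h1
    have h2 := K716.Td.td_le_of_specializes q hbx (Subsingleton.elim _ _)
    omega
  · intro h c
    have h1 := h (K716.Td.td π c)
    rw [K716.Td.dim_sub_add_le_iff q isClosed_closure.isLocallyClosed] at h1
    have h2 := h1 (π c) (subset_closure ((K716.DimB.mem_B_iff π _ _).mpr ⟨c, rfl, le_rfl⟩))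
    rw [K716.Td.td_comp]
    exact h2

end Groth.Agent.S14480
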