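-- Statement S14481.
import Groth.Statements.S14481
import Groth.Agent.CharCyc.K716.CutSch

set_option autoImplicit false
universe u
open CategoryTheory AlgebraicGeometry
open CharCyc

namespace Groth.Agent.S14481

/-- irreducible components of a locally closed subset -/
theorem exists_gen {k : Type u} [Field k] {C : Scheme.{u}} (q : C ⟶ Spec (CommRingCat.of k))
    [LocallyOfFiniteType q] {T : Set C} (hT : IsLocallyClosed T) (Q : Set T)
    (hQ : Q ∈ irreducibleComponents T) :
    ∃ ξ : C, ∃ hξ : ξ ∈ T, Q = closure {(⟨ξ, hξ⟩ : T)} ∧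
      topologicalKrullDim Q = (K716.Td.td q ξ : ℕ) ∧ ∀ z ∈ T, z ⤳ ξ → z = ξ := by
  obtain ⟨W, i, hi, -, rfl⟩ := Groth.Agent.Ega1.ReducedSub.exists_reduced_immersion T hT
  let e : W ≃ₜ Set.range i := i.isEmbedding.toHomeomorph
  have hcl : IsClosed Q := isClosed_of_mem_irreducibleComponents _ hQ
  have hirr : IsIrreducible (e ⁻¹' Q) := by
    have h0 : e ⁻¹' Q = e.symm '' Q := (e.symm.image_eq_preimage_symm Q).symm
    rw [h0]
    exact hQ.1.image _ e.symm.continuous.continuousOn
  obtain ⟨w, hw⟩ := QuasiSober.sober hirr (hcl.preimage e.continuous)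
  have hQw : Q = closure {e w} := by
    rw [← Set.image_singleton, ← e.image_closure, hw.def, e.image_preimage]
  have hew : e w = (⟨i w, ⟨w, rfl⟩⟩ : Set.range i) := rfl
  refine ⟨i w, ⟨w, rfl⟩, hQw, ?_, ?_⟩
  · have h1 := K716.Td.dim_closure (i ≫ q) w
    rw [K716.Td.td_comp, K716.Td.td_of_isPreimmersion i, add_zero] at h1
    rw [← h1, hw.def]
    apply le_antisymm
    · refine Groth.Agent.VarietyB.DimTop.topologicalKrullDim_le_of_isEmbedding (f := e.symm)
        e.symm.isInducing _ _ fun y hy => ?_
      change e (e.symm y) ∈ Q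
      rwa [e.apply_symm_apply]
    · exact Groth.Agent.VarietyB.DimTop.topologicalKrullDim_le_of_isEmbedding (f := e)
        e.isInducing _ _ fun y hy => hy
  · rintro _ ⟨v, rfl⟩ hv
    have h1 : v ⤳ w := i.isEmbedding.isInducing.specializes_iff.mp hv
    have h2 : Q ⊆ closure {e v} := by
      rw [hQw]
      have h3 : e v ⤳ e w := h1.map e.continuous
      exact specializes_iff_closure_subset.mp h3
    have h3 : closure {e v} ⊆ Q := hQ.2 isIrreducible_singleton.closure h2
    have h4 : e w ⤳ e v := by
      rw [specializes_iff_mem_closure, ← hQw]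
      exact h3 (subset_closure rfl)
    have h5 : w ⤳ v := e.isInducing.specializes_iff.mp h4
    rw [(h1.antisymm h5).eq]

/-- First equivalence: let k be a field, let π : C → X be a morphism between k-schemes of finite type
such that every irreducible component of C has dimension n, and let ι : W → X be a regular immersion
of codimension c. The following are equivalent: (a) ι meets C properly, that is, whenever P is an
irreducible component of C and Q is an irreducible component of P ×_X W (the subspace P ∩ π⁻¹(ι(W))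
of C), one has dim Q = dim P − c; (b) dim C ×_X W ≤ n − c (the subspace π⁻¹(ι(W)) of C). Dimensions
are written additively: dim Q + c = n and dim π⁻¹(ι(W)) + c ≤ n, the empty space having dimension ⊥.
(Stated for each of the four kinds of regular immersion of codimension c — regular, Koszul-regular,
H₁-regular, quasi-regular; the published statement does not distinguish kinds.) -/
theorem result (k : Type u) [Field k] (C X W : Scheme.{u})
    (q : X ⟶ Spec (CommRingCat.of k)) (π : C ⟶ X) (ι : W ⟶ X)
    [LocallyOfFiniteType q] [CompactSpace X] [LocallyOfFiniteType π] [CompactSpace C]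
    (κ : RegImm.Kind) (n c : ℕ) (hι : RegImm.IsRegularImmersionOfCodim κ c ι)
    (hC : ∀ P ∈ irreducibleComponents (C : Type u), topologicalKrullDim P = n) :
    (∀ P ∈ irreducibleComponents (C : Type u), ∀ Q ∈ irreducibleComponents (P ∩ π ⁻¹' Set.range ι : Set C),
        topologicalKrullDim Q + (c : WithBot ℕ∞) = n) ↔
      topologicalKrullDim (π ⁻¹' Set.range ι : Set C) + (c : WithBot ℕ∞) ≤ n := by
  have hι' : IsImmersion ι := hι.1
  have hlc : IsLocallyClosed (π ⁻¹' Set.range ι : Set C) :=
    ι.isLocallyClosed_range.preimage π.continuous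
  rw [K716.Td.dim_sub_add_le_iff (π ≫ q) hlc]
  constructor
  · intro h z hz
    obtain ⟨P, hP, hzP⟩ : ∃ P ∈ irreducibleComponents (C : Type u), z ∈ P :=
      ⟨irreducibleComponent z, irreducibleComponent_mem_irreducibleComponents z,
        mem_irreducibleComponent⟩
    have hPT : IsLocallyClosed (P ∩ π ⁻¹' Set.range ι : Set C) :=
      (isClosed_of_mem_irreducibleComponents _ hP).isLocallyClosed.inter hlc
    let z' : (P ∩ π ⁻¹' Set.range ι : Set C) := ⟨z, hzP, hz⟩
    have hQ := irreducibleComponent_mem_irreducibleComponents z'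
    have h1 := h P hP _ hQ
    obtain ⟨ξ, hξ, hQξ, hdim, -⟩ := exists_gen (π ≫ q) hPT _ hQ
    rw [hdim] at h1
    have h2 : K716.Td.td (π ≫ q) ξ + c = n := by exact_mod_cast h1
    have h3 : z' ∈ closure {(⟨ξ, hξ⟩ : (P ∩ π ⁻¹' Set.range ι : Set C))} := by
      rw [← hQξ]
      exact mem_irreducibleComponent
    have h4 : ξ ⤳ z := (specializes_iff_mem_closure.mpr h3).map continuous_subtype_val
    have h5 := K716.Td.td_le_of_specializes (π ≫ q) h4 (Subsingleton.elim _ _)
    omega
  · intro h P hP Q hQ
    have hPc : IsClosed P := isClosed_of_mem_irreducibleComponents _ hP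
    have hPT : IsLocallyClosed (P ∩ π ⁻¹' Set.range ι : Set C) := hPc.isLocallyClosed.inter hlc
    obtain ⟨ξ, hξ, hQξ, hdim, hmax⟩ := exists_gen (π ≫ q) hPT _ hQ
    obtain ⟨p, hp⟩ := QuasiSober.sober hP.1 hPc
    have h1 := hC P hP
    rw [← hp.def, K716.Td.dim_closure (π ≫ q)] at h1
    have h2 : K716.Td.td (π ≫ q) p = n := by exact_mod_cast h1
    have hpξ : p ⤳ ξ := by
      rw [specializes_iff_mem_closure, hp.def]
      exact hξ.1
    have h3 := K716.CutSch.le_of_maximal q π ι κ c hι p ξ hpξ hξ.2 (fun z hz1 hz2 hz3 =>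
      hmax z ⟨by rw [← hp.def]; exact specializes_iff_mem_closure.mp hz1, hz3⟩ hz2)
    have h4 := h ξ hξ.2
    rw [hdim]
    have h5 : K716.Td.td (π ≫ q) ξ + c = n := by omega
    exact_mod_cast h5

end Groth.Agent.S14481
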