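-- Statement S14483.
import Groth.Statements.S14483
import Groth.Agent.CharCyc.K716.WellInt
import Mathlib.AlgebraicGeometry.Morphisms.UniversallyInjective

set_option autoImplicit false
universe u
open CategoryTheory CategoryTheory.Limits AlgebraicGeometry
open CharCyc

namespace Groth.Agent.S14483

/-- Let k be a field and let f : X → S be a morphism between separated k-schemes of finite type. Two
closed subsets Y, Z of X are said to well intersect with respect to f when dim(Y ×_S Z ∖ Y ×_X Z) ≤
dim Y + dim Z − dim S; here Y ×_S Z ∖ Y ×_X Z is taken as the subspace of X ×_S X of points whose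
two projections lie in Y and in Z and which are not in the image of the diagonal, and the inequality
is written additively as dim(Y ×_S Z ∖ Y ×_X Z) + dim S ≤ dim Y + dim Z (topological Krull
dimensions, the empty space having dimension ⊥). Let Y ⊆ X be closed and irreducible with dim Y <
dim S, and suppose that the pair Y, Y well intersects with respect to f. Then Y → S is generically
radicial onto its image: there is an open subset V of X meeting Y such that f is injective on V ∩ Y
and, at every point of V ∩ Y, the residue field extension induced by f is purely inseparable. -/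
theorem result (k : Type u) [Field k] (X S : Scheme.{u})
    (q : S ⟶ Spec (CommRingCat.of k)) (f : X ⟶ S)
    [LocallyOfFiniteType q] [CompactSpace S] [IsSeparated q] [LocallyOfFiniteType f] [CompactSpace X] [IsSeparated f]
    (Y : Set X) (hYc : IsClosed Y) (hYi : IsIrreducible Y)
    (hWI : topologicalKrullDim {p : ↥(pullback f f) | pullback.fst f f p ∈ Y ∧ pullback.snd f f p ∈ Y ∧ p ∉ Set.range (pullback.diagonal f)} + topologicalKrullDim S ≤ topologicalKrullDim Y + topologicalKrullDim Y)
    (hYS : topologicalKrullDim Y < topologicalKrullDim S) :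
    ∃ V : Set X, IsOpen V ∧ (V ∩ Y).Nonempty ∧ Set.InjOn f.base (V ∩ Y) ∧
      ∀ x ∈ V ∩ Y, (f.residueFieldMap x).hom.IsPurelyInseparable := by
  obtain ⟨y, hy⟩ := QuasiSober.sober hYi hYc
  have hyY : y ∈ Y := hy.mem
  have hnoeth : IsLocallyNoetherian S := LocallyOfFiniteType.isLocallyNoetherian q
  have hnoethX : IsLocallyNoetherian X := LocallyOfFiniteType.isLocallyNoetherian f
  have : IsNoetherian S := { }
  have : IsNoetherian X := { }
  have hnoethP : IsLocallyNoetherian (pullback f f) :=
    LocallyOfFiniteType.isLocallyNoetherian (pullback.fst f f)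
  have : CompactSpace ↥(pullback f f) := QuasiCompact.compactSpace_of_compactSpace (pullback.fst f f)
  have : IsNoetherian (pullback f f) := { }
  let T := K716.WellInt.T f Y Y
  -- the generic point is not in the bad locus
  have hyT : y ∉ (pullback.fst f f) '' T := by
    rintro ⟨p, hp, hpy⟩
    exact absurd (K716.WellInt.le_of_mem q f hYc hYc hWI hy hp hpy) (not_le.mpr hYS)
  have hTY : ∀ x ∈ (pullback.fst f f) '' T, x ∈ Y := by
    rintro _ ⟨p, hp, rfl⟩
    exact hp.1
  have hcon : Topology.IsLocallyConstructible ((pullback.fst f f) '' T) := by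
    apply (pullback.fst f f).isLocallyConstructible_image
    exact (Groth.Agent.Flat2D.NoethConstr.isConstructible_of_isLocallyClosed
      (K716.WellInt.isLocallyClosed_T f hYc hYc)).isLocallyConstructible
  have hycl : y ∉ closure ((pullback.fst f f) '' T) := by
    intro h
    obtain ⟨b, hb, hby⟩ := Groth.Agent.Flat2D.ConstrGen.exists_specializes_of_mem_closure' hcon h
    have h2 : y ⤳ b := by
      rw [specializes_iff_mem_closure, hy.def]
      exact hTY b hb
    have h3 : b = y := (hby.antisymm h2).eq
    exact hyT (h3 ▸ hb)
  let V : Set X := (closure ((pullback.fst f f) '' T))ᶜ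
  have hVo : IsOpen V := isClosed_closure.isOpen_compl
  -- points of the fibre product over `V ∩ Y` are on the diagonal
  have hdiag : ∀ p : ↥(pullback f f), pullback.fst f f p ∈ V ∩ Y → pullback.snd f f p ∈ V ∩ Y →
      p ∈ Set.range (pullback.diagonal f) := by
    intro p h1 h2
    by_contra h3
    exact h1.1 (subset_closure ⟨p, ⟨h1.2, h2.2, h3⟩, rfl⟩)
  obtain ⟨Z, i, hi, -, hr⟩ := Groth.Agent.Ega1.ReducedSub.exists_reduced_immersion (V ∩ Y)
    (hVo.isLocallyClosed.inter hYc.isLocallyClosed)
  have hd1 : ∀ x, pullback.fst f f (pullback.diagonal f x) = x := by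
    intro x
    rw [← Scheme.Hom.comp_apply, pullback.diagonal_fst]
    rfl
  have hsurj : Surjective (pullback.diagonal (i ≫ f)) := by
    rw [surjective_iff]
    intro t
    let m : pullback (i ≫ f) (i ≫ f) ⟶ pullback f f :=
      pullback.map (i ≫ f) (i ≫ f) f f i i (𝟙 _) (by simp) (by simp)
    have : MorphismProperty.IsStableUnderComposition (@IsPreimmersion.{u}) :=
      MorphismProperty.IsMultiplicative.toIsStableUnderComposition
    have hm : IsPreimmersion m :=
      MorphismProperty.pullbackMap (P := @IsPreimmersion.{u}) inferInstance inferInstance rfl rfl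
    have hm1 : m ≫ pullback.fst f f = pullback.fst (i ≫ f) (i ≫ f) ≫ i :=
      pullback.lift_fst _ _ _
    have hm2 : m ≫ pullback.snd f f = pullback.snd (i ≫ f) (i ≫ f) ≫ i :=
      pullback.lift_snd _ _ _
    have hmd : pullback.diagonal (i ≫ f) ≫ m = i ≫ pullback.diagonal f := by
      apply pullback.hom_ext
      · rw [Category.assoc, hm1, pullback.diagonal_fst_assoc, Category.assoc, pullback.diagonal_fst,
          Category.comp_id]
      · rw [Category.assoc, hm2, pullback.diagonal_snd_assoc, Category.assoc, pullback.diagonal_snd,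
          Category.comp_id]
    have h1 : pullback.fst f f (m t) = i (pullback.fst (i ≫ f) (i ≫ f) t) := by
      rw [← Scheme.Hom.comp_apply, hm1]
      rfl
    have h2 : pullback.snd f f (m t) = i (pullback.snd (i ≫ f) (i ≫ f) t) := by
      rw [← Scheme.Hom.comp_apply, hm2]
      rfl
    obtain ⟨x, hx⟩ := hdiag (m t) (by rw [h1, ← hr]; exact ⟨_, rfl⟩) (by rw [h2, ← hr]; exact ⟨_, rfl⟩)
    refine ⟨pullback.fst (i ≫ f) (i ≫ f) t, ?_⟩
    apply m.isEmbedding.injective
    rw [← Scheme.Hom.comp_apply, hmd, Scheme.Hom.comp_apply, ← h1, ← hx, hd1]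
  have htfae := (tfae_universallyInjective (i ≫ f)).out 3 2
  obtain ⟨hinj, hpi⟩ := htfae.mp hsurj
  refine ⟨V, hVo, ⟨y, hycl, hyY⟩, ?_, ?_⟩
  · intro x hx x' hx' hxx'
    rw [← hr] at hx hx'
    obtain ⟨z, rfl⟩ := hx
    obtain ⟨z', rfl⟩ := hx'
    rw [hinj (a₁ := z) (a₂ := z') hxx']
  · intro x hx
    rw [← hr] at hx
    obtain ⟨z, rfl⟩ := hx
    have h := hpi z
    rw [Scheme.residueFieldMap_comp] at h
    have h' : ((i.residueFieldMap z).hom.comp (f.residueFieldMap (i z)).hom).IsPurelyInseparable := h
    let _ : Algebra (S.residueField (f (i z))) (X.residueField (i z)) :=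
      (f.residueFieldMap (i z)).hom.toAlgebra
    let _ : Algebra (X.residueField (i z)) (Z.residueField z) := (i.residueFieldMap z).hom.toAlgebra
    let _ : Algebra (S.residueField (f (i z))) (Z.residueField z) :=
      ((i.residueFieldMap z).hom.comp (f.residueFieldMap (i z)).hom).toAlgebra
    have : IsScalarTower (S.residueField (f (i z))) (X.residueField (i z)) (Z.residueField z) :=
      IsScalarTower.of_algebraMap_eq fun _ => rfl
    have : IsPurelyInseparable (S.residueField (f (i z))) (Z.residueField z) := h'
    exact IsPurelyInseparable.tower_bot (S.residueField (f (i z))) (X.residueField (i z))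
      (Z.residueField z)

end Groth.Agent.S14483
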