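-- Statement S14484.
import Groth.Statements.S14484
import Groth.Agent.CharCyc.K716.WellInt

set_option autoImplicit false
universe u
open CategoryTheory CategoryTheory.Limits AlgebraicGeometry
open CharCyc

namespace Groth.Agent.S14484

/-- Let k be a field and let f : X → S be a morphism between separated k-schemes of finite type. Two
closed subsets Y, Z of X are said to well intersect with respect to f when dim(Y ×_S Z ∖ Y ×_X Z) ≤
dim Y + dim Z − dim S; here Y ×_S Z ∖ Y ×_X Z is taken as the subspace of X ×_S X of points whose
two projections lie in Y and in Z and which are not in the image of the diagonal, and the inequality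
is written additively as dim(Y ×_S Z ∖ Y ×_X Z) + dim S ≤ dim Y + dim Z (topological Krull
dimensions, the empty space having dimension ⊥). Let Y, Z ⊆ X be closed irreducible subsets that
well intersect with respect to f, with dim Y < dim S and dim Z < dim S, and assume Y ⊄ Z. Then f(Y)
is not contained in the closure of f(Y) ∩ f(Z); in particular f(Y) ⊄ f(Z). -/
theorem result (k : Type u) [Field k] (X S : Scheme.{u})
    (q : S ⟶ Spec (CommRingCat.of k)) (f : X ⟶ S)
    [LocallyOfFiniteType q] [CompactSpace S] [IsSeparated q] [LocallyOfFiniteType f] [CompactSpace X] [IsSeparated f]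
    (Y Z : Set X) (hYc : IsClosed Y) (hYi : IsIrreducible Y) (hZc : IsClosed Z) (hZi : IsIrreducible Z)
    (hWI : topologicalKrullDim {p : ↥(pullback f f) | pullback.fst f f p ∈ Y ∧ pullback.snd f f p ∈ Z ∧ p ∉ Set.range (pullback.diagonal f)} + topologicalKrullDim S ≤ topologicalKrullDim Y + topologicalKrullDim Z)
    (hYS : topologicalKrullDim Y < topologicalKrullDim S) (hZS : topologicalKrullDim Z < topologicalKrullDim S)
    (hYZ : ¬ Y ⊆ Z) :
    ¬ (f.base '' Y ⊆ closure (f.base '' Y ∩ f.base '' Z)) ∧ ¬ (f.base '' Y ⊆ f.base '' Z) := by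
  obtain ⟨y, hy⟩ := QuasiSober.sober hYi hYc
  have hyY : y ∈ Y := hy.mem
  -- no point of `Z` has the same image as `y`
  have key : ∀ z ∈ Z, f z ≠ f y := by
    intro z hz hzy
    obtain ⟨p, hp1, hp2⟩ := AlgebraicGeometry.Scheme.Pullback.exists_preimage_pullback (f := f) (g := f) y z hzy.symm
    have hyz : y ∉ Z := by
      intro h
      apply hYZ
      rw [← hy.def]
      exact hZc.closure_subset_iff.mpr (Set.singleton_subset_iff.mpr h)
    have hp : p ∈ K716.WellInt.T f Y Z := by
      refine ⟨?_, ?_, ?_⟩
      · change pullback.fst f f p ∈ Y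
        rw [hp1]
        exact hyY
      · change pullback.snd f f p ∈ Z
        rw [hp2]
        exact hz
      · rintro ⟨x, hx⟩
        apply hyz
        have h1 : pullback.fst f f (pullback.diagonal f x) = x := by
          rw [← Scheme.Hom.comp_apply, pullback.diagonal_fst]
          rfl
        have h2 : pullback.snd f f (pullback.diagonal f x) = x := by
          rw [← Scheme.Hom.comp_apply, pullback.diagonal_snd]
          rfl
        rw [hx] at h1 h2
        have h3 : y = z := by rw [← hp1, ← hp2, h1, h2]
        rw [h3]
        exact hz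
    have h := K716.WellInt.le_of_mem q f hYc hZc hWI hy hp hp1
    exact absurd h (not_le.mpr hZS)
  have hnoeth : IsLocallyNoetherian S := LocallyOfFiniteType.isLocallyNoetherian q
  have hnoethX : IsLocallyNoetherian X := LocallyOfFiniteType.isLocallyNoetherian f
  have : IsNoetherian S := { }
  have : IsNoetherian X := { }
  refine ⟨fun h => ?_, fun h => ?_⟩
  · have h1 : f y ∈ closure (f.base '' Y ∩ f.base '' Z) := h ⟨y, hyY, rfl⟩
    have hc : ∀ A : Set X, IsClosed A → Topology.IsLocallyConstructible (f '' A) := by
      intro A hA
      have hA' : Topology.IsLocallyConstructible A :=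
        (Groth.Agent.Flat2D.NoethConstr.isConstructible_of_isLocallyClosed
          hA.isLocallyClosed).isLocallyConstructible
      exact f.isLocallyConstructible_image hA'
    obtain ⟨t, ht, hty⟩ := Groth.Agent.Flat2D.ConstrGen.exists_specializes_of_mem_closure'
      ((hc Y hYc).inter (hc Z hZc)) h1
    obtain ⟨⟨y', hy', rfl⟩, ⟨z, hz, hzt⟩⟩ := ht
    have h2 : y ⤳ y' := by
      rw [specializes_iff_mem_closure, hy.def]
      exact hy'
    have h3 : f y ⤳ f y' := h2.map f.continuous
    have h4 : f y' = f y := (hty.antisymm h3).eq
    exact key z hz (hzt.trans h4)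
  · obtain ⟨z, hz, hzy⟩ := h ⟨y, hyY, rfl⟩
    exact key z hz hzy

end Groth.Agent.S14484
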