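-- Statement S14485.
import Groth.Statements.S14485
import Groth.Agent.CharCyc.K716.DimBC

set_option autoImplicit false
universe u
open CategoryTheory CategoryTheory.Limits AlgebraicGeometry
open CharCyc

namespace Groth.Agent.S14485

/-- Let k be a field and let f : X → S be a morphism between separated k-schemes of finite type. Two
closed subsets Y, Z of X are said to well intersect with respect to f when dim(Y ×_S Z ∖ Y ×_X Z) ≤
dim Y + dim Z − dim S; here Y ×_S Z ∖ Y ×_X Z is taken as the subspace of X ×_S X of points whose
two projections lie in Y and in Z and which are not in the image of the diagonal, and the inequality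
is written additively as dim(Y ×_S Z ∖ Y ×_X Z) + dim S ≤ dim Y + dim Z (topological Krull
dimensions, the empty space having dimension ⊥). Let Y, Z ⊆ X be closed subsets, and let g : S' → S
be faithfully flat with every fibre of dimension d (relative constant dimension d), where S' is
again a separated k-scheme of finite type. Write f' : X' = X ×_S S' → S' for the base change and Y',
Z' ⊆ X' for the preimages of Y, Z. Then well-intersection of Y, Z with respect to f is equivalent to
well-intersection of Y', Z' with respect to f'. -/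
theorem result (k : Type u) [Field k] (X S S' : Scheme.{u})
    (q : S ⟶ Spec (CommRingCat.of k)) (f : X ⟶ S) (g : S' ⟶ S)
    [LocallyOfFiniteType q] [CompactSpace S] [IsSeparated q] [LocallyOfFiniteType f] [CompactSpace X] [IsSeparated f]
    [LocallyOfFiniteType g] [CompactSpace S'] [IsSeparated g] [Flat g] [Surjective g]
    (d : ℕ) (hd : ∀ s : S, topologicalKrullDim (g.fiber s) = d)
    (Y Z : Set X) (hYc : IsClosed Y) (hZc : IsClosed Z) :
    (topologicalKrullDim {p : ↥(pullback f f) | pullback.fst f f p ∈ Y ∧ pullback.snd f f p ∈ Z ∧ p ∉ Set.range (pullback.diagonal f)} + topologicalKrullDim S ≤ topologicalKrullDim Y + topologicalKrullDim Z) ↔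
      (topologicalKrullDim {p : ↥(pullback (pullback.snd f g) (pullback.snd f g)) | pullback.fst (pullback.snd f g) (pullback.snd f g) p ∈ ((pullback.fst f g) ⁻¹' Y) ∧ pullback.snd (pullback.snd f g) (pullback.snd f g) p ∈ ((pullback.fst f g) ⁻¹' Z) ∧ p ∉ Set.range (pullback.diagonal (pullback.snd f g))} + topologicalKrullDim S' ≤ topologicalKrullDim ((pullback.fst f g) ⁻¹' Y) + topologicalKrullDim ((pullback.fst f g) ⁻¹' Z)) := by
  obtain ⟨Φ, sqΦ, hΦ1, hΦ2, hΦd⟩ := K716.DimBC.square f g
  have sqX : IsPullback (pullback.fst f g) (pullback.snd f g) f g := IsPullback.of_hasPullback f g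
  have hT := K716.WellInt.isLocallyClosed_T f hYc hZc
  have hS : topologicalKrullDim S' = topologicalKrullDim S + (d : WithBot ℕ∞) := by
    have sqS : IsPullback g (𝟙 S') (𝟙 S) g := IsPullback.of_vert_isIso ⟨by simp⟩
    have h1 := K716.DimBC.dim_preimage d hd sqS q (isOpen_univ.isLocallyClosed)
    rw [Set.preimage_univ] at h1
    rw [← (Homeomorph.Set.univ S').isHomeomorph.topologicalKrullDim_eq,
      ← (Homeomorph.Set.univ S).isHomeomorph.topologicalKrullDim_eq]
    exact h1
  have hY := K716.DimBC.dim_preimage d hd sqX (f ≫ q) hYc.isLocallyClosed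
  have hZ := K716.DimBC.dim_preimage d hd sqX (f ≫ q) hZc.isLocallyClosed
  have hP := K716.DimBC.dim_preimage d hd sqΦ (pullback.fst f f ≫ f ≫ q) hT
  have hset : {p : ↥(pullback (pullback.snd f g) (pullback.snd f g)) | pullback.fst (pullback.snd f g) (pullback.snd f g) p ∈ ((pullback.fst f g) ⁻¹' Y) ∧ pullback.snd (pullback.snd f g) (pullback.snd f g) p ∈ ((pullback.fst f g) ⁻¹' Z) ∧ p ∉ Set.range (pullback.diagonal (pullback.snd f g))} = Φ ⁻¹' (K716.WellInt.T f Y Z) := by
    ext p
    have h1 : pullback.fst f f (Φ p) =
        pullback.fst f g (pullback.fst (pullback.snd f g) (pullback.snd f g) p) := by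
      rw [← Scheme.Hom.comp_apply, hΦ1]
      rfl
    have h2 : pullback.snd f f (Φ p) =
        pullback.fst f g (pullback.snd (pullback.snd f g) (pullback.snd f g) p) := by
      rw [← Scheme.Hom.comp_apply, hΦ2]
      rfl
    simp only [Set.mem_preimage, K716.WellInt.T, Set.mem_ofPred_eq]
    rw [h1, h2, hΦd]
  rw [hset, hS, hY, hZ, hP]
  exact (K716.DimBC.add_le_add_iff _ _ _ _ d).symm

end Groth.Agent.S14485
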