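import Groth.Statements.S14486
import Groth.Agent.Surf.K457.Coh1
import Groth.Agent.Surf.K457.Pos
import Groth.Agent.Surf.K457.Smooth
import Groth.Agent.Surf.K457.DualChi
import Groth.Agent.Surf.K455.SmoothRR
import Groth.Agent.Surf.K464.Curves
import Groth.Agent.Ega3B.ProjProper
import Groth.Agent.VarietyA.CurveFin
import Groth.Agent.Surf.K457.Bridge
import Groth.Agent.Surf.K462.H1Ideal
import Groth.Agent.Surf.K465.ProjH

set_option autoImplicit false
universe u
open CategoryTheory CategoryTheory.Limits AlgebraicGeometry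
open Surf

namespace Groth.Agent.S14486

/-- Let k be an algebraically closed field and X a projective K3 surface over k: an integral scheme of
dimension two with all local rings regular, admitting a closed immersion into some P^n_k over k,
whose structure sheaf O_X is a second exterior power of Ω_{X/k} (the canonical sheaf is trivial) and
with H^1(X, O_X) = 0. Let C be a nonsingular curve of genus g on X: an integral closed subscheme of
dimension one with all local rings regular, with ideal sheaf I ⊆ O_X and g = dim_k H^1(C, O_C); let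
M be an inverse of I for the tensor product (M = O_X(C)). Then C² = 2g - 2 and h^0(X, O_X(C)) = g +
1. Writing (L·L') for the intersection number χ(O_X) - χ(L) - χ(L') + χ(L ⊗ L') of two invertible
modules (packaged as FGA.intNum), C² = (I·I), so the assertion reads (I·I) = 2g - 2 and dim_k H^0(X,
M) = g + 1. (A K3 surface is only required to be proper; this row assumes the projective embedding.) -/
theorem result (k : Type u) [Field k] [IsAlgClosed k] (X : Scheme.{u})
    [X.Over (Spec (CommRingCat.of k))] [IsIntegral X] (hdim : topologicalKrullDim X = 2)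
    (hreg : ∀ x : X, IsRegularLocalRing (X.presheaf.stalk x))
    (hproj : ∃ (n : ℕ) (ι : X ⟶ CohB1.ProjSpace n k), IsClosedImmersion ι ∧
      ι ≫ CohB1.ProjSpace.toSpec n k = (X ↘ (Spec (CommRingCat.of k))))
    (hK : ExtPow.IsExtPow 2 (Omega.sheaf (X ↘ (Spec (CommRingCat.of k)))) (Coh.structureModule X))
    (hH1 : Subsingleton (Coh.HH X (Coh.structureModule X) 1))
    (C : Scheme.{u}) (i : C ⟶ X) [IsClosedImmersion i] [IsIntegral C] (hC : topologicalKrullDim C = 1)
    (hCreg : ∀ c : C, IsRegularLocalRing (C.presheaf.stalk c))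
    (M : X.Modules) (hM : ClSub.IsInverseOf M (ClSub.idealMod i.ker)) :
    letI : C.Over (Spec (CommRingCat.of k)) := ⟨i ≫ (X ↘ (Spec (CommRingCat.of k)))⟩
    FGA.intNum k X 2 ![ClSub.idealMod i.ker, ClSub.idealMod i.ker] (Coh.structureModule X) =
        2 * (Curv2.genus k C : ℤ) - 2 ∧
      Module.finrank k (Coh.HH X M 0) = Curv2.genus k C + 1 := by
  letI : C.Over (Spec (CommRingCat.of k)) := ⟨i ≫ (X ↘ (Spec (CommRingCat.of k)))⟩
  have hCo : i ≫ (X ↘ (Spec (CommRingCat.of k))) = C ↘ (Spec (CommRingCat.of k)) := rfl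
  obtain ⟨n, ι, hι, hιk⟩ := hproj
  have hPX : IsProper (X ↘ Spec (CommRingCat.of k)) := by
    rw [← hιk]
    have := Groth.Agent.Ega3B.ProjProper.isProper_toSpec n k
    infer_instance
  have hPC : IsProper (C ↘ Spec (CommRingCat.of k)) := by
    rw [← hCo]
    infer_instance
  have hsm : SmoothOfRelativeDimension 2 (X ↘ Spec (CommRingCat.of k)) :=
    K457.Smooth.relDim_of_regular k X 2 hdim hreg
  have hNX : IsNoetherian X := Groth.Agent.Fga.IntAdd.isNoetherian k X
  have hNC : IsNoetherian C := Groth.Agent.Fga.IntAdd.isNoetherian k C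
  have hd : topologicalKrullDim X ≤ 2 := hdim.le
  have hd' : topologicalKrullDim X ≤ (2 : ℕ) := by exact_mod_cast hd
  have hO1 : PicF.IsInvertible (Coh.structureModule X) := Groth.Agent.Fdesc.LocGen.isInvertible_structureModule
  have hsd := K457.DualSm.isSD k X 2 _ hK
  -- the curve
  have hCur : K464.Curves.IsCurve i.ker := by
    have e : C ≅ i.ker.subscheme := asIso i.toImage
    have : Nonempty i.ker.subscheme := ⟨e.hom (genericPoint C)⟩
    refine ⟨isIntegral_of_isOpenImmersion e.inv, ?_⟩
    rw [← K464.Curves.dim_sub, ← IsHomeomorph.topologicalKrullDim_eq _ (Scheme.homeoOfIso e).isHomeomorph, hC]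
  have hE : BlowUp.IsEffCartierIdeal i.ker :=
    K464.Curves.isEff_of_isCurve k (X ↘ Spec (CommRingCat.of k)) hdim hreg hCur
  have hI : PicF.IsInvertible (ClSub.idealMod i.ker) := Groth.Agent.Dix.IdealModCartier.isInvertible_idealMod hE
  have hMinv : PicF.IsInvertible M := K457.Form.isInvertible_of_inverse hM
  -- the Euler characteristic of the curve
  have hOC : FGA.eulerCharLE k C (Coh.structureModule C) 2 = 1 - (Curv2.genus k C : ℤ) := by
    rw [K457.Coh1.eulerLE_curve k (by rw [hC]; rfl) (Groth.Agent.CurvesC.UnitCoh.isCoh_unit C),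
      Groth.Agent.VarietyA.CurveFin.finrank_h0_structure k C]
    rfl
  have hcut := K455.CutKer.euler_cut_one k i hCo hd' i.ker rfl
  have hadj := K455.SmoothRR.adjunction k hK hd' i hCo hI
  rw [K455.RR.intNum_one_right k (A := ClSub.idealMod i.ker) (B := Coh.structureModule X)
    Groth.Agent.Fga.PicMon.mc_one, hOC] at hadj
  refine ⟨by linarith, ?_⟩
  -- sections of `M`
  have h0I : Module.finrank k (Coh.HH X (ClSub.idealMod i.ker) 0) = 0 := by
    have hA := (K465.ProjH.facts k X ι hιk).2
    refine K457.Pos.finrank_zero_eq_zero hd hI hA ?_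
    rw [K457.Bridge.B_eq hd]
    have h1 := K464.Curves.dot_ic_eq k X hE (Groth.Agent.Grpsch.PicGrp.mk _ hA.1)
    have h2 := K464.Curves.degOn_pos_of_ample k hCur hA.1 hA
    change K464.Base.dot k X (K464.Base.ic i.ker hE) _ < 0
    rw [h1]
    linarith
  have hconn : ConnectedSpace ↥i.ker.subscheme := by
    have := hCur.integral
    infer_instance
  have hred : IsReduced i.ker.subscheme := by
    have := hCur.integral
    infer_instance
  have h1I : Subsingleton (Coh.HH X (ClSub.idealMod i.ker) 1) :=
    K462.H1Ideal.h1_of_appTop_surjective i.ker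
      (K462.H1Ideal.appTop_surjective_of_connected k (X ↘ Spec (CommRingCat.of k)) i.ker) hH1
  have e0 : ∀ (F : X.Modules) (j : ℕ), Module.finrank k (Coh.HH X (CohB1.tensorMod (Coh.structureModule X) F) j) =
      Module.finrank k (Coh.HH X F j) := fun F j =>
    (Groth.Agent.Fga.PicMon.hmapEquiv k X (Groth.Agent.Ega2.Tens.lunit F) j).finrank_eq
  have h1M := K457.DualChi.finrank_dual hsd hMinv hM 1 1 rfl
  have h2M := K457.DualChi.finrank_dual hsd hMinv hM 2 0 rfl
  have h2O := K457.DualChi.finrank_dual hsd hO1 (L' := Coh.structureModule X)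
    ⟨Groth.Agent.Ega2.Tens.lunit _⟩ 2 0 rfl
  rw [e0] at h1M h2M h2O
  rw [Groth.Agent.VarietyA.CurveFin.finrank_h0_structure k X] at h2O
  rw [Module.finrank_zero_of_subsingleton (M := Coh.HH X (ClSub.idealMod i.ker) 1)] at h1M
  rw [h0I] at h2M
  have hchi := K457.DualChi.chi_dual hO1 hsd (Groth.Agent.Grpsch.PicGrp.mk M hMinv)
  rw [← Groth.Agent.Grpsch.PicGrp.one_def, one_mul, ← K457.Form.mk_eq_inv hMinv hI hM,
    K457.Form.chi_mk_LE, K457.Form.chi_mk_LE] at hchi
  have hO : FGA.eulerCharLE k X (Coh.structureModule X) 2 = 2 := by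
    unfold FGA.eulerCharLE
    rw [Finset.sum_range_succ, Finset.sum_range_succ, Finset.sum_range_one, h2O,
      Groth.Agent.VarietyA.CurveFin.finrank_h0_structure k X,
      Module.finrank_zero_of_subsingleton (M := Coh.HH X (Coh.structureModule X) 1)]
    norm_num
  have hMM : FGA.eulerCharLE k X M 2 = Module.finrank k (Coh.HH X M 0) := by
    unfold FGA.eulerCharLE
    rw [Finset.sum_range_succ, Finset.sum_range_succ, Finset.sum_range_one, h1M, h2M]
    push_cast
    ring
  rw [hMM] at hchi
  rw [hO, hOC] at hcut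
  have : (Module.finrank k (Coh.HH X M 0) : ℤ) = Curv2.genus k C + 1 := by linarith
  exact_mod_cast this

end Groth.Agent.S14486
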