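import Groth.Statements.S14496
import Groth.Agent.IndCof.K992.IndDiv

set_option autoImplicit false
universe v
open IndCof

namespace Groth.Agent.S14496

open K992.Refine K992.IndB K992.IndC K992.IndM K992.IndS K992.IndP K992.IndD K992.IndE

open CategoryTheory CategoryTheory.Limits in
/-- Let C be a small abelian category all of whose objects are Artinian and killed by some power of a
prime p, and A an ind-object of C of cofinite type. Let N be such that p^n A = p^N A for all n ≥ N,
so that the divisible part A_div = ⋂ p^n A equals p^N A. Then A_div is of cofinite type and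
divisible (multiplication by p on it is an epimorphism; integers prime to p act invertibly on every
ind-object here, so this is divisibility by all positive integers); it is the largest divisible
sub-object of A; and A / A_div is the largest quotient of A lying in C: every epimorphism from A
onto an object isomorphic to an object of C vanishes on A_div. (The row takes the stabilization
index N as a hypothesis instead of forming the intersection; that A / A_div itself lies in C is the
statement about A / p^N A and is not repeated here.) -/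
theorem result {C : Type v} [SmallCategory C] [Abelian C]
    (hart : ∀ X : C, IsArtinianObject X) (p : ℕ) (hp : p.Prime)
    (htor : ∀ X : C, ∃ n : ℕ, (p ^ n) • 𝟙 X = 0)
    (A : Ind C) (hA : ∀ n : ℕ, (Ind.yoneda (C := C)).essImage (kernel ((p ^ n) • 𝟙 A))) (N : ℕ)
    (hN : ∀ n : ℕ, N ≤ n → imageSubobject ((p ^ n) • 𝟙 A) = imageSubobject ((p ^ N) • 𝟙 A)) :
    (∀ n : ℕ, (Ind.yoneda (C := C)).essImage
        (kernel ((p ^ n) • 𝟙 ((imageSubobject ((p ^ N) • 𝟙 A) : Subobject A) : Ind C)))) ∧
      Epi (p • 𝟙 ((imageSubobject ((p ^ N) • 𝟙 A) : Subobject A) : Ind C)) ∧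
      (∀ D : Subobject A, Epi (p • 𝟙 (D : Ind C)) → D ≤ imageSubobject ((p ^ N) • 𝟙 A)) ∧
      (∀ (Q : Ind C) (q : A ⟶ Q), Epi q → (Ind.yoneda (C := C)).essImage Q →
        (imageSubobject ((p ^ N) • 𝟙 A)).arrow ≫ q = 0) := by
  have hA' : Cof A := cof_of_primary hp htor hA
  have htor' := htor_of_primary hp htor
  have hD : Cof ((imageSubobject ((p ^ N) • 𝟙 A) : Subobject A) : Ind C) :=
    cof_imageSubobject hart htor' hA' hA' _
  refine ⟨fun n => hD _ (Nat.pow_pos hp.pos), ?_, ?_, ?_⟩
  · rw [epi_nsmul_iff]
    intro T x hx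
    rw [← hN (N + 1) (Nat.le_succ N), factors_image_nsmul] at hx
    obtain ⟨T', π, hπ, y, hy⟩ := hx
    refine ⟨T', π, hπ, (p ^ N) • y, factors_image_nsmul_self _ y, ?_⟩
    rw [hy, pow_succ, mul_comm, mul_smul]
  · intro D hD'
    have hpow : ∀ k : ℕ, Epi (p ^ k • 𝟙 (D : Ind C)) := by
      intro k
      induction k with
      | zero => rw [pow_zero, one_smul]; infer_instance
      | succ k ih => rw [pow_succ]; exact epi_nsmul_mul _ _ ih hD'
    exact le_image_of_epi D _ (hpow N)
  · intro Q q _ hQ
    obtain ⟨X, ⟨e⟩⟩ := hQ
    obtain ⟨k, hk⟩ := exists_pow_smul_eq_zero (A := Q) htor e.hom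
    have hq : (p ^ k) • q = 0 := by
      have h1 : q = (q ≫ e.inv) ≫ e.hom := by simp
      rw [h1, ← Preadditive.comp_nsmul, hk, comp_zero]
    have h2 : (imageSubobject ((p ^ (N + k)) • 𝟙 A)).Factors
        (imageSubobject ((p ^ N) • 𝟙 A)).arrow := by
      rw [hN (N + k) (Nat.le_add_right _ _)]
      exact Subobject.factors_self _
    obtain ⟨T', π, hπ, y, hy⟩ := (factors_image_nsmul _ _).1 h2
    apply zero_of_epi_comp π
    rw [← Category.assoc, hy, Preadditive.nsmul_comp, pow_add, mul_smul,
      ← Preadditive.comp_nsmul, hq, comp_zero, smul_zero]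

end Groth.Agent.S14496
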