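import Groth.Statements.S14497
import Groth.Agent.IndCof.K992.Refine

set_option autoImplicit false
universe v u
open IndCof

namespace Groth.Agent.S14497

open K992.Refine

open CategoryTheory CategoryTheory.Limits in
/-- Let B be an object of an abelian category and consider the inverse system, indexed by the positive
integers ordered by divisibility, with every term equal to B and transition map from the m-th to the
n-th term (n ∣ m) given by multiplication by m/n. This system is Mittag-Leffler, i.e. for every n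
the images in the n-th term of the transition maps are eventually constant, if and only if B has a
divisible sub-object B' (multiplication by every positive integer is an epimorphism of B') with B/B'
killed by some positive integer. Moreover such a B' is the largest divisible sub-object of B. -/
theorem result
    {V : Type u} [Category.{v} V] [Abelian V] (B : V) :
    ((∀ n : ℕ, 0 < n → ∃ m : ℕ, 0 < m ∧ n ∣ m ∧ ∀ m' : ℕ, 0 < m' → m ∣ m' →
        imageSubobject ((m' / n) • 𝟙 B) = imageSubobject ((m / n) • 𝟙 B)) ↔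
      ∃ B' : Subobject B, (∀ k : ℕ, 0 < k → Epi (k • 𝟙 (B' : V))) ∧
        ∃ M : ℕ, 0 < M ∧ M • 𝟙 (cokernel B'.arrow) = 0) ∧
    (∀ B' : Subobject B, (∀ k : ℕ, 0 < k → Epi (k • 𝟙 (B' : V))) →
      (∃ M : ℕ, 0 < M ∧ M • 𝟙 (cokernel B'.arrow) = 0) →
      ∀ D : Subobject B, (∀ k : ℕ, 0 < k → Epi (k • 𝟙 (D : V))) → D ≤ B') := by
  -- if `M` kills the cokernel of `B'`, then `M • x ∈ B'`
  have key : ∀ (B' : Subobject B) (M : ℕ), M • 𝟙 (cokernel B'.arrow) = 0 →
      ∀ (T : V) (x : T ⟶ B), B'.Factors (M • x) := by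
    intro B' M hM T x
    rw [factors_iff_comp_cokernel, Preadditive.nsmul_comp, ← comp_nsmul_id, Category.assoc, hM,
      comp_zero, comp_zero]
  refine ⟨⟨?_, ?_⟩, ?_⟩
  · intro h
    obtain ⟨m, hm, -, h⟩ := h 1 Nat.one_pos
    refine ⟨imageSubobject (m • 𝟙 B), ?_, m, hm, ?_⟩
    · intro k hk
      rw [epi_nsmul_iff]
      intro T x hx
      have e := h (m * k) (Nat.mul_pos hm hk) (Dvd.intro k rfl)
      rw [Nat.div_one, Nat.div_one] at e
      rw [← e, factors_image_nsmul] at hx
      obtain ⟨T', π, hπ, y, hy⟩ := hx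
      refine ⟨T', π, hπ, m • y, factors_image_nsmul_self m y, ?_⟩
      rw [hy, mul_comm, mul_smul]
    · rw [← cancel_epi (cokernel.π _), comp_nsmul_id, comp_zero]
      have h1 : (imageSubobject (m • 𝟙 B)).Factors (m • 𝟙 B) := factors_image_nsmul_self m (𝟙 B)
      rw [factors_iff_comp_cokernel, Preadditive.nsmul_comp, Category.id_comp] at h1
      exact h1
  · rintro ⟨B', hB', M, hM, hM'⟩ n hn
    refine ⟨n * M, Nat.mul_pos hn hM, Dvd.intro M rfl, ?_⟩
    rintro m' hm' ⟨t, rfl⟩
    have ht : 0 < t := Nat.pos_of_mul_pos_left hm'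
    rw [mul_assoc, Nat.mul_div_cancel_left _ hn, Nat.mul_div_cancel_left _ hn]
    apply le_antisymm
    · rw [imageSubobject_le_iff, mul_comm, mul_smul, smul_comm]
      exact factors_image_nsmul_self M _
    · rw [imageSubobject_le_iff]
      have h1 := key B' M hM' B (𝟙 B)
      obtain ⟨T', π, hπ, y, hy, e⟩ := (epi_nsmul_iff B' (M * t)).1 (hB' _ (Nat.mul_pos hM ht)) _ _ h1
      exact factors_of_epi _ π _ (e ▸ factors_image_nsmul_self _ y)
  · rintro B' - ⟨M, hM, hM'⟩ D hD
    rw [le_iff]
    intro T x hx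
    obtain ⟨T', π, hπ, y, hy, e⟩ := (epi_nsmul_iff D M).1 (hD _ hM) _ _ hx
    exact factors_of_epi _ π _ (e ▸ key B' M hM' _ y)

end Groth.Agent.S14497
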