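import Groth.Statements.S14498
import Mathlib.CategoryTheory.Abelian.Refinements

set_option autoImplicit false
universe v u
open AbDiag

namespace Groth.Agent.S14498

open CategoryTheory CategoryTheory.Limits in
/-- In an abelian category, let 0 → F → W → E' → 0 (maps a, b) and 0 → E → W → F' → G → G' → 0 (maps c,
d, e, g) be exact sequences such that the composite F → W → F' is a monomorphism. Then the composite
E → W → E' is a monomorphism, and there is a short exact sequence 0 → Coker(E → E') → Coker(F → F')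
→ Ker(G → G') → 0 whose first map is induced by d (through the quotient map b) and whose second map
is induced by e. -/
theorem result
    {V : Type u} [Category.{v} V] [Abelian V] {F W E' E F' G G' : V}
    (a : F ⟶ W) (b : W ⟶ E') (c : E ⟶ W) (d : W ⟶ F') (e : F' ⟶ G) (g : G ⟶ G')
    [Mono a] [Epi b] (wab : a ≫ b = 0) (hab : (ShortComplex.mk a b wab).Exact)
    [Mono c] (wcd : c ≫ d = 0) (hcd : (ShortComplex.mk c d wcd).Exact)
    (wde : d ≫ e = 0) (hde : (ShortComplex.mk d e wde).Exact)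
    (weg : e ≫ g = 0) (heg : (ShortComplex.mk e g weg).Exact) [Epi g]
    (hmono : Mono (a ≫ d)) :
    Mono (c ≫ b) ∧
      ∃ (φ : cokernel (c ≫ b) ⟶ cokernel (a ≫ d)) (ψ : cokernel (a ≫ d) ⟶ kernel g)
        (w : φ ≫ ψ = 0),
        b ≫ cokernel.π (c ≫ b) ≫ φ = d ≫ cokernel.π (a ≫ d) ∧
        cokernel.π (a ≫ d) ≫ ψ ≫ kernel.ι g = e ∧
        (ShortComplex.mk φ ψ w).ShortExact := by
  have hmcb : Mono (c ≫ b) := by
    apply Preadditive.mono_of_cancel_zero
    intro T x hx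
    have hx' : (x ≫ c) ≫ b = 0 := by rw [Category.assoc]; exact hx
    obtain ⟨T', π, hπ, y, hy⟩ := hab.exact_up_to_refinements (x ≫ c) hx'
    change π ≫ x ≫ c = y ≫ a at hy
    have h1 : y ≫ (a ≫ d) = 0 := by
      rw [← Category.assoc, ← hy, Category.assoc, Category.assoc, wcd, comp_zero, comp_zero]
    have h2 : y = 0 := zero_of_comp_mono (a ≫ d) h1
    rw [h2, zero_comp] at hy
    have h3 : x ≫ c = 0 := zero_of_epi_comp π hy
    exact zero_of_comp_mono c h3
  refine ⟨hmcb, ?_⟩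
  -- the map `E' ⟶ coker (a ≫ d)` induced by `d`
  have hda : a ≫ d ≫ cokernel.π (a ≫ d) = 0 := by
    rw [← Category.assoc, cokernel.condition]
  let φ₀ : E' ⟶ cokernel (a ≫ d) := hab.desc (d ≫ cokernel.π (a ≫ d)) hda
  have hφ₀ : b ≫ φ₀ = d ≫ cokernel.π (a ≫ d) := hab.g_desc _ hda
  have hφ₁ : (c ≫ b) ≫ φ₀ = 0 := by
    rw [Category.assoc, hφ₀, reassoc_of% wcd, zero_comp]
  let φ : cokernel (c ≫ b) ⟶ cokernel (a ≫ d) := cokernel.desc _ φ₀ hφ₁
  have hφ : cokernel.π (c ≫ b) ≫ φ = φ₀ := cokernel.π_desc _ _ _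
  let ψ₀ : F' ⟶ kernel g := kernel.lift g e weg
  have hψ₀ : ψ₀ ≫ kernel.ι g = e := kernel.lift_ι _ _ _
  have hψ₁ : (a ≫ d) ≫ ψ₀ = 0 := by
    rw [← cancel_mono (kernel.ι g), Category.assoc, Category.assoc, hψ₀, wde, comp_zero, zero_comp]
  let ψ : cokernel (a ≫ d) ⟶ kernel g := cokernel.desc _ ψ₀ hψ₁
  have hψ : cokernel.π (a ≫ d) ≫ ψ = ψ₀ := cokernel.π_desc _ _ _
  have hψι : cokernel.π (a ≫ d) ≫ ψ ≫ kernel.ι g = e := by
    rw [← Category.assoc, hψ, hψ₀]
  have w : φ ≫ ψ = 0 := by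
    rw [← cancel_epi (cokernel.π (c ≫ b)), ← cancel_epi b, comp_zero, comp_zero,
      reassoc_of% hφ, reassoc_of% hφ₀, hψ, ← cancel_mono (kernel.ι g), Category.assoc, hψ₀, wde,
      zero_comp]
  refine ⟨φ, ψ, w, ?_, hψι, ?_⟩
  · rw [hφ, hφ₀]
  · have hmono_φ : Mono φ := by
      apply Preadditive.mono_of_cancel_zero
      intro T x hx
      obtain ⟨T₁, π₁, hπ₁, x₁, hx₁⟩ :=
        surjective_up_to_refinements_of_epi (cokernel.π (c ≫ b)) x
      obtain ⟨T₂, π₂, hπ₂, x₂, hx₂⟩ := surjective_up_to_refinements_of_epi b x₁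
      have h1 : (x₂ ≫ d) ≫ cokernel.π (a ≫ d) = 0 := by
        rw [Category.assoc, ← hφ₀, ← reassoc_of% hx₂, ← hφ, ← reassoc_of% hx₁, hx, comp_zero,
          comp_zero]
      obtain ⟨T₃, π₃, hπ₃, y, hy⟩ :=
        (CokernelCofork.IsColimit.comp_π_eq_zero_iff_up_to_refinements
          (cokernelIsCokernel (a ≫ d)) (x₂ ≫ d)).1 h1
      have h2 : (π₃ ≫ x₂ - y ≫ a) ≫ d = 0 := by
        rw [Preadditive.sub_comp, Category.assoc, hy, Category.assoc, sub_self]
      obtain ⟨T₄, π₄, hπ₄, t, ht⟩ := hcd.exact_up_to_refinements (π₃ ≫ x₂ - y ≫ a) h2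
      change π₄ ≫ (π₃ ≫ x₂ - y ≫ a) = t ≫ c at ht
      have h3 : π₄ ≫ π₃ ≫ x₂ ≫ b = t ≫ c ≫ b := by
        have := ht =≫ b
        simp only [Preadditive.comp_sub, Preadditive.sub_comp, Category.assoc, wab, comp_zero,
          sub_zero] at this
        exact this
      have h4 : (π₄ ≫ π₃ ≫ π₂ ≫ π₁) ≫ x = 0 := by
        simp only [Category.assoc, hx₁, reassoc_of% hx₂]
        rw [reassoc_of% h3, ← Category.assoc c b, cokernel.condition, comp_zero]
      exact zero_of_epi_comp _ h4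
    have hepi_ψ : Epi ψ := by
      have : Epi ψ₀ := by
        rw [epi_iff_surjective_up_to_refinements]
        intro T y
        obtain ⟨T₁, π₁, hπ₁, x₁, hx₁⟩ := heg.exact_up_to_refinements (y ≫ kernel.ι g)
          (by change (y ≫ kernel.ι g) ≫ g = 0; rw [Category.assoc, kernel.condition, comp_zero])
        refine ⟨T₁, π₁, hπ₁, x₁, ?_⟩
        rw [← cancel_mono (kernel.ι g), Category.assoc, Category.assoc, hψ₀]
        exact hx₁
      exact epi_of_epi_fac hψ
    have hex : (ShortComplex.mk φ ψ w).Exact := by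
      rw [ShortComplex.exact_iff_exact_up_to_refinements]
      intro T x hx
      change T ⟶ cokernel (a ≫ d) at x
      change x ≫ ψ = 0 at hx
      obtain ⟨T₁, π₁, hπ₁, x₁, hx₁⟩ :=
        surjective_up_to_refinements_of_epi (cokernel.π (a ≫ d)) x
      have h1 : x₁ ≫ e = 0 := by
        rw [← hψι, ← reassoc_of% hx₁, reassoc_of% hx, zero_comp, comp_zero]
      obtain ⟨T₂, π₂, hπ₂, x₂, hx₂⟩ := hde.exact_up_to_refinements x₁ h1
      change π₂ ≫ x₁ = x₂ ≫ d at hx₂
      refine ⟨T₂, π₂ ≫ π₁, inferInstance, x₂ ≫ b ≫ cokernel.π (c ≫ b), ?_⟩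
      change (π₂ ≫ π₁) ≫ x = (x₂ ≫ b ≫ cokernel.π (c ≫ b)) ≫ φ
      rw [Category.assoc, hx₁, reassoc_of% hx₂, Category.assoc, Category.assoc, hφ, hφ₀]
    exact { exact := hex }

end Groth.Agent.S14498
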