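import Groth.Statements.S14508
import Groth.Agent.IntTh.K937.DetC1
-- import your own Groth.Agent.* helpers here

set_option autoImplicit false
universe u
open CategoryTheory CategoryTheory.Limits AlgebraicGeometry
open IntTh

namespace Groth.Agent.S14508

open Groth.Agent.CycB Groth.Agent.CycB.C1Pull K308.Grp

/-- Let X be a locally Noetherian scheme whose local rings are universally catenary, δ a dimension
function on X, E a finite locally free O_X-module of rank r + 1, (p : P → X, O_P(1), q) its
projective bundle given by the universal property, p proper, δP the induced dimension function on P,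
α a k-cycle on X and γ a tuple representing (c_0(E) ∩ α, …, c_{r+1}(E) ∩ α) through the
projective-bundle relation. Let L be an (r+1)-st exterior power of E (det E) and s a choice of
nonzero rational sections of L at all points. Then γ_1 ∼_rat c_1(L) ∩ α as (k − 1)-cycles, the right
side being the cycle of the divisors of the sections s along the components of α. (The published
statement is for vector bundles of any rank on separated schemes of finite type over a field; this
row takes E of rank r + 1 ≥ 1 on a locally Noetherian scheme with universally catenary local rings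
and a dimension function δ; in rank 0 both sides vanish.) -/
theorem result (X : Scheme.{u}) (δ : X → ℤ) (hX : Cyc.IsSetup X δ)
    (E : X.Modules) (r : ℕ) (hE : FlatMod.IsFinLocFreeOfRank (r + 1) E)
    (P : Scheme.{u}) (p : P ⟶ X) (O1 : P.Modules) (q : (Scheme.Modules.pullback p).obj E ⟶ O1)
    (hP : KRR.IsProjBundle p E O1 q) [IsProper p] (δP : P → ℤ) (hPs : Cyc.IsSetup P δP)
    (hδ : Cyc.DeltaCompat p δP δ) (k : ℤ) (α : AlgebraicCycle X ℤ) (hα : α ∈ Cyc.Zk X δ k)
    (γ : Fin (r + 2) → AlgebraicCycle X ℤ) (hγ : Cyc.IsChernCap p δ δP O1 (r + 1) k α γ)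
    (L : X.Modules) (hL : ExtPow.IsExtPow (r + 1) E L)
    (s : (ξ : X) → Cyc.secFibre L ξ) (hs : ∀ ξ, s ξ ≠ 0)
    (β : AlgebraicCycle X ℤ) (hβ : ⇑β = Cyc.c1CapFun δ L ⇑α s) :
    Cyc.RatEquiv δ (k - 1) (γ 1) β := by
  obtain ⟨S⟩ := exists_splitting pbAll hX (m := 1) (fun _ => E) (fun _ => r + 1) (fun _ => hE)
  have hLinv : PicF.IsInvertible L := by
    have := Groth.Agent.Krr.H495.Rank.rank_extPow hE hL
    rw [Nat.choose_self] at this
    exact Groth.Agent.Ega2.QCohLocal.isFinLocFreeOfRank_one_iff.1 this
  have h1 := S.pb_chernCap pbAll (fun _ => hE) 0 hPs hδ hP hγ 1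
  have h2 : cl δ β = C1 δ L (cl δ α) := by
    rw [C1_eq hX hLinv, c1_cl hX hLinv (fun ξ _ => hs ξ) hβ]
  have hEq : Coh.IsQCoh E := Groth.Agent.Ega2.QCohLocal.isQCoh_of_isFinLocFree
    (Groth.Agent.Krr.H495.Rank.isFinLocFree_of_rank hE)
  have h3 : C1 S.δ ((Scheme.Modules.pullback S.π).obj L) = ec S.δ (S.Ls 0) 1 := by
    rw [ec_one]
    have hlen := S.length 0
    have hE' := Groth.Agent.Vancyc.H878.Triv.isFinLocFreeOfRank_pullback S.π hE
    have hL' := K583.ExtPowPull.isExtPow_pullback S.π hEq hL
    exact K937.DetC1.C1_det S.setup (S.inv 0) (S.filt 0) (by rw [hlen]; exact hE')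
      (by rw [hlen]; exact hL')
  have h4 : cl δ (γ 1) = cl δ β := by
    apply S.pb_injective
    rw [h1, h2, S.pb_c1 hLinv, h3]
    rfl
  have hγ1 : γ 1 ∈ Cyc.Zk X δ (k - 1) := by
    have := hγ.2.1 1
    have e : (((1 : Fin (r + 1 + 1)) : ℕ) : ℤ) = 1 := by simp
    rwa [e] at this
  have hβ1 : β ∈ Cyc.Zk X δ (k - 1) := by
    have h5 := part_c1Cap L α s β hβ (k - 1)
    rw [sub_add_cancel, part_of_mem hα, ← hβ] at h5
    have h6 : part δ (k - 1) β = β := DFunLike.coe_injective h5
    rw [← h6]
    exact part_mem _ _ _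
  exact (cl_eq_iff hγ1 hβ1).1 h4

end Groth.Agent.S14508
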