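import Groth.Statements.S14510
import Groth.Agent.CAlgX.K581.RankOne
import Mathlib.LinearAlgebra.Dimension.Free

set_option autoImplicit false
universe u v
open CAlgX

namespace Groth.Agent.S14510

/-- Let k be an algebraically closed field, U, V, W finite-dimensional k-vector spaces with U and V
nonzero, and φ : U ⊗ V → W a linear map which is 1-generic, i.e. φ(u ⊗ v) ≠ 0 for all nonzero u and
v (φ is given here as a bilinear map). Then dim W ≥ dim U + dim V − 1. (Algebraic closedness
matters: complex multiplication ℂ ⊗ ℂ → ℂ over the reals is 1-generic with 2 + 2 − 1 > 2.) -/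
theorem result (k : Type u) [Field k] [IsAlgClosed k]
    (U V W : Type v) [AddCommGroup U] [Module k U] [AddCommGroup V] [Module k V] [AddCommGroup W] [Module k W]
    [Module.Finite k U] [Module.Finite k V] [Module.Finite k W] [Nontrivial U] [Nontrivial V]
    (φ : U →ₗ[k] V →ₗ[k] W) (hφ : ∀ (a : U) (b : V), a ≠ 0 → b ≠ 0 → φ a b ≠ 0) :
    Module.finrank k U + Module.finrank k V ≤ Module.finrank k W + 1 := by
  classical
  have hU : 0 < Module.finrank k U := Module.finrank_pos
  have hV : 0 < Module.finrank k V := Module.finrank_pos
  obtain ⟨a, ha⟩ : ∃ a, Module.finrank k U = 1 + a := ⟨Module.finrank k U - 1, by omega⟩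
  let bU : Module.Basis (Fin (1 + a)) k U := Module.finBasisOfFinrankEq k U ha
  let bV : Module.Basis (Fin (Module.finrank k V)) k V := Module.finBasis k V
  let bW : Module.Basis (Fin (Module.finrank k W)) k W := Module.finBasis k W
  have h := K581.RankOne.hopf k a (Module.finrank k V) (Module.finrank k W) hV
    (fun l i j => bW.repr (φ (bU i) (bV j)) l) (by
      intro u v hu hv
      have h1 : φ (∑ i, u i • bU i) (∑ j, v j • bV j) ≠ 0 := by
        apply hφ
        · intro h0
          apply hu
          ext i
          exact Fintype.linearIndependent_iff.1 bU.linearIndependent u h0 i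
        · intro h0
          apply hv
          ext i
          exact Fintype.linearIndependent_iff.1 bV.linearIndependent v h0 i
      by_contra hcon
      push Not at hcon
      apply h1
      apply bW.ext_elem
      intro l
      rw [map_zero, Finsupp.zero_apply, ← hcon l]
      simp only [map_sum, map_smul, LinearMap.sum_apply, LinearMap.smul_apply, Finsupp.finsetSum_apply,
        Finsupp.smul_apply, smul_eq_mul]
      rw [Finset.sum_comm]
      refine Finset.sum_congr rfl fun j _ => ?_
      rw [Finset.mul_sum]
      refine Finset.sum_congr rfl fun i _ => ?_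
      ring)
  omega

end Groth.Agent.S14510
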