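import Groth.Statements.S14511
-- import your own Groth.Agent.* helpers here

set_option autoImplicit false
universe u
open CAlgX

namespace Groth.Agent.S14511

/-- Let R be a commutative ring and P ∈ R[x_1, …, x_r] a polynomial of total degree at most r. Then the
coefficient of the monomial x_1 ⋯ x_r in P equals Σ_J (−1)^{|J|} P(δ_J), the sum over all subsets J
⊆ {1, …, r} (the empty one included), where δ_J is the point with coordinate −1 at the indices in J
and 0 at the others. -/
theorem result (R : Type u) [CommRing R] (r : ℕ)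
    (P : MvPolynomial (Fin r) R) (hP : P.totalDegree ≤ r) :
    MvPolynomial.coeff (∑ i : Fin r, Finsupp.single i 1) P =
      ∑ J : Finset (Fin r), (-1 : R) ^ J.card * MvPolynomial.eval (fun j => if j ∈ J then (-1 : R) else 0) P := by
  classical
  have key : ∀ d : Fin r →₀ ℕ, (∑ i, d i ≤ r) →
      ∑ J : Finset (Fin r), (-1 : R) ^ J.card *
        ∏ i, (if i ∈ J then (-1 : R) else 0) ^ d i =
      if d = ∑ i : Fin r, Finsupp.single i 1 then 1 else 0 := by
    intro d hd
    have h1 : ∑ J : Finset (Fin r), (-1 : R) ^ J.card *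
        ∏ i, (if i ∈ J then (-1 : R) else 0) ^ d i =
        ∏ i : Fin r, ((-1 : R) ^ (d i + 1) + (0 : R) ^ (d i)) := by
      rw [Finset.prod_add, Finset.powerset_univ]
      refine Finset.sum_congr rfl fun J _ => ?_
      have h2 : ∏ i, (if i ∈ J then (-1 : R) else 0) ^ d i =
          (∏ i ∈ J, (-1 : R) ^ d i) * ∏ i ∈ Finset.univ \ J, (0 : R) ^ d i := by
        rw [← Finset.prod_sdiff (Finset.subset_univ J), mul_comm]
        congr 1
        · refine Finset.prod_congr rfl fun i hi => ?_
          rw [if_pos hi]
        · refine Finset.prod_congr rfl fun i hi => ?_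
          rw [if_neg (Finset.mem_sdiff.1 hi).2]
      rw [h2]
      have h3 : ∏ i ∈ J, (-1 : R) ^ (d i + 1) = (-1 : R) ^ J.card * ∏ i ∈ J, (-1 : R) ^ d i := by
        simp only [pow_succ, Finset.prod_mul_distrib, Finset.prod_const]
        ring
      rw [h3, mul_assoc]
    rw [h1]
    by_cases hpos : ∀ i, 1 ≤ d i
    · have hone : ∀ i, d i = 1 := by
        by_contra hcon
        push Not at hcon
        obtain ⟨i, hi⟩ := hcon
        have h4 : ∑ i : Fin r, 1 < ∑ i : Fin r, d i :=
          Finset.sum_lt_sum (fun i _ => hpos i) ⟨i, Finset.mem_univ i, lt_of_le_of_ne (hpos i) (Ne.symm hi)⟩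
        simp at h4
        omega
      have hd1 : d = ∑ i : Fin r, Finsupp.single i 1 := by
        ext i
        rw [hone i, Finsupp.finset_sum_apply]
        simp [Finsupp.single_apply]
      rw [if_pos hd1]
      refine Finset.prod_eq_one fun i _ => ?_
      rw [hone i]
      simp
    · push Not at hpos
      obtain ⟨i, hi⟩ := hpos
      have hi0 : d i = 0 := by omega
      rw [if_neg]
      · refine Finset.prod_eq_zero (Finset.mem_univ i) ?_
        rw [hi0]; simp
      · intro hd1
        have h5 := DFunLike.congr_fun hd1 i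
        rw [hi0, Finsupp.finset_sum_apply] at h5
        simp [Finsupp.single_apply] at h5
  have hexp : ∀ J : Finset (Fin r), MvPolynomial.eval (fun j => if j ∈ J then (-1 : R) else 0) P =
      ∑ d ∈ P.support, P.coeff d * ∏ i, (if i ∈ J then (-1 : R) else 0) ^ d i := fun J =>
    MvPolynomial.eval_eq' _ _
  simp only [hexp, Finset.mul_sum]
  rw [Finset.sum_comm]
  have h6 : ∀ d ∈ P.support, ∑ J : Finset (Fin r), (-1 : R) ^ J.card * (P.coeff d *
      ∏ i, (if i ∈ J then (-1 : R) else 0) ^ d i) =
      P.coeff d * (if d = ∑ i : Fin r, Finsupp.single i 1 then 1 else 0) := by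
    intro d hd
    rw [← key d, Finset.mul_sum]
    · refine Finset.sum_congr rfl fun J _ => by ring
    · have := MvPolynomial.le_totalDegree hd
      rw [Finsupp.sum_fintype _ _ (by simp)] at this
      exact this.trans hP
  rw [Finset.sum_congr rfl h6]
  simp only [mul_ite, mul_one, mul_zero]
  rw [Finset.sum_ite_eq']
  split_ifs with h
  · rfl
  · exact MvPolynomial.notMem_support_iff.1 h

end Groth.Agent.S14511
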