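import Groth.Statements.S14512
import Groth.Agent.S1602
import Groth.Agent.S1603
import Groth.Agent.Etcore.CurveComp
import Groth.Agent.Pi1.H386.NormalCurve
import Groth.Agent.PerfA.H0AlgClosed

set_option autoImplicit false
universe u
open CategoryTheory CategoryTheory.Limits AlgebraicGeometry
open Curves

namespace Groth.Agent.S14512

theorem app_str {A : Type u} [CommRing A] {X Y : Scheme.{u}} (ν : Y ⟶ X)
    (f : X ⟶ Spec (CommRingCat.of A)) (c : A) :
    (ν.app ⊤).hom (PerfA.CechH0.str f ⊤ c) = PerfA.CechH0.str (ν ≫ f) ⊤ c := by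
  unfold PerfA.CechH0.str
  rw [RingHom.comp_apply, RingHom.comp_apply, ← CommRingCat.comp_apply]
  congr 2
  simp [Scheme.Hom.appLE]

/-- Let k be an algebraically closed field and X a complete curve over k (integral, proper over k, of
dimension one) of arithmetic genus dim_k H^1(X, O_X) = 0. Then X is smooth over k. (Over a
non-closed field an integral proper curve with vanishing H^1 need not be smooth, e.g. a projective
line over an inseparable extension of k viewed over k.) -/
theorem result (k : Type u) [Field k] [IsAlgClosed k] (X : Scheme.{u}) [X.Over (Spec (CommRingCat.of k))]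
    [IsIntegral X] [IsProper (X ↘ (Spec (CommRingCat.of k)))] (hdim : topologicalKrullDim X = 1)
    (hg : Curv2.genus k X = 0) :
    Smooth (X ↘ (Spec (CommRingCat.of k))) := by
  obtain ⟨Y, ν, hfin, hsurj, hYint, hYn, ⟨V, hV, hVd⟩, hdimY⟩ :=
    Etcore.CurveComp.exists_normalization k X (X ↘ (Spec (CommRingCat.of k)))
  letI : Y.Over (Spec (CommRingCat.of k)) := ⟨ν ≫ (X ↘ (Spec (CommRingCat.of k)))⟩
  have hYp : IsProper (Y ↘ (Spec (CommRingCat.of k))) :=
    inferInstanceAs (IsProper (ν ≫ (X ↘ (Spec (CommRingCat.of k)))))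
  have hsm : Smooth (Y ↘ (Spec (CommRingCat.of k))) :=
    Pi1.H386.NormalCurve.smooth_of_normal k _ hYn (by rw [hdimY, hdim])
  have hd : Dense (V : Set X) := V.isOpen.dense hV
  have hd' : Dense ((ν ⁻¹ᵁ V : Y.Opens) : Set Y) := by
    refine (ν ⁻¹ᵁ V).isOpen.dense ?_
    obtain ⟨x, hx⟩ := hV
    obtain ⟨y, rfl⟩ := hsurj.surj x
    exact ⟨y, hx⟩
  have hgen : Curv2.genus k Y ≤ Curv2.genus k X :=
    S1602.result k X Y hdim.le ν rfl V hd hd' hVd
  have h0 : Function.Surjective (ν.app ⊤).hom := by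
    intro y
    have hb := PerfA.H0AlgClosed.bijective_str_of_isAlgClosed (Y ↘ Spec (CommRingCat.of k))
    obtain ⟨c, hc⟩ := hb.2 y
    refine ⟨PerfA.CechH0.str (X ↘ Spec (CommRingCat.of k)) ⊤ c, ?_⟩
    rw [← hc]
    exact app_str ν (X ↘ Spec (CommRingCat.of k)) c
  have hiso : IsIso ν := S1603.result k X Y hdim.le ν rfl V hd hd' hVd h0 (by omega)
  have : X ↘ (Spec (CommRingCat.of k)) = inv ν ≫ (Y ↘ (Spec (CommRingCat.of k))) := by
    rw [IsIso.eq_inv_comp]
    rfl
  rw [this]
  infer_instance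

end Groth.Agent.S14512
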