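import Groth.Statements.S14513
import Groth.Agent.Curves.K259.GenDeg
import Groth.Agent.S11332
import Groth.Agent.S1535
import Groth.Agent.S9829
-- import your own Groth.Agent.* helpers here

set_option autoImplicit false
universe u
open CategoryTheory CategoryTheory.Limits AlgebraicGeometry
open Curves

namespace Groth.Agent.S14513

/-- Let k be an algebraically closed field and f : X → Y a finite, separable morphism of smooth
projective curves over k (X, Y integral, proper and smooth over k, of dimension one; f sends the
generic point to the generic point and the extension K(X)/K(Y) is separable). If X and Y have the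
same genus g = dim_k H^1(O) and g ≥ 2, then f is an isomorphism. (The published statement also
asserts g(X) ≥ g(Y) and that equality holds exactly when f is an isomorphism, both curves are
projective lines, or both have genus one; this row states the equality case for genus at least two.) -/
theorem result (k : Type u) [Field k] [IsAlgClosed k]
    (X : Scheme.{u}) [X.Over (Spec (CommRingCat.of k))] [IsIntegral X] [IsProper (X ↘ (Spec (CommRingCat.of k)))] [Smooth (X ↘ (Spec (CommRingCat.of k)))] (hdimX : topologicalKrullDim X = 1)
    (Y : Scheme.{u}) [Y.Over (Spec (CommRingCat.of k))] [IsIntegral Y] [IsProper (Y ↘ (Spec (CommRingCat.of k)))] [Smooth (Y ↘ (Spec (CommRingCat.of k)))] (hdimY : topologicalKrullDim Y = 1)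
    (f : X ⟶ Y) [IsFinite f] (hf : f ≫ (Y ↘ (Spec (CommRingCat.of k))) = (X ↘ (Spec (CommRingCat.of k))))
    (e : f (genericPoint X) = genericPoint Y)
    (hg : Curv2.genus k X = Curv2.genus k Y) (h2 : 2 ≤ Curv2.genus k Y) :
    letI := ((Y.presheaf.stalkSpecializes (specializes_of_eq e) ≫ f.stalkMap (genericPoint X)).hom).toAlgebra
    Algebra.IsSeparable Y.functionField X.functionField → IsIso f := by
  intro hsep
  have hrX : ∀ x : X, IsRegularLocalRing (X.presheaf.stalk x) := fun x => Groth.Agent.S1535.result k X x
  have hrY : ∀ x : Y, IsRegularLocalRing (Y.presheaf.stalk x) := fun x => Groth.Agent.S1535.result k Y x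
  have h := Groth.Agent.S11332.result k X hdimX hrX Y hdimY hrY f hf e hsep
  have hnY : IsLocallyNoetherian Y := LocallyOfFiniteType.isLocallyNoetherian (Y ↘ Spec (CommRingCat.of k))
  have hv : ∀ y : Y, IsDomain (Y.presheaf.stalk y) ∧ IsPrincipalIdealRing (Y.presheaf.stalk y) := by
    intro y
    exact K259.GenDeg.stalk_pid hdimY (fun y => ⟨inferInstance, Groth.Agent.S9829.result _⟩) y
  have hflat : Flat f := K259.GenDeg.flat_of_curve f e hv
  have hlfp : LocallyOfFinitePresentation f := inferInstance
  have hfr := K259.GenDeg.finrank_eq_residueDegree f e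
    (K259.GenDeg.eq_genericPoint_of_map_eq f hdimX.le hdimY)
  have h1 : 1 ≤ f.residueDegree (genericPoint X) := by
    rw [← hfr (f (genericPoint X))]
    exact Scheme.Hom.one_le_finrank_map f (genericPoint X)
  have h2' : f.residueDegree (genericPoint X) = 1 := by
    by_contra hne
    have h3 : 2 ≤ f.residueDegree (genericPoint X) := by omega
    have h4 : (2 : ℤ) ≤ (f.residueDegree (genericPoint X) : ℤ) := by exact_mod_cast h3
    have h5 : (2 : ℤ) ≤ (Curv2.genus k Y : ℤ) := by exact_mod_cast h2
    rw [hg] at h
    nlinarith
  rw [Scheme.Hom.isIso_iff_finrank_eq]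
  ext y
  rw [hfr y, h2']
  rfl

end Groth.Agent.S14513
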