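import Groth.Statements.S14515
import Groth.Agent.Variety.K430.ExcDim

set_option autoImplicit false
universe u
open CategoryTheory CategoryTheory.Limits AlgebraicGeometry
open Variety

namespace Groth.Agent.S14515

/-- Let k be an algebraically closed field and f : X → Y a proper, birational morphism over k between
smooth, irreducible varieties (X, Y integral, separated, of finite type and smooth over k; f
restricts to an isomorphism over some nonempty open subset of Y). Let Exc(f) ⊆ X be the exceptional
locus: the points x such that f restricts to an isomorphism over no open neighbourhood of f(x). Then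
Exc(f) has pure codimension one: every irreducible component of Exc(f) has dimension dim X − 1. -/
theorem result (k : Type u) [Field k] [IsAlgClosed k]
    (X Y : Scheme.{u}) [X.Over (Spec (CommRingCat.of k))] [Y.Over (Spec (CommRingCat.of k))]
    [IsIntegral X] [IsSeparated (X ↘ (Spec (CommRingCat.of k)))] [LocallyOfFiniteType (X ↘ (Spec (CommRingCat.of k)))] [QuasiCompact (X ↘ (Spec (CommRingCat.of k)))] [Smooth (X ↘ (Spec (CommRingCat.of k)))]
    [IsIntegral Y] [IsSeparated (Y ↘ (Spec (CommRingCat.of k)))] [LocallyOfFiniteType (Y ↘ (Spec (CommRingCat.of k)))] [QuasiCompact (Y ↘ (Spec (CommRingCat.of k)))] [Smooth (Y ↘ (Spec (CommRingCat.of k)))]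
    (f : X ⟶ Y) (hf : f ≫ (Y ↘ (Spec (CommRingCat.of k))) = (X ↘ (Spec (CommRingCat.of k)))) [IsProper f]
    (hbir : ∃ V : Y.Opens, (V : Set Y).Nonempty ∧ IsIso (f ∣_ V)) :
    ∀ Z ∈ irreducibleComponents ↥{x : X | ∀ V : Y.Opens, f x ∈ V → ¬ IsIso (f ∣_ V)},
      topologicalKrullDim ↥Z + 1 = topologicalKrullDim X := by
  have : IsLocallyNoetherian X := LocallyOfFiniteType.isLocallyNoetherian (X ↘ Spec (CommRingCat.of k))
  have : IsLocallyNoetherian Y := LocallyOfFiniteType.isLocallyNoetherian (Y ↘ Spec (CommRingCat.of k))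
  have : CompactSpace Y := (quasiCompact_iff_compactSpace (Y ↘ (Spec (CommRingCat.of k)))).mp inferInstance
  have : IsNoetherian Y := {}
  obtain ⟨V, hV, hfV⟩ := hbir
  have hufd : ∀ y : Y, UniqueFactorizationMonoid (Y.presheaf.stalk y) := fun y => K430.ExcDim.ufd_of_smooth k y
  have hY : ∀ y : Y, IsIntegrallyClosed (Y.presheaf.stalk y) := fun y => by
    have := hufd y
    infer_instance
  have hexc := K430.ExcDim.exc_iff f V hV hfV hY
  have hVX : ∃ W : X.Opens, (W : Set X).Nonempty ∧ IsOpenImmersion (W.ι ≫ f) := by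
    refine ⟨f ⁻¹ᵁ V, ?_, ?_⟩
    · obtain ⟨y, hy⟩ := hV
      obtain ⟨x, hx⟩ := (f ∣_ V).homeomorph.surjective ⟨y, hy⟩
      exact ⟨x.1, x.2⟩
    · rw [← morphismRestrict_ι]
      infer_instance
  intro Z hZ
  refine K430.ExcDim.dim_component k _ (K430.ExcDim.isClosed_exc f) (fun ξ hξ hmax => ?_) Z hZ
  exact S2852.result f hufd hVX ξ ((hexc ξ).mp hξ) fun η hη hs => hmax η ((hexc η).mpr hη) hs

end Groth.Agent.S14515
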