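import Groth.Statements.S14516
import Groth.Agent.Variety.K343.CanonBlow
-- import your own Groth.Agent.* helpers here

set_option autoImplicit false
universe u
open CategoryTheory CategoryTheory.Limits AlgebraicGeometry
open Variety

namespace Groth.Agent.S14516

/-- Let k be an algebraically closed field, X a smooth irreducible variety over k of dimension n
(integral, separated, of finite type and smooth over k), Z a smooth irreducible closed subvariety of
codimension r ≥ 1 (a closed immersion i : Z → X with Z integral and smooth over k and dim Z + r =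
n), b : X' → X the blow-up of X along the ideal of Z, I_E the ideal of the exceptional divisor E and
M a tensor inverse of I_E. Let W be the canonical sheaf of X and W' that of X' (n-th exterior powers
of the sheaves of differentials over k). Then K_{X'/X} = (r − 1)E, i.e. W' ≅ b^*W ⊗ O((r−1)E) = b^*W
⊗ M^{⊗(r−1)} (existence of an isomorphism only; the published statement's isomorphism is the one
induced by pulling back differential forms). -/
theorem result (k : Type u) [Field k] [IsAlgClosed k]
    (X : Scheme.{u}) [X.Over (Spec (CommRingCat.of k))] [IsIntegral X] [IsSeparated (X ↘ (Spec (CommRingCat.of k)))] [LocallyOfFiniteType (X ↘ (Spec (CommRingCat.of k)))] [QuasiCompact (X ↘ (Spec (CommRingCat.of k)))] [Smooth (X ↘ (Spec (CommRingCat.of k)))] (n : ℕ) (hdim : topologicalKrullDim X = n)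
    (Z : Scheme.{u}) (i : Z ⟶ X) [IsClosedImmersion i] [IsIntegral Z] [Smooth (i ≫ (X ↘ (Spec (CommRingCat.of k))))]
    (r : ℕ) (hr : 1 ≤ r) (hcodim : topologicalKrullDim Z + r = n)
    (X' : Scheme.{u}) (b : X' ⟶ X) (hb : BlowUp.IsBlowUp b i.ker)
    (M : X'.Modules) (hM : ClSub.IsInverseOf M (ClSub.idealMod (BlowUp.exceptional b i.ker)))
    (W : X.Modules) (hW : Canon.IsTopDiff (X ↘ (Spec (CommRingCat.of k))) n W)
    (W' : X'.Modules) (hW' : Canon.IsTopDiff (b ≫ (X ↘ (Spec (CommRingCat.of k)))) n W') :
    Nonempty (W' ≅ CohB1.tensorMod ((Scheme.Modules.pullback b).obj W) (CohB1.tensorPow M (r - 1))) := by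
  have h1 := K343.BlowInt.one_le_ringKrullDim (X ↘ (Spec (CommRingCat.of k))) i n r hr hdim hcodim
  obtain ⟨r, rfl⟩ : ∃ r', r = r' + 1 := ⟨r - 1, by omega⟩
  have hZ0 : topologicalKrullDim Z ≤ n := by
    rw [← hdim]
    exact i.isClosedEmbedding.isInducing.topologicalKrullDim_le
  obtain ⟨d, hd⟩ : ∃ d : ℕ, topologicalKrullDim Z = d := by
    have h2 : topologicalKrullDim Z ≠ ⊥ := by
      intro h
      rw [h] at hcodim
      exact absurd hcodim (by simp)
    generalize topologicalKrullDim Z = t at h2 hZ0
    induction t using WithBot.recBotCoe with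
    | bot => exact absurd rfl h2
    | coe t =>
      induction t using ENat.recTopCoe with
      | top => exact absurd hZ0 (by
          intro h
          exact absurd (WithBot.coe_le_coe.mp h) (by simp))
      | coe t => exact ⟨t, rfl⟩
  have hn : d + (r + 1) = n := by
    rw [hd] at hcodim
    exact_mod_cast hcodim
  have hs := Groth.Agent.Picfga.CurveRelDim.smoothOfRelativeDimension_of_topologicalKrullDim_eq k X
    (X ↘ (Spec (CommRingCat.of k))) n hdim
  have hs' := Groth.Agent.Picfga.CurveRelDim.smoothOfRelativeDimension_of_topologicalKrullDim_eq k Z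
    (i ≫ (X ↘ (Spec (CommRingCat.of k)))) d hd
  exact K343.CanonBlow.main (X ↘ (Spec (CommRingCat.of k))) i hn hb h1 M hM W hW W' hW'

end Groth.Agent.S14516
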