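import Groth.Statements.S14517
import Groth.Agent.Surf.K34.ContrRat

set_option autoImplicit false
universe u
open CategoryTheory CategoryTheory.Limits AlgebraicGeometry
open Surf

namespace Groth.Agent.S14517

/-- Let k be an algebraically closed field, X a smooth projective surface over k (integral, smooth over
k, of dimension two, with a closed immersion over k into some projective space) and C ⊆ X a curve,
given by a closed immersion i : C → X, with C isomorphic to P^1_k over k and (C·C) = −n for some n >
0, the self-intersection being the alternating Euler-characteristic sum computed in the ideal I_C =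
O_X(−C) (the prelude's FGA.intNum). Then there are a projective surface Y over k (integral, of
dimension two, with a closed immersion over k into some projective space), a morphism g : X → Y over
k and a closed point P of Y such that g^{-1}(P) = C as sets and g restricts to an isomorphism over Y
∖ {P}. (The published statement also identifies the completed local ring of Y at P with that of the
vertex of the affine cone over a rational normal curve of degree n; this row omits that clause.) -/
theorem result (k : Type u) [Field k] [IsAlgClosed k]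
    (X : Scheme.{u}) [X.Over (Spec (CommRingCat.of k))] [IsIntegral X] [Smooth (X ↘ (Spec (CommRingCat.of k)))] (hdim : topologicalKrullDim X = 2)
    (hprojX : ∃ (N : ℕ) (ι : X ⟶ CohB1.ProjSpace N k), IsClosedImmersion ι ∧ ι ≫ CohB1.ProjSpace.toSpec N k = (X ↘ (Spec (CommRingCat.of k))))
    (C : Scheme.{u}) (i : C ⟶ X) [IsClosedImmersion i]
    (e : C ≅ CohB1.ProjSpace 1 k) (he : e.hom ≫ CohB1.ProjSpace.toSpec 1 k = i ≫ (X ↘ (Spec (CommRingCat.of k))))
    (n : ℕ) (hn : 0 < n)
    (hCC : FGA.intNum k X 2 ![ClSub.idealMod i.ker, ClSub.idealMod i.ker] (Coh.structureModule X) = -(n : ℤ)) :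
    ∃ (Y : Scheme.{u}) (q : Y ⟶ Spec (CommRingCat.of k)) (g : X ⟶ Y) (P : Y) (hP : IsClosed ({P} : Set Y)),
      g ≫ q = (X ↘ (Spec (CommRingCat.of k))) ∧ IsIntegral Y ∧ topologicalKrullDim Y = 2 ∧
      (∃ (N : ℕ) (ι : Y ⟶ CohB1.ProjSpace N k), IsClosedImmersion ι ∧ ι ≫ CohB1.ProjSpace.toSpec N k = q) ∧
      (∀ x : X, g x = P ↔ x ∈ Set.range i) ∧
      IsIso (g ∣_ (⟨({P} : Set Y)ᶜ, hP.isOpen_compl⟩ : Y.Opens)) := by
  obtain ⟨N, c, hc, hck⟩ := hprojX
  obtain ⟨hprop, hA⟩ := K465.ProjH.facts k X c hck
  let ι : CohB1.ProjSpace 1 k ⟶ X := e.inv ≫ i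
  have hι : ι ≫ (X ↘ Spec (CommRingCat.of k)) = CohB1.ProjSpace.toSpec 1 k := by
    rw [Category.assoc, ← he, Iso.inv_hom_id_assoc]
  have hker : ι.ker = i.ker := K34.ContrRat.ker_comp_iso e.symm i
  have hrange : Set.range ι = Set.range i := K34.ContrRat.range_comp_iso e.symm i
  have hC : K464.Curves.IsCurve ι.ker := K34.ContrRat.isCurve k ι
  have heff : BlowUp.IsEffCartierIdeal ι.ker := K464.Curves.isEff_of_smooth k hdim hC
  obtain ⟨m, hm⟩ := Groth.Agent.Dix.CastPic.exists_o k
    (Groth.Agent.Grpsch.PicGrp.pull ι (Groth.Agent.Dix.CastPic.idc ι heff))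
  have h1 := K464.Curves.intNum_idealMod_mk k X hdim.le ι.ker
    ((Groth.Agent.Dix.IdealModCartier.isInvertible_idealMod_iff ι.ker).2 heff)
  rw [← hker] at hCC
  have h2 := K34.ContrRat.degOn_eq k ι hι hm
  have hmn : m = n := by
    have h3 := hCC.symm.trans h1
    have h4 := neg_injective h3
    rw [h4, ← h2]
    rfl
  rw [hmn] at hm
  obtain ⟨M, t, J, hJ, τ, ht, ha, hd, hcv⟩ := K34.ContrRat.exists_data k ι hι heff hA hn hm
  have := K34.ContrRat.contraction (X ↘ Spec (CommRingCat.of k)) (d := 2) hdim ι
    (Groth.Agent.Dix.Cast2.wp2_isField k) (K34.ContrRat.exists_notMem k ι hdim) M t ht τ ha hd hcv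
  rw [hrange] at this
  exact this

end Groth.Agent.S14517
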