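import Groth.Statements.S14518
import Groth.Agent.Variety.K430.SecMul
import Groth.Agent.Curves.K334.Hopf
import Groth.Agent.S0002
import Groth.Agent.Sga67.LocBasisOps
import Groth.Agent.PerfA.CohSerre

set_option autoImplicit false
universe u
open CategoryTheory CategoryTheory.Limits AlgebraicGeometry
open Variety

namespace Groth.Agent.S14518

/-- Let k be an algebraically closed field, X an irreducible variety over k, taken here complete (X
integral and proper over k, so that spaces of global sections are finite-dimensional), and E_1, E_2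
vector bundles (finite locally free O_X-modules) on X with H^0(X, E_1) ≠ 0 and H^0(X, E_2) ≠ 0. Then
dim_k H^0(X, E_1 ⊗ E_2) ≥ dim_k H^0(X, E_1) + dim_k H^0(X, E_2) − 1. (The published statement allows
any irreducible variety; for non-complete X the spaces of sections may be infinite-dimensional and
the inequality carries no content, so X is taken complete here.) -/
theorem result (k : Type u) [Field k] [IsAlgClosed k]
    (X : Scheme.{u}) [X.Over (Spec (CommRingCat.of k))] [IsIntegral X] [IsProper (X ↘ (Spec (CommRingCat.of k)))]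
    (E₁ E₂ : X.Modules) (h₁ : FlatMod.IsFinLocFree E₁) (h₂ : FlatMod.IsFinLocFree E₂)
    [Nontrivial (Coh.HH X E₁ 0)] [Nontrivial (Coh.HH X E₂ 0)] :
    Module.finrank k (Coh.HH X E₁ 0) + Module.finrank k (Coh.HH X E₂ 0) ≤
      Module.finrank k (Coh.HH X (CohB1.tensorMod E₁ E₂) 0) + 1 := by
  have hN : IsLocallyNoetherian X := LocallyOfFiniteType.isLocallyNoetherian (X ↘ Spec (CommRingCat.of k))
  have hc₁ := Groth.Agent.PerfA.CohSerre.isCoh_of_isFinLocFree h₁
  have hc₂ := Groth.Agent.PerfA.CohSerre.isCoh_of_isFinLocFree h₂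
  have hc₃ := Groth.Agent.PerfA.CohSerre.isCoh_of_isFinLocFree (Groth.Agent.Sga67.LocBasis.isFinLocFree_tensorMod h₁ h₂)
  have f₁ : Module.Finite k (Coh.HH X E₁ 0) := Groth.Agent.S0002.result k X E₁ hc₁ 0
  have f₂ : Module.Finite k (Coh.HH X E₂ 0) := Groth.Agent.S0002.result k X E₂ hc₂ 0
  have f₃ : Module.Finite k (Coh.HH X (CohB1.tensorMod E₁ E₂) 0) := Groth.Agent.S0002.result k X _ hc₃ 0
  refine K334.Hopf.hopf (K430.SecMul.mulBil k E₁ E₂) fun x y h => ?_
  by_contra hcon
  push Not at hcon
  exact K430.SecMul.mulBil_ne_zero k h₁ h₂ hc₁.1 hc₂.1 hcon.1 hcon.2 h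

end Groth.Agent.S14518
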