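import Groth.Statements.S14519
import Groth.Agent.Ega3B.NormalBirational
import Groth.Agent.CurvesC.RegNormal
import Groth.Agent.S1535
import Groth.Agent.Etcore.CurveTop

set_option autoImplicit false
universe u
open CategoryTheory CategoryTheory.Limits AlgebraicGeometry
open Curves

namespace Groth.Agent.S14519

/-- A morphism of integral curves over a field carrying the generic point to the generic point is
locally quasi-finite. -/
theorem locallyQuasiFinite_of_dominant {k : Type u} [Field k] {X Y : Scheme.{u}}
    (p : X ⟶ Spec (CommRingCat.of k)) (q : Y ⟶ Spec (CommRingCat.of k))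
    [IsIntegral X] [LocallyOfFiniteType p] [QuasiCompact p] (hdimX : topologicalKrullDim X = 1)
    [IsIntegral Y] [LocallyOfFiniteType q] (hdimY : topologicalKrullDim Y = 1)
    (f : X ⟶ Y) (hf : f ≫ q = p) (e : f (genericPoint X) = genericPoint Y) :
    LocallyQuasiFinite f := by
  have hft : LocallyOfFiniteType f := by
    have : LocallyOfFiniteType (f ≫ q) := by rw [hf]; infer_instance
    exact locallyOfFiniteType_of_comp f q
  have : IsLocallyNoetherian X := LocallyOfFiniteType.isLocallyNoetherian p
  have : CompactSpace X := QuasiCompact.compactSpace_of_compactSpace p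
  have : IsNoetherian X := {}
  have : JacobsonSpace Y := LocallyOfFiniteType.jacobsonSpace q
  refine .of_finite_preimage_singleton f fun y => ?_
  have hgen : ∀ U : X.Opens, (U : Set X).Nonempty → ((U : Set X)ᶜ).Finite ∧ ∀ x ∉ U, IsClosed ({x} : Set X) := by
    intro U hU
    refine Etcore.CurveTop.compl_finite X hdimX.le U fun C hC => ?_
    rw [irreducibleComponents_eq_singleton, Set.mem_singleton_iff] at hC
    rw [hC, Set.inter_univ]
    exact hU
  by_cases hy : y = genericPoint Y
  · subst hy
    have h1 : f ⁻¹' {genericPoint Y} ⊆ {genericPoint X} := by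
      intro x hx
      by_contra hne
      have hcl : IsClosed ({x} : Set X) := by
        have hno : ¬ (genericPoint X ∈ closure ({x} : Set X)) := by
          intro h
          apply hne
          exact ((specializes_iff_mem_closure.2 h).antisymm (genericPoint_specializes x)).eq
        exact (hgen ⟨(closure {x})ᶜ, isClosed_closure.isOpen_compl⟩ ⟨genericPoint X, hno⟩).2 x
          (fun h => h (subset_closure rfl))
      have hcl2 : IsClosed ({f x} : Set Y) := by
        exact Scheme.Hom.closePoints_subset_preimage_closedPoints f hcl
      rw [show f x = genericPoint Y from hx] at hcl2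
      have : topologicalKrullDim Y ≤ 0 := by
        have huniv : (Set.univ : Set Y) = {genericPoint Y} := by
          rw [← genericPoint_closure, hcl2.closure_eq]
        have : Subsingleton Y := by
          refine ⟨fun a b => ?_⟩
          have ha : a ∈ ({genericPoint Y} : Set Y) := huniv ▸ Set.mem_univ a
          have hb : b ∈ ({genericPoint Y} : Set Y) := huniv ▸ Set.mem_univ b
          rw [Set.mem_singleton_iff.1 ha, Set.mem_singleton_iff.1 hb]
        exact topologicalKrullDim_zero_of_discreteTopology Y
      rw [hdimY] at this
      exact absurd this (by decide)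
    exact (Set.finite_singleton _).subset h1
  · have h1 : genericPoint X ∉ f ⁻¹' (closure {y}) := by
      intro h
      have h2 : f (genericPoint X) ∈ closure {y} := h
      rw [e] at h2
      exact hy ((specializes_iff_mem_closure.2 h2).antisymm (genericPoint_specializes y)).eq
    have h2 := (hgen ⟨(f ⁻¹' (closure {y}))ᶜ, (isClosed_closure.preimage f.continuous).isOpen_compl⟩ ⟨genericPoint X, h1⟩).1
    refine h2.subset ?_
    intro x hx
    change x ∈ ((f ⁻¹' (closure {y}))ᶜ)ᶜ
    rw [compl_compl]
    exact subset_closure hx

/-- Let k be an algebraically closed field and f : X → Y a birational morphism over k between smooth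
curves (X, Y integral, separated, of finite type and smooth over k, of dimension one; f sends the
generic point of X to that of Y and the induced map of function fields K(Y) → K(X) is bijective).
Then f is an open immersion. -/
theorem result (k : Type u) [Field k] [IsAlgClosed k]
    (X Y : Scheme.{u}) [X.Over (Spec (CommRingCat.of k))] [Y.Over (Spec (CommRingCat.of k))]
    [IsIntegral X] [IsSeparated (X ↘ (Spec (CommRingCat.of k)))] [LocallyOfFiniteType (X ↘ (Spec (CommRingCat.of k)))] [QuasiCompact (X ↘ (Spec (CommRingCat.of k)))] [Smooth (X ↘ (Spec (CommRingCat.of k)))] (hdimX : topologicalKrullDim X = 1)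
    [IsIntegral Y] [IsSeparated (Y ↘ (Spec (CommRingCat.of k)))] [LocallyOfFiniteType (Y ↘ (Spec (CommRingCat.of k)))] [QuasiCompact (Y ↘ (Spec (CommRingCat.of k)))] [Smooth (Y ↘ (Spec (CommRingCat.of k)))] (hdimY : topologicalKrullDim Y = 1)
    (f : X ⟶ Y) (hf : f ≫ (Y ↘ (Spec (CommRingCat.of k))) = (X ↘ (Spec (CommRingCat.of k))))
    (e : f (genericPoint X) = genericPoint Y)
    (hbir : Function.Bijective (Y.presheaf.stalkSpecializes (specializes_of_eq e) ≫ f.stalkMap (genericPoint X)).hom) :
    IsOpenImmersion f := by
  have h1 : LocallyQuasiFinite f := locallyQuasiFinite_of_dominant _ _ hdimX hdimY f hf e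
  have h2 : LocallyOfFiniteType f := by
    have : LocallyOfFiniteType (f ≫ (Y ↘ (Spec (CommRingCat.of k)))) := by rw [hf]; infer_instance
    exact locallyOfFiniteType_of_comp f (Y ↘ (Spec (CommRingCat.of k)))
  have h3 : IsSeparated f := by
    have : IsSeparated (f ≫ (Y ↘ (Spec (CommRingCat.of k)))) := by rw [hf]; infer_instance
    exact IsSeparated.of_comp f (Y ↘ (Spec (CommRingCat.of k)))
  have h4 : QuasiCompact f := by
    have : QuasiCompact (f ≫ (Y ↘ (Spec (CommRingCat.of k)))) := by rw [hf]; infer_instance
    exact QuasiCompact.of_comp f (Y ↘ (Spec (CommRingCat.of k)))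
  refine Ega3B.NormalBirational.isOpenImmersion_of_birational (fun y => ?_) f e ?_
  · have := S1535.result k Y y
    exact CurvesC.RegNormal.isIntegrallyClosed _
  · have h5 : IsIso (Y.presheaf.stalkSpecializes (specializes_of_eq e) ≫ f.stalkMap (genericPoint X)) := by
      rw [ConcreteCategory.isIso_iff_bijective]
      exact hbir
    have h6 : IsIso (Y.presheaf.stalkSpecializes (specializes_of_eq e)) :=
      (Y.presheaf.stalkCongr (.of_eq e.symm)).isIso_hom
    exact IsIso.of_isIso_comp_left (Y.presheaf.stalkSpecializes (specializes_of_eq e)) _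

end Groth.Agent.S14519
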