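import Groth.Statements.S14520
import Groth.Agent.Surf.K457.BlowMult2
import Groth.Agent.Surf.K465.ProjH
import Groth.Agent.S1535

set_option autoImplicit false
universe u
open CategoryTheory CategoryTheory.Limits AlgebraicGeometry
open Surf

namespace Groth.Agent.S14520

/-- Let k be an algebraically closed field, X a smooth projective surface over k (integral, smooth over
k, of dimension two, with a closed immersion over k into some projective space), P a closed point of
X with ideal m_P, f : X' → X the blow-up of X at P (universal property), and C ⊆ X a curve (an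
integral closed subscheme of dimension one, closed immersion j) of multiplicity m = ord_P(C) at P:
the ideal of C is contained in m_P^m and not in m_P^{m+1}. Let C' ⊆ X' be the strict transform of C:
an integral closed subscheme of dimension one (closed immersion j') whose generic point is mapped by
f to the generic point of C. Then p_a(C') = p_a(C) − m(m−1)/2, written 2 p_a(C') + m(m−1) = 2 p_a(C)
with p_a = dim_k H^1(O). -/
theorem result (k : Type u) [Field k] [IsAlgClosed k]
    (X : Scheme.{u}) [X.Over (Spec (CommRingCat.of k))] [IsIntegral X] [Smooth (X ↘ (Spec (CommRingCat.of k)))] (hdim : topologicalKrullDim X = 2)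
    (hprojX : ∃ (N : ℕ) (ι : X ⟶ CohB1.ProjSpace N k), IsClosedImmersion ι ∧ ι ≫ CohB1.ProjSpace.toSpec N k = (X ↘ (Spec (CommRingCat.of k))))
    (P : X) (hP : IsClosed ({P} : Set X))
    (X' : Scheme.{u}) (f : X' ⟶ X) (hf : BlowUp.IsBlowUp f (Scheme.IdealSheafData.vanishingIdeal ⟨{P}, hP⟩))
    (C : Scheme.{u}) [C.Over (Spec (CommRingCat.of k))] [IsIntegral C] (hdimC : topologicalKrullDim C = 1)
    (j : C ⟶ X) [IsClosedImmersion j] (hj : j ≫ (X ↘ (Spec (CommRingCat.of k))) = (C ↘ (Spec (CommRingCat.of k))))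
    (m : ℕ) (hm : j.ker ≤ Scheme.IdealSheafData.vanishingIdeal ⟨{P}, hP⟩ ^ m)
    (hm' : ¬ j.ker ≤ Scheme.IdealSheafData.vanishingIdeal ⟨{P}, hP⟩ ^ (m + 1))
    (C' : Scheme.{u}) [C'.Over (Spec (CommRingCat.of k))] [IsIntegral C'] (hdimC' : topologicalKrullDim C' = 1)
    (j' : C' ⟶ X') [IsClosedImmersion j'] (hj' : j' ≫ f ≫ (X ↘ (Spec (CommRingCat.of k))) = (C' ↘ (Spec (CommRingCat.of k))))
    (hgen : f (j' (genericPoint C')) = j (genericPoint C)) :
    2 * Curv2.genus k C' + m * (m - 1) = 2 * Curv2.genus k C := by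
  obtain ⟨N, ι, hι, hιk⟩ := hprojX
  have hPX := (K465.ProjH.facts k X ι hιk).1
  have hreg : ∀ x : X, IsRegularLocalRing (X.presheaf.stalk x) := fun x => Groth.Agent.S1535.result k X x
  let : X'.Over (Spec (CommRingCat.of k)) := ⟨f ≫ (X ↘ (Spec (CommRingCat.of k)))⟩
  have hover : f ≫ (X ↘ (Spec (CommRingCat.of k))) = X' ↘ (Spec (CommRingCat.of k)) := rfl
  obtain ⟨hI', hP', hd', hr'⟩ := K457.BlowPt.surf k hdim hreg P hP f hf hover
  have hN : IsNoetherian X := Groth.Agent.Fga.IntAdd.isNoetherian k X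
  have hN' : IsNoetherian X' := Groth.Agent.Fga.IntAdd.isNoetherian k X'
  have hC := K457.BlowMult.isCurve_ker j hdimC
  have hC' := K457.BlowMult.isCurve_ker j' hdimC'
  have hEC : BlowUp.IsEffCartierIdeal j.ker :=
    K464.Curves.isEff_of_isCurve k (X ↘ Spec (CommRingCat.of k)) hdim hreg hC
  have hEC' : BlowUp.IsEffCartierIdeal j'.ker :=
    K464.Curves.isEff_of_isCurve k (X' ↘ Spec (CommRingCat.of k)) hd' hr' hC'
  have key := K457.BlowMult.chi_strict k hdim hreg P hP f hf hover hC hC' hf.1 hEC hEC'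
    (by rw [K457.BlowMult.gp_eq, K457.BlowMult.gp_eq]; exact hgen) hm hm'
  rw [K457.BlowPt.chi_sub_ic k hd'.le j' hdimC' hj' hEC', K457.BlowPt.chi_sub_ic k hdim.le j hdimC hj hEC] at key
  have h1 : (2 * Curv2.genus k C' + m * (m - 1) : ℤ) = 2 * Curv2.genus k C := by linarith
  rcases Nat.eq_zero_or_pos m with rfl | hm0
  · simpa using h1
  · have h2 : ((m - 1 : ℕ) : ℤ) = (m : ℤ) - 1 := by
      rw [Nat.cast_sub hm0]
      norm_num
    have h3 : ((2 * Curv2.genus k C' + m * (m - 1) : ℕ) : ℤ) = ((2 * Curv2.genus k C : ℕ) : ℤ) := by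
      push_cast
      rw [h2]
      exact h1
    exact_mod_cast h3

end Groth.Agent.S14520
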