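import Groth.Statements.S14521
import Groth.Agent.Variety.K424.IntSum
import Groth.Agent.Fga.MultFinal

set_option autoImplicit false
universe u
open CategoryTheory CategoryTheory.Limits AlgebraicGeometry
open Variety

namespace Groth.Agent.S14521

/-- Let k be an algebraically closed field, X a complete variety over k (reduced and proper over k) of
dimension at most d, L_1, …, L_r line bundles with tensor inverses M_1, …, M_r, and F a coherent
O_X-module whose support has dimension at most r. Let Y_1, …, Y_s be the r-dimensional irreducible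
components of Supp F, with generic points ξ_1, …, ξ_s (given as a finite set s of points: ξ ∈ s iff
ξ ∈ Supp F and the closure of ξ has dimension r), each Y_i with its reduced structure. Then
(L_1⋯L_r; F) = Σ_i length_{O_{X,ξ_i}}(F_{ξ_i}) · (L_1⋯L_r · Y_i), where all intersection numbers are
the alternating Euler-characteristic sums in the M_i (the prelude's FGA.intNum). -/
theorem result (k : Type u) [Field k] [IsAlgClosed k]
    (X : Scheme.{u}) [X.Over (Spec (CommRingCat.of k))] [IsReduced X] [IsProper (X ↘ (Spec (CommRingCat.of k)))] (d : ℕ) (hd : topologicalKrullDim X ≤ d)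
    {r : ℕ} (M : Fin r → X.Modules) (hM : ∀ i, PicF.IsInvertible (M i))
    (F : X.Modules) (hF : Coh.IsCoh F) (hsupp : topologicalKrullDim ↥(CohB1.support F) ≤ r)
    (s : Finset X) (hs : ∀ ξ : X, ξ ∈ s ↔ ξ ∈ CohB1.support F ∧ topologicalKrullDim ↥(closure ({ξ} : Set X)) = r) :
    FGA.intNum k X d M F =
      ∑ ξ ∈ s, ((Module.length (X.presheaf.stalk ξ) (F.presheaf.stalk ξ)).toNat : ℤ) *
        FGA.intNum k X d M (ClSub.quotMod (Scheme.IdealSheafData.vanishingIdeal ⟨closure ({ξ} : Set X), isClosed_closure⟩)) := by
  have h1 : IsLocallyNoetherian X := LocallyOfFiniteType.isLocallyNoetherian (X ↘ Spec (CommRingCat.of k))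
  have h2 : CompactSpace X := (quasiCompact_iff_compactSpace (X ↘ (Spec (CommRingCat.of k)))).mp inferInstance
  have h3 : AlgebraicGeometry.IsNoetherian X := {}
  have key := K424.LenSum.eq_lenSum (Groth.Agent.Fga.MultFinal.isAdd_intNum k X d hd M hM) r
    (fun G hG hGr => Groth.Agent.S3231.result k X d hd M hM G hG hGr)
    (fun ξ => FGA.intNum k X d M (ClSub.quotMod (K424.IntSum.vI ξ))) F hF
    (fun ξ _ _ => ⟨ClSub.quotMod (K424.IntSum.vI ξ), K424.IntSum.isCoh_quotMod _, K424.IntSum.support_quotMod_vI ξ,
      K424.IntSum.length_quotMod_vI ξ, rfl⟩) hsupp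
  refine key.trans ?_
  unfold K424.LenSum.lenSum
  have hsub : Function.support (K424.LenSum.term r (fun ξ => FGA.intNum k X d M (ClSub.quotMod (K424.IntSum.vI ξ))) F) ⊆
      (s : Set X) := by
    intro ξ hξ
    have h := K424.LenSum.support_term_subset r _ F (CohB1.support F) subset_rfl hξ
    exact (hs ξ).mpr h
  rw [finsum_eq_sum_of_support_subset _ hsub]
  refine Finset.sum_congr rfl fun ξ hξ => ?_
  unfold K424.LenSum.term
  rw [if_pos ((hs ξ).mp hξ).2]

end Groth.Agent.S14521
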