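import Groth.Statements.S14522
import Groth.Agent.Variety.K430.CartTens
import Groth.Agent.Fga.MultFinal
import Groth.Agent.Fga.TwistCoh
import Groth.Agent.S2297

set_option autoImplicit false
universe u
open CategoryTheory CategoryTheory.Limits AlgebraicGeometry
open Variety

namespace Groth.Agent.S14522

/-- Let k be an algebraically closed field, X an irreducible complete variety over k (integral and
proper over k) of dimension at most d, L_1, …, L_r line bundles with tensor inverses M_1, …, M_r, F
a coherent O_X-module with dim Supp F ≤ r + 1, and D an effective Cartier divisor on X (a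
quasi-coherent ideal I_D locally generated by one nonzerodivisor) whose support contains no
associated point of F. Then (L_1⋯L_r·O_X(D); F) = (L_1⋯L_r; F ⊗ O_D): with intersection numbers
written as the alternating Euler-characteristic sums in the inverses (the prelude's FGA.intNum), the
(r+1)-fold number of F in M_1, …, M_r, I_D equals the r-fold number of F ⊗ O_D in M_1, …, M_r (for r
= 0 the right side is χ(F ⊗ O_D) = h^0(F ⊗ O_D)). -/
theorem result (k : Type u) [Field k] [IsAlgClosed k]
    (X : Scheme.{u}) [X.Over (Spec (CommRingCat.of k))] [IsIntegral X] [IsProper (X ↘ (Spec (CommRingCat.of k)))] (d : ℕ) (hd : topologicalKrullDim X ≤ d)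
    {r : ℕ} (M : Fin r → X.Modules) (hM : ∀ i, PicF.IsInvertible (M i))
    (F : X.Modules) (hF : Coh.IsCoh F) (hsupp : topologicalKrullDim ↥(CohB1.support F) ≤ r + 1)
    (D : X.IdealSheafData) (hD : BlowUp.IsEffCartierIdeal D) (hass : ∀ x ∈ D.support, ¬ Curv2.IsAssPoint F x) :
    FGA.intNum k X d (Fin.snoc M (ClSub.idealMod D)) F = FGA.intNum k X d M (CohB1.tensorMod F (ClSub.quotMod D)) := by
  have : IsLocallyNoetherian X := LocallyOfFiniteType.isLocallyNoetherian (X ↘ Spec (CommRingCat.of k))
  have hI : PicF.IsInvertible (ClSub.idealMod D) := Ega1.IdealGen.isInvertible_idealMod D hD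
  have h1 : FGA.intNum k X d (Fin.snoc M (ClSub.idealMod D)) F =
      FGA.intNum k X d M F - FGA.intNum k X d M (CohB1.tensorMod (ClSub.idealMod D) F) := by
    rw [← Fga.PicMon.intNum_cons]
    have h := Fin.snoc_eq_cons_rotate (α := X.Modules) M (ClSub.idealMod D)
    rw [show (Fin.snoc M (ClSub.idealMod D) : Fin (r + 1) → X.Modules) = _ from h]
    exact Fga.PicMon.intNum_perm k X d (Fin.cons (ClSub.idealMod D) M : Fin (r + 1) → X.Modules) (finRotate _) F
  have hex := K430.CartTens.seq_shortExact hF hD hass
  have c1 : Coh.IsCoh (CohB1.tensorMod F (ClSub.idealMod D)) := Fga.TwistCoh.isCoh_tensor hF hI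
  have c2 : Coh.IsCoh (CohB1.tensorMod F (Coh.structureModule X)) :=
    Fga.TwistCoh.isCoh_tensor hF Fdesc.LocGen.isInvertible_structureModule
  have c3 : Coh.IsCoh (CohB1.tensorMod F (ClSub.quotMod D)) := by
    have hQ := VarietyB.DegCartier.isCoh_quotMod D
    have := hF.1
    have := hQ.1
    exact ⟨(S2297.result F (ClSub.quotMod D)).1, (S2297.result F (ClSub.quotMod D)).2 hF.2 hQ.2⟩
  have hadd := Fga.MultFinal.isAdd_intNum k X d hd M hM (K430.CartTens.seq F D) hex c1 c2 c3
  have e2 := Fga.PicMon.intNum_iso k X d M (Ega2.Tens.runit F)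
  have e1 := Fga.PicMon.intNum_iso k X d M (Ega2.Tens.swap (ClSub.idealMod D) F)
  have hadd' : FGA.intNum k X d M (CohB1.tensorMod F (Coh.structureModule X)) =
      FGA.intNum k X d M (CohB1.tensorMod F (ClSub.idealMod D)) +
        FGA.intNum k X d M (CohB1.tensorMod F (ClSub.quotMod D)) := hadd
  rw [h1, e1, ← e2, hadd']
  ring

end Groth.Agent.S14522
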