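import Groth.Statements.S14524
import Groth.Agent.Variety.K430.ExcCan

set_option autoImplicit false
universe u
open CategoryTheory CategoryTheory.Limits AlgebraicGeometry
open Variety

namespace Groth.Agent.S14524

/-- Let k be an algebraically closed field and f : X → Y a proper, birational morphism over k between
smooth irreducible varieties of dimension n (X, Y integral, separated, of finite type and smooth
over k; f restricts to an isomorphism over some nonempty open of Y); let W and W_Y be the canonical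
sheaves (n-th exterior powers of the sheaves of differentials over k) and Exc(f) ⊆ X the exceptional
locus (points x such that f is an isomorphism over no open neighbourhood of f(x)). Then there is a
unique effective Cartier divisor K = K_{X/Y} on X — a quasi-coherent ideal I_K locally generated by
one nonzerodivisor — whose support is contained in Exc(f) and with O_X(K) ≅ W ⊗ f^*W_Y^{-1}, i.e. W
⊗ I_K ≅ f^*W_Y (existence of an isomorphism); moreover its support equals Exc(f). -/
theorem result (k : Type u) [Field k] [IsAlgClosed k]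
    (X Y : Scheme.{u}) [X.Over (Spec (CommRingCat.of k))] [Y.Over (Spec (CommRingCat.of k))]
    [IsIntegral X] [IsSeparated (X ↘ (Spec (CommRingCat.of k)))] [LocallyOfFiniteType (X ↘ (Spec (CommRingCat.of k)))] [QuasiCompact (X ↘ (Spec (CommRingCat.of k)))] [Smooth (X ↘ (Spec (CommRingCat.of k)))]
    [IsIntegral Y] [IsSeparated (Y ↘ (Spec (CommRingCat.of k)))] [LocallyOfFiniteType (Y ↘ (Spec (CommRingCat.of k)))] [QuasiCompact (Y ↘ (Spec (CommRingCat.of k)))] [Smooth (Y ↘ (Spec (CommRingCat.of k)))] (n : ℕ) (hdimX : topologicalKrullDim X = n) (hdimY : topologicalKrullDim Y = n)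
    (f : X ⟶ Y) (hf : f ≫ (Y ↘ (Spec (CommRingCat.of k))) = (X ↘ (Spec (CommRingCat.of k)))) [IsProper f]
    (hbir : ∃ V : Y.Opens, (V : Set Y).Nonempty ∧ IsIso (f ∣_ V))
    (W : X.Modules) (hW : Canon.IsTopDiff (X ↘ (Spec (CommRingCat.of k))) n W) (WY : Y.Modules) (hWY : Canon.IsTopDiff (Y ↘ (Spec (CommRingCat.of k))) n WY) :
    (∃! K : X.IdealSheafData, BlowUp.IsEffCartierIdeal K ∧ (K.support : Set X) ⊆ {x : X | ∀ V : Y.Opens, f x ∈ V → ¬ IsIso (f ∣_ V)} ∧
      Nonempty (CohB1.tensorMod W (ClSub.idealMod K) ≅ (Scheme.Modules.pullback f).obj WY)) ∧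
    ∀ K : X.IdealSheafData, BlowUp.IsEffCartierIdeal K → (K.support : Set X) ⊆ {x : X | ∀ V : Y.Opens, f x ∈ V → ¬ IsIso (f ∣_ V)} →
      Nonempty (CohB1.tensorMod W (ClSub.idealMod K) ≅ (Scheme.Modules.pullback f).obj WY) →
      (K.support : Set X) = {x : X | ∀ V : Y.Opens, f x ∈ V → ¬ IsIso (f ∣_ V)} := by
  have : IsLocallyNoetherian Y := LocallyOfFiniteType.isLocallyNoetherian (Y ↘ Spec (CommRingCat.of k))
  have : CompactSpace Y := (quasiCompact_iff_compactSpace (Y ↘ (Spec (CommRingCat.of k)))).mp inferInstance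
  have : IsNoetherian Y := {}
  obtain ⟨V, hV, hfV⟩ := hbir
  have hufd : ∀ y : Y, UniqueFactorizationMonoid (Y.presheaf.stalk y) := fun y => K430.ExcDim.ufd_of_smooth k y
  have h1 : IsSeparated (f ≫ (Y ↘ (Spec (CommRingCat.of k)))) := by rw [hf]; infer_instance
  have h2 : Smooth (f ≫ (Y ↘ (Spec (CommRingCat.of k)))) := by rw [hf]; infer_instance
  have hW' : ExtPow.IsExtPow n (Omega.sheaf (f ≫ (Y ↘ (Spec (CommRingCat.of k))))) W := by
    rw [hf]
    exact hW
  exact K430.ExcCan.main (Y ↘ (Spec (CommRingCat.of k))) f hufd n hdimX hdimY V hV hfV W hW' WY hWY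

end Groth.Agent.S14524
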