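import Groth.Statements.S14526
import Groth.Agent.RatRes.K162.KPiece
import Groth.Agent.RatRes.K74.Smooth
import Groth.Agent.RatRes.K74.Main

set_option autoImplicit false
universe u
open CategoryTheory CategoryTheory.Limits AlgebraicGeometry
open RatRes

namespace Groth.Agent.S14526

/-- Let k be any field and f : X → Y a proper k-morphism between integral schemes that are separated, of
finite type and smooth over k, which is birational (an isomorphism over some nonempty open of Y).
Then R^p f_* O_X = 0 for every p > 0, and the structure map O_Y → f_* O_X is an isomorphism (higher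
direct images are the right derived functors of f_* on O_X-modules, under the instance argument
recording that O_X-modules have injective resolutions). -/
theorem result (k : Type u) [Field k]
    (X Y : Scheme.{u}) [X.Over (Spec (CommRingCat.of k))] [Y.Over (Spec (CommRingCat.of k))] [IsIntegral X] [IsIntegral Y]
    [IsSeparated (X ↘ Spec (CommRingCat.of k))] [QuasiCompact (X ↘ Spec (CommRingCat.of k))] [LocallyOfFiniteType (X ↘ Spec (CommRingCat.of k))] [Smooth (X ↘ Spec (CommRingCat.of k))]
    [IsSeparated (Y ↘ Spec (CommRingCat.of k))] [QuasiCompact (Y ↘ Spec (CommRingCat.of k))] [LocallyOfFiniteType (Y ↘ Spec (CommRingCat.of k))] [Smooth (Y ↘ Spec (CommRingCat.of k))]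
    (f : X ⟶ Y) (hf : f ≫ (Y ↘ Spec (CommRingCat.of k)) = X ↘ Spec (CommRingCat.of k)) [IsProper f]
    (hbir : ∃ U : Y.Opens, (U : Set Y).Nonempty ∧ IsIso (f ∣_ U))
    [HasInjectiveResolutions X.Modules] :
    (∀ p : ℕ, 0 < p → IsZero ((Coh.Rpush f p).obj (Coh.structureModule X))) ∧
      IsIso (ClSub.unitToPush f) := by
  have hK : K97.Acyclic.Key k := K162.KPiece.key k
  have hm : Groth.Agent.CurvesC.Modif.IsModif f := ⟨inferInstance, inferInstance, hbir⟩
  have hX : ∀ (q : ℕ) (U : X.Opens), IsCompact (U : Set X) → K74.Compare.Inj X q U := fun q U hU => (K74.Smooth.compare_smooth k @hK (X ↘ Spec (CommRingCat.of k)) q U hU).1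
  have hY : ∀ (q : ℕ) (U : Y.Opens), IsCompact (U : Set Y) → K74.Compare.Surj Y q U := fun q U hU => (K74.Smooth.compare_smooth k @hK (Y ↘ Spec (CommRingCat.of k)) q U hU).2
  exact ⟨K74.Main.isZero_Rpush hX hY f hm, K74.Main.isIso_unitToPush
    (Groth.Agent.Sga4B.SmoothNormal.isNormalScheme_of_smooth (Y ↘ Spec (CommRingCat.of k))) f hm⟩

end Groth.Agent.S14526
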