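import Groth.Statements.S14527
import Groth.Agent.RatRes.K383.Rows

set_option autoImplicit false
universe u
open CategoryTheory CategoryTheory.Limits AlgebraicGeometry
open RatRes

namespace Groth.Agent.S14527

/-- Let k be any field, d a natural number, and f : X → Y a proper k-morphism between integral schemes
that are separated, of finite type and smooth of relative dimension d over k, which is birational
(an isomorphism over some nonempty open of Y). Let ω_X and ω_Y be canonical sheaves, i.e. d-th
exterior powers of the sheaves of differentials of X and Y over k. Then R^p f_* ω_X = 0 for every p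
> 0 and f_* ω_X is isomorphic to ω_Y (existence of an isomorphism of O_Y-modules). -/
theorem result (k : Type u) [Field k] (d : ℕ)
    (X Y : Scheme.{u}) [X.Over (Spec (CommRingCat.of k))] [Y.Over (Spec (CommRingCat.of k))] [IsIntegral X] [IsIntegral Y]
    [IsSeparated (X ↘ Spec (CommRingCat.of k))] [QuasiCompact (X ↘ Spec (CommRingCat.of k))] [LocallyOfFiniteType (X ↘ Spec (CommRingCat.of k))] [SmoothOfRelativeDimension d (X ↘ Spec (CommRingCat.of k))]
    [IsSeparated (Y ↘ Spec (CommRingCat.of k))] [QuasiCompact (Y ↘ Spec (CommRingCat.of k))] [LocallyOfFiniteType (Y ↘ Spec (CommRingCat.of k))] [SmoothOfRelativeDimension d (Y ↘ Spec (CommRingCat.of k))]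
    (f : X ⟶ Y) (hf : f ≫ (Y ↘ Spec (CommRingCat.of k)) = X ↘ Spec (CommRingCat.of k)) [IsProper f]
    (hbir : ∃ U : Y.Opens, (U : Set Y).Nonempty ∧ IsIso (f ∣_ U))
    (ωX : X.Modules) (hωX : Canon.IsTopDiff (X ↘ Spec (CommRingCat.of k)) d ωX)
    (ωY : Y.Modules) (hωY : Canon.IsTopDiff (Y ↘ Spec (CommRingCat.of k)) d ωY)
    [HasInjectiveResolutions X.Modules] :
    (∀ p : ℕ, 0 < p → IsZero ((Coh.Rpush f p).obj ωX)) ∧
      Nonempty ((Coh.push f).obj ωX ≅ ωY) := by
  have hsX : Smooth (X ↘ Spec (CommRingCat.of k)) := SmoothOfRelativeDimension.smooth d _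
  have hsY : Smooth (Y ↘ Spec (CommRingCat.of k)) := SmoothOfRelativeDimension.smooth d _
  have hm : Groth.Agent.CurvesC.Modif.IsModif f := ⟨inferInstance, inferInstance, hbir⟩
  have HX := Groth.Agent.RatRes.K383.SmoothKill.hasGood_smooth k (Groth.Agent.RatRes.K383.Rows.key k)
    (X ↘ Spec (CommRingCat.of k))
  have HY := Groth.Agent.RatRes.K383.SmoothKill.hasGood_smooth k (Groth.Agent.RatRes.K383.Rows.key k)
    (Y ↘ Spec (CommRingCat.of k))
  obtain ⟨h1, h2⟩ := Groth.Agent.RatRes.K383.Rows.rpush_O k HX HY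
    (Groth.Agent.Sga4B.SmoothNormal.isNormalScheme_of_smooth (Y ↘ Spec (CommRingCat.of k))) f hm
  exact Groth.Agent.RatRes.K383.SmoothPush.topDiff d f (X ↘ Spec (CommRingCat.of k))
    (Y ↘ Spec (CommRingCat.of k)) hf h1 h2 ωX hωX ωY hωY

end Groth.Agent.S14527
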