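import Groth.Statements.S14528
import Groth.Agent.RatRes.K383.Rows

set_option autoImplicit false
universe u
open CategoryTheory CategoryTheory.Limits AlgebraicGeometry
open RatRes

namespace Groth.Agent.S14528

/-- Let k be a perfect field, S a separated k-scheme of finite type, and f : X → S, g : Y → S
k-morphisms from integral schemes X, Y that are separated, of finite type and smooth of relative
dimension d over k. Suppose X and Y are properly birational over S: there is an integral scheme Z
with proper birational morphisms p : Z → X and q : Z → Y (each an isomorphism over some nonempty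
open of its target) such that p ≫ f = q ≫ g. Let ω_X, ω_Y be d-th exterior powers of the sheaves of
differentials over k. Then for every i the O_S-modules R^i f_* O_X and R^i g_* O_Y are isomorphic,
and R^i f_* ω_X and R^i g_* ω_Y are isomorphic (existence of isomorphisms of O_S-modules only). The
published statement names the isomorphisms induced by the image of Z in X ×_S Y; this row asserts
only that isomorphisms exist. -/
theorem result (k : Type u) [Field k] [PerfectField k] (d : ℕ)
    (S X Y Z : Scheme.{u}) [S.Over (Spec (CommRingCat.of k))] [X.Over (Spec (CommRingCat.of k))] [Y.Over (Spec (CommRingCat.of k))]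
    [IsSeparated (S ↘ Spec (CommRingCat.of k))] [QuasiCompact (S ↘ Spec (CommRingCat.of k))] [LocallyOfFiniteType (S ↘ Spec (CommRingCat.of k))]
    [IsSeparated (X ↘ Spec (CommRingCat.of k))] [QuasiCompact (X ↘ Spec (CommRingCat.of k))] [LocallyOfFiniteType (X ↘ Spec (CommRingCat.of k))] [SmoothOfRelativeDimension d (X ↘ Spec (CommRingCat.of k))]
    [IsSeparated (Y ↘ Spec (CommRingCat.of k))] [QuasiCompact (Y ↘ Spec (CommRingCat.of k))] [LocallyOfFiniteType (Y ↘ Spec (CommRingCat.of k))] [SmoothOfRelativeDimension d (Y ↘ Spec (CommRingCat.of k))]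
    [IsIntegral X] [IsIntegral Y] [IsIntegral Z]
    (f : X ⟶ S) (hf : f ≫ (S ↘ Spec (CommRingCat.of k)) = X ↘ Spec (CommRingCat.of k)) (g : Y ⟶ S) (hg : g ≫ (S ↘ Spec (CommRingCat.of k)) = Y ↘ Spec (CommRingCat.of k))
    (p : Z ⟶ X) [IsProper p] (hp : ∃ U : X.Opens, (U : Set X).Nonempty ∧ IsIso (p ∣_ U))
    (q : Z ⟶ Y) [IsProper q] (hq : ∃ V : Y.Opens, (V : Set Y).Nonempty ∧ IsIso (q ∣_ V))
    (hcomm : p ≫ f = q ≫ g)
    (ωX : X.Modules) (hωX : Canon.IsTopDiff (X ↘ Spec (CommRingCat.of k)) d ωX)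
    (ωY : Y.Modules) (hωY : Canon.IsTopDiff (Y ↘ Spec (CommRingCat.of k)) d ωY)
    [HasInjectiveResolutions X.Modules] [HasInjectiveResolutions Y.Modules] (i : ℕ) :
    Nonempty ((Coh.Rpush f i).obj (Coh.structureModule X) ≅ (Coh.Rpush g i).obj (Coh.structureModule Y)) ∧
      Nonempty ((Coh.Rpush f i).obj ωX ≅ (Coh.Rpush g i).obj ωY) := by
  have hsX : Smooth (X ↘ Spec (CommRingCat.of k)) := SmoothOfRelativeDimension.smooth d _
  have hsY : Smooth (Y ↘ Spec (CommRingCat.of k)) := SmoothOfRelativeDimension.smooth d _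
  have hpm : Groth.Agent.CurvesC.Modif.IsModif p := ⟨inferInstance, inferInstance, hp⟩
  have hqm : Groth.Agent.CurvesC.Modif.IsModif q := ⟨inferInstance, inferInstance, hq⟩
  have HX := Groth.Agent.RatRes.K383.SmoothKill.hasGood_smooth k (Groth.Agent.RatRes.K383.Rows.key k)
    (X ↘ Spec (CommRingCat.of k))
  have HY := Groth.Agent.RatRes.K383.SmoothKill.hasGood_smooth k (Groth.Agent.RatRes.K383.Rows.key k)
    (Y ↘ Spec (CommRingCat.of k))
  have : DCoh.HasRpush f := Groth.Agent.Dcoh.DerSch.hasRpush f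
  have : DCoh.HasRpush g := Groth.Agent.Dcoh.DerSch.hasRpush g
  refine ⟨Groth.Agent.RatRes.K383.Rows.nonempty_rpush_O f g
    (Groth.Agent.RatRes.K383.GoodMod.tower_O HX HY f g p hpm q hqm hcomm) i, ?_⟩
  have wT : p ≫ (X ↘ Spec (CommRingCat.of k)) = q ≫ (Y ↘ Spec (CommRingCat.of k)) := by
    rw [← hf, ← hg, ← Category.assoc, hcomm, Category.assoc]
  obtain ⟨DX, hDX⟩ := Groth.Agent.RatRes.K383.DC.exists_isDC (X ↘ Spec (CommRingCat.of k))
  obtain ⟨DY, hDY⟩ := Groth.Agent.RatRes.K383.DC.exists_isDC (Y ↘ Spec (CommRingCat.of k))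
  exact Groth.Agent.RatRes.K383.Rows.nonempty_rpush_D f g
    (Groth.Agent.RatRes.K383.GoodMod.tower_D HX HY f g (X ↘ Spec (CommRingCat.of k))
      (Y ↘ Spec (CommRingCat.of k)) p hpm q hqm hcomm wT hDX hDY) d
    (Groth.Agent.RatRes.K383.Rows.nonempty_smooth d _ hDX ωX hωX)
    (Groth.Agent.RatRes.K383.Rows.nonempty_smooth d _ hDY ωY hωY) i

end Groth.Agent.S14528
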