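import Groth.Statements.S14529
import Groth.Agent.RatRes.K97.OPart

set_option autoImplicit false
universe u
open CategoryTheory CategoryTheory.Limits AlgebraicGeometry
open RatRes

namespace Groth.Agent.S14529

/-- Let k be any field. Let X', Y and X be separated k-schemes of finite type with X' and Y smooth over
k and integral (for a smooth k-scheme this is the same as connected), Y of relative dimension d, and
X integral and normal. Let f : X' → X be a finite surjective k-morphism whose degree [k(X') : k(X)]
(the residue degree of f at the generic point of X') is invertible in k, and let π : Y → X be a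
proper birational k-morphism (an isomorphism over some nonempty open of X). Let ω_Y be a d-th
exterior power of the sheaf of differentials of Y over k. Then all local rings of X are
Cohen–Macaulay, R^p π_* O_Y = 0 and R^p π_* ω_Y = 0 for every p > 0, and the structure map O_X → π_*
O_Y is an isomorphism. The identification of π_* ω_Y with the dualizing sheaf of X is a separate
statement. -/
theorem result (k : Type u) [Field k] (d : ℕ)
    (X' Y X : Scheme.{u}) [X'.Over (Spec (CommRingCat.of k))] [Y.Over (Spec (CommRingCat.of k))] [X.Over (Spec (CommRingCat.of k))]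
    [IsSeparated (X' ↘ Spec (CommRingCat.of k))] [QuasiCompact (X' ↘ Spec (CommRingCat.of k))] [LocallyOfFiniteType (X' ↘ Spec (CommRingCat.of k))] [Smooth (X' ↘ Spec (CommRingCat.of k))] [IsIntegral X']
    [IsSeparated (Y ↘ Spec (CommRingCat.of k))] [QuasiCompact (Y ↘ Spec (CommRingCat.of k))] [LocallyOfFiniteType (Y ↘ Spec (CommRingCat.of k))] [SmoothOfRelativeDimension d (Y ↘ Spec (CommRingCat.of k))] [IsIntegral Y]
    [IsSeparated (X ↘ Spec (CommRingCat.of k))] [QuasiCompact (X ↘ Spec (CommRingCat.of k))] [LocallyOfFiniteType (X ↘ Spec (CommRingCat.of k))] [IsIntegral X] (hXn : Pi1.IsNormalScheme X)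
    (f : X' ⟶ X) (hf : f ≫ (X ↘ Spec (CommRingCat.of k)) = X' ↘ Spec (CommRingCat.of k)) [IsFinite f] [Surjective f]
    (hdeg : ((f.residueDegree (genericPoint X') : ℕ) : k) ≠ 0)
    (π : Y ⟶ X) (hπ : π ≫ (X ↘ Spec (CommRingCat.of k)) = Y ↘ Spec (CommRingCat.of k)) [IsProper π]
    (hbir : ∃ U : X.Opens, (U : Set X).Nonempty ∧ IsIso (π ∣_ U))
    (ωY : Y.Modules) (hωY : Canon.IsTopDiff (Y ↘ Spec (CommRingCat.of k)) d ωY)
    [HasInjectiveResolutions Y.Modules] :
    (∀ x : X, LocCoh.IsCohenMacaulayLocalRing (X.presheaf.stalk x)) ∧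
      (∀ p : ℕ, 0 < p → IsZero ((Coh.Rpush π p).obj (Coh.structureModule Y))) ∧
      IsIso (ClSub.unitToPush π) ∧
      (∀ p : ℕ, 0 < p → IsZero ((Coh.Rpush π p).obj ωY)) := by
  exact K97.Rows.row29 k (K97.OPart.opart k) d X' Y X hXn f hf hdeg π hπ hbir ωY hωY

end Groth.Agent.S14529
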