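import Groth.Statements.S14530
import Groth.Agent.RatRes.K97.OPart

set_option autoImplicit false
universe u
open CategoryTheory CategoryTheory.Limits AlgebraicGeometry
attribute [local instance] HasDerivedCategory.standard
open RatRes

namespace Groth.Agent.S14530

/-- Let k be any field. Let X', Y and X be separated k-schemes of finite type with X moreover proper
over k, X' and Y smooth over k and integral, Y of relative dimension d, and X integral and normal.
Let f : X' → X be a finite surjective k-morphism whose degree [k(X') : k(X)] is invertible in k, and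
π : Y → X a proper birational k-morphism (an isomorphism over some nonempty open of X). Let ω_Y be a
d-th exterior power of the sheaf of differentials of Y over k. Write a : X → Spec k for the
structure morphism and a^! for the right adjoint of Ra_* on complexes with quasi-coherent cohomology
(its existence carried as hypotheses), O for the structure sheaf of Spec k placed in degree 0. Then
the cohomology sheaves of a^!(O) vanish in every degree other than -d (so the dualizing complex of X
is a sheaf ω_X placed in degree -d), and π_* ω_Y is isomorphic to ω_X = H^{-d}(a^!(O)) (existence of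
an isomorphism of O_X-modules). (The published statement allows X separated of finite type over k,
the dualizing sheaf being taken from the twisted inverse image of k; this row takes X proper over k,
where that functor is the right adjoint of Ra_*.) -/
theorem result (k : Type u) [Field k] (d : ℕ)
    (X' Y X : Scheme.{u}) [X'.Over (Spec (CommRingCat.of k))] [Y.Over (Spec (CommRingCat.of k))] [X.Over (Spec (CommRingCat.of k))]
    [IsSeparated (X' ↘ Spec (CommRingCat.of k))] [QuasiCompact (X' ↘ Spec (CommRingCat.of k))] [LocallyOfFiniteType (X' ↘ Spec (CommRingCat.of k))] [Smooth (X' ↘ Spec (CommRingCat.of k))] [IsIntegral X']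
    [IsSeparated (Y ↘ Spec (CommRingCat.of k))] [QuasiCompact (Y ↘ Spec (CommRingCat.of k))] [LocallyOfFiniteType (Y ↘ Spec (CommRingCat.of k))] [SmoothOfRelativeDimension d (Y ↘ Spec (CommRingCat.of k))] [IsIntegral Y]
    [IsProper (X ↘ Spec (CommRingCat.of k))] [IsIntegral X] (hXn : Pi1.IsNormalScheme X)
    (f : X' ⟶ X) (hf : f ≫ (X ↘ Spec (CommRingCat.of k)) = X' ↘ Spec (CommRingCat.of k)) [IsFinite f] [Surjective f]
    (hdeg : ((f.residueDegree (genericPoint X') : ℕ) : k) ≠ 0)
    (π : Y ⟶ X) (hπ : π ≫ (X ↘ Spec (CommRingCat.of k)) = Y ↘ Spec (CommRingCat.of k)) [IsProper π]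
    (hbir : ∃ U : X.Opens, (U : Set X).Nonempty ∧ IsIso (π ∣_ U))
    (ωY : Y.Modules) (hωY : Canon.IsTopDiff (Y ↘ Spec (CommRingCat.of k)) d ωY)
    [DCoh.HasRpush (X ↘ Spec (CommRingCat.of k))] (h : DCoh.RpushPreservesQCoh (X ↘ Spec (CommRingCat.of k))) [DCoh.HasShriek (X ↘ Spec (CommRingCat.of k)) h]
    (Ok : DCoh.DQCoh (Spec (CommRingCat.of k))) (hOk : Nonempty (Ok.obj ≅ DCoh.inD (Spec (CommRingCat.of k)) (Coh.structureModule (Spec (CommRingCat.of k))))) :
    (∀ n : ℤ, n ≠ -(d : ℤ) → IsZero (DCoh.HD (DCoh.dualizingCx (X ↘ Spec (CommRingCat.of k)) h Ok) n)) ∧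
      Nonempty ((Coh.push π).obj ωY ≅ DCoh.dualizingMod (X ↘ Spec (CommRingCat.of k)) h Ok d) := by
  exact K97.Rows.row30 k (K97.OPart.opart k) d X' Y X hXn f hf hdeg π hπ hbir ωY hωY h Ok hOk

end Groth.Agent.S14530
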