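import Groth.Statements.S14531
import Groth.Agent.RatRes.K97.OPart

set_option autoImplicit false
universe u
open CategoryTheory CategoryTheory.Limits AlgebraicGeometry
open RatRes

namespace Groth.Agent.S14531

/-- Let k be a perfect field and X, Y separated k-schemes of finite type such that each of X and Y is a
tame quotient (integral and normal, and the target of a finite surjective morphism from an integral
scheme smooth over k whose degree, the residue degree at the generic point, is invertible in k). Let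
π : X → Y be a proper birational k-morphism (an isomorphism over some nonempty open of Y). Then R^p
π_* O_X = 0 for every p > 0 and the structure map O_Y → π_* O_X is an isomorphism. -/
theorem result (k : Type u) [Field k] [PerfectField k]
    (X Y : Scheme.{u}) [X.Over (Spec (CommRingCat.of k))] [Y.Over (Spec (CommRingCat.of k))]
    [IsSeparated (X ↘ Spec (CommRingCat.of k))] [QuasiCompact (X ↘ Spec (CommRingCat.of k))] [LocallyOfFiniteType (X ↘ Spec (CommRingCat.of k))] [IsIntegral X] (hXn : Pi1.IsNormalScheme X)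
    (hXt : ∃ (X' : Scheme.{u}) (_ : IsIntegral X') (f' : X' ⟶ X), Smooth (f' ≫ (X ↘ Spec (CommRingCat.of k))) ∧ IsFinite f' ∧ Surjective f' ∧ ((f'.residueDegree (genericPoint X') : ℕ) : k) ≠ 0)
    [IsSeparated (Y ↘ Spec (CommRingCat.of k))] [QuasiCompact (Y ↘ Spec (CommRingCat.of k))] [LocallyOfFiniteType (Y ↘ Spec (CommRingCat.of k))] [IsIntegral Y] (hYn : Pi1.IsNormalScheme Y)
    (hYt : ∃ (Y' : Scheme.{u}) (_ : IsIntegral Y') (g' : Y' ⟶ Y), Smooth (g' ≫ (Y ↘ Spec (CommRingCat.of k))) ∧ IsFinite g' ∧ Surjective g' ∧ ((g'.residueDegree (genericPoint Y') : ℕ) : k) ≠ 0)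
    (π : X ⟶ Y) (hπ : π ≫ (Y ↘ Spec (CommRingCat.of k)) = X ↘ Spec (CommRingCat.of k)) [IsProper π]
    (hbir : ∃ U : Y.Opens, (U : Set Y).Nonempty ∧ IsIso (π ∣_ U))
    [HasInjectiveResolutions X.Modules] :
    (∀ p : ℕ, 0 < p → IsZero ((Coh.Rpush π p).obj (Coh.structureModule X))) ∧
      IsIso (ClSub.unitToPush π) :=
  K97.OPart.opart k X Y (X ↘ Spec (CommRingCat.of k)) (Y ↘ Spec (CommRingCat.of k)) hXn hYn hXt hYt π hπ hbir

end Groth.Agent.S14531
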