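import Groth.Statements.S14532
import Groth.Agent.RatRes.K162.KPiece
import Groth.Agent.RatRes.K383.TameKill
import Groth.Agent.RatRes.K383.GoodMod

set_option autoImplicit false
universe u
open CategoryTheory CategoryTheory.Limits AlgebraicGeometry
open RatRes

attribute [local instance] HasDerivedCategory.standard

namespace Groth.Agent.S14532

/-- Let k be a perfect field, S a separated k-scheme of finite type, and f : X → S, g : Y → S
k-morphisms from separated k-schemes of finite type X and Y such that each of X and Y is a tame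
quotient (integral and normal, and the target of a finite surjective morphism from an integral
scheme smooth over k whose degree, the residue degree at the generic point, is invertible in k).
Suppose X and Y are properly birational over S: there is an integral scheme Z with proper birational
morphisms p : Z → X and q : Z → Y (each an isomorphism over some nonempty open of its target) with p
≫ f = q ≫ g. Then for every i the O_S-modules R^i f_* O_X and R^i g_* O_Y are isomorphic (existence
of an isomorphism only). The published statement names the isomorphism induced by Z and shows that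
it depends only on the induced isomorphism of function fields; this row asserts only that an
isomorphism exists. The companion assertion for the dualizing sheaves is not part of this row. -/
theorem result (k : Type u) [Field k] [PerfectField k]
    (S X Y Z : Scheme.{u}) [S.Over (Spec (CommRingCat.of k))] [X.Over (Spec (CommRingCat.of k))] [Y.Over (Spec (CommRingCat.of k))]
    [IsSeparated (S ↘ Spec (CommRingCat.of k))] [QuasiCompact (S ↘ Spec (CommRingCat.of k))] [LocallyOfFiniteType (S ↘ Spec (CommRingCat.of k))]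
    [IsSeparated (X ↘ Spec (CommRingCat.of k))] [QuasiCompact (X ↘ Spec (CommRingCat.of k))] [LocallyOfFiniteType (X ↘ Spec (CommRingCat.of k))] [IsIntegral X] (hXn : Pi1.IsNormalScheme X)
    (hXt : ∃ (X' : Scheme.{u}) (_ : IsIntegral X') (f' : X' ⟶ X), Smooth (f' ≫ (X ↘ Spec (CommRingCat.of k))) ∧ IsFinite f' ∧ Surjective f' ∧ ((f'.residueDegree (genericPoint X') : ℕ) : k) ≠ 0)
    [IsSeparated (Y ↘ Spec (CommRingCat.of k))] [QuasiCompact (Y ↘ Spec (CommRingCat.of k))] [LocallyOfFiniteType (Y ↘ Spec (CommRingCat.of k))] [IsIntegral Y] (hYn : Pi1.IsNormalScheme Y)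
    (hYt : ∃ (Y' : Scheme.{u}) (_ : IsIntegral Y') (g' : Y' ⟶ Y), Smooth (g' ≫ (Y ↘ Spec (CommRingCat.of k))) ∧ IsFinite g' ∧ Surjective g' ∧ ((g'.residueDegree (genericPoint Y') : ℕ) : k) ≠ 0)
    [IsIntegral Z]
    (f : X ⟶ S) (hf : f ≫ (S ↘ Spec (CommRingCat.of k)) = X ↘ Spec (CommRingCat.of k)) (g : Y ⟶ S) (hg : g ≫ (S ↘ Spec (CommRingCat.of k)) = Y ↘ Spec (CommRingCat.of k))
    (p : Z ⟶ X) [IsProper p] (hp : ∃ U : X.Opens, (U : Set X).Nonempty ∧ IsIso (p ∣_ U))
    (q : Z ⟶ Y) [IsProper q] (hq : ∃ V : Y.Opens, (V : Set Y).Nonempty ∧ IsIso (q ∣_ V))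
    (hcomm : p ≫ f = q ≫ g)
    [HasInjectiveResolutions X.Modules] [HasInjectiveResolutions Y.Modules] (i : ℕ) :
    Nonempty ((Coh.Rpush f i).obj (Coh.structureModule X) ≅ (Coh.Rpush g i).obj (Coh.structureModule Y)) := by
  have hK : K97.Acyclic.Key k := K162.KPiece.key k
  obtain ⟨X', hX', f', hXs, hXf, hXsu, hXd⟩ := hXt
  obtain ⟨Y', hY', g', hYs, hYf, hYsu, hYd⟩ := hYt
  have HX : Groth.Agent.RatRes.K383.GoodMod.HasGood X :=
    Groth.Agent.RatRes.K383.TameKill.hasGood_tame k @hK (X ↘ Spec (CommRingCat.of k)) hXn f' hXd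
  have HY : Groth.Agent.RatRes.K383.GoodMod.HasGood Y :=
    Groth.Agent.RatRes.K383.TameKill.hasGood_tame k @hK (Y ↘ Spec (CommRingCat.of k)) hYn g' hYd
  have hRf : DCoh.HasRpush f := Groth.Agent.Dcoh.DerSch.hasRpush f
  have hRg : DCoh.HasRpush g := Groth.Agent.Dcoh.DerSch.hasRpush g
  obtain ⟨e⟩ := Groth.Agent.RatRes.K383.GoodMod.tower_O HX HY f g p ⟨inferInstance, inferInstance, hp⟩ q
    ⟨inferInstance, inferInstance, hq⟩ hcomm
  have e' : (DCoh.Rpush f).obj (DCoh.inD X (Coh.structureModule X)) ≅
      (DCoh.Rpush g).obj (DCoh.inD Y (Coh.structureModule Y)) :=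
    (DCoh.Rpush f).mapIso (Groth.Agent.Dual.H360.ProjAff.inDIso (Coh.structureModule X)) ≪≫ e ≪≫
      (DCoh.Rpush g).mapIso (Groth.Agent.Dual.H360.ProjAff.inDIso (Coh.structureModule Y)).symm
  exact ⟨(Groth.Agent.PerfC.RpushSingle.iso f i (Coh.structureModule X)).symm ≪≫
    (DerivedCategory.homologyFunctor S.Modules (i : ℤ)).mapIso e' ≪≫
    Groth.Agent.PerfC.RpushSingle.iso g i (Coh.structureModule Y)⟩

end Groth.Agent.S14532
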