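import Groth.Statements.S14533
import Groth.Agent.RatRes.K97.OPart

set_option autoImplicit false
universe u
open CategoryTheory CategoryTheory.Limits AlgebraicGeometry
attribute [local instance] HasDerivedCategory.standard
open RatRes

namespace Groth.Agent.S14533

/-- Let k be a perfect field, d a natural number, and X, Y proper k-schemes of dimension d such that
each of X and Y is a tame quotient (integral and normal, and the target of a finite surjective
morphism from an integral scheme smooth over k whose degree, the residue degree at the generic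
point, is invertible in k). Let π : X → Y be a birational k-morphism (an isomorphism over some
nonempty open of Y). Write a_X, a_Y for the structure morphisms to Spec k, a_X^!, a_Y^! for the
right adjoints of Ra_X,*, Ra_Y,* on complexes with quasi-coherent cohomology (existence carried as
hypotheses), O for the structure sheaf of Spec k in degree 0, and ω_X = H^{-d}(a_X^! O), ω_Y =
H^{-d}(a_Y^! O) for the dualizing sheaves. Then R^p π_* ω_X = 0 for every p > 0 and π_* ω_X is
isomorphic to ω_Y (existence of an isomorphism of O_Y-modules). (The published statement allows X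
and Y separated of finite type over k, with dualizing sheaves taken from the twisted inverse image
of k; this row takes them proper over k, where that functor is the right adjoint of the derived
direct image.) -/
theorem result (k : Type u) [Field k] [PerfectField k] (d : ℕ)
    (X Y : Scheme.{u}) [X.Over (Spec (CommRingCat.of k))] [Y.Over (Spec (CommRingCat.of k))]
    [IsProper (X ↘ Spec (CommRingCat.of k))] [IsIntegral X] (hXn : Pi1.IsNormalScheme X) (hdX : topologicalKrullDim X = d)
    (hXt : ∃ (X' : Scheme.{u}) (_ : IsIntegral X') (f' : X' ⟶ X), Smooth (f' ≫ (X ↘ Spec (CommRingCat.of k))) ∧ IsFinite f' ∧ Surjective f' ∧ ((f'.residueDegree (genericPoint X') : ℕ) : k) ≠ 0)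
    [IsProper (Y ↘ Spec (CommRingCat.of k))] [IsIntegral Y] (hYn : Pi1.IsNormalScheme Y) (hdY : topologicalKrullDim Y = d)
    (hYt : ∃ (Y' : Scheme.{u}) (_ : IsIntegral Y') (g' : Y' ⟶ Y), Smooth (g' ≫ (Y ↘ Spec (CommRingCat.of k))) ∧ IsFinite g' ∧ Surjective g' ∧ ((g'.residueDegree (genericPoint Y') : ℕ) : k) ≠ 0)
    (π : X ⟶ Y) (hπ : π ≫ (Y ↘ Spec (CommRingCat.of k)) = X ↘ Spec (CommRingCat.of k))
    (hbir : ∃ U : Y.Opens, (U : Set Y).Nonempty ∧ IsIso (π ∣_ U))
    [DCoh.HasRpush (X ↘ Spec (CommRingCat.of k))] (hX : DCoh.RpushPreservesQCoh (X ↘ Spec (CommRingCat.of k))) [DCoh.HasShriek (X ↘ Spec (CommRingCat.of k)) hX]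
    [DCoh.HasRpush (Y ↘ Spec (CommRingCat.of k))] (hY : DCoh.RpushPreservesQCoh (Y ↘ Spec (CommRingCat.of k))) [DCoh.HasShriek (Y ↘ Spec (CommRingCat.of k)) hY]
    (Ok : DCoh.DQCoh (Spec (CommRingCat.of k))) (hOk : Nonempty (Ok.obj ≅ DCoh.inD (Spec (CommRingCat.of k)) (Coh.structureModule (Spec (CommRingCat.of k)))))
    [HasInjectiveResolutions X.Modules] :
    (∀ p : ℕ, 0 < p → IsZero ((Coh.Rpush π p).obj (DCoh.dualizingMod (X ↘ Spec (CommRingCat.of k)) hX Ok d))) ∧
      Nonempty ((Coh.push π).obj (DCoh.dualizingMod (X ↘ Spec (CommRingCat.of k)) hX Ok d) ≅ DCoh.dualizingMod (Y ↘ Spec (CommRingCat.of k)) hY Ok d) := by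
  exact K97.Rows.row33 k (K97.OPart.opart k) d X Y hXn hdX hXt hYn hdY hYt π hπ hbir hX hY Ok hOk

end Groth.Agent.S14533
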