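import Groth.Statements.S14534
import Groth.Agent.RatRes.K383.Rows34

set_option autoImplicit false
universe u
open CategoryTheory CategoryTheory.Limits AlgebraicGeometry
attribute [local instance] HasDerivedCategory.standard
open RatRes

namespace Groth.Agent.S14534

/-- Let k be a perfect field, d a natural number, S a separated k-scheme of finite type, and f : X → S,
g : Y → S k-morphisms from proper k-schemes X and Y of dimension d such that each of X and Y is a
tame quotient (integral and normal, and the target of a finite surjective morphism from an integral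
scheme smooth over k whose degree, the residue degree at the generic point, is invertible in k).
Suppose X and Y are properly birational over S: there is an integral scheme Z with proper birational
morphisms p : Z → X and q : Z → Y (each an isomorphism over some nonempty open of its target) with p
≫ f = q ≫ g. Write a_X^!, a_Y^! for the right adjoints of the derived direct images of the structure
morphisms to Spec k on complexes with quasi-coherent cohomology (existence carried as hypotheses), O
for the structure sheaf of Spec k in degree 0, and ω_X = H^{-d}(a_X^! O), ω_Y = H^{-d}(a_Y^! O) for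
the dualizing sheaves. Then for every i the O_S-modules R^i f_* ω_X and R^i g_* ω_Y are isomorphic
(existence of an isomorphism). (The published statement allows X and Y separated of finite type over
k, with dualizing sheaves taken from the twisted inverse image of k; this row takes them proper over
k, where that functor is the right adjoint of the derived direct image.) -/
theorem result (k : Type u) [Field k] [PerfectField k] (d : ℕ)
    (S X Y Z : Scheme.{u}) [S.Over (Spec (CommRingCat.of k))] [X.Over (Spec (CommRingCat.of k))] [Y.Over (Spec (CommRingCat.of k))]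
    [IsSeparated (S ↘ Spec (CommRingCat.of k))] [QuasiCompact (S ↘ Spec (CommRingCat.of k))] [LocallyOfFiniteType (S ↘ Spec (CommRingCat.of k))]
    [IsProper (X ↘ Spec (CommRingCat.of k))] [IsIntegral X] (hXn : Pi1.IsNormalScheme X) (hdX : topologicalKrullDim X = d)
    (hXt : ∃ (X' : Scheme.{u}) (_ : IsIntegral X') (f' : X' ⟶ X), Smooth (f' ≫ (X ↘ Spec (CommRingCat.of k))) ∧ IsFinite f' ∧ Surjective f' ∧ ((f'.residueDegree (genericPoint X') : ℕ) : k) ≠ 0)
    [IsProper (Y ↘ Spec (CommRingCat.of k))] [IsIntegral Y] (hYn : Pi1.IsNormalScheme Y) (hdY : topologicalKrullDim Y = d)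
    (hYt : ∃ (Y' : Scheme.{u}) (_ : IsIntegral Y') (g' : Y' ⟶ Y), Smooth (g' ≫ (Y ↘ Spec (CommRingCat.of k))) ∧ IsFinite g' ∧ Surjective g' ∧ ((g'.residueDegree (genericPoint Y') : ℕ) : k) ≠ 0)
    [IsIntegral Z]
    (f : X ⟶ S) (hf : f ≫ (S ↘ Spec (CommRingCat.of k)) = X ↘ Spec (CommRingCat.of k)) (g : Y ⟶ S) (hg : g ≫ (S ↘ Spec (CommRingCat.of k)) = Y ↘ Spec (CommRingCat.of k))
    (p : Z ⟶ X) [IsProper p] (hp : ∃ U : X.Opens, (U : Set X).Nonempty ∧ IsIso (p ∣_ U))
    (q : Z ⟶ Y) [IsProper q] (hq : ∃ V : Y.Opens, (V : Set Y).Nonempty ∧ IsIso (q ∣_ V))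
    (hcomm : p ≫ f = q ≫ g)
    [DCoh.HasRpush (X ↘ Spec (CommRingCat.of k))] (hX : DCoh.RpushPreservesQCoh (X ↘ Spec (CommRingCat.of k))) [DCoh.HasShriek (X ↘ Spec (CommRingCat.of k)) hX]
    [DCoh.HasRpush (Y ↘ Spec (CommRingCat.of k))] (hY : DCoh.RpushPreservesQCoh (Y ↘ Spec (CommRingCat.of k))) [DCoh.HasShriek (Y ↘ Spec (CommRingCat.of k)) hY]
    (Ok : DCoh.DQCoh (Spec (CommRingCat.of k))) (hOk : Nonempty (Ok.obj ≅ DCoh.inD (Spec (CommRingCat.of k)) (Coh.structureModule (Spec (CommRingCat.of k)))))
    [HasInjectiveResolutions X.Modules] [HasInjectiveResolutions Y.Modules] (i : ℕ) :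
    Nonempty ((Coh.Rpush f i).obj (DCoh.dualizingMod (X ↘ Spec (CommRingCat.of k)) hX Ok d) ≅
      (Coh.Rpush g i).obj (DCoh.dualizingMod (Y ↘ Spec (CommRingCat.of k)) hY Ok d)) := by
  have hpm : Groth.Agent.CurvesC.Modif.IsModif p := ⟨inferInstance, inferInstance, hp⟩
  have hqm : Groth.Agent.CurvesC.Modif.IsModif q := ⟨inferInstance, inferInstance, hq⟩
  have HX := Groth.Agent.RatRes.K383.Rows.hasGood_of_tame k (X ↘ Spec (CommRingCat.of k)) hXn hXt
  have HY := Groth.Agent.RatRes.K383.Rows.hasGood_of_tame k (Y ↘ Spec (CommRingCat.of k)) hYn hYt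
  have : DCoh.HasRpush f := Groth.Agent.Dcoh.DerSch.hasRpush f
  have : DCoh.HasRpush g := Groth.Agent.Dcoh.DerSch.hasRpush g
  have wT : p ≫ (X ↘ Spec (CommRingCat.of k)) = q ≫ (Y ↘ Spec (CommRingCat.of k)) := by
    rw [← hf, ← hg, ← Category.assoc, hcomm, Category.assoc]
  have hDX := Groth.Agent.RatRes.K383.Rows.isDC_dualizingCx (X ↘ Spec (CommRingCat.of k)) hX Ok hOk
  have hDY := Groth.Agent.RatRes.K383.Rows.isDC_dualizingCx (Y ↘ Spec (CommRingCat.of k)) hY Ok hOk
  exact Groth.Agent.RatRes.K383.Rows.nonempty_rpush_D f g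
    (Groth.Agent.RatRes.K383.GoodMod.tower_D HX HY f g (X ↘ Spec (CommRingCat.of k))
      (Y ↘ Spec (CommRingCat.of k)) p hpm q hqm hcomm wT hDX hDY) d
    (Groth.Agent.RatRes.K383.Rows34.nonempty_tame d _ hXn hXt hdX hX Ok hOk)
    (Groth.Agent.RatRes.K383.Rows34.nonempty_tame d _ hYn hYt hdY hY Ok hOk) i

end Groth.Agent.S14534
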