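import Groth.Statements.S14537
import Groth.Agent.PrincBund.K826.PtSurj
import Groth.Agent.Books.AffBridge

set_option autoImplicit false
universe u
open CategoryTheory MonoidalCategory CartesianMonoidalCategory MonObj GrpObj AlgebraicGeometry
open PrincBund

namespace Groth.Agent.S14537

/-- Let k be an algebraically closed field and G an affine group scheme over k, not necessarily of
finite type. Then the set of k-rational points of G is dense in the underlying space of G. -/
theorem result (k : Type u) [Field k] [IsAlgClosed k]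
    (G : Over (Spec (CommRingCat.of k))) [GrpObj G] [IsAffine G.left] :
    Dense {x : ↥G.left | ∃ g : 𝟙_ (Over (Spec (CommRingCat.of k))) ⟶ G, g.left.base (IsLocalRing.closedPoint k) = x} := by
  obtain ⟨B, _, _, e, _⟩ := Groth.Agent.Books.AffBridge.exists_hopf k G
  rw [dense_iff_inter_open]
  intro U hU hUne
  obtain ⟨x, hx⟩ := hUne
  let V : Set ↥(Spec (CommRingCat.of B)) := e.inv.left ⁻¹' U
  have hV : IsOpen V := hU.preimage e.inv.left.continuous
  have hxV : e.hom.left x ∈ V := by
    change e.inv.left (e.hom.left x) ∈ U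
    have h1 : (e.hom.left ≫ e.inv.left) = 𝟙 _ := by
      rw [← Over.comp_left, Iso.hom_inv_id]
      rfl
    rw [← Scheme.Hom.comp_apply, h1]
    exact hx
  obtain ⟨_, ⟨b, rfl⟩, hb, hbV⟩ :=
    PrimeSpectrum.isTopologicalBasis_basic_opens.exists_subset_of_mem_open hxV hV
  have hnil : ¬ IsNilpotent b := by
    rintro ⟨n, hn⟩
    apply hb
    refine Ideal.IsPrime.mem_of_pow_mem (PrimeSpectrum.isPrime _) n ?_
    rw [hn]
    exact Ideal.zero_mem _
  obtain ⟨g, hg⟩ := K826.PtSurj.exists_point_basicOpen (k := k) b hnil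
  refine ⟨(K826.PtSurj.ptOf g ≫ e.inv).left (IsLocalRing.closedPoint k), ?_, K826.PtSurj.ptOf g ≫ e.inv, rfl⟩
  rw [Over.comp_left, Scheme.Hom.comp_apply]
  apply hbV
  rw [K826.PtSurj.ptOf_left]
  change b ∉ ((PrimeSpectrum.comap g.toRingHom (IsLocalRing.closedPoint k)).asIdeal)
  rw [PrimeSpectrum.comap_asIdeal, Ideal.mem_comap]
  intro h2
  exact h2 (isUnit_iff_ne_zero.2 hg)

end Groth.Agent.S14537
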