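import Groth.Statements.S14538
import Groth.Agent.PrincBund.K826.FgDense
import Groth.Agent.PrincBund.K826.CharZeroPts
import Groth.Agent.Books.AffBridge
import Groth.Agent.PrincBund.K826.PtSurj
import Groth.Agent.Books.AffBridge2
import Groth.Agent.Sga3B.RG.BrPts

set_option autoImplicit false
universe u
open CategoryTheory MonoidalCategory CartesianMonoidalCategory MonObj GrpObj AlgebraicGeometry
open PrincBund

namespace Groth.Agent.S14538

/-- Let k be an algebraically closed field of characteristic 0 and G an affine group scheme of finite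
type over k. Then the group G(k) of k-rational points has a finitely generated subgroup whose points
are dense in the underlying space of G. -/
theorem result (k : Type u) [Field k] [IsAlgClosed k] [CharZero k]
    (G : Over (Spec (CommRingCat.of k))) [GrpObj G] [IsAffine G.left] [LocallyOfFiniteType G.hom] :
    ∃ Φ : Subgroup (𝟙_ (Over (Spec (CommRingCat.of k))) ⟶ G), Φ.FG ∧
      Dense {x : ↥G.left | ∃ g ∈ Φ, g.left.base (IsLocalRing.closedPoint k) = x} := by
  obtain ⟨B, _, _, e, he⟩ := Groth.Agent.Books.AffBridge.exists_hopf k G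
  have hft : Algebra.FiniteType k B := by
    rw [← Groth.Agent.Books.AffBridge2.locallyOfFiniteType_specOver_iff]
    have h1 : (Groth.Agent.Books.AffBridge.SpecOver k B).hom = e.inv.left ≫ G.hom := (Over.w e.inv).symm
    rw [h1]
    infer_instance
  have hred : _root_.IsReduced B := K826.CharZeroPts.isReduced_hopf k B
  have hei : IsMonHom e.inv := inferInstance
  obtain ⟨Φ, hΦ, hv⟩ := K826.FgDense.exists_fg_dense (K := k) (A := B)
  let ψ : Groth.Agent.Sga3B.RG.Pt k B →* (𝟙_ (Over (Spec (CommRingCat.of k))) ⟶ G) :=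
    { toFun := fun g => Groth.Agent.Sga3B.RG.BrPts.ptEquiv k B g ≫ e.inv
      map_one' := by rw [map_one, MonObj.one_comp]
      map_mul' := fun g h => by rw [map_mul, MonObj.mul_comp] }
  refine ⟨Φ.map ψ, ?_, ?_⟩
  · obtain ⟨S, hS, hSfin⟩ := (Subgroup.fg_iff _).1 hΦ
    refine (Subgroup.fg_iff _).2 ⟨ψ '' S, ?_, hSfin.image ψ⟩
    rw [← hS, MonoidHom.map_closure]
  rw [dense_iff_inter_open]
  intro U hU hUne
  obtain ⟨x, hx⟩ := hUne
  let V : Set ↥(Spec (CommRingCat.of B)) := e.inv.left ⁻¹' U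
  have hV : IsOpen V := hU.preimage e.inv.left.continuous
  have hxV : e.hom.left x ∈ V := by
    change e.inv.left (e.hom.left x) ∈ U
    have h1 : (e.hom.left ≫ e.inv.left) = 𝟙 _ := by
      rw [← Over.comp_left, Iso.hom_inv_id]
      rfl
    rw [← Scheme.Hom.comp_apply, h1]
    exact hx
  obtain ⟨_, ⟨b, rfl⟩, hb, hbV⟩ :=
    PrimeSpectrum.isTopologicalBasis_basic_opens.exists_subset_of_mem_open hxV hV
  have hb0 : b ≠ 0 := by
    rintro rfl
    exact hb (Ideal.zero_mem _)
  obtain ⟨g, hgΦ, hg⟩ : ∃ g ∈ Φ, g b ≠ 0 := by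
    by_contra hcon
    push Not at hcon
    have h2 : b ∈ Groth.Agent.Sga3B.RG.vanIdeal (Φ : Set (Groth.Agent.Sga3B.RG.Pt k B)) := hcon
    rw [hv] at h2
    exact hb0 h2
  refine ⟨(ψ g).left (IsLocalRing.closedPoint k), ?_, ψ g, ⟨g, hgΦ, rfl⟩, rfl⟩
  change (Groth.Agent.Sga3B.RG.BrPts.ptEquiv k B g ≫ e.inv).left (IsLocalRing.closedPoint k) ∈ U
  have hpt : Groth.Agent.Sga3B.RG.BrPts.ptEquiv k B g = K826.PtSurj.ptOf g.ofConv := by
    rw [Groth.Agent.Sga3B.RG.BrPts.ptEquiv_apply, K826.PtSurj.ptOf]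
    congr 1
    rw [← cancel_mono (K826.PtSurj.unitIso k).inv]
    exact toUnit_unique _ _
  rw [hpt, Over.comp_left, Scheme.Hom.comp_apply]
  apply hbV
  rw [K826.PtSurj.ptOf_left]
  change b ∉ ((PrimeSpectrum.comap g.ofConv.toRingHom (IsLocalRing.closedPoint k)).asIdeal)
  rw [PrimeSpectrum.comap_asIdeal, Ideal.mem_comap]
  intro h2
  exact h2 (isUnit_iff_ne_zero.2 hg)

end Groth.Agent.S14538
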