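import Groth.Statements.S14539
import Groth.Agent.PrincBund.K826.CharZeroPts

set_option autoImplicit false
universe u v w
open TensorProduct
open PrincBund

namespace Groth.Agent.S14539

/-- Let k be an algebraically closed field of characteristic 0, A a commutative Hopf algebra over k (the
coordinate ring of an affine group scheme G over k, not necessarily of finite type) and V a right
A-comodule, of any dimension. If a k-subspace W of V is mapped into itself by the action of every
k-rational point of G (every k-algebra homomorphism A → k, acting on V through the coaction), then W
is a subcomodule of V. -/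
theorem result (k : Type u) (A : Type v) [Field k] [IsAlgClosed k]
    [CharZero k] [CommRing A] [HopfAlgebra k A]
    (V : Type w) [AddCommGroup V] [Module k V] [HopfRep.Comod k A V] (W : Submodule k V)
    (hW : ∀ g : A →ₐ[k] k, W.map (HopfRep.Comod.act k A V g) ≤ W) :
    HopfRep.IsSubcomod (k := k) (A := A) W := by
  intro w hw
  have h1 : W.mkQ.rTensor A (HopfRep.Comod.coact (k := k) (A := A) w) = 0 := by
    refine K826.CharZeroPts.eq_zero_of_points _ fun g => ?_
    have h2 : W.mkQ (HopfRep.Comod.act k A V g w) = 0 := by
      rw [Submodule.mkQ_apply, Submodule.Quotient.mk_eq_zero]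
      exact hW g ⟨w, hw, rfl⟩
    rw [← h2, HopfRep.Comod.act, LinearMap.comp_apply, LinearMap.comp_apply]
    generalize (HopfRep.Comod.coact (k := k) (A := A) w) = z
    induction z with
    | zero => simp
    | add x y hx hy => simp only [map_add, hx, hy]
    | tmul m a => simp
  exact (rTensor_exact A (f := W.subtype) (g := W.mkQ) (LinearMap.exact_subtype_mkQ W)
    (Submodule.mkQ_surjective W) _).1 h1

end Groth.Agent.S14539
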