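import Groth.Statements.S14542
import Groth.Agent.PrincBund.K206.RadQuot
import Groth.Agent.PrincBund.K206.Semi

set_option autoImplicit false
universe u
open CategoryTheory MonoidalCategory CartesianMonoidalCategory MonObj GrpObj AlgebraicGeometry
open PrincBund
open Groth.Agent.Books.AffBridge Groth.Agent.Books.AffBridge2

namespace Groth.Agent.S14542

/-- Let k be a field of characteristic 0, G an affine group scheme of finite type over k, not assumed
connected, and u : U → G its unipotent radical. Then G has a Levi subgroup: there is a closed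
subgroup scheme L of G such that the multiplication morphism L × U → G, (x, v) ↦ x v, is an
isomorphism of k-schemes, so that G is the semidirect product of L and U. (The published statement
is for affine group schemes over k not necessarily of finite type; this row is the finite-type
case.) -/
theorem result (k : Type u) [Field k] [CharZero k]
    (G : Over (Spec (CommRingCat.of k))) [GrpObj G] [IsAffine G.left] [LocallyOfFiniteType G.hom]
    (U : Over (Spec (CommRingCat.of k))) [GrpObj U] (u : U ⟶ G) (hU : Par.IsUnipotentRadical u) :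
    ∃ (L : Over (Spec (CommRingCat.of k))) (_ : GrpObj L) (l : L ⟶ G), IsMonHom l ∧ IsClosedImmersion l.left ∧
      IsIso ((l ⊗ₘ u) ≫ μ[G]) := by
  obtain ⟨A, _, _, B, _, _, e, φ, he, hft, hφ, hUn, hB, hk⟩ := K206.RadQuot.exists_data k G U u hU
  have hu := hU.1
  have hcl : IsClosedImmersion u.left := hU.2.1
  have hmono : Mono u := Groth.Agent.Books.AlgPtsGrp.mono_of_isClosedImmersion u
  obtain ⟨α, hα, h1⟩ := K191.Reductive.exists_isInt hB
  obtain ⟨r, hr⟩ := K206.Split.exists_retraction_of_int hφ hUn hα h1
  have hm1 : IsMonHom (specMap k (φ : B →ₐ[k] A)) := isMonHom_specMap k φ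
  have hm2 : IsMonHom (specMap k (r : A →ₐ[k] B)) := isMonHom_specMap k r
  have hl : (specMap k (r : A →ₐ[k] B) ≫ e.inv) ≫ (e.hom ≫ specMap k (φ : B →ₐ[k] A)) =
      𝟙 (SpecOver k B) := by
    rw [Category.assoc, Iso.inv_hom_id_assoc, ← specMap_comp]
    have h2 : (r : A →ₐ[k] B).comp (φ : B →ₐ[k] A) = AlgHom.id k B := by
      ext b
      exact DFunLike.congr_fun hr b
    rw [h2, specMap_id]
  have hrs : Function.Surjective r := fun b => ⟨φ b, DFunLike.congr_fun hr b⟩
  refine ⟨SpecOver k B, inferInstance, specMap k (r : A →ₐ[k] B) ≫ e.inv, inferInstance, ?_,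
    K206.Semi.isIso_mul_of_section u (e.hom ≫ specMap k (φ : B →ₐ[k] A)) hk _ hl⟩
  rw [Over.comp_left]
  have h3 : IsClosedImmersion (specMap k (r : A →ₐ[k] B)).left :=
    IsClosedImmersion.spec_of_surjective (CommRingCat.ofHom (r : A →+* B)) hrs
  infer_instance

end Groth.Agent.S14542
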