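import Groth.Statements.S14544
import Groth.Agent.PrincBund.K826.LinRedOf
import Groth.Agent.PrincBund.K826.URad

set_option autoImplicit false
universe u
open CategoryTheory MonoidalCategory CartesianMonoidalCategory MonObj GrpObj AlgebraicGeometry
open PrincBund

namespace Groth.Agent.S14544

/-- Let k be a field of characteristic 0, G an affine group scheme of finite type over k with unipotent
radical u : U → G, G' a reductive k-group and f₁, f₂ : G' → G homomorphisms whose composites with G
→ G/U coincide, i.e. for every point x of G' with values in a k-scheme, f₂(x) f₁(x)⁻¹ lies in U.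
Then there is a k-rational point v of U with f₂ = v f₁ v⁻¹. (The published statement is for
transitive affine groupoids, and for reductive groups in the wider sense, not necessarily connected
or of finite type; this row is the case of a connected reductive G' and G of finite type.) -/
theorem result (k : Type u) [Field k] [CharZero k]
    (G : Over (Spec (CommRingCat.of k))) [GrpObj G] [IsAffine G.left] [LocallyOfFiniteType G.hom]
    (U : Over (Spec (CommRingCat.of k))) [GrpObj U] (u : U ⟶ G) (hU : Par.IsUnipotentRadical u)
    (G' : Over (Spec (CommRingCat.of k))) [GrpObj G'] (hG' : Red.IsReductive G')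
    (f₁ f₂ : G' ⟶ G) [IsMonHom f₁] [IsMonHom f₂]
    (hagree : ∀ (T : Over (Spec (CommRingCat.of k))) (x : T ⟶ G'), ∃ w : T ⟶ U, x ≫ f₂ = (w ≫ u) * (x ≫ f₁)) :
    ∃ v : 𝟙_ (Over (Spec (CommRingCat.of k))) ⟶ U, f₂ = AGF.conjBy (v ≫ u) f₁ := by
  obtain ⟨A, _, _, eG, heG, hA⟩ := K826.LinRedOf.exists_linRed hG'
  obtain ⟨haff, H₀, _, _, eU, heU, -, hH₀⟩ := K826.URad.exists_hopf_unip u hU
  have hum : IsMonHom u := hU.1
  have hcl : IsClosedImmersion u.left := hU.2.1
  have hmono : Mono u := by
    have : Mono u.left := inferInstance
    exact Over.mono_of_mono_left u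
  exact K826.URad.exists_conj hA eG hH₀ eU u hU.2.2.1 f₁ f₂ hagree

end Groth.Agent.S14544
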