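import Groth.Statements.S14547
import Groth.Agent.PrincBund.K826.BcTors

set_option autoImplicit false
universe u
open CategoryTheory MonoidalCategory CartesianMonoidalCategory MonObj GrpObj AlgebraicGeometry
open PrincBund

namespace Groth.Agent.S14547

/-- Let f : X' → X be a faithfully flat quasi-compact morphism of schemes, J a group scheme affine over
X with an action a on an X-scheme P, and a' the induced action of the base change J' = J ×_X X' on
P' = P ×_X X'. Then P with a is a J-torsor for the fpqc topology if and only if P' with a' is a
J'-torsor for the fpqc topology. (The published statement allows any morphism X' → X that is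
covering for the fpqc topology, and an action of a pregroupoid; this row is the case of a faithfully
flat quasi-compact X' → X and the trivial pregroupoid.) -/
theorem result {X X' : Scheme.{u}} (f : X' ⟶ X)
    [Flat f] [Surjective f] [QuasiCompact f]
    {J P : Over X} [GrpObj J] [IsAffineHom J.hom] (a : AlgGrp.Action J P)
    (a' : AlgGrp.Action (Red.bc f J) (Red.bc f P))
    (ha' : Functor.LaxMonoidal.μ (Over.pullback f) J P ≫ (Over.pullback f).map a.act = a'.act) :
    NonAbH1.IsTorsorFor Scheme.fpqcPrecoverage a ↔ NonAbH1.IsTorsorFor Scheme.fpqcPrecoverage a' := by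
  have hf : Presieve.singleton f ∈ Scheme.fpqcPrecoverage X := f.singleton_mem_fpqcPrecoverage
  constructor
  · rintro ⟨h1, h2⟩
    refine ⟨?_, K826.BcTors.isLocallyTrivialFor_bc f h2⟩
    rw [K826.BcTors.isPseudoTorsorSch_bc_iff f a a' ha']
    have : IsIso (lift a.act (snd J P)) := h1
    infer_instance
  · rintro ⟨h1, h2⟩
    refine ⟨?_, K826.BcTors.isLocallyTrivialFor_of_bc f hf h2⟩
    rw [K826.BcTors.isPseudoTorsorSch_bc_iff f a a' ha'] at h1
    exact K826.BcTors.isIso_of_isIso_map f (lift a.act (snd J P))

end Groth.Agent.S14547
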