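import Groth.Statements.S18877
import Groth.Agent.S1339
import Groth.Agent.S4761
import Groth.Agent.Flat2D.GeomFib

set_option autoImplicit false
universe u
open Lim

namespace Groth.Agent.S18877

theorem card_le_one_iff {X : Type*} [TopologicalSpace X] :
    ENat.card (ConnectedComponents X) ≤ 1 ↔ PreconnectedSpace X := by
  rw [ENat.card_le_one_iff_subsingleton]
  constructor
  · intro h
    rw [preconnectedSpace_iff_connectedComponent]
    intro x
    rw [Set.eq_univ_iff_forall]
    intro y
    have h1 : (ConnectedComponents.mk x) = ConnectedComponents.mk y := Subsingleton.elim _ _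
    rw [ConnectedComponents.coe_eq_coe] at h1
    rw [h1]
    exact mem_connectedComponent
  · intro h
    infer_instance

open CategoryTheory AlgebraicGeometry in
/-- Let S = lim S_i be a cofiltered limit of Noetherian schemes with affine transition morphisms, let X₀
→ S_{i₀} be a scheme of finite type over one stage and X → S its base change to the limit. If all
geometric fibres of X → S are connected, then for some stage S_i → S_{i₀} all geometric fibres of
the base change X₀ ×_{S_{i₀}} S_i → S_i are connected. (Connected is read so as to allow the empty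
fibre: the underlying space of each geometric fibre is preconnected; the geometric fibre of X₀
×_{S_{i₀}} S_i over Spec Ω → S_i is written as the pullback of X₀ → S_{i₀} along Spec Ω → S_i →
S_{i₀}.) -/
theorem result {I : Type u} [SmallCategory I] [IsCofiltered I]
    (D : I ⥤ Scheme.{u}) (c : Limits.Cone D) (hc : Limits.IsLimit c)
    [∀ (i j : I) (a : i ⟶ j), IsAffineHom (D.map a)] [∀ i : I, AlgebraicGeometry.IsNoetherian (D.obj i)]
    (i₀ : I) {X₀ : Scheme.{u}} (f₀ : X₀ ⟶ D.obj i₀) [QuasiCompact f₀] [LocallyOfFiniteType f₀]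
    {X : Scheme.{u}} (f : X ⟶ c.pt) (q : X ⟶ X₀) (hX : IsPullback q f f₀ (c.π.app i₀))
    (hconn : ∀ (Ω : Type u) [Field Ω] [IsAlgClosed Ω] (t : Spec (CommRingCat.of Ω) ⟶ c.pt),
      PreconnectedSpace ↥(Limits.pullback f t)) :
    ∃ (i : I) (a : i ⟶ i₀), ∀ (Ω : Type u) [Field Ω] [IsAlgClosed Ω] (t : Spec (CommRingCat.of Ω) ⟶ D.obj i),
      PreconnectedSpace ↥(Limits.pullback f₀ (t ≫ D.map a)) := by
  have : LocallyOfFinitePresentation f₀ := inferInstance
  have hX₀ : IsLocallyNoetherian X₀ := LocallyOfFiniteType.isLocallyNoetherian f₀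
  have : QuasiSeparated f₀ := inferInstance
  let Z : Set (D.obj i₀) := {y | ¬ MoreMor.nGeomConnComp f₀ y ≤ 1}
  have hZ : Topology.IsConstructible Z := by
    have h0 := Groth.Agent.S1339.result f₀ 0
    have h1 := Groth.Agent.S1339.result f₀ 1
    have h2 : Z = ({y | MoreMor.nGeomConnComp f₀ y = 0} ∪ {y | MoreMor.nGeomConnComp f₀ y = 1})ᶜ := by
      ext y
      simp only [Z, Set.mem_ofPred_eq, Set.mem_compl_iff, Set.mem_union]
      rw [Order.le_one_iff]
    rw [h2]
    exact (h0.isConstructible.union h1.isConstructible).compl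
  have hemp : (⇑(c.π.app i₀) ⁻¹' Z : Set c.pt) = ∅ := by
    rw [Set.eq_empty_iff_forall_notMem]
    intro s hs
    refine hs ?_
    let Ω := AlgebraicClosure (c.pt.residueField s)
    let t : Spec (CommRingCat.of Ω) ⟶ c.pt :=
      Spec.map (CommRingCat.ofHom (algebraMap (c.pt.residueField s) Ω)) ≫ c.pt.fromSpecResidueField s
    have h1 := hconn Ω t
    have h2 : IsPullback (Limits.pullback.fst f t ≫ q) (Limits.pullback.snd f t) f₀ (t ≫ c.π.app i₀) :=
      (IsPullback.of_hasPullback f t).paste_horiz hX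
    have h3 := card_le_one_iff.2 h1
    rw [Groth.Agent.Flat2D.GeomFib.nGeomConnComp_eq f₀ _ _ _ h2] at h3
    have h4 : (t ≫ c.π.app i₀) (IsLocalRing.closedPoint Ω) = c.π.app i₀ s := by
      rw [Scheme.Hom.comp_apply]
      congr 1
      simp only [t, Scheme.Hom.comp_apply]
      exact Scheme.fromSpecResidueField_apply _ _
    rw [h4] at h3
    exact h3
  obtain ⟨j, φ, hj⟩ := (Groth.Agent.S4761.result D c hc i₀ Z hZ).1 (by rw [hemp]; exact isOpen_empty)
  obtain ⟨k, ψ, hk⟩ := exists_map_preimage_le_map_preimage D c hc (i := j) (U := ⟨_, hj⟩) (V := ⊥)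
    (TopologicalSpace.NoetherianSpace.isCompact _) (by
      intro s hs
      have : s ∈ (⇑(c.π.app i₀) ⁻¹' Z : Set c.pt) := by
        rw [← c.w φ]
        exact hs
      rw [hemp] at this
      exact this.elim)
  refine ⟨k, ψ ≫ φ, ?_⟩
  intro Ω _ _ t
  refine card_le_one_iff.1 ?_
  rw [Groth.Agent.Flat2D.GeomFib.nGeomConnComp_eq f₀ _ _ _
    (IsPullback.of_hasPullback f₀ (t ≫ D.map (ψ ≫ φ)))]
  by_contra hcon
  have h1 : D.map ψ (t (IsLocalRing.closedPoint Ω)) ∈ (⟨_, hj⟩ : (D.obj j).Opens) := by
    change D.map φ _ ∈ Z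
    rw [Scheme.Hom.comp_apply, D.map_comp, Scheme.Hom.comp_apply] at hcon
    exact hcon
  exact hk h1

end Groth.Agent.S18877
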