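import Groth.Statements.S14551
import Groth.Agent.TateGlob.K827.AsmMain

set_option autoImplicit false
universe u
open TateGlob

namespace Groth.Agent.S14551

open CategoryTheory AlgebraicGeometry in
/-- Let K be a global function field with finite constant field Fq, S a finite nonempty set of places of
K, O_S the ring of S-integers and 𝒢 a flat, separated commutative O_S-group scheme of finite type
(an O_S-model of its generic fibre). Assume moreover the following property of the rings ∏_{v ∉ S'}
O_v, S' any finite set of places: every quasi-compact surjective etale morphism of schemes onto Spec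
∏_{v ∉ S'} O_v is refined by a finite etale surjective one (finite etale covers are cofinal among
etale covers). (The published statement does not carry this hypothesis; its proof takes this
cofinality from the literature, and this row states it as an assumption.) Then for all but finitely
many places v ∉ S the restriction map H^1(O_v, 𝒢) → H^1(K_v, 𝒢) on the cohomology of the sheaf of
points of 𝒢 (big fppf site of Spec O_S, restricted to Spec O_v and to Spec K_v) is injective. (The
published statement covers all global fields; this row is the function-field case.) -/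
theorem result (Fq : Type u) [Field Fq] [Finite Fq] (K : Type u) [Field K] [Algebra (RatFunc Fq) K] [FunctionField Fq K]
    [Algebra Fq K] [IsScalarTower Fq (RatFunc Fq) K]
    (hcof : ∀ (S' : Set (FunFld.Place Fq K)), S'.Finite → ∀ (U : Scheme.{u})
      (f : U ⟶ Spec (CommRingCat.of (AdFn.OHat S'))), Etale f → Surjective f → QuasiCompact f →
      ∃ (E : Scheme.{u}) (g : E ⟶ Spec (CommRingCat.of (AdFn.OHat S'))) (s : E ⟶ U),
        IsFinite g ∧ Etale g ∧ Surjective g ∧ s ≫ f = g)
    (S : Set (FunFld.Place Fq K)) (hS : S.Finite) (hne : S.Nonempty)
    (𝒢 : Over (Spec (CommRingCat.of (AdFn.SInt S)))) [GrpObj 𝒢] [IsCommMonObj 𝒢]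
    [Flat 𝒢.hom] [IsSeparated 𝒢.hom] [LocallyOfFiniteType 𝒢.hom] [QuasiCompact 𝒢.hom] :
    ∀ᶠ v in Filter.cofinite, ∀ hv : v ∉ S, Function.Injective (AdFn.intRes Scheme.fppfPrecoverage S (CGrpSh.pts Scheme.fppfPrecoverage 𝒢) 1 hv) :=
  K827.Asm.eventually_inj1 Fq K S hS hne 𝒢

end Groth.Agent.S14551
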