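import Groth.Statements.S14552
import Groth.Agent.TateGlob.K223.OvRes

set_option autoImplicit false
universe u
open TateGlob

namespace Groth.Agent.S14552

open CategoryTheory AlgebraicGeometry in
/-- Let K be a global function field with finite constant field Fq, S a finite nonempty set of places of
K, O_S the ring of S-integers and 𝒢 a flat, separated commutative O_S-group scheme of finite type
whose generic fibre 𝒢_K is affine (an O_S-model of an affine commutative K-group of finite type).
Then for all but finitely many places v ∉ S the restriction map H^1(O_v, 𝒢^) → H^1(K_v, 𝒢^) is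
injective, where 𝒢^ is the dual sheaf of 𝒢 (internal Hom from the sheaf of points of 𝒢 into the
multiplicative group on the big fppf site of Spec O_S) restricted to Spec O_v and to Spec K_v. (The
published statement covers all global fields; this row is the function-field case.) -/
theorem result (Fq : Type u) [Field Fq] [Finite Fq] (K : Type u) [Field K] [Algebra (RatFunc Fq) K] [FunctionField Fq K]
    [Algebra Fq K] [IsScalarTower Fq (RatFunc Fq) K]
    (S : Set (FunFld.Place Fq K)) (hS : S.Finite) (hne : S.Nonempty)
    (𝒢 : Over (Spec (CommRingCat.of (AdFn.SInt S)))) [GrpObj 𝒢] [IsCommMonObj 𝒢]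
    [Flat 𝒢.hom] [IsSeparated 𝒢.hom] [LocallyOfFiniteType 𝒢.hom] [QuasiCompact 𝒢.hom]
    (haff : IsAffine ↑(Limits.pullback 𝒢.hom (Spec.map (CommRingCat.ofHom (AdFn.SInt.toK S))))) :
    ∀ᶠ v in Filter.cofinite, ∀ hv : v ∉ S, Function.Injective (AdFn.intRes Scheme.fppfPrecoverage S (CGrpSh2.dualSh Scheme.fppfPrecoverage (CGrpSh.pts Scheme.fppfPrecoverage 𝒢)) 1 hv) := by
  have h := K223.OvRes.isAffineHom Fq K S hS hne 𝒢 haff
  exact Filter.Eventually.of_forall fun v hv => K223.OvRes.intRes_one_injective S 𝒢 hv

end Groth.Agent.S14552
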