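import Groth.Statements.S14553
import Groth.Agent.TateGlob.K223.TwoVan

set_option autoImplicit false
universe u
open TateGlob

namespace Groth.Agent.S14553

open CategoryTheory AlgebraicGeometry in
/-- Let K be a global function field with finite constant field Fq, S a finite nonempty set of places of
K, O_S the ring of S-integers and 𝒢 a flat, separated commutative O_S-group scheme of finite type
whose generic fibre is affine. Assume moreover the following property of the rings ∏_{v ∉ S'} O_v,
S' any finite set of places: every quasi-compact surjective etale morphism of schemes onto Spec ∏_{v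
∉ S'} O_v is refined by a finite etale surjective one (finite etale covers are cofinal among etale
covers). (The published statement does not carry this hypothesis; its proof takes this cofinality
from the literature, and this row states it as an assumption.) Then for all but finitely many places
v ∉ S: H^2(O_v, 𝒢) = 0 (cohomology of the sheaf of points of 𝒢 on the big fppf site, restricted to
Spec O_v), and the restriction map from the sections over Spec O_v of the dual sheaf 𝒢^ (internal
Hom from the sheaf of points of 𝒢 into the multiplicative group) to its sections over Spec K_v, i.e.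
from the characters of 𝒢 defined over O_v to those defined over K_v, is bijective; both maps are the
degree-2 and degree-0 restriction maps along Spec K_v → Spec O_v. (The published statement adds, as
consequences, that H^2(O_v, 𝒢) → H^2(K_v, 𝒢) and H^0(O_v, 𝒢^) → H^0(K_v, 𝒢^) are injective and that
H^2(O_v, 𝒢) is the exact annihilator of H^0(O_v, 𝒢^) under the local duality pairing; this row
states the vanishing and the bijectivity.) -/
theorem result (Fq : Type u) [Field Fq] [Finite Fq] (K : Type u) [Field K] [Algebra (RatFunc Fq) K] [FunctionField Fq K]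
    [Algebra Fq K] [IsScalarTower Fq (RatFunc Fq) K]
    (hcof : ∀ (S' : Set (FunFld.Place Fq K)), S'.Finite → ∀ (U : Scheme.{u})
      (f : U ⟶ Spec (CommRingCat.of (AdFn.OHat S'))), Etale f → Surjective f → QuasiCompact f →
      ∃ (E : Scheme.{u}) (g : E ⟶ Spec (CommRingCat.of (AdFn.OHat S'))) (s : E ⟶ U),
        IsFinite g ∧ Etale g ∧ Surjective g ∧ s ≫ f = g)
    (S : Set (FunFld.Place Fq K)) (hS : S.Finite) (hne : S.Nonempty)
    (𝒢 : Over (Spec (CommRingCat.of (AdFn.SInt S)))) [GrpObj 𝒢] [IsCommMonObj 𝒢]
    [Flat 𝒢.hom] [IsSeparated 𝒢.hom] [LocallyOfFiniteType 𝒢.hom] [QuasiCompact 𝒢.hom]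
    (haff : IsAffine ↑(Limits.pullback 𝒢.hom (Spec.map (CommRingCat.ofHom (AdFn.SInt.toK S))))) :
    ∀ᶠ v in Filter.cofinite, ∀ hv : v ∉ S, Subsingleton (AdFn.HInt Scheme.fppfPrecoverage S (CGrpSh.pts Scheme.fppfPrecoverage 𝒢) 2 hv) ∧
      Function.Bijective (AdFn.intRes Scheme.fppfPrecoverage S (CGrpSh2.dualSh Scheme.fppfPrecoverage (CGrpSh.pts Scheme.fppfPrecoverage 𝒢)) 0 hv) := by
  have i0 : IsDedekindDomain (AdFn.SInt S) := (K829.SIntBase.isDedekind (K829.FunBase.isGen Fq K) hS hne).1
  have i1 : AlgebraicGeometry.IsLocallyNoetherian (Spec (CommRingCat.of (AdFn.SInt S))) := by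
    have : IsNoetherianRing (CommRingCat.of (AdFn.SInt S)) := inferInstanceAs (IsNoetherianRing (AdFn.SInt S))
    infer_instance
  have i2 : LocallyOfFinitePresentation 𝒢.hom := inferInstance
  have i3 : IsAffineHom 𝒢.hom := K223.OvRes.isAffineHom Fq K S hS hne 𝒢 haff
  obtain ⟨T, hT, h⟩ := K223.TwoVan.exists_finite Fq K hS hne 𝒢
  filter_upwards [hT.compl_mem_cofinite] with v hv hvS
  exact ⟨h v hv hvS 2 (by norm_num), K223.OvRes.intRes_zero_bijective S 𝒢 hvS⟩

end Groth.Agent.S14553
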