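import Groth.Statements.S14554
import Groth.Agent.TateGlob.K829.EtTors2
import Groth.Agent.TateGlob.K829.OvHens

set_option autoImplicit false
universe u
open TateGlob

namespace Groth.Agent.S14554

open CategoryTheory AlgebraicGeometry in
open scoped Groth.Agent.Etcore.EtInst in
open Groth.Agent.Etcore.EtInst in
/-- A torsion class with rational coefficients vanishes. -/
theorem eq_zero_of_torsion (X : Scheme.{u}) (n N : ℕ) (hN : 0 < N) (x : HH X (EtCoh.const X ℚ) n) (hx : N • x = 0) :
    x = 0 := by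
  let g : ULift.{u + 1} ℚ →+ ULift.{u + 1} ℚ := AddEquiv.ulift.symm.toAddMonoidHom.comp
      ((AddMonoidHom.mulLeft ((N : ℚ)⁻¹)).comp AddEquiv.ulift.toAddMonoidHom)
  have hg : ∀ a, N • g a = a := by
    intro a
    apply ULift.ext
    change N • ((N : ℚ)⁻¹ * a.down) = a.down
    rw [nsmul_eq_mul, mul_inv_cancel_left₀]
    exact_mod_cast hN.ne'
  let E : (ULift.{u + 1} ℚ →+ ULift.{u + 1} ℚ) →+ HH X (EtCoh.const X ℚ) n := AddMonoidHom.mk'
    (fun ψ => x.comp (Abelian.Ext.mk₀ ((constantSheaf X.smallEtaleTopology AddCommGrpCat.{u + 1}).map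
      (AddCommGrpCat.ofHom ψ))) (add_zero n)) (fun a b => by
        have h1 : AddCommGrpCat.ofHom (a + b) = AddCommGrpCat.ofHom a + AddCommGrpCat.ofHom b := rfl
        rw [h1, Functor.map_add, Abelian.Ext.mk₀_add, Abelian.Ext.comp_add])
  have hE1 : E (AddMonoidHom.id _) = x := by
    change x.comp (Abelian.Ext.mk₀ ((constantSheaf X.smallEtaleTopology AddCommGrpCat.{u + 1}).map
      (𝟙 _))) (add_zero n) = x
    rw [CategoryTheory.Functor.map_id]
    exact Abelian.Ext.comp_mk₀_id x
  have h2 : N • g = AddMonoidHom.id _ := AddMonoidHom.ext hg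
  have h3 : N • E g = x := by
    rw [← map_nsmul, h2, hE1]
  have h4 : N • E g = (N • x).comp (Abelian.Ext.mk₀ ((constantSheaf X.smallEtaleTopology AddCommGrpCat.{u + 1}).map
      (AddCommGrpCat.ofHom g))) (add_zero n) := by
    let L : HH X (EtCoh.const X ℚ) n →+ HH X (EtCoh.const X ℚ) n := AddMonoidHom.mk'
      (fun y => y.comp (Abelian.Ext.mk₀ ((constantSheaf X.smallEtaleTopology AddCommGrpCat.{u + 1}).map
      (AddCommGrpCat.ofHom g))) (add_zero n)) (fun a b => Abelian.Ext.add_comp _ _ _ _)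
    exact (map_nsmul L N x).symm
  rw [← h3, h4, hx]
  exact Abelian.Ext.zero_comp (EtCoh.const X ℤ) n (Abelian.Ext.mk₀ ((constantSheaf X.smallEtaleTopology
    AddCommGrpCat.{u + 1}).map (AddCommGrpCat.ofHom g))) n (add_zero n)

open CategoryTheory AlgebraicGeometry in
/-- Let K be a global function field with finite constant field Fq and S a set of places of K; write Ô_S
= ∏_{v ∉ S} O_v for the product of the complete valuation rings O_v of the completions K_v, v ∉ S.
Then the cohomology H^i(Spec Ô_S, ℚ) of the constant sheaf ℚ on the small etale site of Spec Ô_S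
vanishes for every i > 0. -/
theorem result (Fq : Type u) [Field Fq] [Finite Fq] (K : Type u) [Field K] [Algebra (RatFunc Fq) K] [FunctionField Fq K]
    [Algebra Fq K] [IsScalarTower Fq (RatFunc Fq) K]
    (S : Set (FunFld.Place Fq K)) (i : ℕ) (hi : 0 < i) :
    Subsingleton (EtCoh.H (Spec (CommRingCat.of (AdFn.OHat S))) (EtCoh.const (Spec (CommRingCat.of (AdFn.OHat S))) ℚ) i) := by
  obtain ⟨q, rfl⟩ : ∃ q, i = q + 1 := ⟨i - 1, by omega⟩
  have hA : ∀ w : {v : FunFld.Place Fq K // v ∉ S}, HenselianLocalRing (AdFn.Ov w.1) := fun w =>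
    K829.OvHens.henselian w.1
  refine subsingleton_of_forall_eq 0 fun x => ?_
  obtain ⟨N, hN, h⟩ := K829.EtTors.torsion (fun w : {v : FunFld.Place Fq K // v ∉ S} => AdFn.Ov w.1)
    (EtCoh.const (Spec (CommRingCat.of (AdFn.OHat S))) ℚ) q x
  exact eq_zero_of_torsion _ (q + 1) N hN x h

end Groth.Agent.S14554
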