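import Groth.Statements.S14555
import Groth.Agent.TateGlob.K827.ProdTor
import Groth.Agent.TateGlob.K828.BigCoh

set_option autoImplicit false
universe u
open TateGlob

namespace Groth.Agent.S14555

open CategoryTheory AlgebraicGeometry in
/-- Let K be a global function field with finite constant field Fq, S a finite nonempty set of places of
K, O_S the ring of S-integers and 𝒢 a finite locally free (finite and flat) commutative group scheme
over Spec O_S. Write Ô_S = ∏_{v ∉ S} O_v. Then the map H^1(Ô_S, 𝒢) → ∏_{v ∉ S} H^1(O_v, 𝒢), whose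
components are the restriction maps along the projections Ô_S → O_v, is bijective; here the
cohomology is that of the sheaf of points of 𝒢 on the big fppf site of Spec O_S restricted to Spec
Ô_S and to Spec O_v. (The published statement asserts, for any commutative group of finite type over
a global field, the existence of some model with this property; this row is the case its proof
settles first, a finite locally free group over O_S, for which every such model works.) -/
theorem result (Fq : Type u) [Field Fq] [Finite Fq] (K : Type u) [Field K] [Algebra (RatFunc Fq) K] [FunctionField Fq K]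
    [Algebra Fq K] [IsScalarTower Fq (RatFunc Fq) K]
    (S : Set (FunFld.Place Fq K)) (hS : S.Finite) (hne : S.Nonempty)
    (𝒢 : Over (Spec (CommRingCat.of (AdFn.SInt S)))) [GrpObj 𝒢] [IsCommMonObj 𝒢] [IsFinite 𝒢.hom] [Flat 𝒢.hom] :
    Function.Bijective (fun (x : AdFn.HOHat Scheme.fppfPrecoverage S (CGrpSh.pts Scheme.fppfPrecoverage 𝒢) 1) (v : {v : FunFld.Place Fq K // v ∉ S}) =>
      AdFn.ohatRes Scheme.fppfPrecoverage S (CGrpSh.pts Scheme.fppfPrecoverage 𝒢) 1 v.2 x) := by
  obtain ⟨n, hn⟩ := K827.ProdTor.finrank_le_of_isDomain (O := AdFn.SInt S) 𝒢.hom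
  constructor
  · intro x y hxy
    exact K827.ProdTor.eq_of_res (O := AdFn.SInt S) (I := {v : FunFld.Place Fq K // v ∉ S})
      (fun v => AdFn.Ov v.1) (fun v => AdFn.SInt.toOv S v.2)
      (K828.BigCoh.bigCoh Scheme.fppfPrecoverage (Spec (CommRingCat.of (AdFn.SInt S)))) x y (fun v => congrFun hxy v)
  · intro y
    obtain ⟨x, hx⟩ := K827.ProdTor.exists_of_res (O := AdFn.SInt S) (I := {v : FunFld.Place Fq K // v ∉ S})
      (fun v => AdFn.Ov v.1) (fun v => AdFn.SInt.toOv S v.2)
      (K828.BigCoh.bigCoh Scheme.fppfPrecoverage (Spec (CommRingCat.of (AdFn.SInt S)))) n hn y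
    exact ⟨x, funext hx⟩

end Groth.Agent.S14555
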