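import Groth.Statements.S14556
import Groth.Agent.TateGlob.K827.PtsH0
import Groth.Agent.TateGlob.K827.PtsRP

set_option autoImplicit false
universe u
open TateGlob

namespace Groth.Agent.S14556

/-- Transport of the degree-zero statement from points to cohomology classes. -/
theorem transfer {I : Type u} {A : Type (u + 1)} {L : I → Type (u + 1)} (S : Set I)
    {N : ∀ i, i ∉ S → Type (u + 1)} (resA : A → (∀ i, L i)) (resN : ∀ i (h : i ∉ S), N i h → L i)
    {A' : Type u} {L' : I → Type u} {N' : ∀ i, i ∉ S → Type u}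
    (resA' : ∀ i, A' → L' i) (resN' : ∀ i (h : i ∉ S), N' i h → L' i)
    (eA : A → A') (eL : ∀ i, L i → L' i) (eN : ∀ i h, N i h → N' i h)
    (hA : Function.Bijective eA) (hL : ∀ i, Function.Bijective (eL i)) (hN : ∀ i h, Function.Bijective (eN i h))
    (cA : ∀ i a, eL i (resA a i) = resA' i (eA a)) (cN : ∀ i h a, eL i (resN i h a) = resN' i h (eN i h a))
    (hinj : ∀ x y : A', (∀ i, resA' i x = resA' i y) → x = y)
    (hint : ∀ x : A', ∀ᶠ i in Filter.cofinite, ∃ (h : i ∉ S) (z : N' i h), resN' i h z = resA' i x)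
    (hex : ∀ (T : Set I), S ⊆ T → T.Finite → ∀ x : (∀ i, L' i),
      (∀ i (h : i ∉ S), i ∉ T → ∃ z : N' i h, resN' i h z = x i) → ∃ y : A', ∀ i, resA' i y = x i)
    (hS : S.Finite)
    (M : ∀ i, Set (L i)) (hM : ∀ i (h : i ∉ S) x, x ∈ M i ↔ ∃ z, resN i h z = x) :
    Function.Injective resA ∧ ∀ x : (∀ i, L i), x ∈ Set.range resA ↔ ∀ᶠ i in Filter.cofinite, x i ∈ M i := by
  refine ⟨fun x y h => hA.1 (hinj _ _ fun i => by rw [← cA, ← cA, h]), fun x => ⟨?_, fun h => ?_⟩⟩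
  · rintro ⟨a, rfl⟩
    filter_upwards [hint (eA a)] with i hi
    obtain ⟨h, z, hz⟩ := hi
    obtain ⟨z', rfl⟩ := (hN i h).2 z
    rw [hM i h]
    exact ⟨z', (hL i).1 (by rw [cN, cA, hz])⟩
  · rw [Filter.eventually_cofinite] at h
    obtain ⟨y, hy⟩ := hex (S ∪ {i | x i ∉ M i}) Set.subset_union_left (hS.union h) (fun i => eL i (x i)) (by
      intro i hi hi2
      have : x i ∈ M i := by
        by_contra hc
        exact hi2 (Or.inr hc)
      rw [hM i hi] at this
      obtain ⟨z, hz⟩ := this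
      exact ⟨eN i hi z, by rw [← cN, hz]⟩)
    obtain ⟨y', rfl⟩ := hA.2 y
    exact ⟨y', funext fun i => (hL i).1 (by rw [cA, hy])⟩

open CategoryTheory AlgebraicGeometry in
/-- Let K be a global function field with finite constant field Fq (every element of K having finitely
many poles), A_K its ring of adeles, S a finite nonempty set of places, O_S the ring of S-integers
and 𝒢 a flat, separated commutative O_S-group scheme of finite type. Then the map H^0(A_K, 𝒢) → ∏_v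
H^0(K_v, 𝒢) induced by the projections A_K → K_v is injective, and its image consists of the
restricted product of the H^0(K_v, 𝒢), taken relative to the images of H^0(O_v, 𝒢) → H^0(K_v, 𝒢), v
∉ S: the families almost all of whose components come from O_v. Here H^0 is the degree-0 cohomology
of the sheaf of points of 𝒢 on the big fppf site of Spec O_S, restricted to Spec A_K, Spec K_v and
Spec O_v. -/
theorem result (Fq : Type u) [Field Fq] [Finite Fq] (K : Type u) [Field K] [Algebra (RatFunc Fq) K] [FunctionField Fq K]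
    [Algebra Fq K] [IsScalarTower Fq (RatFunc Fq) K] [AdFn.HasFinitePoles Fq K]
    (S : Set (FunFld.Place Fq K)) (hS : S.Finite) (hne : S.Nonempty)
    (𝒢 : Over (Spec (CommRingCat.of (AdFn.SInt S)))) [GrpObj 𝒢] [IsCommMonObj 𝒢]
    [Flat 𝒢.hom] [IsSeparated 𝒢.hom] [LocallyOfFiniteType 𝒢.hom] [QuasiCompact 𝒢.hom] :
    Function.Injective (AdFn.locProdS Scheme.fppfPrecoverage S (CGrpSh.pts Scheme.fppfPrecoverage 𝒢) 0) ∧
      Set.range (AdFn.locProdS Scheme.fppfPrecoverage S (CGrpSh.pts Scheme.fppfPrecoverage 𝒢) 0) =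
        Set.range (fun y : AdFn.LocRP Scheme.fppfPrecoverage S (CGrpSh.pts Scheme.fppfPrecoverage 𝒢) 0 => (⇑y : (v : FunFld.Place Fq K) → AdFn.HLocS Scheme.fppfPrecoverage S (CGrpSh.pts Scheme.fppfPrecoverage 𝒢) 0 v)) := by
  have key := transfer S
    (A := AdFn.HAdS Scheme.fppfPrecoverage S (CGrpSh.pts Scheme.fppfPrecoverage 𝒢) 0)
    (L := fun v => AdFn.HLocS Scheme.fppfPrecoverage S (CGrpSh.pts Scheme.fppfPrecoverage 𝒢) 0 v)
    (N := fun v hv => AdFn.HInt Scheme.fppfPrecoverage S (CGrpSh.pts Scheme.fppfPrecoverage 𝒢) 0 hv)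
    (AdFn.locProdS Scheme.fppfPrecoverage S (CGrpSh.pts Scheme.fppfPrecoverage 𝒢) 0)
    (fun v hv => AdFn.intRes Scheme.fppfPrecoverage S (CGrpSh.pts Scheme.fppfPrecoverage 𝒢) 0 hv)
    (A' := AdFn.specOf (AdFn.SInt.toAd S) ⟶ 𝒢) (L' := fun v => AdFn.specOf (AdFn.SInt.toKv S v) ⟶ 𝒢)
    (N' := fun v hv => AdFn.specOf (AdFn.SInt.toOv S hv) ⟶ 𝒢)
    (fun v y => AdFn.adProjSHom S v ≫ y) (fun v hv y => AdFn.intResHom S hv ≫ y)
    (K827.PtsH0.ptMap _ 𝒢 _) (fun v => K827.PtsH0.ptMap _ 𝒢 _) (fun v hv => K827.PtsH0.ptMap _ 𝒢 _)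
    (K827.PtsH0.ptMap_bijective _ 𝒢 _) (fun v => K827.PtsH0.ptMap_bijective _ 𝒢 _)
    (fun v hv => K827.PtsH0.ptMap_bijective _ 𝒢 _)
    (fun v x => K827.PtsH0.ptMap_resHU _ 𝒢 (AdFn.adProjSHom S v) x)
    (fun v hv x => K827.PtsH0.ptMap_resHU _ 𝒢 (AdFn.intResHom S hv) x)
    (K827.PtsRP.adelic_ext S 𝒢) (K827.PtsRP.adelic_integral S 𝒢 hS)
    (fun T hST hT x => K827.PtsRP.adelic_exists S 𝒢 T hST hT x) hS
    (fun v => AdFn.locSub Scheme.fppfPrecoverage S (CGrpSh.pts Scheme.fppfPrecoverage 𝒢) 0 v)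
    (fun v hv x => by
      unfold AdFn.locSub
      rw [iSup_pos hv]
      rfl)
  refine ⟨key.1, Set.ext fun x => (key.2 x).trans ?_⟩
  exact ⟨fun h => ⟨⟨x, h⟩, rfl⟩, by rintro ⟨y, rfl⟩; exact y.2⟩

end Groth.Agent.S14556
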