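import Groth.Statements.S14557
import Groth.Agent.TateGlob.K775.ShaHv
import Groth.Agent.TateGlob.K829.FunBase

set_option autoImplicit false
universe u
open TateGlob

namespace Groth.Agent.S14557

open CategoryTheory AlgebraicGeometry in
/-- Let K be a global function field with finite constant field Fq and G a commutative group scheme over
K that is affine and of finite type. Then some finite field extension K' of K satisfies Ш^1(K', G) =
0: every class in H^1(K', G) (cohomology of the sheaf of points of G on the big fppf site of Spec K,
restricted to Spec K') whose restriction to H^1(K'_w, G) vanishes for every place w of K' (over Fq)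
is zero. (The published statement covers all global fields; this row is the function-field case,
with Ш defined by the local conditions at all places.) -/
theorem result (Fq : Type u) [Field Fq] [Finite Fq] (K : Type u) [Field K] [Algebra (RatFunc Fq) K] [FunctionField Fq K]
    [Algebra Fq K] [IsScalarTower Fq (RatFunc Fq) K]
    (G : Over (Spec (CommRingCat.of K))) [GrpObj G] [IsCommMonObj G] [IsAffine G.left] [LocallyOfFiniteType G.hom] :
    ∃ (K' : Type u) (_ : Field K') (_ : Algebra K K') (_ : Algebra Fq K') (_ : IsScalarTower Fq K K'),
      FiniteDimensional K K' ∧
      AdFn.ShaLoc Scheme.fppfPrecoverage Fq ((BigSite.pullBig Scheme.fppfPrecoverage (Spec.map (CommRingCat.ofHom (algebraMap K K'))) AddCommGrpCat.{u + 1}).obj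
        (CGrpSh.pts Scheme.fppfPrecoverage G)) 1 = ⊥ := by
  exact K775.ShaHv.exists_ext Fq (K829.FunBase.isGen Fq K) G

end Groth.Agent.S14557
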