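import Groth.Statements.S14558
import Groth.Agent.TateGlob.K775.Fin
import Groth.Agent.TateGlob.K829.FunBase

set_option autoImplicit false
universe u
open TateGlob

namespace Groth.Agent.S14558

open CategoryTheory AlgebraicGeometry in
/-- Let K be a global function field with finite constant field Fq and G a finite commutative K-group
scheme. Then there is a finite separable field extension K' of K such that for every finite
extension K'' of K', Ш^1(K'', G) = 0: every class in H^1(K'', G) (cohomology of the sheaf of points
of G on the big fppf site of Spec K, restricted to Spec K'') whose restriction to H^1(K''_w, G)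
vanishes for every place w of K'' is zero. (The published statement covers all global fields; this
row is the function-field case, with Ш defined by the local conditions at all places.) -/
theorem result (Fq : Type u) [Field Fq] [Finite Fq] (K : Type u) [Field K] [Algebra (RatFunc Fq) K] [FunctionField Fq K]
    [Algebra Fq K] [IsScalarTower Fq (RatFunc Fq) K]
    (G : Over (Spec (CommRingCat.of K))) [GrpObj G] [IsCommMonObj G] [IsFinite G.hom] :
    ∃ (K' : Type u) (_ : Field K') (_ : Algebra K K') (_ : Algebra Fq K') (_ : IsScalarTower Fq K K'),
      FiniteDimensional K K' ∧ Algebra.IsSeparable K K' ∧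
      ∀ (K'' : Type u) [Field K''] [Algebra K K''] [Algebra K' K''] [IsScalarTower K K' K''] [Algebra Fq K'']
        [IsScalarTower Fq K K''] [FiniteDimensional K' K''],
        AdFn.ShaLoc Scheme.fppfPrecoverage Fq ((BigSite.pullBig Scheme.fppfPrecoverage (Spec.map (CommRingCat.ofHom (algebraMap K K''))) AddCommGrpCat.{u + 1}).obj
          (CGrpSh.pts Scheme.fppfPrecoverage G)) 1 = ⊥ := by
  exact K775.Fin.exists_ext Fq (K829.FunBase.isGen Fq K) G

end Groth.Agent.S14558
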