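import Groth.Statements.S14559
import Groth.Agent.TateGlob.K282.DualSha
import Groth.Agent.TateGlob.K829.FunBase

set_option autoImplicit false
universe u
open TateGlob

namespace Groth.Agent.S14559

open CategoryTheory AlgebraicGeometry in
/-- Let K be a global function field with finite constant field Fq and k' a finite separable field
extension of K; let R = R_{k'/K}(𝔾_m) be the Weil restriction of the multiplicative group, as the
abelian sheaf on the big fppf site of Spec K given by the direct image of 𝔾_m along Spec k' → Spec
K. Then Ш^2(K, R^) = 0: a class in H^2(K, R^), R^ the dual sheaf (internal Hom from R into 𝔾_m),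
whose restriction to H^2(K_v, R^) vanishes for every place v of K is zero. (The published statement
is for the Weil restriction of any split k'-torus, a finite product of copies of this case, over any
global field; this row is the function-field case with Ш defined by the local conditions at all
places.) -/
theorem result (Fq : Type u) [Field Fq] [Finite Fq] (K : Type u) [Field K] [Algebra (RatFunc Fq) K] [FunctionField Fq K]
    [Algebra Fq K] [IsScalarTower Fq (RatFunc Fq) K]
    (k' : Type u) [Field k'] [Algebra K k'] [FiniteDimensional K k'] [Algebra.IsSeparable K k'] :
    AdFn.ShaLoc Scheme.fppfPrecoverage Fq (CGrpSh2.dualSh Scheme.fppfPrecoverage ((BigSite.pushBig Scheme.fppfPrecoverage (Spec.map (CommRingCat.ofHom (algebraMap K k'))) AddCommGrpCat.{u+1}).obj (CGrpSh2.Gm Scheme.fppfPrecoverage (Spec (CommRingCat.of k'))))) 2 = ⊥ := by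
  let _ : Algebra Fq k' := ((algebraMap K k').comp (algebraMap Fq K)).toAlgebra
  have _ : IsScalarTower Fq K k' := IsScalarTower.of_algebraMap_eq fun _ => rfl
  exact K282.DualSha.shaLoc_dualPush (k := Fq) (F := K) (E := k') (K829.FunBase.isGen Fq K)

end Groth.Agent.S14559
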