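import Groth.Statements.S14560
import Groth.Agent.TateGlob.K775.FinSha
import Groth.Agent.TateGlob.K775.DualFin
import Groth.Agent.TateGlob.K829.FunBase

set_option autoImplicit false
universe u
open TateGlob

namespace Groth.Agent.S14560

open CategoryTheory AlgebraicGeometry in
/-- Let K be a global function field with finite constant field Fq and G a finite commutative K-group
scheme. Then Ш^1(K, G) and Ш^1(K, Ĝ) are finite, where Ш^1(K, F) is the group of classes in H^1(K,
F) (big fppf site of Spec K) restricting to zero in H^1(K_v, F) for every place v, and Ĝ is the dual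
sheaf of G (internal Hom from the sheaf of points of G into the multiplicative group). (The
published statement also asserts the finiteness of Ш^2 and the perfectness of the pairings between
these groups; this row is the Ш^1 finiteness, with Ш defined by the local conditions at all places.) -/
theorem result (Fq : Type u) [Field Fq] [Finite Fq] (K : Type u) [Field K] [Algebra (RatFunc Fq) K] [FunctionField Fq K]
    [Algebra Fq K] [IsScalarTower Fq (RatFunc Fq) K]
    (G : Over (Spec (CommRingCat.of K))) [GrpObj G] [IsCommMonObj G] [IsFinite G.hom] :
    Finite (AdFn.ShaLoc Scheme.fppfPrecoverage Fq (CGrpSh.pts Scheme.fppfPrecoverage G) 1) ∧ Finite (AdFn.ShaLoc Scheme.fppfPrecoverage Fq (CGrpSh2.dualSh Scheme.fppfPrecoverage (CGrpSh.pts Scheme.fppfPrecoverage G)) 1) := by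
  refine ⟨K775.FinSha.finite_shaLoc_pts Fq (K829.FunBase.isGen Fq K) G, ?_⟩
  obtain ⟨A, _, _, _, ⟨θ⟩⟩ := K775.DualFin.exists_dual G
  exact K775.FinSha.finite_shaLoc Fq (K829.FunBase.isGen Fq K) A θ

end Groth.Agent.S14560
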