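import Groth.Statements.S14561
import Groth.Agent.TateGlob.K963.AdVan

set_option autoImplicit false
universe u
open TateGlob

namespace Groth.Agent.S14561

open CategoryTheory AlgebraicGeometry in
/-- Let K be a global function field with finite constant field Fq (every element of K having finitely
many poles), A_K its adele ring, and G a commutative K-group scheme of finite type (not necessarily
affine). Assume moreover the following property of the rings ∏_{v ∉ S'} O_v, S' any finite set of
places: every quasi-compact surjective etale morphism of schemes onto Spec ∏_{v ∉ S'} O_v is refined
by a finite etale surjective one (finite etale covers are cofinal among etale covers). (The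
published statement does not carry this hypothesis; its proof takes this cofinality from the
literature, and this row states it as an assumption.) Then H^i(A_K, G) = 0 for every i > 2, the
cohomology being that of the sheaf of points of G on the big fppf site of Spec K restricted to Spec
A_K. (The published statement identifies H^i(A_K, G), i > 2, with the product of the H^i(K_v, G)
over the real places v; a function field has none.) -/
theorem result (Fq : Type u) [Field Fq] [Finite Fq] (K : Type u) [Field K] [Algebra (RatFunc Fq) K] [FunctionField Fq K]
    [Algebra Fq K] [IsScalarTower Fq (RatFunc Fq) K] [AdFn.HasFinitePoles Fq K]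
    (hcof : ∀ (S' : Set (FunFld.Place Fq K)), S'.Finite → ∀ (U : Scheme.{u})
      (f : U ⟶ Spec (CommRingCat.of (AdFn.OHat S'))), Etale f → Surjective f → QuasiCompact f →
      ∃ (E : Scheme.{u}) (g : E ⟶ Spec (CommRingCat.of (AdFn.OHat S'))) (s : E ⟶ U),
        IsFinite g ∧ Etale g ∧ Surjective g ∧ s ≫ f = g)
    (G : Over (Spec (CommRingCat.of K))) [GrpObj G] [IsCommMonObj G] [LocallyOfFiniteType G.hom] [QuasiCompact G.hom] (i : ℕ) (hi : 2 < i) :
    Subsingleton (AdFn.HAd Scheme.fppfPrecoverage Fq (CGrpSh.pts Scheme.fppfPrecoverage G) i) :=
  K963.AdVan.main Fq K G i hi

end Groth.Agent.S14561
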