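import Groth.Statements.S14562
import Groth.Agent.GaDual.K771.DvrLine
import Mathlib.NumberTheory.LocalField.Basic

set_option autoImplicit false
universe u
open TateLoc

namespace Groth.Agent.S14562

open CategoryTheory AlgebraicGeometry in
/-- Let k be a non-archimedean local field of characteristic p > 0 with valuation ring O. Then the
restriction map H^2(O, Ĝ_a) → H^2(k, Ĝ_a) along Spec k → Spec O is injective, where Ĝ_a is the dual
sheaf of the additive group (internal Hom from 𝔾_a into 𝔾_m on the big fppf site of Spec O) and
H^2(k, Ĝ_a) is the cohomology of its restriction to Spec k. (The published statement adds that the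
image is the exact annihilator of 𝔾_a(O) under the cup product with k = 𝔾_a(k); this row is the
injectivity.) -/
theorem result (p : ℕ) [Fact p.Prime] (k : Type u) [Field k] [CharP k p] [ValuativeRel k] [TopologicalSpace k] [IsNonarchimedeanLocalField k] :
    Function.Injective (HRes.res Scheme.fppfPrecoverage (CGrpSh2.dualSh Scheme.fppfPrecoverage (CGrpSh2.Ga Scheme.fppfPrecoverage (Spec (CommRingCat.of ↥(ValuativeRel.valuation k).integer)))) 2
      (AdFn.specOf (ValuativeRel.valuation k).integer.subtype)) := by
  let v := ValuativeRel.valuation k
  have : CharP v.integer p :=
    (RingHom.charP_iff v.integer.subtype Subtype.val_injective p).2 inferInstance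
  have : IsDomain v.integer := inferInstance
  have : IsDiscreteValuationRing v.integer := inferInstanceAs (IsDiscreteValuationRing (Valuation.integer v))
  have : IsFractionRing v.integer k := inferInstance
  have : IsOpenImmersion (Spec.map (CommRingCat.ofHom v.integer.subtype)) :=
    Groth.Agent.Models.DVRGeneric.isOpenImmersion_generic v.integer k
  exact K771.DvrLine.res_injective v.integer p v.integer.subtype

end Groth.Agent.S14562
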