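import Groth.Statements.S14569
import Groth.Agent.TateGlob.K834.Main

set_option autoImplicit false
universe u
open TateGlob

namespace Groth.Agent.S14569

open CategoryTheory AlgebraicGeometry in
/-- Let K be a global function field with finite constant field Fq and G a commutative K-group scheme of
finite type (not necessarily affine). Assume moreover the following property of the rings ∏_{v ∉ S'}
O_v, S' any finite set of places: every quasi-compact surjective etale morphism of schemes onto Spec
∏_{v ∉ S'} O_v is refined by a finite etale surjective one (finite etale covers are cofinal among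
etale covers). (The published statement does not carry this hypothesis; its proof takes this
cofinality from the literature, and this row states it as an assumption.) Then one can find a
nonempty finite set S of places of K together with a model 𝒢 of G over O_S — a flat, separated
commutative group scheme of finite type over O_S together with an isomorphism between the sheaf of
points of 𝒢 restricted to K-schemes and the sheaf of points of G (big fppf sites) — such that the
map H^1(∏_{v ∉ S} O_v, 𝒢) → ∏_{v ∉ S} H^1(O_v, 𝒢), whose components are the restriction maps along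
the projections, is bijective. (The published statement covers all global fields; this row is the
function-field case.) -/
theorem result (Fq : Type u) [Field Fq] [Finite Fq] (K : Type u) [Field K] [Algebra (RatFunc Fq) K] [FunctionField Fq K]
    [Algebra Fq K] [IsScalarTower Fq (RatFunc Fq) K]
    (hcof : ∀ (S' : Set (FunFld.Place Fq K)), S'.Finite → ∀ (U : Scheme.{u})
      (f : U ⟶ Spec (CommRingCat.of (AdFn.OHat S'))), Etale f → Surjective f → QuasiCompact f →
      ∃ (E : Scheme.{u}) (g : E ⟶ Spec (CommRingCat.of (AdFn.OHat S'))) (s : E ⟶ U),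
        IsFinite g ∧ Etale g ∧ Surjective g ∧ s ≫ f = g)
    (G : Over (Spec (CommRingCat.of K))) [GrpObj G] [IsCommMonObj G] [LocallyOfFiniteType G.hom] [QuasiCompact G.hom] :
    ∃ (S : Set (FunFld.Place Fq K)) (_ : S.Finite) (_ : S.Nonempty)
      (𝒢 : Over (Spec (CommRingCat.of (AdFn.SInt S)))) (_ : GrpObj 𝒢) (_ : IsCommMonObj 𝒢),
      Flat 𝒢.hom ∧ IsSeparated 𝒢.hom ∧ LocallyOfFiniteType 𝒢.hom ∧ QuasiCompact 𝒢.hom ∧
      Nonempty (AdFn.ModelIso Scheme.fppfPrecoverage S 𝒢 G) ∧ Function.Bijective (fun (x : AdFn.HOHat Scheme.fppfPrecoverage S (CGrpSh.pts Scheme.fppfPrecoverage 𝒢) 1) (v : {v : FunFld.Place Fq K // v ∉ S}) =>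
        AdFn.ohatRes Scheme.fppfPrecoverage S (CGrpSh.pts Scheme.fppfPrecoverage 𝒢) 1 v.2 x) := by
  obtain ⟨S, hS, hne, 𝒢, hg, hc, h1, h2, h3, h4, h5, h6⟩ := K834.Main.exists_model Fq K G
  refine ⟨S, hS, hne, 𝒢, hg, hc, h1, h2, h3, h4, h5, ?_⟩
  exact (K834.Main.good S 𝒢 h6).bijective

end Groth.Agent.S14569
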