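import Groth.Statements.S14563
import Groth.Agent.S14569
import Groth.Agent.S14551
import Groth.Agent.TateLoc.K809.LocOne

set_option autoImplicit false
universe u
open TateGlob

namespace Groth.Agent.S14563

open CategoryTheory AlgebraicGeometry in
/-- Let K be a global function field with finite constant field Fq (every element of K having finitely
many poles), A_K its adele ring, S a finite nonempty set of places, O_S the ring of S-integers and 𝒢
a flat, separated commutative O_S-group scheme of finite type (an O_S-model of its generic fibre).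
Assume moreover the following property of the rings ∏_{v ∉ S'} O_v, S' any finite set of places:
every quasi-compact surjective etale morphism of schemes onto Spec ∏_{v ∉ S'} O_v is refined by a
finite etale surjective one (finite etale covers are cofinal among etale covers). (The published
statement does not carry this hypothesis; its proof takes this cofinality from the literature, and
this row states it as an assumption.) Then the map H^1(A_K, 𝒢) → ∏_v H^1(K_v, 𝒢) induced by the
projections A_K → K_v is injective with image the restricted product of the H^1(K_v, 𝒢) with respect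
to the images of H^1(O_v, 𝒢) → H^1(K_v, 𝒢), v ∉ S (families almost all of whose components come from
O_v); the cohomology is that of the sheaf of points of 𝒢 on the big fppf site of Spec O_S,
restricted to Spec A_K, Spec K_v, Spec O_v. (The published statement covers all global fields; this
row is the function-field case.) -/
theorem result (Fq : Type u) [Field Fq] [Finite Fq] (K : Type u) [Field K] [Algebra (RatFunc Fq) K] [FunctionField Fq K]
    [Algebra Fq K] [IsScalarTower Fq (RatFunc Fq) K] [AdFn.HasFinitePoles Fq K]
    (hcof : ∀ (S' : Set (FunFld.Place Fq K)), S'.Finite → ∀ (U : Scheme.{u})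
      (f : U ⟶ Spec (CommRingCat.of (AdFn.OHat S'))), Etale f → Surjective f → QuasiCompact f →
      ∃ (E : Scheme.{u}) (g : E ⟶ Spec (CommRingCat.of (AdFn.OHat S'))) (s : E ⟶ U),
        IsFinite g ∧ Etale g ∧ Surjective g ∧ s ≫ f = g)
    (S : Set (FunFld.Place Fq K)) (hS : S.Finite) (hne : S.Nonempty)
    (𝒢 : Over (Spec (CommRingCat.of (AdFn.SInt S)))) [GrpObj 𝒢] [IsCommMonObj 𝒢]
    [Flat 𝒢.hom] [IsSeparated 𝒢.hom] [LocallyOfFiniteType 𝒢.hom] [QuasiCompact 𝒢.hom] :
    Function.Injective (AdFn.locProdS Scheme.fppfPrecoverage S (CGrpSh.pts Scheme.fppfPrecoverage 𝒢) 1) ∧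
      Set.range (AdFn.locProdS Scheme.fppfPrecoverage S (CGrpSh.pts Scheme.fppfPrecoverage 𝒢) 1) =
        Set.range (fun y : AdFn.LocRP Scheme.fppfPrecoverage S (CGrpSh.pts Scheme.fppfPrecoverage 𝒢) 1 => (⇑y : (v : FunFld.Place Fq K) → AdFn.HLocS Scheme.fppfPrecoverage S (CGrpSh.pts Scheme.fppfPrecoverage 𝒢) 1 v)) := by
  have h1 : LocallyOfFiniteType (K809.ModelP.gen S 𝒢).hom :=
    inferInstanceAs (LocallyOfFiniteType (Limits.pullback.snd 𝒢.hom _))
  have h2 : QuasiCompact (K809.ModelP.gen S 𝒢).hom :=
    inferInstanceAs (QuasiCompact (Limits.pullback.snd 𝒢.hom _))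
  obtain ⟨S₁, hS₁, hne₁, 𝒢₁, i1, i2, i3, i4, i5, i6, ⟨m⟩, hb⟩ :=
    Groth.Agent.S14569.result Fq K hcof (K809.ModelP.gen S 𝒢)
  exact K809.LocOne.main Fq K S hS hne 𝒢 S₁ hS₁ hne₁ 𝒢₁ m 1 hb
    (Groth.Agent.S14551.result Fq K hcof S hS hne 𝒢)

end Groth.Agent.S14563
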