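import Groth.Statements.S14564
import Groth.Agent.TateGlob.K828.Main64
import Groth.Agent.TateGlob.K834.Main

set_option autoImplicit false
universe u
open TateGlob

namespace Groth.Agent.S14564

open CategoryTheory AlgebraicGeometry in
/-- Let K be a global function field with finite constant field Fq (every element of K having finitely
many poles), A_K its adele ring, S a finite nonempty set of places, O_S the ring of S-integers and 𝒢
a flat, separated commutative O_S-group scheme of finite type (an O_S-model of its generic fibre).
Assume moreover the following property of the rings ∏_{v ∉ S'} O_v, S' any finite set of places: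
every quasi-compact surjective etale morphism of schemes onto Spec ∏_{v ∉ S'} O_v is refined by a
finite etale surjective one (finite etale covers are cofinal among etale covers). (The published
statement does not carry this hypothesis; its proof takes this cofinality from the literature, and
this row states it as an assumption.) Then the map H^2(A_K, 𝒢) → ∏_v H^2(K_v, 𝒢) induced by the
projections A_K → K_v is injective and its image is the direct sum: the families vanishing at all
but finitely many places; the cohomology is that of the sheaf of points of 𝒢 on the big fppf site of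
Spec O_S, restricted to Spec A_K and Spec K_v. (The published statement covers all global fields;
this row is the function-field case.) -/
theorem result (Fq : Type u) [Field Fq] [Finite Fq] (K : Type u) [Field K] [Algebra (RatFunc Fq) K] [FunctionField Fq K]
    [Algebra Fq K] [IsScalarTower Fq (RatFunc Fq) K] [AdFn.HasFinitePoles Fq K]
    (hcof : ∀ (S' : Set (FunFld.Place Fq K)), S'.Finite → ∀ (U : Scheme.{u})
      (f : U ⟶ Spec (CommRingCat.of (AdFn.OHat S'))), Etale f → Surjective f → QuasiCompact f →
      ∃ (E : Scheme.{u}) (g : E ⟶ Spec (CommRingCat.of (AdFn.OHat S'))) (s : E ⟶ U),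
        IsFinite g ∧ Etale g ∧ Surjective g ∧ s ≫ f = g)
    (S : Set (FunFld.Place Fq K)) (hS : S.Finite) (hne : S.Nonempty)
    (𝒢 : Over (Spec (CommRingCat.of (AdFn.SInt S)))) [GrpObj 𝒢] [IsCommMonObj 𝒢]
    [Flat 𝒢.hom] [IsSeparated 𝒢.hom] [LocallyOfFiniteType 𝒢.hom] [QuasiCompact 𝒢.hom] :
    Function.Injective (AdFn.locProdS Scheme.fppfPrecoverage S (CGrpSh.pts Scheme.fppfPrecoverage 𝒢) 2) ∧
      Set.range (AdFn.locProdS Scheme.fppfPrecoverage S (CGrpSh.pts Scheme.fppfPrecoverage 𝒢) 2) = {x | ∀ᶠ v in Filter.cofinite, x v = 0} := by
  have ht := K829.FunBase.isGen Fq K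
  have hD : IsDedekindDomain (AdFn.SInt S) := (K829.SIntBase.isDedekind ht hS hne).1
  have hN : IsNoetherianRing (CommRingCat.of (AdFn.SInt S)) := inferInstanceAs (IsNoetherianRing (AdFn.SInt S))
  have hlfp : LocallyOfFinitePresentation 𝒢.hom := LocallyOfFinitePresentation.iff_locallyOfFiniteType.2 inferInstance
  have hft : LocallyOfFiniteType (Red.bc (Spec.map (CommRingCat.ofHom (AdFn.SInt.toK S))) 𝒢).hom :=
    inferInstanceAs (LocallyOfFiniteType (Limits.pullback.snd 𝒢.hom _))
  have hqc : QuasiCompact (Red.bc (Spec.map (CommRingCat.ofHom (AdFn.SInt.toK S))) 𝒢).hom :=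
    inferInstanceAs (QuasiCompact (Limits.pullback.snd 𝒢.hom _))
  obtain ⟨T₁, hT₁, _, hstr⟩ := K834.Main.exists_isStrS ht hS hne (K828.Main64.selfMdl 𝒢)
  refine K963.AsmBig.injective_and_range_of_oZero hS hT₁ (K828.LpPts.lp_pts 𝒢 _)
    (K828.Main64.oZero_of_mdl 𝒢 2 fun T hT hST hTT => ?_)
  exact subsingleton_of_forall_eq 0 fun x => (K834.Main.good T _ (hstr hTT)).van 0 x

end Groth.Agent.S14564
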