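import Groth.Statements.S14565
import Groth.Agent.TateGlob.K828.OHatVan
import Groth.Agent.TateGlob.K828.AdLim2
import Groth.Agent.TateGlob.K828.LpPts
import Groth.Agent.TateGlob.K829.FunBase

set_option autoImplicit false
universe u
open TateGlob

namespace Groth.Agent.S14565

open CategoryTheory AlgebraicGeometry in
/-- Let K be a global function field with finite constant field Fq (every element of K having finitely
many poles), A_K its adele ring, S a finite nonempty set of places, O_S the ring of S-integers and 𝒢
a flat, separated commutative O_S-group scheme of finite type (an O_S-model of its generic fibre).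
Assume the generic fibre 𝒢_K is smooth over K with connected underlying space. Assume moreover the
following property of the rings ∏_{v ∉ S'} O_v, S' any finite set of places: every quasi-compact
surjective etale morphism of schemes onto Spec ∏_{v ∉ S'} O_v is refined by a finite etale
surjective one (finite etale covers are cofinal among etale covers). (The published statement does
not carry this hypothesis; its proof takes this cofinality from the literature, and this row states
it as an assumption.) Then the image of H^1(A_K, 𝒢) → ∏_v H^1(K_v, 𝒢) is the direct sum: the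
families vanishing at all but finitely many places (the cohomology being that of the sheaf of points
of 𝒢 on the big fppf site of Spec O_S, restricted to Spec A_K and Spec K_v). (The published
statement covers all global fields; this row is the function-field case.) -/
theorem result (Fq : Type u) [Field Fq] [Finite Fq] (K : Type u) [Field K] [Algebra (RatFunc Fq) K] [FunctionField Fq K]
    [Algebra Fq K] [IsScalarTower Fq (RatFunc Fq) K] [AdFn.HasFinitePoles Fq K]
    (hcof : ∀ (S' : Set (FunFld.Place Fq K)), S'.Finite → ∀ (U : Scheme.{u})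
      (f : U ⟶ Spec (CommRingCat.of (AdFn.OHat S'))), Etale f → Surjective f → QuasiCompact f →
      ∃ (E : Scheme.{u}) (g : E ⟶ Spec (CommRingCat.of (AdFn.OHat S'))) (s : E ⟶ U),
        IsFinite g ∧ Etale g ∧ Surjective g ∧ s ≫ f = g)
    (S : Set (FunFld.Place Fq K)) (hS : S.Finite) (hne : S.Nonempty)
    (𝒢 : Over (Spec (CommRingCat.of (AdFn.SInt S)))) [GrpObj 𝒢] [IsCommMonObj 𝒢]
    [Flat 𝒢.hom] [IsSeparated 𝒢.hom] [LocallyOfFiniteType 𝒢.hom] [QuasiCompact 𝒢.hom]
    (hsm : Smooth (Limits.pullback.snd 𝒢.hom (Spec.map (CommRingCat.ofHom (AdFn.SInt.toK S)))))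
    (hconn : ConnectedSpace ↑(Limits.pullback 𝒢.hom (Spec.map (CommRingCat.ofHom (AdFn.SInt.toK S))))) :
    Set.range (AdFn.locProdS Scheme.fppfPrecoverage S (CGrpSh.pts Scheme.fppfPrecoverage 𝒢) 1) = {x | ∀ᶠ v in Filter.cofinite, x v = 0} := by
  obtain ht := K829.FunBase.isGen Fq K
  have hD := (K829.SIntBase.isDedekind ht hS hne).1
  have hN : IsNoetherianRing (AdFn.SInt S) := inferInstance
  have hfp : LocallyOfFinitePresentation 𝒢.hom := LocallyOfFinitePresentation.iff_locallyOfFiniteType.2 inferInstance
  obtain ⟨T₀, hT₀, hT₀'⟩ := K828.OHatVan.exists_vanish ht hS hne 𝒢 hsm hconn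
  have hF := K828.LpPts.lp_pts 𝒢 Scheme.fppfPrecoverage
  let 𝓗 := K828.BigCoh.bigCoh Scheme.fppfPrecoverage (Spec (CommRingCat.of (AdFn.SInt S)))
  ext y
  constructor
  · rintro ⟨x, rfl⟩
    exact K828.AdLim.eventually_zero 𝓗 hS hF T₀ (fun T hT z => by
      have := hT₀ T hT 1 one_pos
      exact Subsingleton.elim (α := BigSite.HU Scheme.fppfPrecoverage (CGrpSh.pts Scheme.fppfPrecoverage 𝒢) 1
        (AdFn.specOf (K828.AdLim.toOHat' T.2))) z 0) x
  · intro hy
    have hy' : ∀ᶠ v in Filter.cofinite, y v = 0 := hy
    obtain ⟨x, hx⟩ := K828.AdLim.exists_of_eventually 𝓗 T₀ (fun T hT w => by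
      refine ⟨(0 : 𝓗.H (CGrpSh.pts Scheme.fppfPrecoverage 𝒢) 1 _), fun v hv => ?_⟩
      have := hT₀' v (fun hw => hv (hT hw)) 1 one_pos
      exact Subsingleton.elim (α := BigSite.HU Scheme.fppfPrecoverage (CGrpSh.pts Scheme.fppfPrecoverage 𝒢) 1
        (AdFn.specOf (AdFn.SInt.toOv S (fun hw => hv (T.2 hw))))) _ _) y (by
      filter_upwards [hy', hS.compl_mem_cofinite] with v hv hvS
      refine ⟨hvS, (0 : 𝓗.H (CGrpSh.pts Scheme.fppfPrecoverage 𝒢) 1 _), ?_⟩
      rw [hv]
      exact map_zero _)
    exact ⟨x, funext hx⟩

end Groth.Agent.S14565
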