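import Groth.Statements.S14571
import Groth.Agent.TateGlob.K829.LatAd

set_option autoImplicit false
universe u
open TateGlob

namespace Groth.Agent.S14571

attribute [-instance] CategoryTheory.catToReflQuiver
attribute [-instance] IsDomain.of_isSimpleRing

open CategoryTheory AlgebraicGeometry MonObj in
/-- Let K be a global function field with finite constant field Fq and G an affine commutative K-group
scheme of finite type. Assume that G is an almost-torus: it has a K-subtorus T (a monomorphic
homomorphism from a torus) which is the kernel of a flat surjective homomorphism from G onto a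
finite K-group scheme Q. Then there are a finite nonempty set S of places and an O_S-model 𝒢 of G —
a flat, separated commutative group scheme of finite type over O_S with an isomorphism between the
sheaf of points of 𝒢 restricted to K-schemes and that of G (big fppf sites) — such that for every
finite set of places S' ⊇ S the map H^1(∏_{v ∉ S'} O_v, 𝒢^) → ∏_{v ∉ S'} H^1(O_v, 𝒢^), whose
components are the restrictions along the projections, is bijective; 𝒢^ is the dual sheaf of 𝒢
(internal Hom from its sheaf of points into the multiplicative group on the big fppf site of Spec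
O_S). (The published statement covers all global fields, every affine commutative group scheme of
finite type and every set of places S' ⊇ S; this row is the function-field case for an almost-torus,
the case the printed proof settles first, and takes S' finite.) -/
theorem result (Fq : Type u) [Field Fq] [Finite Fq] (K : Type u) [Field K] [Algebra (RatFunc Fq) K] [FunctionField Fq K]
    [Algebra Fq K] [IsScalarTower Fq (RatFunc Fq) K]
    (G : Over (Spec (CommRingCat.of K))) [GrpObj G] [IsCommMonObj G] [IsAffine G.left] [LocallyOfFiniteType G.hom]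
    (hAT : ∃ (T Q : Over (Spec (CommRingCat.of K))) (_ : GrpObj T) (_ : GrpObj Q) (j : T ⟶ G) (q : G ⟶ Q)
      (_ : IsMonHom j) (_ : IsMonHom q), Mono j ∧ Red.IsTorus T ∧ AlgGrp.IsKernel j q ∧ Flat q.left ∧
        Surjective q.left ∧ IsFinite Q.hom) :
    ∃ (S : Set (FunFld.Place Fq K)) (_ : S.Finite) (_ : S.Nonempty)
      (𝒢 : Over (Spec (CommRingCat.of (AdFn.SInt S)))) (_ : GrpObj 𝒢) (_ : IsCommMonObj 𝒢),
      Flat 𝒢.hom ∧ IsSeparated 𝒢.hom ∧ LocallyOfFiniteType 𝒢.hom ∧ QuasiCompact 𝒢.hom ∧
      Nonempty (AdFn.ModelIso Scheme.fppfPrecoverage S 𝒢 G) ∧ ∀ (S' : Set (FunFld.Place Fq K)), S'.Finite → ∀ (hSS : S ⊆ S'),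
        Function.Bijective (fun (α : BigSite.HU Scheme.fppfPrecoverage (CGrpSh2.dualSh Scheme.fppfPrecoverage (CGrpSh.pts Scheme.fppfPrecoverage 𝒢)) 1 (AdFn.specOf (RingHom.pi fun w : {w : FunFld.Place Fq K // w ∉ S'} => AdFn.SInt.toOv S (fun hw => w.2 (hSS hw)))))
          (v : {v : FunFld.Place Fq K // v ∉ S'}) =>
          HRes.resHU Scheme.fppfPrecoverage (CGrpSh2.dualSh Scheme.fppfPrecoverage (CGrpSh.pts Scheme.fppfPrecoverage 𝒢)) 1
            (AdFn.specOfHom (RingHom.pi fun w : {w : FunFld.Place Fq K // w ∉ S'} => AdFn.SInt.toOv S (fun hw => w.2 (hSS hw)))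
              (AdFn.SInt.toOv S (fun hw => v.2 (hSS hw))) (AdFn.OHat.proj S' v.2) (RingHom.ext fun _ => rfl)) α) := by
  obtain ⟨S, hS, hne, 𝒯, 𝒢, 𝒬, _, _, _, _, _, _, a, b, _, _, w, E, n, hp, hm, hex, hT, hET, hEQ, _, _, _, _, _, _,
    hsp⟩ := K829.LatAd.exists_data Fq K G hAT
  refine ⟨S, hS, hne, 𝒢, inferInstance, inferInstance, hp.1, hp.2.1, hp.2.2.1, hp.2.2.2, hm, ?_⟩
  intro S' hS' hSS
  have hN : IsNoetherianRing (AdFn.SInt S) := K829.SIntNoeth.isNoetherianRing (K829.FunBase.isGen Fq K) S
  have hO : ∀ w : {w : FunFld.Place Fq K // w ∉ S'}, HenselianLocalRing (AdFn.Ov w.1) := fun w =>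
    K828.OvHens.henselian w.1
  have hF : ∀ w : {w : FunFld.Place Fq K // w ∉ S'}, Finite (IsLocalRing.ResidueField (AdFn.Ov w.1)) := fun w =>
    K828.OvHens.finite_residueField w.1 (K829.FunBase.isGen Fq K)
  exact K829.LatMain.bij1 (fun w : {w : FunFld.Place Fq K // w ∉ S'} => AdFn.Ov w.1)
    (fun w => AdFn.SInt.toOv S (fun hw => w.2 (hSS hw))) a b w hex hT hET hEQ E n hsp

end Groth.Agent.S14571
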