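import Groth.Statements.S14566
import Groth.Agent.TateGlob.K963.DualMain
import Groth.Agent.S14571

set_option autoImplicit false
universe u
open TateGlob

namespace Groth.Agent.S14566

open CategoryTheory AlgebraicGeometry MonObj in
/-- Let K be a global function field with finite constant field Fq (every element of K having finitely
many poles), A_K its adele ring, S a finite nonempty set of places, O_S the ring of S-integers and 𝒢
a flat, separated commutative O_S-group scheme of finite type (an O_S-model of its generic fibre).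
Assume the generic fibre 𝒢_K (with its induced group structure) is affine and an almost-torus: it
has a K-subtorus T (a monomorphic homomorphism from a torus) which is the kernel of a flat
surjective homomorphism from 𝒢_K onto a finite K-group scheme Q. Then the map H^1(A_K, 𝒢^) → ∏_v
H^1(K_v, 𝒢^) induced by the projections A_K → K_v is injective with image the restricted product of
the H^1(K_v, 𝒢^) with respect to the images of H^1(O_v, 𝒢^) → H^1(K_v, 𝒢^), v ∉ S; here 𝒢^ is the
dual sheaf of 𝒢 (internal Hom from the sheaf of points of 𝒢 into the multiplicative group on the big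
fppf site of Spec O_S), restricted to Spec A_K, Spec K_v and Spec O_v. (The published statement also
asserts injectivity in degrees 0 and 2 and covers every affine commutative generic fibre of finite
type; this row is the degree-1 assertion for an almost-torus, the case for which the printed proof
of the product decomposition of H^1 over ∏_{v ∉ S'} O_v is complete.) -/
theorem result (Fq : Type u) [Field Fq] [Finite Fq] (K : Type u) [Field K] [Algebra (RatFunc Fq) K] [FunctionField Fq K]
    [Algebra Fq K] [IsScalarTower Fq (RatFunc Fq) K] [AdFn.HasFinitePoles Fq K]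
    (S : Set (FunFld.Place Fq K)) (hS : S.Finite) (hne : S.Nonempty)
    (𝒢 : Over (Spec (CommRingCat.of (AdFn.SInt S)))) [GrpObj 𝒢] [IsCommMonObj 𝒢]
    [Flat 𝒢.hom] [IsSeparated 𝒢.hom] [LocallyOfFiniteType 𝒢.hom] [QuasiCompact 𝒢.hom]
    (haff : IsAffine ↑(Limits.pullback 𝒢.hom (Spec.map (CommRingCat.ofHom (AdFn.SInt.toK S)))))
    (hAT : ∃ (T Q : Over (Spec (CommRingCat.of K))) (_ : GrpObj T) (_ : GrpObj Q)
      (j : T ⟶ Red.bc (Spec.map (CommRingCat.ofHom (AdFn.SInt.toK S))) 𝒢)
      (q : Red.bc (Spec.map (CommRingCat.ofHom (AdFn.SInt.toK S))) 𝒢 ⟶ Q)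
      (_ : IsMonHom j) (_ : IsMonHom q), Mono j ∧ Red.IsTorus T ∧ AlgGrp.IsKernel j q ∧ Flat q.left ∧
        Surjective q.left ∧ IsFinite Q.hom) :
    Function.Injective (AdFn.locProdS Scheme.fppfPrecoverage S (CGrpSh2.dualSh Scheme.fppfPrecoverage (CGrpSh.pts Scheme.fppfPrecoverage 𝒢)) 1) ∧
      Set.range (AdFn.locProdS Scheme.fppfPrecoverage S (CGrpSh2.dualSh Scheme.fppfPrecoverage (CGrpSh.pts Scheme.fppfPrecoverage 𝒢)) 1) =
        Set.range (fun y : AdFn.LocRP Scheme.fppfPrecoverage S (CGrpSh2.dualSh Scheme.fppfPrecoverage (CGrpSh.pts Scheme.fppfPrecoverage 𝒢)) 1 =>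
          (⇑y : (v : FunFld.Place Fq K) → AdFn.HLocS Scheme.fppfPrecoverage S (CGrpSh2.dualSh Scheme.fppfPrecoverage (CGrpSh.pts Scheme.fppfPrecoverage 𝒢)) 1 v)) := by
  have hx := K829.FunBase.isGen Fq K
  have hG : IsAffine (Red.bc (Spec.map (CommRingCat.ofHom (AdFn.SInt.toK S))) 𝒢).left := haff
  have hfl : LocallyOfFiniteType (Red.bc (Spec.map (CommRingCat.ofHom (AdFn.SInt.toK S))) 𝒢).hom :=
    inferInstanceAs (LocallyOfFiniteType (Limits.pullback.snd 𝒢.hom (Spec.map (CommRingCat.ofHom (AdFn.SInt.toK S)))))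
  obtain ⟨S₁, hS₁, hne₁, 𝒢₁, g1, g2, f1, f2, f3, f4, ⟨m₁⟩, hdec⟩ := Groth.Agent.S14571.result Fq K
    (Red.bc (Spec.map (CommRingCat.ofHom (AdFn.SInt.toK S))) 𝒢) hAT
  obtain ⟨T₁, hT₁, h₁, h₂, ⟨β⟩⟩ := K963.Mod.exists_common hx hS hne hS₁ hne₁ 𝒢 𝒢₁
    (Red.bc (Spec.map (CommRingCat.ofHom (AdFn.SInt.toK S))) 𝒢)
    (K809.PtsPull.ptsPull Scheme.fppfPrecoverage (Spec.map (CommRingCat.ofHom (AdFn.SInt.toK S))) 𝒢) m₁
  exact K963.DualMain.injective_and_range hS hT₁ h₁ h₂ (K963.DualLP.lp_dual Scheme.fppfPrecoverage)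
    (K963.Mod.dualIso_of_iso _ _ β) 1 hdec (Groth.Agent.S14552.result Fq K S hS hne 𝒢 haff)

end Groth.Agent.S14566
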