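import Groth.Statements.S14567
import Groth.Agent.TateGlob.K828.Main67
import Groth.Agent.TateGlob.K829.FunBase
import Groth.Agent.Books.AntiAffine

set_option autoImplicit false
universe u
open TateGlob

namespace Groth.Agent.S14567

open CategoryTheory AlgebraicGeometry in
/-- Let K be a global function field with finite constant field Fq and G a smooth commutative K-group
scheme of finite type with connected underlying space. Assume moreover the following property of the
rings ∏_{v ∉ S'} O_v, S' any finite set of places: every quasi-compact surjective etale morphism of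
schemes onto Spec ∏_{v ∉ S'} O_v is refined by a finite etale surjective one (finite etale covers
are cofinal among etale covers). (The published statement does not carry this hypothesis; its proof
takes this cofinality from the literature, and this row states it as an assumption.) Then one can
find a nonempty finite set S of places of K together with a model 𝒢 of G over O_S — a flat,
separated commutative group scheme of finite type over the ring of S-integers O_S together with an
isomorphism between the sheaf of points of 𝒢 restricted to K-schemes and the sheaf of points of G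
(big fppf sites) — such that H^i(∏_{v ∉ S} O_v, 𝒢) = 0 for every i > 0, the cohomology being that of
the sheaf of points of 𝒢 restricted to Spec ∏_{v ∉ S} O_v. (The published statement covers all
global fields; this row is the function-field case.) -/
theorem result (Fq : Type u) [Field Fq] [Finite Fq] (K : Type u) [Field K] [Algebra (RatFunc Fq) K] [FunctionField Fq K]
    [Algebra Fq K] [IsScalarTower Fq (RatFunc Fq) K]
    (hcof : ∀ (S' : Set (FunFld.Place Fq K)), S'.Finite → ∀ (U : Scheme.{u})
      (f : U ⟶ Spec (CommRingCat.of (AdFn.OHat S'))), Etale f → Surjective f → QuasiCompact f →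
      ∃ (E : Scheme.{u}) (g : E ⟶ Spec (CommRingCat.of (AdFn.OHat S'))) (s : E ⟶ U),
        IsFinite g ∧ Etale g ∧ Surjective g ∧ s ≫ f = g)
    (G : Over (Spec (CommRingCat.of K))) [GrpObj G] [IsCommMonObj G] [Smooth G.hom] [QuasiCompact G.hom] [ConnectedSpace ↑G.left] :
    ∃ (S : Set (FunFld.Place Fq K)) (_ : S.Finite) (_ : S.Nonempty)
      (𝒢 : Over (Spec (CommRingCat.of (AdFn.SInt S)))) (_ : GrpObj 𝒢) (_ : IsCommMonObj 𝒢),
      Flat 𝒢.hom ∧ IsSeparated 𝒢.hom ∧ LocallyOfFiniteType 𝒢.hom ∧ QuasiCompact 𝒢.hom ∧
      Nonempty (AdFn.ModelIso Scheme.fppfPrecoverage S 𝒢 G) ∧ ∀ i : ℕ, 0 < i → Subsingleton (AdFn.HOHat Scheme.fppfPrecoverage S (CGrpSh.pts Scheme.fppfPrecoverage 𝒢) i) := by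
  have ht := K829.FunBase.isGen Fq K
  have hfp : AdFn.HasFinitePoles Fq K := ⟨fun f => by simpa using ht.finite_pole f⟩
  have hsep : IsSeparated G.hom := Groth.Agent.Books.AntiAffine.isSeparated_hom G
  obtain ⟨S, hS, hne, M, hM⟩ := K828.Main67.main (k := Fq) ht G
  exact ⟨S, hS, hne, M.X, M.grp, M.comm, M.flat, M.sep, inferInstance, M.qc,
    ⟨K620.GMod.modelIso Scheme.fppfPrecoverage M⟩, hM⟩

end Groth.Agent.S14567
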