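import Groth.Statements.S14570
import Groth.Agent.TateGlob.K829.LatAd

set_option autoImplicit false
universe u
open TateGlob

namespace Groth.Agent.S14570

attribute [-instance] CategoryTheory.catToReflQuiver
attribute [-instance] IsDomain.of_isSimpleRing

open CategoryTheory AlgebraicGeometry MonObj in
/-- Let K be a global function field with finite constant field Fq and G an affine commutative K-group
scheme of finite type. Assume that G is an almost-torus: it has a K-subtorus T (a monomorphic
homomorphism from a torus) which is the kernel of a flat surjective homomorphism from G onto a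
finite K-group scheme Q. Assume moreover the following property of the rings ∏_{v ∉ S'} O_v, S' any
finite set of places: every quasi-compact surjective etale morphism of schemes onto Spec ∏_{v ∉ S'}
O_v is refined by a finite etale surjective one (finite etale covers are cofinal among etale
covers). (The published statement does not carry this hypothesis; its proof takes this cofinality
from the literature, and this row states it as an assumption.) Then there are a finite nonempty set
S of places and an O_S-model 𝒢 of G — a flat, separated commutative group scheme of finite type over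
the ring of S-integers O_S with an isomorphism between the sheaf of points of 𝒢 restricted to
K-schemes and that of G (big fppf sites) — such that for every finite set of places S' ⊇ S the map
H^2(∏_{v ∉ S'} O_v, 𝒢^) → ∏_{v ∉ S'} H^2(O_v, 𝒢^) is injective: a class restricting to zero along
every projection ∏_{w ∉ S'} O_w → O_v is zero. Here 𝒢^ is the dual sheaf (internal Hom from the
sheaf of points of 𝒢 into the multiplicative group on the big fppf site of Spec O_S), restricted
along O_S → ∏_{v ∉ S'} O_v and O_S → O_v. (The published statement covers every affine commutative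
group scheme of finite type and every set of places S' ⊇ S; this row is the case of an almost-torus,
which the printed proof settles first, and takes S' finite.) -/
theorem result (Fq : Type u) [Field Fq] [Finite Fq] (K : Type u) [Field K] [Algebra (RatFunc Fq) K] [FunctionField Fq K]
    [Algebra Fq K] [IsScalarTower Fq (RatFunc Fq) K]
    (hcof : ∀ (S' : Set (FunFld.Place Fq K)), S'.Finite → ∀ (U : Scheme.{u})
      (f : U ⟶ Spec (CommRingCat.of (AdFn.OHat S'))), Etale f → Surjective f → QuasiCompact f →
      ∃ (E : Scheme.{u}) (g : E ⟶ Spec (CommRingCat.of (AdFn.OHat S'))) (s : E ⟶ U),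
        IsFinite g ∧ Etale g ∧ Surjective g ∧ s ≫ f = g)
    (G : Over (Spec (CommRingCat.of K))) [GrpObj G] [IsCommMonObj G] [IsAffine G.left] [LocallyOfFiniteType G.hom]
    (hAT : ∃ (T Q : Over (Spec (CommRingCat.of K))) (_ : GrpObj T) (_ : GrpObj Q) (j : T ⟶ G) (q : G ⟶ Q)
      (_ : IsMonHom j) (_ : IsMonHom q), Mono j ∧ Red.IsTorus T ∧ AlgGrp.IsKernel j q ∧ Flat q.left ∧
        Surjective q.left ∧ IsFinite Q.hom) :
    ∃ (S : Set (FunFld.Place Fq K)) (_ : S.Finite) (_ : S.Nonempty)
      (𝒢 : Over (Spec (CommRingCat.of (AdFn.SInt S)))) (_ : GrpObj 𝒢) (_ : IsCommMonObj 𝒢),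
      Flat 𝒢.hom ∧ IsSeparated 𝒢.hom ∧ LocallyOfFiniteType 𝒢.hom ∧ QuasiCompact 𝒢.hom ∧
      Nonempty (AdFn.ModelIso Scheme.fppfPrecoverage S 𝒢 G) ∧ ∀ (S' : Set (FunFld.Place Fq K)), S'.Finite → ∀ (hSS : S ⊆ S'),
        ∀ α : BigSite.HU Scheme.fppfPrecoverage (CGrpSh2.dualSh Scheme.fppfPrecoverage (CGrpSh.pts Scheme.fppfPrecoverage 𝒢)) 2 (AdFn.specOf (RingHom.pi fun w : {w : FunFld.Place Fq K // w ∉ S'} => AdFn.SInt.toOv S (fun hw => w.2 (hSS hw)))),
          (∀ (v : FunFld.Place Fq K) (hv' : v ∉ S'), HRes.resHU Scheme.fppfPrecoverage (CGrpSh2.dualSh Scheme.fppfPrecoverage (CGrpSh.pts Scheme.fppfPrecoverage 𝒢)) 2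
            (AdFn.specOfHom (RingHom.pi fun w : {w : FunFld.Place Fq K // w ∉ S'} => AdFn.SInt.toOv S (fun hw => w.2 (hSS hw)))
              (AdFn.SInt.toOv S (fun hw => hv' (hSS hw))) (AdFn.OHat.proj S' hv') (RingHom.ext fun _ => rfl)) α = 0) → α = 0 := by
  obtain ⟨S, hS, hne, 𝒯, 𝒢, 𝒬, _, _, _, _, _, _, a, b, _, _, w, E, n, hp, hm, hex, hT, hET, hEQ, _, _, _, _, _, _,
    hsp⟩ := K829.LatAd.exists_data Fq K G hAT
  refine ⟨S, hS, hne, 𝒢, inferInstance, inferInstance, hp.1, hp.2.1, hp.2.2.1, hp.2.2.2, hm, ?_⟩
  intro S' hS' hSS α hα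
  have hN : IsNoetherianRing (AdFn.SInt S) := K829.SIntNoeth.isNoetherianRing (K829.FunBase.isGen Fq K) S
  have hO : ∀ w : {w : FunFld.Place Fq K // w ∉ S'}, HenselianLocalRing (AdFn.Ov w.1) := fun w =>
    K828.OvHens.henselian w.1
  have hF : ∀ w : {w : FunFld.Place Fq K // w ∉ S'}, Finite (IsLocalRing.ResidueField (AdFn.Ov w.1)) := fun w =>
    K828.OvHens.finite_residueField w.1 (K829.FunBase.isGen Fq K)
  exact K829.LatMain.inj2 (fun w : {w : FunFld.Place Fq K // w ∉ S'} => AdFn.Ov w.1)
    (fun w => AdFn.SInt.toOv S (fun hw => w.2 (hSS hw))) a b w hex hT hET hEQ E n hsp α (fun v => hα v.1 v.2)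

end Groth.Agent.S14570
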