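import Groth.Statements.S14572
import Groth.Agent.TateGlob.K620.DualMain
import Groth.Agent.TateGlob.K620.Van

set_option autoImplicit false
universe u
open TateGlob

namespace Groth.Agent.S14572

open CategoryTheory AlgebraicGeometry MonObj in
/-- Let K be a global function field with finite constant field Fq and 1 → G₁ → G₂ → G₃ → 1
homomorphisms of affine commutative K-group schemes of finite type with trivial composite whose
sequence of sheaves of points on the big fppf site of Spec K is short exact. Then there are a finite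
nonempty set S of places, flat separated commutative group schemes 𝒢₁, 𝒢₂, 𝒢₃ of finite type over
the ring of S-integers O_S and homomorphisms 𝒢₁ → 𝒢₂ → 𝒢₃ with trivial composite, together with
isomorphisms between the sheaves of points of the 𝒢_i restricted to K-schemes and those of the G_i
compatible with the given homomorphisms (so the 𝒢_i are O_S-models spreading out the sequence), such
that the sequence of sheaves of points of the 𝒢_i on the big fppf site of Spec O_S is short exact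
and the dual sequence 1 → 𝒢₃^ → 𝒢₂^ → 𝒢₁^ → 1 of fppf dual sheaves (internal Hom into the
multiplicative group) is short exact as well. (The published statement adds the same over ∏_{v ∉ S}
O_v in place of O_S; this row is the O_S statement.) -/
theorem result (Fq : Type u) [Field Fq] [Finite Fq] (K : Type u) [Field K] [Algebra (RatFunc Fq) K] [FunctionField Fq K]
    [Algebra Fq K] [IsScalarTower Fq (RatFunc Fq) K]
    (G₁ G₂ G₃ : Over (Spec (CommRingCat.of K))) [GrpObj G₁] [IsCommMonObj G₁] [GrpObj G₂] [IsCommMonObj G₂]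
    [GrpObj G₃] [IsCommMonObj G₃] [IsAffine G₁.left] [IsAffine G₂.left] [IsAffine G₃.left]
    [LocallyOfFiniteType G₁.hom] [LocallyOfFiniteType G₂.hom] [LocallyOfFiniteType G₃.hom]
    (f : G₁ ⟶ G₂) (g : G₂ ⟶ G₃) [IsMonHom f] [IsMonHom g] (w : f ≫ g = 1)
    (hex : (CGrpSh.seq Scheme.fppfPrecoverage f g w).ShortExact) :
    ∃ (S : Set (FunFld.Place Fq K)) (_ : S.Finite) (_ : S.Nonempty)
      (𝒢₁ 𝒢₂ 𝒢₃ : Over (Spec (CommRingCat.of (AdFn.SInt S))))
      (_ : GrpObj 𝒢₁) (_ : IsCommMonObj 𝒢₁) (_ : GrpObj 𝒢₂) (_ : IsCommMonObj 𝒢₂) (_ : GrpObj 𝒢₃) (_ : IsCommMonObj 𝒢₃)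
      (f' : 𝒢₁ ⟶ 𝒢₂) (g' : 𝒢₂ ⟶ 𝒢₃) (_ : IsMonHom f') (_ : IsMonHom g') (w' : f' ≫ g' = 1)
      (e₁ : AdFn.ModelIso Scheme.fppfPrecoverage S 𝒢₁ G₁) (e₂ : AdFn.ModelIso Scheme.fppfPrecoverage S 𝒢₂ G₂) (e₃ : AdFn.ModelIso Scheme.fppfPrecoverage S 𝒢₃ G₃),
      (Flat 𝒢₁.hom ∧ IsSeparated 𝒢₁.hom ∧ LocallyOfFiniteType 𝒢₁.hom ∧ QuasiCompact 𝒢₁.hom) ∧
      (Flat 𝒢₂.hom ∧ IsSeparated 𝒢₂.hom ∧ LocallyOfFiniteType 𝒢₂.hom ∧ QuasiCompact 𝒢₂.hom) ∧
      (Flat 𝒢₃.hom ∧ IsSeparated 𝒢₃.hom ∧ LocallyOfFiniteType 𝒢₃.hom ∧ QuasiCompact 𝒢₃.hom) ∧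
      (BigSite.pullBig Scheme.fppfPrecoverage (Spec.map (CommRingCat.ofHom (AdFn.SInt.toK S))) AddCommGrpCat.{u + 1}).map (CGrpSh.ptsMap Scheme.fppfPrecoverage f') ≫ e₂.hom =
        e₁.hom ≫ CGrpSh.ptsMap Scheme.fppfPrecoverage f ∧
      (BigSite.pullBig Scheme.fppfPrecoverage (Spec.map (CommRingCat.ofHom (AdFn.SInt.toK S))) AddCommGrpCat.{u + 1}).map (CGrpSh.ptsMap Scheme.fppfPrecoverage g') ≫ e₃.hom =
        e₂.hom ≫ CGrpSh.ptsMap Scheme.fppfPrecoverage g ∧
      (CGrpSh.seq Scheme.fppfPrecoverage f' g' w').ShortExact ∧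
      ((CGrpSh.seq Scheme.fppfPrecoverage f' g' w').op.map (CGrpSh2.dualFunctor Scheme.fppfPrecoverage (Spec (CommRingCat.of (AdFn.SInt S))))).ShortExact := by
  exact K620.DualSeq.main (fun T => K620.ExtV.van_torus T) (fun p _ Y => K620.ExtV.van_ga p Y) Fq K G₁ G₂ G₃ f g w hex

end Groth.Agent.S14572
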