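import Groth.Statements.S14575
import Groth.Agent.AlgGrp.K400.Quot
import Groth.Agent.Books.AntiAffine
import Groth.Agent.S3027

set_option autoImplicit false
universe u
open CategoryTheory MonoidalCategory CartesianMonoidalCategory MonObj GrpObj AlgebraicGeometry CategoryTheory.Limits
open AlgGrp

namespace Groth.Agent.S14575

open K400.Basic K400.Quot

/-- Let k be a field, G a connected k-group scheme of finite type, j : Z → G its scheme-theoretic centre
and q : G → Q a flat surjective homomorphism of k-group schemes of finite type with kernel j, so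
that Q = G/Z. Then Q is affine. Neither smoothness of G nor any hypothesis on k is assumed;
connectedness of G cannot be dropped. -/
theorem result (k : Type u) [Field k]
    (G : Over (Spec (CommRingCat.of k))) [GrpObj G] [LocallyOfFiniteType G.hom] [QuasiCompact G.hom] [ConnectedSpace ↥G.left]
    (Z : Over (Spec (CommRingCat.of k))) [GrpObj Z] (j : Z ⟶ G) (hZ : Red.IsCentre j)
    (Q : Over (Spec (CommRingCat.of k))) [GrpObj Q] [LocallyOfFiniteType Q.hom] [QuasiCompact Q.hom]
    (q : G ⟶ Q) [IsMonHom q] [Surjective q.left] [Flat q.left] (hker : AlgGrp.IsKernel j q) :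
    IsAffine Q.left := by
  obtain ⟨Z', gZ', i, hi1, hi2, hi3, Q', gQ', q', hq1, hq2, hq3, hq4, hq5, hq6⟩ := Groth.Agent.S3027.result k G
  have hs1 : IsSeparated Q.hom := Groth.Agent.Books.AntiAffine.isSeparated_hom Q
  have hs2 : IsSeparated Q'.hom := Groth.Agent.Books.AntiAffine.isSeparated_hom Q'
  have : QuasiCompact q.left := quasiCompact_left q
  have : QuasiCompact q'.left := quasiCompact_left q'
  obtain ⟨e, -⟩ := exists_iso_of_same_kernel q q' (fun T x => by
    rw [kernel_iff hker, kernel_iff hq6, hZ.2.2 T x, hi3 T x]
    simp only [Category.comp_id])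
  have e' : Q.left ≅ Q'.left := (Over.forget _).mapIso e
  exact IsAffine.of_isIso e'.hom

end Groth.Agent.S14575
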