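import Groth.Statements.S14576
import Groth.Agent.Books.AntiAffine
import Groth.Agent.Pic13.H965.AffHom

set_option autoImplicit false
universe u
open CategoryTheory MonoidalCategory CartesianMonoidalCategory MonObj GrpObj AlgebraicGeometry CategoryTheory.Limits
open AlgGrp

namespace Groth.Agent.S14576

/-- Let k be a field and G a k-group scheme of finite type acting on an affine k-scheme X. If the action
is faithful, in the sense that for every k-scheme T a T-valued point of G acting as the identity on
X_T is the unit, then G is affine. -/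
theorem result (k : Type u) [Field k]
    (G X : Over (Spec (CommRingCat.of k))) [GrpObj G] [LocallyOfFiniteType G.hom] [QuasiCompact G.hom] [IsAffine X.left]
    (a : AlgGrp.Action G X)
    (hf : ∀ (T : Over (Spec (CommRingCat.of k))) (g : T ⟶ G),
      (∀ (T' : Over (Spec (CommRingCat.of k))) (t : T' ⟶ T) (x : T' ⟶ X), lift (t ≫ g) x ≫ a.act = x) → g = 1) :
    IsAffine G.left := by
  refine Groth.Agent.Pic13.H965.AffHom.isAffine_of_antiAffine_trivial ?_
  intro N gN n hn hN hlft hqc
  have hsep : IsSeparated N.hom := Groth.Agent.Books.AntiAffine.isSeparated_hom N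
  have hc : CompactSpace N.left := by
    have : CompactSpace (Spec (CommRingCat.of k)) := inferInstance
    exact QuasiCompact.compactSpace_of_compactSpace N.hom
  have hqs : QuasiSeparatedSpace N.left := quasiSeparatedSpace_of_quasiSeparated N.hom
  apply hf
  -- the action of `N` on `X` is trivial
  have key : (n ▷ X) ≫ a.act = snd N X := by
    have h1 : IsIso (lift (toUnit X ≫ η[N]) (𝟙 X)).left.appTop :=
      Groth.Agent.Books.AntiAffine.isIso_section_appTop N X
    have h2 : lift (toUnit X ≫ η[N]) (𝟙 X) ≫ (n ▷ X) ≫ a.act = lift (toUnit X ≫ η[N]) (𝟙 X) ≫ snd N X := by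
      have h3 := congrArg (fun f => (λ_ X).inv ≫ f) a.one_act
      rw [Iso.inv_hom_id] at h3
      have h4 : lift (toUnit X ≫ η[N]) (𝟙 X) ≫ (n ▷ X) = (λ_ X).inv ≫ (η[G] ▷ X) := by
        apply CartesianMonoidalCategory.hom_ext
        · simp [IsMonHom.one_hom]
        · simp
      rw [lift_snd, ← Category.assoc, h4, Category.assoc]
      exact h3
    ext1
    apply ext_of_isAffine
    rw [← cancel_mono ((lift (toUnit X ≫ η[N]) (𝟙 X)).left.appTop)]
    rw [← Scheme.Hom.comp_appTop, ← Scheme.Hom.comp_appTop, ← Over.comp_left, ← Over.comp_left, h2]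
  intro T' t x
  have : lift (t ≫ n) x = lift t x ≫ (n ▷ X) := by
    ext <;> simp
  rw [this, Category.assoc, key, lift_snd]

end Groth.Agent.S14576
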