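import Groth.Statements.S14578
import Groth.Agent.AlgGrp.K401.RigidAA
import Groth.Agent.AlgGrp.K401.HomOfDiff
import Groth.Agent.S3026
import Groth.Agent.S3293
import Groth.Agent.S0348
import Groth.Agent.Flat2B.SmoothGeom

set_option autoImplicit false
universe u
open CategoryTheory MonoidalCategory CartesianMonoidalCategory MonObj GrpObj AlgebraicGeometry CategoryTheory.Limits
open AlgGrp

namespace Groth.Agent.S14578

/-- Let k be a field, H an anti-affine k-group scheme of finite type (its only global functions are the
constants), G a k-group scheme of finite type and f : H → G a morphism of k-schemes with f(e_H) =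
e_G. Then f is a homomorphism. (The second assertion, that f factors through the centre of the
neutral component of G, is not restated here.) -/
theorem result (k : Type u) [Field k]
    (H G : Over (Spec (CommRingCat.of k))) [GrpObj H] [GrpObj G] [LocallyOfFiniteType H.hom] [QuasiCompact H.hom]
    [LocallyOfFiniteType G.hom] [QuasiCompact G.hom]
    (hH : Function.Bijective ((Scheme.ΓSpecIso (CommRingCat.of k)).inv ≫ H.hom.appTop).hom) (f : H ⟶ G) (hf : η[H] ≫ f = η[G]) : IsMonHom f := by
  have hsm : Smooth H.hom := Groth.Agent.S3026.result k H hH
  have hconn : ConnectedSpace H.left := (Groth.Agent.S3293.result k H hH).1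
  have hirr : IrreducibleSpace H.left := Groth.Agent.S0348.result k H
  have hsH := Books.AntiAffine.isSeparated_hom H
  have hsG := Books.AntiAffine.isSeparated_hom G
  have h1 : CompactSpace H.left := QuasiCompact.compactSpace_of_compactSpace H.hom
  have h2 : QuasiSeparatedSpace H.left := quasiSeparatedSpace_of_quasiSeparated H.hom
  have hnoeth : IsLocallyNoetherian H.left := LocallyOfFiniteType.isLocallyNoetherian H.hom
  have h3 : IsIso ((Scheme.ΓSpecIso (CommRingCat.of k)).inv ≫ H.hom.appTop) :=
    (ConcreteCategory.isIso_iff_bijective _).mpr hH
  have h4 : IsIso H.hom.appTop := (isIso_comp_left_iff _ _).mp h3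
  have hred : IsReduced H.left := Flat2B.SmoothGeom.isReduced_of_smooth H.hom
  have h5 : IsIntegral H.left := isIntegral_of_irreducibleSpace_of_isReduced _
  refine K401.HomOfDiff.isMonHom_of_diff f hf ?_
  rw [K401.RigidAA.rigid η[H] η[H] (K401.HomOfDiff.diff f) η[G] (K401.HomOfDiff.diff_right f hf)]
  exact K401.HomOfDiff.diff_left f hf

end Groth.Agent.S14578
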