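import Groth.Statements.S14580
import Groth.Agent.S4106
import Groth.Agent.S4107

set_option autoImplicit false
universe u
open CategoryTheory MonoidalCategory CartesianMonoidalCategory MonObj GrpObj AlgebraicGeometry CategoryTheory.Limits
open AlgGrp

namespace Groth.Agent.S14580

theorem discrete_aux (k : Type u) [Field k]
    (G : Over (Spec (CommRingCat.of k))) [GrpObj G] [IsProper G.hom] : DiscreteTopology (Spec Γ(G.left, ⊤)) := by
  have h1 : G.hom.appTop.hom.IsIntegral := isIntegral_appTop_of_universallyClosed G.hom
  have h2 : G.hom.appTop.hom.FiniteType := by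
    have h := (Groth.Agent.S4106.result k G).2.2
    have h' : LocallyOfFiniteType (Spec.map G.hom.appTop) :=
      (MorphismProperty.cancel_right_of_respectsIso @LocallyOfFiniteType _ _).mp h
    exact (HasRingHomProperty.Spec_iff (P := @LocallyOfFiniteType)).mp h'
  have h3 : G.hom.appTop.hom.Finite := RingHom.finite_iff_isIntegral_and_finiteType.mpr ⟨h1, h2⟩
  have h4 : IsField Γ(Spec (.of k), ⊤) :=
    MulEquiv.isField (Field.toIsField k) (Scheme.ΓSpecIso (.of k)).commRingCatIsoToRingEquiv.toMulEquiv
  let : Field Γ(Spec (.of k), ⊤) := h4.toField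
  have h5 : IsArtinianRing Γ(G.left, ⊤) := by
    algebraize [G.hom.appTop.hom]
    exact IsArtinianRing.of_finite Γ(Spec (.of k), ⊤) _
  exact inferInstanceAs (DiscreteTopology (PrimeSpectrum Γ(G.left, ⊤)))

/-- Let k be a field, G a proper k-group scheme of finite type and N ⊆ G the kernel of the affinization
morphism G → Spec O(G), i.e. the fibre over the image of the unit section (the largest anti-affine
subgroup scheme of G). Then the image of N in G is the connected component of the identity: as N is
smooth, N is the reduced neutral component G⁰_red, which is therefore a smooth connected algebraic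
group. -/
theorem result (k : Type u) [Field k]
    (G : Over (Spec (CommRingCat.of k))) [GrpObj G] [IsProper G.hom] (t : ↥((𝟙_ (Over (Spec (CommRingCat.of k)))).left)) :
    Set.range ⇑(pullback.fst G.left.toSpecΓ (η[G].left ≫ G.left.toSpecΓ)).base = connectedComponent ((η[G]).left.base t) := by
  have hd := discrete_aux k G
  have hr : Set.range ⇑(pullback.fst G.left.toSpecΓ (η[G].left ≫ G.left.toSpecΓ)).base =
      G.left.toSpecΓ ⁻¹' Set.range (η[G].left ≫ G.left.toSpecΓ) := Scheme.Pullback.range_fst _ _
  have hmem : (η[G]).left.base t ∈ Set.range ⇑(pullback.fst G.left.toSpecΓ (η[G].left ≫ G.left.toSpecΓ)).base := by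
    rw [hr]
    exact ⟨t, by simp⟩
  apply Set.Subset.antisymm
  · have hc := (Groth.Agent.S4107.result k G).2.2
    apply IsPreconnected.subset_connectedComponent _ hmem
    exact isPreconnected_range (pullback.fst G.left.toSpecΓ (η[G].left ≫ G.left.toSpecΓ)).continuous
  · have hcl : IsClopen (Set.range ⇑(pullback.fst G.left.toSpecΓ (η[G].left ≫ G.left.toSpecΓ)).base) := by
      rw [hr]
      exact (isClopen_discrete _).preimage G.left.toSpecΓ.continuous
    exact hcl.connectedComponent_subset hmem

end Groth.Agent.S14580
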