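import Groth.Statements.S14584
import Groth.Agent.AlgGrp.K401.SumVar
import Groth.Agent.AbSch.K452.PowEt
-- import your own Groth.Agent.* helpers here

set_option autoImplicit false
universe u
open CategoryTheory MonoidalCategory CartesianMonoidalCategory MonObj GrpObj AlgebraicGeometry CategoryTheory.Limits
open AlgGrp

namespace Groth.Agent.S14584

/-- Let k be a field, X and Y varieties over k (separated, geometrically integral k-schemes of finite
type) with rational points x₀ and y₀, A an abelian variety (a proper, smooth, connected k-group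
scheme) and f : X × Y → A a k-morphism. Then, in the group of morphisms X × Y → A, f(x, y) = f(x₀,
y₀)⁻¹ · f(x₀, y) · f(x, y₀) identically; additively, f(x, y) − f(x₀, y) − f(x, y₀) + f(x₀, y₀) = 0.
Neither smoothness nor properness of X, Y is assumed. -/
theorem result (k : Type u) [Field k]
    (X Y A : Over (Spec (CommRingCat.of k)))
    [LocallyOfFiniteType X.hom] [QuasiCompact X.hom] [IsSeparated X.hom] [GeometricallyIntegral X.hom]
    [LocallyOfFiniteType Y.hom] [QuasiCompact Y.hom] [IsSeparated Y.hom] [GeometricallyIntegral Y.hom]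
    [GrpObj A] [IsProper A.hom] [Smooth A.hom] [ConnectedSpace ↥A.left]
    (x₀ : 𝟙_ (Over (Spec (CommRingCat.of k))) ⟶ X) (y₀ : 𝟙_ (Over (Spec (CommRingCat.of k))) ⟶ Y) (f : X ⊗ Y ⟶ A) :
    f = (toUnit (X ⊗ Y) ≫ lift x₀ y₀ ≫ f)⁻¹ * (snd X Y ≫ lift (toUnit Y ≫ x₀) (𝟙 Y) ≫ f) *
      (fst X Y ≫ lift (𝟙 X) (toUnit X ≫ y₀) ≫ f) := by
  have hcomm : IsCommMonObj A := K452.PowEt.isCommMonObj_field A
  let a : X ⟶ A := lift (𝟙 X) (toUnit X ≫ y₀) ≫ f
  let b : Y ⟶ A := lift (toUnit Y ≫ x₀) (𝟙 Y) ≫ f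
  let c : 𝟙_ (Over (Spec (CommRingCat.of k))) ⟶ A := lift x₀ y₀ ≫ f
  have h1 : x₀ ≫ a = c := by
    change x₀ ≫ lift (𝟙 X) (toUnit X ≫ y₀) ≫ f = lift x₀ y₀ ≫ f
    rw [← Category.assoc, comp_lift, Category.comp_id, ← Category.assoc, toUnit_unique (x₀ ≫ toUnit X) (𝟙 _),
      Category.id_comp]
  have h2 : y₀ ≫ b = c := by
    change y₀ ≫ lift (toUnit Y ≫ x₀) (𝟙 Y) ≫ f = lift x₀ y₀ ≫ f
    rw [← Category.assoc, comp_lift, Category.comp_id, ← Category.assoc, toUnit_unique (y₀ ≫ toUnit Y) (𝟙 _),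
      Category.id_comp]
  have hc : ∀ {T T' : Over (Spec (CommRingCat.of k))} (u : T ⟶ T'), u ≫ toUnit T' ≫ c = toUnit T ≫ c := by
    intro T T' u
    rw [← Category.assoc, toUnit_unique (u ≫ toUnit T') (toUnit T)]
  change f = (toUnit (X ⊗ Y) ≫ c)⁻¹ * (snd X Y ≫ b) * (fst X Y ≫ a)
  have key := K401.SumVar.eq_one X Y A (f * ((toUnit (X ⊗ Y) ≫ c)⁻¹ * (snd X Y ≫ b) * (fst X Y ≫ a))⁻¹) x₀ y₀
    (by
      rw [comp_mul, GrpObj.comp_inv, comp_mul, comp_mul, GrpObj.comp_inv, lift_snd_assoc, lift_fst_assoc,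
        Category.id_comp, Category.assoc, h1, hc]
      change b * _ = 1
      rw [mul_comm (toUnit Y ≫ c)⁻¹ b, inv_mul_cancel_right, mul_inv_cancel])
    (by
      rw [comp_mul, GrpObj.comp_inv, comp_mul, comp_mul, GrpObj.comp_inv, lift_snd_assoc, lift_fst_assoc,
        Category.id_comp, Category.assoc, h2, hc]
      change a * _ = 1
      rw [inv_mul_cancel, _root_.one_mul, mul_inv_cancel])
  exact mul_inv_eq_one.1 key

end Groth.Agent.S14584
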