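import Groth.Statements.S14587
import Groth.Agent.Books.AntiAffine
import Mathlib.AlgebraicGeometry.Artinian
import Mathlib.AlgebraicGeometry.Morphisms.QuasiFinite
import Mathlib.AlgebraicGeometry.Morphisms.FlatMono

set_option autoImplicit false
universe u
open CategoryTheory MonoidalCategory CartesianMonoidalCategory MonObj GrpObj AlgebraicGeometry CategoryTheory.Limits
open AlgGrp

namespace Groth.Agent.S14587

open Groth.Agent.Books.AntiAffine

variable {k : Type u} [Field k]

theorem discrete_of_isFinite {X : Scheme.{u}} (f : X ⟶ Spec (CommRingCat.of k)) [IsFinite f] : DiscreteTopology X := by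
  have h1 : IsLocallyArtinian (Spec (CommRingCat.of k)) :=
    Scheme.isLocallyArtinianScheme_Spec.mpr inferInstance
  have h2 : IsLocallyArtinian X := IsLocallyArtinian.of_locallyQuasiFinite (f := f)
  infer_instance

/-- The intersection of `G_red` and `G⁰` is trivial. -/
theorem eq_one_of_comp_eq (G Gr G₀ : Over (Spec (CommRingCat.of k))) [GrpObj G] [GrpObj Gr] [GrpObj G₀] [IsFinite G.hom]
    (r : Gr ⟶ G) [IsMonHom r] [IsClosedImmersion r.left] [IsReduced Gr.left] [Surjective r.left]
    (i₀ : G₀ ⟶ G) [IsMonHom i₀] [IsOpenImmersion i₀.left] [ConnectedSpace ↥G₀.left]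
    {T : Over (Spec (CommRingCat.of k))} (c : T ⟶ Gr) (d : T ⟶ G₀) (h : c ≫ r = d ≫ i₀) : c = 1 := by
  have hd : DiscreteTopology G.left := discrete_of_isFinite G.hom
  have hd0 : DiscreteTopology G₀.left := i₀.left.isOpenEmbedding.isEmbedding.discreteTopology
  have hs0 : Subsingleton G₀.left := by
    have := (isPreconnected_univ (α := G₀.left)).subsingleton
    exact Set.subsingleton_univ_iff.mp this
  let P := pullback r i₀
  have hP : IsPullback (pullback.fst r i₀).left (pullback.snd r i₀).left r.left i₀.left :=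
    (IsPullback.of_hasPullback r i₀).map (Over.forget _)
  have hopen : IsOpenImmersion (pullback.fst r i₀).left :=
    MorphismProperty.of_isPullback (P := @IsOpenImmersion) hP.flip inferInstance
  have hcl : IsClosedImmersion (pullback.snd r i₀).left :=
    MorphismProperty.of_isPullback (P := @IsClosedImmersion) hP inferInstance
  have hred : IsReduced P.left := isReduced_of_isOpenImmersion (pullback.fst r i₀).left
  have hsub : Subsingleton P.left := (pullback.snd r i₀).left.isClosedEmbedding.injective.subsingleton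
  have hu : η[Gr] ≫ r = η[G₀] ≫ i₀ := by rw [IsMonHom.one_hom, IsMonHom.one_hom]
  let s : 𝟙_ (Over (Spec (CommRingCat.of k))) ⟶ P := pullback.lift η[Gr] η[G₀] hu
  have hGsep := isSeparated_hom Gr
  have hPsep : IsSeparated P.hom := by
    rw [← Over.w (pullback.fst r i₀)]
    infer_instance
  have hs1 : s.left ≫ P.hom = 𝟙 _ := Over.w s
  have hscl : IsClosedImmersion s.left := by
    have : IsClosedImmersion (s.left ≫ P.hom) := by rw [hs1]; infer_instance
    exact IsClosedImmersion.of_comp s.left P.hom
  have hssurj : Surjective s.left := ⟨fun x => ⟨(IsLocalRing.closedPoint k : Spec (CommRingCat.of k)), Subsingleton.elim _ _⟩⟩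
  have hsiso : IsIso s.left := isIso_of_isClosedImmersion_of_surjective s.left
  have hsiso' : IsIso s := by
    have : IsIso ((Over.forget _).map s) := hsiso
    exact isIso_of_reflects_iso s (Over.forget _)
  have h1 : pullback.fst r i₀ = toUnit _ ≫ η[Gr] := by
    rw [← cancel_epi s, pullback.lift_fst, ← Category.assoc, toUnit_unique (s ≫ toUnit _) (𝟙 _), Category.id_comp]
  have h2 : c = pullback.lift c d h ≫ pullback.fst r i₀ := by rw [pullback.lift_fst]
  rw [h2, h1, one_eq_one, comp_one, comp_one]

/-- Let k be a perfect field and G a finite k-group scheme, r : G_red → G its reduced subgroup scheme (a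
homomorphism and closed immersion from a reduced k-group scheme, surjective on underlying spaces)
and i₀ : G⁰ → G its neutral component (a homomorphism and open immersion from a connected k-group
scheme). Then the multiplication morphism G_red × G⁰ → G is an isomorphism, exhibiting G as the
semi-direct product of G⁰ by G_red. -/
theorem result (k : Type u) [Field k] [PerfectField k]
    (G Gr G₀ : Over (Spec (CommRingCat.of k))) [GrpObj G] [GrpObj Gr] [GrpObj G₀] [IsFinite G.hom]
    (r : Gr ⟶ G) [IsMonHom r] [IsClosedImmersion r.left] [IsReduced Gr.left] [Surjective r.left]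
    (i₀ : G₀ ⟶ G) [IsMonHom i₀] [IsOpenImmersion i₀.left] [ConnectedSpace ↥G₀.left] :
    IsIso ((r ⊗ₘ i₀) ≫ μ[G]) := by
  have hGsep := isSeparated_hom G
  have hGrsep := isSeparated_hom Gr
  have hrm : Mono r := by
    have : Mono ((Over.forget _).map r) := inferInstanceAs (Mono r.left)
    exact (Over.forget _).mono_of_mono_map this
  have him : Mono i₀ := by
    have : Mono ((Over.forget _).map i₀) := inferInstanceAs (Mono i₀.left)
    exact (Over.forget _).mono_of_mono_map this
  have hm : ∀ {T : Over (Spec (CommRingCat.of k))} (t : T ⟶ Gr ⊗ G₀),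
      t ≫ (r ⊗ₘ i₀) ≫ μ[G] = (t ≫ fst _ _ ≫ r) * (t ≫ snd _ _ ≫ i₀) := by
    intro T t
    rw [Hom.mul_def, ← Category.assoc]
    congr 1
    ext1 <;> simp
  have hmono : Mono ((r ⊗ₘ i₀) ≫ μ[G]) := by
    constructor
    intro T s t hst
    rw [hm, hm] at hst
    have e : ((t ≫ fst _ _)⁻¹ * (s ≫ fst _ _)) ≫ r = ((t ≫ snd _ _) * (s ≫ snd _ _)⁻¹) ≫ i₀ := by
      rw [mul_comp, mul_comp, GrpObj.inv_comp, GrpObj.inv_comp, inv_mul_eq_iff_eq_mul, ← _root_.mul_assoc, eq_mul_inv_iff_mul_eq]
      simpa only [Category.assoc] using hst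
    have h1 := eq_one_of_comp_eq G Gr G₀ r i₀ _ _ e
    have h2 : s ≫ fst _ _ = t ≫ fst _ _ := by
      rw [inv_mul_eq_one] at h1
      exact h1.symm
    have h3 : s ≫ snd _ _ = t ≫ snd _ _ := by
      rw [← cancel_mono i₀]
      simp only [← Category.assoc] at hst
      rw [h2] at hst
      exact mul_left_cancel hst
    ext1
    · exact h2
    · exact h3
  have hmono' : Mono ((r ⊗ₘ i₀) ≫ μ[G]).left := inferInstanceAs (Mono ((Over.forget _).map ((r ⊗ₘ i₀) ≫ μ[G])))
  have hsurj : Surjective ((r ⊗ₘ i₀) ≫ μ[G]).left := by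
    have h1 : lift (𝟙 Gr) (toUnit Gr ≫ η[G₀]) ≫ (r ⊗ₘ i₀) ≫ μ[G] = r := by
      rw [hm]
      simp [one_eq_one]
    have h2 : Surjective ((lift (𝟙 Gr) (toUnit Gr ≫ η[G₀])).left ≫ ((r ⊗ₘ i₀) ≫ μ[G]).left) := by
      rw [← Over.comp_left, h1]
      infer_instance
    exact Surjective.of_comp (lift (𝟙 Gr) (toUnit Gr ≫ η[G₀])).left _
  have hqc : QuasiCompact ((r ⊗ₘ i₀) ≫ μ[G]).left := by
    have hd : DiscreteTopology G.left := discrete_of_isFinite G.hom
    have hd0 : DiscreteTopology G₀.left := i₀.left.isOpenEmbedding.isEmbedding.discreteTopology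
    have hs0 : Subsingleton G₀.left := by
      have := (isPreconnected_univ (α := G₀.left)).subsingleton
      exact Set.subsingleton_univ_iff.mp this
    have h1 : QuasiCompact G₀.hom := HasAffineProperty.iff_of_isAffine.mpr (inferInstanceAs (CompactSpace G₀.left))
    have h2 : QuasiCompact Gr.hom := by
      rw [← Over.w r]
      infer_instance
    have h3 : QuasiCompact (Gr ⊗ G₀).hom := by
      have : (Gr ⊗ G₀).hom = pullback.fst Gr.hom G₀.hom ≫ Gr.hom := rfl
      rw [this]
      infer_instance
    have h4 : QuasiCompact (((r ⊗ₘ i₀) ≫ μ[G]).left ≫ G.hom) := by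
      rw [Over.w]
      exact h3
    exact QuasiCompact.of_comp _ G.hom
  have hflat : Flat ((r ⊗ₘ i₀) ≫ μ[G]).left := by
    let s : Gr ⊗ G ≅ Gr ⊗ G :=
      { hom := lift (fst Gr G) ((fst Gr G ≫ r) * snd Gr G)
        inv := lift (fst Gr G) ((fst Gr G ≫ r)⁻¹ * snd Gr G)
        hom_inv_id := by
          ext1
          · simp
          · simp [comp_mul, GrpObj.comp_inv]
        inv_hom_id := by
          ext1
          · simp
          · simp [comp_mul] }
    have h : (r ⊗ₘ i₀) ≫ μ[G] = (Gr ◁ i₀) ≫ s.hom ≫ snd Gr G := by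
      have := hm (𝟙 _)
      rw [Category.id_comp] at this
      rw [this]
      simp [s, comp_mul]
    rw [h, Over.comp_left, Over.comp_left]
    have h2 : Flat (snd Gr G).left := by
      have : (snd Gr G).left = pullback.snd _ _ := rfl
      rw [this]
      infer_instance
    have h3 : IsIso s.hom.left := inferInstanceAs (IsIso ((Over.forget (Spec (CommRingCat.of k))).mapIso s).hom)
    have h4 : Flat (Gr ◁ i₀).left := whiskerLeft_left_mem @Flat _ _ inferInstance
    infer_instance
  have hiso : IsIso ((r ⊗ₘ i₀) ≫ μ[G]).left := Flat.isIso_of_surjective_of_mono _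
  have : IsIso ((Over.forget _).map ((r ⊗ₘ i₀) ≫ μ[G])) := hiso
  exact isIso_of_reflects_iso _ (Over.forget _)

end Groth.Agent.S14587
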