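import Groth.Statements.S14588
import Groth.Agent.AlgGrp.K401.RedUnit

set_option autoImplicit false
universe u
open CategoryTheory MonoidalCategory CartesianMonoidalCategory MonObj GrpObj AlgebraicGeometry CategoryTheory.Limits
open AlgGrp

namespace Groth.Agent.S14588

/-- Let k be a field with algebraic closure K and G a k-group scheme locally of finite type. If the
local ring of G_K at its unit point is reduced, then G is smooth over k. -/
theorem result (k : Type u) [Field k]
    (G : Over (Spec (CommRingCat.of k))) [GrpObj G] [LocallyOfFiniteType G.hom]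
    (t : ↥((𝟙_ (Over (Spec (CommRingCat.of (AlgebraicClosure k))))).left))
    (h : _root_.IsReduced ↑((Red.bc (Spec.map (CommRingCat.ofHom (algebraMap k (AlgebraicClosure k)))) G).left.presheaf.stalk ((η[Red.bc (Spec.map (CommRingCat.ofHom (algebraMap k (AlgebraicClosure k)))) G]).left.base t))) :
    Smooth G.hom := by
  let f := Spec.map (CommRingCat.ofHom (algebraMap k (AlgebraicClosure k)))
  have hlft : LocallyOfFiniteType (Red.bc f G).hom :=
    inferInstanceAs (LocallyOfFiniteType (pullback.snd G.hom f))
  have hsub : Subsingleton ↥((𝟙_ (Over (Spec (CommRingCat.of (AlgebraicClosure k))))).left) :=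
    inferInstanceAs (Subsingleton ↥(Spec (CommRingCat.of (AlgebraicClosure k))))
  have ht : t = (IsLocalRing.closedPoint (AlgebraicClosure k) : ↥(Spec (CommRingCat.of (AlgebraicClosure k)))) :=
    Subsingleton.elim _ _
  have hred : IsReduced (Red.bc f G).left := by
    apply K401.RedUnit.isReduced_of_isReduced_stalk_unit
    rw [ht] at h
    exact h
  have hsm : Smooth (Red.bc f G).hom := Books.AlgPtsSmooth.smooth_of_isReduced _
  have hf : (@Surjective ⊓ @Flat ⊓ @QuasiCompact : MorphismProperty Scheme.{u}) f :=
    ⟨⟨inferInstance, inferInstance⟩, inferInstance⟩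
  exact MorphismProperty.of_isPullback_of_descendsAlong (P := @Smooth)
    (Q := (@Surjective ⊓ @Flat ⊓ @QuasiCompact : MorphismProperty Scheme.{u}))
    (IsPullback.of_hasPullback G.hom f).flip hf hsm

end Groth.Agent.S14588
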