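import Groth.Statements.S14589
import Groth.Agent.AlgGrp.K411.PreimGrp
import Groth.Agent.AlgGrp.K414.Hull
import Groth.Agent.AlgGrp.K414.Kit
import Groth.Agent.AlgGrp.K395.Pts
import Groth.Agent.S3293
import Groth.Agent.S3026
import Groth.Agent.Etcore.SmoothRed

set_option autoImplicit false
universe u
open CategoryTheory MonoidalCategory CartesianMonoidalCategory MonObj GrpObj AlgebraicGeometry CategoryTheory.Limits
open AlgGrp

namespace Groth.Agent.S14589

/-- Let k be a field, G a k-group scheme of finite type, i : N → G a closed normal subgroup scheme and q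
: G → Q a flat surjective homomorphism of k-group schemes of finite type with kernel N (Q = G/N).
Let j : M → G and j' : M' → Q be the largest anti-affine subgroup schemes of G and of Q (closed
subgroup schemes of finite type with only constant global functions through which every other such
subgroup scheme factors). Then q maps M onto M': the image of M → G → Q equals the underlying set of
M'. Since M' is smooth, this is the statement that G_ant/(G_ant ∩ N) → (G/N)_ant is an isomorphism. -/
theorem result (k : Type u) [Field k]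
    (G : Over (Spec (CommRingCat.of k))) [GrpObj G] [LocallyOfFiniteType G.hom] [QuasiCompact G.hom]
    (N : Over (Spec (CommRingCat.of k))) [GrpObj N] (i : N ⟶ G) [IsMonHom i] [IsClosedImmersion i.left] (hN : AlgGrp.IsNormalHom i)
    (Q : Over (Spec (CommRingCat.of k))) [GrpObj Q] [LocallyOfFiniteType Q.hom] [QuasiCompact Q.hom]
    (q : G ⟶ Q) [IsMonHom q] [Surjective q.left] [Flat q.left] (hq : AlgGrp.IsKernel i q)
    (M : Over (Spec (CommRingCat.of k))) [GrpObj M] [LocallyOfFiniteType M.hom] [QuasiCompact M.hom] (j : M ⟶ G) [IsMonHom j] [IsClosedImmersion j.left]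
    (hM : Function.Bijective ((Scheme.ΓSpecIso (CommRingCat.of k)).inv ≫ M.hom.appTop).hom)
    (hMmax : ∀ (M₁ : Over (Spec (CommRingCat.of k))) [GrpObj M₁] [LocallyOfFiniteType M₁.hom] [QuasiCompact M₁.hom] (j₁ : M₁ ⟶ G) [IsMonHom j₁] [IsClosedImmersion j₁.left],
      Function.Bijective ((Scheme.ΓSpecIso (CommRingCat.of k)).inv ≫ M₁.hom.appTop).hom → ∃ g : M₁ ⟶ M, g ≫ j = j₁)
    (M' : Over (Spec (CommRingCat.of k))) [GrpObj M'] [LocallyOfFiniteType M'.hom] [QuasiCompact M'.hom] (j' : M' ⟶ Q) [IsMonHom j'] [IsClosedImmersion j'.left]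
    (hM' : Function.Bijective ((Scheme.ΓSpecIso (CommRingCat.of k)).inv ≫ M'.hom.appTop).hom)
    (hM'max : ∀ (M₁ : Over (Spec (CommRingCat.of k))) [GrpObj M₁] [LocallyOfFiniteType M₁.hom] [QuasiCompact M₁.hom] (j₁ : M₁ ⟶ Q) [IsMonHom j₁] [IsClosedImmersion j₁.left],
      Function.Bijective ((Scheme.ΓSpecIso (CommRingCat.of k)).inv ≫ M₁.hom.appTop).hom → ∃ g : M₁ ⟶ M', g ≫ j' = j₁) :
    Set.range ⇑(j ≫ q).left.base = Set.range ⇑j'.left.base := by
  have iM := K398.AntiAff.isIso_appTop hM
  have iM' := K398.AntiAff.isIso_appTop hM'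
  have hj' : Mono j' := K414.Kit.mono_of_closed j'
  apply subset_antisymm
  · -- the image of `M` is anti-affine
    obtain ⟨g, hg⟩ := K414.Hull.exists_factor_of_max (G := Q) (X := M) η[M] (j ≫ q) (by
      rw [IsMonHom.one_hom (j ≫ q)]) j' hM'max
    rw [← hg]
    rintro _ ⟨x, rfl⟩
    exact ⟨g.left x, by rw [← Scheme.Hom.comp_apply, ← Over.comp_left]⟩
  · -- the preimage `P` of `M'`
    obtain ⟨_, hP1, hP2⟩ := Groth.Agent.AlgGrp.K411.PreimGrp.exists_grpObj q j'
    let ι' := Groth.Agent.AlgGrp.K411.PreimGrp.preι q j'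
    let π' := Groth.Agent.AlgGrp.K411.PreimGrp.preπ q j'
    have hsq := (Groth.Agent.AlgGrp.K411.PreimGrp.isPullback q j').map (Over.forget _)
    have hcl : IsClosedImmersion ι'.left := MorphismProperty.of_isPullback (P := @IsClosedImmersion) hsq.flip (inferInstanceAs (IsClosedImmersion j'.left))
    have hπs : Surjective π'.left := MorphismProperty.of_isPullback (P := @Surjective) hsq (inferInstanceAs (Surjective q.left))
    have hPf := K414.Kit.locallyOfFiniteType_of_closed ι'
    have hPq := K414.Kit.quasiCompact_of_closed ι'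
    obtain ⟨H, _, ρ, MP, _, jP, h1, h2, h3, h4, h5, h6, h7, h8, h9, h10, h11, h12, h13⟩ :=
      K414.Hull.exists_hull (Groth.Agent.AlgGrp.K411.PreimGrp.preObj q j')
    -- its anti-affine part maps onto `M'`
    obtain ⟨C, _, pC, c, hc1, hc2, hc3, hc4, hc5⟩ := K414.Kit.exists_image (jP ≫ π')
    obtain ⟨-, hcomm⟩ := Groth.Agent.S3293.result k M' hM'
    have hcn : AlgGrp.IsNormalHom c := by
      intro T g x
      exact ⟨x, by rw [mul_comm g, mul_inv_cancel_right]⟩
    obtain ⟨E, _, e, he1, he2, he3, he4, he5, he6, he7, he8, he9⟩ := K414.Kit.exists_quot c hcn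
    have hM's : Smooth M'.hom := Groth.Agent.S3026.result k M' hM'
    have hEs : Smooth E.hom := he9 hM's
    have hEr : IsReduced E.left := Groth.Agent.Etcore.SmoothRed.isReduced_of_smooth E.hom
    have hcov : Groth.Agent.Sga3.H739.Fpqc.Cov ρ := ⟨h5, h4, K414.Kit.quasiCompact_left ρ⟩
    obtain ⟨ψ, hψ1, hψ2⟩ := K414.Kit.exists_desc jP ρ hcov h8 (π' ≫ e) (by
      rw [← Category.assoc, ← hc3, Category.assoc, show c ≫ e = 1 from he4.w, MonObj.comp_one])
    have hψs : Surjective ψ.left := by
      have : Surjective (ρ.left ≫ ψ.left) := by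
        rw [← Over.comp_left, hψ2, Over.comp_left]; infer_instance
      exact Surjective.of_comp ρ.left ψ.left
    have hEa : IsAffine E.left := K414.Kit.isAffine_of_surjective ψ
    have he : e = 1 := by
      have h := K398.AntiAff.eq_const (M := M') (X := E) η[M'] e
      rw [h, IsMonHom.one_hom e, Hom.one_def]
    obtain ⟨t, ht⟩ := K395.Pts.exists_of_comp_eq_one he4 (𝟙 M') (by rw [he, MonObj.comp_one])
    have hcs : Surjective c.left := by
      have : Surjective (t.left ≫ c.left) := by
        rw [← Over.comp_left, ht]; exact inferInstanceAs (Surjective (𝟙 _))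
      exact Surjective.of_comp t.left c.left
    have hs : Surjective (jP ≫ π').left := by
      have := hc4.surj
      rw [← hc3, Over.comp_left]; infer_instance
    obtain ⟨g, hg⟩ := K414.Hull.exists_factor_of_max (G := G) (X := MP) η[MP] (jP ≫ ι') (by
      rw [IsMonHom.one_hom (jP ≫ ι')]) j hMmax
    rintro _ ⟨y, rfl⟩
    obtain ⟨x, rfl⟩ := hs.surj y
    refine ⟨g.left x, ?_⟩
    rw [← Scheme.Hom.comp_apply, ← Over.comp_left, ← Scheme.Hom.comp_apply, ← Over.comp_left, ← Category.assoc,
      hg, Category.assoc, Category.assoc]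
    have : ι' ≫ q = π' ≫ j' := Groth.Agent.AlgGrp.K411.PreimGrp.condition q j'
    rw [this]

end Groth.Agent.S14589
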