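import Groth.Statements.S14590
import Groth.Agent.S8041
import Groth.Agent.AlgGrp.K401.TorsGen
import Groth.Agent.AbSch.K452.PowEt
import Groth.Agent.AlgGrp.K395.Ext
-- import your own Groth.Agent.* helpers here

set_option autoImplicit false
universe u
open CategoryTheory MonoidalCategory CartesianMonoidalCategory MonObj GrpObj AlgebraicGeometry CategoryTheory.Limits
open AlgGrp

namespace Groth.Agent.S14590

/-- Let k be a field, A an abelian variety (proper, smooth, connected k-group scheme), X and Y smooth
varieties over k (smooth, separated, geometrically integral k-schemes of finite type) and f : X → Y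
an A-torsor: an action of A on X with f invariant, flat and surjective and A × X → X ×_Y X, (a, x) ↦
(a·x, x), an isomorphism. Then there exist a k-morphism φ : X → A and a positive integer n such that
φ(a·x) = φ(x) · aⁿ identically (multiplicative notation for the group law of A). -/
theorem result (k : Type u) [Field k]
    (A X Y : Over (Spec (CommRingCat.of k))) [GrpObj A] [IsProper A.hom] [Smooth A.hom] [ConnectedSpace ↥A.left]
    [Smooth X.hom] [IsSeparated X.hom] [QuasiCompact X.hom] [GeometricallyIntegral X.hom]
    [Smooth Y.hom] [IsSeparated Y.hom] [QuasiCompact Y.hom] [GeometricallyIntegral Y.hom]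
    (a : AlgGrp.Action A X) (f : X ⟶ Y) [Flat f.left] [Surjective f.left]
    (hinv : a.act ≫ f = snd A X ≫ f) (htors : IsIso (pullback.lift a.act (snd A X) hinv)) :
    ∃ (φ : X ⟶ A) (n : ℕ), 0 < n ∧
      ∀ (T : Over (Spec (CommRingCat.of k))) (b : T ⟶ A) (x : T ⟶ X), lift b x ≫ a.act ≫ φ = (x ≫ φ) * b ^ n := by
  have hXi : IsIntegral X.left := GeometricallyIntegral.isIntegral_of_subsingleton X.hom
  have hYi : IsIntegral Y.left := GeometricallyIntegral.isIntegral_of_subsingleton Y.hom
  have hA : IsCommMonObj A := K452.PowEt.isCommMonObj_field A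
  have h1 : ConnectedSpace ↥(Red.bc (K401.TorsGen.gpt Y ≫ Y.hom) A).left := by
    have hgc := K395.Ext.geometricallyConnected_hom A
    have : GeometricallyConnected (pullback.snd A.hom (K401.TorsGen.gpt Y ≫ Y.hom)) := inferInstance
    exact GeometricallyConnected.connectedSpace_of_subsingleton (pullback.snd A.hom (K401.TorsGen.gpt Y ≫ Y.hom))
  have h2 : IsCommMonObj (Red.bc (K401.TorsGen.gpt Y ≫ Y.hom) A) := inferInstance
  have h3 : Smooth (Red.bc (K401.TorsGen.gpt Y ≫ Y.hom) A).hom := by dsimp [Red.bc]; infer_instance
  have h4 : QuasiCompact (Red.bc (K401.TorsGen.gpt Y ≫ Y.hom) A).hom := by dsimp [Red.bc]; infer_instance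
  exact K401.TorsGen.exists_map A X Y a f hinv htors
    (fun V _ _ _ a' ha' => Groth.Agent.S8041.result Y.left.functionField (Red.bc (K401.TorsGen.gpt Y ≫ Y.hom) A) V a' ha')

end Groth.Agent.S14590
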