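import Groth.Statements.S14596
import Groth.Agent.AlgGrp.K402.FinQuot

set_option autoImplicit false
universe u
open CategoryTheory MonoidalCategory CartesianMonoidalCategory MonObj GrpObj AlgebraicGeometry CategoryTheory.Limits
open AlgGrp

namespace Groth.Agent.S14596

/-- Let k be a perfect field, G a k-group scheme of finite type and r₀ : G⁰_red → G the reduced neutral
component of G, i.e. a homomorphism and closed immersion from a reduced k-group scheme whose image
is the connected component of the identity. Then the homogeneous space G/G⁰_red is finite, and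
G⁰_red is the smallest closed subgroup scheme H of G such that G/H is finite: every such H contains
G⁰_red. -/
theorem result (k : Type u) [Field k] [PerfectField k]
    (G G₀ : Over (Spec (CommRingCat.of k))) [GrpObj G] [GrpObj G₀] [LocallyOfFiniteType G.hom] [QuasiCompact G.hom]
    [LocallyOfFiniteType G₀.hom] [QuasiCompact G₀.hom]
    (r₀ : G₀ ⟶ G) [IsMonHom r₀] [IsClosedImmersion r₀.left] [IsReduced G₀.left] (t : ↥((𝟙_ (Over (Spec (CommRingCat.of k)))).left))
    (hr₀ : Set.range ⇑r₀.left.base = connectedComponent ((η[G]).left.base t)) :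
    (∀ (X : Over (Spec (CommRingCat.of k))) (a : AlgGrp.Action G X) (o : 𝟙_ (Over (Spec (CommRingCat.of k))) ⟶ X), AGF.IsQuotient r₀ X a o → IsFinite X.hom) ∧
    ∀ (H : Over (Spec (CommRingCat.of k))) [GrpObj H] (h : H ⟶ G) [IsMonHom h] [IsClosedImmersion h.left]
      (X : Over (Spec (CommRingCat.of k))) (a : AlgGrp.Action G X) (o : 𝟙_ (Over (Spec (CommRingCat.of k))) ⟶ X),
      AGF.IsQuotient h X a o → IsFinite X.hom → ∃ g : G₀ ⟶ H, g ≫ h = r₀ := by
  have hc : Subsingleton (𝟙_ (Over (Spec (CommRingCat.of k)))).left :=
    inferInstanceAs (Subsingleton (Spec (CommRingCat.of k)))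
  have ht : (η[G]).left.base t = Groth.Agent.Books.AlgPts.pt η[G] := by
    rw [Subsingleton.elim t (IsLocalRing.closedPoint k : (𝟙_ (Over (Spec (CommRingCat.of k)))).left)]
    rfl
  rw [ht] at hr₀
  have hconn : ConnectedSpace G₀.left := by
    have h1 : PreconnectedSpace G₀.left := by
      rw [preconnectedSpace_iff_univ, ← r₀.left.isClosedEmbedding.isInducing.isPreconnected_image,
        Set.image_univ]
      rw [show Set.range r₀.left = _ from hr₀]
      exact isPreconnected_connectedComponent
    exact { toPreconnectedSpace := h1, toNonempty := ⟨Groth.Agent.Books.AlgPts.pt η[G₀]⟩ }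
  exact ⟨fun X a o hX => K402.FinQuot.isFinite_quotient r₀ hr₀ X a o hX,
    fun H _ h _ _ X a o hX hfin => K402.FinQuot.exists_factor r₀ h X a o hX hfin⟩

end Groth.Agent.S14596
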