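import Groth.Statements.S14607
import Groth.Agent.PicF.K247.AffLine
import Groth.Agent.Picfga.LineDescent

set_option autoImplicit false
universe u
open CategoryTheory AlgebraicGeometry CategoryTheory.Limits
open PicF

namespace Groth.Agent.S14607

open Groth.Agent.Grpsch.PicGrp Groth.Agent.Fdesc.LocGen in
/-- Let k be a field and X an integral, separated k-scheme of finite type which is seminormal, in the
sense that every point has an affine open neighbourhood whose ring of functions is seminormal (x³ =
y² implies x = a² and y = a³ for exactly one a). Then the pull-back along the first projection X ×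
A¹ → X induces a bijection from the isomorphism classes of invertible O_X-modules onto those of
invertible modules on X × A¹, i.e. Pic(X) → Pic(X × A¹) is an isomorphism. (This is the assertion
established in the course of the published proof, which deduces from it that the Picard variety of a
geometrically semi-normal proper variety is semi-abelian; semi-normality is taken in the
ring-theoretic form used by the cited input on Picard groups of polynomial rings.) -/
theorem result (k : Type u) [Field k]
    (X : Scheme.{u}) (f : X ⟶ Spec (CommRingCat.of k)) [IsIntegral X] [IsSeparated f] [LocallyOfFiniteType f] [QuasiCompact f]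
    (hX : HTop.IsSeminormal X) :
    Set.BijOn (PicF.pullCl (pullback.fst f (𝔸(PUnit.{u + 1}; Spec (CommRingCat.of k)) ↘ Spec (CommRingCat.of k))))
      {c : PicF.Cl X | PicF.IsInvertibleCl c}
      {c : PicF.Cl (pullback f (𝔸(PUnit.{u + 1}; Spec (CommRingCat.of k)) ↘ Spec (CommRingCat.of k))) | PicF.IsInvertibleCl c} := by
  have hN : IsLocallyNoetherian X := LocallyOfFiniteType.isLocallyNoetherian f
  refine ⟨?_, ?_, ?_⟩
  · rintro _ ⟨L, rfl, hL⟩
    exact ⟨_, rfl, isInvertible_pullback _ hL⟩
  · rintro _ ⟨L, rfl, hL⟩ _ ⟨L', rfl, hL'⟩ h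
    obtain ⟨e⟩ := Picfga.LineDescent.cl_eq_iff.1 h
    have h1 : pull (pullback.fst f (𝔸(PUnit.{u + 1}; Spec (CommRingCat.of k)) ↘ Spec (CommRingCat.of k))) (mk L hL) =
        pull _ (mk L' hL') := mk_congr e
    exact Picfga.LineDescent.cl_eq_iff.2 ((mk_eq_iff hL hL').1 (K247.AffLine.injective_pull f h1))
  · rintro _ ⟨L, rfl, hL⟩
    obtain ⟨d, hd⟩ := K247.AffLine.surjective_pull f hX (mk L hL)
    obtain ⟨M, hM, rfl⟩ := exists_mk d
    exact ⟨PicF.cl M, ⟨M, rfl, hM⟩, Picfga.LineDescent.cl_eq_iff.2 ((mk_eq_iff (isInvertible_pullback _ hM) hL).1 hd)⟩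

end Groth.Agent.S14607
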