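import Groth.Statements.S14608
import Groth.Agent.CAlg.K85.SplitLoc
import Mathlib.RingTheory.LocalProperties.Projective

set_option autoImplicit false
universe u v
open CAlg

namespace Groth.Agent.S14608

open TensorProduct K85.SplitLoc

theorem injective_of_section (A : Type u) [CommRing A]
    (p : Ideal A) [p.IsPrime] {X Y : Type v} [AddCommGroup X] [Module A X] [AddCommGroup Y] [Module A Y]
    (i : X →ₗ[A] Y) (r : Y →ₗ[A] X) (s : A) (hs : s ∉ p) (h : r ∘ₗ i = s • LinearMap.id) :
    Function.Injective (LinearMap.lTensor p.ResidueField i) := by
  refine lTensor_injective_of_retraction i r s h p.ResidueField ?_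
  intro x hx
  have h1 : algebraMap A p.ResidueField s ≠ 0 := by
    rwa [Ne, Ideal.algebraMap_residueField_eq_zero]
  have h2 : (algebraMap A p.ResidueField s) • x = 0 := by rw [algebraMap_smul, hx]
  exact (smul_eq_zero.1 h2).resolve_left h1

theorem free_of_projective (A : Type u) [CommRing A] (p : Ideal A) [p.IsPrime] (X : Type v)
    [AddCommGroup X] [Module A X] [Module.Finite A X]
    [Module.Projective (Localization.AtPrime p) (LocalizedModule p.primeCompl X)] :
    Module.Free (Localization.AtPrime p) (LocalizedModule p.primeCompl X) :=
  Module.free_of_flat_of_isLocalRing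

theorem projective_loc (A : Type u) [CommRing A] (p : Ideal A) [p.IsPrime] (X : Type v)
    [AddCommGroup X] [Module A X] [Module.Free A X] :
    Module.Projective (Localization.AtPrime p) (LocalizedModule p.primeCompl X) :=
  Module.projective_of_isLocalizedModule p.primeCompl (LocalizedModule.mkLinearMap p.primeCompl X)

section

variable (A : Type u) [CommRing A] [IsNoetherianRing A]
    (M : Type v) (F : Type v) [AddCommGroup M] [Module A M] [Module.Finite A M]
    [AddCommGroup F] [Module A F] [Module.Finite A F] [Module.Free A F]
    (δ : M →ₗ[A] F) (p : Ideal A) [p.IsPrime]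

/-- (a) gives a retraction up to `s ∉ p` of `im δ → F`. -/
theorem exists_retraction (h : Function.Exact (LinearMap.lTensor p.ResidueField (LinearMap.ker δ).subtype)
        (LinearMap.lTensor p.ResidueField δ)) :
    ∃ s ∉ p, ∃ r : F →ₗ[A] LinearMap.range δ, r ∘ₗ (LinearMap.range δ).subtype = s • LinearMap.id := by
  have h1 := injective_lTensor_range δ p.ResidueField h
  obtain ⟨s, hs, r, hr⟩ :=
    Groth.Agent.Ega41.SplitSpread.exists_leftInverse_of_lTensor_residueField_injective
      (LinearMap.range δ).subtype p h1
  exact ⟨s, hs, r, LinearMap.ext hr⟩

theorem free_range (h : Function.Exact (LinearMap.lTensor p.ResidueField (LinearMap.ker δ).subtype)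
        (LinearMap.lTensor p.ResidueField δ)) :
    Module.Free (Localization.AtPrime p) (LocalizedModule p.primeCompl (LinearMap.range δ)) := by
  obtain ⟨s, hs, r, hr⟩ := exists_retraction A M F δ p h
  have := projective_loc A p F
  have : Module.Projective (Localization.AtPrime p) (LocalizedModule p.primeCompl (LinearMap.range δ)) :=
    projective_of_section p.primeCompl r (LinearMap.range δ).subtype s hs hr
  exact free_of_projective A p _

theorem free_coker (h : Function.Exact (LinearMap.lTensor p.ResidueField (LinearMap.ker δ).subtype)
        (LinearMap.lTensor p.ResidueField δ)) :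
    Module.Free (Localization.AtPrime p) (LocalizedModule p.primeCompl (F ⧸ LinearMap.range δ)) := by
  obtain ⟨s, hs, r, hr⟩ := exists_retraction A M F δ p h
  have := projective_loc A p F
  let σ : (F ⧸ LinearMap.range δ) →ₗ[A] F :=
    (LinearMap.range δ).liftQ (s • LinearMap.id - (LinearMap.range δ).subtype ∘ₗ r) (by
      intro x hx
      have := LinearMap.congr_fun hr ⟨x, hx⟩
      simp only [LinearMap.comp_apply, Submodule.subtype_apply, LinearMap.smul_apply,
        LinearMap.id_apply] at this
      rw [LinearMap.mem_ker]
      simp [this])
  have hσ : (LinearMap.range δ).mkQ ∘ₗ σ = s • LinearMap.id := by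
    ext x
    simp only [LinearMap.comp_apply, σ, Submodule.mkQ_apply, Submodule.liftQ_apply,
      LinearMap.sub_apply, LinearMap.smul_apply, LinearMap.id_apply, Submodule.subtype_apply,
      Submodule.Quotient.mk_sub, Submodule.Quotient.mk_smul]
    have : (Submodule.Quotient.mk ((r x : LinearMap.range δ) : F) : F ⧸ LinearMap.range δ) = 0 :=
      (Submodule.Quotient.mk_eq_zero _).2 (r x).2
    rw [this, sub_zero]
  have : Module.Projective (Localization.AtPrime p)
      (LocalizedModule p.primeCompl (F ⧸ LinearMap.range δ)) :=
    projective_of_section p.primeCompl (LinearMap.range δ).mkQ σ s hs hσ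
  exact free_of_projective A p _

theorem exact_of_free (h : Module.Free (Localization.AtPrime p)
        (LocalizedModule p.primeCompl (F ⧸ LinearMap.range δ))) :
    Function.Exact (LinearMap.lTensor p.ResidueField (LinearMap.ker δ).subtype)
        (LinearMap.lTensor p.ResidueField δ) ∧
        Function.Injective (LinearMap.lTensor p.ResidueField (LinearMap.ker δ).subtype) := by
  have hfp : Module.FinitePresentation A (F ⧸ LinearMap.range δ) :=
    Module.finitePresentation_of_finite A _
  obtain ⟨s, hs, σ, hσ⟩ := exists_section p.primeCompl (LinearMap.range δ).mkQ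
    (Submodule.mkQ_surjective _) inferInstance
  obtain ⟨r, hr⟩ := exists_retraction_of_section (LinearMap.range δ) s σ hσ
  have hex := exact_lTensor_ker δ p.ResidueField (injective_of_section A p _ r s hs hr)
  refine ⟨hex, ?_⟩
  have hfp' : Module.FinitePresentation A (LinearMap.range δ) :=
    Module.finitePresentation_of_finite A _
  have hfree := free_range A M F δ p hex
  obtain ⟨t, ht, τ, hτ⟩ := exists_section p.primeCompl δ.rangeRestrict δ.surjective_rangeRestrict
    inferInstance
  obtain ⟨r', hr'⟩ := exists_retraction_ker δ t τ hτ
  exact injective_of_section A p _ r' t ht hr'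

end

open TensorProduct in
/-- Let A be a Noetherian ring, M a finitely generated A-module, F a finitely generated free A-module, δ
: M → F an A-linear map and p a prime of A with residue field κ(p). The following are equivalent:
(a) the natural map (ker δ) ⊗ κ(p) → ker(δ ⊗ κ(p)) is surjective (its image is the whole kernel);
(b) that map is bijective; (c) (F / im δ) localized at p is a free module over the local ring A_p.
Moreover, if these hold then (im δ) localized at p is free over A_p. (The published statement takes
M to be the cokernel of a map of finitely generated free modules; over a Noetherian ring this is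
every finitely generated M, which is what this row takes.) -/
theorem result (A : Type u) [CommRing A] [IsNoetherianRing A]
    (M : Type v) (F : Type v) [AddCommGroup M] [Module A M] [Module.Finite A M]
    [AddCommGroup F] [Module A F] [Module.Finite A F] [Module.Free A F]
    (δ : M →ₗ[A] F) (p : Ideal A) [p.IsPrime] :
    [ Function.Exact (LinearMap.lTensor p.ResidueField (LinearMap.ker δ).subtype)
        (LinearMap.lTensor p.ResidueField δ),
      Function.Exact (LinearMap.lTensor p.ResidueField (LinearMap.ker δ).subtype)
        (LinearMap.lTensor p.ResidueField δ) ∧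
        Function.Injective (LinearMap.lTensor p.ResidueField (LinearMap.ker δ).subtype),
      Module.Free (Localization.AtPrime p)
        (LocalizedModule p.primeCompl (F ⧸ LinearMap.range δ)) ].TFAE ∧
    (Function.Exact (LinearMap.lTensor p.ResidueField (LinearMap.ker δ).subtype)
        (LinearMap.lTensor p.ResidueField δ) →
      Module.Free (Localization.AtPrime p)
        (LocalizedModule p.primeCompl (LinearMap.range δ))) := by
  refine ⟨?_, free_range A M F δ p⟩
  tfae_have 2 → 1 := And.left
  tfae_have 1 → 3 := free_coker A M F δ p
  tfae_have 3 → 2 := exact_of_free A M F δ p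
  tfae_finish

end Groth.Agent.S14608
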