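import Groth.Statements.S14609
import Groth.Agent.CAlg.K85.KerRank

set_option autoImplicit false
universe u v
open CAlg

namespace Groth.Agent.S14609

open TensorProduct Groth.Agent.Ega3A.FiberRank

open TensorProduct in
/-- Let A be a Noetherian ring, M a finitely generated A-module, F a finitely generated free A-module
and δ : M → F an A-linear map. Then the function on Spec A sending a prime p with residue field κ(p)
to the κ(p)-dimension of the kernel of δ ⊗ κ(p) : M ⊗ κ(p) → F ⊗ κ(p) is upper semicontinuous. -/
theorem result (A : Type u) [CommRing A]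
    [IsNoetherianRing A] (M : Type v) (F : Type v) [AddCommGroup M] [Module A M] [Module.Finite A M]
    [AddCommGroup F] [Module A F] [Module.Finite A F] [Module.Free A F] (δ : M →ₗ[A] F) :
    UpperSemicontinuous (fun x : PrimeSpectrum A =>
      Module.finrank x.asIdeal.ResidueField
        (LinearMap.ker (δ.baseChange x.asIdeal.ResidueField))) := by
  intro x y hy
  have h1 : ∀ᶠ x' in nhds x, fiberRank M x' < fiberRank M x + 1 :=
    upperSemicontinuous_fiberRank (M := M) x _ (Nat.lt_succ_self _)
  have h2 : ∀ᶠ x' in nhds x, fiberRank (F ⧸ LinearMap.range δ) x' <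
      fiberRank (F ⧸ LinearMap.range δ) x + 1 :=
    upperSemicontinuous_fiberRank (M := F ⧸ LinearMap.range δ) x _ (Nat.lt_succ_self _)
  filter_upwards [h1, h2] with x' h1' h2'
  have h3 := K85.KerRank.finrank_ker_add δ x
  have h4 := K85.KerRank.finrank_ker_add δ x'
  simp only at hy ⊢
  omega

end Groth.Agent.S14609
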