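import Groth.Statements.S14610
import Groth.Agent.CAlg.K85.KerRank
import Groth.Agent.CAlg.K85.SplitLoc

set_option autoImplicit false
universe u v
open CAlg

namespace Groth.Agent.S14610

open TensorProduct Groth.Agent.Ega3A.FiberRank K85.SplitLoc

open TensorProduct in
/-- Let A be a reduced Noetherian ring, M a finitely generated A-module, F a finitely generated free
A-module and δ : M → F an A-linear map such that the function p ↦ dim_{κ(p)} ker(δ ⊗ κ(p)) is
locally constant on Spec A. Then M, ker δ and coker δ = F / im δ are projective A-modules, and for
every A-module N the natural map (ker δ) ⊗ N → M ⊗ N is injective with image equal to the kernel of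
δ ⊗ N. -/
theorem result (A : Type u) [CommRing A]
    [IsNoetherianRing A] [IsReduced A] (M : Type v) (F : Type v) [AddCommGroup M] [Module A M]
    [Module.Finite A M] [AddCommGroup F] [Module A F] [Module.Finite A F] [Module.Free A F]
    (δ : M →ₗ[A] F)
    (h : IsLocallyConstant (fun x : PrimeSpectrum A =>
      Module.finrank x.asIdeal.ResidueField
        (LinearMap.ker (δ.baseChange x.asIdeal.ResidueField)))) :
    Module.Projective A M ∧ Module.Projective A (LinearMap.ker δ) ∧
      Module.Projective A (F ⧸ LinearMap.range δ) ∧
      ∀ (N : Type v) [AddCommGroup N] [Module A N],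
        Function.Injective (LinearMap.rTensor N (LinearMap.ker δ).subtype) ∧
        Function.Exact (LinearMap.rTensor N (LinearMap.ker δ).subtype) (LinearMap.rTensor N δ) := by
  have hsum : IsLocallyConstant (fiberRank (R := A) M + fiberRank (F ⧸ LinearMap.range δ)) := by
    have : (fiberRank (R := A) M + fiberRank (F ⧸ LinearMap.range δ)) =
        (fun n : ℕ => n + Module.finrank A F) ∘ (fun x : PrimeSpectrum A =>
          Module.finrank x.asIdeal.ResidueField
            (LinearMap.ker (δ.baseChange x.asIdeal.ResidueField))) := by
      funext x
      exact (K85.KerRank.finrank_ker_add δ x).symm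
    rw [this]
    exact h.comp _
  have hM : Module.Projective A M := by
    have : Module.FinitePresentation A M := Module.finitePresentation_of_finite A _
    exact projective_of_isReduced (isLocallyConstant_of_usc_of_add
      upperSemicontinuous_fiberRank upperSemicontinuous_fiberRank hsum)
  have hC : Module.Projective A (F ⧸ LinearMap.range δ) := by
    have : Module.FinitePresentation A (F ⧸ LinearMap.range δ) :=
      Module.finitePresentation_of_finite A _
    rw [add_comm] at hsum
    exact projective_of_isReduced (isLocallyConstant_of_usc_of_add
      upperSemicontinuous_fiberRank upperSemicontinuous_fiberRank hsum)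
  obtain ⟨σ, hσ⟩ := Module.projective_lifting_property (LinearMap.range δ).mkQ LinearMap.id
    (Submodule.mkQ_surjective _)
  obtain ⟨r, hr⟩ := exists_retraction_of_section (LinearMap.range δ) (1 : A) σ (by rw [hσ, one_smul])
  have hI : Module.Projective A (LinearMap.range δ) :=
    Module.Projective.of_split (LinearMap.range δ).subtype r (by rw [hr, one_smul])
  obtain ⟨τ, hτ⟩ := Module.projective_lifting_property δ.rangeRestrict LinearMap.id
    δ.surjective_rangeRestrict
  obtain ⟨r', hr'⟩ := exists_retraction_ker δ (1 : A) τ (by rw [hτ, one_smul])
  have hK : Module.Projective A (LinearMap.ker δ) :=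
    Module.Projective.of_split (LinearMap.ker δ).subtype r' (by rw [hr', one_smul])
  refine ⟨hM, hK, hC, ?_⟩
  intro N _ _
  have h1 : Function.Injective (LinearMap.lTensor N (LinearMap.ker δ).subtype) :=
    lTensor_injective_of_retraction _ r' (1 : A) hr' N (fun x hx => by rwa [one_smul] at hx)
  have h2 : Function.Injective (LinearMap.lTensor N (LinearMap.range δ).subtype) :=
    lTensor_injective_of_retraction _ r (1 : A) hr N (fun x hx => by rwa [one_smul] at hx)
  have h3 := exact_lTensor_ker δ N h2
  exact ⟨(LinearMap.lTensor_inj_iff_rTensor_inj _ _).1 h1,
    (LinearMap.rTensor_exact_iff_lTensor_exact N).2 h3⟩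

end Groth.Agent.S14610
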