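import Groth.Statements.S14611
import Groth.Agent.FlatCx.K97.LocalAdic

set_option autoImplicit false
universe u
open FlatCx

namespace Groth.Agent.S14611

open CategoryTheory CategoryTheory.Limits in
/-- Let A be a Noetherian ring, Q a cochain complex whose terms are finitely generated projective
A-modules, and d an integer such that H^p(Q) = 0 for every p < d and H^p(Q ⊗_A A/m) = 0 for every p
< d and every maximal ideal m of A. Then Q^d / im(Q^{d-1} → Q^d), the degree-d term of the
truncation τ_{≥ d} Q, is a projective A-module, so that τ_{≥ d} Q is again a complex of projective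
modules. (The published statement also asserts that Q → τ_{≥ d} Q is a quasi-isomorphism when H^p(Q)
= 0 for p < d; this row omits that clause.) -/
theorem result (A : Type u) [CommRing A] [IsNoetherianRing A]
    (Q : CochainComplex (ModuleCat.{u} A) ℤ)
    (hQ : ∀ i, Module.Finite A (Q.X i) ∧ Module.Projective A (Q.X i)) (d : ℤ)
    (h1 : ∀ p < d, IsZero (Q.homology p))
    (h2 : ∀ (m : Ideal A) [m.IsMaximal], ∀ p < d,
      IsZero ((CohIII.tensorObj Q (ModuleCat.of A (A ⧸ m))).homology p)) :
    Module.Projective A (Q.opcycles d) := by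
  have hrel : (ComplexShape.up ℤ).Rel (d - 1) d := by simp
  have h1 := (hQ (d - 1)).1
  have h3 := (hQ d).1
  have h4 := (hQ d).2
  have h5 : Module.Finite A (Q.opcycles (d - 1)) := Ega3A.LocalT.finite_opcycles Q (d - 1)
  refine K97.LocalAdic.projective_coker (Q.fromOpcycles (d - 1) d).hom (Q.pOpcycles d).hom
    (Ega3A.LocalT.pOpcycles_surjective Q d) (Ega3A.LocalT.exact_fromOpcycles_pOpcycles Q hrel) ?_
  intro m hm
  have h6 : IsZero ((CohIII.TFun Q (d - 1)).obj (ModuleCat.of A (A ⧸ m))) := h2 m (d - 1) (by omega)
  rw [Ega3A.LocalT.isZero_T_iff Q (d - 1) d ((ComplexShape.up ℤ).next_eq' hrel)] at h6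
  rw [LinearMap.lTensor_inj_iff_rTensor_inj]
  exact h6

end Groth.Agent.S14611
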