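import Groth.Statements.S14612
import Groth.Agent.Ega3A.FlatSES

set_option autoImplicit false
universe u
open FlatCx

namespace Groth.Agent.S14612

open CategoryTheory CategoryTheory.Limits in
/-- Let A be a commutative ring and F a cochain complex of flat A-modules which is bounded above (F^i =
0 for all large i) and whose cohomology H^p(F) vanishes for every p > d. Then the module of
d-cocycles Z^d = ker(F^d → F^{d+1}) is flat over A; hence the truncation τ_{≤ d} F is again a
complex of flat modules (and τ_{≤ d} F → F is a quasi-isomorphism, which is not restated).
Boundedness cannot be dropped. -/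
theorem result (A : Type u) [CommRing A]
    (F : CochainComplex (ModuleCat.{u} A) ℤ) (hF : ∀ i, Module.Flat A (F.X i))
    (hb : ∃ b : ℤ, ∀ i, b < i → IsZero (F.X i)) (d : ℤ) (hac : ∀ p, d < p → IsZero (F.homology p)) :
    Module.Flat A (F.cycles d) := by
  obtain ⟨b, hb⟩ := hb
  have key : ∀ n : ℕ, ∀ i : ℤ, d ≤ i → b < i + n → Module.Flat A (F.cycles i) := by
    intro n
    induction n with
    | zero =>
      intro i hi hbi
      have h0 : IsZero (F.X i) := hb i (by simpa using hbi)
      have h1 : IsZero (F.cycles i) := IsZero.of_mono (F.iCycles i) h0
      have : Subsingleton (F.cycles i) := ModuleCat.subsingleton_of_isZero h1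
      infer_instance
    | succ n ih =>
      intro i hi hbi
      have h1 : Module.Flat A (F.cycles (i + 1)) := ih (i + 1) (by omega) (by push_cast at hbi; omega)
      have h2 := hF i
      have hinj : Function.Injective (F.iCycles i).hom := (ModuleCat.mono_iff_injective _).1 inferInstance
      have hinj' : Function.Injective (F.iCycles (i + 1)).hom :=
        (ModuleCat.mono_iff_injective _).1 inferInstance
      have hex : Function.Exact (F.iCycles i).hom (F.d i (i + 1)).hom := by
        have h1 : (ShortComplex.mk _ _ (F.iCycles_d i (i + 1))).Exact :=
          ShortComplex.exact_of_f_is_kernel _ (F.cyclesIsKernel i (i + 1) (by simp))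
        exact (ShortComplex.ShortExact.moduleCat_exact_iff_function_exact _).1 h1
      have hcomp : ∀ x, (F.iCycles (i + 1)).hom ((F.toCycles i (i + 1)).hom x) = (F.d i (i + 1)).hom x :=
        fun x => congr($(F.toCycles_i i (i + 1)).hom x)
      have hsurj : Function.Surjective (F.toCycles i (i + 1)).hom := by
        have h3 : (ShortComplex.mk _ _ (F.toCycles_comp_homologyπ i (i + 1))).Exact :=
          ShortComplex.exact_of_g_is_cokernel _ (F.homologyIsCokernel i (i + 1) (by simp))
        have h4 := (ShortComplex.ShortExact.moduleCat_exact_iff_function_exact _).1 h3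
        intro y
        have h5 : Subsingleton (F.homology (i + 1)) :=
          ModuleCat.subsingleton_of_isZero (hac (i + 1) (by omega))
        exact (h4 y).1 (Subsingleton.elim _ _)
      refine Ega3A.FlatSES.flat_left (f := (F.iCycles i).hom) (g := (F.toCycles i (i + 1)).hom) hinj ?_ hsurj
      intro x
      rw [← hex x]
      constructor
      · intro hx
        rw [← hcomp, hx, map_zero]
      · intro hx
        apply hinj'
        rw [hcomp, hx, map_zero]
  exact key (b + 1 - d).toNat d le_rfl (by omega)

end Groth.Agent.S14612
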