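import Groth.Statements.S14614
import Groth.Agent.Mor.K387.MonoSpec
import Groth.Agent.LoccohA.Chevalley
import Mathlib.AlgebraicGeometry.Noetherian
import Mathlib.RingTheory.Filtration

set_option autoImplicit false
universe u
open Mor

namespace Groth.Agent.S14614

open CategoryTheory AlgebraicGeometry IsLocalRing in
/-- A morphism from the spectrum of a local ring factors through the stalk at the image of the closed
point. -/
theorem exists_stalk_fac {Z : Scheme.{u}} {A : Type u} [CommRing A] [IsLocalRing A]
    (g : Spec (CommRingCat.of A) ⟶ Z) (z : Z) (hz : g (closedPoint A) = z) :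
    ∃ φ : Z.presheaf.stalk z ⟶ CommRingCat.of A, Spec.map φ ≫ Z.fromSpecStalk z = g := by
  subst hz
  exact ⟨_, Scheme.Spec_stalkClosedPointTo_fromSpecStalk g⟩

open CategoryTheory AlgebraicGeometry IsLocalRing in
/-- If `Spec A ⟶ Spec O ⟶ S` lifts to `Z` then the kernel of the stalk map is contained in the kernel
of `O ⟶ A`. -/
theorem ker_le_ker {S Z : Scheme.{u}} (i : Z ⟶ S) [IsClosedImmersion i] (z : Z)
    {A : Type u} [CommRing A] [IsLocalRing A] (φ : S.presheaf.stalk (i z) ⟶ CommRingCat.of A)
    (hφ : IsLocalHom φ.hom)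
    (h : ∀ (g : Spec (CommRingCat.of A) ⟶ S),
      (∃ t : Spec (CommRingCat.of (IsLocalRing.ResidueField A)) ⟶ Z,
          t ≫ i = Spec.map (CommRingCat.ofHom (IsLocalRing.residue A)) ≫ g) →
        ∃ g' : Spec (CommRingCat.of A) ⟶ Z, g' ≫ i = g) :
    RingHom.ker (i.stalkMap z).hom ≤ RingHom.ker φ.hom := by
  have hg : (Spec.map φ ≫ S.fromSpecStalk (i z)) (closedPoint A) = i z := by
    have h1 : Spec.map φ (closedPoint A) = closedPoint (S.presheaf.stalk (i z)) :=
      comap_closedPoint φ.hom
    exact (Scheme.Hom.comp_apply _ _ _).trans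
      ((congrArg (S.fromSpecStalk (i z)) h1).trans Scheme.fromSpecStalk_closedPoint)
  obtain ⟨g', hg'⟩ := h (Spec.map φ ≫ S.fromSpecStalk (i z)) (K387.MonoSpec.exists_lift_field i _ z
    ((congrArg (Spec.map φ ≫ S.fromSpecStalk (i z))
      (K387.Points.specMap_residue_closedPoint (R := A))).trans hg))
  have hz : g' (closedPoint A) = z := by
    apply i.isClosedEmbedding.injective
    have h1 : (g' ≫ i) (closedPoint A) = i z := by rw [hg']; exact hg
    exact h1
  obtain ⟨φ', hφ'⟩ := exists_stalk_fac g' z hz
  have h1 : i.stalkMap z ≫ φ' = φ := by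
    apply Spec.map_injective
    rw [← cancel_mono (S.fromSpecStalk (i z)), Spec.map_comp, Category.assoc,
      Scheme.SpecMap_stalkMap_fromSpecStalk, ← Category.assoc, hφ', hg']
  intro a ha
  rw [RingHom.mem_ker] at ha ⊢
  rw [← h1]
  change φ'.hom ((i.stalkMap z).hom a) = 0
  rw [ha, map_zero]

/-- The quotients of a Noetherian local ring by powers of the maximal ideal. -/
theorem quotient_data (O : Type u) [CommRing O] [IsLocalRing O] [IsNoetherianRing O] (n : ℕ) :
    IsArtinianRing (O ⧸ IsLocalRing.maximalIdeal O ^ (n + 1)) ∧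
      ∃ _ : IsLocalRing (O ⧸ IsLocalRing.maximalIdeal O ^ (n + 1)),
        IsLocalHom (Ideal.Quotient.mk (IsLocalRing.maximalIdeal O ^ (n + 1))) := by
  have hI : IsLocalRing.maximalIdeal O ^ (n + 1) ≠ ⊤ :=
    fun h1 ↦ (IsLocalRing.maximalIdeal.isMaximal O).ne_top
      (top_le_iff.1 (h1.symm.le.trans (Ideal.pow_le_self (Nat.succ_ne_zero n))))
  have hA2 : Nontrivial (O ⧸ IsLocalRing.maximalIdeal O ^ (n + 1)) :=
    Ideal.Quotient.nontrivial_iff.2 hI
  refine ⟨Groth.Agent.LoccohA.Chevalley.isArtinianRing_quotient_pow (A := O) (n + 1)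
    (Nat.succ_ne_zero n), IsLocalRing.of_surjective' _ Ideal.Quotient.mk_surjective, ?_⟩
  exact .of_surjective _ Ideal.Quotient.mk_surjective

open CategoryTheory AlgebraicGeometry in
/-- Let S be a locally Noetherian scheme and i : Z → S a closed immersion with the following property:
for every Artinian local ring A with residue field k and every morphism g : Spec A → S, if the
restriction Spec k → Spec A → S of g factors through i then so does g. Then i is also an open
immersion, i.e. the closed subscheme Z is open in S as a subscheme. (The published hypothesis is an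
equivalence; its other direction always holds, so this row assumes only the implication.) -/
theorem result (S : Scheme.{u}) [IsLocallyNoetherian S]
    {Z : Scheme.{u}} (i : Z ⟶ S) [IsClosedImmersion i]
    (h : ∀ (A : Type u) [CommRing A] [IsArtinianRing A] [IsLocalRing A] (g : Spec (CommRingCat.of A) ⟶ S),
      (∃ t : Spec (CommRingCat.of (IsLocalRing.ResidueField A)) ⟶ Z,
          t ≫ i = Spec.map (CommRingCat.ofHom (IsLocalRing.residue A)) ≫ g) →
        ∃ g' : Spec (CommRingCat.of A) ⟶ Z, g' ≫ i = g) :
    IsOpenImmersion i := by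
  have h1 : Flat i := by
    apply Flat.of_stalkMap
    intro z
    have hN : IsNoetherianRing (S.presheaf.stalk (i z)) := inferInstance
    have hinj : Function.Injective (i.stalkMap z).hom := by
      rw [RingHom.injective_iff_ker_eq_bot, eq_bot_iff,
        ← Ideal.iInf_pow_eq_bot_of_isLocalRing (IsLocalRing.maximalIdeal (S.presheaf.stalk (i z)))
          (IsLocalRing.maximalIdeal.isMaximal _).ne_top]
      refine le_iInf fun n ↦ ?_
      cases n with
      | zero => rw [pow_zero, Ideal.one_eq_top]; exact le_top
      | succ n =>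
        obtain ⟨h1, h2, h3⟩ := quotient_data (S.presheaf.stalk (i z)) n
        have h4 := ker_le_ker i z (CommRingCat.ofHom (Ideal.Quotient.mk
          (IsLocalRing.maximalIdeal (S.presheaf.stalk (i z)) ^ (n + 1)))) h3 (fun g ↦ h _ g)
        exact fun a ha ↦ Ideal.Quotient.eq_zero_iff_mem.1 (h4 ha)
    have hsurj : Function.Surjective (i.stalkMap z).hom := i.stalkMap_surjective z
    exact RingHom.Flat.of_bijective ⟨hinj, hsurj⟩
  have h2 : LocallyOfFinitePresentation i := inferInstance
  exact IsOpenImmersion.of_flat_of_mono i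

end Groth.Agent.S14614
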