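import Groth.Statements.S14616
import Groth.Agent.Formal2.K575.Towers

set_option autoImplicit false
universe u
open Formal2

namespace Groth.Agent.S14616

open CategoryTheory in
/-- Let … → G_2 → G_1 → G_0 be an inverse system of abelian groups with transition maps t_n : G_{n+1} →
G_n which satisfies the Mittag-Leffler condition: for every i there is j ≥ i such that for all k ≥ j
the images of G_k → G_i and G_j → G_i coincide. Then lim¹ G_n = 0, i.e. the map (x_n) ↦ (x_n −
t_n(x_{n+1})) on ∏ G_n is surjective. -/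
theorem result (G : ℕ → Type u) [∀ n, AddCommGroup (G n)]
    (t : ∀ n, G (n + 1) →+ G n)
    (h : (Functor.ofOpSequence (X := fun n => AddCommGrpCat.of (G n))
      (fun n => AddCommGrpCat.ofHom (t n)) ⋙ forget AddCommGrpCat).IsMittagLeffler) :
    Function.Surjective (Formal2.towerDiff G t) := by
  have key : ∀ n : ℕ, ∃ m : ℕ, ∃ hm : n ≤ m, ∀ (z : G m) (k : ℕ) (hk : n ≤ k), ∃ w : G k,
      K575.Towers.s t hk w = K575.Towers.s t hm z := by
    intro n
    obtain ⟨⟨m⟩, f, hf⟩ := h (Opposite.op n)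
    refine ⟨m, leOfHom f.unop, fun z k hk => ?_⟩
    obtain ⟨w, hw⟩ := hf (k := Opposite.op k) (homOfLE hk).op ⟨z, rfl⟩
    exact ⟨w, hw⟩
  refine K575.Towers.surjective_towerDiff t
    (fun n => ⨅ k : {k : ℕ // n ≤ k}, (K575.Towers.s t k.2).range) (fun n x hx => ?_) (fun n => ?_)
  · -- surjectivity on stable images
    obtain ⟨m, hm, hz'⟩ := key (n + 1)
    rw [AddSubgroup.mem_iInf] at hx
    obtain ⟨z, hz⟩ := hx ⟨m, (Nat.le_succ n).trans hm⟩
    refine ⟨K575.Towers.s t hm z, ?_, ?_⟩
    · rw [AddSubgroup.mem_iInf]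
      rintro ⟨k, hk⟩
      exact hz' z k hk
    · rw [K575.Towers.t_s]
      exact hz
  · obtain ⟨m, hm, hz'⟩ := key n
    refine ⟨m, hm, fun k hmk hnk z => ?_⟩
    rw [AddSubgroup.mem_iInf]
    rintro ⟨l, hl⟩
    have h0 : K575.Towers.s t hnk z = K575.Towers.s t hm (K575.Towers.s t hmk z) :=
      (K575.Towers.s_trans t hm hmk z).symm
    rw [h0]
    exact hz' _ l hl

end Groth.Agent.S14616
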