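import Groth.Statements.S14617
import Groth.Agent.Formal2.K575.Towers

set_option autoImplicit false
universe u
open Formal2

namespace Groth.Agent.S14617

/-- Let 0 → (G'_n) → (G_n) → (G''_n) → 0 be a short exact sequence of inverse systems of abelian groups
indexed by ℕ: maps u_n : G'_n → G_n and v_n : G_n → G''_n commuting with the transition maps, with
u_n injective, v_n surjective and ker v_n = im u_n for every n. Writing lim and lim¹ for the kernel
and cokernel of (x_n) ↦ (x_n − t_n(x_{n+1})) on the product, there is an exact sequence 0 → lim G' →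
lim G → lim G'' → lim¹ G' → lim¹ G → lim¹ G'' → 0 in which the four outer maps are the ones induced
by u and v on products and the connecting map δ sends a compatible sequence (z_n) to the class of
the unique (w_n) with u_n(w_n) = y_n − t_n(y_{n+1}), for any levelwise lift (y_n) of (z_n). -/
theorem result (G' G G'' : ℕ → Type u)
    [∀ n, AddCommGroup (G' n)] [∀ n, AddCommGroup (G n)] [∀ n, AddCommGroup (G'' n)]
    (t' : ∀ n, G' (n + 1) →+ G' n) (t : ∀ n, G (n + 1) →+ G n) (t'' : ∀ n, G'' (n + 1) →+ G'' n)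
    (u : ∀ n, G' n →+ G n) (v : ∀ n, G n →+ G'' n)
    (hu : ∀ n x, t n (u (n + 1) x) = u n (t' n x)) (hv : ∀ n x, t'' n (v (n + 1) x) = v n (t n x))
    (hinj : ∀ n, Function.Injective (u n)) (hsurj : ∀ n, Function.Surjective (v n))
    (hex : ∀ n, (v n).ker = (u n).range) :
    ∃ (α : Formal2.limZero G' t' →+ Formal2.limZero G t) (β : Formal2.limZero G t →+ Formal2.limZero G'' t'')
      (δ : Formal2.limZero G'' t'' →+ Formal2.limOne G' t')
      (ε : Formal2.limOne G' t' →+ Formal2.limOne G t) (ζ : Formal2.limOne G t →+ Formal2.limOne G'' t''),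
      (∀ (x : Formal2.limZero G' t') (n : ℕ), (α x : ∀ n, G n) n = u n ((x : ∀ n, G' n) n)) ∧
      (∀ (x : Formal2.limZero G t) (n : ℕ), (β x : ∀ n, G'' n) n = v n ((x : ∀ n, G n) n)) ∧
      (∀ (z : Formal2.limZero G'' t'') (y : ∀ n, G n) (w : ∀ n, G' n),
          (∀ n, v n (y n) = (z : ∀ n, G'' n) n) → (∀ n, u n (w n) = Formal2.towerDiff G t y n) →
            δ z = (QuotientAddGroup.mk w : Formal2.limOne G' t')) ∧
      (∀ y : ∀ n, G' n, ε (QuotientAddGroup.mk y : Formal2.limOne G' t') =
          (QuotientAddGroup.mk (fun n => u n (y n)) : Formal2.limOne G t)) ∧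
      (∀ y : ∀ n, G n, ζ (QuotientAddGroup.mk y : Formal2.limOne G t) =
          (QuotientAddGroup.mk (fun n => v n (y n)) : Formal2.limOne G'' t'')) ∧
      Function.Injective α ∧ α.range = β.ker ∧ β.range = δ.ker ∧ δ.range = ε.ker ∧ ε.range = ζ.ker ∧
      Function.Surjective ζ := by
  classical
  choose lf hlf using hsurj
  have hvu : ∀ n x, v n (u n x) = 0 := fun n x => by
    have : u n x ∈ (v n).ker := by rw [hex]; exact ⟨x, rfl⟩
    exact this
  have hker : ∀ n y, v n y = 0 → ∃ x, u n x = y := fun n y hy => by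
    have : y ∈ (v n).ker := hy
    rw [hex] at this
    exact this
  -- maps on products
  let U : (∀ n, G' n) →+ (∀ n, G n) :=
    { toFun := fun x n => u n (x n), map_zero' := by funext n; exact map_zero _,
      map_add' := fun x y => by funext n; exact map_add _ _ _ }
  let V : (∀ n, G n) →+ (∀ n, G'' n) :=
    { toFun := fun x n => v n (x n), map_zero' := by funext n; exact map_zero _,
      map_add' := fun x y => by funext n; exact map_add _ _ _ }
  have hUD : ∀ x, Formal2.towerDiff G t (U x) = U (Formal2.towerDiff G' t' x) := fun x => by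
    funext n
    change u n (x n) - t n (u (n + 1) (x (n + 1))) = u n (x n - t' n (x (n + 1)))
    rw [hu, map_sub]
  have hVD : ∀ x, Formal2.towerDiff G'' t'' (V x) = V (Formal2.towerDiff G t x) := fun x => by
    funext n
    change v n (x n) - t'' n (v (n + 1) (x (n + 1))) = v n (x n - t n (x (n + 1)))
    rw [hv, map_sub]
  have hUinj : Function.Injective U := fun x y h => by
    funext n
    exact hinj n (congrFun h n)
  have hVsurj : Function.Surjective V := fun z => ⟨fun n => lf n (z n), by
    funext n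
    exact hlf n (z n)⟩
  have hVU : ∀ x, V (U x) = 0 := fun x => by
    funext n
    exact hvu n _
  have hKer : ∀ y, V y = 0 → ∃ x, U x = y := fun y hy => by
    have : ∀ n, ∃ x, u n x = y n := fun n => hker n (y n) (congrFun hy n)
    choose x hx using this
    exact ⟨x, funext hx⟩
  -- the maps
  let α : Formal2.limZero G' t' →+ Formal2.limZero G t :=
    (U.comp (Formal2.limZero G' t').subtype).codRestrict _ (fun x => by
      have h1 : Formal2.towerDiff G' t' x.1 = 0 := x.2
      change Formal2.towerDiff G t (U x.1) = 0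
      rw [hUD, h1, map_zero])
  let β : Formal2.limZero G t →+ Formal2.limZero G'' t'' :=
    (V.comp (Formal2.limZero G t).subtype).codRestrict _ (fun x => by
      have h1 : Formal2.towerDiff G t x.1 = 0 := x.2
      change Formal2.towerDiff G'' t'' (V x.1) = 0
      rw [hVD, h1, map_zero])
  let ε : Formal2.limOne G' t' →+ Formal2.limOne G t :=
    QuotientAddGroup.map _ _ U (by
      rintro _ ⟨x, rfl⟩
      exact ⟨U x, hUD x⟩)
  let ζ : Formal2.limOne G t →+ Formal2.limOne G'' t'' :=
    QuotientAddGroup.map _ _ V (by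
      rintro _ ⟨x, rfl⟩
      exact ⟨V x, hVD x⟩)
  -- the connecting map
  have hδ : ∀ z : Formal2.limZero G'' t'', ∃ w : ∀ n, G' n, ∃ y, V y = z.1 ∧ U w = Formal2.towerDiff G t y := by
    intro z
    obtain ⟨y, hy⟩ := hVsurj z.1
    have h1 : V (Formal2.towerDiff G t y) = 0 := by
      rw [← hVD, hy]
      exact z.2
    obtain ⟨w, hw⟩ := hKer _ h1
    exact ⟨w, y, hy, hw⟩
  choose W Y hY hW using hδ
  have hδ' : ∀ (y y' : ∀ n, G n) (w w' : ∀ n, G' n), V y = V y' → U w = Formal2.towerDiff G t y →
      U w' = Formal2.towerDiff G t y' →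
      (QuotientAddGroup.mk w : Formal2.limOne G' t') = QuotientAddGroup.mk w' := by
    intro y y' w w' h1 h2 h3
    obtain ⟨x, hx⟩ := hKer (- y + y') (by rw [map_add, map_neg, h1, neg_add_cancel])
    rw [QuotientAddGroup.eq]
    refine ⟨x, hUinj ?_⟩
    rw [← hUD, hx, map_add, map_neg, ← h2, ← h3, map_add, map_neg]
  let δ : Formal2.limZero G'' t'' →+ Formal2.limOne G' t' :=
    { toFun := fun z => QuotientAddGroup.mk (W z)
      map_zero' := by
        change _ = (QuotientAddGroup.mk 0 : Formal2.limOne G' t')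
        refine hδ' (Y 0) 0 _ _ ?_ (hW 0) ?_
        · rw [hY, map_zero]
          rfl
        · rw [map_zero, map_zero]
      map_add' := fun z z' => by
        rw [← QuotientAddGroup.mk_add]
        refine hδ' (Y (z + z')) (Y z + Y z') _ _ ?_ (hW _) ?_
        · rw [hY, map_add, hY, hY]
          rfl
        · rw [map_add, map_add, hW, hW] }
  have hδs : ∀ (z : Formal2.limZero G'' t'') (y : ∀ n, G n) (w : ∀ n, G' n), V y = z.1 →
      U w = Formal2.towerDiff G t y → δ z = (QuotientAddGroup.mk w : Formal2.limOne G' t') :=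
    fun z y w h1 h2 => hδ' (Y z) y _ _ ((hY z).trans h1.symm) (hW z) h2
  refine ⟨α, β, δ, ε, ζ, fun x n => rfl, fun x n => rfl, fun z y w h1 h2 =>
    hδs z y w (funext h1) (funext h2), fun y => rfl, fun y => rfl, ?_, ?_, ?_, ?_, ?_, ?_⟩
  · intro x x' h
    exact Subtype.ext (hUinj (congrArg Subtype.val h))
  · ext x
    constructor
    · rintro ⟨x', rfl⟩
      rw [AddMonoidHom.mem_ker]
      exact Subtype.ext (hVU x'.1)
    · intro hx
      obtain ⟨x', hx'⟩ := hKer x.1 (congrArg Subtype.val hx)
      refine ⟨⟨x', ?_⟩, Subtype.ext hx'⟩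
      rw [AddMonoidHom.mem_ker]
      apply hUinj
      rw [← hUD, hx', map_zero]
      exact x.2
  · ext z
    constructor
    · rintro ⟨x, rfl⟩
      rw [AddMonoidHom.mem_ker, hδs (β x) x.1 0 rfl (by rw [map_zero]; exact x.2.symm)]
      rfl
    · intro hz
      rw [AddMonoidHom.mem_ker] at hz
      have hz' : (QuotientAddGroup.mk (W z) : Formal2.limOne G' t') = 0 := hz
      rw [QuotientAddGroup.eq_zero_iff] at hz'
      obtain ⟨x, hx⟩ := hz'
      refine ⟨⟨Y z - U x, ?_⟩, Subtype.ext ?_⟩
      · rw [AddMonoidHom.mem_ker, map_sub, hUD, hx, ← hW, sub_self]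
      · change V (Y z - U x) = z.1
        rw [map_sub, hVU, sub_zero, hY]
  · ext y
    constructor
    · rintro ⟨z, rfl⟩
      rw [AddMonoidHom.mem_ker]
      change (QuotientAddGroup.mk (U (W z)) : Formal2.limOne G t) = 0
      rw [QuotientAddGroup.eq_zero_iff, hW]
      exact ⟨Y z, rfl⟩
    · intro hy
      obtain ⟨y, rfl⟩ := QuotientAddGroup.mk_surjective y
      rw [AddMonoidHom.mem_ker] at hy
      have hy' : (QuotientAddGroup.mk (U y) : Formal2.limOne G t) = 0 := hy
      rw [QuotientAddGroup.eq_zero_iff] at hy'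
      obtain ⟨x, hx⟩ := hy'
      refine ⟨⟨V x, ?_⟩, hδs _ x y rfl hx.symm⟩
      rw [AddMonoidHom.mem_ker, hVD, hx, hVU]
  · ext y
    constructor
    · rintro ⟨x, rfl⟩
      obtain ⟨x, rfl⟩ := QuotientAddGroup.mk_surjective x
      rw [AddMonoidHom.mem_ker]
      change (QuotientAddGroup.mk (V (U x)) : Formal2.limOne G'' t'') = 0
      rw [hVU]
      rfl
    · intro hy
      obtain ⟨y, rfl⟩ := QuotientAddGroup.mk_surjective y
      rw [AddMonoidHom.mem_ker] at hy
      have hy' : (QuotientAddGroup.mk (V y) : Formal2.limOne G'' t'') = 0 := hy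
      rw [QuotientAddGroup.eq_zero_iff] at hy'
      obtain ⟨z, hz⟩ := hy'
      obtain ⟨x, rfl⟩ := hVsurj z
      obtain ⟨w, hw⟩ := hKer (- Formal2.towerDiff G t x + y) (by
        rw [map_add, map_neg, ← hVD, hz, neg_add_cancel])
      refine ⟨QuotientAddGroup.mk w, ?_⟩
      change (QuotientAddGroup.mk (U w) : Formal2.limOne G t) = _
      rw [hw, eq_comm, QuotientAddGroup.eq]
      refine ⟨- x, ?_⟩
      rw [map_neg]
      abel
  · intro y
    obtain ⟨y, rfl⟩ := QuotientAddGroup.mk_surjective y
    obtain ⟨x, rfl⟩ := hVsurj y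
    exact ⟨QuotientAddGroup.mk x, rfl⟩

end Groth.Agent.S14617
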