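import Groth.Statements.S14628
import Groth.Agent.EtBase.K152.CechGen
import Groth.Agent.Etbase.EtSite
import Mathlib.CategoryTheory.Sites.EpiMono
-- import your own Groth.Agent.* helpers here

set_option autoImplicit false
open CategoryTheory CategoryTheory.Limits AlgebraicGeometry
universe u
open EtBase

namespace Groth.Agent.S14628

/-- Injectivity, exactness in the middle on sections and local surjectivity for a short exact
sequence of abelian étale sheaves. -/
theorem ses {X : Scheme.{u}} (S : ShortComplex (EtCoh.Ab X)) (hS : S.ShortExact) :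
    K152.CechGen.SES S := by
  have hm := hS.mono_f
  have he := hS.epi_g
  refine ⟨fun V x hx => ?_, fun V x hx => ?_, fun V s => ?_⟩
  · have h1 : Mono ((sheafToPresheaf X.smallEtaleTopology AddCommGrpCat.{u + 1}).map S.f) :=
      inferInstance
    have h2 : Mono S.f.hom := h1
    have h3 : Mono (S.f.hom.app (Opposite.op V)) := inferInstance
    have h4 := (AddCommGrpCat.mono_iff_injective _).1 h3
    exact h4 (hx.trans (map_zero (S.f.hom.app (Opposite.op V)).hom).symm)
  · let G : EtCoh.Ab X ⥤ AddCommGrpCat.{u + 1} :=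
      sheafToPresheaf X.smallEtaleTopology AddCommGrpCat.{u + 1} ⋙ (evaluation _ _).obj (Opposite.op V)
    have h1 : (S.map G).Exact := hS.exact.map_of_mono_of_preservesKernel G hm inferInstance
    rw [ShortComplex.ab_exact_iff] at h1
    exact h1 x hx
  · have h1 : Sheaf.IsLocallySurjective S.g :=
      (Sheaf.isLocallySurjective_iff_epi' AddCommGrpCat.{u + 1} S.g).2 he
    exact Presheaf.imageSieve_mem X.smallEtaleTopology S.g.hom s

/-- If `F'` is flasque in the Čech sense then sections of `F''` lift to `F`. -/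
theorem surjective_sections {X : Scheme.{u}}
    [∀ U : X.Etale, HasFiniteProducts (Over U)] (S : ShortComplex (EtCoh.Ab X)) (hS : S.ShortExact)
    (h1 : (∀ (U : X.Etale) (ι : Type (u + 1)) (Uf : ι → Over U),
      (∀ x : ↥(U.left), ∃ (i : ι) (y : ↥((Uf i).left.left)), (Uf i).hom.left.base y = x) →
      ∀ p : ℕ, 0 < p → IsZero (EtCech.cechH Uf S.X₁.obj p)))
    (U : X.Etale) : Function.Surjective (S.g.hom.app (Opposite.op U)).hom := by
  intro s
  have hses := ses S hS
  have hcov := (Groth.Agent.Etbase.EtSite.mem_iff U _).1 (hses.surj U s)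
  let ι : Type (u + 1) := Σ V : X.Etale, {g : V ⟶ U // (Presheaf.imageSieve S.g.hom s).arrows g}
  let Y : ι → Over U := fun i => Over.mk i.2.1
  have hsurj : ∀ x : ↥(U.left), ∃ (i : ι) (y : ↥((Y i).left.left)), (Y i).hom.left.base y = x := by
    intro x
    obtain ⟨V, g, v, hg, hv⟩ := hcov x
    exact ⟨⟨V, g, hg⟩, v, hv⟩
  refine hses.exists_lift s Y (fun i => i.2.2) ?_ (h1 U ι Y hsurj 1 one_pos)
  rw [Groth.Agent.Etbase.EtSite.mem_iff]
  intro x
  obtain ⟨i, y, hy⟩ := hsurj x
  exact ⟨(Y i).left, (Y i).hom, y, Sieve.ofArrows_mk _ (fun i => (Y i).hom) i, hy⟩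

/-- On the small étale site of a scheme, let 0 → F' → F → F'' → 0 be a short exact sequence of abelian
étale sheaves on a scheme X. If F' and F are flasque in the Čech sense (for every étale U over X and
every jointly surjective family of étale U-schemes, Čech cohomology in positive degrees vanishes),
then so is F''. The finite products of the over categories (the fibre products entering the Čech
complexes) are carried as instance hypotheses. -/
theorem result {X : Scheme.{u}}
    [∀ U : X.Etale, HasFiniteProducts (Over U)] (S : ShortComplex (EtCoh.Ab X)) (hS : S.ShortExact)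
    (h1 : (∀ (U : X.Etale) (ι : Type (u + 1)) (Uf : ι → Over U),
      (∀ x : ↥(U.left), ∃ (i : ι) (y : ↥((Uf i).left.left)), (Uf i).hom.left.base y = x) →
      ∀ p : ℕ, 0 < p → IsZero (EtCech.cechH Uf S.X₁.obj p)))
    (h2 : (∀ (U : X.Etale) (ι : Type (u + 1)) (Uf : ι → Over U),
      (∀ x : ↥(U.left), ∃ (i : ι) (y : ↥((Uf i).left.left)), (Uf i).hom.left.base y = x) →
      ∀ p : ℕ, 0 < p → IsZero (EtCech.cechH Uf S.X₂.obj p)))
    (U : X.Etale) (ι : Type (u + 1)) (Uf : ι → Over U)
    (hU : ∀ x : ↥(U.left), ∃ (i : ι) (y : ↥((Uf i).left.left)), (Uf i).hom.left.base y = x)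
    (p : ℕ) (hp : 0 < p) :
    IsZero (EtCech.cechH Uf S.X₃.obj p) := by
  obtain ⟨q, rfl⟩ : ∃ q, p = q + 1 := ⟨p - 1, by omega⟩
  exact (ses S hS).isZero_cechH_quot Uf q (fun a => surjective_sections S hS h1 _)
    (h2 U ι Uf hU (q + 1) (by omega)) (h1 U ι Uf hU (q + 2) (by omega))

end Groth.Agent.S14628
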