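import Groth.Statements.S14631
import Mathlib.AlgebraicGeometry.Morphisms.QuasiSeparated
-- import your own Groth.Agent.* helpers here

set_option autoImplicit false
open CategoryTheory AlgebraicGeometry
universe u
open EtBase

namespace Groth.Agent.S14631

/-- Let X be a quasi-separated scheme and U an étale X-scheme. Then there is a jointly surjective family
of étale U-schemes each of which is quasi-compact and quasi-separated, hence of finite presentation,
over X. (Sheaves on the small étale site are therefore determined by their values on étale X-schemes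
of finite presentation; that equivalence is not stated here.) -/
theorem result (X : Scheme.{u})
    [QuasiSeparatedSpace ↥X] (U : X.Etale) :
    ∃ (ι : Type u) (V : ι → Over U), (∀ i, QuasiCompact (V i).left.hom ∧ QuasiSeparated (V i).left.hom) ∧
      ∀ x : ↥(U.left), ∃ (i : ι) (y : ↥((V i).left.left)), (V i).hom.left.base y = x := by
  let W : ∀ x : U.left, U.left.Opens := fun x => (U.left.affineCover.f (U.left.affineCover.idx x)).opensRange
  have hW : ∀ x, IsAffineOpen (W x) := fun x => isAffineOpen_opensRange _
  have hxW : ∀ x, x ∈ W x := fun x => U.left.affineCover.covers x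
  have hU : AlgebraicGeometry.Etale U.hom := U.prop
  let V : ∀ x : U.left, X.Etale := fun x => Scheme.Etale.mk ((W x).ι ≫ U.hom)
  let g : ∀ x, V x ⟶ U := fun x => MorphismProperty.Over.homMk (W x).ι rfl trivial
  refine ⟨U.left, fun x => Over.mk (g x), fun x => ?_, fun x => ⟨x, ⟨x, hxW x⟩, rfl⟩⟩
  have h1 : IsAffine (W x : Scheme.{u}) := hW x
  have h2 : CompactSpace (W x : Scheme.{u}) := inferInstance
  have h3 : QuasiSeparatedSpace (W x : Scheme.{u}) := inferInstance
  let k : (W x : Scheme.{u}) ⟶ X := (W x).ι ≫ U.hom
  have h4 : QuasiCompact k := inferInstance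
  have h5 : QuasiSeparated k := inferInstance
  exact ⟨h4, h5⟩

end Groth.Agent.S14631
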