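import Groth.Statements.S14632
import Groth.Agent.EtBase.K152.ColimSheafType
import Groth.Agent.Etbase.QcqsBasis
-- import your own Groth.Agent.* helpers here

set_option autoImplicit false
open CategoryTheory CategoryTheory.Limits AlgebraicGeometry Opposite
universe u
open EtBase

namespace Groth.Agent.S14632

/-- Take a quasi-compact quasi-separated scheme X and an étale X-scheme U which is quasi-compact and
quasi-separated, i.e. of finite presentation, over X. Then for every small filtered category I the
functor taking a sheaf of sets on the small étale site of X to its sections over U preserves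
colimits of shape I: sections over U of a filtered colimit of sheaves are the colimit of the
sections. (Sheaves are valued in types one universe above the schemes, as elsewhere in this
library.) -/
theorem result (X : Scheme.{u}) [CompactSpace ↥X]
    [QuasiSeparatedSpace ↥X] (U : X.Etale) [QuasiCompact U.hom] [QuasiSeparated U.hom]
    (I : Type (u + 1)) [SmallCategory I] [IsFiltered I] :
    PreservesColimitsOfShape I
      (sheafToPresheaf X.smallEtaleTopology (Type (u + 1)) ⋙ (evaluation X.Etaleᵒᵖ (Type (u + 1))).obj (op U)) := by
  have hU : U ∈ Groth.Agent.Etbase.QcqsBasis.QCQS X := by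
    let h : U.left ⟶ X := U.hom
    have : QuasiCompact h := ‹QuasiCompact U.hom›
    have : QuasiSeparated h := ‹QuasiSeparated U.hom›
    exact ⟨QuasiCompact.compactSpace_of_compactSpace h, quasiSeparatedSpace_of_quasiSeparated h⟩
  have hI : K152.ColimSheafType.FiltEq.{u + 1} I := fun F c hc i x y hxy =>
    (Types.FilteredColimit.isColimit_eq_iff' hc x y).1 hxy
  exact K152.ColimSheafType.preservesColimitsOfShape_sections hI
    (Groth.Agent.Etbase.QcqsBasis.cohBasis (X := X)) hU

end Groth.Agent.S14632
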