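import Groth.Statements.S14634
import Groth.Agent.AlgGrp.K403.GeomPts2
import Groth.Agent.AlgGrp.K403.Act2
import Groth.Agent.Flat2B.SmoothGeom
import Groth.Agent.S0348
import Groth.Agent.CycA.ProdDim
import Groth.Agent.Fga.DimLt

set_option autoImplicit false
universe u
open CategoryTheory MonoidalCategory CartesianMonoidalCategory MonObj GrpObj AlgebraicGeometry CategoryTheory.Limits
open AlgGrp

namespace Groth.Agent.S14634

open K403.GeomPts K403.Act Groth.Agent.Books.BorelOrb

/-- Over a field k, let G be a smooth connected k-group scheme of finite type acting on a curve C, i.e.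
a separated, geometrically integral k-scheme of finite type of dimension 1. Then C is almost
homogeneous under G, meaning that the graph morphism G × C → C × C, (g, x) ↦ (x, g·x), is dominant,
if and only if the action is not the trivial one (the action morphism is not the second projection). -/
theorem result (k : Type u) [Field k]
    (G C : Over (Spec (CommRingCat.of k))) [GrpObj G] [Smooth G.hom] [QuasiCompact G.hom] [ConnectedSpace ↥G.left]
    [IsSeparated C.hom] [LocallyOfFiniteType C.hom] [QuasiCompact C.hom] [GeometricallyIntegral C.hom] (hdim : topologicalKrullDim ↥C.left = 1)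
    (a : AlgGrp.Action G C) :
    IsDominant (CartesianMonoidalCategory.lift (CartesianMonoidalCategory.snd G C) a.act).left ↔
      a.act ≠ CartesianMonoidalCategory.snd G C := by
  let K := AlgebraicClosure k
  have hsub : Subsingleton (Spec (CommRingCat.of k)) := inferInstanceAs (Subsingleton (PrimeSpectrum k))
  have hGR : GeometricallyReduced G.hom := Groth.Agent.Flat2B.SmoothGeom.geometricallyReduced_of_smooth G.hom
  have hN : IsLocallyNoetherian C.left := LocallyOfFiniteType.isLocallyNoetherian C.hom
  have hNG : IsLocallyNoetherian G.left := LocallyOfFiniteType.isLocallyNoetherian G.hom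
  have hGI : IrreducibleSpace G.left := Groth.Agent.S0348.result k G
  have hCI : AlgebraicGeometry.IsIntegral C.left := GeometricallyIntegral.isIntegral_of_subsingleton C.hom
  have hIGC : IrreducibleSpace (G ⊗ C).left := inferInstanceAs (IrreducibleSpace (pullback G.hom C.hom : Scheme.{u}))
  have hRGC : IsReduced (G ⊗ C).left := inferInstanceAs (IsReduced (pullback G.hom C.hom))
  have hICC : AlgebraicGeometry.IsIntegral (C ⊗ C).left :=
    inferInstanceAs (AlgebraicGeometry.IsIntegral (pullback C.hom C.hom))
  have hFT1 : LocallyOfFiniteType (G ⊗ C).hom := by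
    have : LocallyOfFiniteType (pullback.fst G.hom C.hom ≫ G.hom) := inferInstance
    exact this
  let Δ : C ⟶ C ⊗ C := CartesianMonoidalCategory.lift (𝟙 C) (𝟙 C)
  have hΔ : IsClosedImmersion Δ.left := inferInstanceAs (IsClosedImmersion (pullback.diagonal C.hom))
  have hdimD : topologicalKrullDim (Set.range Δ.left) = 1 := by
    rw [← hdim]
    exact (IsHomeomorph.topologicalKrullDim_eq _ Δ.left.isClosedEmbedding.isEmbedding.toHomeomorph.isHomeomorph).symm
  have hdimP : topologicalKrullDim (C ⊗ C).left = 2 := by
    have hI : AlgebraicGeometry.IsIntegral (pullback C.hom C.hom) := hICC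
    obtain ⟨n, m, h1, h2, h3⟩ := Groth.Agent.CycA.ProdDim.exists_dim_pullback C.hom C.hom
    rw [hdim] at h1 h2
    have e1 : n = 1 := by exact_mod_cast h1.symm
    have e2 : m = 1 := by exact_mod_cast h2.symm
    rw [e1, e2] at h3
    exact h3
  constructor
  · intro h hact
    -- the diagonal would be dominant
    rw [hact] at h
    have h1 : CartesianMonoidalCategory.lift (snd G C) (snd G C) = snd G C ≫ Δ := by
      rw [comp_lift, Category.comp_id]
    rw [h1, Over.comp_left] at h
    have h2 : IsDominant Δ.left := IsDominant.of_comp (snd G C).left _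
    have h3 : Set.range Δ.left = Set.univ := by
      rw [← Δ.left.isClosedEmbedding.isClosed_range.closure_eq]
      exact h2.1.closure_eq
    rw [h3] at hdimD
    have h4 : topologicalKrullDim (Set.univ : Set (C ⊗ C).left) = topologicalKrullDim (C ⊗ C).left :=
      IsHomeomorph.topologicalKrullDim_eq _ (Homeomorph.Set.univ _).isHomeomorph
    rw [h4, hdimP] at hdimD
    exact absurd hdimD (by decide)
  · intro hact
    by_contra hdom
    apply hact
    let γ : G ⊗ C ⟶ C ⊗ C := CartesianMonoidalCategory.lift (snd G C) a.act
    let W : Set (C ⊗ C).left := closure (Set.range γ.left)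
    have hWirr : IsIrreducible W := by
      have : IsIrreducible (Set.range γ.left) := by
        rw [← Set.image_univ]
        exact (IrreducibleSpace.isIrreducible_univ _).image _ γ.left.continuous.continuousOn
      exact this.closure
    have hDW : Set.range Δ.left ⊆ W := by
      refine subset_trans ?_ subset_closure
      have h1 : Δ = CartesianMonoidalCategory.lift (1 : C ⟶ G) (𝟙 C) ≫ γ := by
        simp only [γ, Δ, comp_lift, lift_snd]
        congr 1
        exact (one_sm a (𝟙 C)).symm
      rw [h1, Over.comp_left]
      rintro _ ⟨x, rfl⟩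
      exact ⟨_, rfl⟩
    have hWne : W ≠ Set.univ := by
      intro hW
      exact hdom ⟨by rw [DenseRange, dense_iff_closure_eq]; exact hW⟩
    have hdimW : topologicalKrullDim W < ((1 + 1 : ℕ) : WithBot ℕ∞) := by
      refine Groth.Agent.Fga.DimLt.topologicalKrullDim_lt (A := Set.univ) (IrreducibleSpace.isIrreducible_univ _)
        isClosed_closure (Set.subset_univ _) hWne ?_
      rw [show topologicalKrullDim (Set.univ : Set (C ⊗ C).left) = topologicalKrullDim (C ⊗ C).left from
        IsHomeomorph.topologicalKrullDim_eq _ (Homeomorph.Set.univ _).isHomeomorph, hdimP]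
      decide
    have hDeq : Set.range Δ.left = W := by
      by_contra hne
      have := Groth.Agent.Fga.DimLt.topologicalKrullDim_lt hWirr Δ.left.isClosedEmbedding.isClosed_range hDW hne hdimW
      rw [hdimD] at this
      exact absurd this (lt_irrefl _)
    refine ext_of_pts K _ _ ?_
    intro p
    have h1 : γ.left (p.left (pt0 k K)) ∈ Set.range Δ.left := by
      rw [hDeq]
      exact subset_closure ⟨_, rfl⟩
    obtain ⟨c, hc⟩ := h1
    obtain ⟨q, hq⟩ := exists_lift K Δ (p ≫ γ) c hc
    have h2 := congrArg (fun z => z ≫ fst C C) hq
    have h3 := congrArg (fun z => z ≫ snd C C) hq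
    simp only [Category.assoc, Δ, γ, lift_fst, lift_snd, Category.comp_id] at h2 h3
    rw [← h2, ← h3]

end Groth.Agent.S14634
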