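import Groth.Statements.S14636
import Groth.Agent.AlgGrp.K403.Modif
import Groth.Agent.S1585

set_option autoImplicit false
universe u
open CategoryTheory MonoidalCategory CartesianMonoidalCategory MonObj GrpObj AlgebraicGeometry CategoryTheory.Limits
open AlgGrp

namespace Groth.Agent.S14636

open Groth.Agent.Books.BorelOrb K403.Act K403.Dense K403.Modif

/-- Over a field k, let G be a smooth connected k-group scheme of finite type acting on a variety X (a
separated, geometrically integral k-scheme of finite type), let ν : X̃ → X be the normalization of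
X, and let G act on X̃ so that ν is equivariant (such an action exists and is unique). Then X is
almost homogeneous, i.e. the graph morphism G × X → X × X, (g, x) ↦ (x, g·x), is dominant, if and
only if X̃ is almost homogeneous for the lifted action. (The quasi-compactness and
quasi-separatedness binders on the morphism from the generic point always hold; they are only needed
to form the normalization.) -/
theorem result (k : Type u) [Field k]
    (G X : Over (Spec (CommRingCat.of k))) [GrpObj G] [Smooth G.hom] [QuasiCompact G.hom] [ConnectedSpace ↥G.left]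
    [IsSeparated X.hom] [LocallyOfFiniteType X.hom] [QuasiCompact X.hom] [GeometricallyIntegral X.hom] [IsIntegral X.left] [QuasiCompact (X.left.fromSpecStalk (genericPoint ↥X.left))] [QuasiSeparated (X.left.fromSpecStalk (genericPoint ↥X.left))]
    (a : AlgGrp.Action G X)
    (b : AlgGrp.Action G (Over.mk (Curv2.normalizationι X.left ≫ X.hom)))
    (hb : (G ◁ (Over.homMk (Curv2.normalizationι X.left) rfl : Over.mk (Curv2.normalizationι X.left ≫ X.hom) ⟶ X)) ≫ a.act =
      b.act ≫ Over.homMk (Curv2.normalizationι X.left) rfl) :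
    IsDominant (CartesianMonoidalCategory.lift (CartesianMonoidalCategory.snd G X) a.act).left ↔
      IsDominant (CartesianMonoidalCategory.lift
        (CartesianMonoidalCategory.snd G (Over.mk (Curv2.normalizationι X.left ≫ X.hom))) b.act).left := by
  let _ : X.left.Over (Spec (CommRingCat.of k)) := ⟨X.hom⟩
  have hX : (X.left ↘ (Spec (CommRingCat.of k))) = X.hom := rfl
  have hlft : LocallyOfFiniteType (X.left ↘ (Spec (CommRingCat.of k))) := by rw [hX]; infer_instance
  obtain ⟨hfin, hdom, ⟨V, hVne, hViso⟩, hint, -⟩ := Groth.Agent.S1585.result k X.left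
  let Y : Over (Spec (CommRingCat.of k)) := Over.mk (Curv2.normalizationι X.left ≫ X.hom)
  let ν : Y ⟶ X := Over.homMk (Curv2.normalizationι X.left) rfl
  have h1 : IsFinite ν.left := hfin
  have h2 : IsDominant ν.left := hdom
  have hsurj : Surjective ν.left := inferInstance
  have h5 : IsIntegral Y.left := hint
  have h6 : LocallyOfFiniteType Y.hom := inferInstanceAs (LocallyOfFiniteType (Curv2.normalizationι X.left ≫ X.hom))
  have h7 : IsLocallyNoetherian Y.left := LocallyOfFiniteType.isLocallyNoetherian Y.hom
  have h8 : IsIso (ν.left ∣_ V) := hViso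
  have hne : (ν.left ⁻¹ᵁ V : Set Y.left).Nonempty := by
    obtain ⟨v, hv⟩ := hVne
    have hs : Function.Surjective (ν.left ∣_ V) := (ν.left ∣_ V).surjective
    obtain ⟨⟨w, hw⟩, -⟩ := hs ⟨v, hv⟩
    exact ⟨w, hw⟩
  have h9 : IsDominant (ν.left ⁻¹ᵁ V).ι := by
    refine ⟨?_⟩
    rw [DenseRange, Scheme.Opens.range_ι]
    exact (ν.left ⁻¹ᵁ V).isOpen.dense hne
  have h10 : IsSchemeTheoreticallyDominant (ν.left ⁻¹ᵁ V).ι := .of_isDominant _
  have h11 : QuasiCompact (ν.left ⁻¹ᵁ V).ι := inferInstance
  let U : Over (Spec (CommRingCat.of k)) := Over.mk ((ν.left ⁻¹ᵁ V).ι ≫ Y.hom)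
  let j : U ⟶ Y := Over.homMk (ν.left ⁻¹ᵁ V).ι rfl
  have hj1 : IsSchemeTheoreticallyDominant j.left := h10
  have hj2 : QuasiCompact j.left := h11
  have hjν : IsoOver j ν := isoOver_of_isIso ν V
  -- the graphs
  let γX : G ⊗ X ⟶ X ⊗ X := CartesianMonoidalCategory.lift (snd G X) a.act
  let γY : G ⊗ Y ⟶ Y ⊗ Y := CartesianMonoidalCategory.lift (snd G Y) b.act
  have hcomm : γY ≫ (ν ▷ Y) ≫ (X ◁ ν) = (G ◁ ν) ≫ γX := by
    have hb' : (G ◁ ν) ≫ a.act = b.act ≫ ν := hb
    apply CartesianMonoidalCategory.hom_ext
    · simp [γY, γX]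
    · simp [γY, γX, hb']
  change IsDominant γX.left ↔ IsDominant γY.left
  have hfin1 : IsFinite (ν ▷ Y).left := MorphismProperty.of_isPullback (isPullback_whiskerRight_left ν Y) h1
  have hfin2 : IsFinite (X ◁ ν).left := MorphismProperty.of_isPullback (isPullback_whiskerLeft_left ν X) h1
  constructor
  · intro h
    have h12 : IsDominant ((γY ≫ (ν ▷ Y)) ≫ (X ◁ ν)).left := by
      rw [Category.assoc, hcomm, Over.comp_left]
      infer_instance
    have h13 := isDominant_of_comp (hjν.whiskerLeft X) (X ◁ ν).left.isClosedMap _ h12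
    exact isDominant_of_comp (hjν.whiskerRight Y) (ν ▷ Y).left.isClosedMap _ h13
  · intro h
    have h12 : IsDominant ((G ◁ ν) ≫ γX).left := by
      rw [← hcomm, Over.comp_left, Over.comp_left]
      infer_instance
    rw [Over.comp_left] at h12
    exact IsDominant.of_comp (G ◁ ν).left _

end Groth.Agent.S14636
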