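import Groth.Statements.S14637
import Groth.Agent.AlgGrp.K403.LaurUnit
import Groth.Agent.AlgGrp.K403.AffGrp

set_option autoImplicit false
universe u
open CategoryTheory MonoidalCategory CartesianMonoidalCategory MonObj GrpObj AlgebraicGeometry CategoryTheory.Limits
open AlgGrp

namespace Groth.Agent.S14637

open scoped TensorProduct

/-- Over a field k, the only structure of algebraic group on the punctured affine line Spec k[T, T⁻¹]
with unit element the point T = 1 is the multiplicative group. Precisely: let G be a k-group scheme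
and e an isomorphism of k-schemes from the underlying scheme of G to Spec k[T, T⁻¹] under which the
unit section has T-coordinate 1; then for every k-scheme S and all S-valued points g, h of G, the
T-coordinate of g · h (the pull-back of the global function T along the point composed with e) is
the product of the T-coordinates of g and of h. -/
theorem result (k : Type u) [Field k]
    (G : Over (Spec (CommRingCat.of k))) [GrpObj G]
    (e : G.left ≅ Spec (CommRingCat.of (LaurentPolynomial k)))
    (he : e.hom ≫ Spec.map (CommRingCat.ofHom (algebraMap k (LaurentPolynomial k))) = G.hom)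
    (hunit : ((η[G]).left ≫ e.hom).appTop.hom ((Scheme.ΓSpecIso (CommRingCat.of (LaurentPolynomial k))).inv.hom (LaurentPolynomial.T 1)) = 1)
    (S : Over (Spec (CommRingCat.of k))) (g h : S ⟶ G) :
    ((g * h).left ≫ e.hom).appTop.hom ((Scheme.ΓSpecIso (CommRingCat.of (LaurentPolynomial k))).inv.hom (LaurentPolynomial.T 1)) =
      (g.left ≫ e.hom).appTop.hom ((Scheme.ΓSpecIso (CommRingCat.of (LaurentPolynomial k))).inv.hom (LaurentPolynomial.T 1)) * (h.left ≫ e.hom).appTop.hom ((Scheme.ΓSpecIso (CommRingCat.of (LaurentPolynomial k))).inv.hom (LaurentPolynomial.T 1)) := by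
  obtain ⟨δ, ε, h0, h1, h2, h3⟩ := K403.AffGrp.exists_comul G e he
  have hεT : ε (LaurentPolynomial.T 1) = 1 := by
    have h4 := hunit
    rw [h0] at h4
    have h2 := congrArg (fun z => z (LaurentPolynomial.T 1))
      (K403.AffGrp.sharp_comp (𝟙 (Spec (CommRingCat.of k))) (CommRingCat.ofHom ε.toRingHom))
    rw [Category.id_comp] at h2
    have h3 : (Scheme.ΓSpecIso (CommRingCat.of k)).inv.hom (ε (LaurentPolynomial.T 1)) =
        (Scheme.ΓSpecIso (CommRingCat.of k)).inv.hom 1 := by
      rw [map_one, ← h4]
      exact h2.symm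
    have h4 : Function.Injective (Scheme.ΓSpecIso (CommRingCat.of k)).inv.hom :=
      (ConcreteCategory.bijective_of_isIso (Scheme.ΓSpecIso (CommRingCat.of k)).inv).injective
    exact h4 h3
  have hT := K403.LaurUnit.comul_eq δ.toRingHom ε hεT (congrArg (fun z => z (LaurentPolynomial.T 1)) h1)
    (congrArg (fun z => z (LaurentPolynomial.T 1)) h2)
  obtain ⟨θ, h5, h6, h7⟩ := h3 S g h
  have h8 := h7 (LaurentPolynomial.T 1)
  change θ (δ.toRingHom (LaurentPolynomial.T 1)) = _ at h8
  have h9 : (LaurentPolynomial.T 1 : LaurentPolynomial k) ⊗ₜ[k] (LaurentPolynomial.T 1 : LaurentPolynomial k) =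
      ((LaurentPolynomial.T 1 : LaurentPolynomial k) ⊗ₜ[k] 1) * (1 ⊗ₜ[k] (LaurentPolynomial.T 1 : LaurentPolynomial k)) := by
    rw [Algebra.TensorProduct.tmul_mul_tmul, _root_.mul_one, _root_.one_mul]
  rw [hT, h9, map_mul, h5, h6] at h8
  exact h8.symm

end Groth.Agent.S14637
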