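import Groth.Statements.S14638
import Groth.Agent.AlgGrp.K403.Orbits3

set_option autoImplicit false
universe u
open CategoryTheory MonoidalCategory CartesianMonoidalCategory MonObj GrpObj AlgebraicGeometry CategoryTheory.Limits
open AlgGrp

namespace Groth.Agent.S14638

open K403.Orbits K403.GeomPts Groth.Agent.Books.BorelOrb K403.Dense K403.Act

section
variable {k : Type u} [Field k] {K : Type u} [Field K] [Algebra k K] [IsAlgClosed K]
variable {G X : Over (Spec (CommRingCat.of k))} [GrpObj G] [Smooth G.hom] [QuasiCompact G.hom]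
    [IsSeparated X.hom] [LocallyOfFiniteType X.hom] [QuasiCompact X.hom] [GeometricallyIntegral X.hom]
    (a : AlgGrp.Action G X)

/-- the open subscheme as an object over `k` -/
noncomputable abbrev opn (U : X.left.Opens) : Over (Spec (CommRingCat.of k)) := Over.mk (U.ι ≫ X.hom)

/-- inclusion -/
noncomputable abbrev inc (U : X.left.Opens) : opn U ⟶ X := Over.homMk U.ι rfl

/-- homogeneous stable open subschemes. -/
def Good (U : X.left.Opens) : Prop := (U : Set ↥X.left).Nonempty ∧ ∃ b : AlgGrp.Action G (Over.mk (U.ι ≫ X.hom)),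
          (G ◁ (Over.homMk U.ι rfl : Over.mk (U.ι ≫ X.hom) ⟶ X)) ≫ a.act = b.act ≫ Over.homMk U.ι rfl ∧
          Surjective (CartesianMonoidalCategory.lift (CartesianMonoidalCategory.snd G (Over.mk (U.ι ≫ X.hom))) b.act).left

omit [IsAlgClosed K] [IsSeparated X.hom] [LocallyOfFiniteType X.hom] [QuasiCompact X.hom] [GeometricallyIntegral X.hom] in
theorem exists_pt_opn (U : X.left.Opens) (z : KK k K ⟶ X) (hz : z.left (pt0 k K) ∈ U) :
    ∃ z' : KK k K ⟶ opn U, z' ≫ inc U = z := by
  have h : Set.range z.left ⊆ Set.range U.ι := by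
    rintro _ ⟨w, rfl⟩
    rw [Subsingleton.elim w (pt0 k K), Scheme.Opens.range_ι]
    exact hz
  refine ⟨Over.homMk (IsOpenImmersion.lift U.ι z.left h) ?_, ?_⟩
  · change _ ≫ U.ι ≫ X.hom = _
    rw [IsOpenImmersion.lift_fac_assoc, Over.w]
  · ext1
    exact IsOpenImmersion.lift_fac _ _ _

omit [IsAlgClosed K] [IsSeparated X.hom] [LocallyOfFiniteType X.hom] [QuasiCompact X.hom] [GeometricallyIntegral X.hom] in
theorem mem_of_opn (U : X.left.Opens) (z : KK k K ⟶ opn U) : (z ≫ inc U).left (pt0 k K) ∈ U := by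
  have : U.ι (z.left (pt0 k K)) ∈ Set.range U.ι := ⟨_, rfl⟩
  rw [Scheme.Opens.range_ι] at this
  exact this

include K in
omit [IsSeparated X.hom] [QuasiCompact X.hom] [GeometricallyIntegral X.hom] in
theorem le_of_pts (U V : X.left.Opens) (h : ∀ z : KK k K ⟶ X, z.left (pt0 k K) ∈ U → z.left (pt0 k K) ∈ V) : U ≤ V := by
  by_contra hne
  have : JacobsonSpace X.left := LocallyOfFiniteType.jacobsonSpace X.hom
  obtain ⟨x, hx⟩ : ((U : Set X.left) \ V).Nonempty := by
    by_contra hn
    rw [Set.not_nonempty_iff_eq_empty, Set.sdiff_eq_empty] at hn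
    exact hne hn
  obtain ⟨x, hx, hxc⟩ := nonempty_inter_closedPoints (X := X.left) (Z := (U : Set X.left) \ V) ⟨x, hx⟩ (by
    rw [Set.sdiff_eq]
    exact U.isOpen.isLocallyClosed.inter V.isOpen.isClosed_compl.isLocallyClosed)
  obtain ⟨z, hz⟩ := exists_pt_of_isClosed K x hxc
  refine hx.2 ?_
  rw [← hz (pt0 k K)]
  apply h
  rw [hz]
  exact hx.1

include K in
theorem good_le (U U' : X.left.Opens) (h : Good a U) (h' : Good a U') : U ≤ U' := by
  obtain ⟨hne, b, hb, hbs⟩ := h
  obtain ⟨hne', b', hb', hbs'⟩ := h'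
  have hirr : IrreducibleSpace X.left := by
    have : Subsingleton (Spec (CommRingCat.of k)) := inferInstanceAs (Subsingleton (PrimeSpectrum k))
    have : Nonempty (Spec (CommRingCat.of k)) := inferInstanceAs (Nonempty (PrimeSpectrum k))
    exact GeometricallyIrreducible.irreducibleSpace_of_subsingleton X.hom
  have hlfU : LocallyOfFiniteType (opn U).hom := inferInstanceAs (LocallyOfFiniteType (U.ι ≫ X.hom))
  obtain ⟨z, hz⟩ := exists_pt_mem (K := K) (U ⊓ U') (nonempty_preirreducible_inter U.isOpen U'.isOpen hne hne')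
  obtain ⟨z1, hz1⟩ := exists_pt_opn U z hz.1
  obtain ⟨z2, hz2⟩ := exists_pt_opn U' z hz.2
  refine le_of_pts (K := K) U U' fun y hy => ?_
  obtain ⟨y1, rfl⟩ := exists_pt_opn U y hy
  obtain ⟨g, rfl⟩ := exists_sm_of_surjective_gr b hbs z1 y1
  rw [sm_comp_of_equivariant hb, hz1, ← hz2, ← sm_comp_of_equivariant hb']
  exact mem_of_opn _ _

include K in
theorem isDominant_of_good (U : X.left.Opens) (h : Good a U) : IsDominant (gr a).left := by
  obtain ⟨hne, b, hb, hbs⟩ := h
  have hirr : IrreducibleSpace (X ⊗ X).left := by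
    have : Subsingleton (Spec (CommRingCat.of k)) := inferInstanceAs (Subsingleton (PrimeSpectrum k))
    have : Nonempty (Spec (CommRingCat.of k)) := inferInstanceAs (Nonempty (PrimeSpectrum k))
    exact GeometricallyIrreducible.irreducibleSpace_of_subsingleton (X ⊗ X).hom
  obtain ⟨z, hz⟩ := exists_pt_mem (K := K) U hne
  obtain ⟨z', rfl⟩ := exists_pt_opn U z hz
  have h1 := surjective_orb b hbs z'
  refine isDominant_gr_of_orb a (z' ≫ inc U) ?_
  have h2 : orb a (z' ≫ inc U) = orb b z' ≫ (inc U ▷ KK k K) := by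
    apply CartesianMonoidalCategory.hom_ext
    · simp only [orb, lift_fst, Category.assoc, whiskerRight_fst, lift_fst_assoc]
      rw [sm_comp_of_equivariant hb]
      simp
    · simp [orb]
  have h3 : IsOpenImmersion (inc U ▷ KK k K).left := by
    have : IsOpenImmersion (inc U).left := inferInstanceAs (IsOpenImmersion U.ι)
    exact isOpenImmersion_whisker (inc U)
  have hirr2 := irr_prod_KK X K
  have h4 : IsDominant (inc U ▷ KK k K).left := by
    refine ⟨?_⟩
    exact IsOpen.dense (inc U ▷ KK k K).left.isOpenEmbedding.isOpen_range ⟨_, (sec z').left (pt0 k K), rfl⟩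
  rw [h2, Over.comp_left]
  infer_instance

/-- an action on an open subscheme -/
theorem exists_action_opn (U : X.left.Opens) (h : Set.range ((G ◁ inc U) ≫ a.act).left ⊆ U) :
    ∃ b : AlgGrp.Action G (opn U), (G ◁ inc U) ≫ a.act = b.act ≫ inc U := by
  have : IsOpenImmersion (inc U).left := inferInstanceAs (IsOpenImmersion U.ι)
  have hm : Mono (inc U) := Over.mono_of_mono_left _
  let m : G ⊗ opn U ⟶ opn U := Over.homMk (IsOpenImmersion.lift U.ι ((G ◁ inc U) ≫ a.act).left (by
    rw [Scheme.Opens.range_ι]; exact h)) (by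
      change _ ≫ U.ι ≫ X.hom = _
      rw [IsOpenImmersion.lift_fac_assoc, Over.w])
  have hm2 : m ≫ inc U = (G ◁ inc U) ≫ a.act := by
    ext1
    exact IsOpenImmersion.lift_fac _ _ _
  have hm3 : ∀ {T : Over (Spec (CommRingCat.of k))} (g : T ⟶ G) (x : T ⟶ opn U),
      (CartesianMonoidalCategory.lift g x ≫ m) ≫ inc U = sm a g (x ≫ inc U) := by
    intro T g x
    rw [Category.assoc, hm2, lift_whiskerLeft_assoc, sm]
  refine ⟨K403.QuotAct.mkAction m ?_ ?_, hm2.symm⟩
  · intro T x
    rw [← cancel_mono (inc U), hm3, one_sm]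
  · intro T g h x
    rw [← cancel_mono (inc U), hm3, hm3, hm3, mul_sm]

include K in
theorem exists_good (h : IsDominant (gr a).left) : ∃ U : X.left.Opens, Good a U := by
  obtain ⟨V, hV, hVd⟩ := exists_open_of_isDominant_gr (K := K) a h
  have hirr := irr_prod_KK X K
  have hlfV : LocallyOfFiniteType (opn V).hom := inferInstanceAs (LocallyOfFiniteType (V.ι ≫ X.hom))
  -- the act morphism is open
  have hopen : IsOpenMap a.act.left := by
    have h1 : IsOpenMap (snd G X).left := by
      have : UniversallyOpen G.hom := inferInstance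
      exact (pullback.snd G.hom X.hom).isOpenMap
    have h2 : a.act = CartesianMonoidalCategory.lift (fst G X) a.act ≫ snd G X := by simp
    have h3 : IsIso (CartesianMonoidalCategory.lift (fst G X) a.act) := by
      refine ⟨CartesianMonoidalCategory.lift (fst G X) (sm a (fst G X)⁻¹ (snd G X)), ?_, ?_⟩
      · apply CartesianMonoidalCategory.hom_ext
        · simp
        · have : a.act = sm a (fst G X) (snd G X) := by rw [sm, lift_fst_snd, Category.id_comp]
          rw [Category.assoc, lift_snd, comp_sm, GrpObj.comp_inv, lift_fst, lift_snd, this, ← mul_sm,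
            inv_mul_cancel, one_sm, Category.id_comp]
      · apply CartesianMonoidalCategory.hom_ext
        · simp
        · have : a.act = sm a (fst G X) (snd G X) := by rw [sm, lift_fst_snd, Category.id_comp]
          rw [Category.assoc, lift_snd, this, comp_sm, lift_fst, lift_snd, ← mul_sm,
            mul_inv_cancel, one_sm, Category.id_comp]
    have h4 : IsIso (CartesianMonoidalCategory.lift (fst G X) a.act).left := by
      change IsIso ((Over.forget _).map (CartesianMonoidalCategory.lift (fst G X) a.act))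
      infer_instance
    rw [h2, Over.comp_left]
    exact h1.comp (Scheme.homeoOfIso (asIso (CartesianMonoidalCategory.lift (fst G X) a.act).left)).isOpenMap
  let ψ : G ⊗ opn V ⟶ X := (G ◁ inc V) ≫ a.act
  have hψ : IsOpen (Set.range ψ.left) := by
    have h1 : IsOpenImmersion (G ◁ inc V).left := by
      have : IsOpenImmersion (inc V).left := inferInstanceAs (IsOpenImmersion V.ι)
      exact MorphismProperty.of_isPullback (isPullback_whiskerLeft_left (inc V) G) inferInstance
    have h2 : Set.range ψ.left = a.act.left '' Set.range (G ◁ inc V).left := by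
      rw [← Set.range_comp]
      rfl
    rw [h2]
    exact hopen _ (G ◁ inc V).left.isOpenEmbedding.isOpen_range
  let U : X.left.Opens := ⟨_, hψ⟩
  -- K-points of U
  have hU1 : ∀ z : KK k K ⟶ X, z.left (pt0 k K) ∈ U → IsDominant (orb a z).left := by
    rintro z ⟨w, hw⟩
    obtain ⟨p, rfl⟩ := exists_lift K ψ z w hw
    have h5 : p ≫ ψ = sm a (p ≫ fst G (opn V)) ((p ≫ snd G (opn V)) ≫ inc V) := by
      rw [sm]
      simp only [ψ, ← Category.assoc]
      congr 1
      apply CartesianMonoidalCategory.hom_ext <;> simp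
    rw [h5]
    exact isDominant_orb_sm a _ _ (hVd _ (mem_of_opn V _))
  have hU2 : ∀ z : KK k K ⟶ X, IsDominant (orb a z).left → z.left (pt0 k K) ∈ U := by
    intro z hz
    obtain ⟨v, hv⟩ := exists_pt_mem (K := K) V hV
    obtain ⟨g, hg⟩ := exists_sm_eq_of_dense a v z (hVd v hv) hz
    obtain ⟨v', rfl⟩ := exists_pt_opn V v hv
    refine ⟨(CartesianMonoidalCategory.lift g v').left (pt0 k K), ?_⟩
    rw [← Scheme.Hom.comp_apply, ← Over.comp_left, ← hg]
    simp only [ψ, sm, lift_whiskerLeft_assoc]
  have hlfU : LocallyOfFiniteType (opn U).hom := inferInstanceAs (LocallyOfFiniteType (U.ι ≫ X.hom))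
  have hqcU : QuasiCompact (opn U).hom := by
    have : IsLocallyNoetherian X.left := LocallyOfFiniteType.isLocallyNoetherian X.hom
    exact inferInstanceAs (QuasiCompact (U.ι ≫ X.hom))
  have hstab : Set.range ((G ◁ inc U) ≫ a.act).left ⊆ U := by
    have : JacobsonSpace (G ⊗ opn U).left := LocallyOfFiniteType.jacobsonSpace (G ⊗ opn U).hom
    by_contra hne
    obtain ⟨_, ⟨w, rfl⟩, hw⟩ := Set.not_subset.1 hne
    have hcl : IsClosed (((G ◁ inc U) ≫ a.act).left ⁻¹' (U : Set X.left)ᶜ) :=
      U.isOpen.isClosed_compl.preimage (Scheme.Hom.continuous _)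
    obtain ⟨x, hx, hxc⟩ := nonempty_inter_closedPoints ⟨w, hw⟩ hcl.isLocallyClosed
    obtain ⟨p, hp⟩ := exists_pt_of_isClosed K x hxc
    have h6 : p ≫ (G ◁ inc U) ≫ a.act = sm a (p ≫ fst G (opn U)) ((p ≫ snd G (opn U)) ≫ inc U) := by
      rw [sm]
      simp only [← Category.assoc]
      congr 1
      apply CartesianMonoidalCategory.hom_ext <;> simp
    apply hx
    rw [← hp (pt0 k K), ← Scheme.Hom.comp_apply, ← Over.comp_left, h6]
    exact hU2 _ (isDominant_orb_sm a _ _ (hU1 _ (mem_of_opn U _)))
  obtain ⟨b, hb⟩ := exists_action_opn a U hstab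
  refine ⟨U, ?_, b, hb, ?_⟩
  · obtain ⟨v, hv⟩ := exists_pt_mem (K := K) V hV
    exact ⟨_, hU2 v (hVd v hv)⟩
  · refine surjective_gr_of_pts (K := K) b fun x y => ?_
    have hm : Mono (inc U) := by
      have : IsOpenImmersion (inc U).left := inferInstanceAs (IsOpenImmersion U.ι)
      exact Over.mono_of_mono_left _
    obtain ⟨g, hg⟩ := exists_sm_eq_of_dense a (x ≫ inc U) (y ≫ inc U) (hU1 _ (mem_of_opn U _)) (hU1 _ (mem_of_opn U _))
    refine ⟨g, ?_⟩
    rw [← cancel_mono (inc U), sm_comp_of_equivariant hb, hg]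

end

/-- Over a field k, let G be a smooth k-group scheme of finite type acting on a variety X (a separated,
geometrically integral k-scheme of finite type). Then X is almost homogeneous, i.e. the graph
morphism G × X → X × X, (g, x) ↦ (x, g·x), is dominant, if and only if there is a nonempty open
subscheme U of X which is G-stable (the action restricts to an action on U) and homogeneous (the
graph morphism G × U → U × U is surjective). Moreover there is at most one such open subscheme U
(the open orbit). -/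
theorem result (k : Type u) [Field k]
    (G X : Over (Spec (CommRingCat.of k))) [GrpObj G] [Smooth G.hom] [QuasiCompact G.hom]
    [IsSeparated X.hom] [LocallyOfFiniteType X.hom] [QuasiCompact X.hom] [GeometricallyIntegral X.hom]
    (a : AlgGrp.Action G X) :
    (IsDominant (CartesianMonoidalCategory.lift (CartesianMonoidalCategory.snd G X) a.act).left ↔
      ∃ U : X.left.Opens, (U : Set ↥X.left).Nonempty ∧
        ∃ b : AlgGrp.Action G (Over.mk (U.ι ≫ X.hom)),
          (G ◁ (Over.homMk U.ι rfl : Over.mk (U.ι ≫ X.hom) ⟶ X)) ≫ a.act = b.act ≫ Over.homMk U.ι rfl ∧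
          Surjective (CartesianMonoidalCategory.lift (CartesianMonoidalCategory.snd G (Over.mk (U.ι ≫ X.hom))) b.act).left) ∧
    ∀ U U' : X.left.Opens,
      ((U : Set ↥X.left).Nonempty ∧ ∃ b : AlgGrp.Action G (Over.mk (U.ι ≫ X.hom)),
          (G ◁ (Over.homMk U.ι rfl : Over.mk (U.ι ≫ X.hom) ⟶ X)) ≫ a.act = b.act ≫ Over.homMk U.ι rfl ∧
          Surjective (CartesianMonoidalCategory.lift (CartesianMonoidalCategory.snd G (Over.mk (U.ι ≫ X.hom))) b.act).left) →
      ((U' : Set ↥X.left).Nonempty ∧ ∃ b' : AlgGrp.Action G (Over.mk (U'.ι ≫ X.hom)),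
          (G ◁ (Over.homMk U'.ι rfl : Over.mk (U'.ι ≫ X.hom) ⟶ X)) ≫ a.act = b'.act ≫ Over.homMk U'.ι rfl ∧
          Surjective (CartesianMonoidalCategory.lift (CartesianMonoidalCategory.snd G (Over.mk (U'.ι ≫ X.hom))) b'.act).left) →
      U = U' := by
  let K := AlgebraicClosure k
  refine ⟨⟨fun h => exists_good (K := K) a h, fun ⟨U, hU⟩ => isDominant_of_good (K := K) a U hU⟩, fun U U' h h' => ?_⟩
  exact le_antisymm (good_le (K := K) a U U' h h') (good_le (K := K) a U' U h' h)

end Groth.Agent.S14638
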