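import Groth.Statements.S14639
import Mathlib.LinearAlgebra.Dual.Lemmas
import Mathlib.Algebra.CharZero.Infinite

set_option autoImplicit false
universe u
open Polynomial
open AlgGrp

namespace Groth.Agent.S14639

open Polynomial in
/-- coefficients of polynomials whose values lie in a subspace lie in the subspace. -/
theorem coeff_mem {k : Type u} [Field k] [Infinite k] {R : Type u} [CommRing R] [Algebra k R] (W : Submodule k R)
    (P : R[X]) (h : ∀ a : k, P.eval (algebraMap k R a) ∈ W) (j : ℕ) : P.coeff j ∈ W := by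
  by_contra hj
  obtain ⟨φ, hφ, hφ2⟩ := W.exists_le_ker_of_notMem hj
  let Q : k[X] := ∑ i ∈ P.support, Polynomial.monomial i (φ (P.coeff i))
  have hQ : Q = 0 := by
    refine Polynomial.funext fun a => ?_
    have h1 : φ (P.eval (algebraMap k R a)) = 0 := hφ2 (h a)
    rw [Polynomial.eval_zero, ← h1, Polynomial.eval_finset_sum, P.eval_eq_sum, Polynomial.sum_def, map_sum]
    refine Finset.sum_congr rfl fun i _ => ?_
    rw [Polynomial.eval_monomial, ← map_pow, mul_comm (P.coeff i), ← Algebra.smul_def, map_smul, smul_eq_mul, mul_comm]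
  have h2 : Q.coeff j = φ (P.coeff j) := by
    simp only [Q, Polynomial.finset_sum_coeff, Polynomial.coeff_monomial]
    rw [Finset.sum_ite_eq']
    split_ifs with hs
    · rfl
    · rw [Polynomial.notMem_support_iff.1 hs, map_zero]
  rw [hQ, Polynomial.coeff_zero] at h2
  exact hφ h2.symm

section
variable {k : Type u} [Field k] (N : ℕ)

/-- the ring -/
abbrev RR (k : Type u) [Field k] (N : ℕ) : Type u := AdjoinRoot ((Polynomial.X : Polynomial k) ^ (N + 1))

/-- the variable -/
noncomputable abbrev uu (k : Type u) [Field k] (N : ℕ) : RR k N := AdjoinRoot.root ((Polynomial.X : Polynomial k) ^ (N + 1))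

theorem uu_pow : uu k N ^ (N + 1) = 0 := by
  have := AdjoinRoot.eval₂_root ((Polynomial.X : Polynomial k) ^ (N + 1))
  simpa using this

theorem dec (g : RR k N) : ∃ (c : k) (g' : RR k N), g = algebraMap k _ c + uu k N * g' := by
  induction g using AdjoinRoot.induction_on with
  | ih p =>
    refine ⟨p.coeff 0, AdjoinRoot.mk _ p.divX, ?_⟩
    nth_rewrite 1 [← Polynomial.divX_mul_X_add p]
    rw [map_add, map_mul, AdjoinRoot.mk_X, AdjoinRoot.mk_C, add_comm, mul_comm]
    rfl

theorem isUnit_one_add : IsUnit (1 + Polynomial.C (uu k N) * Polynomial.X : Polynomial (RR k N)) := by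
  refine IsNilpotent.isUnit_one_add ⟨N + 1, ?_⟩
  rw [mul_pow, ← Polynomial.C_pow, uu_pow, Polynomial.C_0, zero_mul]

/-- image of the variable -/
noncomputable def xx (k : Type u) [Field k] (N : ℕ) : Polynomial (RR k N) :=
  Polynomial.C (uu k N) * ((isUnit_one_add N).unit⁻¹ : (Polynomial (RR k N))ˣ)

theorem xx_mul : xx k N * (1 + Polynomial.C (uu k N) * Polynomial.X) = Polynomial.C (uu k N) := by
  rw [xx, mul_assoc, IsUnit.val_inv_mul, mul_one]

theorem xx_pow : xx k N ^ (N + 1) = 0 := by
  rw [xx, mul_pow, ← Polynomial.C_pow, uu_pow, Polynomial.C_0, zero_mul]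

/-- the universal substitution -/
noncomputable def PP (k : Type u) [Field k] (N : ℕ) : RR k N →ₐ[k] Polynomial (RR k N) :=
  AdjoinRoot.liftAlgHom _ (Algebra.ofId k _) (xx k N) (by
    rw [Polynomial.eval₂_pow, Polynomial.eval₂_X, xx_pow])

theorem PP_uu : PP k N (uu k N) = xx k N := by
  rw [PP, AdjoinRoot.liftAlgHom_root]

theorem PP_coeff_zero (f : RR k N) : (PP k N f).coeff 0 = f := by
  have h : ((Polynomial.aeval (0 : RR k N)).restrictScalars k).comp (PP k N) = AlgHom.id k _ := by
    apply AdjoinRoot.algHom_ext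
    have h1 := congrArg (Polynomial.aeval (0 : RR k N)) (xx_mul (k := k) N)
    simpa [PP_uu] using h1
  have h2 := DFunLike.congr_fun h f
  rw [Polynomial.coeff_zero_eq_aeval_zero]
  exact h2

/-- the derivation -/
noncomputable def DD (k : Type u) [Field k] (N : ℕ) (f : RR k N) : RR k N := (PP k N f).coeff 1

theorem DD_mul (f g : RR k N) : DD k N (f * g) = f * DD k N g + g * DD k N f := by
  rw [DD, map_mul, Polynomial.mul_coeff_one, PP_coeff_zero, PP_coeff_zero, DD, DD, mul_comm g]

theorem DD_add (f g : RR k N) : DD k N (f + g) = DD k N f + DD k N g := by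
  rw [DD, map_add, Polynomial.coeff_add, DD, DD]

theorem DD_algebraMap (c : k) : DD k N (algebraMap k _ c) = 0 := by
  rw [DD, AlgHom.commutes, Polynomial.algebraMap_apply, Polynomial.coeff_C_ne_zero one_ne_zero]

theorem DD_uu : DD k N (uu k N) = -(uu k N) ^ 2 := by
  have h := congrArg (fun p => Polynomial.coeff p 1) (xx_mul (k := k) N)
  simp only [Polynomial.mul_coeff_one] at h
  have h0 : (xx k N).coeff 0 = uu k N := by rw [← PP_uu, PP_coeff_zero]
  have h1 : (xx k N).coeff 1 = DD k N (uu k N) := by rw [← PP_uu, DD]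
  simp only [h0, h1, Polynomial.coeff_add, Polynomial.coeff_one, Polynomial.coeff_C_mul, Polynomial.coeff_X,
    Polynomial.coeff_C] at h
  norm_num at h
  linear_combination h

theorem DD_uu_pow (m : ℕ) : DD k N (uu k N ^ m) = -(m : RR k N) * (uu k N) ^ (m + 1) := by
  induction m with
  | zero =>
    have := DD_algebraMap (k := k) N 1
    rw [map_one] at this
    simp [this]
  | succ m ih =>
    rw [pow_succ, DD_mul, ih, DD_uu]
    push_cast
    ring

theorem DD_dvd (f : RR k N) : ∃ g, DD k N f = uu k N ^ 2 * g := by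
  induction f using AdjoinRoot.induction_on with
  | ih p =>
    induction p using Polynomial.induction_on' with
    | add p q hp hq =>
      obtain ⟨g, hg⟩ := hp
      obtain ⟨g', hg'⟩ := hq
      exact ⟨g + g', by rw [map_add, DD_add, hg, hg', mul_add]⟩
    | monomial n a =>
      refine ⟨algebraMap k _ a * (-(n : RR k N) * (DD k N (uu k N ^ 0) + uu k N ^ (n - 1))), ?_⟩
      rw [← Polynomial.C_mul_X_pow_eq_monomial, map_mul, map_pow, AdjoinRoot.mk_X, AdjoinRoot.mk_C, DD_mul]
      have := DD_algebraMap N a
      change DD k N (AdjoinRoot.of _ a) = 0 at this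
      rw [this, DD_uu_pow, DD_uu_pow]
      change algebraMap k _ a * _ + _ = _
      rcases n with _ | n
      · simp
      · simp only [Nat.add_sub_cancel]
        push_cast
        ring

end

/-- Classification of the subalgebras of a truncated polynomial ring that are stable under the unipotent
substitutions, which is the algebraic step behind the classification of curves almost homogeneous
under the additive group in characteristic zero. Let k be a field of characteristic zero, N ≥ 0 and
R = k[u]/(u^(N+1)). The additive group acts on R through the substitutions u ↦ u/(1 + a u), a in k.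
If A is a k-subalgebra of R stable under all these substitutions (stated for every k-algebra
endomorphism σ of R with σ(u)(1 + a u) = u for some a in k), then there is an integer n with 1 ≤ n ≤
N + 1 such that A = k ⊕ (u^n): as a k-subspace, A is the span of 1 plus the ideal generated by u^n.
(In positive characteristic p and for N ≥ p + 1, the subalgebra generated by u^p is stable and not
of this form.) -/
theorem result (k : Type u) [Field k] [CharZero k]
    (N : ℕ) (A : Subalgebra k (AdjoinRoot ((Polynomial.X : Polynomial k) ^ (N + 1))))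
    (hA : ∀ (a : k) (σ : AdjoinRoot ((Polynomial.X : Polynomial k) ^ (N + 1)) →ₐ[k] AdjoinRoot ((Polynomial.X : Polynomial k) ^ (N + 1))),
      σ (AdjoinRoot.root ((Polynomial.X : Polynomial k) ^ (N + 1))) * (1 + algebraMap k (AdjoinRoot ((Polynomial.X : Polynomial k) ^ (N + 1))) a * AdjoinRoot.root ((Polynomial.X : Polynomial k) ^ (N + 1))) = AdjoinRoot.root ((Polynomial.X : Polynomial k) ^ (N + 1)) →
        A.map σ ≤ A) :
    ∃ n : ℕ, 1 ≤ n ∧ n ≤ N + 1 ∧
      Subalgebra.toSubmodule A =
        Submodule.span k {1} ⊔ (Ideal.span {AdjoinRoot.root ((Polynomial.X : Polynomial k) ^ (N + 1)) ^ n}).restrictScalars k := by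
  classical
  have hinf : Infinite k := inferInstance
  -- stability under the derivation
  have hD : ∀ f ∈ A, DD k N f ∈ A := by
    intro f hf
    refine coeff_mem (Subalgebra.toSubmodule A) (PP k N f) (fun a => ?_) 1
    let σ : RR k N →ₐ[k] RR k N := ((Polynomial.aeval (algebraMap k (RR k N) a)).restrictScalars k).comp (PP k N)
    have hσ : σ f = (PP k N f).eval (algebraMap k (RR k N) a) := rfl
    rw [← hσ]
    refine hA a σ ?_ ⟨f, hf, rfl⟩
    have h1 := congrArg (Polynomial.aeval (algebraMap k (RR k N) a)) (xx_mul (k := k) N)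
    change (Polynomial.aeval (algebraMap k (RR k N) a)) (PP k N (uu k N)) * _ = _
    rw [PP_uu]
    rw [map_mul, map_add, map_mul, map_one, Polynomial.aeval_X, Polynomial.aeval_C] at h1
    rw [mul_comm (algebraMap k _ a)]
    exact h1
  -- property P
  let P : ℕ → Prop := fun n => ∃ h ∈ A, ∃ c : k, c ≠ 0 ∧ ∃ g, h = algebraMap k _ c * uu k N ^ n + uu k N ^ (n + 1) * g
  have hPs : ∀ n, 1 ≤ n → P n → P (n + 1) := by
    rintro n hn ⟨h, hh, c, hc, g, rfl⟩
    obtain ⟨g', hg'⟩ := DD_dvd (k := k) N g
    refine ⟨_, hD _ hh, -((n : k) * c), ?_, -((n : RR k N) + 1) * g + uu k N * g', ?_⟩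
    · rw [neg_ne_zero]
      exact mul_ne_zero (by exact_mod_cast (by omega : n ≠ 0)) hc
    · rw [DD_add, DD_mul, DD_mul, DD_algebraMap, DD_uu_pow, DD_uu_pow, hg']
      simp only [map_neg, map_mul, map_natCast]
      push_cast
      ring
  have hex : ∃ n, 1 ≤ n ∧ P n := ⟨N + 1, by omega, 0, A.zero_mem, 1, one_ne_zero, 0, by
    rw [uu_pow, mul_zero, mul_zero, add_zero]⟩
  let n := Nat.find hex
  have hn : 1 ≤ n ∧ P n := Nat.find_spec hex
  have hmin : ∀ m, 1 ≤ m → m < n → ¬ P m := fun m hm hmn hP => Nat.find_min hex hmn ⟨hm, hP⟩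
  have hnN : n ≤ N + 1 := Nat.find_min' hex ⟨by omega, 0, A.zero_mem, 1, one_ne_zero, 0, by
    rw [uu_pow, mul_zero, mul_zero, add_zero]⟩
  have hP : ∀ m, n ≤ m → P m := by
    intro m hm
    induction m, hm using Nat.le_induction with
    | base => exact hn.2
    | succ m hm ih => exact hPs m (hn.1.trans hm) ih
  have hI : ∀ j, j ≤ N + 1 - n → ∀ g, uu k N ^ (N + 1 - j) * g ∈ A := by
    intro j
    induction j with
    | zero =>
      intro _ g
      rw [Nat.sub_zero, uu_pow, zero_mul]
      exact A.zero_mem
    | succ j ih =>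
      intro hj g
      have ih' := ih (by omega)
      obtain ⟨h, hh, c, hc, g1, hg1⟩ := hP (N + 1 - (j + 1)) (by omega)
      have e : N + 1 - (j + 1) + 1 = N + 1 - j := by omega
      rw [e] at hg1
      have h1 : uu k N ^ (N + 1 - (j + 1)) ∈ A := by
        have h2 : algebraMap k _ c * uu k N ^ (N + 1 - (j + 1)) ∈ A := by
          have : algebraMap k _ c * uu k N ^ (N + 1 - (j + 1)) = h - uu k N ^ (N + 1 - j) * g1 := by
            rw [hg1]; ring
          rw [this]
          exact A.sub_mem hh (ih' g1)
        have h3 := A.mul_mem (A.algebraMap_mem c⁻¹) h2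
        rwa [← mul_assoc, ← map_mul, inv_mul_cancel₀ hc, map_one, one_mul] at h3
      obtain ⟨d, g2, rfl⟩ := dec N g
      have h4 : uu k N ^ (N + 1 - (j + 1)) * (algebraMap k _ d + uu k N * g2) =
          algebraMap k _ d * uu k N ^ (N + 1 - (j + 1)) + uu k N ^ (N + 1 - j) * g2 := by
        rw [← e]; ring
      rw [h4]
      exact A.add_mem (A.mul_mem (A.algebraMap_mem d) h1) (ih' g2)
  refine ⟨n, hn.1, hnN, le_antisymm ?_ ?_⟩
  · intro f hf
    obtain ⟨c, g, hg⟩ := dec N f
    have hug : uu k N * g ∈ A := by
      have : uu k N * g = f - algebraMap k _ c := by rw [hg]; ring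
      rw [this]
      exact A.sub_mem hf (A.algebraMap_mem c)
    have hj : ∀ j, 1 ≤ j → j ≤ n → ∃ g', uu k N * g = uu k N ^ j * g' := by
      intro j hj
      induction j, hj using Nat.le_induction with
      | base => intro _; exact ⟨g, by rw [pow_one]⟩
      | succ j hj ih =>
        intro hjn
        obtain ⟨g', hg'⟩ := ih (by omega)
        obtain ⟨d, g2, hg2⟩ := dec N g'
        have hd : d = 0 := by
          by_contra hd
          refine hmin j hj (by omega) ⟨_, hug, d, hd, g2, ?_⟩
          rw [hg', hg2]; ring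
        refine ⟨g2, ?_⟩
        rw [hg', hg2, hd, map_zero]; ring
    obtain ⟨g', hg'⟩ := hj n hn.1 le_rfl
    rw [hg, hg']
    refine Submodule.add_mem_sup ?_ ?_
    · rw [Algebra.algebraMap_eq_smul_one]
      exact Submodule.smul_mem _ _ (Submodule.mem_span_singleton_self _)
    · rw [Submodule.restrictScalars_mem]
      exact Ideal.mul_mem_right _ _ (Ideal.mem_span_singleton_self _)
  · refine sup_le ?_ ?_
    · rw [Submodule.span_singleton_le_iff_mem]
      exact A.one_mem
    · intro f hf
      rw [Submodule.restrictScalars_mem, Ideal.mem_span_singleton'] at hf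
      obtain ⟨g, rfl⟩ := hf
      have := hI (N + 1 - n) le_rfl g
      rw [show N + 1 - (N + 1 - n) = n by omega] at this
      rw [mul_comm]
      exact this

end Groth.Agent.S14639
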