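import Groth.Statements.S14640
import Groth.Agent.AlgGrp.K403.Orbits3

set_option autoImplicit false
universe u
open CategoryTheory MonoidalCategory CartesianMonoidalCategory MonObj GrpObj AlgebraicGeometry CategoryTheory.Limits
open AlgGrp

namespace Groth.Agent.S14640

open K403.Orbits K403.GeomPts Groth.Agent.Books.BorelOrb K403.Dense

/-- Over a field k, let G be a smooth k-group scheme of finite type acting on a variety X (a separated,
geometrically integral k-scheme of finite type), and let i : G° → G be its identity component: a
homomorphism which is an open immersion from a connected k-group scheme whose image is the connected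
component of the unit element of G. Let G° act on X through i. Then X is homogeneous under G (the
graph morphism G × X → X × X, (g, x) ↦ (x, g·x), is surjective) if and only if it is homogeneous
under G°, and X is almost homogeneous under G (the graph morphism is dominant) if and only if it is
almost homogeneous under G°. -/
theorem result (k : Type u) [Field k]
    (G G0 X : Over (Spec (CommRingCat.of k))) [GrpObj G] [Smooth G.hom] [QuasiCompact G.hom]
    [GrpObj G0] (i : G0 ⟶ G) [IsMonHom i] [IsOpenImmersion i.left] [ConnectedSpace ↥G0.left]
    (hi : Set.range i.left.base = connectedComponent ((η[G]).left.base (IsLocalRing.closedPoint k)))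
    [IsSeparated X.hom] [LocallyOfFiniteType X.hom] [QuasiCompact X.hom] [GeometricallyIntegral X.hom]
    (a : AlgGrp.Action G X) (a0 : AlgGrp.Action G0 X) (ha0 : a0.act = (i ▷ X) ≫ a.act) :
    (Surjective (CartesianMonoidalCategory.lift (CartesianMonoidalCategory.snd G X) a.act).left ↔
      Surjective (CartesianMonoidalCategory.lift (CartesianMonoidalCategory.snd G0 X) a0.act).left) ∧
    (IsDominant (CartesianMonoidalCategory.lift (CartesianMonoidalCategory.snd G X) a.act).left ↔
      IsDominant (CartesianMonoidalCategory.lift (CartesianMonoidalCategory.snd G0 X) a0.act).left) := by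
  let K := AlgebraicClosure k
  have hft : LocallyOfFiniteType G.hom := inferInstance
  have hft0 : LocallyOfFiniteType G0.hom := by
    rw [← Over.w i]
    infer_instance
  have hqc0 : QuasiCompact G0.hom := by
    have : IsLocallyNoetherian G.left := LocallyOfFiniteType.isLocallyNoetherian G.hom
    have : QuasiCompact i.left := inferInstance
    rw [← Over.w i]
    infer_instance
  have hirr := irr_prod_KK X K
  have hgr : gr a0 = (i ▷ X) ≫ gr a := by
    apply CartesianMonoidalCategory.hom_ext
    · simp [gr]
    · simp [gr, ha0]
  refine ⟨⟨fun h => ?_, fun h => ?_⟩, ⟨fun h => ?_, fun h => ?_⟩⟩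
  · refine surjective_gr_of_pts (K := K) a0 fun x y => ?_
    have h1 : ∀ z : KK k K ⟶ X, IsDominant (orb a0 z).left := fun z => by
      have := surjective_orb a h z
      exact isDominant_orb_openSubgroup i a a0 ha0 z inferInstance
    exact exists_sm_eq_of_dense a0 x y (h1 x) (h1 y)
  · have h1 : Surjective ((i ▷ X).left ≫ (gr a).left) := by
      rw [← Over.comp_left, ← hgr]
      exact h
    exact Surjective.of_comp (i ▷ X).left _
  · obtain ⟨V, hV, hVd⟩ := exists_open_of_isDominant_gr (K := K) a h
    obtain ⟨z, hz⟩ := exists_pt_mem (K := K) V hV
    exact isDominant_gr_of_orb a0 z (isDominant_orb_openSubgroup i a a0 ha0 z (hVd z hz))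
  · have h1 : IsDominant ((i ▷ X).left ≫ (gr a).left) := by
      rw [← Over.comp_left, ← hgr]
      exact h
    exact IsDominant.of_comp (i ▷ X).left _

end Groth.Agent.S14640
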