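import Groth.Statements.S14641
import Groth.Agent.AlgGrp.K403.Act

set_option autoImplicit false
universe u
open CategoryTheory MonoidalCategory CartesianMonoidalCategory MonObj GrpObj AlgebraicGeometry CategoryTheory.Limits
open AlgGrp

namespace Groth.Agent.S14641

open Groth.Agent.Books.BorelOrb K403.Act

/-- Over a field k, let G be a k-group scheme of finite type, i : H → G a closed subgroup scheme, and
(Q, o) the quotient G/H: a k-scheme with a G-action and a rational point o exhibiting it as the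
quotient (orbit map flat and surjective, G × H ≅ G ×_Q G). Let n : N → G be a closed subgroup scheme
which is the kernel of the action of G on Q, i.e. for every k-scheme T, a T-point g of G factors
through N exactly when g acts as the identity on Q_T (on all points of Q over T-schemes). Then N is
normal in G and contained in H, and N is the largest such subgroup: every closed subgroup scheme N'
of G which is normal in G and factors through H factors through N. -/
theorem result (k : Type u) [Field k]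
    (G H Q N : Over (Spec (CommRingCat.of k))) [GrpObj G] [LocallyOfFiniteType G.hom] [QuasiCompact G.hom]
    [GrpObj H] (i : H ⟶ G) [IsMonHom i] [IsClosedImmersion i.left]
    (a : AlgGrp.Action G Q) (o : 𝟙_ (Over (Spec (CommRingCat.of k))) ⟶ Q) (hQ : AGF.IsQuotient i Q a o)
    [GrpObj N] (n : N ⟶ G) [IsMonHom n] [IsClosedImmersion n.left]
    (hN : ∀ (T : Over (Spec (CommRingCat.of k))) (g : T ⟶ G),
      (∃ m : T ⟶ N, m ≫ n = g) ↔
        ∀ (T' : Over (Spec (CommRingCat.of k))) (s : T' ⟶ T) (x : T' ⟶ Q),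
          CartesianMonoidalCategory.lift (s ≫ g) x ≫ a.act = x) :
    AlgGrp.IsNormalHom n ∧ (∃ f : N ⟶ H, f ≫ i = n) ∧
      ∀ (N' : Over (Spec (CommRingCat.of k))) [GrpObj N'] (n' : N' ⟶ G) [IsMonHom n'] [IsClosedImmersion n'.left],
        AlgGrp.IsNormalHom n' → (∃ f : N' ⟶ H, f ≫ i = n') → ∃ f' : N' ⟶ N, f' ≫ n = n' := by
  have hN' : ∀ (T : Over (Spec (CommRingCat.of k))) (g : T ⟶ G), (∃ m : T ⟶ N, m ≫ n = g) ↔ Triv a g := hN
  have hq := Groth.Agent.Agf.H584.QBasic.isQ_of_isQuotient hQ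
  have hstab : ∀ {T : Over (Spec (CommRingCat.of k))} (g : T ⟶ G), sm a g (toUnit T ≫ o) = toUnit T ≫ o →
      ∃ h : T ⟶ H, h ≫ i = g := by
    intro T g hg
    have h1 : (1 : T ⟶ G) ≫ a.orbitMap o = g ≫ a.orbitMap o := by
      rw [comp_orbitMap, comp_orbitMap, one_sm, hg]
    obtain ⟨x, hx⟩ := (hq.eq_iff _ _).1 h1
    exact ⟨x, by rw [hx, _root_.one_mul]⟩
  have hstab' : ∀ {T : Over (Spec (CommRingCat.of k))} (x : T ⟶ H), sm a (x ≫ i) (toUnit T ≫ o) = toUnit T ≫ o := by
    intro T x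
    have h1 := (hq.eq_iff (1 : T ⟶ G) (x ≫ i)).2 ⟨x, by rw [_root_.one_mul]⟩
    rw [comp_orbitMap, comp_orbitMap, one_sm] at h1
    exact h1.symm
  refine ⟨?_, ?_, ?_⟩
  · intro T g m
    have h1 : Triv a (m ≫ n) := (hN' T _).1 ⟨m, rfl⟩
    obtain ⟨n', hn'⟩ := (hN' T _).2 (h1.conj a g)
    exact ⟨n', hn'.symm⟩
  · exact hstab n (((hN' N n).1 ⟨𝟙 N, Category.id_comp _⟩).sm_eq a _)
  · intro N' _ n' _ _ hnorm hfac
    obtain ⟨f, hf⟩ := hfac
    refine (hN' N' n').2 ?_
    intro T s x
    have := hq.flat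
    have := hq.surj
    have := hq.qc
    obtain ⟨T', c, g, hc, -, -, -, hcx⟩ := exists_cover (a.orbitMap o) x
    rw [← cancel_epi c, comp_sm, hcx, comp_orbitMap]
    obtain ⟨m, hm⟩ := hnorm T' g⁻¹ (c ≫ s)
    have h1 : c ≫ s ≫ n' = g * (m ≫ n') * g⁻¹ := by
      rw [← hm]
      simp [_root_.mul_assoc]
    have h2 : sm a (m ≫ n') (toUnit T' ≫ o) = toUnit T' ≫ o := by
      rw [← hf, ← Category.assoc]
      exact hstab' _
    rw [h1, mul_sm, mul_sm, ← mul_sm a g⁻¹ g, inv_mul_cancel, one_sm, h2]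

end Groth.Agent.S14641
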