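import Groth.Agent.AlgGrp.K339.EqMain
import Groth.Agent.S7376
import Groth.Statements.S14642
-- import your own Groth.Agent.* helpers here

set_option autoImplicit false
universe u
open CategoryTheory MonoidalCategory CartesianMonoidalCategory MonObj GrpObj AlgebraicGeometry CategoryTheory.Limits
open AlgGrp

namespace Groth.Agent.S14642

/-- Over a field k, let G be a smooth connected k-group scheme of finite type acting on a projective
surface X, i.e. a geometrically integral k-scheme of dimension 2 which admits a closed immersion
over k into some projective space over k. Then there are a geometrically integral k-scheme X' of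
dimension 2 all of whose local rings are regular, again projective over k (a regular projective
surface), an action of G on X', and a G-equivariant k-morphism f : X' → X which is proper and is an
isomorphism over every open subset of X all of whose points have regular local rings (in particular
f is birational). -/
theorem result (k : Type u) [Field k]
    (G X : Over (Spec (CommRingCat.of k))) [GrpObj G] [Smooth G.hom] [QuasiCompact G.hom] [ConnectedSpace ↥G.left]
    [GeometricallyIntegral X.hom] (hproj : Neron.IsProjectiveOver k X) (hdim : topologicalKrullDim ↥X.left = 2)
    (a : AlgGrp.Action G X) :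
    ∃ (X' : Over (Spec (CommRingCat.of k))) (a' : AlgGrp.Action G X') (f : X' ⟶ X),
      GeometricallyIntegral X'.hom ∧ topologicalKrullDim ↥X'.left = 2 ∧ (∀ x : ↥X'.left, IsRegularLocalRing (X'.left.presheaf.stalk x)) ∧
      Neron.IsProjectiveOver k X' ∧ IsProper f.left ∧ (G ◁ f) ≫ a.act = a'.act ≫ f ∧
      ∀ U : X.left.Opens, (∀ x ∈ U, IsRegularLocalRing (X.left.presheaf.stalk x)) → IsIso (f.left ∣_ U) := by
  exact K339.EqMain.main (fun A _ _ _ _ _ hdim hres => Groth.Agent.S7376.result A hdim hres) k G X hproj hdim a

end Groth.Agent.S14642
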