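import Groth.Statements.S14643
import Groth.Agent.AlgGrp.K403.QuotAct

set_option autoImplicit false
universe u
open CategoryTheory MonoidalCategory CartesianMonoidalCategory MonObj GrpObj AlgebraicGeometry CategoryTheory.Limits
open AlgGrp

namespace Groth.Agent.S14643

open Groth.Agent.Books.BorelOrb K403.Act K403.Dense K403.QuotAct

/-- Over a field k, let G be a smooth k-group scheme of finite type acting on a variety X (a separated,
geometrically integral k-scheme of finite type). Let n : N → G be the kernel of the action: a closed
subgroup scheme such that, for every k-scheme T, a T-point of G factors through N exactly when it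
acts as the identity on all points of X over T-schemes. Let π : G → Q be a homomorphism onto a
k-group scheme of finite type which is flat and surjective with kernel N (the quotient G/N). Then
there is a unique action of Q on X inducing the given one along π; this action of Q is faithful (a
T-point of Q acting as the identity on all points of X over T-schemes is the unit); and X is
homogeneous under G (surjective graph morphism (g, x) ↦ (x, g·x)) if and only if it is homogeneous
under Q, and almost homogeneous under G (dominant graph morphism) if and only if it is almost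
homogeneous under Q. -/
theorem result (k : Type u) [Field k]
    (G N Q X : Over (Spec (CommRingCat.of k))) [GrpObj G] [Smooth G.hom] [QuasiCompact G.hom]
    [IsSeparated X.hom] [LocallyOfFiniteType X.hom] [QuasiCompact X.hom] [GeometricallyIntegral X.hom] (a : AlgGrp.Action G X)
    [GrpObj N] (n : N ⟶ G) [IsMonHom n] [IsClosedImmersion n.left]
    (hN : ∀ (T : Over (Spec (CommRingCat.of k))) (g : T ⟶ G),
      (∃ m : T ⟶ N, m ≫ n = g) ↔
        ∀ (T' : Over (Spec (CommRingCat.of k))) (s : T' ⟶ T) (x : T' ⟶ X), CartesianMonoidalCategory.lift (s ≫ g) x ≫ a.act = x)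
    [GrpObj Q] [LocallyOfFiniteType Q.hom] [QuasiCompact Q.hom] (π : G ⟶ Q) [IsMonHom π] [Flat π.left] [Surjective π.left]
    (hker : AlgGrp.IsKernel n π) :
    (∃! b : AlgGrp.Action Q X, (π ▷ X) ≫ b.act = a.act) ∧
    ∀ b : AlgGrp.Action Q X, (π ▷ X) ≫ b.act = a.act →
      (∀ (T : Over (Spec (CommRingCat.of k))) (q : T ⟶ Q),
        (∀ (T' : Over (Spec (CommRingCat.of k))) (s : T' ⟶ T) (x : T' ⟶ X), CartesianMonoidalCategory.lift (s ≫ q) x ≫ b.act = x) → q = 1) ∧
      (Surjective (CartesianMonoidalCategory.lift (CartesianMonoidalCategory.snd G X) a.act).left ↔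
        Surjective (CartesianMonoidalCategory.lift (CartesianMonoidalCategory.snd Q X) b.act).left) ∧
      (IsDominant (CartesianMonoidalCategory.lift (CartesianMonoidalCategory.snd G X) a.act).left ↔
        IsDominant (CartesianMonoidalCategory.lift (CartesianMonoidalCategory.snd Q X) b.act).left) := by
  have hN' : ∀ (T : Over (Spec (CommRingCat.of k))) (g : T ⟶ G), (∃ m : T ⟶ N, m ≫ n = g) ↔ Triv a g := hN
  have htriv : Triv a n := (hN' N n).1 ⟨𝟙 N, Category.id_comp _⟩
  have hqc : QuasiCompact π.left := qc π
  have hepi : Epi (π ▷ X) := epi_whisker π X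
  refine ⟨?_, ?_⟩
  · obtain ⟨b, hb⟩ := exists_quotAct π a hker htriv
    refine ⟨b, hb, ?_⟩
    intro b' hb'
    apply action_ext
    rw [← cancel_epi (π ▷ X), hb, hb']
  · intro b hb
    refine ⟨?_, ?_, ?_⟩
    · intro T q hq
      obtain ⟨T', c, g, hc, -, -, -, hcg⟩ := exists_cover π q
      have h1 : Triv b (c ≫ q) := Triv.comp b hq c
      have h2 : Triv a g := by
        intro T'' s x
        rw [sm, ← hb, ← Category.assoc, lift_whiskerRight]
        have := h1 T'' s x
        rw [hcg, ← Category.assoc] at this
        exact this
      obtain ⟨m, hm⟩ := (hN' _ _).2 h2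
      rw [← cancel_epi c, hcg, ← hm, Category.assoc, hker.w, MonObj.comp_one, Hom.one_def, ← Category.assoc]
      congr 1
      exact toUnit_unique _ _
    · rw [comp_graph π hb, Over.comp_left]
      constructor
      · intro h
        exact Surjective.of_comp (π ▷ X).left _
      · intro h
        infer_instance
    · rw [comp_graph π hb, Over.comp_left]
      constructor
      · intro h
        exact IsDominant.of_comp (π ▷ X).left _
      · intro h
        infer_instance

end Groth.Agent.S14643
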