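import Groth.Statements.S14644
import Groth.Agent.AlgGrp.K403.HomogBc
import Groth.Agent.CurvesB.VABaseChange

set_option autoImplicit false
universe u
open CategoryTheory MonoidalCategory CartesianMonoidalCategory MonObj GrpObj AlgebraicGeometry CategoryTheory.Limits
open AlgGrp

namespace Groth.Agent.S14644

/-- Over a field k, let C be a smooth curve, i.e. a separated, geometrically integral k-scheme, smooth
of finite type over k, of dimension 1, and suppose that C is homogeneous under an action of a smooth
connected k-group scheme of finite type G: the graph morphism G × C → C × C, (g, x) ↦ (x, g·x), is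
surjective. Let K be an algebraic closure of k. Then C is a form of the projective line, of the
affine line or of the punctured affine line — the base change C_K is isomorphic over K to P¹_K, to
A¹_K = Spec K[T] or to Spec K[T, T⁻¹] — or C is proper over k with h¹(C, O_C) = 1 (a smooth
projective curve of genus 1, possibly without rational point). -/
theorem result (k : Type u) [Field k]
    (G : Over (Spec (CommRingCat.of k))) [GrpObj G] [Smooth G.hom] [QuasiCompact G.hom] [ConnectedSpace ↥G.left]
    (C : Scheme.{u}) [C.Over (Spec (CommRingCat.of k))] [IsSeparated (C ↘ (Spec (CommRingCat.of k)))] [Smooth (C ↘ (Spec (CommRingCat.of k)))] [QuasiCompact (C ↘ (Spec (CommRingCat.of k)))]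
    [GeometricallyIntegral (C ↘ (Spec (CommRingCat.of k)))] (hdim : topologicalKrullDim ↥C = 1)
    (a : AlgGrp.Action G (Over.mk (C ↘ (Spec (CommRingCat.of k)))))
    (hhom : Surjective (CartesianMonoidalCategory.lift (CartesianMonoidalCategory.snd G (Over.mk (C ↘ (Spec (CommRingCat.of k))))) a.act).left)
    (K : Type u) [Field K] [Algebra k K] [IsAlgClosure k K] :
    (∃ e : Curv2.bc k C K ≅ CohB1.ProjSpace 1 K, e.hom ≫ CohB1.ProjSpace.toSpec 1 K = Curv2.bcSnd k C K) ∨
    (∃ e : Curv2.bc k C K ≅ Spec (CommRingCat.of (Polynomial K)),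
      e.hom ≫ Spec.map (CommRingCat.ofHom (algebraMap K (Polynomial K))) = Curv2.bcSnd k C K) ∨
    (∃ e : Curv2.bc k C K ≅ Spec (CommRingCat.of (LaurentPolynomial K)),
      e.hom ≫ Spec.map (CommRingCat.ofHom (algebraMap K (LaurentPolynomial K))) = Curv2.bcSnd k C K) ∨
    (IsProper (C ↘ (Spec (CommRingCat.of k))) ∧ Curv2.genus k C = 1) := by
  let X : Over (Spec (CommRingCat.of k)) := Over.mk (C ↘ (Spec (CommRingCat.of k)))
  let f : Spec (CommRingCat.of K) ⟶ Spec (CommRingCat.of k) := Spec.map (CommRingCat.ofHom (algebraMap k K))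
  let G' := Red.bc f G
  let X' := Red.bc f X
  have hac : IsAlgClosed K := IsAlgClosure.isAlgClosed k
  have halg : Algebra.IsAlgebraic k K := IsAlgClosure.isAlgebraic
  have hG1 : Smooth G'.hom := inferInstanceAs (Smooth (pullback.snd G.hom f))
  have hG2 : QuasiCompact G'.hom := inferInstanceAs (QuasiCompact (pullback.snd G.hom f))
  have hGC : GeometricallyConnected G.hom := K403.GeomPts.geometricallyConnected G
  have hG3 : ConnectedSpace G'.left := K403.GeomPts.connectedSpace_prod_KK G K
  have hX1 : IsSeparated X'.hom := inferInstanceAs (IsSeparated (pullback.snd (C ↘ (Spec (CommRingCat.of k))) f))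
  have hX2 : Smooth X'.hom := inferInstanceAs (Smooth (pullback.snd (C ↘ (Spec (CommRingCat.of k))) f))
  have hX3 : QuasiCompact X'.hom := inferInstanceAs (QuasiCompact (pullback.snd (C ↘ (Spec (CommRingCat.of k))) f))
  have hX4 : GeometricallyIntegral X'.hom := inferInstanceAs (GeometricallyIntegral (pullback.snd (C ↘ (Spec (CommRingCat.of k))) f))
  have hpb := Groth.Agent.CurvesB.VABaseChange.isPullback_bc k C K
  have hdim' : topologicalKrullDim X'.left = 1 :=
    (@Groth.Agent.CurvesB.VABaseChange.topologicalKrullDim_eq k _ C _ K _ _ _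
      (Groth.Agent.CurvesB.VABaseChange.overBc k C K) _ hpb _).trans hdim
  have ht := K403.HomogBc.gr_bc f a hhom
  rcases K403.HomogC.main hdim' (a.bc f) ht with h | h | h | ⟨h1, h2⟩
  · exact Or.inl h
  · exact Or.inr (Or.inl h)
  · exact Or.inr (Or.inr (Or.inl h))
  · right; right; right
    have hprop : IsProper (C ↘ (Spec (CommRingCat.of k))) := by
      have h3 : UniversallyClosed (pullback.snd (C ↘ (Spec (CommRingCat.of k))) f) := by
        have : IsProper (pullback.snd (C ↘ (Spec (CommRingCat.of k))) f) := h1
        infer_instance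
      have h4 : UniversallyClosed (C ↘ (Spec (CommRingCat.of k))) :=
        MorphismProperty.of_pullback_snd_of_descendsAlong (P := @UniversallyClosed)
          (Q := @Surjective ⊓ @Flat ⊓ @QuasiCompact) (f := C ↘ (Spec (CommRingCat.of k))) (g := f)
          ⟨⟨inferInstance, inferInstance⟩, inferInstance⟩ h3
      exact ⟨⟩
    refine ⟨hprop, ?_⟩
    exact (@Groth.Agent.CurvesB.VABaseChange.genus_eq k _ C _ K _ _ _
      (Groth.Agent.CurvesB.VABaseChange.overBc k C K) _ _ hpb).symm.trans h2

end Groth.Agent.S14644
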