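import Groth.Statements.S14645
import Groth.Agent.AlgGrp.K403.GeomPts

set_option autoImplicit false
universe u
open CategoryTheory MonoidalCategory CartesianMonoidalCategory MonObj GrpObj AlgebraicGeometry CategoryTheory.Limits
open AlgGrp

namespace Groth.Agent.S14645

open K403.GeomPts

/-- Over a field k with algebraic closure K, let G be a smooth k-group scheme of finite type acting on a
variety X (a separated, geometrically integral k-scheme of finite type). Then X is homogeneous under
G, i.e. the graph morphism G × X → X × X, (g, x) ↦ (x, g·x), is surjective, if and only if the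
abstract group G(K) of K-points over k acts transitively on the set X(K): for all K-points x, y of X
there is a K-point g of G with g · x = y. -/
theorem result (k : Type u) [Field k]
    (G X : Over (Spec (CommRingCat.of k))) [GrpObj G] [Smooth G.hom] [QuasiCompact G.hom]
    [IsSeparated X.hom] [LocallyOfFiniteType X.hom] [QuasiCompact X.hom] [GeometricallyIntegral X.hom] (a : AlgGrp.Action G X)
    (K : Type u) [Field K] [Algebra k K] [IsAlgClosure k K] :
    Surjective (CartesianMonoidalCategory.lift (CartesianMonoidalCategory.snd G X) a.act).left ↔
      ∀ x y : Over.mk (Spec.map (CommRingCat.ofHom (algebraMap k K))) ⟶ X, ∃ g : Over.mk (Spec.map (CommRingCat.ofHom (algebraMap k K))) ⟶ G, CartesianMonoidalCategory.lift g x ≫ a.act = y := by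
  have hK : IsAlgClosed K := IsAlgClosure.isAlgClosed k
  have h1 : LocallyOfFiniteType (G ⊗ X).hom := by
    have : LocallyOfFiniteType (pullback.fst G.hom X.hom ≫ G.hom) := inferInstance
    exact this
  have h2 : LocallyOfFiniteType (X ⊗ X).hom := by
    have : LocallyOfFiniteType (pullback.fst X.hom X.hom ≫ X.hom) := inferInstance
    exact this
  have h3 : QuasiCompact (G ⊗ X).hom := by
    have : QuasiCompact (pullback.fst G.hom X.hom ≫ G.hom) := inferInstance
    exact this
  constructor
  · intro h x y
    obtain ⟨p, hp⟩ := exists_lift_of_surjective K
      (CartesianMonoidalCategory.lift (CartesianMonoidalCategory.snd G X) a.act) (CartesianMonoidalCategory.lift x y)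
    have hx : p ≫ CartesianMonoidalCategory.snd G X = x := by
      have := congrArg (fun z => z ≫ CartesianMonoidalCategory.fst X X) hp
      simpa using this
    have hy : p ≫ a.act = y := by
      have := congrArg (fun z => z ≫ CartesianMonoidalCategory.snd X X) hp
      simpa using this
    refine ⟨p ≫ CartesianMonoidalCategory.fst G X, ?_⟩
    rw [← hy]
    congr 1
    apply CartesianMonoidalCategory.hom_ext
    · simp
    · simp [hx]
  · intro h
    refine surjective_of_pts K _ ?_
    intro y
    obtain ⟨g, hg⟩ := h (y ≫ CartesianMonoidalCategory.fst X X) (y ≫ CartesianMonoidalCategory.snd X X)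
    refine ⟨CartesianMonoidalCategory.lift g (y ≫ CartesianMonoidalCategory.fst X X), ?_⟩
    apply CartesianMonoidalCategory.hom_ext
    · simp
    · simp [hg]

end Groth.Agent.S14645
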