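import Groth.Statements.S14646
import Groth.Agent.AlgGrp.K403.P1Aut
import Groth.Agent.CohqB.ProjBC
import Groth.Agent.Ega43.H133.GeomCount

set_option autoImplicit false
universe u
open CategoryTheory CategoryTheory.Limits AlgebraicGeometry
open AlgGrp

namespace Groth.Agent.S14646

/-- Over a field k, let P be a closed point of the projective line P¹_k whose residue field κ(P) is
purely inseparable over k, and let C = P¹_k ∖ {P} be its open complement. Then C is a form of the
affine line: for an algebraic closure K of k, the base change C ×_k Spec K is isomorphic over K to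
Spec K[T]. (The published statement assumes moreover that k is imperfect and [κ(P) : k] ≥ 3; this
row assumes only that κ(P) is purely inseparable over k.) -/
theorem result (k : Type u) [Field k]
    (P : ↥(CohB1.ProjSpace 1 k)) (hP : IsClosed ({P} : Set ↥(CohB1.ProjSpace 1 k)))
    (hpi : letI := ((CohB1.ProjSpace.toSpec 1 k).residueFieldMap P).hom.toAlgebra
      IsPurelyInseparable ↑((Spec (CommRingCat.of k)).residueField ((CohB1.ProjSpace.toSpec 1 k) P)) ↑((CohB1.ProjSpace 1 k).residueField P))
    (K : Type u) [Field K] [Algebra k K] [IsAlgClosure k K] :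
    ∃ e : pullback (@Scheme.Opens.ι (CohB1.ProjSpace 1 k) ⟨{P}ᶜ, hP.isOpen_compl⟩ ≫ CohB1.ProjSpace.toSpec 1 k) (Spec.map (CommRingCat.ofHom (algebraMap k K))) ≅
        Spec (CommRingCat.of (Polynomial K)),
      e.hom ≫ Spec.map (CommRingCat.ofHom (algebraMap K (Polynomial K))) = pullback.snd _ _ := by
  have hK : IsAlgClosed K := IsAlgClosure.isAlgClosed k
  let b : CohB1.ProjSpace 1 K ⟶ CohB1.ProjSpace 1 k := Groth.Agent.CohqB.ProjBC.pmap (algebraMap k K) 1
  have hb : IsPullback b (CohB1.ProjSpace.toSpec 1 K) (CohB1.ProjSpace.toSpec 1 k)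
      (Spec.map (CommRingCat.ofHom (algebraMap k K))) := Groth.Agent.CohqB.ProjBC.isPullback_pmap _ _
  have hpi' : ((CohB1.ProjSpace.toSpec 1 k).residueFieldMap P).hom.IsPurelyInseparable := hpi
  have hst : Surjective (Spec.map (CommRingCat.ofHom (algebraMap k K))) := by
    refine ⟨fun y => ⟨IsLocalRing.closedPoint K, ?_⟩⟩
    have : Subsingleton (Spec (CommRingCat.of k)) := inferInstanceAs (Subsingleton (PrimeSpectrum k))
    exact Subsingleton.elim _ _
  have hbs : Surjective b := MorphismProperty.of_isPullback hb.flip hst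
  obtain ⟨Q, hQ⟩ := hbs.surj P
  have hQ' : b ⁻¹' {P} = {Q} := by
    ext y
    rw [Set.mem_preimage, Set.mem_singleton_iff, Set.mem_singleton_iff]
    constructor
    · intro hy
      exact Groth.Agent.Ega43.H133.GeomCount.eq_of_isPurelyInseparable hb P hpi' y Q hy hQ
    · rintro rfl
      exact hQ
  have hQc : IsClosed ({Q} : Set (CohB1.ProjSpace 1 K)) := by
    rw [← hQ']
    exact hP.preimage b.continuous
  obtain ⟨j, hj1, hj2, hj3⟩ := K403.P1Aut.exists_line Q hQc
  let U : (CohB1.ProjSpace 1 k).Opens := ⟨{P}ᶜ, hP.isOpen_compl⟩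
  let m : pullback (U.ι ≫ CohB1.ProjSpace.toSpec 1 k) (Spec.map (CommRingCat.ofHom (algebraMap k K))) ⟶ CohB1.ProjSpace 1 K :=
    hb.lift (pullback.fst _ _ ≫ U.ι) (pullback.snd _ _) (by rw [Category.assoc, pullback.condition])
  have hm1 : m ≫ b = pullback.fst _ _ ≫ U.ι := hb.lift_fst _ _ _
  have hm2 : m ≫ CohB1.ProjSpace.toSpec 1 K = pullback.snd _ _ := hb.lift_snd _ _ _
  have hm : IsPullback (pullback.fst _ _) m U.ι b := by
    refine IsPullback.of_bot ?_ hm1.symm hb
    rw [hm2]
    exact IsPullback.of_hasPullback _ _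
  have hmo : IsOpenImmersion m := MorphismProperty.of_isPullback hm inferInstance
  have hmr : Set.range m = {Q}ᶜ := by
    have h1 : Set.range m = b ⁻¹' Set.range U.ι := by
      ext y
      constructor
      · rintro ⟨w, rfl⟩
        exact ⟨(pullback.fst (U.ι ≫ CohB1.ProjSpace.toSpec 1 k) (Spec.map (CommRingCat.ofHom (algebraMap k K)))) w, by
          rw [← Scheme.Hom.comp_apply, ← hm1]; rfl⟩
      · rintro ⟨w, hw⟩
        obtain ⟨z, hz, -⟩ := Scheme.exists_preimage_of_isPullback hm.flip y w hw.symm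
        exact ⟨z, hz⟩
    rw [h1, Scheme.Opens.range_ι]
    change b ⁻¹' ({P}ᶜ) = _
    rw [Set.preimage_compl, hQ']
  let e := IsOpenImmersion.isoOfRangeEq m j (by rw [hmr, hj3])
  have he : e.hom ≫ j = m := IsOpenImmersion.isoOfRangeEq_hom_fac _ _ _
  refine ⟨e, ?_⟩
  change e.hom ≫ Spec.map (CommRingCat.ofHom (Polynomial.C : K →+* Polynomial K)) = _
  rw [← hj2, ← Category.assoc, he, hm2]

end Groth.Agent.S14646
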