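import Groth.Statements.S14647
import Groth.Agent.AlgGrp.K403.P1Thick
import Groth.Agent.CohqB.ProjBC
import Groth.Agent.Ega43.H133.GeomCount

set_option autoImplicit false
universe u
open CategoryTheory CategoryTheory.Limits AlgebraicGeometry
open AlgGrp

namespace Groth.Agent.S14647

open K403.P1Fix K403.P1Thick Groth.Agent.Sga4h.H276.P1

section
variable (K : Type u) [Field K]

/-- constant coefficient -/
noncomputable def c0 : BB K →+* K := Ideal.Quotient.lift _ (PowerSeries.constantCoeff (R := K)) (by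
  intro a ha
  rw [Ideal.mem_span_singleton] at ha
  obtain ⟨b, rfl⟩ := ha
  simp)

theorem mem_ker_c0 (b : BB K) (hb : b ∈ RingHom.ker (c0 K)) : ∃ b', b = bX K * b' := by
  obtain ⟨p, rfl⟩ := Ideal.Quotient.mk_surjective b
  have h : PowerSeries.constantCoeff p = 0 := hb
  rw [← PowerSeries.X_dvd_iff] at h
  obtain ⟨q, rfl⟩ := h
  exact ⟨Ideal.Quotient.mk _ q, by rw [map_mul]⟩

theorem bX_pow : bX K ^ 3 = 0 := by
  rw [← map_pow]
  exact Ideal.Quotient.eq_zero_iff_mem.2 (Ideal.mem_span_singleton_self _)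

instance : Nontrivial (BB K) := (c0 K).domain_nontrivial

theorem bX_mem (y : Spec (CommRingCat.of (BB K))) : bX K ∈ y.asIdeal := by
  have h : bX K ^ 3 ∈ y.asIdeal := by rw [bX_pow]; exact zero_mem _
  exact y.isPrime.mem_of_pow_mem 3 h

theorem cp_apply (y : Spec (CommRingCat.of (BB K))) : cp 1 (bX K) y = x K 1 := by
  have h : Spec.map (CommRingCat.ofHom (Polynomial.aeval (R := K) (bX K)).toRingHom) y = orig K := by
    apply PrimeSpectrum.ext
    have hmax : (orig K).asIdeal.IsMaximal := by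
      have : (orig K).asIdeal = Ideal.span {Polynomial.X - Polynomial.C (0 : K)} := by
        rw [Polynomial.C_0, sub_zero]; rfl
      rw [this]
      exact PrincipalIdealRing.isMaximal_of_irreducible (Polynomial.irreducible_X_sub_C (0 : K))
    refine (hmax.eq_of_le (PrimeSpectrum.isPrime _).ne_top ?_).symm
    change Ideal.span {Polynomial.X} ≤ _
    rw [Ideal.span_singleton_le_iff_mem]
    change (Polynomial.aeval (R := K) (bX K)) Polynomial.X ∈ y.asIdeal
    rw [Polynomial.aeval_X]
    exact bX_mem K y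
  rw [cp, Scheme.Hom.comp_apply, h]
  rfl
end

/-- Over a field k, let P be a closed point of the projective line P¹_k whose residue field κ(P) is
purely inseparable over k with [κ(P) : k] ≥ 3 (this forces k to be imperfect). Then the centraliser
of P (with its reduced structure) in the automorphism group of P¹ is infinitesimal; on geometric
points: for an algebraic closure K of k, every automorphism φ of P¹_k ×_k Spec K over Spec K which
induces the identity on the closed subscheme Spec κ(P) ×_k Spec K — meaning φ ∘ z = z for every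
scheme T and every T-point z of P¹_k ×_k Spec K whose image in P¹_k factors through Spec κ(P) → P¹_k
— is the identity. -/
theorem result (k : Type u) [Field k]
    (P : ↥(CohB1.ProjSpace 1 k))
    (hpi : letI := ((CohB1.ProjSpace.toSpec 1 k).residueFieldMap P).hom.toAlgebra
      IsPurelyInseparable ↑((Spec (CommRingCat.of k)).residueField ((CohB1.ProjSpace.toSpec 1 k) P)) ↑((CohB1.ProjSpace 1 k).residueField P))
    (hdeg : letI := ((CohB1.ProjSpace.toSpec 1 k).residueFieldMap P).hom.toAlgebra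
      3 ≤ Module.finrank ↑((Spec (CommRingCat.of k)).residueField ((CohB1.ProjSpace.toSpec 1 k) P)) ↑((CohB1.ProjSpace 1 k).residueField P))
    (K : Type u) [Field K] [Algebra k K] [IsAlgClosure k K]
    (φ : pullback (CohB1.ProjSpace.toSpec 1 k) (Spec.map (CommRingCat.ofHom (algebraMap k K))) ≅ pullback (CohB1.ProjSpace.toSpec 1 k) (Spec.map (CommRingCat.ofHom (algebraMap k K))))
    (hφ : φ.hom ≫ pullback.snd (CohB1.ProjSpace.toSpec 1 k) (Spec.map (CommRingCat.ofHom (algebraMap k K))) = pullback.snd (CohB1.ProjSpace.toSpec 1 k) (Spec.map (CommRingCat.ofHom (algebraMap k K))))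
    (hfix : ∀ (T : Scheme.{u}) (z : T ⟶ pullback (CohB1.ProjSpace.toSpec 1 k) (Spec.map (CommRingCat.ofHom (algebraMap k K)))) (w : T ⟶ Spec ((CohB1.ProjSpace 1 k).residueField P)),
      z ≫ pullback.fst (CohB1.ProjSpace.toSpec 1 k) (Spec.map (CommRingCat.ofHom (algebraMap k K))) = w ≫ (CohB1.ProjSpace 1 k).fromSpecResidueField P → z ≫ φ.hom = z) :
    φ.hom = 𝟙 _ := by
  have hK : IsAlgClosed K := IsAlgClosure.isAlgClosed k
  let b : CohB1.ProjSpace 1 K ⟶ CohB1.ProjSpace 1 k := Groth.Agent.CohqB.ProjBC.pmap (algebraMap k K) 1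
  have hb : IsPullback b (CohB1.ProjSpace.toSpec 1 K) (CohB1.ProjSpace.toSpec 1 k)
      (Spec.map (CommRingCat.ofHom (algebraMap k K))) := Groth.Agent.CohqB.ProjBC.isPullback_pmap _ _
  let w := hb.isoPullback
  have hw1 : w.hom ≫ pullback.fst _ _ = b := hb.isoPullback_hom_fst
  have hw2 : w.hom ≫ pullback.snd _ _ = CohB1.ProjSpace.toSpec 1 K := hb.isoPullback_hom_snd
  let φY : CohB1.ProjSpace 1 K ≅ CohB1.ProjSpace 1 K := w ≪≫ φ ≪≫ w.symm
  have hφY : φY.hom ≫ CohB1.ProjSpace.toSpec 1 K = CohB1.ProjSpace.toSpec 1 K := by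
    change (w.hom ≫ φ.hom ≫ w.inv) ≫ _ = _
    rw [← hw2, Category.assoc, Category.assoc, w.inv_hom_id_assoc, hφ]
  have hfixY : ∀ (T : Scheme.{u}) (z : T ⟶ CohB1.ProjSpace 1 K) (v : T ⟶ Spec ((CohB1.ProjSpace 1 k).residueField P)),
      z ≫ b = v ≫ (CohB1.ProjSpace 1 k).fromSpecResidueField P → z ≫ φY.hom = z := by
    intro T z v hz
    have h1 := hfix T (z ≫ w.hom) v (by rw [Category.assoc, hw1, hz])
    change z ≫ w.hom ≫ φ.hom ≫ w.inv = z
    rw [← Category.assoc, ← Category.assoc, h1, Category.assoc, w.hom_inv_id, Category.comp_id]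
  have hpi' : ((CohB1.ProjSpace.toSpec 1 k).residueFieldMap P).hom.IsPurelyInseparable := hpi
  have hst : Surjective (Spec.map (CommRingCat.ofHom (algebraMap k K))) := by
    refine ⟨fun y => ⟨IsLocalRing.closedPoint K, ?_⟩⟩
    have : Subsingleton (Spec (CommRingCat.of k)) := inferInstanceAs (Subsingleton (PrimeSpectrum k))
    exact Subsingleton.elim _ _
  have hbs : Surjective b := MorphismProperty.of_isPullback hb.flip hst
  obtain ⟨Q, hQ⟩ := hbs.surj P
  have hQ' : b ⁻¹' {P} = {Q} := by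
    ext y
    rw [Set.mem_preimage, Set.mem_singleton_iff, Set.mem_singleton_iff]
    constructor
    · intro hy
      exact Groth.Agent.Ega43.H133.GeomCount.eq_of_isPurelyInseparable hb P hpi' y Q hy hQ
    · rintro rfl
      exact hQ
  have hkey : ∀ g : Spec (CommRingCat.of (BB K)) ⟶ CohB1.ProjSpace 1 K, g ≫ CohB1.ProjSpace.toSpec 1 K =
      Spec.map (CommRingCat.ofHom (algebraMap K (BB K))) → (∀ y, g y = Q) →
      IsClosed ({P} : Set (CohB1.ProjSpace 1 k)) ∧ g ≫ φY.hom = g := by
    intro g hg hgQ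
    obtain ⟨h1, v, hv⟩ := exists_factor (k := k) (K := K) P hpi' hdeg (B := BB K) (RingHom.ker (c0 K))
      (h𝔫 := RingHom.ker_isPrime _) (fun a ha => by
        obtain ⟨a', rfl⟩ := mem_ker_c0 K a ha
        rw [mul_pow, bX_pow, zero_mul])
      (fun a => ⟨c0 K a, by
        obtain ⟨p, rfl⟩ := Ideal.Quotient.mk_surjective a
        rw [RingHom.mem_ker, map_sub, sub_eq_zero]
        change PowerSeries.constantCoeff p = PowerSeries.constantCoeff (PowerSeries.C (PowerSeries.constantCoeff p))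
        rw [PowerSeries.constantCoeff_C]⟩)
      (g ≫ b) (by
        rw [Category.assoc, hb.w, ← Category.assoc, hg, ← Spec.map_comp, ← CommRingCat.ofHom_comp])
      (fun y => by rw [Scheme.Hom.comp_apply, hgQ, hQ])
    exact ⟨h1, hfixY _ _ v hv.symm⟩
  have hPc := isClosed_pt P hpi' hdeg
  have hQc : IsClosed ({Q} : Set (CohB1.ProjSpace 1 K)) := by
    rw [← hQ']
    exact hPc.preimage b.continuous
  obtain ⟨e, he, heQ⟩ := K403.P1Aut.exists_aut Q hQc
  have he2 : e.inv ≫ CohB1.ProjSpace.toSpec 1 K = CohB1.ProjSpace.toSpec 1 K := by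
    rw [Iso.inv_comp_eq, he]
  have heQ2 : e.inv (x K 1) = Q := by
    rw [← heQ, ← Scheme.Hom.comp_apply, e.hom_inv_id]
    rfl
  have hg := (hkey (cp 1 (bX K) ≫ e.inv) (by rw [Category.assoc, he2, cp_toSpec])
    (fun y => by rw [Scheme.Hom.comp_apply, cp_apply, heQ2])).2
  have hφQ : φY.hom Q = Q := by
    have y0 : Spec (CommRingCat.of (BB K)) := ⟨RingHom.ker (c0 K), RingHom.ker_isPrime _⟩
    have h1 := congrArg (fun q => q y0) hg
    simp only [Scheme.Hom.comp_apply, cp_apply, heQ2] at h1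
    exact h1
  let φ' : CohB1.ProjSpace 1 K ≅ CohB1.ProjSpace 1 K := e.symm ≪≫ φY ≪≫ e
  have hφ' : φ'.hom = e.inv ≫ φY.hom ≫ e.hom := rfl
  have h1 : φ'.hom = 𝟙 _ := by
    refine eq_id_of_fix φ' ?_ ?_ ?_
    · rw [hφ', Category.assoc, Category.assoc, he, hφY, he2]
    · rw [hφ', Scheme.Hom.comp_apply, Scheme.Hom.comp_apply, heQ2, hφQ, heQ]
    · rw [hφ', ← Category.assoc, ← Category.assoc, hg, Category.assoc, e.inv_hom_id, Category.comp_id]
  have h2 : φY.hom = 𝟙 _ := by
    have h3 : φY.hom = e.hom ≫ φ'.hom ≫ e.inv := by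
      rw [hφ']; simp
    rw [h3, h1]; simp
  have h4 : φ.hom = w.inv ≫ φY.hom ≫ w.hom := by
    change _ = w.inv ≫ (w.hom ≫ φ.hom ≫ w.inv) ≫ w.hom
    simp
  rw [h4, h2]; simp

end Groth.Agent.S14647
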