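import Groth.Statements.S14648
import Groth.Agent.AlgGrp.K403.TrivModif
import Groth.Agent.S1585

set_option autoImplicit false
universe u
open CategoryTheory MonoidalCategory CartesianMonoidalCategory MonObj GrpObj AlgebraicGeometry CategoryTheory.Limits
open AlgGrp

namespace Groth.Agent.S14648

open Groth.Agent.Books.BorelOrb K403.Act K403.Dense

/-- Over a field k, let G be a smooth connected k-group scheme of finite type acting on a variety X (a
separated, geometrically integral k-scheme of finite type), let ν : X̃ → X be the normalization of X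
and let G act on X̃ so that ν is equivariant (such a lifted action exists and is unique; here it is
given). Then the commutative square with the action maps G × X̃ → X̃ and G × X → X as horizontal
sides and id_G × ν, ν as vertical sides is cartesian, and the two actions have the same kernel: for
every k-scheme T, a T-point g of G acts as the identity on all points of X over T-schemes if and
only if it acts as the identity on all points of X̃ over T-schemes. (The quasi-compactness and
quasi-separatedness binders on the morphism from the generic point always hold; they are only needed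
to form the normalization.) -/
theorem result (k : Type u) [Field k]
    (G X : Over (Spec (CommRingCat.of k))) [GrpObj G] [Smooth G.hom] [QuasiCompact G.hom] [ConnectedSpace ↥G.left]
    [IsSeparated X.hom] [LocallyOfFiniteType X.hom] [QuasiCompact X.hom] [GeometricallyIntegral X.hom] [IsIntegral X.left] [QuasiCompact (X.left.fromSpecStalk (genericPoint ↥X.left))] [QuasiSeparated (X.left.fromSpecStalk (genericPoint ↥X.left))]
    (a : AlgGrp.Action G X) (b : AlgGrp.Action G (Over.mk (Curv2.normalizationι X.left ≫ X.hom)))
    (hb : (G ◁ (Over.homMk (Curv2.normalizationι X.left) rfl : Over.mk (Curv2.normalizationι X.left ≫ X.hom) ⟶ X)) ≫ a.act = b.act ≫ Over.homMk (Curv2.normalizationι X.left) rfl) :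
    IsPullback b.act (G ◁ (Over.homMk (Curv2.normalizationι X.left) rfl : Over.mk (Curv2.normalizationι X.left ≫ X.hom) ⟶ X)) (Over.homMk (Curv2.normalizationι X.left) rfl : Over.mk (Curv2.normalizationι X.left ≫ X.hom) ⟶ X) a.act ∧
    ∀ (T : Over (Spec (CommRingCat.of k))) (g : T ⟶ G),
      (∀ (T' : Over (Spec (CommRingCat.of k))) (s : T' ⟶ T) (x : T' ⟶ X), CartesianMonoidalCategory.lift (s ≫ g) x ≫ a.act = x) ↔
      (∀ (T' : Over (Spec (CommRingCat.of k))) (s : T' ⟶ T) (y : T' ⟶ Over.mk (Curv2.normalizationι X.left ≫ X.hom)), CartesianMonoidalCategory.lift (s ≫ g) y ≫ b.act = y) := by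
  refine ⟨isPullback_act hb, ?_⟩
  let _ : X.left.Over (Spec (CommRingCat.of k)) := ⟨X.hom⟩
  have hX : (X.left ↘ (Spec (CommRingCat.of k))) = X.hom := rfl
  have hlft : LocallyOfFiniteType (X.left ↘ (Spec (CommRingCat.of k))) := by rw [hX]; infer_instance
  obtain ⟨hfin, hdom, ⟨V, hVne, hViso⟩, hint, -⟩ := Groth.Agent.S1585.result k X.left
  intro T g
  let Y : Over (Spec (CommRingCat.of k)) := Over.mk (Curv2.normalizationι X.left ≫ X.hom)
  let ν : Y ⟶ X := Over.homMk (Curv2.normalizationι X.left) rfl
  have h1 : IsFinite ν.left := hfin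
  have h2 : IsDominant ν.left := hdom
  have h3 : IsSchemeTheoreticallyDominant ν.left := .of_isDominant _
  have h4 : IsSeparated Y.hom := inferInstanceAs (IsSeparated (Curv2.normalizationι X.left ≫ X.hom))
  have h5 : IsIntegral Y.left := hint
  have h6 : LocallyOfFiniteType Y.hom := inferInstanceAs (LocallyOfFiniteType (Curv2.normalizationι X.left ≫ X.hom))
  have h7 : IsLocallyNoetherian Y.left := LocallyOfFiniteType.isLocallyNoetherian Y.hom
  have h8 : IsIso (ν.left ∣_ V) := hViso
  have hne : (ν.left ⁻¹ᵁ V : Set Y.left).Nonempty := by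
    obtain ⟨v, hv⟩ := hVne
    have hs : Function.Surjective (ν.left ∣_ V) := (ν.left ∣_ V).surjective
    obtain ⟨⟨w, hw⟩, -⟩ := hs ⟨v, hv⟩
    exact ⟨w, hw⟩
  have h9 : IsDominant (ν.left ⁻¹ᵁ V).ι := by
    refine ⟨?_⟩
    rw [DenseRange, Scheme.Opens.range_ι]
    exact (ν.left ⁻¹ᵁ V).isOpen.dense hne
  have h10 : IsSchemeTheoreticallyDominant (ν.left ⁻¹ᵁ V).ι := .of_isDominant _
  have h11 : QuasiCompact (ν.left ⁻¹ᵁ V).ι := inferInstance
  exact ⟨fun h => K403.TrivModif.triv_of_triv' (a := a) (b := b) (f := ν) hb V h,
    fun h => K403.TrivModif.triv_of_triv (a := a) (b := b) (f := ν) hb h⟩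

end Groth.Agent.S14648
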