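import Groth.Statements.S14652
import Groth.Agent.FiltBl.K830.ReesVal

set_option autoImplicit false
universe u
open FiltBl

namespace Groth.Agent.S14652

/-- Let A be a Noetherian integrally closed domain with fraction field K, let v_1, …, v_s be finitely
many valuations on K with values in ℤ ∪ {∞} (written additively) that are non-negative on A, and let
r_i = p_i / q_i be positive rationals (p_i, q_i positive integers). Let F be the filtration of
ideals of A given by F^k = {x ∈ A | q_i · v_i(x) ≥ k · p_i for every i}. Then the Rees algebra ⊕_{k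
≥ 0} F^k X^k ⊆ A[X] is an integrally closed domain (it need not be Noetherian). -/
theorem result (A K : Type u) [CommRing A] [IsDomain A]
    [IsNoetherianRing A] [IsIntegrallyClosed A] [Field K] [Algebra A K] [IsFractionRing A K]
    (ι : Type) [Finite ι] (v : ι → AddValuation K (WithTop ℤ))
    (hv : ∀ (i : ι) (x : A), 0 ≤ v i (algebraMap A K x)) (p q : ι → ℕ) (hp : ∀ i, 0 < p i)
    (hq : ∀ i, 0 < q i) (𝓕 : FiltBl.IdealFiltration A)
    (hF : ∀ (k : ℕ) (x : A), x ∈ 𝓕.F k ↔
      ∀ i, ((k * p i : ℕ) : WithTop ℤ) ≤ (q i : WithTop ℤ) * v i (algebraMap A K x)) :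
    IsIntegrallyClosed 𝓕.rees := by
  refine K830.ReesVal.isIntegrallyClosed_of_mem 𝓕.rees fun f hf n => ?_
  rw [hF]
  intro i
  rw [← K830.ReesVal.coeff_bound (v i) (p i) (q i) (hq i)]
  have hc : 0 < Real.exp ((p i : ℝ) / q i) := Real.exp_pos _
  set w := K830.ReesVal.gaussVal (v i) _ hc with hw
  have hmem : ∀ r : 𝓕.rees, (r : Polynomial A).map (algebraMap A K) ∈ w.integer := by
    intro r
    rw [Valuation.mem_integer_iff, hw, K830.ReesVal.gaussVal_le_one_iff]
    intro m
    rw [Polynomial.coeff_map, K830.ReesVal.coeff_bound (v i) (p i) (q i) (hq i)]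
    exact (hF m _).mp (r.2 m) i
  let φ : 𝓕.rees →+* w.integer :=
    RingHom.codRestrict ((Polynomial.mapRingHom (algebraMap A K)).comp 𝓕.rees.val.toRingHom)
      w.integer hmem
  have hint : IsIntegral w.integer (f.map (algebraMap A K)) := by
    obtain ⟨g, hg, hgx⟩ := hf
    refine ⟨g.map φ, hg.map _, ?_⟩
    rw [Polynomial.eval₂_map]
    have h1 : (algebraMap w.integer (Polynomial K)).comp φ =
        (Polynomial.mapRingHom (algebraMap A K)).comp (algebraMap 𝓕.rees (Polynomial A)) := rfl
    have h2 : f.map (algebraMap A K) = Polynomial.mapRingHom (algebraMap A K) f := rfl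
    rw [h1, h2, ← Polynomial.hom_eval₂, hgx, map_zero]
  have h3 := (Valuation.integer.integers w).mem_of_integral hint
  rw [Valuation.mem_integer_iff, hw, K830.ReesVal.gaussVal_le_one_iff] at h3
  have h4 := h3 n
  rwa [Polynomial.coeff_map] at h4

end Groth.Agent.S14652
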