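import Groth.Statements.S14658
import Groth.Agent.FiltBl.K830.GrUnit2

set_option autoImplicit false
universe u
open FiltBl

namespace Groth.Agent.S14658

/-- Let R be a Noetherian ℤ-graded commutative ring which is regular (every localization at a prime is a
regular local ring) and whose degree-0 subring R_0 is a local ring with maximal ideal m. Let t ∈ R_N
be a homogeneous unit of R of positive degree N such that R_i · R_j ⊆ m · t for all positive i, j
with i + j = N (every product a b with a ∈ R_i, b ∈ R_j is c t for some c ∈ m). Then the ring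
R[U]/(U^N − t), U an indeterminate, is again regular: all its localizations at prime ideals are
regular local rings. -/
theorem result (R : Type u) [CommRing R]
    [IsNoetherianRing R] (𝒜 : ℤ → AddSubgroup R) [GradedRing 𝒜]
    (hreg : ∀ (p : Ideal R) [p.IsPrime], IsRegularLocalRing (Localization.AtPrime p))
    [IsLocalRing (GrLC.deg0 𝒜)] (N : ℕ) (hN : 0 < N) (t : R) (ht : t ∈ 𝒜 (N : ℤ))
    (htu : IsUnit t)
    (hm : ∀ (i j : ℤ), 0 < i → 0 < j → i + j = (N : ℤ) → ∀ a ∈ 𝒜 i, ∀ b ∈ 𝒜 j,
      ∃ c : GrLC.deg0 𝒜, c ∈ IsLocalRing.maximalIdeal (GrLC.deg0 𝒜) ∧ a * b = (c : R) * t)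
    (q : Ideal (AdjoinRoot (Polynomial.X ^ N - Polynomial.C t))) [q.IsPrime] :
    IsRegularLocalRing (Localization.AtPrime q) := by
  obtain ⟨t, rfl⟩ := htu
  have h := K830.GrUnit.isRegularRing_adjoinRoot 𝒜 hreg N hN t ht (by
    intro n hn0 hnN s hs hsu
    obtain ⟨s', hs', hss'⟩ := K830.GrUnit.exists_inv_of_isUnit 𝒜 hs hsu
    have h1 := SetLike.GradedMul.mul_mem hs' ht
    obtain ⟨c, hc, hab⟩ := hm n (-n + N) hn0 (by omega) (by ring) s hs _ h1
    rw [← mul_assoc, hss', one_mul] at hab
    have hc1 : (c : R) = 1 := by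
      have := congrArg (fun z => z * ((t⁻¹ : Rˣ) : R)) hab
      simpa [mul_assoc] using this.symm
    have hc2 : c = 1 := Subtype.ext hc1
    rw [hc2] at hc
    exact (IsLocalRing.mem_maximalIdeal _).mp hc isUnit_one)
  exact inferInstance

end Groth.Agent.S14658
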