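import Groth.Statements.S14666
import Groth.Agent.AbSch.K451.Collapse

set_option autoImplicit false
universe u
open CategoryTheory CategoryTheory.Limits AlgebraicGeometry
open AbSch

namespace Groth.Agent.S14666

/-- Let S be a locally Noetherian scheme, ξ : X ⟶ S a proper morphism all of whose geometric fibres are
integral and for which O_S ⟶ ξ_*O_X is an isomorphism (the map Γ(U, O_S) → Γ(ξ⁻¹U, O_X) is bijective
for every open U of S), v : Y ⟶ S an arbitrary S-scheme and f : X ⟶ Y a morphism over S. Let U be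
the set of points s of S such that f sends every point of the fibre ξ⁻¹(s) to one and the same point
of Y. Then U is open in S, and for every morphism τ : T ⟶ S the base change of f to T factors
through the projection X ×_S T ⟶ T — that is, there is r : T ⟶ Y with r ≫ v = τ and fst ≫ f = snd ≫
r on X ×_S T — if and only if τ maps every point of T into U. -/
theorem result {X Y S : Scheme.{u}} [IsLocallyNoetherian S]
    (ξ : X ⟶ S) [IsProper ξ] [GeometricallyIntegral ξ]
    (h0 : ∀ U : S.Opens, Function.Bijective (ξ.app U).hom)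
    (v : Y ⟶ S) (f : X ⟶ Y) (hf : f ≫ v = ξ) :
    IsOpen {s : ↥S | ∃ y : ↥Y, ∀ x : ↥X, ξ.base x = s → f.base x = y} ∧
    ∀ (T : Scheme.{u}) (τ : T ⟶ S),
      ((∃ r : T ⟶ Y, r ≫ v = τ ∧ pullback.fst ξ τ ≫ f = pullback.snd ξ τ ≫ r) ↔
        ∀ t : ↥T, τ.base t ∈ {s : ↥S | ∃ y : ↥Y, ∀ x : ↥X, ξ.base x = s → f.base x = y}) := by
  have hb : ∀ V : S.Opens, IsIso (ξ.app V) := fun V =>
    (ConcreteCategory.isIso_iff_bijective (ξ.app V)).mpr (h0 V)
  have hc : IsClosedMap ξ := ξ.isClosedMap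
  have hopen : IsOpen (K451.Collapse.locus ξ f) := K451.Collapse.isOpen_locus ξ hc hb f
  refine ⟨hopen, fun T τ => ⟨?_, fun h => ?_⟩⟩
  · rintro ⟨r, -, hr⟩ t
    refine ⟨r t, fun x hx => ?_⟩
    obtain ⟨z, hz1, hz2⟩ := Scheme.Pullback.exists_preimage_pullback (f := ξ) (g := τ) x t hx
    have h1 := congrArg (fun φ => φ z) hr
    rw [← hz1, ← hz2]
    exact h1
  · let U : S.Opens := ⟨K451.Collapse.locus ξ f, hopen⟩
    have hsurj : Surjective (ξ ∣_ U) := IsZariskiLocalAtTarget.restrict (P := @Surjective) inferInstance U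
    obtain ⟨r, hr⟩ := K451.Collapse.exists_fac_over ξ hc hb f U fun s hs => hs
    have hv : r ≫ v = U.ι := by
      have : Epi (ξ ∣_ U) := Groth.Agent.S2913.result (ξ ∣_ U) fun V =>
        ((ConcreteCategory.isIso_iff_bijective _).mp
          (K451.Collapse.isIso_restrict_app ξ hb U V)).1
      rw [← cancel_epi (ξ ∣_ U), reassoc_of% hr, hf, morphismRestrict_ι]
    have hrange : Set.range τ ⊆ Set.range U.ι := by
      rw [Scheme.Opens.range_ι]
      rintro _ ⟨t, rfl⟩
      exact h t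
    let τ' : T ⟶ U.toScheme := IsOpenImmersion.lift U.ι τ hrange
    have hτ' : τ' ≫ U.ι = τ := IsOpenImmersion.lift_fac _ _ _
    refine ⟨τ' ≫ r, by rw [Category.assoc, hv, hτ'], ?_⟩
    have hle : (⊤ : (pullback ξ τ).Opens) ≤ pullback.fst ξ τ ⁻¹ᵁ ξ ⁻¹ᵁ U := by
      intro z _
      change ξ (pullback.fst ξ τ z) ∈ U
      rw [← Scheme.Hom.comp_apply, pullback.condition, Scheme.Hom.comp_apply]
      exact h _
    rw [← cancel_epi (pullback ξ τ).topIso.hom]
    change (⊤ : (pullback ξ τ).Opens).ι ≫ pullback.fst ξ τ ≫ f =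
      (⊤ : (pullback ξ τ).Opens).ι ≫ pullback.snd ξ τ ≫ τ' ≫ r
    have h1 : (pullback.fst ξ τ).resLE (ξ ⁻¹ᵁ U) ⊤ hle ≫ ξ ∣_ U =
        (⊤ : (pullback ξ τ).Opens).ι ≫ pullback.snd ξ τ ≫ τ' := by
      rw [← cancel_mono U.ι, Category.assoc, Category.assoc, Category.assoc, morphismRestrict_ι,
        Scheme.Hom.resLE_comp_ι_assoc, pullback.condition, hτ']
    rw [← Scheme.Hom.resLE_comp_ι_assoc (pullback.fst ξ τ) hle, ← hr, reassoc_of% h1]

end Groth.Agent.S14666
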