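import Groth.Statements.S14668
import Groth.Agent.AbSch.K451.ProjFib
import Groth.Agent.AbSch.K451.Collapse

set_option autoImplicit false
universe u
open CategoryTheory CategoryTheory.Limits MonoidalCategory CartesianMonoidalCategory MonObj GrpObj AlgebraicGeometry
open AbSch

namespace Groth.Agent.S14668

/-- Let S be a locally Noetherian scheme, A an abelian scheme over S (an S-group scheme whose structure
morphism is proper and flat with geometrically integral fibres), and P an S-scheme whose structure
morphism is proper and flat and whose geometric fibres are projective spaces: for every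
algebraically closed field K and every K-point of S, the fibre P ×_S Spec K is isomorphic over Spec
K to projective n-space over K for some n. Then every S-morphism P ⟶ A factors through the structure
morphism of P: it is the composite of P ⟶ S with a section S ⟶ A. -/
theorem result {S : Scheme.{u}} [IsLocallyNoetherian S]
    (A : Over S) [GrpObj A] [IsProper A.hom] [Flat A.hom] [GeometricallyIntegral A.hom]
    (P : Over S) [IsProper P.hom] [Flat P.hom]
    (hP : ∀ (K : Type u) [Field K] [IsAlgClosed K] (s : Spec (CommRingCat.of K) ⟶ S),
      ∃ (n : ℕ) (e : pullback P.hom s ≅ CohB1.ProjSpace n K), e.hom ≫ CohB1.ProjSpace.toSpec n K = pullback.snd P.hom s)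
    (φ : P ⟶ A) :
    ∃ a : 𝟙_ (Over S) ⟶ A, φ = toUnit P ≫ a := by
  have hfp : LocallyOfFinitePresentation P.hom := inferInstance
  have hint : ∀ (K : Type u) [Field K] [IsAlgClosed K] (g : Spec (CommRingCat.of K) ⟶ S),
      IsIntegral (pullback P.hom g) := by
    intro K _ _ g
    obtain ⟨n, e, -⟩ := hP K g
    have h1 : IsIntegral (CohB1.ProjSpace n K) := inferInstance
    have h2 : Nonempty ↥(pullback P.hom g) := ⟨e.inv (Classical.arbitrary _)⟩
    exact isIntegral_of_isOpenImmersion e.hom
  have hb : ∀ V : S.Opens, IsIso (P.hom.app V) := fun V =>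
    Groth.Agent.S0981.result P.hom (fun K _ _ g => by
      have := hint K g
      exact ⟨inferInstance, inferInstance⟩) V
  have hsurj : Surjective P.hom := by
    refine ⟨fun s => ?_⟩
    let K := AlgebraicClosure (S.residueField s)
    let b : Spec (CommRingCat.of K) ⟶ S :=
      Spec.map (CommRingCat.ofHom (algebraMap (S.residueField s) K)) ≫ S.fromSpecResidueField s
    have := hint K b
    obtain ⟨z⟩ := (inferInstance : Nonempty ↥(pullback P.hom b))
    refine ⟨pullback.fst P.hom b z, ?_⟩
    rw [← Scheme.Hom.comp_apply, pullback.condition, Scheme.Hom.comp_apply, Scheme.Hom.comp_apply,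
      Scheme.fromSpecResidueField_apply]
  have hc : IsClosedMap P.hom := P.hom.isClosedMap
  obtain ⟨r, hr⟩ := K451.Collapse.exists_fac P.hom hc hb φ.left (fun s => by
    obtain ⟨x₀, rfl⟩ := P.hom.surjective s
    exact ⟨φ.left x₀, fun x hx => K451.ProjFib.const_on_fibres P.hom hP A φ.left (Over.w φ) x x₀ hx⟩)
  have hepi : Epi P.hom := Groth.Agent.S2913.result P.hom fun V =>
    ((ConcreteCategory.isIso_iff_bijective _).mp (hb V)).1
  have hrA : r ≫ A.hom = 𝟙 S := by
    rw [← cancel_epi P.hom, reassoc_of% hr, Over.w φ, Category.comp_id]
  refine ⟨Over.homMk r hrA, ?_⟩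
  refine Over.OverMorphism.ext ?_
  exact hr.symm

end Groth.Agent.S14668
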