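import Groth.Statements.S14670
import Groth.Agent.S2082
import Groth.Agent.CurvesC.RegNormal
import Mathlib.RingTheory.IntegralClosure.GoingDown
import Mathlib.RingTheory.Ideal.KrullsHeightTheorem
import Mathlib.RingTheory.KrullDimension.Zero
import Mathlib.RingTheory.Flat.Localization

set_option autoImplicit false
universe u
open CAlg

namespace Groth.Agent.S14670

/-- The height of a prime does not increase on passing to the ideal above it in an integral
extension. -/
theorem height_le_height_comap {A B : Type*} [CommRing A] [CommRing B] [Algebra A B]
    [Algebra.IsIntegral A B] (q : Ideal B) [q.IsPrime] :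
    q.height ≤ (q.comap (algebraMap A B)).height := by
  have h1 := PrimeSpectrum.height_eq_orderHeight (⟨q, inferInstance⟩ : PrimeSpectrum B)
  have h2 := PrimeSpectrum.height_eq_orderHeight
    (PrimeSpectrum.comap (algebraMap A B) ⟨q, inferInstance⟩)
  have h3 : q.height = Order.height (⟨q, inferInstance⟩ : PrimeSpectrum B) := h1
  rw [h3]
  refine le_trans (Order.height_le_height_apply_of_strictMono
    (PrimeSpectrum.comap (algebraMap A B)) ?_ _) h2.ge
  intro I J hIJ
  exact Ideal.IsIntegral.comap_lt_comap hIJ

/-- Let R be a regular local ring and S an integral domain containing R as a subring over which it is a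
finitely generated module, such that the localization of S at each of its maximal ideals is a
Cohen–Macaulay local ring. Then S is a flat R-module. (The published statement does not require S to
be a domain; in that generality it fails — for a discrete valuation ring R with residue field κ the
ring R × κ contains R diagonally, is finite over R with Cohen–Macaulay localizations, and is not
flat — and the printed argument needs every maximal ideal of S to have height dim R, which holds
when S is a domain by going down.) -/
theorem result (R S : Type u) [CommRing R] [CommRing S]
    [IsRegularLocalRing R] [IsDomain S] [Algebra R S] [Module.Finite R S]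
    (hinj : Function.Injective (algebraMap R S))
    (hCM : ∀ (q : Ideal S) [q.IsMaximal], LocCoh.IsCohenMacaulayLocalRing (Localization.AtPrime q)) :
    Module.Flat R S := by
  classical
  have hRic : IsIntegrallyClosed R := Groth.Agent.CurvesC.RegNormal.isIntegrallyClosed R
  have hfs : FaithfulSMul R S := (faithfulSMul_iff_algebraMap_injective R S).mpr hinj
  have hRd : IsDomain R := hinj.isDomain (algebraMap R S)
  have hSN : IsNoetherianRing S := IsNoetherianRing.of_finite R S
  have hloc : ∀ (q : Ideal S) [q.IsMaximal], Module.Flat R (Localization.AtPrime q) := by
    intro q hq
    have hCMq := hCM q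
    have hcm : (q.comap (algebraMap R S)).IsMaximal := Ideal.isMaximal_comap_of_isIntegral_of_isMaximal q
    have hqm : q.comap (algebraMap R S) = IsLocalRing.maximalIdeal R := IsLocalRing.eq_maximalIdeal hcm
    have hlies : q.LiesOver (IsLocalRing.maximalIdeal R) := ⟨hqm.symm⟩
    have hlocal : IsLocalHom (algebraMap R (Localization.AtPrime q)) := by
      constructor
      intro r hr
      by_contra hcon
      have h1 : r ∈ q.comap (algebraMap R S) := by rw [hqm]; exact hcon
      have h2 : algebraMap R (Localization.AtPrime q) r ∈
          IsLocalRing.maximalIdeal (Localization.AtPrime q) := by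
        rw [IsScalarTower.algebraMap_apply R S (Localization.AtPrime q),
          IsLocalization.AtPrime.to_map_mem_maximal_iff _ q]
        exact h1
      exact h2 hr
    have hheight : q.height = (IsLocalRing.maximalIdeal R).height := by
      apply le_antisymm
      · rw [← hqm]; exact height_le_height_comap q
      · rw [Ideal.height_eq_height_add_of_liesOver_of_hasGoingDown (IsLocalRing.maximalIdeal R) q]
        exact le_self_add
    have hfib : ringKrullDim (Localization.AtPrime q ⧸ (IsLocalRing.maximalIdeal R).map
        (algebraMap R (Localization.AtPrime q))) = 0 := by
      have hne : (IsLocalRing.maximalIdeal R).map (algebraMap R (Localization.AtPrime q)) ≠ ⊤ := by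
        intro htop
        have h1 : (IsLocalRing.maximalIdeal R).map (algebraMap R (Localization.AtPrime q)) ≤
            IsLocalRing.maximalIdeal (Localization.AtPrime q) :=
          ((IsLocalRing.local_hom_TFAE (algebraMap R (Localization.AtPrime q))).out 0 2).mp hlocal
        rw [htop] at h1
        exact (IsLocalRing.maximalIdeal.isMaximal _).ne_top (top_le_iff.mp h1)
      have hnt : Nontrivial (Localization.AtPrime q ⧸ (IsLocalRing.maximalIdeal R).map
        (algebraMap R (Localization.AtPrime q))) := Ideal.Quotient.nontrivial_iff.mpr hne
      rw [← ringKrullDimZero_iff_ringKrullDim_eq_zero, Ring.krullDimLE_zero_iff]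
      intro I hI
      -- the contraction to `S`
      set J := I.comap (Ideal.Quotient.mk ((IsLocalRing.maximalIdeal R).map
        (algebraMap R (Localization.AtPrime q)))) with hJ
      have hJp : J.IsPrime := Ideal.comap_isPrime _ _
      have hJm : (IsLocalRing.maximalIdeal R).map (algebraMap R (Localization.AtPrime q)) ≤ J := by
        intro x hx
        show Ideal.Quotient.mk _ x ∈ I
        rw [Ideal.Quotient.eq_zero_iff_mem.mpr hx]
        exact I.zero_mem
      set P := J.comap (algebraMap S (Localization.AtPrime q)) with hP
      have hPp : P.IsPrime := Ideal.comap_isPrime _ _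
      have hPm : P.comap (algebraMap R S) = IsLocalRing.maximalIdeal R := by
        apply le_antisymm (IsLocalRing.le_maximalIdeal (Ideal.comap_isPrime _ _).ne_top)
        intro x hx
        show algebraMap S (Localization.AtPrime q) (algebraMap R S x) ∈ J
        rw [← IsScalarTower.algebraMap_apply R S (Localization.AtPrime q)]
        exact hJm (Ideal.mem_map_of_mem _ hx)
      have hPmax : P.IsMaximal := by
        apply Ideal.isMaximal_of_isIntegral_of_isMaximal_comap (R := R) P
        rw [hPm]
        infer_instance
      have hPq : P ≤ q := by
        have h1 : J ≤ IsLocalRing.maximalIdeal (Localization.AtPrime q) :=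
          IsLocalRing.le_maximalIdeal hJp.ne_top
        have h2 := Ideal.comap_mono (f := algebraMap S (Localization.AtPrime q)) h1
        have h3 : Ideal.comap (algebraMap S (Localization.AtPrime q))
            (IsLocalRing.maximalIdeal (Localization.AtPrime q)) = q :=
          IsLocalization.AtPrime.under_maximalIdeal (Localization.AtPrime q) q
        rwa [h3] at h2
      have hPq' : P = q := hPmax.eq_of_le hq.ne_top hPq
      have hJ' : J = IsLocalRing.maximalIdeal (Localization.AtPrime q) := by
        apply le_antisymm (IsLocalRing.le_maximalIdeal hJp.ne_top)
        rw [← Localization.AtPrime.map_eq_maximalIdeal, Ideal.map_le_iff_le_comap]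
        exact hPq'.ge
      have hI' : I = J.map (Ideal.Quotient.mk ((IsLocalRing.maximalIdeal R).map
          (algebraMap R (Localization.AtPrime q)))) :=
        (Ideal.map_comap_of_surjective _ Ideal.Quotient.mk_surjective I).symm
      have hJmax : J.IsMaximal := by rw [hJ']; infer_instance
      rcases Ideal.map_eq_top_or_isMaximal_of_surjective (Ideal.Quotient.mk
        ((IsLocalRing.maximalIdeal R).map (algebraMap R (Localization.AtPrime q))))
          Ideal.Quotient.mk_surjective hJmax with h | h
      · rw [← hI'] at h
        exact absurd h hI.ne_top
      · rwa [← hI'] at h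
    have hdim : ringKrullDim (Localization.AtPrime q) = ringKrullDim R +
        ringKrullDim (Localization.AtPrime q ⧸ (IsLocalRing.maximalIdeal R).map
          (algebraMap R (Localization.AtPrime q))) := by
      rw [hfib, add_zero, IsLocalization.AtPrime.ringKrullDim_eq_height q (Localization.AtPrime q),
        hheight, IsLocalRing.maximalIdeal_height_eq_ringKrullDim]
    exact Groth.Agent.S2082.result hdim
  exact Module.flat_of_isLocalized_maximal (R := R) (S := S) S
    (fun q _ => Localization.AtPrime q)
    (fun q _ => Algebra.linearMap S (Localization.AtPrime q)) (fun q _ => hloc q)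

end Groth.Agent.S14670
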