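import Groth.Statements.S14672
import Groth.Agent.SymTen.K937.Lazard
import Mathlib.Algebra.Module.Projective
-- import your own Groth.Agent.* helpers here

set_option autoImplicit false
universe u
open scoped TensorProduct
open SymTen

namespace Groth.Agent.S14672

/-- Let R be a commutative ring, f : M → N a surjective R-linear map whose target N is flat over R, and
n ≥ 0. Then the induced map on symmetric tensors of degree n is surjective: every element of the
n-fold tensor power of N over R which is fixed by every permutation of the factors is the image,
under the n-fold tensor power of f, of an element of the n-fold tensor power of M fixed by every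
permutation of the factors. -/
theorem result (R : Type u) [CommRing R] (M N : Type u) [AddCommGroup M] [Module R M]
    [AddCommGroup N] [Module R N] [Module.Flat R N] (f : M →ₗ[R] N) (hf : Function.Surjective f) (n : ℕ)
    (t : ⨂[R] _ : Fin n, N) (ht : ∀ σ : Equiv.Perm (Fin n), PiTensorProduct.reindex R (fun _ : Fin n => N) σ t = t) :
    ∃ s : ⨂[R] _ : Fin n, M, (∀ σ : Equiv.Perm (Fin n), PiTensorProduct.reindex R (fun _ : Fin n => M) σ s = s) ∧
      PiTensorProduct.map (fun _ : Fin n => f) s = t := by
  obtain ⟨F, i1, i2, i3, y, s, hs1, hs2, -⟩ := K937.Laz.exists_free_sym_lift (R := R) (M := N) (n := n) 1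
    (fun _ => 0) (fun _ => t) (fun _ => ht) (by simp)
  obtain ⟨l, hl⟩ := Module.projective_lifting_property f y hf
  refine ⟨PiTensorProduct.map (fun _ : Fin n => l) (s 0), ?_, ?_⟩
  · intro σ
    rw [← K937.Laz.map_reindex, hs1]
  · rw [← LinearMap.comp_apply, ← PiTensorProduct.map_comp]
    have e : (fun _ : Fin n => f ∘ₗ l) = fun _ : Fin n => y := by rw [hl]
    rw [e, hs2]

end Groth.Agent.S14672
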