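import Groth.Statements.S14677
import Mathlib.RingTheory.AdicCompletion.Exactness
import Mathlib.RingTheory.AdicCompletion.AsTensorProduct

set_option autoImplicit false
universe u
open CAlg

namespace Groth.Agent.S14677

/-- Let A be a Noetherian commutative ring, I and J ideals of A and M a finitely generated A-module.
Then the map of I-adic completions induced by the inclusion of the submodule JM into M is injective
with image exactly J·M̂, where M̂ is the I-adic completion of M; that is, the completion of JM is J
times the completion of M. (The published statement does not say that A is Noetherian; its proof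
uses exactness of completion on finitely generated modules, which needs it, so this row assumes A
Noetherian.) -/
theorem result (A : Type u) [CommRing A] [IsNoetherianRing A] (I J : Ideal A)
    (M : Type u) [AddCommGroup M] [Module A M] [Module.Finite A M] :
    Function.Injective (AdicCompletion.map I (J • (⊤ : Submodule A M)).subtype) ∧
      LinearMap.range (AdicCompletion.map I (J • (⊤ : Submodule A M)).subtype) =
        (J.map (algebraMap A (AdicCompletion I A))) • (⊤ : Submodule (AdicCompletion I A) (AdicCompletion I M)) := by
  refine ⟨AdicCompletion.map_injective I (Submodule.injective_subtype _), ?_⟩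
  have hspan : ∀ (N : Type u) [AddCommGroup N] [Module A N] [Module.Finite A N]
      (z : AdicCompletion I N), z ∈ Submodule.span (AdicCompletion I A)
        (Set.range (AdicCompletion.of I N)) := by
    intro N _ _ _ z
    obtain ⟨t, rfl⟩ := AdicCompletion.ofTensorProduct_surjective_of_finite I N z
    induction t using TensorProduct.induction_on with
    | zero => rw [map_zero]; exact Submodule.zero_mem _
    | tmul a x =>
      rw [AdicCompletion.ofTensorProduct_tmul]
      exact Submodule.smul_mem _ _ (Submodule.subset_span ⟨x, rfl⟩)
    | add x y hx hy => rw [map_add]; exact Submodule.add_mem _ hx hy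
  have hsmul : ∀ (N : Type u) [AddCommGroup N] [Module A N] (a : A) (x : N),
      AdicCompletion.of I N (a • x) =
        (algebraMap A (AdicCompletion I A) a) • AdicCompletion.of I N x := by
    intro N _ _ a x
    rw [map_smul, algebraMap_smul]
  apply le_antisymm
  · rintro _ ⟨z, rfl⟩
    have hz := hspan _ z
    induction hz using Submodule.span_induction with
    | mem x hx =>
      obtain ⟨y, rfl⟩ := hx
      rw [AdicCompletion.map_of]
      obtain ⟨y, hy⟩ := y
      show AdicCompletion.of I M y ∈ _
      refine Submodule.smul_induction_on hy ?_ ?_
      · intro r hr n _
        rw [hsmul]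
        exact Submodule.smul_mem_smul (Ideal.mem_map_of_mem _ hr) Submodule.mem_top
      · intro x y hx hy
        rw [map_add]
        exact Submodule.add_mem _ hx hy
    | zero => rw [map_zero]; exact Submodule.zero_mem _
    | add x y _ _ hx hy => rw [map_add]; exact Submodule.add_mem _ hx hy
    | smul a x _ hx => rw [map_smul]; exact Submodule.smul_mem _ _ hx
  · rw [Ideal.map, Submodule.span_smul_eq]
    refine (Submodule.set_smul_le _ _ _ ?_)
    rintro _ z ⟨j, hj, rfl⟩ -
    have hz := hspan _ z
    induction hz using Submodule.span_induction with
    | mem x hx =>
      obtain ⟨y, rfl⟩ := hx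
      refine ⟨AdicCompletion.of I _ ⟨j • y, Submodule.smul_mem_smul hj Submodule.mem_top⟩, ?_⟩
      rw [AdicCompletion.map_of]
      exact hsmul M j y
    | zero => rw [smul_zero]; exact Submodule.zero_mem _
    | add x y _ _ hx hy => rw [smul_add]; exact Submodule.add_mem _ hx hy
    | smul a x _ hx => rw [smul_comm]; exact Submodule.smul_mem _ _ hx

end Groth.Agent.S14677
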