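import Groth.Statements.S14678
import Groth.Agent.EtBase.K152.ResExt
import Mathlib.AlgebraicGeometry.Morphisms.Preimmersion
import Mathlib.AlgebraicGeometry.ResidueField
-- import your own Groth.Agent.* helpers here

set_option autoImplicit false
universe u
open CategoryTheory CategoryTheory.Limits AlgebraicGeometry
open EtBase

namespace Groth.Agent.S14678

/-- Let S be a scheme, s a point of S and ℓ a finite field extension of the residue field κ(s). Then,
fppf-locally around s, ℓ occurs as a residue field: there are an affine scheme U', a flat morphism b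
: U' ⟶ S locally of finite presentation (so with open image containing s) and a morphism t : Spec ℓ
⟶ U' over the canonical morphism Spec ℓ ⟶ Spec κ(s) ⟶ S which is a preimmersion, i.e. the inclusion
of a point s' of U' above s together with an identification of κ(s') with ℓ over κ(s); such a point
is closed in its fibre over s. (The published statement gives an affine open neighbourhood U of s
and an fppf morphism U' ⟶ U; this row asks only for a flat, locally finitely presented U' ⟶ S, whose
open image then contains s.) -/
theorem result (S : Scheme.{u}) (s : ↥S)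
    (ℓ : Type u) [Field ℓ] [Algebra (S.residueField s) ℓ] [Module.Finite (S.residueField s) ℓ] :
    ∃ (U' : Scheme.{u}) (b : U' ⟶ S) (t : Spec (CommRingCat.of ℓ) ⟶ U'),
      IsAffine U' ∧ Flat b ∧ LocallyOfFinitePresentation b ∧ IsPreimmersion t ∧
        t ≫ b = Spec.map (CommRingCat.ofHom (algebraMap (S.residueField s) ℓ)) ≫ S.fromSpecResidueField s := by
  obtain ⟨R, u, hu, hs, -⟩ := Scheme.exists_affine_mem_range_and_range_subset
    (x := s) (U := (⊤ : S.Opens)) (by simp)
  -- the point as a preimmersion into `Spec R`
  have hrange : Set.range (S.fromSpecResidueField s) ⊆ Set.range u := by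
    rw [Scheme.range_fromSpecResidueField, Set.singleton_subset_iff]
    exact hs
  let m : Spec (S.residueField s) ⟶ Spec R := IsOpenImmersion.lift u (S.fromSpecResidueField s) hrange
  have hm : m ≫ u = S.fromSpecResidueField s := IsOpenImmersion.lift_fac _ _ _
  have hpre : IsPreimmersion (m ≫ u) := by rw [hm]; infer_instance
  have hpm : IsPreimmersion m := IsPreimmersion.of_comp m u
  obtain ⟨φ, hφ⟩ : ∃ φ : R ⟶ S.residueField s, Spec.map φ = m := ⟨Spec.preimage m, Spec.map_preimage m⟩
  have hstalk : φ.hom.SurjectiveOnStalks := by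
    rw [← hφ] at hpm
    exact ((IsPreimmersion.SpecMap_iff φ).1 hpm).2
  have hfrac : ∀ x : S.residueField s, ∃ r t : R, φ.hom t ≠ 0 ∧ φ.hom t * x = φ.hom r := by
    intro x
    have h1 := hstalk (⊥ : Ideal (S.residueField s)) inferInstance
    rw [RingHom.surjective_localRingHom_iff] at h1
    obtain ⟨a, r, c, hc, hr, h⟩ := h1 x
    have hc' : c ≠ 0 := hc
    have hr' : φ.hom r ≠ 0 := hr
    refine ⟨a, r, hr', mul_left_cancel₀ hc' ?_⟩
    rw [← mul_assoc]
    exact h
  obtain ⟨B, _, _, ψ, hflat, hfp, hcomp, hψ⟩ := K152.ResExt.exists_flat (ℓ := ℓ) φ.hom hfrac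
  let β : Spec (CommRingCat.of B) ⟶ Spec R := Spec.map (CommRingCat.ofHom (algebraMap R B))
  let t : Spec (CommRingCat.of ℓ) ⟶ Spec (CommRingCat.of B) := Spec.map (CommRingCat.ofHom ψ)
  have hβf : Flat β := by
    rw [HasRingHomProperty.Spec_iff (P := @Flat)]
    exact (RingHom.flat_algebraMap_iff).2 hflat
  have hβp : LocallyOfFinitePresentation β := by
    rw [HasRingHomProperty.Spec_iff (P := @LocallyOfFinitePresentation)]
    exact (RingHom.finitePresentation_algebraMap).2 hfp
  refine ⟨Spec (CommRingCat.of B), β ≫ u, t, inferInstance, inferInstance, inferInstance, ?_, ?_⟩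
  · refine IsPreimmersion.mk_SpecMap ?_ ?_
    · exact Topology.IsEmbedding.of_subsingleton _
    · refine RingHom.surjectiveOnStalks_of_exists_div fun x => ?_
      obtain ⟨r, t, ht, h⟩ := hψ x
      exact ⟨r, t, ht.isUnit, h⟩
  · have h1 : t ≫ β = Spec.map (CommRingCat.ofHom (algebraMap (S.residueField s) ℓ)) ≫ m := by
      rw [← hφ]
      change Spec.map _ ≫ Spec.map _ = Spec.map _ ≫ Spec.map _
      rw [← Spec.map_comp, ← Spec.map_comp]
      congr 1
      ext x
      exact DFunLike.congr_fun hcomp x
    rw [← Category.assoc, h1, Category.assoc, hm]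

end Groth.Agent.S14678
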