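import Groth.Statements.S14679
import Mathlib.AlgebraicGeometry.Morphisms.Preimmersion
import Mathlib.AlgebraicGeometry.ResidueField
import Mathlib.AlgebraicGeometry.PullbackCarrier
-- import your own Groth.Agent.* helpers here

set_option autoImplicit false
universe u
open CategoryTheory CategoryTheory.Limits AlgebraicGeometry
open EtBase

namespace Groth.Agent.S14679

/-- If `h ≫ f` is a preimmersion from a one-point scheme with image the point of `x` in `X`, there is
exactly one point of `X ×_Y T` above `x`, for `T` a one-point scheme with the same image in `Y`. -/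
theorem existsUnique_of_preimmersion {X Y P T : Scheme.{u}} (f : X ⟶ Y) (g : T ⟶ Y) (x : X)
    [Subsingleton T] (t : T) (ht : g t = f x) (h : P ⟶ X) (hh : Set.range h = {x})
    [IsPreimmersion (h ≫ f)] :
    ∃! z : ↥(pullback f g), (pullback.fst f g).base z = x := by
  obtain ⟨z, hz, -⟩ := Scheme.Pullback.exists_preimage_pullback (f := f) (g := g) x t ht.symm
  refine ⟨z, hz, fun z' hz' => ?_⟩
  have sq : IsPullback (pullback.snd (pullback.fst f g) h) (pullback.fst (pullback.fst f g) h ≫
      pullback.snd f g) (h ≫ f) g :=
    (IsPullback.of_hasPullback (pullback.fst f g) h).flip.paste_vert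
      (IsPullback.of_hasPullback f g)
  have h1 : IsPreimmersion (pullback.fst (pullback.fst f g) h ≫ pullback.snd f g) :=
    MorphismProperty.of_isPullback sq ‹_›
  have hinj : Function.Injective (pullback.fst (pullback.fst f g) h ≫ pullback.snd f g) :=
    h1.isEmbedding.injective
  have key : ∀ w : ↥(pullback f g), (pullback.fst f g) w = x →
      ∃ q : ↥(pullback (pullback.fst f g) h), (pullback.fst (pullback.fst f g) h) q = w := by
    intro w hw
    have : x ∈ Set.range h := by rw [hh]; rfl
    obtain ⟨p, hp⟩ := this
    obtain ⟨q, hq, -⟩ := Scheme.Pullback.exists_preimage_pullback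
      (f := pullback.fst f g) (g := h) w p (by rw [hw, hp])
    exact ⟨q, hq⟩
  obtain ⟨q, rfl⟩ := key z hz
  obtain ⟨q', rfl⟩ := key z' hz'
  have : q' = q := hinj (Subsingleton.elim _ _)
  rw [this]

/-- Given a morphism of schemes f : X ⟶ Y and a point x ∈ X with image y = f(x), such that the residue
field map κ(y) → κ(x) is bijective; let ℓ be an algebraic extension field of κ(y) and form the base
change X ×_Y Spec ℓ along Spec ℓ ⟶ Spec κ(y) ⟶ Y. Then there is exactly one point of X ×_Y Spec ℓ
mapping to x under the first projection. (The published statement takes ℓ to be an algebraic closure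
of κ(y), noting that any algebraic extension works, and also identifies the local ring at the point
with O_{X,x} ⊗_{O_{Y,y}} ℓ; this row allows any algebraic extension ℓ and states only the first
assertion.) -/
theorem result {X Y : Scheme.{u}} (f : X ⟶ Y) (x : ↥X)
    (hx : Function.Bijective (f.residueFieldMap x).hom)
    (ℓ : Type u) [Field ℓ] [Algebra (Y.residueField (f.base x)) ℓ] [Algebra.IsAlgebraic (Y.residueField (f.base x)) ℓ] :
    ∃! z : ↥(pullback f (Spec.map (CommRingCat.ofHom (algebraMap (Y.residueField (f.base x)) ℓ)) ≫ Y.fromSpecResidueField (f.base x))),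
      (pullback.fst f (Spec.map (CommRingCat.ofHom (algebraMap (Y.residueField (f.base x)) ℓ)) ≫ Y.fromSpecResidueField (f.base x))).base z = x := by
  have hiso : IsIso (f.residueFieldMap x) :=
    (ConcreteCategory.isIso_iff_bijective _).2 hx
  have h1 : IsPreimmersion (X.fromSpecResidueField x ≫ f) := by
    rw [← Scheme.Hom.SpecMap_residueFieldMap_fromSpecResidueField]
    infer_instance
  have hs : Subsingleton ↥(Spec (CommRingCat.of ℓ)) := inferInstanceAs (Subsingleton (PrimeSpectrum ℓ))
  refine existsUnique_of_preimmersion f _ x (default : Spec (CommRingCat.of ℓ)) ?_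
    (X.fromSpecResidueField x) (Scheme.range_fromSpecResidueField x)
  rw [Scheme.Hom.comp_apply]
  exact Scheme.fromSpecResidueField_apply _ _

end Groth.Agent.S14679
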