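import Groth.Statements.S14680
import Mathlib.RingTheory.AdicCompletion.Exactness
import Mathlib.RingTheory.AdicCompletion.AsTensorProduct
import Mathlib.RingTheory.Finiteness.Nakayama

set_option autoImplicit false
universe u
open CAlg

namespace Groth.Agent.S14680

/-- A finitely generated module all of whose elements become zero in every completion at a maximal
ideal is zero. -/
theorem eq_zero_of_forall_of_eq_zero {A : Type u} [CommRing A] {N : Type u} [AddCommGroup N]
    [Module A N] [Module.Finite A N]
    (h : ∀ (m : Ideal A) [m.IsMaximal] (x : N), AdicCompletion.of m N x = 0) (x : N) : x = 0 := by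
  have htop : (⊤ : Submodule A N).FG := Module.Finite.fg_top
  have hle : ∀ (m : Ideal A) [m.IsMaximal], (⊤ : Submodule A N) ≤ m • ⊤ := by
    intro m _ y _
    have h1 := congrArg (AdicCompletion.eval m N 1) (h m y)
    rw [AdicCompletion.eval_of, map_zero, pow_one] at h1
    exact (Submodule.Quotient.mk_eq_zero _).mp h1
  by_contra hx
  have hann : Module.annihilator A N ≠ ⊤ := by
    intro htop
    have h1 : (1 : A) ∈ Module.annihilator A N := by rw [htop]; trivial
    rw [Module.mem_annihilator] at h1
    exact hx (by simpa using h1 x)
  obtain ⟨m, hm, hle'⟩ := Ideal.exists_le_maximal _ hann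
  obtain ⟨r, hr1, hr2⟩ := Submodule.exists_sub_one_mem_and_smul_eq_zero_of_fg_of_le_smul m ⊤ htop
    (hle m)
  have hr : r ∈ m := hle' (by
    rw [Module.mem_annihilator]
    intro n
    exact hr2 n trivial)
  apply hm.ne_top
  rw [Ideal.eq_top_iff_one]
  have : (1 : A) = r - (r - 1) := by ring
  rw [this]
  exact m.sub_mem hr hr1

/-- Let A be a Noetherian commutative ring and f : M' → M, g : M → M'' linear maps between finitely
generated A-modules. Then the sequence 0 → M' → M → M'' → 0 is exact — f injective, the image of f
equal to the kernel of g, g surjective — if and only if for every maximal ideal m of A the sequence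
of m-adic completions 0 → M'^ → M^ → M''^ → 0 (maps induced by f and g) is exact in the same sense. -/
theorem result (A : Type u) [CommRing A] [IsNoetherianRing A]
    (M' M M'' : Type u) [AddCommGroup M'] [Module A M'] [AddCommGroup M] [Module A M] [AddCommGroup M''] [Module A M'']
    [Module.Finite A M'] [Module.Finite A M] [Module.Finite A M''] (f : M' →ₗ[A] M) (g : M →ₗ[A] M'') :
    (Function.Injective f ∧ Function.Exact f g ∧ Function.Surjective g) ↔
      ∀ (m : Ideal A) [m.IsMaximal],
        Function.Injective (AdicCompletion.map m f) ∧ Function.Exact (AdicCompletion.map m f) (AdicCompletion.map m g) ∧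
          Function.Surjective (AdicCompletion.map m g) := by
  constructor
  · rintro ⟨h1, h2, h3⟩ m _
    exact ⟨AdicCompletion.map_injective m h1, AdicCompletion.map_exact h1 h2 h3,
      AdicCompletion.map_surjective m h3⟩
  · intro h
    have hfinj : Function.Injective f := by
      rw [← LinearMap.ker_eq_bot, Submodule.eq_bot_iff]
      intro x hx
      have key : (⟨x, hx⟩ : LinearMap.ker f) = 0 := by
        apply eq_zero_of_forall_of_eq_zero (A := A)
        intro m _ y
        have h1 : AdicCompletion.map m (LinearMap.ker f).subtype (AdicCompletion.of m _ y) = 0 := by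
          apply (h m).1
          rw [AdicCompletion.map_of, AdicCompletion.map_of, map_zero]
          have : f ((LinearMap.ker f).subtype y) = 0 := y.2
          rw [this, map_zero]
        have h2 := AdicCompletion.map_injective m (Submodule.injective_subtype (LinearMap.ker f))
        exact h2 (by rw [h1, map_zero])
      exact congrArg Subtype.val key
    have hgsurj : Function.Surjective g := by
      rw [← LinearMap.range_eq_top]
      have key : ∀ z : M'' ⧸ LinearMap.range g, z = 0 := by
        apply eq_zero_of_forall_of_eq_zero (A := A)
        intro m _ z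
        obtain ⟨y, rfl⟩ := Submodule.mkQ_surjective _ z
        obtain ⟨w, hw⟩ := (h m).2.2 (AdicCompletion.of m _ y)
        rw [← AdicCompletion.map_of, ← hw, AdicCompletion.map_comp_apply]
        have : (LinearMap.range g).mkQ ∘ₗ g = 0 := LinearMap.range_mkQ_comp g
        rw [this, AdicCompletion.map_zero, LinearMap.zero_apply]
      rw [eq_top_iff]
      intro y _
      exact (Submodule.Quotient.mk_eq_zero _).mp (key (Submodule.Quotient.mk y))
    have hcomp : ∀ x, g (f x) = 0 := by
      intro x
      have key : (⟨g (f x), ⟨x, rfl⟩⟩ : LinearMap.range (g ∘ₗ f)) = 0 := by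
        apply eq_zero_of_forall_of_eq_zero (A := A)
        intro m _ y
        have h2 := AdicCompletion.map_injective m
          (Submodule.injective_subtype (LinearMap.range (g ∘ₗ f)))
        apply h2
        rw [map_zero, AdicCompletion.map_of]
        obtain ⟨_, w, rfl⟩ := y
        show AdicCompletion.of m M'' (g (f w)) = 0
        rw [← AdicCompletion.map_of, ← AdicCompletion.map_of]
        exact ((h m).2.1).apply_apply_eq_zero _
      exact congrArg Subtype.val key
    refine ⟨hfinj, ?_, hgsurj⟩
    -- the homology at the middle
    let f' : M' →ₗ[A] LinearMap.ker g := f.codRestrict (LinearMap.ker g) hcomp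
    have hf' : (LinearMap.ker g).subtype ∘ₗ f' = f := LinearMap.subtype_comp_codRestrict _ _ _
    have key : ∀ z : LinearMap.ker g ⧸ LinearMap.range f', z = 0 := by
      apply eq_zero_of_forall_of_eq_zero (A := A)
      intro m _ z
      obtain ⟨y, rfl⟩ := Submodule.mkQ_surjective _ z
      have h0 : AdicCompletion.map m g (AdicCompletion.of m M y) = 0 := by
        rw [AdicCompletion.map_of]
        have : g (y : M) = 0 := y.2
        rw [this, map_zero]
      obtain ⟨w, hw⟩ := ((h m).2.1 _).mp h0
      have h1 : AdicCompletion.map m f' w = AdicCompletion.of m _ y := by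
        apply AdicCompletion.map_injective m (Submodule.injective_subtype (LinearMap.ker g))
        rw [AdicCompletion.map_comp_apply, hf', hw, AdicCompletion.map_of]
        rfl
      rw [← AdicCompletion.map_of, ← h1, AdicCompletion.map_comp_apply]
      have : (LinearMap.range f').mkQ ∘ₗ f' = 0 := LinearMap.range_mkQ_comp f'
      rw [this, AdicCompletion.map_zero, LinearMap.zero_apply]
    intro y
    constructor
    · intro hy
      have h1 := (Submodule.Quotient.mk_eq_zero _).mp (key (Submodule.Quotient.mk ⟨y, hy⟩))
      obtain ⟨w, hw⟩ := h1
      exact ⟨w, congrArg Subtype.val hw⟩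
    · rintro ⟨x, rfl⟩
      exact hcomp x

end Groth.Agent.S14680
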