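import Groth.Statements.S14692
import Mathlib.RingTheory.AdjoinRoot
import Mathlib.RingTheory.Localization.Away.Basic
import Mathlib.RingTheory.IntegralClosure.IntegrallyClosed
import Mathlib.RingTheory.Localization.FractionRing
import Mathlib.RingTheory.Flat.FaithfullyFlat.Algebra
import Groth.Agent.CAlg.K86.Kummer

set_option autoImplicit false
universe u
open CAlg

namespace Groth.Agent.S14692

/-- Let R be a discrete valuation ring of characteristic zero and residue characteristic p, with
uniformizer π and a primitive p^n-th root of unity ζ (n ≥ 1), and A a Noetherian integrally closed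
domain which is a faithfully flat R-algebra, in which πA is a prime ideal and every element that is
a unit modulo π is a unit (as when A is π-adically complete, or local). Let f, g be units of A, j a
natural number with π^{p^{n−1}(p−1)(j+1)} dividing p (that is, j is less than the valuation of ζ −
1, so that the polynomials ((1 + π^{j}T)^{p^n} − 1)/π^{jp^n} and ((1 + π^{j+1}T)^{p^n} −
1)/π^{(j+1)p^n} have coefficients in R), and f₀ ∈ A with f·g^{p^n} = 1 + π^{j p^n}·f₀; suppose j is
maximal with this property: there is no unit g' of A with f·g'^{p^n} ≡ 1 modulo π^{(j+1)p^n}.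
Suppose moreover that the algebra L = A[1/π][Z]/(Z^{p^n} − f) is an integral domain (the
μ_{p^n}-torsor Z^{p^n} = f is connected on the generic fibre) and that, B denoting the integral
closure of A in L (the normalization of Spec A in that cover), the ideal πB is radical (the
normalization has reduced special fibre). Then f₀ is not congruent modulo πA to a p^n-th power. (The
published statement phrases the hypothesis on j as: the class of the torsor Z^{p^n} = f lies in
H¹(Spec A, G_{π^j,n}) and not in H¹(Spec A, G_{π^{j+1},n}); the conditions on g and g' are its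
ring-theoretic form, which is the first assertion of the same lemma; A is there factorial and
π-adically complete, or normal local, which this row keeps only through the consequences used:
integrally closed, and units lift modulo π.) -/
theorem result
    (R : Type u) [CommRing R] [IsDomain R] [IsDiscreteValuationRing R] [CharZero R]
    (p : ℕ) [Fact p.Prime] [CharP (IsLocalRing.ResidueField R) p] (ϖ : R) (hϖ : Irreducible ϖ)
    (n : ℕ) (hn : 0 < n) (ζ : R) (hζ : IsPrimitiveRoot ζ (p ^ n))
    (A : Type u) [CommRing A] [IsDomain A] [IsNoetherianRing A] [IsIntegrallyClosed A] [Algebra R A]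
    [Module.FaithfullyFlat R A]
    (hprime : (Ideal.span {algebraMap R A ϖ}).IsPrime)
    (hlift : ∀ a : A, IsUnit (Ideal.Quotient.mk (Ideal.span {algebraMap R A ϖ}) a) → IsUnit a)
    (f g : Aˣ) (j : ℕ) (hj : ϖ ^ (p ^ (n - 1) * (p - 1) * (j + 1)) ∣ (p : R)) (f₀ : A)
    (hfg : (f : A) * (g : A) ^ (p ^ n) = 1 + (algebraMap R A ϖ) ^ (j * p ^ n) * f₀)
    (hmax : ∀ (g' : Aˣ) (c : A), (f : A) * (g' : A) ^ (p ^ n) ≠ 1 + (algebraMap R A ϖ) ^ ((j + 1) * p ^ n) * c)
    [IsDomain (AdjoinRoot (Polynomial.X ^ (p ^ n) - Polynomial.C (algebraMap A (Localization.Away (algebraMap R A ϖ)) (f : A))))]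
    (hred : (Ideal.span {algebraMap A (integralClosure A (AdjoinRoot (Polynomial.X ^ (p ^ n) - Polynomial.C (algebraMap A (Localization.Away (algebraMap R A ϖ)) (f : A))))) (algebraMap R A ϖ)}).IsRadical)
    (g₀ : A) : f₀ - g₀ ^ (p ^ n) ∉ Ideal.span {(algebraMap R A ϖ)} := by
  intro h
  have hp : p.Prime := Fact.out
  set a : A := algebraMap R A ϖ with hadef
  have hinjR : Function.Injective (algebraMap R A) := FaithfulSMul.algebraMap_injective R A
  have ha0 : a ≠ 0 := by
    rw [hadef, Ne, map_eq_zero_iff _ hinjR]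
    exact hϖ.ne_zero
  have hjA : a ^ (p ^ (n - 1) * (p - 1) * (j + 1)) ∣ (p : A) := by
    have := map_dvd (algebraMap R A) hj
    rwa [map_pow, map_natCast] at this
  let Aπ := Localization.Away a
  let Pf : Polynomial Aπ := Polynomial.X ^ (p ^ n) - Polynomial.C (algebraMap A Aπ (f : A))
  have hPf : Pf.Monic := Polynomial.monic_X_pow_sub_C _ (pow_pos hp.pos n).ne'
  have hle : Submonoid.powers a ≤ nonZeroDivisors A :=
    powers_le_nonZeroDivisors_of_noZeroDivisors ha0
  haveI : IsDomain Aπ := IsLocalization.isDomain_localization hle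
  have haπ : IsUnit (algebraMap A Aπ a) := IsLocalization.Away.algebraMap_isUnit a
  have haL : IsUnit (algebraMap A (AdjoinRoot Pf) a) := by
    rw [IsScalarTower.algebraMap_apply A Aπ (AdjoinRoot Pf)]
    exact haπ.map _
  have hZ : (AdjoinRoot.root Pf) ^ (p ^ n) = algebraMap A (AdjoinRoot Pf) (f : A) := by
    have h1 := AdjoinRoot.eval₂_root Pf
    rw [Polynomial.eval₂_sub, Polynomial.eval₂_pow, Polynomial.eval₂_X, Polynomial.eval₂_C,
      sub_eq_zero] at h1
    rw [h1, IsScalarTower.algebraMap_apply A Aπ (AdjoinRoot Pf)]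
    rfl
  obtain ⟨g', W, hW, hW'⟩ := K86.Kummer.core (L := AdjoinRoot Pf) (n := n) hp a hjA hlift f g f₀
    hfg haL (AdjoinRoot.root Pf) hZ hred g₀ h
  obtain ⟨ai, hai⟩ := haπ.exists_right_inv
  let w : Aπ := ai ^ ((j + 1) * p ^ n) * algebraMap A Aπ ((f : A) * (g' : A) ^ (p ^ n) - 1)
  have hw : algebraMap A Aπ a ^ ((j + 1) * p ^ n) * w =
      algebraMap A Aπ ((f : A) * (g' : A) ^ (p ^ n) - 1) := by
    show algebraMap A Aπ a ^ ((j + 1) * p ^ n) * (ai ^ ((j + 1) * p ^ n) * _) = _
    rw [← mul_assoc, ← mul_pow, hai, one_pow, one_mul]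
  have hwW : algebraMap Aπ (AdjoinRoot Pf) w = W := by
    have h1 : algebraMap A (AdjoinRoot Pf) a ^ ((j + 1) * p ^ n) *
        algebraMap Aπ (AdjoinRoot Pf) w =
        algebraMap A (AdjoinRoot Pf) a ^ ((j + 1) * p ^ n) * W := by
      have h2 := congrArg (algebraMap Aπ (AdjoinRoot Pf)) hw
      rw [map_mul, map_pow, ← IsScalarTower.algebraMap_apply,
        ← IsScalarTower.algebraMap_apply A Aπ (AdjoinRoot Pf), map_sub, hW', map_one,
        add_sub_cancel_left] at h2
      exact h2
    exact (haL.pow _).mul_left_cancel h1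
  have hinj : Function.Injective (algebraMap Aπ (AdjoinRoot Pf)) := by
    apply AdjoinRoot.of.injective_of_degree_ne_zero
    rw [Polynomial.degree_X_pow_sub_C (pow_pos hp.pos n)]
    exact_mod_cast (pow_pos hp.pos n).ne'
  have hwint : IsIntegral A w := by
    rw [← isIntegral_algebraMap_iff (R := A) hinj, hwW]
    exact hW
  let K := FractionRing A
  let φ : Aπ →+* K := IsLocalization.Away.lift (S := Aπ) a (g := algebraMap A K) (by
    rw [isUnit_iff_ne_zero, Ne, map_eq_zero_iff _ (IsFractionRing.injective A K)]
    exact ha0)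
  have hφ : ∀ x, φ (algebraMap A Aπ x) = algebraMap A K x := fun x =>
    IsLocalization.Away.lift_eq (S := Aπ) a _ x
  let φ' : Aπ →ₐ[A] K := { φ with commutes' := hφ }
  have h1 : IsIntegral A (φ' w) := hwint.map φ'
  obtain ⟨y, hy⟩ := IsIntegrallyClosed.isIntegral_iff.mp h1
  refine hmax g' y ?_
  have h2 := congrArg φ' hw
  rw [map_mul, map_pow, ← hy, AlgHom.commutes, AlgHom.commutes, ← map_pow, ← map_mul] at h2
  have h3 := IsFractionRing.injective A K h2
  rw [h3]
  ring

end Groth.Agent.S14692
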