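import Groth.Statements.S14695
import Groth.Agent.NonAbH1.K551.Tors
import Groth.Agent.NonAbH1.K553.Bc
import Groth.Agent.Ega2.Normal

set_option autoImplicit false
universe u
open CategoryTheory AlgebraicGeometry
open NonAbH1

namespace Groth.Agent.S14695

section Aux

open MonoidalCategory CartesianMonoidalCategory CategoryTheory.Limits

variable {X : Scheme.{u}} {G G' P P' : Over X} [GrpObj G] [GrpObj G']

/-- If `f : P → P'` is equivariant along a homomorphism `g` which becomes an isomorphism over `c`, and `P'` has a
section, then `P` has a section over `c`. -/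
private theorem exists_generic_section {T : Scheme.{u}} {c : T ⟶ X} (g : G ⟶ G') [IsMonHom g]
    (hg : IsIso ((Over.pullback c).map g)) {a : AlgGrp.Action G P} (hP : NonAbH1.IsTorsorFor Scheme.fppfPrecoverage a)
    {a' : AlgGrp.Action G' P'} (hP' : NonAbH1.IsPseudoTorsorSch a') (f : P ⟶ P')
    (hf : AlgGrp.Action.IsEquivariant a (a'.restrict g) f) (s : X ⟶ P'.left) (hs : s ≫ P'.hom = 𝟙 X) :
    ∃ t : T ⟶ P.left, t ≫ P.hom = c := by
  have h1 : NonAbH1.IsPseudoTorsorSch ((a'.restrict g).bc c) := by
    rw [AlgGrp.Action.bc_restrict]
    exact K553.Bc.isPseudoTorsorSch_restrict (NonAbH1.isPseudoTorsorSch_bc c hP') _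
  have h2 : IsIso ((Over.pullback c).map f) :=
    K551.Tors.isIso_of_equivariant (NonAbH1.isTorsorFor_bc c _ hP) h1 _ (AlgGrp.Action.isEquivariant_bc c hf)
  let s' : T ⟶ (Red.bc c P').left := pullback.lift (c ≫ s) (𝟙 T) (by
    rw [Category.assoc, hs, Category.comp_id, Category.id_comp])
  have h3 : (inv ((Over.pullback c).map f)).left ≫ pullback.snd P.hom c = pullback.snd P'.hom c :=
    Over.w (inv ((Over.pullback c).map f))
  have h4 : s' ≫ pullback.snd P'.hom c = 𝟙 T := pullback.lift_snd _ _ _
  refine ⟨s' ≫ (inv ((Over.pullback c).map f)).left ≫ pullback.fst P.hom c, ?_⟩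
  rw [Category.assoc, Category.assoc, pullback.condition, reassoc_of% h3, reassoc_of% h4]

open MonoidalCategory CartesianMonoidalCategory in
private theorem isEquivariant_of_push (g : G ⟶ G') [IsMonHom g] {a : AlgGrp.Action G P}
    {a' : AlgGrp.Action G' P'} (f : P ⟶ P') (hf : a.act ≫ f = lift (fst G P ≫ g) (snd G P ≫ f) ≫ a'.act) :
    AlgGrp.Action.IsEquivariant a (a'.restrict g) f := by
  change a.act ≫ f = (G ◁ f) ≫ (g ▷ P') ≫ a'.act
  rw [hf, ← Category.assoc]
  congr 1
  ext1 <;> simp

end Aux

/-- In the case where the morphism Y → X is the identity of X: let X be a normal integral scheme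
(integral, with every local ring an integrally closed domain), G and G' X-group schemes which are
finite and flat over X, and g : G → G' a homomorphism which becomes an isomorphism after base change
to the spectrum of the function field of X. If an fppf G-torsor P over X becomes trivial after
extension of the structure group along g — there is an fppf G'-torsor P' over X with a g-equivariant
X-morphism P → P', and P' has a section over X — then P has a section over X. (The published
statement takes G, G' commutative and all schemes Noetherian, allows also composition with the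
pull-back along a morphism Y → X admitting a rational section, and is phrased as injectivity of
H¹(X, G) → H¹(Y, G'_Y); this row is the case where Y → X is the identity of X, as the trivial-kernel
assertion the argument establishes, for which commutativity and the Noetherian condition are not
needed.) -/
theorem result {X : Scheme.{u}} [IsIntegral X]
    (hX : Pi1.IsNormalScheme X) (G G' : Over X) [GrpObj G] [GrpObj G']
    [IsFinite G.hom] [Flat G.hom] [IsFinite G'.hom] [Flat G'.hom]
    (g : G ⟶ G') [IsMonHom g]
    (hg : IsIso ((Over.pullback (X.fromSpecStalk (genericPoint X))).map g))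
    (P : Over X) (a : AlgGrp.Action G P) (hP : NonAbH1.IsTorsorFor Scheme.fppfPrecoverage a)
    (P' : Over X) (a' : AlgGrp.Action G' P') (hP' : NonAbH1.IsTorsorFor Scheme.fppfPrecoverage a')
    (hpush : NonAbH1.IsPushforwardAlongSch g a a') (htriv : NonAbH1.HasSectionOver P' (𝟙 X)) :
    NonAbH1.HasSectionOver P (𝟙 X) := by
  have : IsFinite P.hom := K551.Tors.isFinite_of_torsor hP
  obtain ⟨f, hf⟩ := hpush
  obtain ⟨s, hs⟩ := htriv
  have hf' : AlgGrp.Action.IsEquivariant a (a'.restrict g) f := isEquivariant_of_push g f hf
  obtain ⟨t, ht⟩ := exists_generic_section g hg hP hP'.1 f hf' s hs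
  obtain ⟨s, hs, -⟩ := Groth.Agent.Ega2.Normal.exists_section_of_functionField_section hX P.hom t ht
  exact ⟨s, hs⟩

end Groth.Agent.S14695
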