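import Groth.Statements.S14696
import Groth.Agent.Surf.K457.DualChi
import Groth.Agent.Surf.K457.DualCM
import Groth.Agent.Ega3B.ProjProper
import Groth.Agent.Ega3B.PicTwist

set_option autoImplicit false
universe u
open CategoryTheory CategoryTheory.Limits AlgebraicGeometry
open Surf

namespace Groth.Agent.S14696

/-- Let k be an algebraically closed field and X an integral scheme of dimension two admitting a closed
immersion into some P^n_k over k, all of whose local rings are Cohen–Macaulay. Let (ω, t) be a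
dualizing sheaf for X — ω coherent, t a k-linear form on H^2(X, ω), such that for every coherent F
and every k-linear form ψ on H^2(X, F) there is exactly one φ : F → ω with ψ = t ∘ H^2(φ) — and
assume ω invertible. Then for every invertible O_X-module L one has 2 χ(L) = (L·L) - (L·ω) + 2
χ(O_X), where (A·B) = χ(O_X) - χ(A) - χ(B) + χ(A ⊗ B) is the intersection number (packaged as
FGA.intNum). (The published statement is for a Gorenstein surface, where the dualizing sheaf is
invertible and the local rings are Cohen–Macaulay; this row assumes those two consequences directly,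
which is what the proof uses, and does not assume regularity in codimension one.) -/
theorem result (k : Type u) [Field k] [IsAlgClosed k] (X : Scheme.{u}) [X.Over (Spec (CommRingCat.of k))]
    [IsIntegral X] (hdim : topologicalKrullDim X = 2)
    (hproj : ∃ (n : ℕ) (ι : X ⟶ CohB1.ProjSpace n k), IsClosedImmersion ι ∧ ι ≫ CohB1.ProjSpace.toSpec n k = (X ↘ (Spec (CommRingCat.of k))))
    (hCM : ∀ x : X, LocCoh.IsCohenMacaulayLocalRing (X.presheaf.stalk x))
    (ω : X.Modules) (hωcoh : Coh.IsCoh ω) (hωinv : PicF.IsInvertible ω) (t : Coh.HH X ω 2 →ₗ[k] k)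
    (hdual : ∀ F : X.Modules, Coh.IsCoh F → ∀ ψ : Coh.HH X F 2 →ₗ[k] k,
        ∃! φ : F ⟶ ω, ∀ x : Coh.HH X F 2,
          ψ x = t (Sheaf.H.map ((SheafOfModules.toSheaf X.ringCatSheaf).map φ) 2 x))
    (L : X.Modules) (hL : PicF.IsInvertible L) :
    2 * Curv2.euler k X L = FGA.intNum k X 2 ![L, L] (Coh.structureModule X) - FGA.intNum k X 2 ![L, ω] (Coh.structureModule X) + 2 * Curv2.euler k X (Coh.structureModule X) := by
  obtain ⟨n, ι, hι, hιk⟩ := hproj
  have hP : IsProper (X ↘ Spec (CommRingCat.of k)) := by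
    rw [← hιk]
    have := Groth.Agent.Ega3B.ProjProper.isProper_toSpec n k
    infer_instance
  have hLN : IsLocallyNoetherian X := LocallyOfFiniteType.isLocallyNoetherian (X ↘ Spec (CommRingCat.of k))
  have hd : ∀ Z : Set X, Z ∈ irreducibleComponents X → topologicalKrullDim ↥Z = ((2 : ℕ) : WithBot ℕ∞) := by
    intro Z hZ
    rw [irreducibleComponents_eq_singleton, Set.mem_singleton_iff] at hZ
    subst hZ
    rw [IsHomeomorph.topologicalKrullDim_eq _ (Homeomorph.Set.univ X).isHomeomorph, hdim]
    rfl
  obtain ⟨w, hw, hsd⟩ := K457.DualCM.exists_isSD k X hCM 2 hd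
  obtain ⟨t', ht'⟩ := hsd.exists_rep
  obtain ⟨e⟩ := K457.DualCM.nonempty_iso_of_rep k X 2 hωcoh hw
    (t ∘ₗ (Groth.Agent.CurvesC.HV.equiv k ω 2).toLinearMap) t'
    (fun F hF => by
      constructor
      · intro a b hab
        obtain ⟨c, -, hc⟩ := hdual F hF
          ((t ∘ₗ (Groth.Agent.CurvesC.HV.equiv k ω 2).toLinearMap ∘ₗ Groth.Agent.CurvesC.HV.map k a 2) ∘ₗ
            (Groth.Agent.CurvesC.HV.equiv k F 2).symm.toLinearMap)
        rw [hc a (fun x => rfl), hc b (fun x => LinearMap.congr_fun hab x)]
      · intro ψ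
        obtain ⟨c, hc, -⟩ := hdual F hF (ψ ∘ₗ (Groth.Agent.CurvesC.HV.equiv k F 2).symm.toLinearMap)
        exact ⟨c, LinearMap.ext fun x => (hc x).symm⟩)
    (fun F hF => ht' F hF.1)
  have hsd' := K457.Dual.isSD_congr e hsd
  have h2 : topologicalKrullDim X ≤ 2 := hdim.le
  have hRR := K457.Form.rr_of_duality (k := k) h2 _ (K457.DualChi.chi_dual hωinv hsd')
    (Groth.Agent.Grpsch.PicGrp.mk L hL)
  rw [K457.Form.intNum_eq k X hL hL, K457.Form.intNum_eq k X hL hωinv, ← K457.Form.chi_mk h2 hL,
    ← K457.Form.chi_one h2]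
  exact hRR

end Groth.Agent.S14696
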