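import Groth.Statements.S14697
import Groth.Agent.Surf.K457.DualChi
import Groth.Agent.Surf.K457.Smooth
import Groth.Agent.Surf.K457.Bir
import Groth.Agent.Surf.K457.BirNormal
import Groth.Agent.Ega3B.ProjProper

set_option autoImplicit false
universe u
open CategoryTheory CategoryTheory.Limits AlgebraicGeometry
open Surf

namespace Groth.Agent.S14697

/-- Let k be an algebraically closed field and X an integral normal scheme of dimension two admitting a
closed immersion into some P^n_k over k. Let φ : Y → X be a k-morphism from an integral scheme Y of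
dimension two with all local rings regular, itself admitting a closed immersion into some P^m_k over
k, such that φ restricts to an isomorphism over an open subset U of X with finite complement (any
such resolution: φ may also fail to be an isomorphism over finitely many regular points). Let W be a
canonical module of Y, a second exterior power of Ω_{Y/k}, and L an invertible O_X-module. Then 2
χ(X, L) = (φ^*L · φ^*L) - (φ^*L · W) + 2 χ(X, O_X), the intersection numbers being taken on Y as
(A·B) = χ(O_Y) - χ(A) - χ(B) + χ(A ⊗ B) (packaged as FGA.intNum). In the published form D.D and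
D.K_* are the intersection numbers of the Cartier divisor D of L with itself and with the direct
image K_* of a canonical divisor of Y, in the rational-valued pairing defined through the
resolution; for a Cartier divisor both equal the numbers on Y written here. (The published statement
takes a resolved model, that is, φ an isomorphism exactly over the complement of the singular points
with exceptional curves nonsingular and crossing normally; this row allows any φ that is an
isomorphism over some open subset with finite complement, to which the same proof applies. The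
published display has constant term the arithmetic genus p_a(X) = χ(O_X) - 1 of the surface; the
proof given establishes the constant χ(O_X) used here, and with p_a(X) the identity already fails
for the trivial divisor, whose two sides would read χ(O_X) and χ(O_X) - 1.) -/
theorem result (k : Type u) [Field k] [IsAlgClosed k] (X : Scheme.{u}) [X.Over (Spec (CommRingCat.of k))]
    [IsIntegral X] (hdim : topologicalKrullDim X = 2)
    (hproj : ∃ (n : ℕ) (ι : X ⟶ CohB1.ProjSpace n k), IsClosedImmersion ι ∧ ι ≫ CohB1.ProjSpace.toSpec n k = (X ↘ (Spec (CommRingCat.of k))))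
    (hnorm : Pi1.IsNormalScheme X) (U : X.Opens) (hU : ((U : Set X)ᶜ).Finite)
    (Y : Scheme.{u}) (φ : Y ⟶ X) [IsIntegral Y] (hdimY : topologicalKrullDim Y = 2)
    (hregY : ∀ y : Y, IsRegularLocalRing (Y.presheaf.stalk y))
    (hprojY : ∃ (n : ℕ) (ι : Y ⟶ CohB1.ProjSpace n k), IsClosedImmersion ι ∧ ι ≫ CohB1.ProjSpace.toSpec n k = φ ≫ (X ↘ (Spec (CommRingCat.of k))))
    (hisoY : IsIso (φ ∣_ U))
    (W : Y.Modules) (hW : ExtPow.IsExtPow 2 (Omega.sheaf (φ ≫ (X ↘ (Spec (CommRingCat.of k))))) W)
    (L : X.Modules) (hL : PicF.IsInvertible L) :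
    letI : Y.Over (Spec (CommRingCat.of k)) := ⟨φ ≫ (X ↘ (Spec (CommRingCat.of k)))⟩
    2 * Curv2.euler k X L =
      FGA.intNum k Y 2 ![(Scheme.Modules.pullback φ).obj L, (Scheme.Modules.pullback φ).obj L] (Coh.structureModule Y) -
        FGA.intNum k Y 2 ![(Scheme.Modules.pullback φ).obj L, W] (Coh.structureModule Y) +
        2 * Curv2.euler k X (Coh.structureModule X) := by
  letI : Y.Over (Spec (CommRingCat.of k)) := ⟨φ ≫ (X ↘ (Spec (CommRingCat.of k)))⟩
  have hYo : (Y ↘ (Spec (CommRingCat.of k))) = φ ≫ (X ↘ (Spec (CommRingCat.of k))) := rfl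
  obtain ⟨n, ι, hι, hιk⟩ := hproj
  have hPX : IsProper (X ↘ Spec (CommRingCat.of k)) := by
    rw [← hιk]
    have := Groth.Agent.Ega3B.ProjProper.isProper_toSpec n k
    infer_instance
  obtain ⟨m, ι', hι', hιk'⟩ := hprojY
  have hPY : IsProper (Y ↘ Spec (CommRingCat.of k)) := by
    rw [hYo, ← hιk']
    have := Groth.Agent.Ega3B.ProjProper.isProper_toSpec m k
    infer_instance
  have hsm : SmoothOfRelativeDimension 2 (Y ↘ Spec (CommRingCat.of k)) :=
    K457.Smooth.relDim_of_regular k Y 2 hdimY hregY
  have hW' : ExtPow.IsExtPow 2 (Omega.sheaf (Y ↘ Spec (CommRingCat.of k))) W := hW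
  have hWinv := K457.Smooth.isInvertible_canonical k Y 2 hW'
  have hsd := K457.DualSm.isSD k Y 2 W hW'
  have hdX : topologicalKrullDim X ≤ 2 := hdim.le
  have hdY : topologicalKrullDim Y ≤ 2 := hdimY.le
  have hRR := K457.Form.rr_of_duality (k := k) hdY _ (K457.DualChi.chi_dual hWinv hsd)
    (Groth.Agent.Grpsch.PicGrp.pull φ (Groth.Agent.Grpsch.PicGrp.mk L hL))
  have hphi : IsProper φ := Groth.Agent.Vancyc.H175.Leray.isProper_of_over k φ rfl
  have hUne : (U : Set X).Nonempty := by
    by_contra hne
    rw [Set.not_nonempty_iff_eq_empty] at hne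
    rw [hne, Set.compl_empty] at hU
    have h1 := K457.PicFin.dim_le_zero_of_finite k (X := X) isClosed_univ hU
    rw [IsHomeomorph.topologicalKrullDim_eq _ (Homeomorph.Set.univ X).isHomeomorph, hdim] at h1
    exact absurd h1 (by decide)
  have key := K457.Bir.chi_pull_sub k φ rfl hdX hdY U.2.isClosed_compl hU
    (by
      intro z hz
      have hzU : z ∈ U := by
        by_contra h
        exact hz h
      refine Set.Subsingleton.finite fun a ha b hb => ?_
      have ha' : φ a = z := ha
      have hb' : φ b = z := hb
      exact Groth.Agent.Vancyc.H175.DimBir.injOn_of_isIso φ U (ha' ▸ hzU) (ha'.trans hb'.symm))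
    (fun V => (ConcreteCategory.isIso_iff_bijective _).mp (K457.BirNormal.isIso_app hnorm φ U hUne V))
    (Groth.Agent.Grpsch.PicGrp.mk L hL)
  rw [Groth.Agent.Grpsch.PicGrp.pull_mk] at hRR key
  rw [K457.Form.intNum_eq k Y (Groth.Agent.Fdesc.LocGen.isInvertible_pullback φ hL)
    (Groth.Agent.Fdesc.LocGen.isInvertible_pullback φ hL),
    K457.Form.intNum_eq k Y (Groth.Agent.Fdesc.LocGen.isInvertible_pullback φ hL) hWinv,
    ← K457.Form.chi_mk hdX hL, ← K457.Form.chi_one hdX]
  linarith

end Groth.Agent.S14697
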