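import Groth.Statements.S14698
import Groth.Agent.Resolve.K376.DesFib

set_option autoImplicit false
universe u
open CategoryTheory CategoryTheory.Limits AlgebraicGeometry
open Resolve

namespace Groth.Agent.S14698

/-- Let k be an algebraically closed field and X an integral normal scheme of dimension two admitting a
closed immersion into some P^n_k over k. Let φ : Y → X be a k-morphism from an integral scheme Y of
dimension two with all local rings regular, itself admitting a closed immersion into some P^m_k over
k, which restricts to an isomorphism over an open subset U of X with finite complement. Then for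
every point x of X at which the local ring is not regular, the fibre φ⁻¹(x) (with the topology
induced from Y) is nonempty and every irreducible component of it has dimension one: such a
desingularization is a monoidal model. (The published statement takes φ an isomorphism exactly over
the complement of the singular points; this row allows any open U with finite complement over which
φ is an isomorphism.) -/
theorem result (k : Type u) [Field k] [IsAlgClosed k] (X : Scheme.{u}) [X.Over (Spec (CommRingCat.of k))]
    [IsIntegral X] (hdim : topologicalKrullDim X = 2)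
    (hproj : ∃ (n : ℕ) (ι : X ⟶ CohB1.ProjSpace n k), IsClosedImmersion ι ∧ ι ≫ CohB1.ProjSpace.toSpec n k = (X ↘ (Spec (CommRingCat.of k))))
    (hnorm : Pi1.IsNormalScheme X) (U : X.Opens) (hU : ((U : Set X)ᶜ).Finite)
    (Y : Scheme.{u}) (φ : Y ⟶ X) [IsIntegral Y] (hdimY : topologicalKrullDim Y = 2)
    (hregY : ∀ y : Y, IsRegularLocalRing (Y.presheaf.stalk y))
    (hprojY : ∃ (n : ℕ) (ι : Y ⟶ CohB1.ProjSpace n k), IsClosedImmersion ι ∧ ι ≫ CohB1.ProjSpace.toSpec n k = φ ≫ (X ↘ (Spec (CommRingCat.of k))))
    (hisoY : IsIso (φ ∣_ U))
    (x : X) (hx : ¬ IsRegularLocalRing (X.presheaf.stalk x)) :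
    (φ.base ⁻¹' ({x} : Set X)).Nonempty ∧
      ∀ Z ∈ irreducibleComponents ↥(φ.base ⁻¹' ({x} : Set X)), topologicalKrullDim ↥Z = 1 := by
  obtain ⟨n, ι, hι, hιk⟩ := hproj
  obtain ⟨n', ι', hι', hιk'⟩ := hprojY
  have hp1 : IsProper (CohB1.ProjSpace.toSpec n k) := Groth.Agent.Ega3B.ProjProper.isProper_toSpec _ _
  have hp2 : IsProper (CohB1.ProjSpace.toSpec n' k) := Groth.Agent.Ega3B.ProjProper.isProper_toSpec _ _
  have hXp : IsProper (X ↘ (Spec (CommRingCat.of k))) := by rw [← hιk]; infer_instance
  have hYp : IsProper (φ ≫ (X ↘ (Spec (CommRingCat.of k)))) := by rw [← hιk']; infer_instance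
  have hφ : IsProper φ := IsProper.of_comp φ (X ↘ (Spec (CommRingCat.of k)))
  have hNX : IsNoetherian X :=
    { toIsLocallyNoetherian := LocallyOfFiniteType.isLocallyNoetherian (X ↘ (Spec (CommRingCat.of k)))
      toCompactSpace := QuasiCompact.compactSpace_of_compactSpace (X ↘ (Spec (CommRingCat.of k))) }
  have hJ : JacobsonSpace X := LocallyOfFiniteType.jacobsonSpace (X ↘ (Spec (CommRingCat.of k)))
  have hUne : (U : Set X).Nonempty := by
    rw [Set.nonempty_iff_ne_empty]
    intro h0
    rw [h0, Set.compl_empty] at hU
    have h1 : IsClosed ({genericPoint X} : Set X) :=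
      K376.DesFib.isClosed_of_mem_finite hU isClosed_univ (Set.mem_univ _)
    have h2 : (Set.univ : Set X) = {genericPoint X} := by
      have h3 := genericPoint_closure (α := X)
      rw [h1.closure_eq] at h3
      exact h3.symm
    have h3 : Subsingleton X := by
      refine ⟨fun a b => ?_⟩
      have ha : a ∈ ({genericPoint X} : Set X) := by rw [← h2]; trivial
      have hb : b ∈ ({genericPoint X} : Set X) := by rw [← h2]; trivial
      rw [ha, hb]
    have h4 : topologicalKrullDim X ≤ 0 := by
      have : Subsingleton (TopologicalSpace.IrreducibleCloseds X) := by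
        refine ⟨fun A B => ?_⟩
        apply TopologicalSpace.IrreducibleCloseds.ext
        rw [Set.Nonempty.eq_univ A.isIrreducible.1, Set.Nonempty.eq_univ B.isIrreducible.1]
      exact Order.krullDim_nonpos_of_subsingleton
    rw [hdim] at h4
    exact absurd h4 (by norm_num)
  have hxU : x ∉ U := fun h => hx (K376.DesFib.isRegular_of_isIso φ hregY U hisoY x h)
  have hxc : IsClosed ({x} : Set X) :=
    K376.DesFib.isClosed_of_mem_finite hU U.isOpen.isClosed_compl hxU
  exact K376.DesFib.main φ hdimY hregY U hUne hisoY x hxc (hnorm x).2 hx

end Groth.Agent.S14698
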