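import Groth.Statements.S14699
import Groth.Agent.Surf.K457.ResSide
import Groth.Agent.Surf.K457.Dom
import Groth.Agent.Surf.K465.ProjH

set_option autoImplicit false
universe u
open CategoryTheory CategoryTheory.Limits AlgebraicGeometry
open scoped Matrix
open Surf

namespace Groth.Agent.S14699

/-- Let k be an algebraically closed field, X an integral scheme of dimension two admitting a closed
immersion into some P^n_k over k, and U ⊆ X an open subset with finite complement. For i = 1, 2 let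
Y_i be a k-scheme and φ_i : Y_i → X a k-morphism, Y_i an integral scheme of dimension two with all
local rings regular, itself admitting a closed immersion into some projective space over k,
restricting to an isomorphism over U; let μ_{i,1}, …, μ_{i,s_i} be distinct integral one-dimensional
closed subschemes of Y_i, each mapped to a single point of X, such that every integral
one-dimensional closed subscheme of Y_i mapped to a point has the support of one of them; let d_i be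
the matrix of intersection numbers (μ_{i,a} · μ_{i,b}) on Y_i (given as a rational matrix together
with its defining equations), assumed negative definite, and e_i a matrix with e_i · (-d_i) = 1 (so
e_i = (-d_i)⁻¹). For curves A, B on Y_i write (A · B) = χ(O) - χ(I_A) - χ(I_B) + χ(I_A ⊗ I_B), I_A,
I_B the ideal sheaves (packaged as FGA.intNum). Let P, Q ⊆ X be integral one-dimensional closed
subschemes and P_i, Q_i ⊆ Y_i integral one-dimensional closed subschemes mapped by φ_i onto P and Q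
(their strict transforms). With the vectors (P_i · μ_i) = ((P_i · μ_{i,b}))_b and (Q_i · μ_i)
likewise given with their defining equations, the rational number (P_i · Q_i) + (P_i · μ_i)ᵀ e_i
(Q_i · μ_i), i.e. the intersection number P_i^* · Q_i^* of the total transforms P_i^* = P_i + Σ_b
γ_b μ_{i,b} with rational coefficients γ = (-d_i)⁻¹ (P_i · μ_i), is the same for i = 1 and i = 2:
the rational-valued pairing of Weil divisors on X defined through a resolution does not depend on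
the resolution. (The published statement compares two resolutions that are isomorphisms exactly off
the singular points with exceptional fibres of pure dimension one; this row allows any two
resolutions that are isomorphisms over a common open subset with finite complement. Negative
definiteness of the exceptional intersection matrices is carried here as a hypothesis.) -/
theorem result (k : Type u) [Field k] [IsAlgClosed k] (X : Scheme.{u}) [X.Over (Spec (CommRingCat.of k))]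
    [IsIntegral X] (hdim : topologicalKrullDim X = 2)
    (hproj : ∃ (n : ℕ) (ι : X ⟶ CohB1.ProjSpace n k), IsClosedImmersion ι ∧ ι ≫ CohB1.ProjSpace.toSpec n k = (X ↘ (Spec (CommRingCat.of k))))
    (U : X.Opens) (hU : ((U : Set X)ᶜ).Finite)
    (P Q : X.IdealSheafData) (hPint : IsIntegral P.subscheme) (hQint : IsIntegral Q.subscheme)
    (hPdim : topologicalKrullDim (P.support : Set X) = 1) (hQdim : topologicalKrullDim (Q.support : Set X) = 1)
    (Y1 : Scheme.{u}) [Y1.Over (Spec (CommRingCat.of k))] (φ1 : Y1 ⟶ X) (hφ1 : φ1 ≫ (X ↘ (Spec (CommRingCat.of k))) = Y1 ↘ (Spec (CommRingCat.of k)))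
    [IsIntegral Y1] (hdim1 : topologicalKrullDim Y1 = 2)
    (hreg1 : ∀ y : Y1, IsRegularLocalRing (Y1.presheaf.stalk y))
    (hproj1 : ∃ (n : ℕ) (ι : Y1 ⟶ CohB1.ProjSpace n k), IsClosedImmersion ι ∧ ι ≫ CohB1.ProjSpace.toSpec n k = Y1 ↘ (Spec (CommRingCat.of k)))
    (hiso1 : IsIso (φ1 ∣_ U))
    (s1 : ℕ) (μ1 : Fin s1 → Y1.IdealSheafData) (hμ1int : ∀ j, IsIntegral (μ1 j).subscheme)
    (hμ1dim : ∀ j, topologicalKrullDim ((μ1 j).support : Set Y1) = 1)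
    (hμ1pt : ∀ j, ∃ x : X, φ1.base '' ((μ1 j).support : Set Y1) = {x})
    (hμ1inj : Function.Injective fun j => ((μ1 j).support : Set Y1))
    (hμ1all : ∀ E : Y1.IdealSheafData, IsIntegral E.subscheme → topologicalKrullDim (E.support : Set Y1) = 1 →
      (∃ x : X, φ1.base '' (E.support : Set Y1) = {x}) → ∃ j, (E.support : Set Y1) = (μ1 j).support)
    (P1 Q1 : Y1.IdealSheafData) (hP1int : IsIntegral P1.subscheme) (hQ1int : IsIntegral Q1.subscheme)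
    (hP1dim : topologicalKrullDim (P1.support : Set Y1) = 1) (hQ1dim : topologicalKrullDim (Q1.support : Set Y1) = 1)
    (hP1 : φ1.base '' (P1.support : Set Y1) = P.support) (hQ1 : φ1.base '' (Q1.support : Set Y1) = Q.support)
    (d1 : Matrix (Fin s1) (Fin s1) ℚ)
    (hd1 : ∀ a b, d1 a b = (FGA.intNum k Y1 2 ![ClSub.idealMod (μ1 a), ClSub.idealMod (μ1 b)] (Coh.structureModule Y1) : ℚ))
    (hd1neg : ∀ w : Fin s1 → ℚ, w ≠ 0 → w ⬝ᵥ (d1 *ᵥ w) < 0)
    (e1 : Matrix (Fin s1) (Fin s1) ℚ) (he1 : e1 * (-d1) = 1)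
    (vP1 vQ1 : Fin s1 → ℚ)
    (hvP1 : ∀ b, vP1 b = (FGA.intNum k Y1 2 ![ClSub.idealMod P1, ClSub.idealMod (μ1 b)] (Coh.structureModule Y1) : ℚ))
    (hvQ1 : ∀ b, vQ1 b = (FGA.intNum k Y1 2 ![ClSub.idealMod Q1, ClSub.idealMod (μ1 b)] (Coh.structureModule Y1) : ℚ))
    (Y2 : Scheme.{u}) [Y2.Over (Spec (CommRingCat.of k))] (φ2 : Y2 ⟶ X) (hφ2 : φ2 ≫ (X ↘ (Spec (CommRingCat.of k))) = Y2 ↘ (Spec (CommRingCat.of k)))
    [IsIntegral Y2] (hdim2 : topologicalKrullDim Y2 = 2)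
    (hreg2 : ∀ y : Y2, IsRegularLocalRing (Y2.presheaf.stalk y))
    (hproj2 : ∃ (n : ℕ) (ι : Y2 ⟶ CohB1.ProjSpace n k), IsClosedImmersion ι ∧ ι ≫ CohB1.ProjSpace.toSpec n k = Y2 ↘ (Spec (CommRingCat.of k)))
    (hiso2 : IsIso (φ2 ∣_ U))
    (s2 : ℕ) (μ2 : Fin s2 → Y2.IdealSheafData) (hμ2int : ∀ j, IsIntegral (μ2 j).subscheme)
    (hμ2dim : ∀ j, topologicalKrullDim ((μ2 j).support : Set Y2) = 1)
    (hμ2pt : ∀ j, ∃ x : X, φ2.base '' ((μ2 j).support : Set Y2) = {x})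
    (hμ2inj : Function.Injective fun j => ((μ2 j).support : Set Y2))
    (hμ2all : ∀ E : Y2.IdealSheafData, IsIntegral E.subscheme → topologicalKrullDim (E.support : Set Y2) = 1 →
      (∃ x : X, φ2.base '' (E.support : Set Y2) = {x}) → ∃ j, (E.support : Set Y2) = (μ2 j).support)
    (P2 Q2 : Y2.IdealSheafData) (hP2int : IsIntegral P2.subscheme) (hQ2int : IsIntegral Q2.subscheme)
    (hP2dim : topologicalKrullDim (P2.support : Set Y2) = 1) (hQ2dim : topologicalKrullDim (Q2.support : Set Y2) = 1)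
    (hP2 : φ2.base '' (P2.support : Set Y2) = P.support) (hQ2 : φ2.base '' (Q2.support : Set Y2) = Q.support)
    (d2 : Matrix (Fin s2) (Fin s2) ℚ)
    (hd2 : ∀ a b, d2 a b = (FGA.intNum k Y2 2 ![ClSub.idealMod (μ2 a), ClSub.idealMod (μ2 b)] (Coh.structureModule Y2) : ℚ))
    (hd2neg : ∀ w : Fin s2 → ℚ, w ≠ 0 → w ⬝ᵥ (d2 *ᵥ w) < 0)
    (e2 : Matrix (Fin s2) (Fin s2) ℚ) (he2 : e2 * (-d2) = 1)
    (vP2 vQ2 : Fin s2 → ℚ)
    (hvP2 : ∀ b, vP2 b = (FGA.intNum k Y2 2 ![ClSub.idealMod P2, ClSub.idealMod (μ2 b)] (Coh.structureModule Y2) : ℚ))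
    (hvQ2 : ∀ b, vQ2 b = (FGA.intNum k Y2 2 ![ClSub.idealMod Q2, ClSub.idealMod (μ2 b)] (Coh.structureModule Y2) : ℚ)) :
    (FGA.intNum k Y1 2 ![ClSub.idealMod P1, ClSub.idealMod Q1] (Coh.structureModule Y1) : ℚ) + vP1 ⬝ᵥ (e1 *ᵥ vQ1) =
      (FGA.intNum k Y2 2 ![ClSub.idealMod P2, ClSub.idealMod Q2] (Coh.structureModule Y2) : ℚ) + vP2 ⬝ᵥ (e2 *ᵥ vQ2) := by
  obtain ⟨n0, ι0, hι0, hιk0⟩ := hproj
  have hPX := (K465.ProjH.facts k X ι0 hιk0).1
  obtain ⟨n1, ι1, hι1, hιk1⟩ := id hproj1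
  have hPY1 := (K465.ProjH.facts k Y1 ι1 hιk1).1
  obtain ⟨n2, ι2, hι2, hιk2⟩ := id hproj2
  have hPY2 := (K465.ProjH.facts k Y2 ι2 hιk2).1
  have hNX : IsNoetherian X := Groth.Agent.Fga.IntAdd.isNoetherian k X
  have hNY1 : IsNoetherian Y1 := Groth.Agent.Fga.IntAdd.isNoetherian k Y1
  have hNY2 : IsNoetherian Y2 := Groth.Agent.Fga.IntAdd.isNoetherian k Y2
  have hcl : ∀ x ∉ U, IsClosed ({x} : Set X) := fun x hx =>
    K457.PicFin.isClosed_singleton_of_finite k U.2.isClosed_compl hU x hx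
  have hUne : (U : Set X).Nonempty := by
    by_contra hne
    rw [Set.not_nonempty_iff_eq_empty] at hne
    rw [hne, Set.compl_empty] at hU
    have h1 := K457.PicFin.dim_le_zero_of_finite k (X := X) isClosed_univ hU
    rw [IsHomeomorph.topologicalKrullDim_eq _ (Homeomorph.Set.univ X).isHomeomorph, hdim] at h1
    exact absurd h1 (by decide)
  have hP : K464.Curves.IsCurve P := ⟨hPint, hPdim⟩
  have hQ : K464.Curves.IsCurve Q := ⟨hQint, hQdim⟩
  -- side one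
  have hC1 : ∀ j, K464.Curves.IsCurve (μ1 j) := fun j => ⟨hμ1int j, hμ1dim j⟩
  have hE1 : ∀ j, BlowUp.IsEffCartierIdeal (μ1 j) := fun j =>
    K464.Curves.isEff_of_isCurve k (Y1 ↘ Spec (CommRingCat.of k)) hdim1 hreg1 (hC1 j)
  have hinj1 : Function.Injective μ1 := fun i j h => hμ1inj (by simp only [h])
  have hPC1 : K464.Curves.IsCurve P1 := ⟨hP1int, hP1dim⟩
  have hQC1 : K464.Curves.IsCurve Q1 := ⟨hQ1int, hQ1dim⟩
  have hPE1 := K464.Curves.isEff_of_isCurve k (Y1 ↘ Spec (CommRingCat.of k)) hdim1 hreg1 hPC1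
  have hQE1 := K464.Curves.isEff_of_isCurve k (Y1 ↘ Spec (CommRingCat.of k)) hdim1 hreg1 hQC1
  have hG1 : ∀ a b, d1 a b = (K464.DivLat.gram k hE1 a b : ℚ) := fun a b => by
    rw [hd1, K464.DivLat.gram_eq_intNum k hE1 hdim1.le]
  have hneg1 := K457.Mumford.isNegDef_of_rat d1 _ hG1 hd1neg
  obtain ⟨N1, s1', hN1, hs1⟩ := K457.Mumford.exists_tot k hC1 hE1 hinj1 hneg1 hPC1 hPE1
    (fun i => K457.ResSide.ne_of_image φ1 hPdim hP1 (hμ1pt i))
  obtain ⟨M1, t1, hM1, ht1⟩ := K457.Mumford.exists_tot k hC1 hE1 hinj1 hneg1 hQC1 hQE1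
    (fun i => K457.ResSide.ne_of_image φ1 hQdim hQ1 (hμ1pt i))
  -- side two
  have hC2 : ∀ j, K464.Curves.IsCurve (μ2 j) := fun j => ⟨hμ2int j, hμ2dim j⟩
  have hE2 : ∀ j, BlowUp.IsEffCartierIdeal (μ2 j) := fun j =>
    K464.Curves.isEff_of_isCurve k (Y2 ↘ Spec (CommRingCat.of k)) hdim2 hreg2 (hC2 j)
  have hinj2 : Function.Injective μ2 := fun i j h => hμ2inj (by simp only [h])
  have hPC2 : K464.Curves.IsCurve P2 := ⟨hP2int, hP2dim⟩
  have hQC2 : K464.Curves.IsCurve Q2 := ⟨hQ2int, hQ2dim⟩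
  have hPE2 := K464.Curves.isEff_of_isCurve k (Y2 ↘ Spec (CommRingCat.of k)) hdim2 hreg2 hPC2
  have hQE2 := K464.Curves.isEff_of_isCurve k (Y2 ↘ Spec (CommRingCat.of k)) hdim2 hreg2 hQC2
  have hG2 : ∀ a b, d2 a b = (K464.DivLat.gram k hE2 a b : ℚ) := fun a b => by
    rw [hd2, K464.DivLat.gram_eq_intNum k hE2 hdim2.le]
  have hneg2 := K457.Mumford.isNegDef_of_rat d2 _ hG2 hd2neg
  obtain ⟨N2, s2', hN2, hs2⟩ := K457.Mumford.exists_tot k hC2 hE2 hinj2 hneg2 hPC2 hPE2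
    (fun i => K457.ResSide.ne_of_image φ2 hPdim hP2 (hμ2pt i))
  obtain ⟨M2, t2, hM2, ht2⟩ := K457.Mumford.exists_tot k hC2 hE2 hinj2 hneg2 hQC2 hQE2
    (fun i => K457.ResSide.ne_of_image φ2 hQdim hQ2 (hμ2pt i))
  -- a common domination
  have hp1 : IsProper (φ1 ≫ (X ↘ Spec (CommRingCat.of k))) := by rw [hφ1]; infer_instance
  obtain ⟨Z, g1, g2, hcomp, hZi, hZP, hZd, hZr, V, hV, hVU, hVi⟩ :=
    K457.Dom.exists_dom k (X ↘ Spec (CommRingCat.of k)) φ1 φ2 hdim1 hreg1 (by rw [hφ2]; exact hproj2) U hUne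
  let : Z.Over (Spec (CommRingCat.of k)) := ⟨g1 ≫ φ1 ≫ (X ↘ Spec (CommRingCat.of k))⟩
  have hPZ : IsProper (Z ↘ Spec (CommRingCat.of k)) := hZP
  have hg1 : g1 ≫ (Y1 ↘ Spec (CommRingCat.of k)) = Z ↘ Spec (CommRingCat.of k) := by
    rw [← hφ1]
    rfl
  have hg2 : g2 ≫ (Y2 ↘ Spec (CommRingCat.of k)) = Z ↘ Spec (CommRingCat.of k) := by
    rw [← hφ2, ← Category.assoc, ← hcomp, Category.assoc]
    rfl
  have hV1 : IsIso (φ1 ∣_ V) := K457.Dom.isIso_restrict_of_le φ1 hVU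
  have hV2 : IsIso (φ2 ∣_ V) := K457.Dom.isIso_restrict_of_le φ2 hVU
  have hV1' : IsIso (g1 ∣_ (φ1 ⁻¹ᵁ V)) := by
    rw [morphismRestrict_comp] at hVi
    exact @IsIso.of_isIso_comp_right _ _ _ _ _ (g1 ∣_ (φ1 ⁻¹ᵁ V)) (φ1 ∣_ V) hV1 hVi
  have hV2' : IsIso (g2 ∣_ (φ2 ⁻¹ᵁ V)) := by
    rw [hcomp, morphismRestrict_comp] at hVi
    exact @IsIso.of_isIso_comp_right _ _ _ _ _ (g2 ∣_ (φ2 ⁻¹ᵁ V)) (φ2 ∣_ V) hV2 hVi
  obtain ⟨v, hv⟩ := hV
  have hV1n : ((φ1 ⁻¹ᵁ V : Y1.Opens) : Set Y1).Nonempty :=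
    ⟨((inv (φ1 ∣_ V)) ⟨v, hv⟩).1, ((inv (φ1 ∣_ V)) ⟨v, hv⟩).2⟩
  have hV2n : ((φ2 ⁻¹ᵁ V : Y2.Opens) : Set Y2).Nonempty :=
    ⟨((inv (φ2 ∣_ V)) ⟨v, hv⟩).1, ((inv (φ2 ∣_ V)) ⟨v, hv⟩).2⟩
  have hgV1 : genericPoint Y1 ∈ φ1 ⁻¹ᵁ V :=
    ((genericPoint_spec Y1).mem_open_set_iff (φ1 ⁻¹ᵁ V).isOpen).mpr (by simpa using hV1n)
  have hgV2 : genericPoint Y2 ∈ φ2 ⁻¹ᵁ V :=
    ((genericPoint_spec Y2).mem_open_set_iff (φ2 ⁻¹ᵁ V).isOpen).mpr (by simpa using hV2n)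
  have hgen1 := Groth.Agent.Vancyc.H175.DimBir.map_genericPoint g1 (φ1 ⁻¹ᵁ V) hgV1
  have hgen2 := Groth.Agent.Vancyc.H175.DimBir.map_genericPoint g2 (φ2 ⁻¹ᵁ V) hgV2
  -- degrees on contracted curves
  have hdeg1 : ∀ {R : Y1.IdealSheafData} (hRE : BlowUp.IsEffCartierIdeal R) (N : ℕ) (s : Fin s1 → ℕ)
      (_ : K457.Mumford.IsTot k hE1 hRE N s) (C : Z.IdealSheafData) (hC : K464.Curves.IsCurve C),
      φ1 (g1 (K464.Curves.gp hC)) ∉ U → K464.Curves.degOn k Z C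
        (Groth.Agent.Grpsch.PicGrp.pull g1 (K457.Mumford.tot hE1 hRE N s)) = 0 := by
    intro R hRE N s hs C hC hCU
    refine K457.Strict.degOn_contracted k φ1 g1 hg1 hdim1 (T := (U : Set X)ᶜ) ?_ _ ?_ hC hCU
    · exact fun h => h (hVU hgV1)
    · intro D hD hDU
      obtain ⟨j, rfl⟩ := K457.ResSide.exists_eq φ1 U hC1 hμ1all hcl hD hDU
      exact K457.Mumford.degOn_tot k hdim1.le hE1 hRE hs j
  have hdeg2 : ∀ {R : Y2.IdealSheafData} (hRE : BlowUp.IsEffCartierIdeal R) (N : ℕ) (s : Fin s2 → ℕ)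
      (_ : K457.Mumford.IsTot k hE2 hRE N s) (C : Z.IdealSheafData) (hC : K464.Curves.IsCurve C),
      φ2 (g2 (K464.Curves.gp hC)) ∉ U → K464.Curves.degOn k Z C
        (Groth.Agent.Grpsch.PicGrp.pull g2 (K457.Mumford.tot hE2 hRE N s)) = 0 := by
    intro R hRE N s hs C hC hCU
    refine K457.Strict.degOn_contracted k φ2 g2 hg2 hdim2 (T := (U : Set X)ᶜ) ?_ _ ?_ hC hCU
    · exact fun h => h (hVU hgV2)
    · intro D hD hDU
      obtain ⟨j, rfl⟩ := K457.ResSide.exists_eq φ2 U hC2 hμ2all hcl hD hDU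
      exact K457.Mumford.degOn_tot k hdim2.le hE2 hRE hs j
  have hsame : ∀ z : Z, φ2 (g2 z) = φ1 (g1 z) := fun z => by
    rw [← Scheme.Hom.comp_apply, ← hcomp, Scheme.Hom.comp_apply]
  -- comparison of the total transforms
  have key : ∀ (R : X.IdealSheafData) (_ : K464.Curves.IsCurve R) (R1 : Y1.IdealSheafData)
      (_ : K464.Curves.IsCurve R1) (hRE1 : BlowUp.IsEffCartierIdeal R1) (_ : φ1 '' (R1.support : Set Y1) = R.support)
      (R2 : Y2.IdealSheafData) (_ : K464.Curves.IsCurve R2) (hRE2 : BlowUp.IsEffCartierIdeal R2)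
      (_ : φ2 '' (R2.support : Set Y2) = R.support) (a1 a2 : ℕ) (b1 : Fin s1 → ℕ) (b2 : Fin s2 → ℕ)
      (m : Groth.Agent.Grpsch.PicGrp.Pic Z)
      (_ : ∀ (C : Z.IdealSheafData) (hC : K464.Curves.IsCurve C), φ1 (g1 (K464.Curves.gp hC)) ∉ U →
        K464.Curves.degOn k Z C m = 0),
      K464.Base.dot k Z (Groth.Agent.Grpsch.PicGrp.pull g1 (K457.Mumford.tot hE1 hRE1 a1 b1) ^ a2) m =
        K464.Base.dot k Z (Groth.Agent.Grpsch.PicGrp.pull g2 (K457.Mumford.tot hE2 hRE2 a2 b2) ^ a1) m := by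
    intro R hR R1 hR1 hRE1 hRi1 R2 hR2 hRE2 hRi2 a1 a2 b1 b2 m hm
    refine K457.ResSide.dot_agree k hZd hZr g1 g2 (K457.Mumford.isEff_tot hE1 hRE1 a1 b1)
      (K457.Mumford.isEff_tot hE2 hRE2 a2 b2)
      (K457.ResSide.isEff_comap g1 hgen1 (K457.Mumford.isEff_tot hE1 hRE1 a1 b1))
      (K457.ResSide.isEff_comap g2 hgen2 (K457.Mumford.isEff_tot hE2 hRE2 a2 b2))
      {z | φ1 (g1 z) ∈ U} (R.comap (g1 ≫ φ1)) a1 a2 ?_ ?_ m ?_
    · intro z hz
      exact K457.ResSide.stalkIdeal_tot φ1 U g1 hC1 hμ1pt hR hR1 hRi1 a1 b1 z hz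
    · intro z hz
      rw [hcomp]
      exact K457.ResSide.stalkIdeal_tot φ2 U g2 hC2 hμ2pt hR hR2 hRi2 a2 b2 z (by rw [hsame]; exact hz)
    · intro C hC hW
      exact hm C hC hW
  -- the main computation
  have hpow : ∀ (c : Groth.Agent.Grpsch.PicGrp.Pic Z) (n : ℕ) (C : Z.IdealSheafData) (_ : K464.Curves.IsCurve C),
      K464.Curves.degOn k Z C c = 0 → K464.Curves.degOn k Z C (c ^ n) = 0 := by
    intro c n C hC h
    rw [K464.Curves.degOn_pow k hC, h, mul_zero]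
  have hvP1' : ∀ b, vP1 b = (K464.Base.dot k Y1 (K464.Base.ic P1 hPE1) (K464.Base.ic (μ1 b) (hE1 b)) : ℚ) := fun b => by
    rw [hvP1, K464.Base.intNum_eq_dot k Y1 hdim1.le (Groth.Agent.Dix.IdealModCartier.isInvertible_idealMod hPE1)
      (Groth.Agent.Dix.IdealModCartier.isInvertible_idealMod (hE1 b))]
    rfl
  have hvQ1' : ∀ b, vQ1 b = (K464.Base.dot k Y1 (K464.Base.ic Q1 hQE1) (K464.Base.ic (μ1 b) (hE1 b)) : ℚ) := fun b => by
    rw [hvQ1, K464.Base.intNum_eq_dot k Y1 hdim1.le (Groth.Agent.Dix.IdealModCartier.isInvertible_idealMod hQE1)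
      (Groth.Agent.Dix.IdealModCartier.isInvertible_idealMod (hE1 b))]
    rfl
  have hvP2' : ∀ b, vP2 b = (K464.Base.dot k Y2 (K464.Base.ic P2 hPE2) (K464.Base.ic (μ2 b) (hE2 b)) : ℚ) := fun b => by
    rw [hvP2, K464.Base.intNum_eq_dot k Y2 hdim2.le (Groth.Agent.Dix.IdealModCartier.isInvertible_idealMod hPE2)
      (Groth.Agent.Dix.IdealModCartier.isInvertible_idealMod (hE2 b))]
    rfl
  have hvQ2' : ∀ b, vQ2 b = (K464.Base.dot k Y2 (K464.Base.ic Q2 hQE2) (K464.Base.ic (μ2 b) (hE2 b)) : ℚ) := fun b => by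
    rw [hvQ2, K464.Base.intNum_eq_dot k Y2 hdim2.le (Groth.Agent.Dix.IdealModCartier.isInvertible_idealMod hQE2)
      (Groth.Agent.Dix.IdealModCartier.isInvertible_idealMod (hE2 b))]
    rfl
  have f1 := K457.Mumford.dot_tot_tot k hdim1.le hE1 hPE1 hQE1 hs1 ht1 d1 e1 hG1 he1 vP1 vQ1 hvP1' hvQ1'
  have f2 := K457.Mumford.dot_tot_tot k hdim2.le hE2 hPE2 hQE2 hs2 ht2 d2 e2 hG2 he2 vP2 vQ2 hvP2' hvQ2'
  have i1 : FGA.intNum k Y1 2 ![ClSub.idealMod P1, ClSub.idealMod Q1] (Coh.structureModule Y1) =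
      K464.Base.dot k Y1 (K464.Base.ic P1 hPE1) (K464.Base.ic Q1 hQE1) :=
    K464.Base.intNum_eq_dot k Y1 hdim1.le (Groth.Agent.Dix.IdealModCartier.isInvertible_idealMod hPE1)
      (Groth.Agent.Dix.IdealModCartier.isInvertible_idealMod hQE1)
  have i2 : FGA.intNum k Y2 2 ![ClSub.idealMod P2, ClSub.idealMod Q2] (Coh.structureModule Y2) =
      K464.Base.dot k Y2 (K464.Base.ic P2 hPE2) (K464.Base.ic Q2 hQE2) :=
    K464.Base.intNum_eq_dot k Y2 hdim2.le (Groth.Agent.Dix.IdealModCartier.isInvertible_idealMod hPE2)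
      (Groth.Agent.Dix.IdealModCartier.isInvertible_idealMod hQE2)
  rw [i1, i2]
  have c1 := key P hP P1 hPC1 hPE1 hP1 P2 hPC2 hPE2 hP2 N1 N2 s1' s2'
    (Groth.Agent.Grpsch.PicGrp.pull g1 (K457.Mumford.tot hE1 hQE1 M1 t1) ^ M2)
    (fun C hC h => hpow _ _ C hC (hdeg1 hQE1 M1 t1 ht1 C hC h))
  have c2 := key Q hQ Q1 hQC1 hQE1 hQ1 Q2 hQC2 hQE2 hQ2 M1 M2 t1 t2
    (Groth.Agent.Grpsch.PicGrp.pull g2 (K457.Mumford.tot hE2 hPE2 N2 s2') ^ N1) (fun C hC h => hpow _ _ C hC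
      (hdeg2 hPE2 N2 s2' hs2 C hC (by rw [hsame]; exact h)))
  have j1 := K457.ResSide.dot_pull k g1 hg1 hdim1 hZd _ hV1n (K457.Mumford.tot hE1 hPE1 N1 s1')
    (K457.Mumford.tot hE1 hQE1 M1 t1)
  have j2 := K457.ResSide.dot_pull k g2 hg2 hdim2 hZd _ hV2n (K457.Mumford.tot hE2 hPE2 N2 s2')
    (K457.Mumford.tot hE2 hQE2 M2 t2)
  generalize K457.Mumford.tot hE1 hPE1 N1 s1' = p1 at *
  generalize K457.Mumford.tot hE1 hQE1 M1 t1 = q1 at *
  generalize K457.Mumford.tot hE2 hPE2 N2 s2' = p2 at *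
  generalize K457.Mumford.tot hE2 hQE2 M2 t2 = q2 at *
  generalize Groth.Agent.Grpsch.PicGrp.pull g1 p1 = p1' at *
  generalize Groth.Agent.Grpsch.PicGrp.pull g1 q1 = q1' at *
  generalize Groth.Agent.Grpsch.PicGrp.pull g2 p2 = p2' at *
  generalize Groth.Agent.Grpsch.PicGrp.pull g2 q2 = q2' at *
  have c3 : K464.Base.dot k Z (p1' ^ N2) (q1' ^ M2) = K464.Base.dot k Z (p2' ^ N1) (q2' ^ M1) := by
    rw [c1, K464.Base.dot_comm, c2, K464.Base.dot_comm]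
  rw [K464.Base.dot_pow_left k Z hZd.le, K464.Base.dot_pow_left k Z hZd.le,
    K464.Base.dot_pow_right k Z hZd.le, K464.Base.dot_pow_right k Z hZd.le, j1, j2] at c3
  have c4 : (N2 : ℚ) * (M2 * (K464.Base.dot k Y1 p1 q1 : ℚ)) = N1 * (M1 * (K464.Base.dot k Y2 p2 q2 : ℚ)) := by
    exact_mod_cast c3
  rw [f1, f2] at c4
  have hpos : (0 : ℚ) < N1 * M1 * N2 * M2 := by positivity
  have c5 : (N1 * M1 * N2 * M2 : ℚ) * ((K464.Base.dot k Y1 (K464.Base.ic P1 hPE1) (K464.Base.ic Q1 hQE1) : ℚ) +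
      vP1 ⬝ᵥ (e1 *ᵥ vQ1)) = (N1 * M1 * N2 * M2 : ℚ) *
        ((K464.Base.dot k Y2 (K464.Base.ic P2 hPE2) (K464.Base.ic Q2 hQE2) : ℚ) + vP2 ⬝ᵥ (e2 *ᵥ vQ2)) := by
    linarith
  exact mul_left_cancel₀ hpos.ne' c5

end Groth.Agent.S14699
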