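import Groth.Statements.S14700
import Groth.Agent.Surf.K457.InfProd
import Groth.Agent.Surf.K457.Tree
import Groth.Agent.Surf.K457.Coh1
import Groth.Agent.Surf.K465.ProjH
import Groth.Agent.VarietyA.CurveFin

set_option autoImplicit false
universe u
open CategoryTheory CategoryTheory.Limits AlgebraicGeometry
open Surf

namespace Groth.Agent.S14700

/-- Let k be an algebraically closed field and X an integral scheme of dimension two with all local
rings regular, admitting a closed immersion into some P^n_k over k. Let C_1, …, C_n be pairwise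
distinct integral one-dimensional closed subschemes of X with ideal sheaves I_1, …, I_n, and let Y
be the reduced closed subscheme with ideal I_1 ∩ ⋯ ∩ I_n (their union); assume Y is connected. Then
χ(O_Y) ≤ 1, i.e. the arithmetic genus 1 - χ(O_Y) of Y is nonnegative. If moreover χ(O_Y) = 1, then
χ(O_{C_i}) = 1 for every i (each C_i has arithmetic genus zero) and Σ_{i<j} (C_i · C_j) = n - 1, so
that the incidence graph of the C_i, which is connected with Σ_{i<j} (C_i · C_j) edges, contains no
cycle; here (C_i · C_j) = χ(O_X) - χ(I_i) - χ(I_j) + χ(I_i ⊗ I_j) is the intersection number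
(packaged as FGA.intNum). (The published statement allows any integral projective surface regular in
codimension one; this row takes X with all local rings regular, where the intersection numbers used
by the proof are defined.) -/
theorem result (k : Type u) [Field k] [IsAlgClosed k] (X : Scheme.{u}) [X.Over (Spec (CommRingCat.of k))]
    [IsIntegral X] (hdim : topologicalKrullDim X = 2)
    (hproj : ∃ (n : ℕ) (ι : X ⟶ CohB1.ProjSpace n k), IsClosedImmersion ι ∧ ι ≫ CohB1.ProjSpace.toSpec n k = (X ↘ (Spec (CommRingCat.of k))))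
    (hreg : ∀ x : X, IsRegularLocalRing (X.presheaf.stalk x))
    (n : ℕ) (C : Fin n → X.IdealSheafData) (hCint : ∀ i, IsIntegral (C i).subscheme)
    (hCdim : ∀ i, topologicalKrullDim ((C i).support : Set X) = 1)
    (hCinj : Function.Injective fun i => ((C i).support : Set X))
    (hconn : _root_.IsConnected ((⨅ i, C i).support : Set X)) :
    Curv2.euler k X (ClSub.quotMod (⨅ i, C i)) ≤ 1 ∧
      (Curv2.euler k X (ClSub.quotMod (⨅ i, C i)) = 1 →
        (∀ i, Curv2.euler k X (ClSub.quotMod (C i)) = 1) ∧
          (∑ i : Fin n, ∑ j : Fin n,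
              if i < j then FGA.intNum k X 2 ![ClSub.idealMod (C i), ClSub.idealMod (C j)] (Coh.structureModule X) else 0) =
            (n : ℤ) - 1) := by
  obtain ⟨N, ι, hι, hιk⟩ := hproj
  have hPX := (K465.ProjH.facts k X ι hιk).1
  have hNX : IsNoetherian X := Groth.Agent.Fga.IntAdd.isNoetherian k X
  have hd : topologicalKrullDim X ≤ (2 : ℕ) := by
    rw [hdim]
    rfl
  have hC : ∀ i, K464.Curves.IsCurve (C i) := fun i => ⟨hCint i, hCdim i⟩
  have hE : ∀ i, BlowUp.IsEffCartierIdeal (C i) := fun i =>
    K464.Curves.isEff_of_isCurve k (X ↘ Spec (CommRingCat.of k)) hdim hreg (hC i)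
  have hinj : Function.Injective C := fun i j h => hCinj (by simp only [h])
  have hprod := K457.InfProd.iInf_eq_prod C hC hE hinj
  have hsupp : ((⨅ i, C i).support : Set X) = ⋃ i, ((C i).support : Set X) := by
    refine le_antisymm ?_ ?_
    · rw [hprod]
      have h1 := K464.DivLat.support_cyc_subset (C := C) (fun _ => 1)
      unfold K464.DivLat.cyc at h1
      simpa only [pow_one] using h1
    · refine Set.iUnion_subset fun i => ?_
      exact Scheme.IdealSheafData.support_antitone (iInf_le C i)
  -- the graph inequality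
  have htree := K457.Tree.le_sum (fun i => ((C i).support : Set X)) (fun i => (C i).support.isClosed)
    (fun i => ⟨_, K464.Curves.gp_mem (hC i)⟩) (by rw [← hsupp]; exact hconn)
    (fun i j => K464.Base.dot k X (K464.Base.ic (C i) (hE i)) (K464.Base.ic (C j) (hE j)))
    (fun i j hij => K464.Curves.dot_ic_ic_nonneg k (hC i) (hE i) (hE j)
      (K464.Curves.gp_notMem (hC i) (hC j) (fun h => hij (hinj h))))
    (fun i j hij hm => K464.Curves.dot_ic_ic_pos k (hC i) (hE i) (hE j)
      (K464.Curves.gp_notMem (hC i) (hC j) (fun h => hij (hinj h))) hm)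
  -- Euler characteristics
  have hχ := K457.InfProd.chi_prod (k := k) hd (fun i => K464.Base.ic (C i) (hE i))
  rw [← K464.Base.ic_prod Finset.univ C hE, ← K464.Base.euler_quotMod_eq k X (K464.Base.isEff_prod Finset.univ C hE),
    ← hprod] at hχ
  have hle : ∀ i, K464.Base.chi k X 1 - K464.Base.chi k X (K464.Base.ic (C i) (hE i)) ≤ 1 := by
    intro i
    rw [← K464.Base.euler_quotMod_eq k X (hE i), K464.Curves.euler_quotMod_sub]
    letI := K464.Curves.overC k X (C i)
    have := (hC i).integral
    have hP : IsProper ((C i).subscheme ↘ Spec (CommRingCat.of k)) := K464.Curves.isProper_sub k X (C i)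
    have hN : IsNoetherian (C i).subscheme := Groth.Agent.Fga.IntAdd.isNoetherian k (C i).subscheme
    have hdc : topologicalKrullDim (C i).subscheme ≤ (1 : ℕ) := by
      rw [K464.Curves.dim_sub, (hC i).dim]
      rfl
    have hdc2 : topologicalKrullDim (C i).subscheme ≤ (2 : ℕ) :=
      hdc.trans (by exact_mod_cast (by norm_num : (1 : ℕ) ≤ 2))
    rw [← Groth.Agent.Fga.EulerLEAdd.eulerCharLE_eq_euler k (C i).subscheme 2 hdc2,
      K457.Coh1.eulerLE_curve k hdc (Groth.Agent.CurvesC.UnitCoh.isCoh_unit _),
      Groth.Agent.VarietyA.CurveFin.finrank_h0_structure k (C i).subscheme]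
    push_cast
    linarith [Int.natCast_nonneg (Module.finrank k (Coh.HH (C i).subscheme (Coh.structureModule (C i).subscheme) 1))]
  have hsumle : ∑ i, (K464.Base.chi k X 1 - K464.Base.chi k X (K464.Base.ic (C i) (hE i))) ≤ (n : ℤ) := by
    refine (Finset.sum_le_sum fun i _ => hle i).trans ?_
    simp
  have hint : ∀ i j, FGA.intNum k X 2 ![ClSub.idealMod (C i), ClSub.idealMod (C j)] (Coh.structureModule X) =
      K464.Base.dot k X (K464.Base.ic (C i) (hE i)) (K464.Base.ic (C j) (hE j)) := fun i j =>
    K464.Base.intNum_eq_dot k X hd (Groth.Agent.Dix.IdealModCartier.isInvertible_idealMod (hE i))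
      (Groth.Agent.Dix.IdealModCartier.isInvertible_idealMod (hE j))
  simp_rw [hint]
  refine ⟨by linarith, fun h1 => ?_⟩
  rw [h1] at hχ
  have hsum : ∑ i, (K464.Base.chi k X 1 - K464.Base.chi k X (K464.Base.ic (C i) (hE i))) = (n : ℤ) :=
    le_antisymm hsumle (by linarith)
  refine ⟨fun i => ?_, by linarith⟩
  rw [K464.Base.euler_quotMod_eq k X (hE i)]
  have h2 : ∑ i : Fin n, (1 - (K464.Base.chi k X 1 - K464.Base.chi k X (K464.Base.ic (C i) (hE i)))) = 0 := by
    rw [Finset.sum_sub_distrib, hsum]
    simp
  have h3 := (Finset.sum_eq_zero_iff_of_nonneg (fun i _ => sub_nonneg.mpr (hle i))).mp h2 i (Finset.mem_univ i)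
  linarith

end Groth.Agent.S14700
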