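import Groth.Statements.S14701
import Groth.Agent.Resolve.K962.ExcTree
import Groth.Agent.Resolve.K376.RatDivE
import Groth.Agent.Surf.K456.Resol
import Groth.Agent.ArSurf.K480.Rigid
import Groth.Agent.Models.H38.TrivGen
import Groth.Agent.Ega1.IdealGen
import Groth.Agent.CurvSt.K896.TailBridge

set_option autoImplicit false
set_option linter.unusedVariables false
set_option linter.style.haveILetI false
universe u
open CategoryTheory CategoryTheory.Limits AlgebraicGeometry
open Resolve

namespace Groth.Agent.S14701

/-- Let k be an algebraically closed field and X an integral normal scheme of dimension two admitting a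
closed immersion into some P^n_k over k. Let φ : Y → X be a k-morphism from an integral scheme Y of
dimension two with all local rings regular, itself admitting a closed immersion into some P^m_k over
k, which restricts to an isomorphism over an open subset U of X with finite complement, and assume
R^1 φ_* O_Y = 0 (first right derived functor of the direct image on abelian sheaves), so that the
singular points of X are rational singularities. Let x be a point of X whose local ring is not
regular and E_1, …, E_n pairwise distinct integral one-dimensional closed subschemes of Y mapped by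
φ to x such that every integral one-dimensional closed subscheme of Y mapped to x has the support of
one of them. Then every E_i is isomorphic to the projective line P^1_k, and Σ_{i<j} (E_i · E_j) = n
- 1, so that the incidence graph of the E_i (connected, as the fibre is connected) is a tree; here
(E_i · E_j) = χ(O_Y) - χ(I_i) - χ(I_j) + χ(I_i ⊗ I_j), I_i the ideal sheaves (packaged as
FGA.intNum). (The published statement is for a resolved model, whose exceptional curves are
nonsingular with normal crossings, and takes rationality in any of five forms it quotes as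
equivalent; this row assumes the vanishing of R^1 φ_* O_Y, the first of them, and the passage from
it to the nonpositivity of arithmetic genera of exceptional cycles used in the proof is taken from
the literature.) -/
theorem result (k : Type u) [Field k] [IsAlgClosed k] (X : Scheme.{u}) [X.Over (Spec (CommRingCat.of k))]
    [IsIntegral X] (hdim : topologicalKrullDim X = 2)
    (hproj : ∃ (n : ℕ) (ι : X ⟶ CohB1.ProjSpace n k), IsClosedImmersion ι ∧ ι ≫ CohB1.ProjSpace.toSpec n k = (X ↘ (Spec (CommRingCat.of k))))
    (hnorm : Pi1.IsNormalScheme X) (U : X.Opens) (hU : ((U : Set X)ᶜ).Finite)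
    (Y : Scheme.{u}) (φ : Y ⟶ X) [IsIntegral Y] (hdimY : topologicalKrullDim Y = 2)
    (hregY : ∀ y : Y, IsRegularLocalRing (Y.presheaf.stalk y))
    (hprojY : ∃ (n : ℕ) (ι : Y ⟶ CohB1.ProjSpace n k), IsClosedImmersion ι ∧ ι ≫ CohB1.ProjSpace.toSpec n k = φ ≫ (X ↘ (Spec (CommRingCat.of k))))
    (hisoY : IsIso (φ ∣_ U))
    (hrat : IsZero ((Coh.RpushAb φ 1).obj (Coh.toAb (Coh.structureModule Y))))
    (x : X) (hx : ¬ IsRegularLocalRing (X.presheaf.stalk x))
    (n : ℕ) (E : Fin n → Y.IdealSheafData) (hEint : ∀ i, IsIntegral (E i).subscheme)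
    (hEdim : ∀ i, topologicalKrullDim ((E i).support : Set Y) = 1)
    (hEpt : ∀ i, φ.base '' ((E i).support : Set Y) = {x})
    (hEinj : Function.Injective fun i => ((E i).support : Set Y))
    (hEall : ∀ F : Y.IdealSheafData, IsIntegral F.subscheme → topologicalKrullDim (F.support : Set Y) = 1 →
      φ.base '' (F.support : Set Y) = {x} → ∃ i, (F.support : Set Y) = (E i).support) :
    letI : Y.Over (Spec (CommRingCat.of k)) := ⟨φ ≫ (X ↘ (Spec (CommRingCat.of k)))⟩
    (∀ i, Nonempty ((E i).subscheme ≅ CohB1.ProjSpace 1 k)) ∧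
      (∑ i : Fin n, ∑ j : Fin n,
          if i < j then FGA.intNum k Y 2 ![ClSub.idealMod (E i), ClSub.idealMod (E j)] (Coh.structureModule Y) else 0) =
        (n : ℤ) - 1 := by
  classical
  obtain ⟨N, ι, hι, hιk⟩ := hproj
  obtain ⟨N', ι', hι', hιk'⟩ := hprojY
  have hp1 : IsProper (CohB1.ProjSpace.toSpec N k) := Groth.Agent.Ega3B.ProjProper.isProper_toSpec _ _
  have hp2 : IsProper (CohB1.ProjSpace.toSpec N' k) := Groth.Agent.Ega3B.ProjProper.isProper_toSpec _ _
  have hXp : IsProper (X ↘ (Spec (CommRingCat.of k))) := by rw [← hιk]; infer_instance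
  have hYp : IsProper (φ ≫ (X ↘ (Spec (CommRingCat.of k)))) := by rw [← hιk']; infer_instance
  have hφ : IsProper φ := IsProper.of_comp φ (X ↘ (Spec (CommRingCat.of k)))
  have hNX : IsNoetherian X :=
    { toIsLocallyNoetherian := LocallyOfFiniteType.isLocallyNoetherian (X ↘ (Spec (CommRingCat.of k)))
      toCompactSpace := QuasiCompact.compactSpace_of_compactSpace (X ↘ (Spec (CommRingCat.of k))) }
  have hJ : JacobsonSpace X := LocallyOfFiniteType.jacobsonSpace (X ↘ (Spec (CommRingCat.of k)))
  have hUne : (U : Set X).Nonempty := by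
    rw [Set.nonempty_iff_ne_empty]
    intro h0
    rw [h0, Set.compl_empty] at hU
    have h1 : IsClosed ({genericPoint X} : Set X) :=
      K376.DesFib.isClosed_of_mem_finite hU isClosed_univ (Set.mem_univ _)
    have h2 : (Set.univ : Set X) = {genericPoint X} := by
      have h3 := genericPoint_closure (α := X)
      rw [h1.closure_eq] at h3
      exact h3.symm
    have h3 : Subsingleton X := by
      refine ⟨fun a b => ?_⟩
      have ha : a ∈ ({genericPoint X} : Set X) := by rw [← h2]; trivial
      have hb : b ∈ ({genericPoint X} : Set X) := by rw [← h2]; trivial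
      rw [ha, hb]
    have h4 : topologicalKrullDim X ≤ 0 := topologicalKrullDim_zero_of_discreteTopology _
    rw [hdim] at h4
    exact absurd h4 (by decide)
  have hxU : x ∉ U := fun h => hx (K376.DesFib.isRegular_of_isIso φ hregY U hisoY x h)
  have hxc : IsClosed ({x} : Set X) :=
    K376.DesFib.isClosed_of_mem_finite hU U.isOpen.isClosed_compl hxU
  obtain ⟨hne, hcomp⟩ := K376.DesFib.main φ hdimY hregY U hUne hisoY x hxc (hnorm x).2 hx
  letI : Y.Over (Spec (CommRingCat.of k)) := ⟨φ ≫ (X ↘ (Spec (CommRingCat.of k)))⟩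
  have hYp' : IsProper (Y ↘ Spec (CommRingCat.of k)) := hYp
  have hYN : IsLocallyNoetherian Y := LocallyOfFiniteType.isLocallyNoetherian φ
  have hYc : CompactSpace Y := QuasiCompact.compactSpace_of_compactSpace φ
  have hYN' : IsNoetherian Y := {}
  have hdimY2 : topologicalKrullDim Y ≤ (2 : ℕ) := by rw [hdimY]; rfl
  -- the fibres
  obtain ⟨x₀, hx₀⟩ := hUne
  obtain ⟨y₀, hy₀⟩ := K456.Resol.exists_of_isIso_restrict φ hisoY (x := x₀) hx₀
  have hy₀' : ∀ z : X, z ∉ U → φ y₀ ≠ z := by
    rintro z hz rfl
    exact hz (by rw [hy₀]; exact hx₀)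
  have hdimf : ∀ z : X, topologicalKrullDim (φ.fiber z) ≤ ((1 : ℕ) : WithBot ℕ∞) := by
    intro z
    by_cases hz : z ∈ U
    · exact (K456.Resol.fiber_le_zero φ hisoY (x := z) hz).trans (by exact_mod_cast Nat.zero_le 1)
    · exact K456.Resol.fiber_le_one φ hdimY
        (K376.DesFib.isClosed_of_mem_finite hU U.isOpen.isClosed_compl hz) (hy₀' z hz)
  obtain ⟨V, hV, hxV, -⟩ := exists_isAffineOpen_mem_and_subset (X := X) (U := ⊤) (x := x) trivial
  -- first cohomology of closed subschemes of the fibre
  have hH1 : ∀ I : Y.IdealSheafData, (I.support : Set Y) ⊆ φ.base ⁻¹' {x} →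
      Subsingleton (Coh.HH I.subscheme (Coh.structureModule I.subscheme) 1) := by
    intro I hI
    refine K962.ExcTree.h1_closed φ hdimf hrat V hV I.subschemeι fun w => ?_
    have h1 : I.subschemeι w ∈ (I.support : Set Y) := by
      rw [← Scheme.IdealSheafData.range_subschemeι]
      exact ⟨w, rfl⟩
    have h2 : φ (I.subschemeι w) = x := hI h1
    rw [h2]
    exact hxV
  have hEsub : ∀ i, ((E i).support : Set Y) ⊆ φ.base ⁻¹' {x} := by
    intro i z hz
    have : φ.base z ∈ φ.base '' ((E i).support : Set Y) := ⟨z, hz, rfl⟩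
    rw [hEpt i] at this
    exact this
  have hdimE : ∀ i, topologicalKrullDim (E i).subscheme = 1 := by
    intro i
    have e := (E i).subschemeι.isClosedEmbedding.toHomeomorph
    rw [IsHomeomorph.topologicalKrullDim_eq e e.isHomeomorph, Scheme.IdealSheafData.range_subschemeι]
    exact hEdim i
  refine ⟨fun i => ?_, ?_⟩
  · let _ : (E i).subscheme.Over (Spec (CommRingCat.of k)) := ⟨(E i).subschemeι ≫ (Y ↘ Spec (CommRingCat.of k))⟩
    have hp : IsProper ((E i).subscheme ↘ Spec (CommRingCat.of k)) := by
      change IsProper ((E i).subschemeι ≫ (Y ↘ Spec (CommRingCat.of k)))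
      infer_instance
    have := hEint i
    obtain ⟨e, -⟩ := K896.TailBridge.exists_iso_P1 k (E i).subscheme (hdimE i) (hH1 _ (hEsub i))
    exact ⟨e⟩
  · -- the reduced fibre
    let F : TopologicalSpace.Closeds Y := ⟨φ.base ⁻¹' {x}, hxc.preimage φ.continuous⟩
    have hFne : (F : Set Y) ≠ Set.univ := by
      intro h1
      have h2 : y₀ ∈ (F : Set Y) := by rw [h1]; trivial
      exact hy₀' x hxU h2
    have hFE : BlowUp.IsEffCartierIdeal (Scheme.IdealSheafData.vanishingIdeal F) :=
      K376.RatDivE.isEff hdimY hregY F hFne hcomp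
    have hfac : K458.Decomp.Factorial Y := K458.Decomp.factorial_of_regular hregY
    have hcod : ∀ i, ringKrullDim (Y.presheaf.stalk ((E i).subschemeι (genericPoint (E i).subscheme))) = 1 := by
      intro i
      have := hEint i
      obtain ⟨a, t, m, h1, -, h3, h4, h5⟩ := CycA.IntLocal.exists_dims (Y ↘ (Spec (CommRingCat.of k)))
        ((E i).subschemeι (genericPoint (E i).subscheme))
      rw [K458.Decomp.ι_genericPoint, hEdim i] at h3
      rw [hdimY] at h4
      have h3' : t = 1 := by exact_mod_cast h3.symm
      have h4' : m = 2 := by exact_mod_cast h4.symm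
      have h6 : a = 1 := by omega
      rw [h1, h6]
      rfl
    have hEeff : ∀ i, BlowUp.IsEffCartierIdeal (E i) := fun i =>
      have := hEint i
      K458.Decomp.isEff_of_integral hfac (E i) (hcod i)
    have hprod : Scheme.IdealSheafData.vanishingIdeal F = ∏ i, E i := by
      refine K962.ExcTree.eq_prod hfac F hFE n E hEint hcod hEinj hEsub fun y hy hy1 => ?_
      have h1 : ((K458.Decomp.pt y).support : Set Y) ⊆ F := by
        rw [K458.Decomp.support_pt]
        exact closure_minimal (Set.singleton_subset_iff.2 hy) F.isClosed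
      have h2 : φ.base '' ((K458.Decomp.pt y).support : Set Y) = {x} := by
        apply Set.Subset.antisymm
        · rintro _ ⟨z, hz, rfl⟩
          exact h1 hz
        · rintro _ rfl
          exact ⟨y, K458.Decomp.mem_support_pt y, hy⟩
      obtain ⟨i, hi⟩ := hEall (K458.Decomp.pt y) inferInstance (K458.Decomp.dim_pt k hdimY y hy1) h2
      exact ⟨i, by rw [← hi, K458.Decomp.support_pt]⟩
    -- the Euler characteristics
    have hcls : Groth.Agent.Fga.PicMon.mc (ClSub.idealMod (Scheme.IdealSheafData.vanishingIdeal F)) =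
        ∏ i, Groth.Agent.Fga.PicMon.mc (ClSub.idealMod (E i)) := by
      rw [hprod]
      exact Groth.Agent.Models.H38.TrivGen.mc_idealMod_prod Finset.univ E fun i _ => hEeff i
    have hsup : ((Scheme.IdealSheafData.vanishingIdeal F).support : Set Y) = φ.base ⁻¹' {x} := by
      rw [Scheme.IdealSheafData.coe_support_vanishingIdeal]
      rfl
    have hrange : Set.range (Scheme.IdealSheafData.vanishingIdeal F).subschemeι = φ.base ⁻¹' {x} := by
      rw [Scheme.IdealSheafData.range_subschemeι, hsup]
    have hbir := K480.Bir.isBir_of_restrict φ ⟨U, ⟨x₀, hx₀⟩, hisoY⟩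
    have hconF : _root_.IsConnected (φ ⁻¹' {x}) := K480.Rigid.isConnected_fibre (fun q => (hnorm q).2) φ hbir x
    have hcon : ConnectedSpace (Scheme.IdealSheafData.vanishingIdeal F).subscheme := by
      have e := (Scheme.IdealSheafData.vanishingIdeal F).subschemeι.isClosedEmbedding.toHomeomorph
      rw [hrange] at e
      have : ConnectedSpace ↥(φ.base ⁻¹' {x}) := isConnected_iff_connectedSpace.1 hconF
      exact e.symm.surjective.connectedSpace e.symm.continuous
    have hred : IsReduced (Scheme.IdealSheafData.vanishingIdeal F).subscheme :=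
      Ega1.ReducedSub.isReduced_subscheme_vanishingIdeal F
    have hdW : topologicalKrullDim (Scheme.IdealSheafData.vanishingIdeal F).subscheme ≤ (1 : ℕ) := by
      have e := (Scheme.IdealSheafData.vanishingIdeal F).subschemeι.isClosedEmbedding.toHomeomorph
      rw [IsHomeomorph.topologicalKrullDim_eq e e.isHomeomorph, hrange]
      have e' := φ.fiberHomeo x
      rw [← IsHomeomorph.topologicalKrullDim_eq e' e'.isHomeomorph]
      exact hdimf x
    have hW := K962.ExcTree.chi_eq_one k hdimY2 (Scheme.IdealSheafData.vanishingIdeal F) hdW (hH1 _ hsup.le)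
    have hEi : ∀ i, K455.RR.χ k Y 1 - K455.RR.χ k Y (Groth.Agent.Fga.PicMon.mc (ClSub.idealMod (E i))) = 1 := by
      intro i
      have := hEint i
      exact K962.ExcTree.chi_eq_one k hdimY2 (E i) (by rw [hdimE i]; rfl) (hH1 _ (hEsub i))
    have hinv : ∀ i, K962.ExcTree.Inv (Groth.Agent.Fga.PicMon.mc (ClSub.idealMod (E i))) := fun i =>
      ⟨_, Groth.Agent.Ega1.IdealGen.isInvertible_idealMod _ (hEeff i), rfl⟩
    have hsum := K962.ExcTree.sum_pair k hdimY2 n (fun i => Groth.Agent.Fga.PicMon.mc (ClSub.idealMod (E i))) hinv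
    rw [← hcls] at hsum
    have h1 : ∑ i : Fin n, (K455.RR.χ k Y (Groth.Agent.Fga.PicMon.mc (ClSub.idealMod (E i))) - K455.RR.χ k Y 1) = -(n : ℤ) := by
      rw [Finset.sum_congr rfl fun i _ => (show K455.RR.χ k Y (Groth.Agent.Fga.PicMon.mc (ClSub.idealMod (E i))) - K455.RR.χ k Y 1 = -1 by
        have := hEi i; linarith)]
      simp
    have h2 : (∑ i : Fin n, ∑ j : Fin n,
          if i < j then FGA.intNum k Y 2 ![ClSub.idealMod (E i), ClSub.idealMod (E j)] (Coh.structureModule Y) else 0) =
        ∑ i : Fin n, ∑ j : Fin n, if i < j then K962.ExcTree.pr k (Groth.Agent.Fga.PicMon.mc (ClSub.idealMod (E i)))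
          (Groth.Agent.Fga.PicMon.mc (ClSub.idealMod (E j))) else 0 := by
      refine Finset.sum_congr rfl fun i _ => Finset.sum_congr rfl fun j _ => ?_
      rw [K455.RR.intNum_eq_χ]
      rfl
    rw [h2]
    linarith

end Groth.Agent.S14701
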