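import Groth.Statements.S14703
import Groth.Agent.Surf.K457.Total
import Groth.Agent.Surf.K465.ProjH
import Groth.Agent.Vancyc.H175.DimBir

set_option autoImplicit false
universe u
open CategoryTheory CategoryTheory.Limits AlgebraicGeometry
open Surf

namespace Groth.Agent.S14703

/-- Let k be an algebraically closed field, X an integral scheme of dimension two admitting a closed
immersion into some P^n_k over k, and U ⊆ X open with finite complement. Let φ : Y → X be a
k-morphism from an integral scheme of dimension two with all local rings regular, itself admitting a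
closed immersion into some projective space over k, restricting to an isomorphism over U; let μ_1,
…, μ_s be distinct integral one-dimensional closed subschemes of Y, each mapped to a point, such
that every integral one-dimensional closed subscheme of Y mapped to a point has the support of one
of them. Let D be an effective Cartier divisor on X (an ideal sheaf I_D locally generated by one
nonzerodivisor) and D̃ an effective Cartier divisor on Y whose support contains no μ_j and whose
ideal agrees with the inverse-image ideal φ⁻¹I_D · O_Y on every affine open contained in φ⁻¹(U) —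
the strict transform of D. Then there are natural numbers γ_1, …, γ_s such that φ⁻¹I_D · O_Y =
I_{D̃} · ∏_j I_{μ_j}^{γ_j} (the total transform is the strict transform plus Σ γ_j μ_j) and Σ_j (μ_i
· μ_j) γ_j = -(D̃ · μ_i) for every i (the total transform meets every μ_i with intersection number
zero), where (A · B) = χ(O_Y) - χ(I_A) - χ(I_B) + χ(I_A ⊗ I_B) (packaged as FGA.intNum). (The
published statement writes the coefficient vector as γ = -d⁻¹ (D̃ · μ), with d = (μ_i · μ_j), for a
locally principal divisor on a normal surface and a resolution that is an isomorphism exactly off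
the singular points with exceptional fibres of pure dimension one; this row states the linear system
d γ = -(D̃ · μ), for effective Cartier divisors, any resolution that is an isomorphism over an open
subset with finite complement, and X not assumed normal.) -/
theorem result (k : Type u) [Field k] [IsAlgClosed k] (X : Scheme.{u}) [X.Over (Spec (CommRingCat.of k))]
    [IsIntegral X] (hdim : topologicalKrullDim X = 2)
    (hproj : ∃ (n : ℕ) (ι : X ⟶ CohB1.ProjSpace n k), IsClosedImmersion ι ∧ ι ≫ CohB1.ProjSpace.toSpec n k = (X ↘ (Spec (CommRingCat.of k))))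
    (U : X.Opens) (hU : ((U : Set X)ᶜ).Finite)
    (Y : Scheme.{u}) (φ : Y ⟶ X) [IsIntegral Y] (hdimY : topologicalKrullDim Y = 2)
    (hregY : ∀ y : Y, IsRegularLocalRing (Y.presheaf.stalk y))
    (hprojY : ∃ (n : ℕ) (ι : Y ⟶ CohB1.ProjSpace n k), IsClosedImmersion ι ∧ ι ≫ CohB1.ProjSpace.toSpec n k = φ ≫ (X ↘ (Spec (CommRingCat.of k))))
    (hiso : IsIso (φ ∣_ U))
    (s : ℕ) (μ : Fin s → Y.IdealSheafData) (hμint : ∀ j, IsIntegral (μ j).subscheme)
    (hμdim : ∀ j, topologicalKrullDim ((μ j).support : Set Y) = 1)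
    (hμpt : ∀ j, ∃ x : X, φ.base '' ((μ j).support : Set Y) = {x})
    (hμinj : Function.Injective fun j => ((μ j).support : Set Y))
    (hμall : ∀ E : Y.IdealSheafData, IsIntegral E.subscheme → topologicalKrullDim (E.support : Set Y) = 1 →
      (∃ x : X, φ.base '' (E.support : Set Y) = {x}) → ∃ j, (E.support : Set Y) = (μ j).support)
    (D : X.IdealSheafData) (hD : FGA.IsEffCartier D) (Dt : Y.IdealSheafData) (hDt : FGA.IsEffCartier Dt)
    (hDtexc : ∀ j, ¬ ((μ j).support : Set Y) ⊆ Dt.support)
    (hDtU : ∀ W : Y.affineOpens, (W : Y.Opens) ≤ φ ⁻¹ᵁ U → Dt.ideal W = (D.comap φ).ideal W) :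
    letI : Y.Over (Spec (CommRingCat.of k)) := ⟨φ ≫ (X ↘ (Spec (CommRingCat.of k)))⟩
    ∃ γ : Fin s → ℕ, D.comap φ = Dt * ∏ j : Fin s, μ j ^ γ j ∧
      ∀ i : Fin s, (∑ j : Fin s, FGA.intNum k Y 2 ![ClSub.idealMod (μ i), ClSub.idealMod (μ j)] (Coh.structureModule Y) * (γ j : ℤ)) =
        - FGA.intNum k Y 2 ![ClSub.idealMod Dt, ClSub.idealMod (μ i)] (Coh.structureModule Y) := by
  letI : Y.Over (Spec (CommRingCat.of k)) := ⟨φ ≫ (X ↘ (Spec (CommRingCat.of k)))⟩
  have hYo : (Y ↘ (Spec (CommRingCat.of k))) = φ ≫ (X ↘ (Spec (CommRingCat.of k))) := rfl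
  obtain ⟨n, ι, hι, hιk⟩ := hproj
  have hPX := (K465.ProjH.facts k X ι hιk).1
  obtain ⟨m, ι', hι', hιk'⟩ := hprojY
  have hPY := (K465.ProjH.facts k Y ι' hιk').1
  have hNX : IsNoetherian X := Groth.Agent.Fga.IntAdd.isNoetherian k X
  have hNY : IsNoetherian Y := Groth.Agent.Fga.IntAdd.isNoetherian k Y
  have hdY : topologicalKrullDim Y ≤ (2 : ℕ) := by
    rw [hdimY]
    rfl
  have hC : ∀ j, K464.Curves.IsCurve (μ j) := fun j => ⟨hμint j, hμdim j⟩
  have hE : ∀ j, BlowUp.IsEffCartierIdeal (μ j) := fun j =>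
    K464.Curves.isEff_of_isCurve k (Y ↘ Spec (CommRingCat.of k)) hdimY hregY (hC j)
  have hinj : Function.Injective μ := fun i j h => hμinj (by simp only [h])
  have hclpt : ∀ x ∈ ((U : Set X)ᶜ), IsClosed ({x} : Set X) := fun x hx =>
    K457.PicFin.isClosed_singleton_of_finite k U.2.isClosed_compl hU x hx
  have hUne : (U : Set X).Nonempty := by
    by_contra hne
    rw [Set.not_nonempty_iff_eq_empty] at hne
    rw [hne, Set.compl_empty] at hU
    have h1 := K457.PicFin.dim_le_zero_of_finite k (X := X) isClosed_univ hU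
    rw [IsHomeomorph.topologicalKrullDim_eq _ (Homeomorph.Set.univ X).isHomeomorph, hdim] at h1
    exact absurd h1 (by decide)
  have hgU : genericPoint X ∈ U :=
    ((genericPoint_spec X).mem_open_set_iff U.isOpen).mpr (by simpa using hUne)
  have hgen := Groth.Agent.Vancyc.H175.DimBir.map_genericPoint φ U hgU
  have hDgen : genericPoint X ∉ D.support := by
    rw [Groth.Agent.Divis.CartierBasic.notMem_support_iff_stalkIdeal_eq_top]
    obtain ⟨g, hg, hDg⟩ := (Groth.Agent.Divis.CartierBasic.isEffCartierIdeal_iff_stalkIdeal D).mp hD (genericPoint X)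
    rw [hDg, Ideal.span_singleton_eq_top]
    have hg0 : (g : X.functionField) ≠ 0 := nonZeroDivisors.ne_zero hg
    exact IsUnit.mk0 (G₀ := X.functionField) g hg0
  have hT : BlowUp.IsEffCartierIdeal (D.comap φ) :=
    Groth.Agent.Dix.InterSurf.isEff_comap_of_generic φ hD (by rw [hgen]; exact hDgen)
  -- exceptional curves lie over the complement of `U`
  have hexc : ∀ j, φ (K464.Curves.gp (hC j)) ∉ U := by
    intro j hj
    obtain ⟨x, hx⟩ := hμpt j
    have hsub : ((μ j).support : Set Y).Subsingleton := by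
      intro a ha b hb
      have hab : ∀ y ∈ (μ j).support, φ y = x := fun y hy => by
        have : φ.base y ∈ φ.base '' ((μ j).support : Set Y) := ⟨y, hy, rfl⟩
        rw [hx] at this
        exact this
      have hxU : x ∈ U := by rw [← hab _ (K464.Curves.gp_mem (hC j))]; exact hj
      exact Groth.Agent.Vancyc.H175.DimBir.injOn_of_isIso φ U (by rw [hab a ha]; exact hxU)
        ((hab a ha).trans (hab b hb).symm)
    have := hμdim j
    have hsub' : Subsingleton ((μ j).support : Set Y) := hsub.coe_sort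
    have h1 := topologicalKrullDim_zero_of_discreteTopology ((μ j).support : Set Y)
    rw [this] at h1
    exact absurd h1 (by decide)
  have hcontr : ∀ (C : Y.IdealSheafData) (hCC : K464.Curves.IsCurve C), φ (K464.Curves.gp hCC) ∉ U → ∃ j, C = μ j := by
    intro C hCC hgC
    have hx := hclpt _ (show φ (K464.Curves.gp hCC) ∈ (U : Set X)ᶜ from hgC)
    obtain ⟨j, hj⟩ := hμall C hCC.integral hCC.dim ⟨φ (K464.Curves.gp hCC), by
      apply Set.eq_singleton_iff_unique_mem.mpr
      refine ⟨⟨_, K464.Curves.gp_mem hCC, rfl⟩, ?_⟩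
      rintro _ ⟨y, hy, rfl⟩
      have h1 : y ∈ closure {K464.Curves.gp hCC} := by
        rw [K464.Curves.closure_gp hCC]
        exact hy
      have h2 := (specializes_iff_mem_closure.mpr h1).map φ.continuous
      have h3 := specializes_iff_mem_closure.mp h2
      rw [hx.closure_eq] at h3
      exact h3⟩
    exact ⟨j, K464.Curves.eq_of_gp_mem hCC (hC j) (by
      have := K464.Curves.gp_mem hCC
      have h4 : K464.Curves.gp hCC ∈ (C.support : Set Y) := this
      rw [hj] at h4
      exact h4)⟩
  obtain ⟨γ, J, hJ, hTJ, hgp⟩ := K464.DivLat.exists_split hC hE hT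
  have hJD : J = Dt := by
    refine K457.Total.eq_of_stalk_gp (Y ↘ Spec (CommRingCat.of k)) hdimY hregY hJ hDt fun C hCC => ?_
    by_cases hgC : φ (K464.Curves.gp hCC) ∈ U
    · obtain ⟨W, hyW, hWU, -⟩ := Groth.Agent.Divis.CartierBasic.exists_affine_le (φ ⁻¹ᵁ U) (φ ⁻¹ᵁ U)
        (show K464.Curves.gp hCC ∈ φ ⁻¹ᵁ U from hgC) hgC
      rw [Groth.Agent.Divis.CartierBasic.stalkIdeal_eq Dt W hyW, hDtU W hWU,
        ← Groth.Agent.Divis.CartierBasic.stalkIdeal_eq (D.comap φ) W hyW, hTJ,
        Groth.Agent.Divis.CartierBasic.stalkIdeal_mul]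
      have h2 : Groth.Agent.Divis.CartierBasic.stalkIdeal (K464.DivLat.cyc μ γ) (K464.Curves.gp hCC) = ⊤ := by
        unfold K464.DivLat.cyc
        rw [K464.DivLat.stalkIdeal_prod, Finset.prod_eq_one, Ideal.one_eq_top]
        intro j _
        rw [Groth.Agent.Divis.CartierBasic.stalkIdeal_pow, K464.DivLat.stalkIdeal_eq_top, Ideal.top_pow,
          Ideal.one_eq_top]
        intro hmem
        have hCj := K464.Curves.eq_of_gp_mem hCC (hC j) hmem
        subst hCj
        exact hexc j hgC
      rw [h2, Ideal.top_mul]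
    · obtain ⟨j, rfl⟩ := hcontr C hCC hgC
      rw [K464.DivLat.stalkIdeal_eq_top (hgp j), K464.DivLat.stalkIdeal_eq_top (fun h =>
        hDtexc j ((K464.Curves.support_subset_iff (hC j) Dt).mpr h))]
  subst hJD
  refine ⟨γ, by rw [hTJ, mul_comm]; rfl, fun i => ?_⟩
  have h0 : K464.Curves.degOn k Y (μ i) (K464.Base.ic (D.comap φ) hT) = 0 := by
    rw [← K457.Total.pull_ic φ hD hT]
    obtain ⟨x, hx⟩ := hμpt i
    refine K457.Total.degOn_pull_eq_zero k φ (μ i) hU hclpt (fun y hy => ?_) _
    intro hyU
    have hab : ∀ y ∈ (μ i).support, φ y = x := fun y hy => by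
      have : φ.base y ∈ φ.base '' ((μ i).support : Set Y) := ⟨y, hy, rfl⟩
      rw [hx] at this
      exact this
    exact hexc i (by rw [hab _ (K464.Curves.gp_mem (hC i)), ← hab y hy]; exact hyU)
  rw [K464.Base.ic_congr hT (Groth.Agent.Divis.EffCartier.isEff_mul (K464.DivLat.isEff_cyc hE γ) hJ) hTJ,
    K464.Base.ic_mul (K464.DivLat.isEff_cyc hE γ) hJ, K464.Curves.degOn_mul k (hC i),
    K464.DivLat.degOn_cyc k hE hdY, K464.Curves.degOn_eq_neg_dot k Y (hE i) (K464.Base.ic J hJ)] at h0
  have e1 : ∀ j, FGA.intNum k Y 2 ![ClSub.idealMod (μ i), ClSub.idealMod (μ j)] (Coh.structureModule Y) =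
      K464.DivLat.gram k hE i j := K464.DivLat.gram_eq_intNum k hE hdY i
  have e2 : FGA.intNum k Y 2 ![ClSub.idealMod J, ClSub.idealMod (μ i)] (Coh.structureModule Y) =
      K464.Base.dot k Y (K464.Base.ic J hJ) (K464.Base.ic (μ i) (hE i)) :=
    K464.Base.intNum_eq_dot k Y hdY (Groth.Agent.Dix.IdealModCartier.isInvertible_idealMod hJ)
      (Groth.Agent.Dix.IdealModCartier.isInvertible_idealMod (hE i))
  simp_rw [e1]
  rw [e2, K464.Base.dot_comm]
  have e3 : ∑ j, K464.DivLat.gram k hE i j * (γ j : ℤ) = ∑ j, (γ j : ℤ) * K464.DivLat.gram k hE j i :=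
    Finset.sum_congr rfl fun j _ => by rw [mul_comm, K464.DivLat.gram_comm]
  rw [e3]
  linarith

end Groth.Agent.S14703
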