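import Groth.Statements.S14707
import Groth.Agent.GaDual.K986.SepFld

set_option autoImplicit false
universe u
open GaDual

namespace Groth.Agent.S14707

open CategoryTheory AlgebraicGeometry in
/-- Let L/k be a separable (that is, formally smooth), not necessarily algebraic, extension of fields.
Then the pullback map H^2(k, Ĝ_a) ⟶ H^2(L, Ĝ_a) along Spec L ⟶ Spec k is injective. Here Ĝ_a is the
dual sheaf of the additive group (internal Hom from G_a into G_m on the big fppf site of Spec k),
cohomology is fppf, and the target is the cohomology over Spec L of the restriction of Ĝ_a to the
big fppf site of Spec L, which is the dual sheaf of the additive group over L. -/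
theorem result (k L : Type u) [Field k] [Field L] [Algebra k L]
    [Algebra.FormallySmooth k L] :
    Function.Injective
      (HRes.pull Scheme.fppfPrecoverage (Spec.map (CommRingCat.ofHom (algebraMap k L)))
        (CGrpSh2.dualSh Scheme.fppfPrecoverage (CGrpSh2.Ga Scheme.fppfPrecoverage (Spec (CommRingCat.of k)))) 2) :=
  K986.SepFld.pull_injective k L 2

end Groth.Agent.S14707
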