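import Groth.Statements.S14711
import Groth.Agent.GaDual.K986.SepFld

set_option autoImplicit false
universe u
open GaDual

namespace Groth.Agent.S14711

open CategoryTheory AlgebraicGeometry in
/-- Let p be a prime and R an 𝐅_p-algebra which is either a field or a Henselian discrete valuation
ring, whose fraction field K satisfies [K : K^p] = p (K has degree p over its subfield of p-th
powers), and let R ⟶ R^sh be a strict Henselization of R. Then the pullback map H^3(R, Ĝ_a) ⟶
H^3(R^sh, Ĝ_a) is injective. Here Ĝ_a is the dual sheaf of the additive group (internal Hom from G_a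
into G_m on the big fppf site of Spec R), cohomology is fppf, and the target is the cohomology over
Spec R^sh of the restriction of Ĝ_a to the big fppf site of Spec R^sh, which is the dual sheaf of
the additive group over R^sh. -/
theorem result (p : ℕ) [Fact p.Prime]
    (R : Type u) [CommRing R] [IsDomain R] [IsLocalRing R]
    (hR : IsField R ∨ (IsDiscreteValuationRing R ∧ HenselianLocalRing R))
    (K : Type u) [Field K] [Algebra R K] [IsFractionRing R K] [CharP K p]
    (hK : Module.finrank (frobenius K p).fieldRange K = p)
    (Rsh : Type u) [CommRing Rsh] [IsLocalRing Rsh] [Algebra R Rsh] [IsLocalHom (algebraMap R Rsh)]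
    [Hensel.IsStrictHenselization R Rsh] :
    Function.Injective
      (HRes.pull Scheme.fppfPrecoverage (Spec.map (CommRingCat.ofHom (algebraMap R Rsh)))
        (CGrpSh2.dualSh Scheme.fppfPrecoverage (CGrpSh2.Ga Scheme.fppfPrecoverage (Spec (CommRingCat.of R)))) 3) := by
  have h : HenselianLocalRing R ∧ IsNoetherianRing R := by
    rcases hR with h | ⟨h1, h2⟩
    · letI := h.toField
      exact ⟨Field.henselian R, inferInstance⟩
    · exact ⟨h2, inferInstance⟩
  obtain ⟨h1, h2⟩ := h
  exact K986.SepFld.pull_injective_sh R Rsh 3

end Groth.Agent.S14711
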