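import Groth.Statements.S14715
import Groth.Agent.GIT.K689.St715
import Groth.Agent.GIT.K689.Have
import Groth.Agent.S14713

set_option autoImplicit false
universe u
open CategoryTheory MonoidalCategory CartesianMonoidalCategory MonObj GrpObj AlgebraicGeometry Topology
open GIT

namespace Groth.Agent.S14715

/-- Let k be a field of characteristic zero, G a connected reductive algebraic group over k (affine,
smooth, with connected reductive geometric fibre) acting by σ on a finite-type k-scheme X (not
necessarily separated), and L a G-linearised line bundle on X, taken in total-space form (a line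
bundle V → X with a linear atlas and a fibrewise-linear lifting of the action; sections of L^n are
the weight-n functions on V, invariant sections those fixed by the lifted action, X_s the locus over
which s does not vanish identically on the fibre). Let U = X^ss(L) be the open set of semi-stable
points and let x be a stable point of X (some invariant section s of some L^n, n ≥ 1, has s(x) ≠ 0
with X_s affine and the action of G on X_s closed; no condition on stabilisers). Then x is regular
for the action (the dimension of the stabiliser group scheme of a point, computed at the point of X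
with values in its residue field, is constant on a neighbourhood of x), and for every algebraically
closed field Ω and every Ω-valued point of X over x, the orbit of that point is closed in U ×_k Spec
Ω. (The published statement is for any reductive G in any characteristic; this row is the
characteristic-zero case with G connected. L is taken in total-space form.) -/
theorem result (k : Type u) [Field k] [CharZero k]
    (G X : Over (Spec (CommRingCat.of k))) [GrpObj G] (hG : Red.IsReductive G)
    [LocallyOfFiniteType X.hom] [QuasiCompact X.hom]
    (a : AlgGrp.Action G X) (B : GLinSh.LinBun G a)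
    (U : X.left.Opens) (hU : (U : Set X.left) = B.ssLocus) (x : X.left) (hx : B.IsStablePt x) :
    (∃ W : X.left.Opens, x ∈ W ∧ ∀ y ∈ W,
          topologicalKrullDim (GLinSh.stab a (Over.homMk (X.left.fromSpecResidueField y) rfl :
              Over.mk (X.left.fromSpecResidueField y ≫ X.hom) ⟶ X)) =
            topologicalKrullDim (GLinSh.stab a (Over.homMk (X.left.fromSpecResidueField x) rfl :
              Over.mk (X.left.fromSpecResidueField x ≫ X.hom) ⟶ X))) ∧
      ∀ (Ω : Type u) [Field Ω] [IsAlgClosed Ω] (T : Over (Spec (CommRingCat.of k)))
        (_ : T.left ≅ Spec (CommRingCat.of Ω)) (f : T ⟶ X), Set.range f.left.base = {x} →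
          IsClosed ((fun p : (fst X T).left ⁻¹ᵁ U => (p : (X ⊗ T).left)) ⁻¹' Set.range (GIT.psi a f).left.base) := by
  have hlG : LocallyOfFiniteType G.hom := by
    have := hG.2.1
    infer_instance
  refine ⟨K689.St715.regular_of_stable K689.Have.st31 K689.Have.st33 hG hx, ?_⟩
  intro Ω _ _ T e f hf
  obtain ⟨n, s, hn, hs, hxs, O, hO, haff, hcl⟩ := hx
  obtain ⟨aU, haU⟩ := K689.St715.exists_aU (B := B) U hU
  obtain ⟨Y, φ, h1, h2⟩ := Groth.Agent.S14713.result k G X hG a B U hU aU (K688.ActRes.inc X U) rfl haU
  have P := K689.Quot714.props K689.Have.st31 (@Groth.Agent.S14713.result) hG U hU aU (K688.ActRes.inc X U) rfl haU Y φ h1.1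
  have hOU : (O : Set X.left) ⊆ Set.range (K688.ActRes.inc X U).left := by
    rw [P.ss, hO]
    intro y hy
    exact ⟨n, s, hn, hs, hy, O, hO, haff⟩
  refine K689.St715.isClosed_orbit P K689.Have.st31 K689.Have.st32 hG hn hs hO hcl Ω T e f ?_ hOU U hU
  rw [hf, hO]
  exact Set.singleton_subset_iff.2 hxs

end Groth.Agent.S14715
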