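import Groth.Statements.S14720
import Groth.Agent.GIT.K98.Converse
import Groth.Agent.GIT.K765.Quot720

set_option autoImplicit false
universe u
open CategoryTheory MonoidalCategory CartesianMonoidalCategory MonObj GrpObj AlgebraicGeometry Topology
open GIT

namespace Groth.Agent.S14720

/-- Let k be a field of characteristic zero, G a connected reductive algebraic group over k acting by σ
on a connected separated scheme X smooth and of finite type over k, and U an invariant open subset
of X (σ⁻¹U = p₂⁻¹U) with the action restricted to U. Then the following are equivalent: (i) U ⊆
X^s(L) for some G-linearised line bundle L on X (taken in total-space form; stable points are those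
x admitting an invariant section s of some L^n, n ≥ 1, with s(x) ≠ 0, X_s affine and the action of G
on X_s closed, no condition on stabilisers); (ii) a geometric quotient (Y, φ) of U by G exists with
φ affine and Y quasi-projective (of finite type over k with an ample invertible sheaf). (The
published statement allows X non-separated; then the second condition does not imply the first — for
the affine plane with doubled origin, the trivial group and U one copy of the plane, since a section
of a line bundle on that X which is non-zero at one origin is non-zero at the other — and the
published proof uses that the complement of an affine open subset of a smooth separated scheme has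
pure codimension one, so this row assumes X separated. The published statement also gives a third
equivalent condition when the generic stabiliser is zero-dimensional, not stated here; it is for any
characteristic, and this row is the characteristic-zero case.) -/
theorem result (k : Type u) [Field k] [CharZero k]
    (G X : Over (Spec (CommRingCat.of k))) [GrpObj G] (hG : Red.IsReductive G)
    [LocallyOfFiniteType X.hom] [QuasiCompact X.hom] [Smooth X.hom] [IsSeparated X.hom] [ConnectedSpace X.left]
    (a : AlgGrp.Action G X)
    (U : X.left.Opens) (hinv : a.act.left ⁻¹ᵁ U = (snd G X).left ⁻¹ᵁ U)
    (aU : AlgGrp.Action G (Over.mk (U.ι ≫ X.hom)))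
    (jU : Over.mk (U.ι ≫ X.hom) ⟶ X) (hjU : jU.left = U.ι) (haU : aU.act ≫ jU = (G ◁ jU) ≫ a.act) :
    (∃ B : GLinSh.LinBun G a, (U : Set X.left) ⊆ B.sLocus) ↔
      ∃ (Y : Over (Spec (CommRingCat.of k))) (φ : Over.mk (U.ι ≫ X.hom) ⟶ Y),
        GIT.IsGeomQuot aU φ ∧ IsAffineHom φ.left ∧ LocallyOfFiniteType Y.hom ∧
        ∃ M : Y.left.Modules, CohB1.IsAmple M := by
  constructor
  · rintro ⟨B, hB⟩
    exact K765.Quot720.exists_quotient k G X hG a U hinv aU jU hjU haU B hB
  · rintro ⟨Y, φ, hq, haff, -, M, hM⟩
    exact K98.Converse.exists_linBun k G X hG a U hinv aU jU hjU haU Y φ hq haff M hM

end Groth.Agent.S14720
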