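import Groth.Statements.S14721
import Groth.Agent.GIT.K701.ResMain

set_option autoImplicit false
universe u
open CategoryTheory MonoidalCategory CartesianMonoidalCategory MonObj GrpObj AlgebraicGeometry Topology
open GIT

namespace Groth.Agent.S14721

/-- Let k be a field of characteristic zero, G an algebraic group over k (smooth and of finite type)
whose identity component G₀ — the connected open subgroup scheme through the identity — is
reductive, σ an action of G on a scheme X of finite type over k (not necessarily separated), and L a
G-linearised line bundle on X, taken in total-space form (total space V, linear atlas, lifted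
action). Restricting σ and the lifted action to G₀ makes L a G₀-linearised line bundle with the same
total space and atlas; then the set of semi-stable points and the set of stable points (no condition
on stabilisers) are the same for G₀ as for G. (The published statement is for any reductive G in any
characteristic; this row is the characteristic-zero case. The restricted actions are given as
hypotheses together with the two compatibilities that make them a linearised bundle for G₀.) -/
theorem result (k : Type u) [Field k] [CharZero k]
    (G₀ G X : Over (Spec (CommRingCat.of k))) [GrpObj G₀] [GrpObj G]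
    [Smooth G.hom] [LocallyOfFiniteType G.hom] [QuasiCompact G.hom]
    (i : G₀ ⟶ G) [IsMonHom i] [IsOpenImmersion i.left] [ConnectedSpace G₀.left] (hG₀ : Red.IsReductive G₀)
    [LocallyOfFiniteType X.hom] [QuasiCompact X.hom]
    (a : AlgGrp.Action G X) (B : GLinSh.LinBun G a)
    (a₀ : AlgGrp.Action G₀ X) (ha₀ : a₀.act = (i ▷ X) ≫ a.act)
    (Φ₀ : AlgGrp.Action G₀ B.V) (hΦ₀ : Φ₀.act = (i ▷ B.V) ≫ B.lift.act)
    (hπ₀ : Φ₀.act ≫ B.π = (G₀ ◁ B.π) ≫ a₀.act) (hl₀ : GLinSh.IsLinearLift a₀ B.π Φ₀ B.atlas.chart hπ₀) :
    (⟨B.V, B.π, B.atlas, Φ₀, hπ₀, hl₀⟩ : GLinSh.LinBun G₀ a₀).ssLocus = B.ssLocus ∧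
      (⟨B.V, B.π, B.atlas, Φ₀, hπ₀, hl₀⟩ : GLinSh.LinBun G₀ a₀).sLocus = B.sLocus := by
  have hN : AlgGrp.IsNormalHom i := K500.Ru.isNormalHom_of_open i
  have hNX : IsLocallyNoetherian X.left := LocallyOfFiniteType.isLocallyNoetherian X.hom
  have hc : CompactSpace X.left := (quasiCompact_iff_compactSpace X.hom).1 inferInstance
  have hqs : QuasiSeparatedSpace X.left := inferInstance
  constructor
  · ext x
    exact K701.MorE.mem_ssLocus_iff.trans ((K701.ResMain.exists_good_iff_res B Φ₀ hΦ₀ hπ₀ hl₀ hN ha₀ x).trans
      K701.MorE.mem_ssLocus_iff.symm)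
  · ext x
    exact K701.MorE.mem_sLocus_iff.trans ((K701.ResMain.exists_good_iff_res B Φ₀ hΦ₀ hπ₀ hl₀ hN ha₀ x).trans
      K701.MorE.mem_sLocus_iff.symm)

end Groth.Agent.S14721
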