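import Groth.Statements.S14724
import Groth.Agent.GIT.K701.RedMain
import Groth.Agent.GIT.K686.RedQuot
import Groth.Agent.S8082

set_option autoImplicit false
universe u
open CategoryTheory MonoidalCategory CartesianMonoidalCategory MonObj GrpObj AlgebraicGeometry Topology
open GIT

namespace Groth.Agent.S14724

/-- Let k be a field of characteristic zero, G a connected reductive algebraic group over k (affine,
smooth, with connected reductive geometric fibre) acting by σ on a scheme X of finite type over k
(not necessarily separated), and L a G-linearised line bundle on X, taken in total-space form (a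
line bundle V → X with a linear atlas and a fibrewise-linear lifting of the action; sections of L^n
are the weight-n functions on V, invariant sections those fixed by the lifted action, X_s the locus
over which s does not vanish identically on the fibre). Let j : X_red → X be the reduced closed
subscheme with the same underlying space (a surjective closed immersion from a reduced scheme), with
the induced action of G, and let L_red = j^*L: a G-linearised line bundle on X_red in total-space
form whose total space maps to V over j by a morphism q compatible with the lifted actions and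
pulling admissible fibre coordinates of L back to admissible fibre coordinates of L_red. Then
X_red^ss(L_red) is the preimage of X^ss(L) under j and X_red^s(L_red) is the preimage of X^s(L)
(stable: no condition on stabilisers) — the loci are unchanged by passing to X_red. (The induced
action and the pulled-back bundle are given as hypotheses with their compatibilities. The published
statement is for any reductive G in any characteristic; this row is the characteristic-zero case
with G connected. L is taken in total-space form.) -/
theorem result (k : Type u) [Field k] [CharZero k]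
    (G X : Over (Spec (CommRingCat.of k))) [GrpObj G] (hG : Red.IsReductive G)
    [LocallyOfFiniteType X.hom] [QuasiCompact X.hom]
    (a : AlgGrp.Action G X) (B : GLinSh.LinBun G a)
    (Xr : Over (Spec (CommRingCat.of k))) (j : Xr ⟶ X) [IsClosedImmersion j.left] [IsReduced Xr.left]
    (hj : Function.Surjective j.left.base)
    (ar : AlgGrp.Action G Xr) (har : ar.act ≫ j = (G ◁ j) ≫ a.act)
    (Br : GLinSh.LinBun G ar) (q : Br.V ⟶ B.V) (hq : Br.π ≫ j = q ≫ B.π)
    (hlift : Br.lift.act ≫ q = (G ◁ q) ≫ B.lift.act)
    (hle : ∀ U : X.left.Opens, Br.π.left ⁻¹ᵁ (j.left ⁻¹ᵁ U) ≤ q.left ⁻¹ᵁ (B.π.left ⁻¹ᵁ U))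
    (hchart : ∀ (U : X.left.Opens) (y : Γ(B.V.left, B.π.left ⁻¹ᵁ U)), y ∈ B.atlas.chart U →
      q.left.appLE (B.π.left ⁻¹ᵁ U) (Br.π.left ⁻¹ᵁ (j.left ⁻¹ᵁ U)) (hle U) y ∈ Br.atlas.chart (j.left ⁻¹ᵁ U)) :
    Br.ssLocus = j.left.base ⁻¹' B.ssLocus ∧ Br.sLocus = j.left.base ⁻¹' B.sLocus := by
  obtain ⟨H⟩ := K686.HaarRed.exists_haar
    (fun A _ _ _ _ h => (Groth.Agent.S8082.result k A).mp h) hG
  have hGa : IsAffineHom G.hom := hG.1
  have hN : IsLocallyNoetherian X.left := LocallyOfFiniteType.isLocallyNoetherian X.hom
  have hc : CompactSpace X.left := (quasiCompact_iff_compactSpace X.hom).1 inferInstance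
  have hqs : QuasiSeparatedSpace X.left := inferInstance
  have m : K689.Compat.Mor j B Br q := ⟨hq, hlift, fun U _ y hy => hchart U y hy⟩
  exact ⟨K701.RedMain.ssLocus_eq H m hj, K701.RedMain.sLocus_eq H m har hj⟩

end Groth.Agent.S14724
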