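import Groth.Statements.S14726
import Groth.Agent.S1216
import Groth.Agent.Flat2B.SmoothGeom
import Mathlib.RingTheory.Ideal.MinimalPrime.Localization
import Mathlib.RingTheory.EssentialFiniteness
import Mathlib.RingTheory.Smooth.Flat
import Mathlib.RingTheory.TensorProduct.Quotient

set_option autoImplicit false
universe u
open ValPrufer

namespace Groth.Agent.S14726

open IsLocalRing

/-- The special fibre of a smooth algebra over a local ring is reduced. -/
theorem isRadical_map_maximalIdeal (V : Type u) [CommRing V] [IsLocalRing V]
    (A : Type u) [CommRing A] [Algebra V A] [Algebra.Smooth V A] :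
    ((maximalIdeal V).map (algebraMap V A)).IsRadical := by
  have hfield : IsField (V ⧸ maximalIdeal V) :=
    (Ideal.Quotient.maximal_ideal_iff_isField_quotient _).1 inferInstance
  let : Field (V ⧸ maximalIdeal V) := hfield.toField
  let e := Algebra.TensorProduct.quotIdealMapEquivQuotTensor A (maximalIdeal V)
  have h1 : IsReduced (TensorProduct V (V ⧸ maximalIdeal V) A) :=
    Groth.Agent.Flat2B.SmoothGeom.isReduced_of_smooth_field (V ⧸ maximalIdeal V) _
  rw [Ideal.isRadical_iff_quotient_reduced]
  exact isReduced_of_injective e e.injective

/-- Elements of the maximal ideal of the local ring at a generic point of the special fibre. -/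
theorem maximalIdeal_le (V : Type u) [CommRing V] [IsLocalRing V]
    (A : Type u) [CommRing A] [Algebra V A] [Algebra.Smooth V A] (p : Ideal A) [p.IsPrime]
    (hp : p ∈ ((maximalIdeal V).map (algebraMap V A)).minimalPrimes) :
    maximalIdeal (Localization.AtPrime p) ≤
      (maximalIdeal V).map (algebraMap V (Localization.AtPrime p)) := by
  have hrad := isRadical_map_maximalIdeal V A
  have h1 := IsLocalization.AtPrime.radical_map_of_mem_minimalPrimes
    (A := Localization.AtPrime p) p _ hp
  have h2 : (((maximalIdeal V).map (algebraMap V A)).map
      (algebraMap A (Localization.AtPrime p))).IsRadical := by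
    have := IsLocalization.map_radical p.primeCompl (Localization.AtPrime p)
      ((maximalIdeal V).map (algebraMap V A))
    rw [hrad.radical] at this
    rw [← Ideal.radical_eq_iff, ← this]
  rw [← Localization.AtPrime.map_eq_maximalIdeal, ← h1, h2.radical, Ideal.map_map,
    ← IsScalarTower.algebraMap_eq]

/-- Let V be a valuation ring with maximal ideal m, A an integral domain that is a smooth V-algebra, and
p a prime ideal of A minimal among the primes containing mA (a generic point of the special fibre of
Spec A over V). Then A_p is a valuation ring, V → A_p is an injective local homomorphism, and every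
nonzero element of A_p is a unit of A_p times the image of an element of V, so that V → A_p induces
a bijection on value groups. (The published statement takes A faithfully flat and a semilocalisation
of a smooth V-algebra at finitely many primes; the local ring A_p is then a local ring of the smooth
algebra itself at such a prime, and faithful flatness follows from the existence of p, so this row
states the smooth case, which carries the whole content.) -/
theorem result
    (V : Type u) [CommRing V] [IsDomain V] [ValuationRing V]
    (A : Type u) [CommRing A] [IsDomain A] [Algebra V A] [Algebra.Smooth V A]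
    (p : Ideal A) [p.IsPrime]
    (hp : p ∈ ((IsLocalRing.maximalIdeal V).map (algebraMap V A)).minimalPrimes) :
    ValuationRing (Localization.AtPrime p) ∧
      Function.Injective (algebraMap V (Localization.AtPrime p)) ∧
      IsLocalHom (algebraMap V (Localization.AtPrime p)) ∧
      ∀ x : Localization.AtPrime p, x ≠ 0 →
        ∃ (v : V) (w : (Localization.AtPrime p)ˣ), x = algebraMap V (Localization.AtPrime p) v * w := by
  have hmp : (IsLocalRing.maximalIdeal V).map (algebraMap V A) ≤ p := hp.1.2
  have hflat : Module.Flat V A := inferInstance
  have hinjA : Function.Injective (algebraMap V A) := by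
    have : Module.IsTorsionFree V A := inferInstance
    exact FaithfulSMul.algebraMap_injective V A
  have hinj : Function.Injective (algebraMap V (Localization.AtPrime p)) := by
    rw [IsScalarTower.algebraMap_eq V A]
    exact (IsLocalization.injective _ p.primeCompl_le_nonZeroDivisors).comp hinjA
  have hloc : IsLocalHom (algebraMap V (Localization.AtPrime p)) := by
    constructor
    intro v hv
    by_contra hv'
    have h1 : algebraMap V A v ∈ p :=
      hmp (Ideal.mem_map_of_mem _ ((IsLocalRing.mem_maximalIdeal _).2 hv'))
    rw [IsScalarTower.algebraMap_apply V A] at hv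
    rw [IsLocalization.AtPrime.isUnit_to_map_iff (Localization.AtPrime p) p] at hv
    exact hv h1
  have hflat2 : Module.Flat V (Localization.AtPrime p) := Module.Flat.trans V A _
  have hess : Algebra.EssFiniteType V (Localization.AtPrime p) :=
    Algebra.EssFiniteType.comp V A _
  have key : ∀ x : Localization.AtPrime p, x ≠ 0 →
        ∃ (v : V) (w : (Localization.AtPrime p)ˣ), x = algebraMap V (Localization.AtPrime p) v * w := by
    intro x hx
    obtain ⟨I, hI, hxI, hmin⟩ := Groth.Agent.S1216.result (A := V) (B := Localization.AtPrime p)
      (Localization.AtPrime p) x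
    obtain ⟨v, rfl⟩ := hI
    have h1 : ∃ y : Localization.AtPrime p, x = algebraMap V _ v * y := by
      rw [Ideal.smul_top_eq_map, Submodule.restrictScalars_mem, Ideal.submodule_span_eq,
        Ideal.map_span, Set.image_singleton, Ideal.mem_span_singleton] at hxI
      exact hxI
    obtain ⟨y, rfl⟩ := h1
    have hy : IsUnit y := by
      by_contra hy
      have h2 := maximalIdeal_le V A p hp ((IsLocalRing.mem_maximalIdeal _).2 hy)
      have h3 := hmin (Ideal.span {v} * IsLocalRing.maximalIdeal V) (by
        rw [Ideal.smul_top_eq_map, Submodule.restrictScalars_mem, Ideal.map_mul]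
        exact Ideal.mul_mem_mul (Ideal.mem_map_of_mem _ (Ideal.mem_span_singleton_self v)) h2)
      rw [Ideal.submodule_span_eq, Ideal.span_singleton_le_iff_mem,
        Ideal.mem_span_singleton_mul] at h3
      obtain ⟨μ, hμ, hμ'⟩ := h3
      have hv : v ≠ 0 := by
        rintro rfl
        exact hx (by rw [map_zero, zero_mul])
      have h4 : μ = 1 := mul_left_cancel₀ hv (by rw [hμ', mul_one])
      rw [h4] at hμ
      exact (Ideal.ne_top_iff_one _).1 (IsLocalRing.maximalIdeal.isMaximal V).ne_top hμ
    exact ⟨v, hy.unit, rfl⟩
  refine ⟨?_, hinj, hloc, key⟩
  refine @ValuationRing.mk _ _ _ ⟨?_⟩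
  intro a b
  by_cases ha : a = 0
  · exact ⟨0, Or.inr (by rw [ha, mul_zero])⟩
  by_cases hb : b = 0
  · exact ⟨0, Or.inl (by rw [hb, mul_zero])⟩
  obtain ⟨v, w, rfl⟩ := key a ha
  obtain ⟨v', w', rfl⟩ := key b hb
  obtain ⟨c, rfl | rfl⟩ := ValuationRing.cond v v'
  · exact ⟨algebraMap _ _ c * ((w⁻¹ : (Localization.AtPrime p)ˣ) : Localization.AtPrime p) * w', Or.inl (by
      rw [map_mul]
      linear_combination (algebraMap V (Localization.AtPrime p) v) * algebraMap _ _ c * w' * w.mul_inv)⟩
  · exact ⟨algebraMap _ _ c * ((w'⁻¹ : (Localization.AtPrime p)ˣ) : Localization.AtPrime p) * w, Or.inr (by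
      rw [map_mul]
      linear_combination (algebraMap V (Localization.AtPrime p) v') * algebraMap _ _ c * w * w'.mul_inv)⟩

end Groth.Agent.S14726
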