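import Groth.Statements.S14727
import Groth.Agent.ValPrufer.K832.CoheightZero

set_option autoImplicit false
universe u
open ValPrufer

namespace Groth.Agent.S14727

/-- Let R be a semilocal ring (finitely many maximal ideals) and I an ideal of R of co-height zero, i.e.
every prime ideal containing I is maximal. Then the canonical map from the I-adic completion of R to
the product, over the maximal ideals m ⊇ I, of the I-adic completions of the local rings R_m
(equivalently their IR_m-adic completions) is bijective; it is the continuous ring isomorphism of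
the source, stated here as bijectivity of the canonical map of completed modules. -/
theorem result
    (R : Type u) [CommRing R] (hR : Finite (MaximalSpectrum R)) (I : Ideal R)
    (hI : ∀ (p : Ideal R), p.IsPrime → I ≤ p → p.IsMaximal) :
    Function.Bijective (LinearMap.pi (fun m : {m : MaximalSpectrum R // I ≤ m.asIdeal} =>
      AdicCompletion.map I (Algebra.linearMap R (Localization.AtPrime m.1.asIdeal)))) := by
  let ι := {m : MaximalSpectrum R // I ≤ m.asIdeal}
  have hι : Finite ι := inferInstance
  let m : ι → Ideal R := fun i => i.1.asIdeal
  have hmax : ∀ i, (m i).IsMaximal := fun i => i.1.2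
  have hprime : ∀ i, (m i).IsPrime := fun i => (hmax i).isPrime
  have hinj : Function.Injective m := by
    intro i j hij
    exact Subtype.ext (MaximalSpectrum.ext hij)
  have hJ : ∀ n : ℕ, ∀ p : Ideal R, p.IsPrime → I ^ n ≤ p → ∃ i, p = m i := by
    intro n p hp hle
    have h1 : I ≤ p := hp.le_of_pow_le hle
    exact ⟨⟨⟨p, hI p hp h1⟩, h1⟩, rfl⟩
  constructor
  · rw [← LinearMap.ker_eq_bot, LinearMap.ker_eq_bot']
    intro x hx
    obtain ⟨a, rfl⟩ := AdicCompletion.mk_surjective I R x
    apply AdicCompletion.ext
    intro n
    have h1 : ∀ i : ι, algebraMap R (Localization.AtPrime (m i)) (a n) ∈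
        I ^ n • (⊤ : Submodule R (Localization.AtPrime (m i))) := by
      intro i
      have h2 := congrFun hx i
      rw [LinearMap.pi_apply, AdicCompletion.map_mk] at h2
      have h3 : (AdicCompletion.mk I _ (AdicCompletion.AdicCauchySequence.map I
          (Algebra.linearMap R (Localization.AtPrime (m i))) a)).val n = 0 :=
        congrArg (fun z => z.val n) h2
      rw [AdicCompletion.mk_apply_coe] at h3
      exact (Submodule.Quotient.mk_eq_zero _).1 h3
    have h4 := K832.CoheightZero.mem_of_forall (hJ n) (a n) h1
    rw [AdicCompletion.mk_apply_coe]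
    exact (Submodule.Quotient.mk_eq_zero _).2 h4
  · intro y
    choose b hb using fun i : ι => AdicCompletion.mk_surjective I _ (y i)
    choose a ha using fun n : ℕ => K832.CoheightZero.exists_approx hmax hinj (hJ n)
      (fun i => b i n)
    have hcauchy : ∀ n, a n ≡ a (n + 1) [SMOD (I ^ n • ⊤ : Submodule R R)] := by
      intro n
      rw [SModEq.sub_mem]
      refine K832.CoheightZero.mem_of_forall (hJ n) _ (fun i => ?_)
      have h1 : b i n - b i (n + 1) ∈ I ^ n • (⊤ : Submodule R (Localization.AtPrime (m i))) := by
        rw [← SModEq.sub_mem]
        exact (b i).2 (Nat.le_succ n)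
      have h2 : algebraMap R (Localization.AtPrime (m i)) (a (n + 1)) - b i (n + 1) ∈
          I ^ n • (⊤ : Submodule R (Localization.AtPrime (m i))) :=
        Submodule.smul_mono_left (Ideal.pow_le_pow_right (Nat.le_succ n)) (ha (n + 1) i)
      have h3 := Submodule.add_mem _ (Submodule.sub_mem _ (ha n i) h2) h1
      have h4 : algebraMap R (Localization.AtPrime (m i)) (a n) - b i n -
          (algebraMap R (Localization.AtPrime (m i)) (a (n + 1)) - b i (n + 1)) +
          (b i n - b i (n + 1)) = algebraMap R (Localization.AtPrime (m i)) (a n - a (n + 1)) := by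
        rw [map_sub]
        ring
      rwa [h4] at h3
    let c : AdicCompletion.AdicCauchySequence I R :=
      AdicCompletion.AdicCauchySequence.mk I R a hcauchy
    refine ⟨AdicCompletion.mk I R c, ?_⟩
    funext i
    rw [LinearMap.pi_apply, AdicCompletion.map_mk, ← hb i]
    apply AdicCompletion.ext
    intro n
    rw [AdicCompletion.mk_apply_coe, AdicCompletion.mk_apply_coe]
    refine (Submodule.Quotient.eq _).2 ?_
    exact ha n i

end Groth.Agent.S14727
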