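import Groth.Statements.S14730
import Groth.Agent.ValPrufer.K832.InterVal
import Groth.Agent.ValPrufer.K832.DimSub

set_option autoImplicit false
universe u
open ValPrufer

namespace Groth.Agent.S14730

/-- Transport of the conditions along a ring isomorphism. -/
theorem isPruf_of_ringEquiv {A B : Type u} [CommRing A] [IsDomain A] [CommRing B] [IsDomain B]
    (hA : K832.Basic.IsPruf A) (e : A ≃+* B) : K832.Basic.IsPruf B := by
  let _ : Algebra A B := e.toRingHom.toAlgebra
  have : IsLocalization.Away (1 : A) B :=
    IsLocalization.away_of_isUnit_of_bijective B isUnit_one e.bijective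
  exact hA.localization (Submonoid.powers (1 : A)) B

theorem finite_maximalSpectrum_of_ringEquiv {A B : Type u} [CommRing A] [CommRing B]
    (hA : Finite (MaximalSpectrum A)) (e : A ≃+* B) : Finite (MaximalSpectrum B) := by
  refine Finite.of_injective (fun m : MaximalSpectrum B =>
    (⟨m.asIdeal.comap (e : A →+* B), Ideal.comap_isMaximal_of_surjective _ e.surjective⟩ :
      MaximalSpectrum A)) ?_
  intro m m' h
  apply MaximalSpectrum.ext
  exact Ideal.comap_injective_of_surjective (e : A →+* B) e.surjective
    (congrArg MaximalSpectrum.asIdeal h)

/-- Let R be a semilocal Prüfer domain (an integral domain with finitely many maximal ideals whose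
localisations at primes are valuation rings). Then R is the increasing union of subrings that are
semilocal Prüfer domains of finite Krull dimension; equivalently, every finite subset of R is
contained in such a subring. -/
theorem result
    (R : Type u) [CommRing R] [IsDomain R]
    (hR : ∀ (p : Ideal R) [p.IsPrime], ValuationRing (Localization.AtPrime p))
    (hfin : Finite (MaximalSpectrum R)) (s : Finset R) :
    ∃ R' : Subring R, (↑s : Set R) ⊆ R' ∧
      (∀ (p : Ideal R') [p.IsPrime], ValuationRing (Localization.AtPrime p)) ∧
      Finite (MaximalSpectrum R') ∧ ringKrullDim R' < ⊤ := by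
  classical
  let L := FractionRing R
  let i : R →+* L := algebraMap R L
  have hi : Function.Injective i := IsFractionRing.injective R L
  let K : Subfield L := Subfield.closure ((s.image i : Finset L) : Set L)
  let R' : Subring R := K.toSubring.comap i
  have hmap : R'.map i = (algebraMap R L).range ⊓ K.toSubring := by
    rw [Subring.map_comap_eq, inf_comm]
  let e : R' ≃+* ((algebraMap R L).range ⊓ K.toSubring : Subring L) :=
    (R'.equivMapOfInjective i hi).trans (RingEquiv.subringCongr hmap)
  have hne : Nonempty (MaximalSpectrum R) := inferInstance
  have hB : ∀ x, x ∈ (algebraMap R L).range ⊓ K.toSubring ↔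
      x ∈ K ∧ ∀ m : MaximalSpectrum R, x ∈ K832.InterVal.valSub (L := L) hR m := by
    intro x
    rw [Subring.mem_inf, K832.InterVal.mem_range_iff hR, and_comm]
    rfl
  refine ⟨R', ?_, ?_, ?_, ?_⟩
  · intro x hx
    exact Subfield.subset_closure (Finset.mem_image_of_mem i hx)
  · exact isPruf_of_ringEquiv (K832.InterVal.isPruf _ K _ hB) e.symm
  · exact finite_maximalSpectrum_of_ringEquiv
      (K832.InterVal.finite_maximalSpectrum _ K _ hB) e.symm
  · exact K832.DimSub.dim_lt_top (s.image i) R' (i.comp R'.subtype)
      (hi.comp R'.subtype_injective) (fun b => b.2)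

end Groth.Agent.S14730
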