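import Groth.Statements.S14731
import Groth.Agent.ValPrufer.K832.SmoothModel
import Mathlib.RingTheory.Etale.Basic
import Mathlib.RingTheory.EssentialFiniteness
import Mathlib.RingTheory.Localization.NumDen
import Mathlib.Algebra.Algebra.Rat
import Mathlib.FieldTheory.Perfect

set_option autoImplicit false
universe u
open ValPrufer

namespace Groth.Agent.S14731

/-- In characteristic zero, every field K generated as a field by a finite set is the fraction field of
a subring A of K of finite type and smooth over the integers. -/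
theorem result
    (K : Type u) [Field K] [CharZero K] (s : Finset K)
    (hs : Subfield.closure (↑s : Set K) = ⊤) :
    ∃ A : Subring K, Algebra.FiniteType ℤ A ∧ Algebra.Smooth ℤ A ∧ IsFractionRing A K := by
  let A₀ : Subalgebra ℤ K := Algebra.adjoin ℤ (s : Set K)
  have hft : Algebra.FiniteType ℤ A₀ := by
    rw [← Subalgebra.fg_iff_finiteType]
    exact ⟨s, rfl⟩
  have hfr : IsFractionRing A₀ K := by
    refine IsFractionRing.of_field A₀ K fun z => ?_
    have hz : z ∈ Subfield.closure (s : Set K) := by rw [hs]; trivial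
    rw [Subfield.mem_closure_iff] at hz
    obtain ⟨x, hx, y, hy, hxy⟩ := hz
    have hle : Subring.closure (s : Set K) ≤ A₀.toSubring := by
      rw [Subring.closure_le]
      exact Algebra.subset_adjoin
    exact ⟨⟨x, hle hx⟩, ⟨y, hle hy⟩, hxy.symm⟩
  have hess : Algebra.EssFiniteType ℤ K := by
    have : Algebra.EssFiniteType A₀ K := Algebra.EssFiniteType.of_isLocalization K (nonZeroDivisors A₀)
    exact Algebra.EssFiniteType.comp ℤ A₀ K
  have hess' : Algebra.EssFiniteType ℚ K := Algebra.EssFiniteType.of_comp ℤ ℚ K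
  have h1 : Algebra.FormallySmooth ℚ K := inferInstance
  have h2 : Algebra.FormallyEtale ℤ ℚ := Algebra.FormallyEtale.of_isLocalization (nonZeroDivisors ℤ)
  have h3 : Algebra.FormallySmooth ℤ K := Algebra.FormallySmooth.comp ℤ ℚ K
  obtain ⟨A, hA1, hA2, hA3⟩ := K832.SmoothModel.exists_smooth_subalgebra ℤ K A₀
  let e : A ≃+* A.toSubring := RingEquiv.refl A
  let e' : A ≃ₐ[ℤ] A.toSubring := AlgEquiv.ofRingEquiv (f := e) (fun n => by
    rw [eq_intCast, eq_intCast, map_intCast])
  exact ⟨A.toSubring, Algebra.FiniteType.equiv hA1 e', Algebra.Smooth.of_equiv e', hA3⟩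

end Groth.Agent.S14731
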