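import Groth.Statements.S14732
import Groth.Agent.ValPrufer.K832.SmoothModel
import Mathlib.RingTheory.Etale.Basic
import Mathlib.RingTheory.EssentialFiniteness
import Mathlib.RingTheory.Localization.NumDen
import Mathlib.FieldTheory.Finite.Basic

set_option autoImplicit false
universe u
open ValPrufer

namespace Groth.Agent.S14732

/-- In characteristic p > 0, a field K that is finitely generated over its prime subfield F (a field
with p elements) is the fraction field of an integral scheme smooth over F; concretely, there is an
F-subalgebra A of K, of finite type and smooth over F, whose fraction field is K. -/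
theorem result
    (K : Type u) [Field K] (p : ℕ) [Fact p.Prime] [CharP K p] (s : Finset K)
    (hs : Subfield.closure (↑s : Set K) = ⊤) :
    ∃ A : Subalgebra (⊥ : Subfield K) K, Algebra.FiniteType (⊥ : Subfield K) A ∧
      Algebra.Smooth (⊥ : Subfield K) A ∧ IsFractionRing A K := by
  let F : Subfield K := ⊥
  let A₀ : Subalgebra F K := Algebra.adjoin F (s : Set K)
  have hft : Algebra.FiniteType F A₀ := by
    rw [← Subalgebra.fg_iff_finiteType]
    exact ⟨s, rfl⟩
  have hfr : IsFractionRing A₀ K := by
    refine IsFractionRing.of_field A₀ K fun z => ?_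
    have hz : z ∈ Subfield.closure (s : Set K) := by rw [hs]; trivial
    rw [Subfield.mem_closure_iff] at hz
    obtain ⟨x, hx, y, hy, hxy⟩ := hz
    have hle : Subring.closure (s : Set K) ≤ A₀.toSubring := by
      rw [Subring.closure_le]
      exact Algebra.subset_adjoin
    exact ⟨⟨x, hle hx⟩, ⟨y, hle hy⟩, hxy.symm⟩
  have hess : Algebra.EssFiniteType F K := by
    have : Algebra.EssFiniteType A₀ K := Algebra.EssFiniteType.of_isLocalization K (nonZeroDivisors A₀)
    exact Algebra.EssFiniteType.comp F A₀ K
  have hfin : Finite F := by
    have h := ZMod.fieldRange_castHom_eq_bot (K := K) p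
    have h2 : Function.Surjective (fun x : ZMod p => (⟨ZMod.castHom dvd_rfl K x, by
        change _ ∈ (⊥ : Subfield K)
        rw [← h]
        exact ⟨x, rfl⟩⟩ : F)) := by
      rintro ⟨y, hy⟩
      rw [show F = ⊥ from rfl, ← h] at hy
      obtain ⟨x, rfl⟩ := hy
      exact ⟨x, rfl⟩
    exact Finite.of_surjective _ h2
  have h1 : Algebra.FormallySmooth F K := inferInstance
  exact K832.SmoothModel.exists_smooth_subalgebra F K A₀

end Groth.Agent.S14732
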