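import Groth.Statements.S14733
import Groth.Agent.ValPrufer.K832.DimFun
import Groth.Agent.S1387
import Groth.Agent.Sga4h.GenULADim

set_option autoImplicit false
open CategoryTheory AlgebraicGeometry
universe u
open ValPrufer

namespace Groth.Agent.S14733

section Helpers

open AlgebraicGeometry CategoryTheory Limits Cardinal CycB.RelDim CycB.TrdegAlg K832.Basic
  K832.DimFun

theorem isPruf_of_ringEquiv {A B : Type u} [CommRing A] [IsDomain A] [CommRing B] [IsDomain B]
    (hA : IsPruf A) (e : A ≃+* B) : IsPruf B := by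
  let _ : Algebra A B := e.toRingHom.toAlgebra
  have : IsLocalization.Away (1 : A) B :=
    IsLocalization.away_of_isUnit_of_bijective B isUnit_one e.bijective
  exact hA.localization (Submonoid.powers (1 : A)) B

theorem chart (R : Type u) [CommRing R] [IsDomain R] (hR : IsPruf R)
    (X : Scheme.{u}) [IrreducibleSpace X] (f : X ⟶ Spec (CommRingCat.of R))
    [LocallyOfFiniteType f] [IsDominant f] (x : X) :
    rtd f x ≤ rtd f (genericPoint X) ∧ ∃ w : X, f w = f x ∧ rtd f w = rtd f (genericPoint X) := by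
  let A := Γ(Spec (CommRingCat.of R), ⊤)
  let eA : R ≃+* A := (Scheme.ΓSpecIso (CommRingCat.of R)).symm.commRingCatIsoToRingEquiv
  have hdA : IsDomain A := eA.symm.toMulEquiv.isDomain _
  have hA : IsPruf A := isPruf_of_ringEquiv hR eA
  have hV : IsAffineOpen (⊤ : (Spec (CommRingCat.of R)).Opens) := isAffineOpen_top _
  obtain ⟨U', hU', hxU', -⟩ := exists_isAffineOpen_mem_and_subset (x := x) (U := (⊤ : X.Opens))
    trivial
  have e : U' ≤ f ⁻¹ᵁ ⊤ := le_top
  let φ := (f.appLE ⊤ U' e).hom
  have hφ : φ.FiniteType := f.finiteType_appLE hV hU' e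
  let B := Γ(X, U')
  let _ : Algebra A B := φ.toAlgebra
  have hft : Algebra.FiniteType A B := hφ
  let ξ := genericPoint ↑X
  have hξU : ξ ∈ U' := (genericPoint_specializes x).mem_open U'.2 hxU'
  let P : Ideal B := (hU'.primeIdealOf ⟨ξ, hξU⟩).asIdeal
  have hP : P.IsPrime := (hU'.primeIdealOf ⟨ξ, hξU⟩).isPrime
  let Q : Ideal B := (hU'.primeIdealOf ⟨x, hxU'⟩).asIdeal
  have hQ : Q.IsPrime := (hU'.primeIdealOf ⟨x, hxU'⟩).isPrime
  have hPQ : P ≤ Q := primeIdealOf_le_of_specializes hU' (genericPoint_specializes x) hxU' _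
  have hpt : ∀ (Q : Ideal Γ(X, U')) (_ : Q.IsPrime), ∃ (w : X) (hw : w ∈ U'),
      (hU'.primeIdealOf ⟨w, hw⟩).asIdeal = Q := by
    intro Q hQ
    have hw : hU'.fromSpec ⟨Q, hQ⟩ ∈ U' := by
      have := hU'.range_fromSpec
      exact this.le ⟨_, rfl⟩
    refine ⟨hU'.fromSpec ⟨Q, hQ⟩, hw, ?_⟩
    have h2 := hU'.fromSpec_primeIdealOf ⟨hU'.fromSpec ⟨Q, hQ⟩, hw⟩
    have h3 := hU'.fromSpec.isOpenEmbedding.injective h2
    rw [h3]
  have hcomap : ∀ (w : X) (hw : w ∈ U'), (hU'.primeIdealOf ⟨w, hw⟩).asIdeal.comap φ =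
      (hV.primeIdealOf ⟨f w, e hw⟩).asIdeal := fun w hw =>
    congrArg PrimeSpectrum.asIdeal (IsAffineOpen.comap_primeIdealOf_appLE ⊤ hV U' hU' e hw)
  have htd : ∀ (w : X) (hw : w ∈ U'),
      @td A B _ _ _ (hU'.primeIdealOf ⟨w, hw⟩).asIdeal (hU'.primeIdealOf ⟨w, hw⟩).isPrime =
        rtd f w := by
    intro w hw
    have h1 := rtd_eq_trd_quotientMap f hV hU' e w hw (e hw) _ rfl (hcomap w hw).ge
    rw [h1]
    have hp := (hU'.primeIdealOf ⟨w, hw⟩).isPrime
    rw [td_eq]
    have h2 : (hV.primeIdealOf ⟨f w, e hw⟩).asIdeal =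
      (hU'.primeIdealOf ⟨w, hw⟩).asIdeal.under A := (hcomap w hw).symm
    have h3 : ∀ (q : Ideal A) (hq : q = (hU'.primeIdealOf ⟨w, hw⟩).asIdeal.under A) h,
        Algebra.trdeg (A ⧸ (hU'.primeIdealOf ⟨w, hw⟩).asIdeal.under A)
          (B ⧸ (hU'.primeIdealOf ⟨w, hw⟩).asIdeal) =
        trd (Ideal.quotientMap (I := q) (hU'.primeIdealOf ⟨w, hw⟩).asIdeal φ h) := by
      rintro q rfl h
      rfl
    exact h3 _ h2 _
  constructor
  · have := td_le hA P Q hPQ
    rwa [htd, htd] at this
  · let q : Ideal A := Q.under A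
    obtain ⟨T, hT, hTQ⟩ := Ideal.exists_minimalPrimes_le
      (show P ⊔ q.map (algebraMap A B) ≤ Q from sup_le hPQ (Ideal.map_le_iff_le_comap.2 le_rfl))
    have hTp : T.IsPrime := hT.1.1
    have hTq : T.under A = q := by
      apply le_antisymm
      · exact Ideal.comap_mono hTQ
      · exact Ideal.map_le_iff_le_comap.1 (le_sup_right.trans hT.1.2)
    have hPT : P ≤ T := le_sup_left.trans hT.1.2
    obtain ⟨w, hw, hwT⟩ := hpt T hTp
    refine ⟨w, ?_, ?_⟩
    · have h1 := hcomap w hw
      have h2 := hcomap x hxU'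
      have h3 : (hU'.primeIdealOf ⟨w, hw⟩).asIdeal.comap φ =
          (hU'.primeIdealOf ⟨x, hxU'⟩).asIdeal.comap φ := by
        rw [hwT]
        exact hTq
      rw [h1, h2] at h3
      exact primeIdealOf_inj hV _ _ (PrimeSpectrum.ext h3)
    · rw [← htd w hw, ← htd ξ hξU]
      subst hwT
      let T' := (hU'.primeIdealOf ⟨w, hw⟩).asIdeal
      let Q' := T'.map (Ideal.Quotient.mk P)
      have hQ' : Q'.IsPrime := Ideal.map_isPrime_of_surjective Ideal.Quotient.mk_surjective
        (by rwa [Ideal.mk_ker])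
      have hc : Q'.comap (Ideal.Quotient.mk P) = T' := by
        rw [Ideal.comap_map_of_surjective _ Ideal.Quotient.mk_surjective, ← RingHom.ker_eq_comap_bot,
          Ideal.mk_ker, sup_eq_left.2 hPT]
      obtain ⟨r, hr1, hr2⟩ := K832.EquidimPruf.rtd_eq_of_minimal (hA.quotient (P.under A))
        (S := B ⧸ P) (algebraMap_quotient_injective P) (Q'.under (A ⧸ P.under A)) Q' (by
          intro Z hZ h1 h2
          have h3 : Z.comap (Ideal.Quotient.mk P) = T' := by
            refine le_antisymm ?_ (hT.2 ⟨inferInstance, ?_⟩ ?_)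
            · rw [← hc]
              exact Ideal.comap_mono h2
            · refine sup_le ?_ ?_
              · intro a ha
                rw [Ideal.mem_comap, Ideal.Quotient.eq_zero_iff_mem.2 ha]
                exact Z.zero_mem
              · rw [Ideal.map_le_iff_le_comap]
                intro a ha
                have h4 : Ideal.Quotient.mk (P.under A) a ∈ Q'.under (A ⧸ P.under A) := by
                  change Ideal.Quotient.mk P (algebraMap A B a) ∈ Q'
                  have h5 : a ∈ T'.under A := by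
                    rw [hTq]
                    exact ha
                  exact Ideal.mem_map_of_mem _ h5
                exact h1 (Ideal.mem_map_of_mem _ h4)
            · exact (Ideal.comap_mono h2).trans hc.le
          rw [← Ideal.map_comap_of_surjective _ Ideal.Quotient.mk_surjective Z, h3])
      rw [rtd_quotient P T' hPT Q' hc] at hr1
      rw [hr1, td_eq (R := A) P]
      exact hr2.symm

end Helpers

/-- Let R be a Prüfer domain (an integral domain whose localisations at primes are valuation rings), X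
an irreducible scheme and f : X ⟶ Spec R a dominant morphism of finite type. If the fibre of f over
a point γ of Spec R is nonempty, then it has the same dimension as the fibre over the generic point. -/
theorem result
    (R : Type u) [CommRing R] [IsDomain R]
    (hR : ∀ (p : Ideal R) [p.IsPrime], ValuationRing (Localization.AtPrime p))
    (X : Scheme.{u}) [IrreducibleSpace X] (f : X ⟶ Spec (CommRingCat.of R))
    [LocallyOfFiniteType f] [QuasiCompact f] [IsDominant f] (γ : Spec (CommRingCat.of R))
    (h0 : Nonempty ↥(f.fiber γ)) :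
    topologicalKrullDim ↥(f.fiber γ) =
      topologicalKrullDim ↥(f.fiber (genericPoint (Spec (CommRingCat.of R)))) := by
  obtain ⟨n, hn, hn'⟩ := S1387.exists_rtd_generic f
  have hdim : ∀ (s : Spec (CommRingCat.of R)) (x : X), f x = s →
      topologicalKrullDim ↥(f.fiber s) = n := by
    intro s x hx
    apply le_antisymm
    · apply Sga4h.GenULADim.topologicalKrullDim_fiber_le
      intro y _
      exact (chart R hR X f y).1.trans hn.le
    · obtain ⟨w, hw, hw'⟩ := (chart R hR X f x).2
      obtain ⟨z, hz⟩ := S1387.exists_fiber f s w (hw.trans hx)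
      obtain ⟨m, hm, hm'⟩ := CycB.RelDim.exists_dim_closure_fiber f s z
      rw [hz, hw', hn] at hm
      have hm2 : n = m := by exact_mod_cast hm
      rw [hm2, ← hm']
      exact topologicalKrullDim_subspace_le (f.fiber s) (closure {z})
  obtain ⟨z⟩ := h0
  rw [hdim γ _ (S1387.fiberι_map f γ z), hdim _ _ (S1387.map_genericPoint f)]

end Groth.Agent.S14733
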