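import Groth.Statements.S14734
import Groth.Agent.ValPrufer.K832.DimFun2
import Mathlib.RingTheory.Spectrum.Prime.Topology

set_option autoImplicit false
universe u
open ValPrufer

namespace Groth.Agent.S14734

theorem krullDim_lt_top {α : Type*} [PartialOrder α] (d : α → ℤ)
    (hd : ∀ {x y : α}, x < y → d y < d x) (a b : ℤ) (ha : ∀ x, a ≤ d x) (hb : ∀ x, d x ≤ b) :
    Order.krullDim α < ⊤ := by
  have h : Order.krullDim α ≤ ((b - a).toNat : ℕ∞) := by
    refine iSup_le fun s => ?_
    have h1 := K832.DimFun2.length_le d hd s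
    have h2 := ha s.last
    have h3 := hb s.head
    have h4 : s.length ≤ (b - a).toNat := by omega
    exact_mod_cast h4
  refine h.trans_lt ?_
  exact WithBot.coe_lt_coe.2 (ENat.natCast_lt_top _)

theorem main {R : Type u} [CommRing R] [IsDomain R] (hR : K832.Basic.IsPruf R)
    (hdim : ringKrullDim R < ⊤) {S : Type u} [CommRing S] [Algebra R S] [Algebra.FiniteType R S]
    (M : Submonoid S) (T : Type u) [CommRing T] [Algebra S T] [IsLocalization M T] :
    CAlg.IsCatenary T ∧ ringKrullDim T < ⊤ := by
  have := K832.FiniteSpec.finiteHeight_of_dim hdim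
  let φ : PrimeSpectrum T → PrimeSpectrum S := PrimeSpectrum.comap (algebraMap S T)
  have hlt : ∀ {x y : PrimeSpectrum T}, x < y → φ x < φ y := by
    intro x y h
    refine lt_of_le_of_ne (Ideal.comap_mono h.le) ?_
    intro heq
    exact h.ne (PrimeSpectrum.localization_comap_injective T M heq)
  have hcov : ∀ {x y : PrimeSpectrum T}, x ⋖ y → φ x ⋖ φ y := by
    intro x y h
    refine ⟨hlt h.1, fun z hxz hzy => ?_⟩
    have hdisj : Disjoint (M : Set S) (z.asIdeal : Set S) := by
      have h1 : Disjoint (M : Set S) ((φ y).asIdeal : Set S) :=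
        ((IsLocalization.isPrime_iff_isPrime_disjoint M T y.asIdeal).1 y.2).2
      exact h1.mono_right hzy.le
    have hz : z ∈ Set.range φ := by
      rw [PrimeSpectrum.localization_comap_range T M]
      exact hdisj
    obtain ⟨w, rfl⟩ := hz
    have hw1 : x < w := by
      refine lt_of_le_of_ne ?_ (fun heq => hxz.ne (by rw [heq]))
      exact (IsLocalization.under_le_under_iff M T).1 hxz.le
    have hw2 : w < y := by
      refine lt_of_le_of_ne ?_ (fun heq => hzy.ne (by rw [heq]))
      exact (IsLocalization.under_le_under_iff M T).1 hzy.le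
    exact h.2 hw1 hw2
  have h1 : ∀ {x y : PrimeSpectrum T}, x < y →
      K832.DimFun2.δ (R := R) (φ y) < K832.DimFun2.δ (R := R) (φ x) :=
    fun h => K832.DimFun2.δ_lt hR hdim (hlt h)
  refine ⟨K832.DimFun2.isCatenary_of_dimFun (fun x => K832.DimFun2.δ (R := R) (φ x)) h1
    (fun h => K832.DimFun2.δ_covBy hR hdim (hcov h)), ?_⟩
  obtain ⟨N, hN⟩ := K832.DimFun2.exists_td_bound (R := R) (S := S)
  obtain ⟨n, hn⟩ : ∃ n : ℕ, ∀ p : Ideal R, p.IsPrime → p.height ≤ n := by
    obtain ⟨n, hn⟩ : ∃ n : ℕ∞, ringKrullDim R = n := by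
      cases h : ringKrullDim R with
      | bot => exact absurd h ringKrullDim_ne_bot
      | coe a => exact ⟨a, rfl⟩
    have hn' : n ≠ ⊤ := by
      rintro rfl
      rw [hn] at hdim
      exact lt_irrefl _ hdim
    refine ⟨n.toNat, fun p hp => ?_⟩
    rw [ENat.natCast_toNat hn']
    have := Ideal.height_le_ringKrullDim_of_isPrime (I := p)
    rw [hn] at this
    exact_mod_cast this
  refine krullDim_lt_top _ h1 (-n) N (fun x => ?_) (fun x => ?_)
  · rw [K832.DimFun2.δ_eq]
    have h2 := ENat.toNat_le_of_le_natCast (hn ((φ x).asIdeal.under R) inferInstance)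
    have h3 : (0 : ℤ) ≤ (Cardinal.toNat (K832.DimFun.td (R := R) (φ x).asIdeal) : ℤ) :=
      Int.natCast_nonneg _
    omega
  · rw [K832.DimFun2.δ_eq]
    have h2 := hN (φ x)
    omega

/-- Let R be a Prüfer domain (an integral domain whose localisations at primes are valuation rings) of
finite Krull dimension and S an R-algebra of finite type. Then S, and every localisation T of S at a
multiplicative subset, is catenary and of finite Krull dimension. (The published statement is for a
scheme X of finite type over R and the spectrum of any semilocalisation of X; catenarity is local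
and finiteness of dimension is checked on a finite affine cover, so this row states the affine case
together with arbitrary localisations.) -/
theorem result
    (R : Type u) [CommRing R] [IsDomain R]
    (hR : ∀ (p : Ideal R) [p.IsPrime], ValuationRing (Localization.AtPrime p))
    (hdim : ringKrullDim R < ⊤)
    (S : Type u) [CommRing S] [Algebra R S] [Algebra.FiniteType R S]
    (M : Submonoid S) (T : Type u) [CommRing T] [Algebra S T] [IsLocalization M T] :
    CAlg.IsCatenary S ∧ ringKrullDim S < ⊤ ∧ CAlg.IsCatenary T ∧ ringKrullDim T < ⊤ := by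
  have : IsLocalization (⊥ : Submonoid S) S := IsLocalization.self (by simp)
  obtain ⟨h1, h2⟩ := main (R := R) hR hdim (⊥ : Submonoid S) S
  obtain ⟨h3, h4⟩ := main (R := R) hR hdim M T
  exact ⟨h1, h2, h3, h4⟩

end Groth.Agent.S14734
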