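import Groth.Statements.S14739
import Groth.Agent.ValPrufer.K832.FiniteSpec
import Mathlib.RingTheory.LocalRing.ResidueField.Fiber
import Mathlib.RingTheory.FiniteStability
import Mathlib.RingTheory.Spectrum.Prime.Noetherian

set_option autoImplicit false
universe u
open ValPrufer

namespace Groth.Agent.S14739

/-- An algebra of finite type over a ring with finite spectrum has a noetherian spectrum. -/
theorem noetherianSpace_of_finite {R : Type u} [CommRing R] [Finite (PrimeSpectrum R)]
    {S : Type u} [CommRing S] [Algebra R S] [Algebra.FiniteType R S] :
    TopologicalSpace.NoetherianSpace (PrimeSpectrum S) := by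
  rw [← TopologicalSpace.noetherian_univ_iff]
  have h : (Set.univ : Set (PrimeSpectrum S)) =
      ⋃ p : PrimeSpectrum R, PrimeSpectrum.comap (algebraMap R S) ⁻¹' {p} := by
    ext x
    simp
  rw [h]
  have : ∀ p : PrimeSpectrum R, TopologicalSpace.NoetherianSpace
      (PrimeSpectrum.comap (algebraMap R S) ⁻¹' {p}) := by
    intro p
    rw [TopologicalSpace.noetherianSpace_iff_of_homeomorph
      (PrimeSpectrum.preimageHomeomorphFiber R S p)]
    have : IsNoetherianRing (p.asIdeal.Fiber S) :=
      Algebra.FiniteType.isNoetherianRing p.asIdeal.ResidueField _
    infer_instance
  exact TopologicalSpace.NoetherianSpace.iUnion _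

/-- Let R be a semilocal Prüfer domain (an integral domain with finitely many maximal ideals whose
localisations at primes are valuation rings) of finite Krull dimension and S an R-algebra of finite
type. Then Spec S is a Noetherian topological space, and so is Spec T for every localisation T of S.
(The published remark is for a scheme of finite type over R and the spectrum of any
semilocalisation; the affine case with arbitrary localisations is stated.) -/
theorem result
    (R : Type u) [CommRing R] [IsDomain R]
    (hR : ∀ (p : Ideal R) [p.IsPrime], ValuationRing (Localization.AtPrime p))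
    (hfin : Finite (MaximalSpectrum R)) (hdim : ringKrullDim R < ⊤)
    (S : Type u) [CommRing S] [Algebra R S] [Algebra.FiniteType R S]
    (M : Submonoid S) (T : Type u) [CommRing T] [Algebra S T] [IsLocalization M T] :
    TopologicalSpace.NoetherianSpace (PrimeSpectrum S) ∧
      TopologicalSpace.NoetherianSpace (PrimeSpectrum T) := by
  have := K832.FiniteSpec.finite_primeSpectrum hR hfin hdim
  have h : TopologicalSpace.NoetherianSpace (PrimeSpectrum S) :=
    noetherianSpace_of_finite (R := R) (S := S)
  exact ⟨h, (PrimeSpectrum.localization_comap_isInducing T M).noetherianSpace⟩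

end Groth.Agent.S14739
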