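import Groth.Statements.S14743

set_option autoImplicit false
universe u
open CategoryTheory MonoidalCategory CartesianMonoidalCategory MonObj GrpObj AlgebraicGeometry
open AlgGrp

namespace Groth.Agent.S14743

/-- Over an algebraically closed field k let L, G, B be commutative k-group schemes, i : L → G and π : G
→ B homomorphisms with i the kernel of π, and suppose that every k-morphism B × B → L is constant
(factors through a k-point of L). If π admits a section which is a morphism of k-schemes, then it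
admits a section which is a homomorphism, so the extension splits. (The published statement is for
algebraic groups, that is, of finite type over k; finiteness plays no role and is not assumed here.) -/
theorem result (k : Type u) [Field k] [IsAlgClosed k]
    (L G B : Over (Spec (CommRingCat.of k))) [GrpObj L] [GrpObj G] [GrpObj B]
    [IsCommMonObj L] [IsCommMonObj G] [IsCommMonObj B]
    (i : L ⟶ G) [IsMonHom i] (π : G ⟶ B) [IsMonHom π] (hker : AlgGrp.IsKernel i π)
    (hconst : ∀ f : B ⊗ B ⟶ L, ∃ l : 𝟙_ (Over (Spec (CommRingCat.of k))) ⟶ L, f = toUnit (B ⊗ B) ≫ l)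
    (s : B ⟶ G) (hs : s ≫ π = 𝟙 B) :
    ∃ s' : B ⟶ G, IsMonHom s' ∧ s' ≫ π = 𝟙 B := by
  have h0 : (η[B] ≫ s) ≫ π = 1 := by
    rw [Category.assoc, hs, Category.comp_id, MonObj.one_eq_one]
  obtain ⟨s', hs'⟩ : ∃ s' : B ⟶ G, s' = s * (toUnit B ≫ η[B] ≫ s)⁻¹ := ⟨_, rfl⟩
  have hs'π : s' ≫ π = 𝟙 B := by
    have : (toUnit B ≫ η[B] ≫ s)⁻¹ ≫ π = 1 := by
      rw [GrpObj.inv_comp, Category.assoc, h0, MonObj.comp_one, inv_one]
    rw [hs', MonObj.mul_comp, hs, this, _root_.mul_one]
  have hs'1 : η[B] ≫ s' = 1 := by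
    rw [hs', MonObj.comp_mul, GrpObj.comp_inv, ← Category.assoc (η[B]) (toUnit B), toUnit_unique (η[B] ≫ toUnit B) (𝟙 _), Category.id_comp,
      mul_inv_cancel]
  obtain ⟨d, hd⟩ : ∃ d : B ⊗ B ⟶ G, d = (μ[B] ≫ s') * ((fst B B ≫ s') * (snd B B ≫ s'))⁻¹ := ⟨_, rfl⟩
  have hdπ : d ≫ π = 1 := by
    rw [hd, MonObj.mul_comp, GrpObj.inv_comp, MonObj.mul_comp, Category.assoc, Category.assoc, Category.assoc, hs'π,
      Category.comp_id, Category.comp_id, Category.comp_id, MonObj.mul_eq_mul, mul_inv_cancel]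
  have hd' : d ≫ π = toUnit (B ⊗ B) ≫ η[B] := hdπ
  obtain ⟨l, hl⟩ := hconst (hker.lift d (toUnit _) hd')
  have hdi : d = toUnit (B ⊗ B) ≫ l ≫ i := by
    rw [← Category.assoc, ← hl]
    exact (hker.lift_fst d (toUnit _) hd').symm
  have hd1 : lift η[B] η[B] ≫ d = 1 := by
    rw [hd, MonObj.comp_mul, GrpObj.comp_inv, MonObj.comp_mul, ← Category.assoc, ← Category.assoc, ← Category.assoc, lift_fst, lift_snd]
    have : lift η[B] η[B] ≫ μ[B] = η[B] := by
      rw [← Hom.mul_def, MonObj.one_eq_one, _root_.mul_one]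
    rw [this, hs'1, _root_.mul_one, inv_one, _root_.mul_one]
  have hli : l ≫ i = 1 := by
    rw [hdi] at hd1
    rw [← Category.assoc, toUnit_unique (lift η[B] η[B] ≫ toUnit (B ⊗ B)) (𝟙 _), Category.id_comp] at hd1
    exact hd1
  have hd2 : d = 1 := by
    rw [hdi, hli, MonObj.comp_one]
  refine ⟨s', ⟨?_, ?_⟩, hs'π⟩
  · rw [hs'1, MonObj.one_eq_one]
  · have h2 : μ[B] ≫ s' = (fst B B ≫ s') * (snd B B ≫ s') := mul_inv_eq_one.mp (hd.symm.trans hd2)
    rw [h2, Hom.mul_def]
    congr 1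

end Groth.Agent.S14743
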