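import Groth.Statements.S14747
import Groth.Agent.EtAdic.K833.Triv

set_option autoImplicit false
universe u
open CategoryTheory CategoryTheory.Limits AlgebraicGeometry
open EtAdic

namespace Groth.Agent.S14747

attribute [-instance] CategoryTheory.ReflQuiver.toQuiver

/-- Let k be an algebraically closed field, ℓ a prime invertible in k and ν ≥ 0; let π : X → Y be a
morphism of k-schemes of finite type which is an etale-locally trivial fibration with fibre a
connected k-scheme of finite type F, in the sense that for some etale surjective c : V → Y there is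
a V-isomorphism X ×_Y V ≅ V ×_k F. If H^r(F_et, Z/ℓ^ν) vanishes for every r > 0, then pullback along
π is a bijection H^r(Y_et, Z/ℓ^ν) → H^r(X_et, Z/ℓ^ν) for every r. (The published statement has any
finite coefficient group of order prime to the characteristic and k-varieties; coefficients Z/ℓ^ν
and finite-type k-schemes are taken here.) -/
theorem result (k : Type u) [Field k] [IsAlgClosed k]
    (ℓ : ℕ) [Fact ℓ.Prime] (hℓ : (ℓ : k) ≠ 0) (ν : ℕ)
    {X Y F V : Scheme.{u}} (qX : X ⟶ Spec (CommRingCat.of k)) (qY : Y ⟶ Spec (CommRingCat.of k)) (qF : F ⟶ Spec (CommRingCat.of k))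
    [LocallyOfFiniteType qX] [QuasiCompact qX] [LocallyOfFiniteType qY] [QuasiCompact qY]
    [LocallyOfFiniteType qF] [QuasiCompact qF] [ConnectedSpace ↥F]
    (π : X ⟶ Y) (hπ : π ≫ qY = qX) [hex : PreservesFiniteLimits (EtCoh.pull π)]
    (c : V ⟶ Y) [Etale c] [Surjective c]
    (e : pullback π c ≅ pullback (c ≫ qY) qF) (he : e.hom ≫ pullback.fst (c ≫ qY) qF = pullback.snd π c)
    (hF : ∀ r : ℕ, 0 < r → Subsingleton (EtAdic.Hmod F ℓ r ν)) (r : ℕ) :
    Function.Bijective (EtAdic.Hmap ℓ π hex r ν) := by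
  have hm : ((ℓ ^ ν : ℕ) : k) ≠ 0 := by
    rw [Nat.cast_pow]
    exact pow_ne_zero _ hℓ
  have hz : NeZero (ℓ ^ ν) := ⟨pow_ne_zero _ (Fact.out : ℓ.Prime).ne_zero⟩
  obtain ⟨s, hs⟩ := K833.PointAcyc.exists_point qF
  have hA := K833.PointAcyc.acyc_of_point qF s hs (ZMod (ℓ ^ ν)) hF
  have hP : IsPullback (e.hom ≫ pullback.snd (c ≫ qY) qF) (pullback.snd π c) qF (c ≫ qY) := by
    refine IsPullback.of_iso (IsPullback.of_hasPullback (c ≫ qY) qF).flip e.symm (Iso.refl _)
      (Iso.refl _) (Iso.refl _) ?_ ?_ ?_ ?_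
    · simp
    · simp [← he]
    · simp
    · simp
  have hB := K833.Triv.acyc_baseChange hm qF hP (ZMod (ℓ ^ ν)) (fun x => by
    rw [nsmul_eq_mul, ZMod.natCast_self, zero_mul]) hA
  exact K833.AcycDesc.HC_bijective (ZMod (ℓ ^ ν)) π
    (K833.AcycDesc.acyc_of_etale_cover (IsPullback.of_hasPullback π c) _
      (hB.of_iso (EtCore.pullConst c (ZMod (ℓ ^ ν))).symm)) r

end Groth.Agent.S14747
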