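import Groth.Statements.S14748
import Groth.Agent.EtAdic.K833.CdSeq
import Groth.Agent.S3499
import Groth.Agent.EtpbcA.CdTwoDim
import Groth.Agent.Sga3.H795.MaxTorDim
import Groth.Agent.Sga3.H780.AlmostCompl
import Groth.Agent.Sga3B.TorusAlgClosed
import Groth.Agent.Sga3.H824.Props

set_option autoImplicit false
universe u
open CategoryTheory CategoryTheory.Limits MonoidalCategory CartesianMonoidalCategory MonObj GrpObj AlgebraicGeometry
open EtAdic

namespace Groth.Agent.S14748

attribute [-instance] CategoryTheory.ReflQuiver.toQuiver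

/-- Let k be an algebraically closed field, ℓ a prime invertible in k, and G a semi-abelian variety over
k: a smooth connected commutative k-group scheme of finite type with a closed subgroup scheme i : T
→ G which is a split torus of rank n and is the kernel of a flat surjective homomorphism π : G → A
onto an abelian variety A (proper, smooth, connected k-group scheme) of dimension g. Then H^r(G_et,
Z/ℓ^ν) = 0 for every ν and every r > 2g + n. (The published statement is for rational ℓ-adic
coefficients; the vanishing is stated here at each finite level Z/ℓ^ν, which is what the published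
proof gives.) -/
theorem result (k : Type u) [Field k] [IsAlgClosed k]
    (ℓ : ℕ) [Fact ℓ.Prime] (hℓ : (ℓ : k) ≠ 0)
    (G T A : Over (Spec (CommRingCat.of k))) [GrpObj G] [GrpObj T] [GrpObj A] [IsCommMonObj G]
    [Smooth G.hom] [QuasiCompact G.hom] [ConnectedSpace ↥G.left]
    [IsProper A.hom] [Smooth A.hom] [ConnectedSpace ↥A.left]
    (n : ℕ) (hT : Red.IsSplitTorusWith (Fin n → ℤ) T) (i : T ⟶ G) [IsMonHom i] [IsClosedImmersion i.left]
    (π : G ⟶ A) [IsMonHom π] [Flat π.left] [Surjective π.left] (hker : AlgGrp.IsKernel i π)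
    (g : ℕ) (hg : topologicalKrullDim ↥A.left = g) (ν r : ℕ) (hr : 2 * g + n < r) :
    Subsingleton (EtAdic.Hmod G.left ℓ r ν) := by
  have hTt : Red.IsTorus T := Groth.Agent.Sga3.H824.Props.isTorus_of_isSplitTorusWith hT
  have hTa : IsAffineHom T.hom := Groth.Agent.Sga3B.TorusAlgClosed.isAffineHom_of_isTorus hTt
  have hTs : Smooth T.hom := Groth.Agent.Sga3B.TorusAlgClosed.smooth_of_isTorus hTt
  have hTd : topologicalKrullDim ↥T.left = n :=
    Groth.Agent.Sga3.H795.MaxTorDim.topologicalKrullDim_of_split hT
  have hm : ((ℓ ^ ν : ℕ) : k) ≠ 0 := by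
    rw [Nat.cast_pow]
    exact pow_ne_zero _ hℓ
  have hm0 : 0 < ℓ ^ ν := pow_pos (Fact.out : ℓ.Prime).pos _
  have hz : NeZero (ℓ ^ ν) := ⟨hm0.ne'⟩
  have hqc : QuasiCompact π.left := by
    have : QuasiCompact (π.left ≫ A.hom) := by rw [Over.w]; infer_instance
    exact QuasiCompact.of_comp π.left A.hom
  have hGn : IsLocallyNoetherian G.left := LocallyOfFiniteType.isLocallyNoetherian G.hom
  have hqs : QuasiSeparated π.left := inferInstance
  have hπ : Smooth π.left := Groth.Agent.Sga3.H780.AlmostCompl.smooth_of_kernel i π hker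
  refine K833.CdSeq.subsingleton_H hm i π hker (ZMod (ℓ ^ ν)) (fun x => by
    rw [nsmul_eq_mul, ZMod.natCast_self, zero_mul]) n (2 * g) ?_
    (Groth.Agent.EtpbcA.CdTwoDim.cohDimLE_two_mul A.left A.hom g hg.le) r hr
  intro q hq
  refine Groth.Agent.S3499.result k T.hom (𝟙 _) T.hom (Category.comp_id _) _
    (Groth.Agent.EtpbcB.TorsionBasic.isTorsion_of_killedBy hm0
      (Groth.Agent.Etrest.ConstBasic.killedBy_const _ _ _ fun x => by
        rw [nsmul_eq_mul, ZMod.natCast_self, zero_mul])) n (fun x _ => ?_) q hq
  rw [← hTd]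
  exact isClosed_closure.isClosedEmbedding_subtypeVal.isInducing.topologicalKrullDim_le

end Groth.Agent.S14748
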