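import Groth.Statements.S14749
import Groth.Agent.EtAdic.K833.OddVanish

set_option autoImplicit false
universe u
open CategoryTheory CategoryTheory.Limits MonoidalCategory CartesianMonoidalCategory MonObj GrpObj AlgebraicGeometry
open EtAdic

namespace Groth.Agent.S14749

attribute [-instance] CategoryTheory.ReflQuiver.toQuiver

/-- Let k be an algebraically closed field, ℓ a prime invertible in k, G a semisimple group variety over
k, B a Borel subgroup and X = G/B the quotient with its G-action and base point. Then H^r(X_et,
Z/ℓ^ν) = 0 for every odd r and every ν. (The published statement allows any finite coefficient group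
of order prime to the characteristic; coefficients Z/ℓ^ν are taken here.) -/
theorem result (k : Type u) [Field k] [IsAlgClosed k]
    (ℓ : ℕ) [Fact ℓ.Prime] (hℓ : (ℓ : k) ≠ 0)
    (G : Over (Spec (CommRingCat.of k))) [GrpObj G] (hG : Red.IsSemisimpleOver k G)
    (B : Over (Spec (CommRingCat.of k))) [GrpObj B] (iB : B ⟶ G) (hB : Red.IsBorelOver k iB)
    (X : Over (Spec (CommRingCat.of k))) (a : AlgGrp.Action G X) (o : 𝟙_ (Over (Spec (CommRingCat.of k))) ⟶ X)
    (hX : AGF.IsQuotient iB X a o) (ν r : ℕ) (hr : Odd r) :
    Subsingleton (EtAdic.Hmod X.left ℓ r ν) :=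
  K833.OddVanish.main k (ℓ ^ ν) (by
    rw [Nat.cast_pow]
    exact pow_ne_zero _ hℓ) hG.1 hB hX r hr

end Groth.Agent.S14749
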