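import Groth.Statements.S14750
import Groth.Agent.EtAdic.K833.BorFib
import Groth.Agent.EtAdic.K833.SwapMul
import Groth.Agent.EtAdic.K833.VecAcyc
import Groth.Agent.Sga3B.Parab.PbK2BFin
import Groth.Agent.Sga3B.Parab.DynLevi998
import Groth.Agent.Sga3B.AlgBc2
import Groth.Agent.RedSub.H659.UVec

set_option autoImplicit false
universe u
open CategoryTheory CategoryTheory.Limits MonoidalCategory CartesianMonoidalCategory MonObj GrpObj AlgebraicGeometry
open EtAdic

namespace Groth.Agent.S14750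

attribute [-instance] CategoryTheory.ReflQuiver.toQuiver

/-- Let k be an algebraically closed field, ℓ a prime invertible in k, G a semisimple group variety over
k, B a Borel subgroup, T a maximal torus of G inside B, and X_T = G/T, X_B = G/B the quotients with
their G-actions and base points; let p : X_T → X_B be the G-equivariant morphism carrying base point
to base point. Then pullback along p is a bijection H^r((X_B)_et, Z/ℓ^ν) → H^r((X_T)_et, Z/ℓ^ν) for
all r and ν. (The published statement allows any finite coefficient group of order prime to the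
characteristic, and prints the arrow from the cohomology of G/T to that of G/B; the map is the
pullback along G/T → G/B, as in the published proof.) -/
theorem result (k : Type u) [Field k] [IsAlgClosed k]
    (ℓ : ℕ) [Fact ℓ.Prime] (hℓ : (ℓ : k) ≠ 0)
    (G : Over (Spec (CommRingCat.of k))) [GrpObj G] (hG : Red.IsSemisimpleOver k G)
    (B : Over (Spec (CommRingCat.of k))) [GrpObj B] (iB : B ⟶ G) (hB : Red.IsBorelOver k iB)
    (T : Over (Spec (CommRingCat.of k))) [GrpObj T] (j : T ⟶ B) [IsMonHom j] (hT : AGF.IsMaxTorus (j ≫ iB))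
    (XT : Over (Spec (CommRingCat.of k))) (aT : AlgGrp.Action G XT) (oT : 𝟙_ (Over (Spec (CommRingCat.of k))) ⟶ XT)
    (hXT : AGF.IsQuotient (j ≫ iB) XT aT oT)
    (XB : Over (Spec (CommRingCat.of k))) (aB : AlgGrp.Action G XB) (oB : 𝟙_ (Over (Spec (CommRingCat.of k))) ⟶ XB)
    (hXB : AGF.IsQuotient iB XB aB oB)
    (p : XT ⟶ XB) (hpo : oT ≫ p = oB) (hpa : aT.act ≫ p = (G ◁ p) ≫ aB.act)
    [hex : PreservesFiniteLimits (EtCoh.pull p.left)] (ν r : ℕ) :
    Function.Bijective (EtAdic.Hmap ℓ p.left hex r ν) := by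
  have hGr : Red.IsReductive G := Groth.Agent.Sga3B.AlgBc.isReductive_iff.2 hG.1
  have hGa : IsAffine G.left := hG.1.1
  have hGah : IsAffineHom G.hom := hGr.1
  have hGs : Smooth G.hom := hG.1.2.1
  have hBm : IsMonHom iB := hB.1
  have hBc : IsClosedImmersion iB.left := hB.2.1
  have hBs : Smooth B.hom := hB.2.2.1
  have hTm := hT.1
  have hTmono : Mono (j ≫ iB) := hT.2.1
  have hjmono : Mono j := mono_of_mono j iB
  have hBmono : Mono iB := by
    have : Mono ((Over.forget _).map iB) := inferInstanceAs (Mono iB.left)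
    exact (Over.forget _).mono_of_mono_map this
  have hjmax : Red.IsMaximalTorus j := Groth.Agent.Sga3B.AlgBc.isMaximalTorus_iff.2
    ⟨inferInstance, inferInstance, hT.2.2.1, fun T' _ j' _ _ f hT' hf =>
      hT.2.2.2 T' (j' ≫ iB) f hT' (by rw [← Category.assoc, hf])⟩
  obtain ⟨-, mu, hmu, hP, hZ⟩ :=
    Groth.Agent.Sga3B.Parab.PbK2BFin.dynK2B k G B iB hG.1 hB T j hjmax
  obtain ⟨U, _, u', hU', hUc⟩ :=
    Groth.Agent.Sga3B.Parab.DynExist998.exists_isDynU (mu ≫ j ≫ iB)
  obtain ⟨u, rfl⟩ := Groth.Agent.Sga3B.Parab.DynLevi998.exists_uP hP hU'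
  have hum : IsMonHom u := Groth.Agent.Sga3B.Parab.DynLevi998.isMonHom_uP hP hU'
  have h1 := Groth.Agent.Sga3B.Parab.DynLevi998.isIso_levi hP hZ hU'
  have h2 : IsIso ((u ⊗ₘ j) ≫ μ[B]) := K833.SwapMul.isIso_swap j u
  obtain ⟨E, _, _, _, _, ⟨e⟩⟩ := Groth.Agent.RedSub.H659.UVec.exists_vec hU'
  have hm : ((ℓ ^ ν : ℕ) : k) ≠ 0 := by
    rw [Nat.cast_pow]
    exact pow_ne_zero _ hℓ
  have hz : NeZero (ℓ ^ ν) := ⟨pow_ne_zero _ (Fact.out : ℓ.Prime).ne_zero⟩
  have hM : ∀ x : ZMod (ℓ ^ ν), (ℓ ^ ν) • x = 0 := fun x => by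
    rw [nsmul_eq_mul, ZMod.natCast_self, zero_mul]
  have hUa := K833.VecAcyc.acyc_vec hm U E e (ZMod (ℓ ^ ν)) hM
  have hUh : U.hom = (u ≫ iB).left ≫ G.hom := (Over.w _).symm
  have hU1 : LocallyOfFiniteType U.hom := by rw [hUh]; infer_instance
  have hU2 : QuasiCompact U.hom := by rw [hUh]; infer_instance
  exact K833.AcycDesc.HC_bijective (ZMod (ℓ ^ ν)) p.left
    (K833.BorFib.acyc_main hm iB j u aT oT hXT aB oB hXB p hpo hpa (ZMod (ℓ ^ ν)) hM hUa) r

end Groth.Agent.S14750
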