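import Groth.Statements.S14752
import Groth.Agent.EtAdic.K833.TorFin
import Groth.Agent.EtAdic.K98.BettiCard

set_option autoImplicit false
universe u
open CategoryTheory CategoryTheory.Limits MonoidalCategory CartesianMonoidalCategory MonObj GrpObj AlgebraicGeometry
open EtAdic

namespace Groth.Agent.S14752

/-- Let k be an algebraically closed field, ℓ a prime invertible in k and G a commutative group variety
over k (smooth connected commutative k-group scheme of finite type). Then for every r the Betti
number b_r(G) equals the binomial coefficient b_1(G) choose r, where b_r denotes the ℓ-adic Betti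
numbers b_r(−) = dim H^r(−, Q_ℓ), read off from lim_ν H^r(−, Z/ℓ^ν) as its Z_ℓ-rank. (The published
statement is an isomorphism of graded Q_ℓ-algebras between the cohomology ring of G and the exterior
algebra on H^1(G, Q_ℓ); this row records the resulting dimensions.) -/
theorem result (k : Type u) [Field k] [IsAlgClosed k]
    (ℓ : ℕ) [Fact ℓ.Prime] (hℓ : (ℓ : k) ≠ 0)
    (G : Over (Spec (CommRingCat.of k))) [GrpObj G] [IsCommMonObj G] [Smooth G.hom] [QuasiCompact G.hom] [ConnectedSpace ↥G.left]
    (r : ℕ) :
    EtAdic.betti G.left ℓ r = Nat.choose (EtAdic.betti G.left ℓ 1) r := by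
  obtain ⟨b, -, hb⟩ := K833.TorFin.card ℓ hℓ G
  rw [K98.BettiCard.betti_eq G.left ℓ (fun r => Nat.choose b r) hb r,
    K98.BettiCard.betti_eq G.left ℓ (fun r => Nat.choose b r) hb 1, Nat.choose_one_right]

end Groth.Agent.S14752
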