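import Groth.Statements.S14753
import Groth.Agent.EtAdic.K810.Fin
import Groth.Agent.EtAdic.K833.TorFin
import Groth.Agent.EtAdic.K522.ExactOne
import Groth.Agent.EtAdic.K522.LHGroup
import Groth.Agent.EtAdic.K112.LHMain

set_option autoImplicit false
universe u
open CategoryTheory CategoryTheory.Limits MonoidalCategory CartesianMonoidalCategory MonObj GrpObj AlgebraicGeometry
open EtAdic

attribute [-instance] CategoryTheory.ReflQuiver.toQuiver

namespace Groth.Agent.S14753

/-- Let k be an algebraically closed field, ℓ a prime invertible in k, and e → K → G → Q → e an exact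
sequence of group varieties over k: G, K, Q smooth connected k-group schemes of finite type, i : K →
G a closed subgroup scheme which is the kernel of a flat surjective homomorphism π : G → Q. Then for
every r, b_r(G) = Σ_{s+t=r} b_s(K) b_t(Q), where b denotes the ℓ-adic Betti numbers b_r(−) = dim
H^r(−, Q_ℓ), read off from lim_ν H^r(−, Z/ℓ^ν) as its Z_ℓ-rank. (The published statement gives an
isomorphism of graded Q_ℓ-algebras H^*(K) ⊗ H^*(Q) ≅ H^*(G), built from π^* and an algebra section
of the restriction to K; this row records the resulting dimensions.) -/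
theorem result (k : Type u) [Field k] [IsAlgClosed k]
    (ℓ : ℕ) [Fact ℓ.Prime] (hℓ : (ℓ : k) ≠ 0)
    (K G Q : Over (Spec (CommRingCat.of k))) [GrpObj K] [GrpObj G] [GrpObj Q]
    [Smooth K.hom] [QuasiCompact K.hom] [ConnectedSpace ↥K.left]
    [Smooth G.hom] [QuasiCompact G.hom] [ConnectedSpace ↥G.left]
    [Smooth Q.hom] [QuasiCompact Q.hom] [ConnectedSpace ↥Q.left]
    (i : K ⟶ G) [IsMonHom i] [IsClosedImmersion i.left]
    (π : G ⟶ Q) [IsMonHom π] [Flat π.left] [Surjective π.left] (hker : AlgGrp.IsKernel i π) (r : ℕ) :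
    EtAdic.betti G.left ℓ r =
      ∑ s ∈ Finset.range (r + 1), EtAdic.betti K.left ℓ s * EtAdic.betti Q.left ℓ (r - s) := by
  have gK : K810.Ex.GVar K := ⟨inferInstance, inferInstance, inferInstance⟩
  have gG : K810.Ex.GVar G := ⟨inferInstance, inferInstance, inferInstance⟩
  have gQ : K810.Ex.GVar Q := ⟨inferInstance, inferInstance, inferInstance⟩
  refine K810.Fin.main hℓ ?_ ?_ ?_ ?_ i π ⟨inferInstance, inferInstance, inferInstance, inferInstance,
    inferInstance, hker⟩ r
  · intro S _ _ _ ν
    exact K833.TorFin.card_one ℓ hℓ S ν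
  · intro K G Q _ _ _ _ _ _ i π h ν x hx
    have h1 := h.hπ
    have h2 := h.flat
    have h3 := h.surj
    exact K522.ExactOne.exact_one ℓ hℓ K G Q i π h.ker ν x hx
  · intro K G Q _ _ _ _ _ _ i π h hcls r
    have h1 := h.hπ
    have h2 := h.flat
    have h3 := h.surj
    have w : i.left ≫ π.left = K.hom ≫ (η[Q] : 𝟙_ (Over (Spec (CommRingCat.of k))) ⟶ Q).left := by
      rw [← Over.comp_left, h.ker.w, Over.comp_left, Over.toUnit_left]
    obtain ⟨hbc, hconst⟩ := K522.LHGroup.inputs ℓ hℓ K G Q i π h.ker _ rfl w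
    exact K112.LH.main π.left _ i.left K.hom w ℓ hbc (fun ν t => by
        obtain ⟨M, i1, i2, -, h4⟩ := hconst ν t
        exact ⟨M, i1, i2, h4⟩) hcls
      (fun j => K359.BettiU.finite_Hmod ℓ hℓ G.hom j 1) (fun j => K359.BettiU.finite_Hmod ℓ hℓ Q.hom j 1)
      (fun j => K359.BettiU.finite_Hmod ℓ hℓ K.hom j 1) r
  · intro S _ _ _ h0
    obtain ⟨b, hb, -⟩ := K833.TorFin.card ℓ hℓ S
    rw [h0] at hb
    exact pow_ne_zero b (Fact.out : ℓ.Prime).ne_zero hb.symm

end Groth.Agent.S14753
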