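import Groth.Statements.S14755
import Groth.Agent.EtAdic.K833.TransTriv
import Groth.Agent.EtAdic.K833.Transfer
import Groth.Agent.EtAdic.K833.HlTransfer

set_option autoImplicit false
universe u
open CategoryTheory CategoryTheory.Limits MonoidalCategory CartesianMonoidalCategory MonObj GrpObj AlgebraicGeometry
open EtAdic

namespace Groth.Agent.S14755

attribute [-instance] CategoryTheory.ReflQuiver.toQuiver

/-- Let k be an algebraically closed field, ℓ a prime invertible in k, and φ : G → H an isogeny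
(surjective homomorphism with finite kernel) of group varieties over k (smooth connected k-group
schemes of finite type). Then pullback along φ is an isomorphism H^n(H, Q_ℓ) → H^n(G, Q_ℓ) for every
n, stated on T = lim_ν H^n(−, Z/ℓ^ν): every compatible family on H pulled back to zero at every
level is torsion, and every compatible family on G has a positive multiple which is, level by level,
the pullback of a compatible family on H. -/
theorem result (k : Type u) [Field k] [IsAlgClosed k]
    (ℓ : ℕ) [Fact ℓ.Prime] (hℓ : (ℓ : k) ≠ 0)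
    (G H : Over (Spec (CommRingCat.of k))) [GrpObj G] [GrpObj H]
    [Smooth G.hom] [QuasiCompact G.hom] [ConnectedSpace ↥G.left]
    [Smooth H.hom] [QuasiCompact H.hom] [ConnectedSpace ↥H.left]
    (φ : G ⟶ H) [IsMonHom φ] (hφ : SGA7.IsIsogenyOver φ)
    [hex : PreservesFiniteLimits (EtCoh.pull φ.left)] (n : ℕ) :
    (∀ x ∈ EtAdic.Hl H.left ℓ n, (∀ ν : ℕ, EtAdic.Hmap ℓ φ.left hex n ν (x ν) = 0) →
        ∃ N : ℕ, 0 < N ∧ N • x = 0) ∧
      (∀ y ∈ EtAdic.Hl G.left ℓ n, ∃ N : ℕ, 0 < N ∧ ∃ x ∈ EtAdic.Hl H.left ℓ n,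
        ∀ ν : ℕ, N • y ν = EtAdic.Hmap ℓ φ.left hex n ν (x ν)) := by
  have hLG : IsLocallyNoetherian G.left := LocallyOfFiniteType.isLocallyNoetherian G.hom
  have hLH : IsLocallyNoetherian H.left := LocallyOfFiniteType.isLocallyNoetherian H.hom
  have hqc : QuasiCompact φ.left := by
    have h1 : QuasiCompact (φ.left ≫ H.hom) := by rw [Over.w φ]; infer_instance
    exact QuasiCompact.of_comp φ.left H.hom
  have hs : Surjective φ.left := hφ.1
  let i := pullback.fst φ (η[H] : 𝟙_ (Over (Spec (CommRingCat.of k))) ⟶ H)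
  have hi : AlgGrp.IsKernel i φ := by
    have h2 := IsPullback.of_hasPullback φ (η[H] : 𝟙_ (Over (Spec (CommRingCat.of k))) ⟶ H)
    rw [toUnit_unique (pullback.snd φ (η[H] : 𝟙_ (Over (Spec (CommRingCat.of k))) ⟶ H)) (toUnit _)] at h2
    exact h2
  have hN := hφ.2 _ i hi
  have hfin : IsFinite φ.left := Groth.Agent.Sga7.H758.FieldHom.isFinite_of_isFinite_ker φ i hi
  have hred : IsReduced H.left := Groth.Agent.Flat2B.SmoothGeom.isReduced_of_smooth H.hom
  have hflat : Flat φ.left := Groth.Agent.Sga7.H758.FieldHom.flat_of_surjective k φ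
  have hfp : LocallyOfFinitePresentation φ.left := by
    have h3 : LocallyOfFiniteType (φ.left ≫ H.hom) := by rw [Over.w φ]; infer_instance
    have h4 : LocallyOfFiniteType φ.left := locallyOfFiniteType_of_comp φ.left H.hom
    infer_instance
  have huo : UniversallyOpen φ.left := inferInstance
  have hfK : Finite (K833.IsogGal.kerPts φ) := K833.IsogGal.finite_kerPts φ i hi
  have : Fintype (K833.IsogGal.kerPts φ) := Fintype.ofFinite _
  let D := K833.IsogGal.galData φ i hi
  have hz : NeZero (ℓ ^ 1) := ⟨pow_ne_zero _ (Fact.out : ℓ.Prime).ne_zero⟩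
  refine K833.HlTransfer.main ℓ φ.left hex n (Fintype.card (K833.IsogGal.kerPts φ)) Fintype.card_pos
    (fun ν => K833.Transfer.tm D (ZMod (ℓ ^ ν)) n) (fun ν c => ?_) (fun ν a => ?_)
  · rw [K833.Transfer.HC_tm]
    have hz : NeZero (ℓ ^ ν) := ⟨pow_ne_zero _ (Fact.out : ℓ.Prime).ne_zero⟩
    have hm : ((ℓ ^ ν : ℕ) : k) ≠ 0 := by
      rw [Nat.cast_pow]
      exact pow_ne_zero _ hℓ
    rw [Finset.sum_congr rfl fun g _ => K833.TransTriv.HC_rt hm G g.1 (ZMod (ℓ ^ ν))
      (fun x => by rw [nsmul_eq_mul, ZMod.natCast_self, zero_mul]) n c]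
    rw [Finset.sum_const, Finset.card_univ]
  · exact K833.Transfer.tm_HC D (ZMod (ℓ ^ ν)) n a

end Groth.Agent.S14755
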