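import Groth.Statements.S14758
import Groth.Agent.Etcore.HC

set_option autoImplicit false
universe u
open CategoryTheory CategoryTheory.Limits MonoidalCategory CartesianMonoidalCategory MonObj GrpObj AlgebraicGeometry
open EtAdic

namespace Groth.Agent.S14758

/-- Let k be a field, ℓ, ν natural numbers, G and G' commutative k-group schemes and φ, ψ : G → G'
homomorphisms. If x ∈ H^r(G'_et, Z/ℓ^ν) is primitive, that is m^*x = p_1^*x + p_2^*x for the
multiplication m and the projections p_1, p_2 of G' × G', then (φ + ψ)^*x = φ^*x + ψ^*x, where φ + ψ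
is the sum in the group of homomorphisms. (The published lemma is for H^r_T(−, L) with T any of the
Zariski, étale or flat topologies and L any commutative algebraic group as coefficients; this row is
its case T = étale, L = Z/ℓ^ν constant, the one used later.) -/
theorem result (k : Type u) [Field k] (ℓ ν r : ℕ)
    (G G' : Over (Spec (CommRingCat.of k))) [GrpObj G] [GrpObj G'] [IsCommMonObj G] [IsCommMonObj G']
    (φ ψ : G ⟶ G') [IsMonHom φ] [IsMonHom ψ]
    [hm : PreservesFiniteLimits (EtCoh.pull (μ[G']).left)]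
    [h1 : PreservesFiniteLimits (EtCoh.pull (fst G' G').left)]
    [h2 : PreservesFiniteLimits (EtCoh.pull (snd G' G').left)]
    [hφ : PreservesFiniteLimits (EtCoh.pull φ.left)] [hψ : PreservesFiniteLimits (EtCoh.pull ψ.left)]
    [hs : PreservesFiniteLimits (EtCoh.pull (φ * ψ).left)]
    (x : EtAdic.Hmod G'.left ℓ r ν)
    (hx : EtAdic.Hmap ℓ (μ[G']).left hm r ν x =
      EtAdic.Hmap ℓ (fst G' G').left h1 r ν x + EtAdic.Hmap ℓ (snd G' G').left h2 r ν x) :
    EtAdic.Hmap ℓ (φ * ψ).left hs r ν x = EtAdic.Hmap ℓ φ.left hφ r ν x + EtAdic.Hmap ℓ ψ.left hψ r ν x := by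
  have hc (f : G ⟶ G' ⊗ G') (t : G' ⊗ G' ⟶ G') (f₀ : G ⟶ G') (w : f ≫ t = f₀) (y : EtAdic.Hmod G'.left ℓ r ν) :
      Groth.Agent.Etcore.HC.HC (ZMod (ℓ ^ ν)) f.left r (Groth.Agent.Etcore.HC.HC (ZMod (ℓ ^ ν)) t.left r y) =
        Groth.Agent.Etcore.HC.HC (ZMod (ℓ ^ ν)) f₀.left r y :=
    Groth.Agent.Etcore.HC.HC_HC _ f.left t.left f₀.left (by rw [← w]; rfl) r y
  have h0 := hc (lift φ ψ) μ[G'] (φ * ψ) rfl x
  have h1' := hc (lift φ ψ) (fst G' G') φ (lift_fst φ ψ) x
  have h2' := hc (lift φ ψ) (snd G' G') ψ (lift_snd φ ψ) x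
  have h3 := congrArg (Groth.Agent.Etcore.HC.HC (ZMod (ℓ ^ ν)) (lift φ ψ).left r) hx
  have h4 := (Groth.Agent.Etcore.HC.HC (ZMod (ℓ ^ ν)) (lift φ ψ).left r).map_add
    (Groth.Agent.Etcore.HC.HC (ZMod (ℓ ^ ν)) (fst G' G').left r x)
    (Groth.Agent.Etcore.HC.HC (ZMod (ℓ ^ ν)) (snd G' G').left r x)
  exact h0.symm.trans (h3.trans (h4.trans (congrArg₂ (· + ·) h1' h2')))

end Groth.Agent.S14758
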