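import Groth.Statements.S14761
import Groth.Agent.EtAdic.K833.TrivRpush

set_option autoImplicit false
universe u
open CategoryTheory CategoryTheory.Limits AlgebraicGeometry
open EtAdic

namespace Groth.Agent.S14761

attribute [-instance] CategoryTheory.ReflQuiver.toQuiver

/-- Let k be an algebraically closed field, ℓ a prime invertible in k, ν ≥ 0, and π : X → Y a morphism
of k-schemes of finite type which is an etale-locally trivial fibration with fibre a k-scheme of
finite type F (after some etale surjective base change V → Y, X ×_Y V ≅ V ×_k F over V). Assume that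
for every q the group H^q(F_et, Z/ℓ^ν) is free as a Z/ℓ^ν-module, expressed by the count #H^q =
(#H^q[ℓ])^ν. Then for every q the higher direct image R^qπ_*(Z/ℓ^ν) is a finite locally constant
sheaf on Y_et, and its stalk at any geometric point ȳ is isomorphic to H^q of the fibre X_ȳ with
coefficients Z/ℓ^ν (existence of an isomorphism). -/
theorem result (k : Type u) [Field k] [IsAlgClosed k]
    (ℓ : ℕ) [Fact ℓ.Prime] (hℓ : (ℓ : k) ≠ 0) (ν : ℕ)
    {X Y F V : Scheme.{u}} (qX : X ⟶ Spec (CommRingCat.of k)) (qY : Y ⟶ Spec (CommRingCat.of k)) (qF : F ⟶ Spec (CommRingCat.of k))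
    [LocallyOfFiniteType qX] [QuasiCompact qX] [LocallyOfFiniteType qY] [QuasiCompact qY]
    [LocallyOfFiniteType qF] [QuasiCompact qF]
    (π : X ⟶ Y) (hπ : π ≫ qY = qX)
    (c : V ⟶ Y) [Etale c] [Surjective c]
    (e : pullback π c ≅ pullback (c ≫ qY) qF) (he : e.hom ≫ pullback.fst (c ≫ qY) qF = pullback.snd π c)
    (hfree : ∀ q : ℕ, Nat.card (EtAdic.Hmod F ℓ q ν) =
      Nat.card {x : EtAdic.Hmod F ℓ q ν // ℓ • x = 0} ^ ν) (q : ℕ) :
    EtCoh.IsFiniteLocallyConstant ((EtCoh.Rpush π q).obj (EtCoh.const X (ZMod (ℓ ^ ν)))) ∧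
      ∀ (Ω : Type u) [Field Ω] [IsSepClosed Ω] (ξ : Spec (CommRingCat.of Ω) ⟶ Y),
        Nonempty ((EtCoh.stalk ξ).obj ((EtCoh.Rpush π q).obj (EtCoh.const X (ZMod (ℓ ^ ν)))) ≅
          AddCommGrpCat.of (EtAdic.Hmod (pullback π ξ) ℓ q ν)) := by
  have hm : ((ℓ ^ ν : ℕ) : k) ≠ 0 := by
    rw [Nat.cast_pow]
    exact pow_ne_zero _ hℓ
  have hz : NeZero (ℓ ^ ν) := ⟨pow_ne_zero _ (Fact.out : ℓ.Prime).ne_zero⟩
  have hP : IsPullback (e.hom ≫ pullback.snd (c ≫ qY) qF) (pullback.snd π c) qF (c ≫ qY) := by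
    refine IsPullback.of_iso (IsPullback.of_hasPullback (c ≫ qY) qF).flip e.symm (Iso.refl _)
      (Iso.refl _) (Iso.refl _) ?_ ?_ ?_ ?_
    · simp
    · simp [← he]
    · simp
    · simp
  obtain ⟨h1, h2⟩ := K833.TrivRpush.main hm π c (IsPullback.of_hasPullback π c) qF hP
    (ZMod (ℓ ^ ν)) (fun x => by rw [nsmul_eq_mul, ZMod.natCast_self, zero_mul]) q
  exact ⟨h1, fun Ω _ _ ξ => h2 Ω ξ (IsPullback.of_hasPullback π ξ)⟩

end Groth.Agent.S14761
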