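import Groth.Statements.S4368
import Groth.Agent.Ega1.ReducedSub

set_option autoImplicit false
universe u
open RedSep

namespace Groth.Agent.S4368

open AlgebraicGeometry in
open CategoryTheory in
/-- Let X be a scheme and I a quasi-coherent sheaf of ideals of O_X whose support is all of X, so that
the closed subscheme it defines has underlying space X. Then that closed subscheme is reduced if and
only if I is the nilradical of O_X. In particular the closed subscheme defined by the nilradical is
the unique reduced closed subscheme of X with underlying space X (and, the support condition being
equivalent to I being contained in the nilradical, the smallest one). -/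
theorem result
    (X : Scheme.{u}) (I : X.IdealSheafData) (hI : I.support = ⊤) :
    IsReduced I.subscheme ↔ I = X.nilradical := by
  constructor
  · intro h
    have h1 := Groth.Agent.Ega1.ReducedSub.radical_ker_eq I.subschemeι
    rw [Scheme.IdealSheafData.ker_subschemeι] at h1
    rw [← h1, ← Scheme.IdealSheafData.vanishingIdeal_support, hI,
      Scheme.IdealSheafData.vanishingIdeal_top]
  · rintro rfl
    exact Groth.Agent.Ega1.ReducedSub.isReduced_subscheme_radical ⊥

end Groth.Agent.S4368
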