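import Groth.Statements.S14781
import Groth.Agent.HTop.K344.QfCover

set_option autoImplicit false
universe u
open CategoryTheory CategoryTheory.Limits AlgebraicGeometry
open Subtr

namespace Groth.Agent.S14781

/-- Let Y be a scheme that is affine or Noetherian and f : X ⟶ Y a quasi-finite morphism of finite
presentation every base change of which has the lifting property for ordered pairs of points. Then
there are schemes X', Y', a morphism h : X' ⟶ X, a quasi-compact, quasi-separated, surjective
morphism p : X' ⟶ Y' that is an open immersion on an open neighbourhood of every point of X' (an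
open covering of Y' of finite presentation) and a finite surjective morphism q : Y' ⟶ Y of finite
presentation, with h ≫ f = p ≫ q. -/
theorem result {X Y : Scheme.{u}} (f : X ⟶ Y)
    (hY : IsAffine Y ∨ IsNoetherian Y) [LocallyOfFinitePresentation f] [QuasiCompact f] [QuasiSeparated f] [LocallyQuasiFinite f]
    (hf : Subtr.UnivSSubtrusive f) :
    ∃ (X' Y' : Scheme.{u}) (h : X' ⟶ X) (p : X' ⟶ Y') (q : Y' ⟶ Y), h ≫ f = p ≫ q ∧
      Surjective p ∧ QuasiCompact p ∧ QuasiSeparated p ∧ (∀ x : X', ∃ U : X'.Opens, x ∈ U ∧ IsOpenImmersion (U.ι ≫ p)) ∧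
      IsFinite q ∧ Surjective q ∧ LocallyOfFinitePresentation q := by
  have h1 : CompactSpace Y ∧ QuasiSeparatedSpace Y := by
    rcases hY with hY | hY
    · exact ⟨inferInstance, inferInstance⟩
    · exact ⟨inferInstance, inferInstance⟩
  obtain ⟨h1, h2⟩ := h1
  obtain ⟨Y', q, n, V, hq1, hq2, hq3, hV, hVa, hr⟩ := K344.QfCover.exists_finite_cover_of_quasiFinite f hf
  have hqs : QuasiSeparatedSpace Y' := quasiSeparatedSpace_of_quasiSeparated q
  obtain ⟨X', h, p, e, hp1, hp2, hp3, hp4⟩ := K344.QfCover.exists_sigma V hV hVa q f hr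
  exact ⟨X', Y', h, p, q, e, hp1, hp2, hp3, hp4, hq1, hq2, hq3⟩

end Groth.Agent.S14781
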