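import Groth.Statements.S14792
import Groth.Agent.Subtr.K834.UltraDesc
import Groth.Agent.Subtr.K834.Tests2
import Groth.Agent.Unram17.K134.NoethModel

set_option autoImplicit false
universe u
open CategoryTheory CategoryTheory.Limits AlgebraicGeometry
open Subtr

namespace Groth.Agent.S14792

/-- (i) ⇔ (iii): let A be a commutative ring and f : X ⟶ Spec A a morphism of finite presentation. Then
every base change of f has the lifting property for ordered pairs of points if and only if there are
a finitely generated subring A₀ ⊆ A, a scheme X₀ and a universally submersive morphism f₀ : X₀ ⟶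
Spec A₀ of finite presentation such that f is the base change of f₀ along Spec A ⟶ Spec A₀. -/
theorem result (A : Type u) [CommRing A]
    {X : Scheme.{u}} (f : X ⟶ Spec (CommRingCat.of A))
    [LocallyOfFinitePresentation f] [QuasiCompact f] [QuasiSeparated f] :
    Subtr.UnivSSubtrusive f ↔
      ∃ (A₀ : Subalgebra ℤ A) (_ : A₀.FG) (X₀ : Scheme.{u}) (f₀ : X₀ ⟶ Spec (CommRingCat.of A₀))
        (q : X ⟶ X₀), IsPullback q f f₀ (Spec.map (CommRingCat.ofHom A₀.val.toRingHom)) ∧
        LocallyOfFinitePresentation f₀ ∧ QuasiCompact f₀ ∧ QuasiSeparated f₀ ∧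
        SGA1.UnivSubmersive f₀ := by
  constructor
  · intro hf
    obtain ⟨A₀, hA₀, X₀, f₀, g, h1, h2, h3, h4, h5⟩ := K134.NoethModel.exists_model
      (Q := @LocallyOfFinitePresentation) (P := Subtr.UnivSSubtrusive)
      (fun f h1 _ _ => h1) K834.UltraDesc.descendsAffine A f hf
    have hN : IsNoetherianRing A₀ :=
      Algebra.FiniteType.isNoetherianRing ℤ _ (h := (Subalgebra.fg_iff_finiteType _).mp hA₀)
    exact ⟨A₀, hA₀, X₀, f₀, g, h5, h2, h3, h4, (K834.Tests2.univSubmersive_iff f₀).mpr h1⟩
  · rintro ⟨A₀, hA₀, X₀, f₀, q, hp, h1, h2, h3, h4⟩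
    have hN : IsNoetherianRing A₀ :=
      Algebra.FiniteType.isNoetherianRing ℤ _ (h := (Subalgebra.fg_iff_finiteType _).mp hA₀)
    exact K835.Basic.of_isPullback hp ((K834.Tests2.univSubmersive_iff f₀).mp h4)

end Groth.Agent.S14792
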