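import Groth.Statements.S14801
import Groth.Agent.LabGraph.K794.Chain4

set_option autoImplicit false
universe u
open Finset
open LabGraph

namespace Groth.Agent.S14801

/-- Let (G, β) be a finite multigraph with a multiplicity function and α its matrix (α_{vw} = #edges(v,
w) for v ≠ w, diagonal entries defined by Σ_w β(w) α_{vw} = 0); let L be a connecting chain of
length m (vertices v₀, …, v_m, edges e₁, …, e_m, each connecting) with β(v_i) = m and α_{v_i v_i} =
-2 for all i; let (G', β') be the contraction of L and f : ℤ^{V(G')} → ℤ^{V(G)} the map extending a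
vector by zero along the section of V(G) → V(G') that sends the contracted vertex to v₀. Then f
carries ker β' into ker β, and there is a map h : ℤ^{V(G')} → ℤ^{V(G)} with f ∘ α' = α ∘ h, so that
f induces a homomorphism of component groups ker β'/im α' → ker β/im α; this homomorphism is
surjective. -/
theorem result {V E : Type u} [Fintype V] [Fintype E] [DecidableEq V] [DecidableEq E]
    (ends : E → V × V) (β : V → ℤ) (hβ : LabGraph.IsMultFn ends β)
    (m : ℕ) (f : Fin (m + 1) → V) (e : Fin m → E) (hC : LabGraph.IsChain ends f e)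
    (hconn : ∀ i, LabGraph.IsConnecting ends (e i)) (hβm : ∀ i, β (f i) = m)
    (hα : ∀ i, LabGraph.mfMatrix ends β (f i) (f i) = -2) :
    ∃ φ : LabGraph.CompGrp (DualGr.ctrEnds ends (univ.image e)) (LabGraph.ctrFn ends (univ.image e) β) →+
        LabGraph.CompGrp ends β,
      Function.Surjective φ ∧
      ∀ (x : LinearMap.ker (LabGraph.betaHom (LabGraph.ctrFn ends (univ.image e) β)))
        (y : LinearMap.ker (LabGraph.betaHom β)),
        (y : V → ℤ) = LabGraph.liftAt ends (univ.image e) (f 0) (x : DualGr.CtrVert ends (univ.image e) → ℤ) →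
        φ (Submodule.Quotient.mk x) = Submodule.Quotient.mk y := by
  obtain ⟨g, d, h, hg0, hD⟩ := K794.Chain.exists_CD hβ m f e hC hconn hβm hα
  rw [← hg0]
  -- the lift between the kernels
  let F : LinearMap.ker (LabGraph.betaHom (LabGraph.ctrFn ends (univ.image e) β)) →ₗ[ℤ]
      LinearMap.ker (LabGraph.betaHom β) :=
    LinearMap.restrict (K794.Chain.liftLin ends (univ.image e) (g 0)) (fun x hx => by
      rw [LinearMap.mem_ker] at hx ⊢
      rw [K794.Chain.liftLin_apply, h.betaHom_liftAt hD]
      exact hx)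
  have hF : ∀ x, (F x : V → ℤ) = LabGraph.liftAt ends (univ.image e) (g 0) (x : DualGr.CtrVert ends (univ.image e) → ℤ) :=
    fun x => rfl
  have hle : (LinearMap.range (Matrix.mulVecLin (LabGraph.mfMatrix (DualGr.ctrEnds ends (univ.image e))
      (LabGraph.ctrFn ends (univ.image e) β)))).comap
        (LinearMap.ker (LabGraph.betaHom (LabGraph.ctrFn ends (univ.image e) β))).subtype ≤
      ((LinearMap.range (Matrix.mulVecLin (LabGraph.mfMatrix ends β))).comap
        (LinearMap.ker (LabGraph.betaHom β)).subtype).comap F := by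
    rintro x ⟨z, hz⟩
    obtain ⟨ρ, hρg, hρ0, hρm, hρi, hρo⟩ := h.exists_rho
    rw [Submodule.mem_comap, Submodule.mem_comap, Submodule.subtype_apply, hF]
    have hz' : (x : DualGr.CtrVert ends (univ.image e) → ℤ) =
      (LabGraph.mfMatrix (DualGr.ctrEnds ends (univ.image e))
      (LabGraph.ctrFn ends (univ.image e) β)).mulVec z := hz.symm
    rw [hz', h.lift_mulVec hD hρ0 hρm hρi hρo z]
    refine Submodule.add_mem _ ⟨_, rfl⟩ (Submodule.smul_mem _ _ ⟨_, rfl⟩)
  refine ⟨(Submodule.mapQ _ _ F hle).toAddMonoidHom, ?_, ?_⟩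
  · intro q
    obtain ⟨y, rfl⟩ := Submodule.Quotient.mk_surjective _ q
    obtain ⟨x, w, hxw⟩ := h.exists_lift_mod hD (y : V → ℤ)
    have hx : x ∈ LinearMap.ker (LabGraph.betaHom (LabGraph.ctrFn ends (univ.image e) β)) := by
      rw [LinearMap.mem_ker, ← h.betaHom_liftAt hD, hxw, map_sub, K794.Contract.betaHom_mulVec hβ, sub_zero]
      exact LinearMap.mem_ker.1 y.2
    refine ⟨Submodule.Quotient.mk ⟨x, hx⟩, ?_⟩
    change Submodule.mapQ _ _ F hle (Submodule.Quotient.mk ⟨x, hx⟩) = _
    rw [Submodule.mapQ_apply, Submodule.Quotient.eq, Submodule.mem_comap]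
    refine ⟨-w, ?_⟩
    change (LabGraph.mfMatrix ends β).mulVec (-w) = (F ⟨x, hx⟩ : V → ℤ) - (y : V → ℤ)
    rw [hF, hxw, Matrix.mulVec_neg]
    abel
  · intro x y hxy
    change Submodule.mapQ _ _ F hle (Submodule.Quotient.mk x) = _
    rw [Submodule.mapQ_apply]
    congr 1
    exact Subtype.ext ((hF x).trans hxy.symm)

end Groth.Agent.S14801
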