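import Groth.Statements.S14803
import Groth.Agent.LabGraph.K221.Weighted

set_option autoImplicit false
universe u
open Finset
open LabGraph

namespace Groth.Agent.S14803

open Classical in
/-- Let (G, β) be a connected finite multigraph with a multiplicity function, α its matrix (α_{vw} =
#edges(v, w) for v ≠ w, Σ_w β(w) α_{vw} = 0) and Φ(G) = ker β / im α its component group; let m be
the gcd of all the values β(v). Then Φ(G) is finite of order m² · Σ_T Π_v β(v)^{#N_T(v) - 2}, where
T runs over the spanning trees of G and N_T(v) is the set of neighbours of v in T. (The published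
statement gives this order for the Néron component group of a curve's Jacobian, G being the weighted
dual graph of a proper regular model and β its component multiplicities; this row states the
identity for every connected pair (G, β) with a positive multiplicity function.) -/
theorem result {V E : Type u} [Fintype V] [Fintype E] [DecidableEq V] [DecidableEq E]
    (ends : E → V × V) (β : V → ℤ) (hβ : LabGraph.IsMultFn ends β) (hG : LabGraph.Connected ends) :
    (Nat.card (LabGraph.CompGrp ends β) : ℚ) =
      ((univ.gcd β : ℤ) : ℚ) ^ 2 *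
        ∑ T ∈ univ.powerset.filter (fun T : Finset E => LabGraph.IsSpanningTree ends T),
          ∏ v : V, ((β v : ℚ) ^ ((LabGraph.nbrCount ends T v : ℤ) - 2)) := by
  obtain ⟨v0⟩ := hG.1
  have hpos : ∀ v, 0 < β v := fun v => (hβ v).1
  have hdet := K221.Weighted.det_eq_sum ends β hβ v0
  set A := (mfMatrix ends β).submatrix (Subtype.val : {v // v ≠ v0} → V) Subtype.val with hA
  -- the sum over the trees
  have hterm : ∀ T ∈ univ.powerset.filter (fun T : Finset E => IsSpanningTree ends T),
      ∏ e ∈ T, K221.Weighted.wt ends β e = ∏ v, β v ^ nbrCount ends T v := by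
    intro T hT
    rw [K221.Weighted.prod_wt]
    refine Finset.prod_congr rfl fun v _ => ?_
    rw [K221.Weighted.nbrCount_eq_endCount ends T
      ((K221.MTree.isSpanningTree_iff ends T).1 (Finset.mem_filter.1 hT).2).2 v]
  rw [Finset.sum_congr rfl hterm] at hdet
  -- positivity
  have hP0 : 0 < ∏ v : {v // v ≠ v0}, β v.1 := Finset.prod_pos fun v _ => hpos v.1
  have hsumpos : 0 < ∑ T ∈ univ.powerset.filter (fun T : Finset E => IsSpanningTree ends T),
      ∏ v, β v ^ nbrCount ends T v := by
    obtain ⟨T, hT⟩ := K221.Weighted.exists_spanningTree ends hG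
    refine Finset.sum_pos (fun T _ => Finset.prod_pos fun v _ => pow_pos (hpos v) _) ⟨T, ?_⟩
    exact Finset.mem_filter.2 ⟨Finset.mem_powerset.2 (Finset.subset_univ _), hT⟩
  have hdpos : 0 < (-A).det := by
    rw [← hdet] at hsumpos
    exact (mul_pos_iff_of_pos_left (by positivity)).1 hsumpos
  have habs : (A.det.natAbs : ℤ) = (-A).det := by
    rw [Int.natCast_natAbs, Matrix.det_neg]
    rw [Matrix.det_neg] at hdpos
    rcases neg_one_pow_eq_or ℤ (Fintype.card {v // v ≠ v0}) with h | h
    · rw [h, one_mul] at hdpos ⊢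
      exact abs_of_pos hdpos
    · rw [h] at hdpos ⊢
      rw [abs_of_neg (by linarith)]; ring
  have hAne : A.det ≠ 0 := by
    intro h
    rw [h] at habs
    rw [← habs] at hdpos
    simp at hdpos
  have hcard := K221.CompOrd.card_mul_sq (mfMatrix ends β) (K221.Weighted.mfMatrix_transpose ends β) β hpos
    (K221.Weighted.mfMatrix_mulVec ends β hβ) v0 hAne (LinearMap.ker (betaHom β)) (by
      intro x
      rw [LinearMap.mem_ker]
      unfold betaHom
      rw [Fintype.linearCombination_apply]
      simp only [smul_eq_mul])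
  have hcardZ : (Nat.card (CompGrp ends β) : ℤ) * (β v0) ^ 2 = (univ.gcd β) ^ 2 * (-A).det := by
    have h1 := congrArg (fun n : ℕ => (n : ℤ)) hcard
    simp only [Nat.cast_mul, Nat.cast_pow, Int.natCast_natAbs, sq_abs] at h1
    rw [Int.natCast_natAbs] at habs
    rw [← habs]
    exact h1
  have hcardQ : (Nat.card (CompGrp ends β) : ℚ) * (β v0 : ℚ) ^ 2 = ((univ.gcd β : ℤ) : ℚ) ^ 2 * ((-A).det : ℤ) := by
    exact_mod_cast hcardZ
  have hprod : ∏ v, β v = β v0 * ∏ v : {v // v ≠ v0}, β v.1 := by
    rw [← Finset.mul_prod_erase univ _ (Finset.mem_univ v0)]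
    congr 1
    exact (Finset.prod_subtype (univ.erase v0) (by simp) _)
  have hdetQ : ((∏ v : {v // v ≠ v0}, β v.1 : ℤ) : ℚ) ^ 2 * ((-A).det : ℤ) =
      ∑ T ∈ univ.powerset.filter (fun T : Finset E => IsSpanningTree ends T), ∏ v, (β v : ℚ) ^ nbrCount ends T v := by
    exact_mod_cast hdet
  have hPQ : (∏ v, (β v : ℚ)) = (β v0 : ℚ) * ((∏ v : {v // v ≠ v0}, β v.1 : ℤ) : ℚ) := by
    exact_mod_cast hprod
  have hβQ : ∀ v, (β v : ℚ) ≠ 0 := fun v => by exact_mod_cast (hpos v).ne'
  have hPne : (∏ v, (β v : ℚ)) ≠ 0 := Finset.prod_ne_zero_iff.2 fun v _ => hβQ v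
  have hrhs : ∑ T ∈ univ.powerset.filter (fun T : Finset E => IsSpanningTree ends T),
        ∏ v : V, ((β v : ℚ) ^ ((nbrCount ends T v : ℤ) - 2)) =
      (∑ T ∈ univ.powerset.filter (fun T : Finset E => IsSpanningTree ends T),
        ∏ v, (β v : ℚ) ^ nbrCount ends T v) / (∏ v, (β v : ℚ)) ^ 2 := by
    rw [Finset.sum_div]
    refine Finset.sum_congr rfl fun T _ => ?_
    rw [← Finset.prod_pow, ← Finset.prod_div_distrib]
    refine Finset.prod_congr rfl fun v _ => ?_
    rw [zpow_sub₀ (hβQ v), zpow_natCast]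
    rfl
  rw [hrhs, ← hdetQ, ← mul_div_assoc, eq_div_iff (pow_ne_zero 2 hPne), hPQ]
  linear_combination (((∏ v : {v // v ≠ v0}, β v.1 : ℤ) : ℚ) ^ 2) * hcardQ

end Groth.Agent.S14803
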