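import Groth.Statements.S14804
import Groth.Agent.LabGraph.K794.Tree

set_option autoImplicit false
universe u
open Finset
open LabGraph

namespace Groth.Agent.S14804

/-- In a connected finite multigraph G, a vertex v belongs to some cycle of G (here: v is an endpoint of
an edge of some circuit, a circuit being a minimal nonempty edge set meeting every vertex in an even
number of edge-ends, which includes loops and pairs of parallel edges) if and only if G has a
spanning tree T such that some edge outside T has v as an endpoint. (The published statement is for
an arbitrary multigraph; when G is disconnected it has no spanning tree while a vertex may lie on a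
cycle, so G is taken connected here, the case of dual graphs for which it is used.) -/
theorem result
    {V E : Type u} [Fintype V] [Fintype E] [DecidableEq V] [DecidableEq E]
    (ends : E → V × V) (hG : LabGraph.Connected ends) (v : V) :
    (∃ C : Finset E, LabGraph.IsCircuit ends C ∧ LabGraph.endCount ends C v ≠ 0) ↔
      ∃ T : Finset E, LabGraph.IsSpanningTree ends T ∧
        ∃ e : E, e ∉ T ∧ ((ends e).1 = v ∨ (ends e).2 = v) := by
  classical
  constructor
  · rintro ⟨C, hC, hv⟩
    obtain ⟨e, heC, hev⟩ := (K794.Basic.endCount_ne_zero_iff ends C v).1 hv
    obtain ⟨T, hT, hTc, hTf⟩ := K794.Basic.exists_minimal_spanning ends ((Finset.univ : Finset E).erase e)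
      (fun a b => (hG.reach a b).of_edges fun e' _ => by
        by_cases hee : e' = e
        · subst hee
          refine (K794.Basic.reach_erase_of_circuit hC heC).mono fun x hx => ?_
          simp only [Finset.coe_erase, Set.mem_sdiff, Finset.mem_coe, Set.mem_singleton_iff] at hx
          simp [hx.2]
        · exact K794.Basic.reach_edge (by simp [hee]))
    exact ⟨T, (K794.Tree.isSpanningTree_iff ends T).2 ⟨hG.1, hTc, hTf⟩, e,
      fun h => (Finset.mem_erase.1 (hT h)).1 rfl, hev⟩
  · rintro ⟨T, hT, e, heT, hev⟩
    obtain ⟨_, hTc, hTf⟩ := (K794.Tree.isSpanningTree_iff ends T).1 hT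
    obtain ⟨D, _, heD, hD⟩ := K794.Basic.exists_circuit_of_reach heT (hTc _ _)
    exact ⟨D, hD, (K794.Basic.endCount_ne_zero_iff ends D v).2 ⟨e, heD, hev⟩⟩

end Groth.Agent.S14804
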