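import Groth.Statements.S14807
import Mathlib.GroupTheory.OrderOfElement

set_option autoImplicit false
universe u
open CAlg

namespace Groth.Agent.S14807

/-- Let G be a finite abelian group, written additively, and ℓ a prime number. Every sequence (g_n)_{n ≥
0} of elements of G with ℓ^n · g_n = 0 and ℓ · g_{n+1} = g_n for all n is identically zero; in other
words the inverse limit of the subgroups of ℓ^n-torsion elements, with transition maps
multiplication by ℓ, vanishes. -/
theorem result (G : Type u) [AddCommGroup G] [Finite G]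
    (ℓ : ℕ) (hℓ : ℓ.Prime) (g : ℕ → G) (htor : ∀ n : ℕ, ℓ ^ n • g n = 0)
    (hcomp : ∀ n : ℕ, ℓ • g (n + 1) = g n) (n : ℕ) : g n = 0 := by
  -- the order of `g n` divides both a power of `ℓ` and, by compatibility, everything stabilises
  have hiter : ∀ k n : ℕ, ℓ ^ k • g (n + k) = g n := by
    intro k
    induction k with
    | zero => intro n; simp
    | succ k ih =>
      intro n
      rw [← add_assoc, pow_succ, mul_smul, hcomp, ih]
  obtain ⟨N, hN⟩ : ∃ N : ℕ, ∀ x : G, (∃ k : ℕ, ℓ ^ k • x = 0) → ℓ ^ N • x = 0 := by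
    refine ⟨Nat.card G, fun x ⟨k, hk⟩ => ?_⟩
    have h1 : addOrderOf x ∣ ℓ ^ k := addOrderOf_dvd_iff_nsmul_eq_zero.mpr hk
    obtain ⟨j, _, hj⟩ := (Nat.dvd_prime_pow hℓ).mp h1
    have h2 : addOrderOf x ∣ Nat.card G := addOrderOf_dvd_natCard x
    have h3 : ℓ ^ j ≤ Nat.card G := by
      rw [← hj]; exact Nat.le_of_dvd Nat.card_pos h2
    have h4 : j ≤ Nat.card G := (Nat.lt_pow_self hℓ.one_lt).le.trans h3
    rw [← addOrderOf_dvd_iff_nsmul_eq_zero, hj]
    exact pow_dvd_pow _ h4
  rw [← hiter N n]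
  exact hN _ ⟨n + N, htor _⟩

end Groth.Agent.S14807
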