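import Groth.Statements.S14808
import Groth.Agent.PicF.K247.SecIso

set_option autoImplicit false
universe u
open CategoryTheory CategoryTheory.Limits AlgebraicGeometry
open PicF

namespace Groth.Agent.S14808

open Groth.Agent.Fdesc.LocGen K247.SecIso in
/-- Let X be an integral scheme such that Γ(X, O_X) is a field and L an invertible O_X-module. If L has
a nonzero global section (a nonzero morphism O_X → L) and its dual has a nonzero global section (a
nonzero morphism L → O_X), then L is isomorphic to O_X. -/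
theorem result (X : Scheme.{u}) [IsIntegral X]
    (hfield : IsField (Γ(X, ⊤) : Type u)) (L : X.Modules) (hL : PicF.IsInvertible L)
    (s : Coh.structureModule X ⟶ L) (hs : s ≠ 0) (t : L ⟶ Coh.structureModule X) (ht : t ≠ 0) :
    Nonempty (L ≅ Coh.structureModule X) := by
  obtain ⟨x⟩ : Nonempty X := inferInstance
  obtain ⟨U, e, hxU, he⟩ := (isInvertible_iff L).mp hL x
  have hne : (U : Set X).Nonempty := ⟨x, hxU⟩
  obtain ⟨a, ha⟩ := he.exists_eq (sec s U)
  obtain ⟨b, hb⟩ := (ofFun (X := X) (U := U)).surjective (t.app U e)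
  have : Nonempty (U : Scheme.{u}) := Set.nonempty_coe_sort.mpr hne
  have ha0 : a ≠ 0 := by
    rintro rfl
    exact sec_ne_zero hL s hs U hne (by rw [ha, zero_smul])
  have hb0 : b ≠ 0 := by
    rintro rfl
    exact app_gen_ne_zero isInvertible_structureModule t ht hne he (by rw [← hb, map_zero])
  obtain ⟨c, hc⟩ := (ofFun (X := X) (U := ⊤)).surjective (sec (s ≫ t) ⊤)
  have hc1 : ores (le_top : U ≤ ⊤) c = a * b := by
    apply (isGen_one U).ext
    have h1 := congr(res _ (le_top : U ≤ ⊤) $hc)
    rw [res_sec, sec_comp, ha, Scheme.Modules.Hom.app_smul, ← hb, ofFun_eq_smul, ofFun_eq_smul, res_smul, res_one,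
      smul_smul] at h1
    exact h1
  have hc0 : c ≠ 0 := by
    rintro rfl
    rw [map_zero] at hc1
    exact mul_ne_zero ha0 hb0 hc1.symm
  obtain ⟨d, hd⟩ := hfield.mul_inv_cancel hc0
  have hcu : IsUnit c := IsUnit.of_mul_eq_one d hd
  have hiso : IsIso (s ≫ t) := by
    rw [isIso_iff_isGen, ← hc, ofFun_eq_smul]
    exact (isGen_one ⊤).unit_smul hcu
  have := isIso_of_comp hL s t hiso
  exact ⟨(asIso s).symm⟩

end Groth.Agent.S14808
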