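import Groth.Statements.S14810
import Groth.Agent.Pic13.K244.CurveThrough
import Groth.Agent.Pic13.H967.NoSec
import Groth.Agent.S1519
import Groth.Agent.CurvesC.DegZeroSec512

set_option autoImplicit false
universe u
open CategoryTheory CategoryTheory.Limits AlgebraicGeometry
open Pic13

namespace Groth.Agent.S14810

open Groth.Agent.Fdesc.LocGen Groth.Agent.Ega2 Groth.Agent.Etcore.DegZero
  Groth.Agent.Pic13.H945.DegAmple

/-- Let X be an integral scheme, proper over a field k, such that Γ(X, O_X) is a field, and let L be an
invertible O_X-module which is numerically trivial: its restriction to every closed subscheme of X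
which is integral of dimension one has degree 0. If L has a nonzero global section (a nonzero
morphism O_X → L), then L is isomorphic to O_X. -/
theorem result (k : Type u) [Field k] (X : Scheme.{u})
    [X.Over (Spec (CommRingCat.of k))] [IsProper (X ↘ Spec (CommRingCat.of k))] [IsIntegral X]
    (hfield : IsField (Γ(X, ⊤) : Type u)) (L : X.Modules) (hL : PicF.IsInvertible L)
    (hnum : Pic13.IsNumEquivZero k X L) (s : Coh.structureModule X ⟶ L) (hs : s ≠ 0) :
    Nonempty (L ≅ Coh.structureModule X) := by
  have hη : genericPoint X ∈ CohB1.genLocus L s :=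
    (genericPoint_spec X).mem_open_set_iff (CohB1.genLocus L s).isOpen |>.mpr
      (by simpa using VarietyA.TwistExist.genLocus_nonempty hL s hs)
  have hc : CompactSpace X := QuasiCompact.compactSpace_of_compactSpace (X ↘ Spec (CommRingCat.of k))
  by_cases hU : (CohB1.genLocus L s : Set X) = Set.univ
  · have h1 : CohB1.genLocus L s = ⊤ := TopologicalSpace.Opens.ext hU
    have h2 : IsIso s := CurvesC.DegZeroSec512.isIso_of_genLocus_eq_top s h1
    exact ⟨(asIso s).symm⟩
  · obtain ⟨C, i, hi, hC, hd, hg, c, hc⟩ :=
      K244.CurveThrough.exists_curve_meeting k (X ↘ Spec (CommRingCat.of k)) (CohB1.genLocus L s) hη hU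
    let _ : C.Over (Spec (CommRingCat.of k)) := ⟨i ≫ (X ↘ Spec (CommRingCat.of k))⟩
    have : IsProper (C ↘ (Spec (CommRingCat.of k))) :=
      inferInstanceAs (IsProper (i ≫ (X ↘ Spec (CommRingCat.of k))))
    have hg' : CohB1.genLocus _ (pullHom i s) = i ⁻¹ᵁ (CohB1.genLocus L s) :=
      Groth.Agent.Ega1.AmpFam.genLocus_pullHom i hL s
    have h1 : genericPoint C ∈ CohB1.genLocus _ (pullHom i s) := by
      rw [hg']; exact hg
    have h2 : c ∉ CohB1.genLocus _ (pullHom i s) := by
      rw [hg']; exact hc
    have h3 := Groth.Agent.S1519.result k C hd _ (isInvertible_pullback i hL) _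
      (Groth.Agent.Pic13.H967.NoSec.ne_zero_of_mem_genLocus _ h1) c h2
    have h4 := hnum C i hC hd
    rw [← dg_eq_deg k C hd (isInvertible_pullback i hL)] at h3
    exact absurd h4 (ne_of_gt h3)

end Groth.Agent.S14810
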