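import Groth.Statements.S14813
import Groth.Agent.FGA.K279.EtCover
import Groth.Agent.Fga.EulerLEAdd
import Groth.Agent.Ega3B.PullTensor
import Groth.Agent.Desc.DimMap
import Groth.Agent.CurvesC.UnitCoh

set_option autoImplicit false
universe u
open CategoryTheory CategoryTheory.Limits AlgebraicGeometry
open FGA

namespace Groth.Agent.S14813

/-- A finite morphism does not increase the dimension. -/
theorem dim_le {Z Z' : Scheme.{u}} (ν : Z' ⟶ Z) [IsFinite ν] :
    topologicalKrullDim Z' ≤ topologicalKrullDim Z := by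
  refine Desc.DimMap.topologicalKrullDim_le_of_fibres ν ν.continuous fun x y hxy h => ?_
  have h1 := ν.isDiscrete_preimage_singleton (ν x)
  have := h1.to_subtype
  have h2 : (⟨x, rfl⟩ : (ν ⁻¹' {ν x} : Set Z')) ⤳ ⟨y, h.symm⟩ :=
    Topology.IsInducing.subtypeVal.specializes_iff.1 hxy
  exact congrArg Subtype.val (specializes_iff_eq.1 h2)

/-- Let k be an arbitrary field and let X and X' be smooth, integral, proper k-schemes, X of dimension
n, with an étale k-morphism φ : X' → X (it is then finite étale); suppose φ is finite locally free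
of constant degree d. Then χ(O_{X'}) = d · χ(O_X), where χ denotes the alternating sum of dim_k
H^i(·, O) over 0 ≤ i ≤ n (X' has dimension n as well). -/
theorem result (k : Type u) [Field k] (X X' : Scheme.{u})
    [X.Over (Spec (CommRingCat.of k))] [X'.Over (Spec (CommRingCat.of k))]
    [IsProper (X ↘ Spec (CommRingCat.of k))] [IsProper (X' ↘ Spec (CommRingCat.of k))] [Smooth (X ↘ Spec (CommRingCat.of k))] [Smooth (X' ↘ Spec (CommRingCat.of k))]
    [IsIntegral X] [IsIntegral X'] (φ : X' ⟶ X) [Etale φ] (hφ : φ ≫ (X ↘ Spec (CommRingCat.of k)) = X' ↘ Spec (CommRingCat.of k))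
    (d : ℕ) (hd : Mor2.IsFinLocFreeOfDeg d φ) (n : ℕ) (hn : topologicalKrullDim X = n) :
    FGA.eulerCharLE k X' (Coh.structureModule X') n = d * FGA.eulerCharLE k X (Coh.structureModule X) n := by
  have : IsFinite φ := hd.1.1
  have hX : IsNoetherian X := K279.EtCover.isNoetherian (X ↘ Spec (CommRingCat.of k))
  have hX' : IsNoetherian X' := K279.EtCover.isNoetherian (X' ↘ Spec (CommRingCat.of k))
  have h1 := Fga.EulerLEAdd.eulerCharLE_eq_euler k X n hn.le (Coh.structureModule X)
  have h2 := Fga.EulerLEAdd.eulerCharLE_eq_euler k X' n ((dim_le φ).trans hn.le) (Coh.structureModule X')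
  rw [h1, h2]
  have hc : Coh.IsCoh (Coh.structureModule X) := CurvesC.UnitCoh.isCoh_unit X
  have h3 := K279.EtCover.main (k := k) d φ (X ↘ Spec (CommRingCat.of k)) hd.2 _ hc
  obtain ⟨e⟩ := Ega3B.PullTensor.nonempty_pullUnitIso φ
  have h4 : K279.EtCover.eu k (φ ≫ (X ↘ Spec (CommRingCat.of k)))
      ((Scheme.Modules.pullback φ).obj (Coh.structureModule X)) =
      K279.EtCover.eu k (φ ≫ (X ↘ Spec (CommRingCat.of k))) (Coh.structureModule X') :=
    K279.EtCover.eu_congr _ e
  rw [h4, hφ] at h3
  exact h3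

end Groth.Agent.S14813
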