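import Groth.Statements.S14814
import Groth.Agent.Pic13.K244.TauKb
import Groth.Agent.Lefpen.H608.AlgTriv
import Groth.Agent.Models.H130.PicBc

set_option autoImplicit false
universe u
open CategoryTheory CategoryTheory.Limits AlgebraicGeometry
open Pic13

namespace Groth.Agent.S14814

/-- Take any field k and a proper k-scheme X with H^1(X, O_X) = 0. Then the group of numerically trivial
invertible sheaves is torsion: every invertible O_X-module L whose restriction to each closed
subscheme of X which is integral of dimension one has degree 0 satisfies L^{⊗d} ≅ O_X for some d ≥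
1. -/
theorem result (k : Type u) [Field k] (X : Scheme.{u})
    [X.Over (Spec (CommRingCat.of k))] [IsProper (X ↘ Spec (CommRingCat.of k))]
    (h1 : Subsingleton (Coh.HH X (Coh.structureModule X) 1))
    (L : X.Modules) (hL : PicF.IsInvertible L) (hnum : Pic13.IsNumEquivZero k X L) :
    ∃ d : ℕ, 0 < d ∧ Nonempty (CohB1.tensorPow L d ≅ Coh.structureModule X) := by
  let s : Spec (CommRingCat.of (AlgebraicClosure k)) ⟶ Spec (CommRingCat.of k) :=
    Spec.map (CommRingCat.ofHom (algebraMap k (AlgebraicClosure k)))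
  let X₁ : Scheme.{u} := pullback (X ↘ Spec (CommRingCat.of k)) s
  let _ : X₁.Over (Spec (CommRingCat.of (AlgebraicClosure k))) := ⟨pullback.snd (X ↘ Spec (CommRingCat.of k)) s⟩
  let g : X₁ ⟶ X := pullback.fst (X ↘ Spec (CommRingCat.of k)) s
  have hpb : IsPullback g (X₁ ↘ Spec (CommRingCat.of (AlgebraicClosure k))) (X ↘ Spec (CommRingCat.of k)) s :=
    IsPullback.of_hasPullback _ _
  have hX₁ : IsProper (X₁ ↘ Spec (CommRingCat.of (AlgebraicClosure k))) :=
    MorphismProperty.of_isPullback hpb inferInstance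
  have hτ := K244.TauKb.isTauEquivZero_pullback k hpb hL hnum
  have hc : CompactSpace X := (quasiCompact_iff_compactSpace (X ↘ (Spec (CommRingCat.of k)))).mp inferInstance
  have hqs : QuasiSeparatedSpace X :=
    (quasiSeparated_iff_quasiSeparatedSpace (X ↘ (Spec (CommRingCat.of k)))).mp inferInstance
  have hO : Coh.IsQCoh (Coh.structureModule X) :=
    Groth.Agent.Ega2.QCohLocal.isQCoh_of_isInvertible Groth.Agent.Fdesc.LocGen.isInvertible_structureModule
  obtain ⟨e⟩ := Groth.Agent.S0034.result k (AlgebraicClosure k) X X₁ g hpb (Coh.structureModule X) 1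
  obtain ⟨e'⟩ := Groth.Agent.Ega3B.PullTensor.nonempty_pullUnitIso g
  have h1' : Subsingleton (Coh.HH X₁ ((Scheme.Modules.pullback g).obj (Coh.structureModule X)) 1) :=
    e.symm.toEquiv.subsingleton
  have h2 : Subsingleton (Coh.HH X₁ (Coh.structureModule X₁) 1) :=
    Groth.Agent.Fga.HShift.subsingleton_of_iso e' 1 h1'
  obtain ⟨n, hn, ⟨e₂⟩⟩ := Groth.Agent.Lefpen.H608.AlgTriv.exists_tensorPow_iso_of_isTauEquivZero h2 hτ
  refine ⟨n, hn, ?_⟩
  rw [← Groth.Agent.Grpsch.PicGrp.mk_eq_one_iff (Groth.Agent.Fdesc.LocGen.isInvertible_tensorPow hL n)]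
  refine Groth.Agent.Models.H130.PicBc.eq_one_of_pull_field k X (X ↘ Spec (CommRingCat.of k)) (AlgebraicClosure k) _ ?_
  change Groth.Agent.Grpsch.PicGrp.pull g _ = 1
  rw [Groth.Agent.Grpsch.PicGrp.mk_tensorPow hL, map_pow, Groth.Agent.Grpsch.PicGrp.pull_mk,
    ← Groth.Agent.Grpsch.PicGrp.mk_tensorPow, Groth.Agent.Grpsch.PicGrp.mk_eq_one_iff]
  exact ⟨e₂⟩

end Groth.Agent.S14814
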