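import Groth.Statements.S14817
import Groth.Agent.Surf.K457.NT.Final
-- import your own Groth.Agent.* helpers here

set_option autoImplicit false
universe u
open CategoryTheory CategoryTheory.Limits AlgebraicGeometry
open Surf

namespace Groth.Agent.S14817

/-- Take any field k and a smooth proper k-surface X, i.e. X → Spec k is proper and smooth of relative
dimension 2, and let ω be its canonical sheaf, a second exterior power of Ω_{X/k} (for smooth X this
is the dualizing sheaf). If ω is numerically trivial — its restriction to every closed subscheme of
X which is integral of dimension one has degree 0 — then ω has finite order in Pic(X): ω^{⊗d} ≅ O_X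
for some d ≥ 1. -/
theorem result (k : Type u) [Field k] (X : Scheme.{u})
    [X.Over (Spec (CommRingCat.of k))] [IsProper (X ↘ Spec (CommRingCat.of k))] [SmoothOfRelativeDimension 2 (X ↘ Spec (CommRingCat.of k))]
    (ω : X.Modules) (hω : Canon.IsTopDiff (X ↘ Spec (CommRingCat.of k)) 2 ω) (hnum : Pic13.IsNumEquivZero k X ω) :
    ∃ d : ℕ, 0 < d ∧ Nonempty (CohB1.tensorPow ω d ≅ Coh.structureModule X) := by
  exact K457.NTFinal.main k X ω hω hnum

end Groth.Agent.S14817
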