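import Groth.Statements.S14819
import Groth.Agent.PicF.K247.MuDesc
import Groth.Agent.Grpsch.PicGrp
import Groth.Agent.S0119
import Mathlib.AlgebraicGeometry.Morphisms.UniversallyOpen

set_option autoImplicit false
universe u
open CategoryTheory CategoryTheory.Limits AlgebraicGeometry
open PicF

namespace Groth.Agent.S14819

open Groth.Agent.Fdesc.LocGen K247.MuDesc Groth.Agent.Grpsch in
/-- Let X be an integral Noetherian scheme which is normal (all local rings integrally closed domains)
and whose ring of global functions Γ(X, O_X) is a field of characteristic p > 0; let L be an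
invertible O_X-module of exact order d in Pic(X), i.e. L^{⊗d} ≅ O_X with d ≥ 1 and L^{⊗i} not
isomorphic to O_X for 0 < i < d, and suppose p divides d. Let X' be a connected scheme such that
every unit of Γ(X', O_{X'}) has a p-th root. Then no finite étale morphism f : X' → X (a finite
étale covering of X by X') satisfies f^*L ≅ O_{X'}. -/
theorem result (X X' : Scheme.{u})
    [IsIntegral X] [IsNoetherian X] (hnorm : Pi1.IsNormalScheme X)
    (hfield : IsField (Γ(X, ⊤) : Type u)) (p : ℕ) [Fact (Nat.Prime p)] [CharP (Γ(X, ⊤) : Type u) p]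
    (L : X.Modules) (hL : PicF.IsInvertible L) (d : ℕ) (hd : 0 < d)
    (hord : Nonempty (CohB1.tensorPow L d ≅ Coh.structureModule X))
    (hmin : ∀ i : ℕ, 0 < i → i < d → IsEmpty (CohB1.tensorPow L i ≅ Coh.structureModule X))
    (hpd : p ∣ d) [ConnectedSpace X']
    (hroot : ∀ u : (Γ(X', ⊤) : Type u), IsUnit u → ∃ v : (Γ(X', ⊤) : Type u), v ^ p = u)
    (f : X' ⟶ X) [IsFinite f] [Etale f] :
    IsEmpty ((Scheme.Modules.pullback f).obj L ≅ Coh.structureModule X') := by
  refine ⟨fun φ => ?_⟩
  have hp : p.Prime := Fact.out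
  obtain ⟨q, rfl⟩ := hpd
  have hq : 0 < q := Nat.pos_of_ne_zero (by rintro rfl; simp at hd)
  have hsurj : Surjective f := by
    refine ⟨?_⟩
    rw [← Set.range_eq_univ]
    have h1 : IsClopen (Set.range f) := ⟨f.isClosedMap.isClosed_range, f.isOpenMap.isOpen_range⟩
    rcases isClopen_iff.mp h1 with h | h
    · exact absurd h (Set.range_nonempty f).ne_empty
    · exact h
  have hred : AlgebraicGeometry.IsReduced (pullback f f) := by
    have : ∀ x : ↥(pullback f f), _root_.IsReduced ((pullback f f).presheaf.stalk x) := fun x =>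
      (Groth.Agent.S0119.result (pullback.fst f f ≫ f) x).mpr inferInstance
    exact isReduced_of_isReduced_stalk _
  have hM := isInvertible_tensorPow hL q
  have h0 : (p : Γ(X, ⊤)) = 0 := CharP.cast_eq_zero (Γ(X, ⊤) : Type u) p
  have h1 : Nonempty (CohB1.tensorPow (CohB1.tensorPow L q) p ≅ Coh.structureModule X) := by
    rw [← PicGrp.mk_eq_one_iff (isInvertible_tensorPow hM p), PicGrp.mk_tensorPow hM, PicGrp.mk_tensorPow hL,
      ← pow_mul, mul_comm q p, ← PicGrp.mk_tensorPow hL]
    exact (PicGrp.mk_eq_one_iff _).mpr hord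
  have h2 : Nonempty ((Scheme.Modules.pullback f).obj (CohB1.tensorPow L q) ≅ Coh.structureModule X') := by
    rw [← PicGrp.mk_eq_one_iff (isInvertible_pullback f hM), ← PicGrp.pull_mk f hM, PicGrp.mk_tensorPow hL, map_pow,
      PicGrp.pull_mk f hL, (PicGrp.mk_eq_one_iff (isInvertible_pullback f hL)).mpr ⟨φ⟩, one_pow]
  obtain ⟨e⟩ := nonempty_iso_of_pullback (IsPullback.of_hasPullback f f) hp h0 hroot hM h1 h2
  exact (hmin q hq (by nlinarith [hp.two_le])).false e

end Groth.Agent.S14819
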