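import Groth.Statements.S14821
import Groth.Agent.Picfga.RegLocus
import Groth.Agent.S2422

set_option autoImplicit false
universe u
open CategoryTheory CategoryTheory.Limits AlgebraicGeometry
open CohIII

namespace Groth.Agent.S14821

/-- Let k be a field and f : X → Y a surjective k-morphism between integral proper k-schemes which are
both normal (all local rings integrally closed domains). Then f is a fibration, i.e. O_Y → f_*O_X is
an isomorphism (Γ(U, O_Y) → Γ(f⁻¹U, O_X) is bijective for every open U ⊆ Y), exactly when K(Y) is
algebraically closed inside K(X): every element of the function field of X which is integral over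
the function field of Y, embedded through the stalk map of f at the generic points, lies in the
image of K(Y). (The published statement assumes only Y normal; without normality of X the forward
implication fails — for a quadratic field extension k ⊂ k', the projective line over k' with one
k'-rational point pinched to a k-rational point, mapped to Spec k, has ring of global functions k
although k is not algebraically closed in its function field k'(t) — and the published proof
resolves the indeterminacy of a rational map on the generic fibre by a graph whose projection is a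
fibration, which needs X normal; so this row assumes X normal as well. The reverse implication holds
without it.) -/
theorem result (k : Type u) [Field k]
    (X Y : Scheme.{u}) [X.Over (Spec (CommRingCat.of k))] [Y.Over (Spec (CommRingCat.of k))]
    [IsProper (X ↘ Spec (CommRingCat.of k))] [IsProper (Y ↘ Spec (CommRingCat.of k))] [IsIntegral X] [IsIntegral Y]
    (hX : Pi1.IsNormalScheme X) (hY : Pi1.IsNormalScheme Y) (f : X ⟶ Y) [Surjective f] (hf : f ≫ (Y ↘ Spec (CommRingCat.of k)) = X ↘ Spec (CommRingCat.of k))
    (h : f.base (genericPoint ↥X) ⤳ genericPoint ↥Y) :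
    (∀ U : Y.Opens, IsIso (f.app U)) ↔
      ∀ x : ↑X.functionField, (CohIII.stalkToFunctionField f (genericPoint ↥Y) h).IsIntegralElem x → x ∈ (CohIII.stalkToFunctionField f (genericPoint ↥Y) h).range := by
  have hfp : IsProper f := by
    have : IsProper (f ≫ (Y ↘ Spec (CommRingCat.of k))) := by rw [hf]; infer_instance
    exact IsProper.of_comp f (Y ↘ Spec (CommRingCat.of k))
  have : IsLocallyNoetherian X := LocallyOfFiniteType.isLocallyNoetherian (X ↘ Spec (CommRingCat.of k))
  have : IsLocallyNoetherian Y := LocallyOfFiniteType.isLocallyNoetherian (Y ↘ Spec (CommRingCat.of k))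
  constructor
  · intro hiso x hx
    obtain ⟨_, ⟨V, hV, rfl⟩, hxV, -⟩ :=
      Y.isBasis_affineOpens.exists_subset_of_mem_open (Set.mem_univ (genericPoint Y)) isOpen_univ
    have : Nonempty V := ⟨⟨_, hxV⟩⟩
    have hgV : f (genericPoint X) ∈ V := h.mem_open V.isOpen hxV
    have : Nonempty (f ⁻¹ᵁ V : X.Opens) := ⟨⟨genericPoint X, hgV⟩⟩
    have : IsFractionRing Γ(Y, V) Y.functionField := functionField_isFractionRing_of_isAffineOpen Y _ hV
    set φ := CohIII.stalkToFunctionField f (genericPoint ↥Y) h with hφ
    have hφg : ∀ b : Γ(Y, V), φ (Y.germToFunctionField V b) =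
        X.germToFunctionField (f ⁻¹ᵁ V) (f.app V b) := by
      intro b
      have e1 : (Y.presheaf.stalkSpecializes h).hom (Y.germToFunctionField V b) =
          Y.presheaf.germ V (f (genericPoint X)) hgV b :=
        TopCat.Presheaf.germ_stalkSpecializes_apply _ _ _ _
      have e2 := Scheme.Hom.germ_stalkMap_apply f V (genericPoint X) hgV b
      exact (congrArg (f.stalkMap (genericPoint X)).hom e1).trans e2
    let _ : Algebra Y.functionField X.functionField := φ.toAlgebra
    let _ : Algebra Γ(Y, V) X.functionField := (φ.comp (algebraMap Γ(Y, V) Y.functionField)).toAlgebra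
    have : IsScalarTower Γ(Y, V) Y.functionField X.functionField := .of_algebraMap_eq' rfl
    obtain ⟨⟨b, hb⟩, hbx⟩ := IsIntegral.exists_multiple_integral_of_isLocalization
      (nonZeroDivisors Γ(Y, V)) (Rₘ := Y.functionField) x hx
    have hbx' : _root_.IsIntegral Γ(Y, V) (b • x) := hbx
    set z : X.functionField := b • x with hz
    have hreg : f ⁻¹ᵁ V ≤ Groth.Agent.Picfga.RegLocus.reg z := by
      intro p hp
      have := (hX p).2
      obtain ⟨q, hq, hq'⟩ := hbx'
      have h1 : _root_.IsIntegral (X.presheaf.stalk p) z := by
        refine ⟨q.map ((X.presheaf.germ (f ⁻¹ᵁ V) p hp).hom.comp (f.app V).hom), hq.map _, ?_⟩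
        rw [Polynomial.eval₂_map, ← hq']
        congr 1
        ext a
        refine (Scheme.algebraMap_germ_eq_germToFunctionField _ _ _).trans ?_
        exact (hφg a).symm
      exact IsIntegrallyClosed.isIntegral_iff.1 h1
    obtain ⟨s, hs⟩ := Groth.Agent.Picfga.RegLocus.exists_section z
    have hs' : X.germToFunctionField (f ⁻¹ᵁ V) (X.presheaf.map (homOfLE hreg).op s) = z := by
      refine Eq.trans ?_ hs
      exact TopCat.Presheaf.germ_res_apply _ _ _ _ _
    have := hiso V
    obtain ⟨t, ht⟩ := (ConcreteCategory.bijective_of_isIso (f.app V)).2 (X.presheaf.map (homOfLE hreg).op s)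
    have hb0 : Y.germToFunctionField V b ≠ 0 := by
      intro h0
      exact nonZeroDivisors.ne_zero hb (Y.germToFunctionField_injective V (h0.trans (map_zero _).symm))
    refine ⟨Y.germToFunctionField V t / Y.germToFunctionField V b, ?_⟩
    rw [map_div₀, hφg t]
    rw [div_eq_iff (by rw [Ne, map_eq_zero]; exact hb0)]
    refine (congrArg _ ht).trans (hs'.trans ?_)
    rw [hz, Algebra.smul_def, mul_comm]
    rfl
  · intro halg
    refine Groth.Agent.S2422.result hY f h ?_
    rintro x ⟨p, hp0, hp⟩
    refine halg x ⟨p * Polynomial.C (p.leadingCoeff⁻¹), Polynomial.monic_mul_leadingCoeff_inv hp0, ?_⟩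
    rw [Polynomial.eval₂_mul, hp, zero_mul]

end Groth.Agent.S14821
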