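import Groth.Statements.S14822
import Groth.Agent.CycB.RelDim2
import Groth.Agent.S2422
import Mathlib.AlgebraicGeometry.ZariskisMainTheorem

set_option autoImplicit false
universe u
open CategoryTheory CategoryTheory.Limits AlgebraicGeometry
open CohIII

namespace Groth.Agent.S14822

/-- Let k be a field and f : X → Y a surjective k-morphism between integral proper k-schemes of the same
dimension, with Y normal (all local rings integrally closed domains). Then f is a fibration (Γ(U,
O_Y) → Γ(f⁻¹U, O_X) bijective for every open U ⊆ Y) if and only if f is birational: the embedding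
K(Y) → K(X) of function fields given by the stalk map at the generic points is bijective. -/
theorem result (k : Type u) [Field k]
    (X Y : Scheme.{u}) [X.Over (Spec (CommRingCat.of k))] [Y.Over (Spec (CommRingCat.of k))]
    [IsProper (X ↘ Spec (CommRingCat.of k))] [IsProper (Y ↘ Spec (CommRingCat.of k))] [IsIntegral X] [IsIntegral Y]
    (hY : Pi1.IsNormalScheme Y) (f : X ⟶ Y) [Surjective f] (hf : f ≫ (Y ↘ Spec (CommRingCat.of k)) = X ↘ Spec (CommRingCat.of k))
    (hdim : topologicalKrullDim ↥X = topologicalKrullDim ↥Y)
    (h : f.base (genericPoint ↥X) ⤳ genericPoint ↥Y) :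
    (∀ U : Y.Opens, IsIso (f.app U)) ↔ Function.Bijective (CohIII.stalkToFunctionField f (genericPoint ↥Y) h) := by
  have hfp : IsProper f := by
    have : IsProper (f ≫ (Y ↘ Spec (CommRingCat.of k))) := by rw [hf]; infer_instance
    exact IsProper.of_comp f (Y ↘ Spec (CommRingCat.of k))
  have : IsLocallyNoetherian X := LocallyOfFiniteType.isLocallyNoetherian (X ↘ Spec (CommRingCat.of k))
  have : IsLocallyNoetherian Y := LocallyOfFiniteType.isLocallyNoetherian (Y ↘ Spec (CommRingCat.of k))
  have hgen : f (genericPoint X) = genericPoint Y :=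
    (h.antisymm (genericPoint_specializes _)).eq
  constructor
  · intro hiso
    refine ⟨RingHom.injective _, ?_⟩
    -- the generic fibre is a point
    have hkaff : IsAffineOpen (⊤ : (Spec (CommRingCat.of k)).Opens) := isAffineOpen_top _
    have hkfld : IsField Γ(Spec (CommRingCat.of k), ⊤) :=
      MulEquiv.isField (Field.toIsField k)
        (Scheme.ΓSpecIso (CommRingCat.of k)).commRingCatIsoToRingEquiv.toMulEquiv
    obtain ⟨d, hd1, hd2⟩ := Groth.Agent.CycB.RelDim.exists_dim_closure (X ↘ Spec (CommRingCat.of k))
      hkaff hkfld (genericPoint X)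
    obtain ⟨e, he1, he2⟩ := Groth.Agent.CycB.RelDim.exists_dim_closure (Y ↘ Spec (CommRingCat.of k))
      hkaff hkfld (genericPoint Y)
    have hdX : topologicalKrullDim X = d := by
      rw [← hd2, (genericPoint_spec X).def]
      exact (IsHomeomorph.topologicalKrullDim_eq _ (Homeomorph.Set.univ X).isHomeomorph).symm
    have heY : topologicalKrullDim Y = e := by
      rw [← he2, (genericPoint_spec Y).def]
      exact (IsHomeomorph.topologicalKrullDim_eq _ (Homeomorph.Set.univ Y).isHomeomorph).symm
    have hde : (d : WithBot ℕ∞) = e := by rw [← hdX, ← heY, hdim]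
    have hde' : d = e := by exact_mod_cast hde
    have h0 : Groth.Agent.CycB.RelDim.rtd f (genericPoint X) = 0 := by
      have hc := Groth.Agent.CycB.RelDim.rtd_comp f (Y ↘ Spec (CommRingCat.of k)) (genericPoint X)
      rw [hgen, he1] at hc
      have hc' : Groth.Agent.CycB.RelDim.rtd (X ↘ Spec (CommRingCat.of k)) (genericPoint X) =
          (e : Cardinal.{u}) + Groth.Agent.CycB.RelDim.rtd f (genericPoint X) := by
        rw [← hc]
        congr 1
        exact hf.symm
      rw [hd1, hde'] at hc'
      have hlt : Groth.Agent.CycB.RelDim.rtd f (genericPoint X) < Cardinal.aleph0 :=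
        Groth.Agent.CycB.RelDim.rtd_lt_aleph0 f _
      obtain ⟨m, hm⟩ := Cardinal.lt_aleph0.mp hlt
      rw [hm] at hc' ⊢
      have : e = e + m := by exact_mod_cast hc'
      have : m = 0 := by omega
      rw [this]; simp
    have hfib : (f ⁻¹' {genericPoint Y}).Finite := by
      refine (Set.finite_singleton (genericPoint X)).subset ?_
      intro x hx
      by_contra hne
      have hlt := Groth.Agent.CycB.RelDim.rtd_lt_of_specializes f (genericPoint_specializes x)
        (fun h => hne h.symm) (hgen.trans (Set.mem_singleton_iff.mp hx).symm)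
      rw [h0] at hlt
      exact absurd hlt (by simp)
    obtain ⟨V, hηV, hVfin⟩ := exists_isFinite_morphismRestrict_of_finite_preimage_singleton f _ hfib
    obtain ⟨_, ⟨W, hW, rfl⟩, hηW, hWV⟩ :=
      Y.isBasis_affineOpens.exists_subset_of_mem_open (show genericPoint Y ∈ (V : Set Y) from hηV) V.isOpen
    have hWV' : W ≤ V := hWV
    have hfW : IsFinite (f ∣_ W) := by
      have hU := isPullback_morphismRestrict f V
      have hV := isPullback_morphismRestrict f W
      have h1 : (f ⁻¹ᵁ W) ≤ f ⁻¹ᵁ V := fun x hx => hWV' hx
      have hsq : IsPullback (X.homOfLE h1) (f ∣_ W) (f ∣_ V) (Y.homOfLE hWV') := by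
        refine IsPullback.of_right (t := hU.flip) (by simpa using hV.flip) ?_
        rw [← cancel_mono V.ι]
        simp
      exact MorphismProperty.of_isPullback hsq hVfin
    have : Nonempty W := ⟨⟨_, hηW⟩⟩
    have hgW : f (genericPoint X) ∈ W := by rw [hgen]; exact hηW
    have : Nonempty (f ⁻¹ᵁ W : X.Opens) := ⟨⟨genericPoint X, hgW⟩⟩
    have hfWaff : IsAffineOpen (f ⁻¹ᵁ W) := by
      have : IsAffine (W : Scheme.{u}) := hW
      exact isAffine_of_isAffineHom (f ∣_ W)
    have : IsFractionRing Γ(X, f ⁻¹ᵁ W) X.functionField :=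
      functionField_isFractionRing_of_isAffineOpen X _ hfWaff
    have hφg : ∀ b : Γ(Y, W), CohIII.stalkToFunctionField f (genericPoint ↥Y) h (Y.germToFunctionField W b) =
        X.germToFunctionField (f ⁻¹ᵁ W) (f.app W b) := by
      intro b
      have e1 : (Y.presheaf.stalkSpecializes h).hom (Y.germToFunctionField W b) =
          Y.presheaf.germ W (f (genericPoint X)) hgW b :=
        TopCat.Presheaf.germ_stalkSpecializes_apply _ _ _ _
      have e2 := Scheme.Hom.germ_stalkMap_apply f W (genericPoint X) hgW b
      exact (congrArg (f.stalkMap (genericPoint X)).hom e1).trans e2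
    intro x
    obtain ⟨a, b, hb, rfl⟩ := IsFractionRing.div_surjective (A := Γ(X, f ⁻¹ᵁ W)) x
    have := hiso W
    obtain ⟨a', ha'⟩ := (ConcreteCategory.bijective_of_isIso (f.app W)).2 a
    obtain ⟨b', hb'⟩ := (ConcreteCategory.bijective_of_isIso (f.app W)).2 b
    refine ⟨Y.germToFunctionField W a' / Y.germToFunctionField W b', ?_⟩
    rw [map_div₀, hφg, hφg, ha', hb']
    rfl
  · intro hbij
    refine Groth.Agent.S2422.result hY f h ?_
    rintro x -
    exact hbij.2 x

end Groth.Agent.S14822
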