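import Groth.Statements.S14823
import Groth.Agent.AbVar.K514.Albanese
import Groth.Agent.AbVar.K514.DimBound2

set_option autoImplicit false
universe u
open CategoryTheory MonoidalCategory CartesianMonoidalCategory MonObj GrpObj AlgebraicGeometry
open AbVar

namespace Groth.Agent.S14823

/-- Let k be an arbitrary field and X a proper k-scheme with H^0(X, O_X) = k (the map k → Γ(X, O_X) is
bijective), not assumed reduced, irreducible or smooth, and let x₀ be a k-rational point of X. Then
there exist an abelian variety A over k (a proper, geometrically integral k-group scheme) and a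
k-morphism alb : X → A with alb(x₀) = 0 which is universal: for every abelian variety B over k (a
geometrically reduced, connected, proper k-group scheme) and every k-morphism g : X → B with g(x₀) =
0 there is a unique homomorphism h : A → B of k-group schemes with alb ≫ h = g. -/
theorem result (k : Type u) [Field k] (X : Over (Spec (CommRingCat.of k)))
    [IsProper X.hom] (h0 : Function.Bijective (X.hom.appTop).hom)
    (x₀ : 𝟙_ (Over (Spec (CommRingCat.of k))) ⟶ X) :
    ∃ (A : Over (Spec (CommRingCat.of k))) (_ : GrpObj A) (alb : X ⟶ A), IsProper A.hom ∧ GeometricallyIntegral A.hom ∧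
      x₀ ≫ alb = η[A] ∧
      ∀ (B : Over (Spec (CommRingCat.of k))) [GrpObj B] [IsProper B.hom] [GeometricallyReduced B.hom] [ConnectedSpace ↥B.left]
        (g : X ⟶ B), x₀ ≫ g = η[B] → ∃! h : A ⟶ B, IsMonHom h ∧ alb ≫ h = g := by
  let hXo : X.left.Over (Spec (CommRingCat.of k)) := ⟨X.hom⟩
  have hp : IsProper (X.left ↘ Spec (CommRingCat.of k)) := inferInstanceAs (IsProper X.hom)
  have hη : ∀ (B : Over (Spec (CommRingCat.of k))) [GrpObj B],
      (1 : 𝟙_ (Over (Spec (CommRingCat.of k))) ⟶ B) = η[B] := fun B _ => by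
    rw [Hom.one_def, toUnit_unique (toUnit _) (𝟙 _), Category.id_comp]
  obtain ⟨C, hC⟩ := K514.Albanese.exists_albanese h0 x₀
    (Module.finrank k (Coh.HH X.left (Coh.structureModule X.left) 1))
    (fun C => K514.DimBound.dim_le_h1 X.left h0 x₀ C.a C.pt C.gen)
  refine ⟨C.A, C.grp, C.a, C.proper, C.geom, C.pt.trans (hη C.A), fun B _ _ _ _ g hg => ?_⟩
  have hgi : GeometricallyIntegral B.hom := K514.GI.geometricallyIntegral B
  obtain ⟨h, hh, hh'⟩ := hC B g (hg.trans (hη B).symm)
  refine ⟨h, ⟨hh, hh'⟩, ?_⟩
  rintro h₂ ⟨hh₂, hh₂'⟩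
  have hi : IsIntegral C.A.left := GeometricallyIntegral.isIntegral_of_subsingleton C.A.hom
  exact K514.RedEpi.eq_of_gen C.gen h₂ h (hh₂'.trans hh'.symm)

end Groth.Agent.S14823
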