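import Groth.Statements.S14824
import Groth.Agent.AbVar.K514.DimBound2
import Groth.Agent.AbVar.K514.Const

set_option autoImplicit false
universe u
open CategoryTheory MonoidalCategory CartesianMonoidalCategory MonObj GrpObj AlgebraicGeometry
open AbVar

namespace Groth.Agent.S14824

/-- Let k be a field and X a proper k-scheme with H^0(X, O_X) one-dimensional and a k-rational point x₀;
let alb : X → A be the Albanese morphism, i.e. A is an abelian variety over k (proper, geometrically
integral group scheme), alb(x₀) = 0, and every k-morphism g : X → B to an abelian variety B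
(geometrically reduced, connected, proper group scheme) with g(x₀) = 0 factors as alb ≫ h for a
unique homomorphism h. Then dim A ≤ dim_k H^1(X, O_X); consequently the Albanese dimension of X (the
dimension of the image of alb) is at most h^1(O_X). (The published statement does not assume a
rational point (it works with the Albanese torsor); this row assumes one.) -/
theorem result (k : Type u) [Field k] (X : Scheme.{u}) [X.Over (Spec (CommRingCat.of k))]
    [IsProper (X ↘ Spec (CommRingCat.of k))] (h0 : Module.finrank k (Coh.HH X (Coh.structureModule X) 0) = 1)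
    (x₀ : 𝟙_ (Over (Spec (CommRingCat.of k))) ⟶ Over.mk (X ↘ Spec (CommRingCat.of k)))
    (A : Over (Spec (CommRingCat.of k))) [GrpObj A] [IsProper A.hom] [GeometricallyIntegral A.hom]
    (alb : Over.mk (X ↘ Spec (CommRingCat.of k)) ⟶ A) (halb : x₀ ≫ alb = η[A])
    (huniv : ∀ (B : Over (Spec (CommRingCat.of k))) [GrpObj B] [IsProper B.hom] [GeometricallyReduced B.hom] [ConnectedSpace ↥B.left]
      (g : Over.mk (X ↘ Spec (CommRingCat.of k)) ⟶ B), x₀ ≫ g = η[B] → ∃! h : A ⟶ B, IsMonHom h ∧ alb ≫ h = g) :
    topologicalKrullDim ↥A.left ≤ (Module.finrank k (Coh.HH X (Coh.structureModule X) 1) : WithBot ℕ∞) := by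
  let X' : Over (Spec (CommRingCat.of k)) := Over.mk (X ↘ Spec (CommRingCat.of k))
  have hXp : IsProper X'.hom := inferInstanceAs (IsProper (X ↘ Spec (CommRingCat.of k)))
  have hb : Function.Bijective (X'.hom.appTop).hom := K514.Const.bijective_appTop_of_finrank k X h0
  have hη : ∀ (B : Over (Spec (CommRingCat.of k))) [GrpObj B],
      (1 : 𝟙_ (Over (Spec (CommRingCat.of k))) ⟶ B) = η[B] := fun B _ => by
    rw [Hom.one_def, toUnit_unique (toUnit _) (𝟙 _), Category.id_comp]
  obtain ⟨C, _, i, g', hi, hic, hCp, hCg, hg', hgen⟩ :=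
    K514.GenDesc.exists_gen (X := X') hb x₀ alb (halb.trans (hη A).symm)
  have hmono : Mono i := Groth.Agent.Books.AlgPtsGrp.mono_of_isClosedImmersion i
  have hpt : x₀ ≫ g' = η[C] := by
    rw [← cancel_mono i, Category.assoc, hg', halb, IsMonHom.one_hom]
  have hCc : ConnectedSpace ↥C.left := K514.GI.connectedSpace C
  have hCr : GeometricallyReduced C.hom := inferInstance
  have hAc : ConnectedSpace ↥A.left := K514.GI.connectedSpace A
  have hAr : GeometricallyReduced A.hom := inferInstance
  obtain ⟨r, ⟨hr, hr'⟩, -⟩ := huniv C g' hpt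
  obtain ⟨r', -, hu⟩ := huniv A alb halb
  have h1 : r ≫ i = 𝟙 A := by
    rw [hu (r ≫ i) ⟨inferInstance, by rw [← Category.assoc, hr', hg']⟩, hu (𝟙 A) ⟨inferInstance, Category.comp_id _⟩]
  have hs : Function.Surjective i.left := fun a => ⟨r.left a, by
    rw [← Scheme.Hom.comp_apply, ← Over.comp_left, h1]; rfl⟩
  have hgenA : K514.Words.Gen alb := by
    obtain ⟨Y, hY, b, hb, hbs⟩ := hgen
    refine ⟨Y, hY, b ≫ i, ?_, ?_⟩
    · rw [← hg']
      exact K514.Words.mem_comp_hom i hb
    · have hs' : Surjective i.left := ⟨hs⟩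
      rw [Over.comp_left]
      infer_instance
  exact K514.DimBound.dim_le_h1 X hb x₀ alb (halb.trans (hη A).symm) hgenA

end Groth.Agent.S14824
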