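import Groth.Statements.S14825
import Groth.Agent.AbVar.K514.Const
-- import your own Groth.Agent.* helpers here

set_option autoImplicit false
universe u
open CategoryTheory MonoidalCategory CartesianMonoidalCategory MonObj GrpObj AlgebraicGeometry
open AbVar

namespace Groth.Agent.S14825

/-- In the pointed case, let k be a field and X a proper k-scheme with H^0(X, O_X) one-dimensional and a
k-rational point x₀; let alb : X → A be the Albanese morphism (A an abelian variety over k — proper,
geometrically integral group scheme — with alb(x₀) = 0, universal among pointed k-morphisms from X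
to abelian varieties, the latter being geometrically reduced, connected, proper group schemes). Then
X has Albanese dimension zero, i.e. the image of alb is a single point of A (X is connected, so this
says the image is zero-dimensional), if and only if A is the trivial abelian variety, i.e. A → Spec
k is an isomorphism. (The published statement does not assume a rational point (it works with the
Albanese torsor); this row assumes one.) -/
theorem result (k : Type u) [Field k] (X : Scheme.{u}) [X.Over (Spec (CommRingCat.of k))]
    [IsProper (X ↘ Spec (CommRingCat.of k))] (h0 : Module.finrank k (Coh.HH X (Coh.structureModule X) 0) = 1)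
    (x₀ : 𝟙_ (Over (Spec (CommRingCat.of k))) ⟶ Over.mk (X ↘ Spec (CommRingCat.of k)))
    (A : Over (Spec (CommRingCat.of k))) [GrpObj A] [IsProper A.hom] [GeometricallyIntegral A.hom]
    (alb : Over.mk (X ↘ Spec (CommRingCat.of k)) ⟶ A) (halb : x₀ ≫ alb = η[A])
    (huniv : ∀ (B : Over (Spec (CommRingCat.of k))) [GrpObj B] [IsProper B.hom] [GeometricallyReduced B.hom] [ConnectedSpace ↥B.left]
      (g : Over.mk (X ↘ Spec (CommRingCat.of k)) ⟶ B), x₀ ≫ g = η[B] → ∃! h : A ⟶ B, IsMonHom h ∧ alb ≫ h = g) :
    (Set.range alb.left.base).Subsingleton ↔ IsIso A.hom := by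
  have hpt : Nonempty (Over.mk (X ↘ Spec (CommRingCat.of k))).left := ⟨x₀.left (IsLocalRing.closedPoint k)⟩
  constructor
  · intro h
    have h1 : alb.left = (X ↘ Spec (CommRingCat.of k)) ≫ x₀.left ≫ alb.left :=
      K514.Const.eq_const_of_subsingleton_range _ x₀.left (Over.w x₀)
        (K514.Const.surjective_appTop_of_finrank k X h0) alb.left h
    have h2 : alb = toUnit _ ≫ η[A] := by
      ext1
      rw [← halb]
      simpa using h1
    have : IsIntegral A.left := GeometricallyIntegral.isIntegral_of_subsingleton A.hom
    obtain ⟨h, -, huniq⟩ := huniv A alb halb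
    have h3 : 𝟙 A = toUnit A ≫ η[A] := by
      have e1 := huniq (𝟙 A) ⟨inferInstance, Category.comp_id _⟩
      have e2 := huniq (toUnit A ≫ η[A]) ⟨inferInstance, by
        rw [← Category.assoc, toUnit_unique (alb ≫ toUnit A) (toUnit _), ← h2]⟩
      rw [e1, e2]
    refine ⟨η[A].left, ?_, Over.w η[A]⟩
    have h4 := congrArg (fun f => f.left) h3
    simpa using h4.symm
  · intro h
    have : Subsingleton A.left := (Scheme.Hom.homeomorph A.hom).toEquiv.subsingleton
    exact Set.subsingleton_of_subsingleton

end Groth.Agent.S14825
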