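import Groth.Statements.S14829
import Groth.Agent.Pic13.K244.AlbFin
-- import your own Groth.Agent.* helpers here

set_option autoImplicit false
universe u
open CategoryTheory CategoryTheory.Limits MonoidalCategory CartesianMonoidalCategory MonObj GrpObj AlgebraicGeometry
open Pic13

namespace Groth.Agent.S14829

/-- Let k be an arbitrary field and X a proper k-scheme which is geometrically normal (its base change
to an algebraic closure of k has integrally closed local domains as local rings), with H^0(X, O_X)
one-dimensional and a k-rational point x₀. Suppose X has Albanese dimension zero, expressed here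
pointwise: every k-morphism g : X → B to an abelian variety B over k (a geometrically reduced,
connected, proper k-group scheme) with g(x₀) = 0 is the constant morphism to the origin. Then the
group of numerically trivial invertible sheaves is torsion: every invertible O_X-module L of degree
0 on each closed integral one-dimensional subscheme satisfies L^{⊗d} ≅ O_X for some d ≥ 1. (The
published statement does not assume a k-rational point and phrases Albanese dimension zero through
the Albanese morphism; this row assumes a rational point, and given the Albanese morphism the two
formulations of Albanese dimension zero agree.) -/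
theorem result (k : Type u) [Field k]
    (X : Scheme.{u}) [X.Over (Spec (CommRingCat.of k))] [IsProper (X ↘ Spec (CommRingCat.of k))]
    (hgn : ∀ (K : Type u) [Field K] [Algebra k K] [IsAlgClosure k K],
      Pi1.IsNormalScheme (pullback (X ↘ Spec (CommRingCat.of k)) (Spec.map (CommRingCat.ofHom (algebraMap k K)))))
    (h0 : Module.finrank k (Coh.HH X (Coh.structureModule X) 0) = 1)
    (x₀ : 𝟙_ (Over (Spec (CommRingCat.of k))) ⟶ Over.mk (X ↘ Spec (CommRingCat.of k)))
    (halb0 : ∀ (B : Over (Spec (CommRingCat.of k))) [GrpObj B] [IsProper B.hom] [GeometricallyReduced B.hom] [ConnectedSpace ↥B.left]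
      (g : Over.mk (X ↘ Spec (CommRingCat.of k)) ⟶ B), x₀ ≫ g = η[B] → g = toUnit (Over.mk (X ↘ Spec (CommRingCat.of k))) ≫ η[B])
    (L : X.Modules) (hL : PicF.IsInvertible L) (hnum : Pic13.IsNumEquivZero k X L) :
    ∃ d : ℕ, 0 < d ∧ Nonempty (CohB1.tensorPow L d ≅ Coh.structureModule X) := by
  exact K244.AlbFin.main X (hgn (AlgebraicClosure k)) h0 x₀ halb0 L hL hnum

end Groth.Agent.S14829
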