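import Groth.Statements.S14830
import Groth.Agent.AbVar.K514.GI
import Groth.Agent.AbVar.K514.ProdGrp
import Groth.Agent.S8118
-- import your own Groth.Agent.* helpers here

set_option autoImplicit false
universe u
open CategoryTheory MonoidalCategory CartesianMonoidalCategory MonObj GrpObj AlgebraicGeometry
open AbVar

namespace Groth.Agent.S14830

/-- Let k be a field and X, Y proper, geometrically integral k-schemes with k-rational points x₀ and y₀.
Let albX : X → A and albY : Y → B be Albanese morphisms: A, B abelian varieties over k (proper,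
geometrically integral group schemes), albX(x₀) = 0, albY(y₀) = 0, each universal among pointed
k-morphisms into abelian varieties (geometrically reduced, connected, proper group schemes). Then
the product morphism albX × albY : X ×_k Y → A ×_k B is the Albanese morphism of X ×_k Y pointed at
(x₀, y₀): for every abelian variety C and every k-morphism g : X ×_k Y → C with g(x₀, y₀) = 0 there
is a unique homomorphism h : A ×_k B → C with (albX × albY) ≫ h = g. -/
theorem result (k : Type u) [Field k] (X Y : Scheme.{u}) [X.Over (Spec (CommRingCat.of k))] [Y.Over (Spec (CommRingCat.of k))]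
    [IsProper (X ↘ Spec (CommRingCat.of k))] [IsProper (Y ↘ Spec (CommRingCat.of k))]
    [GeometricallyIntegral (X ↘ Spec (CommRingCat.of k))] [GeometricallyIntegral (Y ↘ Spec (CommRingCat.of k))]
    (x₀ : 𝟙_ (Over (Spec (CommRingCat.of k))) ⟶ Over.mk (X ↘ Spec (CommRingCat.of k))) (y₀ : 𝟙_ (Over (Spec (CommRingCat.of k))) ⟶ Over.mk (Y ↘ Spec (CommRingCat.of k)))
    (A : Over (Spec (CommRingCat.of k))) [GrpObj A] [IsProper A.hom] [GeometricallyIntegral A.hom]
    (albX : Over.mk (X ↘ Spec (CommRingCat.of k)) ⟶ A) (halbX : x₀ ≫ albX = η[A])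
    (hunivA : ∀ (C : Over (Spec (CommRingCat.of k))) [GrpObj C] [IsProper C.hom] [GeometricallyReduced C.hom] [ConnectedSpace ↥C.left]
      (g : Over.mk (X ↘ Spec (CommRingCat.of k)) ⟶ C), x₀ ≫ g = η[C] → ∃! h : A ⟶ C, IsMonHom h ∧ albX ≫ h = g)
    (B : Over (Spec (CommRingCat.of k))) [GrpObj B] [IsProper B.hom] [GeometricallyIntegral B.hom]
    (albY : Over.mk (Y ↘ Spec (CommRingCat.of k)) ⟶ B) (halbY : y₀ ≫ albY = η[B])
    (hunivB : ∀ (C : Over (Spec (CommRingCat.of k))) [GrpObj C] [IsProper C.hom] [GeometricallyReduced C.hom] [ConnectedSpace ↥C.left]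
      (g : Over.mk (Y ↘ Spec (CommRingCat.of k)) ⟶ C), y₀ ≫ g = η[C] → ∃! h : B ⟶ C, IsMonHom h ∧ albY ≫ h = g)
    (C : Over (Spec (CommRingCat.of k))) [GrpObj C] [IsProper C.hom] [GeometricallyReduced C.hom] [ConnectedSpace ↥C.left]
    (g : Over.mk (X ↘ Spec (CommRingCat.of k)) ⊗ Over.mk (Y ↘ Spec (CommRingCat.of k)) ⟶ C) (hg : lift x₀ y₀ ≫ g = η[C]) :
    ∃! h : A ⊗ B ⟶ C, IsMonHom h ∧ (albX ⊗ₘ albY) ≫ h = g := by
  have : GeometricallyIntegral C.hom := K514.GI.geometricallyIntegral C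
  have : IsCommMonObj C := isCommMonObj_of_isProper_of_geometricallyIntegral C
  have : IsProper (Over.mk (X ↘ Spec (CommRingCat.of k))).hom := ‹IsProper (X ↘ Spec (CommRingCat.of k))›
  have : IsProper (Over.mk (Y ↘ Spec (CommRingCat.of k))).hom := ‹IsProper (Y ↘ Spec (CommRingCat.of k))›
  have : GeometricallyIntegral (Over.mk (X ↘ Spec (CommRingCat.of k))).hom :=
    ‹GeometricallyIntegral (X ↘ Spec (CommRingCat.of k))›
  have : GeometricallyIntegral (Over.mk (Y ↘ Spec (CommRingCat.of k))).hom :=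
    ‹GeometricallyIntegral (Y ↘ Spec (CommRingCat.of k))›
  obtain ⟨hdec, -⟩ := Groth.Agent.S8118.result k _ _ C x₀ y₀ g hg
  have hgX : x₀ ≫ (lift (𝟙 _) (toUnit _ ≫ y₀) ≫ g) = η[C] := by
    rw [← hg, ← Category.assoc]
    congr 1
    apply CartesianMonoidalCategory.hom_ext
    · simp
    · rw [Category.assoc, lift_snd, lift_snd, ← Category.assoc, toUnit_unique (x₀ ≫ toUnit _) (𝟙 _),
        Category.id_comp]
  have hgY : y₀ ≫ (lift (toUnit _ ≫ x₀) (𝟙 _) ≫ g) = η[C] := by
    rw [← hg, ← Category.assoc]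
    congr 1
    apply CartesianMonoidalCategory.hom_ext
    · rw [Category.assoc, lift_fst, lift_fst, ← Category.assoc, toUnit_unique (y₀ ≫ toUnit _) (𝟙 _),
        Category.id_comp]
    · simp
  obtain ⟨hX, ⟨hX1, hX2⟩, hX3⟩ := hunivA C _ hgX
  obtain ⟨hY, ⟨hY1, hY2⟩, hY3⟩ := hunivB C _ hgY
  refine ⟨(fst A B ≫ hX) * (snd A B ≫ hY), ⟨K514.ProdGrp.isMonHom_mul _ _, ?_⟩, ?_⟩
  · rw [comp_mul, tensorHom_fst_assoc, tensorHom_snd_assoc, hX2, hY2]
    exact hdec.symm
  · rintro h' ⟨hh1, hh2⟩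
    have e1 : lift (𝟙 A) (toUnit A ≫ η[B]) ≫ h' = hX := by
      apply hX3
      have : IsMonHom (toUnit A ≫ η[B]) := inferInstance
      refine ⟨inferInstance, ?_⟩
      rw [← Category.assoc, ← K514.ProdGrp.lift_comp_map albX albY y₀ η[B] halbY, Category.assoc, hh2]
    have e2 : lift (toUnit B ≫ η[A]) (𝟙 B) ≫ h' = hY := by
      apply hY3
      have : IsMonHom (toUnit B ≫ η[A]) := inferInstance
      refine ⟨inferInstance, ?_⟩
      rw [← Category.assoc, ← K514.ProdGrp.lift_comp_map' albX albY x₀ η[A] halbX, Category.assoc, hh2]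
    rw [K514.ProdGrp.eq_mul h', e1, e2]

end Groth.Agent.S14830
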