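import Groth.Statements.S5682
import Groth.Agent.FGA.K275.RedSmooth
import Groth.Agent.Sga7.H758.TorsIn

set_option autoImplicit false
universe u
open CategoryTheory CategoryTheory.Limits MonoidalCategory CartesianMonoidalCategory MonObj GrpObj AlgebraicGeometry
open FGA

namespace Groth.Agent.S5682

open Groth.Agent.Sga7.H758.AlgClosed in
/-- the statement, given the torsion input over algebraically closed fields -/
theorem main (hT : ∀ (K : Type u) [Field K] [IsAlgClosed K], TorsionInput K) (k : Type u) [Field k]
    (G : Over (Spec (CommRingCat.of k))) [GrpObj G] [IsCommMonObj G] [LocallyOfFiniteType G.hom] [QuasiCompact G.hom]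
    (hGa : ∀ pt : ↥(Spec (CommRingCat.of k)), SGA7.FibreUnipotentRankZero pt G)
    (pt : ↥(Spec (CommRingCat.of k))) :
    ∃ (H : Over (Spec (CommRingCat.of k))) (_ : GrpObj H) (i : H ⟶ G), IsMonHom i ∧ IsClosedImmersion i.left ∧
      Smooth H.hom ∧ Set.range i.left.base = connectedComponent (η[G].left.base pt) := by
  refine K275.RedSmooth.exists_smooth_of_surjective_pow k G
    (AlgebraicClosure ((Spec (CommRingCat.of k)).residueField pt)) (Red.geomPt pt) ?_ pt
  intro E _ _ _ _ _ e _ _ n hn
  have hG : NoGa _ (Red.bc (Red.geomPt pt) G) := fun j hj hj' => hGa pt j hj hj'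
  exact (flat_surjective_pow (hT _) (hG.of_closedImmersion e) n hn).2.1

/-- Let k be a field and G a commutative group scheme of finite type over k such that the base change of
G to an algebraic closure of k contains no closed subgroup scheme isomorphic to the additive group.
Then there is a closed subgroup scheme H of G which is smooth over k and whose underlying set is the
connected component of the identity point of G; in other words the reduced identity component of G
is a smooth subgroup scheme. -/
theorem result (k : Type u) [Field k]
    (G : Over (Spec (CommRingCat.of k))) [GrpObj G] [IsCommMonObj G] [LocallyOfFiniteType G.hom] [QuasiCompact G.hom]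
    (hGa : ∀ pt : ↥(Spec (CommRingCat.of k)), SGA7.FibreUnipotentRankZero pt G)
    (pt : ↥(Spec (CommRingCat.of k))) :
    ∃ (H : Over (Spec (CommRingCat.of k))) (_ : GrpObj H) (i : H ⟶ G), IsMonHom i ∧ IsClosedImmersion i.left ∧
      Smooth H.hom ∧ Set.range i.left.base = connectedComponent (η[G].left.base pt) :=
  main (fun K _ _ => Groth.Agent.Sga7.H758.TorsIn.torsionInput K) k G hGa pt

end Groth.Agent.S5682
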