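import Groth.Statements.S14832
import Groth.Agent.AbVar.K514.AlbZero
import Groth.Agent.S5681
import Groth.Agent.S5687
import Groth.Agent.S5688

set_option autoImplicit false
universe u
open CategoryTheory CategoryTheory.Limits MonoidalCategory CartesianMonoidalCategory MonObj GrpObj AlgebraicGeometry
open AbVar

namespace Groth.Agent.S14832

/-- Let k be a field and X a proper k-scheme which is geometrically normal (its base change to an
algebraic closure of k has integrally closed local domains), with H^0(X, O_X) one-dimensional and a
k-rational point x₀, and suppose X has Albanese dimension zero in the pointed sense: every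
k-morphism g : X → B to an abelian variety B over k (a geometrically reduced, connected, proper
k-group scheme) with g(x₀) = 0 is constant. If in addition H^2(X, O_X) = 0 or k has characteristic
zero, then H^1(X, O_X) = 0. (Without geometric normality or without the additional assumption this
fails: supersingular Enriques surfaces, the cuspidal cubic. The published statement does not assume
a k-rational point; this row assumes one.) -/
theorem result (k : Type u) [Field k]
    (X : Scheme.{u}) [X.Over (Spec (CommRingCat.of k))] [IsProper (X ↘ Spec (CommRingCat.of k))]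
    (hgn : ∀ (K : Type u) [Field K] [Algebra k K] [IsAlgClosure k K],
      Pi1.IsNormalScheme (pullback (X ↘ Spec (CommRingCat.of k)) (Spec.map (CommRingCat.ofHom (algebraMap k K)))))
    (h0 : Module.finrank k (Coh.HH X (Coh.structureModule X) 0) = 1)
    (x₀ : 𝟙_ (Over (Spec (CommRingCat.of k))) ⟶ Over.mk (X ↘ Spec (CommRingCat.of k)))
    (halb0 : ∀ (B : Over (Spec (CommRingCat.of k))) [GrpObj B] [IsProper B.hom] [GeometricallyReduced B.hom] [ConnectedSpace ↥B.left]
      (g : Over.mk (X ↘ Spec (CommRingCat.of k)) ⟶ B), x₀ ≫ g = η[B] → g = toUnit (Over.mk (X ↘ Spec (CommRingCat.of k))) ≫ η[B])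
    (hadd : Subsingleton (Coh.HH X (Coh.structureModule X) 2) ∨ CharZero k) :
    Module.finrank k (Coh.HH X (Coh.structureModule X) 1) = 0 := by
  exact K514.AlbZero.main
    (fun k _ X f _ h P _ φ hP pt => Groth.Agent.S5681.result k X f h P φ hP pt)
    (fun k _ X f _ h P _ φ hP pt => Groth.Agent.S5688.result k X f h P φ hP pt)
    (fun f _ _ P _ hP s h => Groth.Agent.S5687.result f P hP s h) k X hgn h0 x₀ halb0 hadd

end Groth.Agent.S14832
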