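import Groth.Statements.S14835
import Groth.Agent.Curves.K325.GenusLe
import Groth.Agent.Surf.K456.FlatCurve
import Groth.Agent.Surf.K455.RelDim
import Groth.Agent.S1566
import Groth.Agent.S1602
import Groth.Agent.Etcore.CurveComp
import Groth.Agent.Pi1.H386.NormalCurve

set_option autoImplicit false
universe u
open CategoryTheory CategoryTheory.Limits AlgebraicGeometry
open Curves

namespace Groth.Agent.S14835

/-- Let k be an algebraically closed field, C and B proper curves over k (proper k-schemes of dimension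
one) with B connected and regular (all local rings regular), φ : C → B a k-morphism, and ι : C_i → C
a closed integral one-dimensional subscheme (an integral component) such that the composite C_i → B
is finite. Then dim_k H^1(C, O_C) ≥ dim_k H^1(C_i, O_{C_i}) ≥ dim_k H^1(B, O_B). -/
theorem result (k : Type u) [Field k] [IsAlgClosed k]
    (C B Ci : Scheme.{u}) [C.Over (Spec (CommRingCat.of k))] [B.Over (Spec (CommRingCat.of k))] [Ci.Over (Spec (CommRingCat.of k))]
    [IsProper (C ↘ Spec (CommRingCat.of k))] [IsProper (B ↘ Spec (CommRingCat.of k))]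
    (hC : topologicalKrullDim ↥C = 1) (hB : topologicalKrullDim ↥B = 1) [ConnectedSpace ↥B]
    (hBreg : ∀ b : B, IsRegularLocalRing (B.presheaf.stalk b))
    (φ : C ⟶ B) (hφ : φ ≫ (B ↘ Spec (CommRingCat.of k)) = C ↘ Spec (CommRingCat.of k))
    (ι : Ci ⟶ C) [IsClosedImmersion ι] [IsIntegral Ci] (hCi : topologicalKrullDim ↥Ci = 1)
    (hι : ι ≫ (C ↘ Spec (CommRingCat.of k)) = Ci ↘ Spec (CommRingCat.of k)) [IsFinite (ι ≫ φ)] :
    Module.finrank k (Coh.HH Ci (Coh.structureModule Ci) 1) ≤ Module.finrank k (Coh.HH C (Coh.structureModule C) 1) ∧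
      Module.finrank k (Coh.HH B (Coh.structureModule B) 1) ≤ Module.finrank k (Coh.HH Ci (Coh.structureModule Ci) 1) := by
  refine ⟨?_, ?_⟩
  · have h : IsClosedImmersion (ι ∣_ (⊤ : C.Opens)) := inferInstance
    exact S1566.result k C Ci hC.le ι hι ⊤ (by simp) h
  -- normalization of the component
  have hpCi : IsProper (Ci ↘ Spec (CommRingCat.of k)) := by
    rw [← hι]
    infer_instance
  obtain ⟨Y, ν, hfin, hsurj, hYint, hYn, ⟨V, hV, hVd⟩, hdimY⟩ :=
    Etcore.CurveComp.exists_normalization k Ci (Ci ↘ (Spec (CommRingCat.of k)))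
  letI : Y.Over (Spec (CommRingCat.of k)) := ⟨ν ≫ (Ci ↘ (Spec (CommRingCat.of k)))⟩
  have hYp : IsProper (Y ↘ (Spec (CommRingCat.of k))) :=
    inferInstanceAs (IsProper (ν ≫ (Ci ↘ (Spec (CommRingCat.of k)))))
  have hsm : Smooth (Y ↘ (Spec (CommRingCat.of k))) :=
    Pi1.H386.NormalCurve.smooth_of_normal k _ hYn (by rw [hdimY, hCi])
  have hd : Dense (V : Set Ci) := V.isOpen.dense hV
  have hd' : Dense ((ν ⁻¹ᵁ V : Y.Opens) : Set Y) := by
    refine (ν ⁻¹ᵁ V).isOpen.dense ?_
    obtain ⟨x, hx⟩ := hV
    obtain ⟨y, rfl⟩ := hsurj.surj x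
    exact ⟨y, hx⟩
  have hgen : Curv2.genus k Y ≤ Curv2.genus k Ci :=
    S1602.result k Ci Y hCi.le ν rfl V hd hd' hVd
  refine le_trans ?_ hgen
  -- the base is a smooth proper curve
  have : IsLocallyNoetherian B := LocallyOfFiniteType.isLocallyNoetherian (B ↘ Spec (CommRingCat.of k))
  have : CompactSpace B := QuasiCompact.compactSpace_of_compactSpace (B ↘ Spec (CommRingCat.of k))
  have : IsNoetherian B := {}
  have hBint : IsIntegral B := K455.RelDim.isIntegral_of_regular hBreg
  have hBsm : Smooth (B ↘ Spec (CommRingCat.of k)) := Ega2.SmoothBdry.smooth_of_regular _ hBreg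
  let g : Y ⟶ B := ν ≫ ι ≫ φ
  have hgf : IsFinite g := by
    have : IsFinite (ν ≫ (ι ≫ φ)) := inferInstance
    exact this
  have hnc : (Set.range g.base).Nontrivial := by
    by_contra hcon
    rw [Set.not_nontrivial_iff] at hcon
    have hu : g ⁻¹' {g (genericPoint Y)} = Set.univ := by
      ext y
      simp only [Set.mem_preimage, Set.mem_singleton_iff, Set.mem_univ, iff_true]
      exact hcon ⟨y, rfl⟩ ⟨genericPoint Y, rfl⟩
    have hdisc := g.isDiscrete_preimage_singleton (g (genericPoint Y))
    rw [hu] at hdisc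
    have hdt : DiscreteTopology Y := isDiscrete_univ_iff.1 hdisc
    have := topologicalKrullDim_zero_of_discreteTopology Y
    rw [hdimY, hCi] at this
    exact absurd this (by decide)
  have hdom : IsDominant g := K456.FlatCurve.isDominant_of_nontrivial g hB.le hnc
  have hflat : Flat g := K456.FlatCurve.flat_of_dominant g hBreg hB.le
  have hlfp : LocallyOfFinitePresentation g := inferInstance
  have hlc := g.isLocallyConstant_finrank
  have hcst : ∀ b : B, g.finrank b = g.finrank (g (genericPoint Y)) := fun b =>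
    hlc.apply_eq_of_preconnectedSpace b _
  have hg : g ≫ (B ↘ Spec (CommRingCat.of k)) = Y ↘ Spec (CommRingCat.of k) := by
    change (ν ≫ ι ≫ φ) ≫ _ = ν ≫ _
    rw [← hι, ← hφ]
    simp only [Category.assoc]
  exact K325.GenusLe.genus_le k ⟨hYp, hsm, hYint, by rw [hdimY, hCi]⟩ ⟨inferInstance, hBsm, hBint, hB⟩ g _
    (g.one_le_finrank_map (genericPoint Y)) hcst

end Groth.Agent.S14835
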