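import Groth.Statements.S14837
import Groth.Agent.Coh.K415.LerayGen
import Groth.Agent.Fga.UnitRestrict
import Groth.Agent.CurvesB.UnitCoh
import Groth.Agent.CohqB.HLin
import Groth.Agent.S0002

set_option autoImplicit false
universe u
open CategoryTheory CategoryTheory.Limits AlgebraicGeometry
open Coh

namespace Groth.Agent.S14837

/-- Let k be a field and f : X → Y a k-morphism between proper k-schemes which is a fibration (Γ(V, O_Y)
→ Γ(f⁻¹V, O_X) bijective for every open V ⊆ Y). Then H^1(Y, O_Y) injects naturally into H^1(X, O_X)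
(edge map of the Leray spectral sequence); stated here as the inequality dim_k H^1(Y, O_Y) ≤ dim_k
H^1(X, O_X) of finite dimensions. -/
theorem result (k : Type u) [Field k] (X Y : Scheme.{u})
    [X.Over (Spec (CommRingCat.of k))] [Y.Over (Spec (CommRingCat.of k))] [IsProper (X ↘ Spec (CommRingCat.of k))] [IsProper (Y ↘ Spec (CommRingCat.of k))]
    (f : X ⟶ Y) (hf : f ≫ (Y ↘ Spec (CommRingCat.of k)) = X ↘ Spec (CommRingCat.of k)) (hfib : ∀ V : Y.Opens, IsIso (f.app V)) :
    Module.finrank k (Coh.HH Y (Coh.structureModule Y) 1) ≤ Module.finrank k (Coh.HH X (Coh.structureModule X) 1) := by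
  have hbij : ∀ V : Y.Opens, Function.Bijective (f.app V) := fun V ↦
    ConcreteCategory.bijective_of_isIso (f.app V)
  have := Groth.Agent.Fga.UnitRestrict.isIso_unitToPush f hbij
  obtain ⟨φ, hφ⟩ := K415.LerayGen.exists_injective_one f k hf (Coh.structureModule X)
  have e := Groth.Agent.CohqB.HLin.HHequivA k
    (asIso (Groth.Agent.Fga.UnitRestrict.unitToPush f)) 1
  have hfin : Module.Finite k (Coh.HH X (Coh.structureModule X) 1) :=
    Groth.Agent.S0002.result k X _ (Groth.Agent.CurvesB.UnitCoh.isCoh_structureModule X) 1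
  rw [e.finrank_eq]
  exact LinearMap.finrank_le_finrank_of_injective hφ

end Groth.Agent.S14837
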