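import Groth.Statements.S14848
import Mathlib.Tactic
import Mathlib.LinearAlgebra.Matrix.SpecialLinearGroup
import Mathlib.RingTheory.RootsOfUnity.PrimitiveRoots

set_option autoImplicit false
universe u v
open McKay

namespace Groth.Agent.S14848

/-- Let K be a field of characteristic zero, L an extension field of K and ξ ∈ L a primitive n-th root
of unity (n ≥ 1) with ξ + ξ⁻¹ ∈ K, say ξ + ξ⁻¹ = 2c with c ∈ K (the character of the natural
two-dimensional representation of the cyclic group of order n takes values in K). Then the cyclic
group of order n is realisable over K as a subgroup of SL(2, K): there is an element of SL(2, K) of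
order n. -/
theorem result {K : Type u} {L : Type v} [Field K] [Field L]
    [CharZero K] [Algebra K L] (n : ℕ) (hn : 1 ≤ n) (ξ : L) (hξ : IsPrimitiveRoot ξ n) (c : K)
    (hc : algebraMap K L (2 * c) = ξ + ξ⁻¹) :
    ∃ M : Matrix.SpecialLinearGroup (Fin 2) K, orderOf M = n := by
  classical
  have hinj : Function.Injective (algebraMap K L) := (algebraMap K L).injective
  have : CharZero L := charZero_of_injective_algebraMap hinj
  have hξ0 : ξ ≠ 0 := hξ.ne_zero (by omega)
  rcases Nat.lt_or_ge n 3 with h3 | h3
  · interval_cases n
    · exact ⟨1, orderOf_one⟩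
    · refine ⟨-1, ?_⟩
      have : Fact (Nat.Prime 2) := ⟨Nat.prime_two⟩
      refine orderOf_eq_prime (by simp) ?_
      intro h
      have h1 := congrArg (fun M : Matrix.SpecialLinearGroup (Fin 2) K => M.1 0 0) h
      simp at h1
      have : (2 : K) = 0 := by linear_combination -h1
      exact two_ne_zero this
  · -- the companion matrix
    have hne : ξ ≠ ξ⁻¹ := by
      intro h
      have h2 : ξ ^ 2 = 1 := by
        rw [sq]
        nth_rewrite 2 [h]
        exact mul_inv_cancel₀ hξ0
      have := Nat.le_of_dvd (by norm_num) ((hξ.pow_eq_one_iff_dvd 2).mp h2)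
      omega
    let M : Matrix.SpecialLinearGroup (Fin 2) K := ⟨!![0, -1; 1, 2 * c], by simp [Matrix.det_fin_two]⟩
    have hpow : ∀ k : ℕ, ∀ z : L, z ^ 2 + 1 = (algebraMap K L (2 * c)) * z →
        ((M.1 ^ k).map (algebraMap K L)).mulVec ![-1, z] = z ^ k • ![-1, z] := by
      intro k z hz
      induction k with
      | zero => simp
      | succ k ih =>
        rw [pow_succ', Matrix.map_mul, ← Matrix.mulVec_mulVec, ih, Matrix.mulVec_smul, pow_succ,
          mul_smul]
        congr 1
        ext i
        fin_cases i
        · simp [M, Matrix.mulVec, dotProduct, Fin.sum_univ_two]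
        · simp [M, Matrix.mulVec, dotProduct, Fin.sum_univ_two]
          simp at hz
          linear_combination -hz
    have hz1 : ξ ^ 2 + 1 = (algebraMap K L (2 * c)) * ξ := by
      rw [hc]; field_simp
    have hz2 : ξ⁻¹ ^ 2 + 1 = (algebraMap K L (2 * c)) * ξ⁻¹ := by
      rw [hc]; field_simp; ring
    have key : ∀ k : ℕ, M ^ k = 1 ↔ ξ ^ k = 1 := by
      intro k
      constructor
      · intro h
        have h1 := hpow k ξ hz1
        have h2 : M.1 ^ k = 1 := by
          have := congrArg Subtype.val h
          simpa using this
        rw [h2] at h1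
        have h4 : (1 : Matrix (Fin 2) (Fin 2) K).map (algebraMap K L) = 1 :=
          Matrix.map_one _ (map_zero _) (map_one _)
        rw [h4, Matrix.one_mulVec] at h1
        have := congrFun h1 0
        simp at this
        exact this.symm
      · intro h
        have h1 := hpow k ξ hz1
        have h2 := hpow k ξ⁻¹ hz2
        rw [inv_pow, h, inv_one, one_smul] at h2
        rw [h, one_smul] at h1
        apply Subtype.ext
        have e : ((M ^ k : Matrix.SpecialLinearGroup (Fin 2) K) : Matrix (Fin 2) (Fin 2) K) = M.1 ^ k := by simp
        show ((M ^ k : Matrix.SpecialLinearGroup (Fin 2) K) : Matrix (Fin 2) (Fin 2) K) = 1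
        rw [e]
        set N := M.1 ^ k with hN
        have a1 := congrFun h1 0
        have a2 := congrFun h2 0
        have b1 := congrFun h1 1
        have b2 := congrFun h2 1
        simp [Matrix.mulVec, dotProduct, Fin.sum_univ_two] at a1 a2 b1 b2
        have hd : ξ - ξ⁻¹ ≠ 0 := sub_ne_zero.mpr hne
        have c1 : algebraMap K L (N 0 1) = 0 := by
          have : algebraMap K L (N 0 1) * (ξ - ξ⁻¹) = 0 := by linear_combination a1 - a2
          exact (mul_eq_zero.mp this).resolve_right hd
        have c2 : algebraMap K L (N 1 1) = 1 := by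
          have : (algebraMap K L (N 1 1) - 1) * (ξ - ξ⁻¹) = 0 := by linear_combination b1 - b2
          exact sub_eq_zero.mp ((mul_eq_zero.mp this).resolve_right hd)
        have c0 : algebraMap K L (N 0 0) = 1 := by
          rw [c1] at a1; linear_combination -a1
        have c3 : algebraMap K L (N 1 0) = 0 := by
          rw [c2] at b1; linear_combination -b1
        ext i j
        fin_cases i <;> fin_cases j
        · exact hinj (by simpa using c0)
        · exact hinj (by simpa using c1)
        · exact hinj (by simpa using c3)
        · exact hinj (by simpa using c2)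
    refine ⟨M, ?_⟩
    apply Nat.dvd_antisymm
    · rw [orderOf_dvd_iff_pow_eq_one, key]
      exact hξ.pow_eq_one
    · rw [← hξ.pow_eq_one_iff_dvd, ← key]
      exact pow_orderOf_eq_one M

end Groth.Agent.S14848
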