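import Groth.Statements.S14849
import Mathlib.Tactic
import Mathlib.LinearAlgebra.Matrix.SpecialLinearGroup
import Mathlib.RingTheory.RootsOfUnity.PrimitiveRoots
import Mathlib.GroupTheory.SpecificGroups.Quaternion

set_option autoImplicit false
universe u v
open McKay

namespace Groth.Agent.S14849

/-- Let K be a field of characteristic zero, L an extension field of K, n ≥ 2, and ξ ∈ L a primitive
2n-th root of unity with ξ + ξ⁻¹ = 2c for some c ∈ K. If the Hilbert symbol of -1 and c² - 1 over K
equals 1, i.e. x² - (c² - 1) y² = -1 has a solution in K, then the binary dihedral group of order 4n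
(generators σ, τ with τ² = σⁿ = (τσ)²) is isomorphic to a subgroup of SL(2, K). (The published
statement is an equivalence; this row is the direction realising the group from a solution of the
conic.) -/
theorem result {K : Type u} {L : Type v}
    [Field K] [Field L] [CharZero K] [Algebra K L] (n : ℕ) (hn : 2 ≤ n) (ξ : L)
    (hξ : IsPrimitiveRoot ξ (2 * n)) (c : K) (hc : algebraMap K L (2 * c) = ξ + ξ⁻¹)
    (hsol : ∃ x y : K, x ^ 2 - (c ^ 2 - 1) * y ^ 2 = -1) :
    ∃ f : QuaternionGroup n →* Matrix.SpecialLinearGroup (Fin 2) K, Function.Injective f := by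
  classical
  obtain ⟨x, y, hxy⟩ := hsol
  have hinj : Function.Injective (algebraMap K L) := (algebraMap K L).injective
  have : CharZero L := charZero_of_injective_algebraMap hinj
  have hξ0 : ξ ≠ 0 := hξ.ne_zero (by omega)
  have hne : ξ ≠ ξ⁻¹ := by
    intro h
    have h2 : ξ ^ 2 = 1 := by
      rw [sq]
      nth_rewrite 2 [h]
      exact mul_inv_cancel₀ hξ0
    have := Nat.le_of_dvd (by norm_num) ((hξ.pow_eq_one_iff_dvd 2).mp h2)
    omega
  -- the two matrices
  let σ : Matrix.SpecialLinearGroup (Fin 2) K := ⟨!![c, c ^ 2 - 1; 1, c], by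
    simp [Matrix.det_fin_two]; ring⟩
  let τ : Matrix.SpecialLinearGroup (Fin 2) K := ⟨!![x, -(c ^ 2 - 1) * y; y, -x], by
    simp only [Matrix.det_fin_two, Matrix.of_apply, Matrix.cons_val', Matrix.cons_val_zero,
      Matrix.cons_val_one, Matrix.cons_val_fin_one]
    linear_combination -hxy⟩
  set s : L := ξ - algebraMap K L c with hs
  have hc' : 2 * algebraMap K L c = ξ + ξ⁻¹ := by rw [← hc, map_mul, map_ofNat]
  have hξinv : ξ * ξ⁻¹ = 1 := mul_inv_cancel₀ hξ0
  have hsinv : ξ⁻¹ - algebraMap K L c = -s := by rw [hs]; linear_combination -hc'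
  have hs2 : s ^ 2 = algebraMap K L c ^ 2 - 1 := by
    rw [hs]
    have : ξ⁻¹ = 2 * algebraMap K L c - ξ := by linear_combination -hc'
    rw [this] at hξinv
    linear_combination -hξinv
  -- eigenvectors
  have hpow : ∀ k : ℕ, ∀ w z : L, w ^ 2 = algebraMap K L c ^ 2 - 1 → z = algebraMap K L c + w →
      ((σ.1 ^ k).map (algebraMap K L)).mulVec ![w, 1] = z ^ k • ![w, 1] := by
    intro k w z hw hz
    induction k with
    | zero => simp
    | succ k ih =>
      rw [pow_succ', Matrix.map_mul, ← Matrix.mulVec_mulVec, ih, Matrix.mulVec_smul, pow_succ,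
        mul_smul]
      congr 1
      ext i
      fin_cases i
      · simp [σ, Matrix.mulVec, dotProduct, Fin.sum_univ_two]
        rw [hz]
        linear_combination -hw
      · simp [σ, Matrix.mulVec, dotProduct, Fin.sum_univ_two]
        rw [hz]
        ring
  have hp1 : ∀ k : ℕ, ((σ.1 ^ k).map (algebraMap K L)).mulVec ![s, 1] = ξ ^ k • ![s, 1] :=
    fun k => hpow k s ξ hs2 (by rw [hs]; ring)
  have hp2 : ∀ k : ℕ, ((σ.1 ^ k).map (algebraMap K L)).mulVec ![-s, 1] = ξ⁻¹ ^ k • ![-s, 1] :=
    fun k => hpow k (-s) ξ⁻¹ (by rw [neg_sq, hs2]) (by rw [← hsinv]; ring)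
  have hs0 : s ≠ 0 := by
    intro h0
    apply hne
    have h1 : ξ = algebraMap K L c := by rw [hs] at h0; exact sub_eq_zero.mp h0
    have h2 : ξ⁻¹ = algebraMap K L c := by
      rw [h0, neg_zero] at hsinv; exact sub_eq_zero.mp hsinv
    rw [h2, h1]
  -- a scalar matrix criterion
  have hscal : ∀ k : ℕ, ∀ u : K, ξ ^ k = algebraMap K L u → ξ⁻¹ ^ k = algebraMap K L u →
      σ.1 ^ k = u • (1 : Matrix (Fin 2) (Fin 2) K) := by
    intro k u h1 h2
    have a := hp1 k
    have b := hp2 k
    rw [h1] at a
    rw [h2] at b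
    set N := σ.1 ^ k with hN
    have a1 := congrFun a 0
    have a2 := congrFun a 1
    have b1 := congrFun b 0
    have b2 := congrFun b 1
    simp [Matrix.mulVec, dotProduct, Fin.sum_univ_two] at a1 a2 b1 b2
    have c1 : algebraMap K L (N 0 1) = 0 := by
      have : 2 * algebraMap K L (N 0 1) = 0 := by linear_combination a1 + b1
      exact (mul_eq_zero.mp this).resolve_left two_ne_zero
    have c2 : algebraMap K L (N 1 1) = algebraMap K L u := by
      have : 2 * (algebraMap K L (N 1 1) - algebraMap K L u) = 0 := by linear_combination a2 + b2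
      exact sub_eq_zero.mp ((mul_eq_zero.mp this).resolve_left two_ne_zero)
    have c0 : algebraMap K L (N 0 0) = algebraMap K L u := by
      have : (algebraMap K L (N 0 0) - algebraMap K L u) * s = 0 := by
        rw [c1] at a1; linear_combination a1
      exact sub_eq_zero.mp ((mul_eq_zero.mp this).resolve_right hs0)
    have c3 : algebraMap K L (N 1 0) = 0 := by
      have : algebraMap K L (N 1 0) * s = 0 := by
        rw [c2] at a2; linear_combination a2
      exact (mul_eq_zero.mp this).resolve_right hs0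
    ext i j
    fin_cases i <;> fin_cases j
    · exact hinj (by simpa using c0)
    · exact hinj (by simpa using c1)
    · exact hinj (by simpa using c3)
    · exact hinj (by simpa using c2)
  have hξn : ξ ^ n = -1 := by
    have h1 : (ξ ^ n) ^ 2 = 1 := by rw [← pow_mul, mul_comm n 2, hξ.pow_eq_one]
    rcases _root_.sq_eq_one_iff.mp h1 with h | h
    · exfalso
      have := Nat.le_of_dvd (by omega) ((hξ.pow_eq_one_iff_dvd n).mp h)
      omega
    · exact h
  have hσn : σ ^ n = -1 := by
    apply Subtype.ext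
    have := hscal n (-1) (by rw [hξn]; simp) (by rw [inv_pow, hξn]; simp)
    simpa using this
  have hσ2n : σ ^ (2 * n) = 1 := by
    rw [mul_comm, pow_mul, hσn]; simp
  have horder : ∀ k : ℕ, σ ^ k = 1 → 2 * n ∣ k := by
    intro k hk
    rw [← hξ.pow_eq_one_iff_dvd]
    have h1 := hp1 k
    have h2 : σ.1 ^ k = 1 := by
      have := congrArg Subtype.val hk
      simpa using this
    rw [h2] at h1
    have h4 : (1 : Matrix (Fin 2) (Fin 2) K).map (algebraMap K L) = 1 :=
      Matrix.map_one _ (map_zero _) (map_one _)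
    rw [h4, Matrix.one_mulVec] at h1
    have := congrFun h1 1
    simp at this
    exact this.symm
  have hτ2 : τ * τ = -1 := by
    apply Subtype.ext
    ext i j
    fin_cases i <;> fin_cases j <;> simp [τ, Matrix.mul_apply, Fin.sum_univ_two]
    · linear_combination hxy
    · ring
    · ring
    · linear_combination hxy
  have hcomm : σ * τ * σ = τ := by
    apply Subtype.ext
    ext i j
    fin_cases i <;> fin_cases j <;> simp [τ, σ, Matrix.mul_apply, Fin.sum_univ_two]
    all_goals ring_nf
  have hσp : σ * τ = τ * σ⁻¹ := by rw [eq_mul_inv_iff_mul_eq]; exact hcomm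
  let φ : ZMod (2 * n) →+ Additive (Matrix.SpecialLinearGroup (Fin 2) K) :=
    ZMod.lift (2 * n) ⟨zmultiplesHom _ (Additive.ofMul σ), by
      simp only [zmultiplesHom_apply, natCast_zsmul]
      rw [← ofMul_pow, hσ2n]; rfl⟩
  have hφ : ∀ k : ℤ, (φ (k : ZMod (2 * n))).toMul = σ ^ k := by
    intro k
    simp only [φ, ZMod.lift_coe, zmultiplesHom_apply]
    rfl
  have hsurj : ∀ i : ZMod (2 * n), ∃ k : ℤ, (k : ZMod (2 * n)) = i := ZMod.intCast_surjective
  have hsemi : ∀ k : ℤ, σ ^ k * τ = τ * σ ^ (-k) := by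
    intro k
    have h : SemiconjBy τ σ⁻¹ σ := hσp.symm
    have := (h.zpow_right k).eq
    rw [inv_zpow'] at this
    exact this.symm
  have hφinj : Function.Injective φ := by
    rw [injective_iff_map_eq_zero]
    intro i hi
    have : NeZero (2 * n) := ⟨by omega⟩
    have h1 : σ ^ (i.val) = 1 := by
      have h2 := hφ (i.val : ℤ)
      rw [zpow_natCast] at h2
      rw [← h2]
      have : (((i.val : ℤ)) : ZMod (2 * n)) = i := by simp
      rw [this, hi]; rfl
    have h3 := horder _ h1
    rw [← ZMod.natCast_eq_zero_iff] at h3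
    simpa using h3
  let F : QuaternionGroup n → Matrix.SpecialLinearGroup (Fin 2) K := fun q =>
    match q with
    | .a i => (φ i).toMul
    | .xa i => τ * (φ i).toMul
  have hFa : ∀ i, F (.a i) = (φ i).toMul := fun _ => rfl
  have hFxa : ∀ i, F (.xa i) = τ * (φ i).toMul := fun _ => rfl
  have hF : ∀ p q, F (p * q) = F p * F q := by
    intro p q
    rcases p with i | i <;> rcases q with j | j <;> obtain ⟨k, rfl⟩ := hsurj i <;>
      obtain ⟨l, rfl⟩ := hsurj j
    · rw [QuaternionGroup.a_mul_a, hFa, hFa, hFa, ← Int.cast_add, hφ, hφ, hφ, zpow_add]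
    · rw [QuaternionGroup.a_mul_xa, hFa, hFxa, hFxa, ← Int.cast_sub, hφ, hφ, hφ, ← mul_assoc,
        hsemi, mul_assoc, ← zpow_add]
      congr 2; ring
    · rw [QuaternionGroup.xa_mul_a, hFa, hFxa, hFxa, ← Int.cast_add, hφ, hφ, hφ, zpow_add,
        mul_assoc]
    · rw [QuaternionGroup.xa_mul_xa, hFa, hFxa, hFxa]
      have e : ((n : ZMod (2 * n)) + (l : ZMod (2 * n)) - (k : ZMod (2 * n))) =
          (((n : ℤ) + (l - k) : ℤ) : ZMod (2 * n)) := by push_cast; ring
      rw [e, hφ, hφ, hφ, zpow_add, zpow_natCast, hσn]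
      have : τ * σ ^ k * (τ * σ ^ l) = τ * (σ ^ k * τ) * σ ^ l := by group
      rw [this, hsemi, ← mul_assoc, hτ2, mul_assoc, ← zpow_add]
      congr 2; ring
  refine ⟨MonoidHom.mk' F hF, ?_⟩
  have hbad : ∀ i j : ZMod (2 * n), (φ i).toMul ≠ τ * (φ j).toMul := by
    intro i j h
    obtain ⟨k, rfl⟩ := hsurj i
    obtain ⟨l, rfl⟩ := hsurj j
    rw [hφ, hφ] at h
    have h1 : τ = σ ^ (k - l) := by
      rw [zpow_sub, h]; group
    have h2 : σ * τ = τ * σ := by
      rw [h1, ← zpow_one_add, ← zpow_add_one, add_comm]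
    rw [h2] at hσp
    have h3 : σ = σ⁻¹ := mul_left_cancel hσp
    have h4 : σ ^ 2 = 1 := by
      rw [sq]; nth_rewrite 2 [h3]; exact mul_inv_cancel _
    have := Nat.le_of_dvd (by norm_num) (horder 2 h4)
    omega
  intro p q hpq
  change F p = F q at hpq
  rcases p with i | i <;> rcases q with j | j
  · rw [hFa, hFa] at hpq
    exact congrArg _ (hφinj hpq)
  · exact absurd hpq (hbad i j)
  · exact absurd hpq.symm (hbad j i)
  · rw [hFxa, hFxa] at hpq
    have h1 : (φ i).toMul = (φ j).toMul := mul_left_cancel hpq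
    exact congrArg _ (hφinj h1)

end Groth.Agent.S14849
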