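import Groth.Statements.S14852
import Groth.Agent.HopfRep.K190.Cosemi

set_option autoImplicit false
universe u v w w'
open HopfRep

namespace Groth.Agent.S14852

open TensorProduct in
/-- Over a field K, let C be a cosemisimple coalgebra and D₁ ≠ D₂ simple subcoalgebras of C. If V is a
right C-comodule whose coaction lands in V ⊗ D₁ and W one whose coaction lands in W ⊗ D₂, then the
only comodule map V → W is zero. Here a subcoalgebra of C is a subspace B whose comultiplication
lands in the image of B ⊗ B, and a simple subcoalgebra is a nonzero subcoalgebra D whose only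
subcoalgebras contained in D are 0 and D; cosemisimple means C is the internal direct sum of a
family of simple subcoalgebras. (The published statement is for quasi-coherent G-sheaves on a scheme
with trivial action of G = Spec C; this row is the statement on spaces of sections to which its
proof reduces.) -/
theorem result {K : Type u} {C : Type v} [Field K]
    [AddCommGroup C] [Module K C] [Coalgebra K C]
    (hC : ∃ (ι : Type v) (D : ι → Submodule K C), iSupIndep D ∧ iSup D = ⊤ ∧ ∀ i,
        D i ≠ ⊥ ∧ (∀ b ∈ (D i), CoalgebraStruct.comul (R := K) b ∈ LinearMap.range (TensorProduct.map (D i).subtype (D i).subtype)) ∧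
        ∀ B : Submodule K C, B ≤ D i → (∀ b ∈ B, CoalgebraStruct.comul (R := K) b ∈ LinearMap.range (TensorProduct.map B.subtype B.subtype)) → B = ⊥ ∨ B = D i)
    (D₁ D₂ : Submodule K C) (hne : D₁ ≠ D₂)
    (h₁ : D₁ ≠ ⊥ ∧ (∀ b ∈ D₁, CoalgebraStruct.comul (R := K) b ∈ LinearMap.range (TensorProduct.map D₁.subtype D₁.subtype)) ∧ ∀ B : Submodule K C, B ≤ D₁ → (∀ b ∈ B, CoalgebraStruct.comul (R := K) b ∈ LinearMap.range (TensorProduct.map B.subtype B.subtype)) → B = ⊥ ∨ B = D₁)
    (h₂ : D₂ ≠ ⊥ ∧ (∀ b ∈ D₂, CoalgebraStruct.comul (R := K) b ∈ LinearMap.range (TensorProduct.map D₂.subtype D₂.subtype)) ∧ ∀ B : Submodule K C, B ≤ D₂ → (∀ b ∈ B, CoalgebraStruct.comul (R := K) b ∈ LinearMap.range (TensorProduct.map B.subtype B.subtype)) → B = ⊥ ∨ B = D₂)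
    {V : Type w} [AddCommGroup V] [Module K V] [HopfRep.Comod K C V]
    {W : Type w'} [AddCommGroup W] [Module K W] [HopfRep.Comod K C W]
    (hV : ∀ v : V, HopfRep.Comod.coact (k := K) (A := C) v ∈ LinearMap.range (LinearMap.lTensor V D₁.subtype))
    (hW : ∀ w : W, HopfRep.Comod.coact (k := K) (A := C) w ∈ LinearMap.range (LinearMap.lTensor W D₂.subtype))
    (φ : V →ₗ[K] W) (hφ : Hoch.IsComodHom C φ) : φ = 0 := by
  have hinf : D₁ ⊓ D₂ = ⊥ := by
    have hc : K190.Cosemi.IsSubcoalg (D₁ ⊓ D₂) := by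
      have e1 := (K190.Cosemi.isSubcoalg_iff D₁).1 h₁.2.1
      have e2 := (K190.Cosemi.isSubcoalg_iff D₂).1 h₂.2.1
      refine (K190.Cosemi.isSubcoalg_iff _).2 ⟨Groth.Agent.Books.ComodBasic.IsSubcomod.inf e1.1 e2.1, fun φ b hb => ?_⟩
      exact ⟨e1.2 φ b hb.1, e2.2 φ b hb.2⟩
    rcases h₁.2.2 _ inf_le_left hc with h | h
    · exact h
    · rcases h₂.2.2 _ inf_le_right hc with h' | h'
      · exact h'
      · exact absurd (h.symm.trans h') hne
  apply LinearMap.ext
  intro v
  have h1 : HopfRep.Comod.coact (k := K) (A := C) (φ v) =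
      φ.rTensor C (HopfRep.Comod.coact (k := K) (A := C) v) := LinearMap.congr_fun hφ v
  have h2 : ∀ ψ : W →ₗ[K] K,
      TensorProduct.lid K C (ψ.rTensor C (HopfRep.Comod.coact (k := K) (A := C) (φ v))) = 0 := by
    intro ψ
    have hm : TensorProduct.lid K C (ψ.rTensor C (HopfRep.Comod.coact (k := K) (A := C) (φ v))) ∈
        D₁ ⊓ D₂ := by
      refine ⟨?_, (K190.Cosemi.mem_range_lTensor_iff D₂ _).1 (hW (φ v)) ψ⟩
      rw [h1, ← LinearMap.rTensor_comp_apply]
      exact (K190.Cosemi.mem_range_lTensor_iff D₁ _).1 (hV v) (ψ ∘ₗ φ)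
    rw [hinf] at hm
    exact hm
  exact Groth.Agent.Books.ComodHom.eq_zero_of_coeffMap (A := C) h2

end Groth.Agent.S14852
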