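import Groth.Statements.S14857
import Groth.Agent.CAlg.K86.WittBasic
import Mathlib.NumberTheory.Padics.RingHoms

set_option autoImplicit false
open CAlg

namespace Groth.Agent.S14857

/-- For a prime p, the Teichmüller representative [p^p] of the element p^p of the p-adic integers is
divisible by p in the ring of p-typical Witt vectors W(ℤ_p). -/
theorem result (p : ℕ) [Fact p.Prime] :
    (p : WittVector p ℤ_[p]) ∣ WittVector.teichmuller p ((p : ℤ_[p]) ^ p) := by
  have htf : ∀ y : ℤ_[p], (p : ℤ_[p]) * y = 0 → y = 0 := by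
    intro y hy
    rcases mul_eq_zero.mp hy with h | h
    · exact absurd h (by exact_mod_cast (Fact.out : p.Prime).ne_zero)
    · exact h
  have hfrob : ∀ x : ℤ_[p], (p : ℤ_[p]) ∣ RingHom.id ℤ_[p] x - x ^ p := by
    intro x
    rw [← Ideal.mem_span_singleton, ← PadicInt.maximalIdeal_eq_span_p, ← PadicInt.ker_toZMod,
      RingHom.mem_ker, map_sub, map_pow, RingHom.id_apply, ZMod.pow_card, sub_self]
  have hp1 : 1 < p := (Fact.out : p.Prime).one_lt
  have hle : ∀ n : ℕ, n + 1 ≤ p ^ (n + 1) - 1 := fun n =>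
    Nat.le_sub_one_of_lt (Nat.lt_pow_self hp1)
  obtain ⟨z, hz⟩ := K86.WittBasic.exists_ghost_eq (p := p) (RingHom.id ℤ_[p]) hfrob
    (fun n => (p : ℤ_[p]) ^ (p ^ (n + 1) - 1)) (by
      intro n
      rw [RingHom.id_apply]
      refine dvd_sub (pow_dvd_pow _ ?_) (pow_dvd_pow _ (hle n))
      have := hle (n + 1)
      omega)
  refine ⟨z, K86.WittBasic.eq_of_ghost htf fun n => ?_⟩
  rw [WittVector.ghostComponent_teichmuller, map_mul, map_natCast, hz, ← pow_mul, ← pow_succ',
    ← pow_succ']
  congr 1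
  have : 0 < p ^ (n + 1) := pow_pos (Fact.out : p.Prime).pos _
  omega

end Groth.Agent.S14857
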