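import Groth.Statements.S14859
import Groth.Agent.Disp.K789.Normal

set_option autoImplicit false
universe u v w
open Disp

namespace Groth.Agent.S14859

/-- Let p be a prime, R a commutative ring with p-typical Witt vectors W = W(R), and (P, Q, F, V⁻¹) a
3n-display over R with a normal decomposition P = L ⊕ T, Q = L + I_R·T. Then V⁻¹ ⊕ F : L ⊕ T → P is
a Frobenius-linear isomorphism; stated here in the case where L and T are free with bases (l_i) and
(t_j): the family consisting of the V⁻¹(l_i) and the F(t_j) is a basis of the W-module P, i.e. it is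
linearly independent over W and spans P. -/
theorem result (p : ℕ) [Fact p.Prime] (R : Type u) [CommRing R]
    (P : Type v) [AddCommGroup P] [Module (WittVector p R) P] (D : W4c1extbt610.Display3n p R P)
    (L T : Submodule (WittVector p R) P) (hLT : IsCompl L T)
    (hQ : D.Q = L ⊔ W4c1extbt610.IV p R • T) (hLQ : L ≤ D.Q)
    (ιL ιT : Type w) (bL : Module.Basis ιL (WittVector p R) L) (bT : Module.Basis ιT (WittVector p R) T) :
    LinearIndependent (WittVector p R)
        (Sum.elim (fun i : ιL => D.Vinv ⟨(bL i : P), hLQ (bL i).2⟩) (fun j : ιT => D.F (bT j : P))) ∧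
      Submodule.span (WittVector p R)
        (Set.range (Sum.elim (fun i : ιL => D.Vinv ⟨(bL i : P), hLQ (bL i).2⟩) (fun j : ιT => D.F (bT j : P)))) = ⊤ := by
  have hspan : Submodule.span (WittVector p R)
        (Set.range (Sum.elim (fun i : ιL => D.Vinv ⟨(bL i : P), hLQ (bL i).2⟩) (fun j : ιT => D.F (bT j : P)))) = ⊤ := by
    apply K789.DispNormal.span_eq_top_of_normal D L T hQ hLQ
    · intro l hl
      have key : ∀ l : L, D.Vinv ⟨(l : P), hLQ l.2⟩ ∈ Submodule.span (WittVector p R)
          (Set.range (Sum.elim (fun i : ιL => D.Vinv ⟨(bL i : P), hLQ (bL i).2⟩) (fun j : ιT => D.F (bT j : P)))) := by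
        have h2 : (⊤ : Submodule (WittVector p R) L) ≤ Submodule.comap
            (D.Vinv.comp (Submodule.inclusion hLQ)) (Submodule.span (WittVector p R)
          (Set.range (Sum.elim (fun i : ιL => D.Vinv ⟨(bL i : P), hLQ (bL i).2⟩) (fun j : ιT => D.F (bT j : P))))) := by
          rw [← bL.span_eq, Submodule.span_le]
          rintro _ ⟨i, rfl⟩
          exact Submodule.subset_span ⟨Sum.inl i, rfl⟩
        intro l
        exact h2 (Submodule.mem_top (x := l))
      exact key ⟨l, hl⟩
    · intro t ht
      have h2 : (⊤ : Submodule (WittVector p R) T) ≤ Submodule.comap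
          (D.F.comp T.subtype) (Submodule.span (WittVector p R)
        (Set.range (Sum.elim (fun i : ιL => D.Vinv ⟨(bL i : P), hLQ (bL i).2⟩) (fun j : ιT => D.F (bT j : P))))) := by
        rw [← bT.span_eq, Submodule.span_le]
        rintro _ ⟨i, rfl⟩
        exact Submodule.subset_span ⟨Sum.inr i, rfl⟩
      exact h2 (Submodule.mem_top (x := (⟨t, ht⟩ : T)))
  refine ⟨?_, hspan⟩
  haveI := D.finite
  exact K789.DispNormal.linearIndependent_of_span_eq_top
    ((bL.prod bT).map (Submodule.prodEquivOfIsCompl L T hLT)) _ hspan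

end Groth.Agent.S14859
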