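import Groth.Statements.S14860
import Groth.Agent.CAlg.K86.FiltProj
import Groth.Agent.CAlg.K86.WittTorsionFree

set_option autoImplicit false
universe u v
open CAlg

namespace Groth.Agent.S14860

/-- Let p be a prime and R a commutative ring in which p is nilpotent; write W = W(R) for the p-typical
Witt vectors and, for n ≥ 0, I_n ⊆ W for the ideal of Witt vectors whose first n components vanish
(the kernel of the truncation W → W_n(R), so W/I_n = W_n(R)). For a W-module P conditions (i) and
(ii) below are equivalent: (i) P is a projective W-module of finite type; (ii) P is separated for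
the filtration by the submodules I_n P, and for every n the W_n(R)-module P/I_n P is finitely
generated and projective. (The published statement is made for every ℤ_(p)-algebra R, the section's
standing convention; over R = ℚ, where W(ℚ) ≅ ℚ^ℕ by the ghost map, the module ⊕_ℕ ℚ satisfies (ii)
but is not finitely generated, and the published proof uses that I_1 is nilpotent in each W_n(R),
which holds when p is nilpotent in R; so p is taken nilpotent here. The third equivalent condition
of the published statement, freeness Zariski-locally on R, is not rendered.) -/
theorem result (p : ℕ) [Fact p.Prime] (R : Type u) [CommRing R]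
    (hp : IsNilpotent (p : R))
    (P : Type v) [AddCommGroup P] [Module (WittVector p R) P] :
    (Module.Finite (WittVector p R) P ∧ Module.Projective (WittVector p R) P) ↔
      ((⨅ n : ℕ, (RingHom.ker (WittVector.truncate (p := p) (R := R) n) • (⊤ : Submodule (WittVector p R) P))) = ⊥ ∧
        ∀ n : ℕ, Module.Finite (WittVector p R ⧸ RingHom.ker (WittVector.truncate (p := p) (R := R) n))
              (P ⧸ (RingHom.ker (WittVector.truncate (p := p) (R := R) n) • (⊤ : Submodule (WittVector p R) P))) ∧
            Module.Projective (WittVector p R ⧸ RingHom.ker (WittVector.truncate (p := p) (R := R) n))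
              (P ⧸ (RingHom.ker (WittVector.truncate (p := p) (R := R) n) • (⊤ : Submodule (WittVector p R) P)))) := by
  obtain ⟨k, hk⟩ := hp
  refine K86.FiltProj.finite_and_projective_iff
    (fun n => RingHom.ker (WittVector.truncate (p := p) (R := R) n)) ?_ ?_ ?_ ?_ P
  · exact fun n => K86.WittBasic.ker_truncate_anti (Nat.le_succ n)
  · exact fun a ha => K86.WittTorsionFree.eq_zero_of_forall_mem_ker_truncate ha
  · exact fun x hx => K86.WittTorsionFree.exists_limit_truncate x hx
  · intro n
    refine ⟨k * n + 1, ?_⟩
    show (RingHom.ker (WittVector.truncate (p := p) (R := R) 1)) ^ (k * n + 1) ≤ _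
    rw [K86.WittBasic.ker_truncate_one]
    exact K86.WittBasic.ker_constantCoeff_pow_le_ker_truncate hk n

end Groth.Agent.S14860
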