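import Groth.Statements.S14862
import Groth.Agent.CAlg.K86.WittTorsionFree

set_option autoImplicit false
universe u
open CAlg

namespace Groth.Agent.S14862

/-- Let p be a prime and S a commutative ring without p-torsion which is complete and separated for the
p-adic topology; write W = W(S) for the p-typical Witt vectors, I_r ⊆ W for the ideal of Witt
vectors whose first r components vanish (the image of the r-th iterate of the Verschiebung) and
W(p^s S) ⊆ W for the ideal of Witt vectors all of whose components lie in p^s S (the kernel of W(S)
→ W(S/p^s S)). Then for every natural number u the ideal p^u W is closed for the linear topology on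
W in which the ideals I_r + W(p^s S) form a neighbourhood basis of zero: the intersection over all r
and s of p^u W + I_r + W(p^s S) equals p^u W. (The published statement asks only that S have no
p-torsion; S is moreover taken p-adically complete and separated here, the case in which the result
is applied and through which the published proof goes.) -/
theorem result (p : ℕ) [Fact p.Prime] (S : Type u) [CommRing S]
    (hS : ∀ y : S, (p : S) * y = 0 → y = 0) [IsAdicComplete (Ideal.span {(p : S)}) S] (u : ℕ) :
    (⨅ r : ℕ, ⨅ s : ℕ,
        Ideal.span {(p : WittVector p S) ^ u} ⊔ RingHom.ker (WittVector.truncate (p := p) (R := S) r) ⊔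
          RingHom.ker (WittVector.map (p := p) (Ideal.Quotient.mk (Ideal.span {(p : S) ^ s})))) =
      Ideal.span {(p : WittVector p S) ^ u} := by
  apply le_antisymm
  · intro a ha
    rw [Ideal.mem_span_singleton]
    refine K86.WittTorsionFree.p_pow_dvd_of_forall hS a u fun s r => ?_
    rw [Ideal.mem_iInf] at ha
    have h1 := ha r
    rw [Ideal.mem_iInf] at h1
    obtain ⟨b, hb, c, hc, rfl⟩ := Submodule.mem_sup.mp (h1 s)
    obtain ⟨d, hd, e, he, rfl⟩ := Submodule.mem_sup.mp hb
    obtain ⟨z, rfl⟩ := Ideal.mem_span_singleton.mp hd
    refine ⟨z, ?_⟩
    have h2 : K86.WittComplete.Cong s r e 0 := K86.WittComplete.cong_zero_of_mem_ker he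
    have h3 : K86.WittComplete.Cong s r c 0 := by
      rw [K86.WittComplete.cong_zero_iff]
      intro i _
      rw [RingHom.mem_ker] at hc
      have h4 := congrArg (fun x => WittVector.coeff x i) hc
      simp only [WittVector.map_coeff, WittVector.zero_coeff] at h4
      rw [Ideal.Quotient.eq_zero_iff_mem, Ideal.mem_span_singleton] at h4
      exact h4
    have h5 := ((K86.WittComplete.Cong.refl s r ((p : WittVector p S) ^ u * z)).add h2).add h3
    rw [add_zero, add_zero] at h5
    exact h5.symm
  · exact le_iInf fun r => le_iInf fun s => le_sup_left.trans le_sup_left

end Groth.Agent.S14862
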