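import Groth.Statements.S14867
import Groth.Agent.CAlg.K86.WittHensel
import Groth.Agent.S0534
import Mathlib.LinearAlgebra.TensorProduct.RightExactness
import Mathlib.RingTheory.OrzechProperty

set_option autoImplicit false
universe u
open CAlg

namespace Groth.Agent.S14867

open TensorProduct in
/-- Lifting of finitely generated projective modules along a surjective homomorphism which is a
henselian pair. -/
theorem exists_lift {A B : Type u} [CommRing A] [CommRing B] (ψ : A →+* B)
    (hψ : Function.Surjective ψ) (hH : HenselianRing A (RingHom.ker ψ))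
    (P : Type u) [AddCommGroup P] [Module B P] [Module.Finite B P] [Module.Projective B P] :
    ∃ (P' : Type u) (_ : AddCommGroup P') (_ : Module A P'),
      Module.Finite A P' ∧ Module.Projective A P' ∧
        ∃ π : P' →ₛₗ[ψ] P, Function.Surjective π ∧
          LinearMap.ker π = RingHom.ker ψ • (⊤ : Submodule A P') := by
  let e := RingHom.quotientKerEquivOfSurjective hψ
  letI : Module (A ⧸ RingHom.ker ψ) P := Module.compHom P (e : (A ⧸ RingHom.ker ψ) →+* B)
  have hsm : ∀ (a : A ⧸ RingHom.ker ψ) (x : P), a • x = e a • x := fun _ _ => rfl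
  letI inv1 : RingHomInvPair (e : (A ⧸ RingHom.ker ψ) →+* B) (e.symm : B →+* (A ⧸ RingHom.ker ψ)) :=
    RingHomInvPair.of_ringEquiv e
  letI inv2 : RingHomInvPair (e.symm : B →+* (A ⧸ RingHom.ker ψ)) (e : (A ⧸ RingHom.ker ψ) →+* B) :=
    RingHomInvPair.of_ringEquiv e.symm
  let eP : P ≃ₛₗ[(e.symm : B →+* (A ⧸ RingHom.ker ψ))] P :=
    { toFun := id
      invFun := id
      map_add' := fun _ _ => rfl
      map_smul' := fun b x => by
        show b • x = e (e.symm b) • x
        rw [RingEquiv.apply_symm_apply]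
      left_inv := fun _ => rfl
      right_inv := fun _ => rfl }
  have h1 : Module.Projective (A ⧸ RingHom.ker ψ) P := Module.Projective.of_equiv eP
  have h2 : Module.Finite (A ⧸ RingHom.ker ψ) P := by
    exact Module.Finite.of_surjective eP.toLinearMap eP.surjective
  obtain ⟨P', _, _, hf, hpr, ⟨f⟩⟩ := Groth.Agent.S0534.result A (RingHom.ker ψ) P
  refine ⟨P', inferInstance, inferInstance, hf, hpr, ?_⟩
  have hmk : ∀ a : A, e (Ideal.Quotient.mk _ a) = ψ a := fun a => rfl
  let π : P' →ₛₗ[ψ] P :=
    { toFun := fun x => f (1 ⊗ₜ x)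
      map_add' := fun x y => by rw [tmul_add, map_add]
      map_smul' := fun a x => by
        rw [tmul_smul, ← hmk, ← hsm, ← map_smul]
        rfl }
  refine ⟨π, ?_, ?_⟩
  · intro y
    obtain ⟨z, hz⟩ := f.surjective y
    obtain ⟨x, hx⟩ := TensorProduct.mk_surjective A P' (A ⧸ RingHom.ker ψ)
      Ideal.Quotient.mk_surjective z
    exact ⟨x, by rw [← hz, ← hx]; rfl⟩
  · rw [← LinearMap.ker_tensorProductMk]
    ext x
    rw [LinearMap.mem_ker, LinearMap.mem_ker]
    constructor
    · intro hx
      apply f.injective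
      rw [map_zero]
      exact hx
    · intro hx
      show f (1 ⊗ₜ x) = 0
      have h3 : (1 : A ⧸ RingHom.ker ψ) ⊗ₜ[A] x = 0 := hx
      rw [h3, map_zero]

/-- An endomorphism congruent to the identity modulo an ideal in the Jacobson radical is
bijective. -/
theorem bijective_of_sub_mem {A : Type u} [CommRing A] (I : Ideal A) (hI : I ≤ Ideal.jacobson ⊥)
    (P : Type u) [AddCommGroup P] [Module A P] [Module.Finite A P] (f : P →ₗ[A] P)
    (hf : ∀ x, f x - x ∈ I • (⊤ : Submodule A P)) : Function.Bijective f := by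
  apply OrzechProperty.bijective_of_surjective_endomorphism
  rw [← LinearMap.range_eq_top, eq_top_iff]
  apply Submodule.le_of_le_smul_of_le_jacobson_bot Module.Finite.fg_top hI
  intro x _
  have h1 : x - f x ∈ I • (⊤ : Submodule A P) := by
    rw [← neg_sub]
    exact neg_mem (hf x)
  rw [← add_sub_cancel (f x) x]
  exact Submodule.add_mem_sup ⟨x, rfl⟩ h1

/-- Uniqueness of lifts of finitely generated projective modules. -/
theorem exists_equiv {A B : Type u} [CommRing A] [CommRing B] (ψ : A →+* B)
    (hI : RingHom.ker ψ ≤ Ideal.jacobson ⊥)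
    (P : Type u) [AddCommGroup P] [Module B P]
    (P₁ : Type u) [AddCommGroup P₁] [Module A P₁] [Module.Finite A P₁] [Module.Projective A P₁]
    (P₂ : Type u) [AddCommGroup P₂] [Module A P₂] [Module.Finite A P₂] [Module.Projective A P₂]
    (π₁ : P₁ →ₛₗ[ψ] P) (π₂ : P₂ →ₛₗ[ψ] P) (h₁ : Function.Surjective π₁)
    (h₁' : LinearMap.ker π₁ = RingHom.ker ψ • (⊤ : Submodule A P₁))
    (h₂ : Function.Surjective π₂)
    (h₂' : LinearMap.ker π₂ = RingHom.ker ψ • (⊤ : Submodule A P₂)) :
    ∃ e : P₁ ≃ₗ[A] P₂, ∀ x : P₁, π₂ (e x) = π₁ x := by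
  letI : Module A P := Module.compHom P ψ
  let ρ₁ : P₁ →ₗ[A] P := ⟨⟨π₁, map_add π₁⟩, fun a x => π₁.map_smulₛₗ a x⟩
  let ρ₂ : P₂ →ₗ[A] P := ⟨⟨π₂, map_add π₂⟩, fun a x => π₂.map_smulₛₗ a x⟩
  obtain ⟨f, hf⟩ := Module.projective_lifting_property ρ₂ ρ₁ h₂
  obtain ⟨g, hg⟩ := Module.projective_lifting_property ρ₁ ρ₂ h₁
  have hf' : ∀ x, π₂ (f x) = π₁ x := fun x => LinearMap.congr_fun hf x
  have hg' : ∀ x, π₁ (g x) = π₂ x := fun x => LinearMap.congr_fun hg x
  have hb1 : Function.Bijective (g ∘ₗ f) := by
    apply bijective_of_sub_mem _ hI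
    intro x
    rw [← h₁', LinearMap.mem_ker, map_sub, LinearMap.comp_apply, hg', hf', sub_self]
  have hb2 : Function.Bijective (f ∘ₗ g) := by
    apply bijective_of_sub_mem _ hI
    intro x
    rw [← h₂', LinearMap.mem_ker, map_sub, LinearMap.comp_apply, hf', hg', sub_self]
  have hb : Function.Bijective f := by
    refine ⟨?_, ?_⟩
    · intro x y hxy
      apply hb1.1
      rw [LinearMap.comp_apply, LinearMap.comp_apply, hxy]
    · intro y
      obtain ⟨x, hx⟩ := hb2.2 y
      exact ⟨g x, hx⟩
  exact ⟨LinearEquiv.ofBijective f hb, hf'⟩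

/-- Let p be a prime and S → R a surjective homomorphism of commutative rings such that every element of
its kernel 𝔞 is nilpotent and p is nilpotent in S; write J = W(𝔞) for the kernel of the induced
surjection W(S) → W(R) of rings of p-typical Witt vectors. Then finitely generated projective
modules lift along W(S) → W(R), uniquely up to isomorphism: for every finitely generated projective
W(R)-module P there is a finitely generated projective W(S)-module P̃ together with a surjection P̃
→ P, semilinear over W(S) → W(R), whose kernel is J·P̃ (that is, an isomorphism W(R) ⊗_{W(S)} P̃ ≅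
P); and for any two such pairs (P̃_1, π_1), (P̃_2, π_2) there is a W(S)-linear isomorphism P̃_1 ≅
P̃_2 compatible with π_1 and π_2. -/
theorem result (p : ℕ) [Fact p.Prime] (S R : Type u)
    [CommRing S] [CommRing R] (φ : S →+* R) (hφ : Function.Surjective φ)
    (hnil : ∀ a : S, φ a = 0 → IsNilpotent a) (hp : IsNilpotent (p : S))
    (P : Type u) [AddCommGroup P] [Module (WittVector p R) P]
    [Module.Finite (WittVector p R) P] [Module.Projective (WittVector p R) P] :
    (∃ (P' : Type u) (_ : AddCommGroup P') (_ : Module (WittVector p S) P'),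
        Module.Finite (WittVector p S) P' ∧ Module.Projective (WittVector p S) P' ∧
          ∃ π : P' →ₛₗ[WittVector.map (p := p) φ] P, Function.Surjective π ∧
            LinearMap.ker π = RingHom.ker (WittVector.map (p := p) φ) • (⊤ : Submodule (WittVector p S) P')) ∧
      ∀ (P₁ : Type u) [AddCommGroup P₁] [Module (WittVector p S) P₁]
        [Module.Finite (WittVector p S) P₁] [Module.Projective (WittVector p S) P₁]
        (P₂ : Type u) [AddCommGroup P₂] [Module (WittVector p S) P₂]
        [Module.Finite (WittVector p S) P₂] [Module.Projective (WittVector p S) P₂]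
        (π₁ : P₁ →ₛₗ[WittVector.map (p := p) φ] P) (π₂ : P₂ →ₛₗ[WittVector.map (p := p) φ] P),
        Function.Surjective π₁ →
          LinearMap.ker π₁ = RingHom.ker (WittVector.map (p := p) φ) • (⊤ : Submodule (WittVector p S) P₁) →
        Function.Surjective π₂ →
          LinearMap.ker π₂ = RingHom.ker (WittVector.map (p := p) φ) • (⊤ : Submodule (WittVector p S) P₂) →
        ∃ e : P₁ ≃ₗ[WittVector p S] P₂, ∀ x : P₁, π₂ (e x) = π₁ x := by
  have hH := K86.WittHensel.henselianRing_ker_map φ hnil hp
  refine ⟨exists_lift (WittVector.map (p := p) φ) (WittVector.map_surjective φ hφ) hH P, ?_⟩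
  intro P₁ _ _ _ _ P₂ _ _ _ _ π₁ π₂ h₁ h₁' h₂ h₂'
  exact exists_equiv (WittVector.map (p := p) φ) hH.jac P P₁ P₂ π₁ π₂ h₁ h₁' h₂ h₂'

end Groth.Agent.S14867
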