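import Groth.Statements.S14869
import Mathlib.LinearAlgebra.TensorProduct.Tower
import Mathlib.LinearAlgebra.TensorProduct.RightExactness
import Mathlib.Algebra.Module.Projective

set_option autoImplicit false
universe u v w
open CAlg

namespace Groth.Agent.S14869

open TensorProduct in
/-- Let S → R be a surjective homomorphism of commutative rings, let π : P_1 → P_2 be a surjective
homomorphism of S-modules with P_2 projective, and let π̄ : R ⊗_S P_1 → R ⊗_S P_2 be its base
change. Then every R-linear section σ̄ of π̄ lifts to a section of π: there is an S-linear map σ :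
P_2 → P_1 with π ∘ σ = id whose base change R ⊗_S σ is σ̄. -/
theorem result (S R : Type u) [CommRing S] [CommRing R] [Algebra S R]
    (hSR : Function.Surjective (algebraMap S R))
    (P₁ : Type v) [AddCommGroup P₁] [Module S P₁]
    (P₂ : Type w) [AddCommGroup P₂] [Module S P₂] [Module.Projective S P₂]
    (π : P₁ →ₗ[S] P₂) (hπ : Function.Surjective π)
    (σ' : R ⊗[S] P₂ →ₗ[R] R ⊗[S] P₁) (hσ' : (π.baseChange R).comp σ' = LinearMap.id) :
    ∃ σ : P₂ →ₗ[S] P₁, π.comp σ = LinearMap.id ∧ σ.baseChange R = σ' := by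
  obtain ⟨s0, hs0⟩ := Module.projective_lifting_property π LinearMap.id hπ
  -- the difference of the two sections
  let δ : R ⊗[S] P₂ →ₗ[R] R ⊗[S] P₁ := σ' - s0.baseChange R
  have hδ : ∀ z, (π.baseChange R) (δ z) = 0 := by
    intro z
    have h1 : (π.baseChange R) (σ' z) = z := LinearMap.congr_fun hσ' z
    have h2 : (π.baseChange R) (s0.baseChange R z) = z := by
      rw [← LinearMap.comp_apply, ← LinearMap.baseChange_comp, hs0, LinearMap.baseChange_id]
      rfl
    show (π.baseChange R) (σ' z - s0.baseChange R z) = 0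
    rw [map_sub, h1, h2]
    exact sub_self z
  have hmk : ∀ (N : Type v) [AddCommGroup N] [Module S N],
      Function.Surjective (TensorProduct.mk S R N 1) := by
    intro N _ _
    exact TensorProduct.mk_surjective S N R hSR
  obtain ⟨t, ht⟩ := Module.projective_lifting_property (TensorProduct.mk S R P₁ 1)
    ((δ.restrictScalars S).comp (TensorProduct.mk S R P₂ 1)) (hmk P₁)
  let ρ : P₁ →ₗ[S] P₁ := LinearMap.id - s0.comp π
  have hρ : π.comp ρ = 0 := by
    rw [LinearMap.comp_sub, LinearMap.comp_id, ← LinearMap.comp_assoc, hs0, LinearMap.id_comp,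
      sub_self]
  refine ⟨s0 + ρ.comp t, ?_, ?_⟩
  · rw [LinearMap.comp_add, hs0, ← LinearMap.comp_assoc, hρ, LinearMap.zero_comp, add_zero]
  · have h1 : ∀ x : P₂, (1 : R) ⊗ₜ[S] t x = δ (1 ⊗ₜ x) := fun x => LinearMap.congr_fun ht x
    have h2 : ∀ x : P₂, (1 : R) ⊗ₜ[S] ρ (t x) = δ (1 ⊗ₜ x) := by
      intro x
      have h3 : (1 : R) ⊗ₜ[S] ρ (t x) = (ρ.baseChange R) (1 ⊗ₜ t x) := rfl
      have h4 : ρ.baseChange R = LinearMap.id - (s0.baseChange R).comp (π.baseChange R) := by
        rw [← LinearMap.baseChange_comp, ← LinearMap.baseChange_id, ← LinearMap.baseChange_sub]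
      rw [h3, h1, h4, LinearMap.sub_apply, LinearMap.id_apply, LinearMap.comp_apply]
      rw [hδ, map_zero, sub_zero]
    refine TensorProduct.AlgebraTensorModule.ext ?_
    intro r x
    have h6 : r ⊗ₜ[S] x = r • ((1 : R) ⊗ₜ[S] x) := by
      rw [TensorProduct.smul_tmul', smul_eq_mul, mul_one]
    rw [h6, map_smul, map_smul]
    congr 1
    rw [LinearMap.baseChange_tmul, LinearMap.add_apply, TensorProduct.tmul_add]
    show _ + (1 : R) ⊗ₜ[S] ρ (t x) = _
    rw [h2 x]
    show (1 : R) ⊗ₜ[S] s0 x + (σ' (1 ⊗ₜ x) - (s0.baseChange R) (1 ⊗ₜ x)) = _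
    rw [LinearMap.baseChange_tmul, add_sub_cancel]

end Groth.Agent.S14869
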