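import Groth.Statements.S14871
import Mathlib.Algebra.Lie.Solvable
import Mathlib.RingTheory.Noetherian.Basic

set_option autoImplicit false
universe u v
open PLie

namespace Groth.Agent.S14871

/-- Let `L` be a finite-dimensional Lie algebra over a field of characteristic `p` equipped with a
`p`-mapping `φ`. Then the solvable radical of `L` is stable under `φ` (it is a `p`-subalgebra). -/
theorem result
    (k : Type u) [Field k] (p : ℕ) [Fact p.Prime] [CharP k p]
    (L : Type v) [LieRing L] [LieAlgebra k L] [Module.Finite k L]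
    (φ : PLie.PMap k p L) (x : L) (hx : x ∈ LieAlgebra.radical k L) :
    φ x ∈ LieAlgebra.radical k L := by
  let J : LieIdeal k L :=
    { carrier := {y | ∀ z : L, ⁅y, z⁆ ∈ LieAlgebra.radical k L}
      add_mem' := fun {a b} ha hb z => by
        rw [add_lie]
        exact add_mem (ha z) (hb z)
      zero_mem' := fun z => by
        rw [zero_lie]
        exact zero_mem _
      smul_mem' := fun c a ha z => by
        rw [smul_lie]
        exact (LieAlgebra.radical k L).smul_mem c (ha z)
      lie_mem := fun {a y} hy z => by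
        rw [lie_lie]
        exact sub_mem (LieSubmodule.lie_mem _ (hy z)) (hy _) }
  have hJJ : ⁅J, J⁆ ≤ LieAlgebra.radical k L := by
    rw [LieSubmodule.lie_le_iff]
    intro a ha b _
    exact ha b
  have hsolv : LieAlgebra.IsSolvable J := by
    obtain ⟨n, hn⟩ := (LieAlgebra.radicalIsSolvable k L).solvable k (LieAlgebra.radical k L)
    rw [LieIdeal.derivedSeries_eq_bot_iff] at hn
    refine LieAlgebra.IsSolvable.mk (R := k) (k := n + 1) ?_
    rw [LieIdeal.derivedSeries_eq_bot_iff, LieAlgebra.derivedSeriesOfIdeal_add]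
    refine le_bot_iff.mp (le_trans (LieAlgebra.derivedSeriesOfIdeal_mono ?_ n) hn.le)
    rw [LieAlgebra.derivedSeriesOfIdeal_succ, LieAlgebra.derivedSeriesOfIdeal_zero]
    exact hJJ
  have hle : J ≤ LieAlgebra.radical k L := (LieAlgebra.LieIdeal.solvable_iff_le_radical k L J).mp hsolv
  refine hle ?_
  intro z
  rw [← LieAlgebra.ad_apply k L, φ.ad_map]
  have h1 : ∀ (n : ℕ) (y : L), (LieAlgebra.ad k L x ^ (n + 1)) y ∈ LieAlgebra.radical k L := by
    intro n y
    rw [pow_succ', Module.End.mul_apply, LieAlgebra.ad_apply, ← lie_skew]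
    exact neg_mem (LieSubmodule.lie_mem _ hx)
  have hp : p = (p - 1) + 1 := (Nat.sub_add_cancel (Fact.out : p.Prime).one_le).symm
  rw [hp]
  exact h1 _ _

end Groth.Agent.S14871
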