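import Groth.Statements.S14872
import Groth.Agent.PLie.K796.Nil

set_option autoImplicit false
universe u v
open PLie

namespace Groth.Agent.S14872

/-- Let `L` be a finite-dimensional Lie algebra over a field of characteristic `p` equipped with a
`p`-mapping `φ`, and let `N` be its nilradical, i.e. the ideal of `L` that is nilpotent as a Lie
ring and contains every ideal of `L` nilpotent as a Lie ring. Then `N` is stable under `φ` (it is a
`p`-subalgebra). (The nilradical is given here through its characterising property; it is not the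
largest submodule on which `L` acts nilpotently.) -/
theorem result
    (k : Type u) [Field k] (p : ℕ) [Fact p.Prime] [CharP k p]
    (L : Type v) [LieRing L] [LieAlgebra k L] [Module.Finite k L]
    (φ : PLie.PMap k p L) (N : LieIdeal k L) (hN : LieRing.IsNilpotent N)
    (hmax : ∀ I : LieIdeal k L, LieRing.IsNilpotent I → I ≤ N)
    (x : L) (hx : x ∈ N) : φ x ∈ N := by
  have hp : p = (p - 1) + 1 := (Nat.sub_add_cancel (Fact.out : p.Prime).one_le).symm
  have h1 : ∀ (n : ℕ) (y : L), (LieAlgebra.ad k L x ^ (n + 1)) y ∈ N := by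
    intro n y
    rw [pow_succ', Module.End.mul_apply, LieAlgebra.ad_apply, ← lie_skew]
    exact neg_mem (LieSubmodule.lie_mem _ hx)
  have h2 : ∀ y : L, ⁅φ x, y⁆ ∈ N := by
    intro y
    rw [← LieAlgebra.ad_apply k L, φ.ad_map, hp]
    exact h1 _ _
  let J : LieIdeal k L :=
    { (N.toSubmodule ⊔ Submodule.span k {φ x} : Submodule k L) with
      lie_mem := fun {a y} hy => by
        change y ∈ (N.toSubmodule ⊔ Submodule.span k {φ x} : Submodule k L) at hy
        change ⁅a, y⁆ ∈ (N.toSubmodule ⊔ Submodule.span k {φ x} : Submodule k L)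
        obtain ⟨n, hn, z, hz, rfl⟩ := Submodule.mem_sup.mp hy
        obtain ⟨c, rfl⟩ := Submodule.mem_span_singleton.mp hz
        refine Submodule.mem_sup_left ?_
        rw [lie_add, lie_smul, ← lie_skew a (φ x)]
        exact add_mem (LieSubmodule.lie_mem _ hn) (N.smul_mem c (neg_mem (h2 a))) }
  have hadN : ∀ y ∈ N, IsNilpotent (LieAlgebra.ad k L y) := fun y hy =>
    K796.Nil.ad_isNilpotent_of_mem N hN y hy
  obtain ⟨m, F, hF0, hFm, hFanti, hFstep⟩ := K796.Nil.exists_filtration N hadN
  have hx1 : ∀ (j i : ℕ) (y : L), y ∈ F i → (LieAlgebra.ad k L x ^ j) y ∈ F (i + j) := by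
    intro j
    induction j with
    | zero => intro i y hy; simpa using hy
    | succ j ih =>
      intro i y hy
      rw [pow_succ', Module.End.mul_apply, LieAlgebra.ad_apply]
      exact hFstep x hx _ _ (ih i y hy)
  have hJstep : ∀ w ∈ J, ∀ i, ∀ y ∈ F i, ⁅w, y⁆ ∈ F (i + 1) := by
    intro w hw i y hy
    change w ∈ (N.toSubmodule ⊔ Submodule.span k {φ x} : Submodule k L) at hw
    obtain ⟨n, hn, z, hz, rfl⟩ := Submodule.mem_sup.mp hw
    obtain ⟨c, rfl⟩ := Submodule.mem_span_singleton.mp hz
    rw [add_lie, smul_lie, ← LieAlgebra.ad_apply k L (φ x), φ.ad_map]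
    refine add_mem (hFstep n hn i y hy) ((F (i + 1)).smul_mem c ?_)
    exact hFanti (by omega) (hx1 p i y hy)
  have hJ : LieRing.IsNilpotent J := by
    refine K796.Nil.isNilpotent_of_forall J fun w hw => ⟨m, ?_⟩
    have h3 : ∀ (j : ℕ) (y : L), (LieAlgebra.ad k L w ^ j) y ∈ F j := by
      intro j
      induction j with
      | zero => intro y; rw [hF0]; exact Submodule.mem_top
      | succ j ih =>
        intro y
        rw [pow_succ', Module.End.mul_apply, LieAlgebra.ad_apply]
        exact hJstep w hw _ _ (ih y)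
    ext y
    have := h3 m y
    rw [hFm, Submodule.mem_bot] at this
    rw [this, LinearMap.zero_apply]
  refine hmax J hJ ?_
  change φ x ∈ (N.toSubmodule ⊔ Submodule.span k {φ x} : Submodule k L)
  exact Submodule.mem_sup_right (Submodule.mem_span_singleton_self _)

end Groth.Agent.S14872
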