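import Groth.Statements.S14874
import Groth.Agent.S14872
import Groth.Agent.S14873

set_option autoImplicit false
universe u v
open PLie

namespace Groth.Agent.S14874

/-- Let `L` be a finite-dimensional Lie algebra over a field of characteristic `p` equipped with a
`p`-mapping `φ`. Let `N` be the nilradical of `L` (the ideal nilpotent as a Lie ring that contains
every such ideal) and `P` its `p`-radical (the largest ideal stable under `φ` all of whose elements
are `p`-nilpotent). Then `N = P` if and only if the centre of `L` is contained in `P`. -/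
theorem result
    (k : Type u) [Field k] (p : ℕ) [Fact p.Prime] [CharP k p]
    (L : Type v) [LieRing L] [LieAlgebra k L] [Module.Finite k L]
    (φ : PLie.PMap k p L)
    (N : LieIdeal k L) (hN : LieRing.IsNilpotent N)
    (hNmax : ∀ I : LieIdeal k L, LieRing.IsNilpotent I → I ≤ N)
    (P : LieIdeal k L) (hPsub : ∀ x ∈ P, φ x ∈ P) (hPnil : ∀ x ∈ P, PLie.IsPNilpotent φ x)
    (hPmax : ∀ J : LieIdeal k L, (∀ x ∈ J, φ x ∈ J) → (∀ x ∈ J, PLie.IsPNilpotent φ x) → J ≤ P) :
    N = P ↔ LieAlgebra.center k L ≤ P := by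
  constructor
  · intro hNP
    rw [← hNP]
    refine hNmax _ ?_
    refine K796.Nil.isNilpotent_of_forall _ fun x hx => ⟨1, ?_⟩
    ext y
    rw [pow_one, LieAlgebra.ad_apply, ← lie_skew,
      (LieModule.mem_maxTrivSubmodule (R := k) (L := L) (M := L) x).mp hx y, neg_zero, LinearMap.zero_apply]
  · intro hc
    have hPN : P ≤ N := hNmax P (Groth.Agent.S14873.result k p L φ P hPsub hPnil)
    refine le_antisymm ?_ hPN
    refine hPmax N (fun x hx => Groth.Agent.S14872.result k p L φ N hN hNmax x hx) fun x hx => ?_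
    obtain ⟨n, hn⟩ := K796.Nil.ad_isNilpotent_of_mem N hN x hx
    have h1 : φ.toFun^[n] x ∈ LieAlgebra.center k L := by
      rw [LieModule.mem_maxTrivSubmodule]
      intro y
      have hlt : n ≤ p ^ n := (Nat.lt_pow_self (Fact.out : p.Prime).one_lt).le
      have h2 : LieAlgebra.ad k L (φ.toFun^[n] x) = 0 := by
        rw [K796.Nil.ad_iterate, ← Nat.add_sub_cancel' hlt, pow_add, hn, zero_mul]
      rw [← lie_skew, ← LieAlgebra.ad_apply k L, h2, LinearMap.zero_apply, neg_zero]
    obtain ⟨m, hm⟩ := hPnil _ (hc h1)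
    refine ⟨m + n, ?_⟩
    rw [Function.iterate_add_apply, hm]

end Groth.Agent.S14874
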