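import Groth.Statements.S14875
import Groth.Agent.PLie.K796.Nil
import Groth.Agent.PLie.K796.TraceU
import Mathlib.LinearAlgebra.BilinearForm.Orthogonal

set_option autoImplicit false
universe u v
open PLie

namespace Groth.Agent.S14875

/-- Let `L` be a finite-dimensional Lie algebra over a field of characteristic `p` equipped with a
`p`-mapping `φ`, whose Killing form is non-degenerate. Let `U` and `H` be Lie subalgebras of `L`
such that `H` is the normaliser of `U`, `U` is the set of elements of `H` that lie in the solvable
radical of `H` and are `p`-nilpotent, and the orthogonal of `U` for the Killing form is closed under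
the bracket. Then `U` is the orthogonal of `H` for the Killing form. (The published statement is for
the Lie algebra of a reductive group over a field of characteristic `p` with its canonical
`p`-structure; this row states it for any finite-dimensional Lie algebra with a `p`-mapping.) -/
theorem result
    (k : Type u) [Field k] (p : ℕ) [Fact p.Prime] [CharP k p]
    (L : Type v) [LieRing L] [LieAlgebra k L] [Module.Finite k L]
    (φ : PLie.PMap k p L) (hκ : (killingForm k L).Nondegenerate)
    (U H : LieSubalgebra k L) (hH : H = U.normalizer)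
    (hU : ∀ x : L, x ∈ U ↔ ∃ hx : x ∈ H, (⟨x, hx⟩ : ↥H) ∈ LieAlgebra.radical k ↥H ∧ PLie.IsPNilpotent φ x)
    (hperp : ∀ a b : L, (∀ y ∈ U, killingForm k L a y = 0) → (∀ y ∈ U, killingForm k L b y = 0) →
      ∀ y ∈ U, killingForm k L ⁅a, b⁆ y = 0) :
    ∀ x : L, x ∈ U ↔ ∀ h ∈ H, killingForm k L h x = 0 := by
  have hnilU : ∀ x ∈ U, IsNilpotent (LieAlgebra.ad k L x) := by
    intro x hx
    obtain ⟨_, _, hn⟩ := (hU x).mp hx
    exact K796.Nil.ad_isNilpotent_of_isPNilpotent φ x hn
  have hHU : ∀ h ∈ H, ∀ x ∈ U, killingForm k L h x = 0 := by
    intro h hh x hx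
    refine K796.TraceU.killing_eq_zero U hnilU h ?_ x hx
    rw [hH] at hh
    intro y hy
    exact (LieSubalgebra.mem_normalizer_iff U h).mp hh y hy
  have hrefl : LinearMap.BilinForm.IsRefl (killingForm k L) := by
    intro a b hab
    rw [LieModule.traceForm_comm]
    exact hab
  have hoo := LinearMap.BilinForm.orthogonal_orthogonal hκ hrefl U.toSubmodule
  have hUU : ∀ x : L, (∀ a : L, (∀ y ∈ U, killingForm k L a y = 0) → killingForm k L a x = 0) → x ∈ U := by
    intro x hx
    have : x ∈ LinearMap.BilinForm.orthogonal (killingForm k L)
        (LinearMap.BilinForm.orthogonal (killingForm k L) U.toSubmodule) := by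
      rw [LinearMap.BilinForm.mem_orthogonal_iff]
      intro a ha
      rw [LinearMap.BilinForm.mem_orthogonal_iff] at ha
      refine hx a fun y hy => ?_
      rw [LieModule.traceForm_comm]
      exact ha y hy
    rw [hoo] at this
    exact this
  have hperpH : ∀ a : L, (∀ y ∈ U, killingForm k L a y = 0) → a ∈ H := by
    intro a ha
    rw [hH, LieSubalgebra.mem_normalizer_iff]
    intro u hu
    refine hUU _ fun b hb => ?_
    rw [← LieModule.traceForm_apply_lie_apply]
    exact hperp b a hb ha u hu
  intro x
  refine ⟨fun hx h hh => hHU h hh x hx, fun hx => hUU x fun a ha => hx a (hperpH a ha)⟩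

end Groth.Agent.S14875
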