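import Groth.Statements.S14882

set_option autoImplicit false
universe u
open CategoryTheory MonoidalCategory CartesianMonoidalCategory MonObj GrpObj AlgebraicGeometry CategoryTheory.Limits
open AlgGrp

namespace Groth.Agent.S14882

/-- Over an algebraically closed field k of characteristic zero, let G be an algebraic group (a smooth
k-group scheme of finite type), X a variety (reduced, separated, of finite type over k) and Γ a
finite group acting on X on the right (x ↦ x·σ, with x·(στ) = (x·σ)·τ). Let φ and φ' be 1-cocycles Γ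
→ G(X), φ_{στ} = φ_σ · (φ_τ ∘ (·σ)), with attached Γ-linearizations of X × G given on points by
λ_σ(x, g) = (x·σ, φ_σ(x)⁻¹·g) and λ'_σ(x, g) = (x·σ, φ'_σ(x)⁻¹·g). Then the two Γ-linearized trivial
bundles are isomorphic, meaning that there is an automorphism Φ of X × G over X, commuting with the
action of G by right multiplication, with Φ ∘ λ_σ = λ'_σ ∘ Φ for every σ, if and only if the
cocycles are cohomologous: there is ψ in G(X) with φ_σ = ψ⁻¹ · φ'_σ · (ψ ∘ (·σ)) for every σ. Hence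
isomorphism classes of Γ-linearizations of the trivial bundle correspond to H¹(Γ, G(X)). -/
theorem result (k : Type u) [Field k] [IsAlgClosed k] [CharZero k]
    (G X : Over (Spec (CommRingCat.of k))) [GrpObj G] [Smooth G.hom] [QuasiCompact G.hom]
    [LocallyOfFiniteType X.hom] [QuasiCompact X.hom] [IsSeparated X.hom] [IsReduced X.left]
    (Γ : Type) [Group Γ] [Finite Γ] (ρ : Γ → (X ⟶ X)) (hρ₁ : ρ 1 = 𝟙 X) (hρ : ∀ σ τ : Γ, ρ (σ * τ) = ρ σ ≫ ρ τ)
    (φ φ' : Γ → (X ⟶ G)) (hφ : ∀ σ τ : Γ, φ (σ * τ) = φ σ * (ρ σ ≫ φ τ))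
    (hφ' : ∀ σ τ : Γ, φ' (σ * τ) = φ' σ * (ρ σ ≫ φ' τ))
    (lam lam' : Γ → (X ⊗ G ⟶ X ⊗ G))
    (hlam : ∀ (σ : Γ) (T : Over (Spec (CommRingCat.of k))) (x : T ⟶ X) (g : T ⟶ G),
      lift x g ≫ lam σ = lift (x ≫ ρ σ) ((x ≫ φ σ)⁻¹ * g))
    (hlam' : ∀ (σ : Γ) (T : Over (Spec (CommRingCat.of k))) (x : T ⟶ X) (g : T ⟶ G),
      lift x g ≫ lam' σ = lift (x ≫ ρ σ) ((x ≫ φ' σ)⁻¹ * g)) :
    (∃ Φ : X ⊗ G ⟶ X ⊗ G, IsIso Φ ∧ Φ ≫ fst X G = fst X G ∧
      (∀ (T : Over (Spec (CommRingCat.of k))) (x : T ⟶ X) (g h : T ⟶ G),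
        lift x (g * h) ≫ Φ ≫ snd X G = (lift x g ≫ Φ ≫ snd X G) * h) ∧
      ∀ σ : Γ, lam σ ≫ Φ = Φ ≫ lam' σ) ↔
    ∃ ψ : X ⟶ G, ∀ σ : Γ, φ σ = ψ⁻¹ * φ' σ * (ρ σ ≫ ψ) := by
  have hlfst : ∀ σ : Γ, lam σ ≫ fst X G = fst X G ≫ ρ σ := by
    intro σ
    have h := hlam σ _ (fst X G) (snd X G)
    rw [lift_fst_snd, Category.id_comp] at h
    rw [h, lift_fst]
  have hlsnd : ∀ σ : Γ, lam σ ≫ snd X G = (fst X G ≫ φ σ)⁻¹ * snd X G := by
    intro σ
    have h := hlam σ _ (fst X G) (snd X G)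
    rw [lift_fst_snd, Category.id_comp] at h
    rw [h, lift_snd]
  constructor
  · rintro ⟨Φ, -, h₁, h₂, h₃⟩
    have key : ∀ (T : Over (Spec (CommRingCat.of k))) (x : T ⟶ X) (g : T ⟶ G),
        lift x g ≫ Φ = lift x ((x ≫ (lift (𝟙 X) (1 : X ⟶ G) ≫ Φ ≫ snd X G)) * g) := by
      intro T x g
      have e1 : lift x g ≫ Φ ≫ fst X G = x := by rw [h₁, lift_fst]
      have e2 : x ≫ lift (𝟙 X) (1 : X ⟶ G) ≫ Φ ≫ snd X G = lift x 1 ≫ Φ ≫ snd X G := by
        rw [← Category.assoc, comp_lift, Category.comp_id, MonObj.comp_one]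
      have e3 : lift x g ≫ Φ ≫ snd X G = (lift x 1 ≫ Φ ≫ snd X G) * g := by
        rw [← h₂ T x 1 g, _root_.one_mul]
      apply CartesianMonoidalCategory.hom_ext
      · rw [Category.assoc, e1, lift_fst]
      · rw [Category.assoc, e3, lift_snd, e2]
    refine ⟨lift (𝟙 X) (1 : X ⟶ G) ≫ Φ ≫ snd X G, fun σ => ?_⟩
    generalize lift (𝟙 X) (1 : X ⟶ G) ≫ Φ ≫ snd X G = ψ at key
    have h := congrArg (fun f => lift (𝟙 X) (1 : X ⟶ G) ≫ f ≫ snd X G) (h₃ σ)
    simp only [← Category.assoc, hlam, hlam', key, lift_snd, Category.id_comp, _root_.mul_one] at h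
    have h' : (ρ σ ≫ ψ) * (φ σ)⁻¹ = (φ' σ)⁻¹ * ψ := h
    rw [_root_.mul_assoc, eq_inv_mul_iff_mul_eq]
    rw [mul_inv_eq_iff_eq_mul] at h'
    rw [h', _root_.mul_assoc, mul_inv_cancel_left]
  · rintro ⟨ψ, hψ⟩
    refine ⟨lift (fst X G) ((fst X G ≫ ψ) * snd X G), ⟨lift (fst X G) ((fst X G ≫ ψ)⁻¹ * snd X G), ?_, ?_⟩, ?_, ?_, ?_⟩
    · rw [comp_lift, lift_fst, MonObj.comp_mul, GrpObj.comp_inv, ← Category.assoc, lift_fst, lift_snd,
        inv_mul_cancel_left, lift_fst_snd]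
    · rw [comp_lift, lift_fst, MonObj.comp_mul, ← Category.assoc, lift_fst, lift_snd,
        mul_inv_cancel_left, lift_fst_snd]
    · rw [lift_fst]
    · intro T x g h
      rw [lift_snd, MonObj.comp_mul, MonObj.comp_mul, ← Category.assoc, ← Category.assoc, lift_fst, lift_fst, lift_snd,
        lift_snd, _root_.mul_assoc]
    · intro σ
      rw [hlam' σ, comp_lift, MonObj.comp_mul, hlfst, hlsnd, ← Category.assoc (lam σ), hlfst, Category.assoc, hψ σ,
        MonObj.comp_mul, MonObj.comp_mul, GrpObj.comp_inv, _root_.mul_inv_rev, _root_.mul_inv_rev, _root_.inv_inv]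
      congr 1
      simp only [_root_.mul_assoc, mul_inv_cancel_left]

end Groth.Agent.S14882
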