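import Groth.Statements.S14885
import Mathlib.Algebra.Ring.Subring.Basic
-- import your own Groth.Agent.* helpers here

set_option autoImplicit false
universe u v
open CategoryTheory TopologicalSpace Opposite AlgebraicGeometry Topology
open AlgGrp

namespace Groth.Agent.S14885

lemma exists_factor {A B C : CommRingCat.{u}} (φ : A ⟶ B) (ψ : C ⟶ B) (h : Function.Injective φ)
    (hr : ∀ c, ψ c ∈ Set.range φ) : ∃ χ : C ⟶ A, χ ≫ φ = ψ := by
  let e : A ≃+* φ.hom.range := RingEquiv.ofBijective φ.hom.rangeRestrict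
    ⟨fun a b hab => h (congrArg Subtype.val hab), φ.hom.rangeRestrict_surjective⟩
  let χ : C →+* A := (e.symm : φ.hom.range →+* A).comp (ψ.hom.codRestrict φ.hom.range
    (fun c => (hr c)))
  refine ⟨CommRingCat.ofHom χ, ?_⟩
  ext c
  change φ (e.symm (ψ.hom.codRestrict φ.hom.range (fun c => (hr c)) c)) = ψ c
  have : ((e (e.symm (ψ.hom.codRestrict φ.hom.range (fun c => (hr c)) c)) : φ.hom.range) : B) = ψ c := by
    rw [RingEquiv.apply_symm_apply]; rfl
  exact this

theorem aux {X Y Z : PresheafedSpace CommRingCat.{u}} {Γ : Type v} (τ : Γ → (X ⟶ X)) (π : X ⟶ Y)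
    (hτ : ∀ g, τ g ≫ π = π)
    (h1 : IsQuotientMap π.base)
    (h2 : ∀ x x' : X, π.base x = π.base x' → ∃ g : Γ, (τ g).base x = x')
    (h3 : ∀ V : Opens Y, Function.Injective (π.c.app (op V)) ∧
      Set.range (π.c.app (op V)) = {s | ∀ g : Γ, (τ g).c.app (op ((Opens.map π.base).obj V)) s =
        X.presheaf.map (eqToHom (congrArg (fun f : X ⟶ Y => op ((Opens.map f.base).obj V)) (hτ g).symm)) s})
    (f : X ⟶ Z) (hf : ∀ g, τ g ≫ f = f) : ∃! fbar : Y ⟶ Z, π ≫ fbar = f := by
  obtain ⟨fb, hfb⟩ : ∃ fb : Y.carrier ⟶ Z.carrier, π.base ≫ fb = f.base := by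
    refine ⟨TopCat.ofHom (h1.lift f.base.hom ?_), ?_⟩
    · intro x x' hx
      obtain ⟨g, rfl⟩ := h2 x x' hx
      conv_lhs => rw [← hf g]
      rfl
    · ext x
      exact ContinuousMap.congr_fun (h1.lift_comp f.base.hom _) x
  obtain ⟨fbase, fc⟩ := f
  subst hfb
  have key : ∀ W : (Opens Z)ᵒᵖ, ∃ χ : Z.presheaf.obj W ⟶ Y.presheaf.obj (op ((Opens.map fb).obj W.unop)),
      χ ≫ π.c.app (op ((Opens.map fb).obj W.unop)) = fc.app W := by
    intro W
    refine exists_factor _ _ (h3 _).1 fun s => ?_
    rw [(h3 _).2]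
    intro g
    have h := PresheafedSpace.congr_app (hf g) W
    rw [PresheafedSpace.comp_c_app] at h
    exact congr($h s)
  choose χ hχ using key
  refine ⟨⟨fb, ⟨χ, ?_⟩⟩, ?_, ?_⟩
  · intro W W' i
    change Z.presheaf.map i ≫ χ W' = χ W ≫ Y.presheaf.map (((Opens.map fb).op).map i)
    have hinj : Mono (π.c.app (op ((Opens.map fb).obj W'.unop))) :=
      ConcreteCategory.mono_of_injective _ (h3 _).1
    rw [← cancel_mono (π.c.app (op ((Opens.map fb).obj W'.unop))), Category.assoc, hχ, Category.assoc]
    have h := π.c.naturality (((Opens.map fb).op).map i)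
    erw [h]
    rw [← Category.assoc]
    erw [hχ]
    exact fc.naturality i
  · refine PresheafedSpace.ext _ _ rfl ?_
    refine NatTrans.ext (funext fun W => ?_)
    refine Eq.trans ?_ (hχ W)
    change (χ W ≫ π.c.app (op ((Opens.map fb).obj W.unop))) ≫ X.presheaf.map _ = _
    erw [X.presheaf.map_id]
    exact Category.comp_id _
  · intro g hg
    obtain ⟨gb, gc⟩ := g
    have hb : gb = fb := by
      have h := congrArg PresheafedSpace.Hom.base hg
      ext y
      obtain ⟨x, rfl⟩ := h1.surjective y
      exact congr($h x)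
    subst hb
    refine PresheafedSpace.ext _ _ rfl ?_
    refine NatTrans.ext (funext fun W => ?_)
    have hinj : Mono (π.c.app (op ((Opens.map gb).obj W.unop))) :=
      ConcreteCategory.mono_of_injective _ (h3 _).1
    have h := PresheafedSpace.congr_app hg W
    change gc.app W ≫ π.c.app (op ((Opens.map gb).obj W.unop)) = fc.app W ≫ X.presheaf.map _ at h
    erw [X.presheaf.map_id] at h
    have h' := h.trans (Category.comp_id _)
    change gc.app W ≫ Y.presheaf.map _ = χ W
    erw [Y.presheaf.map_id]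
    refine (Category.comp_id _).trans ?_
    rw [← cancel_mono (π.c.app (op ((Opens.map gb).obj W.unop))), hχ]
    exact h'

/-- Let a group Γ act on a ringed space X (a topological space with a sheaf of rings) by automorphisms
τ_g, and let π : X → Y be a Γ-invariant morphism of ringed spaces which exhibits Y as the quotient
ringed space X/Γ: the underlying continuous map of π is a topological quotient map whose fibres are
exactly the Γ-orbits, and for every open subset V of Y the ring map O_Y(V) → O_X(π⁻¹V) is injective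
with image the sections s satisfying τ_g^♯(s) = s for all g. Then (Y, π) is a categorical quotient
for the action in the category of ringed spaces: every morphism of ringed spaces f : X → Z with f ∘
τ_g = f for all g (as morphisms of ringed spaces) factors uniquely as f = f̄ ∘ π. -/
theorem result (X Y : SheafedSpace CommRingCat.{u}) (Γ : Type v) [Group Γ]
    (τ : Γ →* Aut X) (π : X ⟶ Y) (hτ : ∀ g : Γ, (τ g).hom ≫ π = π)
    (h1 : IsQuotientMap π.hom.base)
    (h2 : ∀ x x' : X, π.hom.base x = π.hom.base x' ↔ ∃ g : Γ, (τ g).hom.hom.base x = x')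
    (h3 : ∀ V : Opens Y, Function.Injective (π.hom.c.app (op V)) ∧
      Set.range (π.hom.c.app (op V)) =
        {s | ∀ g : Γ, (τ g).hom.hom.c.app (op ((Opens.map π.hom.base).obj V)) s =
          X.presheaf.map (eqToHom (congrArg (fun f : X ⟶ Y => op ((Opens.map f.hom.base).obj V)) (hτ g).symm)) s})
    (Z : SheafedSpace CommRingCat.{u}) (f : X ⟶ Z) (hf : ∀ g : Γ, (τ g).hom ≫ f = f) :
    ∃! fbar : Y ⟶ Z, π ≫ fbar = f := by
  obtain ⟨g, hg, hu⟩ := aux (fun g => (τ g).hom.hom) π.hom (fun g => congrArg (fun h => h.hom) (hτ g)) h1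
    (fun x x' h => (h2 x x').1 h) h3 f.hom (fun g => congrArg (fun h => h.hom) (hf g))
  refine ⟨⟨g⟩, ?_, ?_⟩
  · exact InducedCategory.Hom.ext hg
  · intro g' hg'
    exact InducedCategory.Hom.ext (hu _ (congrArg (fun h => h.hom) hg'))

end Groth.Agent.S14885
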