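import Groth.Statements.S14888
import Groth.Agent.CAlg.K86.FinSpecLoc
import Mathlib.AlgebraicGeometry.Morphisms.QuasiFinite
import Mathlib.AlgebraicGeometry.Stalk

set_option autoImplicit false
universe u
open CategoryTheory AlgebraicGeometry
open CAlg

namespace Groth.Agent.S14888

theorem isOpenImmersion_of_atPrime {A B : CommRingCat.{u}} (φ : A ⟶ B) [Finite (PrimeSpectrum A)]
    (P : Ideal A) [P.IsPrime] (h : @IsLocalization.AtPrime A _ B _ φ.hom.toAlgebra P _) :
    IsOpenImmersion (Spec.map φ) := by
  letI := φ.hom.toAlgebra
  obtain ⟨g, -, hg⟩ := K86.FinSpecLoc.exists_away P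
  have := hg B
  exact IsOpenImmersion.of_isLocalization (S := B) g

/-- Let R be a valuation ring whose spectrum is finite (finite height) and let f : X → Spec R be locally
of finite type with locally quasi-finite fibres. For every x ∈ X the canonical morphism Spec O_{X,x}
→ X is an open immersion, and the composite Spec O_{X,x} → Spec R is locally of finite type; in
particular O_{X,x} is finitely generated as an R-algebra. (The published statement takes X
quasi-finite over Spec R; the assertions are local at x, so this row assumes only that X is locally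
of finite type with discrete fibres.) -/
theorem result
    (R : Type u) [CommRing R] [IsDomain R] [ValuationRing R] [Finite (PrimeSpectrum R)]
    {X : Scheme.{u}} (f : X ⟶ Spec (CommRingCat.of R)) [LocallyOfFiniteType f] [LocallyQuasiFinite f]
    (x : X) :
    IsOpenImmersion (X.fromSpecStalk x) ∧ LocallyOfFiniteType (X.fromSpecStalk x ≫ f) := by
  have key : IsOpenImmersion (X.fromSpecStalk x) := by
    obtain ⟨U, hU, hxU, -⟩ := exists_isAffineOpen_mem_and_subset (X := X) (x := x) (U := ⊤) trivial
    have hfin : Finite (PrimeSpectrum Γ(X, U)) := by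
      have h1 : Finite U.toScheme := by
        have : IsAffine U.toScheme := hU
        have h2 := Scheme.Hom.finite_preimage (U.ι ≫ f) (s := Set.univ)
          (Set.toFinite (Set.univ : Set (PrimeSpectrum R)))
        rw [Set.preimage_univ] at h2
        exact Set.finite_univ_iff.mp h2
      have h3 : Function.Surjective (fun x : U.toScheme => hU.primeIdealOf x) := by
        intro (y : Spec Γ(X, U))
        have h9 : hU.fromSpec y ∈ (U : Set X) := by
          rw [← hU.range_fromSpec]
          exact ⟨y, rfl⟩
        refine ⟨⟨hU.fromSpec y, h9⟩, ?_⟩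
        · apply hU.fromSpec.isOpenEmbedding.injective
          rw [hU.fromSpec_primeIdealOf]
      exact Finite.of_surjective _ h3
    rw [← hU.fromSpecStalk_eq_fromSpecStalk hxU]
    have h5 : IsOpenImmersion (Spec.map (X.presheaf.germ U x hxU)) :=
      isOpenImmersion_of_atPrime _ (hU.primeIdealOf ⟨x, hxU⟩).asIdeal
        (hU.isLocalization_stalk ⟨x, hxU⟩)
    unfold IsAffineOpen.fromSpecStalk
    infer_instance
  exact ⟨key, inferInstance⟩

end Groth.Agent.S14888
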