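import Groth.Statements.S14889
import Groth.Agent.FlatMor.K263.EtaFinite

set_option autoImplicit false
universe u
open CategoryTheory CategoryTheory.Limits AlgebraicGeometry
open FlatMor

namespace Groth.Agent.S14889

/-- Let S be integral, normal (all local rings integrally closed domains), quasi-compact and
quasi-separated, with generic point η, and let φ : X → S be flat, locally of finite presentation,
quasi-compact and quasi-separated, with geometrically reduced fibres (every base change of φ to the
spectrum of a field is reduced). Let f : X' → X be a finite morphism which restricts to an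
isomorphism over an open U ⊆ X that is schematically dense in X and whose preimage is schematically
dense in X', and whose base change to the generic fibre X_η = X ×_S Spec O_{S,η} is an isomorphism.
Then f is an isomorphism: X admits no non-trivial finite η-modification. -/
theorem result
    {S X X' : Scheme.{u}} [IsIntegral S] [CompactSpace S] [QuasiSeparatedSpace S]
    (hS : Pi1.IsNormalScheme S) (φ : X ⟶ S) [Flat φ] [LocallyOfFinitePresentation φ]
    [QuasiCompact φ] [QuasiSeparated φ]
    (hred : ∀ (K : Type u) [Field K] (k : Spec (CommRingCat.of K) ⟶ S), IsReduced (pullback φ k))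
    (f : X' ⟶ X) [IsFinite f] (U : X.Opens) (hU : IsSchemeTheoreticallyDominant U.ι)
    (hU' : IsSchemeTheoreticallyDominant (f ⁻¹ᵁ U).ι) (hfU : IsIso (f ∣_ U))
    (hη : IsIso (pullback.snd f (pullback.fst φ (S.fromSpecStalk (genericPoint S))))) :
    IsIso f := by
  have hP := Groth.Agent.Ega43.GeomRedMain.isoClosed_isReduced.{u}
  have hgeom : ∀ x, Groth.Agent.Ega43.GeomAt.GeomAt (fun R _ => _root_.IsReduced R) φ x := by
    intro x
    rw [Groth.Agent.Ega43.GeomAt.geomAt_iff_pullback hP]
    intro K _ j x' _
    have := hred K j
    infer_instance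
  have H : IsPullback (pullback.fst φ (S.fromSpecStalk (genericPoint S)))
      (pullback.snd φ (S.fromSpecStalk (genericPoint S))) φ (S.fromSpecStalk (genericPoint S)) :=
    IsPullback.of_hasPullback _ _
  have H' : IsPullback (pullback.fst f (pullback.fst φ (S.fromSpecStalk (genericPoint S))))
      (pullback.snd f (pullback.fst φ (S.fromSpecStalk (genericPoint S)))) f
      (pullback.fst φ (S.fromSpecStalk (genericPoint S))) :=
    IsPullback.of_hasPullback _ _
  have hflat : Flat ((f ⁻¹ᵁ U).ι ≫ f ≫ φ) := by
    have h1 : (f ⁻¹ᵁ U).ι ≫ f ≫ φ = (f ∣_ U) ≫ U.ι ≫ φ := by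
      rw [← Category.assoc, ← Category.assoc, morphismRestrict_ι]
    rw [h1]
    infer_instance
  have HH := H'.flip.paste_horiz H.flip
  exact K263.EtaFinite.isIso_of_isIntegralHom hS φ hgeom f H H' hη
    (K263.GenFibre.dominant_of_flat_dense HH.flip (f ⁻¹ᵁ U) hU')

end Groth.Agent.S14889
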