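import Groth.Statements.S14890
import Groth.Agent.FlatMor.K264.Rfc.Final

set_option autoImplicit false
universe u
open CategoryTheory CategoryTheory.Limits AlgebraicGeometry
open FlatMor

namespace Groth.Agent.S14890

/-- Let S be integral, quasi-compact and quasi-separated with generic point η, and let φ : X → S be
dominant, locally of finite presentation, quasi-compact and quasi-separated, with geometrically
reduced generic fibre (every base change of φ along a morphism from the spectrum of a field with
image {η} is reduced). Then there exist a generically étale alteration g : S' → S (proper and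
dominant with S' integral, finite over a nonempty open of S and étale over a nonempty open of S) and
a finite morphism ψ : X' → X ×_S S' which becomes an isomorphism after base change to the generic
fibre of X ×_S S' over S', such that X' is flat and locally of finite presentation over S' with
geometrically reduced fibres. (An η-modification is only required here to be finite and an
isomorphism over the generic point of S'.) -/
theorem result
    {S X : Scheme.{u}} [IsIntegral S] [CompactSpace S] [QuasiSeparatedSpace S]
    (φ : X ⟶ S) [LocallyOfFinitePresentation φ] [QuasiCompact φ] [QuasiSeparated φ] [IsDominant φ]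
    (hη : ∀ (K : Type u) [Field K] (k : Spec (CommRingCat.of K) ⟶ S),
      Set.range k = {genericPoint S} → IsReduced (pullback φ k)) :
    ∃ (S' : Scheme.{u}) (_ : IsIntegral S') (g : S' ⟶ S) (V : S.Opens),
      Curv2.IsAlteration g ∧ (V : Set S).Nonempty ∧ Etale (g ∣_ V) ∧
      ∃ (X' : Scheme.{u}) (ψ : X' ⟶ pullback φ g), IsFinite ψ ∧
        IsIso (pullback.snd ψ
          (pullback.fst (pullback.snd φ g) (S'.fromSpecStalk (genericPoint S')))) ∧
        Flat (ψ ≫ pullback.snd φ g) ∧ LocallyOfFinitePresentation (ψ ≫ pullback.snd φ g) ∧
        ∀ (K : Type u) [Field K] (k : Spec (CommRingCat.of K) ⟶ S'),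
          IsReduced (pullback (ψ ≫ pullback.snd φ g) k) := by
  obtain ⟨S', h0, g, ⟨h1, V, hV, h2⟩, X', ψ, h3, h4, h5, h6, h7⟩ := K264.Rfc.main φ hη
  exact ⟨S', h0, g, V, h1, hV, h2, X', ψ, h3, h4, h5, h6, h7⟩

end Groth.Agent.S14890
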