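import Groth.Statements.S14893
import Groth.Agent.CAlg.K86.ValUnion

set_option autoImplicit false
universe u
open CAlg

namespace Groth.Agent.S14893

/-- Every valuation ring R is a filtered union of subrings which are valuation rings with finite
spectrum (finite height): there is a nonempty directed index type and a monotone family of such
subrings of R whose supremum is R. -/
theorem result
    (R : Type u) [CommRing R] [IsDomain R] [ValuationRing R] :
    ∃ (ι : Type u) (_ : Preorder ι) (_ : IsDirected ι (fun a b ↦ a ≤ b)) (_ : Nonempty ι)
      (F : ι → Subring R), Monotone F ∧ (⨆ i, F i) = ⊤ ∧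
        ∀ i, ValuationRing (F i) ∧ Finite (PrimeSpectrum (F i)) := by
  classical
  let K := FractionRing R
  let j : R →+* K := algebraMap R K
  have hj : Function.Injective j := IsFractionRing.injective R K
  let KS : Finset R → Subfield K := fun s => Subfield.closure (j '' (s : Set R))
  let F : Finset R → Subring R := fun s => (KS s).toSubring.comap j
  have hmem : ∀ s r, r ∈ F s ↔ j r ∈ KS s := fun s r => Iff.rfl
  have hmono : Monotone F := by
    intro s t hst r hr
    rw [hmem] at hr ⊢
    exact Subfield.closure_mono (Set.image_mono (by exact_mod_cast hst)) hr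
  refine ⟨Finset R, inferInstance, inferInstance, inferInstance, F, hmono, ?_, ?_⟩
  · rw [eq_top_iff]
    intro r _
    refine (le_iSup F {r}) ?_
    rw [hmem]
    exact Subfield.subset_closure ⟨r, by simp, rfl⟩
  · intro s
    -- the value ring of `KS s`
    let V : ValuationSubring (KS s) :=
      { carrier := {x | (x : K) ∈ j.range}
        mul_mem' := fun {a b} ha hb => by
          show ((a * b : KS s) : K) ∈ j.range
          exact mul_mem ha hb
        one_mem' := j.range.one_mem
        add_mem' := fun {a b} ha hb => by
          show ((a + b : KS s) : K) ∈ j.range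
          exact add_mem ha hb
        zero_mem' := j.range.zero_mem
        neg_mem' := fun {a} ha => by
          show ((-a : KS s) : K) ∈ j.range
          exact neg_mem ha
        mem_or_inv_mem' := fun x => by
          rcases ValuationRing.isInteger_or_isInteger R (x : K) with h | h
          · exact Or.inl h
          · exact Or.inr h }
    let e : F s →+* V :=
      { toFun := fun r => ⟨⟨j r, r.2⟩, ⟨r, rfl⟩⟩
        map_one' := Subtype.ext (Subtype.ext (map_one j))
        map_mul' := fun a b => Subtype.ext (Subtype.ext (map_mul j (a : R) (b : R)))
        map_zero' := Subtype.ext (Subtype.ext (map_zero j))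
        map_add' := fun a b => Subtype.ext (Subtype.ext (map_add j (a : R) (b : R))) }
    have he : Function.Bijective e := by
      constructor
      · intro a b hab
        have h1 : j a = j b := congrArg (fun x : V => ((x : KS s) : K)) hab
        exact Subtype.ext (hj h1)
      · rintro ⟨⟨x, hx⟩, ⟨r, hr⟩⟩
        have hr' : j r = x := hr
        refine ⟨⟨r, ?_⟩, ?_⟩
        · rw [hmem, hr']; exact hx
        · exact Subtype.ext (Subtype.ext hr')
    let e' : F s ≃+* V := RingEquiv.ofBijective e he
    have hclos : Subfield.closure ((KS s).subtype ⁻¹' (j '' (s : Set R))) = ⊤ := by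
      rw [eq_top_iff]
      intro x _
      have h1 : (Subfield.closure ((KS s).subtype ⁻¹' (j '' (s : Set R)))).map (KS s).subtype =
          KS s := by
        rw [RingHom.map_field_closure, Set.image_preimage_eq_of_subset]
        rintro y hy
        exact ⟨⟨y, Subfield.subset_closure hy⟩, rfl⟩
      have h2 : (x : K) ∈ (Subfield.closure
          ((KS s).subtype ⁻¹' (j '' (s : Set R)))).map (KS s).subtype := by
        rw [h1]; exact x.2
      obtain ⟨y, hy, hyx⟩ := Subfield.mem_map.mp h2
      have h3 : y = x := Subtype.ext hyx
      rw [← h3]
      exact hy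
    have hfin : Finite (PrimeSpectrum V) := by
      refine K86.ValUnion.finite_primeSpectrum_valuationSubring V
        ((KS s).subtype ⁻¹' (j '' (s : Set R))) ?_ hclos
      exact (s.finite_toSet.image j).preimage (KS s).subtype.injective.injOn
    refine ⟨?_, ?_⟩
    · refine { cond' := fun a b => ?_ }
      have hsymm : ∀ a b : F s, (∃ c : R, (a : R) * c = b) → ∃ c : F s, a * c = b := by
        rintro a b ⟨c, hc⟩
        by_cases ha : (a : R) = 0
        · refine ⟨0, Subtype.ext ?_⟩
          rw [ha, zero_mul] at hc
          show (a : R) * 0 = b
          rw [mul_zero, hc]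
        · refine ⟨⟨c, ?_⟩, Subtype.ext hc⟩
          rw [hmem]
          have ha' : j a ≠ 0 := fun h => ha (hj (by rw [h, map_zero]))
          have h5 : j c = j b / j a := by
            rw [← hc, map_mul, mul_div_cancel_left₀ _ ha']
          rw [h5]
          exact div_mem b.2 a.2
      obtain ⟨c, hc⟩ := ValuationRing.cond (a : R) (b : R)
      rcases hc with hc | hc
      · obtain ⟨d, hd⟩ := hsymm a b ⟨c, hc⟩
        exact ⟨d, Or.inl hd⟩
      · obtain ⟨d, hd⟩ := hsymm b a ⟨c, hc⟩
        exact ⟨d, Or.inr hd⟩
    · exact Finite.of_surjective _ (PrimeSpectrum.comapEquiv e').symm.surjective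

end Groth.Agent.S14893
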