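import Groth.Statements.S14894
import Groth.Agent.FlatMor.K263.IsoDescend
import Groth.Agent.S2351
import Groth.Agent.S0429
import Groth.Agent.Ega43.GeomRedMain

set_option autoImplicit false
universe u
open CategoryTheory CategoryTheory.Limits AlgebraicGeometry
open FlatMor

namespace Groth.Agent.S14894

/-- Let S be integral, quasi-compact and quasi-separated with generic point η, φ : X → S flat, locally
of finite presentation, quasi-compact and quasi-separated, and f₁ : X₁ → X, f₂ : X₂ → X finite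
morphisms, each restricting to an isomorphism over a schematically dense open of X whose preimage is
schematically dense, and each an isomorphism after base change to the generic fibre X ×_S Spec
O_{S,η}. Suppose X₁ and X₂ are flat over S with geometrically reduced fibres. Then there are a
finite morphism g : S' → S, restricting to an isomorphism over a nonempty open V of S with g⁻¹(V)
schematically dense in S', and an isomorphism X₁ ×_S S' ≅ X₂ ×_S S' over X ×_S S'; moreover such an
isomorphism is unique. (Base changes are written as pullbacks along the projection X ×_S S' → X.) -/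
theorem result
    {S X X₁ X₂ : Scheme.{u}} [IsIntegral S] [CompactSpace S] [QuasiSeparatedSpace S]
    (φ : X ⟶ S) [Flat φ] [LocallyOfFinitePresentation φ] [QuasiCompact φ] [QuasiSeparated φ]
    (f₁ : X₁ ⟶ X) (f₂ : X₂ ⟶ X) [IsFinite f₁] [IsFinite f₂]
    (U₁ : X.Opens) (hU₁ : IsSchemeTheoreticallyDominant U₁.ι)
    (hU₁' : IsSchemeTheoreticallyDominant (f₁ ⁻¹ᵁ U₁).ι) (hf₁ : IsIso (f₁ ∣_ U₁))
    (U₂ : X.Opens) (hU₂ : IsSchemeTheoreticallyDominant U₂.ι)
    (hU₂' : IsSchemeTheoreticallyDominant (f₂ ⁻¹ᵁ U₂).ι) (hf₂ : IsIso (f₂ ∣_ U₂))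
    (hη₁ : IsIso (pullback.snd f₁ (pullback.fst φ (S.fromSpecStalk (genericPoint S)))))
    (hη₂ : IsIso (pullback.snd f₂ (pullback.fst φ (S.fromSpecStalk (genericPoint S)))))
    [Flat (f₁ ≫ φ)] [Flat (f₂ ≫ φ)]
    (hred₁ : ∀ (K : Type u) [Field K] (k : Spec (CommRingCat.of K) ⟶ S), IsReduced (pullback (f₁ ≫ φ) k))
    (hred₂ : ∀ (K : Type u) [Field K] (k : Spec (CommRingCat.of K) ⟶ S), IsReduced (pullback (f₂ ≫ φ) k)) :
    ∃ (S' : Scheme.{u}) (g : S' ⟶ S) (V : S.Opens), IsFinite g ∧ (V : Set S).Nonempty ∧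
      IsIso (g ∣_ V) ∧ IsSchemeTheoreticallyDominant (g ⁻¹ᵁ V).ι ∧
      ∃ e : pullback f₁ (pullback.fst φ g) ⟶ pullback f₂ (pullback.fst φ g), IsIso e ∧
        e ≫ pullback.snd f₂ (pullback.fst φ g) = pullback.snd f₁ (pullback.fst φ g) ∧
        ∀ e' : pullback f₁ (pullback.fst φ g) ⟶ pullback f₂ (pullback.fst φ g), IsIso e' →
          e' ≫ pullback.snd f₂ (pullback.fst φ g) = pullback.snd f₁ (pullback.fst φ g) → e' = e := by

  have hP := Groth.Agent.Ega43.GeomRedMain.isoClosed_isReduced.{u}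
  have geom : ∀ (Y : Scheme.{u}) (y : Y ⟶ S), (∀ (K : Type u) [Field K] (k : Spec (CommRingCat.of K) ⟶ S),
      IsReduced (pullback y k)) →
      ∀ x, Groth.Agent.Ega43.GeomAt.GeomAt (fun R _ => _root_.IsReduced R) y x := by
    intro Y y hy x
    rw [Groth.Agent.Ega43.GeomAt.geomAt_iff_pullback hP]
    intro K _ j x' _
    have := hy K j
    infer_instance
  have hfp₁ : LocallyOfFinitePresentation (f₁ ≫ φ) := Groth.Agent.S0429.result _
  have hfp₂ : LocallyOfFinitePresentation (f₂ ≫ φ) := Groth.Agent.S0429.result _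
  have hfp₁' : LocallyOfFinitePresentation f₁ :=
    Groth.Agent.Ega43.FPOfComp.locallyOfFinitePresentation_of_comp f₁ φ
  have hfp₂' : LocallyOfFinitePresentation f₂ :=
    Groth.Agent.Ega43.FPOfComp.locallyOfFinitePresentation_of_comp f₂ φ
  have hqc : QuasiCompact (S.fromSpecStalk (genericPoint S)) := K263.GenFibre.quasiCompact_fromSpecStalk S
  have hqs : QuasiSeparated (S.fromSpecStalk (genericPoint S)) := inferInstance
  obtain ⟨hint, hnor, -, hgen, hbij⟩ := Groth.Agent.S2351.result S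
  have hnint : IsIntegralHom (Curv2.normalizationι S) :=
    inferInstanceAs (IsIntegralHom (S.fromSpecStalk (genericPoint S)).fromNormalization)
  obtain ⟨e, he⟩ := K263.EtaUniq.exists_iso_over hnor φ f₁ f₂ hη₁ hη₂ (geom _ _ hred₁) (geom _ _ hred₂)
    (Curv2.normalizationι S) hgen
  obtain ⟨S', hS', g, V, hfin, hg, hV, hVi, e', he'⟩ := K263.IsoDescend.exists_descent
    (Curv2.normalizationι S) hgen hbij φ f₁ f₂ e he
  refine ⟨S', g, V, hfin, hV, hVi, ?_, e'.hom, inferInstance, he', ?_⟩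
  · have hne : Nonempty (g ⁻¹ᵁ V) := by
      obtain ⟨v, hv⟩ := hV
      obtain ⟨w, hw⟩ := (g ∣_ V).surjective ⟨v, hv⟩
      exact ⟨w⟩
    have hd : IsDominant (g ⁻¹ᵁ V).ι := by
      refine ⟨?_⟩
      have h1 := (g ⁻¹ᵁ V).isOpen.dense (Set.nonempty_coe_sort.1 hne)
      rwa [DenseRange, Scheme.Opens.range_ι]
    exact .of_isDominant _
  · intro e'' _ he''
    exact K263.EtaUniq.hom_ext_over φ f₁ f₂ hη₂ g hg _ _ he'' he'

end Groth.Agent.S14894
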