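import Groth.Statements.S14897
import Groth.Agent.Ega3B.ProjProper
import Groth.Agent.FlatMor.K263.ToImage

set_option autoImplicit false
universe u
open CategoryTheory CategoryTheory.Limits AlgebraicGeometry
open FlatMor

namespace Groth.Agent.S14897

/-- Let S be integral, quasi-compact and quasi-separated, K̄ a field with a dominant morphism η̄ : Spec
K̄ → S, and f ∈ K̄. Then there is a K̄-modification of S on which f is a rational function defining
a morphism to the projective line: η̄ factors as a schematically dominant s : Spec K̄ → S' followed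
by a proper S' → S, and there is F : S' → P¹ (Proj of ℤ[T₀, T₁], universe-lifted) with s ≫ F equal
to the K̄-point [1 : f] of the chart T₀ ≠ 0. -/
theorem result
    {S : Scheme.{u}} [IsIntegral S] [CompactSpace S] [QuasiSeparatedSpace S]
    (Kb : Type u) [Field Kb] (ηb : Spec (CommRingCat.of Kb) ⟶ S) [IsDominant ηb] (f : Kb) :
    ∃ (S' : Scheme.{u}) (s : Spec (CommRingCat.of Kb) ⟶ S') (q : S' ⟶ S)
      (F : S' ⟶ CohB1.ProjSpace 1 P1.R0.{u}),
      IsSchemeTheoreticallyDominant s ∧ IsProper q ∧ s ≫ q = ηb ∧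
      s ≫ F = Spec.map (CommRingCat.ofHom (P1.chartMap 0 Kb f)) ≫
        Proj.awayι P1.grading (P1.T 0) (P1.X_mem 0) one_pos := by
  have hP : IsProper (CohB1.ProjSpaceOver.toBase 1 S) := Groth.Agent.Ega3B.ProjProper.isProper_toBase 1 S
  let x : Spec (CommRingCat.of Kb) ⟶ CohB1.ProjSpace 1 P1.R0.{u} :=
    Spec.map (CommRingCat.ofHom (P1.chartMap 0 Kb f)) ≫ Proj.awayι P1.grading (P1.T 0) (P1.X_mem 0) one_pos
  let m : Spec (CommRingCat.of Kb) ⟶ CohB1.ProjSpaceOver 1 S :=
    pullback.lift x ηb (specULiftZIsTerminal.hom_ext _ _)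
  let pr : CohB1.ProjSpaceOver 1 S ⟶ CohB1.ProjSpace 1 P1.R0.{u} := pullback.fst _ _
  have hm1 : m ≫ pr = x := pullback.lift_fst _ _ _
  have hm2 : m ≫ CohB1.ProjSpaceOver.toBase 1 S = ηb := pullback.lift_snd _ _ _
  refine ⟨m.image, m.toImage, m.imageι ≫ CohB1.ProjSpaceOver.toBase 1 S, m.imageι ≫ pr,
    K263.ToImage.isSchemeTheoreticallyDominant_toImage m, inferInstance, ?_, ?_⟩
  · rw [← Category.assoc, m.toImage_imageι, hm2]
  · rw [← Category.assoc, m.toImage_imageι, hm1]
    rfl

end Groth.Agent.S14897
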