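import Groth.Statements.S15273
import Groth.Agent.SSMod.K851.GE

set_option autoImplicit false
universe u
open SSMod

namespace Groth.Agent.S15273

open CategoryTheory CategoryTheory.Limits AlgebraicGeometry in
/-- Let S be an integral, normal, quasi-compact and quasi-separated scheme, (C, D) a multipointed
S-curve (so C → S is flat, finitely presented and of pure relative dimension one but need not be
proper or separated, and D is a closed subscheme of C flat, finitely presented and of relative
dimension zero over S), and (C_st, D_st) → (C, D) a stable modification which is an isomorphism on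
generic fibres over S. Then this stable modification is minimal among such modifications: every
semistable modification (C', D') → (C, D) which is also an isomorphism on generic fibres over S
factors through (C_st, D_st) by a unique morphism of multipointed curves over (C, D). (The published
statement asks this of every semistable modification of (C, D); its proof treats only those that are
isomorphisms on generic fibres, and without that condition the factorization can fail: over a
discrete valuation ring take for C two affine lines glued transversally along a section, marked by a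
section of the first line passing through the node of the special fibre; the disjoint union of the
two lines, with the same marking, is a semistable modification of (C, D), and it does not factor
through the stable modification obtained by blowing up the first line at the node of the special
fibre, which is an isomorphism on generic fibres. So this row assumes the semistable modification is
an isomorphism on generic fibres.) -/
theorem result
    {S C D Cst Dst C' D' : Scheme.{u}} [IsIntegral S] [CompactSpace S] [QuasiSeparatedSpace S]
    (hS : Pi1.IsNormalScheme S) (φ : C ⟶ S) (i : D ⟶ C) (hC : SSMod.IsMPCurve φ i)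
    (ist : Dst ⟶ Cst) (fC : Cst ⟶ C) (fD : Dst ⟶ D) (hst : SSMod.IsStableModification φ i ist fC fD)
    (hη : SSMod.IsEtaIso φ fC) (hηD : SSMod.IsEtaIso (i ≫ φ) fD)
    (i' : D' ⟶ C') (gC : C' ⟶ C) (gD : D' ⟶ D) (hss : SSMod.IsSemistableModification φ i i' gC gD)
    (hη' : SSMod.IsEtaIso φ gC) (hηD' : SSMod.IsEtaIso (i ≫ φ) gD) :
    ∃ (hC' : C' ⟶ Cst) (hD' : D' ⟶ Dst), (i' ≫ hC' = hD' ≫ ist ∧ hC' ≫ fC = gC ∧ hD' ≫ fD = gD) ∧
      ∀ (kC : C' ⟶ Cst) (kD : D' ⟶ Dst), i' ≫ kC = kD ≫ ist → kC ≫ fC = gC → kD ≫ fD = gD →
        kC = hC' ∧ kD = hD' := by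
  obtain ⟨hC', hh⟩ := K851.GE.exists_hom hS φ i hC ist fC fD hst hη i' gC gD hss hη' hηD'
  have pf : IsProper fC := hst.1.1.2.2.1.1
  have fl : Flat (gC ≫ φ) := hss.2.1.1
  have w1 : ist ≫ fC = fD ≫ i := hst.1.1.1
  have w2 : i' ≫ gC = gD ≫ i := hss.1.1
  have ci : IsClosedImmersion i := hC.2.2.2.2.2.1
  have ci1 : IsClosedImmersion ist := hst.1.1.2.1.2.2.2.2.2.1
  have et : Etale (i' ≫ gC ≫ φ) := hss.2.2.2.1
  let q := i' ≫ gC ≫ φ
  have hj : IsSchemeTheoreticallyDominant (pullback.fst q (K851.GB.sη S)) := inferInstance
  obtain ⟨l, hl⟩ := K851.GB.eta_lift hηD (pullback.fst q (K851.GB.sη S) ≫ gD)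
    (pullback.snd q (K851.GB.sη S)) (by
      rw [Category.assoc, ← reassoc_of% w2]
      exact pullback.condition)
  have h1 : l ≫ ist = pullback.fst q (K851.GB.sη S) ≫ i' ≫ hC' := by
    have h2 : (l ≫ ist) ≫ fC = pullback.fst q (K851.GB.sη S) ≫ i' ≫ gC := by
      rw [Category.assoc, w1, reassoc_of% hl, w2]
    refine K851.GB.eta_unique hη _ _ ?_ (pullback.snd q (K851.GB.sη S)) ?_
    · rw [h2, Category.assoc, Category.assoc, hh]
    · rw [h2, Category.assoc, Category.assoc]
      exact pullback.condition
  obtain ⟨hD', hd⟩ := K851.NA.factor (pullback.fst q (K851.GB.sη S)) ist (i' ≫ hC') l h1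
  refine ⟨hC', hD', ⟨hd.symm, hh, ?_⟩, fun kC kD k1 k2 k3 => ?_⟩
  · rw [← cancel_mono i, Category.assoc, ← w1, reassoc_of% hd, hh, w2]
  · have h3 : kC = hC' := K851.GB.flat_unique hη kC hC' (by rw [k2, hh]) (by rw [k2]; exact fl)
    refine ⟨h3, ?_⟩
    rw [← cancel_mono ist, ← k1, hd, h3]

end Groth.Agent.S15273
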