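import Groth.Statements.S15274
import Groth.Agent.SSMod.K971.Uniq
import Groth.Agent.S15273

set_option autoImplicit false
universe u
open SSMod

namespace Groth.Agent.S15274

open CategoryTheory CategoryTheory.Limits AlgebraicGeometry in
/-- Let S be an integral, normal, quasi-compact and quasi-separated scheme and (C, D) a multipointed
S-curve. If (C_st, D_st) → (C, D) and (C_st', D_st') → (C, D) are two stable modifications which are
isomorphisms on generic fibres over S, then there is a unique morphism of multipointed curves (C_st,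
D_st) → (C_st', D_st') over (C, D), and both of its components are isomorphisms. -/
theorem result
    {S C D Cst Dst Cst' Dst' : Scheme.{u}} [IsIntegral S] [CompactSpace S] [QuasiSeparatedSpace S]
    (hS : Pi1.IsNormalScheme S) (φ : C ⟶ S) (i : D ⟶ C) (hC : SSMod.IsMPCurve φ i)
    (ist : Dst ⟶ Cst) (fC : Cst ⟶ C) (fD : Dst ⟶ D) (hst : SSMod.IsStableModification φ i ist fC fD)
    (hη : SSMod.IsEtaIso φ fC) (hηD : SSMod.IsEtaIso (i ≫ φ) fD)
    (ist' : Dst' ⟶ Cst') (fC' : Cst' ⟶ C) (fD' : Dst' ⟶ D)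
    (hst' : SSMod.IsStableModification φ i ist' fC' fD')
    (hη' : SSMod.IsEtaIso φ fC') (hηD' : SSMod.IsEtaIso (i ≫ φ) fD') :
    ∃ (eC : Cst ⟶ Cst') (eD : Dst ⟶ Dst'), IsIso eC ∧ IsIso eD ∧
      (ist ≫ eC = eD ≫ ist' ∧ eC ≫ fC' = fC ∧ eD ≫ fD' = fD) ∧
      ∀ (kC : Cst ⟶ Cst') (kD : Dst ⟶ Dst'), ist ≫ kC = kD ≫ ist' → kC ≫ fC' = fC → kD ≫ fD' = fD →
        kC = eC ∧ kD = eD := by
  exact K971.SSUses.uniq_of_fac Groth.Agent.S15273.result hS φ i hC ist fC fD hst hη hηD ist' fC'
    fD' hst' hη' hηD'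

end Groth.Agent.S15274
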