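import Groth.Statements.S17201
import Groth.Agent.CurvSt.K326.StabGlue
-- import your own Groth.Agent.* helpers here

set_option autoImplicit false
universe u
open CurvSt

namespace Groth.Agent.S17201

attribute [-instance] CategoryTheory.catToReflQuiver Groth.Agent.Dcoh.MonCx.TensorGood.zero

open CategoryTheory CategoryTheory.Limits AlgebraicGeometry in
/-- Let f : C → T be a morphism of schemes with n sections σ_i which is a prestable n-pointed family of
genus g (flat, proper and locally of finite presentation, every geometric fibre with the induced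
marked points a connected at-worst-nodal curve of dimension one with h^1(O) = g and marked points
distinct, closed and in the smooth locus), with 2g − 2 + n > 0, and assume injective resolutions of
O_C-modules. Then f factors as a morphism c : C → C' over T followed by g' : C' → T such that C' → T
with the sections σ_i ≫ c is a stable n-pointed family of genus g (flat, proper, locally of finite
presentation, every geometric fibre a stable n-pointed curve of genus g), O_{C'} → c_* O_C is an
isomorphism and R^1 c_* O_C = 0, and for every morphism T₀ → T and every pair of cartesian squares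
of schemes producing the base change c₀ : C₀ → D₀ of c, again O_{D₀} → c₀_* O_{C₀} is an isomorphism
and R^1 c₀_* O_{C₀} = 0. The source allows algebraic-space total spaces and also asserts uniqueness
of c and its fibrewise description; here the total space of the given family is a scheme, a special
case, and then the contracted family is a scheme too. -/
theorem result {C T : Scheme.{u}} (f : C ⟶ T) (n g : ℕ) (σ : Fin n → (T ⟶ C))
    (hσ : ∀ i, σ i ≫ f = 𝟙 T) (hpre : CurvSt.IsPrestablePtdFam f σ hσ g) (hg : 3 ≤ 2 * g + n)
    [HasInjectiveResolutions C.Modules] :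
    ∃ (C' : Scheme.{u}) (g' : C' ⟶ T) (c : C ⟶ C') (hc : c ≫ g' = f),
      CurvSt.IsStableFam g' (fun i => σ i ≫ c) (fun i => (Category.assoc _ _ _).trans ((congrArg (fun x => σ i ≫ x) hc).trans (hσ i))) g ∧
      IsIso (ClSub.unitToPush c) ∧ IsZero ((Coh.Rpush c 1).obj (Coh.structureModule C)) ∧
      ∀ (T₀ C₀ D₀ : Scheme.{u}) (b : T₀ ⟶ T) (g₀ : D₀ ⟶ T₀) (c₀ : C₀ ⟶ D₀) (pD : D₀ ⟶ C') (pC : C₀ ⟶ C)
        [HasInjectiveResolutions C₀.Modules],
        IsPullback pD g₀ g' b → IsPullback pC c₀ c pD →
          IsIso (ClSub.unitToPush c₀) ∧ IsZero ((Coh.Rpush c₀ 1).obj (Coh.structureModule C₀)) := by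
  have h1 : Flat f := hpre.1
  have h2 : IsProper f := hpre.2.1
  obtain ⟨A⟩ := K326.StabGlue.exists_con hpre hg
  have h3 : IsProper A.γ := A.proper_γ
  have h4 : Flat (A.γ ≫ A.g₁) := by rw [A.w]; infer_instance
  exact ⟨A.C₁, A.g₁, A.γ, A.w, A.st, A.ctr.concl.1, A.ctr.concl.2, A.ctr.concl_baseChange⟩

end Groth.Agent.S17201
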