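import Groth.Statements.S16726
import Groth.Agent.CurvSt.K508.MbarProper
import Groth.Agent.CurvSt.K742.SepMain
import Groth.Agent.S17201

set_option autoImplicit false
universe u
open CurvSt

namespace Groth.Agent.S16726

open CategoryTheory AlgebraicGeometry in
/-- Let S be a scheme and g, n natural numbers with 2g - 2 + n > 0. The category over (Sch/S) of stable
n-pointed curves of genus g is an algebraic stack for the big etale topology which is proper over S:
its diagonal over S is proper (separatedness), its structure functor to (Sch/S) is locally of finite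
type and quasi-compact, and every base change of it to an algebraic stack is a closed map on spaces
of points (universally closed); moreover it has an object over every algebraically closed field over
S. -/
theorem result (S : Scheme.{u}) (g n : ℕ) (h : 3 ≤ 2 * g + n) :
    AlgSt.IsAlgStack Scheme.etalePrecoverage (CurvSt.Mbar S g n) ∧
      AlgSt.IsSeparatedOver (CurvSt.Mbar S g n) ∧
      AlgSt.LocQ (AlgSp.LocP @LocallyOfFiniteType) (FibCat.toSelf (CurvSt.Mbar S g n)) ∧
      AlgSt.IsQuasiCompactMor Scheme.etalePrecoverage (FibCat.toSelf (CurvSt.Mbar S g n)) ∧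
      AlgSt.IsUnivClosed Scheme.etalePrecoverage (FibCat.toSelf (CurvSt.Mbar S g n)) ∧
      ∀ (Ω : Type u) [Field Ω] [IsAlgClosed Ω] (t : Spec (CommRingCat.of Ω) ⟶ S),
        Nonempty ((CurvSt.Mbar S g n).p.Fiber (Over.mk t)) := by
  exact K508.MbarProper.main16726 K742.SepMain.sepZero
    (fun f n g σ hσ hp hg => Groth.Agent.S17201.result f n g σ hσ hp hg) S g n h

end Groth.Agent.S16726
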