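import Groth.Statements.S15281
import Groth.Agent.SSMod.K122.Final
import Groth.Agent.S16726

set_option autoImplicit false
universe u
open SSMod

namespace Groth.Agent.S15281

attribute [-instance] CategoryTheory.catToReflQuiver Groth.Agent.Dcoh.MonCx.TensorGood.zero

open CategoryTheory CategoryTheory.Limits AlgebraicGeometry in
/-- Let R be a valuation ring with finitely many prime ideals whose fraction field is separably closed,
S = Spec R with generic point η, and (C, D) a multipointed S-curve (C not assumed proper or
separated over S) with C and D reduced, whose generic fibre (C_η, D_η) over the spectrum of the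
local ring of S at η is a semistable multipointed curve. Then (C, D) admits a stable modification
which is an isomorphism on generic fibres over S. (Over such a base the existence statement needs no
alteration of the base: a generically étale alteration of S is an isomorphism.) -/
theorem result
    (R : Type u) [CommRing R] [IsDomain R] [ValuationRing R] [Finite (PrimeSpectrum R)]
    [IsSepClosed (FractionRing R)]
    {C D : Scheme.{u}} (φ : C ⟶ Spec (CommRingCat.of R)) (i : D ⟶ C)
    (hC : SSMod.IsMPCurve φ i) [IsReduced C] [IsReduced D]
    (hη : SSMod.IsSemistable (pullback.snd φ ((Spec (CommRingCat.of R)).fromSpecStalk (genericPoint (Spec (CommRingCat.of R)))))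
      (CInt.baseChangeOver i φ ((Spec (CommRingCat.of R)).fromSpecStalk (genericPoint (Spec (CommRingCat.of R)))))) :
    ∃ (Cst Dst : Scheme.{u}) (ist : Dst ⟶ Cst) (fC : Cst ⟶ C) (fD : Dst ⟶ D),
      SSMod.IsStableModification φ i ist fC fD ∧ SSMod.IsEtaIso φ fC ∧
        SSMod.IsEtaIso (i ≫ φ) fD := by
  exact K122.Final.main (fun S g n h =>
    let r := Groth.Agent.S16726.result S g n h
    ⟨r.1, r.2.1, r.2.2.1, r.2.2.2.2.1⟩) R φ i hC hη

end Groth.Agent.S15281
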