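import Groth.Statements.S15277
import Groth.Agent.S15281
import Groth.Agent.S15274
import Groth.Agent.SSMod.K264.Row

set_option autoImplicit false
universe u
open SSMod

namespace Groth.Agent.S15277

attribute [-instance] CategoryTheory.catToReflQuiver Groth.Agent.Dcoh.MonCx.TensorGood.zero

open CategoryTheory CategoryTheory.Limits AlgebraicGeometry in
/-- Let S be an integral quasi-compact quasi-separated scheme with generic point η, and (C, D) a
multipointed S-curve (C → S flat, finitely presented and of pure relative dimension one, not assumed
proper or separated; D a closed subscheme of C flat, finitely presented and of relative dimension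
zero over S) whose generic fibre (C_η, D_η) over the spectrum of the local ring of S at η is a
semistable multipointed curve. Then there are an integral scheme S', a generically étale alteration
g : S' → S (proper and dominant, finite over a nonempty open of S and étale over a nonempty open of
S) and a stable modification of (C, D) ×_S S' which is an isomorphism on generic fibres over S'. -/
theorem result
    {S C D : Scheme.{u}} [IsIntegral S] [CompactSpace S] [QuasiSeparatedSpace S]
    (φ : C ⟶ S) (i : D ⟶ C) (hC : SSMod.IsMPCurve φ i)
    (hη : SSMod.IsSemistable (pullback.snd φ (S.fromSpecStalk (genericPoint S)))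
      (CInt.baseChangeOver i φ (S.fromSpecStalk (genericPoint S)))) :
    ∃ (S' : Scheme.{u}) (_ : IsIntegral S') (g : S' ⟶ S) (V : S.Opens),
      Curv2.IsAlteration g ∧ (V : Set S).Nonempty ∧ Etale (g ∣_ V) ∧
      ∃ (C' D' : Scheme.{u}) (i' : D' ⟶ C') (fC : C' ⟶ pullback φ g) (fD : D' ⟶ pullback (i ≫ φ) g),
        SSMod.IsStableModification (pullback.snd φ g) (CInt.baseChangeOver i φ g) i' fC fD ∧
        SSMod.IsEtaIso (pullback.snd φ g) fC ∧
        SSMod.IsEtaIso (CInt.baseChangeOver i φ g ≫ pullback.snd φ g) fD := by
  exact K264.SS.row
    (fun R _ _ _ _ _ _ _ ψ j h _ _ h' => Groth.Agent.S15281.result R ψ j h h')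
    (fun hS ψ j h a b c d e f a' b' c' d' e' f' => Groth.Agent.S15274.result hS ψ j h a b c d e f a' b' c' d' e' f')
    φ i hC hη

end Groth.Agent.S15277
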