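import Groth.Statements.S14899
import Groth.Agent.S15277
import Groth.Agent.SSMod.K380.Row14899

set_option autoImplicit false
universe u
open CategoryTheory CategoryTheory.Limits AlgebraicGeometry
open Models

namespace Groth.Agent.S14899

attribute [-instance] CategoryTheory.catToReflQuiver Groth.Agent.Dcoh.MonCx.TensorGood.zero

/-- Let S be integral, quasi-compact and quasi-separated with generic point η, and φ : C → S flat,
locally of finite presentation, quasi-compact and quasi-separated (C need not be proper or separated
over S) with every fibre of pure dimension one, whose generic fibre C ×_S Spec O_{S,η} → Spec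
O_{S,η} is an at-worst-nodal family (a semi-stable curve over κ(η)). Then there are a generically
étale alteration g : S' → S — proper and dominant with S' integral, finite over a nonempty open and
étale over a nonempty open of S — and a proper morphism ψ : C' → C ×_S S' inducing an isomorphism on
generic fibres over S', such that C' → S' is an at-worst-nodal family of curves. (The published
result is stronger: it treats multipointed curves (C, D) and produces a stable such modification,
one whose geometric fibres have no exceptional components; only the semi-stable, unpointed
consequence is stated here.) -/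
theorem result
    {S C : Scheme.{u}} [IsIntegral S] [CompactSpace S] [QuasiSeparatedSpace S]
    (φ : C ⟶ S) [Flat φ] [LocallyOfFinitePresentation φ] [QuasiCompact φ] [QuasiSeparated φ]
    (hdim : ∀ s : S, ∀ Z ∈ irreducibleComponents (φ.fiber s : Type u), topologicalKrullDim Z = 1)
    (hη : Curv2.IsNodalFamily (pullback.snd φ (S.fromSpecStalk (genericPoint S)))) :
    ∃ (S' : Scheme.{u}) (_ : IsIntegral S') (g : S' ⟶ S) (V : S.Opens),
      Curv2.IsAlteration g ∧ (V : Set S).Nonempty ∧ Etale (g ∣_ V) ∧
      ∃ (C' : Scheme.{u}) (ψ : C' ⟶ pullback φ g), IsProper ψ ∧
        IsIso (pullback.snd ψ
          (pullback.fst (pullback.snd φ g) (S'.fromSpecStalk (genericPoint S')))) ∧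
        Curv2.IsNodalFamily (ψ ≫ pullback.snd φ g) := by
  exact K380.Row14899.main (fun φ i hC hη => Groth.Agent.S15277.result φ i hC hη) φ hdim hη

end Groth.Agent.S14899
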