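import Groth.Statements.S14901
import Groth.Agent.MovLem.K837.ImgDim

set_option autoImplicit false
universe u
open MovLem

namespace Groth.Agent.S14901

open AlgebraicGeometry CategoryTheory in
/-- Let k be a field, let S and X be separated k-schemes of finite type that are locally equidimensional
(all irreducible components passing through a given point have the same dimension), let f : S → X be
a k-morphism and Z ⊆ X a closed subset. Let d be the dimension of the image f(S), as a subspace of
X. If every point s of S with f(s) ∈ Z satisfies dim O_{S,s} ≥ d + 1 (equivalently: the closed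
subset f⁻¹(Z) of S has local codimension at least d + 1 at each of its points), then f⁻¹(Z) is
empty. -/
theorem result (k : Type u) [Field k] (S X : Scheme.{u})
    (pS : S ⟶ Spec (CommRingCat.of k)) (pX : X ⟶ Spec (CommRingCat.of k))
    [IsSeparated pS] [LocallyOfFiniteType pS] [QuasiCompact pS]
    [IsSeparated pX] [LocallyOfFiniteType pX] [QuasiCompact pX]
    (hS : ∀ (s : S) (A B : Set S), A ∈ irreducibleComponents (S : Type u) → B ∈ irreducibleComponents (S : Type u) →
      s ∈ A → s ∈ B → topologicalKrullDim A = topologicalKrullDim B)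
    (hX : ∀ (x : X) (A B : Set X), A ∈ irreducibleComponents (X : Type u) → B ∈ irreducibleComponents (X : Type u) →
      x ∈ A → x ∈ B → topologicalKrullDim A = topologicalKrullDim B)
    (f : S ⟶ X) (hf : f ≫ pX = pS) (Z : Set X) (hZ : IsClosed Z)
    (h : ∀ s : S, f.base s ∈ Z →
      topologicalKrullDim (Set.range f.base) + 1 ≤ ringKrullDim (S.presheaf.stalk s)) :
    f.base ⁻¹' Z = ∅ := by
  classical
  rw [Set.eq_empty_iff_forall_notMem]
  intro s hs
  -- affine charts
  obtain ⟨_, ⟨V, hV, rfl⟩, hxV, -⟩ :=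
    X.isBasis_affineOpens.exists_subset_of_mem_open (Set.mem_univ (f s)) isOpen_univ
  obtain ⟨_, ⟨U, hU, rfl⟩, hsU, hUV⟩ :=
    S.isBasis_affineOpens.exists_subset_of_mem_open (show s ∈ (f ⁻¹ᵁ V : Set S) from hxV)
      (f ⁻¹ᵁ V).isOpen
  replace hV : IsAffineOpen V := hV
  replace hU : IsAffineOpen U := hU
  have hUV' : U ≤ f ⁻¹ᵁ V := hUV
  let φ := f.appLE V U hUV'
  have hsq : Spec.map φ ≫ hV.fromSpec = hU.fromSpec ≫ f := hV.SpecMap_appLE_fromSpec f hU hUV'
  let _ : Algebra Γ(X, V) Γ(S, U) := φ.hom.toAlgebra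
  -- the structure over `k`
  let κV : CommRingCat.of k ⟶ Γ(X, V) := (Scheme.ΓSpecIso (CommRingCat.of k)).inv ≫ pX.appLE ⊤ V le_top
  let _ : Algebra k Γ(X, V) := κV.hom.toAlgebra
  have hFTA : Algebra.FiniteType k Γ(X, V) := by
    have h1 := LocallyOfFiniteType.finiteType_appLE pX (isAffineOpen_top _) hV le_top
    exact RingHom.FiniteType.comp h1
      (RingHom.FiniteType.of_surjective _ (ConcreteCategory.bijective_of_isIso
        (Scheme.ΓSpecIso (CommRingCat.of k)).inv).2)
  have hFTf : LocallyOfFiniteType f := by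
    have : LocallyOfFiniteType (f ≫ pX) := by rw [hf]; infer_instance
    exact locallyOfFiniteType_of_comp f pX
  have hFTB : Algebra.FiniteType Γ(X, V) Γ(S, U) :=
    LocallyOfFiniteType.finiteType_appLE f hV hU hUV'
  -- the point `s`
  obtain ⟨P₁, rfl⟩ : ∃ P₁, hU.fromSpec P₁ = s := by
    have h1 : s ∈ Set.range hU.fromSpec := by rw [hU.range_fromSpec]; exact hsU
    exact h1
  have hpt : ∀ P : Spec Γ(S, U), f (hU.fromSpec P) = hV.fromSpec (Spec.map φ P) := by
    intro P
    have h1 := congrArg (fun g : Spec Γ(S, U) ⟶ X => g P) hsq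
    simpa using h1.symm
  let p : PrimeSpectrum Γ(X, V) := PrimeSpectrum.comap (algebraMap Γ(X, V) Γ(S, U)) P₁
  obtain ⟨P, hP, hPP₁⟩ := Ideal.exists_minimalPrimes_le
    (show p.asIdeal.map (algebraMap Γ(X, V) Γ(S, U)) ≤ P₁.asIdeal from Ideal.map_comap_le)
  let P' : PrimeSpectrum Γ(S, U) := ⟨P, hP.1.1⟩
  have hP'p : PrimeSpectrum.comap (algebraMap Γ(X, V) Γ(S, U)) P' = p := by
    apply PrimeSpectrum.ext
    refine le_antisymm (Ideal.comap_mono hPP₁) ?_
    exact Ideal.map_le_iff_le_comap.mp hP.1.2
  have hht := K837.ImgDim.height_le (k := k) p P' hP hP'p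
  have hfs : f (hU.fromSpec P') = f (hU.fromSpec P₁) := by
    rw [hpt, hpt]
    exact congrArg _ hP'p
  have h1 := h (hU.fromSpec P') (by
    have h2 : f (hU.fromSpec P') ∈ Z := by rw [hfs]; exact hs
    exact h2)
  have hP'prime : P'.asIdeal.IsPrime := P'.isPrime
  have hst : ringKrullDim (S.presheaf.stalk (hU.fromSpec P')) = P'.asIdeal.height := by
    have h2 : ringKrullDim (S.presheaf.stalk (hU.fromSpec P')) =
        ringKrullDim ((Spec Γ(S, U)).presheaf.stalk P') :=
      ringKrullDim_eq_of_ringEquiv (asIso (hU.fromSpec.stalkMap P')).commRingCatIsoToRingEquiv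
    rw [h2]
    let _ : Algebra Γ(S, U) ((Spec Γ(S, U)).presheaf.stalk P') := StructureSheaf.stalkAlgebra Γ(S, U) P'
    have : IsLocalization.AtPrime ((Spec Γ(S, U)).presheaf.stalk P') P'.asIdeal :=
      StructureSheaf.IsLocalization.to_stalk Γ(S, U) P'
    exact IsLocalization.AtPrime.ringKrullDim_eq_height P'.asIdeal _
  rw [hst] at h1
  have hle : topologicalKrullDim (Set.range (PrimeSpectrum.comap (algebraMap Γ(X, V) Γ(S, U)))) ≤
      topologicalKrullDim (Set.range f.base) := by
    have h4 : ∀ y : Set.range (PrimeSpectrum.comap (algebraMap Γ(X, V) Γ(S, U))),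
        hV.fromSpec y.1 ∈ Set.range f.base := by
      rintro ⟨_, z, rfl⟩
      exact ⟨hU.fromSpec z, hpt z⟩
    have h5 : Topology.IsInducing (fun y : Set.range (PrimeSpectrum.comap
        (algebraMap Γ(X, V) Γ(S, U))) => hV.fromSpec y.1) :=
      hV.fromSpec.isOpenEmbedding.isInducing.comp Topology.IsInducing.subtypeVal
    exact (h5.codRestrict h4).topologicalKrullDim_le
  have hNB : IsNoetherianRing Γ(S, U) := by
    have hNA : IsNoetherianRing Γ(X, V) := Algebra.FiniteType.isNoetherianRing k _
    exact Algebra.FiniteType.isNoetherianRing Γ(X, V) _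
  have hfin : P'.asIdeal.height ≠ ⊤ := Ideal.height_ne_top_of_isPrime
  have h6 := hht.trans hle
  generalize topologicalKrullDim (Set.range f.base) = D at h1 h6
  generalize P'.asIdeal.height = n at h1 h6 hfin
  induction D with
  | bot => simp at h6
  | coe D =>
    have h7 : D + 1 ≤ n := by exact_mod_cast h1
    have h8 : n ≤ D := by exact_mod_cast h6
    have h9 : n + 1 ≤ n := (add_le_add_left h8 1).trans h7
    exact absurd h9 (not_le.mpr ((ENat.lt_add_one_iff hfin).mpr le_rfl))

end Groth.Agent.S14901
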