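import Groth.Statements.S14909
import Mathlib.RingTheory.MvPowerSeries.Evaluation
import Mathlib.RingTheory.MvPowerSeries.Inverse
import Mathlib.Algebra.QuadraticAlgebra.Basic
import Mathlib.RingTheory.Nakayama
import Mathlib.Tactic

set_option autoImplicit false
universe u
open Neron

namespace Groth.Agent.S14909

/-- Ring homomorphisms out of a power series ring in finitely many variables, given by sending the variables to
nilpotent elements. -/
private theorem exists_hom {R T : Type u} [CommRing R] [CommRing T] (φ : R →+* T) (t : Fin 2 → T)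
    (ht : ∀ i, IsNilpotent (t i)) :
    ∃ ψ : MvPowerSeries (Fin 2) R →+* T, (∀ r, ψ (MvPowerSeries.C r) = φ r) ∧ ∀ i, ψ (MvPowerSeries.X i) = t i := by
  let _ : UniformSpace R := ⊥
  let _ : UniformSpace T := ⊥
  have : DiscreteTopology R := ⟨rfl⟩
  have : DiscreteTopology T := ⟨rfl⟩
  have : DiscreteUniformity R := ⟨rfl⟩
  have : DiscreteUniformity T := ⟨rfl⟩
  have hφ : Continuous φ := continuous_of_discreteTopology
  have ha : MvPowerSeries.HasEval t := by
    refine ⟨fun s => ?_, ?_⟩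
    · obtain ⟨n, hn⟩ := ht s
      refine tendsto_nhds_of_eventually_eq ?_ 
      filter_upwards [Filter.eventually_ge_atTop n] with k hk
      exact pow_eq_zero_of_le hk hn
    · rw [Filter.cofinite_eq_bot]
      exact Filter.tendsto_bot
  refine ⟨MvPowerSeries.eval₂Hom hφ ha, fun r => ?_, fun i => ?_⟩
  · rw [MvPowerSeries.coe_eval₂Hom, MvPowerSeries.eval₂_C]
  · rw [MvPowerSeries.coe_eval₂Hom, MvPowerSeries.eval₂_X]

private theorem span_pow_le {T : Type u} [CommRing T] (e y : T) (he : e * e = 0) (n : ℕ) :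
    (Ideal.span {e, y} : Ideal T) ^ (n + 1) ≤ Ideal.span {y ^ (n + 1), e * y ^ n} := by
  induction n with
  | zero =>
    rw [zero_add, pow_one, pow_one, pow_zero, mul_one]
    rw [Ideal.span_le]
    rintro z (rfl | rfl)
    · exact Ideal.subset_span (by simp)
    · exact Ideal.subset_span (by simp)
  | succ n ih =>
    rw [pow_succ (Ideal.span {e, y}) (n + 1)]
    refine (Ideal.mul_mono_left ih).trans ?_
    rw [Ideal.span_pair_mul_span_pair, Ideal.span_le]
    rintro z (rfl | rfl | rfl | rfl)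
    · refine Ideal.subset_span ?_
      right; show y ^ (n + 1) * e = e * y ^ (n + 1); ring
    · refine Ideal.subset_span ?_
      left; show y ^ (n + 1) * y = y ^ (n + 1 + 1); ring
    · have : e * y ^ n * e = 0 := by rw [mul_comm (e * y ^ n) e, ← mul_assoc, he, zero_mul]
      rw [this]; exact Ideal.zero_mem _
    · refine Ideal.subset_span ?_
      right; show e * y ^ n * y = e * y ^ (n + 1); ring

private theorem omega_mul {R : Type u} [CommRing R] (c : R) (Z : QuadraticAlgebra R c 0) :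
    (QuadraticAlgebra.omega : QuadraticAlgebra R c 0) * Z = ⟨c * Z.im, Z.re⟩ := by
  rw [← QuadraticAlgebra.mk_eta Z, QuadraticAlgebra.omega_mul_mk]; simp

private theorem omega_pow_cancel {R : Type u} [CommRing R] [IsDomain R] (c : R) (hc : c ≠ 0) (n : ℕ)
    (Z W : QuadraticAlgebra R c 0)
    (h : (QuadraticAlgebra.omega : QuadraticAlgebra R c 0) ^ n * Z = QuadraticAlgebra.omega ^ n * W) : Z = W := by
  induction n generalizing Z W with
  | zero => simpa using h
  | succ n ih =>
    rw [pow_succ, mul_assoc, mul_assoc] at h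
    have h1 := ih _ _ h
    rw [omega_mul, omega_mul] at h1
    have h2 := congrArg QuadraticAlgebra.re h1
    have h3 := congrArg QuadraticAlgebra.im h1
    simp only at h2 h3
    exact QuadraticAlgebra.ext h3 (mul_left_cancel₀ hc h2)

private theorem re_mem_of_omega_mul {R : Type u} [CommRing R] (c : R) (P : Ideal R) (hc : c ∈ P)
    (Z : QuadraticAlgebra R c 0) (a : R)
    (h : (QuadraticAlgebra.omega : QuadraticAlgebra R c 0) * Z = algebraMap R _ a) : a ∈ P := by
  rw [omega_mul] at h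
  have h2 := congrArg QuadraticAlgebra.re h
  simp only [QuadraticAlgebra.algebraMap_re] at h2
  rw [← h2]
  exact P.mul_mem_right _ hc

private theorem dual_aux {A : Type u} [CommRing A] (P Q : QuadraticAlgebra A 0 0) (s t p q : A)
    (h : P * algebraMap A _ s + Q * (QuadraticAlgebra.omega * algebraMap A _ t) =
      algebraMap A _ p + QuadraticAlgebra.omega * algebraMap A _ q) :
    P.re * s = p ∧ P.im * s + Q.re * t = q := by
  have hre := congrArg QuadraticAlgebra.re h
  have him := congrArg QuadraticAlgebra.im h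
  simp at hre him
  exact ⟨hre, him⟩

/-- The generation half, in an abstract ring. -/
private theorem gen_aux {S : Type u} [CommRing S] (ϖ a₁ a₆ x y u₁ u₆ v₆ v₃ : S) (v : ℕ) (hv : 1 ≤ v)
    (h6 : v₆ * u₆ = 1) (h3 : v₃ * 3 = 1) (ha₁ : a₁ = u₁ * ϖ ^ v) (ha₆ : a₆ = u₆ * ϖ)
    (I M : Ideal S) (hM : M = Ideal.span {ϖ, x, y}) (hMj : M ≤ Ideal.jacobson ⊥)
    (hg1 : y ^ 2 + a₁ * (x * y) - x ^ 3 - a₆ ∈ I) (hg3 : 3 * x ^ 2 - a₁ * y ∈ I) (n : ℕ) :
    M ^ (n + 1) ⊔ I = Ideal.span {y ^ (n + 1), x * y ^ n} ⊔ I := by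
  have hxM : x ∈ M := by rw [hM]; exact Ideal.subset_span (by simp)
  have hyM : y ∈ M := by rw [hM]; exact Ideal.subset_span (by simp)
  have hϖM : ϖ ∈ M := by rw [hM]; exact Ideal.subset_span (by simp)
  have hMfg : ∀ k, (M ^ k).FG := fun k => Submodule.FG.pow (hM ▸ Submodule.fg_span (Set.toFinite _)) k
  -- ϖ ∈ I + M²
  have hϖ2 : ϖ ∈ M ^ 2 ⊔ I := by
    have e : ϖ = v₆ * (y * y + a₁ * (x * y) - x ^ 2 * x) + (- v₆) * (y ^ 2 + a₁ * (x * y) - x ^ 3 - a₆) := by
      rw [ha₆]; linear_combination (-ϖ) * h6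
    rw [e]
    have hsq : M ^ 2 = M * M := pow_two M
    refine Ideal.add_mem _ (Ideal.mem_sup_left ?_) (Ideal.mem_sup_right (Ideal.mul_mem_left _ _ hg1))
    rw [hsq]
    refine Ideal.mul_mem_left _ _ (Ideal.sub_mem _ (Ideal.add_mem _ (Ideal.mul_mem_mul hyM hyM)
      (Ideal.mul_mem_left _ _ (Ideal.mul_mem_mul hxM hyM))) ?_)
    exact Ideal.mul_mem_mul (by rw [pow_two]; exact Ideal.mul_mem_left _ _ hxM) hxM
  -- x² ∈ I + M³
  have hx2 : x ^ 2 ∈ M ^ 3 ⊔ I := by
    have e : x ^ 2 = (v₃ * u₁ * ϖ ^ (v - 1)) * (ϖ * y) + v₃ * (3 * x ^ 2 - a₁ * y) := by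
      have : ϖ ^ v = ϖ ^ (v - 1) * ϖ := by rw [← pow_succ]; congr 1; omega
      rw [ha₁, this]; linear_combination (- x ^ 2) * h3
    rw [e]
    refine Ideal.add_mem _ (Ideal.mul_mem_left _ _ ?_) (Ideal.mem_sup_right (Ideal.mul_mem_left _ _ hg3))
    have h : ϖ * y ∈ (M ^ 2 ⊔ I) * M := Ideal.mul_mem_mul hϖ2 hyM
    rw [Ideal.sup_mul, ← pow_succ] at h
    have h' : M ^ (2 + 1) ⊔ I * M ≤ M ^ 3 ⊔ I := sup_le_sup le_rfl Ideal.mul_le_left
    exact h' h
  -- main inductive claim
  have key : ∀ k : ℕ, M ^ (k + 1) ≤ Ideal.span {y ^ (k + 1), x * y ^ k} ⊔ I ⊔ M ^ (k + 2) := by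
    intro k
    induction k with
    | zero =>
      rw [zero_add, pow_one, pow_one, pow_zero, mul_one, zero_add]
      conv_lhs => rw [hM]
      rw [Ideal.span_le]
      rintro z (rfl | rfl | rfl)
      · have : M ^ 2 ⊔ I ≤ Ideal.span {y, x} ⊔ I ⊔ M ^ 2 := sup_le le_sup_right (le_sup_right.trans le_sup_left)
        exact this hϖ2
      · exact Ideal.mem_sup_left (Ideal.mem_sup_left (Ideal.subset_span (by simp)))
      · exact Ideal.mem_sup_left (Ideal.mem_sup_left (Ideal.subset_span (by simp)))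
    | succ k ih =>
      rw [pow_succ M (k + 1)]
      refine (Ideal.mul_mono_left ih).trans ?_
      rw [Ideal.sup_mul, Ideal.sup_mul, ← pow_succ M (k + 2)]
      refine sup_le (sup_le ?_ (Ideal.mul_le_left.trans (le_sup_right.trans le_sup_left))) le_sup_right
      -- span{y^(k+1), x y^k} * M
      have hyk : ∀ j, y ^ j ∈ M ^ j := fun j => Ideal.pow_mem_pow hyM j
      have hxyk : ∀ j, x * y ^ j ∈ M ^ (j + 1) := fun j => by
        rw [pow_succ' M j]; exact Ideal.mul_mem_mul hxM (hyk j)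
      have hspan : Ideal.span {y ^ (k + 1), x * y ^ k} ≤ M ^ (k + 1) := by
        rw [Ideal.span_le]; rintro z (rfl | rfl)
        · exact hyk _
        · exact hxyk _
      conv_lhs => rw [hM]
      rw [Ideal.span_mul_span', Ideal.span_le]
      rintro z hz
      rw [Set.mem_mul] at hz
      obtain ⟨p, hp, q, hq, rfl⟩ := hz
      have hpM : p ∈ M ^ (k + 1) := hspan (Ideal.subset_span hp)
      rcases hq with rfl | rfl | rfl
      · -- q = ϖ
        have h : p * q ∈ M ^ (k + 1) * (M ^ 2 ⊔ I) := Ideal.mul_mem_mul hpM hϖ2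
        rw [Ideal.mul_sup, ← pow_add] at h
        have h' : M ^ (k + 1 + 2) ⊔ M ^ (k + 1) * I ≤
            Ideal.span {y ^ (k + 1 + 1), x * y ^ (k + 1)} ⊔ I ⊔ M ^ (k + 2 + 1) := by
          refine sup_le ?_ (Ideal.mul_le_right.trans (le_sup_right.trans le_sup_left))
          have : k + 1 + 2 = k + 2 + 1 := by omega
          rw [this]; exact le_sup_right
        exact h' h
      · -- q = x
        rcases hp with rfl | rfl
        · refine Ideal.mem_sup_left (Ideal.mem_sup_left (Ideal.subset_span ?_))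
          right; show y ^ (k + 1) * q = q * y ^ (k + 1); ring
        · have h : q ^ 2 * y ^ k ∈ (M ^ 3 ⊔ I) * M ^ k := Ideal.mul_mem_mul hx2 (hyk k)
          rw [Ideal.sup_mul, ← pow_add] at h
          have h' : M ^ (3 + k) ⊔ I * M ^ k ≤
              Ideal.span {y ^ (k + 1 + 1), q * y ^ (k + 1)} ⊔ I ⊔ M ^ (k + 2 + 1) := by
            refine sup_le ?_ (Ideal.mul_le_left.trans (le_sup_right.trans le_sup_left))
            have : 3 + k = k + 2 + 1 := by omega
            rw [this]; exact le_sup_right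
          have e : q * y ^ k * q = q ^ 2 * y ^ k := by ring
          rw [e]; exact h' h
      · -- q = y
        rcases hp with rfl | rfl
        · refine Ideal.mem_sup_left (Ideal.mem_sup_left (Ideal.subset_span ?_))
          left; show q ^ (k + 1) * q = q ^ (k + 1 + 1); ring
        · refine Ideal.mem_sup_left (Ideal.mem_sup_left (Ideal.subset_span ?_))
          right; show x * q ^ k * q = x * q ^ (k + 1); ring
  apply le_antisymm
  · refine sup_le ?_ le_sup_right
    refine Submodule.le_of_le_smul_of_le_jacobson_bot (I := M) (hMfg _) hMj ?_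
    have := key n
    rwa [pow_succ' M (n + 1)] at this
  · refine sup_le ?_ le_sup_right
    rw [Ideal.span_le]
    rintro z (rfl | rfl)
    · exact Ideal.mem_sup_left (Ideal.pow_mem_pow hyM _)
    · refine Ideal.mem_sup_left ?_
      rw [pow_succ' M n]; exact Ideal.mul_mem_mul hxM (Ideal.pow_mem_pow hyM _)

/-- Let R be a discrete valuation ring with uniformizer ϖ, let a₁, a₆ ∈ R with a₁ of valuation v ≥ 1, a₆
of valuation 1, and 2 of valuation at least v (so the residue characteristic is 2; 2 = 0 is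
allowed). In the power series ring S = R[[x, y]] let M = (ϖ, x, y) be the maximal ideal and I the
ideal generated by y² + a₁xy − x³ − a₆, 2y + a₁x and 3x² − a₁y, so that S/I is a local ring with
maximal ideal m = M/I. Then the classes of y^(2v) and x·y^(2v−1) form a basis of the vector space
m^(2v)/m^(2v+1) over the residue field: M^(2v) + I = (y^(2v), x·y^(2v−1)) + I, and whenever a·y^(2v)
+ b·x·y^(2v−1) ∈ M^(2v+1) + I with a, b ∈ R, both a and b lie in the maximal ideal of R. (Generation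
holds with any exponent i ≥ 1 in place of 2v: M^i + I = (y^i, x·y^(i−1)) + I.) -/
theorem result (R : Type u) [CommRing R] [IsDomain R] [IsDiscreteValuationRing R]
    (ϖ a₁ a₆ : R) (hϖ : Irreducible ϖ) (v : ℕ) (hv : 1 ≤ v) (u₁ u₆ : Rˣ) (ha₁ : a₁ = u₁ * ϖ ^ v) (ha₆ : a₆ = u₆ * ϖ)
    (h2 : (2 : R) ∈ IsLocalRing.maximalIdeal R ^ v)
    (x y : MvPowerSeries (Fin 2) R) (hx : x = MvPowerSeries.X 0) (hy : y = MvPowerSeries.X 1)
    (I M : Ideal (MvPowerSeries (Fin 2) R))
    (hI : I = Ideal.span {y ^ 2 + a₁ • (x * y) - x ^ 3 - algebraMap R (MvPowerSeries (Fin 2) R) a₆,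
      2 * y + a₁ • x, 3 * x ^ 2 - a₁ • y})
    (hM : M = Ideal.span {algebraMap R (MvPowerSeries (Fin 2) R) ϖ, x, y}) :
    M ^ (2 * v) ⊔ I = Ideal.span {y ^ (2 * v), x * y ^ (2 * v - 1)} ⊔ I ∧
      ∀ a b : R, a • y ^ (2 * v) + b • (x * y ^ (2 * v - 1)) ∈ M ^ (2 * v + 1) ⊔ I →
        a ∈ IsLocalRing.maximalIdeal R ∧ b ∈ IsLocalRing.maximalIdeal R := by
  have hϖmem : ϖ ∈ IsLocalRing.maximalIdeal R := (IsLocalRing.mem_maximalIdeal _).mpr hϖ.not_isUnit
  have hmax : IsLocalRing.maximalIdeal R = Ideal.span {ϖ} :=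
    (IsDiscreteValuationRing.irreducible_iff_uniformizer ϖ).mp hϖ
  obtain ⟨c, hc⟩ : ∃ c : R, (2 : R) = c * ϖ ^ v := by
    rw [hmax, Ideal.span_singleton_pow, Ideal.mem_span_singleton'] at h2
    obtain ⟨c, hc⟩ := h2
    exact ⟨c, hc.symm⟩
  have h3u : IsUnit (3 : R) := by
    have h2m : (2 : R) ∈ IsLocalRing.maximalIdeal R := Ideal.pow_le_self (by omega) h2
    by_contra hcon
    have h3m : (3 : R) ∈ IsLocalRing.maximalIdeal R := (IsLocalRing.mem_maximalIdeal _).mpr hcon
    have h1 : (1 : R) ∈ IsLocalRing.maximalIdeal R := by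
      have := Ideal.sub_mem _ h3m h2m
      have h : (3 : R) - 2 = 1 := by norm_num
      rwa [h] at this
    exact (IsLocalRing.mem_maximalIdeal _).mp h1 isUnit_one
  obtain ⟨u₃, hu₃⟩ := h3u
  obtain ⟨m, hm⟩ : ∃ m, 2 * v = m + 1 := ⟨2 * v - 1, by omega⟩
  have hm' : 2 * v - 1 = m := by omega
  constructor
  · rw [hm', hm]
    refine gen_aux (algebraMap R _ ϖ) (algebraMap R _ a₁) (algebraMap R _ a₆) x y (algebraMap R _ u₁)
      (algebraMap R _ u₆) (algebraMap R _ ((u₆⁻¹ : Rˣ) : R)) (algebraMap R _ ((u₃⁻¹ : Rˣ) : R)) v hv ?_ ?_ ?_ ?_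
      I M hM ?_ ?_ ?_ m
    · rw [← map_mul, u₆.inv_mul, map_one]
    · have : (3 : MvPowerSeries (Fin 2) R) = algebraMap R _ 3 := by rw [map_ofNat]
      rw [this, ← map_mul, ← hu₃, u₃.inv_mul, map_one]
    · rw [ha₁, map_mul, map_pow]
    · rw [ha₆, map_mul]
    · refine le_trans ?_ (IsLocalRing.maximalIdeal_le_jacobson ⊥)
      rw [hM, Ideal.span_le]
      rintro z (rfl | rfl | rfl)
      · show _ ∈ IsLocalRing.maximalIdeal _
        rw [IsLocalRing.mem_maximalIdeal, mem_nonunits_iff, MvPowerSeries.isUnit_iff_constantCoeff]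
        have : MvPowerSeries.constantCoeff (algebraMap R (MvPowerSeries (Fin 2) R) ϖ) = ϖ := by
          simp [MvPowerSeries.algebraMap_apply]
        rw [this]; exact hϖ.not_isUnit
      · show _ ∈ IsLocalRing.maximalIdeal _
        rw [IsLocalRing.mem_maximalIdeal, mem_nonunits_iff, MvPowerSeries.isUnit_iff_constantCoeff, hx]
        simp
      · show _ ∈ IsLocalRing.maximalIdeal _
        rw [IsLocalRing.mem_maximalIdeal, mem_nonunits_iff, MvPowerSeries.isUnit_iff_constantCoeff, hy]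
        simp
    · rw [hI, ← Algebra.smul_def]; exact Ideal.subset_span (by simp)
    · rw [hI, ← Algebra.smul_def]; exact Ideal.subset_span (by simp)
  · intro a b hab
    -- the target ring
    let A1 := QuadraticAlgebra R a₆ 0
    let T₀ := QuadraticAlgebra A1 0 0
    let Y : A1 := QuadraticAlgebra.omega
    let E : T₀ := QuadraticAlgebra.omega
    let Y' : T₀ := algebraMap A1 T₀ Y
    let κ : R →+* T₀ := (algebraMap A1 T₀).comp (algebraMap R A1)
    have hYY : Y * Y = algebraMap R A1 a₆ := by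
      have := QuadraticAlgebra.omega_mul_omega_eq_algebraMap (R := R) (a := a₆) (b := 0)
      simpa using this
    have hYY' : Y' * Y' = κ a₆ := by
      show algebraMap A1 T₀ Y * algebraMap A1 T₀ Y = algebraMap A1 T₀ (algebraMap R A1 a₆)
      rw [← map_mul, hYY]
    have hEE : E * E = 0 := by
      have := QuadraticAlgebra.omega_mul_omega_eq_algebraMap (R := A1) (a := 0) (b := 0)
      simpa using this
    let J : Ideal T₀ := Ideal.span {Y' ^ (2 * v + 1), E * Y' ^ (2 * v)}
    let T := T₀ ⧸ J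
    let e : T := Ideal.Quotient.mk J E
    let y' : T := Ideal.Quotient.mk J Y'
    have hee : e * e = 0 := by
      show Ideal.Quotient.mk J E * Ideal.Quotient.mk J E = 0
      rw [← map_mul, hEE, map_zero]
    have hyn : y' ^ (2 * v + 1) = 0 := by
      show Ideal.Quotient.mk J Y' ^ (2 * v + 1) = 0
      rw [← map_pow]; exact Ideal.Quotient.eq_zero_iff_mem.mpr (Ideal.subset_span (by simp))
    have heyn : e * y' ^ (2 * v) = 0 := by
      show Ideal.Quotient.mk J E * Ideal.Quotient.mk J Y' ^ (2 * v) = 0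
      rw [← map_pow, ← map_mul]; exact Ideal.Quotient.eq_zero_iff_mem.mpr (Ideal.subset_span (by simp))
    let κ' : R →+* T := (Ideal.Quotient.mk J).comp κ
    have hyy' : y' * y' = κ' a₆ := by
      show Ideal.Quotient.mk J Y' * Ideal.Quotient.mk J Y' = Ideal.Quotient.mk J (κ a₆)
      rw [← map_mul, hYY']
    obtain ⟨ψ, hψC, hψX⟩ := exists_hom κ' ![e, y'] (by
      intro i
      fin_cases i
      · exact ⟨2, by show e ^ 2 = 0; rw [pow_two, hee]⟩
      · exact ⟨_, hyn⟩)
    have hψx : ψ x = e := by rw [hx, hψX]; rfl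
    have hψy : ψ y = y' := by rw [hy, hψX]; rfl
    have hψι : ∀ r : R, ψ (algebraMap R _ r) = κ' r := fun r => hψC r
    -- κ' ϖ = unit * y'^2
    have hκϖ : κ' ϖ = κ' ((u₆⁻¹ : Rˣ) : R) * y' ^ 2 := by
      rw [pow_two, hyy', ← map_mul]
      refine congrArg κ' ?_
      rw [ha₆, ← mul_assoc, u₆.inv_mul, one_mul]
    have hκϖv : κ' (ϖ ^ v) = κ' ((u₆⁻¹ : Rˣ) : R) ^ v * y' ^ (2 * v) := by
      rw [map_pow, hκϖ, mul_pow, ← pow_mul]
    have hker : M ^ (2 * v + 1) ⊔ I ≤ RingHom.ker ψ := by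
      refine sup_le ?_ ?_
      · rw [← Ideal.map_eq_bot_iff_le_ker, Ideal.map_pow, eq_bot_iff]
        have h1 : Ideal.map ψ M ≤ Ideal.span {e, y'} := by
          rw [hM, Ideal.map_span, Ideal.span_le]
          rintro _ ⟨z, (rfl | rfl | rfl), rfl⟩
          · show ψ _ ∈ Ideal.span {e, y'}
            rw [hψι, hκϖ, pow_two]
            exact Ideal.mul_mem_left _ _ (Ideal.mul_mem_left _ _ (Ideal.subset_span (by simp)))
          · show ψ _ ∈ Ideal.span {e, y'}
            rw [hψx]; exact Ideal.subset_span (by simp)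
          · show ψ _ ∈ Ideal.span {e, y'}
            rw [hψy]; exact Ideal.subset_span (by simp)
        refine (Ideal.pow_right_mono h1 _).trans ((span_pow_le e y' hee _).trans ?_)
        rw [Ideal.span_le]
        rintro z (rfl | rfl)
        · rw [hyn]; exact Ideal.zero_mem _
        · rw [heyn]; exact Ideal.zero_mem _
      · rw [hI, Ideal.span_le]
        have key1 : κ' a₁ * y' = 0 := by
          rw [ha₁, map_mul, hκϖv]
          calc κ' ↑u₁ * (κ' ↑u₆⁻¹ ^ v * y' ^ (2 * v)) * y' = κ' ↑u₁ * κ' ↑u₆⁻¹ ^ v * y' ^ (2 * v + 1) := by ring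
            _ = 0 := by rw [hyn, mul_zero]
        have key2 : κ' a₁ * e = 0 := by
          rw [ha₁, map_mul, hκϖv]
          calc κ' ↑u₁ * (κ' ↑u₆⁻¹ ^ v * y' ^ (2 * v)) * e = κ' ↑u₁ * κ' ↑u₆⁻¹ ^ v * (e * y' ^ (2 * v)) := by ring
            _ = 0 := by rw [heyn, mul_zero]
        have key3 : (2 : T) * y' = 0 := by
          have : (2 : T) = κ' 2 := by rw [map_ofNat]
          rw [this, hc, map_mul, hκϖv]
          calc κ' c * (κ' ↑u₆⁻¹ ^ v * y' ^ (2 * v)) * y' = κ' c * κ' ↑u₆⁻¹ ^ v * y' ^ (2 * v + 1) := by ring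
            _ = 0 := by rw [hyn, mul_zero]
        rintro z (rfl | rfl | rfl)
        · show _ ∈ RingHom.ker ψ
          rw [RingHom.mem_ker, Algebra.smul_def]
          simp only [map_sub, map_add, map_mul, map_pow, hψι, hψx, hψy]
          have : κ' a₁ * (e * y') = 0 := by
            rw [← mul_assoc, key2, zero_mul]
          rw [this, add_zero, pow_three, hee, mul_zero, sub_zero, pow_two, hyy', sub_self]
        · show _ ∈ RingHom.ker ψ
          rw [RingHom.mem_ker, Algebra.smul_def]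
          simp only [map_add, map_mul, hψι, hψx, hψy, map_ofNat]
          rw [key2, key3, add_zero]
        · show _ ∈ RingHom.ker ψ
          rw [RingHom.mem_ker, Algebra.smul_def]
          simp only [map_sub, map_mul, map_pow, hψι, hψx, hψy, map_ofNat]
          rw [key1, pow_two, hee, mul_zero, sub_zero]
    have h0 := hker hab
    rw [RingHom.mem_ker, Algebra.smul_def, Algebra.smul_def] at h0
    simp only [map_add, map_mul, map_pow, hψι, hψx, hψy] at h0
    have h1 : κ a * Y' ^ (2 * v) + κ b * (E * Y' ^ (2 * v - 1)) ∈ J := by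
      rw [← Ideal.Quotient.eq_zero_iff_mem]
      simp only [map_add, map_mul, map_pow]
      exact h0
    obtain ⟨P, Q, hPQ⟩ := Ideal.mem_span_pair.mp h1
    have ha6 : a₆ ∈ IsLocalRing.maximalIdeal R := by rw [ha₆]; exact Ideal.mul_mem_left _ _ hϖmem
    have ha6' : a₆ ≠ 0 := by
      rw [ha₆]; exact mul_ne_zero u₆.ne_zero hϖ.ne_zero
    have hY'pow : ∀ k : ℕ, Y' ^ k = algebraMap A1 T₀ (Y ^ k) := fun k => (map_pow _ _ _).symm
    have hk : ∀ r, κ r = algebraMap A1 T₀ (algebraMap R A1 r) := fun r => rfl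
    rw [hY'pow, hY'pow, hY'pow, hk, hk] at hPQ
    obtain ⟨hre, him⟩ := dual_aux P Q (Y ^ (2 * v + 1)) (Y ^ (2 * v)) (algebraMap R A1 a * Y ^ (2 * v))
      (algebraMap R A1 b * Y ^ (2 * v - 1)) (by
        rw [map_mul, map_mul, hPQ]
        show _ = _ + E * _
        ring)
    constructor
    · refine re_mem_of_omega_mul a₆ _ ha6 P.re a (omega_pow_cancel a₆ ha6' (2 * v) _ _ ?_)
      show Y ^ (2 * v) * (Y * P.re) = Y ^ (2 * v) * _
      rw [mul_comm _ (algebraMap R A1 a), ← hre]; ring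
    · refine re_mem_of_omega_mul a₆ _ ha6 (P.im * Y + Q.re) b (omega_pow_cancel a₆ ha6' (2 * v - 1) _ _ ?_)
      show Y ^ (2 * v - 1) * (Y * (P.im * Y + Q.re)) = Y ^ (2 * v - 1) * _
      rw [mul_comm _ (algebraMap R A1 b), ← him]
      have e1 : Y ^ (2 * v) = Y ^ (2 * v - 1) * Y := by rw [← pow_succ]; congr 1; omega
      have e2 : Y ^ (2 * v + 1) = Y ^ (2 * v - 1) * Y * Y := by rw [← e1, pow_succ]
      rw [e1, e2]; ring

end Groth.Agent.S14909
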