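import Groth.Statements.S14928
import Groth.Agent.PerfSch.K818.Model

set_option autoImplicit false
universe u
open CategoryTheory CategoryTheory.Limits AlgebraicGeometry
open PerfSch

namespace Groth.Agent.S14928

/-- Let p be a prime and X a quasi-compact quasi-separated perfect scheme of characteristic p (absolute
Frobenius an isomorphism). Assume X is perfectly finitely presented over the prime field in the
sense of the compactness condition: for every small cofiltered diagram (Z_i) of quasi-compact
quasi-separated perfect schemes of characteristic p with affine transition morphisms, and every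
limit cone over it whose vertex Z is a quasi-compact quasi-separated perfect scheme of
characteristic p, the natural map colim_i Hom(Z_i, X) → Hom(Z, X) is bijective — every morphism Z ⟶
X factors through the projection to some Z_i, and two morphisms Z_i ⟶ X with the same composite Z ⟶
X have the same composite Z_k ⟶ X for some transition morphism Z_k ⟶ Z_i. Then X admits a model: a
scheme X_0 together with a morphism X_0 ⟶ Spec F_p which is locally of finite presentation, X_0
quasi-compact and quasi-separated, and a morphism π : X ⟶ X_0 which is a perfection (every morphism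
from a perfect scheme of characteristic p to X_0 factors uniquely through π). (The published
statement is for a perfectly finitely presented morphism X ⟶ Y of quasi-compact quasi-separated
perfect schemes and produces a morphism of finite presentation X_0 ⟶ Y with perfection X ⟶ Y; this
row is the case where the base is the spectrum of the prime field, with perfect finite presentation
taken in its compactness form.) -/
theorem result (p : ℕ) [Fact p.Prime] (X : Scheme.{u})
    [FrobSch.IsCharP X p] [CompactSpace X] [QuasiSeparatedSpace X] [FrobSch.IsPerfect X p]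
    (hc : ∀ (J : Type u) [SmallCategory J] [IsCofiltered J] (F : J ⥤ Scheme.{u})
      [∀ j, FrobSch.IsCharP (F.obj j) p] (c : Cone F) [FrobSch.IsCharP c.pt p], IsLimit c →
      (∀ ⦃i j : J⦄ (a : i ⟶ j), IsAffineHom (F.map a)) →
      (∀ j, FrobSch.IsPerfect (F.obj j) p ∧ CompactSpace (F.obj j) ∧ QuasiSeparatedSpace (F.obj j)) →
      FrobSch.IsPerfect c.pt p → CompactSpace c.pt → QuasiSeparatedSpace c.pt →
      (∀ g : c.pt ⟶ X, ∃ (j : J) (gj : F.obj j ⟶ X), c.π.app j ≫ gj = g) ∧
      (∀ (j : J) (g g' : F.obj j ⟶ X), c.π.app j ≫ g = c.π.app j ≫ g' →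
        ∃ (k : J) (a : k ⟶ j), F.map a ≫ g = F.map a ≫ g')) :
    ∃ (X0 : Scheme.{u}) (s : X0 ⟶ Spec (CommRingCat.of (ULift.{u} (ZMod p)))) (_ : LocallyOfFinitePresentation s)
      (_ : CompactSpace X0) (_ : QuasiSeparatedSpace X0) (π : X ⟶ X0), FrobSch.IsPerfection π p := by
  obtain ⟨I, _, _, _, D, c, hcl, s, e, hD, hs⟩ := K818.Model.exists_approx p X
  have i1 (i : Iᵒᵖ) : FrobSch.IsCharP (D.obj i) p := FrobSch.IsCharP.of_hom (s i) p
  have i2 ⦃i j : Iᵒᵖ⦄ (f : i ⟶ j) : IsAffineHom (D.map f) := hD i j f
  have : IsCofiltered Iᵒᵖ := inferInstance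
  have i3 : FrobSch.IsCharP c.pt p := FrobSch.IsCharP.of_hom e.hom p
  have hX : FrobSch.IsPerfect X p := ‹_›
  have h1 : FrobSch.IsPerfect c.pt p := K818.Basic.isPerfect_of_iso e hX
  have h2 : FrobSch.IsPerfection (𝟙 c.pt) p := ⟨h1, fun Y _ _ => by
    simp only [Category.comp_id]
    exact Function.bijective_id⟩
  have i4 (i : Iᵒᵖ) : CompactSpace (K818.Tower.perf p (D.obj i)) := by
    have := (hs i).1
    have := K818.Struct.isAffineHom_of_isPerfection (K818.Tower.isPerfection_perfπ (p := p) (D.obj i))
    exact QuasiCompact.compactSpace_of_compactSpace (K818.Tower.perfπ p (D.obj i))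
  have i5 (i : Iᵒᵖ) : QuasiSeparatedSpace (K818.Tower.perf p (D.obj i)) := by
    have := (hs i).2
    have : IsLocallyNoetherian (D.obj i) := LocallyOfFiniteType.isLocallyNoetherian (s i)
    have := K818.Struct.isAffineHom_of_isPerfection (K818.Tower.isPerfection_perfπ (p := p) (D.obj i))
    exact quasiSeparatedSpace_of_quasiSeparated (K818.Tower.perfπ p (D.obj i))
  have i6 : CompactSpace c.pt := e.hom.homeomorph.symm.compactSpace
  have i7 : QuasiSeparatedSpace c.pt := (quasiSeparatedSpace_congr e.hom.homeomorph).2 inferInstance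
  have i8 : FrobSch.IsCharP (K818.PerfLim.perfC h1 (𝟙 c.pt)).pt p := i3
  obtain ⟨h3, -⟩ := hc Iᵒᵖ (K818.PerfLim.perfD p D) (K818.PerfLim.perfC h1 (𝟙 c.pt))
    (K818.PerfLim.isLimitPerfC hcl h2) (K818.PerfLim.isAffineHom_perfD p D)
    (fun j => ⟨K818.PerfLim.isPerfect_perfD p D j, i4 j, i5 j⟩) h1 i6 i7
  obtain ⟨j, r, hr⟩ := h3 e.hom
  have := (hs j).1
  have := (hs j).2
  let l : c.pt ⟶ K818.Tower.perf p (D.obj j) := (K818.PerfLim.perfC h1 (𝟙 c.pt)).π.app j
  let r' : K818.Tower.perf p (D.obj j) ⟶ X := r
  have hr' : l ≫ r' = e.hom := hr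
  refine K818.Model.exists_model p (s j) (K818.Tower.isPerfection_perfπ (p := p) (D.obj j)) hX (e.inv ≫ l) r' ?_
  rw [Category.assoc, hr', e.inv_hom_id]

end Groth.Agent.S14928
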