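import Groth.Statements.S14934
import Groth.Agent.S12395
import Groth.Agent.AbVar.K515.TateBC
import Groth.Agent.AbVar.K515.HomFin

set_option autoImplicit false
universe u
open CategoryTheory MonoidalCategory CartesianMonoidalCategory MonObj GrpObj AlgebraicGeometry
open AbVar

namespace Groth.Agent.S14934

open K515.Bc K515.TateBC

/-- Let k be a finite field with algebraic closure Ω, l a prime number invertible in k, and A, B abelian
varieties over k (proper, geometrically integral commutative group schemes over k). If homomorphisms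
e_1, …, e_n : A → B are linearly independent over ℤ in the additive group of k-morphisms A → B
(pointwise product in B), then the induced ℤ_l-linear maps between the l-adic Tate modules of
Ω-points T_l A → T_l B are linearly independent over ℤ_l. Equivalently, ℤ_l ⊗ Hom_k(A, B) → Hom(T_l
A, T_l B) is injective. -/
theorem result (k Ω : Type u) [Field k] [Finite k] [Field Ω] [Algebra k Ω] [IsAlgClosure k Ω]
    (l : ℕ) [Fact l.Prime] (hl : (l : k) ≠ 0) (A B : Over (Spec (CommRingCat.of k)))
    [GrpObj A] [IsCommMonObj A] [IsProper A.hom] [GeometricallyIntegral A.hom]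
    [GrpObj B] [IsCommMonObj B] [IsProper B.hom] [GeometricallyIntegral B.hom]
    (n : ℕ) (e : Fin n → (A ⟶ B)) [∀ i, IsMonHom (e i)]
    (he : LinearIndependent ℤ (fun i => Additive.ofMul (e i))) :
    LinearIndependent ℤ_[l] (fun i => AbDual.tateMapₗ (l := l) (T := SGA7.pt Ω) (e i)) := by
  have hΩc : IsAlgClosed Ω := IsAlgClosure.isAlgClosed k
  have hΩ : (l : Ω) ≠ 0 := fun h0 => hl ((algebraMap k Ω).injective (by
    rw [map_natCast, map_zero, h0]))
  let Te : Additive (A ⟶ B) →+ Additive (bc Ω A ⟶ bc Ω B) :=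
    AddMonoidHom.mk' (fun f => Additive.ofMul (bcHom Ω f.toMul))
      (fun f g => congrArg Additive.ofMul (K515.HomFin.bcHom_mul Ω f.toMul g.toMul))
  have hTe : Function.Injective Te := fun f g h => K515.HomFin.bcHom_injective Ω h
  have h1 : LinearIndependent ℤ (fun i => Additive.ofMul (bcHom Ω (e i))) :=
    he.map' Te.toIntLinearMap (LinearMap.ker_eq_bot.mpr hTe)
  have h2 := Groth.Agent.S12395.result Ω l hΩ (bc Ω A) (bc Ω B) n (fun i => bcHom Ω (e i)) h1
  let pt₀ : Over (Spec (CommRingCat.of Ω)) := Over.mk (𝟙 (Spec (CommRingCat.of Ω)))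
  let E : (AbDual.TateMod A l (SGA7.pt (K := k) Ω) →ₗ[ℤ_[l]] AbDual.TateMod B l (SGA7.pt (K := k) Ω)) →ₗ[ℤ_[l]]
      (AbDual.TateMod (bc Ω A) l pt₀ →ₗ[ℤ_[l]] AbDual.TateMod (bc Ω B) l pt₀) :=
    { toFun := fun f => ((bcEquiv Ω l B).toLinearMap.comp f).comp (bcEquiv Ω l A).symm.toLinearMap
      map_add' := fun f g => by
        refine LinearMap.ext fun x => ?_
        exact map_add (bcEquiv Ω l B) _ _
      map_smul' := fun c f => by
        refine LinearMap.ext fun x => ?_
        exact map_smul (bcEquiv Ω l B) _ _ }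
  have h3 : E ∘ (fun i => AbDual.tateMapₗ (l := l) (T := SGA7.pt Ω) (e i)) =
      fun i => AbDual.tateMapₗ (l := l) (T := pt₀) (bcHom Ω (e i)) := by
    funext i
    refine LinearMap.ext fun x => ?_
    change bcEquiv Ω l B (AbDual.tateMapₗ (l := l) (T := SGA7.pt Ω) (e i) ((bcEquiv Ω l A).symm x)) = _
    rw [bcEquiv_comp, LinearEquiv.apply_symm_apply]
  rw [← h3] at h2
  exact LinearIndependent.of_comp E h2

end Groth.Agent.S14934
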