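import Groth.Statements.S14937
import Groth.Agent.AbVar.K522.FFThm
import Groth.Agent.S14935

set_option autoImplicit false
universe u
open CategoryTheory MonoidalCategory CartesianMonoidalCategory MonObj GrpObj AlgebraicGeometry
open AbVar

attribute [-instance] Module.Flat.isTorsionFree
namespace Groth.Agent.S14937

/-- Lower bound: let A be an abelian variety of dimension g over a finite field k (a proper,
geometrically integral commutative group scheme over k). Then the rank of End_k(A) is at least 2g:
there exist 2g endomorphisms of A (homomorphisms A → A) which are linearly independent over ℤ in the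
additive group of k-morphisms A → A (pointwise product). The upper bound 4g² holds over any field. -/
theorem result (k : Type u) [Field k] [Finite k]
    (A : Over (Spec (CommRingCat.of k)))
    [GrpObj A] [IsCommMonObj A] [IsProper A.hom] [GeometricallyIntegral A.hom]
    (g : ℕ) (hg : topologicalKrullDim A.left = g) :
    ∃ e : Fin (2 * g) → (A ⟶ A), (∀ i, IsMonHom (e i)) ∧
      LinearIndependent ℤ (fun i => Additive.ofMul (e i)) := by
  obtain ⟨l, hlp, hl⟩ := K510.TateHom.exists_prime k
  haveI : Fact l.Prime := ⟨hlp⟩
  let Ω := AlgebraicClosure k
  haveI : IsAlgClosed Ω := IsAlgClosure.isAlgClosed k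
  have h1 := K522.FFThm.two_mul_le (Ω := Ω) hl g hg (fun u hu =>
    Groth.Agent.S14935.result k Ω l hl A A _ K522.HomRank.isGal_rho _ K522.HomRank.isGal_rho u hu)
  obtain ⟨e, he1, he2, -⟩ := K522.RankThm.exists_basis (K522.FFThm.free_finite A A) rfl
  exact ⟨fun i => e (Fin.castLE h1 i), fun i => he1 _, he2.comp _ (Fin.castLE_injective h1)⟩

end Groth.Agent.S14937
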