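import Groth.Statements.S14938
import Groth.Agent.AbVar.K425.TateApp
import Groth.Agent.AbVar.K425.ProdForm
import Groth.Agent.S14935

set_option autoImplicit false
universe u
open CategoryTheory MonoidalCategory CartesianMonoidalCategory MonObj GrpObj AlgebraicGeometry
open AbVar

namespace Groth.Agent.S14938

/-- Let A be an abelian variety over a finite field k with q elements (a proper, geometrically integral
commutative group scheme over k) and π_A its q-Frobenius endomorphism (the identity on points and
the q-th power map on sections; a homomorphism). If an endomorphism f of A commutes with every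
endomorphism of A, then for some integer N > 0 the multiple N·f is an integral linear combination of
the composition powers π_A^0 = id, π_A, π_A ∘ π_A, …; in other words the centre of ℚ ⊗ End_k(A) is
ℚ[π_A] (the reverse inclusion being that π_A is central). In the statement the group Hom_k(A, A) is
written multiplicatively, so N·f is f^N and the linear combination is a finite product of integer
powers. -/
theorem result (k : Type u) [Field k] [Finite k]
    (A : Over (Spec (CommRingCat.of k)))
    [GrpObj A] [IsCommMonObj A] [IsProper A.hom] [GeometricallyIntegral A.hom]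
    (πA : A ⟶ A) [IsMonHom πA] (hπAb : πA.left.base = 𝟙 _)
    (hπAle : ∀ U : A.left.Opens, U ≤ πA.left ⁻¹ᵁ U)
    (hπAapp : ∀ (U : A.left.Opens) (s : Γ(A.left, U)), (πA.left.appLE U U (hπAle U)).hom s = s ^ Nat.card k)
    (f : A ⟶ A) [IsMonHom f] (hf : ∀ h : A ⟶ A, IsMonHom h → f ≫ h = h ≫ f) :
    ∃ N : ℕ, 0 < N ∧ ∃ (d : ℕ) (a : Fin d → ℤ),
      f ^ N = ∏ i : Fin d, ((fun h : A ⟶ A => h ≫ πA)^[(i : ℕ)] (𝟙 A)) ^ (a i) := by
  obtain ⟨l, hlp, hl⟩ := K425.TateApp.exists_prime k
  have hfl : Fact l.Prime := ⟨hlp⟩
  have hT : K522.HomRank.TateThm (AlgebraicClosure k) l A A := fun u hu =>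
    Groth.Agent.S14935.result k (AlgebraicClosure k) l hl A A _ K522.HomRank.isGal_rho _ K522.HomRank.isGal_rho u hu
  have hπ : K520.Frob.IsFrob (Nat.card k) πA.left := ⟨hπAb, hπAle, hπAapp⟩
  obtain ⟨N, hN, p, hp⟩ := K425.TateApp.exists_aeval (AlgebraicClosure k) hl πA hπ hT (EndAV.End.of f)
    (fun h => EndAV.End.ext (hf h.toHom inferInstance).symm)
  exact ⟨N, hN, p.natDegree + 1, fun i => p.coeff i, K425.ProdForm.eq_prod πA f N p hp⟩

end Groth.Agent.S14938
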