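import Groth.Statements.S14939
import Groth.Agent.S15674
import Groth.Agent.S12398
import Groth.Agent.AbVar.K515.TateBC
import Groth.Agent.AbVar.K510.AVPts
import Groth.Agent.Sga7.H742.P1Dim

set_option autoImplicit false
universe u
open CategoryTheory MonoidalCategory CartesianMonoidalCategory MonObj GrpObj AlgebraicGeometry
open AbVar

namespace Groth.Agent.S14939

open K515.Bc K515.TateBC in
theorem aux {k Ω : Type u} [Field k] [Field Ω] [Algebra k Ω] [IsAlgClosed Ω]
    (A : Over (Spec (CommRingCat.of k)))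
    [GrpObj A] [IsCommMonObj A] [IsProper A.hom] [GeometricallyIntegral A.hom]
    (f : A ⟶ A) [IsMonHom f] (r : ℕ) (hr : topologicalKrullDim A.left = r) (P : Polynomial ℤ)
    (hP : ∀ n : ℤ, (IsFinite (bcHom Ω f * 𝟙 (bc Ω A) ^ (-n)).left →
        ∀ a : (bc Ω A).left, (Scheme.Hom.finrank (bcHom Ω f * 𝟙 (bc Ω A) ^ (-n)).left a : ℤ) = P.eval n) ∧
      (¬ IsFinite (bcHom Ω f * 𝟙 (bc Ω A) ^ (-n)).left → P.eval n = 0))
    (l : ℕ) [Fact l.Prime] (h : (l : k) ≠ 0)
    [Module.Free ℤ_[l] (AbDual.TateMod A l (SGA7.pt Ω))] [Module.Finite ℤ_[l] (AbDual.TateMod A l (SGA7.pt Ω))] :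
    (AbDual.tateMapₗ (l := l) (T := SGA7.pt Ω) f).charpoly = P.map (Int.castRingHom ℤ_[l]) := by
  have hΩ : (l : Ω) ≠ 0 := fun h0 => h ((algebraMap k Ω).injective (by
    rw [map_natCast, map_zero, h0]))
  have hr' : topologicalKrullDim (bc Ω A).left = r := (dim_bc Ω A).trans hr
  have h1 := K510.AVPts.free_tateMod (bc Ω A) l hΩ r hr'
  have h2 := K510.AVPts.finite_tateMod (bc Ω A) l hΩ r hr'
  rw [charpoly_eq, Groth.Agent.S12398.result Ω l hΩ (bc Ω A) (bcHom Ω f) P hP]

open K515.Bc in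
theorem exists_poly {k Ω : Type u} [Field k] [Field Ω] [Algebra k Ω] [IsAlgClosed Ω]
    (A : Over (Spec (CommRingCat.of k)))
    [GrpObj A] [IsCommMonObj A] [IsProper A.hom] [GeometricallyIntegral A.hom]
    (f : A ⟶ A) [IsMonHom f] : ∃ P : Polynomial ℤ, ∀ (l : ℕ) [Fact l.Prime] (_ : (l : k) ≠ 0)
    [Module.Free ℤ_[l] (AbDual.TateMod A l (SGA7.pt Ω))] [Module.Finite ℤ_[l] (AbDual.TateMod A l (SGA7.pt Ω))],
    (AbDual.tateMapₗ (l := l) (T := SGA7.pt Ω) f).charpoly = P.map (Int.castRingHom ℤ_[l]) := by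
  obtain ⟨r, hr⟩ := Groth.Agent.Sga7.H742.P1Dim.exists_dim A
  obtain ⟨P, -, -, hP⟩ := Groth.Agent.S15674.result Ω (K515.Bc.bc Ω A) r
    ((K515.Bc.dim_bc Ω A).trans hr) (K515.Bc.bcHom Ω f)
  exact ⟨P, fun l _ hl _ _ => aux A f r hr P hP l hl⟩

/-- Any endomorphism: let A be an abelian variety over a finite field k with algebraic closure Ω (a
proper, geometrically integral commutative group scheme over k) and f an endomorphism of A (a
homomorphism). For a prime l invertible in k let T_l(f) be the induced endomorphism of the l-adic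
Tate module of Ω-points, assumed (as it is) free of finite rank over ℤ_l. Then the characteristic
polynomial of T_l(f) has rational integer coefficients and does not depend on l: for two such primes
l₁, l₂ there is a polynomial P over ℤ whose images are the characteristic polynomials of T_{l₁}(f)
and of T_{l₂}(f). (The published statement is for the Frobenius endomorphism; this row states it for
every endomorphism f.) -/
theorem result (k Ω : Type u) [Field k] [Finite k] [Field Ω] [Algebra k Ω] [IsAlgClosure k Ω]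
    (A : Over (Spec (CommRingCat.of k)))
    [GrpObj A] [IsCommMonObj A] [IsProper A.hom] [GeometricallyIntegral A.hom]
    (f : A ⟶ A) [IsMonHom f] (l₁ l₂ : ℕ) [Fact l₁.Prime] [Fact l₂.Prime] (h₁ : (l₁ : k) ≠ 0) (h₂ : (l₂ : k) ≠ 0)
    [Module.Free ℤ_[l₁] (AbDual.TateMod A l₁ (SGA7.pt Ω))] [Module.Finite ℤ_[l₁] (AbDual.TateMod A l₁ (SGA7.pt Ω))]
    [Module.Free ℤ_[l₂] (AbDual.TateMod A l₂ (SGA7.pt Ω))] [Module.Finite ℤ_[l₂] (AbDual.TateMod A l₂ (SGA7.pt Ω))] :
    ∃ P : Polynomial ℤ, (AbDual.tateMapₗ (l := l₁) (T := SGA7.pt Ω) f).charpoly = P.map (Int.castRingHom ℤ_[l₁]) ∧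
      (AbDual.tateMapₗ (l := l₂) (T := SGA7.pt Ω) f).charpoly = P.map (Int.castRingHom ℤ_[l₂]) := by
  have : IsAlgClosed Ω := IsAlgClosure.isAlgClosed k
  obtain ⟨P, hP⟩ := exists_poly (Ω := Ω) A f
  exact ⟨P, hP l₁ h₁, hP l₂ h₂⟩

end Groth.Agent.S14939
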