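import Groth.Statements.S14940
import Groth.Agent.AbVar.K515.HomFin
import Groth.Prelude.Def_EndRing

set_option autoImplicit false
universe u
open CategoryTheory MonoidalCategory CartesianMonoidalCategory MonObj GrpObj AlgebraicGeometry
open AbVar

namespace Groth.Agent.S14940

/-- Let k be a field of positive characteristic p and A, B abelian varieties over k (proper,
geometrically integral commutative group schemes over k). Then the abelian group Hom_k(A, B) of
homomorphisms is finitely generated: there are homomorphisms e_1, …, e_n : A → B such that every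
homomorphism A → B is an integral linear combination of them. The group of k-morphisms A → B is
written multiplicatively (pointwise product in B), so the combination is a finite product of integer
powers. -/
theorem result (k : Type u) [Field k] (p : ℕ) [Fact p.Prime] [CharP k p]
    (A B : Over (Spec (CommRingCat.of k)))
    [GrpObj A] [IsCommMonObj A] [IsProper A.hom] [GeometricallyIntegral A.hom]
    [GrpObj B] [IsCommMonObj B] [IsProper B.hom] [GeometricallyIntegral B.hom] :
    ∃ (n : ℕ) (e : Fin n → (A ⟶ B)), (∀ i, IsMonHom (e i)) ∧
      ∀ f : A ⟶ B, IsMonHom f → ∃ a : Fin n → ℤ, f = ∏ i, e i ^ a i := by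
  have hfin : Module.Finite ℤ (EndAV.Hom A B) := K515.HomFin.finite_hom A B
  obtain ⟨n, s, hs⟩ := Module.Finite.exists_fin (R := ℤ) (M := EndAV.Hom A B)
  refine ⟨n, fun i => (s i).toHom, fun i => inferInstance, fun f hf => ?_⟩
  have h1 : EndAV.Hom.of f ∈ Submodule.span ℤ (Set.range s) := hs ▸ trivial
  obtain ⟨a, ha⟩ := (Submodule.mem_span_range_iff_exists_fun ℤ).mp h1
  refine ⟨a, ?_⟩
  let T : Multiplicative (EndAV.Hom A B) →* (A ⟶ B) :=
    { toFun := fun φ => φ.toAdd.toHom, map_one' := rfl, map_mul' := fun _ _ => rfl }
  have h2 := congrArg (fun φ => T (Multiplicative.ofAdd φ)) ha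
  simp only [ofAdd_sum, map_prod] at h2
  refine h2.symm.trans (Finset.prod_congr rfl fun i _ => ?_)
  exact EndAV.Hom.toHom_zsmul (a i) (s i)

end Groth.Agent.S14940
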