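import Groth.Statements.S15655
import Groth.Agent.AbVar.K517.Isog

set_option autoImplicit false
universe u
open CategoryTheory MonoidalCategory CartesianMonoidalCategory MonObj GrpObj AlgebraicGeometry
open AbVar

namespace Groth.Agent.S15655

/-- Proof step: let A be a simple abelian variety over a field k — a proper, geometrically integral
commutative group scheme over k whose only abelian subvarieties over k (geometrically integral
closed subgroup schemes) are the trivial subgroup and A itself. Then every non-zero element of
End⁰(A) = ℚ ⊗_ℤ End_k(A) (End_k(A) the ring of endomorphisms defined over k) is invertible: End⁰(A)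
is a division algebra. (The published proposition is the semisimplicity of End⁰(A) for every abelian
variety; this row states the step of its proof for simple A.) -/
theorem result (k : Type u) [Field k]
    (A : Over (Spec (CommRingCat.of k)))
    [GrpObj A] [IsCommMonObj A] [IsProper A.hom] [GeometricallyIntegral A.hom]
    (hsimple : ∀ (B : Over (Spec (CommRingCat.of k))) [GrpObj B] [GeometricallyIntegral B.hom] (i : B ⟶ A) [IsMonHom i]
      [IsClosedImmersion i.left], Subsingleton B.left ∨ IsIso i) :
    ∀ x : EndAV.End0 A, x ≠ 0 → IsUnit x := by
  intro x hx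
  obtain ⟨n, f, hn, rfl⟩ := K517.SemiCat.exists_smul_tmul x
  have hf : f.toHom ≠ 1 := by
    intro h
    apply hx
    have h0 : f = 0 := EndAV.End.ext h
    rw [h0, TensorProduct.tmul_zero]
  have hs : Surjective f.toHom.left := K517.Isog.surjective_of_isSimple hsimple f.toHom hf
  obtain ⟨m, g, hm, hg, h1, h2⟩ := K517.Isog.exists_rev_of_surjective f.toHom le_rfl
  have hn' : (1 / (n : ℚ)) ≠ 0 := one_div_ne_zero (by exact_mod_cast (by omega : n ≠ 0))
  refine K517.Isog.isUnit_tmul _ hn' f (EndAV.End.of g) m hm ?_ ?_
  · apply EndAV.End.ext
    rw [EndAV.End.toHom_mul, EndAV.End.toHom_natCast]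
    exact h2
  · apply EndAV.End.ext
    rw [EndAV.End.toHom_mul, EndAV.End.toHom_natCast]
    exact h1

end Groth.Agent.S15655
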