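import Groth.Statements.S14945
import Groth.Agent.AbVar.K516.IsogV
import Groth.Agent.AbVar.K520.TateFin
import Groth.Agent.S14935

attribute [-instance] Module.Flat.isTorsionFree

set_option autoImplicit false
universe u
open CategoryTheory MonoidalCategory CartesianMonoidalCategory MonObj GrpObj AlgebraicGeometry
open scoped TensorProduct
open AbVar

namespace Groth.Agent.S14945

/-- Clauses 1 and 2: let k be a finite field with algebraic closure Ω, l a prime invertible in k, and A,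
B abelian varieties over k (proper, geometrically integral commutative group schemes over k). For
each k-automorphism τ of Ω let ρ_A(τ), ρ_B(τ) be the ℤ_l-linear endomorphisms of the l-adic Tate
modules of Ω-points acting on every component by the Galois action of τ (this pins them). Then A and
B are isogenous over k — there are homomorphisms u : A → B, v : B → A and n > 0 with v ∘ u = n_A and
u ∘ v = n_B — if and only if V_l(A) = ℚ_l ⊗ T_l(A) and V_l(B) are isomorphic as Galois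
representations: there is a ℚ_l-linear isomorphism e : V_l(A) → V_l(B) with e ∘ (ℚ_l ⊗ ρ_A(τ)) =
(ℚ_l ⊗ ρ_B(τ)) ∘ e for every τ. -/
theorem result (k Ω : Type u) [Field k] [Finite k] [Field Ω] [Algebra k Ω] [IsAlgClosure k Ω]
    (l : ℕ) [Fact l.Prime] (hl : (l : k) ≠ 0) (A B : Over (Spec (CommRingCat.of k)))
    [GrpObj A] [IsCommMonObj A] [IsProper A.hom] [GeometricallyIntegral A.hom]
    [GrpObj B] [IsCommMonObj B] [IsProper B.hom] [GeometricallyIntegral B.hom]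
    (ρA : (Ω ≃ₐ[k] Ω) → Module.End ℤ_[l] (AbDual.TateMod A l (SGA7.pt Ω)))
    (hρA : ∀ (τ : Ω ≃ₐ[k] Ω) (z : AbDual.TateMod A l (SGA7.pt Ω)) (m : ℕ),
      (AbDual.TateMod.component A l (SGA7.pt Ω) m (ρA τ z)).toMul =
        SGA7.galAct τ (AbDual.TateMod.component A l (SGA7.pt Ω) m z).toMul)
    (ρB : (Ω ≃ₐ[k] Ω) → Module.End ℤ_[l] (AbDual.TateMod B l (SGA7.pt Ω)))
    (hρB : ∀ (τ : Ω ≃ₐ[k] Ω) (z : AbDual.TateMod B l (SGA7.pt Ω)) (m : ℕ),
      (AbDual.TateMod.component B l (SGA7.pt Ω) m (ρB τ z)).toMul =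
        SGA7.galAct τ (AbDual.TateMod.component B l (SGA7.pt Ω) m z).toMul) :
    (∃ (u : A ⟶ B) (_ : IsMonHom u) (v : B ⟶ A) (_ : IsMonHom v) (n : ℕ), 0 < n ∧
        u ≫ v = (𝟙 A) ^ n ∧ v ≫ u = (𝟙 B) ^ n) ↔
      ∃ e : (ℚ_[l] ⊗[ℤ_[l]] AbDual.TateMod A l (SGA7.pt Ω)) ≃ₗ[ℚ_[l]] (ℚ_[l] ⊗[ℤ_[l]] AbDual.TateMod B l (SGA7.pt Ω)),
        ∀ τ : Ω ≃ₐ[k] Ω, (e : (ℚ_[l] ⊗[ℤ_[l]] AbDual.TateMod A l (SGA7.pt Ω)) →ₗ[ℚ_[l]] (ℚ_[l] ⊗[ℤ_[l]] AbDual.TateMod B l (SGA7.pt Ω))) ∘ₗ (ρA τ).baseChange ℚ_[l] =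
          ((ρB τ).baseChange ℚ_[l]) ∘ₗ (e : (ℚ_[l] ⊗[ℤ_[l]] AbDual.TateMod A l (SGA7.pt Ω)) →ₗ[ℚ_[l]] (ℚ_[l] ⊗[ℤ_[l]] AbDual.TateMod B l (SGA7.pt Ω))) := by
  have hac : IsAlgClosed Ω := IsAlgClosure.isAlgClosed k
  have fA : Module.Finite ℤ_[l] (AbDual.TateMod A l (SGA7.pt (K := k) Ω)) := K520.TateFin.finite_tateMod Ω A l hl
  have fB : Module.Finite ℤ_[l] (AbDual.TateMod B l (SGA7.pt (K := k) Ω)) := K520.TateFin.finite_tateMod Ω B l hl
  have tA := K522.HomRank.isTorsionFree_tateMod (l := l) A (SGA7.pt (K := k) Ω)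
  have tB := K522.HomRank.isTorsionFree_tateMod (l := l) B (SGA7.pt (K := k) Ω)
  have f1 : Module.Finite ℤ (EndAV.Hom A A) := K522.Bridge.finite_hom A A
  have f2 : Module.Free ℤ (EndAV.Hom A A) := K522.Bridge.free_hom A A
  have eA : ρA = K522.HomRank.rho l A := funext fun τ => K516.IsogV.eq_rho ρA hρA τ
  have eB : ρB = K522.HomRank.rho l B := funext fun τ => K516.IsogV.eq_rho ρB hρB τ
  subst eA eB
  constructor
  · rintro ⟨u, _, v, _, n, hn, h1, h2⟩
    refine K516.IsogV.exists_equiv (EndAV.Hom.of u) (EndAV.Hom.of v) n hn ?_ ?_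
    · refine EndAV.Hom.ext ?_
      rw [EndAV.Hom.toHom_nsmul]
      exact h1
    · refine EndAV.Hom.ext ?_
      rw [EndAV.Hom.toHom_nsmul]
      exact h2
  · rintro ⟨e, he⟩
    have hT : ∀ (X Y : Over (Spec (CommRingCat.of k)))
        [GrpObj X] [IsCommMonObj X] [IsProper X.hom] [GeometricallyIntegral X.hom]
        [GrpObj Y] [IsCommMonObj Y] [IsProper Y.hom] [GeometricallyIntegral Y.hom],
        K522.HomRank.TateThm Ω l X Y := by
      intro X Y _ _ _ _ _ _ _ _ u hu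
      exact S14935.result k Ω l hl X Y _ (fun _ _ _ => rfl) _ (fun _ _ _ => rfl) u hu
    obtain ⟨u, v, n, hn, h1, h2⟩ := K516.IsogV.exists_isog (hT A B) (hT B A)
      (fun m e he => K522.Bridge.linearIndependent Ω hl e he) (K522.Bridge.injective_tateMap Ω hl) e he
    refine ⟨u.toHom, inferInstance, v.toHom, inferInstance, n, hn, ?_, ?_⟩
    · have := congrArg EndAV.Hom.toHom h1
      rwa [EndAV.Hom.toHom_nsmul] at this
    · have := congrArg EndAV.Hom.toHom h2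
      rwa [EndAV.Hom.toHom_nsmul] at this

end Groth.Agent.S14945
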