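import Groth.Statements.S14955
import Groth.Agent.Etalg.Milnor

set_option autoImplicit false
universe u
open TensorProduct
open EtAlg

namespace Groth.Agent.S14955

/-- Let B' = B ×_A A' be a fibre product of commutative rings with A' → A surjective. Then the square is
also a pushout of commutative rings: the canonical map B ⊗_{B'} A' → A is an isomorphism. -/
theorem result (B' B A' A : Type u) [CommRing B'] [CommRing B] [CommRing A'] [CommRing A]
    [Algebra B' B] [Algebra B' A'] [Algebra B A] [Algebra A' A] [Algebra B' A] [IsScalarTower B' B A] [IsScalarTower B' A' A]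
    (hsq : EtMil.IsFibreSquare B' B A' A) : Algebra.IsPushout B' B A' A := by
  have hB := Groth.Agent.Etalg.Milnor.surjective_B hsq
  refine ⟨?_⟩
  have key : Function.Bijective
      (LinearMap.liftBaseChange B (IsScalarTower.toAlgHom B' A' A).toLinearMap) := by
    constructor
    · rw [injective_iff_map_eq_zero]
      intro t ht
      obtain ⟨a, rfl⟩ := Groth.Agent.Etalg.Milnor.one_tmul_surjective hB t
      rw [LinearMap.liftBaseChange_tmul, one_smul] at ht
      obtain ⟨j, hj1, hj2⟩ := Groth.Agent.Etalg.Milnor.exists_ker hsq a ht
      rw [← hj2, Algebra.algebraMap_eq_smul_one, ← TensorProduct.smul_tmul, Algebra.smul_def, hj1,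
        zero_mul, TensorProduct.zero_tmul]
    · intro x
      obtain ⟨a, rfl⟩ := hsq.1 x
      exact ⟨1 ⊗ₜ a, by rw [LinearMap.liftBaseChange_tmul, one_smul]; rfl⟩
  exact IsBaseChange.of_equiv (LinearEquiv.ofBijective _ key)
    (fun x => by rw [LinearEquiv.ofBijective_apply, LinearMap.liftBaseChange_tmul, one_smul])

end Groth.Agent.S14955
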