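import Groth.Statements.S14961
import Groth.Agent.Pinch.K838.PinchSec
import Groth.Agent.Desc.FinLocFreeSections
import Groth.Agent.PerfB.FlatPull

set_option autoImplicit false
universe u
open AlgebraicGeometry CategoryTheory CategoryTheory.Limits
open Pinch

namespace Groth.Agent.S14961

/-- Let w : X' → X, g : X' → Y', f : X → Y, u : Y' → Y be a cartesian square of schemes with f affine
and u a closed immersion which is a pinching square: for every affine open V of Y, with I(V) the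
kernel of Γ(V, O_Y) → Γ(u⁻¹V, O_Y'), the kernel of Γ(V, O_Y) → Γ(f⁻¹V, O_X) meets I(V) in 0 and the
ideal generated by the image of I(V) in Γ(f⁻¹V, O_X) consists of images of elements of I(V)
(equivalently Γ(V, O_Y) is the fibre product of Γ(u⁻¹V, O_Y') and Γ(f⁻¹V, O_X) over Γ(h⁻¹V, O_X'),
i.e. O_Y = u_*O_Y' ×_{h_*O_X'} f_*O_X). A quasi-coherent O_Y-module G is finite locally free if and
only if u*G and f*G are finite locally free. -/
theorem result {X X' Y Y' : Scheme.{u}} (f : X ⟶ Y) (u : Y' ⟶ Y) (w : X' ⟶ X) (g : X' ⟶ Y')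
    (hP : IsPullback w g f u) [IsAffineHom f] [IsClosedImmersion u]
    (hM : ∀ V ∈ Y.affineOpens,
      RingHom.ker (f.app V).hom ⊓ RingHom.ker (u.app V).hom = ⊥ ∧
      ∀ a ∈ Ideal.map (f.app V).hom (RingHom.ker (u.app V).hom),
        ∃ i ∈ RingHom.ker (u.app V).hom, (f.app V).hom i = a)
    (G : Y.Modules) [G.IsQuasicoherent] :
    FlatMod.IsFinLocFree G ↔
      FlatMod.IsFinLocFree ((Scheme.Modules.pullback u).obj G) ∧
        FlatMod.IsFinLocFree ((Scheme.Modules.pullback f).obj G) := by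
  have hG : Coh.IsQCoh G := ‹G.IsQuasicoherent›
  refine ⟨fun h => ⟨Groth.Agent.PerfB.FlatPull.isFinLocFree_pullback u h,
    Groth.Agent.PerfB.FlatPull.isFinLocFree_pullback f h⟩, fun ⟨h1, h2⟩ => ?_⟩
  have cov : ∀ {T : Scheme.{u}} (x : T), ∃ V : T.Opens, True ∧ IsAffineOpen V ∧ x ∈ V := by
    intro T x
    obtain ⟨V, hV, hx, -⟩ := exists_isAffineOpen_mem_and_subset (U := ⊤) (x := x) trivial
    exact ⟨V, trivial, hV, hx⟩
  rw [Groth.Agent.Desc.FinLocFreeSections.isFinLocFree_iff_of_cover hG (fun _ => True) cov]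
  intro V _ hV
  obtain ⟨_, _, hp, ⟨e₁⟩, ⟨e₂⟩⟩ := K838.PinchSec.master f u hM G hG hV
  obtain ⟨i1, i2⟩ := (Groth.Agent.Desc.FinLocFreeSections.isFinLocFree_iff_of_cover
    (Groth.Agent.VarietyB.PullSec.isQCoh_pullback f G hG) (fun _ => True) cov).mp h2 _ trivial
    (hV.preimage f)
  obtain ⟨i3, i4⟩ := (Groth.Agent.Desc.FinLocFreeSections.isFinLocFree_iff_of_cover
    (Groth.Agent.VarietyB.PullSec.isQCoh_pullback u G hG) (fun _ => True) cov).mp h1 _ trivial
    (hV.preimage u)
  have i5 := Module.Flat.projective_of_finitePresentation (R := Γ(X, f ⁻¹ᵁ V))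
    (M := Γ((Scheme.Modules.pullback f).obj G, f ⁻¹ᵁ V))
  have i6 := Module.Flat.projective_of_finitePresentation (R := Γ(Y', u ⁻¹ᵁ V))
    (M := Γ((Scheme.Modules.pullback u).obj G, u ⁻¹ᵁ V))
  have j1 := Module.Projective.of_equiv e₁.symm
  have j2 := Module.Projective.of_equiv e₂.symm
  have j3 := Module.Finite.equiv e₁.symm
  have j4 := Module.Finite.equiv e₂.symm
  obtain ⟨j5, j6⟩ := hp.finite_projective Γ(G, V)
  exact ⟨Module.finitePresentation_of_projective _ _, Module.Flat.of_projective⟩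

end Groth.Agent.S14961
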