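import Groth.Statements.S14962
import Groth.Agent.Pinch.K838.PinchSec
import Groth.Agent.FormalB.PullCoh
import Groth.Agent.CohqB.FiniteType2

set_option autoImplicit false
universe u
open AlgebraicGeometry CategoryTheory CategoryTheory.Limits
open Pinch

namespace Groth.Agent.S14962

/-- Let w : X' → X, g : X' → Y', f : X → Y, u : Y' → Y be a cartesian square of schemes with f affine
and u a closed immersion which is a pinching square: for every affine open V of Y, with I(V) the
kernel of Γ(V, O_Y) → Γ(u⁻¹V, O_Y'), the kernel of Γ(V, O_Y) → Γ(f⁻¹V, O_X) meets I(V) in 0 and the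
ideal generated by the image of I(V) in Γ(f⁻¹V, O_X) consists of images of elements of I(V)
(equivalently Γ(V, O_Y) is the fibre product of Γ(u⁻¹V, O_Y') and Γ(f⁻¹V, O_X) over Γ(h⁻¹V, O_X'),
i.e. O_Y = u_*O_Y' ×_{h_*O_X'} f_*O_X). A quasi-coherent O_Y-module G is of finite type if and only
if u*G and f*G are of finite type. (The published clause is for flat modules of finite type;
flatness descends separately and the finiteness part does not use it.) -/
theorem result {X X' Y Y' : Scheme.{u}} (f : X ⟶ Y) (u : Y' ⟶ Y) (w : X' ⟶ X) (g : X' ⟶ Y')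
    (hP : IsPullback w g f u) [IsAffineHom f] [IsClosedImmersion u]
    (hM : ∀ V ∈ Y.affineOpens,
      RingHom.ker (f.app V).hom ⊓ RingHom.ker (u.app V).hom = ⊥ ∧
      ∀ a ∈ Ideal.map (f.app V).hom (RingHom.ker (u.app V).hom),
        ∃ i ∈ RingHom.ker (u.app V).hom, (f.app V).hom i = a)
    (G : Y.Modules) [G.IsQuasicoherent] :
    SheafOfModules.IsFiniteType G ↔
      SheafOfModules.IsFiniteType ((Scheme.Modules.pullback u).obj G) ∧
        SheafOfModules.IsFiniteType ((Scheme.Modules.pullback f).obj G) := by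
  have hG : Coh.IsQCoh G := ‹G.IsQuasicoherent›
  refine ⟨fun h => ⟨Groth.Agent.FormalB.PullCoh.isFiniteType_pullback u G h,
    Groth.Agent.FormalB.PullCoh.isFiniteType_pullback f G h⟩, fun ⟨h1, h2⟩ => ?_⟩
  refine Groth.Agent.CohqB.FiniteType2.isFT_of_finite_sections G fun x => ?_
  obtain ⟨V, hV, hx, -⟩ := exists_isAffineOpen_mem_and_subset (U := ⊤) (x := x) trivial
  obtain ⟨_, _, hp, ⟨e₁⟩, ⟨e₂⟩⟩ := K838.PinchSec.master f u hM G hG hV
  have i1 : Coh.IsQCoh ((Scheme.Modules.pullback f).obj G) :=
    Groth.Agent.VarietyB.PullSec.isQCoh_pullback f G hG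
  have i2 : Coh.IsQCoh ((Scheme.Modules.pullback u).obj G) :=
    Groth.Agent.VarietyB.PullSec.isQCoh_pullback u G hG
  have j1 := Groth.Agent.CohqB.FiniteType2.finite_sections_of_isFT _ h2 (hV.preimage f)
  have j2 := Groth.Agent.CohqB.FiniteType2.finite_sections_of_isFT _ h1 (hV.preimage u)
  have j3 := Module.Finite.equiv e₁.symm
  have j4 := Module.Finite.equiv e₂.symm
  exact ⟨V, hx, hV, hp.finite Γ(G, V)⟩

end Groth.Agent.S14962
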