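import Groth.Statements.S14966


set_option autoImplicit false
universe u
open EtAlg

namespace Groth.Agent.S14966

/-- Let A → A' be an injective homomorphism of commutative rings and let I ⊆ A be the conductor, i.e.
the annihilator of the A-module A'/A. Then the conductor square formed by A → A/I, A → A', A/I →
A'/IA' and A' → A'/IA' is a fibre product square of rings with A' → A'/IA' surjective: A = A/I
×_{A'/IA'} A'. (The published Lemma is for the conductor square of a finite modification of schemes;
this row is the underlying statement for one injective ring map, which needs no finiteness.) -/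
theorem result (A A' : Type u) [CommRing A] [CommRing A'] [Algebra A A']
    (hinj : Function.Injective (algebraMap A A')) :
    EtMil.IsFibreSquare A (A ⧸ Module.annihilator A (A' ⧸ LinearMap.range (Algebra.linearMap A A'))) A'
      (A' ⧸ Ideal.map (algebraMap A A') (Module.annihilator A (A' ⧸ LinearMap.range (Algebra.linearMap A A')))) := by
  set I := Module.annihilator A (A' ⧸ LinearMap.range (Algebra.linearMap A A')) with hI
  have hmem : ∀ i ∈ I, ∀ a' : A', ∃ a, algebraMap A A' a = algebraMap A A' i * a' := by
    intro i hi a'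
    rw [hI, Module.mem_annihilator] at hi
    have h1 := hi (Submodule.Quotient.mk a')
    rw [← Submodule.Quotient.mk_smul, Submodule.Quotient.mk_eq_zero] at h1
    obtain ⟨a, ha⟩ := h1
    exact ⟨a, by rw [← Algebra.smul_def, ← ha]; rfl⟩
  have hmap : ∀ x ∈ I.map (algebraMap A A'), ∃ i ∈ I, algebraMap A A' i = x := by
    intro x hx
    rw [Ideal.map] at hx
    induction hx using Submodule.span_induction with
    | mem x hx =>
      obtain ⟨i, hi, rfl⟩ := hx
      exact ⟨i, hi, rfl⟩
    | zero => exact ⟨0, I.zero_mem, map_zero _⟩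
    | add x y _ _ hx hy =>
      obtain ⟨i, hi, rfl⟩ := hx
      obtain ⟨j, hj, rfl⟩ := hy
      exact ⟨i + j, I.add_mem hi hj, map_add _ _ _⟩
    | smul a x _ hx =>
      obtain ⟨i, hi, rfl⟩ := hx
      obtain ⟨b, hb⟩ := hmem i hi a
      refine ⟨b, ?_, by rw [hb, smul_eq_mul, mul_comm]⟩
      rw [hI, Module.mem_annihilator]
      intro m
      obtain ⟨m, rfl⟩ := Submodule.Quotient.mk_surjective _ m
      rw [← Submodule.Quotient.mk_smul, Submodule.Quotient.mk_eq_zero, Algebra.smul_def, hb,
        mul_assoc]
      obtain ⟨c, hc⟩ := hmem i hi (a * m)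
      exact ⟨c, hc⟩
  refine ⟨Ideal.Quotient.mk_surjective, ?_⟩
  intro b a' h
  obtain ⟨b, rfl⟩ := Ideal.Quotient.mk_surjective b
  have h2 : (Ideal.Quotient.mk (Ideal.map (algebraMap A A') I)) (algebraMap A A' b) =
      (Ideal.Quotient.mk (Ideal.map (algebraMap A A') I)) a' := h
  rw [Ideal.Quotient.eq] at h2
  obtain ⟨i, hi, hi2⟩ := hmap _ h2
  refine ⟨b - i, ⟨?_, ?_⟩, ?_⟩
  · rw [Ideal.Quotient.algebraMap_eq, Ideal.Quotient.eq]
    simpa using hi
  · rw [map_sub, hi2]; ring
  · rintro c ⟨-, hc⟩
    apply hinj
    rw [hc, map_sub, hi2]; ring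

end Groth.Agent.S14966
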