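import Groth.Statements.S14970
import Groth.Agent.Coherent.K51.Simp

set_option autoImplicit false
open CategoryTheory CategoryTheory.Limits AlgebraicGeometry
open Coherent

namespace Groth.Agent.S14970

/-- Over the complex numbers, fix n and a polynomial P with rational coefficients; let d be its degree
and write r(ψ) for d! times the degree-d coefficient of a polynomial ψ. There is an integer N₀ such
that for every integer N ≥ N₀ the following holds. Let E be a coherent sheaf on projective n-space
with Hilbert polynomial P which is pure of dimension d (the support of E and of each nonzero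
coherent subsheaf has dimension d) and p-semistable (for every nonzero coherent subsheaf G with
Hilbert polynomial ψ one has ψ(m)/r(ψ) ≤ P(m)/r(P) for all large integers m). Then for every nonzero
coherent subsheaf F of E with Hilbert polynomial ψ, the dimension of the space of global sections of
F(N) divided by r(ψ) is at most P(N)/r(P), and if equality holds then ψ(m)/r(ψ) = P(m)/r(P) for
every integer m. (The published statement is for sheaves on the fibres of a projective morphism,
uniformly in the fibre; this row is the case of projective n-space itself, through which every fibre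
embeds.) -/
theorem result (n : ℕ) (P : Polynomial ℚ) :
    ∃ N₀ : ℤ, ∀ N : ℤ, N₀ ≤ N → ∀ (E : (CohB1.ProjSpace n ℂ).Modules), Coh.IsCoh E →
      (∀ m : ℤ, (Curv2.euler ℂ (CohB1.ProjSpace n ℂ) (CohB1.tensorMod E (Twist.twistProjSpace n ℂ m)) : ℚ) = P.eval (m : ℚ)) →
      topologicalKrullDim ↥(CohB1.support E) = (P.natDegree : WithBot ℕ∞) →
      (∀ (G : (CohB1.ProjSpace n ℂ).Modules) (ι : G ⟶ E), Mono ι → Coh.IsCoh G → ¬ IsZero G →
        topologicalKrullDim ↥(CohB1.support G) = (P.natDegree : WithBot ℕ∞) ∧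
        ∀ ψ : Polynomial ℚ, (∀ m : ℤ, (Curv2.euler ℂ (CohB1.ProjSpace n ℂ) (CohB1.tensorMod G (Twist.twistProjSpace n ℂ m)) : ℚ) = ψ.eval (m : ℚ)) →
          W4c2simpsonmod1.RedLE P.natDegree ψ P) →
      ∀ (F : (CohB1.ProjSpace n ℂ).Modules) (ι : F ⟶ E), Mono ι → Coh.IsCoh F → ¬ IsZero F →
        ∀ ψ : Polynomial ℚ, (∀ m : ℤ, (Curv2.euler ℂ (CohB1.ProjSpace n ℂ) (CohB1.tensorMod F (Twist.twistProjSpace n ℂ m)) : ℚ) = ψ.eval (m : ℚ)) →
          (Module.finrank ℂ (Coh.HH (CohB1.ProjSpace n ℂ) (CohB1.tensorMod F (Twist.twistProjSpace n ℂ N)) 0) : ℚ) / W4c2simpsonmod1.rankOf P.natDegree ψ ≤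
              P.eval (N : ℚ) / W4c2simpsonmod1.rankOf P.natDegree P ∧
          ((Module.finrank ℂ (Coh.HH (CohB1.ProjSpace n ℂ) (CohB1.tensorMod F (Twist.twistProjSpace n ℂ N)) 0) : ℚ) / W4c2simpsonmod1.rankOf P.natDegree ψ =
              P.eval (N : ℚ) / W4c2simpsonmod1.rankOf P.natDegree P →
            ∀ m : ℤ, ψ.eval (m : ℚ) / W4c2simpsonmod1.rankOf P.natDegree ψ =
              P.eval (m : ℚ) / W4c2simpsonmod1.rankOf P.natDegree P) := by
  obtain ⟨N₀, h⟩ := Groth.Agent.Coherent.K51.Cor.lps_all Groth.Agent.Coherent.K51.Simp.unifAll n P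
  exact ⟨N₀, fun N hN E hE hP hd hss F ι hι hF hF0 ψ hψ =>
    h N hN ℂ inferInstance E hE hP hd hss F ι hι hF hF0 ψ hψ⟩

end Groth.Agent.S14970
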