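import Groth.Statements.S14971
import Groth.Agent.Coherent.K585.Top

set_option autoImplicit false
open CategoryTheory CategoryTheory.Limits AlgebraicGeometry
open Coherent

namespace Groth.Agent.S14971

/-- In the following form. Over the complex numbers, let S be a separated scheme of finite type, X a
closed subscheme of projective n-space over S, and P a rational polynomial of degree d. Consider the
moduli problem F which attaches to an S-scheme T the coherent sheaves E on X ×_S T which are flat
over T and whose restriction to the fibre over every complex point of T has Hilbert polynomial P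
(Euler characteristics of the twists by the invertible sheaves pulled back from projective space
over S), is pure of dimension d (its support and the support of every nonzero coherent subsheaf have
dimension d) and is p-semistable (every nonzero coherent subsheaf G with Hilbert polynomial ψ
satisfies ψ(m)/r(ψ) ≤ P(m)/r(P) for all large integers m, where r is d! times the degree-d
coefficient), two such sheaves being identified when isomorphic. Then there are an S-scheme M and a
morphism φ from F, on the S-schemes which are separated and of finite type over the complex numbers,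
to the functor of points of M such that: every morphism from F on these schemes to the functor of
points of an S-scheme N is φ followed by a unique S-morphism M ⟶ N; M is a closed subscheme of some
projective space over S; and every complex point of M is the image under φ of an admissible sheaf on
the corresponding fibre of X. (The published statement asserts more: M universally corepresents the
functor and is obtained as a good quotient, its points correspond exactly to the classes of
semistable sheaves with isomorphic associated graded objects, and the stable locus is open and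
carries an étale-local universal family; this row keeps corepresentability, projectivity and
surjectivity on complex points.) -/
theorem result
    (S : Scheme.{0}) (sS : S ⟶ Spec (CommRingCat.of ℂ)) [LocallyOfFiniteType sS] [QuasiCompact sS] [IsSeparated sS]
    (n : ℕ) (X : Scheme.{0}) (i : X ⟶ CohB1.ProjSpaceOver n S) [IsClosedImmersion i] (P : Polynomial ℚ)
    (F : ModFun.Problem.{1, 0} S)
    (hF : F = W4c2simpsonmod1.shProb (i ≫ (CohB1.ProjSpaceOver n S ↘ S)) (fun T E =>
      ∀ (t : Spec (CommRingCat.of ℂ) ⟶ T.left), t ≫ T.hom ≫ sS = 𝟙 (Spec (CommRingCat.of ℂ)) →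
        (∀ m : ℤ, (@Curv2.euler ℂ _ (pullback (PicF.XTproj (i ≫ (CohB1.ProjSpaceOver n S ↘ S)) T) t) ⟨pullback.snd (PicF.XTproj (i ≫ (CohB1.ProjSpaceOver n S ↘ S)) T) t⟩ (CohB1.tensorMod ((Scheme.Modules.pullback (pullback.fst (PicF.XTproj (i ≫ (CohB1.ProjSpaceOver n S ↘ S)) T) t)).obj E) ((Scheme.Modules.pullback (pullback.fst (PicF.XTproj (i ≫ (CohB1.ProjSpaceOver n S ↘ S)) T) t ≫ pullback.fst (i ≫ (CohB1.ProjSpaceOver n S ↘ S)) T.hom ≫ i)).obj (Twist.twistOver n S m))) : ℚ) = P.eval (m : ℚ)) ∧
        topologicalKrullDim ↥(CohB1.support ((Scheme.Modules.pullback (pullback.fst (PicF.XTproj (i ≫ (CohB1.ProjSpaceOver n S ↘ S)) T) t)).obj E)) = (P.natDegree : WithBot ℕ∞) ∧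
        ∀ (G : (pullback (PicF.XTproj (i ≫ (CohB1.ProjSpaceOver n S ↘ S)) T) t).Modules) (ι : G ⟶ ((Scheme.Modules.pullback (pullback.fst (PicF.XTproj (i ≫ (CohB1.ProjSpaceOver n S ↘ S)) T) t)).obj E)), Mono ι → Coh.IsCoh G → ¬ IsZero G →
          topologicalKrullDim ↥(CohB1.support G) = (P.natDegree : WithBot ℕ∞) ∧
          ∀ ψ : Polynomial ℚ, (∀ m : ℤ, (@Curv2.euler ℂ _ (pullback (PicF.XTproj (i ≫ (CohB1.ProjSpaceOver n S ↘ S)) T) t) ⟨pullback.snd (PicF.XTproj (i ≫ (CohB1.ProjSpaceOver n S ↘ S)) T) t⟩ (CohB1.tensorMod G ((Scheme.Modules.pullback (pullback.fst (PicF.XTproj (i ≫ (CohB1.ProjSpaceOver n S ↘ S)) T) t ≫ pullback.fst (i ≫ (CohB1.ProjSpaceOver n S ↘ S)) T.hom ≫ i)).obj (Twist.twistOver n S m))) : ℚ) = ψ.eval (m : ℚ)) →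
            W4c2simpsonmod1.RedLE P.natDegree ψ P)) :
    ∃ (M : Over S) (φ : ModFun.Problem.Hom F (W4c2simpsonmod1.ftOver sS) M),
      ModFun.IsBestApprox (W4c2simpsonmod1.ftOver sS) F M φ ∧
      (∃ (m : ℕ) (j : M.left ⟶ CohB1.ProjSpaceOver m S), IsClosedImmersion j ∧
        j ≫ (CohB1.ProjSpaceOver m S ↘ S) = M.hom) ∧
      (∀ (t : Spec (CommRingCat.of ℂ) ⟶ M.left), t ≫ M.hom ≫ sS = 𝟙 (Spec (CommRingCat.of ℂ)) →
        ∀ hP : (W4c2simpsonmod1.ftOver sS) (Over.mk (t ≫ M.hom)),
          ∃ (E : F.Fam (Over.mk (t ≫ M.hom))) (hE : F.ok (Over.mk (t ≫ M.hom)) E),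
            φ.app (Over.mk (t ≫ M.hom)) E hP hE = Over.homMk t rfl) := by
  subst hF
  obtain ⟨R, M, 𝓔, π, 𝒢, m, c, A, hc, hcM, hs, -⟩ :=
    K585.Top.atlasEx (S := S) (sS := sS) (n := n) (X := X) (i := i) (P := P)
  exact K53.AsmFin.s14971 A hs c hc hcM

end Groth.Agent.S14971
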