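import Groth.Statements.S14975
import Groth.Agent.Coherent.K585.Top
import Groth.Agent.Coherent.K53.Final

set_option autoImplicit false
open CategoryTheory CategoryTheory.Limits AlgebraicGeometry
open Coherent

namespace Groth.Agent.S14975

/-- In the following form. Over the complex numbers, let S be a separated scheme of finite type, X a
closed subscheme of projective n-space over S, P a rational polynomial of degree d, and F the moduli
problem of coherent sheaves on X ×_S T, flat over T, whose restrictions to the fibres over the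
complex points of T have Hilbert polynomial P, are pure of dimension d and are p-semistable (reduced
Hilbert polynomials ψ(m)/r(ψ) of nonzero coherent subsheaves at most P(m)/r(P) for large m, r being
d! times the degree-d coefficient), modulo isomorphism. Let M be an S-scheme with a morphism φ from
F, on S-schemes separated and of finite type over the complex numbers, to the functor of points of M
which is universal (every morphism from F to the functor of points of an S-scheme factors uniquely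
through φ). Then for every complex point s of S, two admissible sheaves over s which are moreover
p-stable (strict inequality for every nonzero proper coherent subsheaf) and have the same image
under φ are isomorphic. (The published statement identifies the points of an open subscheme of the
good quotient with the isomorphism classes of p-stable sheaves; this row keeps the injectivity on
p-stable sheaves, for any scheme corepresenting the problem.) -/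
theorem result
    (S : Scheme.{0}) (sS : S ⟶ Spec (CommRingCat.of ℂ)) [LocallyOfFiniteType sS] [QuasiCompact sS] [IsSeparated sS]
    (n : ℕ) (X : Scheme.{0}) (i : X ⟶ CohB1.ProjSpaceOver n S) [IsClosedImmersion i] (P : Polynomial ℚ)
    (M : Over S) (φ : ModFun.Problem.Hom (W4c2simpsonmod1.shProb (i ≫ (CohB1.ProjSpaceOver n S ↘ S)) (fun T E =>
      ∀ (t : Spec (CommRingCat.of ℂ) ⟶ T.left), t ≫ T.hom ≫ sS = 𝟙 (Spec (CommRingCat.of ℂ)) →
        (∀ m : ℤ, (@Curv2.euler ℂ _ (pullback (PicF.XTproj (i ≫ (CohB1.ProjSpaceOver n S ↘ S)) T) t) ⟨pullback.snd (PicF.XTproj (i ≫ (CohB1.ProjSpaceOver n S ↘ S)) T) t⟩ (CohB1.tensorMod ((Scheme.Modules.pullback (pullback.fst (PicF.XTproj (i ≫ (CohB1.ProjSpaceOver n S ↘ S)) T) t)).obj E) ((Scheme.Modules.pullback (pullback.fst (PicF.XTproj (i ≫ (CohB1.ProjSpaceOver n S ↘ S)) T) t ≫ pullback.fst (i ≫ (CohB1.ProjSpaceOver n S ↘ S)) T.hom ≫ i)).obj (Twist.twistOver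 n S m))) : ℚ) = P.eval (m : ℚ)) ∧
        topologicalKrullDim ↥(CohB1.support ((Scheme.Modules.pullback (pullback.fst (PicF.XTproj (i ≫ (CohB1.ProjSpaceOver n S ↘ S)) T) t)).obj E)) = (P.natDegree : WithBot ℕ∞) ∧
        ∀ (G : (pullback (PicF.XTproj (i ≫ (CohB1.ProjSpaceOver n S ↘ S)) T) t).Modules) (ι : G ⟶ ((Scheme.Modules.pullback (pullback.fst (PicF.XTproj (i ≫ (CohB1.ProjSpaceOver n S ↘ S)) T) t)).obj E)), Mono ι → Coh.IsCoh G → ¬ IsZero G →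
          topologicalKrullDim ↥(CohB1.support G) = (P.natDegree : WithBot ℕ∞) ∧
          ∀ ψ : Polynomial ℚ, (∀ m : ℤ, (@Curv2.euler ℂ _ (pullback (PicF.XTproj (i ≫ (CohB1.ProjSpaceOver n S ↘ S)) T) t) ⟨pullback.snd (PicF.XTproj (i ≫ (CohB1.ProjSpaceOver n S ↘ S)) T) t⟩ (CohB1.tensorMod G ((Scheme.Modules.pullback (pullback.fst (PicF.XTproj (i ≫ (CohB1.ProjSpaceOver n S ↘ S)) T) t ≫ pullback.fst (i ≫ (CohB1.ProjSpaceOver n S ↘ S)) T.hom ≫ i)).obj (Twist.twistOver n S m))) : ℚ) = ψ.eval (m : ℚ)) →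
            W4c2simpsonmod1.RedLE P.natDegree ψ P)) (W4c2simpsonmod1.ftOver sS) M)
    (hφ : ModFun.IsBestApprox (W4c2simpsonmod1.ftOver sS) (W4c2simpsonmod1.shProb (i ≫ (CohB1.ProjSpaceOver n S ↘ S)) (fun T E =>
      ∀ (t : Spec (CommRingCat.of ℂ) ⟶ T.left), t ≫ T.hom ≫ sS = 𝟙 (Spec (CommRingCat.of ℂ)) →
        (∀ m : ℤ, (@Curv2.euler ℂ _ (pullback (PicF.XTproj (i ≫ (CohB1.ProjSpaceOver n S ↘ S)) T) t) ⟨pullback.snd (PicF.XTproj (i ≫ (CohB1.ProjSpaceOver n S ↘ S)) T) t⟩ (CohB1.tensorMod ((Scheme.Modules.pullback (pullback.fst (PicF.XTproj (i ≫ (CohB1.ProjSpaceOver n S ↘ S)) T) t)).obj E) ((Scheme.Modules.pullback (pullback.fst (PicF.XTproj (i ≫ (CohB1.ProjSpaceOver n S ↘ S)) T) t ≫ pullback.fst (i ≫ (CohB1.ProjSpaceOver n S ↘ S)) T.hom ≫ i)).obj (Twist.twistOver n S m))) : ℚ) = P.eval (m : ℚ)) ∧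
        topologicalKrullDim ↥(CohB1.support ((Scheme.Modules.pullback (pullback.fst (PicF.XTproj (i ≫ (CohB1.ProjSpaceOver n S ↘ S)) T) t)).obj E)) = (P.natDegree : WithBot ℕ∞) ∧
        ∀ (G : (pullback (PicF.XTproj (i ≫ (CohB1.ProjSpaceOver n S ↘ S)) T) t).Modules) (ι : G ⟶ ((Scheme.Modules.pullback (pullback.fst (PicF.XTproj (i ≫ (CohB1.ProjSpaceOver n S ↘ S)) T) t)).obj E)), Mono ι → Coh.IsCoh G → ¬ IsZero G →
          topologicalKrullDim ↥(CohB1.support G) = (P.natDegree : WithBot ℕ∞) ∧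
          ∀ ψ : Polynomial ℚ, (∀ m : ℤ, (@Curv2.euler ℂ _ (pullback (PicF.XTproj (i ≫ (CohB1.ProjSpaceOver n S ↘ S)) T) t) ⟨pullback.snd (PicF.XTproj (i ≫ (CohB1.ProjSpaceOver n S ↘ S)) T) t⟩ (CohB1.tensorMod G ((Scheme.Modules.pullback (pullback.fst (PicF.XTproj (i ≫ (CohB1.ProjSpaceOver n S ↘ S)) T) t ≫ pullback.fst (i ≫ (CohB1.ProjSpaceOver n S ↘ S)) T.hom ≫ i)).obj (Twist.twistOver n S m))) : ℚ) = ψ.eval (m : ℚ)) →
            W4c2simpsonmod1.RedLE P.natDegree ψ P)) M φ)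
    (s : Spec (CommRingCat.of ℂ) ⟶ S) (hs : s ≫ sS = 𝟙 (Spec (CommRingCat.of ℂ))) (hP : (W4c2simpsonmod1.ftOver sS) (Over.mk s))
    (E E' : (PicF.XT (i ≫ (CohB1.ProjSpaceOver n S ↘ S)) (Over.mk s)).Modules) (hE : (W4c2simpsonmod1.shProb (i ≫ (CohB1.ProjSpaceOver n S ↘ S)) (fun T E =>
      ∀ (t : Spec (CommRingCat.of ℂ) ⟶ T.left), t ≫ T.hom ≫ sS = 𝟙 (Spec (CommRingCat.of ℂ)) →
        (∀ m : ℤ, (@Curv2.euler ℂ _ (pullback (PicF.XTproj (i ≫ (CohB1.ProjSpaceOver n S ↘ S)) T) t) ⟨pullback.snd (PicF.XTproj (i ≫ (CohB1.ProjSpaceOver n S ↘ S)) T) t⟩ (CohB1.tensorMod ((Scheme.Modules.pullback (pullback.fst (PicF.XTproj (i ≫ (CohB1.ProjSpaceOver n S ↘ S)) T) t)).obj E) ((Scheme.Modules.pullback (pullback.fst (PicF.XTproj (i ≫ (CohB1.ProjSpaceOver n S ↘ S)) T) t ≫ pullback.fst (i ≫ (CohB1.ProjSpaceOver n S ↘ S)) T.hom ≫ i)).obj (Twist.twistOver n S m))) : ℚ) = P.eval (m : ℚ)) ∧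
        topologicalKrullDim ↥(CohB1.support ((Scheme.Modules.pullback (pullback.fst (PicF.XTproj (i ≫ (CohB1.ProjSpaceOver n S ↘ S)) T) t)).obj E)) = (P.natDegree : WithBot ℕ∞) ∧
        ∀ (G : (pullback (PicF.XTproj (i ≫ (CohB1.ProjSpaceOver n S ↘ S)) T) t).Modules) (ι : G ⟶ ((Scheme.Modules.pullback (pullback.fst (PicF.XTproj (i ≫ (CohB1.ProjSpaceOver n S ↘ S)) T) t)).obj E)), Mono ι → Coh.IsCoh G → ¬ IsZero G →
          topologicalKrullDim ↥(CohB1.support G) = (P.natDegree : WithBot ℕ∞) ∧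
          ∀ ψ : Polynomial ℚ, (∀ m : ℤ, (@Curv2.euler ℂ _ (pullback (PicF.XTproj (i ≫ (CohB1.ProjSpaceOver n S ↘ S)) T) t) ⟨pullback.snd (PicF.XTproj (i ≫ (CohB1.ProjSpaceOver n S ↘ S)) T) t⟩ (CohB1.tensorMod G ((Scheme.Modules.pullback (pullback.fst (PicF.XTproj (i ≫ (CohB1.ProjSpaceOver n S ↘ S)) T) t ≫ pullback.fst (i ≫ (CohB1.ProjSpaceOver n S ↘ S)) T.hom ≫ i)).obj (Twist.twistOver n S m))) : ℚ) = ψ.eval (m : ℚ)) →
            W4c2simpsonmod1.RedLE P.natDegree ψ P)).ok (Over.mk s) E) (hE' : (W4c2simpsonmod1.shProb (i ≫ (CohB1.ProjSpaceOver n S ↘ S)) (fun T E =>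
      ∀ (t : Spec (CommRingCat.of ℂ) ⟶ T.left), t ≫ T.hom ≫ sS = 𝟙 (Spec (CommRingCat.of ℂ)) →
        (∀ m : ℤ, (@Curv2.euler ℂ _ (pullback (PicF.XTproj (i ≫ (CohB1.ProjSpaceOver n S ↘ S)) T) t) ⟨pullback.snd (PicF.XTproj (i ≫ (CohB1.ProjSpaceOver n S ↘ S)) T) t⟩ (CohB1.tensorMod ((Scheme.Modules.pullback (pullback.fst (PicF.XTproj (i ≫ (CohB1.ProjSpaceOver n S ↘ S)) T) t)).obj E) ((Scheme.Modules.pullback (pullback.fst (PicF.XTproj (i ≫ (CohB1.ProjSpaceOver n S ↘ S)) T) t ≫ pullback.fst (i ≫ (CohB1.ProjSpaceOver n S ↘ S)) T.hom ≫ i)).obj (Twist.twistOver n S m))) : ℚ) = P.eval (m : ℚ)) ∧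
        topologicalKrullDim ↥(CohB1.support ((Scheme.Modules.pullback (pullback.fst (PicF.XTproj (i ≫ (CohB1.ProjSpaceOver n S ↘ S)) T) t)).obj E)) = (P.natDegree : WithBot ℕ∞) ∧
        ∀ (G : (pullback (PicF.XTproj (i ≫ (CohB1.ProjSpaceOver n S ↘ S)) T) t).Modules) (ι : G ⟶ ((Scheme.Modules.pullback (pullback.fst (PicF.XTproj (i ≫ (CohB1.ProjSpaceOver n S ↘ S)) T) t)).obj E)), Mono ι → Coh.IsCoh G → ¬ IsZero G →
          topologicalKrullDim ↥(CohB1.support G) = (P.natDegree : WithBot ℕ∞) ∧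
          ∀ ψ : Polynomial ℚ, (∀ m : ℤ, (@Curv2.euler ℂ _ (pullback (PicF.XTproj (i ≫ (CohB1.ProjSpaceOver n S ↘ S)) T) t) ⟨pullback.snd (PicF.XTproj (i ≫ (CohB1.ProjSpaceOver n S ↘ S)) T) t⟩ (CohB1.tensorMod G ((Scheme.Modules.pullback (pullback.fst (PicF.XTproj (i ≫ (CohB1.ProjSpaceOver n S ↘ S)) T) t ≫ pullback.fst (i ≫ (CohB1.ProjSpaceOver n S ↘ S)) T.hom ≫ i)).obj (Twist.twistOver n S m))) : ℚ) = ψ.eval (m : ℚ)) →
            W4c2simpsonmod1.RedLE P.natDegree ψ P)).ok (Over.mk s) E')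
    (hst : ∀ (t : Spec (CommRingCat.of ℂ) ⟶ (Over.mk s).left), t ≫ (Over.mk s).hom ≫ sS = 𝟙 (Spec (CommRingCat.of ℂ)) →
        (∀ m : ℤ, (@Curv2.euler ℂ _ (pullback (PicF.XTproj (i ≫ (CohB1.ProjSpaceOver n S ↘ S)) (Over.mk s)) t) ⟨pullback.snd (PicF.XTproj (i ≫ (CohB1.ProjSpaceOver n S ↘ S)) (Over.mk s)) t⟩ (CohB1.tensorMod ((Scheme.Modules.pullback (pullback.fst (PicF.XTproj (i ≫ (CohB1.ProjSpaceOver n S ↘ S)) (Over.mk s)) t)).obj E) ((Scheme.Modules.pullback (pullback.fst (PicF.XTproj (i ≫ (CohB1.ProjSpaceOver n S ↘ S)) (Over.mk s)) t ≫ pullback.fst (i ≫ (CohB1.ProjSpaceOver n S ↘ S)) (Over.mk s).hom ≫ i)).obj (Twist.twistOver n S m))) : ℚ) = P.eval (m : ℚ)) ∧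
        topologicalKrullDim ↥(CohB1.support ((Scheme.Modules.pullback (pullback.fst (PicF.XTproj (i ≫ (CohB1.ProjSpaceOver n S ↘ S)) (Over.mk s)) t)).obj E)) = (P.natDegree : WithBot ℕ∞) ∧
        ∀ (G : (pullback (PicF.XTproj (i ≫ (CohB1.ProjSpaceOver n S ↘ S)) (Over.mk s)) t).Modules) (ι : G ⟶ ((Scheme.Modules.pullback (pullback.fst (PicF.XTproj (i ≫ (CohB1.ProjSpaceOver n S ↘ S)) (Over.mk s)) t)).obj E)), Mono ι → Coh.IsCoh G → ¬ IsZero G →
          topologicalKrullDim ↥(CohB1.support G) = (P.natDegree : WithBot ℕ∞) ∧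
          ∀ ψ : Polynomial ℚ, (∀ m : ℤ, (@Curv2.euler ℂ _ (pullback (PicF.XTproj (i ≫ (CohB1.ProjSpaceOver n S ↘ S)) (Over.mk s)) t) ⟨pullback.snd (PicF.XTproj (i ≫ (CohB1.ProjSpaceOver n S ↘ S)) (Over.mk s)) t⟩ (CohB1.tensorMod G ((Scheme.Modules.pullback (pullback.fst (PicF.XTproj (i ≫ (CohB1.ProjSpaceOver n S ↘ S)) (Over.mk s)) t ≫ pullback.fst (i ≫ (CohB1.ProjSpaceOver n S ↘ S)) (Over.mk s).hom ≫ i)).obj (Twist.twistOver n S m))) : ℚ) = ψ.eval (m : ℚ)) →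
            W4c2simpsonmod1.RedLE P.natDegree ψ P ∧ (¬ IsIso ι → W4c2simpsonmod1.RedLT P.natDegree ψ P))
    (hst' : ∀ (t : Spec (CommRingCat.of ℂ) ⟶ (Over.mk s).left), t ≫ (Over.mk s).hom ≫ sS = 𝟙 (Spec (CommRingCat.of ℂ)) →
        (∀ m : ℤ, (@Curv2.euler ℂ _ (pullback (PicF.XTproj (i ≫ (CohB1.ProjSpaceOver n S ↘ S)) (Over.mk s)) t) ⟨pullback.snd (PicF.XTproj (i ≫ (CohB1.ProjSpaceOver n S ↘ S)) (Over.mk s)) t⟩ (CohB1.tensorMod ((Scheme.Modules.pullback (pullback.fst (PicF.XTproj (i ≫ (CohB1.ProjSpaceOver n S ↘ S)) (Over.mk s)) t)).obj E') ((Scheme.Modules.pullback (pullback.fst (PicF.XTproj (i ≫ (CohB1.ProjSpaceOver n S ↘ S)) (Over.mk s)) t ≫ pullback.fst (i ≫ (CohB1.ProjSpaceOver n S ↘ S)) (Over.mk s).hom ≫ i)).obj (Twist.twistOver n S m))) : ℚ) = P.eval (m : ℚ)) ∧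
        topologicalKrullDim ↥(CohB1.support ((Scheme.Modules.pullback (pullback.fst (PicF.XTproj (i ≫ (CohB1.ProjSpaceOver n S ↘ S)) (Over.mk s)) t)).obj E')) = (P.natDegree : WithBot ℕ∞) ∧
        ∀ (G : (pullback (PicF.XTproj (i ≫ (CohB1.ProjSpaceOver n S ↘ S)) (Over.mk s)) t).Modules) (ι : G ⟶ ((Scheme.Modules.pullback (pullback.fst (PicF.XTproj (i ≫ (CohB1.ProjSpaceOver n S ↘ S)) (Over.mk s)) t)).obj E')), Mono ι → Coh.IsCoh G → ¬ IsZero G →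
          topologicalKrullDim ↥(CohB1.support G) = (P.natDegree : WithBot ℕ∞) ∧
          ∀ ψ : Polynomial ℚ, (∀ m : ℤ, (@Curv2.euler ℂ _ (pullback (PicF.XTproj (i ≫ (CohB1.ProjSpaceOver n S ↘ S)) (Over.mk s)) t) ⟨pullback.snd (PicF.XTproj (i ≫ (CohB1.ProjSpaceOver n S ↘ S)) (Over.mk s)) t⟩ (CohB1.tensorMod G ((Scheme.Modules.pullback (pullback.fst (PicF.XTproj (i ≫ (CohB1.ProjSpaceOver n S ↘ S)) (Over.mk s)) t ≫ pullback.fst (i ≫ (CohB1.ProjSpaceOver n S ↘ S)) (Over.mk s).hom ≫ i)).obj (Twist.twistOver n S m))) : ℚ) = ψ.eval (m : ℚ)) →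
            W4c2simpsonmod1.RedLE P.natDegree ψ P ∧ (¬ IsIso ι → W4c2simpsonmod1.RedLT P.natDegree ψ P))
    (heq : φ.app (Over.mk s) E hP hE = φ.app (Over.mk s) E' hP hE') :
    Nonempty (E ≅ E') := by
  exact K53.Final.s14975 (K53.AsmFin.main_of_ex K585.Top.atlasEx) M φ hφ s hs hP E E' hE hE' (fun t ht G ι hι hG h0 ψ hψ hi => (((hst t ht).2.2 G ι hι hG h0).2 ψ hψ).2 hi) (fun t ht G ι hι hG h0 ψ hψ hi => (((hst' t ht).2.2 G ι hι hG h0).2 ψ hψ).2 hi) heq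

end Groth.Agent.S14975
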