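import Groth.Statements.S14976
import Groth.Agent.Coherent.K51.Simp
import Mathlib.Analysis.Complex.Polynomial.Basic

set_option autoImplicit false
open CategoryTheory CategoryTheory.Limits AlgebraicGeometry
open Coherent

namespace Groth.Agent.S14976

/-- Over the complex numbers, fix a polynomial P with rational coefficients and let d be its degree. The
family of coherent sheaves on projective n-space with Hilbert polynomial P which are pure of
dimension d (the support of the sheaf and of every nonzero coherent subsheaf has dimension d) and
p-semistable (every nonzero coherent subsheaf G with Hilbert polynomial ψ satisfies ψ(m)/r(ψ) ≤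
P(m)/r(P) for all large integers m, where r denotes d! times the degree-d coefficient) is bounded:
all of them occur, up to isomorphism, among the fibres at complex points of one coherent sheaf on
the product of projective space with a scheme of finite type. (The published statement collects the
semistable sheaves on all fibres of a projective morphism over a base of finite type; through an
embedding of the fibres into a fixed projective space this is the case stated here.) -/
theorem result (n : ℕ) (P : Polynomial ℚ) :
    Pic13.IsBounded ℂ (CohB1.ProjSpace n ℂ) (fun E =>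
      Coh.IsCoh E ∧ (∀ m : ℤ, (Curv2.euler ℂ (CohB1.ProjSpace n ℂ) (CohB1.tensorMod E (Twist.twistProjSpace n ℂ m)) : ℚ) = P.eval (m : ℚ)) ∧
      topologicalKrullDim ↥(CohB1.support E) = (P.natDegree : WithBot ℕ∞) ∧
      ∀ (G : (CohB1.ProjSpace n ℂ).Modules) (ι : G ⟶ E), Mono ι → Coh.IsCoh G → ¬ IsZero G →
        topologicalKrullDim ↥(CohB1.support G) = (P.natDegree : WithBot ℕ∞) ∧
        ∀ ψ : Polynomial ℚ, (∀ m : ℤ, (Curv2.euler ℂ (CohB1.ProjSpace n ℂ) (CohB1.tensorMod G (Twist.twistProjSpace n ℂ m)) : ℚ) = ψ.eval (m : ℚ)) →
          W4c2simpsonmod1.RedLE P.natDegree ψ P) := by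
  exact Groth.Agent.Coherent.K51.Cor.isBounded_pn Groth.Agent.Coherent.K51.Simp.unifAll ℂ n P P.natDegree
    (W4c2simpsonmod1.slopeOf P.natDegree P) _ fun E hE =>
      ⟨hE.1, hE.2.1, hE.2.2.1, Groth.Agent.Coherent.K51.Cor.slopeLE_of_ss hE.1 hE.2.1 hE.2.2.1 hE.2.2.2⟩

end Groth.Agent.S14976
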