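import Groth.Statements.S14982
import Groth.Agent.CoactBr.K836.OverC

set_option autoImplicit false
universe u
open CategoryTheory MonoidalCategory CartesianMonoidalCategory MonObj AlgebraicGeometry
open CoactBr

namespace Groth.Agent.S14982

/-- Let `R` be a commutative ring, `A` a commutative Hopf algebra over `R` which is finite locally free
as an `R`-module (`G = Spec A` a finite flat group scheme over `S = Spec R`), `B` a commutative
`R`-algebra with a coaction of `A` that is an algebra map (an action of `G` on `X = Spec B`), `C =
B^A` the ring of invariants and `π : X → Y = Spec C` the quotient map. Let `K` be a field over `R`,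
`x : B → K` an `R`-algebra map (a point of `X`) and `y` the image in `Y` of the point underlying
`x`. Then the inertia group scheme at `x` is trivial (for every scheme `T` over `Spec K`, every
`T`-point of `G` fixing the point of `X` induced by `x` is the unit) if and only if there is a flat
morphism locally of finite presentation `Y' → Y` whose image contains `y` and over which the action
becomes free: for every scheme `T` over `S` and every `T`-point `ζ` of `X` whose composite with `π`
lifts to `Y'`, every `T`-point of `G` fixing `ζ` is the unit (this is freeness of the base-changed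
action of `G ×_S Y'` on `X ×_Y Y'`, written through points of `G` and `X`). (`G` finite flat is read
as finite locally free. The published result also says that `X ×_Y Y'` is then a torsor under
`G_{Y'}` and gives a third equivalent condition, that after a further fppf base change the action is
induced from an action of the trivial group; neither is stated here.) -/
theorem result
    (R A B K : Type u) [CommRing R] [CommRing A] [HopfAlgebra R A]
    [Module.Flat R A] [Module.Finite R A] [Module.Projective R A]
    [CommRing B] [Algebra R B] [HopfRep.Comod R A B] [GLin.IsCoactAlg R A B]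
    [Field K] [Algebra R K] (x : B →ₐ[R] K) :
    (∀ (T : Over (Spec (CommRingCat.of R))) (h : T ⟶ CoactBr.sp R K) (g : T ⟶ CoactBr.sp R A),
        lift g (h ≫ CoactBr.pt x) ≫ (CoactBr.action R A B).act = h ≫ CoactBr.pt x → g = 1) ↔
      ∃ (Y' : Scheme.{u}) (c : Y' ⟶ Spec (CommRingCat.of (GLin.invariants R A B))),
        Flat c ∧ LocallyOfFinitePresentation c ∧
        (∃ y' : Y', c.base y' =
          (Spec.map (CommRingCat.ofHom (x.toRingHom.comp (GLin.invariants R A B).val.toRingHom))).base
            (IsLocalRing.closedPoint K)) ∧
        ∀ (T : Over (Spec (CommRingCat.of R))) (ζ : T ⟶ CoactBr.sp R B),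
          (∃ t : T.left ⟶ Y', t ≫ c = ζ.left ≫ Spec.map (CommRingCat.ofHom (GLin.invariants R A B).val.toRingHom)) →
          ∀ g : T ⟶ CoactBr.sp R A, lift g ζ ≫ (CoactBr.action R A B).act = ζ → g = 1 := by
  have hpt : ∀ s : Spec (CommRingCat.of K), s = IsLocalRing.closedPoint K := fun s =>
    Subsingleton.elim (α := PrimeSpectrum K) s _
  constructor
  · intro H
    have H' := (K836.Inertia.triv_iff_notMem x).mp H
    refine ⟨(K836.Inertia.W (R := R) (A := A) (B := B)).toScheme, K836.Inertia.W.ι, inferInstance,
      inferInstance, ?_, ?_⟩
    · refine ⟨⟨(Spec.map (CommRingCat.ofHom (x.toRingHom.comp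
        (GLin.invariants R A B).val.toRingHom))).base (IsLocalRing.closedPoint K), ?_⟩, rfl⟩
      rintro ⟨p, hp, hpx⟩
      refine K836.Inertia.mem_support_of_comap_eq ?_ H' hp
      refine Eq.trans ?_ hpx.symm
      ext c
      change x c.1 = 0 ↔ x c.1 ∈ IsLocalRing.maximalIdeal K
      rw [IsLocalRing.mem_maximalIdeal, mem_nonunits_iff, isUnit_iff_ne_zero, not_not]
    · rintro T ζ ⟨t, ht⟩ g hg
      apply K836.Inertia.hom_ext
      intro L _ _ j
      obtain ⟨z, hz⟩ := K836.Inertia.exists_pt (j ≫ ζ)
      have hzt : K836.Inertia.STriv (A := A) z := by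
        apply K836.Inertia.triv_of_notMem
        intro P hP
        have h1 : (CoactBr.pt z).left = j.left ≫ ζ.left := congrArg CommaMorphism.left hz
        have h2 : (K836.Inertia.W (R := R) (A := A) (B := B)).ι (t (j.left P)) =
            PrimeSpectrum.comap (algebraMap (GLin.invariants R A B) B)
              (PrimeSpectrum.comap z.toRingHom P) := by
          rw [← Scheme.Hom.comp_apply, ht]
          exact congrArg (Spec.map (CommRingCat.ofHom (GLin.invariants R A B).val.toRingHom))
            (congrArg (fun f : Spec (CommRingCat.of L) ⟶ Spec (CommRingCat.of B) => f P) h1).symm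
        have h3 := (t (j.left P)).2
        exact h3 ⟨_, hP, h2.symm⟩
      rw [MonObj.comp_one]
      refine hzt _ (𝟙 _) (j ≫ g) ?_
      rw [Category.id_comp, hz, ← comp_lift, Category.assoc, hg]
  · rintro ⟨Y', c, hflat, -, ⟨y', hy'⟩, H⟩ T h g hg
    let ζ : T ⟶ CoactBr.sp R B := h ≫ CoactBr.pt x
    let π := Spec.map (CommRingCat.ofHom (GLin.invariants R A B).val.toRingHom)
    let p := Limits.pullback.fst (ζ.left ≫ π) c
    have hsurj : Surjective p := by
      refine ⟨fun s => ?_⟩
      have hs : (ζ.left ≫ π) s = c y' := by
        refine Eq.trans ?_ hy'.symm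
        rw [← hpt (h.left s)]
        rfl
      obtain ⟨q, hq, -⟩ := Scheme.Pullback.exists_preimage_pullback s y' hs
      exact ⟨q, hq⟩
    let T' : Over (Spec (CommRingCat.of R)) := Over.mk (p ≫ T.hom)
    let p' : T' ⟶ T := Over.homMk p rfl
    have h1 : p' ≫ g = 1 := by
      refine H T' (p' ≫ ζ) ⟨Limits.pullback.snd _ _, ?_⟩ _ ?_
      · exact Limits.pullback.condition.symm
      · rw [← comp_lift, Category.assoc, hg]
    have hepi : Epi p := Flat.epi_of_flat_of_surjective p
    apply Over.OverMorphism.ext
    rw [← cancel_epi p]
    have h2 : p' ≫ g = p' ≫ 1 := by rw [h1, MonObj.comp_one]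
    exact congrArg CommaMorphism.left h2

end Groth.Agent.S14982
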