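import Groth.Statements.S14985
import Mathlib.RingTheory.KrullDimension.Basic
import Groth.Agent.CAlg.K86.StableRange
import Groth.Agent.CAlg.K86.KZero

set_option autoImplicit false
universe u
open CAlg

namespace Groth.Agent.S14985

/-- Let R be a Noetherian commutative ring of finite Krull dimension and P a finitely generated
projective R-module. If the n-th tensor power of P is free for some n ≥ 1, then the direct sum of N
copies of P is free for some N ≥ 1. -/
theorem result (R : Type u) [CommRing R] [IsNoetherianRing R]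
    (hdim : ringKrullDim R < ⊤) (P : Type u) [AddCommGroup P] [Module R P] [Module.Finite R P]
    [Module.Projective R P] (n : ℕ) (hn : 1 ≤ n) (hfree : Module.Free R (TensorPower R n P)) :
    ∃ N : ℕ, 1 ≤ N ∧ Module.Free R (Fin N → P) := by
  rcases subsingleton_or_nontrivial R with hR | hR
  · refine ⟨1, le_rfl, ?_⟩
    have := Module.subsingleton R (Fin 1 → P)
    exact Module.Free.of_subsingleton _ _
  obtain ⟨d, hd⟩ : ∃ d : ℕ, ringKrullDim R ≤ d := by
    have h0 : ringKrullDim R ≠ ⊥ := by
      intro h
      have h' := ringKrullDim_nonneg_of_nontrivial (R := R)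
      rw [h] at h'
      exact absurd h' (by decide)
    obtain ⟨x, hx⟩ := WithBot.ne_bot_iff_exists.mp h0
    rw [← hx] at hdim ⊢
    have h1 : x < ⊤ := WithBot.coe_lt_coe.mp hdim
    obtain ⟨d, hd⟩ := ENat.ne_top_iff_exists.mp h1.ne
    exact ⟨d, by rw [← hd]; rfl⟩
  have hn0 : n ≠ 0 := by omega
  obtain ⟨e'⟩ := K86.KZero.tensorPower_equiv (R := R) P n
  have : Module.Finite R (TensorPower R n P) := Module.Finite.equiv e'.symm
  have hrk : ∀ p, (Module.rankAtStalk (R := R) P p) ^ n = Module.finrank R (TensorPower R n P) := by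
    intro p
    have h1 := congrFun (Module.rankAtStalk_eq_finrank_of_free (R := R) (M := TensorPower R n P)) p
    rw [Module.rankAtStalk_eq_of_equiv e', K86.KZero.rankAtStalk_T] at h1
    rw [h1]
    rfl
  obtain ⟨p₀⟩ : Nonempty (PrimeSpectrum R) := inferInstance
  set r := Module.rankAtStalk (R := R) P p₀ with hrdef
  have hr : ∀ p, Module.rankAtStalk (R := R) P p = r := fun p =>
    Nat.pow_left_injective hn0 ((hrk p).trans (hrk p₀).symm)
  by_cases hr0 : r = 0
  · refine ⟨1, le_rfl, ?_⟩
    have h1 : Subsingleton P := by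
      rw [← Module.rankAtStalk_eq_zero_iff_subsingleton (R := R)]
      funext p
      rw [hr p, hr0]
      rfl
    infer_instance
  have hfr : Module.finrank R (TensorPower R n P) = r ^ n := (hrk p₀).symm
  obtain ⟨M, q, hM, h⟩ := K86.KZero.exists_torsion (R := R) P r n hr0 hn0 hr
    ⟨(Module.finBasisOfFinrankEq R (TensorPower R n P) hfr).equivFun⟩
  have h2 : ∀ l : ℕ, (l * M) • (K86.KZero.cls P : K86.KZero.K R) + q • K86.KZero.cls R =
      (l * M * r + q) • K86.KZero.cls R := by
    intro l
    induction l with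
    | zero => simp
    | succ l ih =>
      rw [Nat.succ_mul, add_smul, add_assoc, h, add_smul, ← add_assoc,
        add_right_comm, ih, ← add_smul]
      congr 1
      ring
  have h3 := h2 (d + 1)
  rw [K86.KZero.nsmul_cls, K86.KZero.nsmul_cls, K86.KZero.nsmul_cls, K86.KZero.cls_add,
    K86.KZero.cls_eq_iff] at h3
  obtain ⟨e⟩ := h3
  have hpos : 0 < M * r := Nat.mul_pos (Nat.pos_of_ne_zero hM) (Nat.pos_of_ne_zero hr0)
  obtain ⟨f⟩ := K86.StableRange.cancel hd (m := (d + 1) * M * r)
    (by
      calc d < (d + 1) * 1 := by omega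
        _ ≤ (d + 1) * (M * r) := Nat.mul_le_mul le_rfl hpos
        _ = (d + 1) * M * r := by ring) q e
  exact ⟨(d + 1) * M, Nat.mul_pos (by omega) (Nat.pos_of_ne_zero hM), Module.Free.of_equiv f.symm⟩

end Groth.Agent.S14985
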