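import Groth.Statements.S14987
import Groth.Agent.S10350
import Groth.Agent.S10374
import Groth.Agent.S10359
import Groth.Agent.AlgSp.K626.ElemNbhd
import Groth.Agent.AlgSp.K626.CutPow
import Groth.Agent.AlgSp.K647.EtLoc

set_option autoImplicit false
universe u
open CategoryTheory CategoryTheory.Limits AlgebraicGeometry Topology TopologicalSpace
open AlgSp

namespace Groth.Agent.S14987

/-- Let X be a Noetherian algebraic space (quasi-compact, quasi-separated, locally Noetherian) over a
scheme S and z a closed point of X. Then there are a Noetherian local ring R over S and a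
representable flat morphism φ : h_{Spec R} ⟶ X sending the closed point to z which is a flat
neighbourhood of z: z is represented by a closed immersion Spec k ⟶ X whose base change along φ is
an isomorphism onto Spec k, and for every n ≥ 1 and every closed subspace Z_n of X cut out by the
n-th power of the ideal sheaf of that closed immersion, the projection Spec R ×_X Z_n ⟶ Z_n is an
isomorphism; moreover dim R equals the dimension of the local ring of X at z. -/
theorem result {S : Scheme.{u}} (X : AlgSp.Space S)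
    (hqc : AlgSp.IsQuasiCompactSp X.obj) (hqs : AlgSp.IsQuasiSeparatedSp X.obj)
    (hN : AlgSp.IsLocNoethSp X.obj)
    (z : AlgSp.Points X.obj) (hz : IsClosed ({z} : Set (AlgSp.Points X.obj))) :
    ∃ (R : CommRingCat.{u}) (hR : IsLocalRing ↥R) (str : Spec R ⟶ S)
      (φ : (AlgSp.yon S).obj (Over.mk str) ⟶ X.obj) (p : AlgSp.FieldPt X.obj) (t : p.pt ⟶ Over.mk str),
      IsNoetherianRing ↥R ∧ AlgSp.RepWith @Flat φ ∧
      AlgSp.Points.ofPt φ (@IsLocalRing.closedPoint ↥R _ hR) = z ∧
      AlgSp.Points.mk p = z ∧ AlgSp.RepWith @IsClosedImmersion p.toHom ∧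
      IsPullback ((AlgSp.yon S).map t) (𝟙 ((AlgSp.yon S).obj p.pt)) φ p.toHom ∧
      (∀ (I : AlgSp.IdealEt X.obj), AlgSp.IsCutOutBy I p.toHom → ∀ n : ℕ, 1 ≤ n →
        ∀ (Zn : AlgSp.Sp S) (iZ : Zn ⟶ X.obj), AlgSp.IsCutOutBy (I ^ n) iZ →
          ∀ (P : AlgSp.Sp S) (fst : P ⟶ (AlgSp.yon S).obj (Over.mk str)) (snd : P ⟶ Zn),
            IsPullback fst snd φ iZ → IsIso snd) ∧
      AlgSp.HasAt (fun U u => ringKrullDim ↥(U.presheaf.stalk u) = ringKrullDim ↥R) X.obj z := by
  have hdec := Groth.Agent.S10350.result X hqs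
  obtain ⟨U, a, x, hU, he, hu⟩ := Groth.Agent.S10374.result X hdec z
  obtain ⟨p, hp, hpc⟩ := Groth.Agent.S10359.result X hdec z hz
  have hln : IsLocallyNoetherian U.left := K647.EtLoc.isLocallyNoetherian_chart hN he.etale
  have hpt : ∀ y, Points.map p.toHom y = z := by
    intro y
    obtain ⟨t, rfl⟩ := K647.Pts.exists_ofPt y
    have ht : t = (IsLocalRing.closedPoint p.K : p.pt.left) := Subsingleton.elim (α := PrimeSpectrum p.K) _ _
    rw [ht, K647.FibNoeth.map_toHom, hp]
  have hrep := (K626.ElemNbhd.repWith_flat_locφ (a := a) (x := x) he.etale)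
  obtain ⟨P, snd, fst, sq⟩ := hrep.1 p.toHom
  have hiso : IsIso ((yon S).map snd) := K626.ElemNbhd.isIso_snd he hu hpt sq
  obtain ⟨t, ht⟩ := (yon S).map_surjective (inv ((yon S).map snd) ≫ fst)
  refine ⟨U.left.presheaf.stalk x, inferInstance, U.left.fromSpecStalk x ≫ U.hom, K626.ElemNbhd.locφ a x, p, t,
    inferInstance, hrep, K626.ElemNbhd.ofPt_locφ he.ofPt_eq, hp, hpc, ?_, ?_, ?_⟩
  · rw [ht]
    refine IsPullback.of_iso sq (asIso ((yon S).map snd)) (Iso.refl _) (Iso.refl _) (Iso.refl _) ?_ ?_ ?_ ?_ <;> simp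
  · intro I hI n hn Zn iZ hZ P' fst' snd' sq'
    refine K626.ElemNbhd.isIso_snd he hu (fun y => ?_) sq'
    obtain ⟨w, hw⟩ := K626.CutPow.range_subset X.property hI hZ hn ⟨y, rfl⟩
    rw [← hw, hpt]
  · exact ⟨U, a, x, he.etale, he.ofPt_eq, rfl⟩

end Groth.Agent.S14987
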