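import Groth.Statements.S14988
import Groth.Agent.ResProp.K783.QuotSum
import Groth.Agent.Dcoh.StalkT
import Groth.Agent.Sga67.LocBasisOps
import Groth.Agent.PerfC.PullRestrict

set_option autoImplicit false
universe u
open CategoryTheory CategoryTheory.Limits AlgebraicGeometry
open ResProp

namespace Groth.Agent.S14988

open K783.QuotSum

/-- In the case of schemes, let f : X ⟶ Y be a morphism of quasi-compact quasi-separated schemes. If
every quasi-coherent module on Y is a quotient of a direct sum of finite locally free modules (Y has
the resolution property) and some family (W_i) of finite locally free modules on X is f-generating,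
i.e. every quasi-coherent module on X is a quotient of a direct sum of modules W_i ⊗ f^*N with N
quasi-coherent on Y, then every quasi-coherent module on X is a quotient of a direct sum of finite
locally free modules (X has the resolution property). (The published statement is for quasi-compact
quasi-separated morphisms of algebraic stacks and assumes the family universally f-generating; this
row is the case of schemes and assumes the family only f-generating, which is what the argument
uses.) -/
theorem result {X Y : Scheme.{u}}
    [CompactSpace X] [QuasiSeparatedSpace X] [CompactSpace Y] [QuasiSeparatedSpace Y] (f : X ⟶ Y)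
    (hY : ∀ N : Y.Modules, Coh.IsQCoh N →
      ∃ (κ : Type u) (V : κ → Y.Modules) (π : (∐ V) ⟶ N), (∀ k, FlatMod.IsFinLocFree (V k)) ∧ Epi π)
    {ι : Type u} (W : ι → X.Modules) (hW : ∀ i, FlatMod.IsFinLocFree (W i))
    (hf : ∀ M : X.Modules, Coh.IsQCoh M →
      ∃ (κ : Type u) (j : κ → ι) (N : κ → Y.Modules)
        (π : (∐ fun k => CohB1.tensorMod (W (j k)) ((Scheme.Modules.pullback f).obj (N k))) ⟶ M),
        (∀ k, Coh.IsQCoh (N k)) ∧ Epi π) :
    ∀ M : X.Modules, Coh.IsQCoh M →
      ∃ (κ : Type u) (E : κ → X.Modules) (π : (∐ E) ⟶ M), (∀ k, FlatMod.IsFinLocFree (E k)) ∧ Epi π := by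
  intro M hM
  obtain ⟨κ, j, N, π, hN, hπ⟩ := hf M hM
  refine QS.of_epi (P := fun E : X.Modules => FlatMod.IsFinLocFree E) (QS.sigma _ fun k => ?_) π
  have h1 : QS.{u} (fun E : Y.Modules => FlatMod.IsFinLocFree E) (N k) := hY (N k) (hN k)
  have h2 : QS.{u} (fun E : X.Modules => FlatMod.IsFinLocFree E) ((Scheme.Modules.pullback f).obj (N k)) :=
    h1.map (Scheme.Modules.pullback f) fun E hE => PerfC.PullRestrict.isFinLocFree_pullback f hE
  exact h2.map (DCoh.tensorBi.obj (W (j k))) fun E hE => Sga67.LocBasis.isFinLocFree_tensorMod (hW _) hE

end Groth.Agent.S14988
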