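import Groth.Statements.S14991
import Groth.Agent.ResProp.K783.PunctExt
import Groth.Agent.ResProp.K783.TFCover

set_option autoImplicit false
universe u
open CategoryTheory CategoryTheory.Limits AlgebraicGeometry
open ResProp

namespace Groth.Agent.S14991

/-- In the case of schemes, let X be an integral scheme of dimension 2, separated and of finite type
over a field k and regular in codimension 1, F a coherent module on X, and p ≠ q regular closed
points of X near each of which F is finite locally free. If F restricted to X minus q and F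
restricted to X minus p are both quotients of finite locally free modules, then F is a quotient of a
finite locally free module on X. (The published statement is for algebraic spaces and also assumes F
locally free off a closed subset of codimension 2, an assumption the argument does not use; this row
is the case of schemes without it.) -/
theorem result {k : Type u} [Field k] (X : Scheme.{u})
    [X.Over (Spec (CommRingCat.of k))] [IsIntegral X] [IsSeparated (X ↘ Spec (CommRingCat.of k))]
    [LocallyOfFiniteType (X ↘ Spec (CommRingCat.of k))] [QuasiCompact (X ↘ Spec (CommRingCat.of k))]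
    (hdim : topologicalKrullDim ↥X = 2)
    (hR1 : ∀ x : X, ringKrullDim ↥(X.presheaf.stalk x) ≤ 1 → IsRegularLocalRing ↥(X.presheaf.stalk x))
    (F : X.Modules) (hF : Coh.IsCoh F) (p q : X) (hpq : p ≠ q)
    (hp : IsClosed ({p} : Set X)) (hq : IsClosed ({q} : Set X))
    (hpreg : IsRegularLocalRing ↥(X.presheaf.stalk p)) (hqreg : IsRegularLocalRing ↥(X.presheaf.stalk q))
    (hFp : ∃ W : X.Opens, p ∈ W ∧ FlatMod.IsFinLocFree (F.restrict W.ι))
    (hFq : ∃ W : X.Opens, q ∈ W ∧ FlatMod.IsFinLocFree (F.restrict W.ι))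
    (Up Uq : X.Opens) (hUp : (Up : Set X) = {p}ᶜ) (hUq : (Uq : Set X) = {q}ᶜ)
    (hp' : ∃ (E : (↑Up : Scheme.{u}).Modules) (π : E ⟶ F.restrict Up.ι), FlatMod.IsFinLocFree E ∧ Epi π)
    (hq' : ∃ (E : (↑Uq : Scheme.{u}).Modules) (π : E ⟶ F.restrict Uq.ι), FlatMod.IsFinLocFree E ∧ Epi π) :
    ∃ (E : X.Modules) (π : E ⟶ F), FlatMod.IsFinLocFree E ∧ Epi π := by
  have hN : IsLocallyNoetherian X := LocallyOfFiniteType.isLocallyNoetherian (X ↘ Spec (CommRingCat.of k))
  have key : ∀ z : X, IsClosed ({z} : Set X) → ringKrullDim (X.presheaf.stalk z) = 2 := fun z hz =>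
    (Groth.Agent.Fga.DimCut.ringKrullDim_stalk_eq k X z hz).trans hdim
  obtain ⟨E1, π1, hE1, hπ1⟩ := hq'
  obtain ⟨E2, π2, hE2, hπ2⟩ := hp'
  obtain ⟨F1, β1, hF1, hβ1⟩ := K783.PunctExt.exists_extend q hqreg (key q hq) F hF hFq Uq hUq E1 π1 hE1 hπ1
  obtain ⟨F2, β2, hF2, hβ2⟩ := K783.PunctExt.exists_extend p hpreg (key p hp) F hF hFp Up hUp E2 π2 hE2 hπ2
  refine ⟨F1 ⊞ F2, biprod.desc β1 β2, Groth.Agent.Dcoh.FinLocFree.isFinLocFree_biprod hF1 hF2, ?_⟩
  apply K783.TFCover.epi_of_restrict
  intro x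
  by_cases hx : x = q
  · have hxp : x ∈ (Up : Set X) := by rw [hUp, hx]; exact Ne.symm hpq
    refine ⟨Up, Up.ι, inferInstance, ⟨x, hxp⟩, rfl, ?_⟩
    have h1 : (Scheme.Modules.restrictFunctor Up.ι).map (biprod.inr : F2 ⟶ F1 ⊞ F2) ≫
        (Scheme.Modules.restrictFunctor Up.ι).map (biprod.desc β1 β2) =
        (Scheme.Modules.restrictFunctor Up.ι).map β2 := by
      rw [← Functor.map_comp, biprod.inr_desc]
    have h2 : Epi ((Scheme.Modules.restrictFunctor Up.ι).map (biprod.inr : F2 ⟶ F1 ⊞ F2) ≫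
        (Scheme.Modules.restrictFunctor Up.ι).map (biprod.desc β1 β2)) := by
      rw [h1]; exact hβ2
    exact @epi_of_epi _ _ _ _ _ _ _ h2
  · have hxq : x ∈ (Uq : Set X) := by rw [hUq]; exact hx
    refine ⟨Uq, Uq.ι, inferInstance, ⟨x, hxq⟩, rfl, ?_⟩
    have h1 : (Scheme.Modules.restrictFunctor Uq.ι).map (biprod.inl : F1 ⟶ F1 ⊞ F2) ≫
        (Scheme.Modules.restrictFunctor Uq.ι).map (biprod.desc β1 β2) =
        (Scheme.Modules.restrictFunctor Uq.ι).map β1 := by
      rw [← Functor.map_comp, biprod.inl_desc]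
    have h2 : Epi ((Scheme.Modules.restrictFunctor Uq.ι).map (biprod.inl : F1 ⟶ F1 ⊞ F2) ≫
        (Scheme.Modules.restrictFunctor Uq.ι).map (biprod.desc β1 β2)) := by
      rw [h1]; exact hβ1
    exact @epi_of_epi _ _ _ _ _ _ _ h2

end Groth.Agent.S14991
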