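import Groth.Statements.S14992
import Groth.Agent.AlgSp.K621.ContrMain

set_option autoImplicit false
universe u
open CategoryTheory CategoryTheory.Limits AlgebraicGeometry Topology TopologicalSpace
open AlgSp

namespace Groth.Agent.S14992

/-- Let X' be a smooth variety over a field k and Y' ⊆ X' a smooth proper integral curve whose conormal
sheaf is ample; this row treats the case where the conormal sheaf is an ample invertible module (Y'
of codimension 1, e.g. a curve of negative self-intersection on a smooth surface). Then there are an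
algebraic space X, separated and of finite type over k, a morphism f : X' ⟶ X and a closed point p
of X such that f maps Y' to p and restricts to an open immersion of X' minus Y' onto X minus p. -/
theorem result {k : Type u} [Field k] (X' Y' : Scheme.{u})
    [X'.Over (Spec (CommRingCat.of k))] [Y'.Over (Spec (CommRingCat.of k))] (i : Y' ⟶ X') [IsClosedImmersion i]
    [i.IsOver (Spec (CommRingCat.of k))] [IsIntegral X'] [IsIntegral Y']
    [Smooth (X' ↘ Spec (CommRingCat.of k))] [IsSeparated (X' ↘ Spec (CommRingCat.of k))] [QuasiCompact (X' ↘ Spec (CommRingCat.of k))]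
    [Smooth (Y' ↘ Spec (CommRingCat.of k))] [IsProper (Y' ↘ Spec (CommRingCat.of k))] (hY' : topologicalKrullDim ↥Y' = 1)
    (hamp : CohB1.IsAmple (Omega.conormal i))
    (U : X'.Opens) (hU : (U : Set ↥X') = (Set.range i.base)ᶜ) :
    ∃ (X : AlgSp.Space (Spec (CommRingCat.of k))) (q : X.obj ⟶ (AlgSp.yon (Spec (CommRingCat.of k))).obj (Over.mk (𝟙 _)))
      (f : (AlgSp.yon (Spec (CommRingCat.of k))).obj (Over.mk (X' ↘ Spec (CommRingCat.of k))) ⟶ X.obj) (p : AlgSp.Points X.obj),
      AlgSp.IsSeparatedSp X.obj ∧ AlgSp.IsFiniteTypeMor q ∧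
      IsClosed ({p} : Set (AlgSp.Points X.obj)) ∧ (∀ y : ↥Y', AlgSp.Points.ofPt f (i.base y) = p) ∧
      AlgSp.RepWith @IsOpenImmersion
        ((AlgSp.yon (Spec (CommRingCat.of k))).map (Over.homMk (U := Over.mk (U.ι ≫ (X' ↘ Spec (CommRingCat.of k))))
          (V := Over.mk (X' ↘ Spec (CommRingCat.of k))) U.ι rfl) ≫ f) ∧
      Set.range (AlgSp.Points.ofPt ((AlgSp.yon (Spec (CommRingCat.of k))).map (Over.homMk (U := Over.mk (U.ι ≫ (X' ↘ Spec (CommRingCat.of k))))
          (V := Over.mk (X' ↘ Spec (CommRingCat.of k))) U.ι rfl) ≫ f)) = ({p} : Set (AlgSp.Points X.obj))ᶜ := by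
  have hN : IsLocallyNoetherian X' := LocallyOfFiniteType.isLocallyNoetherian (X' ↘ Spec (CommRingCat.of k))
  have hD : BlowUp.IsEffCartierIdeal i.ker := K103.ContrA0.isEffCartierIdeal_ker i hamp.1
  have hi : i.toImage ≫ i.ker.subschemeι = i := i.toImage_imageι
  have hne : Nonempty i.ker.subscheme := ⟨i.toImage (Classical.arbitrary Y')⟩
  have hint : IsIntegral i.ker.subscheme := isIntegral_of_isOpenImmersion (inv i.toImage)
  have hprop : IsProper (i.ker.subschemeι ≫ (X' ↘ Spec (CommRingCat.of k))) := by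
    have h1 : i.ker.subschemeι ≫ (X' ↘ Spec (CommRingCat.of k)) = inv i.toImage ≫ (Y' ↘ Spec (CommRingCat.of k)) := by
      rw [← comp_over i (Spec (CommRingCat.of k)), IsIso.eq_inv_comp, ← Category.assoc, hi]
    rw [h1]
    infer_instance
  have hdim : topologicalKrullDim i.ker.subscheme = 1 := by
    rw [← hY']
    exact (IsHomeomorph.topologicalKrullDim_eq _ (Scheme.homeoOfIso (asIso i.toImage)).isHomeomorph).symm
  have hamp' : CohB1.IsAmple ((Scheme.Modules.pullback i.ker.subschemeι).obj (ClSub.idealMod i.ker)) := by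
    have h1 : CohB1.IsAmple ((Scheme.Modules.pullback i).obj (ClSub.idealMod i.ker)) := hamp
    rw [Groth.Agent.Models2.AmplePull.isAmple_pullback_congr hi.symm,
      Groth.Agent.Models2.AmplePull.isAmple_pullback_iff_of_isIso] at h1
    exact h1
  obtain ⟨n, hn, C, _, _, M, hM, hC, hft, hdimC, d, hd⟩ := K621.ContrMain.exists_datum
    (X' ↘ Spec (CommRingCat.of k)) hD hdim hamp'
  obtain ⟨W, V, φ, v, c, p, hp, h1, h2, h3, h4, h5, h6, h7, h8, h9, h10, h11⟩ :=
    K621.ContrEnd.exists_nbhd (X' ↘ Spec (CommRingCat.of k)) hD hdim hamp' hn M hdimC d i rfl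
  exact K613.ContrNbhd.contraction_of_nbhd X' Y' i U hU φ v c h8 p hp h9 h10 h11

end Groth.Agent.S14992
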