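import Groth.Statements.S14993
import Groth.Agent.AlgSp.K629.NsFin

set_option autoImplicit false
universe u
open CategoryTheory CategoryTheory.Limits AlgebraicGeometry Topology TopologicalSpace
open AlgSp

namespace Groth.Agent.S14993

/-- Over an uncountable algebraically closed field k there is a normal integral algebraic space of
dimension 2, proper over k and not representable by a scheme. -/
theorem result (k : Type u) [Field k] [IsAlgClosed k] [Uncountable k] :
    ∃ (X : AlgSp.Space (Spec (CommRingCat.of k))) (q : X.obj ⟶ (AlgSp.yon (Spec (CommRingCat.of k))).obj (Over.mk (𝟙 _))),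
      AlgSp.IsProperMor q ∧ AlgSp.IsIntegralSp X.obj ∧ AlgSp.dim X.obj = 2 ∧
      AlgSp.EtaleLocally (fun U => ∀ u : ↥U, IsDomain ↥(U.presheaf.stalk u) ∧
        IsIntegrallyClosed ↥(U.presheaf.stalk u)) X.obj ∧
      ¬ X.obj.obj.IsRepresentable := by
  classical
  obtain ⟨P⟩ := K629.NsParam.exists_param k
  obtain ⟨γ, hγ'⟩ := Infinite.exists_notMem_finset ({0, 64⁻¹} : Finset k)
  simp only [Finset.mem_insert, Finset.mem_singleton, not_or] at hγ'
  have h1 : γ ≠ 0 := hγ'.1
  have h2 : 64 * γ ≠ 1 := fun h => hγ'.2 (eq_inv_of_mul_eq_one_right h)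
  obtain ⟨D⟩ := K629.NsCurve.exists_dat P
  obtain ⟨V⟩ := K629.NsU.exists_UDat γ D h1 h2
  obtain ⟨YD⟩ := K629.NsY.exists_YDat V h1 h2
  exact K629.NsFin.main YD

end Groth.Agent.S14993
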