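import Groth.Statements.S14994
import Mathlib.Algebra.Module.LocalizedModule.Basic
import Mathlib.RingTheory.Localization.FractionRing
import Mathlib.RingTheory.Localization.BaseChange
import Mathlib.RingTheory.Localization.Integer
import Mathlib.LinearAlgebra.Dual.Lemmas

set_option autoImplicit false
universe u
open CAlg

namespace Groth.Agent.S14994

open TensorProduct in
/-- Over a domain, an element of a finitely generated module which is not torsion is not killed by
some linear functional. -/
theorem exists_functional {A : Type u} [CommRing A] [IsDomain A] {Q : Type u} [AddCommGroup Q]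
    [Module A Q] [Module.Finite A Q] (q : Q) (hq : ∀ a : A, a • q = 0 → a = 0) :
    ∃ φ : Module.Dual A Q, φ q ≠ 0 := by
  classical
  let K := FractionRing A
  let mk : Q →ₗ[A] K ⊗[A] Q := TensorProduct.mk A K Q 1
  have hv : mk q ≠ 0 := by
    intro h0
    rw [IsLocalizedModule.eq_zero_iff (nonZeroDivisors A) mk] at h0
    obtain ⟨c, hc⟩ := h0
    exact nonZeroDivisors.coe_ne_zero c (hq c hc)
  obtain ⟨l, hl⟩ : ∃ l : Module.Dual K (K ⊗[A] Q), l (mk q) ≠ 0 := by
    by_contra hcon
    push Not at hcon
    exact hv ((Module.forall_dual_apply_eq_zero_iff K _).mp hcon)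
  let ψ : Q →ₗ[A] K := (l.restrictScalars A).comp mk
  obtain ⟨t, ht⟩ := (Module.Finite.fg_top : (⊤ : Submodule A Q).FG)
  obtain ⟨d, hd⟩ := IsLocalization.exist_integer_multiples_of_finset (nonZeroDivisors A)
    (t.image ψ)
  have hrange : ∀ x : Q, ((d : A) • ψ) x ∈ LinearMap.range (Algebra.linearMap A K) := by
    intro x
    have hx : x ∈ Submodule.span A (t : Set Q) := by rw [ht]; trivial
    induction hx using Submodule.span_induction with
    | mem y hy =>
      obtain ⟨a, ha⟩ := hd (ψ y) (Finset.mem_image_of_mem ψ hy)
      exact ⟨a, ha⟩
    | zero => rw [map_zero]; exact Submodule.zero_mem _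
    | add y z _ _ hy hz => rw [map_add]; exact Submodule.add_mem _ hy hz
    | smul a y _ hy => rw [map_smul]; exact Submodule.smul_mem _ _ hy
  have hinj : Function.Injective (Algebra.linearMap A K) := IsFractionRing.injective A K
  let e := LinearEquiv.ofInjective (Algebra.linearMap A K) hinj
  refine ⟨e.symm.toLinearMap.comp (((d : A) • ψ).codRestrict _ hrange), ?_⟩
  intro h0
  have h1 : ((d : A) • ψ).codRestrict _ hrange q = 0 := by
    apply e.symm.injective
    rw [map_zero]
    exact h0
  have h2 : (d : A) • ψ q = 0 := congrArg Subtype.val h1
  rw [Algebra.smul_def] at h2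
  rcases mul_eq_zero.mp h2 with h3 | h3
  · exact nonZeroDivisors.coe_ne_zero d (hinj (by rw [map_zero]; exact h3))
  · exact hl h3

/-- Let A be a Noetherian integrally closed domain, M a finitely generated torsion-free A-module, N a
submodule of M and ι : M → M** the canonical map to the double dual. Write N** → M** for the double
dual of the inclusion N → M. Then every m ∈ M whose image ι(m) lies in the image of N** is a torsion
element modulo N: some nonzero a ∈ A satisfies a·m ∈ N. In other words the preimage of N** under ι
is contained in the saturation of N in M (the preimage of the torsion submodule of M/N), and the two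
coincide when M/N is torsion-free. (The published statement asserts equality of the preimage with
the saturation for every N; for N = xA inside M = A = k[x] the saturation is all of M while N** has
image xA = N under the identification M** = M, so only the inclusion stated here holds, and it is
the inclusion later used, for saturated N, where the two sides agree.) -/
theorem result (A : Type u) [CommRing A] [IsDomain A]
    [IsNoetherianRing A] [IsIntegrallyClosed A]
    (M : Type u) [AddCommGroup M] [Module A M] [Module.Finite A M] [NoZeroSMulDivisors A M]
    (N : Submodule A M) :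
    (LinearMap.range N.subtype.dualMap.dualMap).comap (Module.Dual.eval A M) ≤
      (Submodule.torsion A (M ⧸ N)).comap N.mkQ := by
  intro m hm
  rw [Submodule.mem_comap] at hm ⊢
  obtain ⟨φ, hφ⟩ := hm
  by_contra hcon
  rw [Submodule.mem_torsion_iff] at hcon
  obtain ⟨l, hl⟩ := exists_functional (N.mkQ m) (by
    intro a ha
    by_contra ha0
    exact hcon ⟨⟨a, mem_nonZeroDivisors_of_ne_zero ha0⟩, ha⟩)
  apply hl
  have h1 : N.subtype.dualMap (l.comp N.mkQ) = 0 := by
    ext x
    show l (N.mkQ x) = 0
    rw [Submodule.mkQ_apply, (Submodule.Quotient.mk_eq_zero N).mpr x.2, map_zero]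
  have h2 := LinearMap.congr_fun hφ (l.comp N.mkQ)
  rw [LinearMap.dualMap_apply, h1, map_zero] at h2
  exact h2.symm

end Groth.Agent.S14994
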