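import Groth.Statements.S14995
import Groth.Agent.Dual.H375.Hartogs

set_option autoImplicit false
universe u
open CategoryTheory CategoryTheory.Limits AlgebraicGeometry
open Coherent

namespace Groth.Agent.S14995

/-- Let Y be a locally Noetherian scheme, E and F coherent O_Y-modules and U an open subset of Y such
that for every point y of Y outside U the stalk E_y has depth at least 2 as a module over the local
ring O_{Y,y}. Then restricting morphisms to U is a bijection from Hom(F, E) onto Hom(F|_U, E|_U).
(The published statement is the case F = E; this row allows any coherent F.) -/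
theorem result (Y : Scheme.{u}) [IsLocallyNoetherian Y]
    (E F : Y.Modules) (hE : Coh.IsCoh E) (hF : Coh.IsCoh F) (U : Y.Opens)
    (hdepth : ∀ y : Y, y ∉ U → (2 : ℕ∞) ≤ LocCoh.depth (Y.presheaf.stalk y) (E.presheaf.stalk y)) :
    Function.Bijective (fun φ : F ⟶ E => (Scheme.Modules.restrictFunctor U.ι).map φ) := by
  have hu := Groth.Agent.Dual.H375.Hartogs.isIso_unit hE U hdepth
  let adj := Scheme.Modules.restrictAdjunction U.ι
  have h1 : Function.Bijective (fun φ : F ⟶ E => φ ≫ adj.unit.app E) :=
    ⟨fun a b h => (cancel_mono (adj.unit.app E)).1 h, fun b => ⟨b ≫ inv (adj.unit.app E), by simp [adj]⟩⟩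
  have h2 : (fun φ : F ⟶ E => φ ≫ adj.unit.app E) =
      (adj.homEquiv F ((Scheme.Modules.restrictFunctor U.ι).obj E)) ∘
        (fun φ : F ⟶ E => (Scheme.Modules.restrictFunctor U.ι).map φ) := by
    funext φ
    simp only [Function.comp_apply, Adjunction.homEquiv_unit]
    exact adj.unit.naturality φ
  rw [h2] at h1
  exact (Function.Bijective.of_comp_iff' (Equiv.bijective _) _).1 h1

end Groth.Agent.S14995
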