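import Groth.Statements.S14996
import Groth.Agent.FlatMor.K71.Asm

set_option autoImplicit false
universe u
open CategoryTheory CategoryTheory.Limits AlgebraicGeometry
open FlatMor

namespace Groth.Agent.S14996

/-- Let k be an algebraically closed field and X an integral scheme, smooth and proper over k, with a
closed immersion ι into projective N-space over k compatible with the structure maps, O_X(a) =
ι^*O(a). Let S be a k-scheme of finite type and ℰ a coherent sheaf on X ×_k S, flat over S, such
that for every point s of S no associated point of the fibre ℰ_s (the pullback of ℰ to the fibre of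
X ×_k S → S over s) is a closed point of that fibre. Then there is a₀ such that for every a ≥ a₀
some global section σ of O_X(a), with zero scheme D = Z(σ) ⊆ X, satisfies: D contains the image in X
of no associated point of any fibre ℰ_s, and the pullback of ℰ to the closed subscheme (X ×_k S) ×_X
D of X ×_k S is flat over S. (The published statement asserts flatness of the restriction to S × D
for a general member D of the linear system of O_X(a), a large, over the complex numbers; this row
gives one member in each large degree, chosen moreover to contain the image of no associated point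
of any fibre, over an algebraically closed field.) -/
theorem result (k : Type u) [Field k] [IsAlgClosed k]
    (X : Scheme.{u}) [X.Over (Spec (CommRingCat.of k))] [IsIntegral X]
    [Smooth (X ↘ Spec (CommRingCat.of k))] [IsProper (X ↘ Spec (CommRingCat.of k))]
    (N : ℕ) (ι : X ⟶ CohB1.ProjSpace N k) [IsClosedImmersion ι] (hι : ι ≫ CohB1.ProjSpace.toSpec N k = X ↘ Spec (CommRingCat.of k))
    (S : Scheme.{u}) (q : S ⟶ Spec (CommRingCat.of k)) [LocallyOfFiniteType q] [CompactSpace S]
    (ℰ : (pullback (X ↘ Spec (CommRingCat.of k)) q).Modules) (hℰ : Coh.IsCoh ℰ)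
    (hflat : FlatMod.IsFlatOver (pullback.snd (X ↘ Spec (CommRingCat.of k)) q) ℰ)
    (hnz : ∀ (s : S) (x : ↥((pullback.snd (X ↘ Spec (CommRingCat.of k)) q).fiber s)),
      Curv2.IsAssPoint ((Scheme.Modules.pullback ((pullback.snd (X ↘ Spec (CommRingCat.of k)) q).fiberι s)).obj ℰ) x →
        ¬ IsClosed ({x} : Set ↥((pullback.snd (X ↘ Spec (CommRingCat.of k)) q).fiber s))) :
    ∃ a₀ : ℕ, ∀ a : ℕ, a₀ ≤ a →
      ∃ σ : Coh.structureModule X ⟶ (Scheme.Modules.pullback ι).obj (Twist.twistProjSpace N k (a : ℤ)),
        (∀ (s : S) (x : ↥((pullback.snd (X ↘ Spec (CommRingCat.of k)) q).fiber s)),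
          Curv2.IsAssPoint ((Scheme.Modules.pullback ((pullback.snd (X ↘ Spec (CommRingCat.of k)) q).fiberι s)).obj ℰ) x →
            ((pullback.snd (X ↘ Spec (CommRingCat.of k)) q).fiberι s ≫ pullback.fst (X ↘ Spec (CommRingCat.of k)) q).base x ∉ (PicF2.zeroScheme ((Scheme.Modules.pullback ι).obj (Twist.twistProjSpace N k (a : ℤ))) σ).support) ∧
        FlatMod.IsFlatOver
          (pullback.snd (PicF2.zeroScheme ((Scheme.Modules.pullback ι).obj (Twist.twistProjSpace N k (a : ℤ))) σ).subschemeι (pullback.fst (X ↘ Spec (CommRingCat.of k)) q) ≫ pullback.snd (X ↘ Spec (CommRingCat.of k)) q)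
          ((Scheme.Modules.pullback (pullback.snd (PicF2.zeroScheme ((Scheme.Modules.pullback ι).obj (Twist.twistProjSpace N k (a : ℤ))) σ).subschemeι (pullback.fst (X ↘ Spec (CommRingCat.of k)) q))).obj ℰ) := by
  have hp : LocallyOfFiniteType (ι ≫ CohB1.ProjSpace.toSpec N k) := by
    rw [hι]
    infer_instance
  have H : IsPullback (pullback.fst (X ↘ Spec (CommRingCat.of k)) q) (pullback.snd (X ↘ Spec (CommRingCat.of k)) q)
      (ι ≫ CohB1.ProjSpace.toSpec N k) q := by
    rw [hι]
    exact IsPullback.of_hasPullback _ _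
  have hSn : IsLocallyNoetherian S := LocallyOfFiniteType.isLocallyNoetherian q
  have hg : LocallyOfFiniteType (pullback.snd (X ↘ Spec (CommRingCat.of k)) q) := inferInstance
  have hnz' : ∀ z, z ∈ MoreMor.relAss (pullback.snd (X ↘ Spec (CommRingCat.of k)) q) ℰ →
      ¬ IsClosed ({z} : Set ↥(pullback (X ↘ Spec (CommRingCat.of k)) q)) := by
    intro z hz hcl
    obtain ⟨w, hw⟩ := K119.GenFib.exists_fiberι (pullback.snd (X ↘ Spec (CommRingCat.of k)) q)
      (s := pullback.snd (X ↘ Spec (CommRingCat.of k)) q z) (x := z) rfl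
    have h1 := (K119.GenFib.mem_Ass_iff (pullback.snd (X ↘ Spec (CommRingCat.of k)) q) ℰ
      (pullback.snd (X ↘ Spec (CommRingCat.of k)) q z) w).2 (by rw [hw]; exact hz)
    refine hnz _ w h1 ?_
    have h2 : ({w} : Set ↥((pullback.snd (X ↘ Spec (CommRingCat.of k)) q).fiber
        (pullback.snd (X ↘ Spec (CommRingCat.of k)) q z))) =
        ((pullback.snd (X ↘ Spec (CommRingCat.of k)) q).fiberι
          (pullback.snd (X ↘ Spec (CommRingCat.of k)) q z)) ⁻¹' {z} := by
      ext w'
      constructor
      · rintro rfl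
        exact hw
      · intro hw'
        exact K119.GenFib.fiberι_injective (pullback.snd (X ↘ Spec (CommRingCat.of k)) q) _ (hw'.trans hw.symm)
    rw [h2]
    exact hcl.preimage ((pullback.snd (X ↘ Spec (CommRingCat.of k)) q).fiberι _).continuous
  obtain ⟨a₀, ha₀⟩ := K71.Asm.exists_forms N ι H ℰ hℰ hflat hnz'
  refine ⟨a₀, fun a ha => ?_⟩
  obtain ⟨G, hG⟩ := ha₀ a ha
  refine ⟨K71.Asm.sg N ι G, fun s x hx => ?_, ?_⟩
  · exact K71.Asm.avoid N ι ℰ hℰ G H hG _
      ((K119.GenFib.mem_Ass_iff (pullback.snd (X ↘ Spec (CommRingCat.of k)) q) ℰ s x).1 hx)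
  · exact K71.Asm.flat N ι ℰ hℰ G H hG hflat _ (K71.Asm.ker_snd _ _)

end Groth.Agent.S14996
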