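import Groth.Statements.S14997
import Mathlib.Tactic
import Mathlib.Algebra.Polynomial.Taylor
import Mathlib.Order.PiLex

set_option autoImplicit false
open HilbPol

namespace Groth.Agent.S14997

/-- If `T x j - T y j = x j - y j` as soon as `x` and `y` agree before `j`, then `T` respects the lexicographic
comparison of `x` and `y`. -/
lemma lex_aux {ℓ : ℕ} (x y x' y' : Fin ℓ → ℚ)
    (h : ∀ j : Fin ℓ, (∀ i < j, x i = y i) → x' j - y' j = x j - y j) :
    toLex x ≤ toLex y ↔ toLex x' ≤ toLex y' := by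
  by_cases hxy : x = y
  · have : x' = y' := by
      funext j
      have := h j (fun i _ => by rw [hxy])
      rw [hxy, sub_self] at this
      exact sub_eq_zero.mp this
    rw [hxy, this]
    simp
  · -- the first index where they differ
    have hex : ∃ j : ℕ, ∃ hj : j < ℓ, x ⟨j, hj⟩ ≠ y ⟨j, hj⟩ := by
      by_contra hcon
      push Not at hcon
      exact hxy (funext fun j => hcon j.1 j.2)
    classical
    obtain ⟨hj, hne⟩ := Nat.find_spec hex
    set j := Nat.find hex with hjdef
    have hbefore : ∀ i : Fin ℓ, i < ⟨j, hj⟩ → x i = y i := by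
      intro i hi
      by_contra hcon
      exact Nat.find_min hex (m := i.1) hi ⟨i.2, hcon⟩
    have hbefore' : ∀ i : Fin ℓ, i < ⟨j, hj⟩ → x' i = y' i := by
      intro i hi
      have := h i (fun k hk => hbefore k (hk.trans hi))
      rw [hbefore i hi, sub_self] at this
      exact sub_eq_zero.mp this
    have hd := h ⟨j, hj⟩ hbefore
    have key : ∀ a b : Fin ℓ → ℚ, (∀ i : Fin ℓ, i < ⟨j, hj⟩ → a i = b i) →
        a ⟨j, hj⟩ ≠ b ⟨j, hj⟩ → (toLex a ≤ toLex b ↔ a ⟨j, hj⟩ < b ⟨j, hj⟩) := by
      intro a b hab hne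
      rw [le_iff_lt_or_eq]
      constructor
      · rintro (hlt | heq)
        · obtain ⟨k, hk1, hk2⟩ := hlt
          rcases lt_trichotomy k ⟨j, hj⟩ with hk | hk | hk
          · exact absurd (hab k hk) (ne_of_lt hk2)
          · subst hk
            exact hk2
          · exact absurd (hk1 _ hk) hne
        · exact absurd (congrFun (toLex.injective heq) _) hne
      · intro hlt
        exact Or.inl ⟨⟨j, hj⟩, fun i hi => hab i hi, hlt⟩
    have hne' : x' ⟨j, hj⟩ ≠ y' ⟨j, hj⟩ := by
      intro heq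
      rw [heq, sub_self] at hd
      exact hne (sub_eq_zero.mp hd.symm)
    rw [key x y hbefore hne, key x' y' hbefore' hne', ← sub_neg, ← hd, sub_neg]

open Polynomial in
lemma coeff_comp (P : ℚ[X]) (a : ℚ) (d : ℕ) (hP : P.natDegree ≤ d) (k : ℕ) :
    (P.comp (X - C a)).coeff k =
      ∑ i ∈ Finset.range (d + 1), P.coeff i * ((-a) ^ (i - k) * (i.choose k : ℚ)) := by
  conv_lhs => rw [P.as_sum_range' (d + 1) (by omega)]
  rw [← Polynomial.coe_compRingHom_apply, map_sum, Polynomial.finsetSum_coeff]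
  refine Finset.sum_congr rfl fun i _ => ?_
  rw [Polynomial.coe_compRingHom_apply, Polynomial.monomial_comp, Polynomial.coeff_C_mul,
    sub_eq_add_neg, ← map_neg C, Polynomial.coeff_X_add_C_pow]

open Polynomial in
/-- the scaled coefficients of `P - P.comp (X - C a)` -/
lemma diff_coeff (P : ℚ[X]) (a : ℚ) (d : ℕ) (hP : P.natDegree ≤ d) (k : ℕ) :
    (P - P.comp (X - C a)).coeff k * (k.factorial : ℚ) =
      ∑ i ∈ Finset.Ioc k d, (P.coeff i * (i.factorial : ℚ)) *
        (-((-a) ^ (i - k)) / ((i - k).factorial : ℚ)) := by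
  rw [Polynomial.coeff_sub, coeff_comp P a d hP]
  by_cases hk : d < k
  · rw [Polynomial.coeff_eq_zero_of_natDegree_lt (lt_of_le_of_lt hP hk), Finset.Ioc_eq_empty (by omega),
      Finset.sum_empty, Finset.sum_eq_zero, sub_zero, zero_mul]
    intro i hi
    rw [Nat.choose_eq_zero_of_lt (by have := Finset.mem_range.mp hi; omega)]
    simp
  · push Not at hk
    have e : ∑ i ∈ Finset.range (d + 1), P.coeff i * ((-a) ^ (i - k) * (i.choose k : ℚ)) =
        P.coeff k + ∑ i ∈ Finset.Ioc k d, P.coeff i * ((-a) ^ (i - k) * (i.choose k : ℚ)) := by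
      have hsub : insert k (Finset.Ioc k d) ⊆ Finset.range (d + 1) := by
        intro i hi
        simp only [Finset.mem_insert, Finset.mem_Ioc, Finset.mem_range] at hi ⊢
        omega
      rw [← Finset.sum_subset hsub]
      · rw [Finset.sum_insert (by simp)]
        simp
      · intro i hi hi'
        simp only [Finset.mem_insert, Finset.mem_Ioc, Finset.mem_range] at hi hi'
        rw [Nat.choose_eq_zero_of_lt (by omega)]
        simp
    rw [e, sub_add_eq_sub_sub, sub_self, zero_sub, neg_mul, Finset.sum_mul, ← Finset.sum_neg_distrib]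
    refine Finset.sum_congr rfl fun i hi => ?_
    have hi' := Finset.mem_Ioc.mp hi
    have hf : (i.factorial : ℚ) = (i.choose k : ℚ) * (k.factorial : ℚ) * ((i - k).factorial : ℚ) := by
      exact_mod_cast (Nat.choose_mul_factorial_mul_factorial hi'.1.le).symm
    have h0 : ((i - k).factorial : ℚ) ≠ 0 := by exact_mod_cast Nat.factorial_ne_zero _
    rw [hf]
    field_simp


open Polynomial in
/-- Let d and ℓ be natural numbers with ℓ + 1 ≤ d, let a be a nonzero rational number and let P, Q be
polynomials with rational coefficients, both of degree exactly d. For a polynomial R of degree e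
write R(m) = Σ_i α_i(R) m^i / i! (so α_i(R) = i! · coeff_i(R)) and let r_ℓ(R) ∈ ℚ^ℓ be the vector
(α_{e−1}(R)/α_e(R), …, α_{e−ℓ}(R)/α_e(R)) of the ℓ coefficients after the leading one of the reduced
polynomial R/α_e(R), ordered lexicographically. The polynomials P(m) − P(m − a) and Q(m) − Q(m − a)
have degree d − 1, and r_ℓ(P) ≤ r_ℓ(Q) lexicographically if and only if r_ℓ(P(m) − P(m − a)) ≤
r_ℓ(Q(m) − Q(m − a)) lexicographically (hence the same with strict inequalities, by exchanging P and
Q). When P and Q are the Hilbert polynomials of pure d-dimensional coherent sheaves E → F on a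
polarized projective scheme and D is a hypersurface section of degree a containing no associated
point of E or F, the Hilbert polynomials of E|_D and F|_D are P(m) − P(m − a) and Q(m) − Q(m − a),
and the two sides are the comparisons of the ℓ-truncated reduced Hilbert polynomials p_ℓ(E) ≥ p_ℓ(F)
and p_ℓ(E|_D) ≥ p_ℓ(F|_D). (The published statement is phrased for the sheaves; this row is the
statement about their Hilbert polynomials that the displayed coefficient formula yields.) -/
theorem result (d ℓ : ℕ) (hℓ : ℓ + 1 ≤ d) (a : ℚ) (ha : a ≠ 0)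
    (P Q : ℚ[X]) (hP : P.natDegree = d) (hQ : Q.natDegree = d) (hP0 : P ≠ 0) (hQ0 : Q ≠ 0) :
    toLex (fun j : Fin ℓ => ((P).coeff (d - 1 - (j : ℕ)) * (Nat.factorial (d - 1 - (j : ℕ)) : ℚ)) / ((P).coeff (d) * (Nat.factorial (d) : ℚ))) ≤ toLex (fun j : Fin ℓ => ((Q).coeff (d - 1 - (j : ℕ)) * (Nat.factorial (d - 1 - (j : ℕ)) : ℚ)) / ((Q).coeff (d) * (Nat.factorial (d) : ℚ))) ↔
      toLex (fun j : Fin ℓ => ((P - P.comp (X - C a)).coeff ((d - 1) - 1 - (j : ℕ)) * (Nat.factorial ((d - 1) - 1 - (j : ℕ)) : ℚ)) / ((P - P.comp (X - C a)).coeff ((d - 1)) * (Nat.factorial ((d - 1)) : ℚ))) ≤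
        toLex (fun j : Fin ℓ => ((Q - Q.comp (X - C a)).coeff ((d - 1) - 1 - (j : ℕ)) * (Nat.factorial ((d - 1) - 1 - (j : ℕ)) : ℚ)) / ((Q - Q.comp (X - C a)).coeff ((d - 1)) * (Nat.factorial ((d - 1)) : ℚ))) := by
  apply lex_aux
  intro j hj
  have hjd : (j : ℕ) + 1 < d := by have := j.2; omega
  have hlead : ∀ R : Polynomial ℚ, R.natDegree = d →
      (R - R.comp (Polynomial.X - Polynomial.C a)).coeff (d - 1) * (Nat.factorial (d - 1) : ℚ) =
        (R.coeff d * (Nat.factorial d : ℚ)) * a := by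
    intro R hR
    rw [diff_coeff R a d hR.le]
    have : Finset.Ioc (d - 1) d = {d} := by
      ext i; simp only [Finset.mem_Ioc, Finset.mem_singleton]; omega
    rw [this, Finset.sum_singleton]
    have : d - (d - 1) = 1 := by omega
    rw [this]
    simp
  have hne : ∀ R : Polynomial ℚ, R.natDegree = d → R ≠ 0 → R.coeff d * (Nat.factorial d : ℚ) ≠ 0 := by
    intro R hR hR0
    refine mul_ne_zero ?_ (by exact_mod_cast Nat.factorial_ne_zero _)
    rw [← hR]
    exact Polynomial.leadingCoeff_ne_zero.mpr hR0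
  have hform : ∀ R : Polynomial ℚ, R.natDegree = d → R ≠ 0 →
      ((R - R.comp (Polynomial.X - Polynomial.C a)).coeff ((d - 1) - 1 - (j : ℕ)) *
        (Nat.factorial ((d - 1) - 1 - (j : ℕ)) : ℚ)) /
        ((R - R.comp (Polynomial.X - Polynomial.C a)).coeff (d - 1) * (Nat.factorial (d - 1) : ℚ)) =
      (R.coeff (d - 1 - (j : ℕ)) * (Nat.factorial (d - 1 - (j : ℕ)) : ℚ)) /
        (R.coeff d * (Nat.factorial d : ℚ)) +
      ∑ i ∈ Finset.Ioc (d - 1 - (j : ℕ)) d, ((R.coeff i * (i.factorial : ℚ)) /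
        (R.coeff d * (Nat.factorial d : ℚ))) *
        (-((-a) ^ (i - ((d - 1) - 1 - (j : ℕ)))) / ((i - ((d - 1) - 1 - (j : ℕ))).factorial : ℚ) / a) := by
    intro R hR hR0
    rw [hlead R hR, diff_coeff R a d hR.le]
    have h0 := hne R hR hR0
    have hins : Finset.Ioc ((d - 1) - 1 - (j : ℕ)) d =
        insert (d - 1 - (j : ℕ)) (Finset.Ioc (d - 1 - (j : ℕ)) d) := by
      ext i; simp only [Finset.mem_Ioc, Finset.mem_insert]; omega
    rw [hins, Finset.sum_insert (by simp)]
    have e1 : d - 1 - (j : ℕ) - ((d - 1) - 1 - (j : ℕ)) = 1 := by omega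
    rw [e1, add_div, Finset.sum_div]
    congr 1
    · simp only [pow_one, neg_neg, Nat.factorial_one, Nat.cast_one, div_one]
      field_simp
    · refine Finset.sum_congr rfl fun i _ => ?_
      set A := R.coeff i * (i.factorial : ℚ)
      set B := R.coeff d * (Nat.factorial d : ℚ)
      field_simp
  have hP' := hform P hP hP0
  have hQ' := hform Q hQ hQ0
  rw [hP', hQ']
  have hsum : ∀ i ∈ Finset.Ioc (d - 1 - (j : ℕ)) d,
      ((P.coeff i * (i.factorial : ℚ)) / (P.coeff d * (Nat.factorial d : ℚ))) *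
        (-((-a) ^ (i - ((d - 1) - 1 - (j : ℕ)))) / ((i - ((d - 1) - 1 - (j : ℕ))).factorial : ℚ) / a) =
      ((Q.coeff i * (i.factorial : ℚ)) / (Q.coeff d * (Nat.factorial d : ℚ))) *
        (-((-a) ^ (i - ((d - 1) - 1 - (j : ℕ)))) / ((i - ((d - 1) - 1 - (j : ℕ))).factorial : ℚ) / a) := by
    intro i hi
    have hi' := Finset.mem_Ioc.mp hi
    congr 1
    rcases Nat.lt_or_ge i d with h | h
    · have h1 : d - 1 - i < ℓ := by have := j.2; omega
      have h2 := hj ⟨d - 1 - i, h1⟩ (by
        rw [Fin.lt_def]; simp only; omega)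
      simp only at h2
      have h3 : d - 1 - (d - 1 - i) = i := by omega
      rw [h3] at h2
      exact h2
    · have : i = d := le_antisymm hi'.2 h
      subst this
      rw [div_self (hne P hP hP0), div_self (hne Q hQ hQ0)]
  rw [Finset.sum_congr rfl hsum]
  ring

end Groth.Agent.S14997
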