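import Groth.Statements.S14998
import Groth.Agent.AlgGrp.K405.GUniv
-- import your own Groth.Agent.* helpers here

set_option autoImplicit false
universe u
open CategoryTheory CategoryTheory.Limits AlgebraicGeometry
open AlgGrp

namespace Groth.Agent.S14998

/-- Let k be a field and G a group scheme over k (a group object of schemes over Spec k) acting on a
k-scheme R of finite type. Let f : R → S and q : S → T be morphisms of k-schemes of finite type such
that q is separated, f is invariant under the action, and the composite p = q ∘ f is G-universally
closed: p is invariant and for every discrete valuation ring A over k with fraction field K, every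
K-point of R and A-point of T over k forming a commutative square with p admit an A-point of R over
T restricting on Spec K to a translate of the given K-point by a K-point of G. Then the
set-theoretic image f(R) is closed in S, and the reduced closed subscheme of S with underlying set
f(R) is proper over T. (The published statement fixes a connected algebraic group over the complex
numbers; this row allows any group scheme over any field, which is what the printed argument uses.) -/
theorem result (k : Type u) [Field k]
    (G R S T : Over (Spec (CommRingCat.of k))) [GrpObj G]
    [LocallyOfFiniteType R.hom] [CompactSpace ↥R.left] [LocallyOfFiniteType S.hom] [CompactSpace ↥S.left]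
    [LocallyOfFiniteType T.hom] [CompactSpace ↥T.left]
    (a : AlgGrp.Action G R) (f : R ⟶ S) (q : S ⟶ T) [IsSeparated q.left]
    (hf : W4c2lssmoduli.IsInvariantMor a f) (hp : W4c2lssmoduli.IsGUnivClosed a (f ≫ q)) :
    IsClosed (Set.range f.left.base) ∧
      IsProper ((Scheme.IdealSheafData.vanishingIdeal
          (⟨closure (Set.range f.left.base), isClosed_closure⟩ : TopologicalSpace.Closeds ↥S.left)).subschemeι ≫ q.left) := by
  have hR : IsLocallyNoetherian R.left := LocallyOfFiniteType.isLocallyNoetherian R.hom
  have hS : IsLocallyNoetherian S.left := LocallyOfFiniteType.isLocallyNoetherian S.hom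
  have hT : IsLocallyNoetherian T.left := LocallyOfFiniteType.isLocallyNoetherian T.hom
  have hR' : IsNoetherian R.left := {}
  have hS' : IsNoetherian S.left := {}
  have h1 : LocallyOfFiniteType (f ≫ q).left := by
    have : LocallyOfFiniteType ((f ≫ q).left ≫ T.hom) := by rw [Over.w]; infer_instance
    exact locallyOfFiniteType_of_comp _ T.hom
  have h2 : LocallyOfFiniteType f.left := by
    have : LocallyOfFiniteType (f.left ≫ S.hom) := by rw [Over.w]; infer_instance
    exact locallyOfFiniteType_of_comp _ S.hom
  have h3 : LocallyOfFiniteType q.left := by
    have : LocallyOfFiniteType (q.left ≫ T.hom) := by rw [Over.w]; infer_instance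
    exact locallyOfFiniteType_of_comp _ T.hom
  have hcl : IsClosed (Set.range f.left.base) :=
    K405.GUniv.isClosed_range a f (K405.GUniv.isGUnivClosed_of_comp a f q hf hp)
  refine ⟨hcl, K405.GUniv.isProper a f q hf hp _ ?_⟩
  rw [Scheme.IdealSheafData.range_subschemeι, Scheme.IdealSheafData.coe_support_vanishingIdeal]
  exact hcl.closure_eq.le

end Groth.Agent.S14998
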