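import Groth.Statements.S15001
import Groth.Agent.AlgGrp.K405.GNorm
-- import your own Groth.Agent.* helpers here

set_option autoImplicit false
universe u
open CategoryTheory CategoryTheory.Limits AlgebraicGeometry
open AlgGrp

namespace Groth.Agent.S15001

/-- Let k be a field and G a smooth connected group scheme of finite type over k acting on a k-scheme R
of finite type; let f : R → S be a morphism to a k-scheme S of finite type which is surjective,
separated, invariant under the action and G-universally closed (every square formed by a K-point of
R and an A-point of S over k, A a discrete valuation ring over k with fraction field K, lifts to an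
A-point of R over S up to translating the K-point by a K-point of G). Then the G-normalization of S
in R exists: there are a k-scheme S' of finite type, an invariant surjective morphism f' : R → S'
and a finite morphism π : S' → S over k with π ∘ f' = f, such that for every factorization f = ν ∘ g
through a k-scheme Z of finite type with g : R → Z invariant and ν : Z → S finite there is a unique
morphism h : S' → Z over k with h ∘ f' = g and ν ∘ h = π. (The published statement is over the
complex numbers for a connected algebraic group; this row takes G smooth, connected and of finite
type over any field k, which is what the printed argument uses — finiteness of π rests on a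
dévissage of equivariant coherent sheaves that needs the irreducible components and the reduced
structure of a G-stable closed subscheme to be G-stable — and omits the description of S' as the
relative spectrum over S of the sheaf of invariant sections of f_*O_R.) -/
theorem result (k : Type u) [Field k]
    (G R S : Over (Spec (CommRingCat.of k))) [GrpObj G]
    [Smooth G.hom] [CompactSpace ↥G.left] [ConnectedSpace ↥G.left]
    [LocallyOfFiniteType R.hom] [CompactSpace ↥R.left] [LocallyOfFiniteType S.hom] [CompactSpace ↥S.left]
    (a : AlgGrp.Action G R) (f : R ⟶ S) [IsSeparated f.left] (hsurj : Function.Surjective f.left.base)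
    (hf : W4c2lssmoduli.IsGUnivClosed a f) :
    ∃ (S' : Over (Spec (CommRingCat.of k))) (f' : R ⟶ S') (π : S' ⟶ S),
      LocallyOfFiniteType S'.hom ∧ CompactSpace ↥S'.left ∧
      f' ≫ π = f ∧ a.act ≫ f' = CartesianMonoidalCategory.snd G R ≫ f' ∧ Function.Surjective f'.left.base ∧ IsFinite π.left ∧
      ∀ (Z : Over (Spec (CommRingCat.of k))) (g : R ⟶ Z) (ν : Z ⟶ S),
        LocallyOfFiniteType Z.hom → CompactSpace ↥Z.left → g ≫ ν = f → W4c2lssmoduli.IsInvariantMor a g → IsFinite ν.left →
          ∃! h : S' ⟶ Z, f' ≫ h = g ∧ h ≫ ν = π := by
  have h1 : LocallyOfFiniteType G.hom := inferInstance
  exact K405.GNorm.main a f hf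

end Groth.Agent.S15001
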