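import Groth.Statements.S15002
import Groth.Agent.ShStab.K847.StabBasic
import Groth.Agent.ShStab.K846.EigSheaf
import Groth.Agent.S2426
import Groth.Agent.Ega3B.ProjFrame
import Groth.Agent.Ega3B.PullTensor
import Groth.Agent.Fga.EulerLEAdd
import Groth.Agent.CohqA.ProjDim
import Groth.Agent.S10962
import Groth.Agent.Models2.AmplePull

set_option autoImplicit false
universe u
open CategoryTheory CategoryTheory.Limits AlgebraicGeometry Polynomial
open Coherent

namespace Groth.Agent.S15002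

open K847.HilbBasic K847.StabBasic K847.PolyOrd

theorem avg_false (p q x y : ℚ) (hx : 0 < x) (hy : 0 < y) (h1 : p / x ≤ (p + q) / (x + y))
    (h2 : q / y ≤ (p + q) / (x + y)) (h : p / x < (p + q) / (x + y) ∨ q / y < (p + q) / (x + y)) : False := by
  have hxy : 0 < x + y := by positivity
  have e : (p + q) / (x + y) * (x + y) = p + q := div_mul_cancel₀ _ hxy.ne'
  rw [div_le_iff₀ hx] at h1
  rw [div_le_iff₀ hy] at h2
  rcases h with h | h
  · rw [div_lt_iff₀ hx] at h
    nlinarith
  · rw [div_lt_iff₀ hy] at h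
    nlinarith

theorem lex_false {ℓ : ℕ} (p q : Fin ℓ → ℚ) (x y : ℚ) (hx : 0 < x) (hy : 0 < y)
    (h1 : toLex (fun j => p j / x) < toLex (fun j => (p j + q j) / (x + y)))
    (h2 : toLex (fun j => q j / y) < toLex (fun j => (p j + q j) / (x + y))) : False := by
  obtain ⟨i, hi, hlt⟩ := h1
  obtain ⟨i', hi', hlt'⟩ := h2
  have hi2 : ∀ j < i, p j / x = (p j + q j) / (x + y) := hi
  have hlt2 : p i / x < (p i + q i) / (x + y) := hlt
  have hi2' : ∀ j < i', q j / y = (p j + q j) / (x + y) := hi'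
  have hlt2' : q i' / y < (p i' + q i') / (x + y) := hlt'
  rcases lt_trichotomy i i' with h | h | h
  · exact avg_false _ _ _ _ hx hy hlt2.le (hi2' i h).le (Or.inl hlt2)
  · subst h
    exact avg_false _ _ _ _ hx hy hlt2.le hlt2'.le (Or.inl hlt2)
  · exact avg_false _ _ _ _ hx hy (hi2 i' h).le hlt2'.le (Or.inr hlt2')

section
variable (k : Type u) [Field k] {X : Scheme.{u}} [X.Over (Spec (CommRingCat.of k))]
  {N : ℕ} (ι : X ⟶ CohB1.ProjSpace N k)

theorem nonempty_pow (t : ℕ) : Nonempty ((Scheme.Modules.pullback ι).obj (Twist.twistProjSpace N k (t : ℤ)) ≅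
    CohB1.tensorPow ((Scheme.Modules.pullback ι).obj (Twist.twistProjSpace N k 1)) t) := by
  obtain ⟨e⟩ := Ega3B.ProjFrame.nonempty_twistProjSpace_iso (r := N) k t
  obtain ⟨e'⟩ := Ega3B.PullTensor.nonempty_pullPowIso ι (S10962.isAmple_of_pos k N one_pos).1 t
  exact ⟨(Scheme.Modules.pullback ι).mapIso e ≪≫ e'⟩

theorem isHilbPoly_of (F : X.Modules) (Q : ℚ[X])
    (h : ∀ m : ℤ, (Curv2.euler k X (Pic13.twistOn k ι F m) : ℚ) = Q.eval (m : ℚ)) :
    ShStab.IsHilbPoly k X ((Scheme.Modules.pullback ι).obj (Twist.twistProjSpace N k 1)) F Q := by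
  intro m
  obtain ⟨e⟩ := nonempty_pow k ι m
  have e' : Pic13.twistOn k ι F (m : ℤ) ≅
      ShStab.twist X ((Scheme.Modules.pullback ι).obj (Twist.twistProjSpace N k 1)) F m :=
    Ega2.Tens.mapTIso (Iso.refl F) e
  rw [← euler_congr k e', h m]
  norm_cast

theorem exists_poly [IsClosedImmersion ι] (hι : ι ≫ CohB1.ProjSpace.toSpec N k = X ↘ Spec (CommRingCat.of k))
    [IsProper (X ↘ Spec (CommRingCat.of k))]
    (F : X.Modules) (hF : Coh.IsCoh F) :
    ∃ Q : ℚ[X], ∀ m : ℤ, (Curv2.euler k X (Pic13.twistOn k ι F m) : ℚ) = Q.eval (m : ℚ) := by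
  have := Fga.IntAdd.isNoetherian k X
  obtain ⟨φ, hφ⟩ := Groth.Agent.S2426.result k N X ι hι F hF
  have hdim : topologicalKrullDim X ≤ (N : WithBot ℕ∞) :=
    (ι.isClosedEmbedding.isInducing.topologicalKrullDim_le).trans (CohqA.ProjDim.topologicalKrullDim_le k N)
  refine ⟨φ, fun d => ?_⟩
  rw [← hφ d, ← Fga.EulerLEAdd.eulerCharLE_eq_euler k X N hdim, FGA.eulerCharLE]
  push_cast
  refine Finset.sum_congr rfl fun j _ => ?_
  congr 2
  rw [Module.length_eq_rank]
  rfl

end

/-- Let k be an algebraically closed field and X an integral scheme, smooth and proper over k, with a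
closed immersion ι into projective N-space over k compatible with the structure maps; write E(m) = E
⊗ ι^*O(m). Let 1 ≤ ℓ ≤ d and let E be a coherent O_X-module whose Hilbert polynomial P (χ(E(m)) =
P(m) for all integers m) is nonzero of degree d, which is pure of dimension d (every nonzero
coherent subsheaf of E has support of Krull dimension d) and ℓ-stable: writing R(m) = Σ_i α_i(R)
m^i/i! for a polynomial R, for every coherent subsheaf F of E with Hilbert polynomial Q such that 0
< α_d(Q) < α_d(P), the vector (α_{d−1}(Q)/α_d(Q), …, α_{d−ℓ}(Q)/α_d(Q)) is strictly smaller than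
(α_{d−1}(P)/α_d(P), …, α_{d−ℓ}(P)/α_d(P)) in the lexicographic order. Then E is simple: every
endomorphism φ of E is multiplication by a scalar, i.e. there is c ∈ k with φ(s) = c·s for every
local section s of E. (The published statement gives more generally, for such E, that the
endomorphisms of the restriction of E to the complement of any closed subset meeting the support of
E in codimension at least ℓ + 1 are the scalars; this row is the case of the empty closed subset.) -/
theorem result (k : Type u) [Field k] [IsAlgClosed k]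
    (X : Scheme.{u}) [X.Over (Spec (CommRingCat.of k))] [IsIntegral X]
    [Smooth (X ↘ Spec (CommRingCat.of k))] [IsProper (X ↘ Spec (CommRingCat.of k))]
    (N : ℕ) (ι : X ⟶ CohB1.ProjSpace N k) [IsClosedImmersion ι] (hι : ι ≫ CohB1.ProjSpace.toSpec N k = X ↘ Spec (CommRingCat.of k))
    (d ℓ : ℕ) (hℓ : 1 ≤ ℓ) (hℓd : ℓ ≤ d)
    (E : X.Modules) (hE : Coh.IsCoh E) (P : ℚ[X]) (hPd : P.natDegree = d) (hP0 : P ≠ 0)
    (hP : ∀ m : ℤ, (Curv2.euler k X (Pic13.twistOn k ι E m) : ℚ) = P.eval (m : ℚ))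
    (hpure : ∀ (F : X.Modules) (j : F ⟶ E), Mono j → Coh.IsCoh F → ¬ IsZero F →
      topologicalKrullDim (CohB1.support F) = (d : WithBot ℕ∞))
    (hst : ∀ (F : X.Modules) (j : F ⟶ E), Mono j → Coh.IsCoh F → ∀ Q : ℚ[X],
      (∀ m : ℤ, (Curv2.euler k X (Pic13.twistOn k ι F m) : ℚ) = Q.eval (m : ℚ)) →
        0 < Q.coeff d → Q.coeff d < P.coeff d →
          toLex (fun j : Fin ℓ => ((Q).coeff (d - 1 - (j : ℕ)) * (Nat.factorial (d - 1 - (j : ℕ)) : ℚ)) / ((Q).coeff d * (Nat.factorial d : ℚ))) < toLex (fun j : Fin ℓ => ((P).coeff (d - 1 - (j : ℕ)) * (Nat.factorial (d - 1 - (j : ℕ)) : ℚ)) / ((P).coeff d * (Nat.factorial d : ℚ))))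
    (φ : E ⟶ E) :
    ∃ c : k, ∀ (V : X.Opens) (s : E.val.obj (Opposite.op V)),
      (φ.val.app (Opposite.op V)) s = (X.ringCatSheaf.obj.map (homOfLE (le_top : V ≤ ⊤)).op (Coh.toGlobal (X ↘ Spec (CommRingCat.of k)) c : X.ringCatSheaf.obj.obj (Opposite.op ⊤))) • s := by
  classical
  let L : X.Modules := (Scheme.Modules.pullback ι).obj (Twist.twistProjSpace N k 1)
  have hL : CohB1.IsAmple L := Models2.AmplePull.isAmple_pullback ι (S10962.isAmple_of_pos k N one_pos)
  have hpE : ShStab.IsHilbPoly k X L E P := isHilbPoly_of k ι E P hP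
  have hE0 : ¬ IsZero E := fun h => hP0 (hilbPoly_eq_zero k h hpE)
  obtain ⟨c, hc⟩ := K846.EigSheaf.exists_not_isIso (k := k) E hE hE0 φ
  refine ⟨c, ?_⟩
  have key : φ - Formal.smulMod k E c = 0 := by
    by_contra hne
    generalize hψ : φ - Formal.smulMod k E c = ψ at hc hne
    have hI : Coh.IsCoh (Abelian.image ψ) :=
      isCoh_kernel' k (cokernel.π ψ) hE (isCoh_cokernel' k ψ hE hE)
    have hK : Coh.IsCoh (kernel (Abelian.factorThruImage ψ)) :=
      isCoh_kernel' k (Abelian.factorThruImage ψ) hE hI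
    have hI0 : ¬ IsZero (Abelian.image ψ) := by
      intro h
      apply hne
      rw [← Abelian.image.fac ψ, h.eq_of_tgt (Abelian.factorThruImage ψ) 0, Limits.zero_comp]
    have hK0 : ¬ IsZero (kernel (Abelian.factorThruImage ψ)) := by
      intro h
      apply hc
      have h1 : Mono (Abelian.factorThruImage ψ) :=
        Preadditive.mono_of_kernel_zero (h.eq_of_src _ _)
      have h2 : Mono ψ := by
        rw [← Abelian.image.fac ψ]
        exact mono_comp _ _
      exact isIso_of_hilbPoly_eq k hL ψ hE hE hpE hpE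
    obtain ⟨PK, hPK⟩ := exists_poly k ι hι _ hK
    obtain ⟨PI, hPI⟩ := exists_poly k ι hι _ hI
    have hadd := hilbPoly_add k hL.1 _ (shortExact_kernel (Abelian.factorThruImage ψ)) hK hE hI
      (isHilbPoly_of k ι _ _ hPK) hpE (isHilbPoly_of k ι _ _ hPI)
    have hKp := coeff_pos k hL hK (hpure _ (kernel.ι (Abelian.factorThruImage ψ)) inferInstance hK hK0)
      (isHilbPoly_of k ι _ _ hPK)
    have hIp := coeff_pos k hL hI (hpure _ (Abelian.image.ι ψ) inferInstance hI hI0)
      (isHilbPoly_of k ι _ _ hPI)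
    have hs : P.coeff d = PK.coeff d + PI.coeff d := by rw [hadd, coeff_add]
    have h1 := hst _ (kernel.ι (Abelian.factorThruImage ψ)) inferInstance hK PK hPK hKp (by linarith)
    have h2 := hst _ (Abelian.image.ι ψ) inferInstance hI PI hPI hIp (by linarith)
    have hf : (0 : ℚ) < (Nat.factorial d : ℚ) := by exact_mod_cast Nat.factorial_pos d
    rw [hadd] at h1 h2
    simp only [coeff_add, add_mul] at h1 h2
    exact lex_false (fun j : Fin ℓ => PK.coeff (d - 1 - (j : ℕ)) * (Nat.factorial (d - 1 - (j : ℕ)) : ℚ))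
      (fun j : Fin ℓ => PI.coeff (d - 1 - (j : ℕ)) * (Nat.factorial (d - 1 - (j : ℕ)) : ℚ))
      (PK.coeff d * (Nat.factorial d : ℚ)) (PI.coeff d * (Nat.factorial d : ℚ))
      (mul_pos hKp hf) (mul_pos hIp hf) h1 h2
  intro V s
  rw [sub_eq_zero] at key
  rw [key]
  rfl

end Groth.Agent.S15002
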