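import Groth.Statements.S15003
import Groth.Agent.UnramA.NormalUnibranch
import Groth.Agent.CurvesC.RegNormal
import Groth.Agent.S1450
import Groth.Agent.Grpsch.FinrankGen
import Groth.Agent.Etbc.H218.DiscreteSplit
import Mathlib.AlgebraicGeometry.AlgClosed.Basic

set_option autoImplicit false
universe u
open CategoryTheory CategoryTheory.Limits AlgebraicGeometry
open Harb

namespace Groth.Agent.S15003

/-- Let k be an algebraically closed field and let π : Y → X be a finite, surjective and unramified
k-morphism of smooth varieties over k (X and Y integral, separated and of finite type over k with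
all local rings regular) which sends the generic point of Y to the generic point of X, so that the
function field k(X) embeds in k(Y). Then for every closed point p of X the fibre π⁻¹(p) consists of
exactly deg π points, where deg π = [k(Y) : k(X)] is the degree of that field extension. -/
theorem result (k : Type u) [Field k] [IsAlgClosed k]
    (X Y : Scheme.{u}) [X.Over (Spec (CommRingCat.of k))] [Y.Over (Spec (CommRingCat.of k))]
    [IsIntegral X] [IsIntegral Y]
    [IsSeparated (X ↘ (Spec (CommRingCat.of k)))] [LocallyOfFiniteType (X ↘ (Spec (CommRingCat.of k)))]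
    [QuasiCompact (X ↘ (Spec (CommRingCat.of k)))]
    [IsSeparated (Y ↘ (Spec (CommRingCat.of k)))] [LocallyOfFiniteType (Y ↘ (Spec (CommRingCat.of k)))]
    [QuasiCompact (Y ↘ (Spec (CommRingCat.of k)))]
    (hregX : ∀ x : X, IsRegularLocalRing (X.presheaf.stalk x))
    (hregY : ∀ y : Y, IsRegularLocalRing (Y.presheaf.stalk y))
    (π : Y ⟶ X) (hπ : π ≫ (X ↘ (Spec (CommRingCat.of k))) = (Y ↘ (Spec (CommRingCat.of k))))
    [AlgebraicGeometry.IsFinite π] [AlgebraicGeometry.Surjective π] [AlgebraicGeometry.FormallyUnramified π]
    (e : π.base (genericPoint Y) = genericPoint X) (p : X) (hp : IsClosed ({p} : Set X)) :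
    Nat.card {q : Y // π.base q = p} =
      Models.homDegree (X.presheaf.stalkSpecializes (specializes_of_eq e) ≫ π.stalkMap (genericPoint Y)).hom := by
  have hX' : ∀ x : X, CAlg2.IsGeomUnibranch (X.presheaf.stalk x) := fun x => by
    have := hregX x
    have := Groth.Agent.CurvesC.RegNormal.isDomain (X.presheaf.stalk x)
    have := Groth.Agent.CurvesC.RegNormal.isIntegrallyClosed (X.presheaf.stalk x)
    exact Groth.Agent.UnramA.NormalUnibranch.isGeomUnibranch_of_isIntegrallyClosed _
  obtain ⟨het, -⟩ := Groth.Agent.S1450.result π hX' ⟨genericPoint Y, e⟩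
  -- the degree of the function field extension is the rank at `p`
  have hrank := Groth.Agent.Grpsch.FinrankGen.finrank_eq_stalk π e p
  have hdeg : Models.homDegree (X.presheaf.stalkSpecializes (specializes_of_eq e) ≫
      π.stalkMap (genericPoint Y)).hom = π.finrank p := by
    rw [hrank]
    let φ : X.presheaf.stalk (π.base (genericPoint Y)) →+* Y.presheaf.stalk (genericPoint Y) :=
      (π.stalkMap (genericPoint Y)).hom
    let s : X.presheaf.stalk (genericPoint X) →+* X.presheaf.stalk (π.base (genericPoint Y)) :=
      (X.presheaf.stalkSpecializes (specializes_of_eq e)).hom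
    have hs : Function.Bijective s := by
      have : IsIso (X.presheaf.stalkSpecializes (specializes_of_eq e)) :=
        (X.presheaf.stalkCongr (.of_eq e)).isIso_inv
      exact ConcreteCategory.bijective_of_isIso (X.presheaf.stalkSpecializes (specializes_of_eq e))
    let _ := (φ.comp s).toAlgebra
    let _ := φ.toAlgebra
    exact Algebra.finrank_eq_of_equiv_equiv (RingEquiv.ofBijective s hs) (RingEquiv.refl _) rfl
  rw [hdeg]
  -- the rank at `p` is the number of points over `p`
  have hcard : Nat.card {q : Y // π.base q = p} = π.finrank p := by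
    let σ : Spec (CommRingCat.of k) ⟶ X := pointOfClosedPoint (X ↘ (Spec (CommRingCat.of k))) p hp
    have hσ : ∀ a, σ a = p := fun a => pointOfClosedPoint_apply _ p hp a
    have hσc : IsClosedImmersion σ :=
      isClosedImmersion_of_comp_eq_id _ _ (pointOfClosedPoint_comp (X ↘ (Spec (CommRingCat.of k))) p hp)
    have hcard := Groth.Agent.Etbc.H218.DiscreteSplit.card_eq_finrank (pullback.snd π σ) default
    rw [Scheme.Hom.finrank_pullback_snd, hσ] at hcard
    rw [← hcard]
    have h2 : ∀ w : ↥(pullback π σ), π.base (pullback.fst π σ w) = p := by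
      intro w
      have : π (pullback.fst π σ w) = σ (pullback.snd π σ w) := by
        rw [← Scheme.Hom.comp_apply, pullback.condition, Scheme.Hom.comp_apply]
      exact this.trans (hσ _)
    refine (Nat.card_congr (Equiv.ofBijective
      (fun w : ↥(pullback π σ) => (⟨pullback.fst π σ w, h2 w⟩ : {q : Y // π.base q = p})) ⟨?_, ?_⟩)).symm
    · intro w w' h
      exact (pullback.fst π σ).isClosedEmbedding.injective (congrArg Subtype.val h)
    · rintro ⟨q, hq⟩
      obtain ⟨w, hw, -⟩ := Scheme.Pullback.exists_preimage_pullback (f := π) (g := σ) q default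
        (hq.trans (hσ _).symm)
      exact ⟨w, Subtype.ext hw⟩
  exact hcard

end Groth.Agent.S15003
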