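import Groth.Statements.S15008
import Groth.Agent.TFCurv.K839.Cond

set_option autoImplicit false
universe u
open CategoryTheory
open TFCurv

namespace Groth.Agent.S15008

/-- Let O be a one-dimensional Noetherian local domain with algebraically closed residue field whose
integral closure O~ in its fraction field K is a finite O-module, and suppose O is not Gorenstein.
If w is an O-submodule of K with O ⊆ w ⊆ O~ whose injective dimension as an O-module is at most one
(a canonical ideal placed between O and O~), then length(w/O) + length(O~/C) = 2 · length(O~/O),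
where C is the conductor of O in O~. -/
theorem result (O : Type u) [CommRing O] [IsDomain O] [IsNoetherianRing O] [IsLocalRing O] (hdim : ringKrullDim O = 1) [IsAlgClosed (IsLocalRing.ResidueField O)] (K : Type u) [Field K] [Algebra O K] [IsFractionRing O K] (hfin : Module.Finite O ↥(integralClosure O K)) (hG : ¬ LocCoh.IsGorensteinLocalRing O) (ω : Submodule O K) (hω1 : (1 : Submodule O K) ≤ ω) (hω2 : ω ≤ (Subalgebra.toSubmodule (integralClosure O K))) (hωinj : HasInjectiveDimensionLT (ModuleCat.of O ↥ω) 2) : Module.length O (↥ω ⧸ Submodule.comap ω.subtype (1 : Submodule O K)) + Module.length O (↥(integralClosure O K) ⧸ ((1 : Submodule O K).colon (Subalgebra.toSubmodule (integralClosure O K))) • (⊤ : Submodule O ↥(integralClosure O K))) = 2 * Module.length O (↥(integralClosure O K) ⧸ Submodule.comap (Subalgebra.toSubmodule (integralClosure O K)).subtype (1 : Submodule O K)) := by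
  have hfg : (Subalgebra.toSubmodule (integralClosure O K)).FG := Module.Finite.iff_fg.1 hfin
  have hω0 : ω ≠ ⊥ := by
    rintro rfl
    have h1 := hω1 (Submodule.mem_one.2 ⟨1, map_one _⟩)
    exact one_ne_zero ((Submodule.mem_bot O).1 h1)
  have hωfg : ω.FG := by
    have : IsNoetherian O ↥(Subalgebra.toSubmodule (integralClosure O K)) :=
      isNoetherian_of_isNoetherianRing_of_finite O _
    have : IsNoetherian O ω := isNoetherian_of_le hω2
    exact Module.Finite.iff_fg.1 inferInstance
  have hW := K839.Canon.isCanon_of_submodule ω hω0 hωfg hωinj
  rw [K839.Cond.length_quot_colon]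
  exact K839.Cond.canonical_formula hdim hW _ hfg hω1 hω2

end Groth.Agent.S15008
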