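import Groth.Statements.S15010
import Groth.Agent.TFCurv.K839.Lattice
import Mathlib.LinearAlgebra.Matrix.NonsingularInverse

set_option autoImplicit false
universe u
open TFCurv

namespace Groth.Agent.S15010

/-- Let O be a one-dimensional Noetherian local domain with algebraically closed residue field whose
integral closure O~ in its fraction field K is a finite O-module. If M and N are O-submodules of K^n
with O^n ⊆ M ⊆ O~^n and O^n ⊆ N ⊆ O~^n, then every O-linear isomorphism M → N is the restriction of
x ↦ A·x for an invertible n × n matrix A with entries in O~. -/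
theorem result (O : Type u) [CommRing O] [IsDomain O] [IsNoetherianRing O] [IsLocalRing O] (hdim : ringKrullDim O = 1) [IsAlgClosed (IsLocalRing.ResidueField O)] (K : Type u) [Field K] [Algebra O K] [IsFractionRing O K] (hfin : Module.Finite O ↥(integralClosure O K)) (n : ℕ) (M N : Submodule O (Fin n → K)) (hM1 : Submodule.pi Set.univ (fun _ : Fin n => (1 : Submodule O K)) ≤ M) (hM2 : M ≤ Submodule.pi Set.univ (fun _ : Fin n => (Subalgebra.toSubmodule (integralClosure O K)))) (hN1 : Submodule.pi Set.univ (fun _ : Fin n => (1 : Submodule O K)) ≤ N) (hN2 : N ≤ Submodule.pi Set.univ (fun _ : Fin n => (Subalgebra.toSubmodule (integralClosure O K)))) (φ : ↥M ≃ₗ[O] ↥N) : ∃ A : Matrix (Fin n) (Fin n) ↥(integralClosure O K), IsUnit A ∧ ∀ x : ↥M, ((φ x : ↥N) : Fin n → K) = (A.map (algebraMap ↥(integralClosure O K) K)).mulVec (x : Fin n → K) := by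
  classical
  have he : ∀ j : Fin n, (Pi.single j 1 : Fin n → K) ∈
      Submodule.pi Set.univ (fun _ : Fin n => (1 : Submodule O K)) := by
    intro j i _
    by_cases hij : i = j
    · subst hij
      simp only [Pi.single_eq_same]
      exact Submodule.mem_one.2 ⟨1, map_one _⟩
    · rw [Pi.single_eq_of_ne hij]
      exact Submodule.zero_mem _
  -- a general statement for `φ` and its inverse
  have key : ∀ (P Q : Submodule O (Fin n → K))
      (hP1 : Submodule.pi Set.univ (fun _ : Fin n => (1 : Submodule O K)) ≤ P)
      (hQ2 : Q ≤ Submodule.pi Set.univ (fun _ : Fin n => (Subalgebra.toSubmodule (integralClosure O K))))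
      (ψ : ↥P →ₗ[O] ↥Q), ∃ A : Matrix (Fin n) (Fin n) ↥(integralClosure O K),
        ∀ x : ↥P, ((ψ x : ↥Q) : Fin n → K) =
          (A.map (algebraMap ↥(integralClosure O K) K)).mulVec (x : Fin n → K) := by
    intro P Q hP1 hQ2 ψ
    let E : Fin n → P := fun j => ⟨Pi.single j 1, hP1 (he j)⟩
    refine ⟨Matrix.of fun i j => ⟨(ψ (E j) : Fin n → K) i, hQ2 (ψ (E j)).2 i trivial⟩, fun x => ?_⟩
    obtain ⟨d, hd⟩ := IsLocalization.exist_integer_multiples_of_finite (nonZeroDivisors O)
      (S := K) (x : Fin n → K)
    choose r hr using hd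
    have hd0 : (algebraMap O K d) ≠ 0 := by
      rw [Ne, FaithfulSMul.algebraMap_eq_zero_iff]
      exact nonZeroDivisors.ne_zero d.2
    have h1 : (d : O) • x = ∑ j, r j • E j := by
      apply Subtype.ext
      rw [Submodule.coe_smul, AddSubmonoidClass.coe_finsetSum]
      funext i
      rw [Pi.smul_apply, Finset.sum_apply]
      simp only [Submodule.coe_smul, Pi.smul_apply, E]
      rw [Finset.sum_eq_single i]
      · rw [Pi.single_eq_same, Algebra.smul_def (r i), mul_one, hr]
      · intro j _ hji
        rw [Pi.single_eq_of_ne hji.symm, smul_zero]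
      · intro h; exact absurd (Finset.mem_univ _) h
    have h2 : (d : O) • ψ x = ∑ j, r j • ψ (E j) := by
      rw [← map_smul, h1, map_sum]
      simp only [map_smul]
    have h3 := congrArg (fun z : Q => (z : Fin n → K)) h2
    simp only [Submodule.coe_smul, AddSubmonoidClass.coe_finsetSum] at h3
    funext i
    have h4 := congrFun h3 i
    rw [Pi.smul_apply, Finset.sum_apply] at h4
    simp only [Pi.smul_apply, Algebra.smul_def, hr] at h4
    apply mul_left_cancel₀ hd0
    rw [h4, Matrix.mulVec, dotProduct, Finset.mul_sum]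
    refine Finset.sum_congr rfl fun j _ => ?_
    simp only [Matrix.map_apply, Matrix.of_apply]
    have h7 : algebraMap (↥(integralClosure O K)) K ⟨(ψ (E j) : Fin n → K) i, hQ2 (ψ (E j)).2 i trivial⟩ =
      (ψ (E j) : Fin n → K) i := rfl
    rw [h7]
    ring
  obtain ⟨A, hA⟩ := key M N hM1 hN2 φ.toLinearMap
  obtain ⟨B, hB⟩ := key N M hN1 hM2 φ.symm.toLinearMap
  refine ⟨A, ?_, hA⟩
  have hAB : A * B = 1 := by
    have hinj : Function.Injective (algebraMap ↥(integralClosure O K) K) := Subtype.val_injective
    have h1 : (A * B).map (algebraMap ↥(integralClosure O K) K) = 1 := by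
      rw [Matrix.map_mul]
      ext i j
      have h2 := hB ⟨Pi.single j 1, hN1 (he j)⟩
      have h3 := hA (φ.symm ⟨Pi.single j 1, hN1 (he j)⟩)
      simp only [LinearEquiv.coe_coe, LinearEquiv.apply_symm_apply] at h2 h3
      rw [h2, Matrix.mulVec_mulVec, Matrix.mulVec_single_one] at h3
      have h4 := congrFun h3 i
      rw [Matrix.col_apply] at h4
      rw [← h4, Matrix.one_apply, Pi.single_apply]
    have h2 : (A * B).map (algebraMap ↥(integralClosure O K) K) =
        (1 : Matrix (Fin n) (Fin n) ↥(integralClosure O K)).map (algebraMap ↥(integralClosure O K) K) := by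
      rw [h1, Matrix.map_one _ (map_zero _) (map_one _)]
    exact Matrix.map_injective hinj h2
  exact ⟨⟨A, B, hAB, mul_eq_one_comm.1 hAB⟩, rfl⟩

end Groth.Agent.S15010
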