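import Groth.Statements.S15011
import Groth.Agent.TFCurv.K839.PrincRed
import Mathlib.Algebra.Module.SpanRankOperations

set_option autoImplicit false
universe u
open TFCurv

namespace Groth.Agent.S15011

/-- Let O be a one-dimensional Noetherian local domain with maximal ideal m and algebraically closed
residue field, whose integral closure O~ in its fraction field K is a finite O-module; put e =
length(O~/m O~), the multiplicity of O. Then a finitely generated torsion-free O-module of rank n
can be generated by at most n·e elements. -/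
theorem result (O : Type u) [CommRing O] [IsDomain O] [IsNoetherianRing O] [IsLocalRing O] (hdim : ringKrullDim O = 1) [IsAlgClosed (IsLocalRing.ResidueField O)] (K : Type u) [Field K] [Algebra O K] [IsFractionRing O K] (hfin : Module.Finite O ↥(integralClosure O K)) (M : Type u) [AddCommGroup M] [Module O M] [Module.Finite O M] [NoZeroSMulDivisors O M] (n : ℕ) (hn : Module.finrank K (TensorProduct O K M) = n) : ((⊤ : Submodule O M).spanFinrank : ℕ∞) ≤ (n : ℕ∞) * Module.length O (↥(integralClosure O K) ⧸ (IsLocalRing.maximalIdeal O) • (⊤ : Submodule O ↥(integralClosure O K))) := by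
  have : Infinite (IsLocalRing.ResidueField O) := inferInstance
  obtain ⟨φ, hφ, h1, h2⟩ := K839.Lattice.exists_embedding hdim.le hfin M n hn
  obtain ⟨x, hx, hxm⟩ := K839.PrincRed.exists_mem_span_eq (K := K) hdim.le hfin
    (IsLocalRing.maximalIdeal O)
  have hinj : Function.Injective (algebraMap O ↥(integralClosure O K)) := by
    intro a b hab
    exact FaithfulSMul.algebraMap_injective O K (congrArg Subtype.val hab)
  have hx0 : x ≠ 0 := by
    rintro rfl
    have h3 : (IsLocalRing.maximalIdeal O).map (algebraMap O ↥(integralClosure O K)) = ⊥ := by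
      rw [← hxm, map_zero]
      exact Ideal.span_singleton_eq_bot.2 rfl
    rw [Ideal.map_eq_bot_iff_of_injective hinj] at h3
    have h4 : IsField O := IsLocalRing.isField_iff_maximalIdeal_eq.2 h3
    rw [ringKrullDim_eq_zero_of_isField h4] at hdim
    exact absurd hdim (by norm_num)
  have : Ring.KrullDimLE 1 O := by
    rw [Ring.krullDimLE_iff]
    exact_mod_cast hdim.le
  have e1 : (⊤ : Submodule O M).spanFinrank = (LinearMap.range φ).spanFinrank := by
    rw [LinearMap.range_eq_map, Submodule.spanFinrank_map_eq_of_injective φ hφ]
  have hfg : (LinearMap.range φ).FG := by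
    rw [LinearMap.range_eq_map]
    exact Submodule.FG.map _ Module.Finite.fg_top
  have : Module.Finite O (LinearMap.range φ) := Module.Finite.iff_fg.2 hfg
  rw [e1, IsLocalRing.spanFinrank_eq_finrank_quotient _ hfg]
  let _ : Field (O ⧸ IsLocalRing.maximalIdeal O) := Ideal.Quotient.field _
  have : Module.Finite (O ⧸ IsLocalRing.maximalIdeal O)
      (↥(LinearMap.range φ) ⧸ (IsLocalRing.maximalIdeal O) • (⊤ : Submodule O ↥(LinearMap.range φ))) :=
    Module.Finite.of_restrictScalars_finite O _ _
  have e2 := Module.length_eq_finrank (O ⧸ IsLocalRing.maximalIdeal O)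
      (↥(LinearMap.range φ) ⧸ (IsLocalRing.maximalIdeal O) • (⊤ : Submodule O ↥(LinearMap.range φ)))
  rw [← e2, ← Module.length_eq_of_surjective (R := O ⧸ IsLocalRing.maximalIdeal O) (S := O)
    Ideal.Quotient.mk_surjective]
  open Pointwise in
  have h3 : x • (⊤ : Submodule O ↥(LinearMap.range φ)) ≤
      (IsLocalRing.maximalIdeal O) • (⊤ : Submodule O ↥(LinearMap.range φ)) := by
    intro y hy
    rw [Submodule.mem_smul_pointwise_iff_exists] at hy
    obtain ⟨z, hz, rfl⟩ := hy
    exact Submodule.smul_mem_smul hx hz
  refine (Module.length_le_of_surjective (Submodule.factor h3) (Submodule.factor_surjective h3)).trans ?_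
  refine (Groth.Agent.Ega2.KrullAkizuki.length_submodule_vectorSpace (K := K) x hx0 n
    (Fin n → K) (by simp) (LinearMap.range φ)).trans ?_
  have e3 : Ring.ord O x = Module.length O (O ⧸ Ideal.span {x}) := rfl
  rw [e3, K839.PrincRed.length_quot_eq (K := K) hdim.le hfin x hx0, hxm, Ideal.smul_top_eq_map]

end Groth.Agent.S15011
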