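import Groth.Statements.S15012
import Groth.Agent.TFCurv.K839.Gor

set_option autoImplicit false
universe u
open TFCurv

namespace Groth.Agent.S15012

/-- Let O be a one-dimensional Gorenstein local domain with algebraically closed residue field whose
integral closure O~ in its fraction field K is a finite O-module, and let C ⊆ O be the conductor of
O in O~. Every finitely generated torsion-free O-module of rank n is isomorphic to an O-submodule M'
of K^n with C^n ⊆ M' ⊆ O~^n and length(M'/C^n) = n · length(O/C); that is, every isomorphism class
of rank-n torsion-free modules is represented by a submodule of (O~/C)^n of the same length as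
(O/C)^n. -/
theorem result (O : Type u) [CommRing O] [IsDomain O] [LocCoh.IsGorensteinLocalRing O] (hdim : ringKrullDim O = 1) [IsAlgClosed (IsLocalRing.ResidueField O)] (K : Type u) [Field K] [Algebra O K] [IsFractionRing O K] (hfin : Module.Finite O ↥(integralClosure O K)) (M : Type u) [AddCommGroup M] [Module O M] [Module.Finite O M] [NoZeroSMulDivisors O M] (n : ℕ) (hn : Module.finrank K (TensorProduct O K M) = n) : ∃ M' : Submodule O (Fin n → K), Submodule.pi Set.univ (fun _ : Fin n => (((1 : Submodule O K).colon (Subalgebra.toSubmodule (integralClosure O K))) • (1 : Submodule O K))) ≤ M' ∧ M' ≤ Submodule.pi Set.univ (fun _ : Fin n => (Subalgebra.toSubmodule (integralClosure O K))) ∧ Nonempty (M ≃ₗ[O] ↥M') ∧ Module.length O (↥M' ⧸ Submodule.comap M'.subtype (Submodule.pi Set.univ (fun _ : Fin n => (((1 : Submodule O K).colon (Subalgebra.toSubmodule (integralClosure O K))) • (1 : Submodule O K))))) = (n : ℕ∞) * Module.length O (O ⧸ ((1 : Submodule O K).colon (Subalgebra.toSubmodule (integralClosure O K)))) := by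
  have hinf : Infinite (IsLocalRing.ResidueField O) := inferInstance
  obtain ⟨φ, hφ, h1, h2⟩ := K839.Lattice.exists_embedding hdim.le hfin M n hn
  have hfg : (LinearMap.range φ).FG := by
    rw [LinearMap.range_eq_map]
    exact Submodule.FG.map _ Module.Finite.fg_top
  obtain ⟨ψ, h3, h4, h5⟩ := K839.Gor.main hdim hfin n (LinearMap.range φ) hfg h1 h2
  have hinj : Function.Injective (ψ.toLinearMap.restrictScalars O) := ψ.injective
  have h6 := K839.Cond.colon_smul_one (integralClosure O K)
  rw [h6]
  refine ⟨(LinearMap.range φ).map (ψ.toLinearMap.restrictScalars O), h3, h4,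
    ⟨(LinearEquiv.ofInjective φ hφ).trans (Submodule.equivMapOfInjective _ hinj _)⟩, ?_⟩
  rw [K839.Cond.length_quot_colon', K839.Gor.rl_condK_one hdim hfin]
  exact h5

end Groth.Agent.S15012
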