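import Groth.Statements.S15017
import Mathlib.Algebra.Ring.Divisibility.Basic

set_option autoImplicit false
open TFCurv

namespace Groth.Agent.S15017

/-- Let Γ be a numerical semigroup (a submonoid of (ℕ, +) with finite complement), Γ ≠ ℕ, with conductor
c (every n ≥ c lies in Γ, c − 1 does not). If Γ is symmetric (for x < c, x is a gap exactly when c −
1 − x ∈ Γ) and has multiplicity greater than 2 (neither 1 nor 2 lies in Γ), then Γ is generated by
its elements smaller than c: every minimal generator of Γ is less than the conductor. -/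
theorem result (Γ : AddSubmonoid ℕ) (c : ℕ) (hc : ∀ n : ℕ, c ≤ n → n ∈ Γ) (hc0 : c ≠ 0) (hc1 : c - 1 ∉ Γ) (hsymm : ∀ x : ℕ, x < c → (x ∉ Γ ↔ c - 1 - x ∈ Γ)) (he : (1 : ℕ) ∉ Γ ∧ (2 : ℕ) ∉ Γ) : AddSubmonoid.closure {γ : ℕ | γ ∈ Γ ∧ γ < c} = Γ := by
  have h2c : 2 < c := by
    by_contra hcon
    push Not at hcon
    exact he.2 (hc 2 hcon)
  -- `c - 2` and `c - 3` lie in `Γ`
  have hm2 : c - 2 ∈ Γ := by
    have := (hsymm 1 (by omega)).1 he.1
    have h3 : c - 1 - 1 = c - 2 := by omega
    rwa [h3] at this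
  have hm3 : c - 3 ∈ Γ := by
    have := (hsymm 2 (by omega)).1 he.2
    have h3 : c - 1 - 2 = c - 3 := by omega
    rwa [h3] at this
  have hc3 : c ≠ 3 := by
    rintro rfl
    exact he.1 hm2
  have hdec : ∀ n : ℕ, c ≤ n → ∃ a b : ℕ, a ∈ Γ ∧ b ∈ Γ ∧ a ≠ 0 ∧ b ≠ 0 ∧ a + b = n := by
    intro n hn
    by_contra hcon
    push Not at hcon
    -- least nonzero element
    have hex : ∃ e, e ∈ Γ ∧ e ≠ 0 := ⟨c, hc c le_rfl, by omega⟩
    classical
    set e := Nat.find hex with hedef
    obtain ⟨heΓ, he0⟩ : e ∈ Γ ∧ e ≠ 0 := Nat.find_spec hex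
    have hemin : ∀ γ, γ ∈ Γ → γ ≠ 0 → e ≤ γ := fun γ hγ hγ0 => Nat.find_min' hex ⟨hγ, hγ0⟩
    have hemc : e ≤ c - 3 := hemin _ hm3 (by omega)
    have hnc : n < c + e := by
      by_contra hge
      push Not at hge
      exact hcon e (n - e) heΓ (hc _ (by omega)) he0 (by omega) (by omega)
    have hne : n - e ∉ Γ := fun h => hcon e (n - e) heΓ h he0 (by omega) (by omega)
    have hne2 := (hsymm (n - e) (by omega)).1 hne
    have hn1 : n = c - 1 + e := by
      by_contra hne3
      have := hemin _ hne2 (by omega)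
      omega
    -- every element of `Γ` below `c`, nonzero, stays in `Γ` after subtracting `e`
    have hsub : ∀ γ, γ ∈ Γ → γ ≠ 0 → γ < c → γ - e ∈ Γ := by
      intro γ hγ hγ0 hγc
      have h1 := hemin γ hγ hγ0
      have h2 : n - γ ∉ Γ := fun h => hcon γ (n - γ) hγ h hγ0 (by omega) (by omega)
      have h3 := (hsymm (n - γ) (by omega)).1 h2
      have h4 : c - 1 - (n - γ) = γ - e := by omega
      rwa [h4] at h3
    have hdvd : ∀ γ, γ ∈ Γ → γ < c → e ∣ γ := by
      intro γ
      induction γ using Nat.strong_induction_on with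
      | _ γ ih =>
        intro hγ hγc
        by_cases hγ0 : γ = 0
        · subst hγ0; exact dvd_zero _
        · have h1 := hemin γ hγ hγ0
          have h2 := ih (γ - e) (by omega) (hsub γ hγ hγ0 hγc) (by omega)
          have h3 : γ = γ - e + e := by omega
          rw [h3]
          exact dvd_add h2 dvd_rfl
    have hd2 := hdvd _ hm2 (by omega)
    have hd3 := hdvd _ hm3 (by omega)
    have h1 : e ∣ 1 := by
      have h2 : c - 2 = c - 3 + 1 := by omega
      rw [h2] at hd2
      exact (Nat.dvd_add_right hd3).1 hd2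
    have h2 : e = 1 := Nat.dvd_one.1 h1
    exact he.1 (h2 ▸ heΓ)
  apply le_antisymm
  · rw [AddSubmonoid.closure_le]
    rintro γ ⟨hγ, -⟩
    exact hγ
  · intro n
    induction n using Nat.strong_induction_on with
    | _ n ih =>
      intro hn
      by_cases hlt : n < c
      · exact AddSubmonoid.subset_closure ⟨hn, hlt⟩
      · push Not at hlt
        obtain ⟨a, b, ha, hb, ha0, hb0, rfl⟩ := hdec n hlt
        exact AddSubmonoid.add_mem _ (ih a (by omega) ha) (ih b (by omega) hb)

end Groth.Agent.S15017
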