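import Groth.Statements.S15018

set_option autoImplicit false
open TFCurv

namespace Groth.Agent.S15018

/-- Let Γ be a numerical semigroup (a submonoid of (ℕ, +) with finite complement), Γ ≠ ℕ, with conductor
c (every n ≥ c lies in Γ, c − 1 does not). Then Γ is symmetric (for x < c, x is a gap exactly when c
− 1 − x ∈ Γ) if and only if there is exactly one gap n of Γ such that Γ ∪ {n} is again stable under
adding elements of Γ, i.e. n + γ ∈ Γ for every nonzero γ ∈ Γ. -/
theorem result (Γ : AddSubmonoid ℕ) (c : ℕ) (hc : ∀ n : ℕ, c ≤ n → n ∈ Γ) (hc0 : c ≠ 0) (hc1 : c - 1 ∉ Γ) : (∀ x : ℕ, x < c → (x ∉ Γ ↔ c - 1 - x ∈ Γ)) ↔ ∃! n : ℕ, n ∉ Γ ∧ ∀ γ : ℕ, γ ∈ Γ → γ ≠ 0 → n + γ ∈ Γ := by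
  constructor
  · intro h
    refine ⟨c - 1, ⟨hc1, fun γ hγ hγ0 => hc _ (by omega)⟩, ?_⟩
    rintro n ⟨hn, hn'⟩
    have hlt : n < c := by
      by_contra hge
      push Not at hge
      exact hn (hc n hge)
    have h1 := (h n hlt).1 hn
    by_contra hne
    have h2 := hn' _ h1 (by omega)
    have h3 : n + (c - 1 - n) = c - 1 := by omega
    rw [h3] at h2
    exact hc1 h2
  · rintro ⟨n, ⟨hn, hn'⟩, huniq⟩ x hx
    have hn1 : c - 1 = n := huniq (c - 1) ⟨hc1, fun γ hγ hγ0 => hc _ (by omega)⟩
    constructor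
    · intro hxΓ
      by_contra hcon
      have hfin : ({y | y ∉ Γ ∧ c - 1 - y ∉ Γ} : Set ℕ).Finite :=
        (Set.finite_lt_nat c).subset (fun y hy => by
          by_contra hge
          simp only [Set.mem_setOf_eq, not_lt] at hge
          exact hy.1 (hc y hge))
      obtain ⟨m, ⟨hm1, hm2⟩, hmax⟩ := hfin.exists_maximal ⟨x, hxΓ, hcon⟩
      have hmc : m < c := by
        by_contra hge
        push Not at hge
        exact hm1 (hc m hge)
      have hm : m = n := huniq m ⟨hm1, fun γ hγ hγ0 => by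
        by_contra h1
        have h4 : m + γ < c := by
          by_contra hge
          push Not at hge
          exact h1 (hc _ hge)
        have h2 : c - 1 - (m + γ) ∈ Γ := by
          by_contra h3
          have := hmax (show m + γ ∈ {y | y ∉ Γ ∧ c - 1 - y ∉ Γ} from ⟨h1, h3⟩)
            (Nat.le_add_right _ _)
          omega
        have h5 := Γ.add_mem h2 hγ
        have h6 : c - 1 - (m + γ) + γ = c - 1 - m := by omega
        rw [h6] at h5
        exact hm2 h5⟩
      apply hm2
      rw [hm, ← hn1]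
      simp
    · intro h1 h2
      have h3 := Γ.add_mem h1 h2
      have h4 : c - 1 - x + x = c - 1 := by omega
      rw [h4] at h3
      exact hc1 h3

end Groth.Agent.S15018
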