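import Groth.Statements.S15019
import Mathlib.Order.Interval.Finset.Nat
import Mathlib.Data.Nat.ModEq

set_option autoImplicit false
open TFCurv

namespace Groth.Agent.S15019

/-- Let Γ be a numerical semigroup (a submonoid of (ℕ, +) with finite complement), Γ ≠ ℕ, with conductor
c (every n ≥ c lies in Γ, c − 1 does not), let e be its multiplicity (the least nonzero element of
Γ), and let S ⊆ ℕ be a Γ-module in normal form: 0 ∈ S and γ + s ∈ S for all γ ∈ Γ, s ∈ S. Then the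
set of gaps n of S with S ∪ {n} again a Γ-module (n + γ ∈ S for every nonzero γ ∈ Γ) has at most e −
1 elements, and so does the set of nonzero s ∈ S with S ∖ {s} again a Γ-module (s − γ ∉ S for every
nonzero γ ∈ Γ with γ ≤ s). -/
theorem result (Γ : AddSubmonoid ℕ) (c : ℕ) (hc : ∀ n : ℕ, c ≤ n → n ∈ Γ) (hc0 : c ≠ 0) (hc1 : c - 1 ∉ Γ) (e : ℕ) (he : e ∈ Γ) (he0 : e ≠ 0) (hemin : ∀ γ : ℕ, γ ∈ Γ → γ ≠ 0 → e ≤ γ) (S : Set ℕ) (hS0 : (0 : ℕ) ∈ S) (hS : ∀ γ : ℕ, γ ∈ Γ → ∀ s : ℕ, s ∈ S → γ + s ∈ S) : {n : ℕ | n ∉ S ∧ ∀ γ : ℕ, γ ∈ Γ → γ ≠ 0 → n + γ ∈ S}.encard ≤ ((e - 1 : ℕ) : ℕ∞) ∧ {s : ℕ | s ∈ S ∧ s ≠ 0 ∧ ∀ γ : ℕ, γ ∈ Γ → γ ≠ 0 → γ ≤ s → s - γ ∉ S}.encard ≤ ((e - 1 : ℕ) : ℕ∞) := by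
  have hmul : ∀ k : ℕ, k * e ∈ Γ := fun k => by
    simpa using Γ.nsmul_mem he k
  have key : ∀ a b : ℕ, a % e = b % e → a < b → ∃ γ, γ ∈ Γ ∧ γ ≠ 0 ∧ b = a + γ := by
    intro a b hab hlt
    refine ⟨b - a, ?_, by omega, by omega⟩
    have h1 : e ∣ b - a := (Nat.modEq_iff_dvd' hlt.le).1 hab
    obtain ⟨k, hk⟩ := h1
    rw [hk, mul_comm]
    exact hmul k
  have hcard : ∀ T : Set ℕ, Set.InjOn (fun n => n % e) T → (∀ n ∈ T, n % e ≠ 0) →
      T.encard ≤ ((e - 1 : ℕ) : ℕ∞) := by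
    intro T hinj h0
    have h1 : T.encard ≤ ((Finset.Ico 1 e : Finset ℕ) : Set ℕ).encard := by
      refine Set.encard_le_encard_of_injOn (f := fun n => n % e) ?_ hinj
      intro n hn
      simp only [Finset.coe_Ico, Set.mem_Ico]
      exact ⟨Nat.one_le_iff_ne_zero.2 (h0 n hn), Nat.mod_lt _ (Nat.pos_of_ne_zero he0)⟩
    rw [Set.encard_coe_eq_coe_finsetCard, Nat.card_Ico] at h1
    exact h1
  constructor
  · apply hcard
    · rintro a ⟨ha, ha'⟩ b ⟨hb, hb'⟩ hab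
      rcases lt_trichotomy a b with h | h | h
      · obtain ⟨γ, hγ, hγ0, rfl⟩ := key a b hab h
        exact absurd (ha' γ hγ hγ0) hb
      · exact h
      · obtain ⟨γ, hγ, hγ0, rfl⟩ := key b a hab.symm h
        exact absurd (hb' γ hγ hγ0) ha
    · rintro n ⟨hn, -⟩ h0
      obtain ⟨k, hk⟩ := Nat.dvd_of_mod_eq_zero h0
      apply hn
      rw [hk, mul_comm]
      simpa using hS _ (hmul k) 0 hS0
  · apply hcard
    · rintro a ⟨ha, ha0, ha'⟩ b ⟨hb, hb0, hb'⟩ hab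
      rcases lt_trichotomy a b with h | h | h
      · obtain ⟨γ, hγ, hγ0, rfl⟩ := key a b hab h
        exact absurd (by simpa using ha) (hb' γ hγ hγ0 (by omega))
      · exact h
      · obtain ⟨γ, hγ, hγ0, rfl⟩ := key b a hab.symm h
        exact absurd (by simpa using hb) (ha' γ hγ hγ0 (by omega))
    · rintro n ⟨hn, hn0, hn'⟩ h0
      obtain ⟨k, hk⟩ := Nat.dvd_of_mod_eq_zero h0
      have h1 : k * e = n := by rw [hk, mul_comm]
      have h2 := hn' (k * e) (hmul k) (by omega) (by omega)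
      apply h2
      rw [h1]
      simpa using hS0

end Groth.Agent.S15019
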