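import Groth.Statements.S15025
import Groth.Agent.TFCurv.K839.BaseChangeTors

set_option autoImplicit false
universe u
open CategoryTheory
open TFCurv

namespace Groth.Agent.S15025

/-- Let O be a one-dimensional Noetherian local domain with algebraically closed residue field whose
integral closure O~ in its fraction field K is a finite O-module, M a finitely generated
torsion-free O-module and g : M → O^n an injective O-linear map whose cokernel T' has finite length.
Then the torsion submodule of O~ ⊗_O M is O-linearly isomorphic to Tor_1^O(O~, T') (existence of an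
isomorphism only). -/
theorem result (O : Type u) [CommRing O] [IsDomain O] [IsNoetherianRing O] [IsLocalRing O] (hdim : ringKrullDim O = 1) [IsAlgClosed (IsLocalRing.ResidueField O)] (K : Type u) [Field K] [Algebra O K] [IsFractionRing O K] (hfin : Module.Finite O ↥(integralClosure O K)) (M : Type u) [AddCommGroup M] [Module O M] [Module.Finite O M] [NoZeroSMulDivisors O M] (n : ℕ) (g : M →ₗ[O] (Fin n → O)) (hg : Function.Injective g) (hT : IsFiniteLength O ((Fin n → O) ⧸ LinearMap.range g)) : Nonempty (↥(Submodule.torsion O (TensorProduct O ↥(integralClosure O K) M)) ≃ₗ[O] ↑(((Tor (ModuleCat.{u} O) 1).obj (ModuleCat.of O ↥(integralClosure O K))).obj (ModuleCat.of O ((Fin n → O) ⧸ LinearMap.range g)))) := by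
  obtain ⟨a, μ, ha, hμ⟩ := K839.BaseChangeTors.exists_mu (integralClosure O K) hfin
  have hinj : Function.Injective (algebraMap O (integralClosure O K)) := fun x y hxy =>
    IsFractionRing.injective O K (congrArg Subtype.val hxy)
  exact ⟨(LinearEquiv.ofEq _ _ (K839.BaseChangeTors.torsion_eq_ker hinj g hg ha μ hμ)) ≪≫ₗ
    K839.TorOne.torOneEquiv (↥(integralClosure O K)) g hg⟩

end Groth.Agent.S15025
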