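import Groth.Statements.S15026
import Groth.Agent.TFCurv.K839.Top1
import Groth.Agent.S1585
import Groth.Agent.VarietyA.InvDescend

set_option autoImplicit false
universe u
open CategoryTheory CategoryTheory.Limits AlgebraicGeometry
open TFCurv

namespace Groth.Agent.S15026

/-- Let X be an integral proper curve (integral, proper, of dimension one) over an algebraically closed
field k, with normalisation ν : X~ → X. Then every invertible module N on X~ is isomorphic to ν^*L
for some invertible module L on X: the pullback map Pic(X) → Pic(X~) is surjective. (The published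
statement is the short exact sequence 0 → ⊕_x O~_x^×/O_x^× → Pic(X) → Pic(X~) → 0; only its
surjectivity is stated here.) -/
theorem result (k : Type u) [Field k] [IsAlgClosed k] (X : Scheme.{u}) [X.Over (Spec (CommRingCat.of k))] [IsIntegral X] [IsProper (X ↘ Spec (CommRingCat.of k))] (hdim : topologicalKrullDim X = 1) [QuasiCompact (X.fromSpecStalk (genericPoint X))] [QuasiSeparated (X.fromSpecStalk (genericPoint X))] (N : (Curv2.normalization X).Modules) (hN : PicF.IsInvertible N) : ∃ L : X.Modules, PicF.IsInvertible L ∧ Nonempty ((Scheme.Modules.pullback (Curv2.normalizationι X)).obj L ≅ N) := by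
  obtain ⟨h1, -, ⟨V, hV, hVi⟩, -, -⟩ := Groth.Agent.S1585.result k X
  have : IsNoetherian X := by
    have : IsLocallyNoetherian X := LocallyOfFiniteType.isLocallyNoetherian (X ↘ Spec (CommRingCat.of k))
    have : CompactSpace X := (quasiCompact_iff_compactSpace (X ↘ Spec (CommRingCat.of k))).mp inferInstance
    exact {}
  have hg : genericPoint X ∈ (V : Set X) := by
    exact ((genericPoint_spec X).mem_open_set_iff V.2).2 (by simpa using hV)
  have hd : DiscreteTopology ((V : Set X)ᶜ : Set X) :=
    K839.Top1.discreteTopology hdim.le V.2.isClosed_compl (fun h => h hg)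
  exact Groth.Agent.VarietyA.InvDescend.exists_pullback_iso (Curv2.normalizationι X) V hVi hd N hN

end Groth.Agent.S15026
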