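import Groth.Statements.S15028
import Groth.Agent.CurvesB.TriT208C
import Groth.Agent.Dcoh.StalkMod

set_option autoImplicit false
universe u
open CategoryTheory CategoryTheory.Limits AlgebraicGeometry
open TFCurv

namespace Groth.Agent.S15028

/-- Let X be an integral proper curve (integral, proper, of dimension one) over an algebraically closed
field k, and let f : E → F be a monomorphism of coherent torsion-free O_X-modules which is
generically an isomorphism (the stalk of its cokernel at the generic point vanishes), with E of rank
n at the generic point. Then deg E ≤ deg F, degrees being taken as modules of rank n (Euler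
characteristic minus n times that of O_X), and equality holds if and only if f is an isomorphism.
(The published statement covers in the same words bundles with parabolic structure and a weight α <
1; only the case without parabolic structure is stated here.) -/
theorem result (k : Type u) [Field k] [IsAlgClosed k] (X : Scheme.{u}) [X.Over (Spec (CommRingCat.of k))] [IsIntegral X] [IsProper (X ↘ Spec (CommRingCat.of k))] (hdim : topologicalKrullDim X = 1) (E F : X.Modules) (hEc : Coh.IsCoh E) (hFc : Coh.IsCoh F) (hEt : TorSh.IsTorsionFree E) (hFt : TorSh.IsTorsionFree F) (n : ℕ) (hn : Module.finrank (X.presheaf.stalk (genericPoint X)) (E.presheaf.stalk (genericPoint X)) = n) (f : E ⟶ F) [Mono f] (hgen : Subsingleton ((cokernel f).presheaf.stalk (genericPoint X))) : Curv2.deg k X E n ≤ Curv2.deg k X F n ∧ (Curv2.deg k X E n = Curv2.deg k X F n ↔ IsIso f) := by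
  have hN := Groth.Agent.Fga.SnapperTwist.isNoetherian_of_proper k X
  have hC : Coh.IsCoh (cokernel f) := Groth.Agent.Ega3B.DevQC.isCoh_cokernel f hEc.1 hFc
  have hs : Groth.Agent.CurvesB.SubH1.IsSmall (cokernel f) := by
    intro ξ hξ
    have h1 : genericPoint X = ξ := hξ _ (genericPoint_specializes ξ)
    exact h1 ▸ hgen
  have hadd := Groth.Agent.S1524.result k X (ShortComplex.mk f (cokernel.π f) (cokernel.condition f))
    { exact := ShortComplex.exact_cokernel f
      mono_f := inferInstance
      epi_g := inferInstance } hEc hFc hC
  dsimp only at hadd
  have h0 := Groth.Agent.CurvesB.TriT208.euler_nonneg k hdim.le hC hs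
  unfold Curv2.deg
  refine ⟨by linarith, ⟨fun h => ?_, fun h => ?_⟩⟩
  · have h1 : Curv2.euler k X (cokernel f) ≤ 0 := by linarith
    have h2 := Groth.Agent.CurvesB.TriT208.subsingleton_of_euler_le k hdim.le hC hs h1
    have h3 : IsZero (cokernel f) := Groth.Agent.Dcoh.StalkMod.isZero_of_subsingleton _ h2
    have h4 : Epi f := by
      rw [Preadditive.epi_iff_cancel_zero]
      intro P g hg
      have h5 : g = cokernel.π f ≫ cokernel.desc f g hg := (cokernel.π_desc f g hg).symm
      rw [h5, h3.eq_zero_of_tgt (cokernel.π f), zero_comp]
    exact isIso_of_mono_of_epi f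
  · rw [Groth.Agent.VarietyA.DegRank.euler_iso k (asIso f)]

end Groth.Agent.S15028
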