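import Groth.Statements.S15036
-- import your own Groth.Agent.* helpers here

set_option autoImplicit false
open TFCurv

namespace Groth.Agent.S15036

/-- Let Γ be a numerical semigroup (a submonoid of (ℕ, +) with finite complement), Γ ≠ ℕ, with conductor
c (every n ≥ c lies in Γ, c − 1 does not); let S ⊆ ℕ be a Γ-module in normal form (0 ∈ S, γ + s ∈ S
for γ ∈ Γ, s ∈ S) with conductor c(S) (all n ≥ c(S) in S, c(S) − 1 ∉ S), and let s be a gap of S
such that S ∪ {s} is again a Γ-module. Enumerate S increasingly as s_0 < s_1 < ⋯ and put τ_i(S) =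
s_i + ℓ(S), where ℓ counts the gaps of Γ filled; since ℓ(S ∪ {s}) = ℓ(S) + 1, the termwise
comparison τ(S) ≤ τ(S ∪ {s}) says that the i-th element of S is at most one more than the i-th
element of S ∪ {s} for every i. This holds if and only if s = c(S) − 1, the largest gap of S. -/
theorem result (Γ : AddSubmonoid ℕ) (c : ℕ) (hc : ∀ n : ℕ, c ≤ n → n ∈ Γ) (hc0 : c ≠ 0) (hc1 : c - 1 ∉ Γ) (S : Set ℕ) (hS0 : (0 : ℕ) ∈ S) (hS : ∀ γ : ℕ, γ ∈ Γ → ∀ s : ℕ, s ∈ S → γ + s ∈ S) (cS : ℕ) (hcS : ∀ n : ℕ, cS ≤ n → n ∈ S) (hcS0 : cS ≠ 0) (hcS1 : cS - 1 ∉ S) (s : ℕ) (hs : s ∉ S) (hs' : ∀ γ : ℕ, γ ∈ Γ → γ ≠ 0 → s + γ ∈ S) : (∀ i : ℕ, Nat.nth (fun m => m ∈ S) i ≤ Nat.nth (fun m => m ∈ insert s S) i + 1) ↔ s + 1 = cS := by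
  classical
  have hinf : ∀ T : Set ℕ, (∀ n : ℕ, cS ≤ n → n ∈ T) → (Set.ofPred (fun m => m ∈ T)).Infinite := by
    intro T hT
    refine Set.infinite_of_forall_exists_gt (fun a => ⟨max (a + 1) cS, hT _ (le_max_right _ _), ?_⟩)
    exact lt_of_lt_of_le (Nat.lt_succ_self a) (le_max_left _ _)
  have hinfS := hinf S hcS
  have hinfS' := hinf (insert s S) (fun n hn => Or.inr (hcS n hn))
  have hcount : ∀ n, Nat.count (fun m => m ∈ insert s S) n =
      Nat.count (fun m => m ∈ S) n + (if s < n then 1 else 0) := by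
    intro n
    induction n with
    | zero => simp
    | succ n ih =>
      rw [Nat.count_succ, Nat.count_succ, ih]
      by_cases h1 : s < n
      · have h2 : n ≠ s := by omega
        have h3 : (n ∈ insert s S) ↔ n ∈ S := by simp [Set.mem_insert_iff, h2]
        simp only [h3, h1, if_true, Nat.lt_succ_of_lt h1]
        omega
      · by_cases h2 : n = s
        · subst h2
          simp [hs]
        · have h3 : (n ∈ insert s S) ↔ n ∈ S := by simp [Set.mem_insert_iff, h2]
          have h4 : ¬ s < n + 1 := by omega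
          simp [h3, h1, h4]
  have key : (∀ i : ℕ, Nat.nth (fun m => m ∈ S) i ≤ Nat.nth (fun m => m ∈ insert s S) i + 1) ↔
      ∀ n, s < n → n ∈ S := by
    constructor
    · intro h n hn
      by_contra hnS
      have h1 := hcount n
      rw [if_pos hn] at h1
      have h2 : Nat.count (fun m => m ∈ S) n < Nat.count (fun m => m ∈ insert s S) n := by omega
      rw [Nat.lt_nth_iff_count_lt hinfS'] at h2
      have h3 := h (Nat.count (fun m => m ∈ S) n)
      have h4 : Nat.nth (fun m => m ∈ S) (Nat.count (fun m => m ∈ S) n) < n + 1 := by omega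
      rw [← Nat.lt_nth_iff_count_lt hinfS, Nat.count_succ, if_neg hnS] at h4
      omega
    · intro h i
      have h1 : Nat.nth (fun m => m ∈ insert s S) i < Nat.nth (fun m => m ∈ insert s S) i + 1 :=
        Nat.lt_succ_self _
      rw [← Nat.lt_nth_iff_count_lt hinfS', hcount] at h1
      set n := Nat.nth (fun m => m ∈ insert s S) i + 1 with hn
      have h2 : i < Nat.count (fun m => m ∈ S) (n + 1) := by
        rw [Nat.count_succ]
        by_cases h3 : s < n
        · rw [if_pos h3] at h1
          rw [if_pos (h n h3)]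
          exact h1
        · rw [if_neg h3] at h1
          omega
      rw [Nat.lt_nth_iff_count_lt hinfS] at h2
      omega
  rw [key]
  constructor
  · intro h
    have h1 : ¬ (s < cS - 1) := fun hlt => hcS1 (h _ hlt)
    have h2 : s < cS := by
      by_contra hlt
      exact hs (hcS s (by omega))
    omega
  · intro h n hn
    exact hcS n (by omega)

end Groth.Agent.S15036
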