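import Groth.Statements.S15037
-- import your own Groth.Agent.* helpers here

set_option autoImplicit false
open TFCurv

namespace Groth.Agent.S15037

/-- Let Γ be a numerical semigroup (a submonoid of (ℕ, +) with finite complement), Γ ≠ ℕ, with conductor
c (every n ≥ c lies in Γ, c − 1 does not); let S and S' ⊆ ℕ be Γ-modules in normal form with
conductors c(S), c(S'), let δ(S), δ(S') be their numbers of gaps and r(S), r(S') their numbers of
elements below the conductor, and enumerate them increasingly as s_i, s'_i (i ≥ 0). With τ_i(S) =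
s_i + ℓ(S) and ℓ(S) = δ(Γ) − δ(S), the termwise order τ(S) ≤ τ(S') reads s_i + δ(S') ≤ s'_i + δ(S)
for all i. It holds if and only if r(S') ≤ r(S) and s_i + δ(S') ≤ s'_i + δ(S) for all i < r(S')
(beyond r(S) the entries τ_i(S) = i + δ(Γ) are the largest possible). -/
theorem result (Γ : AddSubmonoid ℕ) (c : ℕ) (hc : ∀ n : ℕ, c ≤ n → n ∈ Γ) (hc0 : c ≠ 0) (hc1 : c - 1 ∉ Γ) (S : Set ℕ) (hS0 : (0 : ℕ) ∈ S) (hS : ∀ γ : ℕ, γ ∈ Γ → ∀ s : ℕ, s ∈ S → γ + s ∈ S) (cS : ℕ) (hcS : ∀ n : ℕ, cS ≤ n → n ∈ S) (hcS1 : cS = 0 ∨ cS - 1 ∉ S) (S' : Set ℕ) (hS'0 : (0 : ℕ) ∈ S') (hS' : ∀ γ : ℕ, γ ∈ Γ → ∀ s : ℕ, s ∈ S' → γ + s ∈ S') (cS' : ℕ) (hcS' : ∀ n : ℕ, cS' ≤ n → n ∈ S') (hcS'1 : cS' = 0 ∨ cS' - 1 ∉ S') : (∀ i : ℕ, Nat.nth (fun m => m ∈ S) i + S'ᶜ.ncard ≤ Nat.nth (fun m => m ∈ S') i + Sᶜ.ncard) ↔ ((S' ∩ Set.Iio cS').ncard ≤ (S ∩ Set.Iio cS).ncard ∧ ∀ i : ℕ, i < (S' ∩ Set.Iio cS').ncard → Nat.nth (fun m => m ∈ S) i +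 S'ᶜ.ncard ≤ Nat.nth (fun m => m ∈ S') i + Sᶜ.ncard) := by
  classical
  have hinf : ∀ (T : Set ℕ) (cT : ℕ), (∀ n : ℕ, cT ≤ n → n ∈ T) →
      (Set.ofPred (fun m => m ∈ T)).Infinite := by
    intro T cT hT
    refine Set.infinite_of_forall_exists_gt (fun a => ⟨max (a + 1) cT, hT _ (le_max_right _ _), ?_⟩)
    exact lt_of_lt_of_le (Nat.lt_succ_self a) (le_max_left _ _)
  have hF0 : ∀ (T : Set ℕ) (n : ℕ), (T ∩ Set.Iio n).ncard = Nat.count (fun m => m ∈ T) n := by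
    intro T n
    rw [Nat.count_eq_card_filter_range, ← Set.ncard_coe_finset]
    congr 1
    ext x
    simp [and_comm]
  have hF1 : ∀ (T : Set ℕ) (n : ℕ), Nat.count (fun m => m ∈ T) n + (Set.Iio n \ T).ncard = n := by
    intro T n
    have h := Set.ncard_inter_add_ncard_sdiff_eq_ncard (Set.Iio n) T (Set.finite_Iio n)
    rw [Set.inter_comm, hF0] at h
    rw [h, ← Finset.coe_Iio, Set.ncard_coe_finset, Nat.card_Iio]
  have hfin : ∀ (T : Set ℕ) (cT : ℕ), (∀ n : ℕ, cT ≤ n → n ∈ T) → (Tᶜ).Finite := by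
    intro T cT hT
    refine (Set.finite_Iio cT).subset (fun x hx => ?_)
    by_contra h
    exact hx (hT x (by simpa using h))
  have hF2 : ∀ (T : Set ℕ) (cT : ℕ), (∀ n : ℕ, cT ≤ n → n ∈ T) → ∀ n, cT ≤ n →
      Nat.count (fun m => m ∈ T) n + Tᶜ.ncard = n := by
    intro T cT hT n hn
    have h := hF1 T n
    have h2 : Set.Iio n \ T = Tᶜ := by
      ext x
      constructor
      · rintro ⟨-, h⟩
        exact h
      · intro h
        refine ⟨?_, h⟩
        by_contra h'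
        exact h (hT x (le_trans hn (by simpa using h')))
    rwa [h2] at h
  have hF3 : ∀ (T : Set ℕ) (cT : ℕ), (∀ n : ℕ, cT ≤ n → n ∈ T) → ∀ n,
      n ≤ Nat.count (fun m => m ∈ T) n + Tᶜ.ncard := by
    intro T cT hT n
    have h := hF1 T n
    have h2 : (Set.Iio n \ T).ncard ≤ Tᶜ.ncard :=
      Set.ncard_le_ncard (fun x hx => hx.2) (hfin T cT hT)
    omega
  have hK4 : ∀ (T : Set ℕ) (cT : ℕ), (∀ n : ℕ, cT ≤ n → n ∈ T) → ∀ i,
      Nat.nth (fun m => m ∈ T) i ≤ i + Tᶜ.ncard := by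
    intro T cT hT i
    have h1 : i < Nat.count (fun m => m ∈ T) (i + Tᶜ.ncard + 1) := by
      have := hF3 T cT hT (i + Tᶜ.ncard + 1)
      omega
    rw [Nat.lt_nth_iff_count_lt (hinf T cT hT)] at h1
    omega
  have hK3 : ∀ (T : Set ℕ) (cT : ℕ), (∀ n : ℕ, cT ≤ n → n ∈ T) → ∀ i,
      (T ∩ Set.Iio cT).ncard ≤ i → Nat.nth (fun m => m ∈ T) i = i + Tᶜ.ncard := by
    intro T cT hT i hi
    refine le_antisymm (hK4 T cT hT i) ?_
    rw [← Nat.count_le_iff_le_nth (hinf T cT hT)]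
    have h0 := hF2 T cT hT cT le_rfl
    rw [hF0] at hi
    have h1 := hF2 T cT hT (i + Tᶜ.ncard) (by omega)
    omega
  constructor
  · intro h
    refine ⟨?_, fun i _ => h i⟩
    by_contra hlt
    push Not at hlt
    have hpos : 0 < (S' ∩ Set.Iio cS').ncard := by omega
    have hcpos : cS' ≠ 0 := by
      rintro rfl
      simp at hpos
    have hnot : cS' - 1 ∉ S' := hcS'1.resolve_left hcpos
    set r' := (S' ∩ Set.Iio cS').ncard with hr'
    have h1 := h (r' - 1)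
    rw [hK3 S cS hcS (r' - 1) (by omega)] at h1
    have h2 : r' - 1 < Nat.count (fun m => m ∈ S') cS' := by
      rw [← hF0]
      omega
    rw [Nat.lt_nth_iff_count_lt (hinf S' cS' hcS')] at h2
    have h3 : Nat.nth (fun m => m ∈ S') (r' - 1) ∈ S' :=
      Nat.nth_mem_of_infinite (hinf S' cS' hcS') _
    have h4 : Nat.nth (fun m => m ∈ S') (r' - 1) ≠ cS' - 1 := fun he => hnot (he ▸ h3)
    have h5 := hF2 S' cS' hcS' cS' le_rfl
    rw [← hF0] at h5
    omega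
  · rintro ⟨-, h⟩ i
    by_cases hi : i < (S' ∩ Set.Iio cS').ncard
    · exact h i hi
    · push Not at hi
      rw [hK3 S' cS' hcS' i hi]
      have := hK4 S cS hcS i
      omega

end Groth.Agent.S15037
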