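import Groth.Statements.S15038
-- import your own Groth.Agent.* helpers here

set_option autoImplicit false
open TFCurv

namespace Groth.Agent.S15038

/-- Let Γ be a numerical semigroup (a submonoid of (ℕ, +) with finite complement), Γ ≠ ℕ, with conductor
c (every n ≥ c lies in Γ, c − 1 does not). If Γ is symmetric (for x < c, x is a gap exactly when c −
1 − x ∈ Γ) and its multiplicity e, the least nonzero element of Γ, is greater than 2, then Γ is
generated as an additive monoid by at most e − 1 elements. -/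
theorem result (Γ : AddSubmonoid ℕ) (c : ℕ) (hc : ∀ n : ℕ, c ≤ n → n ∈ Γ) (hc0 : c ≠ 0) (hc1 : c - 1 ∉ Γ) (hsymm : ∀ x : ℕ, x < c → (x ∉ Γ ↔ c - 1 - x ∈ Γ)) (e : ℕ) (he : e ∈ Γ) (he0 : e ≠ 0) (hemin : ∀ γ : ℕ, γ ∈ Γ → γ ≠ 0 → e ≤ γ) (he2 : 2 < e) : ∃ G : Finset ℕ, G.card ≤ e - 1 ∧ AddSubmonoid.closure (↑G : Set ℕ) = Γ := by
  classical
  have he_pos : 0 < e := Nat.pos_of_ne_zero he0
  -- multiples
  have hmul : ∀ k : ℕ, k * e ∈ Γ := fun k => by
    have := Γ.nsmul_mem he k
    simpa [smul_eq_mul] using this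
  have hex : ∀ r : ℕ, ∃ n, n ∈ Γ ∧ n % e = r % e := by
    intro r
    refine ⟨r + c * e, hc _ ?_, by simp⟩
    calc c = c * 1 := (mul_one c).symm
      _ ≤ c * e := Nat.mul_le_mul_left c he_pos
      _ ≤ r + c * e := Nat.le_add_left _ _
  let w : ℕ → ℕ := fun r => Nat.find (hex r)
  have hwmem : ∀ r, w r ∈ Γ := fun r => (Nat.find_spec (hex r)).1
  have hwmod : ∀ r, w r % e = r % e := fun r => (Nat.find_spec (hex r)).2
  have hwmin : ∀ r n, n ∈ Γ → n % e = r % e → w r ≤ n := fun r n h1 h2 =>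
    Nat.find_min' (hex r) ⟨h1, h2⟩
  have hsub : ∀ r, ∀ k, w r < k + e → e ≤ w r → w r - e ∉ Γ := by
    intro r k _ h1 h2
    have h3 := hwmin r _ h2 (by
      rw [← hwmod r]
      conv_rhs => rw [← Nat.sub_add_cancel h1]
      simp)
    omega
  have hce : c - 1 + e ∈ Γ := hc _ (by omega)
  have hcw : w (c - 1) = c - 1 + e := by
    refine le_antisymm (hwmin _ _ hce (by simp)) ?_
    by_contra hlt
    push Not at hlt
    -- w (c-1) ≡ c-1 mod e and w (c-1) < c-1+e so w (c-1) ≤ c-1
    have hmod := hwmod (c - 1)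
    have hle : w (c - 1) ≤ c - 1 := by
      by_contra hgt
      push Not at hgt
      have h1 : w (c - 1) = (c - 1) + (w (c - 1) - (c - 1)) := by omega
      have h2 : (w (c - 1) - (c - 1)) % e = 0 := by
        have h3 : (c - 1) ≡ w (c - 1) [MOD e] := hmod.symm
        exact Nat.mod_eq_zero_of_dvd ((Nat.modEq_iff_dvd' hgt.le).1 h3)
      have h4 : w (c - 1) - (c - 1) < e := by omega
      rw [Nat.mod_eq_of_lt h4] at h2
      omega
    have h3 : w (c - 1) ≡ (c - 1) [MOD e] := hmod
    obtain ⟨q, hq⟩ := (Nat.modEq_iff_dvd' hle).1 h3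
    apply hc1
    have h5 : c - 1 = w (c - 1) + q * e := by
      rw [mul_comm q e, ← hq]; omega
    rw [h5]
    exact Γ.add_mem (hwmem _) (hmul q)
  have hcmod : (c - 1) % e ≠ 0 := by
    intro h0
    apply hc1
    have h5 : c - 1 = ((c - 1) / e) * e := (Nat.div_mul_cancel (Nat.dvd_of_mod_eq_zero h0)).symm
    rw [h5]
    exact hmul _
  have hcmod' : (c - 1) % e < e := Nat.mod_lt _ he_pos
  have hwper : ∀ r, w r = w (r % e) := by
    intro r
    exact le_antisymm (hwmin _ _ (hwmem _) (by rw [hwmod]; simp))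
      (hwmin _ _ (hwmem _) (by rw [hwmod]; simp))
  have hw0 : w 0 = 0 := Nat.le_zero.1 (hwmin 0 0 Γ.zero_mem rfl)
  let G : Finset ℕ := insert e ((((Finset.range e).erase 0).erase ((c - 1) % e)).image w)
  have heG : e ∈ AddSubmonoid.closure (↑G : Set ℕ) :=
    AddSubmonoid.subset_closure (by simp [G])
  have hmulG : ∀ k : ℕ, k * e ∈ AddSubmonoid.closure (↑G : Set ℕ) := fun k => by
    have := (AddSubmonoid.closure (↑G : Set ℕ)).nsmul_mem heG k
    simpa [smul_eq_mul] using this
  have hwG : ∀ r, r % e ≠ (c - 1) % e → w r ∈ AddSubmonoid.closure (↑G : Set ℕ) := by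
    intro r hr
    rw [hwper]
    by_cases h0 : r % e = 0
    · rw [h0, hw0]
      exact zero_mem _
    · refine AddSubmonoid.subset_closure ?_
      simp only [G, Finset.coe_insert, Finset.coe_image]
      refine Or.inr ⟨r % e, ?_, rfl⟩
      simp only [Finset.mem_coe, Finset.mem_erase, Finset.mem_range]
      exact ⟨hr, h0, Nat.mod_lt _ he_pos⟩
  have hdecomp : ∀ γ ∈ Γ, ∃ q, γ = w γ + q * e := by
    intro γ hγ
    have hle : w γ ≤ γ := hwmin γ γ hγ rfl
    have h3 : w γ ≡ γ [MOD e] := hwmod γ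
    obtain ⟨q, hq⟩ := (Nat.modEq_iff_dvd' hle).1 h3
    exact ⟨q, by rw [mul_comm q e, ← hq]; omega⟩
  -- elements of Γ smaller than c - 1 + e
  have hsmall : ∀ γ ∈ Γ, γ < c - 1 + e → γ ∈ AddSubmonoid.closure (↑G : Set ℕ) := by
    intro γ hγ hlt
    obtain ⟨q, hq⟩ := hdecomp γ hγ
    rw [hq]
    refine add_mem (hwG γ ?_) (hmulG q)
    intro hmod
    have h1 : w γ = c - 1 + e := by rw [hwper, hmod, ← hwper, hcw]
    have h2 := hwmin γ γ hγ rfl
    omega
  -- a residue different from 0 and (c-1) % e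
  obtain ⟨s, hs, hs0, hsc⟩ : ∃ s, s < e ∧ s ≠ 0 ∧ s ≠ (c - 1) % e := by
    by_cases h1 : (c - 1) % e = 1
    · exact ⟨2, he2, by omega, by omega⟩
    · exact ⟨1, by omega, by omega, fun h => h1 h.symm⟩
  have hws0 : w s ≠ 0 := by
    intro h0
    have := hwmod s
    rw [h0, Nat.zero_mod, Nat.mod_eq_of_lt hs] at this
    exact hs0 this.symm
  have hwse : e ≤ w s := hemin _ (hwmem s) hws0
  have hwsne : w s ≠ c - 1 + e := by
    intro h0
    have h1 := hwmod s
    rw [h0, Nat.add_mod_right, Nat.mod_eq_of_lt hs] at h1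
    exact hsc h1.symm
  have hnot : w s - e ∉ Γ := hsub s (w s) (by omega) hwse
  have hltc : w s - e < c := by
    by_contra h
    exact hnot (hc _ (by omega))
  have hv : c - 1 - (w s - e) ∈ Γ := (hsymm _ hltc).1 hnot
  have htop : c - 1 + e ∈ AddSubmonoid.closure (↑G : Set ℕ) := by
    have h1 : c - 1 + e = (c - 1 - (w s - e)) + w s := by omega
    rw [h1]
    exact add_mem (hsmall _ hv (by omega)) (hsmall _ (hwmem s) (by omega))
  refine ⟨G, ?_, ?_⟩
  · calc G.card ≤ ((((Finset.range e).erase 0).erase ((c - 1) % e)).image w).card + 1 :=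
        Finset.card_insert_le _ _
      _ ≤ (((Finset.range e).erase 0).erase ((c - 1) % e)).card + 1 :=
        Nat.add_le_add_right Finset.card_image_le 1
      _ = e - 1 := by
        rw [Finset.card_erase_of_mem, Finset.card_erase_of_mem, Finset.card_range]
        · omega
        · simpa using he_pos
        · simp only [Finset.mem_erase, Finset.mem_range]
          exact ⟨hcmod, hcmod'⟩
  · apply le_antisymm
    · rw [AddSubmonoid.closure_le]
      intro x hx
      simp only [G, Finset.coe_insert, Finset.coe_image] at hx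
      rcases hx with rfl | ⟨r, -, rfl⟩
      · exact he
      · exact hwmem r
    · intro γ hγ
      obtain ⟨q, hq⟩ := hdecomp γ hγ
      rw [hq]
      refine add_mem ?_ (hmulG q)
      by_cases h : γ % e = (c - 1) % e
      · rw [hwper, h, ← hwper, hcw]
        exact htop
      · exact hwG γ h

end Groth.Agent.S15038
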