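import Groth.Statements.S15047
import Groth.Agent.S1156
import Mathlib.RingTheory.Flat.FaithfullyFlat.Algebra
-- import your own Groth.Agent.* helpers here

set_option autoImplicit false
universe u
open TensorProduct
open Desc

namespace Groth.Agent.S15047

/-- Let A → A' be a faithfully flat homomorphism of commutative rings and M, N any A-modules. An
A'-linear map f : A' ⊗_A M → A' ⊗_A N whose two base changes to A' ⊗_A A' (along a ↦ a ⊗ 1 and a ↦ 1
⊗ a) coincide is the base change of a unique A-linear map h : M → N. Since (A' ⊗_A A') ⊗_A M is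
generated over A' ⊗_A A' by the elements 1 ⊗ m, the agreement of the two base changes is stated on
these generators: for every m, the two images of f (1 ⊗ m) in (A' ⊗_A A') ⊗_A N agree. Equivalently,
the sequence Hom_A(M, N) → Hom_{A'}(A' ⊗ M, A' ⊗ N) ⇉ Hom_{A' ⊗ A'}(A' ⊗ A' ⊗ M, A' ⊗ A' ⊗ N) is an
equalizer diagram. -/
theorem result (A A' : Type u) [CommRing A] [CommRing A'] [Algebra A A']
    [Module.FaithfullyFlat A A'] (M N : Type u) [AddCommGroup M] [Module A M] [AddCommGroup N] [Module A N]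
    (f : A' ⊗[A] M →ₗ[A'] A' ⊗[A] N)
    (hf : ∀ m : M,
      LinearMap.rTensor N (Algebra.TensorProduct.includeLeft : A' →ₐ[A] A' ⊗[A] A').toLinearMap (f (1 ⊗ₜ[A] m)) =
        LinearMap.rTensor N (Algebra.TensorProduct.includeRight : A' →ₐ[A] A' ⊗[A] A').toLinearMap (f (1 ⊗ₜ[A] m))) :
    ∃! h : M →ₗ[A] N, h.baseChange A' = f := by
  have hinj : Function.Injective (TensorProduct.mk A A' N 1) :=
    Module.FaithfullyFlat.tensorProduct_mk_injective N
  have hL : ∀ t : A' ⊗[A] N, TensorProduct.assoc A A' A' N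
      (LinearMap.rTensor N (Algebra.TensorProduct.includeLeft : A' →ₐ[A] A' ⊗[A] A').toLinearMap t) =
      LinearMap.lTensor A' (TensorProduct.mk A A' N 1) t := by
    intro t
    induction t with
    | zero => simp
    | add x y hx hy => simp only [map_add, hx, hy]
    | tmul x n => simp
  have hR : ∀ t : A' ⊗[A] N, TensorProduct.assoc A A' A' N
      (LinearMap.rTensor N (Algebra.TensorProduct.includeRight : A' →ₐ[A] A' ⊗[A] A').toLinearMap t) =
      TensorProduct.mk A A' (A' ⊗[A] N) 1 t := by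
    intro t
    induction t with
    | zero => simp
    | add x y hx hy => simp only [map_add, hx, hy]
    | tmul x n => simp
  have hex : ∀ m : M, ∃ n : N, (1 : A') ⊗ₜ[A] n = f (1 ⊗ₜ[A] m) := by
    intro m
    have h := S1156.result A A' N (f (1 ⊗ₜ[A] m)) (by rw [← hL, ← hR, hf])
    exact h
  choose g hg using hex
  have hadd : ∀ x y, g (x + y) = g x + g y := by
    intro x y
    apply hinj
    change (1 : A') ⊗ₜ[A] g (x + y) = (1 : A') ⊗ₜ[A] (g x + g y)
    rw [TensorProduct.tmul_add, hg, hg, hg, TensorProduct.tmul_add, map_add]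
  have hsmul : ∀ (r : A) x, g (r • x) = r • g x := by
    intro r x
    apply hinj
    change (1 : A') ⊗ₜ[A] g (r • x) = (1 : A') ⊗ₜ[A] (r • g x)
    rw [TensorProduct.tmul_smul, hg, hg, TensorProduct.tmul_smul,
      ← algebraMap_smul A' r ((1 : A') ⊗ₜ[A] x), map_smul, algebraMap_smul]
  refine ⟨{ toFun := g, map_add' := hadd, map_smul' := hsmul }, ?_, ?_⟩
  · apply TensorProduct.AlgebraTensorModule.ext
    intro a m
    change a ⊗ₜ[A] g m = f (a ⊗ₜ[A] m)
    have e1 : a ⊗ₜ[A] g m = a • ((1 : A') ⊗ₜ[A] g m) := by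
      rw [TensorProduct.smul_tmul', smul_eq_mul, mul_one]
    have e2 : a ⊗ₜ[A] m = a • ((1 : A') ⊗ₜ[A] m) := by
      rw [TensorProduct.smul_tmul', smul_eq_mul, mul_one]
    rw [e1, hg, e2, map_smul]
  · intro h' hh'
    ext m
    apply hinj
    change (1 : A') ⊗ₜ[A] h' m = (1 : A') ⊗ₜ[A] g m
    rw [hg, ← hh']
    rfl

end Groth.Agent.S15047
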