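import Groth.Statements.S15063
import Groth.Agent.Hopf.K503.Conn

set_option autoImplicit false
universe u
open Hopf

namespace Groth.Agent.S15063

open WithConv TensorProduct

lemma conv3_eq (k : Type u) [CommRing k] (A : Type u) [CommRing A] [HopfAlgebra k A] {R : Type u}
    [CommRing R] [Algebra k R] (f g h : A →ₐ[k] R) :
    Dyn.conv3 k A f g h = (toConv f * toConv g * toConv h).ofConv := by
  apply AlgHom.ext
  intro a
  have h1 := AlgHom.convMul_apply (toConv f * toConv g) (toConv h) a
  refine Eq.trans ?_ h1.symm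
  change (Algebra.TensorProduct.lmul' (S := R) k)
    (Algebra.TensorProduct.map ((Algebra.TensorProduct.lmul' (S := R) k).comp
        (Algebra.TensorProduct.map f g)) h
      (Algebra.TensorProduct.map (Bialgebra.comulAlgHom k A) (AlgHom.id k A)
        (CoalgebraStruct.comul (R := k) a))) = _
  generalize CoalgebraStruct.comul (R := k) a = z
  induction z with
  | zero => simp
  | tmul x y =>
    simp only [Algebra.TensorProduct.map_tmul, Algebra.TensorProduct.lmul'_apply_tmul,
      Algebra.TensorProduct.lift_tmul]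
    rfl
  | add x y hx hy => simp only [map_add, hx, hy]

lemma comp_conv3 (k : Type u) [CommRing k] (A : Type u) [CommRing A] [HopfAlgebra k A] {R R' : Type u}
    [CommRing R] [Algebra k R] [CommRing R'] [Algebra k R'] (φ : R →ₐ[k] R') (f g h : A →ₐ[k] R) :
    φ.comp (Dyn.conv3 k A f g h) = Dyn.conv3 k A (φ.comp f) (φ.comp g) (φ.comp h) := by
  rw [conv3_eq, conv3_eq, AlgHom.comp_convMul_distrib, AlgHom.comp_convMul_distrib]

lemma mem_map_ker {R : Type u} [CommRing R] {A C : Type u} [CommRing A] [Algebra R A] [CommRing C] [Algebra R C]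
    (ε : C →ₐ[R] R) (z : C ⊗[R] A)
    (hz : Algebra.TensorProduct.lift ((Algebra.ofId R A).comp ε) (AlgHom.id R A) (fun _ _ => Commute.all _ _) z = 0) :
    z ∈ (RingHom.ker ε).map (algebraMap C (C ⊗[R] A)) := by
  have key : ∀ z : C ⊗[R] A, z - 1 ⊗ₜ[R] (Algebra.TensorProduct.lift ((Algebra.ofId R A).comp ε) (AlgHom.id R A)
      (fun _ _ => Commute.all _ _) z) ∈ (RingHom.ker ε).map (algebraMap C (C ⊗[R] A)) := by
    intro z
    induction z with
    | zero => simp
    | tmul c a =>
      have h1 : c - algebraMap R C (ε c) ∈ RingHom.ker ε := by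
        rw [RingHom.mem_ker, map_sub, AlgHom.commutes]; simp
      have h2 := Ideal.mul_mem_left _ ((1 : C) ⊗ₜ[R] a) (Ideal.mem_map_of_mem (algebraMap C (C ⊗[R] A)) h1)
      have h3 : c ⊗ₜ[R] a - 1 ⊗ₜ[R] (Algebra.TensorProduct.lift ((Algebra.ofId R A).comp ε) (AlgHom.id R A)
          (fun _ _ => Commute.all _ _) (c ⊗ₜ[R] a)) =
          ((1 : C) ⊗ₜ[R] a) * algebraMap C (C ⊗[R] A) (c - algebraMap R C (ε c)) := by
        rw [Algebra.TensorProduct.lift_tmul, Algebra.TensorProduct.algebraMap_apply, Algebra.algebraMap_self_apply,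
          Algebra.TensorProduct.tmul_mul_tmul, one_mul, mul_one, sub_tmul]
        congr 1
        change 1 ⊗ₜ[R] (algebraMap R A (ε c) * a) = _
        rw [Algebra.algebraMap_eq_smul_one, Algebra.algebraMap_eq_smul_one, smul_mul_assoc, one_mul, tmul_smul,
          smul_tmul']
      rw [h3]
      exact h2
    | add x y hx hy =>
      have : x + y - 1 ⊗ₜ[R] (Algebra.TensorProduct.lift ((Algebra.ofId R A).comp ε) (AlgHom.id R A)
          (fun _ _ => Commute.all _ _) (x + y)) =
          (x - 1 ⊗ₜ[R] (Algebra.TensorProduct.lift ((Algebra.ofId R A).comp ε) (AlgHom.id R A)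
            (fun _ _ => Commute.all _ _) x)) +
          (y - 1 ⊗ₜ[R] (Algebra.TensorProduct.lift ((Algebra.ofId R A).comp ε) (AlgHom.id R A)
            (fun _ _ => Commute.all _ _) y)) := by
        rw [map_add, tmul_add]; ring
      rw [this]
      exact add_mem hx hy
  have := key z
  rwa [hz, tmul_zero, sub_zero] at this

/-- Let R be a henselian Noetherian local ring and A a commutative Hopf algebra over R which is finite
and flat as an R-module (a finite flat R-group G = Spec A, not assumed commutative); let e ∈ A be an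
idempotent with ε(e) = 1 such that A/(1 − e) is a local ring, so that Spec A/(1 − e) is the
connected component G⁰ of G containing the unit section. Then G⁰ is normal in G: for every
commutative R-algebra T, every T-valued point g of G and every T-valued point h of G killing the
ideal (1 − e), the conjugate g·h·g⁻¹ again kills (1 − e). (The published statement is for a flat
affine algebraic R-group and also asserts that G⁰ is an open and closed flat subgroup; this row
states the normality clause for finite flat G.) -/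
theorem result (R : Type u) [CommRing R] [HenselianLocalRing R] [IsNoetherianRing R]
    (A : Type u) [CommRing A] [HopfAlgebra R A] [Module.Finite R A] [Module.Flat R A]
    (e : A) (he : IsIdempotentElem e) (hε : Bialgebra.counitAlgHom R A e = 1)
    [IsLocalRing (A ⧸ Ideal.span ({1 - e} : Set A))] :
    SGA3.IsNormalHopfIdeal R A (Ideal.span ({1 - e} : Set A)) := by
  intro T _ _ g h hh a ha
  have hker : ∀ a ∈ Ideal.span ({1 - e} : Set A), Bialgebra.counitAlgHom R A a = 0 := by
    intro a ha
    obtain ⟨b, rfl⟩ := Ideal.mem_span_singleton.1 ha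
    rw [map_mul, map_sub, map_one, hε, sub_self, zero_mul]
  let ε₀ : (A ⧸ Ideal.span ({1 - e} : Set A)) →ₐ[R] R :=
    Ideal.Quotient.liftₐ _ (Bialgebra.counitAlgHom R A) hker
  let B := (A ⧸ Ideal.span ({1 - e} : Set A)) ⊗[R] A
  let g₀ : A →ₐ[R] B := Algebra.TensorProduct.includeRight
  let h₀ : A →ₐ[R] B := (Algebra.TensorProduct.includeLeft).comp (Ideal.Quotient.mkₐ R _)
  let S := HopfAlgebra.antipodeAlgHom R A
  let c : A →ₐ[R] B := Dyn.conv3 R A g₀ h₀ (g₀.comp S)
  let φ : B →ₐ[R] T := Algebra.TensorProduct.lift (Ideal.Quotient.liftₐ _ h hh) g (fun _ _ => Commute.all _ _)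
  have hφg : φ.comp g₀ = g := by
    apply AlgHom.ext; intro x
    change φ (1 ⊗ₜ x) = g x
    rw [Algebra.TensorProduct.lift_tmul, map_one, one_mul]
  have hφh : φ.comp h₀ = h := by
    apply AlgHom.ext; intro x
    change φ (Ideal.Quotient.mk _ x ⊗ₜ 1) = h x
    rw [Algebra.TensorProduct.lift_tmul, map_one, mul_one]
    rfl
  have hc : φ.comp c = Dyn.conv3 R A g h (g.comp S) := by
    rw [comp_conv3, show φ.comp (g₀.comp S) = (φ.comp g₀).comp S from rfl, hφg, hφh]
  let π : B →ₐ[R] A := Algebra.TensorProduct.lift ((Algebra.ofId R A).comp ε₀) (AlgHom.id R A)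
    (fun _ _ => Commute.all _ _)
  have hπ : π.comp c = (Algebra.ofId R A).comp (Bialgebra.counitAlgHom R A) := by
    rw [comp_conv3, show π.comp (g₀.comp S) = (π.comp g₀).comp S from rfl, conv3_eq]
    have h1 : π.comp g₀ = AlgHom.id R A := by
      apply AlgHom.ext; intro x
      change π (1 ⊗ₜ x) = x
      rw [Algebra.TensorProduct.lift_tmul, map_one, one_mul]
      rfl
    have h2 : (toConv (π.comp h₀) : WithConv (A →ₐ[R] A)) = 1 := by
      apply WithConv.ext
      apply AlgHom.ext; intro x
      change π (Ideal.Quotient.mk _ x ⊗ₜ 1) = algebraMap R A _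
      rw [Algebra.TensorProduct.lift_tmul, map_one, mul_one]
      rfl
    rw [h1, h2, mul_one, AlgHom.id_comp]
    have h3 := K503.AugUnram.mul_inv (AlgHom.id R A)
    rw [AlgHom.id_comp] at h3
    rw [h3]
    rfl
  have hidem : IsIdempotentElem (c (1 - e)) := he.one_sub.map c
  have hmem : c (1 - e) ∈ (RingHom.ker ε₀).map (algebraMap _ B) := by
    apply mem_map_ker
    have := AlgHom.congr_fun hπ (1 - e)
    rw [AlgHom.comp_apply, AlgHom.comp_apply, map_sub (Bialgebra.counitAlgHom R A), map_one, hε, sub_self,
      map_zero] at this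
    exact this
  have h0 : c (1 - e) = 0 := by
    refine K503.Conn.idem_eq_zero (algebraMap (A ⧸ Ideal.span ({1 - e} : Set A)) B) ?_ (RingHom.ker ε₀)
      (RingHom.ker_ne_top ε₀) hidem hmem
    exact algebraMap_isIntegral_iff.2 inferInstance
  obtain ⟨b, rfl⟩ := Ideal.mem_span_singleton.1 ha
  rw [← hc, AlgHom.comp_apply, map_mul, h0, zero_mul, map_zero]

end Groth.Agent.S15063
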