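import Groth.Statements.S15064
import Groth.Agent.Hopf.K503.Monogenic

set_option autoImplicit false
universe u
open scoped TensorProduct
open Hopf

namespace Groth.Agent.S15064

/-- Let k be a field of characteristic p > 0 and A a finite-dimensional commutative and cocommutative
Hopf algebra over k (a finite commutative k-group G = Spec A) which is bi-infinitesimal — A is a
local ring and so is the dual algebra Hom_k(A, k) with the convolution product (G and its Cartier
dual are connected) — with dim_k A > 1, and assume G is simple: every Hopf ideal of A is either zero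
or the augmentation ideal (G has no closed subgroup schemes other than G and 1). Then G is
isomorphic to α_p: A has a primitive element x (Δ(x) = x ⊗ 1 + 1 ⊗ x) with x^p = 0 whose powers 1,
x, …, x^(p−1) are linearly independent over k, and dim_k A = p (so A = k[x]/(x^p) with x primitive). -/
theorem result (k : Type u) [Field k] (p : ℕ) [Fact p.Prime] [CharP k p]
    (A : Type u) [CommRing A] [HopfAlgebra k A] [Coalgebra.IsCocomm k A] [FiniteDimensional k A] [IsLocalRing A]
    (hdual : IsLocalRing (WithConv (A →ₗ[k] k))) (hA : 1 < Module.finrank k A)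
    (hsimple : ∀ I : Ideal A, I.IsHopfIdeal k → I = ⊥ ∨ I = RingHom.ker (Bialgebra.counitAlgHom k A)) :
    ∃ x : A, Coalgebra.comul x = x ⊗ₜ[k] (1 : A) + (1 : A) ⊗ₜ[k] x ∧ x ^ p = 0 ∧
      LinearIndependent k (fun i : Fin p => x ^ (i : ℕ)) ∧ Module.finrank k A = p := by
  classical
  have hp : p.Prime := Fact.out
  obtain ⟨x, hx, hx0⟩ := K503.Prim.exists_prim_ne_zero hdual hA
  obtain ⟨n, hn⟩ := K503.Monogenic.isNilpotent_of_ker (Bialgebra.counitAlgHom k A) x hx.counit
  have hex : ∃ N, x ^ p ^ N = 0 := ⟨n, pow_eq_zero_of_le (Nat.lt_pow_self hp.one_lt).le hn⟩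
  let N := Nat.find hex
  have hN : x ^ p ^ N = 0 := Nat.find_spec hex
  have hN0 : N ≠ 0 := by
    intro h
    rw [h, pow_zero, pow_one] at hN
    exact hx0 hN
  obtain ⟨M, hM⟩ := Nat.exists_eq_succ_of_ne_zero hN0
  have hy0 : x ^ p ^ M ≠ 0 := Nat.find_min hex (by omega)
  set y := x ^ p ^ M with hy
  have hyp : y ^ p = 0 := by
    rw [hy, ← pow_mul, ← pow_succ, ← Nat.succ_eq_add_one, ← hM, hN]
  have hyprim : K503.Prim.IsPrim k y := hx.pow_char_pow p M
  have hI : (Ideal.span {y}).IsHopfIdeal k := K503.HopfKer.isHopfIdeal_span_primitive y hyprim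
  have hker : RingHom.ker (Bialgebra.counitAlgHom k A) = Ideal.span {y} := by
    rcases hsimple _ hI with h | h
    · exact absurd (Ideal.span_singleton_eq_bot.1 h) hy0
    · exact h.symm
  have hli := K503.Prim.linearIndependent_pow_of_prim p y hyprim hy0 hyp
  refine ⟨y, hyprim, hyp, hli, ?_⟩
  apply le_antisymm
  · exact K503.Monogenic.finrank_le_of_span _ y hker p hyp
  · have := hli.fintype_card_le_finrank
    rwa [Fintype.card_fin] at this

end Groth.Agent.S15064
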