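import Groth.Statements.S15065
import Groth.Agent.Hopf.K503.Points
import Groth.Agent.Hopf.K503.HopfKer
import Mathlib.GroupTheory.Perm.Cycle.Type

set_option autoImplicit false
universe u
open Hopf

namespace Groth.Agent.S15065

/-- Let k be an algebraically closed field and A a finite-dimensional commutative and cocommutative Hopf
algebra over k which is reduced (a finite étale commutative k-group G = Spec A), with dim_k A > 1,
and assume G is simple: every Hopf ideal of A is either zero or the augmentation ideal (no closed
subgroup schemes other than G and 1). Then the order dim_k A is a prime number ℓ, so that G is the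
constant group ℤ/ℓℤ. (The published statement lists the simple finite commutative groups over an
algebraically closed field of characteristic p > 0; the étale case does not use the characteristic
and is stated here for any algebraically closed field.) -/
theorem result (k : Type u) [Field k] [IsAlgClosed k] (A : Type u) [CommRing A] [HopfAlgebra k A]
    [Coalgebra.IsCocomm k A] [FiniteDimensional k A] [IsReduced A] (hA : 1 < Module.finrank k A)
    (hsimple : ∀ I : Ideal A, I.IsHopfIdeal k → I = ⊥ ∨ I = RingHom.ker (Bialgebra.counitAlgHom k A)) :
    (Module.finrank k A).Prime := by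
  classical
  let G := WithConv (A →ₐ[k] k)
  have hfin : Finite G := Finite.of_equiv _ (WithConv.equiv (A →ₐ[k] k)).symm
  have hcard : Nat.card G = Module.finrank k A := K503.Points.card_points
  obtain ⟨ℓ, hℓ, hdvd⟩ := Nat.exists_prime_and_dvd (n := Module.finrank k A) (by omega)
  have hfact : Fact ℓ.Prime := ⟨hℓ⟩
  have := Fintype.ofFinite G
  obtain ⟨g, hg⟩ := exists_prime_orderOf_dvd_card' (G := G) ℓ (by rw [hcard]; exact hdvd)
  have hH : Nat.card (Subgroup.zpowers g) = ℓ := by rw [Nat.card_zpowers, hg]
  let θ : Subgroup.zpowers g →* G := (Subgroup.zpowers g).subtype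
  have hne : RingHom.ker (K503.Points.evHom θ : A →ₐ[k] ConstGrp.F k (Subgroup.zpowers g)) ≠ RingHom.ker (Bialgebra.counitAlgHom k A) := by
    intro h
    have h1 : g = 1 := by
      apply WithConv.ext
      apply AlgHom.ext
      intro a
      have h2 : a - algebraMap k A (Bialgebra.counitAlgHom k A a) ∈ RingHom.ker (Bialgebra.counitAlgHom k A) := by
        rw [RingHom.mem_ker, map_sub, AlgHom.commutes]; simp
      rw [← h, RingHom.mem_ker] at h2
      have h3 : K503.Points.evHom θ (a - algebraMap k A (Bialgebra.counitAlgHom k A a))
        ⟨g, Subgroup.mem_zpowers g⟩ = 0 := congrArg (fun f : ConstGrp.F k (Subgroup.zpowers g) =>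
          f ⟨g, Subgroup.mem_zpowers g⟩) h2
      rw [K503.Points.evHom_apply] at h3
      change g.ofConv (a - algebraMap k A (Bialgebra.counitAlgHom k A a)) = 0 at h3
      rw [map_sub, AlgHom.commutes, sub_eq_zero] at h3
      exact h3
    rw [h1, orderOf_one] at hg
    exact hℓ.one_lt.ne hg
  have hI := K503.HopfKer.isHopfIdeal_ker (K503.Points.evHom θ)
  rcases hsimple _ hI with h | h
  · have hinj : Function.Injective (K503.Points.evHom θ : A →ₗ[k] ConstGrp.F k (Subgroup.zpowers g)) :=
      (RingHom.injective_iff_ker_eq_bot (K503.Points.evHom θ : A →ₐ[k] ConstGrp.F k (Subgroup.zpowers g))).2 h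
    have h1 : Module.finrank k (ConstGrp.F k (Subgroup.zpowers g)) = ℓ := by
      rw [Module.finrank_eq_card_basis (ConstGrp.basis k (Subgroup.zpowers g)), ← Nat.card_eq_fintype_card, hH]
    have h2 : Module.finrank k A ≤ ℓ := by
      rw [← h1]; exact LinearMap.finrank_le_finrank_of_injective hinj
    have h3 : ℓ ≤ Module.finrank k A := Nat.le_of_dvd (by omega) hdvd
    rw [le_antisymm h2 h3]
    exact hℓ
  · exact absurd h hne

end Groth.Agent.S15065
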