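import Groth.Statements.S15066
import Groth.Agent.Hopf.K503.Monogenic
import Groth.Agent.Hopf.K503.Points
import Mathlib.Algebra.CharP.Algebra
import Mathlib.Algebra.CharP.Lemmas
import Mathlib.GroupTheory.OrderOfElement

set_option autoImplicit false
universe u
open Hopf

namespace Groth.Agent.S15066

/-- Let k be an algebraically closed field of characteristic p > 0 and A a finite-dimensional
commutative and cocommutative Hopf algebra over k (a finite commutative k-group G = Spec A) which is
a local ring (G connected) and whose dual algebra Hom_k(A, k) with the convolution product is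
reduced (the Cartier dual of G is étale, i.e. G is multiplicative), with dim_k A > 1, and assume G
is simple: every Hopf ideal of A is either zero or the augmentation ideal (no closed subgroup
schemes other than G and 1). Then G is isomorphic to μ_p: A has a group-like element g (Δ(g) = g ⊗
g, ε(g) = 1) with g^p = 1 whose powers 1, g, …, g^(p−1) are linearly independent over k, and dim_k A
= p (so A = k[g]/(g^p − 1)). -/
theorem result (k : Type u) [Field k] [IsAlgClosed k] (p : ℕ) [Fact p.Prime]
    [CharP k p] (A : Type u) [CommRing A] [HopfAlgebra k A] [Coalgebra.IsCocomm k A] [FiniteDimensional k A]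
    [IsLocalRing A] (hdual : IsReduced (WithConv (A →ₗ[k] k))) (hA : 1 < Module.finrank k A)
    (hsimple : ∀ I : Ideal A, I.IsHopfIdeal k → I = ⊥ ∨ I = RingHom.ker (Bialgebra.counitAlgHom k A)) :
    ∃ g : A, IsGroupLikeElem k g ∧ g ^ p = 1 ∧ LinearIndependent k (fun i : Fin p => g ^ (i : ℕ)) ∧
      Module.finrank k A = p := by
  classical
  have hp : p.Prime := Fact.out
  let D := WithConv (A →ₗ[k] k)
  have hfinD : Module.Finite k D := Module.Finite.equiv (WithConv.linearEquiv k (A →ₗ[k] k)).symm
  have hone : ∀ a : A, (1 : D) a = Coalgebra.counit (R := k) a := fun a => by simp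
  have hdim : Module.finrank k D = Module.finrank k A := by
    rw [(WithConv.linearEquiv k (A →ₗ[k] k)).finrank_eq]
    exact Subspace.dual_finrank_eq
  let φ₀ : D →ₐ[k] k := AlgHom.ofLinearMap
    (LinearMap.applyₗ (1 : A) ∘ₗ (WithConv.linearEquiv k (A →ₗ[k] k)).toLinearMap)
    (by
      change (1 : D) 1 = 1
      rw [hone, Bialgebra.counit_one])
    (by
      intro f g
      change (f * g) 1 = f 1 * g 1
      rw [LinearMap.convMul_apply, Bialgebra.comul_one, Algebra.TensorProduct.one_def, TensorProduct.map_tmul,
        LinearMap.mul'_apply])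
  obtain ⟨φ, hφ⟩ := K503.Points.exists_ne (k := k) (A := D) (by rw [hdim]; exact hA) φ₀
  let φ' : Module.Dual k (Module.Dual k A) := φ.toLinearMap ∘ₗ (WithConv.linearEquiv k (A →ₗ[k] k)).symm.toLinearMap
  obtain ⟨g, hg⟩ := (Module.evalEquiv k A).surjective φ'
  have hgφ : ∀ f : D, φ f = f g := by
    intro f
    have := LinearMap.congr_fun hg f.ofConv
    exact this.symm
  have hgrp : IsGroupLikeElem k g := by
    constructor
    · rw [← hone, ← hgφ, map_one]
    · rw [← sub_eq_zero]
      apply K503.Prim.eq_zero_of_forall_map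
      intro f h
      have h1 := map_mul φ (WithConv.toConv f) (WithConv.toConv h)
      rw [hgφ, hgφ, hgφ, LinearMap.convMul_apply] at h1
      rw [map_sub, map_sub, TensorProduct.map_tmul, LinearMap.mul'_apply, sub_eq_zero]
      exact h1
  have hg1 : g ≠ 1 := by
    rintro rfl
    apply hφ
    apply AlgHom.ext
    intro f
    rw [hgφ]
    rfl
  have hchA : CharP A p := charP_of_injective_algebraMap (algebraMap k A).injective p
  have hnil : ∃ N, g ^ p ^ N = 1 := by
    obtain ⟨n, hn⟩ := K503.Monogenic.isNilpotent_of_ker (Bialgebra.counitAlgHom k A) (g - 1) (by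
      change Bialgebra.counitAlgHom k A (g - 1) = 0
      rw [map_sub, map_one]
      change Coalgebra.counit (R := k) g - 1 = 0
      rw [hgrp.counit_eq_one, sub_self])
    refine ⟨n, ?_⟩
    have h1 : (g - 1) ^ p ^ n = 0 := pow_eq_zero_of_le (Nat.lt_pow_self hp.one_lt).le hn
    rw [sub_pow_char_pow, one_pow, sub_eq_zero] at h1
    exact h1
  let N := Nat.find hnil
  have hN : g ^ p ^ N = 1 := Nat.find_spec hnil
  have hN0 : N ≠ 0 := by
    intro h
    rw [h, pow_zero, pow_one] at hN
    exact hg1 hN
  obtain ⟨M, hM⟩ := Nat.exists_eq_succ_of_ne_zero hN0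
  have hy0 : g ^ p ^ M ≠ 1 := Nat.find_min hnil (by omega)
  set y := g ^ p ^ M with hy
  have hyp : y ^ p = 1 := by
    rw [hy, ← pow_mul, ← pow_succ, ← Nat.succ_eq_add_one, ← hM, hN]
  have hygrp : IsGroupLikeElem k y := hgrp.pow
  have hI : (Ideal.span {y - 1}).IsHopfIdeal k := K503.HopfKer.isHopfIdeal_span_groupLike y hygrp
  have hker : RingHom.ker (Bialgebra.counitAlgHom k A) = Ideal.span {y - 1} := by
    rcases hsimple _ hI with h | h
    · exact absurd (sub_eq_zero.1 (Ideal.span_singleton_eq_bot.1 h)) hy0
    · exact h.symm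
  have hli : LinearIndependent k (fun i : Fin p => y ^ (i : ℕ)) := by
    have h1 := linearIndepOn_isGroupLikeElem (R := k) (A := A)
    have hord : orderOf y = p := orderOf_eq_prime hyp hy0
    have hinj : Function.Injective (fun i : Fin p => (⟨y ^ (i : ℕ), hygrp.pow⟩ : {a : A | IsGroupLikeElem k a})) := by
      intro i j hij
      have h2 : y ^ (i : ℕ) = y ^ (j : ℕ) := congrArg Subtype.val hij
      apply Fin.ext
      have hi := i.2
      have hj := j.2
      exact pow_injOn_Iio_orderOf (by rw [Set.mem_Iio, hord]; exact hi) (by rw [Set.mem_Iio, hord]; exact hj) h2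
    exact h1.comp _ hinj
  refine ⟨y, hygrp, hyp, hli, ?_⟩
  apply le_antisymm
  · refine K503.Monogenic.finrank_le_of_span _ (y - 1) hker p ?_
    rw [sub_pow_char, hyp]; simp
  · have := hli.fintype_card_le_finrank
    rwa [Fintype.card_fin] at this

end Groth.Agent.S15066
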