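import Groth.Statements.S15070
import Groth.Agent.OrdSurf.K841.FreeKer
import Groth.Agent.Divis.StalkMod
import Groth.Agent.CurvesA.DimOne
import Groth.Agent.S1535
import Groth.Agent.PerfA.CohSerre
import Groth.Agent.CycB.StalkExact

set_option autoImplicit false
universe u
open CategoryTheory CategoryTheory.Limits AlgebraicGeometry
open OrdSurf

namespace Groth.Agent.S15070

/-- Let k be an algebraically closed field of characteristic zero and X a smooth projective surface over
k (an integral k-scheme, smooth over k, of dimension two, admitting a closed immersion over k into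
some projective space P^n_k). Let N be a coherent O_X-module all of whose stalks are torsion-free
modules over the local rings, M a finite locally free O_X-module and φ : M → N an epimorphism of
O_X-modules. Then the kernel of φ is a finite locally free O_X-module. -/
theorem result (k : Type u) [Field k] [IsAlgClosed k] [CharZero k]
    (X : Scheme.{u}) [X.Over (Spec (CommRingCat.of k))] [IsIntegral X]
    [Smooth (X ↘ Spec (CommRingCat.of k))] (hdim : topologicalKrullDim X = 2)
    (hproj : ∃ (n : ℕ) (ι : X ⟶ CohB1.ProjSpace n k), IsClosedImmersion ι ∧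
      ι ≫ CohB1.ProjSpace.toSpec n k = X ↘ Spec (CommRingCat.of k))
    (N : X.Modules) (hN : Coh.IsCoh N) (hNtf : TorSh.IsTorsionFree N)
    (M : X.Modules) (hM : FlatMod.IsFinLocFree M) (φ : M ⟶ N) [Epi φ] :
    FlatMod.IsFinLocFree (kernel φ) := by
  let f := X ↘ Spec (CommRingCat.of k)
  have : IsLocallyNoetherian X := LocallyOfFiniteType.isLocallyNoetherian f
  have hMc : Coh.IsCoh M := Groth.Agent.PerfA.CohSerre.isCoh_of_isFinLocFree hM
  have hK : Coh.IsCoh (kernel φ) := Groth.Agent.PerfA.CohSerre.isCoh_kernel φ hMc hN.1
  refine Groth.Agent.Divis.StalkMod.isFinLocFree_of_free_stalk hK fun x => ?_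
  have hreg : IsRegularLocalRing (X.presheaf.stalk x) := Groth.Agent.S1535.result k X x
  have hdx : ringKrullDim (X.presheaf.stalk x) ≤ 2 :=
    (Groth.Agent.CurvesA.DimOne.ringKrullDim_stalk_le X x).trans hdim.le
  have h1 := Groth.Agent.Divis.StalkMod.finite_stalk hK x
  obtain ⟨h2, h3⟩ := Groth.Agent.Divis.StalkMod.finite_free_stalk hMc.1 hM x
  have h4 := hNtf x
  have hS : (ShortComplex.mk (kernel.ι φ) φ (kernel.condition φ)).Exact :=
    ShortComplex.exact_of_f_is_kernel _ (kernelIsKernel φ)
  exact K841.FreeKer.free_of_exact hdx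
    (Groth.Agent.CycB.StalkExact.stalkLin (kernel.ι φ) x)
    (Groth.Agent.CycB.StalkExact.stalkLin φ x)
    (Groth.Agent.CycB.StalkExact.stalkLin_injective (kernel.ι φ) x)
    (Groth.Agent.CycB.StalkExact.stalkLin_exact _ hS x)


end Groth.Agent.S15070
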