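import Groth.Statements.S15071
import Groth.Agent.Divis.StalkMod
import Groth.Agent.S1535
import Groth.Agent.PerfA.CohSerre
import Groth.Agent.CycB.StalkExact
import Groth.Agent.Dual.H375.Hartogs
import Groth.Agent.FormalB.BCLoc
import Groth.Agent.S0020
import Groth.Agent.Ega4A.RegCM

set_option autoImplicit false
universe u
open CategoryTheory CategoryTheory.Limits AlgebraicGeometry
open OrdSurf

namespace Groth.Agent.S15071

/-- Let k be an algebraically closed field of characteristic zero and X a smooth projective surface over
k (an integral k-scheme, smooth over k, of dimension two, admitting a closed immersion over k into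
some projective space P^n_k). Let φ : M → N be a monomorphism between finite locally free
O_X-modules. Then either φ is an isomorphism, or the support of the cokernel of φ contains a point
of X whose local ring has Krull dimension at most one, i.e. the support has codimension at most one
in X. (The published statement phrases the first alternative as M and N being isomorphic; the
argument shows that the given monomorphism is an isomorphism, which is the form stated here.) -/
theorem result (k : Type u) [Field k] [IsAlgClosed k] [CharZero k]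
    (X : Scheme.{u}) [X.Over (Spec (CommRingCat.of k))] [IsIntegral X]
    [Smooth (X ↘ Spec (CommRingCat.of k))] (hdim : topologicalKrullDim X = 2)
    (hproj : ∃ (n : ℕ) (ι : X ⟶ CohB1.ProjSpace n k), IsClosedImmersion ι ∧
      ι ≫ CohB1.ProjSpace.toSpec n k = X ↘ Spec (CommRingCat.of k))
    (M N : X.Modules) (hM : FlatMod.IsFinLocFree M) (hN : FlatMod.IsFinLocFree N)
    (φ : M ⟶ N) [Mono φ] :
    IsIso φ ∨ ∃ x : X, x ∈ CohB1.support (cokernel φ) ∧ ringKrullDim (X.presheaf.stalk x) ≤ 1 := by
  let f := X ↘ Spec (CommRingCat.of k)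
  have : IsLocallyNoetherian X := LocallyOfFiniteType.isLocallyNoetherian f
  have hMc : Coh.IsCoh M := Groth.Agent.PerfA.CohSerre.isCoh_of_isFinLocFree hM
  have hNc : Coh.IsCoh N := Groth.Agent.PerfA.CohSerre.isCoh_of_isFinLocFree hN
  have hC : Coh.IsCoh (cokernel φ) := Groth.Agent.PerfA.CohSerre.isCoh_cokernel φ hMc.1 hNc
  rw [or_iff_not_imp_right]
  intro hx
  push Not at hx
  let W : X.Opens := ⟨(CohB1.support (cokernel φ))ᶜ,
    (Groth.Agent.S0020.result X (cokernel φ) hC.2).isOpen_compl⟩
  have hdep : ∀ (F : X.Modules) (_ : FlatMod.IsFinLocFree F) (x : X), x ∉ W →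
      2 ≤ LocCoh.depth (X.presheaf.stalk x) (F.presheaf.stalk x) := by
    intro F hF x hxW
    have hFc : Coh.IsCoh F := Groth.Agent.PerfA.CohSerre.isCoh_of_isFinLocFree hF
    have hreg : IsRegularLocalRing (X.presheaf.stalk x) := Groth.Agent.S1535.result k X x
    have hxs : x ∈ CohB1.support (cokernel φ) := by
      by_contra h
      exact hxW h
    have h1 : 1 < ringKrullDim (X.presheaf.stalk x) := hx x hxs
    have h2 : 2 ≤ ringKrullDim (X.presheaf.stalk x) := by
      have h := (ENat.WithBot.add_one_le_iff (n := 1) (m := ringKrullDim (X.presheaf.stalk x))).mpr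
        (by exact_mod_cast h1)
      exact le_trans (by norm_num [one_add_one_eq_two]) h
    have h3 : (2 : ℕ∞) ≤ LocCoh.depth (X.presheaf.stalk x) (X.presheaf.stalk x) := by
      have h := Groth.Agent.Ega4A.RegCM.isCohenMacaulayLocalRing_of_isRegularLocalRing
        (X.presheaf.stalk x)
      rw [← Module.supportDim_self_eq_ringKrullDim, h.supportDim_eq_depth] at h2
      exact WithBot.coe_le_coe.mp h2
    obtain ⟨a, ha, b, hb, hab⟩ := Groth.Agent.Divis.ExtendStalk.exists_regPair_of_two_le_depth h3
    obtain ⟨h4, h5⟩ := Groth.Agent.Divis.StalkMod.finite_free_stalk hFc.1 hF x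
    have h6 : Groth.Agent.Divis.DepthTwo.RegPair a b (F.presheaf.stalk x) :=
      Groth.Agent.Divis.ReflexAlg.regPair_of_isReflexive hab
    exact h6.two_le_idealDepth ha hb
  have hu1 := Groth.Agent.Dual.H375.Hartogs.isIso_unit hMc W (hdep M hM)
  have hu2 := Groth.Agent.Dual.H375.Hartogs.isIso_unit hNc W (hdep N hN)
  have hφ : IsIso ((Scheme.Modules.restrictFunctor W.ι).map φ) := by
    refine Groth.Agent.FormalB.BC.isIso_restrict_of_stalk W φ fun x hxW => ?_
    refine ⟨Groth.Agent.CycB.StalkExact.stalkLin_injective φ x, ?_⟩
    have hS : (ShortComplex.mk φ (cokernel.π φ) (cokernel.condition φ)).Exact :=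
      ShortComplex.exact_of_g_is_cokernel _ (cokernelIsCokernel φ)
    have hex := Groth.Agent.CycB.StalkExact.stalkLin_exact _ hS x
    intro n
    have hsub : Subsingleton ((cokernel φ).presheaf.stalk x) := by
      by_contra h
      exact hxW h
    exact (hex n).mp (Subsingleton.elim _ _)
  have hnat := (Scheme.Modules.restrictAdjunction W.ι).unit.naturality φ
  have h7 : IsIso ((Scheme.Modules.restrictAdjunction W.ι).unit.app M ≫
      (Scheme.Modules.restrictFunctor W.ι ⋙ Scheme.Modules.pushforward W.ι).map φ) := by
    have : IsIso ((Scheme.Modules.restrictFunctor W.ι ⋙ Scheme.Modules.pushforward W.ι).map φ) := by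
      rw [Functor.comp_map]
      infer_instance
    infer_instance
  have h8 : IsIso (φ ≫ (Scheme.Modules.restrictAdjunction W.ι).unit.app N) := by
    have h9 : φ ≫ (Scheme.Modules.restrictAdjunction W.ι).unit.app N =
      (Scheme.Modules.restrictAdjunction W.ι).unit.app M ≫
      (Scheme.Modules.restrictFunctor W.ι ⋙ Scheme.Modules.pushforward W.ι).map φ := hnat
    rw [h9]
    exact h7
  exact IsIso.of_isIso_comp_right φ ((Scheme.Modules.restrictAdjunction W.ι).unit.app N)


end Groth.Agent.S15071
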