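import Groth.Statements.S15074
import Groth.Agent.OrdSurf.K841.ExtFree
import Groth.Agent.S0485
import Groth.Agent.Etcore.ExtAdj

set_option autoImplicit false
universe u
open CategoryTheory AlgebraicGeometry TopologicalSpace Opposite
open OrdSurf

namespace Groth.Agent.S15074

/-- Let X be a scheme, A a sheaf of rings on X (not necessarily commutative) and φ : O_X → A a morphism
of sheaves of rings with central image, such that A regarded as an O_X-module through φ is finite
locally free; let L be a functor from O_X-modules to sheaves of A-modules together with an
adjunction making it left adjoint to restriction of scalars along φ (so L is extension of scalars M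
↦ A ⊗ M, determined up to isomorphism). Assume, as instance hypotheses, that restriction of scalars
along φ preserves finite limits and finite colimits, and that the two module categories have Ext
groups. Then for every O_X-module M, every sheaf of A-modules N and every i, the map from Ext^i(L M,
N), computed in sheaves of A-modules, to Ext^i(M, N), computed in O_X-modules with N regarded as an
O_X-module through φ, which applies restriction of scalars to an Ext class and then composes it with
the degree-zero class of the unit M → L M of the adjunction, is bijective. (The published statement
is for a maximal order on a smooth projective surface and coherent modules over it, and asserts that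
the two Ext groups are isomorphic; this row is stated for any scheme, any central sheaf of algebras
that is finite locally free over O_X and arbitrary modules, with M an O_X-module, and names the
comparison map.) -/
theorem result (X : Scheme.{u})
    (A : Sheaf (Opens.grothendieckTopology X) RingCat.{u}) (φ : X.ringCatSheaf ⟶ A)
    (hcen : ∀ (U : (Opens X)ᵒᵖ) (s : X.ringCatSheaf.obj.obj U) (a : A.obj.obj U),
      φ.hom.app U s * a = a * φ.hom.app U s)
    (hA : FlatMod.IsFinLocFree (X := X) ((SheafOfModules.restrictScalars φ).obj (SheafOfModules.unit A)))
    [Limits.PreservesFiniteLimits (SheafOfModules.restrictScalars.{u} φ)]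
    [Limits.PreservesFiniteColimits (SheafOfModules.restrictScalars.{u} φ)]
    (L : SheafOfModules.{u} X.ringCatSheaf ⥤ SheafOfModules.{u} A)
    (adj : L ⊣ SheafOfModules.restrictScalars φ)
    [HasExt.{u} (SheafOfModules.{u} A)] [HasExt.{u} (SheafOfModules.{u} X.ringCatSheaf)]
    (M : SheafOfModules.{u} X.ringCatSheaf) (N : SheafOfModules.{u} A) (i : ℕ) :
    Function.Bijective (fun e : Abelian.Ext.{u} (L.obj M) N i =>
      (Abelian.Ext.mk₀ (adj.unit.app M)).comp
        (e.mapExactFunctor (SheafOfModules.restrictScalars φ)) (zero_add i)) := by
  have h1 : EnoughInjectives (SheafOfModules.{u} A) :=
    Groth.Agent.S0485.result (Opens.grothendieckTopology X) A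
  have h2 : EnoughInjectives (SheafOfModules.{u} X.ringCatSheaf) :=
    Groth.Agent.S0485.result (Opens.grothendieckTopology X) X.ringCatSheaf
  have h3 : L.Additive := adj.left_adjoint_additive
  have h4 : Limits.PreservesColimitsOfSize.{u, u} L := adj.leftAdjoint_preservesColimits
  have h5 : Limits.PreservesFiniteColimits L := inferInstance
  have h6 : L.PreservesMonomorphisms :=
    K841.ExtSheaf.preservesMono adj hcen (K841.ExtFree.isFlat_of_isFinLocFree hA)
  have h7 : Limits.PreservesFiniteLimits L := by
    rw [L.preservesFiniteLimits_iff_forall_exact_map_and_mono]
    intro S hS
    have h := (L.preservesFiniteColimits_iff_forall_exact_map_and_epi).1 inferInstance S hS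
    have := hS.mono_f
    exact ⟨h.1, inferInstance⟩
  exact (Groth.Agent.Etcore.ExtAdj.extAdj adj M N i).bijective


end Groth.Agent.S15074
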