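import Groth.Statements.S15079
import Mathlib.RingTheory.AdjoinRoot
import Groth.Agent.MovLem.K837.Twist

set_option autoImplicit false
universe u v
open MovLem

namespace Groth.Agent.S15079

/-- Let k be an infinite perfect field, r, m ≥ 1, and let f be an irreducible polynomial in t over
k[x_1, …, x_r] whose constant term in t is a unit of k[x_1, …, x_r], so that the hypersurface Z : f
= 0 in affine (r+1)-space with coordinates x_1, …, x_r, t is integral and does not meet the divisor
t = 0 (the modulus condition in cubical degree one). Then there are a nonzero polynomial h in k[x_1,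
…, x_r] and an integer s₀ such that for every s ≥ s₀, every field K over k and every point g of K^r
with h(g) ≠ 0, the translate of Z_K by the automorphism x_i ↦ x_i + t^{s(m+1)} g_i, t ↦ t is finite
and surjective over affine r-space over K: the quotient of K[x_1, …, x_r][t] by the translated
equation is a finitely generated K[x_1, …, x_r]-module and K[x_1, …, x_r] maps injectively into it.
(The published statement allows every nonzero point g of affine r-space; for r = 2 and f = x_1 t − 1
the point g = (0, 1) translates Z to itself, which is not finite over the affine plane, so the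
conclusion is stated here for g in a nonempty open subset h ≠ 0, which is what the published proof
establishes.) -/
theorem result
    {k : Type u} [Field k] [Infinite k] [PerfectField k] (r m : ℕ) (hr : 1 ≤ r) (hm : 1 ≤ m)
    (f : Polynomial (MvPolynomial (Fin r) k)) (hirr : Irreducible f) (h0 : IsUnit (f.coeff 0)) :
    ∃ h : MvPolynomial (Fin r) k, h ≠ 0 ∧ ∃ s₀ : ℕ, ∀ s : ℕ, s₀ ≤ s →
      ∀ (K : Type v) [Field K] [Algebra k K] (g : Fin r → K), MvPolynomial.aeval g h ≠ 0 →
        ∀ F : Polynomial (MvPolynomial (Fin r) K),
          F = Polynomial.eval₂ (MvPolynomial.aeval (fun i : Fin r => Polynomial.C (MvPolynomial.X i) + Polynomial.C (MvPolynomial.C (g i)) * Polynomial.X ^ (s * (m + 1))) : MvPolynomial (Fin r) k →ₐ[k] Polynomial (MvPolynomial (Fin r) K)).toRingHom Polynomial.X f →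
          Module.Finite (MvPolynomial (Fin r) K) (Polynomial (MvPolynomial (Fin r) K) ⧸ Ideal.span {F}) ∧
          Function.Injective ((Ideal.Quotient.mk (Ideal.span {F})).comp (algebraMap (MvPolynomial (Fin r) K) (Polynomial (MvPolynomial (Fin r) K)))) := by
  have hf : f ≠ 0 := hirr.ne_zero
  obtain ⟨h, hh, D, j₀, hDj, H⟩ := K837.Twist.main.{u, v} f hf
  have hnd : 1 ≤ f.natDegree := by
    by_contra hlt
    have h1 : f.natDegree = 0 := by omega
    obtain ⟨a, rfl⟩ := Polynomial.natDegree_eq_zero.mp h1
    rw [Polynomial.coeff_C_zero] at h0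
    exact hirr.not_isUnit (h0.map Polynomial.C)
  refine ⟨h, hh, f.natDegree + 1, fun s hs K _ _ g hg F hF => ?_⟩
  have hN : f.natDegree < s * (m + 1) := by
    have : s * 1 ≤ s * (m + 1) := Nat.mul_le_mul_left _ (by omega)
    omega
  obtain ⟨H1, H2⟩ := H (s * (m + 1)) hN K g hg
  have hF' : F = K837.Twist.Phi k (s * (m + 1)) g f := hF
  rw [← hF'] at H1 H2
  set c := MvPolynomial.aeval g h with hc
  have hFpos : 1 ≤ F.natDegree := by
    rw [H1]
    have h2 := hDj hnd
    rcases Nat.eq_zero_or_pos D with h3 | h3
    · subst h3; omega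
    · have : 1 * 1 ≤ D * (s * (m + 1)) := Nat.mul_le_mul h3 (by omega)
      omega
  have hF0 : F ≠ 0 := by
    rintro rfl
    simp at hFpos
  have hu : IsUnit (MvPolynomial.C c : MvPolynomial (Fin r) K) :=
    (isUnit_iff_ne_zero.mpr hg).map MvPolynomial.C
  have hassoc : Ideal.span {F} = Ideal.span {Polynomial.C (MvPolynomial.C c⁻¹) * F} := by
    rw [Ideal.span_singleton_eq_span_singleton]
    refine (associated_unit_mul_left _ _ ?_).symm
    exact ((isUnit_iff_ne_zero.mpr (inv_ne_zero hg)).map MvPolynomial.C).map Polynomial.C
  have hmonic : (Polynomial.C (MvPolynomial.C c⁻¹) * F).Monic := by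
    rw [Polynomial.Monic, Polynomial.leadingCoeff_mul, Polynomial.leadingCoeff_C, H2,
      ← MvPolynomial.C_mul, inv_mul_cancel₀ hg, MvPolynomial.C_1]
  constructor
  · rw [hassoc]
    exact Polynomial.Monic.finite_adjoinRoot hmonic
  · rw [injective_iff_map_eq_zero]
    intro p hp
    rw [RingHom.comp_apply, Ideal.Quotient.eq_zero_iff_mem, Ideal.mem_span_singleton] at hp
    obtain ⟨q, hq⟩ := hp
    by_contra hp0
    have hC : algebraMap (MvPolynomial (Fin r) K) (Polynomial (MvPolynomial (Fin r) K)) p = Polynomial.C p := rfl
    rw [hC] at hq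
    have hq0 : q ≠ 0 := by
      rintro rfl
      rw [mul_zero] at hq
      exact hp0 (Polynomial.C_injective (by rw [hq, Polynomial.C_0]))
    have h1 := congrArg Polynomial.natDegree hq
    rw [Polynomial.natDegree_C, Polynomial.natDegree_mul hF0 hq0] at h1
    omega

end Groth.Agent.S15079
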