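import Groth.Statements.S15083
-- import your own Groth.Agent.* helpers here

set_option autoImplicit false
universe u
open MovLem

namespace Groth.Agent.S15083

/-- Let K be a field and r ≥ 1. For every element A of the special linear group SL_{r+1}(K) there is an
algebraic path in SL_{r+1} from the identity to A defined over K: a matrix M of determinant 1 with
entries in the polynomial ring K[y] such that M(0) is the identity matrix and M(1) = A. (The
published statement takes K to be the function field of SL_{r+1} over the ground field, A its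
generic point viewed as a K-rational point, and the parameter space to be the projective line minus
the point 1, with endpoints 0 and ∞; this row gives the path for an arbitrary K-point A on the
affine line with endpoints 0 and 1, which is what the published construction provides before
composing with the coordinate change y ↦ y/(y − 1).) -/
theorem result
    (K : Type u) [Field K] (r : ℕ) (hr : 1 ≤ r)
    (A : Matrix.SpecialLinearGroup (Fin (r + 1)) K) :
    ∃ M : Matrix.SpecialLinearGroup (Fin (r + 1)) (Polynomial K),
      Matrix.SpecialLinearGroup.map (Polynomial.evalRingHom (0 : K)) M = 1 ∧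
      Matrix.SpecialLinearGroup.map (Polynomial.evalRingHom (1 : K)) M = A := by
  obtain ⟨r, rfl⟩ : ∃ s, r = s + 1 := ⟨r - 1, by omega⟩
  have htr : ∀ (i j : Fin (r + 1 + 1)) (hij : i ≠ j) (a : K),
      ∃ M : Matrix.SpecialLinearGroup (Fin (r + 1 + 1)) (Polynomial K),
      Matrix.SpecialLinearGroup.map (Polynomial.evalRingHom (0 : K)) M = 1 ∧
      Matrix.SpecialLinearGroup.map (Polynomial.evalRingHom (1 : K)) M =
        Matrix.SpecialLinearGroup.transvection hij a := by
    intro i j hij a
    refine ⟨Matrix.SpecialLinearGroup.transvection hij (Polynomial.C a * Polynomial.X), ?_, ?_⟩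
    · ext k l
      simp only [Matrix.SpecialLinearGroup.transvection_coe, Matrix.SpecialLinearGroup.map_apply_coe,
        Matrix.single, RingHom.mapMatrix_apply, Matrix.map_apply, Matrix.add_apply, Matrix.of_apply,
        Matrix.one_apply, map_add, apply_ite, map_one, map_zero, Matrix.SpecialLinearGroup.coe_one]
      simp
    · ext k l
      simp only [Matrix.SpecialLinearGroup.transvection_coe, Matrix.SpecialLinearGroup.map_apply_coe,
        Matrix.single, RingHom.mapMatrix_apply, Matrix.map_apply, Matrix.add_apply, Matrix.of_apply,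
        Matrix.one_apply, map_add, apply_ite, map_one, map_zero]
      by_cases h : i = k ∧ j = l
      · simp [h]
      · simp [h]
  have hmul : ∀ A B : Matrix.SpecialLinearGroup (Fin (r + 1 + 1)) K,
      (∃ M : Matrix.SpecialLinearGroup (Fin (r + 1 + 1)) (Polynomial K),
      Matrix.SpecialLinearGroup.map (Polynomial.evalRingHom (0 : K)) M = 1 ∧
      Matrix.SpecialLinearGroup.map (Polynomial.evalRingHom (1 : K)) M = A) →
      (∃ M : Matrix.SpecialLinearGroup (Fin (r + 1 + 1)) (Polynomial K),
      Matrix.SpecialLinearGroup.map (Polynomial.evalRingHom (0 : K)) M = 1 ∧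
      Matrix.SpecialLinearGroup.map (Polynomial.evalRingHom (1 : K)) M = B) →
      (∃ M : Matrix.SpecialLinearGroup (Fin (r + 1 + 1)) (Polynomial K),
      Matrix.SpecialLinearGroup.map (Polynomial.evalRingHom (0 : K)) M = 1 ∧
      Matrix.SpecialLinearGroup.map (Polynomial.evalRingHom (1 : K)) M = A * B) := by
    rintro A B ⟨M, hM0, hM1⟩ ⟨N, hN0, hN1⟩
    exact ⟨M * N, by rw [map_mul, hM0, hN0, one_mul], by rw [map_mul, hM1, hN1]⟩
  have hdec : ∀ {i j : Fin (r + 1 + 1)} (hij : i ≠ j) (a : K) (ha : a ≠ 0),
      Matrix.SpecialLinearGroup.diag2n hij a ha = Matrix.SpecialLinearGroup.transvection hij a *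
      Matrix.SpecialLinearGroup.transvection hij.symm (- a⁻¹) *
      Matrix.SpecialLinearGroup.transvection hij a *
      Matrix.SpecialLinearGroup.transvection hij (-1) *
      Matrix.SpecialLinearGroup.transvection hij.symm 1 *
      Matrix.SpecialLinearGroup.transvection hij (-1) := by
    intro i j hij a ha
    apply Subtype.ext
    have hD : (Matrix.SpecialLinearGroup.diag2n hij a ha).1 =
        1 + Matrix.single i i (a - 1) + Matrix.single j j (a⁻¹ - 1) := by
      rw [Matrix.SpecialLinearGroup.diag2n_coe]
      ext k l
      simp only [Matrix.diagonal_apply, Matrix.single, Matrix.add_apply, Matrix.of_apply, Matrix.one_apply]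
      grind
    rw [hD]
    simp only [Matrix.SpecialLinearGroup.coe_mul, Matrix.SpecialLinearGroup.transvection_coe, mul_add,
      add_mul, mul_one, one_mul, Matrix.single_mul_single_same, Matrix.single_mul_single_of_ne _ _ _ _ hij,
      Matrix.single_mul_single_of_ne _ _ _ _ hij.symm, add_zero]
    have h1 : a * -a⁻¹ = -1 := by field_simp
    have h2 : -a⁻¹ * a = -1 := by field_simp
    have hs : ∀ p q : Fin (r + 1 + 1), ∃ E : Matrix (Fin (r + 1 + 1)) (Fin (r + 1 + 1)) K,
        ∀ x, Matrix.single p q x = x • E := fun p q =>
      ⟨Matrix.single p q 1, fun x => by simp [Matrix.smul_single]⟩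
    obtain ⟨E1, hE1⟩ := hs i j
    obtain ⟨E2, hE2⟩ := hs j i
    obtain ⟨E3, hE3⟩ := hs i i
    obtain ⟨E4, hE4⟩ := hs j j
    simp only [hE1, hE2, hE3, hE4, h1, h2]
    simp only [mul_one, one_mul, mul_neg, neg_mul, neg_neg]
    match_scalars <;> field_simp <;> ring
  refine Matrix.SpecialLinearGroup.diagonal_transvection_induction' _ A (fun i j hij c hc ↦ ?_) htr hmul
  rw [hdec hij c hc]
  exact hmul _ _ (hmul _ _ (hmul _ _ (hmul _ _ (hmul _ _ (htr _ _ _ _) (htr _ _ _ _)) (htr _ _ _ _))
    (htr _ _ _ _)) (htr _ _ _ _)) (htr _ _ _ _)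

end Groth.Agent.S15083
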