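import Groth.Statements.S15084
import Groth.Agent.Etalg.NormalDvr

set_option autoImplicit false
universe u
open MovLem

namespace Groth.Agent.S15084

/-- Let A be a Noetherian integrally closed domain with fraction field K, let B be a domain with
fraction field L, and let A → B be an injective ring homomorphism, with K → L the induced map of
fraction fields, such that Spec B → Spec A is surjective (every prime ideal of A is the contraction
of a prime ideal of B). If a ∈ K is such that its image in L lies in B, then a ∈ A. (The published
statement: for a surjective morphism f : Y → X of normal integral separated schemes of finite type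
over a perfect field and a Cartier divisor D on X, if f^*D is effective then D is effective; a
Cartier divisor is locally the divisor of a nonzero rational function a, effectivity of div(a) on a
normal scheme means that a is a regular function, and this row is that local statement, which is
what the published proof establishes.) -/
theorem result
    (A B K L : Type u) [CommRing A] [IsDomain A] [IsNoetherianRing A] [IsIntegrallyClosed A]
    [CommRing B] [IsDomain B] [Field K] [Field L]
    [Algebra A B] [Algebra A K] [IsFractionRing A K] [Algebra B L] [IsFractionRing B L]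
    [Algebra K L] [Algebra A L] [IsScalarTower A K L] [IsScalarTower A B L]
    (hinj : Function.Injective (algebraMap A B))
    (hsurj : ∀ p : Ideal A, p.IsPrime → ∃ q : Ideal B, q.IsPrime ∧ q.comap (algebraMap A B) = p)
    (a : K) (ha : algebraMap K L a ∈ (algebraMap B L).range) :
    a ∈ (algebraMap A K).range := by
  classical
  have hfrac := IsLocalization.exists_mk'_eq (nonZeroDivisors A) a
  obtain ⟨c, d, hcd⟩ := hfrac
  have hd0 : (d : A) ≠ 0 := nonZeroDivisors.ne_zero d.2
  have hda : a * algebraMap A K d = algebraMap A K c := by
    rw [← hcd, IsLocalization.mk'_spec]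
  by_contra hna
  have hnotmem : c ∉ Ideal.span {(d : A)} := by
    intro hmem
    obtain ⟨e, he⟩ := Ideal.mem_span_singleton'.mp hmem
    apply hna
    refine ⟨e, ?_⟩
    have hdK : algebraMap A K d ≠ 0 := IsFractionRing.to_map_ne_zero_of_mem_nonZeroDivisors d.2
    apply mul_right_cancel₀ hdK
    rw [hda, ← map_mul, he]
  obtain ⟨P, hP, -, hdvr, hs⟩ := Groth.Agent.Etalg.NormalDvr.exists_dvr_prime_of_notMem_span A hd0 hnotmem
  -- in the DVR, `c ∣ d` strictly
  have hx : ∃ x ∈ P, ∃ s ∉ P, c * x = d * s := by
    have htot := ValuationRing.dvd_total (algebraMap A (Localization.AtPrime P) c)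
      (algebraMap A (Localization.AtPrime P) d)
    have hkey : ¬ (algebraMap A (Localization.AtPrime P) d ∣ algebraMap A (Localization.AtPrime P) c) := by
      rintro ⟨z, hz⟩
      obtain ⟨⟨y, s⟩, hys⟩ := IsLocalization.surj P.primeCompl z
      apply s.2
      apply hs
      rw [Ideal.mem_span_singleton]
      refine ⟨y, ?_⟩
      apply IsLocalization.injective (Localization.AtPrime P) P.primeCompl_le_nonZeroDivisors
      rw [map_mul, map_mul, hz, ← hys]
      ring
    obtain ⟨z, hz⟩ := htot.resolve_right hkey
    obtain ⟨⟨y, s⟩, hys⟩ := IsLocalization.surj P.primeCompl z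
    have heq : c * y = d * s := by
      apply IsLocalization.injective (Localization.AtPrime P) P.primeCompl_le_nonZeroDivisors
      rw [map_mul, map_mul, hz, ← hys]
      ring
    by_cases hy : y ∈ P
    · exact ⟨y, hy, s, s.2, heq⟩
    · exfalso
      apply hy
      apply hs
      rw [Ideal.mem_span_singleton]
      exact ⟨s, by rw [mul_comm, heq]⟩
  obtain ⟨x, hxP, s, hsP, hxs⟩ := hx
  obtain ⟨b, hb⟩ := ha
  obtain ⟨q, hq, hqP⟩ := hsurj P hP
  have hBL : Function.Injective (algebraMap B L) := IsFractionRing.injective B L
  have h1 : algebraMap A B c = b * algebraMap A B d := by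
    apply hBL
    rw [map_mul, ← IsScalarTower.algebraMap_apply, ← IsScalarTower.algebraMap_apply, hb,
      IsScalarTower.algebraMap_apply A K L, IsScalarTower.algebraMap_apply A K L, ← hda, map_mul]
  have h2 : b * algebraMap A B x = algebraMap A B s := by
    have hd' : algebraMap A B d ≠ 0 := by
      rw [Ne, map_eq_zero_iff _ hinj]; exact hd0
    apply mul_left_cancel₀ hd'
    have := congrArg (algebraMap A B) hxs
    rw [map_mul, map_mul, h1] at this
    rw [← this]
    ring
  apply hsP
  rw [← hqP, Ideal.mem_comap, ← h2]
  apply Ideal.mul_mem_left
  rw [← Ideal.mem_comap, hqP]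
  exact hxP

end Groth.Agent.S15084
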