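import Groth.Statements.S15085
import Groth.Agent.MovLem.K837.FinComp

set_option autoImplicit false
universe u
open CategoryTheory CategoryTheory.Limits AlgebraicGeometry
open MovLem

namespace Groth.Agent.S15085

/-- Let k be a field, X an affine scheme of finite type over k which is equidimensional (all irreducible
components have the same dimension), B̂ a proper smooth geometrically integral k-scheme and B ⊆ B̂ a
nonempty affine open subscheme. Let Z be an integral closed subscheme of X ×_k B of dimension dim X
(that is, of codimension dim B, the product X ×_k B being equidimensional of dimension dim X + dim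
B). Then the projection Z → X is finite and maps Z onto an irreducible component of X if and only if
Z is closed in X ×_k B̂. (The published statement allows X to be essentially of finite type, i.e.
also a localization of such a scheme at finitely many points, takes B̂ projective of positive
dimension, and phrases the dimension condition as codimension dim B; this row is the finite-type
case with properness in place of projectivity.) -/
theorem result
    {k : Type u} [Field k] {X Bhat Z : Scheme.{u}}
    (sX : X ⟶ Spec (CommRingCat.of k)) (sB : Bhat ⟶ Spec (CommRingCat.of k))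
    [IsAffine X] [LocallyOfFiniteType sX]
    (hXeq : ∀ T ∈ irreducibleComponents (X : Type u), topologicalKrullDim T = topologicalKrullDim X)
    [IsProper sB] [Smooth sB] [GeometricallyIntegral sB]
    (B : Bhat.Opens) (hB : IsAffineOpen B) (hBne : (B : Set Bhat).Nonempty)
    [IsIntegral Z] (ι : Z ⟶ ((pullback.snd sX sB) ⁻¹ᵁ B).toScheme) [IsClosedImmersion ι]
    (hZ : topologicalKrullDim Z = topologicalKrullDim X)
    (j : Z ⟶ pullback sX sB) (hj : j = ι ≫ ((pullback.snd sX sB) ⁻¹ᵁ B).ι) :
    (IsFinite (j ≫ pullback.fst sX sB) ∧
        Set.range (j ≫ pullback.fst sX sB).base ∈ irreducibleComponents (X : Type u)) ↔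
      IsClosed (Set.range j.base) := by
  constructor
  · rintro ⟨hfin, -⟩
    have h1 : IsProper j := IsProper.of_comp j (pullback.fst sX sB)
    exact j.isClosedMap.isClosed_range
  · intro hcl
    have himm : IsPreimmersion j := by rw [hj]; infer_instance
    have hjcl : IsClosedImmersion j := IsClosedImmersion.of_isPreimmersion j hcl
    have hprop : IsProper (j ≫ pullback.fst sX sB) := inferInstance
    -- `Z` is affine
    have haff : IsAffineOpen ((pullback.snd sX sB) ⁻¹ᵁ B) := by
      have h0 : IsAffineHom sX := isAffineHom_of_isAffine sX
      have h1 : IsAffineHom (pullback.snd sX sB) :=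
        MorphismProperty.pullback_snd sX sB h0
      exact hB.preimage _
    have haff' : IsAffine ((pullback.snd sX sB) ⁻¹ᵁ B).toScheme := haff
    have hZaff : IsAffine Z := isAffine_of_isAffineHom ι
    have haffh : IsAffineHom (j ≫ pullback.fst sX sB) := inferInstance
    have hfin : IsFinite (j ≫ pullback.fst sX sB) := IsFinite.iff_isProper_and_isAffineHom.mpr ⟨hprop, haffh⟩
    refine ⟨hfin, ?_⟩
    have hdim : topologicalKrullDim X ≠ ⊤ := by
      let κ : CommRingCat.of k ⟶ Γ(X, ⊤) := (Scheme.ΓSpecIso (CommRingCat.of k)).inv ≫ sX.appTop
      let _ : Algebra k Γ(X, ⊤) := κ.hom.toAlgebra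
      have hFT : Algebra.FiniteType k Γ(X, ⊤) := by
        have h1 : sX.appTop.hom.FiniteType := (HasRingHomProperty.iff_of_isAffine (P := @LocallyOfFiniteType)).mp
          inferInstance
        exact RingHom.FiniteType.comp h1
          (RingHom.FiniteType.of_surjective _ (ConcreteCategory.bijective_of_isIso
            (Scheme.ΓSpecIso (CommRingCat.of k)).inv).2)
      have hA : topologicalKrullDim X = ringKrullDim Γ(X, ⊤) := by
        rw [← PrimeSpectrum.topologicalKrullDim_eq_ringKrullDim]
        exact (Scheme.homeoOfIso X.isoSpec).isHomeomorph.topologicalKrullDim_eq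
      rw [hA]
      exact K837.FinComp.ringKrullDim_ne_top k Γ(X, ⊤)
    exact K837.FinComp.range_mem_irreducibleComponents (j ≫ pullback.fst sX sB) hdim hZ

end Groth.Agent.S15085
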