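import Groth.Statements.S15086
import Groth.Agent.MovLem.K837.GeomPts

set_option autoImplicit false
universe u
open CategoryTheory CategoryTheory.Limits AlgebraicGeometry
open MovLem

namespace Groth.Agent.S15086

/-- Let k be an infinite perfect field with algebraic closure k̄, let φ : X → Y be a finite morphism of
k-schemes locally of finite type, let x be a closed point of X and y = φ(x). Let π_X : X_{k̄} → X
and π_Y : Y_{k̄} → Y be the base-change projections and φ_{k̄} : X_{k̄} → Y_{k̄} the induced
morphism. Then the number of points of π_Y⁻¹(y) is at most the number of points of π_X⁻¹(x);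
equality holds if and only if the residue field extension k(y) → k(x) is an isomorphism; and
equality holds whenever φ_{k̄} is injective on π_X⁻¹(x). (Cardinalities are taken in ℕ ∪ {∞}; both
fibres are in fact finite.) -/
theorem result
    {k : Type u} [Field k] [Infinite k] [PerfectField k] {X Y : Scheme.{u}}
    (sX : X ⟶ Spec (CommRingCat.of k)) (sY : Y ⟶ Spec (CommRingCat.of k))
    [LocallyOfFiniteType sX] [LocallyOfFiniteType sY]
    (φ : X ⟶ Y) (hφ : φ ≫ sY = sX) [IsFinite φ]
    (i : Spec (CommRingCat.of (AlgebraicClosure k)) ⟶ Spec (CommRingCat.of k))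
    (hi : i = Spec.map (CommRingCat.ofHom (algebraMap k (AlgebraicClosure k))))
    (φbar : pullback sX i ⟶ pullback sY i)
    (h1 : φbar ≫ pullback.fst sY i = pullback.fst sX i ≫ φ)
    (h2 : φbar ≫ pullback.snd sY i = pullback.snd sX i)
    (x : X) (hx : IsClosed ({x} : Set X)) :
    ((pullback.fst sY i).base ⁻¹' {φ.base x}).encard ≤ ((pullback.fst sX i).base ⁻¹' {x}).encard ∧
      (((pullback.fst sY i).base ⁻¹' {φ.base x}).encard = ((pullback.fst sX i).base ⁻¹' {x}).encard ↔
          Function.Bijective (φ.residueFieldMap x).hom) ∧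
      (Set.InjOn φbar.base ((pullback.fst sX i).base ⁻¹' {x}) →
        ((pullback.fst sY i).base ⁻¹' {φ.base x}).encard = ((pullback.fst sX i).base ⁻¹' {x}).encard) := by
  classical
  subst hi
  -- the point `φ x` is closed
  have hy : IsClosed ({φ x} : Set Y) := by
    have h3 := φ.isClosedMap {x} hx
    rwa [Set.image_singleton] at h3
  let ψx : CommRingCat.of k ⟶ X.residueField x := Spec.preimage (X.fromSpecResidueField x ≫ sX)
  have hψx : Spec.map ψx = X.fromSpecResidueField x ≫ sX := Spec.map_preimage _
  let ψy : CommRingCat.of k ⟶ Y.residueField (φ x) := Spec.preimage (Y.fromSpecResidueField (φ x) ≫ sY)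
  have hψy : Spec.map ψy = Y.fromSpecResidueField (φ x) ≫ sY := Spec.map_preimage _
  have hcomp : ψy ≫ φ.residueFieldMap x = ψx := by
    apply Spec.map_injective
    rw [Spec.map_comp, hψy, hψx, ← hφ, Scheme.Hom.SpecMap_residueFieldMap_fromSpecResidueField_assoc]
  have hfx := K837.GeomPts.isFinite_pt sX x hx ψx hψx
  have hfy := K837.GeomPts.isFinite_pt sY (φ x) hy ψy hψy
  have hX := K837.GeomPts.encard_fiber sX (AlgebraicClosure k) x hx ψx hψx
  have hY := K837.GeomPts.encard_fiber sY (AlgebraicClosure k) (φ x) hy ψy hψy
  let _ : Algebra k (X.residueField x) := ψx.hom.toAlgebra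
  let _ : Algebra k (Y.residueField (φ x)) := ψy.hom.toAlgebra
  have : Module.Finite k (X.residueField x) := hfx
  have : Module.Finite k (Y.residueField (φ x)) := hfy
  let ρ : Y.residueField (φ x) →ₐ[k] X.residueField x :=
    { (φ.residueFieldMap x).hom with
      commutes' := fun r => by
        change (ψy ≫ φ.residueFieldMap x).hom r = ψx.hom r
        rw [hcomp] }
  have hρinj : Function.Injective ρ := ρ.toRingHom.injective
  have hle : Module.finrank k (Y.residueField (φ x)) ≤ Module.finrank k (X.residueField x) :=
    LinearMap.finrank_le_finrank_of_injective (f := ρ.toLinearMap) hρinj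
  have hbij : Module.finrank k (Y.residueField (φ x)) = Module.finrank k (X.residueField x) ↔
      Function.Bijective (φ.residueFieldMap x).hom := by
    constructor
    · intro heq
      refine ⟨hρinj, ?_⟩
      exact (LinearMap.injective_iff_surjective_of_finrank_eq_finrank (f := ρ.toLinearMap) heq).mp hρinj
    · intro hb
      exact LinearEquiv.finrank_eq (LinearEquiv.ofBijective ρ.toLinearMap hb)
  have hXle : ((pullback.fst sY (Spec.map (CommRingCat.ofHom (algebraMap k (AlgebraicClosure k))))).base ⁻¹' {φ.base x}).encard ≤
      ((pullback.fst sX (Spec.map (CommRingCat.ofHom (algebraMap k (AlgebraicClosure k))))).base ⁻¹' {x}).encard := by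
    refine hY.le.trans (le_trans ?_ hX.ge)
    exact_mod_cast hle
  refine ⟨hXle, ?_, ?_⟩
  · rw [← hbij]
    constructor
    · intro heq
      have h3 := hY.symm.trans (heq.trans hX)
      exact_mod_cast h3
    · intro heq
      refine hY.trans (Eq.trans ?_ hX.symm)
      exact_mod_cast heq
  · intro hinj
    refine le_antisymm hXle ?_
    rw [← hinj.encard_image]
    apply Set.encard_le_encard
    rintro _ ⟨z, hz, rfl⟩
    have h3 : (φbar ≫ pullback.fst sY _) z = φ x := by
      rw [h1]
      change φ (pullback.fst sX _ z) = φ x
      exact congrArg φ hz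
    exact h3

end Groth.Agent.S15086
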