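import Groth.Statements.S15087
import Groth.Agent.MovLem.K837.BadLocus

set_option autoImplicit false
universe u v w
open MovLem

namespace Groth.Agent.S15087

/-- Let k be an infinite perfect field, r, m, s ≥ 1 and d ≥ 0, and put N = s(m+1). In affine space with
coordinates x_1, …, x_r, t, y_1, …, y_d (the cube of dimension d taken as affine d-space with faces
given by setting some coordinates equal to 0 or 1), let Z = V(I) be an integral closed subscheme of
dimension r which does not meet the hyperplane t = 0 and which meets every face {y_i = ε_i for i ∈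
S} (S nonempty, ε_i ∈ {0, 1}) in dimension at most r − |S|. Let Σ be a finite set of closed points
of affine r-space over k. Then there is a nonzero polynomial h in k[g_1, …, g_r] such that for every
field K over k and every g ∈ K^r with h(g) ≠ 0, the translate of Z_K by x ↦ x + t^N g meets no set
{x ∈ Σ} × A^1 × F with F a proper face: for every field L over K, every point ξ of affine r-space
over L lying on a point of Σ, every t ∈ L and every y ∈ L^d lying on a proper face, the point (ξ +
t^N g, t, y) is not a zero of I. (The published statement assumes that Z is an irreducible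
admissible additive cycle meeting the faces through Σ properly; the two consequences of
admissibility that its proof uses — Z misses t = 0, and Z meets all faces properly — are the
hypotheses here, and the dense open subset of affine r-space is given as the locus h ≠ 0.) -/
theorem result
    {k : Type u} [Field k] [Infinite k] [PerfectField k] (r m s d : ℕ) (hr : 1 ≤ r) (hm : 1 ≤ m) (hs : 1 ≤ s)
    (I : Ideal (MvPolynomial (Fin r ⊕ (Unit ⊕ Fin d)) k)) (hI : I.IsPrime)
    (hdim : ringKrullDim (MvPolynomial (Fin r ⊕ (Unit ⊕ Fin d)) k ⧸ I) = r)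
    (ht0 : I ⊔ Ideal.span {MvPolynomial.X (Sum.inr (Sum.inl ()))} = ⊤)
    (hface : ∀ (S : Finset (Fin d)), S.Nonempty → ∀ (ε : Fin d → k), (∀ i, ε i = 0 ∨ ε i = 1) →
      ringKrullDim (MvPolynomial (Fin r ⊕ (Unit ⊕ Fin d)) k ⧸
        (I ⊔ Ideal.span ((fun i => MvPolynomial.X (Sum.inr (Sum.inr i)) - MvPolynomial.C (ε i)) '' (S : Set (Fin d))))) ≤ (r - S.card : ℕ))
    (Sigma : Finset (Ideal (MvPolynomial (Fin r) k))) (hSigma : ∀ P ∈ Sigma, P.IsMaximal) :
    ∃ h : MvPolynomial (Fin r) k, h ≠ 0 ∧
      ∀ (K : Type v) [Field K] [Algebra k K] (g : Fin r → K), MvPolynomial.aeval g h ≠ 0 →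
        ∀ (L : Type w) [Field L] [Algebra k L] [Algebra K L] [IsScalarTower k K L]
          (ξ : Fin r → L) (t : L) (y : Fin d → L),
          ∀ P ∈ Sigma, (∀ p ∈ P, MvPolynomial.aeval ξ p = 0) →
            ∀ (S : Finset (Fin d)), S.Nonempty → ∀ (ε : Fin d → k), (∀ i, ε i = 0 ∨ ε i = 1) →
              (∀ i ∈ S, y i = algebraMap k L (ε i)) →
                ¬ (∀ q ∈ I, MvPolynomial.aeval
                    (Sum.elim (fun i => ξ i + t ^ (s * (m + 1)) * algebraMap K L (g i))
                      (Sum.elim (fun _ : Unit => t) y)) q = 0) := by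
  classical
  have key : ∀ (P : Ideal (MvPolynomial (Fin r) k)) (S : Finset (Fin d)) (b : Fin d → Bool),
      ∃ h : MvPolynomial (Fin r) k, h ≠ 0 ∧ (P ∈ Sigma → S.Nonempty →
        ∀ (L : Type w) [Field L] [Algebra k L] (ξ : Fin r → L) (t : L) (y : Fin d → L) (g : Fin r → L),
          (∀ p ∈ P, MvPolynomial.aeval ξ p = 0) →
          (∀ i ∈ S, y i = algebraMap k L (if b i then 1 else 0)) →
          (∀ q ∈ I, MvPolynomial.aeval
            (Sum.elim (fun i => ξ i + t ^ (s * (m + 1)) * g i) (Sum.elim (fun _ : Unit => t) y)) q = 0) →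
          MvPolynomial.aeval g h = 0) := by
    intro P S b
    by_cases hPS : P ∈ Sigma ∧ S.Nonempty
    swap
    · exact ⟨1, one_ne_zero, fun h1 h2 => absurd ⟨h1, h2⟩ hPS⟩
    obtain ⟨hP, hS⟩ := hPS
    set ε : Fin d → k := fun i => if b i then 1 else 0 with hε
    have hε01 : ∀ i, ε i = 0 ∨ ε i = 1 := by
      intro i
      rw [hε]
      by_cases hb : b i <;> simp [hb]
    set J : Ideal (MvPolynomial (Fin r ⊕ (Unit ⊕ Fin d)) k) :=
      I ⊔ Ideal.span ((fun i => MvPolynomial.X (Sum.inr (Sum.inr i)) - MvPolynomial.C (ε i)) ''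
        (S : Set (Fin d))) with hJ
    have hdimJ : ringKrullDim (MvPolynomial (Fin r ⊕ (Unit ⊕ Fin d)) k ⧸ J) < r := by
      refine (hface S hS ε hε01).trans_lt ?_
      have : 1 ≤ S.card := Finset.card_pos.mpr hS
      exact_mod_cast (by omega : r - S.card < r)
    have htu : IsUnit (Ideal.Quotient.mk J (MvPolynomial.X (Sum.inr (Sum.inl ())))) := by
      have h1 : (1 : MvPolynomial (Fin r ⊕ (Unit ⊕ Fin d)) k) ∈
          I ⊔ Ideal.span {MvPolynomial.X (Sum.inr (Sum.inl ()))} := by rw [ht0]; trivial
      obtain ⟨a, ha, c, hc, hac⟩ := Submodule.mem_sup.mp h1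
      obtain ⟨e, he⟩ := Ideal.mem_span_singleton'.mp hc
      refine IsUnit.of_mul_eq_one (Ideal.Quotient.mk J e) ?_
      rw [← map_mul, mul_comm, he, ← map_one (Ideal.Quotient.mk J), ← hac, map_add,
        Ideal.Quotient.eq_zero_iff_mem.mpr (show a ∈ J from Ideal.mem_sup_left ha), zero_add]
    obtain ⟨h, hh, H⟩ := K837.BadLocus.exists_bad.{u, u, w} (k := k)
      (D := MvPolynomial (Fin r ⊕ (Unit ⊕ Fin d)) k ⧸ J) hdimJ
      (fun i => Ideal.Quotient.mk J (MvPolynomial.X (Sum.inl i)))
      (Ideal.Quotient.mk J (MvPolynomial.X (Sum.inr (Sum.inl ())))) htu (s * (m + 1)) P (hSigma P hP)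
    refine ⟨h, hh, fun _ _ L _ _ ξ t y g hξ hy hI0 => ?_⟩
    have hJ0 : ∀ a ∈ J, MvPolynomial.aeval
        (Sum.elim (fun i => ξ i + t ^ (s * (m + 1)) * g i) (Sum.elim (fun _ : Unit => t) y)) a = 0 := by
      intro a ha
      have hle : J ≤ RingHom.ker (MvPolynomial.aeval (R := k)
          (Sum.elim (fun i => ξ i + t ^ (s * (m + 1)) * g i) (Sum.elim (fun _ : Unit => t) y))) := by
        rw [hJ, sup_le_iff]
        refine ⟨fun a ha => hI0 a ha, ?_⟩
        rw [Ideal.span_le]
        rintro _ ⟨i, hi, rfl⟩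
        change MvPolynomial.aeval _ _ = 0
        rw [map_sub, MvPolynomial.aeval_X, MvPolynomial.aeval_C]
        simp only [Sum.elim_inr]
        rw [hy i hi, sub_self]
      exact hle ha
    have hψX : ∀ j, Ideal.Quotient.liftₐ J (MvPolynomial.aeval
        (Sum.elim (fun i => ξ i + t ^ (s * (m + 1)) * g i) (Sum.elim (fun _ : Unit => t) y))) hJ0
        (Ideal.Quotient.mk J (MvPolynomial.X j)) =
        (Sum.elim (fun i => ξ i + t ^ (s * (m + 1)) * g i) (Sum.elim (fun _ : Unit => t) y)) j :=
      fun j => MvPolynomial.aeval_X _ j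
    refine H L (Ideal.Quotient.liftₐ J _ hJ0) ξ g hξ fun i => ?_
    rw [hψX, hψX]
    rfl
  choose H hH0 hH using key
  refine ⟨∏ P ∈ Sigma, ∏ S : Finset (Fin d), ∏ b : Fin d → Bool, H P S b, ?_, ?_⟩
  · exact Finset.prod_ne_zero_iff.mpr fun P _ => Finset.prod_ne_zero_iff.mpr fun S _ =>
      Finset.prod_ne_zero_iff.mpr fun b _ => hH0 P S b
  · intro K _ _ g hg L _ _ _ _ ξ t y P hP hξ S hS ε hε hyε hI0
    let b : Fin d → Bool := fun i => decide (ε i = 1)
    have hb : ∀ i, (if b i then (1 : k) else 0) = ε i := by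
      intro i
      rcases hε i with h | h
      · simp [b, h]
      · simp [b, h]
    have h1 : MvPolynomial.aeval (fun i => algebraMap K L (g i)) (H P S b) = 0 := by
      refine hH P S b hP hS L ξ t y (fun i => algebraMap K L (g i)) hξ (fun i hi => ?_) hI0
      rw [hyε i hi, hb]
    have h2 : MvPolynomial.aeval (fun i => algebraMap K L (g i)) (H P S b) =
        algebraMap K L (MvPolynomial.aeval g (H P S b)) := MvPolynomial.aeval_algebraMap_apply L g _
    rw [h2, map_eq_zero_iff _ (algebraMap K L).injective] at h1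
    apply hg
    rw [map_prod]
    refine Finset.prod_eq_zero hP ?_
    rw [map_prod]
    refine Finset.prod_eq_zero (Finset.mem_univ S) ?_
    rw [map_prod]
    exact Finset.prod_eq_zero (Finset.mem_univ b) h1

end Groth.Agent.S15087
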