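import Groth.Statements.S15088
import Groth.Agent.MovLem.K837.BadLocus
import Groth.Agent.MovLem.K837.Lying
import Mathlib.RingTheory.AdjoinRoot
import Mathlib.FieldTheory.Minpoly.Field
import Mathlib.Algebra.MvPolynomial.Equiv
import Mathlib.RingTheory.KrullDimension.Field

set_option autoImplicit false
universe u v
open MovLem

namespace Groth.Agent.S15088

/-- Let k be an infinite perfect field, r, m, s ≥ 1 and d ≥ 0, and put N = s(m+1). In affine space with
coordinates x_1, …, x_r, t, y_1, …, y_d let Z = V(I) be an integral closed subscheme of dimension r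
which does not meet t = 0 and such that neither the projection of Z to the x-coordinates nor its
projection to the t-line is dominant (I contains a nonzero polynomial in the x's alone and a nonzero
polynomial in t alone). Let Σ be a finite set of closed points of affine r-space over k. Then there
is a nonzero polynomial h in k[g_1, …, g_r] such that for every field K over k and every g ∈ K^r
with h(g) ≠ 0 the translate Z_g = {(x, t, y) : (x + t^N g, t, y) ∈ Z_K} of Z_K is empty over an open
neighbourhood of the points of affine r-space over K lying over Σ: the closure of the image of Z_g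
in affine r-space over K (the zero set of the contraction to K[x_1, …, x_r] of the ideal of Z_g)
contains no point lying over a point of Σ. (The published statement assumes that Z is an irreducible
admissible additive cycle meeting the faces through Σ properly; of this its proof uses only that Z
misses t = 0, which is a hypothesis here, and the dense open subset of affine r-space is given as
the locus h ≠ 0.) -/
theorem result
    {k : Type u} [Field k] [Infinite k] [PerfectField k] (r m s d : ℕ) (hr : 1 ≤ r) (hm : 1 ≤ m) (hs : 1 ≤ s)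
    (I : Ideal (MvPolynomial (Fin r ⊕ (Unit ⊕ Fin d)) k)) (hI : I.IsPrime)
    (hdim : ringKrullDim (MvPolynomial (Fin r ⊕ (Unit ⊕ Fin d)) k ⧸ I) = r)
    (ht0 : I ⊔ Ideal.span {MvPolynomial.X (Sum.inr (Sum.inl ()))} = ⊤)
    (hx : Ideal.comap (MvPolynomial.rename (Sum.inl : Fin r → Fin r ⊕ (Unit ⊕ Fin d)) :
        MvPolynomial (Fin r) k →ₐ[k] MvPolynomial (Fin r ⊕ (Unit ⊕ Fin d)) k) I ≠ ⊥)
    (ht : Ideal.comap (MvPolynomial.rename (fun _ : Unit => (Sum.inr (Sum.inl ()) : Fin r ⊕ (Unit ⊕ Fin d))) :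
        MvPolynomial Unit k →ₐ[k] MvPolynomial (Fin r ⊕ (Unit ⊕ Fin d)) k) I ≠ ⊥)
    (Sigma : Finset (Ideal (MvPolynomial (Fin r) k))) (hSigma : ∀ P ∈ Sigma, P.IsMaximal) :
    ∃ h : MvPolynomial (Fin r) k, h ≠ 0 ∧
      ∀ (K : Type v) [Field K] [Algebra k K] (g : Fin r → K), MvPolynomial.aeval g h ≠ 0 →
        ∀ P ∈ Sigma,
          Ideal.comap (MvPolynomial.rename (Sum.inl : Fin r → Fin r ⊕ (Unit ⊕ Fin d)) :
              MvPolynomial (Fin r) K →ₐ[K] MvPolynomial (Fin r ⊕ (Unit ⊕ Fin d)) K)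
            (Ideal.map (MvPolynomial.aeval
                (Sum.elim (fun i : Fin r => MvPolynomial.X (Sum.inl i) +
                    MvPolynomial.X (Sum.inr (Sum.inl ())) ^ (s * (m + 1)) * MvPolynomial.C (g i))
                  (fun j : Unit ⊕ Fin d => MvPolynomial.X (Sum.inr j))) :
                MvPolynomial (Fin r ⊕ (Unit ⊕ Fin d)) k →ₐ[k] MvPolynomial (Fin r ⊕ (Unit ⊕ Fin d)) K) I) ⊔
            Ideal.map (MvPolynomial.map (algebraMap k K) : MvPolynomial (Fin r) k →+* MvPolynomial (Fin r) K) P = ⊤ := by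
  classical
  obtain ⟨p, hpI, hp0⟩ := Submodule.exists_mem_ne_zero_of_ne_bot hx
  obtain ⟨q', hqI', hq0'⟩ := Submodule.exists_mem_ne_zero_of_ne_bot ht
  rw [Ideal.mem_comap] at hpI hqI'
  -- the class of `t` is algebraic over `k`
  have hdomA : IsDomain (MvPolynomial (Fin r ⊕ (Unit ⊕ Fin d)) k ⧸ I) := inferInstance
  set tA : MvPolynomial (Fin r ⊕ (Unit ⊕ Fin d)) k ⧸ I :=
    Ideal.Quotient.mk I (MvPolynomial.X (Sum.inr (Sum.inl ()))) with htA
  have htA0 : tA ≠ 0 := by
    intro h0
    rw [htA, Ideal.Quotient.eq_zero_iff_mem] at h0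
    apply hI.ne_top
    rw [eq_top_iff, ← ht0, sup_le_iff]
    exact ⟨le_rfl, by rw [Ideal.span_le]; simpa using h0⟩
  have hpu : ∀ x : MvPolynomial (Fin r ⊕ (Unit ⊕ Fin d)) k ⧸ I,
      Polynomial.aeval x (MvPolynomial.uniqueAlgEquiv k Unit q') = MvPolynomial.aeval (fun _ : Unit => x) q' := by
    intro x
    have : ((Polynomial.aeval x).comp (MvPolynomial.uniqueAlgEquiv k Unit).toAlgHom) =
        MvPolynomial.aeval (fun _ : Unit => x) := by
      ext i
      simp
    exact DFunLike.congr_fun this q'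
  have htalg : IsAlgebraic k tA := by
    refine ⟨MvPolynomial.uniqueAlgEquiv k Unit q', ?_, ?_⟩
    · intro h; exact hq0' ((map_eq_zero_iff _ (MvPolynomial.uniqueAlgEquiv k Unit).injective).mp h)
    · rw [hpu]
      have h1 : Ideal.Quotient.mk I (MvPolynomial.rename
          (fun _ : Unit => (Sum.inr (Sum.inl ()) : Fin r ⊕ (Unit ⊕ Fin d))) q') = 0 :=
        Ideal.Quotient.eq_zero_iff_mem.mpr hqI'
      rw [← h1]
      have h2 : (MvPolynomial.aeval (R := k) (fun _ : Unit => tA)) =
          (Ideal.Quotient.mkₐ k I).comp (MvPolynomial.rename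
            (fun _ : Unit => (Sum.inr (Sum.inl ()) : Fin r ⊕ (Unit ⊕ Fin d)))) := by
        ext i
        simp [htA]
      rw [h2]
      rfl
  have htint : IsIntegral k tA := htalg.isIntegral
  set q := minpoly k tA with hq
  have hqmonic : q.Monic := minpoly.monic htint
  have hq0 : q.coeff 0 ≠ 0 := minpoly.coeff_zero_ne_zero htint htA0
  have hqI : Polynomial.aeval (MvPolynomial.X (Sum.inr (Sum.inl ())) :
      MvPolynomial (Fin r ⊕ (Unit ⊕ Fin d)) k) q ∈ I := by
    rw [← Ideal.Quotient.eq_zero_iff_mem]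
    have h1 := minpoly.aeval k tA
    rw [← h1]
    exact (Polynomial.aeval_algHom_apply (Ideal.Quotient.mkₐ k I) _ _).symm
  -- the ring `D`
  set Rp := MvPolynomial (Fin r) k ⧸ Ideal.span {p} with hRp
  have hRpdim : ringKrullDim Rp < r := by
    have h1 := ringKrullDim_quotient_succ_le_of_nonZeroDivisor (mem_nonZeroDivisors_of_ne_zero hp0)
    rw [MvPolynomial.ringKrullDim_of_isNoetherianRing, ringKrullDim_eq_zero_of_field, zero_add,
      Nat.card_eq_fintype_card, Fintype.card_fin] at h1
    change ringKrullDim (MvPolynomial (Fin r) k ⧸ Ideal.span {p}) < r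
    generalize ringKrullDim (MvPolynomial (Fin r) k ⧸ Ideal.span {p}) = a at h1 ⊢
    induction a with
    | bot => exact WithBot.bot_lt_coe _
    | coe a =>
      have h2 : ((a + 1 : ℕ∞) : WithBot ℕ∞) ≤ ((r : ℕ∞) : WithBot ℕ∞) := by exact_mod_cast h1
      rw [WithBot.coe_le_coe] at h2
      change (a : WithBot ℕ∞) < ((r : ℕ∞) : WithBot ℕ∞)
      rw [WithBot.coe_lt_coe]
      exact (ENat.add_one_le_iff (fun h => by subst h; simp at h2)).mp h2
  set qR : Polynomial Rp := q.map (algebraMap k Rp) with hqR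
  have hqRm : qR.Monic := hqmonic.map _
  have hfinD : Module.Finite Rp (AdjoinRoot qR) := hqRm.finite_adjoinRoot
  have hintD : Algebra.IsIntegral Rp (AdjoinRoot qR) := inferInstance
  have hFTD : Algebra.FiniteType k (AdjoinRoot qR) :=
    Algebra.FiniteType.trans (inferInstance : Algebra.FiniteType k Rp)
      (inferInstance : Algebra.FiniteType Rp (AdjoinRoot qR))
  have hdimD : ringKrullDim (AdjoinRoot qR) < r :=
    (Groth.Agent.FlatA.DimFin.ringKrullDim_le_of_isIntegral Rp (AdjoinRoot qR)).trans_lt hRpdim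
  have hunit : IsUnit (AdjoinRoot.root qR) := by
    have h1 : AdjoinRoot.mk qR (qR.divX * Polynomial.X + Polynomial.C (qR.coeff 0)) = 0 := by
      rw [Polynomial.divX_mul_X_add]; exact AdjoinRoot.mk_self
    rw [map_add, map_mul, AdjoinRoot.mk_X, AdjoinRoot.mk_C] at h1
    have h2 : IsUnit (AdjoinRoot.of qR (qR.coeff 0)) := by
      rw [hqR, Polynomial.coeff_map]
      exact ((isUnit_iff_ne_zero.mpr hq0).map _).map _
    have h3 : AdjoinRoot.mk qR qR.divX * AdjoinRoot.root qR = -AdjoinRoot.of qR (qR.coeff 0) :=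
      eq_neg_of_add_eq_zero_left h1
    have h4 : IsUnit (AdjoinRoot.mk qR qR.divX * AdjoinRoot.root qR) := by rw [h3]; exact h2.neg
    exact isUnit_of_mul_isUnit_right h4
  have key : ∀ P : Ideal (MvPolynomial (Fin r) k),
      ∃ h : MvPolynomial (Fin r) k, h ≠ 0 ∧ (P ∈ Sigma →
        ∀ (L : Type v) [Field L] [Algebra k L] (ξ : Fin r → L) (τ : L) (g : Fin r → L),
          (∀ a ∈ P, MvPolynomial.aeval ξ a = 0) → Polynomial.aeval τ q = 0 →
          MvPolynomial.aeval (fun i => ξ i + τ ^ (s * (m + 1)) * g i) p = 0 →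
          MvPolynomial.aeval g h = 0) := by
    intro P
    by_cases hP : P ∈ Sigma
    swap
    · exact ⟨1, one_ne_zero, fun h1 => absurd h1 hP⟩
    obtain ⟨h, hh, H⟩ := K837.BadLocus.exists_bad.{u, u, v} (k := k) hdimD
      (fun i => AdjoinRoot.of qR (Ideal.Quotient.mk _ (MvPolynomial.X i)))
      (AdjoinRoot.root qR) hunit (s * (m + 1)) P (hSigma P hP)
    refine ⟨h, hh, fun _ L _ _ ξ τ g hξ hτ hp => ?_⟩
    have hp' : ∀ a ∈ Ideal.span {p},
        MvPolynomial.aeval (fun i => ξ i + τ ^ (s * (m + 1)) * g i) a = 0 := by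
      intro a ha
      obtain ⟨b, rfl⟩ := Ideal.mem_span_singleton'.mp ha
      rw [map_mul, hp, mul_zero]
    let ψ₀ : Rp →ₐ[k] L := Ideal.Quotient.liftₐ (Ideal.span {p}) _ hp'
    have hψ₀ : ∀ i, ψ₀ (Ideal.Quotient.mk _ (MvPolynomial.X i)) = ξ i + τ ^ (s * (m + 1)) * g i :=
      fun i => MvPolynomial.aeval_X _ i
    have hroot : qR.eval₂ ψ₀ τ = 0 := by
      rw [hqR, Polynomial.eval₂_map, AlgHom.comp_algebraMap]
      exact hτ
    refine H L (AdjoinRoot.liftAlgHom qR ψ₀ τ hroot) ξ g hξ fun i => ?_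
    rw [AdjoinRoot.liftAlgHom_of, AdjoinRoot.liftAlgHom_root, hψ₀]
  choose H hH0 hH using key
  refine ⟨∏ P ∈ Sigma, H P, Finset.prod_ne_zero_iff.mpr fun P _ => hH0 P, ?_⟩
  intro K _ _ g hg P hP
  set σ : MvPolynomial (Fin r ⊕ (Unit ⊕ Fin d)) k →ₐ[k] MvPolynomial (Fin r ⊕ (Unit ⊕ Fin d)) K :=
    MvPolynomial.aeval (Sum.elim (fun i : Fin r => MvPolynomial.X (Sum.inl i) +
      MvPolynomial.X (Sum.inr (Sum.inl ())) ^ (s * (m + 1)) * MvPolynomial.C (g i))
      (fun j : Unit ⊕ Fin d => MvPolynomial.X (Sum.inr j))) with hσ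
  set Jg := Ideal.map σ I with hJg
  by_contra htop
  obtain ⟨M, hM, hle⟩ := Ideal.exists_le_maximal _ htop
  rw [sup_le_iff] at hle
  let φ : MvPolynomial (Fin r) K →+* MvPolynomial (Fin r ⊕ (Unit ⊕ Fin d)) K ⧸ Jg :=
    (Ideal.Quotient.mk Jg).comp (MvPolynomial.rename (R := K) (Sum.inl : Fin r → Fin r ⊕ (Unit ⊕ Fin d))).toRingHom
  let tg : MvPolynomial (Fin r ⊕ (Unit ⊕ Fin d)) K ⧸ Jg :=
    Ideal.Quotient.mk Jg (MvPolynomial.X (Sum.inr (Sum.inl ())))
  let κ : k →+* MvPolynomial (Fin r) K := MvPolynomial.C.comp (algebraMap k K)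
  -- the two relations
  have hrel1 : (q.map κ).eval₂ φ tg = 0 := by
    have h1 : Ideal.Quotient.mk Jg (σ (Polynomial.aeval (MvPolynomial.X (Sum.inr (Sum.inl ())) :
      MvPolynomial (Fin r ⊕ (Unit ⊕ Fin d)) k) q)) = 0 :=
      Ideal.Quotient.eq_zero_iff_mem.mpr (Ideal.mem_map_of_mem σ hqI)
    rw [← h1, Polynomial.eval₂_map, Polynomial.aeval_def]
    have h2 : (Ideal.Quotient.mk Jg) (σ (Polynomial.eval₂ (algebraMap k _)
        (MvPolynomial.X (Sum.inr (Sum.inl ()))) q)) =
        ((Ideal.Quotient.mk Jg).comp σ.toRingHom) (Polynomial.eval₂ (algebraMap k _)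
        (MvPolynomial.X (Sum.inr (Sum.inl ()))) q) := rfl
    rw [h2, Polynomial.hom_eval₂]
    congr 1
    · ext a
      simp [φ, κ, MvPolynomial.algebraMap_eq]
    · simp [tg, hσ]
  set Fp : Polynomial (MvPolynomial (Fin r) K) :=
    MvPolynomial.eval₂ (Polynomial.C.comp κ) (fun i => Polynomial.C (MvPolynomial.X i) +
      Polynomial.X ^ (s * (m + 1)) * Polynomial.C (MvPolynomial.C (g i))) p with hFp
  have hrel2 : Fp.eval₂ φ tg = 0 := by
    have h1 : Ideal.Quotient.mk Jg (σ (MvPolynomial.rename Sum.inl p)) = 0 :=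
      Ideal.Quotient.eq_zero_iff_mem.mpr (Ideal.mem_map_of_mem σ hpI)
    rw [← h1]
    have h2 : (Polynomial.eval₂RingHom φ tg).comp (MvPolynomial.eval₂Hom (Polynomial.C.comp κ)
        (fun i => Polynomial.C (MvPolynomial.X i) +
          Polynomial.X ^ (s * (m + 1)) * Polynomial.C (MvPolynomial.C (g i)))) =
        (((Ideal.Quotient.mk Jg).comp σ.toRingHom).comp
          (MvPolynomial.rename (R := k) (Sum.inl : Fin r → Fin r ⊕ (Unit ⊕ Fin d))).toRingHom) := by
      apply MvPolynomial.ringHom_ext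
      · intro a
        simp [φ, κ, MvPolynomial.algebraMap_eq]
      · intro i
        simp [φ, tg, hσ]
        exact mul_comm _ _
    exact RingHom.congr_fun h2 p
  have hker : RingHom.ker φ ≤ M := by
    refine le_trans ?_ hle.1
    intro a ha
    rw [RingHom.mem_ker] at ha
    exact Ideal.mem_comap.mpr (Ideal.Quotient.eq_zero_iff_mem.mp ha)
  obtain ⟨L, _, μ, τ, hμM, hμ⟩ := K837.Lying.exists_field φ tg ⟨q.map κ, hqmonic.map κ, hrel1⟩ M hker
  let _ : Algebra k L := (μ.comp κ).toAlgebra
  have hLalg : algebraMap k L = μ.comp κ := rfl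
  have hzero : MvPolynomial.aeval (fun i => μ (MvPolynomial.C (g i))) (H P) = 0 := by
    refine hH P hP L (fun i => μ (MvPolynomial.X i)) τ (fun i => μ (MvPolynomial.C (g i))) ?_ ?_ ?_
    · intro a ha
      have h1 : MvPolynomial.aeval (fun i => μ (MvPolynomial.X i)) a =
          μ (MvPolynomial.map (algebraMap k K) a) := by
        have h2 : (MvPolynomial.aeval (R := k) (fun i => μ (MvPolynomial.X i))).toRingHom =
            μ.comp (MvPolynomial.map (algebraMap k K)) := by
          apply MvPolynomial.ringHom_ext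
          · intro a
            simp [hLalg, κ]
          · intro i
            simp
        exact RingHom.congr_fun h2 a
      rw [h1]
      exact hμM _ (hle.2 (Ideal.mem_map_of_mem _ ha))
    · have h1 := hμ _ hrel1
      rw [Polynomial.eval₂_map] at h1
      exact h1
    · have h1 := hμ _ hrel2
      rw [← h1]
      have h2 : (Polynomial.eval₂RingHom μ τ).comp (MvPolynomial.eval₂Hom (Polynomial.C.comp κ)
          (fun i => Polynomial.C (MvPolynomial.X i) +
            Polynomial.X ^ (s * (m + 1)) * Polynomial.C (MvPolynomial.C (g i)))) =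
          (MvPolynomial.aeval (R := k)
            (fun i => μ (MvPolynomial.X i) + τ ^ (s * (m + 1)) * μ (MvPolynomial.C (g i)))).toRingHom := by
        apply MvPolynomial.ringHom_ext
        · intro a
          simp [hLalg]
        · intro i
          simp
          exact mul_comm _ _
      exact (RingHom.congr_fun h2 p).symm
  have h2 : MvPolynomial.aeval (fun i => μ (MvPolynomial.C (g i))) (H P) =
      (μ.comp MvPolynomial.C) (MvPolynomial.aeval g (H P)) := by
    have h3 : (MvPolynomial.aeval (R := k) (fun i => μ (MvPolynomial.C (g i)))).toRingHom =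
        (μ.comp MvPolynomial.C).comp (MvPolynomial.aeval (R := k) g).toRingHom := by
      apply MvPolynomial.ringHom_ext
      · intro a
        simp [hLalg, κ]
      · intro i
        simp
    exact RingHom.congr_fun h3 (H P)
  rw [h2, map_eq_zero_iff _ (μ.comp MvPolynomial.C).injective] at hzero
  apply hg
  rw [map_prod]
  exact Finset.prod_eq_zero hP hzero

end Groth.Agent.S15088
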