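import Groth.Statements.S15089
import Groth.Agent.Surf.K993.NoetherFib
import Groth.Agent.S14317

set_option autoImplicit false
universe u
open CategoryTheory CategoryTheory.Limits AlgebraicGeometry TopologicalSpace
open Surf Groth.Agent.Grpsch

namespace Groth.Agent.S15089

/-- Let k be an algebraically closed field, X a smooth projective surface over k (integral, proper and
smooth, of dimension 2), C a smooth projective curve over k (integral, proper and smooth, of
dimension 1) and f : X → C a semi-stable fibration: a surjective k-morphism with O_C → f_*O_X an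
isomorphism which is an at-worst-nodal family (flat, of finite presentation, all fibres
one-dimensional with at worst nodal singularities), whose fibre over some closed point q₀ is smooth
with χ(O) = 1 − g for some g ≥ 2 (computed on X through the direct image of the structure sheaf of
the fibre), and with no exceptional curve of the first kind in a fibre (no integral vertical curve E
with χ(O_E) = 1 and E² = −1). Let ω_{X/C} = ω_X ⊗ (f^*Ω_{C/k})^{-1} be the relative dualizing
module, ω_X a second exterior power of Ω_{X/k} and (f^*Ω_{C/k})^{-1} a tensor inverse of f^*Ω_{C/k}.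
Then the self-intersection number (ω_{X/C}·ω_{X/C}) equals 12 d − δ, where d = deg f_*ω_{X/C} =
χ(f_*ω_{X/C}) − g·χ(O_C) and δ is the number of points of X at which f is not smooth (the total
number of singular points of the fibres). Here (L·L') = χ(O_X) − χ(L) − χ(L') + χ(L ⊗ L') for
invertible L, L', packaged as FGA.intNum. -/
theorem result (k : Type u) [Field k] [IsAlgClosed k]
    (X : Scheme.{u}) [X.Over (Spec (CommRingCat.of k))] [IsProper (X ↘ (Spec (CommRingCat.of k)))]
    [Smooth (X ↘ (Spec (CommRingCat.of k)))] [IsIntegral X] (hdim : topologicalKrullDim X = 2)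
    (C : Scheme.{u}) [C.Over (Spec (CommRingCat.of k))] [IsProper (C ↘ (Spec (CommRingCat.of k)))]
    [Smooth (C ↘ (Spec (CommRingCat.of k)))] [IsIntegral C] (hdimC : topologicalKrullDim C = 1)
    (f : X ⟶ C) [f.IsOver (Spec (CommRingCat.of k))] [Surjective f] (hconn : IsIso (ClSub.unitToPush f)) [LocallyOfFinitePresentation f]
    (hss : Curv2.IsNodalFamily f)
    (q₀ : C) (hq₀ : IsClosed ({q₀} : Set C)) (hsm : Smooth (f.fiberToSpecResidueField q₀))
    (g : ℕ) (hg2 : 2 ≤ g) (hg : Curv2.euler k X (ClSub.quotMod (f.fiberι q₀).ker) = 1 - (g : ℤ))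
    (hmin : ∀ E : X.IdealSheafData, IsIntegral E.subscheme → topologicalKrullDim (E.support : Set X) = 1 →
      (∃ c : C, ∀ x : X, x ∈ E.support → f.base x = c) → Curv2.euler k X (ClSub.quotMod E) = 1 →
      FGA.intNum k X 2 ![ClSub.idealMod E, ClSub.idealMod E] (Coh.structureModule X) ≠ -1)
    (WX : X.Modules) (hWX : ExtPow.IsExtPow 2 (Omega.sheaf (X ↘ (Spec (CommRingCat.of k)))) WX)
    (M : X.Modules) (hM : ClSub.IsInverseOf M ((Scheme.Modules.pullback f).obj (Omega.sheaf (C ↘ (Spec (CommRingCat.of k)))))) :
    FGA.intNum k X 2 ![(CohB1.tensorMod WX M), (CohB1.tensorMod WX M)] (Coh.structureModule X) =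
      12 * (Curv2.euler k C ((Coh.push f).obj (CohB1.tensorMod WX M)) - (g : ℤ) * Curv2.euler k C (Coh.structureModule C)) - (Nat.card ↥((f.smoothLocus : Set X)ᶜ) : ℤ) := by
  have hf : f ≫ (C ↘ Spec (CommRingCat.of k)) = X ↘ Spec (CommRingCat.of k) := comp_over f _
  have : IsDominant f := ⟨f.surjective.denseRange⟩
  have hWi : PicF.IsInvertible WX := K456.Adj.isInvertible_canonical k hdim hWX
  have hMi : PicF.IsInvertible M := K457.Form.isInvertible_of_inverse hM
  have hN : PicF.IsInvertible (CohB1.tensorMod WX M) := Fdesc.LocGen.isInvertible_tensorMod hWi hMi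
  have h1 : PicGrp.mk (CohB1.tensorMod WX M) hN = PicGrp.mk WX hWi * PicGrp.mk M hMi :=
    (PicGrp.mk_mul_mk hWi hMi).symm
  have h2 := K993.NoetherFib.noether_fibration k f hf hdim hdimC hWX hWi hss hq₀ hsm hg
  have h3 := K993.MilnorSum.self_relCanonical k f hf hdim hdimC hWX hWi hq₀ hg hM hMi
  have h4 := S14317.result k X hdim C hdimC f hconn hss q₀ hq₀ g hg2 hg WX hWX M hM
  have h5 := K993.MilnorSum.genus_eq k C hdimC
  rw [K464.Base.intNum_eq_dot k X hdim.le hN hN, h1, h3, h4]
  rw [h5] at h2 ⊢
  linarith

end Groth.Agent.S15089
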