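import Groth.Statements.S15090
import Groth.Agent.Surf.K993.NoetherFib
import Groth.Agent.Surf.K456.RelCanB
import Groth.Agent.Surf.K456.PluriCan
import Groth.Agent.Surf.K456.Resol

set_option autoImplicit false
universe u
open CategoryTheory CategoryTheory.Limits AlgebraicGeometry TopologicalSpace
open Surf

namespace Groth.Agent.S15090

open Groth.Agent

/-- Let k be an algebraically closed field, X a smooth projective surface over k (integral, proper and
smooth, of dimension 2), C a smooth projective curve over k (integral, proper and smooth, of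
dimension 1) and f : X → C a semi-stable fibration: a surjective k-morphism with O_C → f_*O_X an
isomorphism which is an at-worst-nodal family (flat, of finite presentation, all fibres
one-dimensional with at worst nodal singularities), whose fibre over some closed point q₀ is smooth
with χ(O) = 1 − g for some g ≥ 2 (computed on X through the direct image of the structure sheaf of
the fibre), and with no exceptional curve of the first kind in a fibre (no integral vertical curve E
with χ(O_E) = 1 and E² = −1). Let ω_{X/C} = ω_X ⊗ (f^*Ω_{C/k})^{-1} be the relative dualizing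
module, ω_X a second exterior power of Ω_{X/k} and (f^*Ω_{C/k})^{-1} a tensor inverse of f^*Ω_{C/k}.
Then for every n ≥ 2 the degree of f_*(ω_{X/C}^{⊗n}), a module of rank (2n−1)(g−1) on C whose degree
is taken as χ(f_*(ω_{X/C}^{⊗n})) − (2n−1)(g−1)·χ(O_C), equals C(n,2)·(12 d − δ) + d, where d =
χ(f_*ω_{X/C}) − g·χ(O_C) is the degree of f_*ω_{X/C} and δ is the number of points of X at which f
is not smooth. -/
theorem result (k : Type u) [Field k] [IsAlgClosed k]
    (X : Scheme.{u}) [X.Over (Spec (CommRingCat.of k))] [IsProper (X ↘ (Spec (CommRingCat.of k)))]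
    [Smooth (X ↘ (Spec (CommRingCat.of k)))] [IsIntegral X] (hdim : topologicalKrullDim X = 2)
    (C : Scheme.{u}) [C.Over (Spec (CommRingCat.of k))] [IsProper (C ↘ (Spec (CommRingCat.of k)))]
    [Smooth (C ↘ (Spec (CommRingCat.of k)))] [IsIntegral C] (hdimC : topologicalKrullDim C = 1)
    (f : X ⟶ C) [f.IsOver (Spec (CommRingCat.of k))] [Surjective f] (hconn : IsIso (ClSub.unitToPush f)) [LocallyOfFinitePresentation f]
    (hss : Curv2.IsNodalFamily f)
    (q₀ : C) (hq₀ : IsClosed ({q₀} : Set C)) (hsm : Smooth (f.fiberToSpecResidueField q₀))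
    (g : ℕ) (hg2 : 2 ≤ g) (hg : Curv2.euler k X (ClSub.quotMod (f.fiberι q₀).ker) = 1 - (g : ℤ))
    (hmin : ∀ E : X.IdealSheafData, IsIntegral E.subscheme → topologicalKrullDim (E.support : Set X) = 1 →
      (∃ c : C, ∀ x : X, x ∈ E.support → f.base x = c) → Curv2.euler k X (ClSub.quotMod E) = 1 →
      FGA.intNum k X 2 ![ClSub.idealMod E, ClSub.idealMod E] (Coh.structureModule X) ≠ -1)
    (WX : X.Modules) (hWX : ExtPow.IsExtPow 2 (Omega.sheaf (X ↘ (Spec (CommRingCat.of k)))) WX)
    (M : X.Modules) (hM : ClSub.IsInverseOf M ((Scheme.Modules.pullback f).obj (Omega.sheaf (C ↘ (Spec (CommRingCat.of k))))))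
    (n : ℕ) (hn : 2 ≤ n) :
    Curv2.euler k C ((Coh.push f).obj (CohB1.tensorPow (CohB1.tensorMod WX M) n))
        - ((2 * (n : ℤ) - 1) * ((g : ℤ) - 1)) * Curv2.euler k C (Coh.structureModule C) =
      (n.choose 2 : ℤ) * (12 * (Curv2.euler k C ((Coh.push f).obj (CohB1.tensorMod WX M)) - (g : ℤ) * Curv2.euler k C (Coh.structureModule C)) - (Nat.card ↥((f.smoothLocus : Set X)ᶜ) : ℤ)) + (Curv2.euler k C ((Coh.push f).obj (CohB1.tensorMod WX M)) - (g : ℤ) * Curv2.euler k C (Coh.structureModule C)) := by
  have hf : f ≫ (C ↘ (Spec (CommRingCat.of k))) = X ↘ (Spec (CommRingCat.of k)) := comp_over f _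
  have := K456.Resol.hasInjectiveResolutions X
  have hWi := K456.Adj.isInvertible_canonical k hdim hWX
  have hMi : PicF.IsInvertible M := K456.RelCan.isInvertible_of_isInverseOf
    (Fdesc.LocGen.isInvertible_pullback f (K456.RelCan.isInvertible_Omega k hdimC)) hM
  have hW := Fdesc.LocGen.isInvertible_tensorMod hWi hMi
  have h1 := K456.PluriCan.main k hdim hdimC f hf hconn hWX hM hss hWi hMi q₀ hq₀ g hg2 hg n hn (by
    intro b hb D hD hle
    have hDe := K464.Curves.isEff_of_smooth k hdim hD
    have hI := Dix.IdealModCartier.isInvertible_idealMod hDe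
    obtain ⟨LD, hLD, ⟨e⟩⟩ := Grpsch.PicGrp.exists_inverse hI
    have h2 := (K993.VertCan.main k f hf hdim hdimC hconn hq₀ hg2 hg hmin hWX hM hD.integral hD.dim
      ⟨b, fun x hx => by
        have h3 : x ∈ (((K464.PtCurve.pt hb).comap f).support : Set X) := Scheme.IdealSheafData.support_antitone hle hx
        rw [K458.FibZar.support_fibre f hb] at h3
        exact h3⟩ (LD := LD) ⟨Ega2.Tens.swap _ _ ≪≫ e⟩).1
    rw [K464.Base.intNum_eq_dot k X hdim.le hW hLD, K456.RelCan.exists_inverse_pow hI hLD ⟨e⟩,
      K464.Base.dot_inv_right k X hdim.le, ← Grpsch.PicGrp.mk_mul_mk hWi hMi, K464.Base.dot_comm] at h2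
    rw [K464.Curves.degOn_eq_neg_dot k X hDe]
    exact h2)
  have h3 := K993.MilnorSum.self_relCanonical k f hf hdim hdimC hWX hWi hq₀ hg hM hMi
  have h4 := K993.NoetherFib.noether_fibration k f hf hdim hdimC hWX hWi hss hq₀ hsm hg
  have h5 := K456.RelCan.deg_push k hdim hdimC f hf hconn hWX q₀ hq₀ g hg hM hss
  have h6 := K993.MilnorSum.genus_eq k C hdimC
  rw [h1, h3, h5]
  congr 1
  congr 1
  linear_combination (-1 : ℤ) * h4 + (12 * ((g : ℤ) - 1)) * h6

end Groth.Agent.S15090
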