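import Groth.Statements.S19559
import Groth.Agent.S1591
import Groth.Agent.S2768
import Groth.Agent.FlatA.FibreDim
import Groth.Agent.Dual.H318.PureDim
import Groth.Agent.Sga4h.BidRed538Geo

set_option autoImplicit false
universe u
open CategoryTheory CategoryTheory.Limits AlgebraicGeometry
open Curves

namespace Groth.Agent.S19559

open Groth.Agent.CurvesB.NodalPoint

/-- Fibre dimension along an open immersion. -/
theorem fibreDimAt_comp {X Y Z : Scheme.{u}} (k : X ⟶ Y) [IsOpenImmersion k] (f : Y ⟶ Z) (x : X) :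
    FlatMor.fibreDimAt (k ≫ f) x = FlatMor.fibreDimAt f (k x) := by
  rw [Groth.Agent.FlatA.FibreDim.fibreDimAt_eq, Groth.Agent.FlatA.FibreDim.fibreDimAt_eq]
  exact (Groth.Agent.FlatA.FibreDim.localDim_fibre_eq (j := (k : X → Y)) (i := id) (f := (f : Y → Z))
    (g := ((k ≫ f : X ⟶ Z) : X → Z)) k.isOpenEmbedding Function.injective_id
    (fun a => (Scheme.Hom.comp_apply k f a).symm) x).symm

/-- If all components of all fibres have dimension one, then a smooth point is smooth of relative dimension one. -/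
theorem sm_of_smooth {C S : Scheme.{u}} (π : C ⟶ S) [LocallyOfFinitePresentation π]
    (hfib : ∀ s : S, ∀ Z ∈ irreducibleComponents (↥(π.fiber s) : Type u), topologicalKrullDim Z = 1)
    (p : C) (U : C.Opens) (hp : p ∈ U) (h : Smooth (U.ι ≫ π)) : Sm π p := by
  obtain ⟨n, V, hV, hn⟩ := Groth.Agent.Sga4h.BidRed538Geo.exists_relDim (U.ι ≫ π) ⟨p, hp⟩
  have h1 := Groth.Agent.S2768.result n (V.ι ≫ U.ι ≫ π) ⟨⟨p, hp⟩, hV⟩
  have h2 := Groth.Agent.Dual.H318.PureDim.fibreDimAt_eq π 1 (fun y Z hZ => by
    rw [hfib y Z hZ]; rfl) p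
  rw [fibreDimAt_comp, fibreDimAt_comp] at h1
  have h3 : FlatMor.fibreDimAt π p = (n : WithBot ℕ∞) := h1
  have h4 : n = 1 := by
    rw [h2] at h3
    exact_mod_cast h3.symm
  subst h4
  refine ⟨U.ι ''ᵁ V, ⟨⟨p, hp⟩, hV, rfl⟩, ?_⟩
  have h5 : V.ι ≫ U.ι ≫ π = (U.ι.isoImage V).hom ≫ (U.ι ''ᵁ V).ι ≫ π := by
    rw [← Category.assoc, ← Category.assoc, Scheme.Hom.isoImage_hom_ι]
  rw [h5] at hn
  exact (MorphismProperty.cancel_left_of_respectsIso (@SmoothOfRelativeDimension 1) _ _).mp hn

/-- Let π : C → S be a flat morphism locally of finite presentation all of whose fibres have every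
irreducible component of dimension one (every geometric fibre is a curve). Then the set of points p
of C such that either π is smooth on an open neighbourhood of p, or p is a node of its fibre
C_{π(p)} viewed as a scheme over κ(π(p)) (a closed point of the fibre at which, after base change to
an algebraic closure, the complete local ring is that of an ordinary double point), is open in C. -/
theorem result {C S : Scheme.{u}} (π : C ⟶ S)
    [Flat π] [LocallyOfFinitePresentation π]
    (hfib : ∀ s : S, ∀ Z ∈ irreducibleComponents (↥(π.fiber s) : Type u), topologicalKrullDim Z = 1) :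
    IsOpen {p : C | (∃ U : C.Opens, p ∈ U ∧ Smooth (U.ι ≫ π)) ∨
      @Curv2.IsNode (S.residueField (π.base p)) _ (π.fiber (π.base p)) ⟨π.fiberToSpecResidueField (π.base p)⟩ (π.asFiber p)} := by
  have key : {p : C | (∃ U : C.Opens, p ∈ U ∧ Smooth (U.ι ≫ π)) ∨
      @Curv2.IsNode (S.residueField (π.base p)) _ (π.fiber (π.base p)) ⟨π.fiberToSpecResidueField (π.base p)⟩ (π.asFiber p)} =
      (Groth.Agent.S1591.nodalLocus π : Set C) := by
    ext p
    refine Iff.trans ?_ (Groth.Agent.S1591.mem_nodalLocus_iff π p).symm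
    constructor
    · rintro (⟨U, hp, hU⟩ | hN)
      · exact Or.inl (sm_of_smooth π hfib p U hp hU)
      · exact Or.inr hN
    · rintro (⟨U, hp, hU⟩ | hN)
      · exact Or.inl ⟨U, hp, SmoothOfRelativeDimension.smooth 1 _⟩
      · exact Or.inr hN
  rw [key]
  exact (Groth.Agent.S1591.nodalLocus π).isOpen

end Groth.Agent.S19559
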