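import Groth.Statements.S15091
import Groth.Agent.Surf.K549.WedgeFin

set_option autoImplicit false
universe u
open CategoryTheory CategoryTheory.Limits AlgebraicGeometry TopologicalSpace
open Surf

namespace Groth.Agent.S15091

/-- Let k be an algebraically closed field, X a smooth projective surface over k (integral, proper and
smooth, of dimension 2), C a smooth projective curve over k (integral, proper and smooth, of
dimension 1) and f : X → C a semi-stable fibration: a surjective k-morphism with O_C → f_*O_X an
isomorphism which is an at-worst-nodal family (flat, of finite presentation, all fibres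
one-dimensional with at worst nodal singularities), whose fibre over some closed point q₀ is smooth
with χ(O) = 1 − g for some g ≥ 2 (computed on X through the direct image of the structure sheaf of
the fibre), and with no exceptional curve of the first kind in a fibre (no integral vertical curve E
with χ(O_E) = 1 and E² = −1). Let ω_{X/C} = ω_X ⊗ (f^*Ω_{C/k})^{-1} be the relative dualizing
module, ω_X a second exterior power of Ω_{X/k} and (f^*Ω_{C/k})^{-1} a tensor inverse of f^*Ω_{C/k};
assume k has characteristic p > 0. Then the self-intersection number (ω_{X/C}·ω_{X/C}) = χ(O_X) −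
2χ(ω_{X/C}) + χ(ω_{X/C}^{⊗2}) is non-negative. (The published statement places no restriction on the
characteristic; the printed argument runs in positive characteristic, to which the general case is
said to reduce, so positive characteristic is assumed here.) -/
theorem result (k : Type u) [Field k] [IsAlgClosed k] (p : ℕ) [Fact p.Prime] [CharP k p]
    (X : Scheme.{u}) [X.Over (Spec (CommRingCat.of k))] [IsProper (X ↘ (Spec (CommRingCat.of k)))]
    [Smooth (X ↘ (Spec (CommRingCat.of k)))] [IsIntegral X] (hdim : topologicalKrullDim X = 2)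
    (C : Scheme.{u}) [C.Over (Spec (CommRingCat.of k))] [IsProper (C ↘ (Spec (CommRingCat.of k)))]
    [Smooth (C ↘ (Spec (CommRingCat.of k)))] [IsIntegral C] (hdimC : topologicalKrullDim C = 1)
    (f : X ⟶ C) [f.IsOver (Spec (CommRingCat.of k))] [Surjective f] (hconn : IsIso (ClSub.unitToPush f))
    (hss : Curv2.IsNodalFamily f)
    (q₀ : C) (hq₀ : IsClosed ({q₀} : Set C)) (hsm : Smooth (f.fiberToSpecResidueField q₀))
    (g : ℕ) (hg2 : 2 ≤ g) (hg : Curv2.euler k X (ClSub.quotMod (f.fiberι q₀).ker) = 1 - (g : ℤ))
    (hmin : ∀ E : X.IdealSheafData, IsIntegral E.subscheme → topologicalKrullDim (E.support : Set X) = 1 →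
      (∃ c : C, ∀ x : X, x ∈ E.support → f.base x = c) → Curv2.euler k X (ClSub.quotMod E) = 1 →
      FGA.intNum k X 2 ![ClSub.idealMod E, ClSub.idealMod E] (Coh.structureModule X) ≠ -1)
    (WX : X.Modules) (hWX : ExtPow.IsExtPow 2 (Omega.sheaf (X ↘ (Spec (CommRingCat.of k)))) WX)
    (M : X.Modules) (hM : ClSub.IsInverseOf M ((Scheme.Modules.pullback f).obj (Omega.sheaf (C ↘ (Spec (CommRingCat.of k)))))) :
    0 ≤ FGA.intNum k X 2 ![(CohB1.tensorMod WX M), (CohB1.tensorMod WX M)] (Coh.structureModule X) := by
  have hf : f ≫ (C ↘ (Spec (CommRingCat.of k))) = X ↘ (Spec (CommRingCat.of k)) :=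
    comp_over f (Spec (CommRingCat.of k))
  have hW : PicF.IsInvertible WX := K456.Adj.isInvertible_canonical k hdim hWX
  have hMi : PicF.IsInvertible M := K457.Form.isInvertible_of_inverse hM
  obtain ⟨w, hw, hker, hsurj⟩ := K549.WedgeFin.exists_w k hdim hdimC f hf hss q₀ hsm hWX hM
  exact K418.Nef.sq_nonneg k hdim hW hMi
    (K549.StarE.nef k p hdim hdimC f hf hconn hss q₀ hq₀ hsm g hg2 hg hmin hWX hW hM hMi w hw hker hsurj)

end Groth.Agent.S15091
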