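import Groth.Statements.S15094
import Groth.Agent.KodV.K850.FrobVan
import Groth.Agent.Dix.IdealModCartier
import Groth.Agent.Ega4dA.SmoothStalk
import Groth.Agent.Lefpen.H416.NormalBase

set_option autoImplicit false
universe u
open CategoryTheory CategoryTheory.Limits AlgebraicGeometry TopologicalSpace
open KodV

namespace Groth.Agent.S15094

/-- Let k be an algebraically closed field of characteristic p > 0, X a smooth proper integral scheme
over k, and L an invertible O_X-module with tensor inverse L⁻¹. If H⁰(X, (L⁻¹)^{⊗p^n} ⊗ Ω¹_{X/k}) =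
0 for every n ≥ 1 and H¹(X, (L⁻¹)^{⊗p^{n₀}}) = 0 for some n₀, then H¹(X, L⁻¹) = 0. (The published
statement says smooth projective variety over a field of characteristic p; smooth, proper and
integral over an algebraically closed field is assumed here, the setting of the proposition it is
deduced from.) -/
theorem result (k : Type u) [Field k] [IsAlgClosed k] (p : ℕ) [Fact p.Prime] [CharP k p]
    (X : Scheme.{u}) [X.Over (Spec (CommRingCat.of k))] [IsProper (X ↘ (Spec (CommRingCat.of k)))] [Smooth (X ↘ (Spec (CommRingCat.of k)))] [IsIntegral X]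
    (L Linv : X.Modules) (hL : PicF.IsInvertible L) (hLinv : ClSub.IsInverseOf Linv L)
    (h0 : ∀ n : ℕ, 1 ≤ n → Subsingleton (Coh.HH X (CohB1.tensorMod (CohB1.tensorPow Linv (p ^ n)) (Omega.sheaf (X ↘ (Spec (CommRingCat.of k))))) 0))
    (h1 : ∃ n₀ : ℕ, Subsingleton (Coh.HH X (CohB1.tensorPow Linv (p ^ n₀)) 1)) :
    Subsingleton (Coh.HH X Linv 1) := by
  have hc : FrobSch.IsCharP X p := FrobSch.IsCharP.of_hom (X ↘ (Spec (CommRingCat.of k))) p
  have hq : QuasiCompact (pullback.diagonal (X ↘ (Spec (CommRingCat.of k)))) := inferInstance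
  have hp : PerfectRing k p := inferInstance
  have hXn : Pi1.IsNormalScheme X := fun x =>
    Groth.Agent.Ega4dA.SmoothStalk.stalk_of_smooth
      (Groth.Agent.Lefpen.H416.NormalBase.isNormalScheme_spec k) (X ↘ (Spec (CommRingCat.of k))) x
  have hI := (Groth.Agent.Dix.IdealModCartier.isInvertible_of_isInverseOf hLinv).1
  have step : ∀ n : ℕ, Subsingleton (Coh.HH X (CohB1.tensorPow Linv (p ^ (n + 1))) 1) →
      Subsingleton (Coh.HH X (CohB1.tensorPow Linv (p ^ n)) 1) := by
    intro n hn
    have hcl : Groth.Agent.Fga.PicMon.mc (CohB1.tensorPow (CohB1.tensorPow Linv (p ^ n)) p) =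
        Groth.Agent.Fga.PicMon.mc (CohB1.tensorPow Linv (p ^ (n + 1))) := by
      rw [Groth.Agent.Fga.PicMon.mc_tensorPow, Groth.Agent.Fga.PicMon.mc_tensorPow,
        Groth.Agent.Fga.PicMon.mc_tensorPow, ← pow_mul, ← pow_succ]
    have e := (Groth.Agent.Fga.PicMon.mc_eq_iff _ _).1 hcl
    refine K850.FrobVan.subsingleton_H1 p (X ↘ (Spec (CommRingCat.of k))) hXn _
      (Groth.Agent.Fdesc.LocGen.isInvertible_tensorPow hI _)
      (K850.FrobVan.subsingleton_tensor_of_iso e 0 (h0 (n + 1) (Nat.le_add_left 1 n))) ?_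
    obtain ⟨e⟩ := e
    exact Groth.Agent.CohqB.SerLocFib.subsingleton_HH_of_iso e 1 hn
  obtain ⟨n₀, h⟩ := h1
  have key : ∀ m n : ℕ, m + n = n₀ →
      Subsingleton (Coh.HH X (CohB1.tensorPow Linv (p ^ n)) 1) := by
    intro m
    induction m with
    | zero =>
      intro n hn
      rw [zero_add] at hn
      rw [hn]
      exact h
    | succ m ih =>
      intro n hn
      exact step n (ih (n + 1) (by omega))
  have h3 := key n₀ 0 (by omega)
  have hcl : Groth.Agent.Fga.PicMon.mc Linv =
      Groth.Agent.Fga.PicMon.mc (CohB1.tensorPow Linv (p ^ 0)) := by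
    rw [Groth.Agent.Fga.PicMon.mc_tensorPow, pow_zero, pow_one]
  obtain ⟨e⟩ := (Groth.Agent.Fga.PicMon.mc_eq_iff _ _).1 hcl
  exact Groth.Agent.CohqB.SerLocFib.subsingleton_HH_of_iso e 1 h3

end Groth.Agent.S15094
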