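import Groth.Statements.S15095
import Groth.Agent.Surf.K458.Van

set_option autoImplicit false
universe u
open CategoryTheory CategoryTheory.Limits AlgebraicGeometry TopologicalSpace
open Surf

namespace Groth.Agent.S15095

/-- Let k be an algebraically closed field of characteristic p > 0 and X a smooth projective surface
over k (integral, proper and smooth, of dimension 2); let L be an invertible O_X-module with tensor
inverse L⁻¹, L numerically positive: (L·L) > 0 and deg(L|_Γ) = χ(O_Γ ⊗ L) − χ(O_Γ) ≥ 0 for every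
integral curve Γ ⊆ X, where (L·L) = χ(O_X) − 2χ(L) + χ(L ⊗ L). Then there is n₀ such that H¹(X,
(L⁻¹)^{⊗n}) = 0 for all n ≥ n₀. -/
theorem result (k : Type u) [Field k] [IsAlgClosed k] (p : ℕ) [Fact p.Prime] [CharP k p]
    (X : Scheme.{u}) [X.Over (Spec (CommRingCat.of k))] [IsProper (X ↘ (Spec (CommRingCat.of k)))]
    [Smooth (X ↘ (Spec (CommRingCat.of k)))] [IsIntegral X] (hdim : topologicalKrullDim X = 2)
    (L Linv : X.Modules) (hL : PicF.IsInvertible L) (hLinv : ClSub.IsInverseOf Linv L)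
    (hpos : 0 < FGA.intNum k X 2 ![L, L] (Coh.structureModule X))
    (hnef : ∀ Γ : X.IdealSheafData, IsIntegral Γ.subscheme → topologicalKrullDim (Γ.support : Set X) = 1 →
      0 ≤ Curv2.euler k X (CohB1.tensorMod (ClSub.quotMod Γ) L) - Curv2.euler k X (ClSub.quotMod Γ)) :
    ∃ n₀ : ℕ, ∀ n : ℕ, n₀ ≤ n → Subsingleton (Coh.HH X (CohB1.tensorPow Linv n) 1) := by
  have hnef' : K458.BigSec.Nef k L := by
    intro C hC
    rw [K458.Ip.ip_idealMod k X hdim.le hL]
    have h := hnef C hC.int hC.dim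
    have e : Curv2.euler k X (CohB1.tensorMod (ClSub.quotMod C) L) =
        Curv2.euler k X (CohB1.tensorMod L (ClSub.quotMod C)) :=
      Groth.Agent.VarietyA.EulerAdd.euler_congr (k := k) (Groth.Agent.Ega2.Tens.swap _ _)
    rw [e] at h
    linarith
  obtain ⟨n₀, h⟩ := K458.Van.main k hdim hL hnef' hpos
  refine ⟨n₀, fun n hn => h n hn _ ?_⟩
  obtain ⟨e⟩ := hLinv
  rw [Groth.Agent.Fga.PicMon.mc_tensorPow, ← mul_pow, ← Groth.Agent.Fga.PicMon.mc_tensor,
    Groth.Agent.Fga.PicMon.mc_eq ((Groth.Agent.Ega2.Tens.swap L Linv).trans e), Groth.Agent.Fga.PicMon.mc_one, one_pow]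

end Groth.Agent.S15095
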