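import Groth.Statements.S15096
import Groth.Agent.S15095
import Groth.Agent.S15094

set_option autoImplicit false
universe u
open CategoryTheory CategoryTheory.Limits AlgebraicGeometry TopologicalSpace
open Surf

namespace Groth.Agent.S15096

/-- Let k be an algebraically closed field of characteristic p > 0 and X a smooth projective surface
over k (integral, proper and smooth, of dimension 2); let L be an invertible O_X-module with tensor
inverse L⁻¹, L numerically positive: (L·L) > 0 and deg(L|_Γ) = χ(O_Γ ⊗ L) − χ(O_Γ) ≥ 0 for every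
integral curve Γ ⊆ X. If H⁰(X, (L⁻¹)^{⊗p^n} ⊗ Ω¹_{X/k}) = 0 for every n ≥ 1, then H¹(X, L⁻¹) = 0. -/
theorem result (k : Type u) [Field k] [IsAlgClosed k] (p : ℕ) [Fact p.Prime] [CharP k p]
    (X : Scheme.{u}) [X.Over (Spec (CommRingCat.of k))] [IsProper (X ↘ (Spec (CommRingCat.of k)))]
    [Smooth (X ↘ (Spec (CommRingCat.of k)))] [IsIntegral X] (hdim : topologicalKrullDim X = 2)
    (L Linv : X.Modules) (hL : PicF.IsInvertible L) (hLinv : ClSub.IsInverseOf Linv L)
    (hpos : 0 < FGA.intNum k X 2 ![L, L] (Coh.structureModule X))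
    (hnef : ∀ Γ : X.IdealSheafData, IsIntegral Γ.subscheme → topologicalKrullDim (Γ.support : Set X) = 1 →
      0 ≤ Curv2.euler k X (CohB1.tensorMod (ClSub.quotMod Γ) L) - Curv2.euler k X (ClSub.quotMod Γ))
    (h0 : ∀ n : ℕ, 1 ≤ n → Subsingleton (Coh.HH X (CohB1.tensorMod (CohB1.tensorPow Linv (p ^ n)) (Omega.sheaf (X ↘ (Spec (CommRingCat.of k))))) 0)) :
    Subsingleton (Coh.HH X Linv 1) := by
  obtain ⟨n₀, hn₀⟩ := S15095.result k p X hdim L Linv hL hLinv hpos hnef
  refine S15094.result k p X L Linv hL hLinv h0 ⟨n₀, hn₀ (p ^ n₀) ?_⟩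
  exact (Nat.lt_pow_self (Fact.out : p.Prime).one_lt).le

end Groth.Agent.S15096
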