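import Groth.Statements.S15097
import Groth.Agent.S15096
import Groth.Agent.Surf.K458.Neg97

set_option autoImplicit false
universe u
open CategoryTheory CategoryTheory.Limits AlgebraicGeometry TopologicalSpace
open Surf

namespace Groth.Agent.S15097

/-- Let k be an algebraically closed field of characteristic p > 0 and X a smooth projective surface
over k (integral, proper and smooth, of dimension 2), C a smooth projective curve over k (integral,
proper and smooth, of dimension 1) and f : X → C a surjective k-morphism all of whose fibres are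
reduced, at least one closed fibre being smooth, and whose closed fibres have arithmetic genus at
least 2 (χ(O_F) ≤ −1 for the fibre F over every closed point, computed on X through the direct image
of O_F). Let ω_{X/C} = ω_X ⊗ (f^*Ω_{C/k})^{-1} be the relative dualizing module, ω_X a second
exterior power of Ω_{X/k} and (f^*Ω_{C/k})^{-1} a tensor inverse of f^*Ω_{C/k}; let m ≥ 1, A an
invertible O_C-module, and L = ω_{X/C}^{⊗m} ⊗ f^*A, assumed L numerically positive: (L·L) > 0 and
deg(L|_Γ) = χ(O_Γ ⊗ L) − χ(O_Γ) ≥ 0 for every integral curve Γ ⊆ X; let L⁻¹ be a tensor inverse of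
L. Then H¹(X, L⁻¹) = 0. (The published statement asks only that the fibres be geometrically reduced
of genus at least 2, and over an algebraically closed field geometric reducedness of all fibres is
reducedness of all fibres; its argument uses that the module of relative differentials Ω_{X/C}
embeds in ω_{X/C}, which also needs the generic fibre to be smooth, so a smooth closed fibre is
assumed here in addition.) -/
theorem result (k : Type u) [Field k] [IsAlgClosed k] (p : ℕ) [Fact p.Prime] [CharP k p]
    (X : Scheme.{u}) [X.Over (Spec (CommRingCat.of k))] [IsProper (X ↘ (Spec (CommRingCat.of k)))]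
    [Smooth (X ↘ (Spec (CommRingCat.of k)))] [IsIntegral X] (hdim : topologicalKrullDim X = 2)
    (C : Scheme.{u}) [C.Over (Spec (CommRingCat.of k))] [IsProper (C ↘ (Spec (CommRingCat.of k)))]
    [Smooth (C ↘ (Spec (CommRingCat.of k)))] [IsIntegral C] (hdimC : topologicalKrullDim C = 1)
    (f : X ⟶ C) [f.IsOver (Spec (CommRingCat.of k))] [Surjective f]
    (hred : ∀ c : C, IsReduced (f.fiber c))
    (hsm1 : ∃ c : C, IsClosed ({c} : Set C) ∧ Smooth (f.fiberToSpecResidueField c))
    (hgen : ∀ c : C, IsClosed ({c} : Set C) → Curv2.euler k X (ClSub.quotMod (f.fiberι c).ker) ≤ -1)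
    (WX : X.Modules) (hWX : ExtPow.IsExtPow 2 (Omega.sheaf (X ↘ (Spec (CommRingCat.of k)))) WX)
    (M : X.Modules) (hM : ClSub.IsInverseOf M ((Scheme.Modules.pullback f).obj (Omega.sheaf (C ↘ (Spec (CommRingCat.of k))))))
    (m : ℕ) (hm : 1 ≤ m) (A : C.Modules) (hA : PicF.IsInvertible A)
    (Linv : X.Modules) (hLinv : ClSub.IsInverseOf Linv (CohB1.tensorMod (CohB1.tensorPow (CohB1.tensorMod WX M) m) ((Scheme.Modules.pullback f).obj A)))
    (hpos : 0 < FGA.intNum k X 2 ![(CohB1.tensorMod (CohB1.tensorPow (CohB1.tensorMod WX M) m) ((Scheme.Modules.pullback f).obj A)), (CohB1.tensorMod (CohB1.tensorPow (CohB1.tensorMod WX M) m) ((Scheme.Modules.pullback f).obj A))] (Coh.structureModule X))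
    (hnef : ∀ Γ : X.IdealSheafData, IsIntegral Γ.subscheme → topologicalKrullDim (Γ.support : Set X) = 1 →
      0 ≤ Curv2.euler k X (CohB1.tensorMod (ClSub.quotMod Γ) (CohB1.tensorMod (CohB1.tensorPow (CohB1.tensorMod WX M) m) ((Scheme.Modules.pullback f).obj A))) - Curv2.euler k X (ClSub.quotMod Γ)) :
    Subsingleton (Coh.HH X Linv 1) := by
  have hsm2 := K458.BigSec.smoothRel k hdim
  have hWi : PicF.IsInvertible WX := K455.Canon.isInvertible (X ↘ Spec (CommRingCat.of k)) 2 hWX
  obtain ⟨c, hc, hsm⟩ := hsm1
  obtain ⟨Γ, hΓ, hΓs, hΓ0, hΓB⟩ := K458.FibCurve.exists_curve k hdim hdimC f c hc hsm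
  have hΩC := K458.Neg97.isInvertible_omega k C hdimC
  have hMi : PicF.IsInvertible M :=
    K882.Divisor.inv_of_mul (Fdesc.LocGen.isInvertible_pullback f hΩC) (K882.IsoMon.isInverseOf_iff.1 hM)
  have hfA := Fdesc.LocGen.isInvertible_pullback f hA
  have hL := Fdesc.LocGen.isInvertible_tensorMod
    (Fdesc.LocGen.isInvertible_tensorPow (Fdesc.LocGen.isInvertible_tensorMod hWi hMi) m) hfA
  have hnef' := K458.Neg97.nef_of k hdim.le hL hnef
  have hMΓ := K458.Neg97.ip_inverse k hdim.le hMi (Fdesc.LocGen.isInvertible_pullback f hΩC) hM hΓ (hΓB _ hΩC)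
  have hLΓ := K458.Neg97.ip_L k hdim.le hWi hMi hfA m hΓ hMΓ (hΓB _ hA)
  have hneg := K458.Neg97.ip_neg k hdim hL hnef' hpos hΓ hΓ0
  refine S15096.result k p X hdim _ Linv hL hLinv hpos hnef fun n hn => ?_
  exact K458.Neg97.main k hdim p hΓ hΓ0 hWX hL hLinv hm hLΓ hneg n hn

end Groth.Agent.S15097
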