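import Groth.Statements.S15099
import Groth.Agent.Surf.K458.NumConn

set_option autoImplicit false
universe u
open CategoryTheory CategoryTheory.Limits AlgebraicGeometry TopologicalSpace
open Surf

namespace Groth.Agent.S15099

/-- Let k be an algebraically closed field, X a smooth projective surface over k (integral, proper and
smooth, of dimension 2) and D a non-zero effective Cartier divisor on X (ideal sheaf I_D ≠ O_X)
which is numerically connected: whenever D = D₁ + D₂ with D₁, D₂ non-zero effective Cartier divisors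
(I_D = I_{D₁}·I_{D₂}, both different from O_X), (D₁·D₂) = χ(O_X) − χ(I_{D₁}) − χ(I_{D₂}) + χ(I_{D₁}
⊗ I_{D₂}) > 0. Then H⁰(D, O_D) = k, i.e. it is one-dimensional over k (computed on X through the
direct image of O_D). (The published lemma sits in a positive-characteristic setting; the printed
argument does not use the characteristic, so none is assumed here.) -/
theorem result (k : Type u) [Field k] [IsAlgClosed k]
    (X : Scheme.{u}) [X.Over (Spec (CommRingCat.of k))] [IsProper (X ↘ (Spec (CommRingCat.of k)))]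
    [Smooth (X ↘ (Spec (CommRingCat.of k)))] [IsIntegral X] (hdim : topologicalKrullDim X = 2)
    (D : X.IdealSheafData) (hD : FGA.IsEffCartier D) (hD0 : D ≠ ⊤)
    (hnc : ∀ D₁ D₂ : X.IdealSheafData, FGA.IsEffCartier D₁ → FGA.IsEffCartier D₂ → D₁ ≠ ⊤ → D₂ ≠ ⊤ →
      D = D₁ * D₂ → 0 < FGA.intNum k X 2 ![(ClSub.idealMod D₁), (ClSub.idealMod D₂)] (Coh.structureModule X)) :
    Module.finrank k (Coh.HH X (ClSub.quotMod D) 0) = 1 := by
  obtain ⟨s, rfl, hs⟩ := K458.Decomp.exists_curves k hdim D hD
  have hs' : ∀ C ∈ s, K458.NumConn.IsCurve C := fun C hC => ⟨(hs C hC).1, (hs C hC).2.1, (hs C hC).2.2.1⟩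
  have hne : s ≠ 0 := by
    rintro rfl
    exact hD0 (by rw [Multiset.prod_zero, Scheme.IdealSheafData.one_eq_top])
  refine K458.NumConn.finrank_eq_one k hdim.le s hs' hne fun t u h ht hu => ?_
  have h1 : ∀ C ∈ t, K458.NumConn.IsCurve C := fun C hC => hs' C (by rw [h]; exact Multiset.mem_add.2 (Or.inl hC))
  have h2 : ∀ C ∈ u, K458.NumConn.IsCurve C := fun C hC => hs' C (by rw [h]; exact Multiset.mem_add.2 (Or.inr hC))
  exact hnc t.prod u.prod (K458.Ram.isEff_prod t fun C hC => (h1 C hC).eff)
    (K458.Ram.isEff_prod u fun C hC => (h2 C hC).eff) (K458.NumConn.prod_ne_top h1 ht)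
    (K458.NumConn.prod_ne_top h2 hu) (by rw [h, Multiset.prod_add])

end Groth.Agent.S15099
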