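import Groth.Statements.S15100
import Mathlib.RingTheory.Kaehler.Basic
import Mathlib.RingTheory.Ideal.KrullsHeightTheorem
import Mathlib.RingTheory.KrullDimension.Field
import Mathlib.RingTheory.KrullDimension.Basic
import Mathlib.LinearAlgebra.Dimension.Free
import Mathlib.LinearAlgebra.Dimension.Finrank
import Groth.Agent.CAlg.K86.LocFreeQuot

set_option autoImplicit false
universe u
open TensorProduct
open CAlg

namespace Groth.Agent.S15100

/-- If `F` is generated freely by `x, y` and `w = a x + b y` with `a` a unit, then `F / w` is free. -/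
theorem free_of_isUnit {A F M : Type*} [CommRing A] [AddCommGroup F] [Module A F]
    [AddCommGroup M] [Module A M] (f : F →ₗ[A] M) (hf : Function.Surjective f) (w : F)
    (hw : LinearMap.ker f = Submodule.span A {w}) (x y : F)
    (hsp : ∀ z : F, ∃ c d : A, z = c • x + d • y)
    (hli : ∀ c d : A, c • x + d • y = 0 → c = 0 ∧ d = 0)
    (a b : A) (hab : w = a • x + b • y) (ha : IsUnit a) : Module.Free A M := by
  obtain ⟨a', ha'⟩ := ha.exists_left_inv
  have hfw : f w = 0 := by
    have : w ∈ LinearMap.ker f := by rw [hw]; exact Submodule.mem_span_singleton_self w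
    exact this
  have hfx : f x = (-(a' * b)) • f y := by
    have h1 : a • f x + b • f y = 0 := by
      rw [← map_smul, ← map_smul, ← map_add, ← hab, hfw]
    have h2 : a' • (a • f x + b • f y) = 0 := by rw [h1, smul_zero]
    rw [smul_add, smul_smul, smul_smul, ha', one_smul] at h2
    rw [neg_smul]
    exact eq_neg_of_add_eq_zero_left h2
  let g : A →ₗ[A] M := LinearMap.toSpanSingleton A M (f y)
  have hg : ∀ r, g r = r • f y := fun r => rfl
  refine Module.Free.of_equiv (LinearEquiv.ofBijective g ⟨?_, ?_⟩)
  · rw [injective_iff_map_eq_zero]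
    intro r hr
    rw [hg, ← map_smul] at hr
    have h1 : r • y ∈ Submodule.span A {w} := by rw [← hw]; exact hr
    obtain ⟨c, hc⟩ := Submodule.mem_span_singleton.mp h1
    rw [hab, smul_add, smul_smul, smul_smul] at hc
    have h2 : (c * a) • x + (c * b - r) • y = 0 := by
      rw [sub_smul, ← add_sub_assoc, hc, sub_self]
    obtain ⟨h3, h4⟩ := hli _ _ h2
    have h5 : c = 0 := by
      have : c * a * a' = 0 := by rw [h3, zero_mul]
      rwa [mul_assoc, mul_comm a a', ha', mul_one] at this
    rw [h5, zero_mul, zero_sub, neg_eq_zero] at h4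
    exact h4
  · intro m
    obtain ⟨z, rfl⟩ := hf m
    obtain ⟨c, d, rfl⟩ := hsp z
    refine ⟨c * (-(a' * b)) + d, ?_⟩
    rw [hg, map_add, map_smul, map_smul, hfx, smul_smul, add_smul]

/-- Let V be a discrete valuation ring with uniformizer u and V → R → A commutative V-algebras with A an
R-algebra compatibly; assume A is a Noetherian local domain of Krull dimension 3 with u in its
maximal ideal, that Ω_{A/V} is a free A-module of rank 2 and that A ⊗_R Ω_{R/V} is a free A-module
of rank 1. Suppose that on the special fibre Ω_{A/R} is locally free exactly away from the closed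
point: for every prime P of A containing u other than the maximal ideal the localization (Ω_{A/R})_P
is free over A_P, while Ω_{A/R} is not free over A. Then Ω_{A/R} is not locally free on the generic
fibre: there is a prime Q of A not containing u with (Ω_{A/R})_Q not free over A_Q. (In the
published statement R is a regular local ring of dimension 2 and A a local ring of dimension 3, both
smooth over V, which yields the two freeness hypotheses used here, and the hypothesis is phrased as
local freeness of Ω of the special fibre of A over that of R away from the closed point.) -/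
theorem result
    (V R A : Type u) [CommRing V] [IsDomain V] [IsDiscreteValuationRing V] [CommRing R] [CommRing A]
    [IsDomain A] [IsNoetherianRing A] [IsLocalRing A]
    [Algebra V R] [Algebra V A] [Algebra R A] [IsScalarTower V R A]
    (u : V) (hu : Irreducible u) (huA : algebraMap V A u ∈ IsLocalRing.maximalIdeal A)
    (hdimA : ringKrullDim A = 3)
    (hΩA : Module.Free A (Ω[A⁄V])) (hrkA : Module.finrank A (Ω[A⁄V]) = 2)
    (hΩR : Module.Free A (A ⊗[R] Ω[R⁄V])) (hrkR : Module.finrank A (A ⊗[R] Ω[R⁄V]) = 1)
    (h0 : ∀ P : PrimeSpectrum A, algebraMap V A u ∈ P.asIdeal → P.asIdeal ≠ IsLocalRing.maximalIdeal A →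
      Module.Free (Localization.AtPrime P.asIdeal) (LocalizedModule P.asIdeal.primeCompl (Ω[A⁄R])))
    (hm : ¬ Module.Free A (Ω[A⁄R])) :
    ∃ Q : PrimeSpectrum A, algebraMap V A u ∉ Q.asIdeal ∧
      ¬ Module.Free (Localization.AtPrime Q.asIdeal) (LocalizedModule Q.asIdeal.primeCompl (Ω[A⁄R])) := by
  classical
  haveI := hΩA
  haveI := hΩR
  haveI hfin : Module.Finite A (Ω[A⁄V]) := Module.finite_of_finrank_pos (by omega)
  haveI hfinR : Module.Finite A (A ⊗[R] Ω[R⁄V]) := Module.finite_of_finrank_pos (by omega)
  let e : Module.Basis (Fin 2) A (Ω[A⁄V]) := Module.finBasisOfFinrankEq A _ hrkA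
  let e1 : Module.Basis (Fin 1) A (A ⊗[R] Ω[R⁄V]) := Module.finBasisOfFinrankEq A _ hrkR
  let f : Ω[A⁄V] →ₗ[A] Ω[A⁄R] := KaehlerDifferential.map V R A A
  have hf : Function.Surjective f := KaehlerDifferential.map_surjective V R A
  let w : Ω[A⁄V] := KaehlerDifferential.mapBaseChange V R A (e1 0)
  have hw : LinearMap.ker f = Submodule.span A {w} := by
    show LinearMap.ker (KaehlerDifferential.map V R A A) = _
    rw [← KaehlerDifferential.range_mapBaseChange, LinearMap.range_eq_map, ← e1.span_eq,
      Submodule.map_span]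
    congr 1
    ext z
    constructor
    · rintro ⟨_, ⟨i, rfl⟩, rfl⟩
      rw [Subsingleton.elim i 0]
      rfl
    · rintro rfl
      exact ⟨_, ⟨0, rfl⟩, rfl⟩
  have hw0 : w ≠ 0 := by
    intro h
    apply hm
    have hinj : Function.Injective f := by
      rw [← LinearMap.ker_eq_bot, hw, h, Submodule.span_zero_singleton]
    exact Module.Free.of_equiv (LinearEquiv.ofBijective f ⟨hinj, hf⟩)
  have hsp : ∀ z : Ω[A⁄V], z = e.repr z 0 • e 0 + e.repr z 1 • e 1 := by
    intro z
    have := e.sum_repr z
    rw [Fin.sum_univ_two] at this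
    exact this.symm
  have hli : ∀ c d : A, c • e 0 + d • e 1 = 0 → c = 0 ∧ d = 0 := by
    intro c d h
    have h1 := Fintype.linearIndependent_iff.mp e.linearIndependent ![c, d]
      (by rw [Fin.sum_univ_two]; exact h)
    exact ⟨h1 0, h1 1⟩
  set a := e.repr w 0 with hadef
  set b := e.repr w 1 with hbdef
  have hwab : w = a • e 0 + b • e 1 := hsp w
  have ha : a ∈ IsLocalRing.maximalIdeal A := by
    by_contra hcon
    have hu : IsUnit a := by
      by_contra h
      exact hcon h
    exact hm (free_of_isUnit f hf w hw (e 0) (e 1) (fun z => ⟨_, _, hsp z⟩) hli a b hwab hu)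
  have hb : b ∈ IsLocalRing.maximalIdeal A := by
    by_contra hcon
    have hu : IsUnit b := by
      by_contra h
      exact hcon h
    exact hm (free_of_isUnit f hf w hw (e 1) (e 0)
      (fun z => ⟨_, _, (hsp z).trans (add_comm _ _)⟩)
      (fun c d h => (hli d c ((add_comm _ _).trans h)).symm) b a
      (hwab.trans (add_comm _ _)) hu)
  have hle : Ideal.span (({a, b} : Finset A) : Set A) ≤ IsLocalRing.maximalIdeal A := by
    rw [Ideal.span_le]
    intro z hz
    simp only [Finset.coe_insert, Finset.coe_singleton, Set.mem_insert_iff,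
      Set.mem_singleton_iff] at hz
    rcases hz with rfl | rfl
    · exact ha
    · exact hb
  obtain ⟨Q, hQ, hQm⟩ := Ideal.exists_minimalPrimes_le hle
  have hQp : Q.IsPrime := hQ.1.1
  have haQ : a ∈ Q := hQ.1.2 (Ideal.subset_span (by simp))
  have hbQ : b ∈ Q := hQ.1.2 (Ideal.subset_span (by simp))
  have hwQ : w ∈ Q • (⊤ : Submodule A (Ω[A⁄V])) := by
    rw [hwab]
    exact Submodule.add_mem _ (Submodule.smul_mem_smul haQ Submodule.mem_top)
      (Submodule.smul_mem_smul hbQ Submodule.mem_top)
  have hht : Q.height ≤ 2 := by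
    refine (Ideal.height_le_card_of_mem_minimalPrimes_span_finset hQ).trans ?_
    exact_mod_cast Finset.card_le_two
  have hQne : Q ≠ IsLocalRing.maximalIdeal A := by
    intro h
    have h1 := IsLocalRing.maximalIdeal_height_eq_ringKrullDim (R := A)
    rw [← h, hdimA] at h1
    have h2 : Q.height = 3 := WithBot.coe_injective h1
    rw [h2] at hht
    exact absurd hht (by decide)
  have key : ¬ Module.Free (Localization.AtPrime Q)
      (LocalizedModule Q.primeCompl (Ω[A⁄R])) := by
    intro hfree
    haveI : Module.Projective (Localization.AtPrime Q)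
      (LocalizedModule Q.primeCompl (Ω[A⁄R])) := Module.Projective.of_free
    exact hw0 (K86.LocFreeQuot.eq_zero_of_localized_projective f hf w hw Q hwQ)
  refine ⟨⟨Q, hQp⟩, ?_, key⟩
  intro huQ
  exact key (h0 ⟨Q, hQp⟩ huQ hQne)

end Groth.Agent.S15100
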