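import Groth.Statements.S15101
import Groth.Agent.Surf.K379.Final2
import Groth.Agent.Surf.K837.AlbImg

set_option autoImplicit false
open CategoryTheory CategoryTheory.Limits AlgebraicGeometry TopologicalSpace
open Surf

namespace Groth.Agent.S15101

/-- Let X be a smooth projective surface over ℂ (integral, proper and smooth, of dimension 2), C a
smooth projective curve over ℂ of genus 0 (integral, proper, smooth, of dimension 1 with H¹(C, O_C)
= 0, i.e. a projective line) and f : X → C a semi-stable fibration: a surjective ℂ-morphism with O_C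
→ f_*O_X an isomorphism which is an at-worst-nodal family (flat, of finite presentation, fibres
one-dimensional with at worst ordinary double points), with some smooth closed fibre of Euler
characteristic χ(O) = 1 − g, g ≥ 1, and with no exceptional curve of the first kind contained in a
fibre (no integral vertical curve E with χ(O_E) = 1 and E² = −1). Assume f is not trivial: there is
no ℂ-scheme F with an isomorphism X ≅ F ×_ℂ C over C. Then f has at least 4 singular fibres: at
least four closed points of C have a non-smooth fibre. (Stated over the complex numbers; the known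
argument is transcendental.) -/
theorem result
    (X : Scheme.{0}) [X.Over (Spec (CommRingCat.of ℂ))] [IsProper (X ↘ (Spec (CommRingCat.of ℂ)))]
    [Smooth (X ↘ (Spec (CommRingCat.of ℂ)))] [IsIntegral X] (hdim : topologicalKrullDim X = 2)
    (C : Scheme.{0}) [C.Over (Spec (CommRingCat.of ℂ))] [IsProper (C ↘ (Spec (CommRingCat.of ℂ)))]
    [Smooth (C ↘ (Spec (CommRingCat.of ℂ)))] [IsIntegral C] (hdimC : topologicalKrullDim C = 1) (hC0 : Curv2.genus ℂ C = 0)
    (f : X ⟶ C) [f.IsOver (Spec (CommRingCat.of ℂ))] [Surjective f] (hconn : IsIso (ClSub.unitToPush f))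
    (hss : Curv2.IsNodalFamily f)
    (q₀ : C) (hq₀ : IsClosed ({q₀} : Set C)) (hsm : Smooth (f.fiberToSpecResidueField q₀))
    (g : ℕ) (hg1 : 1 ≤ g) (hg : Curv2.euler ℂ X (ClSub.quotMod (f.fiberι q₀).ker) = 1 - (g : ℤ))
    (hmin : ∀ E : X.IdealSheafData, IsIntegral E.subscheme → topologicalKrullDim (E.support : Set X) = 1 →
      (∃ c : C, ∀ x : X, x ∈ E.support → f.base x = c) → Curv2.euler ℂ X (ClSub.quotMod E) = 1 →
      FGA.intNum ℂ X 2 ![ClSub.idealMod E, ClSub.idealMod E] (Coh.structureModule X) ≠ -1)
    (hnt : ¬ ∃ (F : Scheme.{0}) (q : F ⟶ (Spec (CommRingCat.of ℂ))) (e : X ≅ pullback q (C ↘ (Spec (CommRingCat.of ℂ)))),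
      e.hom ≫ pullback.snd q (C ↘ (Spec (CommRingCat.of ℂ))) = f) :
    4 ≤ Set.ncard {c : C | IsClosed ({c} : Set C) ∧ ¬ Smooth (f.fiberToSpecResidueField c)} := by
  have hcC : Fact True := ⟨trivial⟩
  have hf : f ≫ (C ↘ Spec (CommRingCat.of ℂ)) = X ↘ Spec (CommRingCat.of ℂ) := comp_over f _
  have i1 : LocallyOfFinitePresentation f := hss.2.1
  have hF : K379.Fib.IsFib ℂ f g := ⟨inferInstance, inferInstance, inferInstance, hdim, inferInstance, inferInstance,
    inferInstance, hdimC, hf, inferInstance, hconn, hss, q₀, hq₀, hsm, hg⟩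
  exact K379.Final.main (fun hpg A _ _ _ _ ψ hψ => K837.AlbImg.dim_range_le ℂ X hdim hpg A ψ hψ) hF hC0 hg1 hmin hnt

end Groth.Agent.S15101
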