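import Groth.Statements.S5934
import Groth.Agent.Ega43.FibreForall
import Groth.Agent.S2156

set_option autoImplicit false
open CategoryTheory AlgebraicGeometry
universe u
open EGA43

namespace Groth.Agent.S5934

/-- Let f : X ⟶ Y be a proper, flat morphism of finite presentation. The set of points y of Y whose
fibre X_y is geometrically regular, i.e. smooth over the residue field κ(y), is open in Y. -/
theorem result {X Y : Scheme.{u}} (f : X ⟶ Y) [IsProper f] [Flat f]
    [LocallyOfFinitePresentation f] :
    IsOpen {y : Y | Smooth (f.fiberToSpecResidueField y)} := by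
  have hfp : ∀ y : Y, LocallyOfFinitePresentation (f.fiberToSpecResidueField y) := fun y =>
    inferInstanceAs (LocallyOfFinitePresentation (Limits.pullback.snd f (Y.fromSpecResidueField y)))
  have hset : {y : Y | Smooth (f.fiberToSpecResidueField y)} =
      {y : Y | ∀ x : ↥(f.fiber y), x ∈ (f.fiberToSpecResidueField y).smoothLocus} := by
    ext y
    simp only [Set.mem_ofPred_eq]
    rw [← Scheme.Hom.smoothLocus_eq_top_iff]
    constructor
    · intro h x
      rw [h]
      trivial
    · intro h
      ext x
      simp only [TopologicalSpace.Opens.coe_top, Set.mem_univ, iff_true]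
      exact h x
  rw [hset]
  refine Groth.Agent.Ega43.FibreForall.isOpen_setOf_forall f f.isClosedMap
    (fun y x => x ∈ (f.fiberToSpecResidueField y).smoothLocus) ?_
  have hset2 : {x : X | f.asFiber x ∈ (f.fiberToSpecResidueField (f x)).smoothLocus} =
      (f.smoothLocus : Set X) := by
    ext x
    simp only [Set.mem_ofPred_eq, SetLike.mem_coe]
    rw [Groth.Agent.S2156.result f x]
    exact ⟨fun h => ⟨Flat.stalkMap f x, h⟩, fun h => h.2⟩
  rw [hset2]
  exact f.smoothLocus.isOpen

end Groth.Agent.S5934
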