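import Groth.Statements.S15102
import Groth.Agent.Surf.K823.Final

set_option autoImplicit false
open CategoryTheory CategoryTheory.Limits AlgebraicGeometry TopologicalSpace
open Surf

namespace Groth.Agent.S15102

/-- Let C be a smooth projective curve of genus 0 over ℂ (integral, proper, smooth, of dimension 1 with
H¹(C, O_C) = 0) and f : X → C a family of curves: a proper flat ℂ-morphism all of whose fibres are
connected and one-dimensional. If f has varying moduli — two of its smooth closed fibres are not
isomorphic as ℂ-schemes — then at least three closed points of C have a non-smooth fibre. (Stated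
over the complex numbers; the known argument is transcendental.) -/
theorem result
    (C : Scheme.{0}) [C.Over (Spec (CommRingCat.of ℂ))] [IsProper (C ↘ (Spec (CommRingCat.of ℂ)))]
    [Smooth (C ↘ (Spec (CommRingCat.of ℂ)))] [IsIntegral C] (hdimC : topologicalKrullDim C = 1) (hC0 : Curv2.genus ℂ C = 0)
    (X : Scheme.{0}) [X.Over (Spec (CommRingCat.of ℂ))] (f : X ⟶ C) [f.IsOver (Spec (CommRingCat.of ℂ))] [IsProper f] [Flat f]
    (hfib : ∀ c : C, ConnectedSpace ↥(f.fiber c) ∧ topologicalKrullDim ↥(f.fiber c) = 1)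
    (hvar : ∃ c₁ c₂ : C, IsClosed ({c₁} : Set C) ∧ IsClosed ({c₂} : Set C) ∧
      Smooth (f.fiberToSpecResidueField c₁) ∧ Smooth (f.fiberToSpecResidueField c₂) ∧
      ∀ e : f.fiber c₁ ≅ f.fiber c₂, e.hom ≫ f.fiberι c₂ ≫ (X ↘ (Spec (CommRingCat.of ℂ))) ≠ f.fiberι c₁ ≫ (X ↘ (Spec (CommRingCat.of ℂ)))) :
    3 ≤ Set.ncard {c : C | IsClosed ({c} : Set C) ∧ ¬ Smooth (f.fiberToSpecResidueField c)} := by
  exact K823.Final.main C hdimC hC0 X f hfib hvar

end Groth.Agent.S15102
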