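import Groth.Statements.S15103
import Groth.Agent.Surf.K664.GmFam
import Groth.Agent.Surf.K741.GmOpen

set_option autoImplicit false
universe u
open CategoryTheory CategoryTheory.Limits AlgebraicGeometry TopologicalSpace
open Surf

namespace Groth.Agent.S15103

/-- Let k be an algebraically closed field of characteristic p > 3, C a smooth projective curve of genus
0 over k (integral, proper, smooth, of dimension 1 with H¹(C, O_C) = 0) and f : X → C a family of
curves of genus one: a proper flat k-morphism all of whose fibres are connected and one-dimensional,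
every smooth closed fibre having χ(O) = 0 (computed on X through the direct image of its structure
sheaf). If f has varying moduli — two of its smooth closed fibres are not isomorphic as k-schemes —
then at least three closed points of C have a non-smooth fibre. (The published proposition covers
families of curves of every genus g under the hypothesis p > 2g + 1; only its genus-one case, where
that hypothesis reads p > 3, is stated here.) -/
theorem result (k : Type u) [Field k] [IsAlgClosed k] (p : ℕ) [Fact p.Prime] [CharP k p]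
    (hp3 : 3 < p)
    (C : Scheme.{u}) [C.Over (Spec (CommRingCat.of k))] [IsProper (C ↘ (Spec (CommRingCat.of k)))]
    [Smooth (C ↘ (Spec (CommRingCat.of k)))] [IsIntegral C] (hdimC : topologicalKrullDim C = 1) (hC0 : Curv2.genus k C = 0)
    (X : Scheme.{u}) [X.Over (Spec (CommRingCat.of k))] (f : X ⟶ C) [f.IsOver (Spec (CommRingCat.of k))] [IsProper f] [Flat f]
    (hfib : ∀ c : C, ConnectedSpace ↥(f.fiber c) ∧ topologicalKrullDim ↥(f.fiber c) = 1)
    (hg1 : ∀ c : C, IsClosed ({c} : Set C) → Smooth (f.fiberToSpecResidueField c) →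
      Curv2.euler k X (ClSub.quotMod (f.fiberι c).ker) = 0)
    (hvar : ∃ c₁ c₂ : C, IsClosed ({c₁} : Set C) ∧ IsClosed ({c₂} : Set C) ∧
      Smooth (f.fiberToSpecResidueField c₁) ∧ Smooth (f.fiberToSpecResidueField c₂) ∧
      ∀ e : f.fiber c₁ ≅ f.fiber c₂, e.hom ≫ f.fiberι c₂ ≫ (X ↘ (Spec (CommRingCat.of k))) ≠ f.fiberι c₁ ≫ (X ↘ (Spec (CommRingCat.of k)))) :
    3 ≤ Set.ncard {c : C | IsClosed ({c} : Set C) ∧ ¬ Smooth (f.fiberToSpecResidueField c)} := by
  have iC : IsLocallyNoetherian C := LocallyOfFiniteType.isLocallyNoetherian (C ↘ Spec (CommRingCat.of k))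
  have i2 : LocallyOfFinitePresentation f := inferInstance
  obtain ⟨c₁, c₂, hc₁, hc₂, hs₁, hs₂, hne⟩ := hvar
  by_contra hlt
  push Not at hlt
  have hfin : {c : C | IsClosed ({c} : Set C) ∧ ¬ Smooth (f.fiberToSpecResidueField c)}.Finite := by
    refine (K664.FibCurve.finite_of_isClosed (k := k) hdimC (K664.FibCurve.isClosed_bad f) (c := c₁) ?_).subset ?_
    · rw [K664.FibCurve.mem_bad_iff, not_not]
      exact hs₁
    · rintro c ⟨-, hc⟩
      exact (K664.FibCurve.mem_bad_iff f c).2 hc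
  have hinf : ({c : C | IsClosed ({c} : Set C)} \ {c₁, c₂}).Infinite :=
    (K664.FibCurve.infinite_closedPoints (k := k) hdimC).sdiff (Set.toFinite _)
  obtain ⟨s, hs1, hs2, hs3⟩ := hinf.exists_superset_ncard_eq
    (s := {c : C | IsClosed ({c} : Set C) ∧ ¬ Smooth (f.fiberToSpecResidueField c)}) (by
      rintro c ⟨hc, hc'⟩
      refine ⟨hc, ?_⟩
      rintro (rfl | rfl)
      · exact hc' hs₁
      · exact hc' hs₂) hfin (k := 2) (by omega)
  obtain ⟨x, y, hxy, rfl⟩ := Set.ncard_eq_two.1 hs3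
  have hx := hs2 (Set.mem_insert x {y})
  have hy := hs2 (Set.mem_insert_of_mem x (Set.mem_singleton y))
  obtain ⟨u, hu, hur, huk⟩ := K741.GmOpen.exists_gm k C hdimC hC0 x y hx.1 hy.1 hxy
  have huk' : u ≫ (C ↘ Spec (CommRingCat.of k)) =
      Spec.map (CommRingCat.ofHom (K664.GlobJ.cB (k := k)
        (B := Localization.Away (Polynomial.X : Polynomial k)))) := huk
  have hgood : ∀ c ∈ Set.range u, IsClosed ({c} : Set C) → Smooth (f.fiberToSpecResidueField c) := by
    intro c hc hc'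
    by_contra h
    rw [hur] at hc
    exact hc (hs1 ⟨hc', h⟩)
  have hc₁u : c₁ ∈ Set.range u := by
    rw [hur]
    rintro (h | h)
    · exact hx.2 (h ▸ Set.mem_insert _ _)
    · rw [Set.mem_singleton_iff] at h
      exact hy.2 (h ▸ Set.mem_insert _ _)
  have hc₂u : c₂ ∈ Set.range u := by
    rw [hur]
    rintro (h | h)
    · exact hx.2 (h ▸ Set.mem_insert_of_mem _ (Set.mem_singleton _))
    · rw [Set.mem_singleton_iff] at h
      exact hy.2 (h ▸ Set.mem_insert_of_mem _ (Set.mem_singleton _))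
  have h2 : (2 : k) ≠ 0 := by
    intro h
    have : p ∣ 2 := (CharP.cast_eq_zero_iff k p 2).1 (by exact_mod_cast h)
    exact absurd (Nat.le_of_dvd (by norm_num) this) (by omega)
  have h3 : (3 : k) ≠ 0 := by
    intro h
    have : p ∣ 3 := (CharP.cast_eq_zero_iff k p 3).1 (by exact_mod_cast h)
    exact absurd (Nat.le_of_dvd (by norm_num) this) (by omega)
  obtain ⟨α₁, hα₁, e₁⟩ := K664.GmFam.exists_ev u huk' c₁ hc₁ hc₁u
  obtain ⟨α₂, hα₂, e₂⟩ := K664.GmFam.exists_ev u huk' c₂ hc₂ hc₂u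
  obtain ⟨j₁, H₁⟩ := K664.GmFam.exists_fibSq f u c₁ hc₁ α₁ hα₁ e₁
  obtain ⟨j₂, H₂⟩ := K664.GmFam.exists_fibSq f u c₂ hc₂ α₂ hα₂ e₂
  have C₁ := K664.FibCurve.curve_fiber f c₁ hc₁ hs₁ (hfib c₁).1 (hfib c₁).2 (hg1 c₁ hc₁ hs₁)
  have C₂ := K664.FibCurve.curve_fiber f c₂ hc₂ hs₂ (hfib c₂).1 (hfib c₂).2 (hg1 c₂ hc₂ hs₂)
  have hfam := K664.GmFam.isFam f u huk' inferInstance hfib hgood hg1
  let _ : (pullback f u).Over (Spec (CommRingCat.of (Localization.Away (Polynomial.X : Polynomial k)))) :=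
    ⟨pullback.snd f u⟩
  let _ : (f.fiber c₁).Over (Spec (CommRingCat.of k)) := ⟨f.fiberι c₁ ≫ (X ↘ Spec (CommRingCat.of k))⟩
  let _ : (f.fiber c₂).Over (Spec (CommRingCat.of k)) := ⟨f.fiberι c₂ ≫ (X ↘ Spec (CommRingCat.of k))⟩
  obtain ⟨e, he⟩ := K664.GlobJ.main hfam h2 h3 hα₁ hα₂ j₁ j₂ H₁ H₂ C₁ C₂
  exact hne e he

end Groth.Agent.S15103
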