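import Groth.Statements.S15104
import Groth.Agent.Models.K380.AlgH0
import Groth.Agent.Models.K380.ModelCurve
import Groth.Agent.S3345
import Groth.Agent.S3324
import Groth.Agent.S3313
import Groth.Agent.Models.H45.RedProd
import Groth.Agent.Models.H36.FibreFact

set_option autoImplicit false
universe u
open CategoryTheory CategoryTheory.Limits AlgebraicGeometry
open Models

namespace Groth.Agent.S15104

/-- Let R be a discrete valuation ring with algebraically closed residue field k and fraction field K, C
a smooth proper curve over K with H⁰(C, O_C) = K and dim_K H¹(C, O_C) = g ≥ 2, and X → Spec R a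
minimal regular model of C: a regular proper model none of whose vertical prime divisors is an
exceptional curve of the first kind. Let Γ₁, …, Γ_n enumerate the irreducible components of the
closed fibre, with multiplicities r_i having gcd 1, and suppose the closed fibre is not reduced
(some r_i ≥ 2). Then dim_k H¹((X_k)_red, O) < g, the left side computed as the R-length of H¹(X, O_X
/ I) for I the ideal sheaf of the reduced closed fibre. (The published lemma states this for any
regular model with gcd(r_i) = 1; its proof uses, in the last step, that the component added last is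
not an exceptional curve, the standing hypothesis of the result it serves, and the inequality fails
after blowing up a node of a reduced semi-stable fibre, so minimality is assumed here.) -/
theorem result
    (R : Type u) [CommRing R] [IsDomain R] [IsDiscreteValuationRing R]
    (hk : IsAlgClosed (IsLocalRing.ResidueField R))
    (C : Scheme.{u}) (fC : C ⟶ (Spec (CommRingCat.of (FractionRing R)))) [IsProper fC] [Smooth fC]
    (hC0 : Models.hRank (FractionRing R) C fC (Coh.structureModule C) 0 = 1)
    (g : ℕ) (hg2 : 2 ≤ g) (hg : Models.curveGenus (FractionRing R) C fC = g)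
    (X : Scheme.{u}) (p : X ⟶ (Spec (CommRingCat.of R))) (hX : Models.IsMinimalModel R X p C fC)
    {n : ℕ} (Γ : Fin n → ArSurf.VertComp R (Over.mk p)) (hΓ : Models.IsComponentList R (Over.mk p) Γ)
    (hgcd : Models.multGcd R (Over.mk p) Γ = 1) (hnr : ∃ i, 2 ≤ Models.mult R (Over.mk p) (Γ i)) :
    Models.lengthH R (Over.mk p) (ClSub.quotMod (Models.redFibreIdeal R (Over.mk p))) 1 < g := by
  obtain ⟨i, hi⟩ := hnr
  have hH0 : IsIso fC.appTop := K380.ModelCurve.isIso_appTop fC hC0
  have hC : Curve.IsSmoothProperCurve (FractionRing R) C fC :=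
    K380.ModelCurve.isSmoothProperCurve hH0 hX.1 hΓ i
  have hprop : IsProper p := hX.1.2.1
  have hflat : Flat p := hX.1.1.1
  have hflat' : Flat (Over.mk p).hom := hX.1.1.1
  have hlft' : LocallyOfFiniteType (Over.mk p).hom := hX.1.1.2.1
  have h1 : Models.lengthH R (Over.mk p) (ClSub.quotMod (Models.redFibreIdeal R (Over.mk p))) 0 = 1 :=
    K380.AlgH0.lengthH_zero hk _ (Models.H67.H0Fibre.isField_redFibre hC hH0 hX.1)
  have h2 := Groth.Agent.S3345.result R C X fC p hC hH0 hX.1 Γ hΓ hX hgcd h1
  have h3 := Groth.Agent.S3324.result R C X fC p hC hH0 hX.1 Γ hΓ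
  have h4 := (Groth.Agent.S3313.result R C X fC p hC hX.1.1 hX.1.2.2 Γ hΓ).2
  have hprod : ∏ i, (Γ i).ι.ker ^ (Models.mult R (Over.mk p) (Γ i) / Models.multGcd R (Over.mk p) Γ) =
      Models.specialFibreIdeal R (Over.mk p) := by
    rw [h4, hgcd]
    exact Finset.prod_congr rfl fun j _ => by rw [Nat.div_one]
  rw [hprod, hgcd, Nat.cast_one, one_mul] at h3
  have h5 := K380.AlgH0.lengthH_zero (p := p) hk _ h3.1
  have h6 := h3.2
  rw [h5, hg] at h6
  have h7 : Models.specialFibreIdeal R (Over.mk p) ≠ Models.redFibreIdeal R (Over.mk p) := by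
    intro heq
    have h8 : Models.mult R (Over.mk p) (Γ i) = 1 := by
      refine Models.H36.FibreFact.mult_eq (X := Over.mk p) hX.1.2.2 hΓ (fun _ => 1) ?_ i
      rw [heq, ← Models.H45.RedProd.prod_ker_eq (X := Over.mk p) hX.1.2.2 hΓ]
      exact Finset.prod_congr rfl fun j _ => (pow_one _).symm
    omega
  have h9 := h2.2 h7
  push_cast at h6
  omega


end Groth.Agent.S15104
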