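import Groth.Statements.S15105
import Groth.Agent.Surf.K418.SzpFin
import Groth.Agent.Surf.K549.StarE
import Groth.Agent.Surf.K83.WedgeEx
import Groth.Agent.S15089
import Groth.Agent.S15092

set_option autoImplicit false
universe u
open CategoryTheory CategoryTheory.Limits AlgebraicGeometry TopologicalSpace
open Surf

namespace Groth.Agent.S15105

/-- Let k be an algebraically closed field, X a smooth projective surface over k (integral, proper and
smooth, of dimension 2), C a smooth projective curve over k (integral, proper and smooth, of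
dimension 1) and f : X → C a semi-stable fibration: a surjective k-morphism with O_C → f_*O_X an
isomorphism which is an at-worst-nodal family (flat, of finite presentation, all fibres
one-dimensional with at worst nodal singularities), whose fibre over some closed point q₀ is smooth
with χ(O) = 1 − g for some g ≥ 2 (computed on X through the direct image of the structure sheaf of
the fibre), and with no exceptional curve of the first kind in a fibre (no integral vertical curve E
with χ(O_E) = 1 and E² = −1). Let ω_{X/C} = ω_X ⊗ (f^*Ω_{C/k})^{-1} be the relative dualizing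
module, ω_X a second exterior power of Ω_{X/k} and (f^*Ω_{C/k})^{-1} a tensor inverse of f^*Ω_{C/k}.
Assume moreover that k has characteristic p > 0 and that at least one closed fibre of f is singular
(for a semi-stable fibration this forces f to be non-isotrivial). Then ω_{X/C} is numerically
positive: (ω_{X/C}·ω_{X/C}) > 0 and deg(ω_{X/C}|_D) = χ(O_D ⊗ ω_{X/C}) − χ(O_D) ≥ 0 for every
integral curve D ⊆ X; moreover the only integral curves D with (ω_{X/C}·D) = 0 are smooth rational
curves of self-intersection −2 contained in fibres: such a D lies in a fibre, has χ(O_D) = 1 and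
(D·D) = −2 (computed as (I_D·I_D)). (The published statement assumes f non-isotrivial over a field
of any characteristic; a semi-stable fibration with a singular fibre is never isotrivial, which is
the case taken here, and the printed argument is carried out in positive characteristic, to which
the general case is said to reduce.) -/
theorem result (k : Type u) [Field k] [IsAlgClosed k] (p : ℕ) [Fact p.Prime] [CharP k p]
    (X : Scheme.{u}) [X.Over (Spec (CommRingCat.of k))] [IsProper (X ↘ (Spec (CommRingCat.of k)))]
    [Smooth (X ↘ (Spec (CommRingCat.of k)))] [IsIntegral X] (hdim : topologicalKrullDim X = 2)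
    (C : Scheme.{u}) [C.Over (Spec (CommRingCat.of k))] [IsProper (C ↘ (Spec (CommRingCat.of k)))]
    [Smooth (C ↘ (Spec (CommRingCat.of k)))] [IsIntegral C] (hdimC : topologicalKrullDim C = 1)
    (f : X ⟶ C) [f.IsOver (Spec (CommRingCat.of k))] [Surjective f] (hconn : IsIso (ClSub.unitToPush f))
    (hss : Curv2.IsNodalFamily f)
    (q₀ : C) (hq₀ : IsClosed ({q₀} : Set C)) (hsm : Smooth (f.fiberToSpecResidueField q₀))
    (g : ℕ) (hg2 : 2 ≤ g) (hg : Curv2.euler k X (ClSub.quotMod (f.fiberι q₀).ker) = 1 - (g : ℤ))
    (hmin : ∀ E : X.IdealSheafData, IsIntegral E.subscheme → topologicalKrullDim (E.support : Set X) = 1 →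
      (∃ c : C, ∀ x : X, x ∈ E.support → f.base x = c) → Curv2.euler k X (ClSub.quotMod E) = 1 →
      FGA.intNum k X 2 ![ClSub.idealMod E, ClSub.idealMod E] (Coh.structureModule X) ≠ -1)
    (WX : X.Modules) (hWX : ExtPow.IsExtPow 2 (Omega.sheaf (X ↘ (Spec (CommRingCat.of k)))) WX)
    (M : X.Modules) (hM : ClSub.IsInverseOf M ((Scheme.Modules.pullback f).obj (Omega.sheaf (C ↘ (Spec (CommRingCat.of k))))))
    (hsing : ∃ c : C, IsClosed ({c} : Set C) ∧ ¬ Smooth (f.fiberToSpecResidueField c)) :
    0 < FGA.intNum k X 2 ![(CohB1.tensorMod WX M), (CohB1.tensorMod WX M)] (Coh.structureModule X) ∧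
    (∀ D : X.IdealSheafData, IsIntegral D.subscheme → topologicalKrullDim (D.support : Set X) = 1 →
      0 ≤ Curv2.euler k X (CohB1.tensorMod (ClSub.quotMod D) (CohB1.tensorMod WX M)) - Curv2.euler k X (ClSub.quotMod D)) ∧
    (∀ D : X.IdealSheafData, IsIntegral D.subscheme → topologicalKrullDim (D.support : Set X) = 1 →
      Curv2.euler k X (CohB1.tensorMod (ClSub.quotMod D) (CohB1.tensorMod WX M)) - Curv2.euler k X (ClSub.quotMod D) = 0 →
        (∃ c : C, ∀ x : X, x ∈ D.support → f.base x = c) ∧ Curv2.euler k X (ClSub.quotMod D) = 1 ∧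
          FGA.intNum k X 2 ![ClSub.idealMod D, ClSub.idealMod D] (Coh.structureModule X) = -2) := by
  have hf : f ≫ (C ↘ Spec (CommRingCat.of k)) = X ↘ Spec (CommRingCat.of k) := comp_over f _
  have h2 : SmoothOfRelativeDimension 2 (X ↘ Spec (CommRingCat.of k)) :=
    Picfga.CurveRelDim.smoothOfRelativeDimension_of_topologicalKrullDim_eq k X _ 2 hdim
  have hW := K455.Canon.isInvertible (X ↘ Spec (CommRingCat.of k)) 2 hWX
  have hΩ := CurvesB.OmegaInv.isInvertible_omega (C ↘ (Spec (CommRingCat.of k))) hdimC
  have hMi := K456.RelCan.isInvertible_of_isInverseOf (Fdesc.LocGen.isInvertible_pullback f hΩ) hM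
  have hchX : FrobSch.IsCharP X p := K418.FrobMain.isCharP k p X
  have hchC : FrobSch.IsCharP C p := K418.FrobMain.isCharP k p C
  have hfp := hss.2.1
  have hE : PicF.IsInvertible (CohB1.tensorMod WX M) := Fdesc.LocGen.isInvertible_tensorMod hW hMi
  obtain ⟨w, hw, hker, hsurj⟩ := K83.WedgeEx.exists_wm k hdim hdimC f hf hss q₀ hsm hWX hM hMi
  exact K418.SzpFin.main k p hdim hdimC f hf hconn hss q₀ hq₀ hsm g hg2 hg hWX hW hM hMi hsing
    (K549.StarE.ker_input k p hdim hdimC f hf hconn hss q₀ hsm hE w hw hker)
    (fun D hD hDe hhor => by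
      obtain ⟨m, -, h⟩ := K549.StarE.star_input k hdimC f hf hss q₀ hsm hE w hw hsurj D hD hDe hhor
      exact ⟨m, by rwa [Grpsch.PicGrp.mk_mul_mk hW hMi]⟩)
    (fun D h1 h3 h4 LD h5 => S15092.result k X hdim C hdimC f hconn hss q₀ hq₀ hsm g hg2 hg hmin WX hWX M hM D h1 h3 h4
      LD h5)
    (S15089.result k X hdim C hdimC f hconn hss q₀ hq₀ hsm g hg2 hg hmin WX hWX M hM)

end Groth.Agent.S15105
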