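import Groth.Statements.S15106
import Groth.Agent.S15105
import Groth.Agent.Surf.K418.SzpFin

set_option autoImplicit false
universe u
open CategoryTheory CategoryTheory.Limits AlgebraicGeometry TopologicalSpace
open Surf

namespace Groth.Agent.S15106

/-- Let k be an algebraically closed field, X a smooth projective surface over k (integral, proper and
smooth, of dimension 2), C a smooth projective curve over k (integral, proper and smooth, of
dimension 1) and f : X → C a semi-stable fibration: a surjective k-morphism with O_C → f_*O_X an
isomorphism which is an at-worst-nodal family (flat, of finite presentation, all fibres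
one-dimensional with at worst nodal singularities), whose fibre over some closed point q₀ is smooth
with χ(O) = 1 − g for some g ≥ 2 (computed on X through the direct image of the structure sheaf of
the fibre), and with no exceptional curve of the first kind in a fibre (no integral vertical curve E
with χ(O_E) = 1 and E² = −1). Let ω_{X/C} = ω_X ⊗ (f^*Ω_{C/k})^{-1} be the relative dualizing
module, ω_X a second exterior power of Ω_{X/k} and (f^*Ω_{C/k})^{-1} a tensor inverse of f^*Ω_{C/k}.
Assume moreover that k has characteristic p > 0 and that at least one closed fibre of f is singular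
(for a semi-stable fibration this forces f to be non-isotrivial). Let E ⊆ X be a section of f: a
closed subscheme which f maps isomorphically onto C. Then (E·E) < 0, the self-intersection being
computed on the ideal sheaf, (I_E·I_E) = χ(O_X) − 2χ(I_E) + χ(I_E ⊗ I_E). (The published statement
assumes f non-isotrivial over a field of any characteristic; a semi-stable fibration with a singular
fibre is never isotrivial, which is the case taken here, and the printed argument is carried out in
positive characteristic, to which the general case is said to reduce.) -/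
theorem result (k : Type u) [Field k] [IsAlgClosed k] (p : ℕ) [Fact p.Prime] [CharP k p]
    (X : Scheme.{u}) [X.Over (Spec (CommRingCat.of k))] [IsProper (X ↘ (Spec (CommRingCat.of k)))]
    [Smooth (X ↘ (Spec (CommRingCat.of k)))] [IsIntegral X] (hdim : topologicalKrullDim X = 2)
    (C : Scheme.{u}) [C.Over (Spec (CommRingCat.of k))] [IsProper (C ↘ (Spec (CommRingCat.of k)))]
    [Smooth (C ↘ (Spec (CommRingCat.of k)))] [IsIntegral C] (hdimC : topologicalKrullDim C = 1)
    (f : X ⟶ C) [f.IsOver (Spec (CommRingCat.of k))] [Surjective f] (hconn : IsIso (ClSub.unitToPush f))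
    (hss : Curv2.IsNodalFamily f)
    (q₀ : C) (hq₀ : IsClosed ({q₀} : Set C)) (hsm : Smooth (f.fiberToSpecResidueField q₀))
    (g : ℕ) (hg2 : 2 ≤ g) (hg : Curv2.euler k X (ClSub.quotMod (f.fiberι q₀).ker) = 1 - (g : ℤ))
    (hmin : ∀ E : X.IdealSheafData, IsIntegral E.subscheme → topologicalKrullDim (E.support : Set X) = 1 →
      (∃ c : C, ∀ x : X, x ∈ E.support → f.base x = c) → Curv2.euler k X (ClSub.quotMod E) = 1 →
      FGA.intNum k X 2 ![ClSub.idealMod E, ClSub.idealMod E] (Coh.structureModule X) ≠ -1)
    (hsing : ∃ c : C, IsClosed ({c} : Set C) ∧ ¬ Smooth (f.fiberToSpecResidueField c))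
    (E : X.IdealSheafData) (hE : IsIso (E.subschemeι ≫ f)) :
    FGA.intNum k X 2 ![ClSub.idealMod E, ClSub.idealMod E] (Coh.structureModule X) < 0 := by
  have hf : f ≫ (C ↘ Spec (CommRingCat.of k)) = X ↘ Spec (CommRingCat.of k) := comp_over f _
  have h2 : SmoothOfRelativeDimension 2 (X ↘ Spec (CommRingCat.of k)) :=
    Picfga.CurveRelDim.smoothOfRelativeDimension_of_topologicalKrullDim_eq k X _ 2 hdim
  obtain ⟨WX, hWX, hW⟩ := K455.Canon.exists_canonical (X ↘ Spec (CommRingCat.of k)) 2
  have hΩ := CurvesB.OmegaInv.isInvertible_omega (C ↘ (Spec (CommRingCat.of k))) hdimC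
  obtain ⟨M, hMi, ⟨e⟩⟩ := Grpsch.PicGrp.exists_inverse (Fdesc.LocGen.isInvertible_pullback f hΩ)
  have hM : ClSub.IsInverseOf M ((Scheme.Modules.pullback f).obj (Omega.sheaf (C ↘ (Spec (CommRingCat.of k))))) :=
    ⟨Ega2.Tens.swap _ _ ≪≫ e⟩
  have h := S15105.result k p X hdim C hdimC f hconn hss q₀ hq₀ hsm g hg2 hg hmin WX hWX M hM hsing
  exact K418.SzpFin.section_neg k hdim hdimC f hf hWX hM h hMi hW E hE

end Groth.Agent.S15106
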