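import Groth.Statements.S15107
import Groth.Agent.Surf.K459.Arak
import Groth.Agent.Surf.K455.Canon

set_option autoImplicit false
universe u
open CategoryTheory CategoryTheory.Limits AlgebraicGeometry TopologicalSpace
open Surf

namespace Groth.Agent.S15107

/-- Let k be an algebraically closed field, X a smooth projective surface over k (integral, proper and
smooth, of dimension 2), C a smooth projective curve over k (integral, proper and smooth, of
dimension 1) and f : X → C a semi-stable fibration: a surjective k-morphism with O_C → f_*O_X an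
isomorphism which is an at-worst-nodal family (flat, of finite presentation, all fibres
one-dimensional with at worst nodal singularities), whose fibre over some closed point q₀ is smooth
with χ(O) = 1 − g for some g ≥ 2 (computed on X through the direct image of the structure sheaf of
the fibre), and with no exceptional curve of the first kind in a fibre (no integral vertical curve E
with χ(O_E) = 1 and E² = −1). Let ω_{X/C} = ω_X ⊗ (f^*Ω_{C/k})^{-1} be the relative dualizing
module, ω_X a second exterior power of Ω_{X/k} and (f^*Ω_{C/k})^{-1} a tensor inverse of f^*Ω_{C/k}.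
Assume moreover that k has characteristic p > 0 and that at least one closed fibre of f is singular
(for a semi-stable fibration this forces f to be non-isotrivial). Let E ⊆ X be a section of f (a
closed subscheme mapped isomorphically onto C by f). Then (ω_{X/C}·ω_{X/C}) ≤ −4g(g−1)·(E·E), where
(E·E) = (I_E·I_E) is computed on the ideal sheaf of E and (L·L') = χ(O_X) − χ(L) − χ(L') + χ(L ⊗
L'). (The published statement assumes f non-isotrivial over a field of any characteristic; a
semi-stable fibration with a singular fibre is never isotrivial, which is the case taken here, and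
the printed argument is carried out in positive characteristic, to which the general case is said to
reduce.) -/
theorem result (k : Type u) [Field k] [IsAlgClosed k] (p : ℕ) [Fact p.Prime] [CharP k p]
    (X : Scheme.{u}) [X.Over (Spec (CommRingCat.of k))] [IsProper (X ↘ (Spec (CommRingCat.of k)))]
    [Smooth (X ↘ (Spec (CommRingCat.of k)))] [IsIntegral X] (hdim : topologicalKrullDim X = 2)
    (C : Scheme.{u}) [C.Over (Spec (CommRingCat.of k))] [IsProper (C ↘ (Spec (CommRingCat.of k)))]
    [Smooth (C ↘ (Spec (CommRingCat.of k)))] [IsIntegral C] (hdimC : topologicalKrullDim C = 1)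
    (f : X ⟶ C) [f.IsOver (Spec (CommRingCat.of k))] [Surjective f] (hconn : IsIso (ClSub.unitToPush f))
    (hss : Curv2.IsNodalFamily f)
    (q₀ : C) (hq₀ : IsClosed ({q₀} : Set C)) (hsm : Smooth (f.fiberToSpecResidueField q₀))
    (g : ℕ) (hg2 : 2 ≤ g) (hg : Curv2.euler k X (ClSub.quotMod (f.fiberι q₀).ker) = 1 - (g : ℤ))
    (hmin : ∀ E : X.IdealSheafData, IsIntegral E.subscheme → topologicalKrullDim (E.support : Set X) = 1 →
      (∃ c : C, ∀ x : X, x ∈ E.support → f.base x = c) → Curv2.euler k X (ClSub.quotMod E) = 1 →
      FGA.intNum k X 2 ![ClSub.idealMod E, ClSub.idealMod E] (Coh.structureModule X) ≠ -1)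
    (WX : X.Modules) (hWX : ExtPow.IsExtPow 2 (Omega.sheaf (X ↘ (Spec (CommRingCat.of k)))) WX)
    (M : X.Modules) (hM : ClSub.IsInverseOf M ((Scheme.Modules.pullback f).obj (Omega.sheaf (C ↘ (Spec (CommRingCat.of k))))))
    (hsing : ∃ c : C, IsClosed ({c} : Set C) ∧ ¬ Smooth (f.fiberToSpecResidueField c))
    (E : X.IdealSheafData) (hE : IsIso (E.subschemeι ≫ f)) :
    FGA.intNum k X 2 ![(CohB1.tensorMod WX M), (CohB1.tensorMod WX M)] (Coh.structureModule X) ≤
      -(4 * (g : ℤ) * ((g : ℤ) - 1)) * FGA.intNum k X 2 ![ClSub.idealMod E, ClSub.idealMod E] (Coh.structureModule X) := by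
  have hf : f ≫ (C ↘ Spec (CommRingCat.of k)) = X ↘ Spec (CommRingCat.of k) := comp_over f _
  have h2 : SmoothOfRelativeDimension 2 (X ↘ Spec (CommRingCat.of k)) :=
    Picfga.CurveRelDim.smoothOfRelativeDimension_of_topologicalKrullDim_eq k X _ 2 hdim
  have h1 : SmoothOfRelativeDimension 1 (C ↘ Spec (CommRingCat.of k)) :=
    Picfga.CurveRelDim.smoothOfRelativeDimension_of_topologicalKrullDim_eq k C _ 1 hdimC
  have hW : PicF.IsInvertible WX := K455.Canon.isInvertible _ 2 hWX
  have hΩ : PicF.IsInvertible (Omega.sheaf (C ↘ Spec (CommRingCat.of k))) :=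
    Ega2.QCohLocal.isFinLocFreeOfRank_one_iff.1 (Dual.H339.OmegaRank.isFinLocFreeOfRank_omega 1 _)
  have hMi : PicF.IsInvertible M := (Dix.IdealModCartier.isInvertible_of_isInverseOf hM).1
  have hWM := Fdesc.LocGen.isInvertible_tensorMod hW hMi
  have key := K459.Arak.main k hdim hdimC f hf hWX hW hMi hM hΩ hq₀ g hg hE
  rw [K464.Base.intNum_eq_dot k X hdim.le hWM hWM, ← Grpsch.PicGrp.mk_mul_mk hW hMi]
  exact key

end Groth.Agent.S15107
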