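import Groth.Statements.S15108
import Groth.Agent.GrpSch.K269.ThetaSec

set_option autoImplicit false
universe u
open CategoryTheory CategoryTheory.Limits MonoidalCategory CartesianMonoidalCategory MonObj GrpObj AlgebraicGeometry
open GrpSch

namespace Groth.Agent.S15108

open Groth.Agent.Books.AffBridge in
/-- Isomorphic affine schemes over `k` have isomorphic algebras. -/
theorem exists_algEquiv (k : Type u) [Field k] (K : Over (Spec (CommRingCat.of k)))
    (B : Type u) [CommRing B] [Algebra k B] (e : K.left ≅ Spec (CommRingCat.of B))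
    (he : e.hom ≫ Spec.map (CommRingCat.ofHom (algebraMap k B)) = K.hom)
    (A : Type u) [CommRing A] [Algebra k A] (q : K ≅ SpecOver k A) : Nonempty (B ≃ₐ[k] A) := by
  let e' : K ≅ SpecOver k B := Over.isoMk e he
  let φ : B →ₐ[k] A := specPreimage k (q.inv ≫ e'.hom)
  let ψ : A →ₐ[k] B := specPreimage k (e'.inv ≫ q.hom)
  refine ⟨AlgEquiv.ofAlgHom φ ψ ?_ ?_⟩
  · apply specMap_injective k
    rw [specMap_comp, specMap_specPreimage, specMap_specPreimage, specMap_id, Category.assoc,
      Iso.hom_inv_id_assoc, Iso.inv_hom_id]
  · apply specMap_injective k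
    rw [specMap_comp, specMap_specPreimage, specMap_specPreimage, specMap_id, Category.assoc,
      Iso.hom_inv_id_assoc, Iso.inv_hom_id]

/-- Let k be an algebraically closed field and 1 → G_m → G → K → 1 a theta group over k: u : G_m → G and
v : G → K are homomorphisms of k-group schemes forming a sequence exact for the fppf topology (u ≫ v
trivial, G a pseudo-torsor over K under G_m acting by right translations through u, v acquiring
sections fppf-locally on K), with K commutative and u(G_m) central in G. If K is finite of prime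
order ℓ — K is k-isomorphic to Spec B for a k-algebra B of dimension ℓ over k, ℓ a prime number,
possibly the characteristic — then G is commutative: g h = h g for all points g, h of G with values
in any k-scheme T. -/
theorem result (k : Type u) [Field k] [IsAlgClosed k]
    (G K : Over (Spec (CommRingCat.of k))) [GrpObj G] [GrpObj K] [IsCommMonObj K]
    (u : Red.Gm (Spec (CommRingCat.of k)) ⟶ G) (v : G ⟶ K) (hex : NonAbH1.IsExactSeq Scheme.fppfPrecoverage u v)
    (hcentral : ∀ (T : Over (Spec (CommRingCat.of k))) (g : T ⟶ G) (t : T ⟶ Red.Gm (Spec (CommRingCat.of k))), g * (t ≫ u) = (t ≫ u) * g)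
    (B : Type u) [CommRing B] [Algebra k B] [Module.Finite k B] (ℓ : ℕ) (hℓ : ℓ.Prime)
    (hB : Module.finrank k B = ℓ)
    (e : K.left ≅ Spec (CommRingCat.of B)) (he : e.hom ≫ Spec.map (CommRingCat.ofHom (algebraMap k B)) = K.hom) :
    ∀ (T : Over (Spec (CommRingCat.of k))) (g h : T ⟶ G), g * h = h * g := by
  have : IsAffine K.left := IsAffine.of_isIso e.hom
  obtain ⟨A, _, _, q, hq⟩ := Groth.Agent.Books.AffBridge.exists_hopf k K
  obtain ⟨φ⟩ := exists_algEquiv k K B e he A q
  have hfin : Module.Finite k A := Module.Finite.equiv φ.toLinearEquiv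
  have hrank : Module.finrank k A = ℓ := by rw [← φ.toLinearEquiv.finrank_eq, hB]
  obtain ⟨s, hs⟩ := K269.ThetaSec.exists_sec hex hcentral e
  exact K269.ThetaSec.comm_of_prime hex hcentral hs q (hrank.symm ▸ hℓ)

end Groth.Agent.S15108
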