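import Groth.Statements.S15109
import Groth.Agent.Surf.K455.GenTwoTriv
import Groth.Agent.Biell.K856.Noether2

set_option autoImplicit false
universe u
open CategoryTheory CategoryTheory.Limits AlgebraicGeometry TopologicalSpace
open Surf

namespace Groth.Agent.S15109

/-- Let k be an algebraically closed field of characteristic different from 2, C a smooth projective
curve of genus 0 over k (integral, proper, smooth, of dimension 1 with H¹(C, O_C) = 0) and f : X → C
a smooth proper k-morphism all of whose fibres are connected curves (one-dimensional) of genus 2:
χ(O_F) = −1 for the fibre F over every closed point, computed on X through the direct image of O_F.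
Then the fibration is trivial: there are a k-scheme F and an isomorphism X ≅ F ×_k C compatible with
the projections to C. (The published lemma is stated for smooth hyperelliptic fibres of any genus ≥
2 in characteristic ≠ 2, with an elementary argument for that case; genus 2, where every smooth
curve is hyperelliptic, is the case stated here.) -/
theorem result (k : Type u) [Field k] [IsAlgClosed k]
    (h2 : (2 : k) ≠ 0)
    (C : Scheme.{u}) [C.Over (Spec (CommRingCat.of k))] [IsProper (C ↘ (Spec (CommRingCat.of k)))]
    [Smooth (C ↘ (Spec (CommRingCat.of k)))] [IsIntegral C] (hdimC : topologicalKrullDim C = 1) (hC0 : Curv2.genus k C = 0)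
    (X : Scheme.{u}) [X.Over (Spec (CommRingCat.of k))] (f : X ⟶ C) [f.IsOver (Spec (CommRingCat.of k))] [IsProper f] [Smooth f]
    (hfib : ∀ c : C, ConnectedSpace ↥(f.fiber c) ∧ topologicalKrullDim ↥(f.fiber c) = 1)
    (hgen : ∀ c : C, IsClosed ({c} : Set C) → Curv2.euler k X (ClSub.quotMod (f.fiberι c).ker) = -1) :
    ∃ (F : Scheme.{u}) (q : F ⟶ (Spec (CommRingCat.of k))) (e : X ≅ pullback q (C ↘ (Spec (CommRingCat.of k)))),
      e.hom ≫ pullback.snd q (C ↘ (Spec (CommRingCat.of k))) = f := by
  exact K455.GenTwo.main_triv k C hdimC hC0 X f (comp_over f (Spec (CommRingCat.of k))) hfib hgen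
    fun hH WX hWX hWi => K856.Noether.noether k X hH hWX hWi

end Groth.Agent.S15109
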