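import Groth.Statements.S15110
import Groth.Agent.Surf.K418.EtCov
import Groth.Agent.Surf.K418.EtExc
import Groth.Agent.Sga7.H591.GeoFib

set_option autoImplicit false
universe u
open CategoryTheory CategoryTheory.Limits AlgebraicGeometry TopologicalSpace
open Surf

namespace Groth.Agent.S15110

/-- Let k be an algebraically closed field, X a smooth projective surface over k (integral, proper and
smooth, of dimension 2), C a smooth projective curve of genus 0 over k and f : X → C a semi-stable
fibration: a surjective k-morphism with O_C → f_*O_X an isomorphism which is an at-worst-nodal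
family, with some smooth closed fibre of Euler characteristic χ(O) = 1 − g, g ≥ 1, and with no
exceptional curve of the first kind in a fibre (no integral vertical curve E with χ(O_E) = 1 and E²
= −1). Let r : X' → X be finite étale with X' integral (a connected étale cover). Then f' = r ≫ f is
again a semi-stable fibration — O_C → f'_*O_{X'} is an isomorphism (the fibres of f' are connected),
f' is an at-worst-nodal family and no fibre of f' contains an exceptional curve of the first kind —
and a closed point of C has a singular fibre for f' exactly when it has one for f. (The published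
lemma is stated for complex varieties; its argument is algebraic and uses only that the projective
line has no non-trivial connected finite étale cover, so any algebraically closed field is allowed
here.) -/
theorem result (k : Type u) [Field k] [IsAlgClosed k]
    (X : Scheme.{u}) [X.Over (Spec (CommRingCat.of k))] [IsProper (X ↘ (Spec (CommRingCat.of k)))]
    [Smooth (X ↘ (Spec (CommRingCat.of k)))] [IsIntegral X] (hdim : topologicalKrullDim X = 2)
    (C : Scheme.{u}) [C.Over (Spec (CommRingCat.of k))] [IsProper (C ↘ (Spec (CommRingCat.of k)))]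
    [Smooth (C ↘ (Spec (CommRingCat.of k)))] [IsIntegral C] (hdimC : topologicalKrullDim C = 1) (hC0 : Curv2.genus k C = 0)
    (f : X ⟶ C) [f.IsOver (Spec (CommRingCat.of k))] [Surjective f] (hconn : IsIso (ClSub.unitToPush f))
    (hss : Curv2.IsNodalFamily f)
    (q₀ : C) (hq₀ : IsClosed ({q₀} : Set C)) (hsm : Smooth (f.fiberToSpecResidueField q₀))
    (g : ℕ) (hg1 : 1 ≤ g) (hg : Curv2.euler k X (ClSub.quotMod (f.fiberι q₀).ker) = 1 - (g : ℤ))
    (hmin : ∀ E : X.IdealSheafData, IsIntegral E.subscheme → topologicalKrullDim (E.support : Set X) = 1 →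
      (∃ c : C, ∀ x : X, x ∈ E.support → f.base x = c) → Curv2.euler k X (ClSub.quotMod E) = 1 →
      FGA.intNum k X 2 ![ClSub.idealMod E, ClSub.idealMod E] (Coh.structureModule X) ≠ -1)
    (X' : Scheme.{u}) [X'.Over (Spec (CommRingCat.of k))] [IsIntegral X'] (r : X' ⟶ X) [r.IsOver (Spec (CommRingCat.of k))] [IsFinite r] [Etale r] :
    IsIso (ClSub.unitToPush (r ≫ f)) ∧ Curv2.IsNodalFamily (r ≫ f) ∧
    (∀ E : X'.IdealSheafData, IsIntegral E.subscheme → topologicalKrullDim (E.support : Set X') = 1 →
      (∃ c : C, ∀ x : X', x ∈ E.support → (r ≫ f).base x = c) → Curv2.euler k X' (ClSub.quotMod E) = 1 →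
      FGA.intNum k X' 2 ![ClSub.idealMod E, ClSub.idealMod E] (Coh.structureModule X') ≠ -1) ∧
    {c : C | IsClosed ({c} : Set C) ∧ ¬ Smooth ((r ≫ f).fiberToSpecResidueField c)} =
      {c : C | IsClosed ({c} : Set C) ∧ ¬ Smooth (f.fiberToSpecResidueField c)} := by
  have hf : f ≫ (C ↘ Spec (CommRingCat.of k)) = X ↘ Spec (CommRingCat.of k) := comp_over f _
  have hr : r ≫ (X ↘ Spec (CommRingCat.of k)) = X' ↘ Spec (CommRingCat.of k) := comp_over r _
  have hsurj : Surjective r := K418.EtCov.surjective_of_finite_etale r
  have hp : IsProper f := K464.FibCurve.isProper k f hf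
  have hnod := CurvesB.NodalEtale.isNodalFamily_precomp_etale f r hss
  have h1 := hss.1
  have h2 := hss.2.1
  refine ⟨?_, hnod, K418.EtExc.main k hdim hdimC f hf r hr hmin, ?_⟩
  · have h3 := hnod.1
    have h4 := hnod.2.1
    exact K418.EtCov.isIso_unitToPush k hdimC hC0 (r ≫ f) (Sga7.H591.GeoFib.geometricallyReduced _ hnod)
  · ext c
    exact and_congr_right fun _ => not_congr (K418.EtCov.smooth_fiber_iff r f c)

end Groth.Agent.S15110
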