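import Groth.Statements.S15111
import Groth.Agent.Surf.K459.GraphRoot
import Groth.Agent.Surf.K459.TorsCov

set_option autoImplicit false
universe u
open CategoryTheory CategoryTheory.Limits AlgebraicGeometry TopologicalSpace
open Surf

namespace Groth.Agent.S15111

/-- Let k be an algebraically closed field of characteristic p > 0, n ≥ 2 an integer prime to p, C₀ a
smooth projective curve over k of genus g₀ ≥ 2 (integral, proper, smooth, of dimension 1 with dim
H¹(C₀, O) = g₀), C₁ a smooth projective curve over k and π : C₁ → C₀ a finite étale k-morphism of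
degree n (every closed fibre has n points); let Γ₀ ⊂ C₀ × C₁ be the graph of π. Then there are a
smooth projective curve C over k (integral), a finite étale k-morphism r : C → C₀, and an invertible
module L on Y = C ×_k C₁ such that O_Y(Γ) ≅ L^{⊗n}, where Γ ⊂ Y is the inverse image of Γ₀ under r ×
1, namely the closed subscheme C ×_{C₀} C₁ embedded by the canonical map; the conclusion is written
as L^{⊗n} ⊗ I_Γ ≅ O_Y for the ideal sheaf I_Γ of that closed immersion. -/
theorem result (k : Type u) [Field k] [IsAlgClosed k] (p : ℕ) [Fact p.Prime] [CharP k p]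
    (n : ℕ) (hn : 2 ≤ n) (hnp : ¬ p ∣ n)
    (C₀ : Scheme.{u}) [C₀.Over (Spec (CommRingCat.of k))] [IsProper (C₀ ↘ (Spec (CommRingCat.of k)))]
    [Smooth (C₀ ↘ (Spec (CommRingCat.of k)))] [IsIntegral C₀] (hdim₀ : topologicalKrullDim C₀ = 1) (g₀ : ℕ) (hg₀ : 2 ≤ g₀) (hC₀ : Curv2.genus k C₀ = g₀)
    (C₁ : Scheme.{u}) [C₁.Over (Spec (CommRingCat.of k))] [IsProper (C₁ ↘ (Spec (CommRingCat.of k)))]
    [Smooth (C₁ ↘ (Spec (CommRingCat.of k)))] [IsIntegral C₁] (hdim₁ : topologicalKrullDim C₁ = 1)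
    (π : C₁ ⟶ C₀) (hπ : π ≫ (C₀ ↘ (Spec (CommRingCat.of k))) = C₁ ↘ (Spec (CommRingCat.of k))) [IsFinite π] [Etale π]
    (hdeg : ∀ c : C₀, IsClosed ({c} : Set C₀) → Nat.card ↥(π.fiber c) = n) :
    ∃ (C : Scheme.{u}) (_ : C.Over (Spec (CommRingCat.of k))) (r : C ⟶ C₀) (hr : r ≫ (C₀ ↘ (Spec (CommRingCat.of k))) = C ↘ (Spec (CommRingCat.of k))),
      IsProper (C ↘ (Spec (CommRingCat.of k))) ∧ Smooth (C ↘ (Spec (CommRingCat.of k))) ∧ IsIntegral C ∧ topologicalKrullDim C = 1 ∧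
      IsFinite r ∧ Etale r ∧
      ∃ (L : (pullback (C ↘ (Spec (CommRingCat.of k))) (C₁ ↘ (Spec (CommRingCat.of k)))).Modules), PicF.IsInvertible L ∧
        ClSub.IsInverseOf (CohB1.tensorPow L n)
          (ClSub.idealMod (pullback.map r π (C ↘ (Spec (CommRingCat.of k))) (C₁ ↘ (Spec (CommRingCat.of k))) (𝟙 C) (𝟙 C₁) (C₀ ↘ (Spec (CommRingCat.of k)))
            (hr.trans (Category.id_comp _).symm) (hπ.trans (Category.id_comp _).symm)).ker) := by
  have hn0 : 0 < n := by omega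
  have hnk : (n : k) ≠ 0 := fun h => hnp ((CharP.cast_eq_zero_iff k p n).1 h)
  have h01 : SmoothOfRelativeDimension 1 (C₀ ↘ Spec (CommRingCat.of k)) :=
    Picfga.CurveRelDim.smoothOfRelativeDimension_of_topologicalKrullDim_eq k C₀ _ 1 hdim₀
  have hc₀ : Curve.IsSmoothProperCurve k C₀ (C₀ ↘ Spec (CommRingCat.of k)) :=
    ⟨inferInstance, inferInstance, inferInstance, hdim₀⟩
  have hc₁ : Curve.IsSmoothProperCurve k C₁ (C₁ ↘ Spec (CommRingCat.of k)) :=
    ⟨inferInstance, inferInstance, inferInstance, hdim₁⟩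
  have hcomp : CompactSpace C₀ := QuasiCompact.compactSpace_of_compactSpace (C₀ ↘ Spec (CommRingCat.of k))
  obtain ⟨σ, hσ⟩ := Picfga.RatPts.exists_section_of_smooth (C₀ ↘ Spec (CommRingCat.of k))
    (Classical.arbitrary C₀)
  obtain ⟨C, _, r, hr, ⟨hp, hs, hi, hd⟩, hrf, hre, e, he⟩ :=
    K459.TorsCov.main hc₀ (by omega) hnk σ hσ
  refine ⟨C, inferInstance, r, hr, hp, hs, hi, hd, hrf, hre, ?_⟩
  exact K459.GraphRoot.exists_root_graph hr hπ _ _ σ hσ e he (fun c =>
    K459.Root.exists_root_pull hc₁ hc₀ π hπ hn0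
      (K459.GraphRoot.finrank_eq (C₀ ↘ Spec (CommRingCat.of k)) π hdeg) c)

end Groth.Agent.S15111
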