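import Groth.Statements.S15114
import Groth.Agent.Coherent.K850.Strat
import Groth.Agent.Coherent.K850.RegStep

set_option autoImplicit false
universe u
open CategoryTheory CategoryTheory.Limits AlgebraicGeometry
open Coherent

namespace Groth.Agent.S15114

/-- Let k be an algebraically closed field, S a k-scheme of finite type, f : X → S a proper morphism, L
an invertible O_X-module whose restriction to every fibre X_s is generated by global sections, F a
coherent O_X-module flat over S, and r a natural number. Then S is covered, bijectively on points,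
by finitely many locally closed subschemes S_i → S such that over each S_i, writing X_i, L_i, F_i
for the base changes, there are r global sections σ_1, …, σ_r of L_i forming an F_i-regular
sequence: for each j, no associated point of the restriction of F_i to the closed subscheme Z(σ_1) ∩
… ∩ Z(σ_{j-1}) of X_i (viewed on X_i) lies in the zero scheme of σ_j. (The published statement takes
f projective, the twisting sheaf O_X(1) of the projective structure in place of L, and r equal to
the degree of the Hilbert polynomial of F; this row takes f proper, L any invertible module with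
globally generated fibres, and r arbitrary.) -/
theorem result (k : Type u) [Field k] [IsAlgClosed k]
    (S : Scheme.{u}) [S.Over (Spec (CommRingCat.of k))]
    [LocallyOfFiniteType (S ↘ Spec (CommRingCat.of k))] [CompactSpace ↑S]
    {X : Scheme.{u}} (f : X ⟶ S) [IsProper f]
    (L : X.Modules) (hL : PicF.IsInvertible L)
    (hgen : ∀ s : S, Curv2.IsGloballyGenerated
      ((Scheme.Modules.pullback (pullback.fst f (S.fromSpecResidueField s))).obj L))
    (F : X.Modules) (hF : Coh.IsCoh F) (hflat : FlatMod.IsFlatOver f F) (r : ℕ) :
    ∃ (n : ℕ) (T : Fin n → Scheme.{u}) (g : (i : Fin n) → (T i ⟶ S)),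
      (∀ i, AlgebraicGeometry.IsImmersion (g i)) ∧
      (∀ s : S, ∃! p : (i : Fin n) × ↑(T i), (g p.1).base p.2 = s) ∧
      ∀ i : Fin n,
        letI Li : (pullback f (g i)).Modules := (Scheme.Modules.pullback (pullback.fst f (g i))).obj L
        letI Fi : (pullback f (g i)).Modules := (Scheme.Modules.pullback (pullback.fst f (g i))).obj F
        ∃ σ : Fin r → (Coh.structureModule (pullback f (g i)) ⟶ Li),
          ∀ (j : Fin r) (x : ↑(pullback f (g i))),
            letI Zj : (pullback f (g i)).IdealSheafData :=
              ⨆ (l : Fin r) (_ : l.val < j.val), PicF2.zeroScheme Li (σ l)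
            Curv2.IsAssPoint ((Scheme.Modules.pushforward Zj.subschemeι).obj
                ((Scheme.Modules.pullback Zj.subschemeι).obj Fi)) x →
              x ∉ (PicF2.zeroScheme Li (σ j)).support := by
  have hnS : IsLocallyNoetherian S :=
    LocallyOfFiniteType.isLocallyNoetherian (S ↘ Spec (CommRingCat.of k))
  have hnS' : IsNoetherian S := {}
  have hinf : Infinite k := IsAlgClosed.instInfinite
  obtain ⟨n, T, g, h1, h2, h3⟩ := K850.Strat.exists_strat (S := S)
    (fun {T} g => K850.RegStep.Q f L F r g) (fun A _ _ g _ => by
      obtain ⟨A', _, _, j, hj, hQ⟩ :=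
        K850.RegStep.exists_Q f L F k (S ↘ Spec (CommRingCat.of k)) hL hF hgen r A g
      exact ⟨A', inferInstance, j, hj, hQ⟩)
  refine ⟨n, T, g, h1, h2, fun i => ?_⟩
  obtain ⟨σ, hσ⟩ := h3 i
  refine ⟨fun l => σ l, fun j x hx => ?_⟩
  have hgi := h1 i
  have hTi : IsLocallyNoetherian (T i) := LocallyOfFiniteType.isLocallyNoetherian (g i)
  have hXi : IsLocallyNoetherian (pullback f (g i)) :=
    LocallyOfFiniteType.isLocallyNoetherian (pullback.snd f (g i))
  have hF' : Coh.IsQCoh ((Scheme.Modules.pullback (pullback.fst f (g i))).obj F) :=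
    Groth.Agent.FormalA.PullbackQC.isQCoh_pullback _ _ hF.1
  have hx' := (K850.RegSec.assOn_iff _ hF' x).mp hx
  have hZ : (⨆ (l : Fin r) (_ : l.val < j.val), PicF2.zeroScheme
      ((Scheme.Modules.pullback (pullback.fst f (g i))).obj L) (σ l)) = K850.RegSec.Zj σ j.val := by
    refine le_antisymm (iSup₂_le fun l hl => ?_) (iSup₂_le fun l hl => ?_)
    · exact le_iSup₂_of_le (f := fun (l : ℕ) (_ : l < j.val) => PicF2.zeroScheme
        ((Scheme.Modules.pullback (pullback.fst f (g i))).obj L) (σ l)) l.val hl le_rfl
    · exact le_iSup₂_of_le (f := fun (l : Fin r) (_ : l.val < j.val) => PicF2.zeroScheme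
        ((Scheme.Modules.pullback (pullback.fst f (g i))).obj L) (σ l)) ⟨l, hl.trans j.2⟩ hl le_rfl
  rw [hZ] at hx'
  exact hσ j.val j.2 x hx'

end Groth.Agent.S15114
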