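import Groth.Statements.S15115
import Groth.Agent.GIT.K688.Reynolds

set_option autoImplicit false
universe u
open HopfRep

namespace Groth.Agent.S15115

open Groth.Agent.Books.ComodHom in
/-- an endomorphism commuting with the coaction of a linear action. -/
lemma reynolds_smul {k : Type u} [Field k] {H : Type u} [CommRing H] [HopfAlgebra k H]
    (hred : HopfRep.IsLinearlyReductive k H)
    {A : Type u} [CommRing A] [Algebra k A]
    {M : Type u} [AddCommGroup M] [Module k M] [Module A M] [IsScalarTower k A M] [HopfRep.Comod k H M]
    (hlin : ∀ (a : A) (m : M), HopfRep.Comod.coact (k := k) (A := H) (a • m) =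
      a • HopfRep.Comod.coact (k := k) (A := H) m)
    {E : M →ₗ[k] M} (h₁ : IsComodHom k H E) (h₂ : E ∘ₗ E = E)
    (h₃ : ∀ x : M, E x = x ↔ x ∈ fixedPts k H M) (a : A) (m : M) : E (a • m) = a • E m := by
  have hf : IsComodHom k H (LinearMap.lsmul A M a |>.restrictScalars k) := by
    intro m
    change HopfRep.Comod.coact (k := k) (A := H) (a • m) = _
    rw [hlin]
    generalize HopfRep.Comod.coact (k := k) (A := H) m = w
    induction w using TensorProduct.induction_on with
    | zero => simp
    | add x y hx hy => simp only [smul_add, map_add, hx, hy]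
    | tmul x y => rfl
  exact K688.Reynolds.reynolds_comm hred h₁ h₂ h₃ h₁ h₂ h₃ hf m

open TensorProduct in
/-- Let k be an algebraically closed field, H a finite-dimensional commutative Hopf algebra over k all
of whose finite-dimensional comodules are semisimple (a finite linearly reductive group scheme G
over k), A a commutative k-algebra, and M an A-module with an H-coaction that is A-linear (G acts on
M by A-module maps, A carrying the trivial action). Let A' be a commutative A-algebra and N = A' ⊗_A
M its base change, exhibited by an A-linear map φ : M → N, with the induced coaction: A'-linear and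
compatible with φ. Then invariants commute with this base change: writing M^G for the A-submodule of
coinvariant elements of M, the natural map A' ⊗_A M^G → N, a' ⊗ m ↦ a' φ(m), is injective and its
image is exactly the set of coinvariant elements of N. (The published statement is the isomorphism
ρ^* π_* F → π'_* σ^* F for a tame Deligne–Mumford stack with coarse moduli space π and any base
change ρ of the coarse space; this row is the statement about invariants to which its proof reduces
it, for modules that need not be finitely generated.) -/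
theorem result (k : Type u) [Field k] [IsAlgClosed k]
    (H : Type u) [CommRing H] [HopfAlgebra k H] [Module.Finite k H] (hred : HopfRep.IsLinearlyReductive k H)
    (A : Type u) [CommRing A] [Algebra k A]
    (M : Type u) [AddCommGroup M] [Module k M] [Module A M] [IsScalarTower k A M] [HopfRep.Comod k H M]
    (hlin : ∀ (a : A) (m : M), HopfRep.Comod.coact (k := k) (A := H) (a • m) = a • HopfRep.Comod.coact (k := k) (A := H) m)
    (A' : Type u) [CommRing A'] [Algebra k A'] [Algebra A A'] [IsScalarTower k A A']
    (N : Type u) [AddCommGroup N] [Module k N] [Module A N] [Module A' N]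
    [IsScalarTower k A N] [IsScalarTower A A' N] [IsScalarTower k A' N] [HopfRep.Comod k H N]
    (φ : M →ₗ[A] N) (hφ : IsBaseChange A' φ)
    (hcomp : ∀ m : M, HopfRep.Comod.coact (k := k) (A := H) (φ m) =
      LinearMap.rTensor H (φ.restrictScalars k) (HopfRep.Comod.coact (k := k) (A := H) m))
    (hlinN : ∀ (a' : A') (n : N), HopfRep.Comod.coact (k := k) (A := H) (a' • n) = a' • HopfRep.Comod.coact (k := k) (A := H) n)
    (P : Submodule A M) (hP : (P : Set M) = (HopfRep.fixedPts k H M : Set M)) :
    Function.Injective (TensorProduct.lift (((Algebra.lsmul A A N : A' →ₐ[A] Module.End A N).toLinearMap).compl₂ (φ ∘ₗ P.subtype))) ∧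
      Set.range (TensorProduct.lift (((Algebra.lsmul A A N : A' →ₐ[A] Module.End A N).toLinearMap).compl₂ (φ ∘ₗ P.subtype))) =
        (HopfRep.fixedPts k H N : Set N) := by
  obtain ⟨E, ⟨hE1, hE2, hE3⟩, -⟩ := K688.Reynolds.existsUnique_reynolds (k := k) (A := H) (V := M) hred
  obtain ⟨F, ⟨hF1, hF2, hF3⟩, -⟩ := K688.Reynolds.existsUnique_reynolds (k := k) (A := H) (V := N) hred
  have hEA := reynolds_smul hred hlin hE1 hE2 hE3
  have hFA := reynolds_smul hred hlinN hF1 hF2 hF3
  have hPmem : ∀ m : M, m ∈ P ↔ m ∈ fixedPts k H M := by
    intro m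
    have : m ∈ (P : Set M) ↔ m ∈ (HopfRep.fixedPts k H M : Set M) := by rw [hP]
    exact this
  have hφc : Groth.Agent.Books.ComodHom.IsComodHom k H (φ.restrictScalars k) := hcomp
  have hFφ : ∀ m, F (φ m) = φ (E m) := fun m =>
    K688.Reynolds.reynolds_comm hred hE1 hE2 hE3 hF1 hF2 hF3 hφc m
  -- the `A`-linear retraction
  let EA : M →ₗ[A] M :=
    { toFun := E, map_add' := E.map_add, map_smul' := fun a m => hEA a m }
  let r : M →ₗ[A] P := EA.codRestrict P (fun m => (hPmem _).2 (K688.Reynolds.apply_mem hE2 hE3 m))
  have hr : r ∘ₗ P.subtype = LinearMap.id := by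
    ext p
    exact (hE3 p).2 ((hPmem p).1 p.2)
  have hval : ∀ (a' : A') (p : P),
      TensorProduct.lift (((Algebra.lsmul A A N : A' →ₐ[A] Module.End A N).toLinearMap).compl₂
        (φ ∘ₗ P.subtype)) (a' ⊗ₜ[A] p) = a' • φ p := fun a' p => rfl
  have hfac : TensorProduct.lift (((Algebra.lsmul A A N : A' →ₐ[A] Module.End A N).toLinearMap).compl₂
        (φ ∘ₗ P.subtype)) = (hφ.equiv.toLinearMap.restrictScalars A) ∘ₗ P.subtype.lTensor A' := by
    apply TensorProduct.ext'
    intro a' p
    rw [hval]
    simp [IsBaseChange.equiv_tmul]
  constructor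
  · rw [hfac]
    refine Function.Injective.comp (g := hφ.equiv) hφ.equiv.injective ?_
    have h1 : (r.lTensor A') ∘ₗ (P.subtype.lTensor A') = LinearMap.id := by
      rw [← LinearMap.lTensor_comp, hr, LinearMap.lTensor_id]
    intro x y hxy
    have h2 := congrArg (r.lTensor A') hxy
    rw [← LinearMap.comp_apply, ← LinearMap.comp_apply, h1] at h2
    exact h2
  · ext n
    constructor
    · rintro ⟨x, rfl⟩
      have : ∀ x : A' ⊗[A] P, TensorProduct.lift (((Algebra.lsmul A A N : A' →ₐ[A]
          Module.End A N).toLinearMap).compl₂ (φ ∘ₗ P.subtype)) x ∈ fixedPts k H N := by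
        intro x
        induction x using TensorProduct.induction_on with
        | zero => rw [map_zero]; exact Submodule.zero_mem _
        | add x y hx hy => rw [map_add]; exact Submodule.add_mem _ hx hy
        | tmul a' p =>
          rw [hval, ← hF3, hFA, hFφ, (hE3 p).2 ((hPmem p).1 p.2)]
      exact this x
    · intro hn
      have hn' : F n = n := (hF3 n).2 hn
      have : ∀ z : A' ⊗[A] M, F (hφ.equiv z) ∈ Set.range (TensorProduct.lift
          (((Algebra.lsmul A A N : A' →ₐ[A] Module.End A N).toLinearMap).compl₂
            (φ ∘ₗ P.subtype))) := by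
        intro z
        induction z using TensorProduct.induction_on with
        | zero => exact ⟨0, by simp⟩
        | add x y hx hy =>
          obtain ⟨a, ha⟩ := hx
          obtain ⟨b, hb⟩ := hy
          exact ⟨a + b, by rw [map_add, map_add, map_add, ha, hb]⟩
        | tmul a' m =>
          refine ⟨a' ⊗ₜ r m, ?_⟩
          rw [hval, IsBaseChange.equiv_tmul, hFA, hFφ]
          rfl
      have h3 := this (hφ.equiv.symm n)
      rw [LinearEquiv.apply_symm_apply, hn'] at h3
      exact h3

end Groth.Agent.S15115
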