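import Groth.Statements.S15116
import Mathlib.RingTheory.GradedAlgebra.Homogeneous.Ideal
import Mathlib.Tactic.Abel
import Mathlib.Tactic.Linarith

set_option autoImplicit false
universe u v
open NRGIT

namespace Groth.Agent.S15116

/-- Let k be a characteristic-zero field and A a commutative k-algebra, graded by the integers with all
pieces of positive degree zero, and D a k-derivation of A that raises degrees by a fixed positive
integer l. If no maximal ideal of A contains both every piece of negative degree and the image of D,
then there is f with D f = 1. (The published statement is for an affine variety with an action of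
the semidirect product of the additive and multiplicative groups, the multiplicative group acting on
the coordinate ring with non-positive weights and on the Lie algebra of the additive group with
positive weight: the derivation is a generator of that Lie algebra, the maximal ideals containing
the pieces of negative degree are the limit points under the multiplicative group, and a limit point
has trivial additive stabiliser exactly when the image of D is not contained in its ideal; this row
keeps only this algebraic content, for any such graded algebra. The first assertion of the published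
lemma, that every point has a limit in the variety under the multiplicative group as t → 0, is not
part of this row.) -/
theorem result (k : Type u) [Field k] [CharZero k]
    (A : Type v) [CommRing A] [Algebra k A] (𝒜 : ℤ → Submodule k A) [GradedAlgebra 𝒜]
    (hpos : ∀ i : ℤ, 0 < i → 𝒜 i = ⊥)
    (D : Derivation k A A) (l : ℤ) (hl : 0 < l)
    (hD : ∀ (i : ℤ) (a : A), a ∈ 𝒜 i → D a ∈ 𝒜 (i + l))
    (hfree : ∀ m : Ideal A, m.IsMaximal → (∀ i : ℤ, i < 0 → (𝒜 i : Set A) ⊆ m) → ∃ a : A, D a ∉ m) :
    ∃ f : A, D f = 1 := by
  classical
  have hz : ∀ i : ℤ, 0 < i → ∀ a : A, a ∈ 𝒜 i → a = 0 := by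
    intro i hi a ha
    rw [hpos i hi] at ha
    simpa using ha
  -- `J` is the ideal of the elements whose degree zero component is in `D (𝒜 (-l))`
  let J : Ideal A :=
    { carrier := {a | ∃ c ∈ 𝒜 (-l), D c = (DirectSum.decompose 𝒜 a 0 : A)}
      zero_mem' := ⟨0, Submodule.zero_mem _, by simp⟩
      add_mem' := by
        rintro a b ⟨c, hc, hca⟩ ⟨d, hd, hdb⟩
        refine ⟨c + d, Submodule.add_mem _ hc hd, ?_⟩
        rw [map_add, hca, hdb, DirectSum.decompose_add]
        simp
      smul_mem' := by
        rintro b a ⟨c, hc, hca⟩
        rw [smul_eq_mul]
        -- induction on `b`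
        induction b using DirectSum.Decomposition.inductionOn 𝒜 with
        | zero => exact ⟨0, Submodule.zero_mem _, by simp⟩
        | @homogeneous i b =>
          rcases lt_trichotomy i 0 with hi | rfl | hi
          · refine ⟨0, Submodule.zero_mem _, ?_⟩
            have h1 : (DirectSum.decompose 𝒜 ((b : A) * a) (i + (-i)) : A) = b * DirectSum.decompose 𝒜 a (-i) :=
              DirectSum.coe_decompose_mul_add_of_left_mem 𝒜 b.2
            have h2 : (DirectSum.decompose 𝒜 a (-i) : A) = 0 := by
              exact hz (-i) (by omega) _ (DirectSum.decompose 𝒜 a (-i)).2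
            rw [add_neg_cancel] at h1
            rw [h1, h2, mul_zero, map_zero]
          · have h1 : (DirectSum.decompose 𝒜 ((b : A) * a) (0 + 0) : A) = b * DirectSum.decompose 𝒜 a 0 :=
              DirectSum.coe_decompose_mul_add_of_left_mem 𝒜 b.2
            rw [add_zero] at h1
            have h2 : D (b : A) = 0 := by
              have := hD 0 b b.2
              rw [zero_add] at this
              exact hz l hl _ this
            refine ⟨b * c, ?_, ?_⟩
            · have := SetLike.mul_mem_graded b.2 hc
              rwa [zero_add] at this
            · rw [h1, ← hca, Derivation.leibniz, h2]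
              simp
          · have h1 : (b : A) = 0 := hz i hi _ b.2
            refine ⟨0, Submodule.zero_mem _, ?_⟩
            rw [h1]; simp
        | add b b' hb hb' =>
          obtain ⟨c1, hc1, h1⟩ := hb
          obtain ⟨c2, hc2, h2⟩ := hb'
          refine ⟨c1 + c2, Submodule.add_mem _ hc1 hc2, ?_⟩
          rw [map_add, h1, h2, add_mul, DirectSum.decompose_add]
          simp }
  have hneg : ∀ i : ℤ, i < 0 → (𝒜 i : Set A) ⊆ J := by
    intro i hi a ha
    refine ⟨0, Submodule.zero_mem _, ?_⟩
    rw [map_zero, DirectSum.decompose_of_mem_ne 𝒜 ha (by omega)]
  have hDJ : ∀ a : A, D a ∈ J := by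
    intro a
    induction a using DirectSum.Decomposition.inductionOn 𝒜 with
    | zero => rw [map_zero]; exact J.zero_mem
    | @homogeneous i a =>
      by_cases hi : i = -l
      · subst hi
        refine ⟨a, a.2, ?_⟩
        have := hD (-l) a a.2
        rw [neg_add_cancel] at this
        rw [DirectSum.decompose_of_mem_same 𝒜 this]
      · refine ⟨0, Submodule.zero_mem _, ?_⟩
        rw [map_zero, DirectSum.decompose_of_mem_ne 𝒜 (hD i a a.2) (by omega)]
    | add a b ha hb => rw [map_add]; exact J.add_mem ha hb
  have hJ : J = ⊤ := by
    by_contra hne
    obtain ⟨m, hm, hJm⟩ := Ideal.exists_le_maximal J hne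
    obtain ⟨a, ha⟩ := hfree m hm (fun i hi => (hneg i hi).trans hJm)
    exact ha (hJm (hDJ a))
  have h1 : (1 : A) ∈ J := by rw [hJ]; trivial
  obtain ⟨c, _, hc⟩ := h1
  refine ⟨c, ?_⟩
  rw [hc, DirectSum.decompose_of_mem_same 𝒜 SetLike.GradedOne.one_mem]

end Groth.Agent.S15116
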