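import Groth.Statements.S15117
import Mathlib.LinearAlgebra.TensorProduct.Basis
import Mathlib.LinearAlgebra.Basis.VectorSpace
import Mathlib.RingTheory.Flat.Basic

set_option autoImplicit false
universe u v w
open TensorProduct
open NRGIT

namespace Groth.Agent.S15117

/-- Let k be a field, π : A → B a map of commutative bialgebras over k, W a right A-comodule and V ⊆ W a
subcomodule all of whose elements are coinvariant for the B-coaction induced through π. Then the
coaction of every v ∈ V lies in V ⊗ A' ⊆ W ⊗ A, where A' ⊆ A is the set of elements a with (π ⊗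
id)(Δ a) = 1 ⊗ a, i.e. coinvariant for the coaction of B on A through π on the left factor; the row
states membership in the span of the pure tensors w ⊗ a with w ∈ V and a ∈ A'. (The published
statement is for a linear algebraic group H over an algebraically closed field of characteristic
zero, a normal subgroup N and an H-stable space V of N-invariant sections of a linearised line
bundle, with the coaction landing in O(H)^N ⊗ V, where O(H)^N is the ring of functions on H
invariant under N acting by right multiplication; this row is the comodule form, for any bialgebra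
map over a field, where normality of N is not needed.) -/
theorem result (k : Type u) [Field k]
    (A B : Type v) [CommRing A] [CommRing B] [Bialgebra k A] [Bialgebra k B] (π : A →ₐc[k] B)
    (W : Type w) [AddCommGroup W] [Module k W] [HopfRep.Comod k A W]
    (V : Submodule k W) (hV : HopfRep.IsSubcomod (k := k) (A := A) V)
    (hfix : ∀ v ∈ V, (π.toLinearMap.lTensor W) (HopfRep.Comod.coact (k := k) (A := A) v) = v ⊗ₜ[k] (1 : B))
    (v : W) (hv : v ∈ V) :
    HopfRep.Comod.coact (k := k) (A := A) v ∈
      Submodule.span k {x : W ⊗[k] A | ∃ w ∈ V, ∃ a : A,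
        (π.toLinearMap.rTensor A) (Coalgebra.comul (R := k) a) = (1 : B) ⊗ₜ[k] a ∧ x = w ⊗ₜ[k] a} := by
  classical
  obtain ⟨t, ht⟩ := hV v hv
  let b := Module.Basis.ofVectorSpace k V
  obtain ⟨c, hc⟩ := TensorProduct.eq_repr_basis_left b t
  -- expand the coaction of `v` along the basis
  have hcoact : HopfRep.Comod.coact (k := k) (A := A) v = ∑ i ∈ c.support, (b i : W) ⊗ₜ[k] c i := by
    rw [← ht, ← hc, Finsupp.sum, map_sum]
    rfl
  -- the coefficients are coinvariant
  have hcoef : ∀ i, (π.toLinearMap.rTensor A) (Coalgebra.comul (R := k) (c i)) = (1 : B) ⊗ₜ[k] c i := by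
    let d : _ →₀ (B ⊗[k] A) := c.mapRange
      (fun a => (π.toLinearMap.rTensor A) (Coalgebra.comul (R := k) a) - (1 : B) ⊗ₜ[k] a) (by simp)
    have hd0 : d = 0 := by
      apply TensorProduct.sum_tmul_basis_left_eq_zero b d
      have hinj : Function.Injective (V.subtype.rTensor (B ⊗[k] A)) :=
        Module.Flat.rTensor_preserves_injective_linearMap _ V.injective_subtype
      apply hinj
      rw [map_zero]
      have hsum : (V.subtype.rTensor (B ⊗[k] A)) (d.sum fun i n => b i ⊗ₜ[k] n) =
          ∑ i ∈ c.support, (b i : W) ⊗ₜ[k]
            ((π.toLinearMap.rTensor A) (Coalgebra.comul (R := k) (c i)) - (1 : B) ⊗ₜ[k] c i) := by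
        rw [Finsupp.sum_mapRange_index (by simp), Finsupp.sum, map_sum]
        rfl
      rw [hsum]
      simp only [TensorProduct.tmul_sub, Finset.sum_sub_distrib]
      rw [sub_eq_zero]
      -- coassociativity
      have hca := LinearMap.congr_fun (HopfRep.Comod.coassoc (k := k) (A := A) (V := W)) v
      simp only [LinearMap.comp_apply, LinearEquiv.coe_coe] at hca
      have h1 := congrArg ((π.toLinearMap.rTensor A).lTensor W) hca
      rw [hcoact] at h1
      simp only [map_sum, LinearMap.rTensor_tmul, LinearMap.lTensor_tmul] at h1
      rw [← h1]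
      apply Finset.sum_congr rfl
      intro i _
      have h2 : ∀ x : W ⊗[k] A, ((π.toLinearMap.rTensor A).lTensor W)
          ((TensorProduct.assoc k W A A) (x ⊗ₜ[k] c i)) =
          (TensorProduct.assoc k W B A) ((π.toLinearMap.lTensor W) x ⊗ₜ[k] c i) := by
        intro x
        induction x using TensorProduct.induction_on with
        | zero => simp
        | tmul x y => simp
        | add x y hx hy => rw [TensorProduct.add_tmul, map_add, map_add, hx, hy, map_add,
            TensorProduct.add_tmul, map_add]
      rw [h2, hfix (b i) (b i).2]
      rfl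
    intro i
    have h3 := DFunLike.congr_fun hd0 i
    simp only [d, Finsupp.mapRange_apply, Finsupp.coe_zero, Pi.zero_apply] at h3
    exact sub_eq_zero.mp h3
  rw [hcoact]
  exact Submodule.sum_mem _ fun i _ => Submodule.subset_span ⟨b i, (b i).2, c i, hcoef i, rfl⟩

end Groth.Agent.S15117
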