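import Groth.Statements.S15121

set_option autoImplicit false
universe u v w
open InvQ

namespace Groth.Agent.S15121

/-- Let k be a field of characteristic zero and A a commutative k-algebra graded by a finitely generated
free abelian group Λ (the character group of a torus acting on Spec A) whose grading monoid is
positive: if the pieces of degrees w and −w are both non-zero then w = 0. Let δ be a locally
nilpotent k-derivation of A (an action of the additive group) that is homogeneous of degree d, with
the piece of degree d equal to zero (the graded condition on the Lie algebra weight). Suppose that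
no maximal ideal of A contains both all graded pieces of non-zero degree and the image of δ (every
torus-fixed closed point has trivial stabiliser under the additive group). Then δ has a homogeneous
slice: some s of degree −d with δ s = 1. (The published statement is for the coordinate ring of an
affine variety over an algebraically closed field of characteristic zero and concludes moreover that
the quotient map by the additive group is a trivial principal bundle, which follows from the slice
by a standard argument not restated here; this row keeps the algebraic content, for any such graded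
algebra.) -/
theorem result
    (k : Type u) [Field k] [CharZero k]
    (A : Type v) [CommRing A] [Algebra k A]
    (Λ : Type w) [AddCommGroup Λ] [DecidableEq Λ] [Module.Free ℤ Λ] [Module.Finite ℤ Λ]
    (𝒜 : Λ → Submodule k A) [GradedAlgebra 𝒜]
    (hpos : ∀ w : Λ, 𝒜 w ≠ ⊥ → 𝒜 (-w) ≠ ⊥ → w = 0)
    (δ : Derivation k A A) (hnil : ∀ a : A, ∃ n : ℕ, ((δ : A →ₗ[k] A) ^ n) a = 0)
    (d : Λ) (hhom : ∀ (w : Λ) (a : A), a ∈ 𝒜 w → δ a ∈ 𝒜 (w + d)) (hd : 𝒜 d = ⊥)
    (hfix : ∀ m : Ideal A, m.IsMaximal → (∀ w : Λ, w ≠ 0 → (𝒜 w : Set A) ⊆ m) → ¬ (Set.range δ ⊆ m)) :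
    ∃ s ∈ 𝒜 (-d), δ s = 1 := by
  classical
  -- degree zero part
  let π : A → A := fun a => ((DirectSum.decompose 𝒜 a 0 : 𝒜 0) : A)
  have hπadd : ∀ a b, π (a + b) = π a + π b := by
    intro a b
    simp [π, DirectSum.decompose_add]
  have hzero : ∀ (w : Λ), w ≠ 0 → ∀ x ∈ 𝒜 (-w), ∀ y ∈ 𝒜 w, x * y = 0 := by
    intro w hw x hx y hy
    by_cases hx0 : x = 0
    · rw [hx0, zero_mul]
    by_cases hy0 : y = 0
    · rw [hy0, mul_zero]
    exfalso
    apply hw
    apply hpos w
    · intro h
      rw [h] at hy
      exact hy0 ((Submodule.mem_bot k).mp hy)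
    · intro h
      rw [h] at hx
      exact hx0 ((Submodule.mem_bot k).mp hx)
  have hmul : ∀ (w : Λ) (a g : A), g ∈ 𝒜 w → π (a * g) = (DirectSum.decompose 𝒜 a (-w) : A) * g := by
    intro w a g hg
    have := DirectSum.coe_decompose_mul_add_of_right_mem 𝒜 (i := -w) (a := a) hg
    rw [neg_add_cancel] at this
    exact this
  let G : Set A := {g | (∃ w : Λ, w ≠ 0 ∧ g ∈ 𝒜 w) ∨ ∃ b, g = δ b}
  have htop : Ideal.span G = ⊤ := by
    by_contra hne
    obtain ⟨m, hm, hle⟩ := Ideal.exists_le_maximal _ hne
    refine hfix m hm ?_ ?_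
    · intro w hw x hx
      exact hle (Ideal.subset_span (Or.inl ⟨w, hw, hx⟩))
    · rintro _ ⟨b, rfl⟩
      exact hle (Ideal.subset_span (Or.inr ⟨b, rfl⟩))
  have key : ∀ x ∈ Ideal.span G, ∀ a : A, ∃ s ∈ 𝒜 (-d), δ s = π (a * x) := by
    intro x hx
    refine Submodule.span_induction (p := fun x _ => ∀ a : A, ∃ s ∈ 𝒜 (-d), δ s = π (a * x))
      ?_ ?_ ?_ ?_ hx
    · rintro g (⟨w, hw, hg⟩ | ⟨b, rfl⟩) a
      · refine ⟨0, Submodule.zero_mem _, ?_⟩
        rw [map_zero, hmul w a g hg, hzero w hw _ (DirectSum.decompose 𝒜 a (-w)).2 g hg]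
      · induction b using DirectSum.Decomposition.inductionOn 𝒜 with
        | zero => exact ⟨0, Submodule.zero_mem _, by simp [π]⟩
        | @homogeneous w b =>
          have hb : δ (b : A) ∈ 𝒜 (w + d) := hhom w b b.2
          by_cases hwd : w + d = 0
          · have hw : w = -d := eq_neg_of_add_eq_zero_left hwd
            subst hw
            have hb0 : δ (b : A) ∈ 𝒜 0 := by rwa [hwd] at hb
            have h1 : π (a * δ (b : A)) = (DirectSum.decompose 𝒜 a 0 : A) * δ (b : A) := by
              have := hmul 0 a _ hb0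
              rwa [neg_zero] at this
            refine ⟨(DirectSum.decompose 𝒜 a 0 : A) * b, ?_, ?_⟩
            · have := SetLike.mul_mem_graded (DirectSum.decompose 𝒜 a 0).2 b.2
              rwa [zero_add] at this
            · have h2 : δ ((DirectSum.decompose 𝒜 a 0 : 𝒜 0) : A) = 0 := by
                have := hhom 0 _ (DirectSum.decompose 𝒜 a 0).2
                rw [zero_add, hd] at this
                exact (Submodule.mem_bot k).mp this
              rw [h1, Derivation.leibniz, h2, smul_zero, add_zero, smul_eq_mul]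
          · refine ⟨0, Submodule.zero_mem _, ?_⟩
            rw [map_zero, hmul (w + d) a _ hb,
              hzero (w + d) hwd _ (DirectSum.decompose 𝒜 a (-(w + d))).2 _ hb]
        | add b b' ih ih' =>
          obtain ⟨s, hs, e⟩ := ih
          obtain ⟨s', hs', e'⟩ := ih'
          exact ⟨s + s', Submodule.add_mem _ hs hs', by rw [map_add, map_add, mul_add, hπadd, e, e']⟩
    · intro a
      exact ⟨0, Submodule.zero_mem _, by simp [π]⟩
    · intro x y _ _ hx hy a
      obtain ⟨s, hs, e⟩ := hx a
      obtain ⟨s', hs', e'⟩ := hy a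
      exact ⟨s + s', Submodule.add_mem _ hs hs', by rw [map_add, mul_add, hπadd, e, e']⟩
    · intro b x _ hx a
      obtain ⟨s, hs, e⟩ := hx (a * b)
      exact ⟨s, hs, by rw [e, smul_eq_mul, mul_assoc]⟩
  obtain ⟨s, hs, e⟩ := key 1 (by rw [htop]; trivial) 1
  refine ⟨s, hs, ?_⟩
  rw [e, mul_one]
  have : (1 : A) ∈ 𝒜 0 := SetLike.one_mem_graded 𝒜
  exact DirectSum.decompose_of_mem_same 𝒜 this

end Groth.Agent.S15121
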