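import Groth.Statements.S15122

set_option autoImplicit false
universe u v w
open GIT

namespace Groth.Agent.S15122

/-- Let R be a commutative ring, A a commutative R-algebra graded by the natural numbers, σ a
homogeneous element of degree zero, and B the localisation of A away from σ, equipped with a grading
by the natural numbers for which the localisation map ι : A → B is a graded ring homomorphism (such
a grading is necessarily the one induced from A). Then the homogeneous ideal of B generated by the
image of the irrelevant ideal of A is the whole irrelevant ideal of B; in other words the induced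
rational map from Proj B to Proj A is defined everywhere. (The published statement also assumes σ a
non-zero-divisor, which this step does not use, and goes on to conclude that Proj B → Proj A is an
open immersion onto the basic open set of σ.) -/
theorem result
    (R : Type u) (A : Type v) (B : Type w) [CommRing R] [CommRing A] [CommRing B] [Algebra R A] [Algebra R B]
    [Algebra A B] [IsScalarTower R A B]
    (𝒜 : ℕ → Submodule R A) [GradedAlgebra 𝒜] (ℬ : ℕ → Submodule R B) [GradedAlgebra ℬ]
    (σ : A) (hσ0 : σ ∈ 𝒜 0) [IsLocalization.Away σ B]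
    (ι : 𝒜 →+*ᵍ ℬ) (hι : ∀ a : A, ι a = algebraMap A B a) :
    (HomogeneousIdeal.irrelevant 𝒜).map ι = HomogeneousIdeal.irrelevant ℬ := by
  refine le_antisymm (HomogeneousIdeal.map_le_of_le_comap ι ?_) ?_
  · rw [HomogeneousIdeal.irrelevant_le]
    intro i hi x hx
    exact HomogeneousIdeal.mem_irrelevant_of_mem ℬ hi (ι.map_mem hx)
  · rw [HomogeneousIdeal.irrelevant_le]
    intro i hi b hb
    have hb : b ∈ ℬ i := hb
    obtain ⟨a, ⟨s, n, rfl⟩, hx⟩ := IsLocalization.exists_mk'_eq (Submonoid.powers σ) b
    have hx : b * algebraMap A B (σ ^ n) = algebraMap A B a := by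
      rw [← hx]; exact IsLocalization.mk'_spec B a _
    have hσn : σ ^ n ∈ 𝒜 0 := by
      have := SetLike.pow_mem_graded n hσ0
      simpa using this
    have h1 : b * algebraMap A B (σ ^ n) ∈ ℬ i := by
      have h2 : algebraMap A B (σ ^ n) ∈ ℬ 0 := by
        rw [← hι]; exact ι.map_mem hσn
      simpa using SetLike.mul_mem_graded hb h2
    have h3 : algebraMap A B a = algebraMap A B (DirectSum.decompose 𝒜 a i : A) := by
      rw [hx] at h1
      have h4 := ι.map_directSumDecompose (x := a) (i := i)
      rw [hι, hι] at h4
      rw [← DirectSum.decompose_of_mem_same ℬ h1, ← h4]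
    have hu : IsUnit (algebraMap A B (σ ^ n)) := IsLocalization.map_units B (⟨σ ^ n, n, rfl⟩ : Submonoid.powers σ)
    obtain ⟨u, hu⟩ := hu
    have h5 : b = algebraMap A B (DirectSum.decompose 𝒜 a i : A) * (↑(u⁻¹) : B) := by
      rw [← h3, ← hx, ← hu, mul_assoc, Units.mul_inv, mul_one]
    change b ∈ ((HomogeneousIdeal.irrelevant 𝒜).toIdeal.map ι)
    rw [h5]
    refine Ideal.mul_mem_right _ _ ?_
    rw [← hι]
    exact Ideal.mem_map_of_mem _ (HomogeneousIdeal.mem_irrelevant_of_mem 𝒜 hi (SetLike.coe_mem _))

end Groth.Agent.S15122
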