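import Groth.Statements.S15125
import Mathlib.RingTheory.Filtration
import Mathlib.RingTheory.Unramified.Field
import Mathlib.RingTheory.EssentialFiniteness
import Mathlib.FieldTheory.IntermediateField.Adjoin.Algebra
import Mathlib.Algebra.Polynomial.Identities
import Mathlib.LinearAlgebra.TensorProduct.Basis
import Mathlib.RingTheory.Localization.Submodule

set_option autoImplicit false
universe u
open scoped TensorProduct
open Fields

namespace Groth.Agent.S15125

open KaehlerDifferential in
theorem of_eq_iff (K L : Type u) [Field K] [Field L] [Algebra K L] (a b : L ⊗[K] L) :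
    AdicCompletion.of (ideal K L) (L ⊗[K] L) a = AdicCompletion.of (ideal K L) (L ⊗[K] L) b ↔
      ∀ n, a - b ∈ (ideal K L) ^ n := by
  constructor
  · intro h n
    have h1 := congrArg (AdicCompletion.eval (ideal K L) (L ⊗[K] L) n) h
    rw [AdicCompletion.eval_of, AdicCompletion.eval_of, Submodule.mkQ_apply, Submodule.mkQ_apply, Submodule.Quotient.eq] at h1
    simpa using h1
  · intro h
    apply AdicCompletion.ext
    intro n
    have h1 := h n
    rw [← AdicCompletion.eval_apply, ← AdicCompletion.eval_apply, AdicCompletion.eval_of, AdicCompletion.eval_of, Submodule.mkQ_apply, Submodule.mkQ_apply, Submodule.Quotient.eq]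
    simpa using h1

/-- If `x` is separable over `K` then `x ⊗ 1 - 1 ⊗ x` is in all powers of the kernel. -/
theorem mem_pow_of_isSeparable (K L : Type u) [Field K] [Field L] [Algebra K L] (x : L)
    (hx : IsSeparable K x) (n : ℕ) :
    x ⊗ₜ[K] (1 : L) - (1 : L) ⊗ₜ[K] x ∈ (KaehlerDifferential.ideal K L) ^ n := by
  set t : L ⊗[K] L := x ⊗ₜ[K] (1 : L) - (1 : L) ⊗ₜ[K] x with ht
  have htI : t ∈ KaehlerDifferential.ideal K L := by
    rw [KaehlerDifferential.ideal, RingHom.mem_ker]
    simp [ht]
  set f := minpoly K x with hf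
  have hint : IsIntegral K x := hx.isIntegral
  let F := f.map (algebraMap K (L ⊗[K] L))
  have h1 : F.eval (x ⊗ₜ[K] (1 : L)) = 0 := by
    have : Polynomial.aeval (Algebra.TensorProduct.includeLeft (R := K) (S := K) (A := L) (B := L) x) f = 0 := by
      rw [Polynomial.aeval_algHom_apply, minpoly.aeval, map_zero]
    simpa [F, Polynomial.aeval_def, Polynomial.eval_map] using this
  have h2 : F.eval ((1 : L) ⊗ₜ[K] x) = 0 := by
    have : Polynomial.aeval (Algebra.TensorProduct.includeRight (R := K) (A := L) (B := L) x) f = 0 := by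
      rw [Polynomial.aeval_algHom_apply, minpoly.aeval, map_zero]
    simpa [F, Polynomial.aeval_def, Polynomial.eval_map] using this
  have h3 : F.derivative.eval ((1 : L) ⊗ₜ[K] x) = (1 : L) ⊗ₜ[K] (Polynomial.aeval x f.derivative) := by
    have : Polynomial.aeval (Algebra.TensorProduct.includeRight (R := K) (A := L) (B := L) x) f.derivative =
        Algebra.TensorProduct.includeRight (R := K) (A := L) (B := L) (Polynomial.aeval x f.derivative) := by
      rw [Polynomial.aeval_algHom_apply]
    rw [Polynomial.derivative_map, Polynomial.eval_map_algebraMap]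
    exact this
  have h4 : Polynomial.aeval x f.derivative ≠ 0 := hx.aeval_derivative_ne_zero (minpoly.aeval K x)
  obtain ⟨g, hg⟩ := Polynomial.binomExpansion F ((1 : L) ⊗ₜ[K] x) t
  have h5 : (1 : L) ⊗ₜ[K] x + t = x ⊗ₜ[K] (1 : L) := by rw [ht]; ring
  rw [h5, h1, h2, h3, zero_add] at hg
  have h6 : t = (- ((1 : L) ⊗ₜ[K] (Polynomial.aeval x f.derivative)⁻¹) * g * t) * t := by
    have h7 : ((1 : L) ⊗ₜ[K] (Polynomial.aeval x f.derivative)⁻¹) * ((1 : L) ⊗ₜ[K] (Polynomial.aeval x f.derivative)) = (1 : L ⊗[K] L) := by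
      rw [Algebra.TensorProduct.tmul_mul_tmul, one_mul, inv_mul_cancel₀ h4]
      rfl
    calc t = (((1 : L) ⊗ₜ[K] (Polynomial.aeval x f.derivative)⁻¹) * ((1 : L) ⊗ₜ[K] (Polynomial.aeval x f.derivative))) * t := by rw [h7, one_mul]
      _ = ((1 : L) ⊗ₜ[K] (Polynomial.aeval x f.derivative)⁻¹) * (((1 : L) ⊗ₜ[K] (Polynomial.aeval x f.derivative)) * t) := by ring
      _ = ((1 : L) ⊗ₜ[K] (Polynomial.aeval x f.derivative)⁻¹) * (- (g * t ^ 2)) := by
          congr 1
          rw [eq_neg_iff_add_eq_zero]
          exact hg.symm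
      _ = _ := by ring
  induction n with
  | zero => simp
  | succ n ih =>
    rw [h6, pow_succ']
    exact Ideal.mul_mem_mul (Ideal.mul_mem_left _ _ htI) ih

open IntermediateField in
theorem isSeparable_of_mem_pow (K L : Type u) [Field K] [Field L] [Algebra K L]
    [Algebra.EssFiniteType K L] (x : L)
    (h : ∀ n, x ⊗ₜ[K] (1 : L) - (1 : L) ⊗ₜ[K] x ∈ (KaehlerDifferential.ideal K L) ^ n) :
    IsSeparable K x := by
  classical
  have : IsNoetherianRing (L ⊗[K] L) := Algebra.EssFiniteType.isNoetherianRing L (L ⊗[K] L)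
  set t : L ⊗[K] L := x ⊗ₜ[K] (1 : L) - (1 : L) ⊗ₜ[K] x with ht
  obtain ⟨⟨r, hr⟩, hrt⟩ := (Ideal.mem_iInf_smul_pow_eq_bot_iff (KaehlerDifferential.ideal K L) t).mp
    (by simpa [Submodule.mem_iInf] using h)
  simp only [smul_eq_mul] at hrt
  have hr' : Algebra.TensorProduct.lmul' K (S := L) r = 0 := hr
  -- functionals
  set E := K⟮x⟯ with hE
  let c := Module.Free.chooseBasis E L
  let g : L ⊗[K] L →ₐ[K] L ⊗[E] L :=
    Algebra.TensorProduct.lift (Algebra.TensorProduct.includeLeft (R := E) (S := K) (A := L) (B := L))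
      ((Algebra.TensorProduct.includeRight (R := E) (A := L) (B := L)).restrictScalars K) (fun _ _ => Commute.all _ _)
  have hg : ∀ u v : L, g (u ⊗ₜ v) = u ⊗ₜ v := fun u v => by
    simp [g]
  have hgl : ∀ y, Algebra.TensorProduct.lmul' E (S := L) (g y) = Algebra.TensorProduct.lmul' K (S := L) y := by
    intro y
    induction y with
    | zero => simp
    | add a b ha hb => rw [map_add, map_add, map_add, ha, hb]
    | tmul u v => rw [hg]; simp
  have hne : g (1 - r) ≠ 0 := by
    intro h0
    have h1 := hgl (1 - r)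
    rw [h0, map_zero, map_sub, hr', map_one, sub_zero] at h1
    exact one_ne_zero h1.symm
  obtain ⟨⟨i, j⟩, hij⟩ : ∃ ij, (c.tensorProduct c).repr (g (1 - r)) ij ≠ 0 := by
    by_contra hcon
    push Not at hcon
    apply hne
    apply (c.tensorProduct c).repr.injective
    rw [map_zero]
    exact Finsupp.ext hcon
  let Ψ : L ⊗[K] L →ₗ[K] E ⊗[K] E :=
    TensorProduct.map ((c.coord i).restrictScalars K) ((c.coord j).restrictScalars K)
  have hΨ : ∀ u v : L, Ψ (u ⊗ₜ v) = (c.coord i u) ⊗ₜ (c.coord j v) := fun u v => by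
    simp [Ψ]
  let x' : E := AdjoinSimple.gen K x
  have hx' : algebraMap E L x' = x := AdjoinSimple.algebraMap_gen K x
  let t' : E ⊗[K] E := x' ⊗ₜ[K] (1 : E) - (1 : E) ⊗ₜ[K] x'
  have hΨt : ∀ y, Ψ (t * y) = t' * Ψ y := by
    intro y
    induction y with
    | zero => simp
    | add a b ha hb => rw [mul_add, map_add, map_add, ha, hb, mul_add]
    | tmul u v =>
      have h1 : ∀ w : L, x * w = x' • w := fun w => by
        rw [Algebra.smul_def, hx']
      rw [ht, sub_mul, Algebra.TensorProduct.tmul_mul_tmul, Algebra.TensorProduct.tmul_mul_tmul, one_mul, one_mul,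
        map_sub, hΨ, hΨ, hΨ, h1, h1, map_smul, map_smul, sub_mul, Algebra.TensorProduct.tmul_mul_tmul,
        Algebra.TensorProduct.tmul_mul_tmul, one_mul, one_mul, smul_eq_mul, smul_eq_mul]
  have hΨm : ∀ y, Algebra.TensorProduct.lmul' K (S := E) (Ψ y) = (c.tensorProduct c).repr (g y) (i, j) := by
    intro y
    induction y with
    | zero => simp
    | add a b ha hb => rw [map_add, map_add, map_add, map_add, ha, hb, Finsupp.add_apply]
    | tmul u v => 
      rw [hΨ, hg, Module.Basis.tensorProduct_repr_tmul_apply]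
      simp [mul_comm]
  set b := Ψ (1 - r) with hb
  have hbt : t' * b = 0 := by
    rw [hb, ← hΨt, mul_sub, mul_one, mul_comm t r, hrt, sub_self, map_zero]
  set β := Algebra.TensorProduct.lmul' K (S := E) b with hβ
  have hβ0 : β ≠ 0 := by
    rw [hβ, hb, hΨm]
    exact hij
  have ht'I : t' ∈ KaehlerDifferential.ideal K E := by
    rw [KaehlerDifferential.ideal, RingHom.mem_ker]
    simp [t']
  have ht'2 : t' ∈ KaehlerDifferential.ideal K E ^ 2 := by
    have h1 : β ⊗ₜ[K] (1 : E) - b ∈ KaehlerDifferential.ideal K E := by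
      rw [KaehlerDifferential.ideal, RingHom.mem_ker, map_sub, sub_eq_zero]
      simp [hβ]
    have h2 : t' = (β⁻¹ ⊗ₜ[K] (1 : E)) * ((β ⊗ₜ[K] (1 : E) - b) * t') := by
      rw [sub_mul, mul_comm b, hbt, sub_zero, ← mul_assoc, Algebra.TensorProduct.tmul_mul_tmul, inv_mul_cancel₀ hβ0, one_mul]
      exact (one_mul t').symm
    rw [h2, pow_two]
    exact Ideal.mul_mem_left _ _ (Ideal.mul_mem_mul h1 ht'I)
  -- the derivation vanishes at the generator
  have hD : KaehlerDifferential.D K E x' = 0 := by
    have h1 : KaehlerDifferential.D K E x' = (KaehlerDifferential.ideal K E).toCotangent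
      ⟨1 ⊗ₜ x' - x' ⊗ₜ 1, KaehlerDifferential.one_smul_sub_smul_one_mem_ideal K x'⟩ := rfl
    rw [h1]
    refine (Ideal.toCotangent_eq_zero _ _).mpr ?_
    have : (1 : E) ⊗ₜ[K] x' - x' ⊗ₜ[K] (1 : E) = - t' := by simp [t']
    rw [Subtype.coe_mk, this]
    exact neg_mem ht'2
  have hD' : ∀ y (hy : y ∈ K⟮x⟯), KaehlerDifferential.D K E ⟨y, hy⟩ = 0 := by
    intro y hy
    induction hy using adjoin_induction with
    | mem y hy =>
      obtain rfl : y = x := hy
      exact hD
    | algebraMap y => exact (KaehlerDifferential.D K E).map_algebraMap y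
    | add y z hy hz h1 h2 =>
      have : (⟨y + z, add_mem hy hz⟩ : E) = ⟨y, hy⟩ + ⟨z, hz⟩ := rfl
      rw [this, map_add, h1, h2, add_zero]
    | inv y hy h1 =>
      have : (⟨y⁻¹, inv_mem hy⟩ : E) = (⟨y, hy⟩ : E)⁻¹ := rfl
      rw [this, Derivation.leibniz_inv, h1, smul_zero]
    | mul y z hy hz h1 h2 =>
      have : (⟨y * z, mul_mem hy hz⟩ : E) = ⟨y, hy⟩ * ⟨z, hz⟩ := rfl
      rw [this, Derivation.leibniz, h1, h2, smul_zero, smul_zero, add_zero]
  have hunr : Algebra.FormallyUnramified K E := by
    refine ⟨?_⟩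
    rw [← Submodule.subsingleton_iff E, ← subsingleton_iff_bot_eq_top, ← KaehlerDifferential.span_range_derivation]
    symm
    rw [Submodule.span_eq_bot]
    rintro _ ⟨⟨y, hy⟩, rfl⟩
    exact hD' y hy
  have hess : Algebra.EssFiniteType K E := by
    rw [IntermediateField.essFiniteType_iff]
    exact ⟨{x}, by simp [hE]⟩
  have hsep : Algebra.IsSeparable K E := (Algebra.FormallyUnramified.iff_isSeparable K E).mp hunr
  exact (isSeparable_adjoin_simple_iff_isSeparable K L).mp hsep

/-- Let L be a finitely generated field extension of K, and I ⊆ L ⊗_K L the kernel of multiplication L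
⊗_K L → L. An element x of L has the property that x ⊗ 1 and 1 ⊗ x have the same image in the I-adic
completion of L ⊗_K L if and only if x is separable algebraic over K. Equivalently, the equaliser of
the two natural maps from L to that completion is the separable algebraic closure of K in L. -/
theorem result
    (K L : Type u) [Field K] [Field L] [Algebra K L]
    (hfg : (⊤ : IntermediateField K L).FG) (x : L) :
    AdicCompletion.of (KaehlerDifferential.ideal K L) (L ⊗[K] L) (x ⊗ₜ[K] (1 : L)) =
        AdicCompletion.of (KaehlerDifferential.ideal K L) (L ⊗[K] L) ((1 : L) ⊗ₜ[K] x) ↔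
      x ∈ separableClosure K L := by
  have : Algebra.EssFiniteType K L := IntermediateField.fg_top_iff.mp hfg
  rw [of_eq_iff, mem_separableClosure_iff]
  exact ⟨isSeparable_of_mem_pow K L x, mem_pow_of_isSeparable K L x⟩

end Groth.Agent.S15125
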