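import Groth.Statements.S15128
import Mathlib.RingTheory.FiniteLength
import Mathlib.RingTheory.Artinian.Ring
import Mathlib.RingTheory.Flat.Basic
import Mathlib.LinearAlgebra.TensorProduct.RightExactness
import Mathlib.RingTheory.HopkinsLevitzki

set_option autoImplicit false
universe u v
open CAlg

namespace Groth.Agent.S15128

/-- Over an Artinian local ring A with residue field k, a linear map h between flat A-modules (of any
size) is injective, resp. surjective, as soon as its reduction k ⊗_A h is. (The published statement
is for local Artinian algebras over an algebraically closed field of characteristic zero having that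
field as residue field; this row allows any Artinian local ring.) -/
theorem result
    (A : Type u) [CommRing A] [IsLocalRing A] [IsArtinianRing A]
    (P L : Type v) [AddCommGroup P] [Module A P] [AddCommGroup L] [Module A L]
    [Module.Flat A P] [Module.Flat A L] (h : P →ₗ[A] L) :
    (Function.Injective (h.lTensor (IsLocalRing.ResidueField A)) → Function.Injective h) ∧
    (Function.Surjective (h.lTensor (IsLocalRing.ResidueField A)) → Function.Surjective h) := by
  constructor
  · intro hk
    -- injectivity after tensoring with any module of finite length
    have key : ∀ (N : Type u) [AddCommGroup N] [Module A N], IsFiniteLength A N →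
        Function.Injective (h.lTensor N) := by
      intro N _ _ hN
      induction hN with
      | of_subsingleton =>
        intro x y _
        exact Subsingleton.elim _ _
      | @of_simple_quotient M _ _ N' hs _ ih =>
        have hsimple : Function.Injective (h.lTensor (M ⧸ N')) := by
          obtain ⟨I, hI, ⟨e⟩⟩ := isSimpleModule_iff_quot_maximal.mp hs
          obtain rfl := IsLocalRing.eq_maximalIdeal hI
          have h1 : h.lTensor (M ⧸ N') =
              (LinearMap.rTensor L e.symm.toLinearMap) ∘ₗ
                (h.lTensor (A ⧸ IsLocalRing.maximalIdeal A)) ∘ₗ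
                  (LinearMap.rTensor P e.toLinearMap) := by
            ext x y
            simp
          rw [h1]
          exact (e.symm.rTensor L).injective.comp (hk.comp (e.rTensor P).injective)
        rw [injective_iff_map_eq_zero]
        intro z hz
        have h2 : (N'.mkQ.rTensor P) z = 0 := by
          apply hsimple
          rw [map_zero, ← LinearMap.comp_apply, LinearMap.lTensor_comp_rTensor,
            ← LinearMap.rTensor_comp_lTensor, LinearMap.comp_apply, hz, map_zero]
        have hex : Function.Exact (N'.subtype.rTensor P) (N'.mkQ.rTensor P) :=
          rTensor_exact P (LinearMap.exact_subtype_mkQ N') N'.mkQ_surjective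
        obtain ⟨z', rfl⟩ := (hex z).mp h2
        have h3 : (N'.subtype.rTensor L) (h.lTensor N' z') = 0 := by
          rw [← LinearMap.comp_apply, LinearMap.rTensor_comp_lTensor,
            ← LinearMap.lTensor_comp_rTensor, LinearMap.comp_apply, hz]
        have h4 : h.lTensor N' z' = 0 :=
          Module.Flat.rTensor_preserves_injective_linearMap (M := L) N'.subtype
            N'.injective_subtype (by rw [h3, map_zero])
        have h5 : z' = 0 := ih (by rw [h4, map_zero])
        rw [h5, map_zero]
    have hA : IsFiniteLength A A :=
      isFiniteLength_iff_isNoetherian_isArtinian.mpr ⟨inferInstance, inferInstance⟩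
    have h6 := key A hA
    intro x y hxy
    have h7 : (1 : A) ⊗ₜ[A] x = 1 ⊗ₜ[A] y := by
      apply h6
      rw [LinearMap.lTensor_tmul, LinearMap.lTensor_tmul, hxy]
    have h8 := congrArg (TensorProduct.lid A P) h7
    simpa using h8
  · intro hk
    rw [← LinearMap.range_eq_top]
    have hnil : IsNilpotent (IsLocalRing.maximalIdeal A) := by
      have := IsArtinianRing.isNilpotent_jacobson_bot (R := A)
      rwa [IsLocalRing.jacobson_eq_maximalIdeal ⊥ bot_ne_top] at this
    have h1 : ∀ y : L, ∃ p : P, y - h p ∈ IsLocalRing.maximalIdeal A • (⊤ : Submodule A L) := by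
      intro y
      obtain ⟨z, hz⟩ := hk (1 ⊗ₜ[A] y)
      obtain ⟨p, rfl⟩ := TensorProduct.mk_surjective A P (IsLocalRing.ResidueField A)
        IsLocalRing.residue_surjective z
      refine ⟨p, ?_⟩
      have h2 : (1 : A ⧸ IsLocalRing.maximalIdeal A) ⊗ₜ[A] (y - h p) = 0 := by
        rw [TensorProduct.tmul_sub, sub_eq_zero]
        exact hz.symm
      rw [← LinearMap.ker_tensorProductMk]
      exact h2
    have h3 : ∀ n : ℕ, ∀ y : L, ∃ p : P,
        y - h p ∈ IsLocalRing.maximalIdeal A ^ n • (⊤ : Submodule A L) := by
      intro n
      induction n with
      | zero => intro y; exact ⟨0, by simp⟩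
      | succ n ih =>
        intro y
        obtain ⟨p, hp⟩ := ih y
        have h4 : ∀ w ∈ IsLocalRing.maximalIdeal A ^ n • (⊤ : Submodule A L), ∃ p : P,
            w - h p ∈ IsLocalRing.maximalIdeal A ^ (n + 1) • (⊤ : Submodule A L) := by
          intro w hw
          refine Submodule.smul_induction_on hw ?_ ?_
          · intro r hr v _
            obtain ⟨p', hp'⟩ := h1 v
            refine ⟨r • p', ?_⟩
            rw [map_smul, ← smul_sub, pow_succ, Submodule.mul_smul]
            exact Submodule.smul_mem_smul hr hp'
          · rintro v w ⟨p1, h5⟩ ⟨p2, h6⟩
            refine ⟨p1 + p2, ?_⟩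
            have : v + w - h (p1 + p2) = (v - h p1) + (w - h p2) := by
              rw [map_add]; abel
            rw [this]
            exact Submodule.add_mem _ h5 h6
        obtain ⟨p', hp'⟩ := h4 _ hp
        refine ⟨p + p', ?_⟩
        have : y - h (p + p') = y - h p - h p' := by rw [map_add]; abel
        rw [this]
        exact hp'
    obtain ⟨n, hn⟩ := hnil
    rw [eq_top_iff]
    intro y _
    obtain ⟨p, hp⟩ := h3 n y
    rw [hn, Submodule.zero_eq_bot, Submodule.bot_smul, Submodule.mem_bot, sub_eq_zero] at hp
    exact ⟨p, hp.symm⟩

end Groth.Agent.S15128
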