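import Groth.Statements.S15134
import Groth.Agent.ArtFun.K726.Desc

set_option autoImplicit false
universe u v
open CategoryTheory
open ArtFun

namespace Groth.Agent.S15134

/-- Let k be a field and F a functor on local Artinian k-algebras with residue field k with F(k) a
point. If F satisfies (H2') — the comparison map F(A₁ ×_k A₂) → F(A₁) × F(A₂) is bijective for every
pair of objects — then F satisfies condition (L): for every small extension f : B → A with kernel J,
writing P = B ×_k B, Q = A ×_k A, r : P → Q for the map induced by f, and C = P/K with K the ideal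
of P consisting of the pairs (b, b) with b ∈ J, every element of F(Q) whose two images in F(A) agree
lifts along F(C) → F(Q). Here P and Q are pinned as fibre products over k, K is described through
the two projections, and the two inequalities on K (it lies in the maximal ideal of P and is killed
by r), which always hold, are taken as hypotheses so that the quotient object and the factored map
can be named. -/
theorem result
    {k : Type u} [Field k] (F : ArtFun.Art k k ⥤ Type v) (h0 : ArtFun.H0 F)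
    (h2' : ∀ ⦃P A' A'' : ArtFun.Art k k⦄ (p' : P ⟶ A') (p'' : P ⟶ A'')
      (h : ArtFun.Art.IsFibreProd p' p'' (ArtFun.Art.toBase A') (ArtFun.Art.toBase A'')),
      Function.Bijective (ArtFun.cmp F h))
    ⦃B A : ArtFun.Art k k⦄ (f : B ⟶ A) (hf : ArtFun.Art.IsSmallExt f)
    ⦃P : ArtFun.Art k k⦄ (p₁ p₂ : P ⟶ B)
    (hP : ArtFun.Art.IsFibreProd p₁ p₂ (ArtFun.Art.toBase B) (ArtFun.Art.toBase B))
    ⦃Q : ArtFun.Art k k⦄ (q₁ q₂ : Q ⟶ A)
    (hQ : ArtFun.Art.IsFibreProd q₁ q₂ (ArtFun.Art.toBase A) (ArtFun.Art.toBase A))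
    (r : P ⟶ Q) (hr₁ : r ≫ q₁ = p₁ ≫ f) (hr₂ : r ≫ q₂ = p₂ ≫ f)
    (hK : Ideal.span {z : P | p₁ z = p₂ z ∧ f (p₁ z) = 0} ≤ IsLocalRing.maximalIdeal P)
    (hKr : Ideal.span {z : P | p₁ z = p₂ z ∧ f (p₁ z) = 0} ≤ RingHom.ker r.toAlgHom)
    (y : F.obj Q) (hy : F.map q₁ y = F.map q₂ y) :
    ∃ z : F.obj (ArtFun.Art.quot P (Ideal.span {z : P | p₁ z = p₂ z ∧ f (p₁ z) = 0}) hK),
      F.map (ArtFun.Art.quotFactor hK r hKr) z = y := by
  have hK' : ∀ z : P, p₁ z = p₂ z → f (p₁ z) = 0 →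
      ArtFun.Art.quotMk P (Ideal.span {z : P | p₁ z = p₂ z ∧ f (p₁ z) = 0}) hK z = 0 := by
    intro z h1 h2
    exact Ideal.Quotient.eq_zero_iff_mem.2 (Ideal.subset_span ⟨h1, h2⟩)
  -- the diagonal of `B`
  obtain ⟨dB, hdB1, hdB2⟩ := K726.Desc.exists_lift hP (𝟙 B) (𝟙 B) rfl
  have e1 : ∀ b, p₁ (dB b) = b := fun b => by
    change (dB ≫ p₁) b = b
    rw [hdB1]; rfl
  have e2 : ∀ b, p₂ (dB b) = b := fun b => by
    change (dB ≫ p₂) b = b
    rw [hdB2]; rfl
  -- descend it to `A → P/K`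
  obtain ⟨t, ht⟩ := K726.Desc.exists_desc f hf.1 (dB ≫ ArtFun.Art.quotMk P _ hK) (by
    intro b hb
    exact hK' (dB b) ((e1 b).trans (e2 b).symm) (by rw [e1]; exact hb))
  -- the diagonal of `A`
  have hd1 : (t ≫ ArtFun.Art.quotFactor hK r hKr) ≫ q₁ = 𝟙 A := by
    apply ArtFun.Art.hom_ext
    apply AlgHom.ext
    intro a
    obtain ⟨b, rfl⟩ := hf.1 a
    have h1 : (f ≫ (t ≫ ArtFun.Art.quotFactor hK r hKr) ≫ q₁) = dB ≫ p₁ ≫ f := by
      rw [← Category.assoc, ← Category.assoc, ht, Category.assoc dB, ArtFun.Art.quotMk_quotFactor, Category.assoc, hr₁]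
    change (f ≫ (t ≫ ArtFun.Art.quotFactor hK r hKr) ≫ q₁) b = f b
    rw [h1]
    change f (p₁ (dB b)) = f b
    rw [e1]
  have hd2 : (t ≫ ArtFun.Art.quotFactor hK r hKr) ≫ q₂ = 𝟙 A := by
    apply ArtFun.Art.hom_ext
    apply AlgHom.ext
    intro a
    obtain ⟨b, rfl⟩ := hf.1 a
    have h1 : (f ≫ (t ≫ ArtFun.Art.quotFactor hK r hKr) ≫ q₂) = dB ≫ p₂ ≫ f := by
      rw [← Category.assoc, ← Category.assoc, ht, Category.assoc dB, ArtFun.Art.quotMk_quotFactor, Category.assoc, hr₂]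
    change (f ≫ (t ≫ ArtFun.Art.quotFactor hK r hKr) ≫ q₂) b = f b
    rw [h1]
    change f (p₂ (dB b)) = f b
    rw [e2]
  refine ⟨F.map t (F.map q₁ y), ?_⟩
  rw [← K726.Desc.map_comp_apply F t]
  apply (h2' q₁ q₂ hQ).1
  apply Subtype.ext
  apply Prod.ext
  · change F.map q₁ (F.map (t ≫ ArtFun.Art.quotFactor hK r hKr) (F.map q₁ y)) = F.map q₁ y
    rw [← K726.Desc.map_comp_apply F, hd1, K726.Desc.map_id_apply]
  · change F.map q₂ (F.map (t ≫ ArtFun.Art.quotFactor hK r hKr) (F.map q₁ y)) = F.map q₂ y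
    rw [← K726.Desc.map_comp_apply F, hd2, K726.Desc.map_id_apply, hy]

end Groth.Agent.S15134
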