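import Groth.Statements.S15135
-- import your own Groth.Agent.* helpers here

set_option autoImplicit false
universe u v
open Deform

namespace Groth.Agent.S15135

/-- For R-modules M ⊆ N, the first-order embedded deformations of M in N are in canonical bijection with
Hom_R(M, N/M). Writing N ⊗ k[ε] = N ⊕ εN as N × N (the pair (x, y) standing for x + εy), such a
deformation is an R-submodule L of N × N which is stable under multiplication by ε (if (x, y) ∈ L
then (0, x) ∈ L), reduces to M (x ∈ M exactly when (x, y) ∈ L for some y) and is flat over the dual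
numbers, flatness being stated elementwise as: (0, y) ∈ L only if y ∈ M (for a submodule reducing to
M this is the equality of the kernel and the image of ε on L, i.e. flatness over k[ε] when R is an
algebra over a field k). To φ : M → N/M corresponds the submodule of all (x, y) with x ∈ M and y ≡
φ(x) mod M. The first clause says this rule defines exactly one submodule for each φ; the second
says that a submodule has the three properties precisely when its membership is given by this rule
for some φ. (The published statement is a linear isomorphism t_G ≅ Hom_R(M, N/M) for the functor G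
of flat deformations of M inside N ⊗ A over local Artinian algebras A; this row states only the
underlying bijection, and the obstruction half is not stated here.) -/
theorem result
    (R : Type u) [CommRing R] (N : Type v) [AddCommGroup N] [Module R N] (M : Submodule R N) :
    (∀ φ : M →ₗ[R] (N ⧸ M), ∃! L : Submodule R (N × N),
        ∀ x y : N, (x, y) ∈ L ↔ ∃ h : x ∈ M, Submodule.Quotient.mk y = φ ⟨x, h⟩) ∧
    (∀ L : Submodule R (N × N),
      ((∀ x y : N, (x, y) ∈ L → ((0 : N), x) ∈ L) ∧
        (∀ x : N, x ∈ M ↔ ∃ y : N, (x, y) ∈ L) ∧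
        (∀ y : N, ((0 : N), y) ∈ L → y ∈ M)) ↔
      ∃ φ : M →ₗ[R] (N ⧸ M), ∀ x y : N, (x, y) ∈ L ↔ ∃ h : x ∈ M, Submodule.Quotient.mk y = φ ⟨x, h⟩) := by
  refine ⟨fun φ => ?_, fun L => ⟨?_, ?_⟩⟩
  · refine ⟨{ carrier := {p | ∃ h : p.1 ∈ M, Submodule.Quotient.mk p.2 = φ ⟨p.1, h⟩}
              add_mem' := ?_
              zero_mem' := ?_
              smul_mem' := ?_ }, fun x y => Iff.rfl, ?_⟩
    · rintro ⟨a, b⟩ ⟨c, d⟩ ⟨h1, h2⟩ ⟨h3, h4⟩
      refine ⟨M.add_mem h1 h3, ?_⟩
      change Submodule.Quotient.mk (b + d) = φ (⟨a, h1⟩ + ⟨c, h3⟩)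
      rw [map_add, ← h2, ← h4]
      rfl
    · exact ⟨M.zero_mem, (map_zero φ).symm⟩
    · rintro r ⟨a, b⟩ ⟨h1, h2⟩
      refine ⟨M.smul_mem r h1, ?_⟩
      change Submodule.Quotient.mk (r • b) = φ (r • ⟨a, h1⟩)
      rw [map_smul, ← h2]
      rfl
    · intro L hL
      ext ⟨x, y⟩
      exact hL x y
  · rintro ⟨h1, h2, h3⟩
    choose! f hf using fun x : N => (h2 x).1
    have key : ∀ x y y' : N, (x, y) ∈ L → (x, y') ∈ L →
        (Submodule.Quotient.mk y : N ⧸ M) = Submodule.Quotient.mk y' := by
      intro x y y' hy hy'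
      rw [Submodule.Quotient.eq]
      apply h3
      have := L.sub_mem hy hy'
      simpa using this
    refine ⟨{ toFun := fun x => Submodule.Quotient.mk (f x)
              map_add' := ?_
              map_smul' := ?_ }, fun x y => ⟨fun h => ?_, ?_⟩⟩
    · rintro ⟨x, hx⟩ ⟨y, hy⟩
      change Submodule.Quotient.mk (f (x + y)) = Submodule.Quotient.mk (f x + f y)
      exact key (x + y) _ _ (hf _ (M.add_mem hx hy)) (L.add_mem (hf x hx) (hf y hy))
    · rintro r ⟨x, hx⟩
      change Submodule.Quotient.mk (f (r • x)) = Submodule.Quotient.mk (r • f x)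
      exact key (r • x) _ _ (hf _ (M.smul_mem r hx)) (L.smul_mem r (hf x hx))
    · have hx : x ∈ M := (h2 x).2 ⟨y, h⟩
      exact ⟨hx, key x _ _ h (hf x hx)⟩
    · rintro ⟨hx, h⟩
      have h' : (Submodule.Quotient.mk y : N ⧸ M) = Submodule.Quotient.mk (f x) := h
      rw [Submodule.Quotient.eq] at h'
      -- y - f x ∈ M so (0, y - f x) ∈ L
      obtain ⟨z, hz⟩ := (h2 _).1 h'
      have := L.add_mem (h1 _ _ hz) (hf x hx)
      simpa using this
  · rintro ⟨φ, hφ⟩
    refine ⟨fun x y h => ?_, fun x => ⟨fun h => ?_, ?_⟩, fun y h => ?_⟩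
    · obtain ⟨hx, -⟩ := (hφ x y).1 h
      refine (hφ 0 x).2 ⟨M.zero_mem, ?_⟩
      have : (⟨0, M.zero_mem⟩ : M) = 0 := rfl
      rw [this, map_zero]
      exact (Submodule.Quotient.mk_eq_zero M).2 hx
    · obtain ⟨y, hy⟩ := Submodule.Quotient.mk_surjective M (φ ⟨x, h⟩)
      exact ⟨y, (hφ x y).2 ⟨h, hy⟩⟩
    · rintro ⟨y, hy⟩
      exact ((hφ x y).1 hy).1
    · obtain ⟨h0, h1⟩ := (hφ 0 y).1 h
      have : (⟨0, h0⟩ : M) = 0 := rfl
      rw [this, map_zero] at h1
      exact (Submodule.Quotient.mk_eq_zero M).1 h1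

end Groth.Agent.S15135
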