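import Groth.Statements.S15137
import Groth.Agent.Models.K380.R1Zero
import Groth.Agent.Models.K380.LerayOne
import Groth.Agent.Models.K380.NormInt

set_option autoImplicit false
universe u
open CategoryTheory CategoryTheory.Limits AlgebraicGeometry Opposite
open Models

namespace Groth.Agent.S15137

/-- Let R be a discrete valuation ring whose fraction field K has characteristic zero, let C be a proper
K-curve, smooth of relative dimension 1 and geometrically connected over K, and let X be a model of
C over R (flat and of finite type over R with generic fibre C) which is proper over R and normal, so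
that X is a proper relative curve over R; assume X has rational singularities: the local ring of X
at every closed point defines a rational singularity (every proper morphism onto its spectrum from
an integral normal scheme which is an isomorphism over a nonempty open has H^1 of the structure
sheaf zero). Let ρ : X' → X be a proper morphism over R from an integral normal scheme X' which is
an isomorphism over some nonempty open of X (a proper birational morphism). Then the first higher
direct image R^1ρ_*O_{X'} (of abelian sheaves) vanishes, the map H^1(X, O_X) → H^1(X, ρ_*O_{X'})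
induced by the canonical map O_X → ρ_*O_{X'} is bijective, and consequently the R-modules H^1(X,
O_X) and H^1(X', O_{X'}) are isomorphic (the published statement asserts that the canonical pullback
map is an isomorphism; this row records the existence of an R-linear isomorphism only). -/
theorem result (R : Type u) [CommRing R]
    [IsDomain R] [IsDiscreteValuationRing R] [CharZero (FractionRing R)]
    (X C : Scheme.{u}) [X.Over (Spec (CommRingCat.of R))]
    (f : C ⟶ Spec (CommRingCat.of (FractionRing R)))
    [SmoothOfRelativeDimension 1 f] [IsProper f] [GeometricallyConnected f]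
    (hX : Models.IsModel R X (X ↘ Spec (CommRingCat.of R)) C f)
    [IsProper (X ↘ Spec (CommRingCat.of R))] (hn : Pi1.IsNormalScheme X)
    (hrat : ∀ x : X, IsClosed ({x} : Set X) → Curv2.IsRationalSing (X.presheaf.stalk x))
    (X' : Scheme.{u}) [X'.Over (Spec (CommRingCat.of R))] (ρ : X' ⟶ X) [IsProper ρ]
    (hρ : ρ ≫ (X ↘ Spec (CommRingCat.of R)) = X' ↘ Spec (CommRingCat.of R))
    [IsIntegral X'] (hn' : Pi1.IsNormalScheme X')
    (hbir : ∃ U : X.Opens, (U : Set X).Nonempty ∧ IsIso (ρ ∣_ U)) :
    IsZero ((Coh.RpushAb ρ 1).obj (Coh.toAb (Coh.structureModule X'))) ∧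
      Function.Bijective (Sheaf.H.map ((SheafOfModules.toSheaf X.ringCatSheaf).map (ClSub.unitToPush ρ)) 1) ∧
      Nonempty (Coh.HH X (Coh.structureModule X) 1 ≃ₗ[R] Coh.HH X' (Coh.structureModule X') 1) := by
  obtain ⟨U, hU, hiso⟩ := hbir
  obtain ⟨hflat, -, -, g, hg⟩ := hX
  have hs : Smooth f := SmoothOfRelativeDimension.smooth 1 f
  have hCint : IsIntegral C := K380.NormInt.isIntegral_of_smooth f
  have hXint : IsIntegral X := K380.NormInt.isIntegral hg hn
  have hXc : CompactSpace X := QuasiCompact.compactSpace_of_compactSpace (X ↘ Spec (CommRingCat.of R))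
  have h0 : IsZero ((Coh.RpushAb ρ 1).obj (Coh.toAb (Coh.structureModule X'))) :=
    K380.R1Zero.isZero_R1 ρ hn' U hU hiso hrat
  have h1 : IsIso (ClSub.unitToPush ρ) := K380.Bir.isIso_unitToPush ρ fun V =>
    K380.Bir.isIso_app ρ (fun y => (hn y).2) (K380.Bir.gen ρ U hU hiso) (K380.Bir.bir ρ U hU hiso) V
  exact ⟨h0, K380.LerayOne.bijective_unitAb ρ h1, ⟨LinearEquiv.ofBijective
    { toFun := K380.LerayOne.pull ρ, map_add' := map_add _, map_smul' := K380.LerayOne.pull_smul ρ hρ }
    (K380.LerayOne.pull_bijective ρ h1 h0)⟩⟩

end Groth.Agent.S15137
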