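import Groth.Statements.S15139
import Groth.Agent.Models.K382.AdmDom

set_option autoImplicit false
universe u
open CategoryTheory CategoryTheory.Limits AlgebraicGeometry Opposite
open Models

namespace Groth.Agent.S15139

/-- Let R be a discrete valuation ring whose fraction field K has characteristic zero, and let C be a
proper K-curve, smooth of relative dimension 1 and geometrically connected over K. An admissible
model of C is a scheme X with a proper flat morphism p : X → Spec R (hence of finite type) and a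
morphism g : C → X making C the generic fibre of p, such that X is normal, cohomologically flat over
R in dimension 0 (the restriction H^0(X, O_X) → H^0(X_s, O_{X_s}) to the closed fibre X_s, cut out
by 𝔪_R · O_X, is surjective), and has rational singularities (the local ring at every closed point
defines a rational singularity: every proper morphism onto its spectrum from an integral normal
scheme which is an isomorphism over a nonempty open has H^1 of the structure sheaf zero). Then any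
two admissible models (X₁, p₁, g₁) and (X₂, p₂, g₂) of C are dominated by a third: there are an
admissible model (X₃, p₃, g₃) of C and proper R-morphisms ρ₁ : X₃ → X₁ and ρ₂ : X₃ → X₂ with g₃ ≫ ρ₁
= g₁ and g₃ ≫ ρ₂ = g₂ (so ρ₁ and ρ₂ are proper and birational, inducing the given identifications on
generic fibres). -/
theorem result (R : Type u) [CommRing R] [IsDomain R]
    [IsDiscreteValuationRing R] [CharZero (FractionRing R)]
    (C : Scheme.{u}) (f : C ⟶ Spec (CommRingCat.of (FractionRing R)))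
    [SmoothOfRelativeDimension 1 f] [IsProper f] [GeometricallyConnected f]
    (X₁ X₂ : Scheme.{u}) (p₁ : X₁ ⟶ Spec (CommRingCat.of R)) (p₂ : X₂ ⟶ Spec (CommRingCat.of R))
    [IsProper p₁] [Flat p₁] [IsProper p₂] [Flat p₂]
    (g₁ : C ⟶ X₁) (g₂ : C ⟶ X₂)
    (hg₁ : IsPullback g₁ f p₁ (Spec.map (CommRingCat.ofHom (algebraMap R (FractionRing R)))))
    (hg₂ : IsPullback g₂ f p₂ (Spec.map (CommRingCat.ofHom (algebraMap R (FractionRing R)))))
    (hn₁ : Pi1.IsNormalScheme X₁) (hn₂ : Pi1.IsNormalScheme X₂)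
    (hcf₁ : Function.Surjective (Sheaf.H.map ((SheafOfModules.toSheaf X₁.ringCatSheaf).map
        (ClSub.toSubscheme (Models.specialFibreIdeal R (Over.mk p₁)))) 0))
    (hcf₂ : Function.Surjective (Sheaf.H.map ((SheafOfModules.toSheaf X₂.ringCatSheaf).map
        (ClSub.toSubscheme (Models.specialFibreIdeal R (Over.mk p₂)))) 0))
    (hrat₁ : ∀ x : X₁, IsClosed ({x} : Set X₁) → Curv2.IsRationalSing (X₁.presheaf.stalk x))
    (hrat₂ : ∀ x : X₂, IsClosed ({x} : Set X₂) → Curv2.IsRationalSing (X₂.presheaf.stalk x)) :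
    ∃ (X₃ : Scheme.{u}) (p₃ : X₃ ⟶ Spec (CommRingCat.of R)) (g₃ : C ⟶ X₃) (ρ₁ : X₃ ⟶ X₁) (ρ₂ : X₃ ⟶ X₂),
      IsProper p₃ ∧ Flat p₃ ∧
      IsPullback g₃ f p₃ (Spec.map (CommRingCat.ofHom (algebraMap R (FractionRing R)))) ∧
      Pi1.IsNormalScheme X₃ ∧
      Function.Surjective (Sheaf.H.map ((SheafOfModules.toSheaf X₃.ringCatSheaf).map
        (ClSub.toSubscheme (Models.specialFibreIdeal R (Over.mk p₃)))) 0) ∧
      (∀ x : X₃, IsClosed ({x} : Set X₃) → Curv2.IsRationalSing (X₃.presheaf.stalk x)) ∧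
      IsProper ρ₁ ∧ IsProper ρ₂ ∧ ρ₁ ≫ p₁ = p₃ ∧ ρ₂ ≫ p₂ = p₃ ∧ g₃ ≫ ρ₁ = g₁ ∧ g₃ ≫ ρ₂ = g₂ := by
  have hA : Groth.Agent.K382.AdmRat.IsAdm R (FractionRing R) f p₁ g₁ :=
    ⟨inferInstance, inferInstance, hg₁, hn₁, hcf₁, hrat₁⟩
  have hC : Pi1.IsNormalScheme C := Groth.Agent.K382.AdmResol.isNormalScheme_of_regular
    (Groth.Agent.K382.AdmDom.regular_of_smooth f)
  have ho : IsOpenImmersion g₂ := Groth.Agent.K382.AdmBase.isOpenImmersion hg₂
  obtain ⟨Y', σ, h', X', ν, g', ρ, hσ, -, -, hh', hp', -, hν, hX'n, hpX, hfl, hρ, hg', hρw, -⟩ :=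
    Groth.Agent.K382.AdmDom.exists_dom hg₁ (𝟙 C) ⟨inferInstance, inferInstance, inferInstance⟩ hC g₂ p₂
      (by rw [Category.id_comp, hg₁.w, hg₂.w])
  have hw : g' ≫ ν ≫ σ = g₁ := by
    have e1 : g' ≫ ν = h' := by simpa using hpX.w
    rw [reassoc_of% e1, hh']
  have hpg : IsPullback g' f (ν ≫ σ ≫ p₁) (Spec.map (CommRingCat.ofHom (algebraMap R (FractionRing R)))) := by
    have h3 := hpX.paste_vert (hp'.paste_vert hg₁)
    simpa using h3
  have hB : Groth.Agent.K382.AdmRat.IsAdm R (FractionRing R) f (ν ≫ σ ≫ p₁) g' :=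
    hA.of_modification (ν ≫ σ) (Category.assoc _ _ _) hw hpg hX'n
  obtain ⟨h1, h2, h3, h4, h5, h6⟩ := hB
  exact ⟨X', ν ≫ σ ≫ p₁, g', ν ≫ σ, ρ, h1, h2, h3, h4, h5, h6, inferInstance, hρ, Category.assoc _ _ _, hρw, hw, hg'⟩

end Groth.Agent.S15139
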