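import Groth.Statements.S15141
import Groth.Agent.Models.K382.AdmCurve

set_option autoImplicit false
universe u
open CategoryTheory CategoryTheory.Limits AlgebraicGeometry Opposite
open Models

namespace Groth.Agent.S15141

/-- Let R be a discrete valuation ring whose fraction field K has characteristic zero, let C and D be
proper K-curves, smooth of relative dimension 1 and geometrically connected, and let f_K : C → D be
a finite K-morphism. An admissible model of C is a scheme X with a proper flat morphism p : X → Spec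
R and a morphism g : C → X making C the generic fibre of p, with X normal, cohomologically flat over
R in dimension 0 (the restriction H^0(X, O_X) → H^0(X_s, O_{X_s}) to the closed fibre, cut out by
𝔪_R · O_X, is surjective) and with rational singularities (the local ring at every closed point
defines a rational singularity: every proper morphism onto its spectrum from an integral normal
scheme which is an isomorphism over a nonempty open has H^1 of the structure sheaf zero); likewise
for D. Suppose (X, p, g) and (Y, q, h) are admissible models of C and D. Then there are admissible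
models (X', p', g') of C and (Y', q', h') of D, proper R-morphisms ρ : X' → X and σ : Y' → Y with g'
≫ ρ = g and h' ≫ σ = h (so X' dominates X and Y' dominates Y), and a finite R-morphism f' : X' → Y'
with g' ≫ f' = f_K ≫ h', i.e. f' restricts to f_K on generic fibres. -/
theorem result (R : Type u) [CommRing R]
    [IsDomain R] [IsDiscreteValuationRing R] [CharZero (FractionRing R)]
    (C D : Scheme.{u}) (fC : C ⟶ Spec (CommRingCat.of (FractionRing R))) (fD : D ⟶ Spec (CommRingCat.of (FractionRing R)))
    [SmoothOfRelativeDimension 1 fC] [IsProper fC] [GeometricallyConnected fC]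
    [SmoothOfRelativeDimension 1 fD] [IsProper fD] [GeometricallyConnected fD]
    (fK : C ⟶ D) [IsFinite fK] (hfK : fK ≫ fD = fC)
    (X Y : Scheme.{u}) (p : X ⟶ Spec (CommRingCat.of R)) (q : Y ⟶ Spec (CommRingCat.of R)) [IsProper p] [Flat p] [IsProper q] [Flat q]
    (g : C ⟶ X) (h : D ⟶ Y)
    (hg : IsPullback g fC p (Spec.map (CommRingCat.ofHom (algebraMap R (FractionRing R))))) (hh : IsPullback h fD q (Spec.map (CommRingCat.ofHom (algebraMap R (FractionRing R)))))
    (hnX : Pi1.IsNormalScheme X) (hnY : Pi1.IsNormalScheme Y)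
    (hcfX : Function.Surjective (Sheaf.H.map ((SheafOfModules.toSheaf X.ringCatSheaf).map
        (ClSub.toSubscheme (Models.specialFibreIdeal R (Over.mk p)))) 0))
    (hcfY : Function.Surjective (Sheaf.H.map ((SheafOfModules.toSheaf Y.ringCatSheaf).map
        (ClSub.toSubscheme (Models.specialFibreIdeal R (Over.mk q)))) 0))
    (hratX : ∀ x : X, IsClosed ({x} : Set X) → Curv2.IsRationalSing (X.presheaf.stalk x))
    (hratY : ∀ y : Y, IsClosed ({y} : Set Y) → Curv2.IsRationalSing (Y.presheaf.stalk y)) :
    ∃ (X' Y' : Scheme.{u}) (p' : X' ⟶ Spec (CommRingCat.of R)) (q' : Y' ⟶ Spec (CommRingCat.of R)) (g' : C ⟶ X') (h' : D ⟶ Y')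
      (ρ : X' ⟶ X) (σ : Y' ⟶ Y) (f' : X' ⟶ Y'),
      (IsProper p' ∧ Flat p' ∧ IsPullback g' fC p' (Spec.map (CommRingCat.ofHom (algebraMap R (FractionRing R)))) ∧ Pi1.IsNormalScheme X' ∧
        Function.Surjective (Sheaf.H.map ((SheafOfModules.toSheaf X'.ringCatSheaf).map
        (ClSub.toSubscheme (Models.specialFibreIdeal R (Over.mk p')))) 0) ∧
        (∀ x : X', IsClosed ({x} : Set X') → Curv2.IsRationalSing (X'.presheaf.stalk x))) ∧
      (IsProper q' ∧ Flat q' ∧ IsPullback h' fD q' (Spec.map (CommRingCat.ofHom (algebraMap R (FractionRing R)))) ∧ Pi1.IsNormalScheme Y' ∧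
        Function.Surjective (Sheaf.H.map ((SheafOfModules.toSheaf Y'.ringCatSheaf).map
        (ClSub.toSubscheme (Models.specialFibreIdeal R (Over.mk q')))) 0) ∧
        (∀ x : Y', IsClosed ({x} : Set Y') → Curv2.IsRationalSing (Y'.presheaf.stalk x))) ∧
      IsProper ρ ∧ IsProper σ ∧ ρ ≫ p = p' ∧ σ ≫ q = q' ∧ g' ≫ ρ = g ∧ h' ≫ σ = h ∧
      IsFinite f' ∧ f' ≫ q' = p' ∧ g' ≫ f' = fK ≫ h' := by
  have hAX : Groth.Agent.K382.AdmRat.IsAdm R (FractionRing R) fC p g :=
    ⟨inferInstance, inferInstance, hg, hnX, hcfX, hratX⟩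
  have hAY : Groth.Agent.K382.AdmRat.IsAdm R (FractionRing R) fD q h :=
    ⟨inferInstance, inferInstance, hh, hnY, hcfY, hratY⟩
  have hC : Pi1.IsNormalScheme C := Groth.Agent.K382.AdmResol.isNormalScheme_of_regular
    (Groth.Agent.K382.AdmDom.regular_of_smooth fC)
  have ho : IsOpenImmersion g := Groth.Agent.K382.AdmBase.isOpenImmersion hg
  obtain ⟨Y', σ, h', X', ν, g', ρ, hσ, -, hY'n, hh', hp', hflY, hν, hX'n, hpX, hfl, hρ, hg', hρw, -⟩ :=
    Groth.Agent.K382.AdmDom.exists_dom hh fK (Groth.Agent.K382.AdmCurve.isFinLocFree fC fD fK) hC g p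
      (by rw [Category.assoc, hh.w, reassoc_of% hfK, hg.w])
  have hph : IsPullback h' fD (σ ≫ q) (Spec.map (CommRingCat.ofHom (algebraMap R (FractionRing R)))) := by
    have h3 := hp'.paste_vert hh
    simpa using h3
  have hpg : IsPullback g' fC (ν ≫ σ ≫ q) (Spec.map (CommRingCat.ofHom (algebraMap R (FractionRing R)))) := by
    have h3 := hpX.paste_vert hph
    rwa [hfK] at h3
  have hBY : Groth.Agent.K382.AdmRat.IsAdm R (FractionRing R) fD (σ ≫ q) h' :=
    hAY.of_modification σ rfl hh' hph hY'n
  have hBX : Groth.Agent.K382.AdmRat.IsAdm R (FractionRing R) fC (ν ≫ σ ≫ q) g' :=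
    hAX.of_modification ρ hρw hg' hpg hX'n
  exact ⟨X', Y', ν ≫ σ ≫ q, σ ≫ q, g', h', ρ, σ, ν, hBX, hBY, hρ, hσ, hρw, rfl, hg', hh', hν, rfl, hpX.w⟩

end Groth.Agent.S15141
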