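import Groth.Statements.S15142
import Groth.Agent.Resolve.K376.GroupInv
import Groth.Agent.S2654
import Groth.Agent.S1648
import Groth.Agent.CurvesC.RegNormal

set_option autoImplicit false
universe u
open CategoryTheory CategoryTheory.Limits AlgebraicGeometry
open Resolve

namespace Groth.Agent.S15142

/-- Let R be a Noetherian domain, let A be an excellent Noetherian regular domain of Krull dimension two
(all localizations at primes are regular local rings) which is essentially of finite type over R,
and suppose a finite group G acts on A through ring automorphisms that commute with the R-action. If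
the order of G is a unit in A, then the ring of invariants A^G has rational singularities: its
localization at every maximal ideal of height two defines a rational singularity (every proper
morphism onto the spectrum from an integral normal scheme which is an isomorphism over a nonempty
open has H^1 of the structure sheaf zero). (The published statement does not assume the ring of
invariants excellent; its argument passes through the finite extension A^G ⊆ A of two-dimensional
excellent normal domains of degree dividing the order of G, and this row carries the excellence of
A^G as a hypothesis.) -/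
theorem result (R A : Type u) [CommRing R] [IsDomain R]
    [IsNoetherianRing R] [CommRing A] [IsDomain A] [IsNoetherianRing A] [Algebra R A] [Algebra.EssFiniteType R A]
    (hAe : EGA4.IsExcellent A) (hA2 : ringKrullDim A = 2)
    (hreg : ∀ (p : Ideal A) [p.IsPrime], IsRegularLocalRing (Localization.AtPrime p))
    (G : Type u) [Group G] [Finite G] [MulSemiringAction G A] [SMulCommClass G R A]
    (hG : IsUnit ((Nat.card G : ℕ) : A))
    (hGe : EGA4.IsExcellent (FixedPoints.subring A G))
    (m : Ideal (FixedPoints.subring A G)) [m.IsMaximal] (hm : ringKrullDim (Localization.AtPrime m) = 2) :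
    Curv2.IsRationalSing (Localization.AtPrime m) := by
  have hN : CAlg.IsNagata A := Groth.Agent.S2654.result A ⟨hAe.1, hAe.2.2⟩
  have hic : IsIntegrallyClosed A := IsIntegrallyClosed.of_localization_maximal (fun p _ _ => by
    have := hreg p
    exact Groth.Agent.CurvesC.RegNormal.isIntegrallyClosed (Localization.AtPrime p))
  have hinv : Algebra.IsInvariant (FixedPoints.subring A G) A G := ⟨fun b hb => ⟨⟨b, hb⟩, rfl⟩⟩
  have hG' : IsUnit ((Nat.card G : ℕ) : FixedPoints.subring A G) := by
    obtain ⟨u, hu⟩ := hG
    have h1 : (Nat.card G : A) * ((u⁻¹ : Aˣ) : A) = 1 := by rw [← hu, u.mul_inv]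
    have h2 : ∀ g : G, g • ((u⁻¹ : Aˣ) : A) = ((u⁻¹ : Aˣ) : A) := by
      intro g
      have h3 : (Nat.card G : A) * (g • ((u⁻¹ : Aˣ) : A)) = 1 := by
        have h4 := congrArg (fun x => g • x) h1
        simp only [smul_mul', smul_one] at h4
        have h5 : g • (Nat.card G : A) = (Nat.card G : A) :=
          map_natCast (MulSemiringAction.toRingHom G A g) (Nat.card G)
        rwa [h5] at h4
      have h6 : (Nat.card G : A) * (g • ((u⁻¹ : Aˣ) : A)) = (Nat.card G : A) * ((u⁻¹ : Aˣ) : A) := by rw [h1, h3]
      exact (IsUnit.mul_right_inj ⟨u, hu⟩).1 h6
    refine IsUnit.of_mul_eq_one (⟨((u⁻¹ : Aˣ) : A), h2⟩ : FixedPoints.subring A G) (Subtype.ext ?_)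
    exact h1
  refine K376.GroupInv.isRationalSing_of_group (FixedPoints.subring A G) A G hN Subtype.val_injective hG' ?_ m hm
  intro n _ hn
  have := hreg n
  exact Groth.Agent.S1648.result (Localization.AtPrime n)
    (Groth.Agent.Ega4B.NagBasic.isNagata_localization hN n.primeCompl _) hn

end Groth.Agent.S15142
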