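import Groth.Statements.S15143
import Groth.Agent.Models.K380.RatEt
import Groth.Agent.Models.K380.CohBC
import Groth.Agent.Models.K380.NormInt
import Groth.Agent.Models.K381.ExtMod
import Groth.Agent.Models.K381.ExcSch
import Groth.Agent.S2653
import Groth.Agent.VarietyB.DimTop
import Groth.Agent.UnramA.SmoothFibreDim

set_option autoImplicit false
universe u
open CategoryTheory CategoryTheory.Limits AlgebraicGeometry Opposite
open Models

namespace Groth.Agent.S15143

open K380.EssEt

theorem topologicalKrullDim_eq_one {k : Type u} [Field k] {X : Scheme.{u}} [IsIntegral X]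
    (f : X ⟶ Spec (CommRingCat.of k)) [SmoothOfRelativeDimension 1 f] :
    topologicalKrullDim X = 1 := by
  rw [VarietyB.DimTop.topologicalKrullDim_eq_iSup_localDim]
  have h : ∀ x : X, FlatMor.localDim X x = 1 := fun x => by
    simpa using UnramA.SmoothFibreDim.localDim_eq 1 f x
  have : Nonempty X := inferInstance
  simp_rw [h]
  exact ciSup_const

theorem isExc_Spec {R : Type u} [CommRing R] (h : EGA4.IsExcellent R) :
    K381.ExcSch.IsExc (Spec (CommRingCat.of R)) := by
  refine fun _ => ⟨⟨⊤, isAffineOpen_top _⟩, trivial, ?_⟩
  let e : R ≃+* Γ(Spec (CommRingCat.of R), ⊤) :=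
    (Scheme.ΓSpecIso (CommRingCat.of R)).symm.commRingCatIsoToRingEquiv
  let _ : Algebra R Γ(Spec (CommRingCat.of R), ⊤) := (e : R →+* _).toAlgebra
  have h3 : (e : R →+* Γ(Spec (CommRingCat.of R), ⊤)).FiniteType :=
    RingHom.FiniteType.of_surjective (e : R →+* Γ(Spec (CommRingCat.of R), ⊤)) e.surjective
  have h4 : Algebra.FiniteType R Γ(Spec (CommRingCat.of R), ⊤) := h3
  exact Groth.Agent.S2651.result R h _

/-- The essentially étale base change of a normal surface with rational singularities. -/
theorem isRationalSing_stalk {X X' : Scheme.{u}} (g : X' ⟶ X) (hg : EssEt g) [IsLocallyNoetherian X]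
    [IsLocallyNoetherian X'] [CompactSpace X] (hexc : K381.ExcSch.IsExc X) (hN : K375.NagSch.IsNag X')
    (hn : Pi1.IsNormalScheme X)
    (hd : ∀ x : X, IsClosed ({x} : Set X) → ringKrullDim (X.presheaf.stalk x) = 2)
    (hrat : ∀ x : X, IsClosed ({x} : Set X) → Curv2.IsRationalSing (X.presheaf.stalk x)) (x' : X') :
    Curv2.IsRationalSing (X'.presheaf.stalk x') := by
  obtain ⟨h1, h2⟩ := hn (g x')
  obtain ⟨h3, h4⟩ := hg.normal_stalk x' ⟨h1, h2⟩
  have hdim := hg.ringKrullDim_stalk x'
  have hNB := K380.RatEt.isNagata_stalk hN x'
  obtain ⟨y, hy, hxy⟩ : ∃ y : X, IsClosed ({y} : Set X) ∧ g x' ⤳ y := by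
    obtain ⟨y, hy1, hy2⟩ := IsClosed.exists_closed_singleton (S := closure {g x'}) isClosed_closure
      ⟨g x', subset_closure rfl⟩
    exact ⟨y, hy2, specializes_iff_mem_closure.2 hy1⟩
  by_cases hne : y = g x'
  · subst hne
    have hd' := hd _ hy
    let _ : Algebra (X.presheaf.stalk (g x')) (X'.presheaf.stalk x') := (g.stalkMap x').hom.toAlgebra
    have hE : EssEt (Spec.map (CommRingCat.ofHom (algebraMap (X.presheaf.stalk (g x')) (X'.presheaf.stalk x')))) :=
      hg.spec_stalk x'
    have hflat : Module.Flat (X.presheaf.stalk (g x')) (X'.presheaf.stalk x') := by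
      have h2 : (g.stalkMap x').hom.Flat := by
        have := hg.flat
        exact Flat.stalkMap g x'
      exact h2
    have hloc : IsLocalHom (algebraMap (X.presheaf.stalk (g x')) (X'.presheaf.stalk x')) :=
      inferInstanceAs (IsLocalHom (g.stalkMap x').hom)
    have hff : Module.FaithfullyFlat (X.presheaf.stalk (g x')) (X'.presheaf.stalk x') :=
      Module.FaithfullyFlat.of_flat_of_isLocalHom
    have hfs : FaithfulSMul (X.presheaf.stalk (g x')) (X'.presheaf.stalk x') := inferInstance
    refine K380.RatEt.main (X.presheaf.stalk (g x')) (X'.presheaf.stalk x') hE hNB ?_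
      (hexc.resolvable_stalk (g x') ⟨h1, h2⟩ hd') (hdim.trans hd').le (hrat _ hy)
    intro hf
    have := ringKrullDim_eq_zero_of_isField hf
    rw [hd'] at this
    exact absurd this (by decide)
  · have h5 : ringKrullDim (X.presheaf.stalk (g x')) ≤ 1 := by
      rw [ringKrullDim_stalk_eq_coheight]
      have h6 := Order.coheight_add_one_le (Groth.Agent.Dix.BlowIrr.lt_of_specializes hxy hne)
      rw [(Groth.Agent.Dix.BlowIrr.coheight_eq_two_iff y).mp (hd y hy)] at h6
      have h7 : Order.coheight (g x') + 1 ≤ 1 + 1 := by rw [one_add_one_eq_two]; exact h6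
      exact WithBot.coe_le_coe.mpr ((ENat.add_le_add_iff_right (by decide)).mp h7)
    refine K380.RatEt.isRationalSing_of_dim_ne_two _ hNB ?_ ?_
    · rw [hdim]; exact h5.trans (by decide)
    · rw [hdim]
      intro h
      rw [h] at h5
      exact absurd h5 (by decide)

/-- Let R be a discrete valuation ring whose fraction field K has characteristic zero, let C be a proper
K-curve, smooth of relative dimension 1 and geometrically connected, and let X be an admissible
model of C over R: a model (flat and of finite type over R with generic fibre C) which is proper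
over R, normal, cohomologically flat over R in dimension 0 (the restriction H^0(X, O_X) → H^0(X_s,
O_{X_s}) to the closed fibre, cut out by 𝔪_R · O_X, is surjective) and has rational singularities
(the local ring at every closed point defines a rational singularity: every proper morphism onto its
spectrum from an integral normal scheme which is an isomorphism over a nonempty open has H^1 of the
structure sheaf zero). Let R → R' be an extension of discrete valuation rings (an injective local
homomorphism) which is essentially étale: formally étale and essentially of finite type. Then the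
base change X' = X ×_{Spec R} Spec R', with its projection to Spec R', is again normal,
cohomologically flat over R' in dimension 0, and has rational singularities at all closed points.
(Properness and flatness of X' over R' and the identification of its generic fibre with the base
change of C hold by base change and are not restated; with the three conditions above they make X'
an admissible model over R'.) -/
theorem result (R : Type u) [CommRing R] [IsDomain R]
    [IsDiscreteValuationRing R] [CharZero (FractionRing R)]
    (X C : Scheme.{u}) [X.Over (Spec (CommRingCat.of R))]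
    (f : C ⟶ Spec (CommRingCat.of (FractionRing R)))
    [SmoothOfRelativeDimension 1 f] [IsProper f] [GeometricallyConnected f]
    (hX : Models.IsModel R X (X ↘ Spec (CommRingCat.of R)) C f)
    [IsProper (X ↘ Spec (CommRingCat.of R))] (hn : Pi1.IsNormalScheme X)
    (hcf : Function.Surjective (Sheaf.H.map ((SheafOfModules.toSheaf X.ringCatSheaf).map
      (ClSub.toSubscheme (Models.specialFibreIdeal R (Over.mk (X ↘ Spec (CommRingCat.of R)))))) 0))
    (hrat : ∀ x : X, IsClosed ({x} : Set X) → Curv2.IsRationalSing (X.presheaf.stalk x))
    (R' : Type u) [CommRing R'] [IsDomain R'] [IsDiscreteValuationRing R'] [Algebra R R']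
    (hRR' : Models.IsDVRExtension R (algebraMap R R'))
    [Algebra.EssFiniteType R R'] [Algebra.FormallyEtale R R'] :
    Pi1.IsNormalScheme (pullback (X ↘ Spec (CommRingCat.of R)) (Spec.map (CommRingCat.ofHom (algebraMap R R')))) ∧
      Function.Surjective (Sheaf.H.map ((SheafOfModules.toSheaf (pullback (X ↘ Spec (CommRingCat.of R)) (Spec.map (CommRingCat.ofHom (algebraMap R R')))).ringCatSheaf).map
        (ClSub.toSubscheme (Models.specialFibreIdeal R' (Over.mk (pullback.snd (X ↘ Spec (CommRingCat.of R)) (Spec.map (CommRingCat.ofHom (algebraMap R R')))))))) 0) ∧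
      (∀ x' : ↥(pullback (X ↘ Spec (CommRingCat.of R)) (Spec.map (CommRingCat.ofHom (algebraMap R R')))), IsClosed ({x'} : Set ↥(pullback (X ↘ Spec (CommRingCat.of R)) (Spec.map (CommRingCat.ofHom (algebraMap R R'))))) →
        Curv2.IsRationalSing ((pullback (X ↘ Spec (CommRingCat.of R)) (Spec.map (CommRingCat.ofHom (algebraMap R R')))).presheaf.stalk x')) := by
  obtain ⟨hinj, hloc⟩ := hRR'
  obtain ⟨hflat, -, -, i, hi⟩ := hX
  have hsm : Smooth f := SmoothOfRelativeDimension.smooth 1 f
  have hC : IsIntegral C := K380.NormInt.isIntegral_of_smooth f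
  have hXi : IsIntegral X := K380.NormInt.isIntegral hi hn
  have hXn : IsLocallyNoetherian X := LocallyOfFiniteType.isLocallyNoetherian (X ↘ Spec (CommRingCat.of R))
  have hXc : CompactSpace X := QuasiCompact.compactSpace_of_compactSpace (X ↘ Spec (CommRingCat.of R))
  have hg : EssEt (pullback.fst (X ↘ Spec (CommRingCat.of R)) (Spec.map (CommRingCat.ofHom (algebraMap R R')))) :=
    EssEt.of_isPullback (IsPullback.of_hasPullback _ _) (of_formallyEtale (R := R) (R' := R'))
  have hX'n : IsLocallyNoetherian (pullback (X ↘ Spec (CommRingCat.of R)) (Spec.map (CommRingCat.ofHom (algebraMap R R')))) :=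
    LocallyOfFiniteType.isLocallyNoetherian (pullback.snd _ _)
  have hfl : Module.Flat R R' := K380.EtBC.flat_of_formallyEtale R R'
  have hcR : CharZero R := by
    have := (algebraMap R (FractionRing R)).charZero_iff (IsFractionRing.injective R (FractionRing R))
    exact this.mpr inferInstance
  have hcR' : CharZero R' := ((algebraMap R R').charZero_iff hinj).mp hcR
  refine ⟨fun x' => hg.normal_stalk x' (hn _), ?_, fun x' _ => ?_⟩
  · let _ : (pullback (X ↘ Spec (CommRingCat.of R)) (Spec.map (CommRingCat.ofHom (algebraMap R R')))).Over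
      (Spec (CommRingCat.of R')) := ⟨pullback.snd _ _⟩
    exact K380.CohBC.surjective_of_isPullback R R' (Algebra.FormallyUnramified.map_maximalIdeal (R := R) (S := R'))
      X (pullback (X ↘ Spec (CommRingCat.of R)) (Spec.map (CommRingCat.ofHom (algebraMap R R'))))
      (pullback.fst _ _) (IsPullback.of_hasPullback _ _) hcf
  · refine isRationalSing_stalk _ hg
      ((isExc_Spec (Groth.Agent.S2653.result R)).of_locallyOfFiniteType (X ↘ Spec (CommRingCat.of R)))
      (K375.NagSch.isNag_of_locallyOfFiniteType (pullback.snd _ _) (K375.NagSch.isNag_Spec ?_)) hn ?_ hrat x'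
    · exact Groth.Agent.S2654.result R' (K381.ExcSch.isQuasiExcellent (Groth.Agent.S2653.result R'))
    · have k1 : IsIntegral (Over.mk (X ↘ Spec (CommRingCat.of R))).left := hXi
      have k2 : IsProper (Over.mk (X ↘ Spec (CommRingCat.of R))).hom := ‹IsProper (X ↘ Spec (CommRingCat.of R))›
      have k3 : Flat (Over.mk (X ↘ Spec (CommRingCat.of R))).hom := hflat
      exact K381.ExtMod.dim_closed (topologicalKrullDim_eq_one f) (Over.mk (X ↘ Spec (CommRingCat.of R))) i hi

end Groth.Agent.S15143
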