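import Groth.Statements.S15144
import Groth.Agent.S1937
import Groth.Agent.AbSch.K449.Push
import Groth.Agent.AbSch.K451.UnitSec
import Groth.Agent.Vancyc.H878.OmegaRank
import Groth.Agent.PerfC.PullRestrict
import Groth.Agent.PerfA.PerfLocal

set_option autoImplicit false
universe u
open CategoryTheory CategoryTheory.Limits MonoidalCategory CartesianMonoidalCategory MonObj GrpObj AlgebraicGeometry Opposite
open AbSch

namespace Groth.Agent.S15144

/-- Let S be a scheme and A an abelian scheme over S, an S-group scheme whose structure morphism is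
proper, flat and locally of finite presentation with geometrically reduced and geometrically
connected fibres, with unit section e : S → A. Then every global section of Ω_{A/S} is invariant;
equivalently, the canonical map Γ(A, Ω_{A/S}) → Γ(S, e^*Ω_{A/S}) to the sections of the sheaf of
invariant differentials ω_A = e^*Ω_{A/S}, namely the map on global sections of the unit Ω_{A/S} →
e_*e^*Ω_{A/S} of the adjunction between pullback and pushforward along e, is bijective. -/
theorem result {S : Scheme.{u}} (A : Over S) [GrpObj A]
    [IsProper A.hom] [Flat A.hom] [LocallyOfFinitePresentation A.hom]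
    [GeometricallyReduced A.hom] [GeometricallyConnected A.hom] :
    Function.Bijective
      (((Scheme.Modules.pullbackPushforwardAdjunction η[A].left).unit.app (Omega.sheaf A.hom)).val.app (op ⊤)).hom := by
  have hsm : Smooth A.hom := K449.Basic.smooth A
  have he : (η[A] : 𝟙_ (Over S) ⟶ A).left ≫ A.hom = 𝟙 S := Over.w _
  obtain ⟨⟨iso⟩, -⟩ := Groth.Agent.S1937.result S A
  have h1 : FlatMod.IsFinLocFree (Omega.sheaf A.hom) :=
    Groth.Agent.Vancyc.H878.OmegaRank.isFinLocFree_omega A.hom
  have hb : ∀ W : S.Opens, Function.Bijective (A.hom.app W) := fun W =>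
    (ConcreteCategory.isIso_iff_bijective (A.hom.app W)).mp (K449.Push.isIso_app A W)
  have hc : FlatMod.IsFinLocFree (Omega.conormal (Z := S) (η[A] : 𝟙_ (Over S) ⟶ A).left) := by
    let c : S.Modules := Omega.conormal (Z := S) (η[A] : 𝟙_ (Over S) ⟶ A).left
    let e : S ⟶ A.left := (η[A] : 𝟙_ (Over S) ⟶ A).left
    have h2 : (Scheme.Modules.pullback e).obj (Omega.sheaf A.hom) ≅ c :=
      (Scheme.Modules.pullback e).mapIso iso ≪≫ (Scheme.Modules.pullbackComp e A.hom).app c ≪≫
        (Scheme.Modules.pullbackCongr he).app c ≪≫ (Scheme.Modules.pullbackId S).app c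
    exact Groth.Agent.PerfA.PerfLocal.isFinLocFree_of_iso h2
      (Groth.Agent.PerfC.PullRestrict.isFinLocFree_pullback e h1)
  exact K451.UnitSec.bijective_unit (S := S) A.hom (η[A] : 𝟙_ (Over S) ⟶ A).left he hb hc iso

end Groth.Agent.S15144
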