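import Groth.Statements.S15145
import Groth.Agent.Models.K380.CharZeroFlat
import Groth.Agent.Models.K380.SurjConst

set_option autoImplicit false
universe u
open CategoryTheory CategoryTheory.Limits AlgebraicGeometry Opposite
open Models

namespace Groth.Agent.S15145

open Groth.Agent.Fdesc.LocGen Groth.Agent.Models.H67.NormRoot K380.Slope

/-- Finitely many nonempty affine opens cover a compact scheme. -/
lemma exists_finite_cover (X : Scheme.{u}) [CompactSpace X] :
    ∃ (ι : Type u) (_ : Finite ι) (U : ι → X.affineOpens), (∀ i, Nonempty (U i).1) ∧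
      ∀ x : X, ∃ i, x ∈ (U i).1 := by
  obtain ⟨s, hs⟩ := isCompact_univ.elim_finite_subcover (fun U : X.affineOpens => (U.1 : Set X))
    (fun U => U.1.2) (by
      intro z _
      obtain ⟨U, hU, hxU, -⟩ := exists_isAffineOpen_mem_and_subset (X := X) (x := z) (U := ⊤) trivial
      exact Set.mem_iUnion.2 ⟨⟨U, hU⟩, hxU⟩)
  refine ⟨{U : s // Nonempty U.1.1}, inferInstance, fun U => U.1.1, fun U => U.2, fun x => ?_⟩
  have h1 := hs (Set.mem_univ x)
  simp only [Set.mem_iUnion] at h1
  obtain ⟨U, hU, hx⟩ := h1
  exact ⟨⟨⟨U, hU⟩, ⟨⟨x, hx⟩⟩⟩, hx⟩

/-- Let R be a discrete valuation ring whose fraction field K has characteristic zero, with residue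
field k; let C be a proper K-curve, smooth of relative dimension 1 and geometrically connected, and
let X be a model of C over R (flat and of finite type with generic fibre C) which is proper over R
and normal, with rational singularities: the local ring at every closed point defines a rational
singularity (every proper morphism onto its spectrum from an integral normal scheme which is an
isomorphism over a nonempty open has H^1 of the structure sheaf zero). If k has characteristic zero,
or if the structure morphism X → Spec R has a section, then X is cohomologically flat over R in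
dimension 0: the restriction H^0(X, O_X) → H^0(X_s, O_{X_s}) to the closed fibre X_s, cut out by 𝔪_R
· O_X, is surjective; so X is admissible. (The published statement in residue characteristic p > 0
allows, instead of a section, an étale quasi-section, i.e. a section over a strict henselization of
R, or that the components of the closed fibre have geometric multiplicities whose greatest common
divisor is prime to p; this row keeps the case of a section over R and the
residue-characteristic-zero case.) -/
theorem result (R : Type u) [CommRing R]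
    [IsDomain R] [IsDiscreteValuationRing R] [CharZero (FractionRing R)]
    (X C : Scheme.{u}) [X.Over (Spec (CommRingCat.of R))]
    (f : C ⟶ Spec (CommRingCat.of (FractionRing R)))
    [SmoothOfRelativeDimension 1 f] [IsProper f] [GeometricallyConnected f]
    (hX : Models.IsModel R X (X ↘ Spec (CommRingCat.of R)) C f)
    [IsProper (X ↘ Spec (CommRingCat.of R))] (hn : Pi1.IsNormalScheme X)
    (hrat : ∀ x : X, IsClosed ({x} : Set X) → Curv2.IsRationalSing (X.presheaf.stalk x))
    (h : CharZero (IsLocalRing.ResidueField R) ∨
      ∃ σ : Spec (CommRingCat.of R) ⟶ X, σ ≫ (X ↘ Spec (CommRingCat.of R)) = 𝟙 (Spec (CommRingCat.of R))) :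
    Function.Surjective (Sheaf.H.map ((SheafOfModules.toSheaf X.ringCatSheaf).map
      (ClSub.toSubscheme (Models.specialFibreIdeal R (Over.mk (X ↘ Spec (CommRingCat.of R)))))) 0) := by
  obtain ⟨hflat, -, -, g, hg⟩ := hX
  let p := X ↘ Spec (CommRingCat.of R)
  have hsm : Smooth f := SmoothOfRelativeDimension.smooth 1 f
  obtain ⟨ϖ, hϖ⟩ := IsDiscreteValuationRing.exists_irreducible R
  refine K380.SurjConst.surjective_of_const p hϖ fun F => ?_
  rcases h with h | ⟨σ, hσ⟩
  · have hn0 : ∀ n : ℕ, n ≠ 0 → IsUnit (n : R) := by
      intro n hn1
      by_contra hu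
      have h1 : IsLocalRing.residue R (n : R) = 0 :=
        Ideal.Quotient.eq_zero_iff_mem.2 ((IsLocalRing.mem_maximalIdeal _).2 hu)
      rw [map_natCast] at h1
      exact hn1 (Nat.cast_eq_zero.1 h1)
    have hXc : CompactSpace X := QuasiCompact.compactSpace_of_compactSpace p
    obtain ⟨ι, hι, U, hU, hcov⟩ := exists_finite_cover X
    obtain ⟨r, hr⟩ := K380.CharZeroFlat.main (p := p) hn0 hg hn hϖ.ne_zero F U hU
    refine ⟨r, Set.range U, fun x => ?_, ?_⟩
    · obtain ⟨i, hi⟩ := hcov x
      exact ⟨U i, ⟨i, rfl⟩, hi⟩
    · rintro _ ⟨i, rfl⟩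
      exact hr i
  · have hC : IsIntegral C := K380.NormInt.isIntegral_of_smooth f
    have hXi : IsIntegral X := K380.NormInt.isIntegral hg hn
    have hc := isConnected_specialFibreSet hg (K380.NormBC.isIso_appTop_of_smooth f)
    obtain ⟨r, hr⟩ := exists_const p hn hc σ hσ hϖ F
    refine ⟨r, Set.univ, fun x => ?_, fun U _ => hr U⟩
    obtain ⟨U, hU, hxU, -⟩ := exists_isAffineOpen_mem_and_subset (X := X) (x := x) (U := ⊤) trivial
    exact ⟨⟨U, hU⟩, trivial, hxU⟩

end Groth.Agent.S15145
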