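import Groth.Statements.S15148
import Groth.Agent.HilbZeta.K842.Branch

set_option autoImplicit false
universe u
open HilbZeta

namespace Groth.Agent.S15148

/-- Let k be a field, s a natural number and R a k-subalgebra of the product of s copies of the power
series ring k[[x]], of finite codimension δ over k and local with residue field k (all components of
an element of R have the same constant term); write v_i for the x-adic order of the i-th component
of an s-tuple, and let c = (c_1, …, c_s) be the conductor exponents, so that an s-tuple f satisfies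
f·g ∈ R for every s-tuple g exactly when v_i(f) ≥ c_i for all i (over an algebraically closed field
such an R is precisely the completed local ring of a reduced curve singularity having s branches
sitting inside its normalisation, δ is its delta invariant and the conductor ideal is generated by
the x_i^{c_i}), and put C = c_1 + ⋯ + c_s. Let I be an ideal of R of finite colength d with
branch-length vector a (for every i the ideal of k[[x]] generated by the i-th components of the
elements of I is (x^{a_i})). Then −δ ≤ d − Σ a_i ≤ C − δ, and the second inequality is strict when R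
is not the whole product (the singularity is not smooth). (The published statement is over an
algebraically closed field; this row allows any field.) -/
theorem result (k : Type u) [Field k] (s : ℕ)
    (R : Subalgebra k (Fin s → PowerSeries k))
    (hfin : Module.Finite k ((Fin s → PowerSeries k) ⧸ Subalgebra.toSubmodule R))
    (hloc : ∀ f ∈ R, ∀ i j : Fin s, PowerSeries.constantCoeff (f i) = PowerSeries.constantCoeff (f j))
    (c : Fin s → ℕ)
    (hc : ∀ f : Fin s → PowerSeries k,
      (∀ g : Fin s → PowerSeries k, g * f ∈ R) ↔ ∀ i, ((c i : ℕ) : ℕ∞) ≤ (f i).order)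
    (I : Ideal ↥R) (hI : Module.Finite k (↥R ⧸ I)) (a : Fin s → ℕ)
    (ha : (∀ i : Fin s, Ideal.map ((Pi.evalAlgHom k (fun _ : Fin s => PowerSeries k) i).comp R.val) I = Ideal.span {PowerSeries.X ^ (a i)})) :
    (∑ i, a i) ≤ Module.finrank k (↥R ⧸ I) + Module.finrank k ((Fin s → PowerSeries k) ⧸ Subalgebra.toSubmodule R) ∧
    Module.finrank k (↥R ⧸ I) + Module.finrank k ((Fin s → PowerSeries k) ⧸ Subalgebra.toSubmodule R) ≤ (∑ i, a i) + ∑ i, c i ∧
    (R ≠ ⊤ → Module.finrank k (↥R ⧸ I) + Module.finrank k ((Fin s → PowerSeries k) ⧸ Subalgebra.toSubmodule R) < (∑ i, a i) + ∑ i, c i) := by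
  open K842.Branch in
  have h := fun i => (map_eval_eq_iff R I i (a i)).1 (ha i)
  have hmem : Fil (k := k) (fun i => a i + c i) ≤ toV R I := by
    intro g hg
    rw [mem_Fil] at hg
    obtain ⟨hgR, hgI⟩ := mem_of_order R c hc I a (fun i => (h i).2) g hg
    exact mem_toV.2 ⟨_, hgI, rfl⟩
  have hmem2 : toV R I ≤ Fil (k := k) a := by
    intro g hg
    obtain ⟨f, hf, rfl⟩ := mem_toV.1 hg
    rw [mem_Fil]
    exact fun i => (h i).1 f hf
  have hfinI := (finite_toV_iff R hfin I).2 hI
  have hd := finrank_toV R hfin I hI
  rw [← hd]
  refine ⟨?_, ?_, ?_⟩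
  · rw [← finrank_quotFil (k := k) a]
    exact finrank_quot_le hmem2
  · rw [← Finset.sum_add_distrib, ← finrank_quotFil (k := k) (fun i => a i + c i)]
    exact finrank_quot_le hmem
  · intro hR
    rw [← Finset.sum_add_distrib, ← finrank_quotFil (k := k) (fun i => a i + c i)]
    apply finrank_quot_lt hmem
    intro heq
    apply hR
    have hc0 : ∀ i, c i = 0 := by
      intro i
      obtain ⟨f, hf, hfi⟩ := (h i).2
      have h1 : (f : Fin s → PowerSeries k) ∈ Fil (k := k) (fun i => a i + c i) := by
        rw [heq]
        exact mem_toV.2 ⟨f, hf, rfl⟩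
      have h2 := mem_Fil.1 h1 i
      rw [hfi] at h2
      have h3 : a i + c i ≤ a i := by exact_mod_cast h2
      omega
    rw [eq_top_iff]
    intro g _
    have h1 := (hc 1).2 (by intro i; simp [hc0 i]) g
    rwa [mul_one] at h1

end Groth.Agent.S15148
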