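import Groth.Statements.S15155
import Groth.Agent.CAlg.K87.SkewSq

set_option autoImplicit false
open CAlg

namespace Groth.Agent.S15155

open Matrix Polynomial

theorem J_mul_J (m : ℕ) : (Matrix.fromBlocks 0 1 (-1) 0 : Matrix (Fin m ⊕ Fin m) (Fin m ⊕ Fin m) ℂ) *
    Matrix.fromBlocks 0 1 (-1) 0 = -1 := by
  rw [Matrix.fromBlocks_multiply]
  simp only [zero_mul, one_mul, zero_add, mul_zero, add_zero, mul_one]
  rw [← Matrix.fromBlocks_one, Matrix.fromBlocks_neg]
  simp

theorem J_transpose (m : ℕ) : (Matrix.fromBlocks 0 1 (-1) 0 : Matrix (Fin m ⊕ Fin m) (Fin m ⊕ Fin m) ℂ)ᵀ =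
    - Matrix.fromBlocks 0 1 (-1) 0 := by
  rw [Matrix.fromBlocks_transpose, Matrix.fromBlocks_neg]
  simp

theorem J_det_ne_zero (m : ℕ) :
    (Matrix.fromBlocks 0 1 (-1) 0 : Matrix (Fin m ⊕ Fin m) (Fin m ⊕ Fin m) ℂ).det ≠ 0 := by
  intro h
  have h1 := congrArg Matrix.det (J_mul_J m)
  rw [Matrix.det_mul, h, zero_mul, Matrix.det_neg, Matrix.det_one, mul_one] at h1
  exact (pow_ne_zero _ (by norm_num : (-1 : ℂ) ≠ 0)) h1.symm

/-- General form: any invertible skew-symmetric `J`. -/
theorem general {n : Type} [Fintype n] [DecidableEq n] (J : Matrix n n ℂ) (hJ : Jᵀ = -J)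
    (hJ0 : J.det ≠ 0) :
    (∃ P : MvPolynomial (n × n) (Polynomial ℂ), ∀ A : Matrix n n ℂ, A.transpose * J = J * A →
        A.charpoly = (MvPolynomial.eval (fun ij => Polynomial.C (A ij.1 ij.2)) P) ^ 2) ∧
    (∃ Q : MvPolynomial (n × n) ℂ, ∀ A : Matrix n n ℂ, A.transpose * J = J * A →
        A.det = (MvPolynomial.eval (fun ij => A ij.1 ij.2) Q) ^ 2) := by
  obtain ⟨q, hq⟩ := K87.SkewSq.exists_universal.{0, 0, 0} ℂ (by norm_num) n
  have hJs := hq ℂ J hJ
  obtain ⟨c, hc⟩ : ∃ c : ℂ, J.det = c ^ 2 := ⟨_, hJs⟩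
  have hc0 : c ≠ 0 := by
    rintro rfl
    exact hJ0 (by rw [hc]; simp)
  constructor
  · let b : n × n → MvPolynomial (n × n) (Polynomial ℂ) := fun ij =>
      (2⁻¹ : ℂ) • (MvPolynomial.C (Polynomial.C (J ij.1 ij.2) * Polynomial.X) -
        ∑ k, MvPolynomial.C (Polynomial.C (J ij.1 k)) * MvPolynomial.X (k, ij.2))
    refine ⟨MvPolynomial.C (Polynomial.C c⁻¹) * MvPolynomial.aeval b q, fun A hA => ?_⟩
    let B : Matrix n n (Polynomial ℂ) :=
      Matrix.of fun i j => Polynomial.C (J i j) * Polynomial.X - Polynomial.C ((J * A) i j)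
    have hBa : ∀ i j, B i j = Polynomial.C (J i j) * Polynomial.X - Polynomial.C ((J * A) i j) :=
      fun i j => rfl
    have h2 : (J * A)ᵀ = - (J * A) := by
      rw [transpose_mul, hJ, Matrix.mul_neg, hA]
    have hBt : Bᵀ = -B := by
      ext1 i j
      rw [transpose_apply, Matrix.neg_apply, hBa, hBa]
      have e1 : J j i = - J i j := by
        rw [← Matrix.neg_apply, ← hJ, transpose_apply]
      have e2 : (J * A) j i = - (J * A) i j := by
        rw [← Matrix.neg_apply, ← h2, transpose_apply]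
      rw [e1, e2, map_neg, map_neg]
      ring
    have hBm : B = J.map (Polynomial.C : ℂ →+* ℂ[X]) * A.charmatrix := by
      ext1 i j
      have e5 : (J.map (Polynomial.C : ℂ →+* ℂ[X]) * A.charmatrix) i j =
          ∑ k, (J.map (Polynomial.C : ℂ →+* ℂ[X])) i k * A.charmatrix k j := Matrix.mul_apply
      have e6 : (J * A) i j = ∑ k, J i k * A k j := Matrix.mul_apply
      rw [hBa, e5, e6]
      have e3 : ∀ k, (J.map (Polynomial.C : ℂ →+* ℂ[X])) i k * A.charmatrix k j =
          Polynomial.C (J i k) * (Matrix.diagonal (fun _ : n => (Polynomial.X : ℂ[X])) k j) -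
            Polynomial.C (J i k * A k j) := by
        intro k
        rw [Matrix.charmatrix_apply, Matrix.map_apply, mul_sub, map_mul]
      rw [Finset.sum_congr rfl (fun k _ => e3 k), Finset.sum_sub_distrib, ← map_sum]
      congr 1
      rw [Finset.sum_eq_single j]
      · rw [Matrix.diagonal_apply_eq]
      · intro k _ hk
        rw [Matrix.diagonal_apply_ne _ hk, mul_zero]
      · simp
    have hdet : B.det = Polynomial.C (c ^ 2) * A.charpoly := by
      rw [hBm, det_mul, Matrix.charpoly, ← hc, RingHom.map_det]; rfl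
    have h3 := hq (Polynomial ℂ) B hBt
    have h4 : MvPolynomial.eval (fun ij : n × n => Polynomial.C (A ij.1 ij.2)) (MvPolynomial.aeval b q) =
        MvPolynomial.aeval (fun ij : n × n => (2⁻¹ : ℂ) • B ij.1 ij.2) q := by
      have e4 : ((MvPolynomial.aeval (R := ℂ[X]) (fun ij : n × n => (Polynomial.C (A ij.1 ij.2) : ℂ[X]))).restrictScalars ℂ).comp
          (MvPolynomial.aeval b) = MvPolynomial.aeval (R := ℂ) (fun ij : n × n => (2⁻¹ : ℂ) • B ij.1 ij.2) := by
        apply MvPolynomial.algHom_ext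
        intro ij
        rw [AlgHom.comp_apply, MvPolynomial.aeval_X, MvPolynomial.aeval_X]
        change (MvPolynomial.aeval (R := ℂ[X]) (fun ij : n × n => (Polynomial.C (A ij.1 ij.2) : ℂ[X])))
          ((2⁻¹ : ℂ) • (MvPolynomial.C (Polynomial.C (J ij.1 ij.2) * Polynomial.X) -
            ∑ k, MvPolynomial.C (Polynomial.C (J ij.1 k)) * MvPolynomial.X (k, ij.2))) = _
        rw [← algebraMap_smul ℂ[X] (2⁻¹ : ℂ), map_smul, algebraMap_smul, map_sub, map_sum,
          MvPolynomial.aeval_C, hBa, Matrix.mul_apply, map_sum]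
        congr 2
        refine Finset.sum_congr rfl fun k _ => ?_
        rw [map_mul, MvPolynomial.aeval_C, MvPolynomial.aeval_X, map_mul]
        rfl
      exact DFunLike.congr_fun e4 q
    rw [map_mul, MvPolynomial.eval_C, h4, mul_pow, ← h3, hdet, ← mul_assoc, ← map_pow, ← map_mul,
      ← mul_pow, inv_mul_cancel₀ hc0]
    simp
  · let b : n × n → MvPolynomial (n × n) ℂ := fun ij =>
      (2⁻¹ : ℂ) • (∑ k, MvPolynomial.C (J ij.1 k) * MvPolynomial.X (k, ij.2))
    refine ⟨MvPolynomial.C c⁻¹ * MvPolynomial.aeval b q, fun A hA => ?_⟩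
    have h2 : (J * A)ᵀ = - (J * A) := by
        rw [transpose_mul, hJ, Matrix.mul_neg, hA]
    have h3 := hq ℂ (J * A) h2
    rw [det_mul, hc] at h3
    have h4 : MvPolynomial.eval (fun ij : n × n => A ij.1 ij.2) (MvPolynomial.aeval b q) =
        MvPolynomial.aeval (fun ij : n × n => (2⁻¹ : ℂ) • (J * A) ij.1 ij.2) q := by
      have e4 : (MvPolynomial.aeval (R := ℂ) (fun ij : n × n => A ij.1 ij.2)).comp
          (MvPolynomial.aeval b) =
          MvPolynomial.aeval (R := ℂ) (fun ij : n × n => (2⁻¹ : ℂ) • (J * A) ij.1 ij.2) := by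
        apply MvPolynomial.algHom_ext
        intro ij
        rw [AlgHom.comp_apply, MvPolynomial.aeval_X, MvPolynomial.aeval_X]
        change (MvPolynomial.aeval (R := ℂ) (fun ij : n × n => A ij.1 ij.2))
          ((2⁻¹ : ℂ) • (∑ k, MvPolynomial.C (J ij.1 k) * MvPolynomial.X (k, ij.2))) = _
        rw [map_smul, map_sum, Matrix.mul_apply]
        congr 1
        refine Finset.sum_congr rfl fun k _ => ?_
        rw [map_mul, MvPolynomial.aeval_C, MvPolynomial.aeval_X]
        rfl
      exact DFunLike.congr_fun e4 q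
    rw [map_mul, MvPolynomial.eval_C, h4, mul_pow, ← h3, ← mul_assoc, ← mul_pow, inv_mul_cancel₀ hc0]
    simp

/-- Let J be the 2m × 2m block matrix with blocks 0, I_m in the first row and −I_m, 0 in the second,
over the complex numbers. On the set of complex 2m × 2m matrices A with ᵗA · J = J · A (equivalently
ᵗA = J A J⁻¹, J being invertible), the characteristic polynomial is the square of a single
polynomial in the entries of A with coefficients in ℂ[X], and the determinant is the square of a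
single polynomial in the entries of A. -/
theorem result (m : ℕ) :
    (∃ P : MvPolynomial ((Fin m ⊕ Fin m) × (Fin m ⊕ Fin m)) (Polynomial ℂ),
      ∀ A : Matrix (Fin m ⊕ Fin m) (Fin m ⊕ Fin m) ℂ,
        A.transpose * Matrix.fromBlocks 0 1 (-1) 0 = Matrix.fromBlocks 0 1 (-1) 0 * A →
        A.charpoly = (MvPolynomial.eval (fun ij => Polynomial.C (A ij.1 ij.2)) P) ^ 2) ∧
    (∃ Q : MvPolynomial ((Fin m ⊕ Fin m) × (Fin m ⊕ Fin m)) ℂ,
      ∀ A : Matrix (Fin m ⊕ Fin m) (Fin m ⊕ Fin m) ℂ,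
        A.transpose * Matrix.fromBlocks 0 1 (-1) 0 = Matrix.fromBlocks 0 1 (-1) 0 * A →
        A.det = (MvPolynomial.eval (fun ij => A ij.1 ij.2) Q) ^ 2) :=
  general _ (J_transpose m) (J_det_ne_zero m)

end Groth.Agent.S15155
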