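import Groth.Statements.S15156
import Groth.Agent.VBCurve.K705.InvolSS

set_option autoImplicit false
open CategoryTheory CategoryTheory.Limits AlgebraicGeometry
open VBCurve

namespace Groth.Agent.S15156

open Groth.Agent.VarietyA.DegRank K707.Base K707.Deg K707.Slope K707.Semi K705.Setup K705.InvolX K705.Invol K705.InvolSS


/-- Let X be a smooth proper integral curve of genus at least 2 over the complex numbers with an
involution σ ≠ id over the complex numbers, and (E, φ) a σ-linearized finite locally free module of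
rank r ≥ 1: φ : σ^*E ≅ E with φ ∘ σ^*φ equal to the canonical identification σ^*σ^*E ≅ E. A
submodule F ⊂ E is σ-invariant when the composite σ^*F → σ^*E → E factors through F. Then (E, φ) is
semistable with respect to σ-invariant finite locally free submodules (deg F · r ≤ deg E · rk F for
each such F of positive rank) if and only if E is slope-semistable (the same inequality for every
finite locally free submodule of positive rank); degrees are χ − rank · χ(O). -/
theorem result
    (X : Scheme.{0}) [X.Over (Spec (CommRingCat.of ℂ))] [IsIntegral X] [IsProper (X ↘ Spec (CommRingCat.of ℂ))] [Smooth (X ↘ Spec (CommRingCat.of ℂ))]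
    (hdim : topologicalKrullDim X = 1) (hg : 2 ≤ Curv2.genus ℂ X)
    (σ : X ⟶ X) (hσS : σ ≫ (X ↘ Spec (CommRingCat.of ℂ)) = X ↘ Spec (CommRingCat.of ℂ)) (hσ : σ ≫ σ = 𝟙 X) (hσ1 : σ ≠ 𝟙 X)
    (r : ℕ) (hr : 0 < r) (E : X.Modules) (hE : FlatMod.IsFinLocFreeOfRank r E)
    (φ : (Scheme.Modules.pullback σ).obj E ≅ E)
    (hφ : (Scheme.Modules.pullback σ).map φ.hom ≫ φ.hom =
      (Scheme.Modules.pullbackComp σ σ).hom.app E ≫ (Scheme.Modules.pullbackCongr hσ).hom.app E ≫
        (Scheme.Modules.pullbackId X).hom.app E) :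
    (∀ (F : X.Modules) (r' : ℕ) (i : F ⟶ E), Mono i → 0 < r' → FlatMod.IsFinLocFreeOfRank r' F →
      (∃ j : (Scheme.Modules.pullback σ).obj F ⟶ F, j ≫ i = (Scheme.Modules.pullback σ).map i ≫ φ.hom) →
      Curv2.deg ℂ X F r' * (r : ℤ) ≤ Curv2.deg ℂ X E r * (r' : ℤ)) ↔
    (∀ (F : X.Modules) (r' : ℕ) (i : F ⟶ E), Mono i → 0 < r' → FlatMod.IsFinLocFreeOfRank r' F →
      Curv2.deg ℂ X F r' * (r : ℤ) ≤ Curv2.deg ℂ X E r * (r' : ℤ)) := by
  have C : Crv ℂ X := Crv.of_smooth hdim
  have hiso := isIso σ hσ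
  have hequ := isEquivalence σ hσ
  have hvE := isFinLocFree_of_rank hE
  have hrk := rk_of_rank hE
  refine ⟨fun h => ?_, fun h F r' i hi h0 hF _ => h F r' i hi h0 hF⟩
  rw [show (∀ (G : X.Modules) (r' : ℕ) (i : G ⟶ E), Mono i → 0 < r' → FlatMod.IsFinLocFreeOfRank r' G →
      Curv2.deg ℂ X G r' * (r : ℤ) ≤ Curv2.deg ℂ X E r * (r' : ℤ)) ↔ SS ℂ E from (ss_iff C hE).symm]
  refine ss_of_inv C (Scheme.Modules.pullback σ) (c σ hσ) (fun M hM => dg_pullback σ hσS hdim hM) hvE φ
    (hφ.trans (c_app σ hσ E).symm) fun G j hj hG hI => ?_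
  rcases Nat.eq_zero_or_pos (rk G) with h1 | h1
  · rw [dg_of_vb_of_rk_eq_zero C hG h1, h1]; simp
  · have hG' := isFinLocFreeOfRank_rk hG
    have := h G (rk G) j hj h1 hG' hI
    rw [← dg_of_rank ℂ hG', ← dg_of_rank ℂ hE] at this
    rwa [hrk]

end Groth.Agent.S15156
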