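import Groth.Statements.S15158
import Groth.Agent.VBCurve.K705.DblStab
import Groth.Agent.VBCurve.K705.RamDeg
import Groth.Agent.VBCurve.K705.CycPush
import Mathlib.Analysis.Complex.Polynomial.Basic

set_option autoImplicit false
open CategoryTheory CategoryTheory.Limits AlgebraicGeometry
open VBCurve

namespace Groth.Agent.S15158

open Groth.Agent K707.Base K707.Deg K707.Slope K707.Semi K707.TensL K705.Cov K705.DblStab K705.RamDeg K705.GenGal
open K705.SumInv K705.JointMono K705.CycPush Groth.Agent.VarietyA.DegRank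

section pow

variable {X' X : Scheme.{0}} (ι : X' ⟶ X')

/-- the powers of `ι` -/
noncomputable def s (k : ℕ) : X' ⟶ X' := CategoryTheory.End.asHom (CategoryTheory.End.of ι ^ k)

theorem s_zero : s ι 0 = 𝟙 X' := by
  change CategoryTheory.End.asHom (CategoryTheory.End.of ι ^ 0) = _
  rw [pow_zero]
  rfl

theorem s_add (a b : ℕ) : s ι (a + b) = s ι b ≫ s ι a := by
  change CategoryTheory.End.asHom (CategoryTheory.End.of ι ^ (a + b)) = _
  rw [pow_add]
  rfl

variable {ι} {r : ℕ} (hord : orderOf (CategoryTheory.End.of ι) = r)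

include hord

theorem s_r : s ι r = 𝟙 X' := by
  change CategoryTheory.End.asHom (CategoryTheory.End.of ι ^ r) = _
  rw [← hord, pow_orderOf_eq_one]
  rfl

theorem s_mod (a : ℕ) : s ι (a % r) = s ι a := by
  change CategoryTheory.End.asHom (CategoryTheory.End.of ι ^ (a % r)) =
    CategoryTheory.End.asHom (CategoryTheory.End.of ι ^ a)
  rw [← hord, pow_mod_orderOf]

theorem s_inj {a b : ℕ} (ha : a < r) (hb : b < r) (h : s ι a = s ι b) : a = b := by
  refine pow_injOn_Iio_orderOf (x := CategoryTheory.End.of ι) (by rw [hord]; exact ha) (by rw [hord]; exact hb) ?_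
  exact h

theorem s_inv {a : ℕ} (ha : a ≤ r) : s ι a ≫ s ι (r - a) = 𝟙 X' ∧ s ι (r - a) ≫ s ι a = 𝟙 X' := by
  rw [← s_add, ← s_add, Nat.sub_add_cancel ha, Nat.add_sub_cancel' ha, s_r hord]
  exact ⟨rfl, rfl⟩

theorem s_isIso (hr : 0 < r) (a : ℕ) : IsIso (s ι a) := by
  rw [← s_mod hord]
  have h := s_inv hord (Nat.mod_lt a hr).le
  exact ⟨_, h.1, h.2⟩

end pow

theorem s_q {X' X : Scheme.{0}} {ι : X' ⟶ X'} {q : X' ⟶ X} (hιq : ι ≫ q = q) (a : ℕ) : s ι a ≫ q = q := by
  induction a with
  | zero => rw [s_zero, Category.id_comp]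
  | succ a ih =>
    rw [s_add, Category.assoc, ih]
    have h1 : s ι 1 = ι := by
      change CategoryTheory.End.asHom (CategoryTheory.End.of ι ^ 1) = _
      rw [pow_one]
    rw [h1, hιq]

/-- Let X be a smooth proper integral curve of genus at least 2 over the complex numbers, r ≥ 2, and q :
X' → X a connected cyclic étale cover of degree r: X' is a smooth proper integral curve, q is finite
étale of constant rank r over the complex numbers, and ι : X' → X' satisfies q ∘ ι = q and has order
exactly r among the endomorphisms of X'. For an invertible module L of degree 0 on X', the direct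
image q_*L (finite locally free of rank r) is not slope-stable if and only if (ι^k)^*L ≅ L for some
0 < k < r. Slope-stable means deg F · r < deg q_*L · r' for every finite locally free submodule F of
rank 0 < r' < r, with deg = χ − rank · χ(O). (The published statement is for the cyclic étale cover
attached to a primitive r-torsion invertible module on X, in a setting where X carries an involution
and that module descends along the quotient double cover of X; such covers are exactly the connected
cyclic étale covers of degree r used here, and the published argument uses neither the involution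
nor the descent condition, so neither is assumed.) -/
theorem result
    (X X' : Scheme.{0}) [X.Over (Spec (CommRingCat.of ℂ))] [X'.Over (Spec (CommRingCat.of ℂ))]
    [IsIntegral X] [IsProper (X ↘ Spec (CommRingCat.of ℂ))] [Smooth (X ↘ Spec (CommRingCat.of ℂ))] (hdimX : topologicalKrullDim X = 1)
    (hg : 2 ≤ Curv2.genus ℂ X)
    [IsIntegral X'] [IsProper (X' ↘ Spec (CommRingCat.of ℂ))] [Smooth (X' ↘ Spec (CommRingCat.of ℂ))] (hdimX' : topologicalKrullDim X' = 1)
    (r : ℕ) (hr : 2 ≤ r)
    (q : X' ⟶ X) [IsFinite q] [Flat q] [Etale q] (hq : q ≫ (X ↘ Spec (CommRingCat.of ℂ)) = X' ↘ Spec (CommRingCat.of ℂ))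
    (hrk : ∀ x : ↥X, Scheme.Hom.finrank q x = r)
    (ι : X' ⟶ X') (hιq : ι ≫ q = q) (hord : orderOf (CategoryTheory.End.of ι) = r)
    (L : X'.Modules) (hL : PicF.IsInvertible L) (hL0 : Curv2.deg ℂ X' L 1 = 0) :
    (¬ ∀ (F : X.Modules) (r' : ℕ) (i : F ⟶ (Scheme.Modules.pushforward q).obj L), Mono i → 0 < r' → r' < r →
        FlatMod.IsFinLocFreeOfRank r' F →
        Curv2.deg ℂ X F r' * (r : ℤ) < Curv2.deg ℂ X ((Scheme.Modules.pushforward q).obj L) r * (r' : ℤ)) ↔
    ∃ k : ℕ, 0 < k ∧ k < r ∧
      Nonempty ((Scheme.Modules.pullback (CategoryTheory.End.asHom (CategoryTheory.End.of ι ^ k))).obj L ≅ L) := by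
  have cX : Crv ℂ X := Crv.of_smooth hdimX
  have cX' : Crv ℂ X' := Crv.of_smooth hdimX'
  have hr0 : 0 < r := by omega
  have h : IsCov ℂ q r := K705.DblStab.IsCov.of_finrank ℂ hq cX' cX hr0 hrk
  have hδ := dg_push_of_etale h
  have rL := rank_one_iff.mpr hL
  have vL := isFinLocFree_of_rank rL
  have hrkL := rk_of_rank rL
  have dL : dg ℂ L = 0 := by rw [dg_of_rank ℂ rL, hL0]
  have vP := h.vb_push vL
  have rP : rk ((Scheme.Modules.pushforward q).obj L) = r := by rw [h.rk_push vL, hrkL, mul_one]
  have hP : FlatMod.IsFinLocFreeOfRank r ((Scheme.Modules.pushforward q).obj L) := by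
    have := isFinLocFreeOfRank_rk vP
    rwa [rP] at this
  have dP : dg ℂ ((Scheme.Modules.pushforward q).obj L) = 0 := by
    rw [h.dg_push vL, dL, hδ]; simp
  have hsS : ∀ a, s ι a ≫ (X' ↘ Spec (CommRingCat.of ℂ)) = X' ↘ Spec (CommRingCat.of ℂ) := by
    intro a
    rw [← hq, ← Category.assoc, s_q hιq]
  rw [← dg_of_rank ℂ hP, dP]
  constructor
  · intro hns
    push Not at hns
    obtain ⟨F, r', i, hi, h0, h1, hF, hd⟩ := hns
    by_contra hno
    push Not at hno
    -- the Galois group
    let σ : Fin r → (X' ⟶ X') := fun a => s ι a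
    have hσ : ∀ a, σ a ≫ q = q := fun a => s_q hιq a
    have hη : ∀ a, (σ a).base (genericPoint X') = genericPoint X' := fun a => by
      have := s_isIso hord hr0 a
      exact map_genericPoint (s ι a)
    have hinj : Function.Injective σ := fun a b hab => Fin.ext (s_inj hord a.2 b.2 hab)
    have hmul : ∀ a b, ∃ c, σ a ≫ σ b = σ c := fun a b =>
      ⟨⟨(b + a : ℕ) % r, Nat.mod_lt _ hr0⟩, by
        change s ι a ≫ s ι b = s ι ((b + a : ℕ) % r)
        rw [s_mod hord, s_add]⟩
    have hjm := jm hσ hη h hinj (Fintype.card_fin r) (i₀ := ⟨0, hr0⟩) (s_zero ι) hmul vL i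
    -- the conjugates of `L`
    have hiso : ∀ a : Fin r, Nonempty ((Scheme.Modules.pushforward (σ a)).obj L ≅
        (Scheme.Modules.pullback (s ι (r - a))).obj L) := fun a =>
      ⟨pushIso (s_inv hord a.2.le).1 (s_inv hord a.2.le).2 L⟩
    have hnum : ∀ a : Fin r, FlatMod.IsFinLocFree ((Scheme.Modules.pushforward (σ a)).obj L) ∧
        rk ((Scheme.Modules.pushforward (σ a)).obj L) = 1 ∧ dg ℂ ((Scheme.Modules.pushforward (σ a)).obj L) = 0 := by
      intro a
      obtain ⟨e⟩ := hiso a
      have := s_isIso hord hr0 (r - a)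
      obtain ⟨e1, e2, e3⟩ := K705.InvolX.dg_pullback (k := ℂ) (s ι (r - a)) (hsS _) hdimX' vL
      exact ⟨vb_iso e.symm e3, by rw [rk_iso e, e2, hrkL], by rw [dg_iso ℂ e, e1, dL]⟩
    have hne : ∀ a b : Fin r, Nonempty ((Scheme.Modules.pushforward (σ a)).obj L ≅
        (Scheme.Modules.pushforward (σ b)).obj L) → a = b := by
      rintro a b ⟨e⟩
      by_contra hab
      obtain ⟨ea⟩ := hiso a
      obtain ⟨eb⟩ := hiso b
      have hab' : (a : ℕ) ≠ b := fun h => hab (Fin.ext h)
      refine (hno ((r - a + b : ℕ) % r) ?_ (Nat.mod_lt _ hr0)).false ?_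
      · rw [Nat.pos_iff_ne_zero]
        intro h2
        rw [← Nat.dvd_iff_mod_eq_zero] at h2
        obtain ⟨c, hc⟩ := h2
        have ha := a.2
        have hb := b.2
        rcases c with _ | _ | c
        · omega
        · omega
        · have : r * (c + 1 + 1) = r * c + 2 * r := by ring
          have : 0 ≤ r * c := Nat.zero_le _
          omega
      · have e1 : (Scheme.Modules.pullback (s ι b)).obj ((Scheme.Modules.pullback (s ι (r - a))).obj L) ≅
            (Scheme.Modules.pullback (s ι b)).obj ((Scheme.Modules.pullback (s ι (r - b))).obj L) :=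
          (Scheme.Modules.pullback (s ι b)).mapIso (ea.symm ≪≫ e ≪≫ eb)
        have e2 : (Scheme.Modules.pullback (s ι b)).obj ((Scheme.Modules.pullback (s ι (r - a))).obj L) ≅
            (Scheme.Modules.pullback (s ι ((r - a + b : ℕ) % r))).obj L :=
          (Scheme.Modules.pullbackComp (s ι b) (s ι (r - a))).app L ≪≫
            (Scheme.Modules.pullbackCongr (by rw [s_mod hord, s_add])).app L
        have e3 : (Scheme.Modules.pullback (s ι b)).obj ((Scheme.Modules.pullback (s ι (r - b))).obj L) ≅ L :=
          (Scheme.Modules.pullbackComp (s ι b) (s ι (r - b))).app L ≪≫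
            (Scheme.Modules.pullbackCongr (s_inv hord b.2.le).1).app L ≪≫ (Scheme.Modules.pullbackId X').app L
        exact e2.symm ≪≫ e1 ≪≫ e3
    have hpi : ((Scheme.Modules.pullbackPushforwardAdjunction q).homEquiv F L).symm i ≠ 0 := by
      intro h2
      have h3 : i = 0 := by
        rw [Equiv.symm_apply_eq, Adjunction.homEquiv_unit, Functor.map_zero, comp_zero] at h2
        exact h2
      have h4 : IsZero F := by
        rw [IsZero.iff_id_eq_zero, ← cancel_mono i, h3, comp_zero, zero_comp]
      have h5 := rk_of_isZero h4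
      rw [rk_of_rank hF] at h5
      omega
    obtain ⟨vV, rV⟩ := vb_pull (f := q) (isFinLocFree_of_rank hF)
    have dV := h.dg_pull (isFinLocFree_of_rank hF)
    have dF : 0 ≤ dg ℂ F := by
      rw [dg_of_rank ℂ hF]
      have : (0 : ℤ) ≤ Curv2.deg ℂ X F r' * r := by
        rw [zero_mul] at hd
        exact hd
      exact nonneg_of_mul_nonneg_left this (by exact_mod_cast hr0)
    have hcard := card_le_rk cX' (fun a => (hnum a).1) (fun a => (hnum a).2.1) (fun a => (hnum a).2.2)
      Finset.univ (fun a _ b _ => hne a b) vV _ (fun a _ => conj_ne_zero hσ hpi a) hjm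
      (by rw [dV]; positivity)
    rw [Finset.card_univ, Fintype.card_fin, rV, rk_of_rank hF] at hcard
    omega
  · rintro ⟨a, ha0, har, ⟨ψ⟩⟩ hst
    have hst' : St ℂ ((Scheme.Modules.pushforward q).obj L) := by
      intro F i hi hF h0 h1
      rw [rP] at h1 ⊢
      rw [dP]
      have h2 := hst F (rk F) i hi h0 h1 (isFinLocFreeOfRank_rk hF)
      rwa [← dg_of_rank ℂ (isFinLocFreeOfRank_rk hF)] at h2
    have := s_isIso hord hr0 a
    let ψ' : (Scheme.Modules.pullback (s ι a)).obj L ≅ L := ψ
    obtain ⟨c, hc⟩ := K706.Tier1.exists_scalar (k := ℂ) vP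
      (fun g hg => hst'.isIso_of_ne_zero cX vP hst' vP le_rfl g hg) (T (s_q hιq a) ψ'.hom)
    have h2 := eq_id_of_scalar h hr0 (s_q hιq a) vL (by rw [hrkL]; norm_num) ψ'.hom c hc
    have h3 : a = 0 := s_inj hord har hr0 (h2.trans (s_zero ι).symm)
    omega

end Groth.Agent.S15158
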