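import Groth.Statements.S15159
import Groth.Agent.CAlg.K87.WeightCrit

set_option autoImplicit false
open CAlg

namespace Groth.Agent.S15159

open Module K87.WeightCrit

section

variable {W : Type} [AddCommGroup W] [Module ℂ W] {H : Type} [AddCommGroup H] [Module ℂ H]
  [FiniteDimensional ℂ H] (q : H →ₗ[ℂ] H →ₗ[ℂ] W)

/-- Data of a basis adapted to a weighted decomposition. -/
theorem exists_basis {ι : Type} [Fintype ι] [DecidableEq ι] (Hs : ι → Submodule ℂ H) (m : ι → ℤ)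
    (hint : DirectSum.IsInternal Hs) (hsum : (∑ i, m i * (Module.finrank ℂ (Hs i) : ℤ)) = 0) :
    ∃ (κ : Type) (_ : Fintype κ) (b : Basis κ ℂ H) (p : κ → ι), (∀ k, b k ∈ Hs (p k)) ∧
      ∑ k, m (p k) = 0 ∧ ∀ i, Hs i ≠ ⊥ → ∃ k, p k = i := by
  let v : ∀ i, Basis (Fin (finrank ℂ (Hs i))) ℂ (Hs i) := fun i => Module.finBasis ℂ (Hs i)
  refine ⟨_, inferInstance, hint.collectedBasis v, Sigma.fst, hint.collectedBasis_mem v, ?_, ?_⟩
  · rw [Fintype.sum_sigma, ← hsum]
    refine Finset.sum_congr rfl fun i _ => ?_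
    simp [mul_comm]
  · intro i hi
    have hpos : 0 < finrank ℂ (Hs i) := by
      rw [finrank_pos_iff, Submodule.nontrivial_iff_ne_bot]
      exact hi
    exact ⟨⟨i, ⟨0, hpos⟩⟩, rfl⟩

omit [FiniteDimensional ℂ H] in
theorem le_perp {V : Submodule ℂ H} (hV : ∀ x ∈ V, ∀ y ∈ V, q x y = 0) : V ≤ perp q V := fun x hx =>
  (mem_perp q).2 fun y hy => hV x hx y hy

/-- The weighted decomposition attached to a totally isotropic subspace. -/
theorem bad (s : W →ₗ[ℂ] W) (hq : ∀ x y : H, q x y = s (q y x)) (hq0 : q ≠ 0)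
    (V : Submodule ℂ H) (hV0 : V ≠ ⊥) (hV : ∀ x ∈ V, ∀ y ∈ V, q x y = 0) :
    ∃ (Hs : Fin 3 → Submodule ℂ H) (m : Fin 3 → ℤ), DirectSum.IsInternal Hs ∧
      (∑ i, m i * (Module.finrank ℂ (Hs i) : ℤ)) = 0 ∧ (∃ i, m i ≠ 0 ∧ Hs i ≠ ⊥) ∧
      ∀ i j, (∃ x ∈ Hs i, ∃ y ∈ Hs j, q x y ≠ 0) →
        (finrank ℂ H ≤ finrank ℂ V + finrank ℂ (perp q V) → 0 ≤ m i + m j) ∧
        (finrank ℂ H < finrank ℂ V + finrank ℂ (perp q V) → 0 < m i + m j) := by
  obtain ⟨C₂, C₃, hC₂, e1, e2, hint⟩ := exists_decomp V (perp q V) (le_perp q hV)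
  have hVpos : 0 < finrank ℂ V := by
    rw [finrank_pos_iff, Submodule.nontrivial_iff_ne_bot]
    exact hV0
  have hVlt : finrank ℂ V < finrank ℂ H := by
    refine Submodule.finrank_lt ?_
    intro htop
    apply hq0
    ext x y
    exact hV x (htop ▸ Submodule.mem_top) y (htop ▸ Submodule.mem_top)
  refine ⟨![V, C₂, C₃], ![(finrank ℂ V : ℤ) - finrank ℂ H, (finrank ℂ V : ℤ) - finrank ℂ C₃,
    (finrank ℂ H : ℤ) - finrank ℂ C₃], hint, ?_, ⟨0, ?_, hV0⟩, ?_⟩
  · rw [Fin.sum_univ_three]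
    change ((finrank ℂ V : ℤ) - finrank ℂ H) * finrank ℂ V +
      ((finrank ℂ V : ℤ) - finrank ℂ C₃) * finrank ℂ C₂ +
      ((finrank ℂ H : ℤ) - finrank ℂ C₃) * finrank ℂ C₃ = 0
    have e3 : (finrank ℂ H : ℤ) = finrank ℂ V + finrank ℂ C₂ + finrank ℂ C₃ := by
      exact_mod_cast (by omega : finrank ℂ H = finrank ℂ V + finrank ℂ C₂ + finrank ℂ C₃)
    rw [e3]
    ring
  · change (finrank ℂ V : ℤ) - finrank ℂ H ≠ 0
    omega
  · intro i j hij
    have z01 : ¬ ∃ x ∈ V, ∃ y ∈ C₂, q x y ≠ 0 := by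
      rintro ⟨x, hx, y, hy, h⟩
      apply h
      rw [hq, (mem_perp q).1 (hC₂ hy) x hx, map_zero]
    have z10 : ¬ ∃ x ∈ C₂, ∃ y ∈ V, q x y ≠ 0 := by
      rintro ⟨x, hx, y, hy, h⟩
      exact h ((mem_perp q).1 (hC₂ hx) y hy)
    have z00 : ¬ ∃ x ∈ V, ∃ y ∈ V, q x y ≠ 0 := by
      rintro ⟨x, hx, y, hy, h⟩
      exact h (hV x hx y hy)
    fin_cases i <;> fin_cases j
    · exact absurd hij z00
    · exact absurd hij z01
    · simp
      omega
    · exact absurd hij z10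
    · simp
      omega
    · simp
      omega
    · simp
      omega
    · simp
      omega
    · simp
      omega

end

/-- Let W be a finite-dimensional complex vector space with an involution s, H a finite-dimensional
complex vector space and q : H → H → W a nonzero bilinear map with q(x)(y) = s(q(y)(x)). Write V^⊥ =
{x | q(x)(y) = 0 for all y ∈ V} and call V totally isotropic when q vanishes on V × V. The pair (H,
q) is semistable (dim V + dim V^⊥ ≤ dim H for every nonzero totally isotropic subspace V),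
respectively stable (strict inequality), if and only if the line of q is semistable, respectively
stable, for the action of SL(H), the latter being expressed through one-parameter subgroups: for
every decomposition H = ⊕_i H_i into subspaces with integer weights m_i such that Σ_i m_i dim H_i =
0 and some nonzero H_i has nonzero weight, there are indices i, j with q(H_i, H_j) ≠ 0 and m_i + m_j
≤ 0, respectively m_i + m_j < 0. (The published statement speaks of semistability and stability of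
the point of the projective space of such forms under SL(H); this row states the numerical condition
on one-parameter subgroups to which that is equivalent and which the published argument verifies.) -/
theorem result
    (W : Type) [AddCommGroup W] [Module ℂ W] [FiniteDimensional ℂ W]
    (s : W →ₗ[ℂ] W) (hs : s ∘ₗ s = LinearMap.id)
    (H : Type) [AddCommGroup H] [Module ℂ H] [FiniteDimensional ℂ H]
    (q : H →ₗ[ℂ] H →ₗ[ℂ] W) (hq : ∀ x y : H, q x y = s (q y x)) (hq0 : q ≠ 0) :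
    ((∀ V : Submodule ℂ H, V ≠ ⊥ → (∀ x ∈ V, ∀ y ∈ V, q x y = 0) →
        Module.finrank ℂ V + Module.finrank ℂ ↥(⨅ (y : H) (_ : y ∈ V), LinearMap.ker (q.flip y) : Submodule ℂ H) ≤ Module.finrank ℂ H) ↔
      (∀ (ι : Type) [Fintype ι] [DecidableEq ι] (Hs : ι → Submodule ℂ H) (m : ι → ℤ),
        DirectSum.IsInternal Hs → (∑ i, m i * (Module.finrank ℂ (Hs i) : ℤ)) = 0 →
        (∃ i, m i ≠ 0 ∧ Hs i ≠ ⊥) →
        ∃ i j, (∃ x ∈ Hs i, ∃ y ∈ Hs j, q x y ≠ 0) ∧ m i + m j ≤ 0)) ∧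
    ((∀ V : Submodule ℂ H, V ≠ ⊥ → (∀ x ∈ V, ∀ y ∈ V, q x y = 0) →
        Module.finrank ℂ V + Module.finrank ℂ ↥(⨅ (y : H) (_ : y ∈ V), LinearMap.ker (q.flip y) : Submodule ℂ H) < Module.finrank ℂ H) ↔
      (∀ (ι : Type) [Fintype ι] [DecidableEq ι] (Hs : ι → Submodule ℂ H) (m : ι → ℤ),
        DirectSum.IsInternal Hs → (∑ i, m i * (Module.finrank ℂ (Hs i) : ℤ)) = 0 →
        (∃ i, m i ≠ 0 ∧ Hs i ≠ ⊥) →
        ∃ i j, (∃ x ∈ Hs i, ∃ y ∈ Hs j, q x y ≠ 0) ∧ m i + m j < 0)) := by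
  refine ⟨⟨fun h ι _ _ Hs m hint hsum _ => ?_, fun h V hV0 hV => ?_⟩,
    ⟨fun h ι _ _ Hs m hint hsum hne => ?_, fun h V hV0 hV => ?_⟩⟩
  · obtain ⟨κ, _, b, p, hbp, hsum', -⟩ := exists_basis Hs m hint hsum
    obtain ⟨k, l, h1, h2⟩ := ss_weights q b (fun k => m (p k)) hq0 h hsum'
    exact ⟨p k, p l, ⟨b k, hbp k, b l, hbp l, h1⟩, h2⟩
  · by_contra hcon
    obtain ⟨Hs, m, hint, hsum, hne, hpos⟩ := bad q s hq hq0 V hV0 hV
    obtain ⟨i, j, hij, hle⟩ := h (Fin 3) Hs m hint hsum hne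
    have := (hpos i j hij).2 (not_le.1 hcon)
    omega
  · obtain ⟨κ, _, b, p, hbp, hsum', hp⟩ := exists_basis Hs m hint hsum
    obtain ⟨i, hi, hi'⟩ := hne
    obtain ⟨k₀, hk₀⟩ := hp i hi'
    obtain ⟨k, l, h1, h2⟩ := s_weights q b (fun k => m (p k)) h hsum' ⟨k₀, by rw [hk₀]; exact hi⟩
    exact ⟨p k, p l, ⟨b k, hbp k, b l, hbp l, h1⟩, h2⟩
  · by_contra hcon
    obtain ⟨Hs, m, hint, hsum, hne, hpos⟩ := bad q s hq hq0 V hV0 hV
    obtain ⟨i, j, hij, hle⟩ := h (Fin 3) Hs m hint hsum hne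
    have := (hpos i j hij).1 (not_lt.1 hcon)
    omega

end Groth.Agent.S15159
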