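import Groth.Statements.S15160
import Groth.Agent.VBCurve.K705.DblStab
import Groth.Agent.VBCurve.K705.DescSub
import Mathlib.Analysis.Complex.Polynomial.Basic

set_option autoImplicit false
open CategoryTheory CategoryTheory.Limits AlgebraicGeometry
open VBCurve

namespace Groth.Agent.S15160

open Groth.Agent K707.Base K707.Deg K707.Slope K707.Semi K707.TensL K705.Cov K705.DblStab K705.GenGal K705.DescSub

theorem lam_naturality {X Y : Scheme.{0}} {σ : X ⟶ X} {f : X ⟶ Y} (hσ : σ ≫ f = f) {E E' : Y.Modules} (φ : E ⟶ E') :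
    (Scheme.Modules.pullback σ).map ((Scheme.Modules.pullback f).map φ) ≫ lam hσ E' =
      lam hσ E ≫ (Scheme.Modules.pullback f).map φ := by
  have h1 := (Scheme.Modules.pullbackComp σ f).hom.naturality φ
  have h2 := (Scheme.Modules.pullbackCongr hσ).hom.naturality φ
  change (Scheme.Modules.pullback σ).map ((Scheme.Modules.pullback f).map φ) ≫
    (Scheme.Modules.pullbackComp σ f).hom.app E' = _ at h1
  unfold lam
  rw [← Category.assoc, h1, Category.assoc, Category.assoc, h2]

/-- Let π : X → Y be a ramified double cover of smooth proper integral curves over the complex numbers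
(π finite flat of constant rank 2 over the complex numbers and not étale) with covering involution σ
(σ ∘ σ = id, σ ≠ id, π ∘ σ = π), E a finite locally free module of rank r ≥ 1 on Y and i : F → π^*E
a subbundle (a monomorphism whose cokernel is finite locally free). Then F descends to Y as a
subbundle of E — there are a monomorphism i' : F' → E and an isomorphism π^*F' ≅ F carrying π^*i' to
i — if and only if the canonical linearization σ^*π^*E ≅ π^*E, induced by π ∘ σ = π, restricts to a
morphism σ^*F → F. -/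
theorem result
    (X Y : Scheme.{0}) [X.Over (Spec (CommRingCat.of ℂ))] [Y.Over (Spec (CommRingCat.of ℂ))]
    [IsIntegral X] [IsProper (X ↘ Spec (CommRingCat.of ℂ))] [Smooth (X ↘ Spec (CommRingCat.of ℂ))] (hdimX : topologicalKrullDim X = 1)
    [IsIntegral Y] [IsProper (Y ↘ Spec (CommRingCat.of ℂ))] [Smooth (Y ↘ Spec (CommRingCat.of ℂ))] (hdimY : topologicalKrullDim Y = 1)
    (π : X ⟶ Y) [IsFinite π] [Flat π] (hπ : π ≫ (Y ↘ Spec (CommRingCat.of ℂ)) = X ↘ Spec (CommRingCat.of ℂ))
    (hrk : ∀ y : ↥Y, Scheme.Hom.finrank π y = 2) (hram : ¬ Etale π)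
    (σ : X ⟶ X) (hσS : σ ≫ (X ↘ Spec (CommRingCat.of ℂ)) = X ↘ Spec (CommRingCat.of ℂ)) (hσ : σ ≫ σ = 𝟙 X) (hσ1 : σ ≠ 𝟙 X) (hσπ : σ ≫ π = π)
    (r : ℕ) (hr : 0 < r) (E : Y.Modules) (hE : FlatMod.IsFinLocFreeOfRank r E)
    (F : X.Modules) (i : F ⟶ (Scheme.Modules.pullback π).obj E) [Mono i]
    (hsub : FlatMod.IsFinLocFree (cokernel i)) :
    (∃ (F' : Y.Modules) (i' : F' ⟶ E) (e : (Scheme.Modules.pullback π).obj F' ≅ F),
        Mono i' ∧ e.hom ≫ i = (Scheme.Modules.pullback π).map i') ↔
    ∃ j : (Scheme.Modules.pullback σ).obj F ⟶ F,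
      j ≫ i = (Scheme.Modules.pullback σ).map i ≫ (Scheme.Modules.pullbackComp σ π).hom.app E ≫
        (Scheme.Modules.pullbackCongr hσπ).hom.app E := by
  have cX : Crv ℂ X := Crv.of_smooth hdimX
  have cY : Crv ℂ Y := Crv.of_smooth hdimY
  have h : IsCov ℂ π 2 := K705.DblStab.IsCov.of_finrank ℂ hπ cX cY (by norm_num) hrk
  have vE := isFinLocFree_of_rank hE
  constructor
  · rintro ⟨F', i', e, -, he⟩
    refine ⟨(Scheme.Modules.pullback σ).map e.inv ≫ lam hσπ F' ≫ e.hom, ?_⟩
    change _ = (Scheme.Modules.pullback σ).map i ≫ lam hσπ E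
    rw [Category.assoc, Category.assoc, he, ← lam_naturality, ← Category.assoc, ← Functor.map_comp, ← he,
      Iso.inv_hom_id_assoc]
  · rintro ⟨j, hj⟩
    have hiso : IsIso σ := ⟨σ, hσ, hσ⟩
    let s : Bool → (X ⟶ X) := fun b => Bool.rec (𝟙 X) σ b
    have hs : ∀ b, s b ≫ π = π := by
      rintro (_ | _)
      · exact Category.id_comp π
      · exact hσπ
    have hη : ∀ b, (s b).base (genericPoint X) = genericPoint X := by
      rintro (_ | _)
      · rfl
      · exact map_genericPoint σ
    refine exists_descent hs hη h (i₀ := false) ?_ rfl rfl vE i hsub ?_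
    · rintro (_ | _) (_ | _) hab
      · rfl
      · exact absurd hab.symm hσ1
      · exact absurd hab hσ1
      · rfl
    · rintro (_ | _) hb
      · exact absurd rfl hb
      · exact ⟨j, hj⟩

end Groth.Agent.S15160
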