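import Groth.Statements.S15166
import Groth.Agent.BddFin.K843.Quad
import Groth.Agent.BddFin.K843.Involutions

set_option autoImplicit false
universe u v
open Polynomial
open BddFin

namespace Groth.Agent.S15166

/-- Let K be a field of characteristic different from 2 such that K contains all roots of unity (for
every n ≥ 1 the polynomial X^n − 1 splits into linear factors over K), V a finite-dimensional
K-vector space and q a quadratic form on V that does not represent zero. Then every finite subgroup
of the group of K-linear automorphisms of V preserving q is abelian and has order at most 2 ^ (dim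
V). (The published statement also covers perfect fields of characteristic 2; this row is the case of
characteristic ≠ 2.) -/
theorem result
    (K : Type u) [Field K] (hK : ∀ n : ℕ, 0 < n → (X ^ n - 1 : K[X]).Splits) (h2 : (2 : K) ≠ 0)
    (V : Type v) [AddCommGroup V] [Module K V] [FiniteDimensional K V]
    (q : QuadraticForm K V) (hq : q.Anisotropic)
    (G : Subgroup (V ≃ₗ[K] V)) [Finite G] (hG : ∀ g ∈ G, ∀ x : V, q (g x) = q x) :
    (∀ g ∈ G, ∀ h ∈ G, g * h = h * g) ∧ Nat.card G ≤ 2 ^ Module.finrank K V := by
  have hsq : ∀ g ∈ G, g ^ 2 = 1 := by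
    intro g hg
    obtain ⟨n, hn, h1⟩ := (isOfFinOrder_iff_pow_eq_one (x := (⟨g, hg⟩ : G))).mp (isOfFinOrder_of_finite _)
    have h3 : g ^ n = 1 := by
      have := congrArg (Subtype.val) h1
      simpa using this
    exact K843.Quad.sq_eq_one hK h2 q hq g (hG g hg) n hn h3
  have hcomm : ∀ g ∈ G, ∀ h ∈ G, g * h = h * g := by
    intro g hg h hh
    have h1 := hsq g hg
    have h3 := hsq h hh
    have h4 := hsq (g * h) (G.mul_mem hg hh)
    rw [pow_two] at h1 h3 h4
    have e1 : g⁻¹ = g := inv_eq_of_mul_eq_one_left h1
    have e2 : h⁻¹ = h := inv_eq_of_mul_eq_one_left h3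
    have e3 : (g * h)⁻¹ = g * h := inv_eq_of_mul_eq_one_left h4
    rw [← e3, mul_inv_rev, e1, e2]
  refine ⟨hcomm, ?_⟩
  refine K843.Involutions.card_le (ι := G) h2 (fun g => (g.1 : V →ₗ[K] V)) ?_ ?_ ?_
  · intro g h hgh
    exact Subtype.ext (LinearEquiv.toLinearMap_injective hgh)
  · intro g h
    have := congrArg (fun f : V ≃ₗ[K] V => (f : V →ₗ[K] V)) (hcomm g.1 g.2 h.1 h.2)
    exact this
  · intro g
    have := hsq g.1 g.2
    rw [K843.Quad.toLinearMap_pow, this]
    rfl

end Groth.Agent.S15166
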