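import Groth.Statements.S15177
import Groth.Agent.S3263
import Mathlib.Tactic.Abel
import Mathlib.Tactic.Ring

set_option autoImplicit false
universe u v
open BddFin

namespace Groth.Agent.S15177

open TensorProduct LinearMap

/-- Let K be a field and Γ a unipotent linear algebraic group over K, given here by its coordinate Hopf
algebra A (a finitely generated, formally smooth commutative Hopf algebra over K all of whose
non-zero finite-dimensional comodules have a non-zero fixed vector). Then the group Γ(K) of K-points
(K-algebra maps A → K under convolution) has no non-trivial element of finite order coprime to the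
characteristic of K: an element of finite order whose order is non-zero in K is the identity. -/
theorem result
    (K : Type u) [Field K] (A : Type v) [CommRing A] [HopfAlgebra K A] [Algebra.FiniteType K A]
    [Algebra.FormallySmooth K A] (hU : HopfRep.IsUnipotent K A)
    (g : WithConv (A →ₐ[K] K)) (hg : IsOfFinOrder g) (hcop : ((orderOf g : ℕ) : K) ≠ 0) : g = 1 := by
  obtain ⟨C, hC, hC0, hCtop, hCΔ⟩ := (Groth.Agent.S3263.result K A).1 hU
  let γ : WithConv (A →ₗ[K] K) := WithConv.toConv g.ofConv.toLinearMap
  let δ : WithConv (A →ₗ[K] K) := γ - 1
  have hγ1 : γ (1 : A) = 1 := map_one g.ofConv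
  have hone : (1 : WithConv (A →ₗ[K] K)) (1 : A) = 1 := by
    rw [LinearMap.convOne_apply, Bialgebra.counit_one, map_one]
  have hδ : ∀ a, δ a = γ a - (1 : WithConv (A →ₗ[K] K)) a := fun _ => rfl
  have hpow1 : ∀ n : ℕ, (γ ^ n) (1 : A) = 1 := by
    intro n
    have h1 := AlgHom.toLinearMap_convPow g n
    rw [← h1]
    exact map_one (g ^ n).ofConv
  -- vanishing on the filtration
  have key : ∀ r : ℕ, ∀ a ∈ C r, δ a = 0 := by
    intro r
    induction r using Nat.strong_induction_on with
    | _ r ih =>
    rcases r with _ | r
    · intro a ha
      rw [hC0, Submodule.mem_span_singleton] at ha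
      obtain ⟨c, rfl⟩ := ha
      rw [map_smul, hδ, hγ1, hone, sub_self, smul_zero]
    · have hmul : ∀ ψ : WithConv (A →ₗ[K] K), ψ (1 : A) = 0 → ∀ a ∈ C (r + 1), (δ * ψ) a = 0 := by
        intro ψ hψ a ha
        rw [LinearMap.convMul_apply]
        have h1 := hCΔ (r + 1) (Submodule.mem_map_of_mem ha)
        have h2 : (⨆ i ∈ Finset.range (r + 1 + 1),
            LinearMap.range (TensorProduct.mapIncl (C i) (C (r + 1 - i)))) ≤
              LinearMap.ker (LinearMap.mul' K K ∘ₗ TensorProduct.map δ.ofConv ψ.ofConv) := by
          refine iSup₂_le fun i hi => ?_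
          rw [Finset.mem_range] at hi
          rintro _ ⟨y, rfl⟩
          rw [LinearMap.mem_ker]
          induction y with
          | zero => simp
          | add x y hx hy => rw [map_add, map_add, hx, hy, add_zero]
          | tmul x y =>
            rw [TensorProduct.mapIncl, TensorProduct.map_tmul, LinearMap.comp_apply,
              TensorProduct.map_tmul, LinearMap.mul'_apply]
            by_cases hir : i = r + 1
            · have hy : (y : A) ∈ C 0 := hC (by omega) y.2
              rw [hC0, Submodule.mem_span_singleton] at hy
              obtain ⟨c, hc⟩ := hy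
              rw [Submodule.subtype_apply, Submodule.subtype_apply, ← hc, map_smul]
              have : ψ.ofConv (1 : A) = 0 := hψ
              rw [this, smul_zero, mul_zero]
            · have : δ.ofConv (x : A) = 0 := ih i (by omega) x x.2
              rw [Submodule.subtype_apply, this, zero_mul]
        exact h2 h1
      intro a ha
      have hn : ∀ n : ℕ, (γ ^ n - 1) a = (n : K) * δ a := by
        intro n
        induction n with
        | zero => 
          rw [pow_zero, sub_self, Nat.cast_zero, zero_mul]; rfl
        | succ n ihn =>
          have h3 : γ ^ (n + 1) - 1 = δ * (γ ^ n - 1) + δ + (γ ^ n - 1) := by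
            rw [pow_succ']
            simp only [δ]
            rw [sub_mul, mul_sub, one_mul, mul_one]
            abel
          have h4 : (γ ^ (n + 1) - 1) a = (δ * (γ ^ n - 1)) a + δ a + (γ ^ n - 1) a := by
            rw [h3]; rfl
          rw [h4, ihn, hmul (γ ^ n - 1) _ a ha]
          · push_cast; ring
          · change (γ ^ n) (1 : A) - (1 : WithConv (A →ₗ[K] K)) (1 : A) = 0
            rw [hpow1, hone, sub_self]
      have h5 := hn (orderOf g)
      have h6 : γ ^ (orderOf g) = 1 := by
        have h1 := AlgHom.toLinearMap_convPow g (orderOf g)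
        rw [pow_orderOf_eq_one] at h1
        exact h1.symm
      rw [h6, sub_self] at h5
      have h7 : (0 : K) = (orderOf g : K) * δ a := h5
      exact (mul_eq_zero.1 h7.symm).resolve_left hcop
  have hall : ∀ a : A, δ a = 0 := by
    intro a
    have ha : a ∈ ⨆ r, C r := by rw [hCtop]; trivial
    rw [Submodule.mem_iSup_of_directed _ hC.directed_le] at ha
    obtain ⟨n, hn⟩ := ha
    exact key n a hn
  apply WithConv.ofConv_injective
  apply AlgHom.ext
  intro a
  exact sub_eq_zero.1 (hall a)

end Groth.Agent.S15177
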