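import Groth.Statements.S15178
import Groth.Agent.BddFin.K843.GenFib
import Groth.Agent.EqInt.K957.Bundle

set_option autoImplicit false
universe u
open CategoryTheory MonoidalCategory CartesianMonoidalCategory MonObj GrpObj AlgebraicGeometry
open BddFin

namespace Groth.Agent.S15178

/-- Let K be a field, Γ a smooth algebraic group over K (a smooth K-group scheme of finite type), X an
integral separated K-scheme of finite type with an action of Γ, and π : X → Y a geometric quotient
of X by Γ over K (π is Γ-invariant and surjective, Γ × X → X ×_Y X is surjective, π is universally
submersive, and the functions on Y are the invariant functions on X). Then π is generically smooth: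
the fibre of π over the generic point η of Y is smooth over the residue field κ(η). (The quotient
notion used here asks for universal submersiveness, where the published definition asks only for
submersiveness; the row is the corresponding case.) -/
theorem result
    (K : Type u) [Field K]
    (Γ X Y : Over (Spec (CommRingCat.of K))) [GrpObj Γ]
    [Smooth Γ.hom] [LocallyOfFiniteType Γ.hom] [QuasiCompact Γ.hom]
    [IsIntegral X.left] [LocallyOfFiniteType X.hom] [QuasiCompact X.hom] [IsSeparated X.hom]
    (a : AlgGrp.Action Γ X) (π : X ⟶ Y) (hπ : GIT.IsGeomQuot a π) [IrreducibleSpace Y.left] :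
    Smooth (π.left.fiberToSpecResidueField (genericPoint Y.left)) := by
  have hY : IsIntegral Y.left := K957.Normal.isIntegral_of_isGeomQuot hπ
  have h1 : Smooth a.act.left := K843.ActGpd.smooth_act a
  have h2 : Smooth (snd Γ X).left := K843.ActGpd.smooth_snd
  have h3 : LocallyOfFiniteType π.left := K957.Bundle.locallyOfFiniteType_left π
  have hsurj : Surjective π.left := ⟨hπ.surj⟩
  have hgen : π.left (genericPoint X.left) = genericPoint Y.left := by
    obtain ⟨x, hx⟩ := hπ.surj (genericPoint Y.left)
    have h4 : genericPoint X.left ⤳ x := genericPoint_specializes x
    have h5 := h4.map π.left.continuous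
    change π.left (genericPoint X.left) ⤳ π.left x at h5
    have h6 : π.left x = genericPoint Y.left := hx
    rw [h6] at h5
    exact (h5.antisymm (genericPoint_specializes _)).eq
  exact K843.GenFib.smooth_fiber (K843.ActGpd.gpd a) (K686.Basic.GQ hπ) hgen

end Groth.Agent.S15178
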