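import Groth.Statements.S15183
import Mathlib.RingTheory.SimpleModule.WedderburnArtin
import Mathlib.RingTheory.Polynomial.Cyclotomic.Roots
import Mathlib.RingTheory.Artinian.Module

set_option autoImplicit false
universe u v
open Polynomial
open BddFin

namespace Groth.Agent.S15183

theorem aux_prim (K : Type u) [Field K] (hK : ∀ n : ℕ, 0 < n → (X ^ n - 1 : K[X]).Splits)
    (d : ℕ) (hd : 0 < d) (hdK : (d : K) ≠ 0) : ∃ ζ : K, IsPrimitiveRoot ζ d := by
  have : NeZero (d : K) := ⟨hdK⟩
  have h1 : (cyclotomic d K) ∣ X ^ d - 1 := cyclotomic.dvd_X_pow_sub_one d K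
  have h0 : (X ^ d - 1 : K[X]) ≠ 0 := by
    have := X_pow_sub_C_ne_zero hd (1 : K)
    simpa using this
  have hs : (cyclotomic d K).Splits := Splits.of_dvd (hK d hd) h0 h1
  have hdeg : (cyclotomic d K).degree ≠ 0 := by
    rw [degree_cyclotomic]
    have : 0 < d.totient := Nat.totient_pos.2 hd
    exact_mod_cast this.ne'
  obtain ⟨ζ, hζ⟩ := Splits.exists_eval_eq_zero hs hdeg
  exact ⟨ζ, (isRoot_cyclotomic_iff (R := K)).1 hζ⟩

theorem aux_idem (K : Type u) [Field K] 
    (A : Type v) [Ring A] [Algebra K A] [IsSimpleRing A] [FiniteDimensional K A]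
    (hA : ∃ y : A, y ≠ 0 ∧ ¬ IsUnit y) : ∃ e : A, e * e = e ∧ e ≠ 0 ∧ e ≠ 1 := by
  have : IsArtinianRing A := IsArtinianRing.of_finite K A
  obtain ⟨n, hn, D, hD, ⟨φ⟩⟩ := IsSimpleRing.exists_ringEquiv_matrix_divisionRing (R := A)
  by_cases h1 : n = 1
  · subst h1
    exfalso
    obtain ⟨y, hy, hy'⟩ := hA
    apply hy'
    have hy2 : φ y ≠ 0 := by simpa using hy
    have hy3 : (φ y) 0 0 ≠ 0 := by
      intro h
      apply hy2
      ext i j
      rw [Subsingleton.elim i 0, Subsingleton.elim j 0, h]
      rfl
    have h2 : IsUnit (φ y) := by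
      rw [isUnit_iff_exists]
      refine ⟨Matrix.of fun _ _ => ((φ y) 0 0)⁻¹, ?_, ?_⟩
      · ext i j
        rw [Subsingleton.elim i 0, Subsingleton.elim j 0]
        simp [Matrix.mul_apply, hy3]
      · ext i j
        rw [Subsingleton.elim i 0, Subsingleton.elim j 0]
        simp [Matrix.mul_apply, hy3]
    exact (MulEquiv.isUnit_map φ).1 h2
  · have h2 : 1 < n := by
      have := hn.out
      omega
    let i0 : Fin n := ⟨0, by omega⟩
    let i1 : Fin n := ⟨1, h2⟩
    have hne : i0 ≠ i1 := by
      intro h
      have := congrArg Fin.val h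
      simp [i0, i1] at this
    refine ⟨φ.symm (Matrix.single i0 i0 1), ?_, ?_, ?_⟩
    · rw [← map_mul]
      simp
    · intro h
      have h3 : Matrix.single i0 i0 (1 : D) = 0 := by
        simpa using h
      have := congrFun (congrFun h3 i0) i0
      simp at this
    · intro h
      have h3 : Matrix.single i0 i0 (1 : D) = 1 := by
        have := congrArg φ h
        simpa using this
      have := congrFun (congrFun h3 i1) i1
      simp [Matrix.single_apply, hne] at this

/-- Let K be a field such that K contains all roots of unity (for every n ≥ 1 the polynomial X^n − 1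
splits into linear factors over K), and A a finite-dimensional central simple K-algebra which is not
a division algebra (some non-zero element is not a unit). Then the quotient of the unit group of A
by that of K has elements of every finite order invertible in K: for every d ≥ 1 with d ≠ 0 in K
there is a unit x of A with x ^ d in K and x ^ k not in K for 0 < k < d. (The published assertion is
phrased for the automorphism group of the Severi–Brauer variety of A, which is isomorphic to the
units of A modulo those of K; this row is the algebra-side statement its proof establishes.) -/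
theorem result
    (K : Type u) [Field K] (hK : ∀ n : ℕ, 0 < n → (X ^ n - 1 : K[X]).Splits)
    (A : Type v) [Ring A] [Algebra K A] [Algebra.IsCentral K A] [IsSimpleRing A] [FiniteDimensional K A]
    (hA : ∃ y : A, y ≠ 0 ∧ ¬ IsUnit y) (d : ℕ) (hd : 0 < d) (hdK : (d : K) ≠ 0) :
    ∃ x : A, IsUnit x ∧ x ^ d ∈ (algebraMap K A).range ∧
      ∀ k : ℕ, 0 < k → k < d → x ^ k ∉ (algebraMap K A).range := by
  obtain ⟨ζ, hζ⟩ := aux_prim K hK d hd hdK
  obtain ⟨e, he, he0, he1⟩ := aux_idem K A hA
  let c : K → A := fun a => algebraMap K A a * e + (1 - e)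
  have hpow : ∀ (a : K) (k : ℕ), (algebraMap K A a * e + (1 - e)) ^ k = algebraMap K A (a ^ k) * e + (1 - e) := by
    intro a k
    induction k with
    | zero => simp
    | succ k ih =>
      rw [pow_succ, ih]
      have hc : e * algebraMap K A a = algebraMap K A a * e := (Algebra.commutes a e).symm
      have h1 : (algebraMap K A (a ^ k) * e + (1 - e)) * (algebraMap K A a * e + (1 - e)) =
        algebraMap K A (a ^ k) * (e * algebraMap K A a) * e + (algebraMap K A (a^k)) * (e * (1 - e)) + ((algebraMap K A a) * e - (e * algebraMap K A a) * e) + (1 - e) * (1 - e) := by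
        noncomm_ring
      have h2 : e * (1 - e) = 0 := by rw [mul_sub, he, mul_one, sub_self]
      have h3 : (1 - e) * (1 - e) = 1 - e := by rw [sub_mul, h2, one_mul, sub_zero]
      rw [h1, h2, h3, hc, mul_assoc, mul_assoc, he, pow_succ, map_mul]
      simp [mul_assoc, he]
  have hd1 : ζ ^ d = 1 := hζ.pow_eq_one
  have hxd : (algebraMap K A ζ * e + (1 - e)) ^ d = 1 := by
    rw [hpow, hd1]; simp
  refine ⟨algebraMap K A ζ * e + (1 - e), ?_, ?_, ?_⟩
  · exact IsUnit.of_pow_eq_one hxd hd.ne'
  · rw [hxd]; exact one_mem _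
  · rintro k hk hkd ⟨b, hb⟩
    rw [hpow] at hb
    have h2 : (1 - e) * e = 0 := by rw [sub_mul, he, one_mul, sub_self]
    have h2' : e * (1 - e) = 0 := by rw [mul_sub, he, mul_one, sub_self]
    -- multiply by e on the right
    have h4 : algebraMap K A b * e = algebraMap K A (ζ ^ k) * e := by
      have := congrArg (· * e) hb
      simpa [add_mul, mul_assoc, he, h2] using this
    have h5 : algebraMap K A b * (1 - e) = (1 - e) := by
      have := congrArg (· * (1 - e)) hb
      have h3 : (1 - e) * (1 - e) = 1 - e := by rw [sub_mul, h2', one_mul, sub_zero]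
      simpa only [add_mul, mul_assoc, h2', h3, mul_zero, zero_add] using this
    have h6 : b = ζ ^ k := by
      by_contra hne
      have h7 : algebraMap K A (b - ζ ^ k) * e = 0 := by
        rw [map_sub, sub_mul, h4, sub_self]
      have h8 : algebraMap K A (b - ζ ^ k)⁻¹ * (algebraMap K A (b - ζ ^ k) * e) = 0 := by
        rw [h7, mul_zero]
      rw [← mul_assoc, ← map_mul, inv_mul_cancel₀ (sub_ne_zero.2 hne), map_one, one_mul] at h8
      exact he0 h8
    have h6' : b = 1 := by
      by_contra hne
      have h7 : algebraMap K A (b - 1) * (1 - e) = 0 := by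
        rw [map_sub, sub_mul, h5, map_one, one_mul, sub_self]
      have h8 : algebraMap K A (b - 1)⁻¹ * (algebraMap K A (b - 1) * (1 - e)) = 0 := by
        rw [h7, mul_zero]
      rw [← mul_assoc, ← map_mul, inv_mul_cancel₀ (sub_ne_zero.2 hne), map_one, one_mul] at h8
      exact he1 (sub_eq_zero.1 h8).symm
    have h9 : ζ ^ k = 1 := by rw [← h6, h6']
    exact absurd (Nat.le_of_dvd hk (hζ.dvd_of_pow_eq_one k h9)) (not_le.2 hkd)

end Groth.Agent.S15183
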