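import Groth.Statements.S15184
import Groth.Agent.BddFin.K844.RedTr

set_option autoImplicit false
universe u v
open BddFin

namespace Groth.Agent.S15184

open Polynomial

section
variable (K : Type u) [Field K] (A : Type v) [DivisionRing A] [Algebra K A] [FiniteDimensional K A]

theorem finrank_range : Module.finrank K (LinearMap.range (Algebra.linearMap K A)) = 1 := by
  rw [LinearMap.finrank_range_of_inj (FaithfulSMul.algebraMap_injective K A), Module.finrank_self]

/-- a submodule of dimension at least `2` is not contained in `K` -/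
theorem exists_notMem (W : Submodule K A) (h : 1 < Module.finrank K W) :
    ∃ v ∈ W, v ∉ (algebraMap K A).range := by
  by_contra! hcon
  have h1 : W ≤ LinearMap.range (Algebra.linearMap K A) := by
    intro v hv
    obtain ⟨a, ha⟩ := hcon v hv
    exact ⟨a, ha⟩
  have h2 := Submodule.finrank_mono h1
  rw [finrank_range] at h2
  omega

theorem finrank_ker_ge {V : Type v} [AddCommGroup V] [Module K V] [FiniteDimensional K V]
    {W : Type*} [AddCommGroup W] [Module K W] [FiniteDimensional K W]
    (T : V →ₗ[K] W) : Module.finrank K V ≤ Module.finrank K (LinearMap.ker T) + Module.finrank K W := by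
  have h1 := LinearMap.finrank_range_add_finrank_ker T
  have h2 := Submodule.finrank_le (LinearMap.range T)
  omega

end

theorem case_two (K : Type u) [Field K] [CharP K 2]
    (A : Type v) [DivisionRing A] [Algebra K A] [Algebra.IsCentral K A] [FiniteDimensional K A]
    (hA : Module.finrank K A = 2 ^ 2) : ∃ v : A, ¬ IsSeparable K v := by
  have : Fact (Nat.Prime 2) := ⟨Nat.prime_two⟩
  obtain ⟨T, -, -, hT⟩ := K844.RedTr.exists_redTrace K 2 A hA
  have h1 := finrank_ker_ge K T
  rw [hA, Module.finrank_self] at h1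
  obtain ⟨v, hv, hv'⟩ := exists_notMem K A (LinearMap.ker T) (by omega)
  obtain ⟨h2, h3⟩ := hT v hv'
  rw [LinearMap.mem_ker] at hv
  rw [hv] at h3
  have h4 : (minpoly K v).coeff 1 = 0 := by simpa using h3.symm
  refine ⟨v, fun hsep => ?_⟩
  have h5 : derivative (minpoly K v) = 0 := by
    ext i
    rw [coeff_derivative, coeff_zero]
    rcases i with _ | i
    · rw [zero_add, h4, zero_mul]
    · rcases i with _ | i
      · have : ((2 : ℕ) : K) = 0 := CharP.cast_eq_zero K 2
        have h7 : (((0 + 1 : ℕ) : K) + 1) = 0 := by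
          rw [← this]; norm_num
        rw [h7, mul_zero]
      · rw [coeff_eq_zero_of_natDegree_lt (by omega), zero_mul]
  rw [IsSeparable, separable_def, h5, isCoprime_zero_right] at hsep
  have h6 := natDegree_eq_zero_of_isUnit hsep
  omega

theorem case_three (K : Type u) [Field K] [CharP K 3]
    (A : Type v) [DivisionRing A] [Algebra K A] [Algebra.IsCentral K A] [FiniteDimensional K A]
    (hA : Module.finrank K A = 3 ^ 2) : ∃ v : A, ¬ IsSeparable K v := by
  have : Fact (Nat.Prime 3) := ⟨Nat.prime_three⟩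
  obtain ⟨T, hcomm, h0, hT⟩ := K844.RedTr.exists_redTrace K 3 A hA
  -- an element `a` outside `K`
  obtain ⟨a, -, ha⟩ := exists_notMem K A ⊤ (by rw [finrank_top, hA]; norm_num)
  obtain ⟨hda, -⟩ := hT a ha
  have hint : IsIntegral K a := Algebra.IsIntegral.isIntegral a
  have : Fact (Irreducible (minpoly K a)) := ⟨minpoly.irreducible hint⟩
  let g : AdjoinRoot (minpoly K a) →ₐ[K] A :=
    Ideal.Quotient.liftₐ _ (aeval a : K[X] →ₐ[K] A) (by
      intro b hb
      rw [Ideal.mem_span_singleton] at hb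
      obtain ⟨c, rfl⟩ := hb
      simp)
  have hF : Module.finrank K (AdjoinRoot (minpoly K a)) = 3 := by
    rw [(AdjoinRoot.powerBasis (minpoly.ne_zero hint)).finrank, AdjoinRoot.powerBasis_dim, hda]
  have : FiniteDimensional K (AdjoinRoot (minpoly K a)) :=
    (AdjoinRoot.powerBasis (minpoly.ne_zero hint)).finite
  have hginj : Function.Injective g := g.toRingHom.injective
  -- orthogonal complement of `L = K(a)`
  let Φ : A →ₗ[K] (AdjoinRoot (minpoly K a) →ₗ[K] K) :=
    { toFun := fun x => T ∘ₗ (LinearMap.mulLeft K x) ∘ₗ g.toLinearMap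
      map_add' := by intro x y; ext l; simp [add_mul]
      map_smul' := by intro c x; ext l; simp }
  have hΦ : ∀ x l, Φ x l = T (x * g l) := fun _ _ => rfl
  have hker := finrank_ker_ge K Φ
  rw [hA, Module.finrank_linearMap, hF, Module.finrank_self] at hker
  obtain ⟨x, hx, hx'⟩ : ∃ x ∈ LinearMap.ker Φ, x ∉ LinearMap.range g.toLinearMap := by
    by_contra! hcon
    have h1 : LinearMap.ker Φ ≤ LinearMap.range g.toLinearMap := hcon
    have h2 := Submodule.finrank_mono h1
    rw [LinearMap.finrank_range_of_inj hginj, hF] at h2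
    omega
  have hx0 : x ≠ 0 := by
    rintro rfl
    exact hx' (zero_mem _)
  let Ψ : AdjoinRoot (minpoly K a) →ₗ[K] K := T ∘ₗ (LinearMap.mulLeft K x⁻¹) ∘ₗ g.toLinearMap
  have hΨ : ∀ l, Ψ l = T (x⁻¹ * g l) := fun _ => rfl
  obtain ⟨l, hl, hl0⟩ : ∃ l ∈ LinearMap.ker Ψ, l ≠ 0 := by
    have h1 := LinearMap.finrank_range_add_finrank_ker Ψ
    have h2 := Submodule.finrank_le (LinearMap.range Ψ)
    rw [Module.finrank_self] at h2
    rw [hF] at h1
    have h3 : LinearMap.ker Ψ ≠ ⊥ := by
      intro h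
      rw [h, finrank_bot] at h1
      omega
    exact Submodule.exists_mem_ne_zero_of_ne_bot h3
  have hgl : g l ≠ 0 := by
    intro h
    exact hl0 (hginj (by rw [h, map_zero]))
  set v : A := x * (g l)⁻¹ with hv
  have hglinv : (g l)⁻¹ = g (l⁻¹) := (map_inv₀ g l).symm
  have hTv : T v = 0 := by
    rw [hv, hglinv, ← hΦ, LinearMap.mem_ker.1 hx, LinearMap.zero_apply]
  have hvinv : v⁻¹ = g l * x⁻¹ := by rw [hv, mul_inv_rev, inv_inv]
  have hTvinv : T v⁻¹ = 0 := by
    rw [hvinv, hcomm, ← hΨ, LinearMap.mem_ker.1 hl]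
  have hvK : v ∉ (algebraMap K A).range := by
    rintro ⟨c, hc⟩
    apply hx'
    refine ⟨c • l, ?_⟩
    change g (c • l) = x
    rw [map_smul, Algebra.smul_def, hc, hv, inv_mul_cancel_right₀ hgl]
  have hv0 : v ≠ 0 := by
    intro h
    exact hvK ⟨0, by rw [map_zero, h]⟩
  have hviK : v⁻¹ ∉ (algebraMap K A).range := by
    rintro ⟨c, hc⟩
    apply hvK
    exact ⟨c⁻¹, by rw [map_inv₀, hc, inv_inv]⟩
  obtain ⟨hd, hc2⟩ := hT v hvK
  obtain ⟨hd', hc2'⟩ := hT v⁻¹ hviK
  rw [hTv] at hc2
  rw [hTvinv] at hc2'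
  simp only [Nat.add_one_sub_one] at hc2 hc2'
  have hintv : IsIntegral K v := Algebra.IsIntegral.isIntegral v
  have hmon := minpoly.monic hintv
  set m := minpoly K v with hm
  have hm3 : m.coeff 3 = 1 := by rw [← hd]; exact hmon.coeff_natDegree
  have hm0 : m.coeff 0 ≠ 0 := minpoly.coeff_zero_ne_zero hintv hv0
  have hrel : (algebraMap K A (m.coeff 0)) + (algebraMap K A (m.coeff 1)) * v +
      (algebraMap K A (m.coeff 2)) * v ^ 2 + v ^ 3 = 0 := by
    have h1 := minpoly.aeval K v
    rw [← hm, Polynomial.aeval_eq_sum_range' (n := 4) (by omega)] at h1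
    simp only [Finset.sum_range_succ, Finset.sum_range_zero, zero_add, Algebra.smul_def, pow_zero,
      mul_one, pow_one, hm3, map_one, one_mul] at h1
    exact h1
  -- the minimal polynomial of the inverse
  let q : K[X] := X ^ 3 + C (m.coeff 1 / m.coeff 0) * X ^ 2 + C (m.coeff 2 / m.coeff 0) * X +
    C (1 / m.coeff 0)
  have hqdeg : q.natDegree = 3 := by
    simp only [q]
    compute_degree!
  have hqmon : q.Monic := by
    simp only [q]
    monicity!
  have hqroot : aeval v⁻¹ q = 0 := by
    have h1 : (algebraMap K A (m.coeff 0)) * (v⁻¹) ^ 3 + (algebraMap K A (m.coeff 1)) * (v⁻¹) ^ 2 +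
      (algebraMap K A (m.coeff 2)) * v⁻¹ + 1 = 0 := by
      have h2 := congrArg (· * (v⁻¹) ^ 3) hrel
      simp only [add_mul, zero_mul, mul_assoc] at h2
      have h3 : v * v⁻¹ ^ 3 = v⁻¹ ^ 2 := by
        rw [pow_succ' v⁻¹ 2, ← mul_assoc, mul_inv_cancel₀ hv0, one_mul]
      have h4 : v ^ 2 * v⁻¹ ^ 3 = v⁻¹ := by
        rw [pow_succ v 1, pow_one, mul_assoc, h3, pow_two, ← mul_assoc, mul_inv_cancel₀ hv0, one_mul]
      have h5 : v ^ 3 * v⁻¹ ^ 3 = 1 := by
        rw [← mul_inv_cancel₀ (pow_ne_zero 3 hv0), inv_pow]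
      rw [h3, h4, h5] at h2
      exact h2
    have h6 : algebraMap K A (m.coeff 0) ≠ 0 := by
      intro h
      exact hm0 (FaithfulSMul.algebraMap_injective K A (by rw [h, map_zero]))
    have h7 : aeval v⁻¹ q = algebraMap K A (m.coeff 0)⁻¹ * ((algebraMap K A (m.coeff 0)) * (v⁻¹) ^ 3 +
      (algebraMap K A (m.coeff 1)) * (v⁻¹) ^ 2 + (algebraMap K A (m.coeff 2)) * v⁻¹ + 1) := by
      have h8 : aeval v⁻¹ q = (v⁻¹) ^ 3 + algebraMap K A (m.coeff 1 / m.coeff 0) * (v⁻¹) ^ 2 +
          algebraMap K A (m.coeff 2 / m.coeff 0) * v⁻¹ + algebraMap K A (1 / m.coeff 0) := by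
        simp only [q, map_add, map_mul, aeval_C, aeval_X, map_pow]
      rw [h8]
      simp only [mul_add, ← mul_assoc, ← map_mul,
        inv_mul_cancel₀ hm0, map_one, one_mul, mul_one, one_div, div_eq_inv_mul]
    rw [h7, h1, mul_zero]
  have hq : minpoly K v⁻¹ = q := by
    symm
    apply Polynomial.eq_of_monic_of_dvd_of_natDegree_le (minpoly.monic (Algebra.IsIntegral.isIntegral _))
      hqmon (minpoly.dvd K _ hqroot)
    rw [hqdeg, hd']
  have hq2 : q.coeff 2 = m.coeff 1 / m.coeff 0 := by
    simp [q, coeff_X, coeff_C]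
  rw [hq, hq2] at hc2'
  have hm1 : m.coeff 1 = 0 := by
    have : m.coeff 1 / m.coeff 0 = 0 := by
      simpa using hc2'.symm
    rcases div_eq_zero_iff.1 this with h | h
    · exact h
    · exact absurd h hm0
  have hm2 : m.coeff 2 = 0 := by simpa using hc2.symm
  refine ⟨v, fun hsep => ?_⟩
  have h5 : derivative m = 0 := by
    ext i
    rw [coeff_derivative, coeff_zero]
    rcases i with _ | _ | _ | i
    · rw [zero_add, hm1, zero_mul]
    · rw [hm2, zero_mul]
    · have : ((3 : ℕ) : K) = 0 := CharP.cast_eq_zero K 3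
      have h7 : (((0 + 1 + 1 : ℕ) : K) + 1) = 0 := by
        rw [← this]; norm_num
      rw [h7, mul_zero]
    · rw [coeff_eq_zero_of_natDegree_lt (by omega), zero_mul]
  rw [IsSeparable, ← hm, separable_def, h5, isCoprime_zero_right] at hsep
  have h6 := natDegree_eq_zero_of_isUnit hsep
  omega

/-- Let K be a field with char K = p > 0 and A a central division K-algebra with dim_K A = p ^ 2. If p =
2 or p = 3, then some element of A is not separable over K. -/
theorem result
    (K : Type u) [Field K] (p : ℕ) [Fact p.Prime] [CharP K p]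
    (A : Type v) [DivisionRing A] [Algebra K A] [Algebra.IsCentral K A] [FiniteDimensional K A]
    (hA : Module.finrank K A = p ^ 2) (hp : p = 2 ∨ p = 3) :
    ∃ v : A, ¬ IsSeparable K v := by
  rcases hp with rfl | rfl
  · exact case_two K A hA
  · exact case_three K A hA

end Groth.Agent.S15184
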