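import Groth.Statements.S15186
import Groth.Agent.BddFin.K190.BTMain

set_option autoImplicit false
universe u
open CategoryTheory MonoidalCategory CartesianMonoidalCategory MonObj GrpObj AlgebraicGeometry
open BddFin

namespace Groth.Agent.S15186

/-- Let K be a perfect field and Γ a connected reductive K-group scheme which is anisotropic (no
homomorphism of K-group schemes 𝔾_m → Γ is a monomorphism). Then every element of finite order of
the group Γ(K) of sections Spec K → Γ has order coprime to the characteristic of K (its order is
non-zero in K). (The published statement also covers non-perfect K for Γ semisimple simply connected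
with the characteristic not a torsion prime; this row is the perfect-field case.) -/
theorem result
    (K : Type u) [Field K] [PerfectField K] (Γ : Over (Spec (CommRingCat.of K))) [GrpObj Γ]
    (hred : Red.IsReductive Γ) [ConnectedSpace Γ.left]
    (haniso : ∀ i : Red.Gm (Spec (CommRingCat.of K)) ⟶ Γ, IsMonHom i → Mono i → False)
    (x : 𝟙_ (Over (Spec (CommRingCat.of K))) ⟶ Γ) (hx : IsOfFinOrder x) :
    ((orderOf x : ℕ) : K) ≠ 0 := by
  intro h0
  obtain ⟨i, hi, hm⟩ := K190.BTMain.exists_mono_of_torsion Γ hred x hx h0
  exact haniso i hi hm

end Groth.Agent.S15186
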