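import Groth.Statements.S4895
import Groth.Agent.EGA43.K122.RectDepth2

set_option autoImplicit false
universe u
open CategoryTheory AlgebraicGeometry
open EGA43

namespace Groth.Agent.S4895

/-- Let S be a locally Noetherian scheme which is Jacobson and regular and whose irreducible components
are equidimensional (for every irreducible component S' and every closed point s of S', dim S'
equals the dimension of the space of generizations of s in S'); let g : X ⟶ S be locally of finite
type and F a coherent O_X-module. Then the rectified depth prof*_x(F) = prof(F_x) + dim cl{x} is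
lower semicontinuous on X: for every integer n, the set of points x of X with prof(F_x) + dim cl{x}
≥ n is open. -/
theorem result {X S : Scheme.{u}} [IsLocallyNoetherian S] [JacobsonSpace S]
    (hreg : ∀ s : S, IsRegularLocalRing ↑(S.presheaf.stalk s))
    (h3 : ∀ S' ∈ irreducibleComponents (S : Type u), ∀ s ∈ S', IsClosed ({s} : Set S) →
      topologicalKrullDim (↥S' : Type u) = topologicalKrullDim ↥{t : S | t ∈ S' ∧ t ⤳ s})
    (g : X ⟶ S) [LocallyOfFiniteType g] (F : X.Modules) (hF : Coh.IsCoh F) (n : ℕ) :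
    IsOpen {x : X | (n : WithBot ℕ∞) ≤
      ((LocCoh.depth ↑(X.presheaf.stalk x) ↑(F.presheaf.stalk x) : ℕ∞) : WithBot ℕ∞) +
        topologicalKrullDim ↥(closure ({x} : Set X))} := by
  rw [isOpen_iff_forall_mem_open]
  intro x₀ hx₀
  have hXN : IsLocallyNoetherian X := LocallyOfFiniteType.isLocallyNoetherian g
  by_cases hne : Nontrivial (F.presheaf.stalk x₀)
  · obtain ⟨W, d₀, δ₀, hW, hxW, hd₀, hδ₀, H⟩ := K122.RectDepth.key hreg h3 g F hF x₀ hne
    refine ⟨W, ?_, hW, hxW⟩
    intro x hx
    by_cases hnx : Nontrivial (F.presheaf.stalk x)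
    · obtain ⟨d, δ, hd, hδ, hle, -⟩ := H x hx hnx
      have h4 : (n : WithBot ℕ∞) ≤ ((LocCoh.depth ↑(X.presheaf.stalk x₀) ↑(F.presheaf.stalk x₀) : ℕ∞) : WithBot ℕ∞) +
        topologicalKrullDim ↥(closure ({x₀} : Set X)) := hx₀
      rw [hd₀, hδ₀] at h4
      change (n : WithBot ℕ∞) ≤ ((LocCoh.depth ↑(X.presheaf.stalk x) ↑(F.presheaf.stalk x) : ℕ∞) : WithBot ℕ∞) +
        topologicalKrullDim ↥(closure ({x} : Set X))
      rw [hd, hδ]
      have h5 : n ≤ d₀ + δ₀ := by exact_mod_cast h4
      have h6 : n ≤ d + δ := h5.trans hle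
      exact_mod_cast h6
    · exact K122.RectDepth2.le_of_subsingleton F x (not_nontrivial_iff_subsingleton.mp hnx) n
  · have hcl : IsClosed (CohB1.support F) := Groth.Agent.S0020.result X F hF.2
    refine ⟨(CohB1.support F)ᶜ, ?_, hcl.isOpen_compl, ?_⟩
    · intro x hx
      exact K122.RectDepth2.le_of_subsingleton F x (not_not.mp hx) n
    · intro hx
      exact hx (not_nontrivial_iff_subsingleton.mp hne)

end Groth.Agent.S4895
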