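import Groth.Statements.S18972
import Groth.Agent.ShStab.K781.Main
import Groth.Agent.ShStab.K34.NodeRed

set_option autoImplicit false
open CategoryTheory CategoryTheory.Limits AlgebraicGeometry Polynomial
universe u
open ShStab

namespace Groth.Agent.S18972

/-- Let k be an algebraically closed field and X an integral scheme, smooth and proper over k, with a
closed immersion ι into projective N-space over k compatible with the structure maps; write O_X(a) =
ι^*O(a) and take O_X(1) as the (ample) polarisation. Let 1 ≤ ℓ < d and let E be an O_X-module which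
is ℓ-semistable of dimension d: coherent, nonzero, pure of dimension d, with p_ℓ(F) ≤ p_ℓ(E) for
every coherent submodule F with 0 < α_d(F) < α_d(E), where p_ℓ is the reduced truncation of the
Hilbert polynomial to the degrees d − ℓ, …, d, compared lexicographically. Then there is a₀ such
that for every a ≥ a₀ and every finite set T of points of X some global section σ of O_X(a) has zero
scheme D = Z(σ), a closed subscheme i : D → X regarded as a scheme over k through i, containing no
point of T and such that the restriction i^*E is ℓ-semistable of dimension d − 1 on D with respect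
to the polarisation i^*O_X(1). (The published statement asserts this for a general member D of the
linear system of O_X(a), a large; this row gives, in each large degree, one member avoiding any
prescribed finite set of points.) -/
theorem result (k : Type u) [Field k] [IsAlgClosed k]
    (X : Scheme.{u}) [X.Over (Spec (CommRingCat.of k))] [IsIntegral X]
    [Smooth (X ↘ Spec (CommRingCat.of k))] [IsProper (X ↘ Spec (CommRingCat.of k))]
    (N : ℕ) (ι : X ⟶ CohB1.ProjSpace N k) [IsClosedImmersion ι]
    (hι : ι ≫ CohB1.ProjSpace.toSpec N k = X ↘ Spec (CommRingCat.of k))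
    (hL : CohB1.IsAmple ((Scheme.Modules.pullback ι).obj (Twist.twistProjSpace N k 1)))
    (d ℓ : ℕ) (hℓ : 1 ≤ ℓ) (hℓd : ℓ < d) (E : X.Modules)
    (hE : ShStab.IsEllSemistable k X ((Scheme.Modules.pullback ι).obj (Twist.twistProjSpace N k 1)) E d ℓ) :
    ∃ a₀ : ℕ, ∀ a : ℕ, a₀ ≤ a → ∀ T : Set ↥X, T.Finite →
      ∃ σ : Coh.structureModule X ⟶ (Scheme.Modules.pullback ι).obj (Twist.twistProjSpace N k (a : ℤ)),
        (∀ x ∈ T, x ∉ (PicF2.zeroScheme _ σ).support) ∧
        letI : (PicF2.zeroScheme _ σ).subscheme.Over (Spec (CommRingCat.of k)) :=
          ⟨(PicF2.zeroScheme _ σ).subschemeι ≫ X ↘ Spec (CommRingCat.of k)⟩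
        ShStab.IsEllSemistable k (PicF2.zeroScheme _ σ).subscheme
          ((Scheme.Modules.pullback (PicF2.zeroScheme _ σ).subschemeι).obj
            ((Scheme.Modules.pullback ι).obj (Twist.twistProjSpace N k 1)))
          ((Scheme.Modules.pullback (PicF2.zeroScheme _ σ).subschemeι).obj E) (d - 1) ℓ := by
  exact K34.NodeRed.red K781.Main.stmtPn k X N ι hι d ℓ hℓ hℓd E hE

end Groth.Agent.S18972
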