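import Groth.Statements.S15221
-- import your own Groth.Agent.* helpers here
import Groth.Agent.ShStab.K848.Extn
import Groth.Agent.ShStab.K848.Pt
import Groth.Agent.S1524
import Groth.Agent.CycB.CohProp

set_option autoImplicit false
open CategoryTheory CategoryTheory.Limits AlgebraicGeometry Polynomial
universe u
open ShStab

namespace Groth.Agent.S15221

open K848.Rank K848.Hull K848.Poly K848.HB K848.TF K848.Dim K848.Stab K848.Extn StabCat ShStab

theorem polyLT_smul {P Q : ℚ[X]} {c : ℚ} (hc : 0 < c) (h : PolyLT P Q) : PolyLT (c • P) (c • Q) := by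
  obtain ⟨N, hN⟩ := h
  refine ⟨N, fun m hm => ?_⟩
  have := hN m hm
  rw [Polynomial.eval_smul, Polynomial.eval_smul, smul_eq_mul, smul_eq_mul]
  exact mul_lt_mul_of_pos_left this hc

/-- the numerical core: the comparison of a subsheaf `F` with the extension `E` of `O` by `I`. -/
theorem core (k : Type u) [Field k] {X : Scheme.{u}} [X.Over (Spec (CommRingCat.of k))]
    [IsProper (X ↘ Spec (CommRingCat.of k))] [IsIntegral X] {L : X.Modules} (hL : CohB1.IsAmple L)
    {n : ℕ} (hn : topologicalKrullDim X = n) {I E : X.Modules} (hI : Coh.IsCoh I)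
    (hIt : TorSh.IsTorsionFree I) (hIr : rk I = 1)
    (hIp : hp k L I = hp k L (Coh.structureModule X) - 1)
    (i : I ⟶ E) (p : E ⟶ Coh.structureModule X) (w : i ≫ p = 0) (hS : (ShortComplex.mk i p w).ShortExact)
    (hE : Coh.IsCoh E) (hEt : TorSh.IsTorsionFree E) (hEr : rk E = 2)
    (hEp : hp k L E = 2 * hp k L (Coh.structureModule X) - 1)
    (hns : ∀ s : Coh.structureModule X ⟶ E, s ≫ p ≠ 𝟙 _)
    (F : X.Modules) (ι : F ⟶ E) [Mono ι] (hF : Coh.IsCoh F) (hF0 : ¬ IsZero F) (hiso : ¬ IsIso ι) :
    RedLT n (hp k L F) (hp k L E) := by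
  have := hS.mono_f
  have hO : Coh.IsCoh (Coh.structureModule X) := isCoh_structureModule
  have hOt : TorSh.IsTorsionFree (Coh.structureModule X) :=
    isTorsionFree_of_isFinLocFree (isFinLocFree_of_isInvertible Groth.Agent.Fdesc.LocGen.isInvertible_structureModule)
  have hpos := alpha_O_pos k hL hn
  have hFt : TorSh.IsTorsionFree F := isTorsionFree_of_mono ι hEt
  have hr0 : rk F ≠ 0 := rk_ne_zero ι hF hEt hF0
  have hr2 : rk F ≤ 2 := hEr ▸ rk_le_of_mono ι hE
  -- a nonzero cokernel has positive Hilbert polynomial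
  have key : ∀ {A B : X.Modules} (f : A ⟶ B) [Mono f] (_ : Coh.IsCoh A) (_ : Coh.IsCoh B) (_ : ¬ IsIso f),
      Coh.IsCoh (cokernel f) ∧ ¬ IsZero (cokernel f) ∧ hp k L B = hp k L A + hp k L (cokernel f) := by
    intro A B f _ hA hB hf
    have hc : Coh.IsCoh (cokernel f) := Groth.Agent.PerfA.CohSerre.isCoh_cokernel f hA.1 hB
    refine ⟨hc, fun h0 => hf ?_, ?_⟩
    · have : Epi f := Preadditive.epi_of_isZero_cokernel f h0
      exact isIso_of_mono_of_epi f
    · exact hp_add k hL.1 (S := ShortComplex.mk f (cokernel.π f) (cokernel.condition f))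
        { exact := ShortComplex.exact_cokernel f, mono_f := inferInstance, epi_g := inferInstance } hA hB hc
  have hα : alpha n (hp k L E) = 2 * alpha n (hp k L (Coh.structureModule X)) := by
    rw [alpha_rk k hL.1 hn hE, hEr]
    norm_num
  rw [RedLT]
  rcases (show rk F = 1 ∨ rk F = 2 by omega) with h1 | h2
  · -- rank one
    have hαF : alpha n (hp k L F) = alpha n (hp k L (Coh.structureModule X)) := by
      rw [alpha_rk k hL.1 hn hF, h1]
      norm_num
    have goal : PolyLT ((2 : ℚ) • hp k L F) (hp k L E) := by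
      rcases eq_zero_or_mono hF hFt h1 hO hOt (ι ≫ p) with h0 | hm
      · -- `F ⊆ I`
        let l := hS.exact.lift ι h0
        have hl : l ≫ i = ι := hS.exact.lift_f ι h0
        have : Mono (l ≫ i) := by rw [hl]; infer_instance
        have : Mono l := mono_of_mono l i
        have h3 : PolyLE (hp k L F) (hp k L I) := by
          have hc : Coh.IsCoh (cokernel l) := Groth.Agent.PerfA.CohSerre.isCoh_cokernel l hF.1 hI
          have h4 := hp_add k hL.1 (S := ShortComplex.mk l (cokernel.π l) (cokernel.condition l))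
            { exact := ShortComplex.exact_cokernel l, mono_f := inferInstance, epi_g := inferInstance } hF hI hc
          dsimp only at h4
          have h5 := hp_nonneg k hL hc
          rw [polyLE_iff, sub_zero] at h5
          rw [polyLE_iff, h4, add_sub_cancel_left]
          exact h5
        obtain ⟨N, hN⟩ := h3
        refine ⟨N, fun m hm => ?_⟩
        have h6 := hN m hm
        rw [hIp] at h6
        rw [hEp]
        simp only [Polynomial.eval_sub, Polynomial.eval_one, Polynomial.eval_mul, Polynomial.eval_ofNat,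
          Polynomial.eval_smul, smul_eq_mul] at h6 ⊢
        linarith
      · -- `F ≅ J ⊊ O`
        have hni : ¬ IsIso (ι ≫ p) := by
          intro hi
          apply hns (inv (ι ≫ p) ≫ ι)
          rw [Category.assoc, IsIso.inv_hom_id]
        obtain ⟨hc, hc0, hadd⟩ := key (ι ≫ p) hF hO hni
        obtain ⟨N, hN⟩ := hp_pos k hL hc hc0
        refine ⟨N, fun m hm => ?_⟩
        have h6 := hN m hm
        have h7 : (1 : ℚ) ≤ (hp k L (cokernel (ι ≫ p))).eval (m : ℚ) := by
          rw [← isHilbPoly_hp k hL.1 hc m] at h6 ⊢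
          rw [Polynomial.eval_zero] at h6
          have : (0 : ℤ) < Curv2.euler k X (twist X L (cokernel (ι ≫ p)) m) := by exact_mod_cast h6
          exact_mod_cast Int.add_one_le_iff.2 this
        rw [hEp, hadd]
        simp only [Polynomial.eval_sub, Polynomial.eval_one, Polynomial.eval_mul, Polynomial.eval_ofNat,
          Polynomial.eval_smul, smul_eq_mul, Polynomial.eval_add]
        linarith
    rw [hα, hαF]
    have h3 := polyLT_smul hpos goal
    rwa [smul_smul, mul_comm _ (2 : ℚ)] at h3
  · -- rank two
    have hαF : alpha n (hp k L F) = 2 * alpha n (hp k L (Coh.structureModule X)) := by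
      rw [alpha_rk k hL.1 hn hF, h2]
      norm_num
    rw [hα, hαF]
    refine polyLT_smul (by positivity) ?_
    obtain ⟨hc, hc0, hadd⟩ := key ι hF hE hiso
    have h3 := hp_pos k hL hc hc0
    rw [polyLT_iff, sub_zero] at h3
    rw [polyLT_iff, hadd, add_sub_cancel_left]
    exact h3

/-- Let k be an algebraically closed field and X an integral scheme, smooth and proper over k, of
dimension n ≥ 2, with a closed immersion ι into projective N-space over k compatible with the
structure maps, polarised by the ample O_X(1) = ι^*O(1), and suppose H^1(X, O_X) ≠ 0. Then there is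
an O_X-module E which is stable of dimension n in the sense of Gieseker (coherent, nonzero,
torsion-free, with reduced Hilbert polynomial p(F) < p(E) for every nonzero proper coherent
submodule F), of rank 2 in the sense that α_n(E) = 2 α_n(O_X) for the multiplicities of the Hilbert
polynomials, and which is not slope-stable: E has a nonzero proper coherent submodule F with 0 <
α_n(F) < α_n(E) whose ratio α_{n-1}(F)/α_n(F) equals α_{n-1}(E)/α_n(E). Here a Hilbert polynomial is
written Σ_i α_i m^i/i!. (The published example is stated over an arbitrary field and without a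
dimension bound; it uses a closed point with residue field k, so k is taken algebraically closed
here, and for n = 1 the sheaf it constructs, a non-split extension of O_X by the ideal of a point on
a curve of positive genus, is slope-stable, so n ≥ 2 is assumed.) -/
theorem result (k : Type u) [Field k] [IsAlgClosed k]
    (X : Scheme.{u}) [X.Over (Spec (CommRingCat.of k))] [IsIntegral X]
    [Smooth (X ↘ Spec (CommRingCat.of k))] [IsProper (X ↘ Spec (CommRingCat.of k))]
    (N : ℕ) (ι : X ⟶ CohB1.ProjSpace N k) [IsClosedImmersion ι]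
    (hι : ι ≫ CohB1.ProjSpace.toSpec N k = X ↘ Spec (CommRingCat.of k))
    (hL : CohB1.IsAmple ((Scheme.Modules.pullback ι).obj (Twist.twistProjSpace N k 1)))
    (n : ℕ) (hn : topologicalKrullDim ↥X = (n : WithBot ℕ∞)) (h2 : 2 ≤ n)
    (h1 : Nontrivial (Coh.HH X (Coh.structureModule X) 1)) :
    ∃ E : X.Modules, ShStab.IsStable k X ((Scheme.Modules.pullback ι).obj (Twist.twistProjSpace N k 1)) E n ∧
      (∀ pO pE : Polynomial ℚ, ShStab.IsHilbPoly k X ((Scheme.Modules.pullback ι).obj (Twist.twistProjSpace N k 1)) (Coh.structureModule X) pO →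
        ShStab.IsHilbPoly k X ((Scheme.Modules.pullback ι).obj (Twist.twistProjSpace N k 1)) E pE → StabCat.alpha n pE = 2 * StabCat.alpha n pO) ∧
      ∃ (F : X.Modules) (j : F ⟶ E), Mono j ∧ Coh.IsCoh F ∧ ¬ IsZero F ∧ ¬ IsIso j ∧
        ∀ pF pE : Polynomial ℚ, ShStab.IsHilbPoly k X ((Scheme.Modules.pullback ι).obj (Twist.twistProjSpace N k 1)) F pF → ShStab.IsHilbPoly k X ((Scheme.Modules.pullback ι).obj (Twist.twistProjSpace N k 1)) E pE →
          0 < StabCat.alpha n pF ∧ StabCat.alpha n pF < StabCat.alpha n pE ∧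
            StabCat.hatSlope n pF = StabCat.hatSlope n pE := by
  set L := (Scheme.Modules.pullback ι).obj (Twist.twistProjSpace N k 1) with hLdef
  have hO : Coh.IsCoh (Coh.structureModule X) := isCoh_structureModule
  have hOt : TorSh.IsTorsionFree (Coh.structureModule X) :=
    isTorsionFree_of_isFinLocFree (isFinLocFree_of_isInvertible Groth.Agent.Fdesc.LocGen.isInvertible_structureModule)
  obtain ⟨Q, π, hπ, hQ, hQd, hQ0, hQ1⟩ := K848.Pt.exists_point k X
  have := Groth.Agent.Fga.SnapperTwist.isNoetherian_of_proper k X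
  let j := kernel.ι π
  have hI : Coh.IsCoh (kernel π) := Groth.Agent.PerfA.CohSerre.isCoh_kernel π hO hQ.1
  have hS : (ShortComplex.mk j π (kernel.condition π)).ShortExact :=
    { exact := ShortComplex.exact_kernel π, mono_f := inferInstanceAs (Mono (kernel.ι π)), epi_g := hπ }
  have hIt : TorSh.IsTorsionFree (kernel π) := isTorsionFree_of_mono j hOt
  have hgQ : genericPoint X ∉ CohB1.support Q := by
    intro hg
    have h3 : topologicalKrullDim (CohB1.support Q) = n :=
      dim_support_eq hn hQ fun h0 => (rk_eq_zero_iff hQ).1 h0 hg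
    rw [h3] at hQd
    have : n ≤ 0 := by exact_mod_cast hQd
    omega
  have hQr : rk Q = 0 := (rk_eq_zero_iff hQ).2 hgQ
  have hIr : rk (kernel π) = 1 := by
    have h3 := rk_shortExact hS hO
    dsimp only at h3
    rw [rk_structureModule, hQr] at h3
    omega
  -- the Hilbert polynomial of the point
  have hQp : hp k L Q = 1 := by
    have h3 := natDegree_hp_le k hL.1 hQ (d := 0) (by exact_mod_cast hQd)
    obtain ⟨c, hc⟩ := Polynomial.natDegree_eq_zero.1 (Nat.le_zero.1 h3)
    have h4 := euler_eq_eval k hL.1 hQ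
    rw [hQ1, ← hc, Polynomial.eval_C] at h4
    rw [← hc, ← h4]
    simp
  have hIp : hp k L (kernel π) = hp k L (Coh.structureModule X) - 1 := by
    have h3 := hp_add k hL.1 hS hI hO hQ
    dsimp only at h3
    rw [h3, hQp]
    ring
  have hQH : Subsingleton (Coh.HH X Q 1) :=
    Groth.Agent.Fga.HodgeSec.subsingleton_HH_of_support k hQ 0 (by exact_mod_cast hQd) 1 (by norm_num)
  obtain ⟨E, i, p, w, hE, hns⟩ := exists_nonsplit j π (kernel.condition π) hS hQH h1
  have hEc : Coh.IsCoh E := Groth.Agent.CycB.CohProp.isCoh_extension _ hE hI hO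
  have hEt : TorSh.IsTorsionFree E := isTorsionFree_extension hE hIt hOt
  have hEr : rk E = 2 := by
    have h3 := rk_shortExact hE hEc
    dsimp only at h3
    rw [rk_structureModule, hIr] at h3
    exact h3
  have hEp : hp k L E = 2 * hp k L (Coh.structureModule X) - 1 := by
    have h3 := hp_add k hL.1 hE hI hEc hO
    dsimp only at h3
    rw [h3, hIp]
    ring
  have hα := alpha_O_pos k hL hn
  have hαE : alpha n (hp k L E) = 2 * alpha n (hp k L (Coh.structureModule X)) := by
    rw [alpha_rk k hL.1 hn hEc, hEr]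
    norm_num
  have hαI : alpha n (hp k L (kernel π)) = alpha n (hp k L (Coh.structureModule X)) := by
    rw [alpha_rk k hL.1 hn hI, hIr]
    norm_num
  refine ⟨E, ⟨hEc, ?_, isPure_of_isTorsionFree hn hEt, ?_⟩, ?_, kernel π, i, hE.mono_f, hI, ?_, ?_, ?_⟩
  · intro h0
    rw [hp_isZero k hL.1 h0] at hαE
    simp only [alpha, Polynomial.coeff_zero, mul_zero] at hαE
    rw [alpha] at hα
    linarith
  · intro F ι' hι' hF hF0 hiso pF pE hpF hpE
    rw [eq_hp k hpF, eq_hp k hpE]
    exact core k hL hn hI hIt hIr hIp i p w hE hEc hEt hEr hEp hns F ι' hF hF0 hiso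
  · intro pO pE hpO hpE
    rw [eq_hp k hpO, eq_hp k hpE, hαE]
  · intro h0
    rw [hp_isZero k hL.1 h0] at hαI
    rw [← hαI] at hα
    simp [alpha] at hα
  · intro hi
    have h3 := rk_iso (asIso i)
    omega
  · intro pF pE hpF hpE
    rw [eq_hp k hpF, eq_hp k hpE, hatSlope, hatSlope, hαI, hαE]
    refine ⟨hα, by linarith, ?_⟩
    have h3 : alpha (n - 1) (1 : ℚ[X]) = 0 := by
      rw [alpha, Polynomial.coeff_one, if_neg (by omega), mul_zero]
    have h4 : alpha (n - 1) (2 * hp k L (Coh.structureModule X)) =
        2 * alpha (n - 1) (hp k L (Coh.structureModule X)) := by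
      rw [two_mul, alpha_add]
      ring
    rw [hIp, hEp, alpha_sub, alpha_sub, h3, h4, sub_zero, sub_zero]
    field_simp

end Groth.Agent.S15221
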