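import Groth.Statements.S15224
import Mathlib.Data.Nat.Choose.Sum
import Mathlib.Data.Nat.Choose.Cast
import Mathlib.Algebra.Module.BigOperators
import Mathlib.Tactic.Ring
import Mathlib.Tactic.Linarith
import Mathlib.Tactic.FieldSimp

set_option autoImplicit false
open Finset
open W4c2rk2extmaps

namespace Groth.Agent.S15224

/-- In a commutative ℚ-algebra R let y be an element and put c_k = y^k / k! for every k. Then for k ≥ 2,
Σ_{i=1}^{k-1} (-1)^(i-1) c_i c_(k-i) + (-1)^(k-1) c_k = c_k. (The published statement concerns the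
Chern classes of a specific vector bundle on a Jacobian, which are of the form c_k = (4θ)^k / k!;
the printed argument establishes the identity for every sequence of this form in a commutative
ℚ-algebra, which is the form stated here.) -/
theorem result (R : Type*) [CommRing R] [Algebra ℚ R] (y : R)
    (c : ℕ → R) (hc : ∀ k : ℕ, c k = ((Nat.factorial k : ℚ)⁻¹) • y ^ k)
    (k : ℕ) (hk : 2 ≤ k) :
    (∑ i ∈ Finset.Ico 1 k, (-1 : R) ^ (i - 1) * c i * c (k - i)) + (-1 : R) ^ (k - 1) * c k = c k := by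
  -- the rational identity
  have hQ : (∑ i ∈ Finset.Ico 1 k, (-1 : ℚ) ^ (i - 1) * ((Nat.factorial i : ℚ)⁻¹ * (Nat.factorial (k - i) : ℚ)⁻¹))
      + (-1 : ℚ) ^ (k - 1) * (Nat.factorial k : ℚ)⁻¹ = (Nat.factorial k : ℚ)⁻¹ := by
    have h0 : ∑ i ∈ Finset.range (k + 1), ((-1) ^ i * (k.choose i) : ℤ) = 0 := by
      rw [Int.alternating_sum_range_choose]
      rw [if_neg (by omega)]
    have h1 : ∑ i ∈ Finset.range (k + 1), ((-1 : ℚ) ^ i * (k.choose i : ℚ)) = 0 := by
      exact_mod_cast h0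
    rw [Finset.sum_range_succ, Finset.range_eq_Ico, Finset.sum_eq_sum_Ico_succ_bot (by omega)] at h1
    simp only [pow_zero, Nat.choose_zero_right, Nat.cast_one, mul_one, Nat.choose_self, zero_add] at h1
    have hf : (Nat.factorial k : ℚ) ≠ 0 := by exact_mod_cast Nat.factorial_ne_zero k
    have h2 : ∀ i ∈ Finset.Ico 1 k, (-1 : ℚ) ^ (i - 1) * ((Nat.factorial i : ℚ)⁻¹ * (Nat.factorial (k - i) : ℚ)⁻¹)
        = - ((-1 : ℚ) ^ i * (k.choose i : ℚ)) * (Nat.factorial k : ℚ)⁻¹ := by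
      intro i hi
      rw [Finset.mem_Ico] at hi
      have h3 : (k.choose i : ℚ) = (Nat.factorial k : ℚ) / ((Nat.factorial i : ℚ) * (Nat.factorial (k - i) : ℚ)) :=
        Nat.cast_choose ℚ (by omega)
      have h4 : (-1 : ℚ) ^ i = - (-1 : ℚ) ^ (i - 1) := by
        obtain ⟨j, rfl⟩ : ∃ j, i = j + 1 := ⟨i - 1, by omega⟩
        simp [pow_succ]
      have hfi : (Nat.factorial i : ℚ) ≠ 0 := by exact_mod_cast Nat.factorial_ne_zero i
      have hfk : (Nat.factorial (k - i) : ℚ) ≠ 0 := by exact_mod_cast Nat.factorial_ne_zero (k - i)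
      rw [h3, h4]
      field_simp
    have h5 : (-1 : ℚ) ^ k = - (-1 : ℚ) ^ (k - 1) := by
      obtain ⟨j, rfl⟩ : ∃ j, k = j + 1 := ⟨k - 1, by omega⟩
      simp [pow_succ]
    rw [Finset.sum_congr rfl h2, ← Finset.sum_mul, Finset.sum_neg_distrib]
    rw [h5] at h1
    have h6 : ∑ i ∈ Finset.Ico 1 k, (-1 : ℚ) ^ i * (k.choose i : ℚ) = (-1 : ℚ) ^ (k - 1) - 1 := by
      linarith
    rw [h6]
    ring
  have hR : ∀ i ∈ Finset.Ico 1 k, (-1 : R) ^ (i - 1) * c i * c (k - i)
      = ((-1 : ℚ) ^ (i - 1) * ((Nat.factorial i : ℚ)⁻¹ * (Nat.factorial (k - i) : ℚ)⁻¹)) • y ^ k := by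
    intro i hi
    rw [Finset.mem_Ico] at hi
    rw [hc i, hc (k - i)]
    have h7 : y ^ k = y ^ i * y ^ (k - i) := by
      rw [← pow_add]; congr 1; omega
    rw [h7]
    simp only [Algebra.smul_def, map_mul, map_pow, map_neg, map_one]
    ring
  have hR2 : (-1 : R) ^ (k - 1) * c k = ((-1 : ℚ) ^ (k - 1) * (Nat.factorial k : ℚ)⁻¹) • y ^ k := by
    rw [hc k]
    simp only [Algebra.smul_def, map_mul, map_pow, map_neg, map_one]
    ring
  rw [Finset.sum_congr rfl hR, hR2, ← Finset.sum_smul, ← add_smul, hQ, hc k]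

end Groth.Agent.S15224
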