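import Groth.Statements.S15225
import Groth.Agent.VBCurve.K707.PairInv
import Groth.Agent.VBCurve.K705.Nilp
import Groth.Agent.CurvesB.OmegaInv

set_option autoImplicit false
open CategoryTheory CategoryTheory.Limits AlgebraicGeometry MonoidalCategory
open VBCurve

namespace Groth.Agent.S15225

open Groth.Agent.VarietyA.DegRank K707.Base K707.Deg K707.Slope K707.Semi K707.TensL


/-- Let X be a smooth proper integral curve over ℂ of genus at least 2 which is non-hyperelliptic (no
invertible module of degree 2 has two independent global sections), K a module isomorphic to its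
sheaf of differentials, and E a slope-stable finite locally free module of rank 2 and degree 0 or 1
(degrees are χ(−) minus rank times χ(O_X)). Call E very stable when every O_X-linear map α : E → E ⊗
K with α ∘ α = 0 (the composite E → E ⊗ K → (E ⊗ K) ⊗ K) is zero; for rank 2 this is the absence of
non-zero nilpotent K-valued endomorphisms. Then E fails to be very stable exactly when E has a line
subbundle L, i.e. an invertible submodule whose quotient E/L is invertible, together with a non-zero
O_X-linear map E/L → L ⊗ K. (With det E = Λ and L the dual of a line bundle L₀ the space of such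
maps is H^0(K ⊗ L₀^{-2} ⊗ Λ^{-1}), which is how the criterion is usually written.) -/
theorem result
    (X : Scheme.{0}) [X.Over (Spec (CommRingCat.of ℂ))] [IsIntegral X]
    [IsProper (X ↘ Spec (CommRingCat.of ℂ))] [Smooth (X ↘ Spec (CommRingCat.of ℂ))]
    (hdim : topologicalKrullDim X = 1) (hg : 2 ≤ Curv2.genus ℂ X)
    (hnh : ∀ M : X.Modules, PicF.IsInvertible M → Curv2.deg ℂ X M 1 = 2 →
      Module.finrank ℂ (Coh.HH X M 0) ≤ 1)
    (K : X.Modules) (eK : K ≅ Omega.sheaf (X ↘ Spec (CommRingCat.of ℂ)))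
    (E : X.Modules) (hE : FlatMod.IsFinLocFreeOfRank 2 E)
    (hdegE : Curv2.deg ℂ X E 2 = 0 ∨ Curv2.deg ℂ X E 2 = 1)
    (hst : ModFun.IsSlopeStable ℂ X E 2) :
    (¬ ∀ α : E ⟶ CohB1.tensorMod E K,
        α ≫ (CohB1.sheafifyMod X).map
          (MonoidalCategoryStruct.whiskerRight (C := CohB1.PMod X) α.val (CohB1.toPMod K)) = 0 → α = 0) ↔
      ∃ (L : X.Modules) (j : L ⟶ E), PicF.IsInvertible L ∧ Mono j ∧ PicF.IsInvertible (cokernel j) ∧
        ∃ β : cokernel j ⟶ CohB1.tensorMod L K, β ≠ 0 := by
  let C : Crv ℂ X := Crv.of_smooth hdim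
  have hvE := isFinLocFree_of_rank hE
  have hKinv : PicF.IsInvertible K := by
    rw [← rank_one_iff]
    exact rank_iso eK.symm (rank_one_iff.mpr (Groth.Agent.CurvesB.OmegaInv.isInvertible_omega _ hdim))
  have hvK := vb_of_inv hKinv
  have := preservesFiniteLimits hvK
  have hEK := isEquivalence hKinv
  have hTE : FlatMod.IsFinLocFree ((T K).obj E) := by
    have := isLocNoeth C
    exact vb_tensor hvE hvK
  constructor
  · intro h
    rw [not_forall] at h
    obtain ⟨α', h⟩ := h
    rw [Classical.not_imp] at h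
    obtain ⟨hα', hα0'⟩ := h
    obtain ⟨α, hα, hα0⟩ : ∃ α : E ⟶ (T K).obj E, α ≫ (T K).map α = 0 ∧ ¬ α = 0 := ⟨α', hα', hα0'⟩
    obtain ⟨β, hβ⟩ := K705.Nilp.exists_factor (T K) α hα
    have hβ0 : β ≠ 0 := by
      rintro rfl
      apply hα0
      rw [← hβ, zero_comp, comp_zero]
    have hvL : FlatMod.IsFinLocFree (kernel α) := vb_kernel C α hvE (coh_of_vb hTE)
    have hvQ : FlatMod.IsFinLocFree (cokernel (kernel.ι α)) :=
      vb_of_mono (N := (T K).obj E) C (Abelian.factorThruCoimage α)
        (coh_cokernel _ (coh_of_vb hvL) (coh_of_vb hvE)) hTE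
    have e1 := (mono_numbers C (kernel.ι α) (coh_of_vb hvL) (coh_of_vb hvE)).1
    rw [rk_of_rank hE] at e1
    have p1 : rk (kernel α) ≠ 0 := fun h0 => by
      have hz : IsZero (kernel α) := isZero_of_rk_eq_zero C hvL h0
      apply hβ0
      exact (Functor.map_isZero (T K) hz).eq_of_tgt _ _
    have p2 : rk (cokernel (kernel.ι α)) ≠ 0 := fun h0 => by
      have hz : IsZero (cokernel (kernel.ι α)) := isZero_of_rk_eq_zero C hvQ h0
      exact hβ0 (hz.eq_of_src _ _)
    have q1 : rk (kernel α) = 1 := by omega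
    have q2 : rk (cokernel (kernel.ι α)) = 1 := by omega
    refine ⟨kernel α, kernel.ι α, ?_, inferInstance, ?_, β, hβ0⟩
    · rw [← rank_one_iff, ← q1]
      exact isFinLocFreeOfRank_rk hvL
    · rw [← rank_one_iff, ← q2]
      exact isFinLocFreeOfRank_rk hvQ
  · rintro ⟨L, j, hL, hj, hQ, β, hβ⟩ h
    exact K705.Nilp.ne_zero (T K) j β hβ (h _ (K705.Nilp.square_zero (T K) j β))

end Groth.Agent.S15225
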