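import Groth.Statements.S15229
import Groth.Agent.S15224

set_option autoImplicit false
open Finset
open W4c2rk2extmaps

namespace Groth.Agent.S15229

/-- In a commutative ℚ-algebra R let θ, η be elements and g a natural number, and put c_k = (4θ)^k / k!.
Suppose θ^(g+1) = 0 and that η satisfies the relation η^(g+1) = Σ_{i=1}^{g+1} (-1)^(i-1) c_i
η^(g+1-i). Then η^(g+k) θ^(g-k) = c_k η^g θ^(g-k) for every 1 ≤ k ≤ g. (The published statement
concerns the first Chern class η of the tautological line bundle on a projective bundle P(U) over a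
g-dimensional Jacobian, with c_k the Chern classes of U, which are (4θ)^k / k!; there θ^(g+1)
vanishes for dimension reasons and the displayed relation is the projective-bundle relation, and the
printed argument derives the identity from exactly these three inputs, which is the form stated
here.) -/
theorem result (R : Type*) [CommRing R] [Algebra ℚ R]
    (θ η : R) (g : ℕ) (c : ℕ → R) (hc : ∀ k : ℕ, c k = ((Nat.factorial k : ℚ)⁻¹) • ((4 : R) * θ) ^ k)
    (hθ : θ ^ (g + 1) = 0)
    (hrel : η ^ (g + 1) = ∑ i ∈ Finset.Ico 1 (g + 2), (-1 : R) ^ (i - 1) * c i * η ^ (g + 1 - i))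
    (k : ℕ) (hk1 : 1 ≤ k) (hkg : k ≤ g) :
    η ^ (g + k) * θ ^ (g - k) = c k * η ^ g * θ ^ (g - k) := by
  have hc0 : c 0 = 1 := by simp [hc]
  -- `c i = d i * θ ^ i`
  have hd : ∀ i : ℕ, ∃ d : R, c i = d * θ ^ i := by
    intro i
    refine ⟨algebraMap ℚ R ((Nat.factorial i : ℚ)⁻¹) * 4 ^ i, ?_⟩
    rw [hc i, Algebra.smul_def, mul_pow]
    ring
  have hθ' : ∀ m : ℕ, g + 1 ≤ m → θ ^ m = 0 := by
    intro m hm
    obtain ⟨j, rfl⟩ := Nat.exists_eq_add_of_le hm
    rw [pow_add, hθ, zero_mul]
  -- the recursion identity, for all `k ≥ 1`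
  have hrec : ∀ k : ℕ, 1 ≤ k → (∑ i ∈ Finset.Ico 1 k, (-1 : R) ^ (i - 1) * c i * c (k - i))
      + (-1 : R) ^ (k - 1) * c k = c k := by
    intro k hk
    rcases Nat.lt_or_ge k 2 with h | h
    · obtain rfl : k = 1 := by omega
      simp
    · exact Groth.Agent.S15224.result R (4 * θ) c hc k h
  have key : ∀ k : ℕ, k ≤ g → η ^ (g + k) * θ ^ (g - k) = c k * η ^ g * θ ^ (g - k) := by
    intro k
    induction k using Nat.strong_induction_on with
    | _ k ih =>
      intro hkg
      rcases Nat.eq_zero_or_pos k with rfl | hk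
      · simp [hc0]
      · have h1 : η ^ (g + k) = η ^ (k - 1) * η ^ (g + 1) := by
          rw [← pow_add]; congr 1; omega
        have h2 : ∀ i ∈ Finset.Ico 1 (g + 2),
            η ^ (k - 1) * ((-1 : R) ^ (i - 1) * c i * η ^ (g + 1 - i)) * θ ^ (g - k) =
            if i < k + 1 then ((-1 : R) ^ (i - 1) * c i * c (k - i)) * (η ^ g * θ ^ (g - k)) else 0 := by
          intro i hi
          rw [Finset.mem_Ico] at hi
          obtain ⟨d, hdi⟩ := hd i
          have h3 : η ^ (k - 1) * η ^ (g + 1 - i) = η ^ (g + k - i) := by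
            rw [← pow_add]; congr 1; omega
          have h4 : θ ^ i * θ ^ (g - k) = θ ^ (g - k + i) := by
            rw [← pow_add]; congr 1; omega
          split_ifs with hik
          · have h5 := ih (k - i) (by omega) (by omega)
            have h6 : g + (k - i) = g + k - i := by omega
            have h7 : g - (k - i) = g - k + i := by omega
            rw [h6, h7] at h5
            calc η ^ (k - 1) * ((-1 : R) ^ (i - 1) * c i * η ^ (g + 1 - i)) * θ ^ (g - k)
                = (-1 : R) ^ (i - 1) * d * ((η ^ (k - 1) * η ^ (g + 1 - i)) * (θ ^ i * θ ^ (g - k))) := by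
                  rw [hdi]; ring
              _ = (-1 : R) ^ (i - 1) * d * (η ^ (g + k - i) * θ ^ (g - k + i)) := by rw [h3, h4]
              _ = (-1 : R) ^ (i - 1) * d * (c (k - i) * η ^ g * θ ^ (g - k + i)) := by rw [h5]
              _ = (-1 : R) ^ (i - 1) * d * (c (k - i) * η ^ g * (θ ^ i * θ ^ (g - k))) := by rw [h4]
              _ = ((-1 : R) ^ (i - 1) * (d * θ ^ i) * c (k - i)) * (η ^ g * θ ^ (g - k)) := by ring
              _ = ((-1 : R) ^ (i - 1) * c i * c (k - i)) * (η ^ g * θ ^ (g - k)) := by rw [hdi]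
          · calc η ^ (k - 1) * ((-1 : R) ^ (i - 1) * c i * η ^ (g + 1 - i)) * θ ^ (g - k)
                = (-1 : R) ^ (i - 1) * d * ((η ^ (k - 1) * η ^ (g + 1 - i)) * (θ ^ i * θ ^ (g - k))) := by
                  rw [hdi]; ring
              _ = 0 := by rw [h4, hθ' _ (by omega)]; ring
        have h8 : (∑ i ∈ Finset.Ico 1 (g + 2),
            if i < k + 1 then ((-1 : R) ^ (i - 1) * c i * c (k - i)) * (η ^ g * θ ^ (g - k)) else 0)
            = ∑ i ∈ Finset.Ico 1 (k + 1), ((-1 : R) ^ (i - 1) * c i * c (k - i)) * (η ^ g * θ ^ (g - k)) := by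
          rw [← Finset.sum_filter]
          congr 1
          ext i
          simp only [Finset.mem_filter, Finset.mem_Ico]
          omega
        calc η ^ (g + k) * θ ^ (g - k)
            = η ^ (k - 1) * (∑ i ∈ Finset.Ico 1 (g + 2), (-1 : R) ^ (i - 1) * c i * η ^ (g + 1 - i))
                * θ ^ (g - k) := by rw [h1, hrel]
          _ = ∑ i ∈ Finset.Ico 1 (g + 2),
                η ^ (k - 1) * ((-1 : R) ^ (i - 1) * c i * η ^ (g + 1 - i)) * θ ^ (g - k) := by
              rw [Finset.mul_sum, Finset.sum_mul]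
          _ = ∑ i ∈ Finset.Ico 1 (k + 1),
                ((-1 : R) ^ (i - 1) * c i * c (k - i)) * (η ^ g * θ ^ (g - k)) := by
              rw [Finset.sum_congr rfl h2, h8]
          _ = (∑ i ∈ Finset.Ico 1 k, (-1 : R) ^ (i - 1) * c i * c (k - i)
                + (-1 : R) ^ (k - 1) * c k * c (k - k)) * (η ^ g * θ ^ (g - k)) := by
              rw [← Finset.sum_mul, Finset.sum_Ico_succ_top hk]
          _ = (∑ i ∈ Finset.Ico 1 k, (-1 : R) ^ (i - 1) * c i * c (k - i)
                + (-1 : R) ^ (k - 1) * c k) * (η ^ g * θ ^ (g - k)) := by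
              rw [Nat.sub_self, hc0, mul_one]
          _ = c k * η ^ g * θ ^ (g - k) := by rw [hrec k hk]; ring
  exact key k hkg

end Groth.Agent.S15229
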