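import Groth.Statements.S19179
import Groth.Agent.PrinPart.K983.NbhdCl
import Groth.Agent.PrinPart.K983.ChiPP
import Groth.Agent.Nrm16.K137.Finite
import Groth.Agent.S1184
import Groth.Agent.S1612
import Groth.Agent.Picfga.CurveRelDim
import Groth.Agent.Picfga.SecGraph

set_option autoImplicit false
universe u
open CategoryTheory CategoryTheory.Limits AlgebraicGeometry
open PrinPart

namespace Groth.Agent.S19179

open K983.ChiPP K983.NbhdCl Groth.Agent.Fdesc.LocGen Groth.Agent.Dix.IdealModCartier

/-- The diagonal of a smooth separated curve is an effective Cartier divisor. -/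
theorem isEff_diagonal {X S : Scheme.{u}} (f : X ⟶ S) [SmoothOfRelativeDimension 1 f] [IsSeparated f] :
    BlowUp.IsEffCartierIdeal (pullback.diagonal f).ker := by
  have h0 : MorphismProperty.IsStableUnderBaseChange (@SmoothOfRelativeDimension.{u} 1) :=
    smoothOfRelativeDimension_isStableUnderBaseChange 1
  have h : SmoothOfRelativeDimension 1 (pullback.fst f f) :=
    MorphismProperty.pullback_fst (P := @SmoothOfRelativeDimension.{u} 1) f f inferInstance
  refine ((S1184.result (pullback.fst f f) (pullback.diagonal f).ker).2 ?_).1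
  obtain ⟨e, he, h⟩ := Picfga.SecGraph.exists_iso_ker_subscheme (pullback.diagonal f)
  rw [← h, Category.assoc, pullback.diagonal_fst, Category.comp_id]
  exact ⟨inferInstance, inferInstance, inferInstance⟩

/-- Degree of the jet module: this is the computation carried out in the proof. Let k be a field and X a
smooth proper integral scheme of dimension 1 over k whose space of global functions is
one-dimensional, of genus g (the k-dimension of H¹(X, O_X)); let L be an invertible O_X-module of
degree d and m ≥ 0. The module of principal parts of order m of L relative to X → Spec k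
(pushforward to the first factor of the pullback of L to the m-th infinitesimal neighbourhood of the
diagonal) is locally free of rank m + 1, and its degree, computed as for a locally free module of
rank m + 1, equals (m + 1) d + (2g − 2) · m (m + 1)/2. (The source uses this to count the inflection
points of a non-degenerate map to projective (m+1)−1-space given by m + 1 sections of L: when
finite, the inflection subscheme has this degree.) -/
theorem result (k : Type u) [Field k] (X : Scheme.{u})
    [X.Over (Spec (CommRingCat.of k))] [IsIntegral X]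
    [IsProper (X ↘ (Spec (CommRingCat.of k)))] [Smooth (X ↘ (Spec (CommRingCat.of k)))]
    (hdim : topologicalKrullDim X = 1)
    (h0 : Module.finrank k (Coh.HH X (Coh.structureModule X) 0) = 1)
    (L : X.Modules) (hL : PicF.IsInvertible L) (m : ℕ) :
    Curv2.deg k X (PrinPart.PMod (X ↘ (Spec (CommRingCat.of k))) m L) (m + 1) =
      (m + 1 : ℤ) * Curv2.deg k X L 1 +
        (2 * (Curv2.genus k X : ℤ) - 2) * ((m * (m + 1) / 2 : ℕ) : ℤ) := by
  have hsm : SmoothOfRelativeDimension 1 (X ↘ (Spec (CommRingCat.of k))) :=
    Picfga.CurveRelDim.smoothOfRelativeDimension_of_topologicalKrullDim_eq k X _ 1 (by simpa using hdim)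
  have hlft : LocallyOfFiniteType (X ↘ (Spec (CommRingCat.of k))) := inferInstance
  have hI := isEff_diagonal (X ↘ (Spec (CommRingCat.of k)))
  let iP : (pullback (X ↘ (Spec (CommRingCat.of k))) (X ↘ (Spec (CommRingCat.of k)))).Over
      (Spec (CommRingCat.of k)) := ⟨pullback.fst _ _ ≫ (X ↘ (Spec (CommRingCat.of k)))⟩
  let iE : (nbhd (X ↘ (Spec (CommRingCat.of k))) m).Over (Spec (CommRingCat.of k)) :=
    ⟨pr1 (X ↘ (Spec (CommRingCat.of k))) m ≫ (X ↘ (Spec (CommRingCat.of k)))⟩
  have hP : IsProper ((pullback (X ↘ (Spec (CommRingCat.of k))) (X ↘ (Spec (CommRingCat.of k)))) ↘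
      (Spec (CommRingCat.of k))) :=
    inferInstanceAs (IsProper (pullback.fst _ _ ≫ (X ↘ (Spec (CommRingCat.of k)))))
  have hfin : IsFinite (pr1 (X ↘ (Spec (CommRingCat.of k))) m) := inferInstance
  have hE : IsProper ((nbhd (X ↘ (Spec (CommRingCat.of k))) m) ↘ (Spec (CommRingCat.of k))) :=
    inferInstanceAs (IsProper (pr1 (X ↘ (Spec (CommRingCat.of k))) m ≫ (X ↘ (Spec (CommRingCat.of k)))))
  have hnX : IsLocallyNoetherian X := LocallyOfFiniteType.isLocallyNoetherian (X ↘ (Spec (CommRingCat.of k)))
  have hnE : IsLocallyNoetherian (nbhd (X ↘ (Spec (CommRingCat.of k))) m) :=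
    LocallyOfFiniteType.isLocallyNoetherian ((nbhd (X ↘ (Spec (CommRingCat.of k))) m) ↘ (Spec (CommRingCat.of k)))
  have hM : PicF.IsInvertible ((Scheme.Modules.pullback
      (pullback.snd (X ↘ (Spec (CommRingCat.of k))) (X ↘ (Spec (CommRingCat.of k))))).obj L) :=
    isInvertible_pullback _ hL
  have hchi := chi_nbhd k (pullback.diagonal (X ↘ (Spec (CommRingCat.of k))))
    (show pullback.diagonal _ ≫ pullback.fst _ _ ≫ _ = _ by rw [pullback.diagonal_fst_assoc]) hI
    (nbhdι (X ↘ (Spec (CommRingCat.of k))) m)
    (show nbhdι _ m ≫ pullback.fst _ _ ≫ _ = pr1 _ m ≫ _ by rw [pr1, Category.assoc]) m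
    (ker_nbhdι _ m) hM
  -- the direct image
  have hpush : Curv2.euler k X (PrinPart.PMod (X ↘ (Spec (CommRingCat.of k))) m L) =
      Curv2.euler k (nbhd (X ↘ (Spec (CommRingCat.of k))) m)
        ((Scheme.Modules.pullback (nbhdι (X ↘ (Spec (CommRingCat.of k))) m)).obj
          ((Scheme.Modules.pullback
      (pullback.snd (X ↘ (Spec (CommRingCat.of k))) (X ↘ (Spec (CommRingCat.of k))))).obj L)) := by
    have hG : PicF.IsInvertible ((Scheme.Modules.pullback (pr2 (X ↘ (Spec (CommRingCat.of k))) m)).obj L) :=
      isInvertible_pullback _ hL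
    have e1 : (Scheme.Modules.pullback (nbhdι (X ↘ (Spec (CommRingCat.of k))) m)).obj
          ((Scheme.Modules.pullback
      (pullback.snd (X ↘ (Spec (CommRingCat.of k))) (X ↘ (Spec (CommRingCat.of k))))).obj L) ≅
        (Scheme.Modules.pullback (pr2 (X ↘ (Spec (CommRingCat.of k))) m)).obj L :=
      (Scheme.Modules.pullbackComp _ _).app L
    rw [CurvesC.DegIso.euler_congr k e1]
    exact (Fga.HodgePush.euler_push k X _ (pr1 (X ↘ (Spec (CommRingCat.of k))) m) rfl _
      (Groth.Agent.S2329.isCoh_of_isInvertible hG) (Fga.HodgePush.acyc_of_isAffineHom _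
        (Groth.Agent.S2329.isCoh_of_isInvertible hG).1)).symm
  -- the terms
  have hΩ := (S1612.result k X ⟨inferInstance, inferInstance, inferInstance, hdim⟩ h0).2
  have hΩinv : PicF.IsInvertible (Omega.sheaf (X ↘ (Spec (CommRingCat.of k)))) :=
    isInvertible_pullback _ (isInvertible_idealMod hI)
  have hterm : ∀ j : ℕ, Curv2.deg k X ((Scheme.Modules.pullback (pullback.diagonal (X ↘ (Spec (CommRingCat.of k))))).obj
      (twist (pullback.diagonal (X ↘ (Spec (CommRingCat.of k)))).ker ((Scheme.Modules.pullback
      (pullback.snd (X ↘ (Spec (CommRingCat.of k))) (X ↘ (Spec (CommRingCat.of k))))).obj L) j)) 1 =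
      Curv2.deg k X L 1 + j * (2 * (Curv2.genus k X : ℤ) - 2) := by
    intro j
    induction j with
    | zero =>
      have e2 : (Scheme.Modules.pullback (pullback.diagonal (X ↘ (Spec (CommRingCat.of k))))).obj
          ((Scheme.Modules.pullback
            (pullback.snd (X ↘ (Spec (CommRingCat.of k))) (X ↘ (Spec (CommRingCat.of k))))).obj L) ≅ L :=
        (Scheme.Modules.pullbackComp _ _).app L ≪≫
          (Scheme.Modules.pullbackCongr (pullback.diagonal_snd _)).app L ≪≫ (Scheme.Modules.pullbackId X).app L
      rw [twist, Dix.InterNum.deg_congr k X hdim e2]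
      simp
    | succ j ih =>
      rw [twist, Dix.InterNum.deg_congr k X hdim (Ega3B.PullTensor.pullTensorIso _ (isInvertible_idealMod hI)
        (isInvertible_twist (isInvertible_idealMod hI) hM j)),
        Dix.InterNum.deg_tensor k X hdim (isInvertible_pullback _ (isInvertible_idealMod hI))
        (isInvertible_pullback _ (isInvertible_twist (isInvertible_idealMod hI) hM j)), ih]
      have : Curv2.deg k X ((Scheme.Modules.pullback (pullback.diagonal (X ↘ (Spec (CommRingCat.of k))))).obj
          (ClSub.idealMod (pullback.diagonal (X ↘ (Spec (CommRingCat.of k)))).ker)) 1 =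
          2 * (Curv2.genus k X : ℤ) - 2 := hΩ
      rw [this]
      push_cast
      ring
  have hdeg : ∀ N : X.Modules, Curv2.euler k X N = Curv2.deg k X N 1 +
      Curv2.euler k X (Coh.structureModule X) := by
    intro N
    simp [Curv2.deg]
  have hsum : ∑ j ∈ Finset.range (m + 1), (Curv2.deg k X L 1 + j * (2 * (Curv2.genus k X : ℤ) - 2) +
      Curv2.euler k X (Coh.structureModule X)) = (m + 1 : ℤ) * Curv2.deg k X L 1 +
      (2 * (Curv2.genus k X : ℤ) - 2) * ((m * (m + 1) / 2 : ℕ) : ℤ) + (m + 1) *
      Curv2.euler k X (Coh.structureModule X) := by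
    have h1 : ∑ j ∈ Finset.range (m + 1), (j : ℤ) = ((m * (m + 1) / 2 : ℕ) : ℤ) := by
      rw [← Nat.cast_sum, Finset.sum_range_id]
      congr 1
      rw [Nat.add_sub_cancel, mul_comm]
    rw [Finset.sum_add_distrib, Finset.sum_add_distrib, ← Finset.sum_mul, h1]
    simp
    ring
  rw [Curv2.deg, hpush, hchi]
  simp_rw [hdeg ((Scheme.Modules.pullback (pullback.diagonal _)).obj _), hterm]
  rw [hsum]
  push_cast
  ring

end Groth.Agent.S19179
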