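import Groth.Statements.S15230
import Groth.Agent.VBCurve.K553.SubMain

set_option autoImplicit false
open CategoryTheory CategoryTheory.Limits AlgebraicGeometry MonoidalCategory
open VBCurve

namespace Groth.Agent.S15230

/-- Let X be a smooth proper integral curve over ℂ of genus g ≥ 2 which is non-hyperelliptic, K a module
isomorphic to its sheaf of differentials, and E a slope-stable finite locally free module of rank 2
and degree 0 or 1 which is very stable (every O_X-linear α : E → E ⊗ K with α ∘ α = 0 vanishes).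
Assume deg E + g is odd and that E has Segre invariant g − 1, i.e. every invertible module M mapping
monomorphically into E has 2 deg M + (g − 1) ≤ deg E, with equality for some M (the invertible
submodules attaining equality are the maximal line subbundles; they are automatically saturated).
Then E has exactly 2^g maximal line subbundles: there are 2^g invertible modules L_i with
monomorphisms j_i : L_i → E attaining equality, pairwise different as subobjects of E (no
isomorphism L_i ≅ L_i' commutes with the two maps unless i = i'), and every invertible M with a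
monomorphism m : M → E attaining equality agrees with one of them as a subobject (an isomorphism M ≅
L_i carries j_i to m). -/
theorem result
    (X : Scheme.{0}) [X.Over (Spec (CommRingCat.of ℂ))] [IsIntegral X]
    [IsProper (X ↘ Spec (CommRingCat.of ℂ))] [Smooth (X ↘ Spec (CommRingCat.of ℂ))]
    (hdim : topologicalKrullDim X = 1) (hg : 2 ≤ Curv2.genus ℂ X)
    (hnh : ∀ M : X.Modules, PicF.IsInvertible M → Curv2.deg ℂ X M 1 = 2 →
      Module.finrank ℂ (Coh.HH X M 0) ≤ 1)
    (K : X.Modules) (eK : K ≅ Omega.sheaf (X ↘ Spec (CommRingCat.of ℂ)))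
    (g : ℕ) (hgen : Curv2.genus ℂ X = g)
    (E : X.Modules) (hE : FlatMod.IsFinLocFreeOfRank 2 E)
    (hdegE : Curv2.deg ℂ X E 2 = 0 ∨ Curv2.deg ℂ X E 2 = 1)
    (hst : ModFun.IsSlopeStable ℂ X E 2)
    (hvs : ∀ α : E ⟶ CohB1.tensorMod E K,
        α ≫ (CohB1.sheafifyMod X).map
          (MonoidalCategoryStruct.whiskerRight (C := CohB1.PMod X) α.val (CohB1.toPMod K)) = 0 → α = 0)
    (hpar : Odd (Curv2.deg ℂ X E 2 + g))
    (hseg : ∀ (M : X.Modules) (m : M ⟶ E), PicF.IsInvertible M → Mono m →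
      2 * Curv2.deg ℂ X M 1 + ((g : ℤ) - 1) ≤ Curv2.deg ℂ X E 2)
    (hsegeq : ∃ (M : X.Modules) (m : M ⟶ E), PicF.IsInvertible M ∧ Mono m ∧
      2 * Curv2.deg ℂ X M 1 + ((g : ℤ) - 1) = Curv2.deg ℂ X E 2) :
    ∃ (L : Fin (2 ^ g) → X.Modules) (j : ∀ i, L i ⟶ E),
      (∀ i, PicF.IsInvertible (L i) ∧ Mono (j i) ∧ 2 * Curv2.deg ℂ X (L i) 1 + ((g : ℤ) - 1) = Curv2.deg ℂ X E 2) ∧
      (∀ i i', (∃ φ : L i ≅ L i', φ.hom ≫ j i' = j i) → i = i') ∧
      ∀ (M : X.Modules) (m : M ⟶ E), PicF.IsInvertible M → Mono m →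
        2 * Curv2.deg ℂ X M 1 + ((g : ℤ) - 1) = Curv2.deg ℂ X E 2 →
        ∃ (i : Fin (2 ^ g)) (φ : M ≅ L i), φ.hom ≫ j i = m := by
  obtain ⟨M₀, m₀, hM₀, hm₀, hd₀⟩ := hsegeq
  let C : Over (Spec (CommRingCat.of ℂ)) := Over.mk (X ↘ Spec (CommRingCat.of ℂ))
  haveI : IsIntegral C.left := inferInstanceAs (IsIntegral X)
  haveI : IsProper C.hom := inferInstanceAs (IsProper (X ↘ Spec (CommRingCat.of ℂ)))
  haveI : Smooth C.hom := inferInstanceAs (Smooth (X ↘ Spec (CommRingCat.of ℂ)))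
  have hiff : ∀ (M : X.Modules) (m : M ⟶ E), K553.SubMain.IsMx C E (Curv2.deg ℂ X M₀ 1) m ↔
      (PicF.IsInvertible M ∧ Mono m ∧ 2 * Curv2.deg ℂ X M 1 + ((g : ℤ) - 1) = Curv2.deg ℂ X E 2) := by
    intro M m
    constructor
    · rintro ⟨h1, h2, h3⟩
      refine ⟨h1, h2, ?_⟩
      have h3' : Curv2.deg ℂ X M 1 = Curv2.deg ℂ X M₀ 1 := h3
      rw [h3', hd₀]
    · rintro ⟨h1, h2, h3⟩
      refine ⟨h1, h2, ?_⟩
      change Curv2.deg ℂ X M 1 = Curv2.deg ℂ X M₀ 1
      omega
  obtain ⟨L, j, h1, h2, h3⟩ := K553.SubMain.main C hdim hgen E hE (K := K) eK hvs (Curv2.deg ℂ X M₀ 1)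
    (fun M m hM hm => by
      have h4 := hseg M m hM hm
      change Curv2.deg ℂ X M 1 ≤ Curv2.deg ℂ X M₀ 1
      omega)
    (by
      change Curv2.deg ℂ X E 2 = 2 * Curv2.deg ℂ X M₀ 1 + (g - 1)
      exact hd₀.symm)
  exact ⟨L, j, fun i => (hiff _ _).1 (h1 i), h2, fun M m hM hm hd => h3 M m ((hiff M m).2 ⟨hM, hm, hd⟩)⟩

end Groth.Agent.S15230
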