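import Groth.Statements.S15231
import Groth.Agent.DRing.K232.FinLen

set_option autoImplicit false
universe u
open CategoryTheory CategoryTheory.Limits
attribute [local instance] HasDerivedCategory.standard
open DRing

namespace Groth.Agent.S15231

/-- Let R be a Noetherian local commutative ring with residue field κ, let P be any object of D(R) and
a, b integers. Suppose that H^i(P ⊗^L_R κ) = 0 for every i outside [a, b] (over the field κ this
says exactly that P ⊗^L_R κ has tor amplitude in [a, b] as an object of D(κ)). Then for every
R-module N of finite length, H^i(P ⊗^L_R N) = 0 for every i outside [a, b]. The derived base change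
to κ and the derived tensor products with R-modules are the total left derived functors on D(R),
assumed to exist for every R-module (as they do). -/
theorem result (R : Type u) [CommRing R] [IsNoetherianRing R]
    [IsLocalRing R] [DRing.HasLBaseChange (IsLocalRing.residue R)] [∀ M : ModuleCat.{u} R, DRing.HasLTensor R M]
    (P : Dual.D R) (a b : ℤ)
    (h : ∀ i : ℤ, (i < a ∨ b < i) →
      Subsingleton (Dual.HD (IsLocalRing.ResidueField R) ((DRing.LBaseChange (IsLocalRing.residue R)).obj P) i))
    (N : Type u) [AddCommGroup N] [Module R N] (hN : IsFiniteLength R N) (i : ℤ) (hi : i < a ∨ b < i) :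
    Subsingleton (Dual.HD R ((DRing.LTensor R (ModuleCat.of R N)).obj P) i) := by
  obtain ⟨Q, hQ, hQf, ⟨e⟩⟩ := K232.FinLen.exists_rep P
  rw [K232.FinLen.subsingleton_lten_iff_exactAt Q P e]
  refine K232.FinLen.exactAt_of_isFiniteLength Q hQf i ?_ N hN
  rw [← K232.FinLen.subsingleton_lten_iff_exactAt Q P e]
  let φ := IsLocalRing.residue R
  let e₀ : (IsLocalRing.ResidueField R) ≃ₗ[R] (Groth.Agent.Ega3B.TFunBC.resB φ) :=
    { AddEquiv.refl (IsLocalRing.ResidueField R) with
      map_smul' := fun a x => Algebra.smul_def a x }
  obtain ⟨e'⟩ := K230.LTenQuot.nonempty_lten_iso_restrict_lbc φ (ModuleCat.of R (IsLocalRing.ResidueField R))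
    e₀.toModuleIso P
  exact K227.TorCrit.subsingleton_HD_of_iso e'.symm i
    ((K230.LTenQuot.subsingleton_HD_restrictD_iff φ _ i).2 (h i hi))

end Groth.Agent.S15231
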