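import Groth.Statements.S15232
import Groth.Agent.DRing.K232.TenMod2
import Groth.Agent.S6974

set_option autoImplicit false
universe u
open CategoryTheory CategoryTheory.Limits
attribute [local instance] HasDerivedCategory.standard
open DRing

namespace Groth.Agent.S15232

/-- Let R be a Noetherian commutative ring and I an ideal contained in the Jacobson radical of R, and
assume the derived base change D(R) → D(R/I) exists. Let P be a pseudo-coherent object of D(R) and
a, b integers. If P ⊗^L_R R/I has tor amplitude in [a, b] as an object of D(R/I), then P has tor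
amplitude in [a, b] as an object of D(R). Tor amplitude is taken in the flat-representative form
(isomorphic in the derived category to a complex of flat modules vanishing outside [a, b]). -/
theorem result (R : Type u) [CommRing R] [IsNoetherianRing R]
    (I : Ideal R) (hI : I ≤ Ideal.jacobson (⊥ : Ideal R)) [DRing.HasLBaseChange (Ideal.Quotient.mk I)]
    (P : Dual.D R) (hP : DRing.IsPseudoCoherent' R P) (a b : ℤ)
    (h : DRing.HasTorAmplitudeIn (R ⧸ I) a b ((DRing.LBaseChange (Ideal.Quotient.mk I)).obj P)) :
    DRing.HasTorAmplitudeIn R a b P := by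
  have : ∀ m : Ideal R, DRing.HasLBaseChange (Ideal.Quotient.mk m) := fun m =>
    Groth.Agent.LoccohB.LBC.hasLBaseChange (Ideal.Quotient.mk m)
  refine (Groth.Agent.S6974.result R P hP a b ?_).2
  intro m hm i hi
  obtain ⟨E, c, hE0, hEf, ⟨e⟩⟩ := hP
  have hE0' : CochainComplex.IsStrictlyLE E c := by
    rw [CochainComplex.isStrictlyLE_iff]
    exact hE0
  have hEp : ∀ i, Projective (E.X i) := fun i => by
    obtain ⟨h5, h6⟩ := hEf i
    exact (IsProjective.iff_projective (R := R) (E.X i)).1 inferInstance
  have : E.IsKProjective := CochainComplex.isKProjective_of_projective E c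
  have hE : DRing.TermwiseFlat E := fun i => by
    obtain ⟨h5, h6⟩ := hEf i
    infer_instance
  have hIm : I ≤ m := hI.trans (sInf_le ⟨bot_le, hm⟩)
  have hN' : Module.IsTorsionBySet R (R ⧸ m) (I : Set R) := by
    rintro x ⟨y, hy⟩
    obtain ⟨x, rfl⟩ := Ideal.Quotient.mk_surjective x
    change Ideal.Quotient.mk m (y * x) = 0
    rw [Ideal.Quotient.eq_zero_iff_mem]
    exact m.mul_mem_right x (hIm hy)
  let _ : Module (R ⧸ I) (R ⧸ m) := hN'.module
  have : IsScalarTower R (R ⧸ I) (R ⧸ m) := hN'.isScalarTower
  have : DRing.HasLBaseChange (algebraMap R (R ⧸ I)) :=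
    inferInstanceAs (DRing.HasLBaseChange (Ideal.Quotient.mk I))
  have key := K232.TenMod2.exactAt_of_torAmp_lbc (R ⧸ I) E hE c hE0 P e a b h (R ⧸ m) i hi
  have : DRing.HasLTensor R (ModuleCat.of R (R ⧸ m)) := Groth.Agent.LoccohB.LBC.hasLTensor _
  rw [← K230.QuotCrit.subsingleton_lten_iff m P i, K232.FinLen.subsingleton_lten_iff_exactAt E P e]
  exact key

end Groth.Agent.S15232
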