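import Groth.Statements.S15233
import Mathlib.CategoryTheory.Sites.Abelian

set_option autoImplicit false
universe u
open CategoryTheory CategoryTheory.Limits Opposite
open CohSite

namespace Groth.Agent.S15233

/-- Let C be a small category with a Grothendieck topology J, and let B be a class of objects forming a
prebasis: for every object V and every covering sieve S of V, the arrows of S whose domain lies in B
generate a covering sieve of V. If F is a presheaf of abelian groups on C such that F(U) = 0 for
every object U in B, then the sheafification of F is zero. -/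
theorem result {C : Type u} [SmallCategory C] (J : GrothendieckTopology C)
    (B : ObjectProperty C)
    (hB : ∀ (V : C) (S : Sieve V), S ∈ J V →
      Sieve.generate (fun (U : C) => {g : U ⟶ V | S.arrows g ∧ B U}) ∈ J V)
    (F : Cᵒᵖ ⥤ AddCommGrpCat.{u}) (hF : ∀ U : C, B U → IsZero (F.obj (op U))) :
    IsZero ((presheafToSheaf J AddCommGrpCat.{u}).obj F) := by
  rw [IsZero.iff_id_eq_zero]
  apply ((sheafificationAdjunction J AddCommGrpCat.{u}).homEquiv _ _).injective
  rw [Adjunction.homEquiv_unit, Adjunction.homEquiv_unit]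
  have h0 : (sheafToPresheaf J AddCommGrpCat.{u}).map (𝟙 ((presheafToSheaf J AddCommGrpCat.{u}).obj F)) = 𝟙 _ := rfl
  have h0' : (sheafToPresheaf J AddCommGrpCat.{u}).map (0 : (presheafToSheaf J AddCommGrpCat.{u}).obj F ⟶
    (presheafToSheaf J AddCommGrpCat.{u}).obj F) = 0 := rfl
  rw [h0, h0']
  refine (Category.comp_id _).trans ?_
  refine Eq.trans ?_ (comp_zero (Z := ((presheafToSheaf J AddCommGrpCat.{u}).obj F).obj)).symm
  ext V s
  have h1 : Presieve.IsSheaf J (((presheafToSheaf J AddCommGrpCat.{u}).obj F).obj ⋙ forget AddCommGrpCat.{u}) :=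
    (isSheaf_iff_isSheaf_of_type _ _).1
      ((sheafCompose J (forget AddCommGrpCat.{u})).obj ((presheafToSheaf J AddCommGrpCat.{u}).obj F)).property
  refine (h1 _ (hB V.unop ⊤ (J.top_mem _))).isSeparatedFor.ext ?_
  rintro Y f ⟨U, a, g, ⟨-, hU⟩, rfl⟩
  have h2 : F.map g.op s = 0 := by
    have h3 := hF U hU
    have h6 : 𝟙 (F.obj (op U)) = 0 := (IsZero.iff_id_eq_zero _).1 h3
    exact ConcreteCategory.congr_hom h6 _
  have h4 := ConcreteCategory.congr_hom (((sheafificationAdjunction J AddCommGrpCat.{u}).unit.app F).naturality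
    (a ≫ g).op) s
  refine h4.symm.trans ?_
  have h5 : F.map (a ≫ g).op s = 0 := by
    refine (ConcreteCategory.congr_hom (F.map_comp g.op a.op) s).trans ?_
    refine (congrArg (F.map a.op) h2).trans (map_zero _)
  refine (congrArg (((sheafificationAdjunction J AddCommGrpCat.{u}).unit.app F).app (Opposite.op Y)) h5).trans ?_
  refine (map_zero _).trans ?_
  exact (map_zero (((presheafToSheaf J AddCommGrpCat.{u}).obj F).obj.map (a ≫ g).op).hom).symm

end Groth.Agent.S15233
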