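import Groth.Statements.S15235
import Groth.Agent.Ega3A.MLBasic

set_option autoImplicit false
universe u
open CategoryTheory Opposite
open HomAlg3

namespace Groth.Agent.S15235

open Ega3A.MLBasic

/-- Let (G_j) be an inverse system of abelian groups indexed by the natural numbers, with transition
maps G_{j+1} → G_j, and let j₀ be a natural number such that the transition map G_{j+1} → G_j is
surjective for every j ≥ j₀. Then: (a) the system satisfies the Mittag-Leffler condition; (b) the
evaluation map from the inverse limit (realised as the set of compatible families) to G_{j₀} is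
surjective; (c) if in addition the transition maps G_{j+1} → G_j are injective for every j ≥ j₀,
that evaluation map is bijective. (The published statement indexes the system by the negative
integers and assumes j₀ ≥ 1; this row indexes it by the natural numbers and allows j₀ = 0, which
changes nothing.) -/
theorem result (G : ℕᵒᵖ ⥤ AddCommGrpCat.{u})
    (j₀ : ℕ) (hs : ∀ j : ℕ, j₀ ≤ j → Function.Surjective (G.map (homOfLE (Nat.le_succ j)).op).hom) :
    (G ⋙ forget AddCommGrpCat.{u}).IsMittagLeffler ∧
      Function.Surjective (fun s : (G ⋙ forget AddCommGrpCat.{u}).sections => s.1 (op j₀)) ∧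
      ((∀ j : ℕ, j₀ ≤ j → Function.Injective (G.map (homOfLE (Nat.le_succ j)).op).hom) →
        Function.Bijective (fun s : (G ⋙ forget AddCommGrpCat.{u}).sections => s.1 (op j₀))) := by
  -- all transition maps above `j₀` are surjective
  have hsurj : ∀ (j k : ℕ) (hj : j₀ ≤ j) (hk : j ≤ k),
      Function.Surjective (G.map (homOfLE hk).op).hom := by
    intro j k hj hk
    induction k, hk using Nat.le_induction with
    | base => exact fun x => ⟨x, map_refl x⟩
    | succ k hk ih =>
      intro x
      obtain ⟨y, rfl⟩ := ih x
      obtain ⟨z, rfl⟩ := hs k (hj.trans hk) y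
      exact ⟨z, (map_map _ _ _).symm⟩
  have hML : (G ⋙ forget AddCommGrpCat.{u}).IsMittagLeffler := by
    rw [isMittagLeffler_iff]
    intro j
    refine ⟨max j j₀, le_max_left _ _, fun k hk x => ?_⟩
    obtain ⟨y, rfl⟩ := hsurj _ k (le_max_right _ _) hk x
    exact ⟨y, (map_map _ _ _).symm⟩
  have hev : Function.Surjective
      (fun s : (G ⋙ forget AddCommGrpCat.{u}).sections => s.1 (op j₀)) := by
    intro x
    refine exists_section_of_mem_eventualRange nat_cof (G ⋙ forget AddCommGrpCat) hML j₀ x ?_
    rw [Functor.mem_eventualRange_iff]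
    rintro ⟨k⟩ f
    obtain ⟨y, hy⟩ := hsurj j₀ k le_rfl (leOfHom f.unop) x
    exact ⟨y, hy⟩
  refine ⟨hML, hev, fun hi => ⟨?_, hev⟩⟩
  have hinj : ∀ (k : ℕ) (hk : j₀ ≤ k),
      Function.Injective (G.map (homOfLE hk).op).hom := by
    intro k hk
    induction k, hk using Nat.le_induction with
    | base =>
      intro x y hxy
      rw [map_refl, map_refl] at hxy
      exact hxy
    | succ k hk ih =>
      intro x y hxy
      apply hi k hk
      apply ih
      rw [map_map, map_map]
      exact hxy
  intro s t hst
  have hst' : s.1 (op j₀) = t.1 (op j₀) := hst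
  have h1 : ∀ (k : ℕ) (hk : j₀ ≤ k), s.1 (op k) = t.1 (op k) := by
    intro k hk
    apply hinj k hk
    have e1 : (G.map (homOfLE hk).op).hom (s.1 (op k)) = s.1 (op j₀) := s.2 (homOfLE hk).op
    have e2 : (G.map (homOfLE hk).op).hom (t.1 (op k)) = t.1 (op j₀) := t.2 (homOfLE hk).op
    rw [e1, e2, hst']
  apply Subtype.ext
  funext j
  obtain ⟨j⟩ := j
  have e1 : (G.map (homOfLE (le_max_left j j₀)).op).hom (s.1 (op (max j j₀))) = s.1 (op j) :=
    s.2 (homOfLE (le_max_left j j₀)).op
  have e2 : (G.map (homOfLE (le_max_left j j₀)).op).hom (t.1 (op (max j j₀))) = t.1 (op j) :=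
    t.2 (homOfLE (le_max_left j j₀)).op
  exact e1.symm.trans ((congrArg _ (h1 _ (le_max_right _ _))).trans e2)

end Groth.Agent.S15235
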