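import Groth.Statements.S15238
import Groth.Agent.AGF.K499.FinOrb3
import Groth.Agent.RedSub.H660.TypeGeom
import Groth.Agent.RedSub.H672.ParProper
import Groth.Agent.Sga3B.BaseZ
import Groth.Agent.Sga3B.SplitReduced415
import Groth.Agent.S3900

set_option autoImplicit false
universe u
open CategoryTheory CategoryTheory.Limits MonoidalCategory CartesianMonoidalCategory MonObj GrpObj AlgebraicGeometry
open AGF

namespace Groth.Agent.S15238

open K499.FinOrb3 K499.PtTop K499.GrpTop Groth.Agent.Books.AlgPts in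
attribute [local instance] K499.PtTop.topo in
theorem core (k : Type u) [Field k] [IsAlgClosed k]
    (G B H : Over (Spec (CommRingCat.of k))) [GrpObj G] [GrpObj B] [GrpObj H]
    (hG : Red.IsReductiveOver k G) (iB : B ⟶ G) (hB : Red.IsBorelOver k iB)
    (iH : H ⟶ G) [IsMonHom iH] [IsClosedImmersion iH.left]
    (g₀ : 𝟙_ (Over (Spec (CommRingCat.of k))) ⟶ G)
    (hopen : IsOpen (Set.range
      ⇑((CartesianMonoidalCategory.fst B H ≫ iB) * (CartesianMonoidalCategory.toUnit (B ⊗ H) ≫ g₀) *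
        (CartesianMonoidalCategory.snd B H ≫ iH)).left.base)) :
    ∃ s : Finset (𝟙_ (Over (Spec (CommRingCat.of k))) ⟶ G),
      ∀ x : 𝟙_ (Over (Spec (CommRingCat.of k))) ⟶ G, ∃ z ∈ s,
        ∃ (b : 𝟙_ (Over (Spec (CommRingCat.of k))) ⟶ B) (h : 𝟙_ (Over (Spec (CommRingCat.of k))) ⟶ H),
          x = (b ≫ iB) * z * (h ≫ iH) := by
  classical
  have hG' : Red.IsReductive G := Groth.Agent.Sga3B.AlgBc.isReductive_iff.2 hG
  obtain ⟨haff, hsm, hconn, -⟩ := id hG
  have hmB : IsMonHom iB := hB.1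
  have hcB : IsClosedImmersion iB.left := hB.2.1
  have hsB : Smooth B.hom := hB.2.2.1
  have hlH : LocallyOfFiniteType H.hom := by
    rw [← Over.w iH]
    infer_instance
  have haH : IsAffineHom G.hom := hG'.1
  have hirrG : IrreducibleSpace G.left := Groth.Agent.Books.AlgPtsIrred.irreducibleSpace_of_connectedSpace G
  obtain ⟨D⟩ := K499.SepSplit.exists_splitRed k G hG'
  have : Nonempty (Spec (CommRingCat.of k)) := inferInstance
  have hred := Groth.Agent.Sga3B.SplitReduced415.isReduced D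
  obtain ⟨b₀⟩ := Groth.Agent.Sga3B.BaseZ.nonempty_base D.P
  obtain ⟨x, hx, -⟩ := Groth.Agent.RedSub.H634.BorelStd.exists_functional b₀
  obtain ⟨P, _, p, hP, hcl⟩ := Groth.Agent.Sga3B.Parab.DynExist998.exists_isDynP
    (lam := Groth.Agent.Sga3B.Par.coch D x)
  have hPB := Groth.Agent.RedSub.H634.BorelStd.isBorel_of_isDynP D x hx hP
  rw [Groth.Agent.RedSub.H660.TypeGeom.coch_eq''] at hP
  obtain ⟨b, hb⟩ := Groth.Agent.Sga3B.BorLB3991.exists_isStd D x.toAddMonoidHom hPB hP
  obtain ⟨tB', htB⟩ := hb.torus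
  have hroots : ∀ a : D.idx, (∃ v : Red.Ga (Spec (CommRingCat.of k)) ⟶ P, v ≫ p = D.u a) ↔
      a ∈ RedSub.posRoots D.P b := by
    intro a
    rw [Groth.Agent.RedSub.H637.PosRoots.mem_posRoots_iff]
    exact ⟨fun ⟨v, hv⟩ => Groth.Agent.Sga3B.BorLB3991.isPos_of_isStd hb hv, fun ha => hb.root a ha⟩
  have hPpar := Groth.Agent.Sga3B.BorLB3991.isParabolic_of_isBorel hPB
  obtain ⟨Q, q, hq, -, hQ, -⟩ := Groth.Agent.RedSub.H672.ParProper.exists_quotient hG' p hPpar
  have hPB' : Red.IsBorelOver k p := Groth.Agent.Sga3B.AlgBc.isBorel_iff.1 hPB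
  have hmP : IsMonHom p := hPB'.1
  have hsP : Smooth P.hom := hPB'.2.2.1
  have hcP : ConnectedSpace P.left := hPB'.2.2.2.1
  have hqP : QuasiCompact P.hom := by
    rw [← Over.w p]
    infer_instance
  have hirrP : IrreducibleSpace P.left := Groth.Agent.Books.AlgPtsIrred.irreducibleSpace_of_connectedSpace P
  obtain ⟨g, f, hf⟩ := Groth.Agent.S3900.result k G B P iB p hB hPB'
  have hfpt : ∀ y : 𝟙_ (Over (Spec (CommRingCat.of k))) ⟶ B,
      (y ≫ f.hom) ≫ p = g * (y ≫ iB) * g⁻¹ := by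
    intro y
    rw [Category.assoc, hf, AGF.conjBy, MonObj.comp_mul, MonObj.comp_mul, GrpObj.comp_inv, K499.GrpTop.comp_toUnit]
  have hfpt' : ∀ y : 𝟙_ (Over (Spec (CommRingCat.of k))) ⟶ P,
      (y ≫ f.inv) ≫ iB = g⁻¹ * (y ≫ p) * g := by
    intro y
    have := hfpt (y ≫ f.inv)
    rw [Category.assoc y, Iso.inv_hom_id, Category.comp_id] at this
    rw [this]
    group
  -- the double cosets
  have hDD : ∀ z w : 𝟙_ (Over (Spec (CommRingCat.of k))) ⟶ G,
      g * w ∈ K499.FinOrb.D (bsub p) (bsub iH) (g * z) ↔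
      ∃ (b : 𝟙_ (Over (Spec (CommRingCat.of k))) ⟶ B) (h : 𝟙_ (Over (Spec (CommRingCat.of k))) ⟶ H),
          w = (b ≫ iB) * z * (h ≫ iH) := by
    intro z w
    constructor
    · rintro ⟨_, ⟨y, rfl⟩, _, ⟨h, rfl⟩, he⟩
      refine ⟨y ≫ f.inv, h, ?_⟩
      rw [hfpt']
      have h1 : w = g⁻¹ * (g * w) := by group
      rw [h1, he]
      group
    · rintro ⟨y, h, rfl⟩
      refine ⟨_, ⟨y ≫ f.hom, rfl⟩, _, ⟨h, rfl⟩, ?_⟩
      rw [hfpt]
      group
  have hopen' : IsOpen (K499.FinOrb.D (bsub p) (bsub iH) (g * g₀)) := by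
    have h1 : IsOpen (pt ⁻¹' (Set.range
        ⇑((CartesianMonoidalCategory.fst B H ≫ iB) * (CartesianMonoidalCategory.toUnit (B ⊗ H) ≫ g₀) *
          (CartesianMonoidalCategory.snd B H ≫ iH)).left.base)) :=
      hopen.preimage isInducing_pt.continuous
    have h2 : K499.FinOrb.D (bsub p) (bsub iH) (g * g₀) = (fun x => g⁻¹ * x) ⁻¹' (pt ⁻¹' (Set.range
        ⇑((CartesianMonoidalCategory.fst B H ≫ iB) * (CartesianMonoidalCategory.toUnit (B ⊗ H) ≫ g₀) *
          (CartesianMonoidalCategory.snd B H ≫ iH)).left.base)) := by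
      ext w
      have h3 : w = g * (g⁻¹ * w) := by group
      constructor
      · intro hw
        rw [h3, hDD] at hw
        obtain ⟨y, h, he⟩ := hw
        rw [Set.mem_preimage, Set.mem_preimage]
        refine ⟨pt (lift y h), ?_⟩
        have h5 : lift y h ≫ ((CartesianMonoidalCategory.fst B H ≫ iB) *
            (CartesianMonoidalCategory.toUnit (B ⊗ H) ≫ g₀) *
            (CartesianMonoidalCategory.snd B H ≫ iH)) = g⁻¹ * w := by
          rw [MonObj.comp_mul, MonObj.comp_mul, K499.GrpTop.comp_toUnit, lift_fst_assoc,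
            lift_snd_assoc, he]
        rw [← h5, pt_comp]
      · intro hw
        rw [h3, hDD]
        obtain ⟨v, hv⟩ := exists_comp_eq_of_pt_mem_range _ (g⁻¹ * w) hw
        refine ⟨v ≫ fst B H, v ≫ snd B H, ?_⟩
        rw [← hv, MonObj.comp_mul, MonObj.comp_mul, K499.GrpTop.comp_toUnit, Category.assoc, Category.assoc]
    rw [h2]
    exact h1.preimage (continuous_mul_left g⁻¹)
  obtain ⟨s, hs⟩ := exists_finset_std D b p tB' htB hroots q hq (bsub iH) (isClosed_bsub iH) (g * g₀) hopen'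
  refine ⟨s.image fun z => g⁻¹ * z, fun x => ?_⟩
  obtain ⟨z, hz, hxz⟩ := hs (g * x)
  refine ⟨g⁻¹ * z, Finset.mem_image_of_mem _ hz, ?_⟩
  rw [← hDD]
  have h3 : g * (g⁻¹ * z) = z := by group
  rw [h3]
  exact hxz

/-- Let k be an algebraically closed field of characteristic zero, G a connected reductive group over k,
B a Borel subgroup of G and H a closed subgroup scheme of G. If for some k-point g₀ of G the double
coset B g₀ H — the set-theoretic image of B × H → G, (b, h) ↦ b g₀ h — is open in G (that is, B has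
an open orbit on G/H), then B has finitely many orbits on G/H: there are finitely many k-points g₁,
…, gₙ of G such that every k-point of G equals b gᵢ h for some i and some k-points b of B and h of
H. (The published statement is that a spherical variety has finitely many B-orbits; the printed
proof reduces to this homogeneous case and proves it. The published setting takes every subgroup
connected; this row allows any closed subgroup scheme H, which the printed argument does not use.) -/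
theorem result (k : Type u) [Field k] [IsAlgClosed k] [CharZero k]
    (G B H : Over (Spec (CommRingCat.of k))) [GrpObj G] [GrpObj B] [GrpObj H]
    (hG : Red.IsReductiveOver k G) (iB : B ⟶ G) (hB : Red.IsBorelOver k iB)
    (iH : H ⟶ G) [IsMonHom iH] [IsClosedImmersion iH.left]
    (g₀ : 𝟙_ (Over (Spec (CommRingCat.of k))) ⟶ G)
    (hopen : IsOpen (Set.range
      ⇑((CartesianMonoidalCategory.fst B H ≫ iB) * (CartesianMonoidalCategory.toUnit (B ⊗ H) ≫ g₀) *
        (CartesianMonoidalCategory.snd B H ≫ iH)).left.base)) :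
    ∃ (n : ℕ) (g : Fin n → (𝟙_ (Over (Spec (CommRingCat.of k))) ⟶ G)),
      ∀ x : 𝟙_ (Over (Spec (CommRingCat.of k))) ⟶ G,
        ∃ (i : Fin n) (b : 𝟙_ (Over (Spec (CommRingCat.of k))) ⟶ B) (h : 𝟙_ (Over (Spec (CommRingCat.of k))) ⟶ H),
          x = (b ≫ iB) * g i * (h ≫ iH) := by
  obtain ⟨s, hs⟩ := core k G B H hG iB hB iH g₀ hopen
  refine ⟨s.card, fun i => (s.equivFin.symm i : 𝟙_ (Over (Spec (CommRingCat.of k))) ⟶ G), fun x => ?_⟩
  obtain ⟨z, hz, b, h, he⟩ := hs x
  refine ⟨s.equivFin ⟨z, hz⟩, b, h, ?_⟩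
  have h1 : ((s.equivFin.symm (s.equivFin ⟨z, hz⟩) : { x // x ∈ s }) :
      𝟙_ (Over (Spec (CommRingCat.of k))) ⟶ G) = z := by
    rw [Equiv.symm_apply_apply]
  simp only [h1]
  exact he

end Groth.Agent.S15238
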