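import Groth.Statements.S15240
import Groth.Agent.AGF.K499.ActPts

set_option autoImplicit false
universe u
open CategoryTheory CategoryTheory.Limits MonoidalCategory CartesianMonoidalCategory MonObj GrpObj AlgebraicGeometry
open AGF

namespace Groth.Agent.S15240

open Groth.Agent.Books.AlgPts Groth.Agent.Books.AlgPtsGrp Groth.Agent.Books.AlgPtsIrred
open K499.ActPts

section

variable {k : Type u} [Field k]

lemma pt_tr_prod {B X Y : Over (Spec (CommRingCat.of k))} [GrpObj B] (a : AlgGrp.Action B X)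
    (b : 𝟙_ (Over (Spec (CommRingCat.of k))) ⟶ B) (x : 𝟙_ (Over (Spec (CommRingCat.of k))) ⟶ X)
    (y : 𝟙_ (Over (Spec (CommRingCat.of k))) ⟶ Y) :
    lift x y ≫ (CartesianMonoidalCategory.lift (CartesianMonoidalCategory.toUnit (X ⊗ Y) ≫ b) (𝟙 (X ⊗ Y)) ≫
          (α_ B X Y).inv ≫ (a.act ▷ Y)) = lift (lift b x ≫ a.act) y := by
  have h0 : lift x y ≫ toUnit (X ⊗ Y) = 𝟙 _ := toUnit_unique _ _
  rw [comp_lift_assoc, reassoc_of% h0, Category.comp_id]
  ext1 <;> simp [← Category.assoc]

/-- The morphism `y ↦ (x, y)`. -/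
noncomputable def sx {X Y : Over (Spec (CommRingCat.of k))}
    (x : 𝟙_ (Over (Spec (CommRingCat.of k))) ⟶ X) : Y ⟶ X ⊗ Y := lift (toUnit Y ≫ x) (𝟙 Y)

noncomputable def sy {X Y : Over (Spec (CommRingCat.of k))}
    (y : 𝟙_ (Over (Spec (CommRingCat.of k))) ⟶ Y) : X ⟶ X ⊗ Y := lift (𝟙 X) (toUnit X ≫ y)

lemma pt_sx {X Y : Over (Spec (CommRingCat.of k))}
    (x : 𝟙_ (Over (Spec (CommRingCat.of k))) ⟶ X) (y : 𝟙_ (Over (Spec (CommRingCat.of k))) ⟶ Y) :
    y ≫ sx (Y := Y) x = lift x y := by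
  have h0 : y ≫ toUnit Y = 𝟙 _ := toUnit_unique _ _
  rw [sx, comp_lift, reassoc_of% h0, Category.comp_id]

lemma pt_sy {X Y : Over (Spec (CommRingCat.of k))}
    (x : 𝟙_ (Over (Spec (CommRingCat.of k))) ⟶ X) (y : 𝟙_ (Over (Spec (CommRingCat.of k))) ⟶ Y) :
    x ≫ sy (X := X) y = lift x y := by
  have h0 : x ≫ toUnit X = 𝟙 _ := toUnit_unique _ _
  rw [sy, comp_lift, reassoc_of% h0, Category.comp_id]

end

section

variable {k : Type u} [Field k] [IsAlgClosed k]

/-- Rational points of a non-empty orbit closure. -/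
lemma orbit_subset_of_pts {B X : Over (Spec (CommRingCat.of k))} [GrpObj B]
    [LocallyOfFiniteType B.hom] (a : AlgGrp.Action B X)
    (x : 𝟙_ (Over (Spec (CommRingCat.of k))) ⟶ X) {F : Set X.left} (hF : IsClosed F)
    (h : ∀ b : 𝟙_ (Over (Spec (CommRingCat.of k))) ⟶ B, pt (lift b x ≫ a.act) ∈ F) :
    closure (Set.range (a.orbitMap x).left) ⊆ F := by
  apply closure_minimal _ hF
  exact range_subset_of_forall_pt _ hF (fun b => by rw [pt_orbitMap]; exact h b)

theorem main (B X Y : Over (Spec (CommRingCat.of k))) [GrpObj B] [Smooth B.hom]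
    [LocallyOfFiniteType B.hom] [QuasiCompact B.hom] [ConnectedSpace ↥B.left]
    [LocallyOfFiniteType X.hom] [LocallyOfFiniteType Y.hom]
    (a : AlgGrp.Action B X)
    (hfin : Set.Finite {S : Set ↥X.left | ∃ x : 𝟙_ (Over (Spec (CommRingCat.of k))) ⟶ X, S = Set.range ⇑(a.orbitMap x).left.base})
    (Z : Set ↥(X ⊗ Y).left) (hZc : IsClosed Z) (hZi : IsIrreducible Z)
    (hZs : ∀ b : 𝟙_ (Over (Spec (CommRingCat.of k))) ⟶ B,
      ⇑(CartesianMonoidalCategory.lift (CartesianMonoidalCategory.toUnit (X ⊗ Y) ≫ b) (𝟙 (X ⊗ Y)) ≫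
          (α_ B X Y).inv ≫ (a.act ▷ Y)).left.base '' Z ⊆ Z) :
    ∃ (V : Set ↥X.left) (W : Set ↥Y.left), IsClosed V ∧ IsIrreducible V ∧ IsClosed W ∧ IsIrreducible W ∧
      (∀ b : 𝟙_ (Over (Spec (CommRingCat.of k))) ⟶ B,
        ⇑(CartesianMonoidalCategory.lift (CartesianMonoidalCategory.toUnit X ≫ b) (𝟙 X) ≫ a.act).left.base '' V ⊆ V) ∧
      Z = ⇑(CartesianMonoidalCategory.fst X Y).left.base ⁻¹' V ∩ ⇑(CartesianMonoidalCategory.snd X Y).left.base ⁻¹' W := by
  classical
  have hXY : LocallyOfFiniteType (X ⊗ Y).hom := by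
    rw [Over.tensorObj_hom]
    infer_instance
  have hB : IrreducibleSpace B.left := irreducibleSpace_of_connectedSpace B
  -- stability on rational points
  have hst : ∀ (b : 𝟙_ (Over (Spec (CommRingCat.of k))) ⟶ B)
      (x : 𝟙_ (Over (Spec (CommRingCat.of k))) ⟶ X) (y : 𝟙_ (Over (Spec (CommRingCat.of k))) ⟶ Y),
      pt (lift x y) ∈ Z → pt (lift (lift b x ≫ a.act) y) ∈ Z := by
    intro b x y h
    rw [← pt_tr_prod a b x y, pt_comp]
    exact hZs b ⟨_, h, rfl⟩
  let O : (𝟙_ (Over (Spec (CommRingCat.of k))) ⟶ X) → Set X.left := fun x => Set.range (a.orbitMap x).left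
  have hO : ∀ x, pt x ∈ O x := by
    intro x
    have h1 : η[B] ≫ a.orbitMap x = x := by
      rw [pt_orbitMap, one_eq_one, one_lift]
    refine ⟨pt η[B], ?_⟩
    rw [← pt_comp, h1]
  let V : (𝟙_ (Over (Spec (CommRingCat.of k))) ⟶ X) → Set X.left := fun x => closure (O x)
  let W : (𝟙_ (Over (Spec (CommRingCat.of k))) ⟶ X) → Set Y.left := fun x => (sx (Y := Y) x).left ⁻¹' Z
  have hW : ∀ x, IsClosed (W x) := fun x => hZc.preimage (sx (Y := Y) x).left.continuous
  have hWpt : ∀ x y, pt y ∈ W x ↔ pt (lift x y) ∈ Z := by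
    intro x y
    rw [← pt_sx, pt_comp]
    exact Iff.rfl
  let P : (𝟙_ (Over (Spec (CommRingCat.of k))) ⟶ X) → Set (X ⊗ Y).left := fun x =>
    (fst X Y).left ⁻¹' (V x) ∩ (snd X Y).left ⁻¹' (W x)
  have hPc : ∀ x, IsClosed (P x) := fun x =>
    (isClosed_closure.preimage (fst X Y).left.continuous).inter ((hW x).preimage (snd X Y).left.continuous)
  -- points of the product
  have hpts : ∀ z : 𝟙_ (Over (Spec (CommRingCat.of k))) ⟶ X ⊗ Y,
      z = lift (z ≫ fst X Y) (z ≫ snd X Y) := fun z => by simp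
  -- P x ⊆ Z
  have hPZ : ∀ x, P x ⊆ Z := by
    intro x
    refine subset_of_forall_pt (hPc x).isLocallyClosed hZc ?_
    intro z hz
    have h1 : pt (z ≫ fst X Y) ∈ V x := by rw [pt_comp]; exact hz.1
    have h2 : pt (z ≫ snd X Y) ∈ W x := by rw [pt_comp]; exact hz.2
    rw [hWpt] at h2
    have h3 : V x ⊆ (sy (X := X) (z ≫ snd X Y)).left ⁻¹' Z := by
      refine orbit_subset_of_pts a x (hZc.preimage (sy (X := X) _).left.continuous) ?_
      intro b
      have := hst b x _ h2
      rw [← pt_sy, pt_comp] at this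
      exact this
    have h4 := h3 h1
    have h5 : (sy (X := X) (z ≫ snd X Y)).left (pt (z ≫ fst X Y)) ∈ Z := h4
    rw [← pt_comp, pt_sy, ← hpts] at h5
    exact h5
  -- representatives
  let T := {S : Set ↥X.left | ∃ x : 𝟙_ (Over (Spec (CommRingCat.of k))) ⟶ X, S = Set.range ⇑(a.orbitMap x).left.base}
  have hT : ∀ S : T, ∃ x : 𝟙_ (Over (Spec (CommRingCat.of k))) ⟶ X, S.1 = O x := fun S => S.2
  choose rep hrep using hT
  have hfT : Finite T := hfin
  have hcov : Z ⊆ ⋃ S : T, P (rep S) := by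
    refine subset_of_forall_pt hZc.isLocallyClosed (isClosed_iUnion_of_finite fun S => hPc _) ?_
    intro z hz
    rw [hpts z] at hz ⊢
    set x := z ≫ fst X Y with hx
    set y := z ≫ snd X Y with hy
    let S : T := ⟨O x, x, rfl⟩
    have h1 : pt x ∈ O (rep S) := by
      rw [← hrep S]
      exact hO x
    refine Set.mem_iUnion.2 ⟨S, ?_, ?_⟩
    · change (fst X Y).left (pt (lift x y)) ∈ V (rep S)
      rw [← pt_comp, lift_fst]
      exact subset_closure h1
    · change (snd X Y).left (pt (lift x y)) ∈ W (rep S)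
      rw [← pt_comp, lift_snd, hWpt]
      obtain ⟨b, hb⟩ := exists_comp_eq_of_pt_mem_range (a.orbitMap (rep S)) x h1
      rw [pt_orbitMap] at hb
      have h2 := hst b⁻¹ x y hz
      rw [← hb, inv_lift] at h2
      exact h2
  have hZne : Z.Nonempty := hZi.1
  obtain ⟨S, hS⟩ : ∃ S : T, Z ⊆ P (rep S) := by
    have := (isIrreducible_iff_sUnion_isClosed.1 hZi) (Set.Finite.toFinset (Set.finite_range fun S : T => P (rep S)))
      (by
        intro z hz
        rw [Set.Finite.mem_toFinset] at hz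
        obtain ⟨S, rfl⟩ := hz
        exact hPc _) (by
        intro z hz
        obtain ⟨S, hS⟩ := Set.mem_iUnion.1 (hcov hz)
        exact ⟨P (rep S), by simp, hS⟩)
    obtain ⟨z, hz, hz'⟩ := this
    rw [Set.Finite.mem_toFinset] at hz
    obtain ⟨S, rfl⟩ := hz
    exact ⟨S, hz'⟩
  have hEq : Z = P (rep S) := hS.antisymm (hPZ _)
  have hVi : IsIrreducible (V (rep S)) := by
    apply IsIrreducible.closure
    have h1 : IsIrreducible (Set.univ : Set B.left) := (irreducibleSpace_def _).1 hB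
    have := h1.image (a.orbitMap (rep S)).left (a.orbitMap (rep S)).left.continuous.continuousOn
    rwa [Set.image_univ] at this
  have hWi : IsIrreducible (W (rep S)) := by
    have h1 : W (rep S) = (snd X Y).left '' Z := by
      apply Set.Subset.antisymm
      · intro y hy
        refine ⟨(sx (Y := Y) (rep S)).left y, hy, ?_⟩
        have h2 : sx (Y := Y) (rep S) ≫ snd X Y = 𝟙 Y := by rw [sx, lift_snd]
        have h3 := congr($(h2).left y)
        simpa using h3
      · rintro _ ⟨z, hz, rfl⟩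
        exact (hS hz).2
    rw [h1]
    exact hZi.image _ (snd X Y).left.continuous.continuousOn
  refine ⟨V (rep S), W (rep S), isClosed_closure, hVi, hW _, hWi, ?_, hEq⟩
  intro b
  rintro _ ⟨x, hx, rfl⟩
  have h1 : V (rep S) ⊆ (tr a b).left ⁻¹' V (rep S) := by
    refine closure_minimal ?_ (isClosed_closure.preimage (tr a b).left.continuous)
    rintro _ ⟨g, rfl⟩
    refine subset_closure ?_
    rw [← Scheme.Hom.comp_apply, ← Over.comp_left, orbitMap_tr, Over.comp_left,
      Scheme.Hom.comp_apply]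
    exact ⟨_, rfl⟩
  exact h1 hx

end

/-- Let k be an algebraically closed field, B a connected solvable affine algebraic group over k
(affine, smooth, connected, solvable k-group scheme) acting on a complete k-scheme X (separated, of
finite type and proper over k) with finitely many orbits (finitely many subsets of X arise as images
of orbit maps of k-points), and Y a separated k-scheme of finite type on which B acts trivially.
Then every closed irreducible subset Z of X ×_k Y which is stable under the translations by all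
k-points of B (acting on the first factor) is of the form V × W: there are a B-stable closed
irreducible subset V of X and a closed irreducible subset W of Y with Z equal to the set of points
whose two projections lie in V and in W. -/
theorem result (k : Type u) [Field k] [IsAlgClosed k]
    (B X Y : Over (Spec (CommRingCat.of k))) [GrpObj B] [IsAffine B.left] [Smooth B.hom] [ConnectedSpace ↥B.left]
    (hsolv : Red.IsSolvableGrp B)
    [IsProper X.hom]
    [IsSeparated Y.hom] [LocallyOfFiniteType Y.hom] [QuasiCompact Y.hom]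
    (a : AlgGrp.Action B X)
    (hfin : Set.Finite {S : Set ↥X.left | ∃ x : 𝟙_ (Over (Spec (CommRingCat.of k))) ⟶ X, S = Set.range ⇑(a.orbitMap x).left.base})
    (Z : Set ↥(X ⊗ Y).left) (hZc : IsClosed Z) (hZi : IsIrreducible Z)
    (hZs : ∀ b : 𝟙_ (Over (Spec (CommRingCat.of k))) ⟶ B,
      ⇑(CartesianMonoidalCategory.lift (CartesianMonoidalCategory.toUnit (X ⊗ Y) ≫ b) (𝟙 (X ⊗ Y)) ≫
          (α_ B X Y).inv ≫ (a.act ▷ Y)).left.base '' Z ⊆ Z) :
    ∃ (V : Set ↥X.left) (W : Set ↥Y.left), IsClosed V ∧ IsIrreducible V ∧ IsClosed W ∧ IsIrreducible W ∧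
      (∀ b : 𝟙_ (Over (Spec (CommRingCat.of k))) ⟶ B,
        ⇑(CartesianMonoidalCategory.lift (CartesianMonoidalCategory.toUnit X ≫ b) (𝟙 X) ≫ a.act).left.base '' V ⊆ V) ∧
      Z = ⇑(CartesianMonoidalCategory.fst X Y).left.base ⁻¹' V ∩ ⇑(CartesianMonoidalCategory.snd X Y).left.base ⁻¹' W := by
  have : QuasiCompact B.hom := (quasiCompact_iff_compactSpace (f := B.hom)).2 inferInstance
  exact main B X Y a hfin Z hZc hZi hZs

end Groth.Agent.S15240
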