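import Groth.Statements.S15241
import Groth.Agent.AGF.K499.Kleiman2

set_option autoImplicit false
universe u
open CategoryTheory CategoryTheory.Limits MonoidalCategory CartesianMonoidalCategory MonObj GrpObj AlgebraicGeometry
open AGF

namespace Groth.Agent.S15241

section aux

open K499.FlatGen K499.DimGen K499.ActPts K499.Kleiman Groth.Agent.Books.AlgPts
open Groth.Agent.CycB.RelDim TopologicalSpace Topology

/-- The maximal points of an irreducible closed subset. -/
theorem closure_of_gen {T : Type*} [TopologicalSpace T] [QuasiSober T] {Y : Set T}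
    (hc : IsClosed Y) (hi : IsIrreducible Y) {y : T} (hy : Gen Y y) : closure {y} = Y := by
  obtain ⟨w, hw⟩ := QuasiSober.sober hi hc
  have h1 : w ⤳ y := hw.specializes hy.1
  rw [← hy.2 w hw.mem h1]
  exact hw.def

theorem orb_eq_univ {k : Type u} [Field k] [IsAlgClosed k]
    {G X : Over (Spec (CommRingCat.of k))} [GrpObj G] (a : AlgGrp.Action G X)
    [IsIntegral G.left] [IsSeparated G.hom] [LocallyOfFiniteType G.hom] [QuasiCompact G.hom]
    [IsSeparated X.hom] [LocallyOfFiniteType X.hom] [QuasiCompact X.hom]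
    (htrans : ∀ x x' : 𝟙_ (Over (Spec (CommRingCat.of k))) ⟶ X,
      ∃ σ : 𝟙_ (Over (Spec (CommRingCat.of k))) ⟶ G, CartesianMonoidalCategory.lift σ x ≫ a.act = x')
    (x : 𝟙_ (Over (Spec (CommRingCat.of k))) ⟶ X) : orb a x = Set.univ := by
  have hpt : ∀ z : 𝟙_ (Over (Spec (CommRingCat.of k))) ⟶ X, pt z ∈ orb a x := by
    intro z
    obtain ⟨σ, hσ⟩ := htrans x z
    refine ⟨pt σ, ?_⟩
    rw [← pt_comp, pt_orbitMap, hσ]
  have h1 : closure (orb a x) = Set.univ := by
    apply Set.eq_univ_of_univ_subset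
    exact subset_of_forall_pt isClosed_univ.isLocallyClosed isClosed_closure
      fun z _ => subset_closure (hpt z)
  obtain ⟨U, hU, hU'⟩ := isLocallyClosed_orb a x
  rw [h1, Set.inter_univ] at hU'
  by_contra hne
  obtain ⟨z, hz⟩ := exists_pt_mem (X := X) (U := (orb a x)ᶜ)
    (Set.nonempty_compl.2 hne) (by rw [hU']; exact hU.isClosed_compl.isLocallyClosed)
  exact hz (hpt z)

theorem aux {k : Type u} [Field k] [IsAlgClosed k]
    {G X : Over (Spec (CommRingCat.of k))} [GrpObj G] (a : AlgGrp.Action G X)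
    [IsIntegral G.left] [IsSeparated G.hom] [LocallyOfFiniteType G.hom] [QuasiCompact G.hom]
    [IsIntegral X.left] [IsSeparated X.hom] [LocallyOfFiniteType X.hom] [QuasiCompact X.hom]
    (htrans : ∀ x x' : 𝟙_ (Over (Spec (CommRingCat.of k))) ⟶ X,
      ∃ σ : 𝟙_ (Over (Spec (CommRingCat.of k))) ⟶ G, CartesianMonoidalCategory.lift σ x ≫ a.act = x')
    (Y₁ Y₂ : Set ↥X.left) (h₁c : IsClosed Y₁) (h₁i : IsIrreducible Y₁) (h₂c : IsClosed Y₂)
    (h₂i : IsIrreducible Y₂)
    (n r s : ℕ) (hn : topologicalKrullDim ↥X.left = n) (hr : topologicalKrullDim ↥Y₁ = r)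
    (hs : topologicalKrullDim ↥Y₂ = s) :
    ∃ V : G.left.Opens, (V : Set ↥G.left).Nonempty ∧
      ∀ σ : 𝟙_ (Over (Spec (CommRingCat.of k))) ⟶ G, pt σ ∈ V →
        ∀ c, Gen ((tr a σ).left '' Y₁ ∩ Y₂) c → rtd X.hom c + n = r + s := by
  obtain ⟨x, -⟩ := exists_pt_mem (X := X) (U := Set.univ) ⟨genericPoint X.left, trivial⟩
    isClosed_univ.isLocallyClosed
  have ho := orb_eq_univ a htrans x
  obtain ⟨V, hV, hV'⟩ := exists_good a x h₁c h₂c
  refine ⟨V, hV, fun σ hσ c hc => ?_⟩
  rw [ho] at hV'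
  obtain ⟨y₁, y₂, h1, h2, h3⟩ := hV' σ hσ c trivial (by rwa [closure_univ, Set.inter_univ])
  rw [closure_univ, Set.inter_univ] at h1 h2
  have h4 := h3 n (by
    rw [closure_univ, ← hn]
    exact IsHomeomorph.topologicalKrullDim_eq _ (Homeomorph.Set.univ X.left).isHomeomorph)
  rw [← h4]
  have e1 : rtd X.hom y₁ = r := by
    rw [← Groth.Agent.Sga2lef.H134.DimCl.dim_eq_iff X.hom, closure_of_gen h₁c h₁i h1]
    exact hr
  have e2 : rtd X.hom y₂ = s := by
    rw [← Groth.Agent.Sga2lef.H134.DimCl.dim_eq_iff X.hom, closure_of_gen h₂c h₂i h2]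
    exact hs
  rw [e1, e2]

end aux

/-- Let k be an algebraically closed field of characteristic zero, G a group variety over k (an
integral, separated k-group scheme of finite type) acting on a variety X over k (integral,
separated, of finite type) of dimension n such that G(k) acts transitively on X(k), and let Y₁, Y₂
be closed irreducible subsets of X of dimensions r and s. Then for g in a nonempty open subset of G
the translate g · Y₁ meets Y₂ properly: there is a nonempty open V ⊆ G such that for every k-point g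
of G lying in V, the intersection of Y₂ with the image of Y₁ under x ↦ g · x is either empty or has
every irreducible component of dimension exactly r + s − n (and then n ≤ r + s). (The published
statement also asserts multiplicity one along each component, which is not stated here. The
published setting is over the complex numbers with G affine; this row assumes an algebraically
closed field of characteristic zero and any group variety, which is all the printed argument uses.) -/
theorem result (k : Type u) [Field k] [IsAlgClosed k] [CharZero k]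
    (G X : Over (Spec (CommRingCat.of k))) [GrpObj G] (a : AlgGrp.Action G X)
    [IsIntegral G.left] [IsSeparated G.hom] [LocallyOfFiniteType G.hom] [QuasiCompact G.hom]
    [IsIntegral X.left] [IsSeparated X.hom] [LocallyOfFiniteType X.hom] [QuasiCompact X.hom]
    (htrans : ∀ x x' : 𝟙_ (Over (Spec (CommRingCat.of k))) ⟶ X,
      ∃ σ : 𝟙_ (Over (Spec (CommRingCat.of k))) ⟶ G, CartesianMonoidalCategory.lift σ x ≫ a.act = x')
    (Y₁ Y₂ : Set ↥X.left) (h₁c : IsClosed Y₁) (h₁i : IsIrreducible Y₁) (h₂c : IsClosed Y₂) (h₂i : IsIrreducible Y₂)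
    (n r s : ℕ) (hn : topologicalKrullDim ↥X.left = n) (hr : topologicalKrullDim ↥Y₁ = r)
    (hs : topologicalKrullDim ↥Y₂ = s) :
    ∃ V : G.left.Opens, (V : Set ↥G.left).Nonempty ∧
      ∀ σ : 𝟙_ (Over (Spec (CommRingCat.of k))) ⟶ G, Set.range ⇑σ.left.base ⊆ (V : Set ↥G.left) →
        ⇑(CartesianMonoidalCategory.lift (CartesianMonoidalCategory.toUnit X ≫ σ) (𝟙 X) ≫ a.act).left.base '' Y₁ ∩ Y₂ = ∅ ∨
        (n ≤ r + s ∧ ∀ C ∈ irreducibleComponents
            ↥(⇑(CartesianMonoidalCategory.lift (CartesianMonoidalCategory.toUnit X ≫ σ) (𝟙 X) ≫ a.act).left.base '' Y₁ ∩ Y₂),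
          topologicalKrullDim ↥C = ((r + s - n : ℕ) : WithBot ℕ∞)) := by
  obtain ⟨V, hV, hV'⟩ := aux a htrans Y₁ Y₂ h₁c h₁i h₂c h₂i n r s hn hr hs
  refine ⟨V, hV, fun σ hσ => ?_⟩
  have hcl : IsClosed ((K499.ActPts.tr a σ).left '' Y₁ ∩ Y₂) :=
    ((K499.Kleiman.homeo a σ).isClosedMap Y₁ h₁c).inter h₂c
  have key := hV' σ (hσ ⟨_, rfl⟩)
  rcases Set.eq_empty_or_nonempty ((K499.ActPts.tr a σ).left '' Y₁ ∩ Y₂) with h | ⟨z, hz⟩
  · exact Or.inl h
  · obtain ⟨c, hc, -⟩ := K499.DimGen.exists_gen hcl hz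
    have hfin : ∀ c, K499.FlatGen.Gen ((K499.ActPts.tr a σ).left '' Y₁ ∩ Y₂) c →
        n ≤ r + s ∧ Groth.Agent.CycB.RelDim.rtd X.hom c = ((r + s - n : ℕ) : Cardinal.{u}) := by
      intro c hc
      have h1 := key c hc
      obtain ⟨m, hm⟩ := Cardinal.lt_aleph0.1 (Groth.Agent.CycB.RelDim.rtd_lt_aleph0 X.hom c)
      rw [hm] at h1 ⊢
      have h2 : m + n = r + s := by exact_mod_cast h1
      exact ⟨by omega, by congr 1; omega⟩
    refine Or.inr ⟨(hfin c hc).1, fun C hC => ?_⟩
    obtain ⟨c', h1, -, h3⟩ := K499.DimGen.exists_gen_of_mem hcl hC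
    refine h3.trans ?_
    rw [Groth.Agent.Sga2lef.H134.DimCl.dim_eq_iff X.hom]
    exact (hfin c' h1).2

end Groth.Agent.S15241
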