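import Groth.Statements.S15242
import Groth.Agent.AGF.K499.QuotSec2
import Groth.Agent.Sga3B.Parab.DynCell998
import Groth.Agent.Sga3B.Parab.DynExist998
import Groth.Agent.Sga3B.Par.LevFin622
import Groth.Agent.Sga3B.SplitFin885
import Groth.Agent.Sga3B.AlgBc2

set_option autoImplicit false
universe u
open CategoryTheory CategoryTheory.Limits MonoidalCategory CartesianMonoidalCategory MonObj GrpObj AlgebraicGeometry
open AGF

namespace Groth.Agent.S15242

open K499.QuotSec Groth.Agent.Sga3B.Parab

/-- `G ⟶ G/P` has local sections. -/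
theorem exists_section {k : Type u} [Field k] [IsAlgClosed k]
    {G P Q : Over (Spec (CommRingCat.of k))} [GrpObj G] [GrpObj P]
    (hG : Red.IsReductiveOver k G) (iP : P ⟶ G) (hP : Red.IsParabolicOver k iP)
    (q : G ⟶ Q) (hq : RedSub.IsQuotient iP q)
    (aQ : AlgGrp.Action G Q) (haQ : (G ◁ q) ≫ aQ.act = μ[G] ≫ q) (y : Q.left) :
    ∃ W : Q.left.Opens, y ∈ W ∧ ∃ s : Over.mk (W.ι ≫ Q.hom) ⟶ G, s ≫ q = Over.homMk W.ι := by
  have hG' : Red.IsReductive G := Groth.Agent.Sga3B.AlgBc.isReductive_iff.2 hG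
  have hP' : Red.IsParabolic iP := Groth.Agent.Sga3B.AlgBc.isParabolic_iff.2 hP
  have hsm : Smooth G.hom := hG'.2.1
  obtain ⟨lam, hlam, hp⟩ := Groth.Agent.Sga3B.Par.LevFin622.exists_cochar
    Groth.Agent.Sga3B.SplitFin885.splitTStmt hG' iP hP'
  have haff : IsAffineHom G.hom := hG'.1
  obtain ⟨U, _, u, hu, -⟩ := DynExist998.exists_isDynU (negLam lam)
  have h1 := DynCell998.isOpenImmersion_cell hp hu
  have h2 := isOpenImmersion_comp iP q hq u h1
  exact exists_local_section q hq.1 aQ haQ u h2 ⟨(η[U] : 𝟙_ _ ⟶ U).left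
    (IsLocalRing.closedPoint k)⟩ y

/-- Let k be an algebraically closed field of characteristic zero, G a connected reductive group over k,
P a parabolic subgroup of G with quotient q : G → Q = G/P (Q represents the fppf quotient) endowed
with the G-action for which q is equivariant for left multiplication, Y a variety over k (integral,
separated, of finite type) with a G-action, and f : Y → Q a G-equivariant morphism. Let F be the
fibre of f over the base point q(1). Then Y is the associated bundle G ×^P F over G/P, in the form: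
every point of Q has an open neighbourhood U over which the restriction of f is isomorphic, over U,
to the projection U ×_k F → U (existence of such an isomorphism); in particular f is flat. (The
published statement is over the complex numbers; this row assumes an algebraically closed field of
characteristic zero, which is all the printed argument uses.) -/
theorem result (k : Type u) [Field k] [IsAlgClosed k] [CharZero k]
    (G P Q Y : Over (Spec (CommRingCat.of k))) [GrpObj G] [GrpObj P]
    (hG : Red.IsReductiveOver k G) (iP : P ⟶ G) (hP : Red.IsParabolicOver k iP)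
    (q : G ⟶ Q) (hq : RedSub.IsQuotient iP q)
    (aQ : AlgGrp.Action G Q) (haQ : (G ◁ q) ≫ aQ.act = μ[G] ≫ q)
    [IsIntegral Y.left] [IsSeparated Y.hom] [LocallyOfFiniteType Y.hom] [QuasiCompact Y.hom]
    (aY : AlgGrp.Action G Y) (f : Y ⟶ Q) (hf : (G ◁ f) ≫ aQ.act = aY.act ≫ f) :
    (∀ y : ↥Q.left, ∃ U : Q.left.Opens, y ∈ U ∧
      ∃ φ : (↑(f.left ⁻¹ᵁ U) : Scheme.{u}) ≅
          pullback (U.ι ≫ Q.hom) (pullback.snd f.left (η[G] ≫ q).left ≫ (𝟙_ (Over (Spec (CommRingCat.of k)))).hom),
        φ.hom ≫ pullback.fst (U.ι ≫ Q.hom) (pullback.snd f.left (η[G] ≫ q).left ≫ (𝟙_ (Over (Spec (CommRingCat.of k)))).hom) ≫ U.ι =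
          (f.left ⁻¹ᵁ U).ι ≫ f.left) ∧
    Flat f.left := by
  have key : ∀ y : ↥Q.left, ∃ U : Q.left.Opens, y ∈ U ∧
      ∃ φ : (↑(f.left ⁻¹ᵁ U) : Scheme.{u}) ≅
          pullback (U.ι ≫ Q.hom) (pullback.snd f.left (η[G] ≫ q).left ≫ (𝟙_ (Over (Spec (CommRingCat.of k)))).hom),
        φ.hom ≫ pullback.fst (U.ι ≫ Q.hom) (pullback.snd f.left (η[G] ≫ q).left ≫ (𝟙_ (Over (Spec (CommRingCat.of k)))).hom) ≫ U.ι =
          (f.left ⁻¹ᵁ U).ι ≫ f.left := by
    intro y
    obtain ⟨U, hy, s, hs⟩ := exists_section hG iP hP q hq aQ haQ y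
    exact ⟨U, hy, exists_iso_opens q aQ haQ aY f hf U s hs⟩
  exact ⟨key, flat_of_iso f.left Q.hom _ key⟩

end Groth.Agent.S15242
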