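import Groth.Statements.S15243
import Groth.Agent.AGF.K499.Kleiman3

set_option autoImplicit false
universe u
open CategoryTheory CategoryTheory.Limits MonoidalCategory CartesianMonoidalCategory MonObj GrpObj AlgebraicGeometry
open AGF

namespace Groth.Agent.S15243

open K499.FlatGen K499.DimGen K499.ActPts K499.Kleiman Groth.Agent.Books.AlgPts
  Groth.Agent.CycB.RelDim TopologicalSpace Topology

/-- Let k be an algebraically closed field of characteristic zero, G a group variety over k (integral,
separated, of finite type k-group scheme) acting on a smooth variety X over k (integral, separated,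
smooth of finite type) of dimension n with finitely many orbits (finitely many subsets of X arise as
images of orbit maps of k-points), and let Y₁, Y₂ be closed irreducible subsets of X of
complementary dimensions r + s = n which meet every orbit closure properly: for every k-point x of X
with orbit O of dimension d (dimension of its closure), every irreducible component of Y₁ ∩
closure(O), resp. Y₂ ∩ closure(O), has dimension r + d − n, resp. s + d − n. Then for g in a
nonempty open subset of G the finite set g · Y₁ ∩ Y₂ lies in the open orbit: there is a nonempty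
open V ⊆ G such that for every k-point g of G in V and every k-point x₀ of X whose orbit is open,
the translate of Y₁ by g meets Y₂ only inside the orbit of x₀. (The published setting is over the
complex numbers with G affine; this row assumes an algebraically closed field of characteristic zero
and any group variety, which is all the printed argument uses.) -/
theorem result (k : Type u) [Field k] [IsAlgClosed k]
    [CharZero k] (G X : Over (Spec (CommRingCat.of k))) [GrpObj G] (a : AlgGrp.Action G X)
    [IsIntegral G.left] [IsSeparated G.hom] [LocallyOfFiniteType G.hom] [QuasiCompact G.hom]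
    [IsIntegral X.left] [IsSeparated X.hom] [Smooth X.hom] [QuasiCompact X.hom]
    (hfin : Set.Finite {S : Set ↥X.left | ∃ x : 𝟙_ (Over (Spec (CommRingCat.of k))) ⟶ X, S = Set.range ⇑(a.orbitMap x).left.base})
    (Y₁ Y₂ : Set ↥X.left) (h₁c : IsClosed Y₁) (h₁i : IsIrreducible Y₁) (h₂c : IsClosed Y₂) (h₂i : IsIrreducible Y₂)
    (n r s : ℕ) (hn : topologicalKrullDim ↥X.left = n) (hr : topologicalKrullDim ↥Y₁ = r)
    (hs : topologicalKrullDim ↥Y₂ = s) (hrs : r + s = n)
    (hproper : ∀ (x : 𝟙_ (Over (Spec (CommRingCat.of k))) ⟶ X) (d : ℕ), topologicalKrullDim ↥(closure (Set.range ⇑(a.orbitMap x).left.base)) = d →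
      (∀ C ∈ irreducibleComponents ↥(Y₁ ∩ closure (Set.range ⇑(a.orbitMap x).left.base)),
          n ≤ r + d ∧ topologicalKrullDim ↥C = ((r + d - n : ℕ) : WithBot ℕ∞)) ∧
      (∀ C ∈ irreducibleComponents ↥(Y₂ ∩ closure (Set.range ⇑(a.orbitMap x).left.base)),
          n ≤ s + d ∧ topologicalKrullDim ↥C = ((s + d - n : ℕ) : WithBot ℕ∞))) :
    ∃ V : G.left.Opens, (V : Set ↥G.left).Nonempty ∧
      ∀ σ : 𝟙_ (Over (Spec (CommRingCat.of k))) ⟶ G, Set.range ⇑σ.left.base ⊆ (V : Set ↥G.left) →
        ∀ x₀ : 𝟙_ (Over (Spec (CommRingCat.of k))) ⟶ X, IsOpen (Set.range ⇑(a.orbitMap x₀).left.base) →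
          ⇑(CartesianMonoidalCategory.lift (CartesianMonoidalCategory.toUnit X ≫ σ) (𝟙 X) ≫ a.act).left.base '' Y₁ ∩ Y₂ ⊆ Set.range ⇑(a.orbitMap x₀).left.base := by
  obtain ⟨V, hV, hV'⟩ := exists_good_of_finite a hfin h₁c h₂c
  refine ⟨V, hV, fun σ hσ x₀ hx₀ => ?_⟩
  have hp₁ : Proper a n r Y₁ := fun x d hd => (hproper x d hd).1
  have hp₂ : Proper a n s Y₂ := fun x d hd => (hproper x d hd).2
  have hcl : IsClosed ((tr a σ).left '' Y₁ ∩ Y₂) := (isClosed_translate a σ h₁c).inter h₂c
  intro w hw
  by_contra hne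
  obtain ⟨z, hz1, hz2⟩ := exists_pt_mem (X := X)
    (U := ((tr a σ).left '' Y₁ ∩ Y₂) ∩ (orb a x₀)ᶜ) ⟨w, hw, hne⟩
    (hcl.inter hx₀.isClosed_compl).isLocallyClosed
  obtain ⟨c, hc, hcz⟩ := exists_gen (hcl.inter (isClosed_closure (s := orb a z)))
    (z := pt z) ⟨hz1, subset_closure (pt_mem_orb a z)⟩
  have hco : c ∈ orb a z := by
    obtain ⟨U, hU, hU'⟩ := isLocallyClosed_orb a z
    rw [hU']
    refine ⟨hcz.mem_open hU ?_, hc.1.2⟩
    have h1 : pt z ∈ U ∩ closure (orb a z) := by rw [← hU']; exact pt_mem_orb a z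
    exact h1.1
  obtain ⟨d, hd, hd'⟩ := exists_dim_orb a z
  obtain ⟨m, hm⟩ := Cardinal.lt_aleph0.1 (rtd_lt_aleph0 X.hom c)
  have key := rtd_of_good a h₁c h₂c hp₁ hp₂ z (hV' z) d hd σ (hσ ⟨_, rfl⟩) hco hc m hm
  have hgen : rtd X.hom (genericPoint X.left) = n := by
    rw [← Groth.Agent.Sga2lef.H134.DimCl.dim_eq_iff X.hom, genericPoint_closure, ← hn]
    exact IsHomeomorph.topologicalKrullDim_eq _ (Homeomorph.Set.univ X.left).isHomeomorph
  have heq : (a.orbitMap z).left (genericPoint G.left) = genericPoint X.left := by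
    by_contra hne'
    have h2 := rtd_lt_of_specializes X.hom (genericPoint_specializes
      ((a.orbitMap z).left (genericPoint G.left))) (Ne.symm hne') (Subsingleton.elim _ _)
    rw [hd', hgen] at h2
    have h3 : d < n := by exact_mod_cast h2
    omega
  have h4 : genericPoint X.left ∈ orb a z := ⟨_, heq⟩
  have h5 : genericPoint X.left ∈ orb a x₀ :=
    (genericPoint_specializes (pt x₀)).mem_open hx₀ (pt_mem_orb a x₀)
  obtain ⟨U, hU, hU'⟩ := isLocallyClosed_orb a z
  obtain ⟨v, hv1, hv2⟩ := exists_pt_mem (X := X) (U := orb a z ∩ orb a x₀) ⟨_, h4, h5⟩ (by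
    rw [hU']
    exact (hU.isLocallyClosed.inter isClosed_closure.isLocallyClosed).inter hx₀.isLocallyClosed)
  have h6 := orb_eq_of_pt_mem a z v hv1
  have h7 := orb_eq_of_pt_mem a x₀ v hv2
  apply hz2
  rw [← h7, h6]
  exact pt_mem_orb a z

end Groth.Agent.S15243
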