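import Groth.Statements.S15244
import Groth.Agent.RedSub.K210.BruhatFin

set_option autoImplicit false
universe u
open CategoryTheory CategoryTheory.Limits MonoidalCategory CartesianMonoidalCategory MonObj GrpObj AlgebraicGeometry
open RedSub

namespace Groth.Agent.S15244

/-- Let k be an algebraically closed field of characteristic zero and G a semisimple simply connected
group over k, split by D (maximal torus T with character group M, root datum with roots indexed by
idx, root homomorphisms u_a), with the coroots spanning the dual lattice of M (simple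
connectedness); let b be a system of simple roots, e⁺ an enumeration of the positive roots, so that
the image of (t, x) ↦ t · ∏ u_{e⁺ i}(x_i) is the Borel subgroup B, and n a family of k-points
realising the reflections. For a word l in idx write n_l for the product of the n's along l, w_l for
the corresponding Weyl group element acting on idx, and C(l) ⊆ G for the double coset B n_l B (the
image of (b₁, b₂) ↦ b₁ n_l b₂). For w acting on idx let ℓ(w) be the number of positive roots a with
w a negative. Then for words l, l': C(l') is contained in the closure of C(l) in G — equivalently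
the Schubert cell of w_{l'} lies in the closure of that of w_l in G/B — if and only if w_{l'} ≤ w_l
for the order generated (reflexively and transitively) by the steps w ↦ σ_γ w with γ a positive root
and ℓ(σ_γ w) = ℓ(w) + 1. (Here ℓ is taken as the number of inverted positive roots, which is the
length.) -/
theorem result (k : Type u) [Field k] [IsAlgClosed k] [CharZero k]
    (G : Over (Spec (CommRingCat.of k))) [GrpObj G] (hG : Red.IsSemisimpleOver k G) (D : Red.SplitRed G)
    (hsc : Submodule.span ℤ (Set.range ⇑D.P.coroot) = ⊤)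
    (b : D.P.Base) {m : ℕ} (epos : Fin m → D.idx) (hpos : RedSub.Enumerates (RedSub.posRoots D.P b) epos)
    (nr : D.idx → (𝟙_ (Over (Spec (CommRingCat.of k))) ⟶ G)) (hnr : RedSub.RealisesReflections D nr) (l l' : List D.idx) :
    Set.range ⇑((CartesianMonoidalCategory.fst (D.T ⊗ RedSub.pow (Red.Ga (Spec (CommRingCat.of k))) m) (D.T ⊗ RedSub.pow (Red.Ga (Spec (CommRingCat.of k))) m) ≫ RedSub.borelMap D epos) *
          (CartesianMonoidalCategory.toUnit ((D.T ⊗ RedSub.pow (Red.Ga (Spec (CommRingCat.of k))) m) ⊗ (D.T ⊗ RedSub.pow (Red.Ga (Spec (CommRingCat.of k))) m)) ≫ (l'.map nr).prod) *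
          (CartesianMonoidalCategory.snd (D.T ⊗ RedSub.pow (Red.Ga (Spec (CommRingCat.of k))) m) (D.T ⊗ RedSub.pow (Red.Ga (Spec (CommRingCat.of k))) m) ≫ RedSub.borelMap D epos)).left.base ⊆
      closure (Set.range ⇑((CartesianMonoidalCategory.fst (D.T ⊗ RedSub.pow (Red.Ga (Spec (CommRingCat.of k))) m) (D.T ⊗ RedSub.pow (Red.Ga (Spec (CommRingCat.of k))) m) ≫ RedSub.borelMap D epos) *
          (CartesianMonoidalCategory.toUnit ((D.T ⊗ RedSub.pow (Red.Ga (Spec (CommRingCat.of k))) m) ⊗ (D.T ⊗ RedSub.pow (Red.Ga (Spec (CommRingCat.of k))) m)) ≫ (l.map nr).prod) *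
          (CartesianMonoidalCategory.snd (D.T ⊗ RedSub.pow (Red.Ga (Spec (CommRingCat.of k))) m) (D.T ⊗ RedSub.pow (Red.Ga (Spec (CommRingCat.of k))) m) ≫ RedSub.borelMap D epos)).left.base) ↔
    Relation.ReflTransGen
      (fun u v : Equiv.Perm D.idx => ∃ c : D.idx, c ∈ RedSub.posRoots D.P b ∧ v = D.P.reflectionPerm c * u ∧
        Set.ncard {a : D.idx | a ∈ RedSub.posRoots D.P b ∧ v a ∈ RedSub.negRoots D.P b} = Set.ncard {a : D.idx | a ∈ RedSub.posRoots D.P b ∧ u a ∈ RedSub.negRoots D.P b} + 1)
      (RedSub.wordPerm D.P l') (RedSub.wordPerm D.P l) := by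
  rw [K210.BruhatOrd.step_eq]
  exact K210.BruhatPts.range_subset_closure_iff_le D hsc b epos hpos nr hnr l l'

end Groth.Agent.S15244
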