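import Groth.Statements.S15247
import Groth.Agent.Fano.K713.PrimeForms
import Groth.Agent.CalgC.DimFT

set_option autoImplicit false
open Fano

namespace Groth.Agent.S15247

theorem le_choose (m j : ℕ) (h1 : 1 ≤ j) (h2 : j ≤ m) : m + 1 ≤ (m + 1).choose j := by
  induction m generalizing j with
  | zero => omega
  | succ m ih =>
    obtain ⟨j, rfl⟩ := Nat.exists_eq_add_of_le' h1
    rw [Nat.choose_succ_succ]
    rcases Nat.eq_zero_or_pos j with rfl | hj
    · simp
    · have h3 := ih j hj (by omega)
      have h4 : 0 < (m + 1).choose (j + 1) := Nat.choose_pos (by omega)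
      change m + 1 + 1 ≤ (m + 1).choose j + (m + 1).choose (j + 1)
      omega

/-- Over ℂ, let Y be an irreducible closed subscheme of projective m-space of dimension m − d, where 1 ≤
d and d + 1 ≤ m. Then the hypersurfaces of degree d + 1 containing Y form a linear family of
codimension at least m + 1 (that is, greater than m) in the projective space of all hypersurfaces of
degree d + 1. Here Y is given by a homogeneous ideal I of ℂ[x_0, …, x_m] whose radical is prime and
with dim ℂ[x_0, …, x_m]/I = m + 1 − d, a hypersurface contains Y when its form lies in I, and the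
conclusion reads: the forms of degree d + 1 in I span a subspace of codimension at least m + 1 in
the space of all forms of degree d + 1. -/
theorem result (m d : ℕ) (hd : 1 ≤ d) (hdm : d + 1 ≤ m)
    (I : Ideal (MvPolynomial (Fin (m + 1)) ℂ))
    (hI : I.IsHomogeneous (CohB1.polyGrading m ℂ))
    (hirr : I.radical.IsPrime)
    (hdim : ringKrullDim (MvPolynomial (Fin (m + 1)) ℂ ⧸ I) = ((m + 1 - d : ℕ) : WithBot ℕ∞)) :
    m + 1 + Module.finrank ℂ ↥(CohB1.polyGrading m ℂ (d + 1) ⊓ Submodule.restrictScalars ℂ I)
      ≤ Module.finrank ℂ (LefPen.Form m ℂ (d + 1)) := by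
  have hdim' : ringKrullDim (MvPolynomial (Fin (m + 1)) ℂ ⧸ I.radical) = ((m + 1 - d : ℕ) : WithBot ℕ∞) := by
    rw [← hdim, ringKrullDim_quotient, ringKrullDim_quotient, PrimeSpectrum.zeroLocus_radical]
  obtain ⟨r, hr1, hr2, -⟩ := Groth.Agent.CalgC.DimFT.exists_dim ℂ (MvPolynomial (Fin (m + 1)) ℂ ⧸ I.radical)
  have hr : r = m + 1 - d := by
    rw [hdim'] at hr1
    exact_mod_cast hr1.symm
  have h1 := K713.PrimeForms.choose_add_finrank_le I.radical hr2 (d + 1)
  have h2 : (r + (d + 1) - 1).choose (d + 1) = (m + 1).choose (d + 1) := by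
    rw [hr]
    congr 1
    omega
  rw [h2] at h1
  have h3 := le_choose m (d + 1) (by omega) hdm
  have h4 : Module.finrank ℂ ↥(CohB1.polyGrading m ℂ (d + 1) ⊓ Submodule.restrictScalars ℂ I) ≤
      Module.finrank ℂ ↥(CohB1.polyGrading m ℂ (d + 1) ⊓ Submodule.restrictScalars ℂ I.radical) := by
    refine Submodule.finrank_mono (inf_le_inf le_rfl ?_)
    exact fun x hx => Ideal.le_radical hx
  exact le_trans (Nat.add_le_add h3 h4) h1

end Groth.Agent.S15247
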