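import Groth.Statements.S15252
import Groth.Agent.Fano.K714.LinSp
import Mathlib.Analysis.Complex.Polynomial.Basic

set_option autoImplicit false
open Fano

namespace Groth.Agent.S15252

/-- Let X be a smooth cubic hypersurface in projective 4-space over ℂ and let L₁, L₂ be two distinct
lines on X which meet. Then there is a finite set G of points of L₁ such that every line on X
meeting both L₁ and L₂ passes through a point of G. Here X is given by a cubic form f in five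
variables satisfying the Jacobian smoothness condition at every nonzero zero, a line on X is a
2-dimensional subspace of ℂ^5 on which f vanishes, two lines meet when the subspaces intersect
non-trivially, and a point of L₁ is a 1-dimensional subspace of it. (The published statement also
covers two disjoint lines; this row assumes that L₁ and L₂ meet.) -/
theorem result
    (f : MvPolynomial (Fin 5) ℂ) (hf : f.IsHomogeneous 3)
    (hsm : ∀ u : Fin 5 → ℂ, u ≠ 0 → MvPolynomial.eval u f = 0 →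
      ∃ i : Fin 5, MvPolynomial.eval u (MvPolynomial.pderiv i f) ≠ 0)
    (L₁ L₂ : Submodule ℂ (Fin 5 → ℂ)) (h₁ : Module.finrank ℂ ↥L₁ = 2) (h₂ : Module.finrank ℂ ↥L₂ = 2)
    (hf₁ : ∀ u ∈ L₁, MvPolynomial.eval u f = 0) (hf₂ : ∀ u ∈ L₂, MvPolynomial.eval u f = 0)
    (hne : L₁ ≠ L₂) (hmeet : L₁ ⊓ L₂ ≠ ⊥) :
    ∃ G : Set (Submodule ℂ (Fin 5 → ℂ)), G.Finite ∧ (∀ g ∈ G, Module.finrank ℂ ↥g = 1 ∧ g ≤ L₁) ∧
      ∀ L : Submodule ℂ (Fin 5 → ℂ), Module.finrank ℂ ↥L = 2 → (∀ u ∈ L, MvPolynomial.eval u f = 0) →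
        L ⊓ L₁ ≠ ⊥ → L ⊓ L₂ ≠ ⊥ → ∃ g ∈ G, g ≤ L := by
  classical
  have hinf : Module.finrank ℂ ↥(L₁ ⊓ L₂) = 1 := by
    have h0 : Module.finrank ℂ ↥(L₁ ⊓ L₂) ≠ 0 := fun h => hmeet (Submodule.finrank_eq_zero.mp h)
    have h1 : L₁ ⊓ L₂ < L₁ := by
      refine lt_of_le_of_ne inf_le_left fun h => hne ?_
      exact Submodule.eq_of_le_of_finrank_eq (inf_eq_left.mp h) (by rw [h₁, h₂])
    have h2 := Submodule.finrank_lt_finrank_of_lt h1
    omega
  set P := L₁ ⊔ L₂ with hP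
  have hPd : Module.finrank ℂ ↥P = 3 := by
    have := Submodule.finrank_sup_add_finrank_inf_eq L₁ L₂
    rw [hP]
    omega
  -- `f` does not vanish on the plane
  obtain ⟨u, huP, hu⟩ : ∃ u ∈ P, MvPolynomial.eval u f ≠ 0 := by
    by_contra hcon
    push Not at hcon
    have := K714.LinSp.two_mul_finrank_le (by norm_num) f hf P hcon (fun u hu hu0 => hsm u hu0 (hcon u hu))
    omega
  have hfin := K714.LinSp.finite_hyperplanes f P u huP hu
  -- two distinct lines in the plane meet in a point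
  have key : ∀ M : Submodule ℂ (Fin 5 → ℂ), M ≤ P → Module.finrank ℂ ↥M = 2 → M ≠ L₁ →
      Module.finrank ℂ ↥(L₁ ⊓ M) = 1 := by
    intro M hMP hM hML
    have h1 := Submodule.finrank_sup_add_finrank_inf_eq L₁ M
    have h2 : Module.finrank ℂ ↥(L₁ ⊔ M) ≤ 3 := by
      rw [← hPd]
      exact Submodule.finrank_mono (sup_le le_sup_left hMP)
    have h3 : L₁ ⊓ M < L₁ := by
      refine lt_of_le_of_ne inf_le_left fun h => hML ?_
      exact (Submodule.eq_of_le_of_finrank_eq (inf_eq_left.mp h) (by rw [h₁, hM])).symm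
    have h4 := Submodule.finrank_lt_finrank_of_lt h3
    omega
  refine ⟨(fun M => L₁ ⊓ M) '' {M | (M ≤ P ∧ Module.finrank ℂ ↥M + 1 = Module.finrank ℂ ↥P ∧
    ∀ x ∈ M, MvPolynomial.eval x f = 0) ∧ M ≠ L₁}, (hfin.subset fun M hM => hM.1).image _, ?_, ?_⟩
  · rintro _ ⟨M, ⟨⟨hMP, hM, -⟩, hML⟩, rfl⟩
    exact ⟨key M hMP (by omega) hML, inf_le_left⟩
  · intro L hL hfL hL1 hL2
    have hmem2 : L₁ ⊓ L₂ ∈ (fun M => L₁ ⊓ M) '' {M | (M ≤ P ∧ Module.finrank ℂ ↥M + 1 = Module.finrank ℂ ↥P ∧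
        ∀ x ∈ M, MvPolynomial.eval x f = 0) ∧ M ≠ L₁} :=
      ⟨L₂, ⟨⟨le_sup_right, by omega, hf₂⟩, hne.symm⟩, rfl⟩
    by_cases hLP : L ≤ P
    · by_cases hLL : L = L₁
      · exact ⟨L₁ ⊓ L₂, hmem2, hLL ▸ inf_le_left⟩
      · exact ⟨L₁ ⊓ L, ⟨L, ⟨⟨hLP, by omega, hfL⟩, hLL⟩, rfl⟩, inf_le_right⟩
    · refine ⟨L₁ ⊓ L₂, hmem2, ?_⟩
      obtain ⟨q₁, hq₁, hq₁0⟩ := Submodule.exists_mem_ne_zero_of_ne_bot hL1
      obtain ⟨q₂, hq₂, hq₂0⟩ := Submodule.exists_mem_ne_zero_of_ne_bot hL2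
      have hspan : Submodule.span ℂ {q₁} ≤ L₁ ⊓ L₂ := by
        rw [Submodule.span_singleton_le_iff_mem]
        refine ⟨hq₁.2, ?_⟩
        by_contra hq
        -- then `q₁, q₂` span `L`
        have hlt1 : L ⊓ L₂ < L := by
          refine lt_of_le_of_ne inf_le_left fun h => hq ?_
          exact (inf_eq_left.mp h) hq₁.1
        have hlt2 := Submodule.finrank_lt_finrank_of_lt hlt1
        have hle : (L ⊓ L₁) ⊔ (L ⊓ L₂) ≤ L := sup_le inf_le_left inf_le_left
        have hne' : L ⊓ L₂ < (L ⊓ L₁) ⊔ (L ⊓ L₂) := by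
          refine lt_of_le_of_ne le_sup_right fun h => hq ?_
          have : q₁ ∈ L ⊓ L₂ := h.symm.le (Submodule.mem_sup_left hq₁)
          exact this.2
        have hlt3 := Submodule.finrank_lt_finrank_of_lt hne'
        have hpos : Module.finrank ℂ ↥(L ⊓ L₂) ≠ 0 := fun h => hL2 (Submodule.finrank_eq_zero.mp h)
        have heq : (L ⊓ L₁) ⊔ (L ⊓ L₂) = L := Submodule.eq_of_le_of_finrank_le hle (by omega)
        apply hLP
        rw [← heq]
        exact sup_le (inf_le_right.trans le_sup_left) (inf_le_right.trans le_sup_right)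
      have heq : Submodule.span ℂ {q₁} = L₁ ⊓ L₂ :=
        Submodule.eq_of_le_of_finrank_eq hspan (by rw [hinf, finrank_span_singleton hq₁0])
      rw [← heq, Submodule.span_singleton_le_iff_mem]
      exact hq₁.1

end Groth.Agent.S15252
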