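import Groth.Statements.S15254
import Groth.Agent.W4c2seshadripos.K850.PointVanish
import Groth.Agent.S0051

set_option autoImplicit false
universe u
open CategoryTheory CategoryTheory.Limits AlgebraicGeometry TopologicalSpace
open W4c2seshadripos

namespace Groth.Agent.S15254

/-- Let X be an integral scheme proper over a field k (the published statement: a projective variety), x
a closed point of X with ideal sheaf m_x, and L an ample invertible O_X-module. Then there is m₀
such that for every m ≥ m₀, every i > 1 and every a ≥ 0 the cohomology group H^i(X, m_x^a ⊗ L^{⊗m})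
vanishes (here m_x^a ⊗ L^{⊗m} = m_x^a · L^{⊗m}, the ideal sheaf m_x^a being taken as an O_X-module). -/
theorem result (k : Type u) [Field k] (X : Scheme.{u})
    [X.Over (Spec (CommRingCat.of k))] [IsProper (X ↘ (Spec (CommRingCat.of k)))] [IsIntegral X]
    (x : X) (hx : IsClosed ({x} : Set X)) (L : X.Modules) (hL : CohB1.IsAmple L) :
    ∃ m₀ : ℕ, ∀ m : ℕ, m₀ ≤ m → ∀ i : ℕ, 1 < i → ∀ a : ℕ,
      Subsingleton (Coh.HH X (CohB1.tensorMod (ClSub.idealMod ((W4c2seshadripos.pointIdeal x hx) ^ a))
        (CohB1.tensorPow L m)) i) := by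
  have hcoh : IsLocallyNoetherian X := LocallyOfFiniteType.isLocallyNoetherian (X ↘ (Spec (CommRingCat.of k)))
  have hinv : PicF.IsInvertible L := hL.1
  obtain ⟨m₀, hm₀⟩ := (Groth.Agent.S0051.result k X (X ↘ (Spec (CommRingCat.of k))) L hinv).mp hL
    (Coh.structureModule X) (Groth.Agent.Fdesc.StructMod.isCoh_structureModule X)
  refine ⟨m₀, fun m hm i hi a => ?_⟩
  have h1 := hm₀ m hm i (by omega)
  have h2 : Subsingleton (Coh.HH X (CohB1.tensorPow L m) i) := by
    have e := Groth.Agent.Ega2.Tens.lunit (CohB1.tensorPow L m)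
    refine ⟨fun s t => ?_⟩
    have h3 := Subsingleton.elim (α := Coh.HH X (CohB1.tensorMod (Coh.structureModule X) (CohB1.tensorPow L m)) i)
      (Groth.Agent.CohqB.HSeqMod.hmap e.inv i s) (Groth.Agent.CohqB.HSeqMod.hmap e.inv i t)
    have h4 := congrArg (Groth.Agent.CohqB.HSeqMod.hmap e.hom i) h3
    rwa [← Groth.Agent.CohqB.HSeqMod.hmap_comp_apply, ← Groth.Agent.CohqB.HSeqMod.hmap_comp_apply,
      e.inv_hom_id, Groth.Agent.CohqB.HSeqMod.hmap_id_apply, Groth.Agent.CohqB.HSeqMod.hmap_id_apply] at h4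
  exact K850.PointVanish.subsingleton_tw _ hx (K850.IdealTwist.support_pointIdeal_pow_subset x hx a)
    (Groth.Agent.Fdesc.LocGen.isInvertible_tensorPow hinv m) i hi h2

end Groth.Agent.S15254
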