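import Groth.Statements.S15257
import Groth.Agent.W4c2seshadripos.K867.Main
import Groth.Agent.S7749
import Groth.Agent.S17103
import Groth.Agent.Vanish.K660.Rows2
import Groth.Agent.Vanish.K909.AltFinal
import Groth.Agent.Vanish.K910.DescNZ
import Groth.Agent.Resolve.K284.NodeB

set_option autoImplicit false
universe u
open CategoryTheory CategoryTheory.Limits AlgebraicGeometry TopologicalSpace
open W4c2seshadripos

namespace Groth.Agent.S15257

/-- Let k be an algebraically closed field with char k = 0 and X a smooth projective k-variety, n = dim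
X (an integral scheme, proper and smooth of relative dimension n over k, with an ample invertible
module); let ω be its canonical module Λ^n Ω_{X/k}, L a nef invertible O_X-module (degree ≥ 0 on
every integral curve), x a closed point of X with ideal sheaf m_x, and l ≥ 0 an integer. Let μ : X'
→ X be the blow-up of the point x and E its exceptional divisor, whose ideal I_E = m_x · O_{X'} is
invertible, and suppose the Seshadri constant of L at x exceeds n + l: for some real t > n + l the
class μ^* L − t E is nef, that is deg(μ^* L|_C) + t · deg(I_E|_C) ≥ 0 for every integral closed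
curve C ⊆ X', degrees of invertible modules on C being χ(O_C ⊗ M) − χ(O_C). Then ω ⊗ L separates
l-jets at x: H^0(X, ω ⊗ L) → H^0(X, (ω ⊗ L) / m_x^(l+1) (ω ⊗ L)) is surjective. (The published
statement also assumes L big; for nef L that follows from the Seshadri hypothesis, since (L^n) ≥
ε(L;x)^n > 0, so this row does not repeat it.) -/
theorem result (k : Type u) [Field k] [IsAlgClosed k]
    [CharZero k] (X : Scheme.{u}) [X.Over (Spec (CommRingCat.of k))] [IsIntegral X] (n : ℕ)
    [SmoothOfRelativeDimension n (X ↘ (Spec (CommRingCat.of k)))] [IsProper (X ↘ (Spec (CommRingCat.of k)))]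
    (hproj : ∃ A : X.Modules, CohB1.IsAmple A)
    (ω : X.Modules) (hω : Canon.IsTopDiff (X ↘ (Spec (CommRingCat.of k))) n ω)
    (L : X.Modules) (hL : PicF.IsInvertible L)
    (hnef : ∀ C : X.IdealSheafData, IsIntegral C.subscheme → topologicalKrullDim (C.support : Set X) = 1 →
      0 ≤ Curv2.euler k X (CohB1.tensorMod (ClSub.quotMod C) L) - Curv2.euler k X (ClSub.quotMod C))
    (x : X) (hx : IsClosed ({x} : Set X)) (l : ℕ)
    (Xt : Scheme.{u}) [Xt.Over (Spec (CommRingCat.of k))] (μ : Xt ⟶ X)
    (hμ : μ ≫ (X ↘ (Spec (CommRingCat.of k))) = Xt ↘ (Spec (CommRingCat.of k)))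
    (hbl : BlowUp.IsBlowUp μ (W4c2seshadripos.pointIdeal x hx))
    (t : ℝ) (ht : ((n : ℝ) + l) < t)
    (hε : ∀ C : Xt.IdealSheafData, IsIntegral C.subscheme → topologicalKrullDim (C.support : Set Xt) = 1 →
      (0 : ℝ) ≤ ((Curv2.euler k Xt (CohB1.tensorMod (ClSub.quotMod C) ((Scheme.Modules.pullback μ).obj L)) -
          Curv2.euler k Xt (ClSub.quotMod C) : ℤ) : ℝ) +
        t * ((Curv2.euler k Xt (CohB1.tensorMod (ClSub.quotMod C)
          (ClSub.idealMod (BlowUp.exceptional μ (W4c2seshadripos.pointIdeal x hx)))) -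
            Curv2.euler k Xt (ClSub.quotMod C) : ℤ) : ℝ)) :
    W4c2seshadripos.SeparatesJets (CohB1.tensorMod ω L) x hx l := by
  obtain ⟨A, hA⟩ := hproj
  exact K867.Main.main (fun X _ _ _ _ n hn H hH L Linv hL hLinv hnef hbig b hb =>
      K660.Rows.row16897 k (K909.AltFinal.alt k (K284.NodeB.nodeB k)) (K910.DescNZ.desc k)
        (fun X _ _ _ _ n hn => Groth.Agent.S17103.result k X n hn) X n hn H hH L Linv hL hLinv hnef hbig b hb)
    (K909.Kleiman.nak_of_nakCoeff k fun X _ _ L hL => (Groth.Agent.S7749.result k X L hL).2)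
    X n A hA ω hω L hL hnef x hx l Xt μ hμ hbl t ht hε

end Groth.Agent.S15257
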