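import Groth.Statements.S15258
import Groth.Agent.W4c2seshadripos.K850.EssFT

set_option autoImplicit false
universe u
open CategoryTheory CategoryTheory.Limits AlgebraicGeometry TopologicalSpace
open W4c2seshadripos

namespace Groth.Agent.S15258

/-- Call f : X → Y locally essentially of finite type when Y has a cover by affine opens U = Spec A such
that each f⁻¹(U) has a cover by affine opens Spec B with A → B essentially of finite type (a
localization of a finite-type A-algebra; Mathlib's RingHom.EssFiniteType), and essentially of finite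
type when moreover f is quasi-compact. Then f is locally essentially of finite type exactly when
every affine open U = Spec A of Y has f⁻¹(U) covered by affine opens V = Spec B of X with A → B
essentially of finite type. -/
theorem result {X Y : Scheme.{u}} (f : X ⟶ Y) :
    (∃ S : Set Y.affineOpens, (⋃ U ∈ S, ((U : Y.Opens) : Set ↥Y)) = Set.univ ∧
      ∀ U ∈ S, ∃ T : Set X.affineOpens, (⋃ V ∈ T, ((V : X.Opens) : Set ↥X)) = ((f ⁻¹ᵁ (U : Y.Opens)) : Set ↥X) ∧
        ∀ V ∈ T, ∃ e : (V : X.Opens) ≤ f ⁻¹ᵁ (U : Y.Opens), (f.appLE (U : Y.Opens) (V : X.Opens) e).hom.EssFiniteType) ↔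
    ∀ U : Y.affineOpens, ∃ T : Set X.affineOpens, (⋃ V ∈ T, ((V : X.Opens) : Set ↥X)) = ((f ⁻¹ᵁ (U : Y.Opens)) : Set ↥X) ∧
        ∀ V ∈ T, ∃ e : (V : X.Opens) ≤ f ⁻¹ᵁ (U : Y.Opens), (f.appLE (U : Y.Opens) (V : X.Opens) e).hom.EssFiniteType := by
  constructor
  · rintro ⟨S, hS, h⟩ U
    rw [K850.EssFT.cover_iff]
    intro x hx
    have hfx : f x ∈ (⋃ U ∈ S, ((U : Y.Opens) : Set ↥Y)) := by rw [hS]; trivial
    simp only [Set.mem_iUnion] at hfx
    obtain ⟨U₁, hU₁, hxU₁⟩ := hfx
    exact K850.EssFT.EFTAt.change U₁.2 U.2 hx ((K850.EssFT.cover_iff f U₁).mp (h U₁ hU₁) x hxU₁)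
  · intro h
    refine ⟨Set.univ, ?_, fun U _ => h U⟩
    have := iSup_affineOpens_eq_top Y
    apply Set.eq_univ_of_forall
    intro y
    have hy : y ∈ (⨆ U : Y.affineOpens, (U : Y.Opens)) := by rw [this]; trivial
    rw [Opens.mem_iSup] at hy
    obtain ⟨U, hU⟩ := hy
    simp only [Set.mem_iUnion]
    exact ⟨U, trivial, hU⟩

end Groth.Agent.S15258
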