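import Groth.Statements.S15259
import Groth.Agent.S15258
import Groth.Agent.W4c2seshadripos.K850.EssFT

set_option autoImplicit false
universe u
open CategoryTheory CategoryTheory.Limits AlgebraicGeometry TopologicalSpace
open W4c2seshadripos

namespace Groth.Agent.S15259

/-- Call f : X → Y locally essentially of finite type when Y has a cover by affine opens U = Spec A such
that each f⁻¹(U) has a cover by affine opens Spec B with A → B essentially of finite type (a
localization of a finite-type A-algebra; Mathlib's RingHom.EssFiniteType), and essentially of finite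
type when moreover f is quasi-compact. Then f is essentially of finite type exactly when every
affine open U = Spec A of Y has f⁻¹(U) covered by finitely many affine opens V = Spec B of X with A
→ B essentially of finite type. -/
theorem result {X Y : Scheme.{u}} (f : X ⟶ Y) :
    ((∃ S : Set Y.affineOpens, (⋃ U ∈ S, ((U : Y.Opens) : Set ↥Y)) = Set.univ ∧
      ∀ U ∈ S, ∃ T : Set X.affineOpens, (⋃ V ∈ T, ((V : X.Opens) : Set ↥X)) = ((f ⁻¹ᵁ (U : Y.Opens)) : Set ↥X) ∧
        ∀ V ∈ T, ∃ e : (V : X.Opens) ≤ f ⁻¹ᵁ (U : Y.Opens), (f.appLE (U : Y.Opens) (V : X.Opens) e).hom.EssFiniteType) ∧ QuasiCompact f) ↔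
    ∀ U : Y.affineOpens, ∃ T : Set X.affineOpens, T.Finite ∧ (⋃ V ∈ T, ((V : X.Opens) : Set ↥X)) = ((f ⁻¹ᵁ (U : Y.Opens)) : Set ↥X) ∧
        ∀ V ∈ T, ∃ e : (V : X.Opens) ≤ f ⁻¹ᵁ (U : Y.Opens), (f.appLE (U : Y.Opens) (V : X.Opens) e).hom.EssFiniteType := by
  constructor
  · rintro ⟨h, hqc⟩ U
    have h1 := (K850.EssFT.cover_iff f U).mp ((Groth.Agent.S15258.result f).mp h U)
    have hcomp : IsCompact ((f ⁻¹ᵁ (U : Y.Opens) : X.Opens) : Set X) :=
      QuasiCompact.isCompact_preimage (f := f) _ (U : Y.Opens).2 U.2.isCompact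
    choose V hxV hV using h1
    obtain ⟨t, htc⟩ := hcomp.elim_nhds_subcover' (fun x hx => ((V x hx : X.Opens) : Set X))
      (fun x hx => (V x hx : X.Opens).2.mem_nhds (hxV x hx))
    refine ⟨(fun x : ((f ⁻¹ᵁ (U : Y.Opens) : X.Opens) : Set X) => V x.1 x.2) ''
      (t : Set ((f ⁻¹ᵁ (U : Y.Opens) : X.Opens) : Set X)), (Finset.finite_toSet t).image _, ?_, ?_⟩
    · apply Set.Subset.antisymm
      · refine Set.iUnion₂_subset fun W hW => ?_
        obtain ⟨x, hx, rfl⟩ := hW
        obtain ⟨e, _⟩ := hV x.1 x.2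
        exact e
      · intro z hz
        have hz' := htc hz
        simp only [Set.mem_iUnion] at hz' ⊢
        obtain ⟨x, hx, hzx⟩ := hz'
        exact ⟨V x.1 x.2, ⟨x, hx, rfl⟩, hzx⟩
    · rintro W ⟨x, hx, rfl⟩
      exact hV x.1 x.2
  · intro h
    refine ⟨(Groth.Agent.S15258.result f).mpr fun U => ?_, ?_⟩
    · obtain ⟨T, _, hT, hT'⟩ := h U
      exact ⟨T, hT, hT'⟩
    · rw [quasiCompact_iff_forall_isAffineOpen]
      intro U hU
      obtain ⟨T, hfin, hT, _⟩ := h ⟨U, hU⟩
      have : IsCompact (⋃ V ∈ T, ((V : X.Opens) : Set ↥X)) :=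
        hfin.isCompact_biUnion fun V _ => V.2.isCompact
      rw [hT] at this
      exact this

end Groth.Agent.S15259
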