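import Groth.Statements.S15264
import Groth.Agent.Coherent.K585.Top
import Groth.Agent.Coherent.K53.Final

set_option autoImplicit false
open CategoryTheory CategoryTheory.Limits AlgebraicGeometry
open Coherent

namespace Groth.Agent.S15264

/-- In the following form. Over the complex numbers, let S be a separated scheme of finite type, X a
closed subscheme of projective n-space over S, P a rational polynomial of degree d, and F the moduli
problem of coherent sheaves on X ×_S T, flat over T, whose restrictions to the fibres over the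
complex points of T have Hilbert polynomial P (Euler characteristics of the twists by the invertible
sheaves O(m) pulled back from projective space over S), are pure of dimension d and are p-semistable
(reduced Hilbert polynomials ψ(m)/r(ψ) of nonzero coherent subsheaves at most P(m)/r(P) for large m,
r being d! times the degree-d coefficient), modulo isomorphism. Let M be an S-scheme with a morphism
φ from F, on S-schemes separated and of finite type over the complex numbers, to the functor of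
points of M which is universal (every morphism from F to the functor of points of an S-scheme
factors uniquely through φ). Then for every complex point s of S and any two admissible sheaves E,
E' over s, the points φ(E) and φ(E') of M coincide if and only if E and E' are S-equivalent on the
fibre X_s polarised by the pull-back of O(1): they admit filtrations by coherent subsheaves whose
successive quotients are p-stable of dimension d with the reduced Hilbert polynomial of the whole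
sheaf, and the direct sums of these quotients are isomorphic. (The published statement says that the
points of the good quotient constructed there are exactly the classes of semistable sheaves with
isomorphic associated graded sheaves; this row states the resulting criterion for equality of
complex points, for any scheme corepresenting the problem on separated schemes of finite type.) -/
theorem result
    (S : Scheme.{0}) (sS : S ⟶ Spec (CommRingCat.of ℂ)) [LocallyOfFiniteType sS] [QuasiCompact sS] [IsSeparated sS]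
    (n : ℕ) (X : Scheme.{0}) (i : X ⟶ CohB1.ProjSpaceOver n S) [IsClosedImmersion i] (P : Polynomial ℚ)
    (M : Over S) (φ : ModFun.Problem.Hom (W4c2simpsonmod1.shProb (i ≫ (CohB1.ProjSpaceOver n S ↘ S)) (fun T E =>
      ∀ (t : Spec (CommRingCat.of ℂ) ⟶ T.left), t ≫ T.hom ≫ sS = 𝟙 (Spec (CommRingCat.of ℂ)) →
        (∀ m : ℤ, (@Curv2.euler ℂ _ (pullback (PicF.XTproj (i ≫ (CohB1.ProjSpaceOver n S ↘ S)) T) t) ⟨pullback.snd (PicF.XTproj (i ≫ (CohB1.ProjSpaceOver n S ↘ S)) T) t⟩ (CohB1.tensorMod ((Scheme.Modules.pullback (pullback.fst (PicF.XTproj (i ≫ (CohB1.ProjSpaceOver n S ↘ S)) T) t)).obj E) ((Scheme.Modules.pullback (pullback.fst (PicF.XTproj (i ≫ (CohB1.ProjSpaceOver n S ↘ S)) T) t ≫ pullback.fst (i ≫ (CohB1.ProjSpaceOver n S ↘ S)) T.hom ≫ i)).obj (Twist.twistOver n S m))) : ℚ) = P.eval (m : ℚ)) ∧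
        topologicalKrullDim ↥(CohB1.support ((Scheme.Modules.pullback (pullback.fst (PicF.XTproj (i ≫ (CohB1.ProjSpaceOver n S ↘ S)) T) t)).obj E)) = (P.natDegree : WithBot ℕ∞) ∧
        ∀ (G : (pullback (PicF.XTproj (i ≫ (CohB1.ProjSpaceOver n S ↘ S)) T) t).Modules) (ι : G ⟶ ((Scheme.Modules.pullback (pullback.fst (PicF.XTproj (i ≫ (CohB1.ProjSpaceOver n S ↘ S)) T) t)).obj E)), Mono ι → Coh.IsCoh G → ¬ IsZero G →
          topologicalKrullDim ↥(CohB1.support G) = (P.natDegree : WithBot ℕ∞) ∧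
          ∀ ψ : Polynomial ℚ, (∀ m : ℤ, (@Curv2.euler ℂ _ (pullback (PicF.XTproj (i ≫ (CohB1.ProjSpaceOver n S ↘ S)) T) t) ⟨pullback.snd (PicF.XTproj (i ≫ (CohB1.ProjSpaceOver n S ↘ S)) T) t⟩ (CohB1.tensorMod G ((Scheme.Modules.pullback (pullback.fst (PicF.XTproj (i ≫ (CohB1.ProjSpaceOver n S ↘ S)) T) t ≫ pullback.fst (i ≫ (CohB1.ProjSpaceOver n S ↘ S)) T.hom ≫ i)).obj (Twist.twistOver n S m))) : ℚ) = ψ.eval (m : ℚ)) →
            W4c2simpsonmod1.RedLE P.natDegree ψ P)) (W4c2simpsonmod1.ftOver sS) M)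
    (hφ : ModFun.IsBestApprox (W4c2simpsonmod1.ftOver sS) (W4c2simpsonmod1.shProb (i ≫ (CohB1.ProjSpaceOver n S ↘ S)) (fun T E =>
      ∀ (t : Spec (CommRingCat.of ℂ) ⟶ T.left), t ≫ T.hom ≫ sS = 𝟙 (Spec (CommRingCat.of ℂ)) →
        (∀ m : ℤ, (@Curv2.euler ℂ _ (pullback (PicF.XTproj (i ≫ (CohB1.ProjSpaceOver n S ↘ S)) T) t) ⟨pullback.snd (PicF.XTproj (i ≫ (CohB1.ProjSpaceOver n S ↘ S)) T) t⟩ (CohB1.tensorMod ((Scheme.Modules.pullback (pullback.fst (PicF.XTproj (i ≫ (CohB1.ProjSpaceOver n S ↘ S)) T) t)).obj E) ((Scheme.Modules.pullback (pullback.fst (PicF.XTproj (i ≫ (CohB1.ProjSpaceOver n S ↘ S)) T) t ≫ pullback.fst (i ≫ (CohB1.ProjSpaceOver n S ↘ S)) T.hom ≫ i)).obj (Twist.twistOver n S m))) : ℚ) = P.eval (m : ℚ)) ∧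
        topologicalKrullDim ↥(CohB1.support ((Scheme.Modules.pullback (pullback.fst (PicF.XTproj (i ≫ (CohB1.ProjSpaceOver n S ↘ S)) T) t)).obj E)) = (P.natDegree : WithBot ℕ∞) ∧
        ∀ (G : (pullback (PicF.XTproj (i ≫ (CohB1.ProjSpaceOver n S ↘ S)) T) t).Modules) (ι : G ⟶ ((Scheme.Modules.pullback (pullback.fst (PicF.XTproj (i ≫ (CohB1.ProjSpaceOver n S ↘ S)) T) t)).obj E)), Mono ι → Coh.IsCoh G → ¬ IsZero G →
          topologicalKrullDim ↥(CohB1.support G) = (P.natDegree : WithBot ℕ∞) ∧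
          ∀ ψ : Polynomial ℚ, (∀ m : ℤ, (@Curv2.euler ℂ _ (pullback (PicF.XTproj (i ≫ (CohB1.ProjSpaceOver n S ↘ S)) T) t) ⟨pullback.snd (PicF.XTproj (i ≫ (CohB1.ProjSpaceOver n S ↘ S)) T) t⟩ (CohB1.tensorMod G ((Scheme.Modules.pullback (pullback.fst (PicF.XTproj (i ≫ (CohB1.ProjSpaceOver n S ↘ S)) T) t ≫ pullback.fst (i ≫ (CohB1.ProjSpaceOver n S ↘ S)) T.hom ≫ i)).obj (Twist.twistOver n S m))) : ℚ) = ψ.eval (m : ℚ)) →
            W4c2simpsonmod1.RedLE P.natDegree ψ P)) M φ)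
    (s : Spec (CommRingCat.of ℂ) ⟶ S) (hs : s ≫ sS = 𝟙 (Spec (CommRingCat.of ℂ))) (hP : (W4c2simpsonmod1.ftOver sS) (Over.mk s))
    (E E' : (PicF.XT (i ≫ (CohB1.ProjSpaceOver n S ↘ S)) (Over.mk s)).Modules) (hE : (W4c2simpsonmod1.shProb (i ≫ (CohB1.ProjSpaceOver n S ↘ S)) (fun T E =>
      ∀ (t : Spec (CommRingCat.of ℂ) ⟶ T.left), t ≫ T.hom ≫ sS = 𝟙 (Spec (CommRingCat.of ℂ)) →
        (∀ m : ℤ, (@Curv2.euler ℂ _ (pullback (PicF.XTproj (i ≫ (CohB1.ProjSpaceOver n S ↘ S)) T) t) ⟨pullback.snd (PicF.XTproj (i ≫ (CohB1.ProjSpaceOver n S ↘ S)) T) t⟩ (CohB1.tensorMod ((Scheme.Modules.pullback (pullback.fst (PicF.XTproj (i ≫ (CohB1.ProjSpaceOver n S ↘ S)) T) t)).obj E) ((Scheme.Modules.pullback (pullback.fst (PicF.XTproj (i ≫ (CohB1.ProjSpaceOver n S ↘ S)) T) t ≫ pullback.fst (i ≫ (CohB1.ProjSpaceOver n S ↘ S)) T.hom ≫ i)).obj (Twist.twistOver n S m))) : ℚ) = P.eval (m : ℚ)) ∧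
        topologicalKrullDim ↥(CohB1.support ((Scheme.Modules.pullback (pullback.fst (PicF.XTproj (i ≫ (CohB1.ProjSpaceOver n S ↘ S)) T) t)).obj E)) = (P.natDegree : WithBot ℕ∞) ∧
        ∀ (G : (pullback (PicF.XTproj (i ≫ (CohB1.ProjSpaceOver n S ↘ S)) T) t).Modules) (ι : G ⟶ ((Scheme.Modules.pullback (pullback.fst (PicF.XTproj (i ≫ (CohB1.ProjSpaceOver n S ↘ S)) T) t)).obj E)), Mono ι → Coh.IsCoh G → ¬ IsZero G →
          topologicalKrullDim ↥(CohB1.support G) = (P.natDegree : WithBot ℕ∞) ∧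
          ∀ ψ : Polynomial ℚ, (∀ m : ℤ, (@Curv2.euler ℂ _ (pullback (PicF.XTproj (i ≫ (CohB1.ProjSpaceOver n S ↘ S)) T) t) ⟨pullback.snd (PicF.XTproj (i ≫ (CohB1.ProjSpaceOver n S ↘ S)) T) t⟩ (CohB1.tensorMod G ((Scheme.Modules.pullback (pullback.fst (PicF.XTproj (i ≫ (CohB1.ProjSpaceOver n S ↘ S)) T) t ≫ pullback.fst (i ≫ (CohB1.ProjSpaceOver n S ↘ S)) T.hom ≫ i)).obj (Twist.twistOver n S m))) : ℚ) = ψ.eval (m : ℚ)) →
            W4c2simpsonmod1.RedLE P.natDegree ψ P)).ok (Over.mk s) E) (hE' : (W4c2simpsonmod1.shProb (i ≫ (CohB1.ProjSpaceOver n S ↘ S)) (fun T E =>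
      ∀ (t : Spec (CommRingCat.of ℂ) ⟶ T.left), t ≫ T.hom ≫ sS = 𝟙 (Spec (CommRingCat.of ℂ)) →
        (∀ m : ℤ, (@Curv2.euler ℂ _ (pullback (PicF.XTproj (i ≫ (CohB1.ProjSpaceOver n S ↘ S)) T) t) ⟨pullback.snd (PicF.XTproj (i ≫ (CohB1.ProjSpaceOver n S ↘ S)) T) t⟩ (CohB1.tensorMod ((Scheme.Modules.pullback (pullback.fst (PicF.XTproj (i ≫ (CohB1.ProjSpaceOver n S ↘ S)) T) t)).obj E) ((Scheme.Modules.pullback (pullback.fst (PicF.XTproj (i ≫ (CohB1.ProjSpaceOver n S ↘ S)) T) t ≫ pullback.fst (i ≫ (CohB1.ProjSpaceOver n S ↘ S)) T.hom ≫ i)).obj (Twist.twistOver n S m))) : ℚ) = P.eval (m : ℚ)) ∧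
        topologicalKrullDim ↥(CohB1.support ((Scheme.Modules.pullback (pullback.fst (PicF.XTproj (i ≫ (CohB1.ProjSpaceOver n S ↘ S)) T) t)).obj E)) = (P.natDegree : WithBot ℕ∞) ∧
        ∀ (G : (pullback (PicF.XTproj (i ≫ (CohB1.ProjSpaceOver n S ↘ S)) T) t).Modules) (ι : G ⟶ ((Scheme.Modules.pullback (pullback.fst (PicF.XTproj (i ≫ (CohB1.ProjSpaceOver n S ↘ S)) T) t)).obj E)), Mono ι → Coh.IsCoh G → ¬ IsZero G →
          topologicalKrullDim ↥(CohB1.support G) = (P.natDegree : WithBot ℕ∞) ∧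
          ∀ ψ : Polynomial ℚ, (∀ m : ℤ, (@Curv2.euler ℂ _ (pullback (PicF.XTproj (i ≫ (CohB1.ProjSpaceOver n S ↘ S)) T) t) ⟨pullback.snd (PicF.XTproj (i ≫ (CohB1.ProjSpaceOver n S ↘ S)) T) t⟩ (CohB1.tensorMod G ((Scheme.Modules.pullback (pullback.fst (PicF.XTproj (i ≫ (CohB1.ProjSpaceOver n S ↘ S)) T) t ≫ pullback.fst (i ≫ (CohB1.ProjSpaceOver n S ↘ S)) T.hom ≫ i)).obj (Twist.twistOver n S m))) : ℚ) = ψ.eval (m : ℚ)) →
            W4c2simpsonmod1.RedLE P.natDegree ψ P)).ok (Over.mk s) E') :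
    φ.app (Over.mk s) E hP hE = φ.app (Over.mk s) E' hP hE' ↔
      @ShStab.SEquiv ℂ _ (PicF.XT (i ≫ (CohB1.ProjSpaceOver n S ↘ S)) (Over.mk s)) ⟨PicF.XTproj (i ≫ (CohB1.ProjSpaceOver n S ↘ S)) (Over.mk s)⟩
        ((Scheme.Modules.pullback (pullback.fst (i ≫ (CohB1.ProjSpaceOver n S ↘ S)) (Over.mk s).hom ≫ i)).obj (Twist.twistOver n S 1))
        P.natDegree E E' := by
  exact K53.Final.s15264 (K53.AsmFin.main_of_ex K585.Top.atlasEx) M φ hφ s hs hP E E' hE hE'

end Groth.Agent.S15264
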