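import Groth.Statements.S15265
import Groth.Agent.Coherent.K53.PushSS
import Groth.Agent.Sga2lef.H24.ToPn
import Groth.Agent.S14970

set_option autoImplicit false
open CategoryTheory CategoryTheory.Limits AlgebraicGeometry
open Coherent

namespace Groth.Agent.S15265

/-- Over the complex numbers, let X be a proper scheme with an invertible sheaf L which is ample and
very ample (isomorphic to the pull-back of the twisting sheaf O(1) along an immersion of X into a
projective space over the complex numbers), and fix a polynomial P with rational coefficients; let d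
be its degree and write r(ψ) for d! times the degree-d coefficient of a polynomial ψ. There is a
natural number N₀ such that for every natural number N ≥ N₀ the following holds. Let E be a coherent
sheaf on X which is semistable of dimension d with respect to L (nonzero, pure of dimension d, and
for every nonzero proper coherent subsheaf the reduced Hilbert polynomial is at most that of E for
large arguments) and has Hilbert polynomial P (the Euler characteristic of E ⊗ L^m is P(m) for every
natural number m). Then for every nonzero coherent subsheaf F of E and every Hilbert polynomial ψ of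
F with respect to L, the dimension of the space of global sections of F ⊗ L^N divided by r(ψ) is at
most P(N)/r(P), and if equality holds then r(P)·ψ = r(ψ)·P. (The published statement is for the
fibres of a projective morphism over a base of finite type, with N₀ uniform over the fibres; this
row is the case of a single complex fibre.) -/
theorem result
    (X : Scheme.{0}) [X.Over (Spec (CommRingCat.of ℂ))] [IsProper (X ↘ Spec (CommRingCat.of ℂ))]
    (L : X.Modules) (hL : CohB1.IsAmple L) (hva : RelAmple.IsRelVeryAmplePn (X ↘ Spec (CommRingCat.of ℂ)) L)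
    (P : Polynomial ℚ) :
    ∃ N₀ : ℕ, ∀ N : ℕ, N₀ ≤ N → ∀ (E : X.Modules), ShStab.IsSemistable ℂ X L E P.natDegree → ShStab.IsHilbPoly ℂ X L E P →
      ∀ (F : X.Modules) (ι : F ⟶ E), Mono ι → Coh.IsCoh F → ¬ IsZero F →
        ∀ ψ : Polynomial ℚ, ShStab.IsHilbPoly ℂ X L F ψ →
          (Module.finrank ℂ (Coh.HH X (ShStab.twist X L F N) 0) : ℚ) / StabCat.alpha P.natDegree ψ ≤
              P.eval (N : ℚ) / StabCat.alpha P.natDegree P ∧
          ((Module.finrank ℂ (Coh.HH X (ShStab.twist X L F N) 0) : ℚ) / StabCat.alpha P.natDegree ψ =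
              P.eval (N : ℚ) / StabCat.alpha P.natDegree P →
            StabCat.RedEq P.natDegree ψ P) := by
  obtain ⟨n, j, hj, hjt, ⟨e1⟩⟩ := Groth.Agent.Sga2lef.H24.ToPn.exists_closedImmersion
    (X ↘ Spec (CommRingCat.of ℂ)) L hva
  obtain ⟨N₀, h₀⟩ := Groth.Agent.S14970.result n P
  refine ⟨N₀.toNat, fun N hN E hE hP F ι hι hF hF0 ψ hψ => ?_⟩
  obtain ⟨h1, h2, h3, h4, h5⟩ := K53.PushSS.semistable_push j hjt hL e1 hE hP
  have hψ' : ∀ m : ℤ, (Curv2.euler ℂ (CohB1.ProjSpace n ℂ) (CohB1.tensorMod
      ((Scheme.Modules.pushforward j).obj F) (Twist.twistProjSpace n ℂ m)) : ℚ) = ψ.eval (m : ℚ) :=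
    (K53.PushSS.hilb_iff_int j hjt hF).1 (K846.Twist.isHilbPoly_iso e1 (Iso.refl F) hψ)
  have hm : Mono ((Scheme.Modules.pushforward j).map ι) := inferInstance
  obtain ⟨a1, a2⟩ := h₀ (N : ℤ) (by omega) _ h2 h3 h4 h5 ((Scheme.Modules.pushforward j).obj F)
    ((Scheme.Modules.pushforward j).map ι) hm (Groth.Agent.S0019.result j F hF)
    (fun h => hF0 ((K53.PushSub.isZero_push_iff j).1 h)) ψ hψ'
  have h6 : Module.finrank ℂ (Coh.HH (CohB1.ProjSpace n ℂ) (CohB1.tensorMod
      ((Scheme.Modules.pushforward j).obj F) (Twist.twistProjSpace n ℂ (N : ℤ))) 0) =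
      Module.finrank ℂ (Coh.HH X (ShStab.twist X L F N) 0) := by
    rw [K53.PushSS.finrank_push j hjt hF N]
    exact (Groth.Agent.VarietyA.EulerLES.equivA ℂ
      (K846.Twist.twistIso e1.symm (Iso.refl F) N) 0).finrank_eq
  rw [h6] at a1 a2
  refine ⟨a1, fun heq => ?_⟩
  have a3 := a2 heq
  have hdF : topologicalKrullDim (CohB1.support F) = (P.natDegree : WithBot ℕ∞) :=
    hE.2.2.1 F ι hι hF hF0
  have hdE : topologicalKrullDim (CohB1.support E) = (P.natDegree : WithBot ℕ∞) :=
    hE.2.2.1 E (𝟙 E) inferInstance hE.1 hE.2.1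
  exact K53.PushSS.redEq_of (K847.HilbBasic.alpha_pos ℂ hL hF hdF hψ)
    (K847.HilbBasic.alpha_pos ℂ hL hE.1 hdE hP) a3

end Groth.Agent.S15265
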