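import Groth.Statements.S15266
import Groth.Agent.Coherent.K53.PushSS
import Groth.Agent.Sga2lef.H24.ToPn
import Groth.Agent.S14976

set_option autoImplicit false
open CategoryTheory CategoryTheory.Limits AlgebraicGeometry
open Coherent

namespace Groth.Agent.S15266

/-- Over the complex numbers, let X be a proper scheme with an invertible sheaf L which is ample and
very ample (isomorphic to the pull-back of the twisting sheaf O(1) along an immersion of X into a
projective space over the complex numbers), and fix a polynomial P with rational coefficients and a
natural number d. Then the family of coherent sheaves on X which are semistable of dimension d with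
respect to L (nonzero, pure of dimension d, and the reduced Hilbert polynomial of every nonzero
proper coherent subsheaf is at most that of the sheaf for large arguments) and have Hilbert
polynomial P (the Euler characteristic of the m-th twist by L is P(m) for every natural number m) is
bounded: all of them occur, up to isomorphism, among the fibres at complex points of a single
coherent sheaf on X × T for some scheme T of finite type. (The published statement collects the
semistable sheaves with Hilbert polynomial P on all fibres of a projective morphism over a base of
finite type; this row is the case of a single complex fibre.) -/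
theorem result
    (X : Scheme.{0}) [X.Over (Spec (CommRingCat.of ℂ))] [IsProper (X ↘ Spec (CommRingCat.of ℂ))]
    (L : X.Modules) (hL : CohB1.IsAmple L) (hva : RelAmple.IsRelVeryAmplePn (X ↘ Spec (CommRingCat.of ℂ)) L)
    (P : Polynomial ℚ) (d : ℕ) :
    Pic13.IsBounded ℂ X (fun E => ShStab.IsSemistable ℂ X L E d ∧ ShStab.IsHilbPoly ℂ X L E P) := by
  obtain ⟨n, j, hj, hjt, ⟨e1⟩⟩ := Groth.Agent.Sga2lef.H24.ToPn.exists_closedImmersion
    (X ↘ Spec (CommRingCat.of ℂ)) L hva
  have hPp : IsProper (CohB1.ProjSpace n ℂ ↘ Spec (CommRingCat.of ℂ)) :=
    Groth.Agent.VarietyB.EulerBinom.isProper_over ℂ n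
  refine K53.PushSub.isBounded_of_push j hjt (Groth.Agent.S14976.result n P) fun E hE => ?_
  obtain ⟨h1, h2, h3, h4, h5⟩ := K53.PushSS.semistable_push j hjt hL e1 hE.1 hE.2
  rw [h1]
  exact ⟨h2, h3, h4, h5⟩

end Groth.Agent.S15266
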