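import Groth.Statements.S15269
import Groth.Agent.Coherent.K53.LFOpen
import Groth.Agent.Coherent.K53.LFNum
import Groth.Agent.Ega3B.SerreTwist
import Mathlib.Analysis.Complex.Polynomial.Basic

set_option autoImplicit false
open CategoryTheory CategoryTheory.Limits AlgebraicGeometry
open Coherent

namespace Groth.Agent.S15269

/-- Over the complex numbers, let S be a separated scheme of finite type, X a closed subscheme of
projective n-space over S which is flat over S and whose fibre over every complex point of S is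
irreducible of dimension d, ξ a section of X over S, and P a polynomial with rational coefficients.
Let F be a coherent sheaf on X, flat over S, such that for every complex point t of S the
restriction F_t to the fibre X_t, polarised by the pull-back of O(1), is semistable of dimension d
(nonzero, pure of dimension d, reduced Hilbert polynomials of nonzero proper coherent subsheaves at
most that of F_t for large arguments) with Hilbert polynomial P. Then the condition that F_t has a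
filtration by coherent subsheaves with stable d-dimensional successive quotients of the reduced
Hilbert polynomial of F_t whose associated graded sheaf is finite locally free on an open
neighbourhood of the point ξ(t) is an open condition: there is an open subset U of S such that, for
every complex point t of S, the condition holds if and only if t lies in U. (The published statement
is for modules over a sheaf of rings of differential operators and closed points of the base; this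
row is the case of the structure sheaf, with complex points, which are the closed points here.) -/
theorem result
    (S : Scheme.{0}) (sS : S ⟶ Spec (CommRingCat.of ℂ)) [LocallyOfFiniteType sS] [QuasiCompact sS] [IsSeparated sS]
    (n : ℕ) (X : Scheme.{0}) (i : X ⟶ CohB1.ProjSpaceOver n S) [IsClosedImmersion i] [Flat (i ≫ (CohB1.ProjSpaceOver n S ↘ S))] (d : ℕ)
    (ξ : S ⟶ X) (hξ : ξ ≫ (i ≫ (CohB1.ProjSpaceOver n S ↘ S)) = 𝟙 S)
    (hfib : ∀ (t : Spec (CommRingCat.of ℂ) ⟶ S), t ≫ sS = 𝟙 (Spec (CommRingCat.of ℂ)) →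
      IrreducibleSpace (PicF.XT (i ≫ (CohB1.ProjSpaceOver n S ↘ S)) (Over.mk t)) ∧ topologicalKrullDim (PicF.XT (i ≫ (CohB1.ProjSpaceOver n S ↘ S)) (Over.mk t)) = (d : WithBot ℕ∞))
    (P : Polynomial ℚ) (F : X.Modules) (hF : Coh.IsCoh F) (hFfl : FlatMod.IsFlatOver (i ≫ (CohB1.ProjSpaceOver n S ↘ S)) F)
    (hss : ∀ (t : Spec (CommRingCat.of ℂ) ⟶ S), t ≫ sS = 𝟙 (Spec (CommRingCat.of ℂ)) →
      @ShStab.IsSemistable ℂ _ (PicF.XT (i ≫ (CohB1.ProjSpaceOver n S ↘ S)) (Over.mk t)) ⟨PicF.XTproj (i ≫ (CohB1.ProjSpaceOver n S ↘ S)) (Over.mk t)⟩ ((Scheme.Modules.pullback (pullback.fst (i ≫ (CohB1.ProjSpaceOver n S ↘ S)) (Over.mk t).hom ≫ i)).obj (Twist.twistOver n S 1)) ((Scheme.Modules.pullback (pullback.fst (i ≫ (CohB1.ProjSpaceOver n S ↘ S)) (Over.mk t).hom)).obj F) d ∧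
      @ShStab.IsHilbPoly ℂ _ (PicF.XT (i ≫ (CohB1.ProjSpaceOver n S ↘ S)) (Over.mk t)) ⟨PicF.XTproj (i ≫ (CohB1.ProjSpaceOver n S ↘ S)) (Over.mk t)⟩ ((Scheme.Modules.pullback (pullback.fst (i ≫ (CohB1.ProjSpaceOver n S ↘ S)) (Over.mk t).hom ≫ i)).obj (Twist.twistOver n S 1)) ((Scheme.Modules.pullback (pullback.fst (i ≫ (CohB1.ProjSpaceOver n S ↘ S)) (Over.mk t).hom)).obj F) P) :
    ∃ U : S.Opens, ∀ (t : Spec (CommRingCat.of ℂ) ⟶ S), t ≫ sS = 𝟙 (Spec (CommRingCat.of ℂ)) →
      ((∃ sF : LTSeries (Subobject ((Scheme.Modules.pullback (pullback.fst (i ≫ (CohB1.ProjSpaceOver n S ↘ S)) (Over.mk t).hom)).obj F)), @ShStab.IsJHFiltration ℂ _ (PicF.XT (i ≫ (CohB1.ProjSpaceOver n S ↘ S)) (Over.mk t)) ⟨PicF.XTproj (i ≫ (CohB1.ProjSpaceOver n S ↘ S)) (Over.mk t)⟩ ((Scheme.Modules.pullback (pullback.fst (i ≫ (CohB1.ProjSpaceOver n S ↘ S)) (Over.mk t).hom ≫ i)).obj (Twist.twistOver n S 1)) ((Scheme.Modules.pullback (pullback.fst (i ≫ (CohB1.ProjSpaceOver n S ↘ S))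 (Over.mk t).hom)).obj F) d sF ∧
          ∀ x ∈ Set.range (PicF.secT (i ≫ (CohB1.ProjSpaceOver n S ↘ S)) ξ hξ (Over.mk t)).base, ∃ V : (PicF.XT (i ≫ (CohB1.ProjSpaceOver n S ↘ S)) (Over.mk t)).Opens, x ∈ V ∧ FlatMod.IsFinLocFree ((StabCat.grObj sF).restrict V.ι)) ↔
        Set.range t.base ⊆ (U : Set S)) := by
  have hS : IsLocallyNoetherian S := LocallyOfFiniteType.isLocallyNoetherian sS
  have hpr : IsProper (CohB1.ProjSpaceOver n S ↘ S) := Groth.Agent.Ega3B.ProjProper.isProper_toBase n S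
  obtain ⟨U, hU⟩ := K53.LFOpen.exists_open (k := ℂ) i hF ξ hξ sS (⌊StabCat.alpha d P⌋₊ + 1) (K53.LFNum.Phi d P)
  refine ⟨U, fun t ht => ?_⟩
  rw [← hU t ht]
  let _ : (PicF.XT (i ≫ (CohB1.ProjSpaceOver n S ↘ S)) (Over.mk t)).Over (Spec (CommRingCat.of ℂ)) :=
    ⟨PicF.XTproj (i ≫ (CohB1.ProjSpaceOver n S ↘ S)) (Over.mk t)⟩
  have hprT : IsProper ((PicF.XT (i ≫ (CohB1.ProjSpaceOver n S ↘ S)) (Over.mk t)) ↘ Spec (CommRingCat.of ℂ)) :=
    inferInstanceAs (IsProper (pullback.snd (i ≫ (CohB1.ProjSpaceOver n S ↘ S)) t))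
  have hA : CohB1.IsAmple ((Scheme.Modules.pullback (pullback.fst (i ≫ (CohB1.ProjSpaceOver n S ↘ S))
      (Over.mk t).hom ≫ i)).obj (Twist.twistOver n S 1)) :=
    Groth.Agent.Ega2.Weight.isAmple_of_iso
      ((Scheme.Modules.pullbackComp (pullback.fst (i ≫ (CohB1.ProjSpaceOver n S ↘ S)) (Over.mk t).hom) i).app
        (Twist.twistOver n S 1))
      (Groth.Agent.Ega3B.SerreTwist.isAmple_baseChange n i t
        (IsPullback.of_hasPullback (i ≫ (CohB1.ProjSpaceOver n S ↘ S)) t))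
  obtain ⟨hsF, hHF⟩ := hss t ht
  have h1 := K53.LFNum.lfjh_iff hA hsF hHF
    ((PicF.secT (i ≫ (CohB1.ProjSpaceOver n S ↘ S)) ξ hξ (Over.mk t)).base (IsLocalRing.closedPoint ℂ))
  have hrange : Set.range (PicF.secT (i ≫ (CohB1.ProjSpaceOver n S ↘ S)) ξ hξ (Over.mk t)).base =
      {(PicF.secT (i ≫ (CohB1.ProjSpaceOver n S ↘ S)) ξ hξ (Over.mk t)).base (IsLocalRing.closedPoint ℂ)} := by
    ext x
    constructor
    · rintro ⟨y, rfl⟩
      have : Subsingleton (Over.mk t).left := inferInstanceAs (Subsingleton (Spec (CommRingCat.of ℂ)))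
      rw [Subsingleton.elim y (IsLocalRing.closedPoint ℂ)]
      rfl
    · rintro rfl
      exact ⟨_, rfl⟩
  have h2 : (∀ r < ⌊StabCat.alpha d P⌋₊ + 1, ¬ K53.QuotLoc.BadAt F ξ hξ (K53.LFNum.Phi d P r) t) ↔
      (∀ r < ⌊StabCat.alpha d P⌋₊ + 1, ¬ K53.BadQuot.Bad ℂ (PicF.XT (i ≫ (CohB1.ProjSpaceOver n S ↘ S)) (Over.mk t))
        ((Scheme.Modules.pullback (pullback.fst (i ≫ (CohB1.ProjSpaceOver n S ↘ S)) (Over.mk t).hom ≫ i)).obj (Twist.twistOver n S 1))
        ((Scheme.Modules.pullback (pullback.fst (i ≫ (CohB1.ProjSpaceOver n S ↘ S)) (Over.mk t).hom)).obj F)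
        ((PicF.secT (i ≫ (CohB1.ProjSpaceOver n S ↘ S)) ξ hξ (Over.mk t)).base (IsLocalRing.closedPoint ℂ))
        (K53.LFNum.Phi d P r)) := by
    refine forall_congr' fun r => imp_congr_right fun _ => not_congr ?_
    constructor
    · exact fun h => K53.BadQuot.Bad.of_iso (Y := PicF.XT (i ≫ (CohB1.ProjSpaceOver n S ↘ S)) (Over.mk t)) ((Scheme.Modules.pullbackComp _ _).app _) (Iso.refl _) h
    · exact fun h => K53.BadQuot.Bad.of_iso (Y := PicF.XT (i ≫ (CohB1.ProjSpaceOver n S ↘ S)) (Over.mk t)) ((Scheme.Modules.pullbackComp _ _).app _).symm (Iso.refl _) h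
  rw [h2, ← h1, hrange]
  rfl

end Groth.Agent.S15269
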