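import Groth.Statements.S15275
import Groth.Agent.SSMod.K971.SsLocus
import Groth.Agent.S15274

set_option autoImplicit false
universe u
open SSMod

namespace Groth.Agent.S15275

open CategoryTheory CategoryTheory.Limits AlgebraicGeometry in
/-- Let S be an integral, normal, quasi-compact and quasi-separated scheme, (C, D) a multipointed
S-curve, and (C_st, D_st) → (C, D) a stable modification which is an isomorphism on generic fibres
over S. Then it is an isomorphism over the semistable locus U of (C, D) → S, the union of all opens
V of C over which (V, D ∩ V) is a semistable multipointed S-curve: C_st → C restricts to an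
isomorphism over U, and D_st → D to an isomorphism over D ∩ U. -/
theorem result
    {S C D Cst Dst : Scheme.{u}} [IsIntegral S] [CompactSpace S] [QuasiSeparatedSpace S]
    (hS : Pi1.IsNormalScheme S) (φ : C ⟶ S) (i : D ⟶ C) (hC : SSMod.IsMPCurve φ i)
    (ist : Dst ⟶ Cst) (fC : Cst ⟶ C) (fD : Dst ⟶ D) (hst : SSMod.IsStableModification φ i ist fC fD)
    (hη : SSMod.IsEtaIso φ fC) (hηD : SSMod.IsEtaIso (i ≫ φ) fD) :
    IsIso (fC ∣_ SSMod.ssLocus φ i) ∧ IsIso (fD ∣_ (i ⁻¹ᵁ SSMod.ssLocus φ i)) := by
  exact K971.SSUses.isIso_ssLocus Groth.Agent.S15274.result hS φ i hC ist fC fD hst hη hηD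

end Groth.Agent.S15275
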