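import Groth.Statements.S15276
import Groth.Agent.SSMod.K971.FacDescend
import Groth.Agent.S15273

set_option autoImplicit false
universe u
open SSMod

namespace Groth.Agent.S15276

open CategoryTheory CategoryTheory.Limits AlgebraicGeometry in
/-- Let S be an integral quasi-compact quasi-separated scheme (not assumed normal), (C, D) a
multipointed S-curve, (C_st, D_st) → (C, D) a stable modification which is an isomorphism on generic
fibres over S, and (C̄, D̄) → (C, D) a semistable modification which is also an isomorphism on
generic fibres over S. Then there is a finite modification g : S' → S such that (C̄, D̄) ×_S S' →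
(C, D) ×_S S' factors through (C_st, D_st) ×_S S' → (C, D) ×_S S' by a unique morphism of
multipointed curves over (C, D) ×_S S'. Here the base changes are the pullbacks along g of the
structure morphisms to S; the C-component of the factorization is a morphism over C ×_S S', the
D-component is compatible with the marked closed immersions and lies over D ×_S S' (spelled through
the two projections to D̄, D_st and S'). (The published statement puts no generic-fibre condition on
(C̄, D̄); its proof is the factorization over the normalization of S, which is proved only for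
semistable modifications that are isomorphisms on generic fibres, and without that condition the
statement fails already over a discrete valuation ring, where every finite modification of the base
is an isomorphism: for C two affine lines glued transversally along a section and marked by a
section of the first line through the node of the special fibre, the disjoint union of the two lines
is a semistable modification that does not factor through the stable modification blowing up the
first line at that node. So this row assumes (C̄, D̄) → (C, D) is an isomorphism on generic fibres.) -/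
theorem result
    {S C D Cst Dst Cb Db : Scheme.{u}} [IsIntegral S] [CompactSpace S] [QuasiSeparatedSpace S]
    (φ : C ⟶ S) (i : D ⟶ C) (hC : SSMod.IsMPCurve φ i)
    (ist : Dst ⟶ Cst) (fC : Cst ⟶ C) (fD : Dst ⟶ D) (hst : SSMod.IsStableModification φ i ist fC fD)
    (hη : SSMod.IsEtaIso φ fC) (hηD : SSMod.IsEtaIso (i ≫ φ) fD)
    (ib : Db ⟶ Cb) (bC : Cb ⟶ C) (bD : Db ⟶ D) (hb : SSMod.IsSemistableModification φ i ib bC bD)
    (hηb : SSMod.IsEtaIso φ bC) (hηbD : SSMod.IsEtaIso (i ≫ φ) bD) :
    ∃ (S' : Scheme.{u}) (g : S' ⟶ S), SSMod.IsModification g ∧ IsFinite g ∧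
      ∃ (hC' : pullback (bC ≫ φ) g ⟶ pullback (fC ≫ φ) g)
        (hD' : pullback (ib ≫ bC ≫ φ) g ⟶ pullback (ist ≫ fC ≫ φ) g),
        (CInt.baseChangeOver ib (bC ≫ φ) g ≫ hC' = hD' ≫ CInt.baseChangeOver ist (fC ≫ φ) g ∧
          hC' ≫ CInt.baseChangeOver fC φ g = CInt.baseChangeOver bC φ g ∧
          hD' ≫ pullback.fst (ist ≫ fC ≫ φ) g ≫ fD = pullback.fst (ib ≫ bC ≫ φ) g ≫ bD ∧
          hD' ≫ pullback.snd (ist ≫ fC ≫ φ) g = pullback.snd (ib ≫ bC ≫ φ) g) ∧
        ∀ (kC : pullback (bC ≫ φ) g ⟶ pullback (fC ≫ φ) g)
          (kD : pullback (ib ≫ bC ≫ φ) g ⟶ pullback (ist ≫ fC ≫ φ) g),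
          CInt.baseChangeOver ib (bC ≫ φ) g ≫ kC = kD ≫ CInt.baseChangeOver ist (fC ≫ φ) g →
          kC ≫ CInt.baseChangeOver fC φ g = CInt.baseChangeOver bC φ g →
          kD ≫ pullback.fst (ist ≫ fC ≫ φ) g ≫ fD = pullback.fst (ib ≫ bC ≫ φ) g ≫ bD →
          kD ≫ pullback.snd (ist ≫ fC ≫ φ) g = pullback.snd (ib ≫ bC ≫ φ) g →
          kC = hC' ∧ kD = hD' := by
  exact K971.SSUses.fac_after_modification Groth.Agent.S15273.result φ i hC ist fC fD hst hη hηD ib
    bC bD hb hηb hηbD

end Groth.Agent.S15276
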