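import Groth.Statements.S15278
import Groth.Agent.SSMod.K971.AutoLift
import Groth.Agent.S15274

set_option autoImplicit false
universe u
open SSMod

namespace Groth.Agent.S15278

open CategoryTheory CategoryTheory.Limits AlgebraicGeometry in
/-- Let S be an integral, normal, quasi-compact and quasi-separated scheme, (C, D) a multipointed
S-curve and (C_st, D_st) → (C, D) a stable modification which is an isomorphism on generic fibres
over S. Let σ be an automorphism of S and τ_C, τ_D automorphisms of C and D, compatible with the
closed immersion D → C and with τ_C covering σ. Then there is a unique pair of endomorphisms θ_C of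
C_st and θ_D of D_st compatible with D_st → C_st such that θ_C lies over τ_C and θ_D over τ_D, and
both are isomorphisms; so automorphism groups of (C, D) → S acting compatibly on C, D and S lift
uniquely, hence equivariantly, to (C_st, D_st). (The published corollary states this for the base
change of a multipointed curve to a normal generically étale alteration of the base; the row states
what the uniqueness of stable modifications gives for any multipointed curve over a normal base.) -/
theorem result
    {S C D Cst Dst : Scheme.{u}} [IsIntegral S] [CompactSpace S] [QuasiSeparatedSpace S]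
    (hS : Pi1.IsNormalScheme S) (φ : C ⟶ S) (i : D ⟶ C) (hC : SSMod.IsMPCurve φ i)
    (ist : Dst ⟶ Cst) (fC : Cst ⟶ C) (fD : Dst ⟶ D) (hst : SSMod.IsStableModification φ i ist fC fD)
    (hη : SSMod.IsEtaIso φ fC) (hηD : SSMod.IsEtaIso (i ≫ φ) fD)
    (σ : S ≅ S) (τC : C ≅ C) (τD : D ≅ D) (hτ : τC.hom ≫ φ = φ ≫ σ.hom)
    (hτD : i ≫ τC.hom = τD.hom ≫ i) :
    ∃ (θC : Cst ⟶ Cst) (θD : Dst ⟶ Dst), IsIso θC ∧ IsIso θD ∧
      (ist ≫ θC = θD ≫ ist ∧ θC ≫ fC = fC ≫ τC.hom ∧ θD ≫ fD = fD ≫ τD.hom) ∧
      ∀ (kC : Cst ⟶ Cst) (kD : Dst ⟶ Dst), ist ≫ kC = kD ≫ ist → kC ≫ fC = fC ≫ τC.hom →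
        kD ≫ fD = fD ≫ τD.hom → kC = θC ∧ kD = θD := by
  exact K971.SSUses.auto_lift Groth.Agent.S15274.result hS φ i hC ist fC fD hst hη hηD σ τC τD hτ
    hτD

end Groth.Agent.S15278
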