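import Groth.Statements.S15279
import Groth.Agent.SSMod.K971.ValFac
import Groth.Agent.S15273

set_option autoImplicit false
universe u
open SSMod

namespace Groth.Agent.S15279

open CategoryTheory CategoryTheory.Limits AlgebraicGeometry in
/-- Let R be a valuation ring with finitely many prime ideals whose fraction field K is separably
closed, S = Spec R, and (C, D) a multipointed S-curve with C and D reduced and with smooth generic
fibre C_K. Let (C_st, D_st) → (C, D) be a stable modification and (C', D') → (C, D) a semistable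
modification, and assume both are dominated by a single semistable modification (C̄, D̄) → (C, D),
that is, there are morphisms of multipointed curves (C̄, D̄) → (C', D') and (C̄, D̄) → (C_st, D_st)
over (C, D). Then C' dominates C_st: there is a morphism C' → C_st over C. -/
theorem result
    (R : Type u) [CommRing R] [IsDomain R] [ValuationRing R] [Finite (PrimeSpectrum R)]
    [IsSepClosed (FractionRing R)]
    {C D Cst Dst C' D' Cb Db : Scheme.{u}} (φ : C ⟶ Spec (CommRingCat.of R)) (i : D ⟶ C)
    (hC : SSMod.IsMPCurve φ i) [IsReduced C] [IsReduced D]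
    (hK : Smooth (pullback.snd φ (Spec.map (CommRingCat.ofHom (algebraMap R (FractionRing R))))))
    (ist : Dst ⟶ Cst) (fC : Cst ⟶ C) (fD : Dst ⟶ D) (hst : SSMod.IsStableModification φ i ist fC fD)
    (i' : D' ⟶ C') (gC : C' ⟶ C) (gD : D' ⟶ D) (hss : SSMod.IsSemistableModification φ i i' gC gD)
    (ib : Db ⟶ Cb) (bC : Cb ⟶ C) (bD : Db ⟶ D) (hb : SSMod.IsSemistableModification φ i ib bC bD)
    (pC : Cb ⟶ C') (pD : Db ⟶ D') (hp : ib ≫ pC = pD ≫ i' ∧ pC ≫ gC = bC ∧ pD ≫ gD = bD)
    (qC : Cb ⟶ Cst) (qD : Db ⟶ Dst) (hq : ib ≫ qC = qD ≫ ist ∧ qC ≫ fC = bC ∧ qD ≫ fD = bD) :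
    ∃ hC' : C' ⟶ Cst, hC' ≫ fC = gC := by
  exact K971.SSUses.val_fac Groth.Agent.S15273.result R φ i hC hK ist fC fD hst i' gC gD hss

end Groth.Agent.S15279
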