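import Groth.Statements.S15280
import Groth.Agent.SSMod.K755.Row

set_option autoImplicit false
universe u
open SSMod

namespace Groth.Agent.S15280

attribute [-instance] CategoryTheory.catToReflQuiver Groth.Agent.Dcoh.MonCx.TensorGood.zero

open CategoryTheory CategoryTheory.Limits AlgebraicGeometry in
/-- Let R be a valuation ring with finitely many prime ideals whose fraction field K is separably
closed, S = Spec R, and (C, D) a multipointed S-curve (C not assumed proper or separated over S)
with C and D reduced and with smooth generic fibre C_K. If (C, D) admits a semistable modification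
then it admits a stable modification. -/
theorem result
    (R : Type u) [CommRing R] [IsDomain R] [ValuationRing R] [Finite (PrimeSpectrum R)]
    [IsSepClosed (FractionRing R)]
    {C D C' D' : Scheme.{u}} (φ : C ⟶ Spec (CommRingCat.of R)) (i : D ⟶ C)
    (hC : SSMod.IsMPCurve φ i) [IsReduced C] [IsReduced D]
    (hK : Smooth (pullback.snd φ (Spec.map (CommRingCat.ofHom (algebraMap R (FractionRing R))))))
    (i' : D' ⟶ C') (gC : C' ⟶ C) (gD : D' ⟶ D) (hss : SSMod.IsSemistableModification φ i i' gC gD) :
    ∃ (Cst Dst : Scheme.{u}) (ist : Dst ⟶ Cst) (fC : Cst ⟶ C) (fD : Dst ⟶ D),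
      SSMod.IsStableModification φ i ist fC fD := by
  exact K755.Row.main R φ i hC hK i' gC gD hss

end Groth.Agent.S15280
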