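import Groth.Statements.S15282
import Groth.Agent.SSMod.K342.Fib
-- import your own Groth.Agent.* helpers here

set_option autoImplicit false
universe u
open SSMod

namespace Groth.Agent.S15282

open CategoryTheory CategoryTheory.Limits AlgebraicGeometry in
/-- Let S be an integral quasi-compact quasi-separated scheme, (C, D) a multipointed S-curve and (C',
D') → (C, D) a modification of multipointed S-curves. Then the set of points s of S such that the
fibre (C'_s, D'_s) over the residue field κ(s) is a semistable multipointed curve and, for every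
geometric point Spec Ω → S lying over s with Ω algebraically closed, no irreducible component of the
geometric fibre C'_Ω is exceptional for C'_Ω → C_Ω (with the preimage of D' as marked set), is
constructible in S. -/
theorem result
    {S C D C' D' : Scheme.{u}} [IsIntegral S] [CompactSpace S] [QuasiSeparatedSpace S]
    (φ : C ⟶ S) (i : D ⟶ C) (hC : SSMod.IsMPCurve φ i)
    (i' : D' ⟶ C') (fC : C' ⟶ C) (fD : D' ⟶ D) (hf : SSMod.IsMPModification φ i i' fC fD) :
    Topology.IsConstructible {s : S |
      SSMod.IsSemistable (pullback.snd (fC ≫ φ) (S.fromSpecResidueField s))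
          (CInt.baseChangeOver i' (fC ≫ φ) (S.fromSpecResidueField s)) ∧
        ∀ (Ω : Type u) [Field Ω] [IsAlgClosed Ω] (g : Spec (CommRingCat.of Ω) ⟶ S),
          Set.range (g.base : Spec (CommRingCat.of Ω) → S) ⊆ {s} →
            ∀ Z ∈ irreducibleComponents (↥(pullback (fC ≫ φ) g) : Type u),
              ¬ SSMod.IsExcComp Ω (CInt.baseChangeOver fC φ g) (pullback.snd (fC ≫ φ) g)
                  ((pullback.fst (fC ≫ φ) g).base ⁻¹' Set.range (i'.base : D' → C')) Z} := by
  obtain ⟨-, hC', ⟨hp, -⟩, -⟩ := hf
  obtain ⟨-, c2, c3, c4, -, -, -, -, -⟩ := hC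
  obtain ⟨c1', c2', c3', c4', c5', c6', c7', c8', c9'⟩ := hC'
  have hd : K342.Model.FPres (K342.Fib.dat φ i' fC) := by
    refine ⟨c2, c3, c4, c2', c3', c4', c8', ?_, ?_⟩
    · change QuasiCompact (i' ≫ fC ≫ φ)
      infer_instance
    · change QuasiSeparated (i' ≫ fC ≫ φ)
      infer_instance
  have h := K342.Cons.isLocallyConstructible_E (K342.Fib.dat φ i' fC) hd hp c6'
  rw [← K342.Fib.set_eq φ i' fC ⟨c1', c2', c3', c4', c5', c6', c7', c8', c9'⟩] at h
  exact h.isConstructible

end Groth.Agent.S15282
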