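import Groth.Statements.S15283
import Groth.Agent.CAlg.K87.EtaleGlue

set_option autoImplicit false
universe u
open CAlg

namespace Groth.Agent.S15283

/-- Let L/K be a finite extension of valued fields, v_L extending v_K up to equivalence, such that the
valuation rings K° and L° both have finitely many prime ideals, and let P be a prime ideal of L°
lying over the prime p of K°. Then v_K is composed from the valuation of K with ring the
localization (K°)_p and the valuation of the residue field of (K°)_p with ring K°/p, and similarly
for v_L with (L°)_P and L°/P. If the induced homomorphisms (K°)_p → (L°)_P and K°/p → L°/P are both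
étale, then K° → L° is étale. (For finite extensions of valued fields of finite height, being
unramified is the same as the map of valuation rings being étale, so this is the statement that an
extension composed from two unramified extensions is unramified.) -/
theorem result
    {K L Γ₀ Γ₁ : Type u} [Field K] [Field L] [Algebra K L] [FiniteDimensional K L]
    [LinearOrderedCommGroupWithZero Γ₀] [LinearOrderedCommGroupWithZero Γ₁]
    (vK : Valuation K Γ₀) (vL : Valuation L Γ₁) [vK.HasExtension vL]
    [Finite (PrimeSpectrum vK.valuationSubring)] [Finite (PrimeSpectrum vL.valuationSubring)]
    (P : Ideal vL.valuationSubring) [P.IsPrime]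
    (hA : (Localization.localRingHom (Ideal.comap (algebraMap vK.valuationSubring vL.valuationSubring) P) P
      (algebraMap vK.valuationSubring vL.valuationSubring) rfl).Etale)
    (hB : (Ideal.quotientMap P (algebraMap vK.valuationSubring vL.valuationSubring)
      (le_refl (Ideal.comap (algebraMap vK.valuationSubring vL.valuationSubring) P))).Etale) :
    Algebra.Etale vK.valuationSubring vL.valuationSubring := by
  have hinj : Function.Injective (algebraMap vK.valuationSubring vL.valuationSubring) := by
    intro x y hxy
    have h := congrArg (fun z : vL.valuationSubring => (z : L)) hxy
    exact Subtype.ext ((algebraMap K L).injective h)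
  have : FaithfulSMul vK.valuationSubring vL.valuationSubring :=
    (faithfulSMul_iff_algebraMap_injective _ _).2 hinj
  have hAL : Algebra.IsAlgebraic vK.valuationSubring L := by
    constructor
    intro x
    have hx : IsAlgebraic K x := Algebra.IsAlgebraic.isAlgebraic x
    exact (IsFractionRing.isAlgebraic_iff vK.valuationSubring K L).2 hx
  have halg : Algebra.IsAlgebraic vK.valuationSubring vL.valuationSubring := by
    constructor
    intro x
    have h1 : IsAlgebraic vK.valuationSubring (algebraMap vL.valuationSubring L x) :=
      Algebra.IsAlgebraic.isAlgebraic _
    exact (isAlgebraic_algebraMap_iff (IsFractionRing.injective vL.valuationSubring L)).1 h1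
  exact K87.EtaleGlue.etale_of_composite P hA hB

end Groth.Agent.S15283
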