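import Groth.Statements.S15285

set_option autoImplicit false
universe v v' u u'
open PicCat

namespace Groth.Agent.S15285

open CategoryTheory MonoidalCategory in
/-- Let C and D be Picard categories (monoidal groupoids in which tensoring on either side with any
object is an equivalence of categories) and F : C ⥤ D a lax monoidal functor. If F induces a
bijection on isomorphism classes of objects (it is essentially surjective, and F X ≅ F Y only when X
≅ Y) and a bijection on endomorphisms of the unit object, then F is an equivalence of categories. -/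
theorem result
    {C : Type u} [Category.{v} C] [MonoidalCategory C] [IsGroupoid C]
    {D : Type u'} [Category.{v'} D] [MonoidalCategory D] [IsGroupoid D]
    (hC : ∀ X : C, (tensorLeft X).IsEquivalence ∧ (tensorRight X).IsEquivalence)
    (hD : ∀ X : D, (tensorLeft X).IsEquivalence ∧ (tensorRight X).IsEquivalence)
    (F : C ⥤ D) [F.LaxMonoidal] [F.EssSurj]
    (h0 : ∀ X Y : C, Nonempty (F.obj X ≅ F.obj Y) → Nonempty (X ≅ Y))
    (h1 : Function.Bijective (fun φ : 𝟙_ C ⟶ 𝟙_ C => F.map φ)) :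
    F.IsEquivalence := by
  -- `F` is bijective on endomorphisms of `𝟙 ⊗ X`
  have key : ∀ X : C, Function.Bijective (fun φ : 𝟙_ C ⊗ X ⟶ 𝟙_ C ⊗ X => F.map φ) := by
    intro X
    have := (hC X).2
    have := (hD (F.obj X)).2
    have ha : Function.Bijective (fun φ : 𝟙_ C ⟶ 𝟙_ C => φ ▷ X) :=
      (Functor.FullyFaithful.ofFullyFaithful (tensorRight X)).map_bijective (𝟙_ C) (𝟙_ C)
    have hb : Function.Bijective (fun φ : F.obj (𝟙_ C) ⟶ F.obj (𝟙_ C) => φ ▷ F.obj X) :=
      (Functor.FullyFaithful.ofFullyFaithful (tensorRight (F.obj X))).map_bijective _ _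
    have hc : Function.Bijective (fun ψ : F.obj (𝟙_ C) ⊗ F.obj X ⟶ F.obj (𝟙_ C) ⊗ F.obj X =>
        inv (Functor.LaxMonoidal.μ F (𝟙_ C) X) ≫ ψ ≫ Functor.LaxMonoidal.μ F (𝟙_ C) X) := by
      constructor
      · intro ψ ψ' h
        have h' : ψ ≫ Functor.LaxMonoidal.μ F (𝟙_ C) X = ψ' ≫ Functor.LaxMonoidal.μ F (𝟙_ C) X := by
          simpa using h
        exact (cancel_mono _).mp h'
      · intro ψ
        exact ⟨Functor.LaxMonoidal.μ F (𝟙_ C) X ≫ ψ ≫ inv (Functor.LaxMonoidal.μ F (𝟙_ C) X), by simp⟩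
    have hcomm : (fun φ : 𝟙_ C ⊗ X ⟶ 𝟙_ C ⊗ X => F.map φ) ∘ (fun φ : 𝟙_ C ⟶ 𝟙_ C => φ ▷ X) =
        (fun ψ : F.obj (𝟙_ C) ⊗ F.obj X ⟶ F.obj (𝟙_ C) ⊗ F.obj X =>
          inv (Functor.LaxMonoidal.μ F (𝟙_ C) X) ≫ ψ ≫ Functor.LaxMonoidal.μ F (𝟙_ C) X) ∘
        (fun φ : F.obj (𝟙_ C) ⟶ F.obj (𝟙_ C) => φ ▷ F.obj X) ∘
        (fun φ : 𝟙_ C ⟶ 𝟙_ C => F.map φ) := by
      funext φ
      simp only [Function.comp_apply]
      rw [Functor.LaxMonoidal.μ_natural_left, IsIso.inv_hom_id_assoc]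
    have h2 := (hc.comp (hb.comp h1))
    rw [← hcomm] at h2
    exact (Function.Bijective.of_comp_iff _ ha).mp h2
  have hEnd : ∀ X : C, Function.Bijective (fun φ : X ⟶ X => F.map φ) := by
    intro X
    constructor
    · intro φ ψ h
      have h3 : F.map ((λ_ X).hom ≫ φ ≫ (λ_ X).inv) = F.map ((λ_ X).hom ≫ ψ ≫ (λ_ X).inv) := by
        simp only [Functor.map_comp]
        rw [show F.map φ = F.map ψ from h]
      have h4 := (key X).1 h3
      simpa using h4
    · intro ψ
      obtain ⟨φ, hφ⟩ := (key X).2 (F.map (λ_ X).hom ≫ ψ ≫ F.map (λ_ X).inv)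
      refine ⟨(λ_ X).inv ≫ φ ≫ (λ_ X).hom, ?_⟩
      simp only [Functor.map_comp]
      rw [show F.map φ = _ from hφ]
      simp [← Functor.map_comp_assoc, ← Functor.map_comp]
  have hfaith : F.Faithful := by
    constructor
    intro X Y f g h
    have h5 : F.map (f ≫ inv g) = F.map (𝟙 X) := by
      rw [Functor.map_comp, h, ← Functor.map_comp, IsIso.hom_inv_id]
    have h6 := (hEnd X).1 h5
    rw [← cancel_mono (inv g), h6, IsIso.hom_inv_id]
  have hfull : F.Full := by
    constructor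
    intro X Y ψ
    obtain ⟨e⟩ := h0 X Y ⟨asIso ψ⟩
    obtain ⟨φ, hφ⟩ := (hEnd X).2 (ψ ≫ F.map e.inv)
    refine ⟨φ ≫ e.hom, ?_⟩
    rw [Functor.map_comp, show F.map φ = _ from hφ, Category.assoc, ← Functor.map_comp]
    simp
  exact { }

end Groth.Agent.S15285
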