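import Groth.Statements.S15286
import Groth.Agent.PicCat.K850.Act

set_option autoImplicit false
universe v v' u u'
open PicCat

namespace Groth.Agent.S15286

open CategoryTheory MonoidalCategory in
/-- Let C be a Picard category, D a commutative (braided) Picard category, F, G : C ⥤ D lax monoidal
functors and θ₀ : F ⟶ G a monoidal natural transformation. Identify an endomorphism φ of the unit of
D with the automorphism λ⁻¹ ≫ (φ ▷ Z) ≫ λ of any object Z. Then the monoidal natural transformations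
F ⟶ G form a torsor under the monoid homomorphisms χ from the monoid of isomorphism classes of C to
End(𝟙_D): every monoidal θ : F ⟶ G is X ↦ θ₀_X ≫ (action of χ[X] on G X) for a unique such χ, and
for every χ this formula defines a monoidal natural transformation. (The published statement allows
D non-commutative; for a non-braided monoidal groupoid the classes so obtained are crossed rather
than plain homomorphisms, so D is taken braided here.) -/
theorem result
    {C : Type u} [Category.{v} C] [MonoidalCategory C] [IsGroupoid C]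
    {D : Type u'} [Category.{v'} D] [MonoidalCategory D] [BraidedCategory D] [IsGroupoid D]
    (hC : ∀ X : C, (tensorLeft X).IsEquivalence ∧ (tensorRight X).IsEquivalence)
    (hD : ∀ X : D, (tensorLeft X).IsEquivalence ∧ (tensorRight X).IsEquivalence)
    (F G : C ⥤ D) [F.LaxMonoidal] [G.LaxMonoidal] (θ₀ : F ⟶ G) [NatTrans.IsMonoidal θ₀] :
    (∀ θ : F ⟶ G, NatTrans.IsMonoidal θ →
      ∃! χ : Skeleton C →* End (𝟙_ D), ∀ X : C,
        θ.app X = θ₀.app X ≫ (λ_ (G.obj X)).inv ≫
          ((χ (toSkeleton X) : 𝟙_ D ⟶ 𝟙_ D) ▷ G.obj X) ≫ (λ_ (G.obj X)).hom) ∧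
    (∀ χ : Skeleton C →* End (𝟙_ D), ∃ θ : F ⟶ G, NatTrans.IsMonoidal θ ∧ ∀ X : C,
        θ.app X = θ₀.app X ≫ (λ_ (G.obj X)).inv ≫
          ((χ (toSkeleton X) : 𝟙_ D ⟶ 𝟙_ D) ▷ G.obj X) ≫ (λ_ (G.obj X)).hom) := by
  have hbij : ∀ X : C, Function.Bijective (K850.Act.act (G.obj X)) :=
    fun X => K850.Act.act_bijective _ (hD _).2
  constructor
  · intro θ hθ
    have hc : ∀ X : C, ∃ φ : 𝟙_ D ⟶ 𝟙_ D, θ.app X = θ₀.app X ≫ K850.Act.act (G.obj X) φ := by
      intro X
      obtain ⟨φ, hφ⟩ := (hbij X).2 (inv (θ₀.app X) ≫ θ.app X)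
      exact ⟨φ, by rw [hφ, IsIso.hom_inv_id_assoc]⟩
    choose c hc using hc
    have hinj : ∀ (X : C) (φ ψ : 𝟙_ D ⟶ 𝟙_ D),
        θ₀.app X ≫ K850.Act.act (G.obj X) φ = θ₀.app X ≫ K850.Act.act (G.obj X) ψ → φ = ψ := by
      intro X φ ψ h
      exact (hbij X).1 ((cancel_epi _).mp h)
    have hiso : ∀ {X Y : C} (f : X ⟶ Y), c X = c Y := by
      intro X Y f
      apply hinj X
      rw [← cancel_mono (G.map f)]
      calc (θ₀.app X ≫ K850.Act.act (G.obj X) (c X)) ≫ G.map f = θ.app X ≫ G.map f := by rw [hc]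
        _ = F.map f ≫ θ.app Y := (θ.naturality f).symm
        _ = F.map f ≫ θ₀.app Y ≫ K850.Act.act (G.obj Y) (c Y) := by rw [hc Y]
        _ = (θ₀.app X ≫ G.map f) ≫ K850.Act.act (G.obj Y) (c Y) := by
            rw [← θ₀.naturality, Category.assoc]
        _ = _ := by rw [Category.assoc, ← K850.Act.act_natural, Category.assoc]
    have hmul : ∀ X Y : C, c (X ⊗ Y) = c X ≫ c Y := by
      intro X Y
      have h1 := hθ.tensor X Y
      have h2 := NatTrans.IsMonoidal.tensor (τ := θ₀) X Y
      rw [hc, hc, hc, ← Category.assoc, h2, Category.assoc, ← K850.Act.act_natural,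
        ← tensorHom_comp_tensorHom, K850.Act.act_tensor, Category.assoc] at h1
      have h3 := (cancel_epi _).mp h1
      have h4 := (cancel_mono _).mp h3
      exact (K850.Act.act_bijective _ (hD _).2).1 h4
    have hone : c (𝟙_ C) = 𝟙 (𝟙_ D) := by
      have h1 := hθ.unit
      have h2 := NatTrans.IsMonoidal.unit (τ := θ₀)
      rw [hc, ← Category.assoc, h2] at h1
      have h5 : Functor.LaxMonoidal.ε G ≫ K850.Act.act (G.obj (𝟙_ C)) (c (𝟙_ C)) =
          Functor.LaxMonoidal.ε G ≫ K850.Act.act (G.obj (𝟙_ C)) (𝟙 _) := by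
        rw [h1, K850.Act.act_id, Category.comp_id]
      exact (hbij _).1 ((cancel_epi _).mp h5)
    have hout : ∀ X : C, c ((fromSkeleton C).obj (toSkeleton X)) = c X :=
      fun X => hiso (fromSkeletonToSkeletonIso X).hom
    let χ : Skeleton C →* End (𝟙_ D) :=
      { toFun := fun s => c ((fromSkeleton C).obj s)
        map_one' := by
          rw [Skeleton.one_eq, hout, hone]; rfl
        map_mul' := by
          intro x y
          obtain ⟨X, rfl⟩ : ∃ X : C, toSkeleton X = x := ⟨_, toSkeleton_fromSkeleton_obj x⟩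
          obtain ⟨Y, rfl⟩ : ∃ Y : C, toSkeleton Y = y := ⟨_, toSkeleton_fromSkeleton_obj y⟩
          rw [← Skeleton.toSkeleton_tensorObj, hout, hout, hout, hmul]
          have h6 : c X ≫ c Y = c Y ≫ c X := by
            apply (K850.Act.act_bijective _ (hD (𝟙_ D ⊗ 𝟙_ D)).2).1
            rw [← K850.Act.act_tensor, ← K850.Act.act_tensor']
          rw [h6]; rfl }
    refine ⟨χ, ?_, ?_⟩
    · intro X
      have h7 : (χ (toSkeleton X) : 𝟙_ D ⟶ 𝟙_ D) = c X := hout X
      rw [h7]
      exact hc X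
    · intro χ' hχ'
      ext x
      obtain ⟨X, rfl⟩ : ∃ X : C, toSkeleton X = x := ⟨_, toSkeleton_fromSkeleton_obj x⟩
      apply hinj X
      have h8 : (χ (toSkeleton X) : 𝟙_ D ⟶ 𝟙_ D) = c X := hout X
      rw [h8, ← hc X]
      exact (hχ' X).symm
  · intro χ
    let θ : F ⟶ G :=
      { app := fun X => θ₀.app X ≫ K850.Act.act (G.obj X) (χ (toSkeleton X))
        naturality := by
          intro X Y f
          have h9 : toSkeleton X = toSkeleton Y := congr_toSkeleton_of_iso (asIso f)
          rw [← h9, ← Category.assoc, θ₀.naturality, Category.assoc, Category.assoc,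
            K850.Act.act_natural] }
    refine ⟨θ, ⟨?_, ?_⟩, fun X => rfl⟩
    · show Functor.LaxMonoidal.ε F ≫ θ₀.app _ ≫ _ = _
      rw [NatTrans.IsMonoidal.unit_assoc]
      have h10 : (χ (toSkeleton (𝟙_ C)) : 𝟙_ D ⟶ 𝟙_ D) = 𝟙 _ := by
        rw [← Skeleton.one_eq, map_one]; rfl
      rw [h10, K850.Act.act_id, Category.comp_id]
    · intro X Y
      show Functor.LaxMonoidal.μ F X Y ≫ θ₀.app _ ≫ _ = ((θ₀.app X ≫ _) ⊗ₘ (θ₀.app Y ≫ _)) ≫ _
      rw [NatTrans.IsMonoidal.tensor_assoc, ← tensorHom_comp_tensorHom, Category.assoc,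
        K850.Act.act_tensor', Skeleton.toSkeleton_tensorObj, map_mul, ← K850.Act.act_natural]
      rfl

end Groth.Agent.S15286
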