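import Groth.Statements.S15289
import Groth.Agent.S5721
import Groth.Agent.EGA2.K43.VAForward
import Groth.Agent.SDiv.K475.NvAvoid
import Groth.Agent.SDiv.K475.SecSys

set_option autoImplicit false
universe u
open CategoryTheory CategoryTheory.Limits AlgebraicGeometry
open SDiv

namespace Groth.Agent.S15289

open Groth.Agent.Fdesc.LocGen Groth.Agent.Ega2.Nv Groth.Agent.Ega2.Ample K475.Sys K475.SecSys K475

/-- neighbourhoods over which everything is good -/
theorem exists_nhd_of_closed {Z T S : Scheme.{u}} (q : Z ⟶ T) (c : T ⟶ S) (hq : IsClosedMap q) (hc : IsClosedMap c)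
    (G : Set Z) (hG : IsOpen G) (s : S) (h : ∀ z, c (q z) = s → z ∈ G) :
    ∃ U : S.Opens, s ∈ U ∧ ∀ z, c (q z) ∈ U → z ∈ G := by
  have h1 : IsClosed (c '' (q '' Gᶜ)) := hc _ (hq _ hG.isClosed_compl)
  refine ⟨⟨_, h1.isOpen_compl⟩, ?_, ?_⟩
  · rintro ⟨_, ⟨z, hz, rfl⟩, hs⟩
    exact hz (h z hs)
  · intro z hz
    by_contra hzG
    exact hz ⟨_, ⟨z, hzG, rfl⟩, rfl⟩

/-- Let g : Y ⟶ S be flat, proper and locally of finite presentation, L an invertible O_Y-module and A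
an O_Y-module very ample relative to g; let finitely many commutative squares Z_i ⟶ Y ⟶ S = Z_i ⟶
T_i ⟶ S be given, with T_i ⟶ S closed immersions locally of finite presentation and Z_i ⟶ T_i flat,
proper and locally of finite presentation. Then for every point s of S there is N₀ such that for
every N ≥ N₀ there are an open neighbourhood U of s and a section σ of L ⊗ A^{⊗ N} over g⁻¹(U)
defining a relative effective Cartier divisor over S (its zero scheme is an effective Cartier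
divisor and is flat over S), whose pullback along each Z_i ×_S U ⟶ g⁻¹(U) again has zero scheme an
effective Cartier divisor, flat over T_i. (Zariski-local form; the open neighbourhood is allowed to
depend on N, which is the order of quantifiers the published proof yields.) -/
theorem result
    {Y S : Scheme.{u}} (g : Y ⟶ S) [Flat g] [IsProper g] [LocallyOfFinitePresentation g]
    (L A : Y.Modules) (hL : PicF.IsInvertible L) (hA : RelProj.IsRelVeryAmple g A)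
    (ι : Type) [Finite ι] (Z T : ι → Scheme.{u}) (h : ∀ i, Z i ⟶ Y) (q : ∀ i, Z i ⟶ T i)
    (c : ∀ i, T i ⟶ S) [∀ i, IsClosedImmersion (c i)] [∀ i, LocallyOfFinitePresentation (c i)]
    [∀ i, Flat (q i)] [∀ i, IsProper (q i)] [∀ i, LocallyOfFinitePresentation (q i)]
    (comm : ∀ i, h i ≫ g = q i ≫ c i) (s : ↥S) :
    ∃ N₀ : ℕ, ∀ N : ℕ, N₀ ≤ N → ∃ U : S.Opens, s ∈ U ∧
      ∃ σ : Coh.structureModule ↑(g ⁻¹ᵁ U) ⟶
          (CohB1.tensorMod L (CohB1.tensorPow A N)).restrict (g ⁻¹ᵁ U).ι,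
        FGA.IsEffCartier (PicF2.zeroScheme _ σ) ∧
        Flat ((PicF2.zeroScheme _ σ).subschemeι ≫ (g ⁻¹ᵁ U).ι ≫ g) ∧
        ∀ i : ι,
          FGA.IsEffCartier (PicF2.zeroScheme _
            ((PicLoc.pullbackStructureIso (h i ∣_ (g ⁻¹ᵁ U))).inv ≫
              (Scheme.Modules.pullback (h i ∣_ (g ⁻¹ᵁ U))).map σ)) ∧
          Flat ((PicF2.zeroScheme _
            ((PicLoc.pullbackStructureIso (h i ∣_ (g ⁻¹ᵁ U))).inv ≫
              (Scheme.Modules.pullback (h i ∣_ (g ⁻¹ᵁ U))).map σ)).subschemeι ≫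
                ((h i) ⁻¹ᵁ (g ⁻¹ᵁ U)).ι ≫ q i) := by
  have hAi : PicF.IsInvertible A := K43.VAForward.isInvertible_of_isRelVeryAmple hA
  have hrel : RelAmple.IsRelAmple g A := Groth.Agent.S5721.result g A hAi hA
  have hcomm : ∀ i (z : Z i), g (h i z) = c i (q i z) := fun i z => by
    rw [← Scheme.Hom.comp_apply, comm, Scheme.Hom.comp_apply]
  obtain ⟨V, hV, hsV, -⟩ := exists_isAffineOpen_mem_and_subset (X := S) (x := s) (U := ⊤) trivial
  have hamp : AmpleOn A (g ⁻¹ᵁ V) := (isAmple_restrict_ι_iff _).mp (hrel.2 ⟨V, hV⟩)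
  -- the finite set of points
  let E : Set Y := AssPt.fibAss g s ∪ ⋃ i, {y | ∃ t, c i t = s ∧ ∃ z ∈ AssPt.fibAss (q i) t, h i z = y}
  have hE1 : ∀ y ∈ E, g y = s := by
    rintro y (hy | hy)
    · exact AssPt.fibAss_over hy
    · obtain ⟨i, t, ht, z, hz, rfl⟩ := Set.mem_iUnion.mp hy
      rw [hcomm, AssPt.fibAss_over hz, ht]
  have hEfin : E.Finite := by
    refine (AssPt.finite_fibAss g s).union (Set.finite_iUnion fun i => ?_)
    by_cases hs : ∃ t, c i t = s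
    · obtain ⟨t, ht⟩ := hs
      refine ((AssPt.finite_fibAss (q i) t).image (h i)).subset ?_
      rintro y ⟨t', ht', z, hz, rfl⟩
      have : t' = t := (c i).isClosedEmbedding.injective (ht'.trans ht.symm)
      subst this
      exact ⟨z, hz, rfl⟩
    · convert Set.finite_empty
      rw [Set.eq_empty_iff_forall_notMem]
      rintro y ⟨t', ht', -⟩
      exact hs ⟨t', ht'⟩
  obtain ⟨N₀, hN₀⟩ := NvAvoid.exists_nv hAi hL hamp E hEfin (fun y hy => by
    change g y ∈ V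
    rw [hE1 y hy]; exact hsV)
  refine ⟨N₀, fun N hN => ?_⟩
  obtain ⟨m, hm⟩ := hN₀ N hN
  have hM : PicF.IsInvertible (CohB1.tensorMod L (CohB1.tensorPow A N)) :=
    isInvertible_tensorMod hL (isInvertible_tensorPow hAi N)
  -- good loci
  have hgood0 : ∀ y, g y = s → GoodAt g (eqs (𝟙 Y) m) y := by
    intro y hy
    refine goodAt_of_fibAss g (isSys_eqs _ m) y (exists_eqs (𝟙 Y) hM m ?_) ?_
    · change g y ∈ V
      rw [hy]; exact hsV
    · intro x hx W a hxW ha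
      refine mem_basicOpen_of_eqs (𝟙 Y) m ha hxW (hm ?_)
      rw [hy] at hx
      exact Or.inl hx
  have hgood1 : ∀ i z, c i (q i z) = s → GoodAt (q i) (eqs (h i) m) z := by
    intro i z hz
    refine goodAt_of_fibAss (q i) (isSys_eqs _ m) z (exists_eqs (h i) hM m ?_) ?_
    · change g (h i z) ∈ V
      rw [hcomm, hz]; exact hsV
    · intro x hx W a hxW ha
      refine mem_basicOpen_of_eqs (h i) m ha hxW (hm ?_)
      exact Or.inr (Set.mem_iUnion.mpr ⟨i, _, hz, x, hx, rfl⟩)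
  obtain ⟨U₀, hsU₀, hU₀⟩ := exists_nhd_of_closed g (𝟙 S) g.isClosedMap (by
    simpa using! IsClosedMap.id) _ (isOpen_goodAt g (eqs (𝟙 Y) m)) s (fun z hz => hgood0 z hz)
  have hex : ∀ i, ∃ U : S.Opens, s ∈ U ∧ ∀ z, c i (q i z) ∈ U → GoodAt (q i) (eqs (h i) m) z := fun i =>
    exists_nhd_of_closed (q i) (c i) (q i).isClosedMap (c i).isClosedEmbedding.isClosedMap _
      (isOpen_goodAt (q i) (eqs (h i) m)) s (fun z hz => hgood1 i z hz)
  choose U₁ hsU₁ hU₁ using hex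
  let U : S.Opens := V ⊓ U₀ ⊓ ⟨⋂ i, (U₁ i : Set S), isOpen_iInter_of_finite fun i => (U₁ i).2⟩
  have hUV : U ≤ V := fun x hx => hx.1.1
  have hUU₀ : U ≤ U₀ := fun x hx => hx.1.2
  have hUU₁ : ∀ i, U ≤ U₁ i := fun i x hx => Set.mem_iInter.mp hx.2 i
  have hD : g ⁻¹ᵁ U ≤ g ⁻¹ᵁ V := g.preimage_mono hUV
  have hMr : PicF.IsInvertible ((CohB1.tensorMod L (CohB1.tensorPow A N)).restrict (g ⁻¹ᵁ U).ι) :=
    locGen_top_iff.1 ((locGen_restrict_iff _).2 ((locGen_top_iff.2 hM).mono le_top))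
  refine ⟨U, ⟨⟨hsV, hsU₀⟩, Set.mem_iInter.mpr hsU₁⟩, secOn m hD, ?_⟩
  have h1 := of_goodAt hMr (secOn m hD) ((g ⁻¹ᵁ U).ι ≫ g) (LocEq (secOn m hD)) (fun V a h => h)
    (fun z => (hU₀ ((g ⁻¹ᵁ U).ι z) (hUU₀ z.2)).of_isOpenImmersion (g ⁻¹ᵁ U).ι (isSys_eqs _ m)
      (fun V a _ ha => locEq_secOn_of_eqs m hD V a ha) z)
  refine ⟨h1.1, h1.2, fun i => ?_⟩
  exact of_goodAt (isInvertible_pullback _ hMr) _ (((h i) ⁻¹ᵁ (g ⁻¹ᵁ U)).ι ≫ q i) (LocEq _) (fun V a h => h)
    (fun z => (hU₁ i (((h i) ⁻¹ᵁ (g ⁻¹ᵁ U)).ι z) (hUU₁ i (by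
        rw [← hcomm]; exact z.2))).of_isOpenImmersion ((h i) ⁻¹ᵁ (g ⁻¹ᵁ U)).ι (isSys_eqs _ m)
      (fun V a _ ha => locEq_pull_secOn m hD _ (h i) (h i ∣_ (g ⁻¹ᵁ U)) (morphismRestrict_ι _ _) V a ha) z)

end Groth.Agent.S15289
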