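import Groth.Statements.S15290
import Groth.Agent.EGA2.K43.VAForward
import Groth.Agent.SDiv.K475.AssBC
import Groth.Agent.SDiv.K475.EtPt
import Groth.Agent.SDiv.K475.PolySec

set_option autoImplicit false
universe u
open CategoryTheory CategoryTheory.Limits AlgebraicGeometry
open SDiv

namespace Groth.Agent.S15290

open Groth.Agent.Fdesc.LocGen Groth.Agent.Ega2.Nv Groth.Agent.Ega2.Ample K475.Sys K475.SecSys K475.PolySys
  K475.PolySec K475

/-- neighbourhoods over which everything is good -/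
theorem exists_nhd_of_closed {Z T S : Scheme.{u}} (q : Z ⟶ T) (c : T ⟶ S) (hq : IsClosedMap q) (hc : IsClosedMap c)
    (G : Set Z) (hG : IsOpen G) (s : S) (h : ∀ z, c (q z) = s → z ∈ G) :
    ∃ U : S.Opens, s ∈ U ∧ ∀ z, c (q z) ∈ U → z ∈ G := by
  have h1 : IsClosed (c '' (q '' Gᶜ)) := hc _ (hq _ hG.isClosed_compl)
  refine ⟨⟨_, h1.isOpen_compl⟩, ?_, ?_⟩
  · rintro ⟨_, ⟨z, hz, rfl⟩, hs⟩
    exact hz (h z hs)
  · intro z hz
    by_contra hzG
    exact hz ⟨_, ⟨z, hzG, rfl⟩, rfl⟩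

theorem exists_j {X S S₁ S₂ : Scheme.{u}} (f : X ⟶ S) (e₁ : S₁ ⟶ S) (k : S₂ ⟶ S₁) [IsOpenImmersion k] :
    ∃ j : pullback f (k ≫ e₁) ⟶ pullback f e₁, IsOpenImmersion j ∧
      j ≫ pullback.fst f e₁ = pullback.fst f (k ≫ e₁) ∧ j ≫ pullback.snd f e₁ = pullback.snd f (k ≫ e₁) ≫ k := by
  let j : pullback f (k ≫ e₁) ⟶ pullback f e₁ :=
    pullback.lift (pullback.fst f (k ≫ e₁)) (pullback.snd f (k ≫ e₁) ≫ k) (by
      rw [pullback.condition, Category.assoc])
  have h1 : j ≫ pullback.fst f e₁ = pullback.fst f (k ≫ e₁) := pullback.lift_fst _ _ _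
  have h2 : j ≫ pullback.snd f e₁ = pullback.snd f (k ≫ e₁) ≫ k := pullback.lift_snd _ _ _
  have h3 : IsPullback j (pullback.snd f (k ≫ e₁)) (pullback.snd f e₁) k := by
    refine IsPullback.of_right (h₁₂ := pullback.fst f e₁) (v₁₃ := f) (h₂₂ := e₁) ?_ h2
      (IsPullback.of_hasPullback f e₁)
    rw [h1]
    exact IsPullback.of_hasPullback f (k ≫ e₁)
  exact ⟨j, MorphismProperty.of_isPullback h3.flip ‹_›, h1, h2⟩

/-- the finite family of sections and the cyclotomic polynomial -/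
theorem exists_family {Y S : Scheme.{u}} (g : Y ⟶ S) (A : Y.Modules) (hA : RelProj.IsRelVeryAmple g A)
    {V : S.Opens} (hV : IsAffineOpen V) {s : S} (hs : s ∈ V) (E : Set Y) (hE : E.Finite) (hEs : ∀ y ∈ E, g y = s) :
    ∃ (r : ℕ) (a : Fin r → Γ(A, g ⁻¹ᵁ V)) (n : ℕ), (n : S.residueField s) ≠ 0 ∧ ∀ y ∈ E, Cop a n y := by
  have hAi : PicF.IsInvertible A := K43.VAForward.isInvertible_of_isRelVeryAmple hA
  obtain ⟨𝓔, -, φ, hφ⟩ := K43.VAForward.exists_va hA
  have h1 : ∀ y : E, ∃ m : Γ(A, g ⁻¹ᵁ V), y.1 ∈ nv A m := by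
    intro y
    obtain ⟨e, he, -⟩ := hφ V hV y.1 (by
      change g y.1 ∈ V
      rw [hEs y.1 y.2]; exact hs)
    exact ⟨_, he⟩
  choose m hm using h1
  have : Finite E := hE
  have := Fintype.ofFinite E
  let ε := Fintype.equivFin E
  let a : Fin (Fintype.card E) → Γ(A, g ⁻¹ᵁ V) := fun j => m (ε.symm j)
  have h2 : ∀ y : E, y.1 ∈ nv A (a (ε y)) := fun y => by
    change y.1 ∈ nv A (m (ε.symm (ε y)))
    rw [Equiv.symm_apply_apply]
    exact hm y
  have h3 := fun y : E => exists_polyAt_ne_zero a hAi (ε y) (h2 y)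
  choose W hyW hW η α hη hα hne using h3
  obtain ⟨n, hn, hn2⟩ := Cyclo.exists_cyclotomic (S.residueField s) (fun y : E => Y.residueField y.1)
    (fun y => (show ∀ t (_ : g y.1 = t), S.residueField t →+* Y.residueField y.1 from
      fun t ht => ht ▸ (g.residueFieldMap y.1).hom) s (hEs y.1 y.2)) (fun y => polyAt (α y) y.1 (hyW y)) hne
  exact ⟨_, a, n, hn, fun y hy => ⟨W ⟨y, hy⟩, hyW ⟨y, hy⟩, hW ⟨y, hy⟩, η ⟨y, hy⟩, α ⟨y, hy⟩, hη ⟨y, hy⟩,
    hα ⟨y, hy⟩, hn2 ⟨y, hy⟩⟩⟩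

/-- Let g : Y ⟶ S be flat, proper and locally of finite presentation and A an O_Y-module very ample
relative to g; let finitely many commutative squares Z_i ⟶ Y ⟶ S = Z_i ⟶ T_i ⟶ S be given, with T_i
⟶ S closed immersions locally of finite presentation and Z_i ⟶ T_i flat, proper and locally of
finite presentation. Then étale-locally on S the module A itself has a global section defining a
relative effective Cartier divisor whose pullback to each Z_i is again such a divisor, now relative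
to T_i: for every point s of S there is an étale morphism S' ⟶ S with s in its image such that the
pullback of A to Y ×_S S' has a global section σ whose zero scheme is an effective Cartier divisor
flat over S', and for each i the pullback of σ along Z_i ×_S S' ⟶ Y ×_S S' has zero scheme an
effective Cartier divisor flat over T_i ×_S S'. -/
theorem result
    {Y S : Scheme.{u}} (g : Y ⟶ S) [Flat g] [IsProper g] [LocallyOfFinitePresentation g]
    (A : Y.Modules) (hA : RelProj.IsRelVeryAmple g A)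
    (ι : Type) [Finite ι] (Z T : ι → Scheme.{u}) (h : ∀ i, Z i ⟶ Y) (q : ∀ i, Z i ⟶ T i)
    (c : ∀ i, T i ⟶ S) [∀ i, IsClosedImmersion (c i)] [∀ i, LocallyOfFinitePresentation (c i)]
    [∀ i, Flat (q i)] [∀ i, IsProper (q i)] [∀ i, LocallyOfFinitePresentation (q i)]
    (comm : ∀ i, h i ≫ g = q i ≫ c i) (s : ↥S) :
    ∃ (S' : Scheme.{u}) (e : S' ⟶ S), Etale e ∧ s ∈ Set.range e.base ∧
      ∃ σ : Coh.structureModule (pullback g e) ⟶
          (Scheme.Modules.pullback (pullback.fst g e)).obj A,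
        FGA.IsEffCartier (PicF2.zeroScheme _ σ) ∧
        Flat ((PicF2.zeroScheme _ σ).subschemeι ≫ pullback.snd g e) ∧
        ∀ i : ι,
          FGA.IsEffCartier (PicF2.zeroScheme _
            ((PicLoc.pullbackStructureIso
                (pullback.map (h i ≫ g) e g e (h i) (𝟙 S') (𝟙 S) (Category.comp_id _)
                  ((Category.comp_id e).trans (Category.id_comp e).symm))).inv ≫
              (Scheme.Modules.pullback
                (pullback.map (h i ≫ g) e g e (h i) (𝟙 S') (𝟙 S) (Category.comp_id _)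
                  ((Category.comp_id e).trans (Category.id_comp e).symm))).map σ)) ∧
          Flat ((PicF2.zeroScheme _
            ((PicLoc.pullbackStructureIso
                (pullback.map (h i ≫ g) e g e (h i) (𝟙 S') (𝟙 S) (Category.comp_id _)
                  ((Category.comp_id e).trans (Category.id_comp e).symm))).inv ≫
              (Scheme.Modules.pullback
                (pullback.map (h i ≫ g) e g e (h i) (𝟙 S') (𝟙 S) (Category.comp_id _)
                  ((Category.comp_id e).trans (Category.id_comp e).symm))).map σ)).subschemeι ≫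
            pullback.map (h i ≫ g) e (c i) e (q i) (𝟙 S') (𝟙 S)
              ((Category.comp_id _).trans (comm i))
              ((Category.comp_id e).trans (Category.id_comp e).symm)) := by
  have hAi : PicF.IsInvertible A := K43.VAForward.isInvertible_of_isRelVeryAmple hA
  have hcomm : ∀ i (z : Z i), g (h i z) = c i (q i z) := fun i z => by
    rw [← Scheme.Hom.comp_apply, comm, Scheme.Hom.comp_apply]
  obtain ⟨V, hV, hsV, -⟩ := exists_isAffineOpen_mem_and_subset (X := S) (x := s) (U := ⊤) trivial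
  -- the finite set of points
  let E : Set Y := AssPt.fibAss g s ∪ ⋃ i, {y | ∃ t, c i t = s ∧ ∃ z ∈ AssPt.fibAss (q i) t, h i z = y}
  have hE1 : ∀ y ∈ E, g y = s := by
    rintro y (hy | hy)
    · exact AssPt.fibAss_over hy
    · obtain ⟨i, t, ht, z, hz, rfl⟩ := Set.mem_iUnion.mp hy
      rw [hcomm, AssPt.fibAss_over hz, ht]
  have hEfin : E.Finite := by
    refine (AssPt.finite_fibAss g s).union (Set.finite_iUnion fun i => ?_)
    by_cases hs : ∃ t, c i t = s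
    · obtain ⟨t, ht⟩ := hs
      refine ((AssPt.finite_fibAss (q i) t).image (h i)).subset ?_
      rintro y ⟨t', ht', z, hz, rfl⟩
      have : t' = t := (c i).isClosedEmbedding.injective (ht'.trans ht.symm)
      subst this
      exact ⟨z, hz, rfl⟩
    · convert Set.finite_empty
      rw [Set.eq_empty_iff_forall_notMem]
      rintro y ⟨t', ht', -⟩
      exact hs ⟨t', ht'⟩
  obtain ⟨r, a, n, hn, hcop⟩ := exists_family g A hA hV hsV E hEfin hE1
  obtain ⟨S₁, e₁, he₁, s₁, hs₁, ξ₁, hV₁, hξ₁⟩ := EtPt.exists_etale_point s V hV hsV n hn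
  -- everything over `S₁`
  let p₁ : pullback g e₁ ⟶ S₁ := pullback.snd g e₁
  let b₁ : pullback g e₁ ⟶ Y := pullback.fst g e₁
  let ξY : Γ(pullback g e₁, ⊤) := p₁.app ⊤ ξ₁
  let f₁ : ∀ i, pullback (h i ≫ g) e₁ ⟶ pullback g e₁ := fun i =>
    pullback.map (h i ≫ g) e₁ g e₁ (h i) (𝟙 S₁) (𝟙 S) (Category.comp_id _)
      ((Category.comp_id e₁).trans (Category.id_comp e₁).symm)
  let q₁ : ∀ i, pullback (h i ≫ g) e₁ ⟶ pullback (c i) e₁ := fun i =>
    pullback.map (h i ≫ g) e₁ (c i) e₁ (q i) (𝟙 S₁) (𝟙 S) ((Category.comp_id _).trans (comm i))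
      ((Category.comp_id e₁).trans (Category.id_comp e₁).symm)
  have hf₁b : ∀ i, f₁ i ≫ b₁ = pullback.fst (h i ≫ g) e₁ ≫ h i := fun i => pullback.lift_fst _ _ _
  have hf₁p : ∀ i, f₁ i ≫ p₁ = pullback.snd (h i ≫ g) e₁ := fun i =>
    (pullback.lift_snd _ _ _).trans (Category.comp_id _)
  have hq₁c : ∀ i, q₁ i ≫ pullback.snd (c i) e₁ = pullback.snd (h i ≫ g) e₁ := fun i =>
    (pullback.lift_snd _ _ _).trans (Category.comp_id _)
  have hq₁f : ∀ i, q₁ i ≫ pullback.fst (c i) e₁ = pullback.fst (h i ≫ g) e₁ ≫ q i := fun i =>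
    pullback.lift_fst _ _ _
  have hpb : ∀ i, IsPullback (pullback.fst (h i ≫ g) e₁) (q₁ i) (q i) (pullback.fst (c i) e₁) := fun i => by
    refine IsPullback.of_bot (v₂₁ := pullback.snd (c i) e₁) (v₂₂ := c i) (h₃₁ := e₁) ?_ (hq₁f i).symm
      (IsPullback.of_hasPullback (c i) e₁)
    rw [hq₁c, ← comm]
    exact IsPullback.of_hasPullback (h i ≫ g) e₁
  have hX₀ : ∀ y, b₁ y ∈ g ⁻¹ᵁ V := fun y => by
    change g (b₁ y) ∈ V
    rw [← Scheme.Hom.comp_apply, show b₁ ≫ g = p₁ ≫ e₁ from pullback.condition, Scheme.Hom.comp_apply]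
    exact hV₁ _
  have hξY : (Polynomial.cyclotomic n Γ(pullback g e₁, ⊤)).eval ξY = 0 := by
    have h4 := congrArg (p₁.app ⊤).hom hξ₁
    rw [map_zero, ← Polynomial.eval₂_at_apply, ← Polynomial.eval_map, Polynomial.map_cyclotomic] at h4
    exact h4
  have hξZ : ∀ i, (Polynomial.cyclotomic n Γ(pullback (h i ≫ g) e₁, ⊤)).eval ((f₁ i).app ⊤ ξY) = 0 := fun i => by
    have h4 := congrArg ((f₁ i).app ⊤).hom hξY
    rw [map_zero, ← Polynomial.eval₂_at_apply, ← Polynomial.eval_map, Polynomial.map_cyclotomic] at h4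
    exact h4
  have hflat : ∀ i, Flat (q₁ i) := fun i => MorphismProperty.of_isPullback (hpb i) inferInstance
  have hlfp : ∀ i, LocallyOfFinitePresentation (q₁ i) := fun i =>
    MorphismProperty.of_isPullback (hpb i) inferInstance
  have hprop : ∀ i, IsProper (q₁ i) := fun i => MorphismProperty.of_isPullback (hpb i) inferInstance
  have hgood0 : ∀ y, p₁ y = s₁ → GoodAt p₁ (PolySys.eqs b₁ ξY a) y := by
    intro y hy
    refine goodAt_of_fibAss p₁ (PolySys.isSys_eqs b₁ ξY a) y (PolySys.exists_eqs b₁ ξY a hAi (hX₀ y)) ?_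
    intro x hx W w hxW hw
    refine mem_basicOpen_of_cop b₁ ξY a hξY hw hxW (hcop _ (Or.inl ?_))
    have := AssBC.map_mem_fibAss (IsPullback.of_hasPullback g e₁) hx
    rw [hy, hs₁] at this
    exact this
  have hgood1 : ∀ i z, pullback.snd (c i) e₁ (q₁ i z) = s₁ →
      GoodAt (q₁ i) (PolySys.eqs (f₁ i ≫ b₁) ((f₁ i).app ⊤ ξY) a) z := by
    intro i z hz
    refine goodAt_of_fibAss (q₁ i) (PolySys.isSys_eqs _ _ a) z (PolySys.exists_eqs _ _ a hAi ?_) ?_
    · rw [Scheme.Hom.comp_apply]; exact hX₀ _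
    intro x hx W w hxW hw
    refine mem_basicOpen_of_cop _ _ a (hξZ i) hw hxW (hcop _ (Or.inr (Set.mem_iUnion.mpr ⟨i, ?_⟩)))
    refine ⟨pullback.fst (c i) e₁ (q₁ i z), ?_, _, AssBC.map_mem_fibAss (hpb i) hx, ?_⟩
    · rw [← Scheme.Hom.comp_apply, pullback.condition, Scheme.Hom.comp_apply, hz, hs₁]
    · rw [← Scheme.Hom.comp_apply, ← hf₁b]
  obtain ⟨U₀, hsU₀, hU₀⟩ := exists_nhd_of_closed p₁ (𝟙 S₁) p₁.isClosedMap (by
    simpa using! IsClosedMap.id) _ (isOpen_goodAt p₁ _) s₁ (fun z hz => hgood0 z hz)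
  have hex : ∀ i, ∃ U : S₁.Opens, s₁ ∈ U ∧ ∀ z, pullback.snd (c i) e₁ (q₁ i z) ∈ U →
      GoodAt (q₁ i) (PolySys.eqs (f₁ i ≫ b₁) ((f₁ i).app ⊤ ξY) a) z := fun i =>
    exists_nhd_of_closed (q₁ i) (pullback.snd (c i) e₁) (q₁ i).isClosedMap
      (pullback.snd (c i) e₁).isClosedEmbedding.isClosedMap _
      (isOpen_goodAt (q₁ i) _) s₁ (fun z hz => hgood1 i z hz)
  choose U₁ hsU₁ hU₁ using hex
  let U : S₁.Opens := U₀ ⊓ ⟨⋂ i, (U₁ i : Set S₁), isOpen_iInter_of_finite fun i => (U₁ i).2⟩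
  have hUU₀ : U ≤ U₀ := fun x hx => hx.1
  have hUU₁ : ∀ i, U ≤ U₁ i := fun i x hx => Set.mem_iInter.mp hx.2 i
  have hsU : s₁ ∈ U := ⟨hsU₀, Set.mem_iInter.mpr hsU₁⟩
  obtain ⟨j, hj, hjf, hjs⟩ := exists_j g e₁ U.ι
  have hle : (⊤ : (pullback g (U.ι ≫ e₁)).Opens) ≤ pullback.fst g (U.ι ≫ e₁) ⁻¹ᵁ (g ⁻¹ᵁ V) := fun y _ => by
    change pullback.fst g (U.ι ≫ e₁) y ∈ g ⁻¹ᵁ V
    rw [← hjf, Scheme.Hom.comp_apply]
    exact hX₀ _
  refine ⟨U, U.ι ≫ e₁, inferInstance, ⟨⟨s₁, hsU⟩, hs₁⟩,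
    secPoly (pullback.fst g (U.ι ≫ e₁)) (j.app ⊤ ξY) a hle, ?_⟩
  have hinv : PicF.IsInvertible ((Scheme.Modules.pullback (pullback.fst g (U.ι ≫ e₁))).obj A) :=
    isInvertible_pullback _ hAi
  have h1 := core j U.ι p₁ (pullback.snd g (U.ι ≫ e₁)) hjs.symm b₁ ξY a (fun z => hU₀ (j z) (hUU₀ (by
      change p₁ (j z) ∈ U
      rw [← Scheme.Hom.comp_apply, hjs, Scheme.Hom.comp_apply]
      exact (pullback.snd g (U.ι ≫ e₁) z).2))) hinv
    (secPoly (pullback.fst g (U.ι ≫ e₁)) (j.app ⊤ ξY) a hle) (pullback.fst g (U.ι ≫ e₁)) hjf.symm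
    (j.app ⊤ ξY) rfl (fun W x hx => locEq_secPoly _ _ a hle W x hx)
  refine ⟨h1.1, h1.2, fun i => ?_⟩
  obtain ⟨jz, hjz, hjzf, hjzs⟩ := exists_j (h i ≫ g) e₁ U.ι
  obtain ⟨kz, hkz, hkzf, hkzs⟩ := exists_j (c i) e₁ U.ι
  set f₂ := pullback.map (h i ≫ g) (U.ι ≫ e₁) g (U.ι ≫ e₁) (h i) (𝟙 _) (𝟙 S) (Category.comp_id _)
      ((Category.comp_id (U.ι ≫ e₁)).trans (Category.id_comp (U.ι ≫ e₁)).symm) with hf₂
  have hf₂b : f₂ ≫ pullback.fst g (U.ι ≫ e₁) = pullback.fst (h i ≫ g) (U.ι ≫ e₁) ≫ h i := pullback.lift_fst _ _ _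
  have hf₂s : f₂ ≫ pullback.snd g (U.ι ≫ e₁) = pullback.snd (h i ≫ g) (U.ι ≫ e₁) :=
    (pullback.lift_snd _ _ _).trans (Category.comp_id _)
  have hf₂j : f₂ ≫ j = jz ≫ f₁ i := by
    apply pullback.hom_ext
    · rw [Category.assoc, Category.assoc, hjf, hf₂b, show f₁ i ≫ pullback.fst g e₁ = _ from hf₁b i,
        ← Category.assoc, hjzf]
    · rw [Category.assoc, Category.assoc, hjs, ← Category.assoc, hf₂s, show f₁ i ≫ pullback.snd g e₁ = _ from hf₁p i,
        hjzs]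
  refine core jz kz (q₁ i) _ ?_ (f₁ i ≫ b₁) ((f₁ i).app ⊤ ξY) a (fun z => hU₁ i (jz z) (hUU₁ i ?_))
    (isInvertible_pullback f₂ hinv) _ (f₂ ≫ pullback.fst g (U.ι ≫ e₁)) ?_ (f₂.app ⊤ (j.app ⊤ ξY)) ?_
    (fun W x hx => locEq_pull_secPoly f₂ _ _ a hle W x hx)
  · set q₂ := pullback.map (h i ≫ g) (U.ι ≫ e₁) (c i) (U.ι ≫ e₁) (q i) (𝟙 _) (𝟙 S)
      ((Category.comp_id _).trans (comm i))
      ((Category.comp_id (U.ι ≫ e₁)).trans (Category.id_comp (U.ι ≫ e₁)).symm) with hq₂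
    have e1 : q₂ ≫ pullback.fst (c i) (U.ι ≫ e₁) = pullback.fst (h i ≫ g) (U.ι ≫ e₁) ≫ q i :=
      pullback.lift_fst _ _ _
    have e2 : q₂ ≫ pullback.snd (c i) (U.ι ≫ e₁) = pullback.snd (h i ≫ g) (U.ι ≫ e₁) :=
      (pullback.lift_snd _ _ _).trans (Category.comp_id _)
    clear_value q₂
    apply pullback.hom_ext
    · rw [Category.assoc, hkzf, e1, Category.assoc, hq₁f, ← Category.assoc, hjzf]
    · rw [Category.assoc, hkzs, ← Category.assoc, e2, Category.assoc, hq₁c, hjzs]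
  · rw [← Scheme.Hom.comp_apply, ← Scheme.Hom.comp_apply, hq₁c, hjzs, Scheme.Hom.comp_apply]
    exact (pullback.snd (h i ≫ g) (U.ι ≫ e₁) z).2
  · rw [hf₁b, hf₂b, ← Category.assoc, hjzf]
  · change (j.app ⊤ ≫ f₂.app ⊤).hom ξY = ((f₁ i).app ⊤ ≫ jz.app ⊤).hom ξY
    have e1 : (f₂ ≫ j).app ⊤ = (jz ≫ f₁ i).app ⊤ := by rw [hf₂j]
    rw [Scheme.Hom.comp_app, Scheme.Hom.comp_app] at e1
    exact congr(($e1).hom ξY)

end Groth.Agent.S15290
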