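import Groth.Statements.S15291
import Groth.Agent.PicCat.K850.FreePicLift
import Groth.Agent.PicCat.K850.FreePicTrans

set_option autoImplicit false
universe v v' u u'
open PicCat

namespace Groth.Agent.S15291

open CategoryTheory MonoidalCategory in
/-- Every symmetric monoidal groupoid A has a Picardification: a commutative Picard category V (a
symmetric monoidal groupoid in which tensoring with any object on either side is an equivalence of
categories) with a symmetric lax monoidal functor i : A ⥤ V such that, for every commutative Picard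
category P, (a) every symmetric lax monoidal functor Φ : A ⥤ P is isomorphic through a monoidal
natural isomorphism to i ⋙ Ψ for some symmetric lax monoidal Ψ : V ⥤ P, and (b) for symmetric lax
monoidal Ψ, Ψ' : V ⥤ P, whiskering with i is a bijection from the monoidal natural transformations Ψ
⟶ Ψ' onto the monoidal natural transformations i ⋙ Ψ ⟶ i ⋙ Ψ'. Here V has its objects in the
universe of the objects of A and its morphisms in the larger of A's two universe levels, and P
ranges over one arbitrary pair of universe levels. -/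
theorem result
    (A : Type u) [Category.{v} A] [MonoidalCategory A] [SymmetricCategory A] [IsGroupoid A] :
    ∃ (V : Type u) (_ : Category.{max u v} V) (_ : MonoidalCategory V) (_ : SymmetricCategory V)
      (i : A ⥤ V) (_ : i.LaxBraided),
      IsGroupoid V ∧ (∀ X : V, (tensorLeft X).IsEquivalence ∧ (tensorRight X).IsEquivalence) ∧
      ∀ (P : Type u') [Category.{v'} P] [MonoidalCategory P] [SymmetricCategory P] [IsGroupoid P],
        (∀ X : P, (tensorLeft X).IsEquivalence ∧ (tensorRight X).IsEquivalence) →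
        (∀ (Φ : A ⥤ P) [Φ.LaxBraided], ∃ (Ψ : V ⥤ P) (_ : Ψ.LaxBraided) (η : i ⋙ Ψ ≅ Φ),
            NatTrans.IsMonoidal η.hom) ∧
        (∀ (Ψ Ψ' : V ⥤ P) [Ψ.LaxBraided] [Ψ'.LaxBraided] (τ : i ⋙ Ψ ⟶ i ⋙ Ψ'),
            NatTrans.IsMonoidal τ →
              ∃! θ : Ψ ⟶ Ψ', NatTrans.IsMonoidal θ ∧ Functor.whiskerLeft i θ = τ) := by
  refine ⟨K850.FreePic.Obj A, inferInstance, inferInstance, inferInstance,
    K850.FreePic.incl A, inferInstance, inferInstance, K850.FreePic.isPicard, ?_⟩
  intro P _ _ _ _ hP
  refine ⟨?_, ?_⟩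
  · intro Φ _
    have hinv : ∀ X : P, ∃ Y : P, Nonempty (X ⊗ Y ≅ 𝟙_ P) := by
      intro X
      have := (hP X).1
      exact ⟨(tensorLeft X).objPreimage (𝟙_ P), ⟨(tensorLeft X).objObjPreimageIso (𝟙_ P)⟩⟩
    choose J c using hinv
    exact ⟨K850.FreePic.lift J (fun X => (c X).some) Φ, inferInstance,
      K850.FreePic.liftIso J (fun X => (c X).some) Φ,
      K850.FreePic.liftIso_isMonoidal J (fun X => (c X).some) Φ⟩
  · intro Ψ Ψ' _ _ τ hτ
    refine ⟨K850.FreePic.trans hP Ψ Ψ' τ, ⟨K850.FreePic.trans_isMonoidal hP Ψ Ψ' τ,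
      K850.FreePic.trans_whisker hP Ψ Ψ' τ⟩, ?_⟩
    rintro θ ⟨hθ, hw⟩
    exact K850.FreePic.trans_unique hP Ψ Ψ' τ θ hθ hw

end Groth.Agent.S15291
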