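import Groth.Statements.S15295
import Groth.Agent.DeRham.K852.Maps

set_option autoImplicit false
universe u
open DeRham

namespace Groth.Agent.S15295

open exteriorPower TensorProduct in
/-- The de Rham complex commutes with base change. Let R → A and R → S be ring maps and B = S ⊗_R A (an
R-algebra over A and S with the pushout property), and let ψ be the induced map of de Rham complexes
from the p-forms of A over R to the p-forms of B over S (additive maps sending b₀ db₁ ∧ … ∧ db_p to
g(b₀) d(g b₁) ∧ … ∧ d(g b_p), g : A → B the structure map). Then in each degree p the S-linear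
extension S ⊗_R ⋀^p Ω_{A/R} → ⋀^p Ω_{B/S}, s ⊗ x ↦ s · ψ_p(x), is bijective. (This row states the
degreewise bijectivity, with the base change written S ⊗_R − rather than − ⊗_R S; the compatibility
of ψ with the differentials, which makes this an isomorphism of complexes, holds for any square of
ring maps.) -/
theorem result (R S A B : Type u) [CommRing R] [CommRing S] [CommRing A] [CommRing B]
    [Algebra R S] [Algebra R A] [Algebra R B] [Algebra A B] [Algebra S B]
    [IsScalarTower R A B] [IsScalarTower R S B] [Algebra.IsPushout R S A B]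
    (ψ : ∀ p : ℕ, ↥(⋀[A]^p (Ω[A⁄R])) →+ ↥(⋀[B]^p (Ω[B⁄S])))
    (hψ : DeRham.IsCxMap (KaehlerDifferential.D R A) (KaehlerDifferential.D S B) (algebraMap A B) ψ)
    (p : ℕ) (Φ : S ⊗[R] ↥(⋀[A]^p (Ω[A⁄R])) →+ ↥(⋀[B]^p (Ω[B⁄S])))
    (hΦ : ∀ (s : S) (x : ↥(⋀[A]^p (Ω[A⁄R]))), Φ (s ⊗ₜ[R] x) = s • ψ p x) :
    Function.Bijective Φ := by
  have := K852.DR.smulComm S A B
  have hgen := K852.DR.kaehler_span R A
  -- `ψ` is the semilinear exterior power of the map on differentials
  have hψ' : ∀ x : ↥(⋀[A]^p (Ω[A⁄R])), ψ p x =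
      Groth.Agent.Krr.H495.ExtSemi.extS p (Groth.Agent.Dual.H366.ExtLoc.semi (B := B)
        (KaehlerDifferential.map R S A B)) x := fun x =>
    K852.DR.isCxMap_eq_extS hgen hψ _ (fun a => KaehlerDifferential.map_D R S A B a) p x
  -- the additive map on `B ⊗[A] ⋀^p`
  let e := Algebra.IsPushout.cancelBaseChange R S A B ↥(⋀[A]^p (Ω[A⁄R]))
  let Ψ : B ⊗[A] ↥(⋀[A]^p (Ω[A⁄R])) →+ ↥(⋀[B]^p (Ω[B⁄S])) := Φ.comp e.toLinearMap.toAddMonoidHom
  have hΨ : ∀ b x, Ψ (b ⊗ₜ[A] x) = b • Groth.Agent.Krr.H495.ExtSemi.extS p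
      (Groth.Agent.Dual.H366.ExtLoc.semi (B := B) (KaehlerDifferential.map R S A B)) x := by
    intro b x
    rw [← hψ']
    obtain ⟨b, rfl⟩ := (Algebra.IsPushout.equiv R S A B).surjective b
    induction b with
    | zero => rw [map_zero, TensorProduct.zero_tmul, map_zero, zero_smul]
    | add b b' hb hb' => rw [map_add, TensorProduct.add_tmul, map_add, hb, hb', add_smul]
    | tmul s a =>
      have h1 : e (Algebra.IsPushout.equiv R S A B (s ⊗ₜ[R] a) ⊗ₜ[A] x) = s ⊗ₜ[R] (a • x) := by
        rw [← LinearEquiv.eq_symm_apply, Algebra.IsPushout.cancelBaseChange_symm_tmul,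
          Algebra.IsPushout.equiv_tmul, mul_comm, ← Algebra.smul_def, TensorProduct.smul_tmul]
      change Φ (e _) = _
      rw [h1, hΦ, K852.DR.isCxMap_smul hgen hψ, Algebra.IsPushout.equiv_tmul, mul_smul,
        algebraMap_smul, algebraMap_smul]
  have hb : Function.Bijective Ψ := K852.DR.bijective_lift_extS
    (K852.DR.isBaseChange_map_kaehler R S A B) p Ψ hΨ
  have : (Φ : _ → _) = Ψ ∘ e.symm := by
    funext z
    change Φ z = Φ (e (e.symm z))
    rw [e.apply_symm_apply]
  rw [this]
  exact hb.comp e.symm.bijective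

end Groth.Agent.S15295
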