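import Groth.Statements.S15296
import Groth.Agent.DeRham.K852.Exist
import Groth.Agent.DeRham.K852.Maps

set_option autoImplicit false
universe u
open DeRham

namespace Groth.Agent.S15296

open exteriorPower in
/-- Let R → A be a ring map, π a surjective A-linear map from the Kähler differentials of A over R onto
an A-module Ω', δ = π ∘ d the induced derivation A → Ω', and d_A a de Rham differential of the
Kähler differentials. Suppose the kernel of π is generated over A by elements ω with π(ω) = 0 whose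
differential d_A(ω) is killed by the second exterior power of π. Then the exterior powers of Ω' over
A carry a de Rham differential for δ: a family of R-linear maps d from p-forms to (p+1)-forms with
d(f₀ δf₁ ∧ … ∧ δf_p) = δf₀ ∧ δf₁ ∧ … ∧ δf_p and d ∘ d = 0; moreover d is compatible with d_A through
the exterior powers of π. -/
theorem result (R A Ω' : Type u) [CommRing R] [CommRing A] [Algebra R A]
    [AddCommGroup Ω'] [Module A Ω'] [Module R Ω'] [IsScalarTower R A Ω']
    (π : Ω[A⁄R] →ₗ[A] Ω') (hπ : Function.Surjective π)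
    (dA : ∀ p : ℕ, ↥(⋀[A]^p (Ω[A⁄R])) →ₗ[R] ↥(⋀[A]^(p + 1) (Ω[A⁄R])))
    (hdA : DeRham.IsDiff (KaehlerDifferential.D R A) dA)
    (hker : LinearMap.ker π ≤ Submodule.span A {ω : Ω[A⁄R] | π ω = 0 ∧
      exteriorPower.map 2 π (dA 1 ((exteriorPower.oneEquiv A (Ω[A⁄R])).symm ω)) = 0}) :
    ∃ d : ∀ p : ℕ, ↥(⋀[A]^p Ω') →ₗ[R] ↥(⋀[A]^(p + 1) Ω'),
      DeRham.IsDiff (π.compDer (KaehlerDifferential.D R A)) d ∧
        ∀ (p : ℕ) (x : ↥(⋀[A]^p (Ω[A⁄R]))),
          d p (exteriorPower.map p π x) = exteriorPower.map (p + 1) π (dA p x) := by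
  have hgenA := K852.DR.kaehler_span R A
  set δ' : Derivation R A Ω' := π.compDer (KaehlerDifferential.D R A) with hδ'
  have hδ'a : ∀ a, δ' a = π (KaehlerDifferential.D R A a) := fun a => rfl
  have hgen' : Submodule.span A (Set.range δ') = ⊤ := by
    have h1 : Set.range δ' = π '' (Set.range (KaehlerDifferential.D R A)) := by
      rw [← Set.range_comp]; rfl
    rw [h1, ← Submodule.map_span, hgenA, Submodule.map_top, LinearMap.range_eq_top]
    exact hπ
  -- the map `ω ↦ ⋀²π (dω)`
  let θ₀ : Ω[A⁄R] →+ ↥(⋀[A]^2 Ω') :=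
    ((exteriorPower.map 2 π).toAddMonoidHom.comp (dA 1).toAddMonoidHom).comp
      (exteriorPower.oneEquiv A (Ω[A⁄R])).symm.toLinearMap.toAddMonoidHom
  have hθ₀ : ∀ ω, θ₀ ω = exteriorPower.map 2 π (dA 1 ((exteriorPower.oneEquiv A (Ω[A⁄R])).symm ω)) :=
    fun ω => rfl
  have hmapw : ∀ (p : ℕ) (m : Ω[A⁄R]) (x : ↥(⋀[A]^p (Ω[A⁄R]))),
      exteriorPower.map (p + 1) π (K852.DR.wedge1 p m x) =
        K852.DR.wedge1 p (π m) (exteriorPower.map p π x) := by
    intro p m x
    have hx : x ∈ Submodule.span A (Set.range (ιMulti A p (M := Ω[A⁄R]))) := by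
      rw [ιMulti_span]; trivial
    induction hx using Submodule.span_induction with
    | mem x hx =>
      obtain ⟨v, rfl⟩ := hx
      rw [K852.DR.wedge1_ιMulti, map_apply_ιMulti, map_apply_ιMulti, K852.DR.wedge1_ιMulti]
      congr 1
      funext i
      refine Fin.cases ?_ (fun i => ?_) i <;> simp
    | zero => simp
    | add x y _ _ hx hy => rw [map_add, map_add, hx, hy, map_add, map_add]
    | smul a x _ hx => rw [map_smul, map_smul, hx, map_smul, map_smul]
  have hone : ∀ m : Ω[A⁄R], exteriorPower.map 1 π ((exteriorPower.oneEquiv A (Ω[A⁄R])).symm m) =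
      (exteriorPower.oneEquiv A Ω').symm (π m) := by
    intro m
    rw [oneEquiv_symm_apply, oneEquiv_symm_apply, map_apply_ιMulti]
    rfl
  have hθ₀smul : ∀ (a : A) (m : Ω[A⁄R]), θ₀ (a • m) =
      K852.DR.wedge1 1 (δ' a) ((exteriorPower.oneEquiv A Ω').symm (π m)) + a • θ₀ m := by
    intro a m
    rw [hθ₀, hθ₀, map_smul, K852.DR.d_smul hgenA hdA.1, map_add, map_smul, hmapw, hone]
    rfl
  have hθ₀D : ∀ a : A, θ₀ (KaehlerDifferential.D R A a) = 0 := by
    intro a
    have h1 : (exteriorPower.oneEquiv A (Ω[A⁄R])).symm (KaehlerDifferential.D R A a) =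
        DeRham.gen (KaehlerDifferential.D R A) 1 1 (fun _ => a) := by
      rw [oneEquiv_symm_apply, DeRham.gen, one_smul]
    rw [hθ₀, h1, K852.DR.d_gen hdA.1, Derivation.map_one_eq_zero]
    simp
  -- `θ₀` kills the kernel of `π`
  have hker0 : ∀ ω, π ω = 0 → θ₀ ω = 0 := by
    intro ω hω
    have h1 : ω ∈ Submodule.span A {ω : Ω[A⁄R] | π ω = 0 ∧
      exteriorPower.map 2 π (dA 1 ((exteriorPower.oneEquiv A (Ω[A⁄R])).symm ω)) = 0} :=
      hker hω
    have h2 : π ω = 0 ∧ θ₀ ω = 0 := by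
      clear hω
      induction h1 using Submodule.span_induction with
      | mem x hx => exact hx
      | zero => simp
      | add x y _ _ hx hy => exact ⟨by rw [map_add, hx.1, hy.1, add_zero],
          by rw [map_add, hx.2, hy.2, add_zero]⟩
      | smul a x _ hx => exact ⟨by rw [map_smul, hx.1, smul_zero],
          by rw [hθ₀smul, hx.1, hx.2, map_zero, map_zero, smul_zero, add_zero]⟩
    exact h2.2
  have hwd : ∀ ω ω', π ω = π ω' → θ₀ ω = θ₀ ω' := by
    intro ω ω' h
    rw [← sub_eq_zero, ← map_sub]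
    exact hker0 _ (by rw [map_sub, h, sub_self])
  let θ : Ω' →+ ↥(⋀[A]^2 Ω') :=
    { toFun := fun m => θ₀ (Function.surjInv hπ m)
      map_zero' := by
        have : θ₀ (Function.surjInv hπ 0) = θ₀ 0 := hwd _ _ (by rw [Function.surjInv_eq hπ, map_zero])
        rw [this, map_zero]
      map_add' := fun m n => by
        rw [← map_add]
        exact hwd _ _ (by rw [map_add, Function.surjInv_eq hπ, Function.surjInv_eq hπ, Function.surjInv_eq hπ]) }
  have hθπ : ∀ ω, θ (π ω) = θ₀ ω := fun ω => hwd _ _ (Function.surjInv_eq hπ _)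
  have hθ : ∀ (a : A) (m : Ω'), θ (a • m) =
      K852.DR.wedge1 1 (δ' a) ((exteriorPower.oneEquiv A Ω').symm m) + a • θ m := by
    intro a m
    obtain ⟨ω, rfl⟩ := hπ m
    rw [← map_smul, hθπ, hθπ, hθ₀smul]
  have hrule : DeRham.IsRule δ' (K852.DR.dFam θ hθ) :=
    K852.DR.isRule_dFam θ hθ (fun a => by rw [hδ'a, hθπ, hθ₀D])
  refine ⟨K852.DR.dFam θ hθ, K852.DR.isDiff_of_isRule hgen' hrule, ?_⟩
  intro p x
  have hcx : DeRham.IsCxMap (KaehlerDifferential.D R A) δ' (RingHom.id A)
      (fun p => (exteriorPower.map p π).toAddMonoidHom) := by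
    intro p b₀ b
    change exteriorPower.map p π _ = _
    rw [DeRham.gen, DeRham.gen, map_smul, map_apply_ιMulti]
    rfl
  exact (K852.DR.isCxMap_comm hgenA hdA.1 hrule hcx p x).symm

end Groth.Agent.S15296
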