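import Groth.Statements.S15298
import Groth.Agent.Ega41.PowEval
import Mathlib.RingTheory.Smooth.AdicCompletion
import Mathlib.RingTheory.PowerSeries.Basic

set_option autoImplicit false
universe u
open CAlg

namespace Groth.Agent.S15298

section

variable {A : Type u} [CommRing A] (x : A) (hx : x ∈ nonZeroDivisors A)
    [IsAdicComplete (Ideal.span {x}) A] [Algebra (A ⧸ Ideal.span {x}) A]
    (hs : ∀ b : A ⧸ Ideal.span {x}, Ideal.Quotient.mk (Ideal.span {x}) (algebraMap _ A b) = b)

/-- evaluation at `x` -/
noncomputable def ev : PowerSeries (A ⧸ Ideal.span {x}) →ₐ[A ⧸ Ideal.span {x}] A :=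
  Groth.Agent.Ega41.PowEval.powEval (R := A ⧸ Ideal.span {x}) (σ := Unit) (Ideal.span {x}) (fun _ => x)
    (fun _ => Ideal.mem_span_singleton_self x)

theorem ev_X : ev x PowerSeries.X = x :=
  Groth.Agent.Ega41.PowEval.powEval_X (R := A ⧸ Ideal.span {x}) (σ := Unit) (Ideal.span {x}) (fun _ => x)
    (fun _ => Ideal.mem_span_singleton_self x) ()

theorem ev_C (b : A ⧸ Ideal.span {x}) : ev x (PowerSeries.C b) = algebraMap _ A b :=
  Groth.Agent.Ega41.PowEval.powEval_C (R := A ⧸ Ideal.span {x}) (σ := Unit) (Ideal.span {x}) (fun _ => x)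
    (fun _ => Ideal.mem_span_singleton_self x) b

theorem ev_C_add (b : A ⧸ Ideal.span {x}) (g : PowerSeries (A ⧸ Ideal.span {x})) :
    ev x (PowerSeries.C b + PowerSeries.X * g) = algebraMap _ A b + x * ev x g := by
  rw [map_add, map_mul, ev_X, ev_C]

/-- decomposition of a power series -/
theorem exists_decomp {B : Type*} [CommRing B] (f : PowerSeries B) : ∃ g : PowerSeries B,
    f = PowerSeries.C (PowerSeries.constantCoeff f) + PowerSeries.X * g := by
  have h : PowerSeries.X ∣ f - PowerSeries.C (PowerSeries.constantCoeff f) := by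
    rw [PowerSeries.X_dvd_iff, map_sub, PowerSeries.constantCoeff_C, sub_self]
  obtain ⟨g, hg⟩ := h
  exact ⟨g, by rw [← hg]; ring⟩

include hs in
theorem mk_ev (f : PowerSeries (A ⧸ Ideal.span {x})) :
    Ideal.Quotient.mk (Ideal.span {x}) (ev x f) = PowerSeries.constantCoeff f := by
  obtain ⟨g, hg⟩ := exists_decomp f
  conv_lhs => rw [hg]
  rw [ev_C_add, map_add, hs, map_mul, Ideal.Quotient.eq_zero_iff_mem.2 (Ideal.mem_span_singleton_self x),
    zero_mul, add_zero]

include hx hs in
theorem ev_injective : Function.Injective (ev x) := by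
  rw [injective_iff_map_eq_zero]
  have key : ∀ n : ℕ, ∀ f : PowerSeries (A ⧸ Ideal.span {x}), ev x f = 0 → PowerSeries.coeff n f = 0 := by
    intro n
    induction n with
    | zero =>
      intro f hf
      rw [PowerSeries.coeff_zero_eq_constantCoeff, ← mk_ev x hs, hf, map_zero]
    | succ n ih =>
      intro f hf
      have h0 : PowerSeries.constantCoeff f = 0 := by rw [← mk_ev x hs, hf, map_zero]
      obtain ⟨g, hg⟩ := exists_decomp f
      rw [h0, map_zero, zero_add] at hg
      rw [hg, map_mul, ev_X, mul_comm] at hf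
      have hg0 := (mul_right_mem_nonZeroDivisors_eq_zero_iff hx).1 hf
      rw [hg, PowerSeries.coeff_succ_X_mul]
      exact ih g hg0
  intro f hf
  ext n
  rw [key n f hf, map_zero]

include hs in
theorem ev_surjective : Function.Surjective (ev x) := by
  have hc : ∀ y : A, ∃ c : A, x * c = y - algebraMap (A ⧸ Ideal.span {x}) A (Ideal.Quotient.mk _ y) := by
    intro y
    have h1 : y - algebraMap (A ⧸ Ideal.span {x}) A (Ideal.Quotient.mk _ y) ∈ Ideal.span {x} := by
      rw [← Ideal.Quotient.eq_zero_iff_mem, map_sub, hs, sub_self]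
    obtain ⟨c, hc⟩ := Ideal.mem_span_singleton.1 h1
    exact ⟨c, hc.symm⟩
  choose c hc using hc
  let F : A → PowerSeries (A ⧸ Ideal.span {x}) := fun a =>
    PowerSeries.mk fun n => Ideal.Quotient.mk (Ideal.span {x}) (c^[n] a)
  have hF : ∀ a, F a = PowerSeries.C (Ideal.Quotient.mk _ a) + PowerSeries.X * F (c a) := by
    intro a
    ext n
    cases n with
    | zero => simp [F]
    | succ n =>
      rw [map_add, PowerSeries.coeff_succ_X_mul, PowerSeries.coeff_mk, PowerSeries.coeff_mk,
        PowerSeries.coeff_C, if_neg (Nat.succ_ne_zero n), zero_add, Function.iterate_succ_apply]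
  intro a
  refine ⟨F a, ?_⟩
  have key : ∀ n : ℕ, ∀ a : A, a - ev x (F a) ∈ (Ideal.span {x}) ^ n := by
    intro n
    induction n with
    | zero => intro a; simp
    | succ n ih =>
      intro a
      have h1 : a - ev x (F a) = x * (c a - ev x (F (c a))) := by
        rw [hF a, ev_C_add, mul_sub, hc]
        ring
      rw [h1, pow_succ']
      exact Ideal.mul_mem_mul (Ideal.mem_span_singleton_self x) (ih (c a))
  have h2 : a - ev x (F a) = 0 := by
    refine IsHausdorff.haus' (I := Ideal.span {x}) _ fun n => ?_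
    rw [SModEq.zero]
    simpa using key n a
  exact (sub_eq_zero.1 h2).symm

end

/-- Let k be a field, A a Noetherian k-algebra and x a non-zero-divisor of A such that A is separated
and complete for the (x)-adic topology, and assume that B = A/xA is formally smooth over k. Then A
is a power series ring over B in the variable x: there is a k-algebra isomorphism e : B[[T]] ≅ A
with e(T) = x whose reduction modulo x is the constant-coefficient map, i.e. e(f) ≡ f(0) mod x for
every power series f. -/
theorem result (k A : Type u) [Field k]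
    [CommRing A] [Algebra k A] [IsNoetherianRing A] (x : A) (hx : x ∈ nonZeroDivisors A)
    [IsAdicComplete (Ideal.span {x}) A] [Algebra.FormallySmooth k (A ⧸ Ideal.span {x})] :
    ∃ e : PowerSeries (A ⧸ Ideal.span {x}) ≃ₐ[k] A,
      e PowerSeries.X = x ∧
      ∀ f : PowerSeries (A ⧸ Ideal.span {x}),
        Ideal.Quotient.mk (Ideal.span {x}) (e f) = PowerSeries.constantCoeff f := by
  obtain ⟨s, hs⟩ := Algebra.FormallySmooth.exists_mkₐ_comp_eq_of_isAdicComplete
    (R := k) (A := A ⧸ Ideal.span {x}) (I := Ideal.span {x}) (AlgHom.id k (A ⧸ Ideal.span {x}))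
  let _ : Algebra (A ⧸ Ideal.span {x}) A := s.toRingHom.toAlgebra
  have hsa : ∀ c : A ⧸ Ideal.span {x}, algebraMap (A ⧸ Ideal.span {x}) A c = s c := fun _ => rfl
  have hs' : ∀ b : A ⧸ Ideal.span {x},
      Ideal.Quotient.mk (Ideal.span {x}) (algebraMap _ A b) = b := fun b => DFunLike.congr_fun hs b
  have : IsScalarTower k (A ⧸ Ideal.span {x}) A := IsScalarTower.of_algebraMap_eq fun c => by
    rw [hsa, s.commutes]
  refine ⟨AlgEquiv.ofBijective ((ev x).restrictScalars k) ⟨ev_injective x hx hs', ev_surjective x hs'⟩,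
    ev_X x, mk_ev x hs'⟩

end Groth.Agent.S15298
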