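import Groth.Statements.S15299
import Groth.Agent.Omega.K935.Poincare

set_option autoImplicit false
universe u
open Omega

namespace Groth.Agent.S15299

/-- Let k be a field of characteristic zero, A = k[x_1, …, x_n] and Ω = Ω_{A/k}. Let d be a k-linear
endomorphism of the exterior algebra ⋀_A Ω which agrees with the universal derivation on A, sends
⋀^p Ω into ⋀^(p+1) Ω, is a graded derivation and satisfies d ∘ d = 0 (these properties characterise
the de Rham differential). Then the de Rham complex 0 → k → A → Ω → ⋀^2 Ω → ⋯ → ⋀^n Ω → 0 is exact: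
an element of A with d a = 0 is a constant, and every d-closed element of ⋀^(p+1) Ω is d of some
element of ⋀^p Ω. -/
theorem result (k : Type u) [Field k] [CharZero k] (n : ℕ)
    (d : ExteriorAlgebra (MvPolynomial (Fin n) k) (KaehlerDifferential k (MvPolynomial (Fin n) k)) →ₗ[k]
      ExteriorAlgebra (MvPolynomial (Fin n) k) (KaehlerDifferential k (MvPolynomial (Fin n) k)))
    (h0 : ∀ a : MvPolynomial (Fin n) k,
      d (algebraMap (MvPolynomial (Fin n) k) _ a) =
        ExteriorAlgebra.ι (MvPolynomial (Fin n) k) (KaehlerDifferential.D k (MvPolynomial (Fin n) k) a))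
    (hdeg : ∀ (p : ℕ) (ω : ExteriorAlgebra (MvPolynomial (Fin n) k) (KaehlerDifferential k (MvPolynomial (Fin n) k))),
      ω ∈ ExteriorAlgebra.exteriorPower (MvPolynomial (Fin n) k) p (KaehlerDifferential k (MvPolynomial (Fin n) k)) →
        d ω ∈ ExteriorAlgebra.exteriorPower (MvPolynomial (Fin n) k) (p + 1) (KaehlerDifferential k (MvPolynomial (Fin n) k)))
    (hder : ∀ (p : ℕ) (ω η : ExteriorAlgebra (MvPolynomial (Fin n) k) (KaehlerDifferential k (MvPolynomial (Fin n) k))),
      ω ∈ ExteriorAlgebra.exteriorPower (MvPolynomial (Fin n) k) p (KaehlerDifferential k (MvPolynomial (Fin n) k)) →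
        d (ω * η) = d ω * η + (-1) ^ p * ω * d η)
    (hdd : ∀ ω, d (d ω) = 0) :
    (∀ a : MvPolynomial (Fin n) k, d (algebraMap (MvPolynomial (Fin n) k) _ a) = 0 →
        ∃ c : k, a = MvPolynomial.C c) ∧
    ∀ (p : ℕ) (ω : ExteriorAlgebra (MvPolynomial (Fin n) k) (KaehlerDifferential k (MvPolynomial (Fin n) k))),
      ω ∈ ExteriorAlgebra.exteriorPower (MvPolynomial (Fin n) k) (p + 1) (KaehlerDifferential k (MvPolynomial (Fin n) k)) →
        d ω = 0 →
          ∃ θ ∈ ExteriorAlgebra.exteriorPower (MvPolynomial (Fin n) k) p (KaehlerDifferential k (MvPolynomial (Fin n) k)),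
            d θ = ω := by
  obtain ⟨D, -, hD⟩ := Groth.Agent.S2795.result k (MvPolynomial (Fin n) k)
  have key : ∀ d'' : ExteriorAlgebra (MvPolynomial (Fin n) k) (KaehlerDifferential k (MvPolynomial (Fin n) k)) →ₗ[k]
      ExteriorAlgebra (MvPolynomial (Fin n) k) (KaehlerDifferential k (MvPolynomial (Fin n) k)),
      (∀ a : MvPolynomial (Fin n) k, d'' (algebraMap (MvPolynomial (Fin n) k) _ a) =
          ExteriorAlgebra.ι (MvPolynomial (Fin n) k) (KaehlerDifferential.D k (MvPolynomial (Fin n) k) a)) →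
      (∀ (p : ℕ) (x y : ExteriorAlgebra (MvPolynomial (Fin n) k) (KaehlerDifferential k (MvPolynomial (Fin n) k))),
          x ∈ ExteriorAlgebra.exteriorPower (MvPolynomial (Fin n) k) p (KaehlerDifferential k (MvPolynomial (Fin n) k)) →
          d'' (x * y) = d'' x * y + (-1) ^ p * x * d'' y) →
      (∀ x, d'' (d'' x) = 0) → d''.toAddMonoidHom = D := by
    intro d'' k1 k2 k3
    refine hD _ ⟨k3, k1, fun p q x y hx _ => ?_⟩
    refine (k2 p x y hx).trans ?_
    congr 1
    rw [zsmul_eq_mul, mul_assoc]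
    push_cast
    rfl
  have e1 := key d h0 hder hdd
  have e2 := key (K935.DeRhamD.dR k (MvPolynomial (Fin n) k))
    (fun a => Groth.Agent.S2795.Tw.d_algebraMap a)
    (fun p x y hx => K935.DeRhamD.dR_mul k (MvPolynomial (Fin n) k) p x y hx)
    (fun x => Groth.Agent.S2795.Tw.d_d x)
  have e3 : ∀ x, d x = Groth.Agent.S2795.Tw.d x := fun x => DFunLike.congr_fun (e1.trans e2.symm) x
  refine ⟨fun a ha => K935.Poincare.const_of_d_eq_zero k n a ((e3 _).symm.trans ha),
    fun p ω hω hdω => ?_⟩
  obtain ⟨θ, hθ, h⟩ := K935.Poincare.exact k n p ω hω ((e3 _).symm.trans hdω)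
  exact ⟨θ, hθ, (e3 θ).trans h⟩

end Groth.Agent.S15299
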