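import Groth.Statements.S15301
import Groth.Agent.FormalB.MilnorSheaf

set_option autoImplicit false
universe u
open HomAlg3

namespace Groth.Agent.S15301

theorem nonempty_equiv {A L P : Type u} [AddCommGroup A] [AddCommGroup L] [AddCommGroup P]
    (α : L →+ A) (hα : Function.Injective α) (γ : A →+ P) (h : ∀ x, γ x = 0 ↔ ∃ y, α y = x) :
    Nonempty (γ.ker ≃+ L) := by
  have hker : γ.ker = α.range := by
    ext x
    exact h x
  exact ⟨(AddEquiv.addSubgroupCongr hker).trans (AddMonoidHom.ofInjective hα).symm⟩

open CategoryTheory CategoryTheory.Limits TopologicalSpace Opposite in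
/-- For the functor of sections over an open U, let (F_n)_n be a tower of sheaves of abelian groups on a
topological space X, indexed by the natural numbers, with limit sheaf lim F_n, and let B be a basis
of opens of X such that for every V in B (a) every transition map F_{n+1}(V) → F_n(V) is surjective
and (b) every H^i(V, F_n) with i > 0 vanishes. Then for every open U and every i = j + 1 ≥ 1 there
is a short exact sequence 0 → lim¹_n H^j(U, F_n) → H^i(U, lim F_n) → lim_n H^i(U, F_n) → 0: every
family of classes in the H^i(U, F_n) compatible under the transition maps comes from a class on lim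
F_n, and the kernel of H^i(U, lim F_n) → ∏_n H^i(U, F_n) is isomorphic to lim¹ of the tower (H^j(U,
F_n))_n (existence of an isomorphism only). In particular the comparison map is injective as soon as
that lim¹ vanishes. (The published statement is for any functor T on abelian sheaves commuting with
products, such as Γ, Γ_Y, f_*; this row is the case T = Γ(U, −).) -/
theorem result {X : TopCat.{u}} (F : ℕᵒᵖ ⥤ CohTop.Ab X)
    (B : Set (Opens X)) (hB : Opens.IsBasis B)
    (hsurj : ∀ V ∈ B, ∀ n : ℕ,
      Function.Surjective ((F.map (homOfLE (Nat.le_succ n)).op).hom.app (op V)).hom)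
    (hvan : ∀ V ∈ B, ∀ (n i : ℕ), 0 < i → Subsingleton (CohTop.HU (F.obj (op n)) i V))
    (U : Opens X) (i j : ℕ) (hij : j + 1 = i) :
    (∀ ξ : ∀ n : ℕ, CohTop.HU (F.obj (op n)) i U,
      (∀ n, CohTop.HUmap (F.map (homOfLE (Nat.le_succ n)).op) i U (ξ (n + 1)) = ξ n) →
        ∃ η : CohTop.HU (limit F) i U, ∀ n, CohTop.HUmap (limit.π F (op n)) i U η = ξ n) ∧
    Nonempty ((AddMonoidHom.pi fun n : ℕ => CohTop.HUmap (limit.π F (op n)) i U).ker ≃+
      Formal2.limOne (fun n : ℕ => CohTop.HU (F.obj (op n)) j U)
        (fun n : ℕ => CohTop.HUmap (F.map (homOfLE (Nat.le_succ n)).op) j U)) := by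
  subst hij
  obtain ⟨α₀, β, hα₀, hβ, hαβ, hβx⟩ := FormalB.Milnor.milnor
    (C := Sheaf (Opens.grothendieckTopology X) AddCommGrpCat.{u})
    (FormalB.MilnorSheaf.freeOn B)
    (fun K W h hh => FormalB.MilnorSheaf.separating_of_isBasis B hB h hh)
    F (limit.cone F) (limit.isLimit F)
    (by
      rintro n _ ⟨V, hV, rfl⟩ p
      exact hvan V hV n (p + 1) (Nat.succ_pos p))
    (by
      rintro n _ ⟨V, hV, rfl⟩ z
      exact FormalB.MilnorSheaf.exists_lift_of_surjective _ V (hsurj V hV n) z)
    (FormalB.SectHom.Zsh (Opens.grothendieckTopology X) U) j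
  constructor
  · intro ξ hξ
    have hmem : (ξ : ∀ n : ℕ, CohTop.HU (F.obj (op n)) (j + 1) U) ∈
        Formal2.limZero (fun n : ℕ => CohTop.HU (F.obj (op n)) (j + 1) U)
          (fun n : ℕ => CohTop.HUmap (F.map (homOfLE (Nat.le_succ n)).op) (j + 1) U) := by
      rw [AddMonoidHom.mem_ker]
      funext n
      exact sub_eq_zero.2 (hξ n).symm
    obtain ⟨η, hη⟩ := hβ ⟨ξ, hmem⟩
    refine ⟨η, fun n => ?_⟩
    have h1 := hβx η n
    rw [hη] at h1
    exact h1.symm
  · have hex : ∀ x, β x = 0 ↔ ∃ y, α₀ y = x := fun x => by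
      have h1 : x ∈ α₀.range ↔ x ∈ β.ker := by rw [hαβ]
      exact h1.symm
    refine nonempty_equiv (L := Formal2.limOne (fun n : ℕ => CohTop.HU (F.obj (op n)) j U)
        (fun n : ℕ => CohTop.HUmap (F.map (homOfLE (Nat.le_succ n)).op) j U)) α₀ hα₀
      (AddMonoidHom.pi fun n : ℕ => CohTop.HUmap (limit.π F (op n)) (j + 1) U)
      (fun x => Iff.trans ⟨fun hx => ?_, fun hx => ?_⟩ (hex x))
    · apply Subtype.ext
      funext n
      exact (hβx x n).trans (congrFun hx n)
    · funext n
      refine (hβx x n).symm.trans ?_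
      rw [hx]
      rfl

end Groth.Agent.S15301
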