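import Groth.Statements.S15305
import Groth.Agent.Coh.K415.TowerLim

set_option autoImplicit false
universe u
open Coh

namespace Groth.Agent.S15305

open CategoryTheory CategoryTheory.Limits AlgebraicGeometry Opposite in
/-- Let X be a finite-type scheme over a field k, and let (F_n) be a tower of quasi-coherent O_X-modules
whose limit lim F_n receives an epimorphism from a countably quasi-coherent module G
(quasi-coherent, with countably generated sections over every affine open), resp. from a coherent G.
Then lim F_n is itself countably quasi-coherent, resp. coherent. -/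
theorem result (k : Type u) [Field k] (X : Scheme.{u})
    [X.Over (Spec (CommRingCat.of k))] [LocallyOfFiniteType (X ↘ Spec (CommRingCat.of k))] [CompactSpace X]
    (F : ℕᵒᵖ ⥤ X.Modules) (hF : ∀ n : ℕ, Coh.IsQCoh (F.obj (op n)))
    (G : X.Modules) (hG : Coh.IsQCoh G)
    (hGc : (∀ U : X.affineOpens, ∃ s : Set (G.val.obj (op (U : X.Opens))),
        s.Countable ∧ Submodule.span (X.ringCatSheaf.obj.obj (op (U : X.Opens))) s = ⊤))
    (φ : G ⟶ limit F) [Epi φ] :
    Coh.IsQCoh (limit F) ∧
      (∀ U : X.affineOpens, ∃ s : Set ((limit F).val.obj (op (U : X.Opens))),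
        s.Countable ∧ Submodule.span (X.ringCatSheaf.obj.obj (op (U : X.Opens))) s = ⊤) ∧
      (Coh.IsCoh G → Coh.IsCoh (limit F)) := by
  have hGc' : ∀ U : X.Opens, IsAffineOpen U → K415.TowerSheaf.CG G U := fun U hU ↦
    K415.TowerSheaf.CG_of G U (hGc ⟨U, hU⟩)
  obtain ⟨hL, -⟩ := K415.TowerSheaf.exists_stable_images k F hF G hG hGc' φ
  refine ⟨hL, fun U ↦ K415.TowerSheaf.of_CG _ _ ((hGc' U U.2).of_surjective φ ?_), fun h ↦ ?_⟩
  · exact Groth.Agent.FormalB.FormalLoc.app_surjective_of_epi φ hG hL U.2
  · exact Groth.Agent.FormalB.FormalLoc.isCoh_of_epi_mono φ (𝟙 _) h hL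

end Groth.Agent.S15305
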