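import Groth.Statements.S15306
import Groth.Agent.Coh.K415.TowerTensor

set_option autoImplicit false
universe u
open Coh

namespace Groth.Agent.S15306

open CategoryTheory CategoryTheory.Limits AlgebraicGeometry Opposite in
/-- Let X be a finite-type scheme over a field k, (F_n) a tower of countably quasi-coherent O_X-modules
(quasi-coherent, countably generated sections over affine opens), E a flat O_X-module (every stalk
flat), and α : (lim F_n) ⊗ E → lim (F_n ⊗ E) the natural comparison map. If lim F_n is countably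
quasi-coherent then α is a monomorphism; if moreover lim¹ F, the cokernel of (x_n) ↦ (x_n −
φ_n(x_{n+1})) on ∏ F_n, vanishes, then α is an isomorphism. (The published statement assumes for the
second assertion only that lim¹ F is countably quasi-coherent; this row assumes that lim¹ F
vanishes, which the weaker hypothesis implies at least over a countable field.) -/
theorem result (k : Type u) [Field k] (X : Scheme.{u})
    [X.Over (Spec (CommRingCat.of k))] [LocallyOfFiniteType (X ↘ Spec (CommRingCat.of k))] [CompactSpace X]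
    (F : ℕᵒᵖ ⥤ X.Modules) (hF : ∀ n : ℕ, Coh.IsQCoh (F.obj (op n)))
    (hFc : ∀ n : ℕ, (∀ U : X.affineOpens, ∃ s : Set ((F.obj (op n)).val.obj (op (U : X.Opens))),
          s.Countable ∧ Submodule.span (X.ringCatSheaf.obj.obj (op (U : X.Opens))) s = ⊤))
    (E : X.Modules) (hE : FlatMod.IsFlat E)
    (hL : Coh.IsQCoh (limit F)) (hLc : (∀ U : X.affineOpens, ∃ s : Set ((limit F).val.obj (op (U : X.Opens))),
        s.Countable ∧ Submodule.span (X.ringCatSheaf.obj.obj (op (U : X.Opens))) s = ⊤)) :
    Mono (limit.post F (LimSh.tensorRight E)) ∧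
      (IsZero (LimSh.limOneSh F) → IsIso (limit.post F (LimSh.tensorRight E))) := by
  obtain ⟨-, N, hN⟩ := K415.TowerSheaf.exists_stable_images k F hF (limit F) hL
    (fun U hU ↦ K415.TowerSheaf.CG_of _ U (hLc ⟨U, hU⟩)) (𝟙 _)
  have hT := K415.TowerSheaf.preservesMono_tensorRight E hE
  have hN0 := hN N le_rfl
  refine ⟨K415.TowerSheaf.mono_post F _ N, fun h ↦ ?_⟩
  have hML : K415.TowerSheaf.IsML F := by
    refine K415.TowerSheaf.isML_of_limOneSh F hF k
      (fun n U hU ↦ K415.TowerSheaf.CG_of _ U (hFc n ⟨U, hU⟩)) fun U _ ↦ ?_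
    have h0 : (𝟙 (LimSh.limOneSh F) : LimSh.limOneSh F ⟶ LimSh.limOneSh F) = 0 :=
      (IsZero.iff_id_eq_zero _).1 h
    refine ⟨fun _ ↦ 0, eq_top_iff.2 fun a _ ↦ ?_⟩
    have h1 : a = 0 := congr(($h0).app (U : X.Opens) a)
    rw [h1]
    exact zero_mem _
  refine K415.TowerSheaf.isIso_post F _ N hN fun n hn ↦ ?_
  have := hN n hn
  exact K415.TowerSheaf.exists_factor F hF hML n

end Groth.Agent.S15306
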