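import Groth.Statements.S6786
import Groth.Agent.Ega3A.MLComplex

set_option autoImplicit false
open CategoryTheory CategoryTheory.Limits
universe u
open HomAlg3

namespace Groth.Agent.S6786

open Opposite Ega3A.MLBasic Ega3A.MLComplex

/-- For a sequence `(A_i) ⟶ (B_i) ⟶ (C_i) ⟶ (D_i)` of inverse systems of abelian groups over `ℕ` that is
exact levelwise at the two middle places, if `(A_i)` is Mittag-Leffler then `lim B_i ⟶ lim C_i ⟶ lim
D_i` is exact. -/
theorem result {A B C D : ℕᵒᵖ ⥤ AddCommGrpCat.{u}} (a : A ⟶ B) (b : B ⟶ C) (c : C ⟶ D) (hB : ∀ i, (b.app i).hom.ker = (a.app i).hom.range) (hC : ∀ i, (c.app i).hom.ker = (b.app i).hom.range) (hA : (A ⋙ forget AddCommGrpCat).IsMittagLeffler) : (limMap c).hom.ker = (limMap b).hom.range := by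
  have hπc : ∀ (x : (limit C : AddCommGrpCat.{u})) (j : ℕᵒᵖ),
      (limit.π D j).hom ((limMap c).hom x) = (c.app j).hom ((limit.π C j).hom x) := fun x j =>
    congrArg (fun f => f.hom x) (limMap_π c j)
  have hπb : ∀ (x : (limit B : AddCommGrpCat.{u})) (j : ℕᵒᵖ),
      (limit.π C j).hom ((limMap b).hom x) = (b.app j).hom ((limit.π B j).hom x) := fun x j =>
    congrArg (fun f => f.hom x) (limMap_π b j)
  have hzero : ∀ (i : ℕᵒᵖ) (y : B.obj i), (c.app i).hom ((b.app i).hom y) = 0 := fun i y => by
    have : (b.app i).hom y ∈ (c.app i).hom.ker := by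
      rw [hC]; exact ⟨y, rfl⟩
    exact this
  ext x
  constructor
  · intro hx
    have hx' : (limMap c).hom x = 0 := hx
    have hxi : ∀ i, (c.app i).hom ((limit.π C i).hom x) = 0 := fun i => by
      rw [← hπc, hx', map_zero]
    -- the map to the kernel system
    let v : B ⟶ kerSys c :=
      { app := fun i => AddCommGrpCat.ofHom (AddMonoidHom.codRestrict (b.app i).hom
          (c.app i).hom.ker (fun y => hzero i y))
        naturality := fun i j f => by
          ext y
          apply Subtype.ext
          change (b.app j).hom ((B.map f).hom y) = (C.map f).hom ((b.app i).hom y)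
          exact congrArg (fun g => g.hom y) (b.naturality f) }
    obtain ⟨s, hs⟩ := exists_lift_section nat_cof a v
      (fun i y => by
        have hy : y.1 ∈ (b.app i).hom.range := by
          rw [← hC]; exact y.2
        obtain ⟨z, hz⟩ := hy
        exact ⟨z, Subtype.ext hz⟩)
      (fun i y hy => by
        have hy' : y ∈ (b.app i).hom.ker := congrArg Subtype.val hy
        rw [hB] at hy'
        exact hy')
      (fun i y => by
        apply Subtype.ext
        have : (a.app i).hom y ∈ (b.app i).hom.ker := by
          rw [hB]; exact ⟨y, rfl⟩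
        exact this)
      hA ⟨fun i => ⟨(limit.π C i).hom x, hxi i⟩, fun {i j} f => by
        apply Subtype.ext
        change (C.map f).hom ((limit.π C i).hom x) = (limit.π C j).hom x
        exact congrArg (fun g => g.hom x) (limit.w C f)⟩
    obtain ⟨y, hy⟩ := exists_of_section s
    refine ⟨y, ?_⟩
    apply Concrete.limit_ext
    intro j
    refine (hπb y j).trans ?_
    rw [hy j]
    exact congrArg Subtype.val (hs j)
  · rintro ⟨y, rfl⟩
    change (limMap c).hom ((limMap b).hom y) = 0
    apply Concrete.limit_ext
    intro j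
    refine (hπc _ j).trans ?_
    rw [hπb, hzero]
    exact (map_zero _).symm

end Groth.Agent.S6786
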