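import Groth.Statements.S15307
import Groth.Agent.HomAlg3.K357.InjTower
import Groth.Agent.S6786

set_option autoImplicit false
universe u
open HomAlg3

namespace Groth.Agent.S15307

open CategoryTheory CategoryTheory.Limits in
/-- For abelian groups, for an inverse system (A_n) of abelian groups indexed by the natural numbers,
the right derived functors lim^(i) A_n of the inverse limit vanish for every i ≥ 2. (The two
instance hypotheses, enough injectives in the category of towers of abelian groups and additivity of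
the limit functor, always hold. The published statement is made in an axiomatic setting that also
covers quasi-coherent sheaves; this row is the case of abelian groups.) -/
theorem result
    [EnoughInjectives (ℕᵒᵖ ⥤ AddCommGrpCat.{u})]
    [(lim : (ℕᵒᵖ ⥤ AddCommGrpCat.{u}) ⥤ AddCommGrpCat.{u}).Additive]
    (A : ℕᵒᵖ ⥤ AddCommGrpCat.{u}) (i : ℕ) (hi : 2 ≤ i) :
    IsZero (((lim : (ℕᵒᵖ ⥤ AddCommGrpCat.{u}) ⥤ AddCommGrpCat.{u}).rightDerived i).obj A) := by
  obtain ⟨j, rfl⟩ : ∃ j, i = j + 2 := ⟨i - 2, by omega⟩
  let I : InjectiveResolution A := injectiveResolution A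
  refine IsZero.of_iso ?_ (I.isoRightDerivedObj
    (lim : (ℕᵒᵖ ⥤ AddCommGrpCat.{u}) ⥤ AddCommGrpCat.{u}) (j + 2))
  -- exactness of the resolution at `k + 1`, evaluated
  have hex : ∀ (k : ℕ) (n : ℕᵒᵖ),
      ((I.cocomplex.d (k + 1) (k + 2)).app n).hom.ker = ((I.cocomplex.d k (k + 1)).app n).hom.range := by
    intro k n
    have h1 : (I.cocomplex.sc' k (k + 1) (k + 2)).Exact :=
      (HomologicalComplex.exactAt_iff' _ _ _ _ (by simp) (by simp)).1 (I.cocomplex_exactAt_succ k)
    have h2 := h1.map ((evaluation ℕᵒᵖ AddCommGrpCat.{u}).obj n)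
    rw [ShortComplex.ab_exact_iff_range_eq_ker] at h2
    exact h2.symm
  have hlim := Groth.Agent.S6786.result (I.cocomplex.d j (j + 1)) (I.cocomplex.d (j + 1) (j + 2))
    (I.cocomplex.d (j + 2) (j + 3)) (hex j) (hex (j + 1))
    (K357.InjTower.isMittagLeffler_of_injective _)
  refine (HomologicalComplex.exactAt_iff_isZero_homology _ _).1 ?_
  rw [HomologicalComplex.exactAt_iff' _ (j + 1) (j + 2) (j + 3) (by simp) (by simp)]
  rw [ShortComplex.ab_exact_iff_range_eq_ker]
  exact hlim.symm

end Groth.Agent.S15307
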