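import Groth.Statements.S15310
import Groth.Agent.DeRhamSh.K853.HdRBasic
import Groth.Agent.DeRhamSh.K853.Terms
import Groth.Agent.Fga.EulerLEAdd

set_option autoImplicit false
universe u
open DeRhamSh

namespace Groth.Agent.S15310

open CategoryTheory AlgebraicGeometry TopologicalSpace in
/-- Let k be a field of characteristic zero and Y a smooth k-scheme of finite type of dimension at most
n. Then the algebraic de Rham cohomology H^q_dR(Y/k), the hypercohomology of the de Rham complex of
Y over k, vanishes for every q > 2n. (The published statement covers every Y of finite type over k,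
possibly singular, with de Rham cohomology defined through the completion of a smooth embedding, and
also de Rham homology, and states the vanishing for q < 0 as well; this row is the smooth case for
cohomology in degrees above 2n, for any de Rham complex of Y over k.) -/
theorem result (k : Type u) [Field k] [CharZero k] (X : Scheme.{u})
    (f : X ⟶ Spec (CommRingCat.of k)) [QuasiCompact f] [QuasiSeparated f] [Smooth f]
    (n : ℕ) (hn : topologicalKrullDim ↥X ≤ n)
    (D : DeRhamSh.OmegaCx f)
    [HasDerivedCategory.{u} (Sheaf (Opens.grothendieckTopology ↥X) AddCommGrpCat.{u})]
    (q : ℤ) (hq : 2 * (n : ℤ) < q) :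
    Subsingleton (DeRhamSh.HdR D q) := by
  have : IsNoetherian X := K853.Terms.isNoetherian_of_field f
  refine K853.HdRBasic.hdR_subsingleton D q fun p j hpj => ?_
  by_cases hp : n < p
  · exact K853.Terms.subsingleton_HH_of_isZero (K853.Terms.isZero_term f n hn D p hp) j
  · exact Groth.Agent.Fga.EulerLEAdd.subsingleton_HH X n hn (D.term p) j (by omega)

end Groth.Agent.S15310
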