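import Groth.Statements.S16741
import Groth.Agent.DelIll.K527.Row16741
import Groth.Agent.S19853

set_option autoImplicit false
universe u
open DelIll

attribute [-instance] Groth.Agent.Ega3B.LeraySheaf.hasSheafifySh

namespace Groth.Agent.S16741

open CategoryTheory AlgebraicGeometry TopologicalSpace in
/-- The case without boundary divisor, over a base field of finite degree over ℚ. Let K be a number
field and X a smooth proper K-scheme. For every de Rham complex of X over K, every choice of a-th
exterior powers Ω^a of the sheaf of differentials and every l ≥ 0, the de Rham cohomology group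
H^l_dR(X/K) (hypercohomology of the de Rham complex) is additively isomorphic to K^r where r =
Σ_{a+b=l} dim_K H^b(X, Ω^a); that is, the Hodge-to-de Rham spectral sequence degenerates at E_1.
(The published statement is over any field of characteristic zero and allows a normal crossing
divisor A + B; the additive form used here pins the integer r only when K has finite degree over ℚ,
so K is taken to be a number field.) -/
theorem result
    (K : Type u) [Field K] [NumberField K]
    (X : Scheme.{u}) [X.Over (Spec (CommRingCat.of K))] [IsProper (X ↘ Spec (CommRingCat.of K))]
    [Smooth (X ↘ Spec (CommRingCat.of K))] [QuasiSeparated (X ↘ Spec (CommRingCat.of K))]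
    (D : DeRhamSh.OmegaCx (X ↘ Spec (CommRingCat.of K)))
    [HasDerivedCategory.{u} (Sheaf (Opens.grothendieckTopology ↥X) AddCommGrpCat.{u})]
    (Om : ℕ → X.Modules) (hOm : ∀ a, ExtPow.IsExtPow a (Omega.sheaf (X ↘ Spec (CommRingCat.of K))) (Om a))
    (l : ℕ) :
    Nonempty (DeRhamSh.HdR D (l : ℤ) ≃+
      (Fin (∑ a ∈ Finset.range (l + 1), Module.finrank K (Coh.HH X (Om a) (l - a))) → K)) :=
  K527.Row16741.exists_addEquiv K X D Om hOm l fun h => Groth.Agent.S19853.result K X D h l

end Groth.Agent.S16741
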