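import Groth.Statements.S15312
import Groth.Agent.S16741
import Groth.Agent.DeRhamSh.K422.HodgeSym

set_option autoImplicit false
universe u
open DeRhamSh

namespace Groth.Agent.S15312

open CategoryTheory AlgebraicGeometry TopologicalSpace in
/-- Let k be a number field and Y a proper k-scheme which is smooth of relative dimension n over k. Then
for every q the algebraic de Rham cohomology groups H^q_dR(Y/k) and H^(2n−q)_dR(Y/k),
hypercohomology groups of the de Rham complex of Y over k, are additively isomorphic. (The published
statement is a natural isomorphism of H^q(Y) with the k-dual of H^(2n−q)(Y) for Y smooth and proper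
of dimension n over any field of characteristic zero; this row keeps only its consequence, through
the finite-dimensionality of these groups, that the two groups are isomorphic, stated additively
over a field of finite degree over ℚ, where an additive isomorphism amounts to equality of
dimensions over k; Y is taken equidimensional of dimension n, as the duality requires. Existence of
an isomorphism only.) -/
theorem result (k : Type u) [Field k] [NumberField k] (X : Scheme.{u})
    (f : X ⟶ Spec (CommRingCat.of k)) [IsProper f] (n : ℕ) [SmoothOfRelativeDimension n f]
    (D : DeRhamSh.OmegaCx f)
    [HasDerivedCategory.{u} (Sheaf (Opens.grothendieckTopology ↥X) AddCommGrpCat.{u})]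
    (q : ℤ) :
    Nonempty (DeRhamSh.HdR D q ≃+ DeRhamSh.HdR D (2 * (n : ℤ) - q)) := by
  let _ : X.Over (Spec (CommRingCat.of k)) := ⟨f⟩
  have i1 : IsProper (X ↘ Spec (CommRingCat.of k)) := inferInstanceAs (IsProper f)
  have i2 : SmoothOfRelativeDimension n (X ↘ Spec (CommRingCat.of k)) :=
    inferInstanceAs (SmoothOfRelativeDimension n f)
  have i3 : Smooth (X ↘ Spec (CommRingCat.of k)) := SmoothOfRelativeDimension.smooth n _
  exact K422.HodgeSym.main k X f n D
    (fun l => Groth.Agent.S16741.result k X D D.term (fun a => D.isExtPow a) l) q

end Groth.Agent.S15312
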