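import Groth.Statements.S15313
import Groth.Agent.DeRhamSh.K576.Finite

set_option autoImplicit false
universe u
open DeRhamSh

namespace Groth.Agent.S15313

open CategoryTheory AlgebraicGeometry TopologicalSpace in
/-- Let k be a number field and Y a smooth k-scheme of finite type. Then every algebraic de Rham
cohomology group H^q_dR(Y/k), the hypercohomology of the de Rham complex of Y over k, is additively
isomorphic to k^r for some natural number r. (The published statement asserts that de Rham
cohomology and homology are finite-dimensional k-vector spaces for every embeddable scheme of finite
type over any field k of characteristic zero, the cohomology of a singular scheme being defined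
through the completion of a smooth embedding, and its proof uses resolution of singularities; this
row is the case of a smooth scheme, in additive form and over a field of finite degree over ℚ, where
the additive statement is equivalent to finite-dimensionality over k.) -/
theorem result (k : Type u) [Field k] [NumberField k] (X : Scheme.{u})
    (f : X ⟶ Spec (CommRingCat.of k)) [QuasiCompact f] [QuasiSeparated f] [Smooth f]
    (D : DeRhamSh.OmegaCx f)
    [HasDerivedCategory.{u} (Sheaf (Opens.grothendieckTopology ↥X) AddCommGrpCat.{u})]
    (q : ℤ) :
    ∃ r : ℕ, Nonempty (DeRhamSh.HdR D q ≃+ (Fin r → k)) := by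
  have := K576.DRFinite.fin_top f D (K853.CxAff.termwiseLinear f D) ⊤ q
  let b := Module.finBasis k (KLinDR.HdRU (Coh.toGlobal f) D (K853.CxAff.termwiseLinear f D) q ⊤)
  exact ⟨_, ⟨(KLinDR.toHdRU D (K853.CxAff.termwiseLinear f D) q ⊤).symm.trans b.equivFun.toAddEquiv⟩⟩

end Groth.Agent.S15313
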