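import Groth.Statements.S15314
import Groth.Agent.DeRhamSh.K853.Lef.Final

set_option autoImplicit false
universe u
open DeRhamSh

attribute [-instance] CategoryTheory.catToReflQuiver

namespace Groth.Agent.S15314

open CategoryTheory AlgebraicGeometry TopologicalSpace in
/-- Let k be a number field, X a proper k-scheme smooth of relative dimension n, Y a smooth closed
subscheme of X, and suppose that the open complement U = X − Y has cohomological dimension less than
r, in the sense that H^q(U, F) vanishes for every quasi-coherent O_U-module F and every q ≥ r. Then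
the algebraic de Rham cohomology groups H^i_dR(X/k) and H^i_dR(Y/k) are additively isomorphic for
every i < n − r, and H^(n−r)_dR(X/k) admits an injective additive map to H^(n−r)_dR(Y/k). (The
published statement is that the natural restriction map H^i(X) → H^i(Y) is an isomorphism in degrees
i < n − r (the range its proof gives; the range as published, i ≤ n − r, would make the injectivity
clause redundant and fails for a smooth curve of bidegree (2, 2) in P^1 × P^1, where n = 2, r = 1
and H^1 of the surface vanishes while H^1 of the curve does not) and injective for i = n − r, for X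
proper of dimension n over any field of characteristic zero and Y any closed subscheme with X − Y
smooth of cohomological dimension less than r, the cohomology of a singular Y being defined through
a completion; this row takes X smooth of pure dimension n and Y smooth, and keeps only the
consequences for the groups, stated additively over a field of finite degree over ℚ, where they
amount to equality, resp. inequality, of dimensions over k. Existence of the maps only.) -/
theorem result (k : Type u) [Field k] [NumberField k] (X Y : Scheme.{u})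
    (g : X ⟶ Spec (CommRingCat.of k)) [IsProper g] (n : ℕ) [SmoothOfRelativeDimension n g]
    (ι : Y ⟶ X) [IsClosedImmersion ι] [Smooth (ι ≫ g)]
    (U : X.Opens) (hU : (U : Set ↥X) = (Set.range ι.base)ᶜ) (r : ℕ)
    (hcd : ∀ (F : (↑U : Scheme.{u}).Modules), Coh.IsQCoh F → ∀ q : ℕ, r ≤ q → Subsingleton (Coh.HH ↑U F q))
    (DX : DeRhamSh.OmegaCx g) (DY : DeRhamSh.OmegaCx (ι ≫ g))
    [HasDerivedCategory.{u} (Sheaf (Opens.grothendieckTopology ↥X) AddCommGrpCat.{u})]
    [HasDerivedCategory.{u} (Sheaf (Opens.grothendieckTopology ↥Y) AddCommGrpCat.{u})] :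
    (∀ i : ℤ, i + r < n → Nonempty (DeRhamSh.HdR DX i ≃+ DeRhamSh.HdR DY i)) ∧
      ∃ φ : DeRhamSh.HdR DX ((n : ℤ) - r) →+ DeRhamSh.HdR DY ((n : ℤ) - r), Function.Injective φ := by
  have hX := K853.CxAff.termwiseLinear g DX
  have hY := K853.CxAff.termwiseLinear (ι ≫ g) DY
  refine ⟨fun i hi => ?_, ?_⟩
  · obtain ⟨φ, hφ, hφ'⟩ := K853.Lef.Final.exists_restr_int k X Y g n ι U hU r hcd DX DY hX hY i hi.le
    exact ⟨((KLinDR.toHdRU DX hX i ⊤).symm.trans
      (LinearEquiv.ofBijective φ ⟨hφ, hφ' hi⟩).toAddEquiv).trans (KLinDR.toHdRU DY hY i ⊤)⟩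
  · obtain ⟨φ, hφ, -⟩ := K853.Lef.Final.exists_restr_int k X Y g n ι U hU r hcd DX DY hX hY ((n : ℤ) - r)
      (by omega)
    exact ⟨((KLinDR.toHdRU DY hY ((n : ℤ) - r) ⊤).toAddMonoidHom.comp
      φ.toAddMonoidHom).comp (KLinDR.toHdRU DX hX ((n : ℤ) - r) ⊤).symm.toAddMonoidHom,
      (KLinDR.toHdRU DY hY ((n : ℤ) - r) ⊤).injective.comp
        (hφ.comp (KLinDR.toHdRU DX hX ((n : ℤ) - r) ⊤).symm.injective)⟩

end Groth.Agent.S15314
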