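import Groth.Statements.S15315
import Groth.Agent.ArLef.K855.Len

set_option autoImplicit false
universe u
open ArLef

namespace Groth.Agent.S15315

/-- For a Noetherian commutative ring A, elements a, b with a a non-zero-divisor on A/(b), and an ideal
I, one has length(A/(aI + bA)) = length(A/(a, b)) + length(A/(I + bA)) as extended natural numbers;
in particular when two of the three quotients have finite length so does the third. -/
theorem result (A : Type u) [CommRing A] [IsNoetherianRing A] (a b : A) (I : Ideal A)
    (ha : IsSMulRegular (A ⧸ Ideal.span ({b} : Set A)) a) :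
    Module.length A (A ⧸ (Ideal.span {a} * I ⊔ Ideal.span {b})) =
      Module.length A (A ⧸ Ideal.span ({a, b} : Set A)) + Module.length A (A ⧸ (I ⊔ Ideal.span {b})) := by
  have hreg : ∀ y : A, a * y ∈ Ideal.span ({b} : Set A) → y ∈ Ideal.span ({b} : Set A) := by
    intro y hy
    have h0 : a • (Ideal.Quotient.mk (Ideal.span ({b} : Set A)) y) =
        a • (Ideal.Quotient.mk (Ideal.span ({b} : Set A)) 0) := by
      rw [map_zero, smul_zero]
      change Ideal.Quotient.mk (Ideal.span ({b} : Set A)) (a * y) = 0
      exact Ideal.Quotient.eq_zero_iff_mem.2 hy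
    have := ha h0
    rw [map_zero] at this
    exact Ideal.Quotient.eq_zero_iff_mem.1 this
  have key := K855.Len.length_colon (Ideal.span {a} * I ⊔ Ideal.span {b}) (I ⊔ Ideal.span {b}) a ?_
  · rw [key, add_comm]
    congr 1
    apply K855.Len.length_congr
    apply le_antisymm
    · refine sup_le (sup_le ?_ ?_) ?_
      · refine le_trans Ideal.mul_le_left ?_
        rw [Ideal.span_singleton_le_iff_mem]
        exact Ideal.subset_span (by simp)
      · rw [Ideal.span_singleton_le_iff_mem]
        exact Ideal.subset_span (by simp)
      · rw [Ideal.span_singleton_le_iff_mem]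
        exact Ideal.subset_span (by simp)
    · rw [Ideal.span_le]
      rintro z (rfl | rfl)
      · exact Ideal.mem_sup_right (Ideal.mem_span_singleton_self _)
      · exact Ideal.mem_sup_left (Ideal.mem_sup_right (Ideal.mem_span_singleton_self _))
  · intro y
    constructor
    · intro hy
      obtain ⟨i, hi, c, hc, rfl⟩ := Submodule.mem_sup.1 hy
      rw [mul_add]
      exact Submodule.add_mem_sup (Ideal.mul_mem_mul (Ideal.mem_span_singleton_self _) hi)
        (Ideal.mul_mem_left _ _ hc)
    · intro hy
      obtain ⟨p, hp, c, hc, hpc⟩ := Submodule.mem_sup.1 hy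
      obtain ⟨i, hi, rfl⟩ := Ideal.mem_span_singleton_mul.1 hp
      have : a * (y - i) ∈ Ideal.span ({b} : Set A) := by
        have : a * (y - i) = c := by linear_combination -hpc
        rw [this]; exact hc
      have h3 := hreg _ this
      have h4 : y = i + (y - i) := by ring
      rw [h4]
      exact Submodule.add_mem_sup hi h3

end Groth.Agent.S15315
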