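import Groth.Statements.S15317
import Groth.Agent.ArLef.K855.DVR

set_option autoImplicit false
universe u
open ArLef ArLef.NodeAlg

namespace Groth.Agent.S15317

/-- Let B be a discrete valuation ring with uniformizer π, N = B[[t, e]]/(te - π), and σ a non-trivial
B-algebra automorphism of N stabilizing both branches of the closed fibre (σ(t) associated to t,
σ(e) associated to e). Then the fixed-point ideal of σ, generated by all σ(r) - r, is g·(t, e) for a
non-zero g: the divisorial part of the fixed locus is cut out by g and its residual part is the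
reduced closed point, of multiplicity one. (Stated in the complete local ring, where the published
argument takes place; the published setting has B complete with algebraically closed residue field.) -/
theorem result (B : Type u) [CommRing B] [IsDomain B] [IsDiscreteValuationRing B] (π : B) (hπ : Irreducible π)
    (σ : ArLef.NodeAlg B π ≃ₐ[B] ArLef.NodeAlg B π) (hσ : σ ≠ AlgEquiv.refl)
    (ht : Associated (σ (ArLef.NodeAlg.t π)) (ArLef.NodeAlg.t π))
    (he : Associated (σ (ArLef.NodeAlg.e π)) (ArLef.NodeAlg.e π)) :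
    ∃ g : ArLef.NodeAlg B π, g ≠ 0 ∧
      ArLef.fixIdeal σ = Ideal.span {g} * Ideal.span ({ArLef.NodeAlg.t π, ArLef.NodeAlg.e π} : Set (ArLef.NodeAlg B π)) := by
  have hN := K855.DVR.isNode B π hπ
  have := hN.noeth
  have := hN.dom
  have := hN.loc
  obtain ⟨α, hα⟩ := ht.symm
  obtain ⟨β, hβ⟩ := he.symm
  have hte : ArLef.NodeAlg.t π * ArLef.NodeAlg.e π ≠ 0 := mul_ne_zero hN.prime_t.ne_zero hN.prime_e.ne_zero
  have hαβ : (α : ArLef.NodeAlg B π) * β = 1 := by
    have h1 : σ (ArLef.NodeAlg.t π * ArLef.NodeAlg.e π) = ArLef.NodeAlg.t π * ArLef.NodeAlg.e π := by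
      rw [K855.Node.t_mul_e]
      exact σ.commutes π
    rw [map_mul, ← hα, ← hβ] at h1
    apply mul_left_cancel₀ hte
    linear_combination h1
  have hfix : ArLef.fixIdeal σ = Ideal.span {(α : ArLef.NodeAlg B π) - 1} *
      Ideal.span ({ArLef.NodeAlg.t π, ArLef.NodeAlg.e π} : Set (ArLef.NodeAlg B π)) := by
    apply K855.Abs.fixIdeal_eq _ (σ : ArLef.NodeAlg B π →+* ArLef.NodeAlg B π) (ArLef.NodeAlg.t π) (ArLef.NodeAlg.e π)
      hN.t_mem hN.e_mem (Set.range (algebraMap B _)) (K855.Node.decomp π)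
    · rintro _ ⟨b, rfl⟩
      have : (σ : ArLef.NodeAlg B π →+* ArLef.NodeAlg B π) (algebraMap B _ b) = algebraMap B _ b := σ.commutes b
      rw [this, sub_self]
      exact zero_mem _
    · change σ _ - _ ∈ _
      rw [Ideal.mem_span_singleton_mul]
      exact ⟨_, Ideal.subset_span (Set.mem_insert _ _), by rw [← hα]; ring⟩
    · change σ _ - _ ∈ _
      rw [Ideal.mem_span_singleton_mul]
      refine ⟨-β * ArLef.NodeAlg.e π, Ideal.mul_mem_left _ _ (Ideal.subset_span (by simp)), ?_⟩
      rw [← hβ]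
      linear_combination (-ArLef.NodeAlg.e π) * hαβ
    · rw [Ideal.span_singleton_mul_le_iff]
      intro z hz
      obtain ⟨x, y, rfl⟩ := Ideal.mem_span_pair.1 hz
      have h1 : σ (ArLef.NodeAlg.t π) - ArLef.NodeAlg.t π ∈ ArLef.fixIdeal σ :=
        K855.Abs.sub_mem_fixIdeal σ _
      have h2 : σ (ArLef.NodeAlg.e π) - ArLef.NodeAlg.e π ∈ ArLef.fixIdeal σ :=
        K855.Abs.sub_mem_fixIdeal σ _
      have h3 : ((α : ArLef.NodeAlg B π) - 1) * (x * ArLef.NodeAlg.t π + y * ArLef.NodeAlg.e π) =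
          x * (σ (ArLef.NodeAlg.t π) - ArLef.NodeAlg.t π) +
            (-y * α) * (σ (ArLef.NodeAlg.e π) - ArLef.NodeAlg.e π) := by
        rw [← hα, ← hβ]
        linear_combination (y * ArLef.NodeAlg.e π) * hαβ
      rw [h3]
      exact add_mem (Ideal.mul_mem_left _ _ h1) (Ideal.mul_mem_left _ _ h2)
  refine ⟨(α : ArLef.NodeAlg B π) - 1, ?_, hfix⟩
  intro h0
  apply hσ
  ext r
  have h1 := K855.Abs.sub_mem_fixIdeal σ r
  rw [hfix, h0, Ideal.span_singleton_eq_bot.2 rfl, Ideal.bot_mul, Ideal.mem_bot] at h1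
  rw [sub_eq_zero.1 h1]
  rfl

end Groth.Agent.S15317
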