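import Groth.Statements.S15318
import Groth.Agent.ArLef.K855.DVR

set_option autoImplicit false
universe u
open ArLef ArLef.NodeAlg

namespace Groth.Agent.S15318

/-- Let B be a discrete valuation ring with uniformizer π, N = B[[t, e]]/(te - π), and σ a B-algebra
automorphism of N switching the two branches of the closed fibre (σ(t) associated to e, σ(e)
associated to t). Then the fixed-point ideal of σ is principal, generated by an element h of order
one (h is not in (t, e)²), and π is a non-zero-divisor modulo h: the fixed locus is a horizontal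
regular divisor through the point with empty residual part. (Stated in the complete local ring,
where the published argument takes place; the published setting has B complete with algebraically
closed residue field.) -/
theorem result (B : Type u) [CommRing B] [IsDomain B] [IsDiscreteValuationRing B] (π : B) (hπ : Irreducible π)
    (σ : ArLef.NodeAlg B π ≃ₐ[B] ArLef.NodeAlg B π)
    (ht : Associated (σ (ArLef.NodeAlg.t π)) (ArLef.NodeAlg.e π))
    (he : Associated (σ (ArLef.NodeAlg.e π)) (ArLef.NodeAlg.t π)) :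
    ∃ h : ArLef.NodeAlg B π, ArLef.fixIdeal σ = Ideal.span {h} ∧
      h ∉ (Ideal.span ({ArLef.NodeAlg.t π, ArLef.NodeAlg.e π} : Set (ArLef.NodeAlg B π))) ^ 2 ∧
      IsSMulRegular (ArLef.NodeAlg B π ⧸ Ideal.span ({h} : Set (ArLef.NodeAlg B π))) π := by
  have hN := K855.DVR.isNode B π hπ
  have := hN.noeth
  have := hN.dom
  have := hN.loc
  obtain ⟨α, hα⟩ := ht.symm
  obtain ⟨β, hβ⟩ := he.symm
  have hte : ArLef.NodeAlg.t π * ArLef.NodeAlg.e π ≠ 0 := mul_ne_zero hN.prime_t.ne_zero hN.prime_e.ne_zero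
  have hαβ : (α : ArLef.NodeAlg B π) * β = 1 := by
    have h1 : σ (ArLef.NodeAlg.t π * ArLef.NodeAlg.e π) = ArLef.NodeAlg.t π * ArLef.NodeAlg.e π := by
      rw [K855.Node.t_mul_e]
      exact σ.commutes π
    rw [map_mul, ← hα, ← hβ] at h1
    apply mul_left_cancel₀ hte
    linear_combination h1
  have hth : ¬ (ArLef.NodeAlg.t π ∣ ArLef.NodeAlg.e π * α - ArLef.NodeAlg.t π) := by
    intro h
    have h2 : ArLef.NodeAlg.t π ∣ ArLef.NodeAlg.e π * α := by
      have := dvd_add h (dvd_refl _)
      rwa [sub_add_cancel] at this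
    rw [Units.dvd_mul_right] at h2
    exact hN.not_te h2
  have heh : ¬ (ArLef.NodeAlg.e π ∣ ArLef.NodeAlg.e π * α - ArLef.NodeAlg.t π) := by
    intro h
    have h2 : ArLef.NodeAlg.e π ∣ ArLef.NodeAlg.t π := by
      have := dvd_sub (Dvd.intro _ rfl : ArLef.NodeAlg.e π ∣ ArLef.NodeAlg.e π * α) h
      rwa [sub_sub_cancel] at this
    exact hN.not_et h2
  refine ⟨ArLef.NodeAlg.e π * α - ArLef.NodeAlg.t π, ?_, ?_, ?_⟩
  · apply K855.Abs.fixIdeal_eq _ (σ : ArLef.NodeAlg B π →+* ArLef.NodeAlg B π) (ArLef.NodeAlg.t π) (ArLef.NodeAlg.e π)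
      hN.t_mem hN.e_mem (Set.range (algebraMap B _)) (K855.Node.decomp π)
    · rintro _ ⟨b, rfl⟩
      have : (σ : ArLef.NodeAlg B π →+* ArLef.NodeAlg B π) (algebraMap B _ b) = algebraMap B _ b := σ.commutes b
      rw [this, sub_self]
      exact zero_mem _
    · change σ _ - _ ∈ _
      rw [← hα]
      exact Ideal.mem_span_singleton_self _
    · change σ _ - _ ∈ _
      rw [Ideal.mem_span_singleton']
      exact ⟨-β, by rw [← hβ]; linear_combination (-ArLef.NodeAlg.e π) * hαβ⟩
    · rw [Ideal.span_singleton_le_iff_mem, hα]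
      exact K855.Abs.sub_mem_fixIdeal σ _
  · intro h
    rw [pow_two, Ideal.span_pair_mul_span_pair] at h
    have h1 : ∃ x y z : ArLef.NodeAlg B π, ArLef.NodeAlg.e π * α - ArLef.NodeAlg.t π =
        x * (ArLef.NodeAlg.t π * ArLef.NodeAlg.t π) + y * (ArLef.NodeAlg.t π * ArLef.NodeAlg.e π) +
          z * (ArLef.NodeAlg.e π * ArLef.NodeAlg.e π) := by
      rw [Ideal.mem_span_insert] at h
      obtain ⟨x, w, hw, hx⟩ := h
      rw [Ideal.mem_span_insert] at hw
      obtain ⟨y, w', hw', hy⟩ := hw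
      rw [Ideal.mem_span_pair] at hw'
      obtain ⟨z, v, hv⟩ := hw'
      refine ⟨x, y + z, v, ?_⟩
      rw [hx, hy, ← hv]; ring
    obtain ⟨x, y, z, hxyz⟩ := h1
    have h2 : ArLef.NodeAlg.t π ∣ ArLef.NodeAlg.e π * ((α : ArLef.NodeAlg B π) - z * ArLef.NodeAlg.e π) :=
      ⟨1 + x * ArLef.NodeAlg.t π + y * ArLef.NodeAlg.e π, by linear_combination hxyz⟩
    rcases hN.prime_t.dvd_or_dvd h2 with h3 | ⟨c, hc⟩
    · exact hN.not_te h3
    · have h4 : (α : ArLef.NodeAlg B π) ∈ IsLocalRing.maximalIdeal (ArLef.NodeAlg B π) := by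
        have : (α : ArLef.NodeAlg B π) = ArLef.NodeAlg.t π * c + z * ArLef.NodeAlg.e π := by
          linear_combination hc
        rw [this]
        exact add_mem (Ideal.mul_mem_right _ _ hN.t_mem) (Ideal.mul_mem_left _ _ hN.e_mem)
      exact (IsLocalRing.mem_maximalIdeal _).1 h4 (Units.isUnit α)
  · have key : ∀ z : ArLef.NodeAlg B π, algebraMap B _ π * z ∈
        Ideal.span {ArLef.NodeAlg.e π * α - ArLef.NodeAlg.t π} →
        z ∈ Ideal.span {ArLef.NodeAlg.e π * α - ArLef.NodeAlg.t π} := by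
      intro z hz
      rw [← K855.Node.t_mul_e, mul_assoc] at hz
      exact K855.Abs.regular_of_prime hN.prime_e heh _ (K855.Abs.regular_of_prime hN.prime_t hth _ hz)
    intro x y hxy
    obtain ⟨x, rfl⟩ := Ideal.Quotient.mk_surjective x
    obtain ⟨y, rfl⟩ := Ideal.Quotient.mk_surjective y
    have h1 : Ideal.Quotient.mk (Ideal.span {ArLef.NodeAlg.e π * α - ArLef.NodeAlg.t π})
        (algebraMap B _ π * x) = Ideal.Quotient.mk _ (algebraMap B _ π * y) := by
      rw [← Algebra.smul_def, ← Algebra.smul_def]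
      exact hxy
    rw [Ideal.Quotient.eq, ← mul_sub] at h1
    exact Ideal.Quotient.eq.2 (key _ h1)

end Groth.Agent.S15318
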