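import Groth.Statements.S15319
import Groth.Agent.ArLef.K855.DVR

set_option autoImplicit false
universe u
open ArLef ArLef.NodeAlg

namespace Groth.Agent.S15319

/-- Let B be a discrete valuation ring with uniformizer π, N = B[[t, e]]/(te - π) the complete local
ring of a semi-stable arithmetic surface over B at a singular point of the closed fibre, and σ a
ring automorphism of N sending π to π + γ π^j with γ a unit of B and j ≥ 1 (σ lies over an
automorphism τ of B with v(τ(π) - π) = j). Then the fixed-point ideal of σ is not contained in (π^j)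
= (t^j e^j): the two branches through the point cannot both occur with multiplicity j in the
divisorial part of the fixed locus. (The published setting has B complete with algebraically closed
residue field.) -/
theorem result (B : Type u) [CommRing B] [IsDomain B] [IsDiscreteValuationRing B] (π : B) (hπ : Irreducible π)
    (j : ℕ) (hj : 1 ≤ j) (γ : B) (hγ : IsUnit γ)
    (σ : ArLef.NodeAlg B π ≃+* ArLef.NodeAlg B π)
    (hσ : σ (algebraMap B (ArLef.NodeAlg B π) π) = algebraMap B (ArLef.NodeAlg B π) (π + γ * π ^ j)) :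
    ¬ ArLef.fixIdeal σ ≤ Ideal.span ({algebraMap B (ArLef.NodeAlg B π) (π ^ j)} : Set (ArLef.NodeAlg B π)) := by
  have hN := K855.DVR.isNode B π hπ
  have := hN.noeth
  have := hN.dom
  have := hN.loc
  intro hle
  obtain ⟨x, hx⟩ := Ideal.mem_span_singleton'.1 (hle (K855.Abs.sub_mem_fixIdeal σ (ArLef.NodeAlg.t π)))
  obtain ⟨y, hy⟩ := Ideal.mem_span_singleton'.1 (hle (K855.Abs.sub_mem_fixIdeal σ (ArLef.NodeAlg.e π)))
  have hte : ArLef.NodeAlg.t π * ArLef.NodeAlg.e π ≠ 0 := mul_ne_zero hN.prime_t.ne_zero hN.prime_e.ne_zero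
  have hπj : algebraMap B (ArLef.NodeAlg B π) (π ^ j) = (ArLef.NodeAlg.t π * ArLef.NodeAlg.e π) ^ j := by
    rw [map_pow, K855.Node.t_mul_e]
  rw [← K855.Node.t_mul_e, map_mul, map_add, map_mul, hπj, ← K855.Node.t_mul_e] at hσ
  rw [hπj] at hx hy
  obtain ⟨i, rfl⟩ : ∃ i, j = i + 1 := ⟨j - 1, by omega⟩
  have h1 : algebraMap B (ArLef.NodeAlg B π) γ = ArLef.NodeAlg.t π * y + ArLef.NodeAlg.e π * x +
      (ArLef.NodeAlg.t π * ArLef.NodeAlg.e π) ^ (i + 1) * x * y := by
    apply mul_left_cancel₀ (pow_ne_zero (i + 1) hte)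
    have ex : σ (ArLef.NodeAlg.t π) = ArLef.NodeAlg.t π + x * (ArLef.NodeAlg.t π * ArLef.NodeAlg.e π) ^ (i + 1) := by
      rw [hx]; ring
    have ey : σ (ArLef.NodeAlg.e π) = ArLef.NodeAlg.e π + y * (ArLef.NodeAlg.t π * ArLef.NodeAlg.e π) ^ (i + 1) := by
      rw [hy]; ring
    rw [ex, ey] at hσ
    linear_combination -hσ
  have h2 : algebraMap B (ArLef.NodeAlg B π) γ ∈ IsLocalRing.maximalIdeal (ArLef.NodeAlg B π) := by
    rw [h1, pow_succ]
    refine add_mem (add_mem (Ideal.mul_mem_right _ _ hN.t_mem) (Ideal.mul_mem_right _ _ hN.e_mem)) ?_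
    exact Ideal.mul_mem_right _ _ (Ideal.mul_mem_right _ _ (Ideal.mul_mem_left _ _ (Ideal.mul_mem_left _ _ hN.e_mem)))
  exact (IsLocalRing.mem_maximalIdeal _).1 h2 (hγ.map _)

end Groth.Agent.S15319
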