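import Groth.Statements.S15320
import Groth.Agent.ArLef.K855.Stab

set_option autoImplicit false
universe u
open ArLef ArLef.NodeAlg

namespace Groth.Agent.S15320

/-- Let B be a discrete valuation ring with uniformizer π, N = B[[t, e]]/(te - π) the complete local
ring of a semi-stable arithmetic surface over B at a singular point x of the closed fibre, and σ a
ring automorphism of N over an automorphism τ of B with v(τ(π) - π) = j ≥ 1, that is σ(π) = π + γ
π^j with γ a unit of B, and with σ(b) - b ∈ π^j N for every b ∈ B (automatic when B is totally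
ramified over the fixed ring of τ, as in the published setting, where the residue field is
algebraically closed). If σ switches the two branches through x (σ(t) associated to e and σ(e) to
t), then the fixed-point ideal I of σ is contained in no proper principal ideal (x is not on the
divisorial part of the fixed locus) and N/I has length 2j - 1 (the multiplicity of x in the residual
fixed-point scheme). -/
theorem result (B : Type u) [CommRing B] [IsDomain B] [IsDiscreteValuationRing B] (π : B) (hπ : Irreducible π)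
    (j : ℕ) (hj : 1 ≤ j) (γ : B) (hγ : IsUnit γ)
    (σ : ArLef.NodeAlg B π ≃+* ArLef.NodeAlg B π)
    (hσB : ∀ b : B, σ (algebraMap B (ArLef.NodeAlg B π) b) - algebraMap B (ArLef.NodeAlg B π) b ∈
      Ideal.span ({algebraMap B (ArLef.NodeAlg B π) (π ^ j)} : Set (ArLef.NodeAlg B π)))
    (hσπ : σ (algebraMap B (ArLef.NodeAlg B π) π) = algebraMap B (ArLef.NodeAlg B π) (π + γ * π ^ j))
    (ht : Associated (σ (ArLef.NodeAlg.t π)) (ArLef.NodeAlg.e π)) (he : Associated (σ (ArLef.NodeAlg.e π)) (ArLef.NodeAlg.t π)) :
    (∀ g : ArLef.NodeAlg B π, ArLef.fixIdeal σ ≤ Ideal.span ({g} : Set (ArLef.NodeAlg B π)) → IsUnit g) ∧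
      Module.length (ArLef.NodeAlg B π) (ArLef.NodeAlg B π ⧸ ArLef.fixIdeal σ) = ((2 * j - 1 : ℕ) : ℕ∞) := by
  have hN := K855.DVR.isNode B π hπ
  have := hN.dom
  have := hN.loc
  obtain ⟨α, hα⟩ := ht.symm
  obtain ⟨β, hβ⟩ := he.symm
  have hfix := K855.Stab.fixIdeal_eq_gens B π hπ j γ hγ σ hσB hσπ
  have hprod := K855.Stab.prod_switch B π hπ j hj γ σ hσπ α β (by rw [← hα]; ring) (by rw [← hβ]; ring)
  obtain ⟨i, rfl⟩ : ∃ i, j = i + 1 := ⟨j - 1, by omega⟩
  rw [Nat.add_sub_cancel] at hprod
  obtain ⟨γ', hγ'⟩ := hγ.exists_left_inv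
  have hγN : algebraMap B (ArLef.NodeAlg B π) γ' * algebraMap B (ArLef.NodeAlg B π) γ = 1 := by
    rw [← map_mul, hγ', map_one]
  set T := ArLef.NodeAlg.t π with hT
  set E := ArLef.NodeAlg.e π with hE
  have hth : ¬ (T ∣ E * α - T) := by
    intro h
    have h2 : T ∣ E * α := by
      have := dvd_add h (dvd_refl _)
      rwa [sub_add_cancel] at this
    rw [Units.dvd_mul_right] at h2
    exact hN.not_te h2
  have heh : ¬ (E ∣ E * α - T) := by
    intro h
    have h2 : E ∣ T := by
      have := dvd_sub (Dvd.intro _ rfl : E ∣ E * α) h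
      rwa [sub_sub_cancel] at this
    exact hN.not_et h2
  have hJ : ArLef.fixIdeal σ = Ideal.span {E * α - T, T ^ i * E ^ (i + 1)} := by
    rw [hfix, ← hα, ← hβ]
    apply le_antisymm
    · rw [Ideal.span_le]
      rintro z (rfl | rfl | rfl)
      · exact Ideal.mem_span_pair.2 ⟨0, T, by ring⟩
      · exact Ideal.subset_span (by simp)
      · exact Ideal.mem_span_pair.2 ⟨-β, algebraMap B _ γ, by rw [mul_pow] at hprod; linear_combination (-E) * hprod⟩
    · rw [Ideal.span_le]
      rintro z (rfl | rfl)
      · exact Ideal.subset_span (by simp)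
      · rw [SetLike.mem_coe, Ideal.mem_span_insert]
        refine ⟨0, T ^ i * E ^ (i + 1), Ideal.mem_span_pair.2 ⟨algebraMap B _ γ' * β, algebraMap B _ γ', ?_⟩, by ring⟩
        rw [mul_pow] at hprod
        linear_combination (algebraMap B _ γ' * E) * hprod + (T ^ i * E ^ (i + 1)) * hγN
  constructor
  · intro g hg
    rw [hJ] at hg
    obtain ⟨c, hc⟩ := Ideal.mem_span_singleton'.1 (hg (Ideal.subset_span (by simp : E * α - T ∈ _)))
    obtain ⟨d, hd⟩ := Ideal.mem_span_singleton'.1 (hg (Ideal.subset_span (by simp : T ^ i * E ^ (i + 1) ∈ _)))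
    have hTg : ¬ T ∣ g := fun h => hth (hc ▸ Dvd.dvd.mul_left h c)
    have hEg : ¬ E ∣ g := fun h => heh (hc ▸ Dvd.dvd.mul_left h c)
    have key : ∀ (n m : ℕ) (d : ArLef.NodeAlg B π), d * g = T ^ n * E ^ m → IsUnit g := by
      intro n
      induction n with
      | zero =>
        intro m
        induction m with
        | zero =>
          intro d hd
          rw [pow_zero, pow_zero, one_mul] at hd
          exact IsUnit.of_mul_eq_one_right d hd
        | succ m ih =>
          intro d hd
          have h1 : E ∣ d * g := ⟨T ^ 0 * E ^ m, by rw [hd]; ring⟩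
          rcases hN.prime_e.dvd_or_dvd h1 with ⟨d', rfl⟩ | h2
          · apply ih d'
            apply mul_left_cancel₀ hN.prime_e.ne_zero
            linear_combination hd
          · exact absurd h2 hEg
      | succ n ih =>
        intro m d hd
        have h1 : T ∣ d * g := ⟨T ^ n * E ^ m, by rw [hd]; ring⟩
        rcases hN.prime_t.dvd_or_dvd h1 with ⟨d', rfl⟩ | h2
        · apply ih m d'
          apply mul_left_cancel₀ hN.prime_t.ne_zero
          linear_combination hd
        · exact absurd h2 hTg
    exact key i (i + 1) d hd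
  · rw [K855.Len.length_congr hJ, K855.Calc.length_pow_mul_pow (E * α - T) T E i (i + 1)
      (fun _ w hw => K855.Abs.regular_of_prime hN.prime_t hth w hw)
      (fun _ w hw => K855.Abs.regular_of_prime hN.prime_e heh w hw)]
    have e1 : Ideal.span {E * α - T, T} = Ideal.span {T, E} := by
      rw [Set.pair_comm (E * α - T) T]
      apply K855.Calc.span_pair_congr
      · exact Ideal.mem_span_pair.2 ⟨((α⁻¹ : (ArLef.NodeAlg B π)ˣ) : ArLef.NodeAlg B π),
          ((α⁻¹ : (ArLef.NodeAlg B π)ˣ) : ArLef.NodeAlg B π), by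
            have : (α : ArLef.NodeAlg B π) * ((α⁻¹ : (ArLef.NodeAlg B π)ˣ) : ArLef.NodeAlg B π) = 1 := Units.mul_inv α
            linear_combination E * this⟩
      · exact Ideal.mem_span_pair.2 ⟨-1, α, by ring⟩
    have e2 : Ideal.span {E * α - T, E} = Ideal.span {T, E} := by
      rw [Set.pair_comm (E * α - T) E, Set.pair_comm T E]
      apply K855.Calc.span_pair_congr
      · exact Ideal.mem_span_pair.2 ⟨α, -1, by ring⟩
      · exact Ideal.mem_span_pair.2 ⟨α, -1, by ring⟩
    rw [K855.Len.length_congr e1, K855.Len.length_congr e2, K855.Calc.length_te hN, mul_one, mul_one]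
    have : 2 * (i + 1) - 1 = i + (i + 1) := by omega
    rw [this]
    push_cast
    rfl

end Groth.Agent.S15320
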