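import Groth.Statements.S15324
import Groth.Agent.ArLef.K855.Chase
import Groth.Agent.ArLef.K855.ExcCoh
import Groth.Agent.S0759
import Groth.Agent.S2348
import Groth.Agent.S3171
import Groth.Agent.S3172

set_option autoImplicit false
open CategoryTheory CategoryTheory.Limits AlgebraicGeometry
universe u
open ArLef

namespace Groth.Agent.S15324

open IsLocalRing K855.Blow K855.ExcCoh

theorem isFiniteTypeIdeal {X : Scheme.{u}} [IsLocallyNoetherian X] (𝓘 : X.IdealSheafData) :
    BlowUp.IsFiniteTypeIdeal 𝓘 := fun U => by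
  have : IsNoetherianRing Γ(X, U.1) := IsLocallyNoetherian.component_noetherian U
  exact (isNoetherianRing_iff_ideal_fg _).1 this _

/-- Let R be a complete discrete valuation ring with algebraically closed residue field, X a regular
arithmetic surface over R (here: regular, integral, of dimension 2, flat and projective over Spec
R), F a finite set of closed points of X (each point of F is closed in X) and q : X′ → X a blowing
up of X in the reduced ideal sheaf of F. For n ≥ 1 invertible in R, the pull-back map H^i(X, Z/n) →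
H^i(X′, q^* Z/n) on etale cohomology is bijective for every i ≠ 2, and for i = 2 it is injective
with cokernel isomorphic to (Z/n)^F. (The published statement is for the closed fibres and l-adic
coefficients; the published proof first identifies the cohomology of X and X′ with that of their
closed fibres by proper base change and then computes on X, which is the form stated here, with
coefficients Z/n; exactness of pull-back of abelian sheaves, which always holds, is carried as an
instance hypothesis.) -/
theorem result (R : Type u) [CommRing R] [IsDomain R] [IsDiscreteValuationRing R]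
    [IsAdicComplete (IsLocalRing.maximalIdeal R) R] [IsAlgClosed (IsLocalRing.ResidueField R)]
    (X : Over (Spec (CommRingCat.of R))) (hX : ArSurf.IsArithSurface R X)
    (F : Finset X.left) (hF : IsClosed (F : Set X.left))
    (hFc : ∀ x ∈ F, IsClosed ({x} : Set X.left))
    {X' : Scheme.{u}} (q : X' ⟶ X.left)
    (hq : BlowUp.IsBlowUp q
      (Scheme.IdealSheafData.vanishingIdeal (⟨(F : Set X.left), hF⟩ : TopologicalSpace.Closeds X.left)))
    (n : ℕ) (hn : n ≠ 0) (hnR : IsUnit ((n : ℕ) : R))
    [PreservesFiniteLimits (EtCoh.pull q)] :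
    (∀ i : ℕ, i ≠ 2 → Function.Bijective (EtCore.Hpull q (EtCoh.const X.left (ZMod n)) i)) ∧
      Function.Injective (EtCore.Hpull q (EtCoh.const X.left (ZMod n)) 2) ∧
      ∃ φ : EtCoh.H X' ((EtCoh.pull q).obj (EtCoh.const X.left (ZMod n))) 2 →+ (F → ZMod n),
        Function.Surjective φ ∧ φ.ker = (EtCore.Hpull q (EtCoh.const X.left (ZMod n)) 2).range := by
  have hnz : NeZero n := ⟨hn⟩
  have hint := hX.2.1
  have hflat := hX.2.2.2.1
  have hprop := Groth.Agent.Dix.SurfBasic.isProper hX
  have hN : IsLocallyNoetherian X.left := LocallyOfFiniteType.isLocallyNoetherian X.hom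
  have hpt : ∀ x ∈ F, X.hom x = closedPoint R := fun x hx => map_eq_closedPoint X.hom x (hFc x hx)
  have hreg : ∀ x ∈ F, IsRegularLocalRing (X.left.presheaf.stalk x) := fun x _ => hX.1 x
  have hdim : ∀ x ∈ F, ringKrullDim (X.left.presheaf.stalk x) = 2 := fun x hx =>
    Groth.Agent.Dix.RegSurfLoc979.ringKrullDim_stalk_eq_two (K855.Van.isRegSurf hX) x (hFc x hx) (by
      rw [hpt x hx]; exact IsDiscreteValuationRing.not_a_field R)
  have hres : ∀ x : F, IsSepClosed ((nb F hFc x : Scheme.{u}).residueField (npt F hFc x)) ∧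
      ((n : ℕ) : (nb F hFc x : Scheme.{u}).residueField (npt F hFc x)) ≠ 0 := fun x =>
    residue_facts ((nb F hFc x).ι ≫ X.hom) (npt F hFc x) (isClosed_npt F hFc x.2)
      (by rw [Scheme.Hom.comp_apply]; exact hpt x x.2) n hnR
  have htors := K855.Pieces.isTorsion_const X.left n (Nat.pos_of_ne_zero hn)
  -- the blow-up is integral
  have hI : I F hF ≠ ⊥ := by
    intro h
    have h1 : ((I F hF).support : Set X.left) = Set.univ := by rw [h]; simp
    rw [Scheme.IdealSheafData.coe_support_vanishingIdeal] at h1
    have h2 : genericPoint X.left ∈ F := by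
      have h3 : genericPoint X.left ∈ (F : Set X.left) := by
        have h4 : (F : Set X.left) = Set.univ := h1
        rw [h4]; trivial
      exact h3
    exact Groth.Agent.Dix.SurfBasic.genericPoint_ne hX _ (hFc _ h2) rfl
  obtain ⟨hint', -⟩ := Groth.Agent.S2348.result (I F hF) hI q hq
  have hf0 : Function.Bijective (EtCore.Hpull q (EtCoh.const X.left (ZMod n)) 0) :=
    bijective_Hpull_zero q (ZMod n)
  -- the long exact sequence
  obtain ⟨δ, hinj, hex⟩ := Groth.Agent.S0759.result (I F hF) (isFiniteTypeIdeal _) q hq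
    (EtCoh.const X.left (ZMod n)) htors
  -- cohomology of the centre
  have hC : ∀ p, 1 ≤ p → Subsingleton (EtCoh.H (I F hF).subscheme
      ((EtCoh.pull (I F hF).subschemeι).obj (EtCoh.const X.left (ZMod n))) p) := by
    intro p hp
    obtain ⟨e⟩ := H_ctr F hF hFc (ZMod n) p
    have h1 : ∀ x : F, Subsingleton (EtCoh.H (Spec ((nb F hFc x : Scheme.{u}).residueField (npt F hFc x)))
        (EtCoh.const (Spec ((nb F hFc x : Scheme.{u}).residueField (npt F hFc x))) (ZMod n)) p) := fun x => by
      have := (hres x).1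
      exact Groth.Agent.Etrest.SHPoint.subsingleton_H_of_sepClosed
        ((nb F hFc x : Scheme.{u}).residueField (npt F hFc x)) _ p hp
    exact ((Groth.Agent.Etrest.IsoInv.HCongr (EtCore.pullConst (I F hF).subschemeι (ZMod n)) p).trans
      e).toEquiv.subsingleton
  have hC0 : Nonempty (EtCoh.H (I F hF).subscheme
      ((EtCoh.pull (I F hF).subschemeι).obj (EtCoh.const X.left (ZMod n))) 0 ≃+ (F → ZMod n)) := by
    obtain ⟨e⟩ := H_ctr F hF hFc (ZMod n) 0
    have h1 : ∀ x : F, Nonempty (EtCoh.H (Spec ((nb F hFc x : Scheme.{u}).residueField (npt F hFc x)))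
        (EtCoh.const (Spec ((nb F hFc x : Scheme.{u}).residueField (npt F hFc x))) (ZMod n)) 0 ≃+ ZMod n) :=
      fun x => Groth.Agent.Etrest.SHPoint.nonempty_H0_const _ (ZMod n)
    exact ⟨(Groth.Agent.Etrest.IsoInv.HCongr (EtCore.pullConst (I F hF).subschemeι (ZMod n)) 0).trans
      (e.trans (AddEquiv.piCongrRight fun x => (h1 x).some))⟩
  -- cohomology of the exceptional fibre
  have hD : ∀ p, (Odd p ∨ 2 * 1 < p) → Subsingleton (EtCoh.H (pullback q (I F hF).subschemeι)
      ((EtCoh.pull (pullback.fst q (I F hF).subschemeι ≫ q)).obj (EtCoh.const X.left (ZMod n))) p) := by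
    intro p hp
    obtain ⟨e⟩ := H_exc F hF hFc q hq hreg hdim (ZMod n) p
    have h1 : ∀ x : F, Subsingleton (EtCoh.H (CohB1.ProjSpace 1 (kap F hFc x))
        (EtCoh.const (CohB1.ProjSpace 1 (kap F hFc x)) (ZMod n)) p) := fun x => by
      let _ : Field (kap F hFc x) := Ideal.Quotient.field _
      have h2 : IsSepClosed (kap F hFc x) := (hres x).1
      exact Groth.Agent.S3171.result (kap F hFc x) n (hres x).2 1 p hp
    exact ((Groth.Agent.Etrest.IsoInv.HCongr (EtCore.pullConst (pullback.fst q (I F hF).subschemeι ≫ q)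
      (ZMod n)) p).trans e).toEquiv.subsingleton
  have hDe : ∀ i, i ≤ 1 → Nonempty (EtCoh.H (pullback q (I F hF).subschemeι)
      ((EtCoh.pull (pullback.fst q (I F hF).subschemeι ≫ q)).obj (EtCoh.const X.left (ZMod n))) (2 * i) ≃+
        (F → ZMod n)) := by
    intro i hi
    obtain ⟨e⟩ := H_exc F hF hFc q hq hreg hdim (ZMod n) (2 * i)
    have h1 : ∀ x : F, Nonempty (EtCoh.H (CohB1.ProjSpace 1 (kap F hFc x))
        (EtCoh.const (CohB1.ProjSpace 1 (kap F hFc x)) (ZMod n)) (2 * i) ≃+ ZMod n) := fun x => by
      let _ : Field (kap F hFc x) := Ideal.Quotient.field _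
      have h2 : IsSepClosed (kap F hFc x) := (hres x).1
      exact Groth.Agent.S3172.result (kap F hFc x) n (hres x).2 1 i hi
    exact ⟨(Groth.Agent.Etrest.IsoInv.HCongr (EtCore.pullConst (pullback.fst q (I F hF).subschemeι ≫ q)
      (ZMod n)) (2 * i)).trans (e.trans (AddEquiv.piCongrRight fun x => (h1 x).some))⟩
  have hπ : Function.Bijective (EtCore.HpullVia (pullback.snd q (I F hF).subschemeι) (I F hF).subschemeι
      (pullback.fst q (I F hF).subschemeι ≫ q) pullback.condition.symm (EtCoh.const X.left (ZMod n)) 0) := by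
    obtain ⟨e1⟩ := hC0
    obtain ⟨e2⟩ := hDe 0 (by omega)
    have hfin : Finite (EtCoh.H (pullback q (I F hF).subschemeι)
      ((EtCoh.pull (pullback.fst q (I F hF).subschemeι ≫ q)).obj (EtCoh.const X.left (ZMod n))) 0) :=
      Finite.of_equiv _ e2.symm.toEquiv
    refine Function.Injective.bijective_of_nat_card_le ?_ ?_
    · rw [injective_iff_map_eq_zero]
      intro c hc
      obtain ⟨a, ha⟩ := ((hex 0).1 (0, c)).1 (by
        show EtCore.HpullVia _ _ _ _ _ _ 0 - EtCore.HpullVia _ _ _ _ _ _ c = 0
        rw [hc, map_zero, sub_zero])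
      have h1 : EtCore.Hpull q (EtCoh.const X.left (ZMod n)) 0 a = 0 := congrArg Prod.fst ha
      have h2 : a = 0 := hf0.1 (by rw [h1, map_zero])
      have h3 : EtCore.Hpull (I F hF).subschemeι (EtCoh.const X.left (ZMod n)) 0 a = c := congrArg Prod.snd ha
      rw [← h3, h2, map_zero]
    · rw [Nat.card_congr e1.toEquiv, Nat.card_congr e2.toEquiv]
  obtain ⟨h1, h2, h3, h4⟩ := K855.Chase.main
    (fun p => EtCore.Hpull q (EtCoh.const X.left (ZMod n)) p)
    (fun p => EtCore.Hpull (I F hF).subschemeι (EtCoh.const X.left (ZMod n)) p)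
    (fun p => EtCore.HpullVia (pullback.fst q (I F hF).subschemeι) q
      (pullback.fst q (I F hF).subschemeι ≫ q) rfl (EtCoh.const X.left (ZMod n)) p)
    (fun p => EtCore.HpullVia (pullback.snd q (I F hF).subschemeι) (I F hF).subschemeι
      (pullback.fst q (I F hF).subschemeι ≫ q) pullback.condition.symm (EtCoh.const X.left (ZMod n)) p)
    δ hinj (fun p => (hex p).1) (fun p => (hex p).2.1) (fun p => (hex p).2.2) hC
    (hD 1 (Or.inl odd_one)) (fun p hp => hD p (Or.inr (by omega)))
    (fun p hp => K855.Van.subsingleton_H X hX n hn p hp) hπ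
  obtain ⟨e⟩ := hDe 1 le_rfl
  refine ⟨h1, h2, e.toAddMonoidHom.comp (EtCore.HpullVia (pullback.fst q (I F hF).subschemeι) q
      (pullback.fst q (I F hF).subschemeι ≫ q) rfl (EtCoh.const X.left (ZMod n)) 2),
    e.surjective.comp h3, ?_⟩
  rw [← h4]
  ext b
  simp only [AddMonoidHom.mem_ker, AddMonoidHom.comp_apply]
  exact map_eq_zero_iff e e.injective

end Groth.Agent.S15324
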