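import Groth.Statements.S15325
import Groth.Agent.ArLef.K855.DVR

set_option autoImplicit false
universe u
open ArLef ArLef.NodeAlg

namespace Groth.Agent.S15325

/-- Let k be a field, A = k[[t, e]]/(te) the complete local ring of a nodal curve at a node x, and σ a
k-algebra automorphism of A fixing the two branches, σ(t) = α t and σ(e) = β e with units α, β.
Writing I for the fixed-point ideal of σ (generated by all σ(r) - r), the fixed-point multiplicity
length(A/I) of σ at x and the fixed-point multiplicities length(A/(I + (t))), length(A/(I + (e))) of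
the automorphisms induced on the two branches satisfy length(A/I) + 1 = length(A/(I + (t))) +
length(A/(I + (e))), as extended natural numbers (both sides are infinite when σ fixes a branch
pointwise). (The published setting has k algebraically closed.) -/
theorem result (k : Type u) [Field k]
    (σ : ArLef.NodeAlg k 0 ≃ₐ[k] ArLef.NodeAlg k 0) (α β : (ArLef.NodeAlg k 0)ˣ)
    (ht : σ (ArLef.NodeAlg.t (0 : k)) = (α : ArLef.NodeAlg k 0) * ArLef.NodeAlg.t (0 : k)) (he : σ (ArLef.NodeAlg.e (0 : k)) = (β : ArLef.NodeAlg k 0) * ArLef.NodeAlg.e (0 : k)) :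
    Module.length (ArLef.NodeAlg k 0) (ArLef.NodeAlg k 0 ⧸ ArLef.fixIdeal σ) + 1 =
      Module.length (ArLef.NodeAlg k 0) (ArLef.NodeAlg k 0 ⧸ (ArLef.fixIdeal σ ⊔ Ideal.span ({ArLef.NodeAlg.t (0 : k)} : Set (ArLef.NodeAlg k 0)))) +
        Module.length (ArLef.NodeAlg k 0) (ArLef.NodeAlg k 0 ⧸ (ArLef.fixIdeal σ ⊔ Ideal.span ({ArLef.NodeAlg.e (0 : k)} : Set (ArLef.NodeAlg k 0)))) := by
  have hmax : IsLocalRing.maximalIdeal k = Ideal.span {(0 : k)} := by
    rw [IsLocalRing.maximalIdeal_eq_bot, Ideal.span_singleton_eq_bot.2 rfl]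
  have := K855.DVR.isNoeth k (0 : k)
  have := K855.Node.isLocalRing_nodeAlg (0 : k) hmax
  have hmaxN := K855.Node.maximalIdeal_eq (0 : k) hmax
  have hpr : (Ideal.span {(0 : k)}).IsPrime := (K855.Node.isMaximal_span (0 : k) hmax).isPrime
  have : Nontrivial (k ⧸ Ideal.span {(0 : k)}) := Ideal.Quotient.nontrivial_iff.2 hpr.ne_top
  have hpt := K855.Node.isPrime_span_t (0 : k)
  have hpe := K855.Node.isPrime_span_e (0 : k)
  have hte : ArLef.NodeAlg.t (0 : k) * ArLef.NodeAlg.e (0 : k) = 0 := by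
    rw [K855.Node.t_mul_e, map_zero]
  have het := K855.Node.e_not_mem (0 : k)
  have hte' := K855.Node.t_not_mem (0 : k)
  have hregt : ∀ w : ArLef.NodeAlg k 0, ArLef.NodeAlg.t (0 : k) * w ∈ Ideal.span {ArLef.NodeAlg.e (0 : k)} →
      w ∈ Ideal.span {ArLef.NodeAlg.e (0 : k)} := by
    intro w hw
    rcases hpe.mem_or_mem hw with h | h
    · exact absurd h hte'
    · exact h
  have htm : ArLef.NodeAlg.t (0 : k) ∈ IsLocalRing.maximalIdeal (ArLef.NodeAlg k 0) := by
    rw [hmaxN]; exact Ideal.subset_span (by simp)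
  have hem : ArLef.NodeAlg.e (0 : k) ∈ IsLocalRing.maximalIdeal (ArLef.NodeAlg k 0) := by
    rw [hmaxN]; exact Ideal.subset_span (by simp)
  have hfix : ArLef.fixIdeal σ = Ideal.span {ArLef.NodeAlg.t (0 : k) * ((α : ArLef.NodeAlg k 0) - 1),
      ArLef.NodeAlg.e (0 : k) * ((β : ArLef.NodeAlg k 0) - 1)} := by
    apply K855.Abs.fixIdeal_eq _ (σ : ArLef.NodeAlg k 0 →+* ArLef.NodeAlg k 0) _ _ htm hem
      (Set.range (algebraMap k _)) (K855.Node.decomp (0 : k))
    · rintro _ ⟨b, rfl⟩
      have : (σ : ArLef.NodeAlg k 0 →+* ArLef.NodeAlg k 0) (algebraMap k _ b) = algebraMap k _ b := σ.commutes b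
      rw [this, sub_self]
      exact zero_mem _
    · change σ _ - _ ∈ _
      rw [ht]
      exact Ideal.mem_span_pair.2 ⟨1, 0, by ring⟩
    · change σ _ - _ ∈ _
      rw [he]
      exact Ideal.mem_span_pair.2 ⟨0, 1, by ring⟩
    · rw [Ideal.span_le]
      rintro z (rfl | rfl)
      · have h0 := K855.Abs.sub_mem_fixIdeal σ (ArLef.NodeAlg.t (0 : k))
        have h1 : σ (ArLef.NodeAlg.t (0 : k)) - ArLef.NodeAlg.t (0 : k) =
            ArLef.NodeAlg.t (0 : k) * ((α : ArLef.NodeAlg k 0) - 1) := by rw [ht]; ring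
        rw [h1] at h0
        exact h0
      · have h0 := K855.Abs.sub_mem_fixIdeal σ (ArLef.NodeAlg.e (0 : k))
        have h1 : σ (ArLef.NodeAlg.e (0 : k)) - ArLef.NodeAlg.e (0 : k) =
            ArLef.NodeAlg.e (0 : k) * ((β : ArLef.NodeAlg k 0) - 1) := by rw [he]; ring
        rw [h1] at h0
        exact h0
  set T := ArLef.NodeAlg.t (0 : k) with hT
  set E := ArLef.NodeAlg.e (0 : k) with hE
  have h1 := K855.Len.length_colon (ArLef.fixIdeal σ) (Ideal.span {E, (α : ArLef.NodeAlg k 0) - 1}) T (by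
    intro y
    rw [hfix]
    constructor
    · intro hy
      obtain ⟨x, z, rfl⟩ := Ideal.mem_span_pair.1 hy
      exact Ideal.mem_span_pair.2 ⟨z, 0, by linear_combination (-x) * hte⟩
    · intro hy
      obtain ⟨x, z, hxz⟩ := Ideal.mem_span_pair.1 hy
      have h2 : T * (y - x * ((α : ArLef.NodeAlg k 0) - 1)) ∈ Ideal.span {E} := by
        rw [Ideal.mem_span_singleton']
        exact ⟨z * ((β : ArLef.NodeAlg k 0) - 1), by linear_combination hxz⟩
      obtain ⟨c, hc⟩ := Ideal.mem_span_singleton'.1 (hregt _ h2)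
      exact Ideal.mem_span_pair.2 ⟨c, x, by linear_combination hc⟩)
  have h2 : ArLef.fixIdeal σ ⊔ Ideal.span {E} = Ideal.span {E, T * ((α : ArLef.NodeAlg k 0) - 1)} := by
    rw [hfix]
    apply le_antisymm
    · refine sup_le ?_ ?_
      · rw [Ideal.span_le]
        rintro z (rfl | rfl)
        · exact Ideal.subset_span (by simp)
        · exact Ideal.mem_span_pair.2 ⟨((β : ArLef.NodeAlg k 0) - 1), 0, by ring⟩
      · rw [Ideal.span_singleton_le_iff_mem]
        exact Ideal.subset_span (by simp)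
    · rw [Ideal.span_le]
      rintro z (rfl | rfl)
      · exact Ideal.mem_sup_right (Ideal.mem_span_singleton_self _)
      · exact Ideal.mem_sup_left (Ideal.subset_span (by simp))
  have h3 : Module.length (ArLef.NodeAlg k 0) (ArLef.NodeAlg k 0 ⧸ Ideal.span {E, T}) = 1 :=
    K855.Abs.length_maximal _ (by rw [hmaxN, Set.pair_comm])
  rw [K855.Len.length_congr h2, K855.Abs.length_pair_mul E T _ hregt, h3, h1]
  ring

end Groth.Agent.S15325
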