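import Groth.Statements.S15326
import Mathlib.Tactic.LinearCombination
import Mathlib.Tactic.Ring

set_option autoImplicit false
universe u
open ArLef

namespace Groth.Agent.S15326

/-- Let A be a commutative ring, t an element generating a prime ideal (a local equation of an
irreducible component C of the closed fibre), v an element outside (t) with π = vt the uniformizer,
and σ a ring automorphism of A with σ(vt) = vt whose fixed-point ideal is contained in (t^i) for
some i ≥ 1 (C has multiplicity at least i in the fixed locus). Then σ(t) - t lies in t^(i+1) A_(t),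
the localization at the prime (t): σ - 1 vanishes on (t)/(t^(i+1)) at the generic point of C. -/
theorem result (A : Type u) [CommRing A] (t v : A)
    [ht : (Ideal.span ({t} : Set A)).IsPrime] (hv : v ∉ Ideal.span ({t} : Set A))
    (σ : A ≃+* A) (hσ : σ (v * t) = v * t) (i : ℕ) (hi : 1 ≤ i)
    (hI : ArLef.fixIdeal σ ≤ Ideal.span ({t ^ i} : Set A)) :
    algebraMap A (Localization.AtPrime (Ideal.span ({t} : Set A))) (σ t - t) ∈
      Ideal.span ({algebraMap A (Localization.AtPrime (Ideal.span ({t} : Set A))) (t ^ (i + 1))} :
        Set (Localization.AtPrime (Ideal.span ({t} : Set A)))) := by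
  have hmem : ∀ r : A, ∃ x : A, σ r - r = t ^ i * x := by
    intro r
    have : σ r - r ∈ Ideal.span ({t ^ i} : Set A) := hI (Ideal.subset_span ⟨r, rfl⟩)
    obtain ⟨x, hx⟩ := Ideal.mem_span_singleton'.1 this
    exact ⟨x, by rw [← hx]; ring⟩
  obtain ⟨x, hx⟩ := hmem t
  obtain ⟨y, hy⟩ := hmem v
  have hσt : σ t = t + t ^ i * x := by rw [← hx]; ring
  have hσv : σ v = v + t ^ i * y := by rw [← hy]; ring
  obtain ⟨k, rfl⟩ : ∃ k, i = k + 1 := ⟨i - 1, by omega⟩
  have key : v * (σ t - t) = t ^ (k + 1 + 1) * (-(y + t ^ k * x * y)) := by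
    rw [map_mul, hσt, hσv] at hσ
    rw [hx]
    linear_combination hσ
  have hunit : IsUnit (algebraMap A (Localization.AtPrime (Ideal.span ({t} : Set A))) v) :=
    IsLocalization.map_units (M := (Ideal.span ({t} : Set A)).primeCompl) _ ⟨v, hv⟩
  obtain ⟨w, hw⟩ := hunit.exists_left_inv
  rw [Ideal.mem_span_singleton']
  refine ⟨w * algebraMap A _ (-(y + t ^ k * x * y)), ?_⟩
  have h2 := congrArg (algebraMap A (Localization.AtPrime (Ideal.span ({t} : Set A)))) key
  rw [map_mul, map_mul] at h2
  calc _ = w * (algebraMap A (Localization.AtPrime (Ideal.span ({t} : Set A))) (t ^ (k + 1 + 1)) *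
          algebraMap A (Localization.AtPrime (Ideal.span ({t} : Set A))) (-(y + t ^ k * x * y))) := by ring
    _ = w * (algebraMap A (Localization.AtPrime (Ideal.span ({t} : Set A))) v *
          algebraMap A (Localization.AtPrime (Ideal.span ({t} : Set A))) (σ t - t)) := by rw [h2]
    _ = (w * algebraMap A (Localization.AtPrime (Ideal.span ({t} : Set A))) v) *
          algebraMap A (Localization.AtPrime (Ideal.span ({t} : Set A))) (σ t - t) := by ring
    _ = _ := by rw [hw, one_mul]

end Groth.Agent.S15326
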