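import Groth.Statements.S15330
import Groth.Agent.VBCurve.K706.Opp

set_option autoImplicit false
open CategoryTheory AlgebraicGeometry CategoryTheory.Limits
open VBCurve

namespace Groth.Agent.S15330

/-- Let X be a smooth proper integral curve over the complex numbers, L an invertible module on X, and
(E, φ_E), (F, φ_F) two L-valued Higgs bundles on X of the same rank r ≥ 1 and the same degree d
(degree = χ − rank · χ(O)), each semistable: deg G · r ≤ d · s for every finite locally free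
submodule G of rank s ≥ 1 to which the Higgs field restricts. Let E_0 ⊂ E_1 ⊂ … ⊂ E_n = E with E_0 =
0 and F = F_0 ⊃ F_1 ⊃ … ⊃ F_n = 0 be chains of finite locally free submodules to which the Higgs
fields restrict, of ranks with rk E_i + rk F_i = r, which are opposite: E_{i+1}/E_i ≅ F_i/F_{i+1} as
O-modules for i < n. Then every E_i of positive rank and every F_i of positive rank has slope d/r,
that is deg · r = d · rank, and is semistable for its restricted Higgs field; and each graded piece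
E_{i+1}/E_i of positive rank is finite locally free of rank rk E_{i+1} − rk E_i, of slope d/r, and
semistable for every Higgs field on it compatible with that of E_{i+1} along the projection. (The
published statement indexes the second chain so that F_i/F_{i+1} matches E_i/E_{i−1} and takes the
isomorphisms of graded pieces as Higgs bundles; here they are assumed as O-modules only, together
with the rank bookkeeping rk E_i + rk F_i = r that they imply.) -/
theorem result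
    (X : Scheme.{0}) [X.Over (Spec (CommRingCat.of ℂ))] [IsIntegral X]
    [IsProper (X ↘ Spec (CommRingCat.of ℂ))] [Smooth (X ↘ Spec (CommRingCat.of ℂ))]
    (hdim : topologicalKrullDim X = 1)
    (L : X.Modules) (hL : PicF.IsInvertible L) (r : ℕ) (hr : 0 < r) (d : ℤ)
    (E : X.Modules) (hE : FlatMod.IsFinLocFreeOfRank r E) (φE : E ⟶ CohB1.tensorMod E L)
    (hEd : Curv2.deg ℂ X E r = d)
    (hEss : (∀ (G : X.Modules) (s : ℕ) (j : G ⟶ E) (χ : G ⟶ CohB1.tensorMod G L), Mono j → 0 < s →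
        FlatMod.IsFinLocFreeOfRank s G →
        χ ≫ (CohB1.sheafifyMod X).map (MonoidalCategoryStruct.whiskerRight (C := CohB1.PMod X) j.val (CohB1.toPMod L)) = j ≫ φE →
        Curv2.deg ℂ X G s * (r : ℤ) ≤ Curv2.deg ℂ X E r * (s : ℤ)))
    (F : X.Modules) (hF : FlatMod.IsFinLocFreeOfRank r F) (φF : F ⟶ CohB1.tensorMod F L)
    (hFd : Curv2.deg ℂ X F r = d)
    (hFss : (∀ (G : X.Modules) (s : ℕ) (j : G ⟶ F) (χ : G ⟶ CohB1.tensorMod G L), Mono j → 0 < s →
        FlatMod.IsFinLocFreeOfRank s G →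
        χ ≫ (CohB1.sheafifyMod X).map (MonoidalCategoryStruct.whiskerRight (C := CohB1.PMod X) j.val (CohB1.toPMod L)) = j ≫ φF →
        Curv2.deg ℂ X G s * (r : ℤ) ≤ Curv2.deg ℂ X F r * (s : ℤ)))
    (n : ℕ)
    (Es : ℕ → X.Modules) (rE : ℕ → ℕ) (hEs : ∀ i, FlatMod.IsFinLocFreeOfRank (rE i) (Es i))
    (ιE : ∀ i, Es i ⟶ E) (hιE : ∀ i, Mono (ιE i))
    (ψE : ∀ i, Es i ⟶ CohB1.tensorMod (Es i) L)
    (hψE : ∀ i, ψE i ≫ (CohB1.sheafifyMod X).map (MonoidalCategoryStruct.whiskerRight (C := CohB1.PMod X) (ιE i).val (CohB1.toPMod L)) = ιE i ≫ φE)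
    (a : ∀ i, Es i ⟶ Es (i + 1)) (ha : ∀ i, a i ≫ ιE (i + 1) = ιE i)
    (hE0 : IsZero (Es 0)) (hEn : IsIso (ιE n))
    (Fs : ℕ → X.Modules) (rF : ℕ → ℕ) (hFs : ∀ i, FlatMod.IsFinLocFreeOfRank (rF i) (Fs i))
    (ιF : ∀ i, Fs i ⟶ F) (hιF : ∀ i, Mono (ιF i))
    (ψF : ∀ i, Fs i ⟶ CohB1.tensorMod (Fs i) L)
    (hψF : ∀ i, ψF i ≫ (CohB1.sheafifyMod X).map (MonoidalCategoryStruct.whiskerRight (C := CohB1.PMod X) (ιF i).val (CohB1.toPMod L)) = ιF i ≫ φF)
    (b : ∀ i, Fs (i + 1) ⟶ Fs i) (hb : ∀ i, b i ≫ ιF i = ιF (i + 1))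
    (hF0 : IsIso (ιF 0)) (hFn : IsZero (Fs n))
    (hrk : ∀ i, i ≤ n → rE i + rF i = r)
    (hopp : ∀ i, i < n → Nonempty (cokernel (a i) ≅ cokernel (b i))) :
    (∀ i, i ≤ n → 0 < rE i →
      Curv2.deg ℂ X (Es i) (rE i) * (r : ℤ) = d * (rE i : ℤ) ∧
      (∀ (G : X.Modules) (s : ℕ) (j : G ⟶ (Es i)) (χ : G ⟶ CohB1.tensorMod G L), Mono j → 0 < s →
        FlatMod.IsFinLocFreeOfRank s G →
        χ ≫ (CohB1.sheafifyMod X).map (MonoidalCategoryStruct.whiskerRight (C := CohB1.PMod X) j.val (CohB1.toPMod L)) = j ≫ ψE i →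
        Curv2.deg ℂ X G s * (rE i : ℤ) ≤ Curv2.deg ℂ X (Es i) (rE i) * (s : ℤ))) ∧
    (∀ i, i ≤ n → 0 < rF i →
      Curv2.deg ℂ X (Fs i) (rF i) * (r : ℤ) = d * (rF i : ℤ) ∧
      (∀ (G : X.Modules) (s : ℕ) (j : G ⟶ (Fs i)) (χ : G ⟶ CohB1.tensorMod G L), Mono j → 0 < s →
        FlatMod.IsFinLocFreeOfRank s G →
        χ ≫ (CohB1.sheafifyMod X).map (MonoidalCategoryStruct.whiskerRight (C := CohB1.PMod X) j.val (CohB1.toPMod L)) = j ≫ ψF i →
        Curv2.deg ℂ X G s * (rF i : ℤ) ≤ Curv2.deg ℂ X (Fs i) (rF i) * (s : ℤ))) ∧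
    (∀ i, i < n → rE i < rE (i + 1) →
      FlatMod.IsFinLocFreeOfRank (rE (i + 1) - rE i) (cokernel (a i)) ∧
      Curv2.deg ℂ X (cokernel (a i)) (rE (i + 1) - rE i) * (r : ℤ) = d * ((rE (i + 1) - rE i : ℕ) : ℤ) ∧
      ∀ (φ' : cokernel (a i) ⟶ CohB1.tensorMod (cokernel (a i)) L),
        cokernel.π (a i) ≫ φ' = ψE (i + 1) ≫ (CohB1.sheafifyMod X).map (MonoidalCategoryStruct.whiskerRight (C := CohB1.PMod X) (cokernel.π (a i)).val (CohB1.toPMod L)) →
        (∀ (G : X.Modules) (s : ℕ) (j : G ⟶ cokernel (a i)) (χ : G ⟶ CohB1.tensorMod G L), Mono j → 0 < s →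
        FlatMod.IsFinLocFreeOfRank s G →
        χ ≫ (CohB1.sheafifyMod X).map (MonoidalCategoryStruct.whiskerRight (C := CohB1.PMod X) j.val (CohB1.toPMod L)) = j ≫ φ' →
        Curv2.deg ℂ X G s * ((rE (i + 1) - rE i : ℕ) : ℤ) ≤ Curv2.deg ℂ X (cokernel (a i)) (rE (i + 1) - rE i) * (s : ℤ))) := by
  have C : K707.Base.Crv ℂ X := K707.Base.Crv.of_smooth hdim
  have hφE := K706.Higgs.hss_of C hE φE hEss
  have hφF := K706.Higgs.hss_of C hF φF hFss
  have hsl := K706.Opp.slopes C r hr d E hE φE hEd hφE F hF φF hFd hφF n Es rE hEs ιE hιE ψE hψE a ha hEn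
    Fs rF hFs ιF hιF ψF hψF b hb hFn hrk hopp
  have hrE : Groth.Agent.VarietyA.DegRank.rk E = r := K707.Base.rk_of_rank hE
  have hrF : Groth.Agent.VarietyA.DegRank.rk F = r := K707.Base.rk_of_rank hF
  have hdE : K707.Deg.dg ℂ E = d := by rw [K707.Deg.dg_of_rank ℂ hE, hEd]
  have hdF : K707.Deg.dg ℂ F = d := by rw [K707.Deg.dg_of_rank ℂ hF, hFd]
  have hssE : ∀ i, i ≤ n → K706.Higgs.HSS ℂ (ψE i) := fun i hi => by
    have := hιE i
    exact K706.Higgs.hss_sub C φE hφE (by omega) (ιE i) (ψE i) (hψE i)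
      (by rw [hrE, hdE, K707.Base.rk_of_rank (hEs i)]; exact (hsl i hi).1)
  have hssF : ∀ i, i ≤ n → K706.Higgs.HSS ℂ (ψF i) := fun i hi => by
    have := hιF i
    exact K706.Higgs.hss_sub C φF hφF (by omega) (ιF i) (ψF i) (hψF i)
      (by rw [hrF, hdF, K707.Base.rk_of_rank (hFs i)]; exact (hsl i hi).2)
  refine ⟨fun i hi h0 => ⟨?_, fun G s j χ hj hs hG hχ => ?_⟩, fun i hi h0 => ⟨?_, fun G s j χ hj hs hG hχ => ?_⟩,
    fun i hi h0 => ?_⟩
  · rw [← K707.Deg.dg_of_rank ℂ (hEs i)]; exact (hsl i hi).1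
  · exact K706.Higgs.of_hss (hEs i) (ψE i) (hssE i hi) G s j χ hj hG hχ
  · rw [← K707.Deg.dg_of_rank ℂ (hFs i)]; exact (hsl i hi).2
  · exact K706.Higgs.of_hss (hFs i) (ψF i) (hssF i hi) G s j χ hj hG hχ
  · have hm1 := hιE (i + 1)
    have hma : Mono (a i) := by
      have : Mono (a i ≫ ιE (i + 1)) := by rw [ha]; exact hιE i
      exact mono_of_mono (a i) (ιE (i + 1))
    have hEv := K707.Base.isFinLocFree_of_rank (hEs (i + 1))
    have hFv := K707.Base.isFinLocFree_of_rank (hEs i)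
    have r1 := K707.Base.rk_of_rank (hEs (i + 1))
    have r0 := K707.Base.rk_of_rank (hEs i)
    have h1 := (hsl i hi.le).1
    have h2 := (hsl (i + 1) hi).1
    have hcomm := K706.Opp.comm hL φE (ιE i) (ιE (i + 1)) (a i) (ha i) (ψE i) (hψE i) (ψE (i + 1)) (hψE (i + 1))
    have hr0 : (0 : ℤ) < r := by exact_mod_cast hr
    have hs : K707.Deg.dg ℂ (Es i) * (Groth.Agent.VarietyA.DegRank.rk (Es (i + 1)) : ℤ) =
        K707.Deg.dg ℂ (Es (i + 1)) * (Groth.Agent.VarietyA.DegRank.rk (Es i) : ℤ) := by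
      rw [r1, r0]
      have h3 : K707.Deg.dg ℂ (Es i) * (rE (i + 1) : ℤ) * r = K707.Deg.dg ℂ (Es (i + 1)) * (rE i : ℤ) * r := by
        linear_combination (rE (i + 1) : ℤ) * h1 - (rE i : ℤ) * h2
      exact mul_right_cancel₀ hr0.ne' h3
    have hpos : 0 < Groth.Agent.VarietyA.DegRank.rk (Es (i + 1)) := by omega
    have hQ := K706.Higgs.vb_cokernel C hL (ψE (i + 1)) (hssE (i + 1) hi) hEv hpos hFv (a i) (ψE i) hcomm hs
    obtain ⟨n1, n2⟩ := K707.Semi.mono_numbers C (a i) (K707.Slope.coh_of_vb hFv) (K707.Slope.coh_of_vb hEv)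
    have hQr : FlatMod.IsFinLocFreeOfRank (rE (i + 1) - rE i) (cokernel (a i)) := K706.Higgs.rank_of_vb hQ (by omega)
    refine ⟨hQr, ?_, fun φ1 hφ1 G s j χ hj hs0 hG hχ => ?_⟩
    · rw [← K707.Deg.dg_of_rank ℂ hQr, Nat.cast_sub h0.le]
      linear_combination h2 - h1 - (r : ℤ) * n2
    · exact K706.Higgs.of_hss hQr φ1 (K706.Higgs.hss_cokernel C hL (ψE (i + 1)) (hssE (i + 1) hi) hEv hpos hFv (a i) hs
        φ1 hφ1) G s j χ hj hG hχ

end Groth.Agent.S15330
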