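import Groth.Statements.S15335
import Groth.Agent.VBCurve.K706.Tier1

set_option autoImplicit false
universe u
open CategoryTheory CategoryTheory.Limits AlgebraicGeometry
open VBCurve

namespace Groth.Agent.S15335

/-- Let X be a smooth proper integral curve (integral, smooth and proper of dimension one) over an
algebraically closed field k, and E₁, E₂ finite locally free O_X-modules of ranks r₁ ≥ 1, r₂ ≥ 1.
The maximal slope of E₁ ⊕ E₂ is at most the larger of the maximal slopes of E₁ and E₂: if m₁, m₂ are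
rational numbers such that every finite locally free submodule of positive rank of E₁ (resp. E₂) has
slope deg/rank ≤ m₁ (resp. ≤ m₂), degree meaning χ − rank·χ(O_X), then every finite locally free
submodule F of the biproduct E₁ ⊞ E₂ of rank r' ≥ 1 has slope deg F / r' ≤ max(m₁, m₂). -/
theorem result (k : Type u) [Field k] [IsAlgClosed k] (X : Scheme.{u}) [X.Over (Spec (CommRingCat.of k))]
    [IsIntegral X] [IsProper (X ↘ Spec (CommRingCat.of k))] [Smooth (X ↘ Spec (CommRingCat.of k))]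
    (hdim : topologicalKrullDim X = 1)
    (r₁ r₂ : ℕ) (hr₁ : 0 < r₁) (hr₂ : 0 < r₂) (E₁ E₂ : X.Modules)
    (hE₁ : FlatMod.IsFinLocFreeOfRank r₁ E₁) (hE₂ : FlatMod.IsFinLocFreeOfRank r₂ E₂) (m₁ m₂ : ℚ)
    (h₁ : ∀ (G : X.Modules) (r' : ℕ) (i : G ⟶ E₁), Mono i → 0 < r' → FlatMod.IsFinLocFreeOfRank r' G →
      (Curv2.deg k X G r' : ℚ) / r' ≤ m₁)
    (h₂ : ∀ (G : X.Modules) (r' : ℕ) (i : G ⟶ E₂), Mono i → 0 < r' → FlatMod.IsFinLocFreeOfRank r' G →
      (Curv2.deg k X G r' : ℚ) / r' ≤ m₂)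
    (F : X.Modules) (r' : ℕ) (i : F ⟶ E₁ ⊞ E₂) (hi : Mono i) (hr' : 0 < r')
    (hF : FlatMod.IsFinLocFreeOfRank r' F) :
    (Curv2.deg k X F r' : ℚ) / r' ≤ max m₁ m₂ := by
  have C := K707.Base.Crv.of_smooth (k := k) (X := X) hdim
  have hF' := K707.Base.isFinLocFree_of_rank hF
  have key : ∀ (E : X.Modules) (m : ℚ), (∀ (G : X.Modules) (r' : ℕ) (i : G ⟶ E), Mono i → 0 < r' →
      FlatMod.IsFinLocFreeOfRank r' G → (Curv2.deg k X G r' : ℚ) / r' ≤ m) →
      ∀ (G : X.Modules) (i : G ⟶ E), Mono i → FlatMod.IsFinLocFree G → 0 < Groth.Agent.VarietyA.DegRank.rk G →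
        (K707.Deg.dg k G : ℚ) / Groth.Agent.VarietyA.DegRank.rk G ≤ m := fun E m h G i hi hG h0 => by
    have hG' := K707.Base.isFinLocFreeOfRank_rk hG
    rw [K707.Deg.dg_of_rank k hG']
    exact h G _ i hi h0 hG'
  have := K706.Tier1.slope_sub_biprod C (K707.Base.isFinLocFree_of_rank hE₁) (K707.Base.isFinLocFree_of_rank hE₂)
    m₁ m₂ (key E₁ m₁ h₁) (key E₂ m₂ h₂) hF' i hi (by rwa [K707.Base.rk_of_rank hF])
  rwa [K707.Deg.dg_of_rank k hF, K707.Base.rk_of_rank hF] at this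

end Groth.Agent.S15335
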