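import Groth.Statements.S15337
import Groth.Agent.NonAbH1.K250.QAffLift
import Groth.Agent.NonAbH1.K250.RedObs
import Groth.Agent.AGF.K498.Epi
import Groth.Agent.Flat2B.SmoothGeom
import Groth.Agent.AlgGrp.K397.StrConn

set_option autoImplicit false
universe u
open CategoryTheory MonoidalCategory CartesianMonoidalCategory MonObj GrpObj AlgebraicGeometry
open NonAbH1

namespace Groth.Agent.S15337

/-- Let k be an algebraically closed field, Y a proper connected scheme over k, G a connected reductive
group over k and ρ : G → GL_n a faithful representation, that is a homomorphism of k-group schemes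
which is a closed immersion. Let F be a G-torsor over Y (for the base change of G to Y, fppf-locally
trivial) and F' a GL_n-torsor over Y obtained from F by extension of the structure group along ρ
(there is a ρ-equivariant Y-morphism F → F'). Then F is trivial, i.e. admits a section over Y, if
and only if F' is. -/
theorem result
    (k : Type u) [Field k] [IsAlgClosed k] (Y : Scheme.{u}) [Y.Over (Spec (CommRingCat.of k))]
    [IsProper (Y ↘ Spec (CommRingCat.of k))] [ConnectedSpace Y]
    (G : Over (Spec (CommRingCat.of k))) [GrpObj G] (hG : Red.IsReductiveOver k G)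
    (n : ℕ) (ρ : G ⟶ CoactBr.sp k (CoordGrp.GLn n k)) [IsMonHom ρ] (hρ : IsClosedImmersion ρ.left)
    (F : Over Y) (a : AlgGrp.Action (Red.bc (Y ↘ Spec (CommRingCat.of k)) G) F)
    (hF : NonAbH1.IsTorsorFor Scheme.fppfPrecoverage a)
    (F' : Over Y) (a' : AlgGrp.Action (Red.bc (Y ↘ Spec (CommRingCat.of k)) (CoactBr.sp k (CoordGrp.GLn n k))) F')
    (hF' : NonAbH1.IsTorsorFor Scheme.fppfPrecoverage a')
    (hρF : NonAbH1.IsPushforwardAlongSch ((Over.pullback (Y ↘ Spec (CommRingCat.of k))).map ρ) a a') :
    NonAbH1.HasSectionOver F (𝟙 Y) ↔ NonAbH1.HasSectionOver F' (𝟙 Y) := by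
  obtain ⟨f, hf⟩ := hρF
  constructor
  · rintro ⟨s, hs⟩
    exact ⟨s ≫ f.left, by rw [Category.assoc, Over.w, hs]⟩
  · intro h
    obtain ⟨σ⟩ := K551.Tors.exists_point_of_hasSectionOver_id h
    have hsm1 : Algebra.Smooth k (CoordGrp.GLn n k) := K498.Epi.smooth_GLn k n
    have hsm2 : Smooth (CoactBr.sp k (CoordGrp.GLn n k)).hom :=
      Groth.Agent.Flat2B.SmoothGeom.smooth_specMap k (CoordGrp.GLn n k)
    have haff : IsAffine (CoactBr.sp k (CoordGrp.GLn n k)).left := inferInstanceAs (IsAffine (Spec _))
    have hmono : Mono ρ := Groth.Agent.Sga3C.ClosedSub.mono_of_left ρ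
    have hGs : Smooth G.hom := hG.2.1
    have hGa : IsAffine G.left := hG.1
    have hGq : QuasiCompact G.hom := inferInstance
    have hLq : QuasiCompact (CoactBr.sp k (CoordGrp.GLn n k)).hom := inferInstance
    obtain ⟨X, aX, o, -, -, hX⟩ := K397.StrConn.exists_isQuotient ρ
    have hq : X.left.IsQuasiAffine := K250.RedObs.isQuasiAffine hG ρ aX o hX
    exact K250.RedExt.hasSection_of_lift ρ aX o (Y ↘ Spec (CommRingCat.of k)) hX hF hF'.1 f hf σ
      (K250.QAffLift.exists_lift ρ aX o hX hq Y)

end Groth.Agent.S15337
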