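import Groth.Statements.S15344
import Groth.Agent.Mor.K387.MonoSpec

set_option autoImplicit false
universe u
open CategoryTheory CategoryTheory.Limits AlgebraicGeometry
open Mor

namespace Groth.Agent.S15344

/-- Let f : Y ⟶ X be a monomorphism of schemes, X quasi-separated. Then the projection Y ×_X X' ⟶ X'
reflects specializations (if the image of y₁ specializes to the image of y₀ then y₁ specializes to
y₀) after every base change X' ⟶ X if and only if, for every valuation ring A with fraction field K
and every commutative square Spec K ⟶ Y, Spec A ⟶ X over f such that, in addition, some morphism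
from the spectrum of the residue field of A to Y lies over Spec A ⟶ X, the square admits a lift Spec
A ⟶ Y. -/
theorem result {X Y : Scheme.{u}} [QuasiSeparatedSpace ↥X]
    (f : Y ⟶ X) [Mono f] :
    (∀ (X' : Scheme.{u}) (g : X' ⟶ X) (y₀ y₁ : ↥(pullback f g)),
        (pullback.snd f g).base y₁ ⤳ (pullback.snd f g).base y₀ → y₁ ⤳ y₀) ↔
      ∀ S : ValuativeCommSq f,
        (∃ l₀ : Spec (CommRingCat.of (IsLocalRing.ResidueField S.R)) ⟶ Y,
            l₀ ≫ f = Spec.map (CommRingCat.ofHom (IsLocalRing.residue S.R)) ≫ S.i₂) →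
          S.commSq.HasLift := by
  constructor
  · rintro h S ⟨l₀, hl₀⟩
    let t₁ : Spec (CommRingCat.of S.K) ⟶ pullback f S.i₂ :=
      pullback.lift S.i₁ (Spec.map (CommRingCat.ofHom (algebraMap S.R S.K))) S.commSq.w
    have ht₁ : t₁ ≫ pullback.snd f S.i₂ = Spec.map (CommRingCat.ofHom (algebraMap S.R S.K)) :=
      pullback.lift_snd _ _ _
    let t₀ : Spec (CommRingCat.of (IsLocalRing.ResidueField S.R)) ⟶ pullback f S.i₂ :=
      pullback.lift l₀ (Spec.map (CommRingCat.ofHom (IsLocalRing.residue S.R))) hl₀
    have ht₀ : t₀ ≫ pullback.snd f S.i₂ = Spec.map (CommRingCat.ofHom (IsLocalRing.residue S.R)) :=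
      pullback.lift_snd _ _ _
    have h0 : pullback.snd f S.i₂ (t₀ (IsLocalRing.closedPoint (IsLocalRing.ResidueField S.R))) =
        IsLocalRing.closedPoint S.R := by
      have h1 := Scheme.Hom.comp_apply t₀ (pullback.snd f S.i₂)
        (IsLocalRing.closedPoint (IsLocalRing.ResidueField S.R))
      rw [ht₀] at h1
      exact h1.symm.trans K387.Points.specMap_residue_closedPoint
    obtain ⟨l, hl1, hl2⟩ := K387.MonoSpec.exists_section S.R S.K (pullback.snd f S.i₂) t₁ ht₁
      (t₀ (IsLocalRing.closedPoint (IsLocalRing.ResidueField S.R))) h0 (by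
        apply h _ S.i₂
        change (pullback.snd f S.i₂)
          (t₁ (IsLocalRing.closedPoint S.K)) ⤳ (pullback.snd f S.i₂) (t₀ _)
        rw [h0]
        exact IsLocalRing.specializes_closedPoint _)
    refine ⟨⟨⟨l ≫ pullback.fst f S.i₂, ?_, ?_⟩⟩⟩
    · rw [← Category.assoc, hl2]
      exact pullback.lift_fst _ _ _
    · rw [Category.assoc, pullback.condition, ← Category.assoc, hl1, Category.id_comp]
  · intro H X' g y₀ y₁ hs
    obtain ⟨R, K, i1, i2, i3, i4, i5, i6, h, hc, hg⟩ := K387.MonoSpec.exists_valuationRing hs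
    refine K387.MonoSpec.specializes_of_hasLift f g y₀ y₁ R K h hc hg ?_
    intro i₁ sq hl
    exact H { R := R, K := K, i₁ := i₁, i₂ := h ≫ g, commSq := sq } hl

end Groth.Agent.S15344
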