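import Groth.Statements.S15346
import Groth.Agent.Mor.K387.ApproxMain
import Groth.Agent.Mor.K387.MonoSpec
import Groth.Agent.Ega43.DvrScheme

set_option autoImplicit false
universe u
open CategoryTheory CategoryTheory.Limits AlgebraicGeometry
open Mor

namespace Groth.Agent.S15346

/-- Let X be a locally Noetherian scheme and f : Y ⟶ X a monomorphism. Suppose that for every discrete
valuation ring A with fraction field K and every commutative square Spec K ⟶ Y, Spec A ⟶ X over f
such that some morphism from the spectrum of the residue field of A to Y lies over Spec A ⟶ X, the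
square admits a lift Spec A ⟶ Y. Then after every base change X' ⟶ X the projection Y ×_X X' ⟶ X'
reflects specializations. -/
theorem result {X Y : Scheme.{u}} [IsLocallyNoetherian X]
    (f : Y ⟶ X) [Mono f]
    (h : ∀ S : ValuativeCommSq f, IsDiscreteValuationRing S.R →
        (∃ l₀ : Spec (CommRingCat.of (IsLocalRing.ResidueField S.R)) ⟶ Y,
            l₀ ≫ f = Spec.map (CommRingCat.ofHom (IsLocalRing.residue S.R)) ≫ S.i₂) →
          S.commSq.HasLift) :
    ∀ (X' : Scheme.{u}) (g : X' ⟶ X) (y₀ y₁ : ↥(pullback f g)),
        (pullback.snd f g).base y₁ ⤳ (pullback.snd f g).base y₀ → y₁ ⤳ y₀ := by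
  refine fun X' g y₀ y₁ hs ↦ K387.ApproxMain.main f (fun X' g _ y₀ y₁ hs ↦ ?_) X' g y₀ y₁ hs
  have hN : IsLocallyNoetherian X' := LocallyOfFiniteType.isLocallyNoetherian g
  by_cases hne : pullback.snd f g y₁ = pullback.snd f g y₀
  · rw [(pullback.snd f g).injective hne]
  · have hN' : IsNoetherianRing (X'.presheaf.stalk (pullback.snd f g y₀)) := inferInstance
    obtain ⟨R, i1, i2, i3, i4, i5, u, hu1, hu2⟩ :=
      Groth.Agent.Ega43.DvrScheme.exists_dvr_of_specializes hs hne
        (X'.residueField (pullback.snd f g y₁)) (𝟙 _)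
        (RingHom.FiniteType.essFiniteType (RingHom.FiniteType.of_surjective _
          (fun a ↦ ⟨a, rfl⟩)))
    rw [Spec.map_id] at hu2
    replace hu2 := hu2.trans (Category.id_comp _)
    refine K387.MonoSpec.specializes_of_hasLift f g y₀ y₁ R
      (X'.residueField (pullback.snd f g y₁)) u hu1 ?_ ?_
    · rw [hu2]
      exact Scheme.fromSpecResidueField_apply _ _
    · intro i₁ sq hl
      exact h { R := R, K := X'.residueField (pullback.snd f g y₁), i₁ := i₁, i₂ := u ≫ g,
                commSq := sq } i3 hl

end Groth.Agent.S15346
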