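import Groth.Statements.S15352
import Groth.Agent.Localalg.GrpSchComp2

set_option autoImplicit false
universe u
open CategoryTheory CategoryTheory.Limits MonoidalCategory CartesianMonoidalCategory MonObj GrpObj AlgebraicGeometry
open GrpSch

namespace Groth.Agent.S15352

open Groth.Agent.Localalg.GrpSchComp2 Groth.Agent.Localalg.GrpSchPts in
/-- Let k be an algebraically closed field, G a group scheme locally of finite type over k, G⁰ ⊆ G the
connected component of the unit point, and U a nonempty open subscheme of G contained in G⁰. Then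
every point of G⁰ is in the image of the morphism U ×_k U ⟶ G, (g, h) ↦ g·h⁻¹. (The published
statement writes U as an open of G mapping to G⁰ × G⁰; this row makes the containment U ⊆ G⁰
explicit.) -/
theorem result (k : Type u) [Field k] [IsAlgClosed k]
    (G : Over (Spec (CommRingCat.of k))) [GrpObj G] [LocallyOfFiniteType G.hom] (U : G.left.Opens)
    (hne : (U : Set ↥G.left).Nonempty)
    (hU : (U : Set ↥G.left) ⊆ connectedComponent (η[G].left.base (IsLocalRing.closedPoint k))) :
    connectedComponent (η[G].left.base (IsLocalRing.closedPoint k)) ⊆ Set.range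
      ((((Over.homMk U.ι rfl : Over.mk (U.ι ≫ G.hom) ⟶ G) ⊗ₘ
          ((Over.homMk U.ι rfl : Over.mk (U.ι ≫ G.hom) ⟶ G) ≫ ι[G])) ≫ μ[G]).left.base) := by
  have hc : connectedComponent (η[G].left.base (IsLocalRing.closedPoint k)) = N G :=
    connectedComponent_one (G := G)
  rw [hc] at hU ⊢
  intro x hx
  obtain ⟨w, h1, h2, h3⟩ := exists_mul_eq (G := G) (O := (U : Set G.left))
    (O' := ι[G].left ⁻¹' (U : Set G.left)) U.2 (U.2.preimage ι[G].left.continuous)
    (by obtain ⟨a, ha⟩ := hne; exact ⟨a, hU ha, ha⟩)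
    (by
      obtain ⟨a, ha⟩ := hne
      refine ⟨ι[G].left a, (isSubgroupSet_N G).inv_mem a (hU ha), ?_⟩
      rw [Set.mem_preimage, ← comp_left_apply, GrpObj.inv_comp_inv]
      simpa using ha) x hx
  set i : Over.mk (U.ι ≫ G.hom) ⟶ G := Over.homMk U.ι rfl with hi
  have hr : (G ◁ ι[G]).left w ∈ Set.range (i ⊗ₘ i).left := by
    rw [Over.tensorHom_left]
    erw [Scheme.Pullback.range_map]
    refine ⟨?_, ?_⟩
    · show (fst G G).left ((G ◁ ι[G]).left w) ∈ Set.range U.ι
      rw [← comp_left_apply, whiskerLeft_fst, Scheme.Opens.range_ι]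
      exact h1.2
    · show (snd G G).left ((G ◁ ι[G]).left w) ∈ Set.range U.ι
      rw [← comp_left_apply, whiskerLeft_snd, Scheme.Opens.range_ι, comp_left_apply]
      exact h2.2
  obtain ⟨z, hz⟩ := hr
  refine ⟨z, ?_⟩
  show (((i ⊗ₘ (i ≫ ι[G])) ≫ μ[G]).left) z = x
  have h4 : (i ⊗ₘ (i ≫ ι[G])) = (i ⊗ₘ i) ≫ (G ◁ ι[G]) := by
    ext1 <;> simp
  rw [h4, comp_left_apply, comp_left_apply, hz, ← comp_left_apply, ← comp_left_apply,
    ← whiskerLeft_comp_assoc, GrpObj.inv_comp_inv, whiskerLeft_id, Category.id_comp, h3]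

end Groth.Agent.S15352
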