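import Groth.Statements.S15353
import Groth.Agent.S3168
import Groth.Agent.S3169

set_option autoImplicit false
universe u
open CAlg

namespace Groth.Agent.S15353

open TensorProduct CommRing

theorem bijective_mapAlgebra_quotient {A : Type u} [CommRing A] (I : Ideal A) (hI : IsNilpotent I) :
    Function.Bijective (Pic.mapAlgebra A (A ⧸ I)) := by
  constructor
  · rw [injective_iff_map_eq_one]
    intro M hM
    rw [Pic.mapAlgebra_apply, Pic.mk_eq_one_iff] at hM
    obtain ⟨e⟩ := hM
    have h1 := Groth.Agent.S3169.result I hI (M : Type u) A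
      (e.trans (TensorProduct.AlgebraTensorModule.rid A (A ⧸ I) (A ⧸ I)).symm)
    rw [← Pic.mk_eq_self (M := M), Pic.mk_eq_one_iff]
    exact h1
  · intro N
    obtain ⟨P, _, _, hP, ⟨eP⟩⟩ := Groth.Agent.S3168.result I hI (N : Type u)
    obtain ⟨Q, _, _, hQ, ⟨eQ⟩⟩ := Groth.Agent.S3168.result I hI (Module.Dual (A ⧸ I) (N : Type u))
    have e : (A ⧸ I) ⊗[A] (Q ⊗[A] P) ≃ₗ[A ⧸ I] (A ⧸ I) ⊗[A] A :=
      ((AlgebraTensorModule.distribBaseChange A (A ⧸ I) Q P).trans
        (TensorProduct.congr eQ eP)).trans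
      ((Module.Invertible.linearEquiv (A ⧸ I) (N : Type u)).trans
        (TensorProduct.AlgebraTensorModule.rid A (A ⧸ I) (A ⧸ I)).symm)
    obtain ⟨e'⟩ := Groth.Agent.S3169.result I hI (Q ⊗[A] P) A e
    have hinv : Module.Invertible A P := Module.Invertible.right e'
    refine ⟨Pic.mk A P, ?_⟩
    rw [Pic.mapAlgebra_apply, Pic.mk_eq_iff]
    exact ⟨(AlgebraTensorModule.congr (LinearEquiv.refl (A ⧸ I) (A ⧸ I)) (Pic.mk.linearEquiv A P)).trans eP⟩

/-- Let f : A' → A be a surjective ring homomorphism whose kernel is a nilpotent ideal. Then the induced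
homomorphism of Picard groups Pic(A') → Pic(A), base change of invertible modules along f, is
bijective. -/
theorem result {A' A : Type u} [CommRing A'] [CommRing A]
    (f : A' →+* A) (hf : Function.Surjective f) (hker : IsNilpotent (RingHom.ker f)) :
    Function.Bijective (CommRing.Pic.mapRingHom f) := by
  let e : (A' ⧸ RingHom.ker f) ≃+* A := RingHom.quotientKerEquivOfSurjective hf
  have hfe : f = (e : (A' ⧸ RingHom.ker f) →+* A).comp (Ideal.Quotient.mk (RingHom.ker f)) := by
    ext x; rfl
  have h1 : Function.Bijective (CommRing.Pic.mapRingHom (Ideal.Quotient.mk (RingHom.ker f))) := by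
    have := bijective_mapAlgebra_quotient (RingHom.ker f) hker
    rwa [← CommRing.Pic.mapRingHom_algebraMap] at this
  have h2 : Function.Bijective (CommRing.Pic.mapRingHom (e : (A' ⧸ RingHom.ker f) →+* A)) := by
    refine Function.bijective_iff_has_inverse.2
      ⟨CommRing.Pic.mapRingHom (e.symm : A →+* (A' ⧸ RingHom.ker f)), ?_, ?_⟩
    · intro x
      rw [CommRing.Pic.mapRingHom_mapRingHom]
      simp [CommRing.Pic.mapRingHom_id]
    · intro x
      rw [CommRing.Pic.mapRingHom_mapRingHom]
      simp [CommRing.Pic.mapRingHom_id]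
  have h3 : CommRing.Pic.mapRingHom f = (CommRing.Pic.mapRingHom (e : (A' ⧸ RingHom.ker f) →+* A)).comp
      (CommRing.Pic.mapRingHom (Ideal.Quotient.mk (RingHom.ker f))) := by
    rw [CommRing.Pic.mapRingHom_comp_mapRingHom, ← hfe]
  rw [h3]
  exact h2.comp h1

end Groth.Agent.S15353
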