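import Groth.Statements.S15354
import Groth.Agent.Mor.K387.Points

set_option autoImplicit false
universe u
open CategoryTheory CategoryTheory.Limits AlgebraicGeometry
open Mor

namespace Groth.Agent.S15354

/-- Let f : Y ⟶ X be a morphism of schemes, A a valuation ring with fraction field K and residue field
k, and ξ, η : Spec A ⟶ Y two A-points of Y over the same A-point of X. If ξ and η restrict to the
same K-point and to the same k-point of Y, then ξ = η. (The published statement is an equivalence,
for algebraic spaces locally of finite presentation over a Noetherian scheme, between local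
separatedness of f and conditions (a), (b); this row is the necessity of (a) in the case of schemes,
where no hypothesis on f is needed.) -/
theorem result {X Y : Scheme.{u}} (f : Y ⟶ X)
    (A : Type u) [CommRing A] [IsDomain A] [ValuationRing A] (K : Type u) [Field K] [Algebra A K]
    [IsFractionRing A K] (ξ η : Spec (CommRingCat.of A) ⟶ Y) (hf : ξ ≫ f = η ≫ f)
    (hK : Spec.map (CommRingCat.ofHom (algebraMap A K)) ≫ ξ = Spec.map (CommRingCat.ofHom (algebraMap A K)) ≫ η)
    (hk : Spec.map (CommRingCat.ofHom (IsLocalRing.residue A)) ≫ ξ =
      Spec.map (CommRingCat.ofHom (IsLocalRing.residue A)) ≫ η) :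
    ξ = η := by
  refine K387.Points.eq_of_generic_closed A K ξ η hK ?_
  have z : ↥(Spec (CommRingCat.of (IsLocalRing.ResidueField A))) :=
    IsLocalRing.closedPoint (IsLocalRing.ResidueField A)
  have h0 : Spec.map (CommRingCat.ofHom (IsLocalRing.residue A)) z = IsLocalRing.closedPoint A := by
    have h2 : z = IsLocalRing.closedPoint (IsLocalRing.ResidueField A) := Subsingleton.elim _ _
    rw [h2]
    exact K387.Points.specMap_residue_closedPoint
  have h1 : (Spec.map (CommRingCat.ofHom (IsLocalRing.residue A)) ≫ ξ) z =
      (Spec.map (CommRingCat.ofHom (IsLocalRing.residue A)) ≫ η) z := by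
    rw [hk]
  rw [Scheme.Hom.comp_apply, Scheme.Hom.comp_apply, h0] at h1
  exact h1

end Groth.Agent.S15354
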