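import Groth.Statements.S15359
import Mathlib.Tactic.Ring
import Mathlib.Tactic.LinearCombination
import Mathlib.Tactic.Push
import Mathlib.Tactic.ByContra

set_option autoImplicit false
universe u v
open GalCoh

namespace Groth.Agent.S15359

/-- Let Γ be a commutative group, F a field and χ : Γ → Fˣ a character which is not identically 1. Then
every 1-cocycle c of Γ with values in the one-dimensional representation F(χ), i.e. every map c with
c(gh) = c(g) + χ(g)c(h), is a 1-coboundary: there is x ∈ F with c(g) = (χ(g) − 1)x for all g.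
Equivalently H¹(Γ, F(χ)) = 0. (The published statement allows an arbitrary character; for the
trivial character the 1-cocycles are the additive homomorphisms Γ → F, which need not vanish, and
the published argument uses an element at which the character is not 1, so the character is assumed
non-trivial here.) -/
theorem result
    (Γ : Type u) [CommGroup Γ] (F : Type v) [Field F] (χ : Γ →* Fˣ) (hχ : χ ≠ 1)
    (c : Γ → F) (hc : ∀ g h : Γ, c (g * h) = c g + (χ g : F) * c h) :
    ∃ x : F, ∀ g : Γ, c g = ((χ g : F) - 1) * x := by
  obtain ⟨g₀, hg₀⟩ : ∃ g, χ g ≠ 1 := by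
    by_contra hcon
    push Not at hcon
    exact hχ (MonoidHom.ext hcon)
  have hne : ((χ g₀ : F) - 1) ≠ 0 := by
    rw [sub_ne_zero]
    intro e
    exact hg₀ (Units.ext e)
  refine ⟨((χ g₀ : F) - 1)⁻¹ * c g₀, fun g => ?_⟩
  have h1 : c g + (χ g : F) * c g₀ = c g₀ + (χ g₀ : F) * c g := by
    rw [← hc, ← hc, mul_comm]
  have h2 : ((χ g₀ : F) - 1) * c g = ((χ g : F) - 1) * c g₀ := by
    linear_combination -h1
  have h3 : c g = ((χ g₀ : F) - 1)⁻¹ * (((χ g₀ : F) - 1) * c g) := by
    rw [inv_mul_cancel_left₀ hne]
  rw [h3, h2]
  ring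

end Groth.Agent.S15359
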