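import Groth.Statements.S15360
import Groth.Agent.GalCoh.K446.GL2Zp

set_option autoImplicit false
universe u
open GalCoh

namespace Groth.Agent.S15360

/-- Let 𝔊 be a profinite group and ϕ : 𝔊 → GL₂(ℤ_p) a continuous homomorphism. Then ϕ is surjective if
and only if (i) the composite of ϕ with reduction modulo p, 𝔊 → GL₂(𝔽_p), is surjective, and (ii)
for every integer n ≥ 1 there is g ∈ 𝔊 such that ϕ(g) has the form [[1 + pⁿa, pⁿ⁺¹b], [pⁿ⁺¹c, 1 +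
pⁿ⁺¹d]] with a, b, c, d ∈ ℤ_p and a not divisible by p (equivalently: the image of ϕ⁻¹(1 +
pⁿM₂(ℤ_p)) in M₂(𝔽_p) under g ↦ (ϕ(g) − 1)/pⁿ contains a matrix [[x, 0], [0, 0]] with x ≠ 0).
Continuity of ϕ is expressed through its matrix entries. -/
theorem result (p : ℕ) [Fact p.Prime]
    (𝔊 : Type u) [Group 𝔊] [TopologicalSpace 𝔊] [IsTopologicalGroup 𝔊] [CompactSpace 𝔊] [T2Space 𝔊]
    [TotallyDisconnectedSpace 𝔊]
    (ϕ : 𝔊 →* GL (Fin 2) ℤ_[p])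
    (hϕ : Continuous fun g => ((ϕ g : GL (Fin 2) ℤ_[p]) : Matrix (Fin 2) (Fin 2) ℤ_[p])) :
    Function.Surjective ϕ ↔
      (Function.Surjective ((Matrix.GeneralLinearGroup.map (n := Fin 2) (PadicInt.toZMod (p := p))).comp ϕ) ∧
        ∀ n : ℕ, 1 ≤ n → ∃ (g : 𝔊) (a b c d : ℤ_[p]), ¬ ((p : ℤ_[p]) ∣ a) ∧
          ((ϕ g : GL (Fin 2) ℤ_[p]) : Matrix (Fin 2) (Fin 2) ℤ_[p]) =
            !![1 + (p : ℤ_[p]) ^ n * a, (p : ℤ_[p]) ^ (n + 1) * b;
               (p : ℤ_[p]) ^ (n + 1) * c, 1 + (p : ℤ_[p]) ^ (n + 1) * d]) := by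
  constructor
  · intro hsurj
    refine ⟨K446.GL2Zp.red_surjective_GL.comp hsurj, fun n hn => ?_⟩
    have hdet : IsUnit (Matrix.det (!![1 + (p : ℤ_[p]) ^ n * 1, (p : ℤ_[p]) ^ (n + 1) * 0;
        (p : ℤ_[p]) ^ (n + 1) * 0, 1 + (p : ℤ_[p]) ^ (n + 1) * 0] : Matrix (Fin 2) (Fin 2) ℤ_[p])) := by
      apply K446.GL2Zp.isUnit_of_red
      rw [Matrix.det_fin_two_of]
      simp only [mul_zero, mul_one, add_zero, sub_zero, map_add, map_one, map_pow, map_natCast,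
        CharP.cast_eq_zero]
      rw [zero_pow (by omega), add_zero]
      exact one_ne_zero
    have hu := (Matrix.isUnit_iff_isUnit_det _).mpr hdet
    obtain ⟨g, hg⟩ := hsurj hu.unit
    refine ⟨g, 1, 0, 0, 0, ?_, ?_⟩
    · intro h
      have h2 : IsUnit (p : ℤ_[p]) := isUnit_of_dvd_one h
      exact PadicInt.prime_p.not_unit h2
    · rw [hg]
      exact hu.unit_spec
  · rintro ⟨h1, h2⟩ g
    have hH : ∀ x : GL (Fin 2) (ZMod p), ∃ h ∈ ϕ.range,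
        Matrix.GeneralLinearGroup.map (n := Fin 2) (PadicInt.toZMod (p := p)) h = x := by
      intro x
      obtain ⟨y, hy⟩ := h1 x
      exact ⟨ϕ y, ⟨y, rfl⟩, hy⟩
    have hV : ∀ n, 1 ≤ n → ∀ Y : Matrix (Fin 2) (Fin 2) (ZMod p), Y ∈ K446.GL2Zp.V ϕ.range n := by
      intro n hn Y
      obtain ⟨y, a, b, c, d, ha, hy⟩ := h2 n hn
      refine K446.GL2Zp.V_eq_univ ϕ.range n hn hH (PadicInt.toZMod a) ?_ ?_ Y
      · rw [Ne, K446.GL2Zp.toZMod_eq_zero_iff]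
        exact ha
      · refine ⟨ϕ y, ⟨y, rfl⟩, !![a, (p : ℤ_[p]) * b; (p : ℤ_[p]) * c, (p : ℤ_[p]) * d], ?_, ?_⟩
        · rw [hy]
          ext i j
          fin_cases i <;> fin_cases j <;> simp <;> ring
        · ext i j
          fin_cases i <;> fin_cases j <;> simp [K446.GL2Zp.red]
    have hcl : (g : Matrix (Fin 2) (Fin 2) ℤ_[p]) ∈ closure (Set.range fun y : 𝔊 =>
        ((ϕ y : GL (Fin 2) ℤ_[p]) : Matrix (Fin 2) (Fin 2) ℤ_[p])) := by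
      apply K446.GL2Zp.mem_closure_of_approx
      intro n
      obtain ⟨h, ⟨y, rfl⟩, X, hX⟩ := K446.GL2Zp.approx ϕ.range hH hV g n
      exact ⟨_, ⟨y, rfl⟩, X, hX⟩
    have hclosed : IsClosed (Set.range fun y : 𝔊 =>
        ((ϕ y : GL (Fin 2) ℤ_[p]) : Matrix (Fin 2) (Fin 2) ℤ_[p])) :=
      (isCompact_range hϕ).isClosed
    rw [hclosed.closure_eq] at hcl
    obtain ⟨y, hy⟩ := hcl
    exact ⟨y, Units.ext hy⟩

end Groth.Agent.S15360
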