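import Groth.Statements.S15362
import Groth.Agent.S0077
import Mathlib.RingTheory.IntegralClosure.IsIntegral.Basic
import Mathlib.RingTheory.Adjoin.FG
import Mathlib.LinearAlgebra.FiniteDimensional.Basic

set_option autoImplicit false
universe u v w
open CAlg

namespace Groth.Agent.S15362

/-- `F - id` is surjective on a finite-dimensional space, in arbitrary universes. -/
theorem surjective_findim {k : Type u} {V : Type w} [Field k] [IsAlgClosed k] (p : ℕ) [Fact p.Prime]
    [CharP k p] [AddCommGroup V] [Module k V] [FiniteDimensional k V] (F : V →+ V)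
    (hF : ∀ (c : k) (v : V), F (c • v) = c ^ p • F v) :
    Function.Surjective fun v => F v - v := by
  let e := (Module.finBasis k V).equivFun
  let F' : (Fin (Module.finrank k V) → k) →+ (Fin (Module.finrank k V) → k) :=
    (e : V →+ _).comp (F.comp (e.symm : _ →+ V))
  have hF'apply : ∀ x, F' x = e (F (e.symm x)) := fun x => rfl
  have hF' : ∀ (c : k) (v), F' (c • v) = c ^ p • F' v := by
    intro c v
    rw [hF'apply, hF'apply, map_smul, hF, map_smul]
  intro w
  obtain ⟨x, hx⟩ := Groth.Agent.S0077.result p F' hF' (e w)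
  refine ⟨e.symm x, ?_⟩
  apply e.injective
  change e (F (e.symm x) - e.symm x) = e w
  rw [map_sub, e.apply_symm_apply, ← hF'apply]
  exact hx

/-- For an algebraically closed field L of characteristic p > 0, a commutative L-algebra R integral over
L, and a finitely presented R-module M carrying an additive endomorphism φ with φ(r·m) = r^p·φ(m)
for r ∈ R, m ∈ M, the map m ↦ φ(m) − m is onto. (R is taken of exponential characteristic p so that
its Frobenius is a ring endomorphism; for a non-zero L-algebra this is automatic.) -/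
theorem result (p : ℕ) [Fact p.Prime]
    (L : Type u) [Field L] [IsAlgClosed L] [CharP L p]
    (R : Type v) [CommRing R] [Algebra L R] [Algebra.IsIntegral L R] [ExpChar R p]
    (M : Type w) [AddCommGroup M] [Module R M] [Module.FinitePresentation R M]
    (φ : M →ₛₗ[frobenius R p] M) :
    Function.Surjective fun m : M => φ m - m := by
  classical
  intro m
  letI : Module L M := Module.compHom M (algebraMap L R)
  have hsm : ∀ (c : L) (x : M), c • x = algebraMap L R c • x := fun c x => rfl
  have htower : IsScalarTower L R M := ⟨fun c r x => by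
    rw [Algebra.smul_def, mul_smul]; rfl⟩
  obtain ⟨n, s, hs⟩ := Module.Finite.exists_fin (R := R) (M := M)
  have hex : ∀ x : M, ∃ c : Fin n → R, ∑ i, c i • s i = x := fun x =>
    Submodule.mem_span_range_iff_exists_fun R |>.1 (hs ▸ Submodule.mem_top)
  choose a ha using fun i => hex (φ (s i))
  obtain ⟨b, hb⟩ := hex m
  let T : Set R := Set.range (fun ij : Fin n × Fin n => a ij.1 ij.2) ∪ Set.range b
  have hT : T.Finite := (Set.finite_range _).union (Set.finite_range _)
  let R₀ : Subalgebra L R := Algebra.adjoin L T
  have hR₀ : Module.Finite L R₀ := by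
    have := fg_adjoin_of_finite (R := L) hT (fun x _ => Algebra.IsIntegral.isIntegral x)
    exact Module.Finite.iff_fg.2 this
  have ha₀ : ∀ i j, a i j ∈ R₀ := fun i j =>
    Algebra.subset_adjoin (Or.inl ⟨(i, j), rfl⟩)
  have hb₀ : ∀ i, b i ∈ R₀ := fun i => Algebra.subset_adjoin (Or.inr ⟨i, rfl⟩)
  let ψ : (Fin n → R₀) →ₗ[L] M :=
    { toFun := fun c => ∑ i, (c i : R) • s i
      map_add' := fun c d => by
        simp [add_smul, Finset.sum_add_distrib]
      map_smul' := fun r c => by
        simp [Finset.smul_sum] }
  have hψ : ∀ c, ψ c = ∑ i, (c i : R) • s i := fun c => rfl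
  let V : Submodule L M := LinearMap.range ψ
  have hV : FiniteDimensional L V := inferInstance
  have hφV : ∀ x ∈ V, φ x ∈ V := by
    rintro _ ⟨c, rfl⟩
    refine ⟨fun j => ∑ i, (c i) ^ p * ⟨a i j, ha₀ i j⟩, ?_⟩
    rw [hψ, hψ, map_sum]
    simp only [map_smulₛₗ, ← ha, Finset.smul_sum, frobenius_def]
    rw [Finset.sum_comm]
    refine Finset.sum_congr rfl fun j _ => ?_
    rw [AddSubmonoidClass.coe_finsetSum, Finset.sum_smul]
    refine Finset.sum_congr rfl fun i _ => ?_
    rw [MulMemClass.coe_mul, SubmonoidClass.coe_pow, mul_smul]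
  let F : V →+ V :=
    { toFun := fun x => ⟨φ x, hφV x x.2⟩
      map_zero' := by ext; simp
      map_add' := fun x y => by ext; simp }
  have hF : ∀ (c : L) (v : V), F (c • v) = c ^ p • F v := by
    intro c v
    apply Subtype.ext
    change φ (c • (v : M)) = c ^ p • φ (v : M)
    rw [hsm, hsm, map_smulₛₗ, frobenius_def, map_pow]
  obtain ⟨x, hx⟩ := surjective_findim p F hF ⟨m, ⟨fun i => ⟨b i, hb₀ i⟩, hb⟩⟩
  exact ⟨x, congrArg Subtype.val hx⟩

end Groth.Agent.S15362
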