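import Groth.Statements.S15364
import Groth.Agent.AbSch.K449.Push
import Groth.Agent.AbSch.K449.AffFac
import Groth.Agent.Flat2B.SmoothGeom

set_option autoImplicit false
universe u
open CategoryTheory CategoryTheory.Limits MonoidalCategory CartesianMonoidalCategory AlgebraicGeometry
open AbSch

namespace Groth.Agent.S15364

/-- For an abelian scheme f : A → T (a commutative T-group scheme, proper and smooth over T with
geometrically connected fibres) and a commutative group scheme H finite and locally free over T, the
adjunction map H → f_* f^* H of fppf sheaves on T is an isomorphism, i.e. for every T-scheme U the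
map H(U) → H(A ×_T U), s ↦ s ∘ pr, is bijective. This row states the case U = T, to which the
general case reduces by base change: composition with the structure morphism A → T is a bijection
from the sections of H over T onto the T-morphisms A → H. The group structure of H plays no role and
is not assumed. (The published statement has an arbitrary base T; the published argument rests on
the rigidity lemma in its form for Noetherian schemes, so T is taken locally Noetherian here.) -/
theorem result {T : Scheme.{u}} [IsLocallyNoetherian T]
    (A : Over T) [GrpObj A] [IsCommMonObj A] [IsProper A.hom] [Smooth A.hom] [GeometricallyConnected A.hom]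
    (H : Over T) [IsFinite H.hom] [Flat H.hom] [LocallyOfFinitePresentation H.hom] :
    Function.Bijective fun s : (𝟙_ (Over T) ⟶ H) => toUnit A ≫ s := by
  have hη : MonObj.one (X := A) ≫ toUnit A = 𝟙 _ := toUnit_unique _ _
  refine ⟨fun s t hst => ?_, fun d => ⟨MonObj.one (X := A) ≫ d, ?_⟩⟩
  · have h1 := congrArg (fun φ => MonObj.one (X := A) ≫ φ) hst
    simpa [reassoc_of% hη] using h1
  · have hred : GeometricallyReduced A.hom :=
      Groth.Agent.Flat2B.SmoothGeom.geometricallyReduced_of_smooth A.hom
    have hb : ∀ V : T.Opens, IsIso (A.hom.app V) := K449.Push.isIso_app A
    have he : (MonObj.one (X := A)).left ≫ A.hom = 𝟙 T := by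
      rw [Over.w]
      rfl
    refine Over.OverMorphism.ext ?_
    exact (K449.AffFac.eq_of_isAffineHom A.hom hb (MonObj.one (X := A)).left he H.hom d.left
      (Over.w d)).symm

end Groth.Agent.S15364
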