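import Groth.Statements.S15365
import Mathlib.RingTheory.Smooth.StandardSmoothCotangent
import Mathlib.LinearAlgebra.Matrix.ToLinearEquiv
import Mathlib.Algebra.TrivSqZeroExt.Basic
import Mathlib.Algebra.DualNumber

set_option autoImplicit false
universe u
open scoped BigOperators
open CAlg

namespace Groth.Agent.S15365

/-- The `j`-th relation. -/
noncomputable def rel (p : ℕ) {A : Type u} [CommRing A] (n : ℕ) (h : Matrix (Fin n) (Fin n) A) (j : Fin n) :
    MvPolynomial (Fin n) A :=
  (MvPolynomial.X j : MvPolynomial (Fin n) A) ^ p -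
          ∑ i : Fin n, MvPolynomial.C (h i j) * MvPolynomial.X i

theorem pderiv_rel (p : ℕ) [Fact p.Prime] {A : Type u} [CommRing A] [CharP A p] (n : ℕ)
    (h : Matrix (Fin n) (Fin n) A) (i j : Fin n) :
    MvPolynomial.pderiv i (rel p n h j) = - MvPolynomial.C (h i j) := by
  classical
  have hp0 : ((p : ℕ) : MvPolynomial (Fin n) A) = 0 := by
    rw [← map_natCast (MvPolynomial.C : A →+* MvPolynomial (Fin n) A), CharP.cast_eq_zero, map_zero]
  rw [rel, map_sub, Derivation.leibniz_pow, map_sum]
  simp only [Derivation.leibniz, MvPolynomial.pderiv_X, MvPolynomial.pderiv_C, smul_eq_mul,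
    nsmul_eq_mul, hp0, zero_mul, zero_sub]
  congr 1
  rw [Finset.sum_eq_single i]
  · simp
  · intro b _ hb
    simp [hb.symm]
  · simp

theorem etale_of_isUnit (p : ℕ) [Fact p.Prime]
    (A : Type u) [CommRing A] [CharP A p] (n : ℕ) (h : Matrix (Fin n) (Fin n) A) (hu : IsUnit h.det) :
    Algebra.Etale A (MvPolynomial (Fin n) A ⧸ Ideal.span (Set.range (rel p n h))) := by
  classical
  let P : Algebra.PreSubmersivePresentation A
      (MvPolynomial (Fin n) A ⧸ Ideal.span (Set.range (rel p n h))) (Fin n) (Fin n) :=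
    Algebra.PreSubmersivePresentation.naive (v := rel p n h) id Function.injective_id
  have hJ : P.jacobiMatrix = (-h).map (MvPolynomial.C : A →+* MvPolynomial (Fin n) A) := by
    ext1 i j
    rw [Algebra.PreSubmersivePresentation.jacobiMatrix_naive]
    simp only [id, pderiv_rel, Matrix.map_apply, Matrix.neg_apply, map_neg]
  have hJu : IsUnit P.jacobian := by
    rw [P.jacobian_eq_jacobiMatrix_det, hJ, ← RingHom.mapMatrix_apply, ← RingHom.map_det, Matrix.det_neg]
    refine IsUnit.map _ (IsUnit.map _ (IsUnit.mul ?_ hu))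
    exact (isUnit_one.neg).pow _
  let P' : Algebra.SubmersivePresentation A
      (MvPolynomial (Fin n) A ⧸ Ideal.span (Set.range (rel p n h))) (Fin n) (Fin n) :=
    { P with jacobian_isUnit := hJu }
  have : Algebra.IsStandardSmoothOfRelativeDimension 0 A
      (MvPolynomial (Fin n) A ⧸ Ideal.span (Set.range (rel p n h))) :=
    P'.isStandardSmoothOfRelativeDimension (by
      simp [Algebra.Presentation.dimension])
  infer_instance

theorem det_ne_zero (p : ℕ) [Fact p.Prime]
    (A : Type u) [CommRing A] [CharP A p] (n : ℕ) (h : Matrix (Fin n) (Fin n) A)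
    [Algebra.FormallyUnramified A (MvPolynomial (Fin n) A ⧸ Ideal.span (Set.range (rel p n h)))]
    (K : Type u) [Field K] [Algebra A K] : (algebraMap A K) h.det ≠ 0 := by
  classical
  intro h0
  rw [RingHom.map_det] at h0
  obtain ⟨c, hc0, hc⟩ := Matrix.exists_vecMul_eq_zero_iff.2 h0
  have hev : ∀ d : Fin n → K, Matrix.vecMul d ((algebraMap A K).mapMatrix h) = 0 →
      ∀ a ∈ Ideal.span (Set.range (rel p n h)),
        MvPolynomial.aeval (R := A) (fun i => (TrivSqZeroExt.inr (d i) : TrivSqZeroExt K K)) a = 0 := by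
    intro d hd a ha
    have hle : Ideal.span (Set.range (rel p n h)) ≤ RingHom.ker (MvPolynomial.aeval (R := A)
        (fun i => (TrivSqZeroExt.inr (d i) : TrivSqZeroExt K K))) := by
      rw [Ideal.span_le]
      rintro _ ⟨j, rfl⟩
      rw [SetLike.mem_coe, RingHom.mem_ker, rel, map_sub, map_pow, MvPolynomial.aeval_X, map_sum]
      have h1 : (TrivSqZeroExt.inr (d j) : TrivSqZeroExt K K) ^ p = 0 := by
        obtain ⟨q, hq⟩ : ∃ q, p = q + 2 := ⟨p - 2, by have := (Fact.out : p.Prime).two_le; omega⟩
        rw [hq, pow_add, pow_two (TrivSqZeroExt.inr (d j)), TrivSqZeroExt.inr_mul_inr, mul_zero]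
      rw [h1, zero_sub, neg_eq_zero]
      have h2 : ∀ i : Fin n, (MvPolynomial.aeval (R := A)
          (fun i => (TrivSqZeroExt.inr (d i) : TrivSqZeroExt K K)))
            (MvPolynomial.C (h i j) * MvPolynomial.X i) =
            TrivSqZeroExt.inr (d i * algebraMap A K (h i j)) := by
        intro i
        rw [map_mul, MvPolynomial.aeval_X, MvPolynomial.aeval_C, ← Algebra.smul_def,
          ← TrivSqZeroExt.inr_smul, Algebra.smul_def, mul_comm]
      rw [Finset.sum_congr rfl (fun i _ => h2 i), ← TrivSqZeroExt.inr_sum]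
      have h3 := congrFun hd j
      rw [Matrix.vecMul, Pi.zero_apply, dotProduct] at h3
      simp only [RingHom.mapMatrix_apply, Matrix.map_apply] at h3
      rw [h3, TrivSqZeroExt.inr_zero]
    exact hle ha
  let g (d : Fin n → K) (hd : Matrix.vecMul d ((algebraMap A K).mapMatrix h) = 0) :
      (MvPolynomial (Fin n) A ⧸ Ideal.span (Set.range (rel p n h))) →ₐ[A] TrivSqZeroExt K K :=
    Ideal.Quotient.liftₐ _ (MvPolynomial.aeval (R := A)
        (fun i => (TrivSqZeroExt.inr (d i) : TrivSqZeroExt K K))) (hev d hd)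
  have hg : ∀ d hd i, g d hd (Ideal.Quotient.mk _ (MvPolynomial.X i)) = TrivSqZeroExt.inr (d i) := by
    intro d hd i
    change MvPolynomial.aeval (R := A)
        (fun i => (TrivSqZeroExt.inr (d i) : TrivSqZeroExt K K)) (MvPolynomial.X i) = _
    rw [MvPolynomial.aeval_X]
  let I : Ideal (TrivSqZeroExt K K) := RingHom.ker (TrivSqZeroExt.fstHom K K K)
  have hmemI : ∀ x : TrivSqZeroExt K K, x ∈ I → x = TrivSqZeroExt.inr x.snd := by
    intro x hx
    ext
    · exact hx
    · rfl
  have hI : I ^ 2 = ⊥ := by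
    rw [pow_two, eq_bot_iff, Ideal.mul_le]
    intro x hx y hy
    rw [hmemI x hx, hmemI y hy, TrivSqZeroExt.inr_mul_inr]
    exact zero_mem _
  have h00 : Matrix.vecMul (0 : Fin n → K) ((algebraMap A K).mapMatrix h) = 0 := Matrix.zero_vecMul _
  have heq : g c hc = g 0 h00 := by
    apply Algebra.FormallyUnramified.lift_unique I ⟨2, hI⟩
    apply Ideal.Quotient.algHom_ext
    apply MvPolynomial.algHom_ext
    intro i
    change (Ideal.Quotient.mk I) (g c hc (Ideal.Quotient.mk _ (MvPolynomial.X i))) =
      (Ideal.Quotient.mk I) (g 0 h00 (Ideal.Quotient.mk _ (MvPolynomial.X i)))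
    rw [hg c hc i, hg 0 h00 i, Ideal.Quotient.eq]
    refine I.sub_mem ?_ ?_
    · exact TrivSqZeroExt.fst_inr K (c i)
    · exact TrivSqZeroExt.fst_inr K ((0 : Fin n → K) i)
  apply hc0
  funext i
  have h4 := congrArg (fun f => f (Ideal.Quotient.mk _ (MvPolynomial.X i))) heq
  simp only [hg c hc i, hg 0 h00 i] at h4
  exact TrivSqZeroExt.inr_injective h4

/-- Let A be a commutative ring of characteristic p > 0 and (h_{ij})_{1 ≤ i,j ≤ n} a square matrix over
A, the matrix of a commutative p-Lie algebra (L, φ) with L free with basis e_1, …, e_n and φ(e_j) =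
Σ_i h_{ij} e_i. The associated finite group scheme Spec A[X_1, …, X_n]/(X_j^p − Σ_i h_{ij} X_i)_{1 ≤
j ≤ n} is étale over A if and only if the matrix (h_{ij}) is invertible, i.e. its determinant is a
unit of A. Only the algebra structure enters this assertion. -/
theorem result (p : ℕ) [Fact p.Prime]
    (A : Type u) [CommRing A] [CharP A p] (n : ℕ) (h : Matrix (Fin n) (Fin n) A) :
    Algebra.Etale A (MvPolynomial (Fin n) A ⧸ Ideal.span (Set.range fun j : Fin n =>
        (MvPolynomial.X j : MvPolynomial (Fin n) A) ^ p -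
          ∑ i : Fin n, MvPolynomial.C (h i j) * MvPolynomial.X i)) ↔
      IsUnit h.det := by
  constructor
  · intro hE
    have hE' : Algebra.Etale A (MvPolynomial (Fin n) A ⧸ Ideal.span (Set.range (rel p n h))) := hE
    have : Algebra.FormallyUnramified A (MvPolynomial (Fin n) A ⧸ Ideal.span (Set.range (rel p n h))) :=
      inferInstance
    by_contra hu
    obtain ⟨m, hm, hmem⟩ := exists_max_ideal_of_mem_nonunits hu
    let := Ideal.Quotient.field m
    refine det_ne_zero p A n h (A ⧸ m) ?_
    exact Ideal.Quotient.eq_zero_iff_mem.2 hmem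
  · intro hu
    exact etale_of_isUnit p A n h hu

end Groth.Agent.S15365
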