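import Groth.Statements.S15366
import Mathlib.FieldTheory.IsAlgClosed.AlgebraicClosure
import Mathlib.RingTheory.MvPowerSeries.Equiv
import Mathlib.RingTheory.PowerSeries.Inverse
import Mathlib.RingTheory.AdicCompletion.Completeness

set_option autoImplicit false
universe u
open CAlg

namespace Groth.Agent.S15366

open PowerSeries in
theorem main (p : ℕ) [Fact p.Prime] (k : Type u) [Field k] [IsAlgClosed k] [CharP k p]
    (P : Ideal (MvPowerSeries (Fin 2) k))
    (hP : P = Ideal.span {(MvPowerSeries.X 0 : MvPowerSeries (Fin 2) k)}) [P.IsPrime] :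
    ∃ (A : Type u) (_ : CommRing A) (_ : IsDomain A) (_ : IsDiscreteValuationRing A) (_ : Algebra k A)
      (φ : Localization.AtPrime P →ₐ[k] A),
      IsAdicComplete (IsLocalRing.maximalIdeal A) A ∧ IsAlgClosed (IsLocalRing.ResidueField A) ∧
        Function.Injective φ ∧ IsLocalHom φ.toRingHom ∧
          Irreducible (φ (algebraMap (MvPowerSeries (Fin 2) k) (Localization.AtPrime P)
            (MvPowerSeries.X 0))) := by
  let B := MvPowerSeries (Fin 1) k
  let F := FractionRing B
  let Ω := AlgebraicClosure F
  let ι : B →+* Ω := (algebraMap F Ω).comp (algebraMap B F)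
  have hι : Function.Injective ι :=
    (algebraMap F Ω).injective.comp (IsFractionRing.injective B F)
  let e : MvPowerSeries (Fin 2) k ≃ₐ[k] PowerSeries B := MvPowerSeries.finSuccEquiv k 1
  letI algA : Algebra k (PowerSeries Ω) :=
    (((PowerSeries.map ι).comp (e.toAlgHom.toRingHom)).comp
      (algebraMap k (MvPowerSeries (Fin 2) k))).toAlgebra
  let f : MvPowerSeries (Fin 2) k →ₐ[k] PowerSeries Ω :=
    { toRingHom := (PowerSeries.map ι).comp (e.toAlgHom.toRingHom)
      commutes' := fun r => rfl }
  have hfapp : ∀ x, f x = PowerSeries.map ι (e x) := fun x => rfl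
  have hmapinj : Function.Injective (PowerSeries.map ι) := by
    intro a b hab
    ext n : 1
    have := congrArg (PowerSeries.coeff n) hab
    rw [PowerSeries.coeff_map, PowerSeries.coeff_map] at this
    exact hι this
  have hfinj : Function.Injective f := fun a b hab => e.injective (hmapinj hab)
  have heX : e (MvPowerSeries.X 0) = PowerSeries.X := MvPowerSeries.finSuccEquiv_X_zero
  have hmem : ∀ x : MvPowerSeries (Fin 2) k, x ∈ P ↔ PowerSeries.constantCoeff (e x) = 0 := by
    intro x
    rw [hP, Ideal.mem_span_singleton, ← PowerSeries.X_dvd_iff, ← heX]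
    exact (map_dvd_iff e).symm
  have hunit : ∀ x : MvPowerSeries (Fin 2) k, x ∉ P → IsUnit (f x) := by
    intro x hx
    rw [PowerSeries.isUnit_iff_constantCoeff, hfapp, ← PowerSeries.coeff_zero_eq_constantCoeff_apply,
      PowerSeries.coeff_map, PowerSeries.coeff_zero_eq_constantCoeff_apply, isUnit_iff_ne_zero]
    intro h0
    apply hx
    rw [hmem]
    exact hι (by rw [h0, map_zero])
  let φ : Localization.AtPrime P →ₐ[k] PowerSeries Ω :=
    IsLocalization.liftAlgHom (M := P.primeCompl) (f := f) (fun y => hunit y.1 y.2)
  have hφ : ∀ x, φ (algebraMap _ _ x) = f x := fun x => by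
    simp only [φ, IsLocalization.coe_liftAlgHom]
    exact IsLocalization.lift_eq _ x
  have hinj : Function.Injective φ := by
    rw [injective_iff_map_eq_zero]
    intro z hz
    obtain ⟨x, s, rfl⟩ := IsLocalization.exists_mk'_eq P.primeCompl z
    have h1 := congrArg φ (IsLocalization.mk'_spec (Localization.AtPrime P) x s)
    rw [map_mul, hz, zero_mul, hφ] at h1
    have hx : x = 0 := hfinj (by rw [← h1, map_zero])
    rw [hx, IsLocalization.mk'_zero]
  refine ⟨PowerSeries Ω, inferInstance, inferInstance, inferInstance, algA, φ, ?_, ?_, hinj, ?_, ?_⟩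
  · rw [PowerSeries.maximalIdeal_eq_span_X]
    infer_instance
  · exact IsAlgClosed.of_ringEquiv Ω _ PowerSeries.residueFieldOfPowerSeries.symm
  · constructor
    intro z hz
    obtain ⟨x, s, rfl⟩ := IsLocalization.exists_mk'_eq P.primeCompl z
    have h1 := congrArg φ (IsLocalization.mk'_spec (Localization.AtPrime P) x s)
    rw [map_mul, hφ, hφ] at h1
    have hz' : IsUnit (φ (IsLocalization.mk' (Localization.AtPrime P) x s)) := hz
    have h2 : IsUnit (f x) := by
      rw [← h1]; exact hz'.mul (hunit s.1 s.2)
    have h3 : x ∉ P := by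
      intro hx
      rw [PowerSeries.isUnit_iff_constantCoeff, hfapp,
        ← PowerSeries.coeff_zero_eq_constantCoeff_apply,
        PowerSeries.coeff_map, PowerSeries.coeff_zero_eq_constantCoeff_apply, (hmem x).1 hx,
        map_zero] at h2
      exact not_isUnit_zero h2
    rw [IsLocalization.AtPrime.isUnit_mk'_iff (Localization.AtPrime P) P]
    exact h3
  · rw [hφ, hfapp, heX, PowerSeries.map_X]
    exact PowerSeries.X_irreducible

/-- Let k be an algebraically closed field of characteristic p > 0, R = k[[t₁, t₂]], and O = R_{(t₁)}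
the local ring of Spec R at the generic point x of the divisor t₁ = 0 (a discrete valuation ring,
with uniformizer t₁ and residue field k((t₂))). Then O embeds, by an injective local k-algebra map
φ, into some complete discrete valuation ring A containing k whose residue field is algebraically
closed and in which φ(t₁) is still a uniformizer. The prime ideal (t₁) is passed as an ideal P equal
to it together with its primality. -/
theorem result
    (p : ℕ) [Fact p.Prime] (k : Type u) [Field k] [IsAlgClosed k] [CharP k p]
    (P : Ideal (MvPowerSeries (Fin 2) k))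
    (hP : P = Ideal.span {(MvPowerSeries.X 0 : MvPowerSeries (Fin 2) k)}) [P.IsPrime] :
    ∃ (A : Type u) (_ : CommRing A) (_ : IsDomain A) (_ : IsDiscreteValuationRing A) (_ : Algebra k A)
      (φ : Localization.AtPrime P →ₐ[k] A),
      IsAdicComplete (IsLocalRing.maximalIdeal A) A ∧ IsAlgClosed (IsLocalRing.ResidueField A) ∧
        Function.Injective φ ∧ IsLocalHom φ.toRingHom ∧
          Irreducible (φ (algebraMap (MvPowerSeries (Fin 2) k) (Localization.AtPrime P)
            (MvPowerSeries.X 0))) := by
  exact main p k P hP

end Groth.Agent.S15366
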