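import Groth.Statements.S15367
import Mathlib.Algebra.Module.PID
import Mathlib.RingTheory.DiscreteValuationRing.Basic
import Mathlib.LinearAlgebra.Pi
import Mathlib.LinearAlgebra.Dimension.Finrank
import Mathlib.LinearAlgebra.TensorProduct.Tower

set_option autoImplicit false
universe u v
open TensorProduct
open CAlg

namespace Groth.Agent.S15367

/-- `Hom(R/(a), R/(a b)) ≅ R/(a)` for a nonzero divisor `b`. -/
theorem nonempty_equiv_hom {R : Type u} [CommRing R] (a b : R) (hb : b ∈ nonZeroDivisors R)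
    (ha : a ∈ nonZeroDivisors R) :
    Nonempty (((R ⧸ Ideal.span {a}) →ₗ[R] (R ⧸ Ideal.span {a * b})) ≃ₗ[R] (R ⧸ Ideal.span {a})) := by
  -- multiplication by `b`
  have hle : Ideal.span {a} ≤ Submodule.comap (LinearMap.mulLeft R b) (Ideal.span {a * b}) := by
    rw [Ideal.span_le, Set.singleton_subset_iff, SetLike.mem_coe, Submodule.mem_comap,
      LinearMap.mulLeft_apply, mul_comm b a]
    exact Ideal.mem_span_singleton_self _
  let μ : (R ⧸ Ideal.span {a}) →ₗ[R] (R ⧸ Ideal.span {a * b}) :=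
    Submodule.mapQ (Ideal.span {a}) (Ideal.span {a * b}) (LinearMap.mulLeft R b) hle
  have hμ : ∀ x : R, μ (Ideal.Quotient.mk _ x) = Ideal.Quotient.mk _ (b * x) := fun x => rfl
  let φ : R →ₗ[R] ((R ⧸ Ideal.span {a}) →ₗ[R] (R ⧸ Ideal.span {a * b})) :=
    LinearMap.toSpanSingleton R _ μ
  have hφ : ∀ r x : R, φ r (Ideal.Quotient.mk _ x) = Ideal.Quotient.mk _ (r * (b * x)) := by
    intro r x
    rw [LinearMap.toSpanSingleton_apply, LinearMap.smul_apply, hμ]
    rfl
  have hker : LinearMap.ker φ = Ideal.span {a} := by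
    ext r
    rw [LinearMap.mem_ker]
    constructor
    · intro h
      have h1 := congrArg (fun f => f (Ideal.Quotient.mk _ 1)) h
      simp only [hφ, LinearMap.zero_apply] at h1
      rw [Ideal.Quotient.eq_zero_iff_mem, Ideal.mem_span_singleton, mul_one] at h1
      rw [Ideal.mem_span_singleton]
      obtain ⟨c, hc⟩ := h1
      refine ⟨c, ?_⟩
      have h2 : (r - a * c) * b = 0 := by rw [sub_mul, hc]; ring
      exact sub_eq_zero.1 ((mul_right_mem_nonZeroDivisors_eq_zero_iff hb).1 h2)
    · intro h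
      rw [Ideal.mem_span_singleton] at h
      obtain ⟨c, rfl⟩ := h
      refine LinearMap.ext fun x => ?_
      obtain ⟨x, rfl⟩ := Ideal.Quotient.mk_surjective x
      rw [hφ, LinearMap.zero_apply, Ideal.Quotient.eq_zero_iff_mem, Ideal.mem_span_singleton]
      exact ⟨c * x, by ring⟩
  have hsurj : LinearMap.range φ = ⊤ := by
    rw [eq_top_iff]
    rintro f -
    obtain ⟨y, hy⟩ := Ideal.Quotient.mk_surjective (f (Ideal.Quotient.mk _ 1))
    have h1 : a • f (Ideal.Quotient.mk _ 1) = 0 := by
      rw [← map_smul]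
      have : a • (Ideal.Quotient.mk (Ideal.span {a}) (1 : R)) = 0 := by
        change Ideal.Quotient.mk (Ideal.span {a}) (a * 1) = 0
        rw [Ideal.Quotient.eq_zero_iff_mem, mul_one]
        exact Ideal.mem_span_singleton_self _
      rw [this, map_zero]
    rw [← hy] at h1
    change Ideal.Quotient.mk (Ideal.span {a * b}) (a * y) = 0 at h1
    rw [Ideal.Quotient.eq_zero_iff_mem, Ideal.mem_span_singleton] at h1
    obtain ⟨c, hc⟩ := h1
    have hyc : y = c * b := by
      have h2 : (y - c * b) * a = 0 := by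
        rw [sub_mul, mul_comm y a, hc]; ring
      exact sub_eq_zero.1 ((mul_right_mem_nonZeroDivisors_eq_zero_iff ha).1 h2)
    refine ⟨c, ?_⟩
    refine LinearMap.ext fun x => ?_
    obtain ⟨x, rfl⟩ := Ideal.Quotient.mk_surjective x
    rw [hφ]
    have h3 : f (Ideal.Quotient.mk _ x) = x • f (Ideal.Quotient.mk _ 1) := by
      rw [← map_smul]
      congr 1
      change _ = Ideal.Quotient.mk _ (x * 1)
      rw [mul_one]
    rw [h3, ← hy, hyc]
    change _ = Ideal.Quotient.mk _ (x * (c * b))
    congr 1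
    ring
  exact ⟨(((Submodule.quotEquivOfEq _ _ hker.symm).trans φ.quotKerEquivRange).trans
    (LinearEquiv.ofTop _ hsurj)).symm⟩

/-- Over a DVR a finite module killed by `ϖ ^ n` is isomorphic to its dual into `R/(ϖ^n)`. -/
theorem nonempty_equiv_dual (R : Type u) [CommRing R] [IsDomain R] [IsDiscreteValuationRing R] (ϖ : R)
    (hϖ : Irreducible ϖ) (n : ℕ)
    (M : Type v) [AddCommGroup M] [Module R M] [Module.Finite R M] (hM : ∀ m : M, ϖ ^ n • m = 0) :
    Nonempty ((M →ₗ[R] (R ⧸ Ideal.span {ϖ ^ n})) ≃ₗ[R] M) := by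
  classical
  have hpow : ∀ j : ℕ, ϖ ^ j ∈ nonZeroDivisors R := fun j =>
    mem_nonZeroDivisors_of_ne_zero (pow_ne_zero _ hϖ.ne_zero)
  have htors : Module.IsTorsion R M := by
    intro m
    exact ⟨⟨ϖ ^ n, hpow n⟩, hM m⟩
  obtain ⟨ι, _, p, hp, e, ⟨E⟩⟩ := Module.equiv_directSum_of_isTorsion htors
  let E' : M ≃ₗ[R] ((i : ι) → R ⧸ Ideal.span {p i ^ e i}) :=
    E.trans (DirectSum.linearEquivFunOnFintype R ι (fun i => R ⧸ Ideal.span {p i ^ e i}))
  have hspan : ∀ i, Ideal.span {p i ^ e i} = Ideal.span {ϖ ^ e i} := by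
    intro i
    rw [Ideal.span_singleton_eq_span_singleton]
    exact (IsDiscreteValuationRing.associated_of_irreducible R (hp i) hϖ).pow_pow
  have hle : ∀ i, e i ≤ n := by
    intro i
    have h1 : ϖ ^ n • (Pi.single i 1 : (i : ι) → R ⧸ Ideal.span {p i ^ e i}) = 0 := by
      rw [← E'.apply_symm_apply (Pi.single i 1), ← map_smul, hM, map_zero]
    have h2 := congrFun h1 i
    rw [Pi.smul_apply, Pi.single_eq_same, Pi.zero_apply] at h2
    change Ideal.Quotient.mk _ (ϖ ^ n * 1) = 0 at h2
    rw [Ideal.Quotient.eq_zero_iff_mem, mul_one, hspan i, Ideal.mem_span_singleton] at h2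
    exact (pow_dvd_pow_iff hϖ.ne_zero hϖ.not_isUnit).1 h2
  have hcyc : ∀ i, Nonempty (((R ⧸ Ideal.span {p i ^ e i}) →ₗ[R] (R ⧸ Ideal.span {ϖ ^ n})) ≃ₗ[R]
      (R ⧸ Ideal.span {p i ^ e i})) := by
    intro i
    rw [hspan i]
    have := nonempty_equiv_hom (ϖ ^ e i) (ϖ ^ (n - e i)) (hpow _) (hpow _)
    rwa [← pow_add, Nat.add_sub_cancel' (hle i)] at this
  have F := fun i => (hcyc i).some
  exact ⟨(((LinearEquiv.congrLeft _ R E').trans (LinearMap.lsum R _ R).symm).trans
    (LinearEquiv.piCongrRight F)).trans E'.symm⟩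

/-- Let R be a discrete valuation ring with uniformizer π and residue field k, n ≥ 0, and M₀ a finitely
generated module over R/πⁿR, viewed as an R-module killed by πⁿ; put M₀* = Hom_R(M₀, R/πⁿR). Then
dim_k(M₀*/πM₀*) = dim_k(M₀/πM₀). The published lemma is stated for a finitely presented module over
the quotient of the ring of integers of an algebraic closure of K by the elements of valuation ≥ t,
with its dual into that quotient ring, and the published proof reduces it by descent to exactly this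
statement over the valuation ring of a finite extension of K; the row states that step. -/
theorem result
    (R : Type u) [CommRing R] [IsDomain R] [IsDiscreteValuationRing R] (ϖ : R) (hϖ : Irreducible ϖ) (n : ℕ)
    (M : Type v) [AddCommGroup M] [Module R M] [Module.Finite R M] (hM : ∀ m : M, ϖ ^ n • m = 0) :
    Module.finrank (IsLocalRing.ResidueField R)
        (IsLocalRing.ResidueField R ⊗[R] (M →ₗ[R] (R ⧸ Ideal.span {ϖ ^ n}))) =
      Module.finrank (IsLocalRing.ResidueField R) (IsLocalRing.ResidueField R ⊗[R] M) := by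
  obtain ⟨e⟩ := nonempty_equiv_dual R ϖ hϖ n M hM
  exact LinearEquiv.finrank_eq (LinearEquiv.baseChange R (IsLocalRing.ResidueField R) _ _ e)

end Groth.Agent.S15367
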