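import Groth.Statements.S15368
import Mathlib.RingTheory.Length
import Mathlib.RingTheory.DiscreteValuationRing.Basic
import Mathlib.LinearAlgebra.TensorProduct.Quotient
import Mathlib.LinearAlgebra.TensorProduct.Tower
import Mathlib.RingTheory.TensorProduct.Finite

set_option autoImplicit false
universe u v
open TensorProduct
open CAlg

namespace Groth.Agent.S15368

section

variable (R : Type u) [CommRing R] [IsDomain R] [IsDiscreteValuationRing R] (ϖ : R) (hϖ : Irreducible ϖ)
  (M : Type v) [AddCommGroup M] [Module R M]

include hϖ in
/-- The `k`-dimension of `k ⊗ M` is the length of `M / ϖ M`. -/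
theorem length_quot [Module.Finite R M] :
    Module.length R (M ⧸ LinearMap.range (LinearMap.lsmul R M ϖ)) =
      Module.finrank (IsLocalRing.ResidueField R) (IsLocalRing.ResidueField R ⊗[R] M) := by
  have hspan : IsLocalRing.maximalIdeal R = Ideal.span {ϖ} :=
    (IsDiscreteValuationRing.irreducible_iff_uniformizer ϖ).1 hϖ
  have h1 : (IsLocalRing.maximalIdeal R) • (⊤ : Submodule R M) =
      LinearMap.range (LinearMap.lsmul R M ϖ) := by
    rw [hspan, Submodule.ideal_span_singleton_smul, ← Submodule.map_top]
    rfl
  rw [← Module.length_eq_finrank, ← h1]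
  rw [← Module.length_eq_of_surjective (R := IsLocalRing.ResidueField R) (S := R)
    IsLocalRing.residue_surjective]
  exact (quotTensorEquivQuotSMul M (IsLocalRing.maximalIdeal R)).symm.length_eq

include hϖ in
theorem length_ne_top (n : ℕ) : ∀ (M : Type v) [AddCommGroup M] [Module R M] [Module.Finite R M]
    (_ : ∀ m : M, ϖ ^ n • m = 0), Module.length R M ≠ ⊤ := by
  induction n with
  | zero =>
    intro M _ _ _ hM
    have : Subsingleton M := ⟨fun a b => by
      rw [← one_smul R a, ← one_smul R b, ← pow_zero ϖ, hM, hM]⟩
    rw [Module.length_eq_zero]; exact ENat.zero_ne_top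
  | succ n ih =>
    intro M _ _ _ hM
    rw [Module.length_eq_add_of_exact (LinearMap.range (LinearMap.lsmul R M ϖ)).subtype
      (LinearMap.range (LinearMap.lsmul R M ϖ)).mkQ (Submodule.subtype_injective _)
      (Submodule.mkQ_surjective _) (LinearMap.exact_subtype_mkQ _), length_quot R ϖ hϖ M]
    refine WithTop.add_ne_top.2 ⟨ih _ ?_, ENat.natCast_ne_top _⟩
    rintro ⟨_, m, rfl⟩
    ext
    simp only [LinearMap.lsmul_apply, Submodule.coe_smul_of_tower, ZeroMemClass.coe_zero]
    rw [← mul_smul, ← pow_succ, hM]

include hϖ in
/-- The `k`-dimension of `k ⊗ M` is the length of `M[ϖ]` for `M` finite and killed by `ϖ ^ n`. -/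
theorem length_ker [Module.Finite R M] (n : ℕ) (hM : ∀ m : M, ϖ ^ n • m = 0) :
    Module.length R (LinearMap.ker (LinearMap.lsmul R M ϖ)) =
      Module.finrank (IsLocalRing.ResidueField R) (IsLocalRing.ResidueField R ⊗[R] M) := by
  set f := LinearMap.lsmul R M ϖ with hf
  have h1 : Module.length R M = Module.length R (LinearMap.ker f) + Module.length R (LinearMap.range f) :=
    Module.length_eq_add_of_exact (LinearMap.ker f).subtype f.rangeRestrict
      (Submodule.subtype_injective _) (LinearMap.surjective_rangeRestrict f) (by
        rw [LinearMap.exact_iff, LinearMap.ker_rangeRestrict, Submodule.range_subtype])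
  have h2 : Module.length R M = Module.length R (LinearMap.range f) +
      Module.length R (M ⧸ LinearMap.range f) :=
    Module.length_eq_add_of_exact (LinearMap.range f).subtype
      (LinearMap.range f).mkQ (Submodule.subtype_injective _)
      (Submodule.mkQ_surjective _) (LinearMap.exact_subtype_mkQ _)
  have h3 : Module.length R (LinearMap.range f) ≠ ⊤ := by
    have h4 := length_ne_top R ϖ hϖ n M hM
    intro h
    rw [h2, h, top_add] at h4
    exact h4 rfl
  rw [← length_quot R ϖ hϖ M]
  rw [h1, add_comm (Module.length R (LinearMap.range f)) (Module.length R (M ⧸ LinearMap.range f))] at h2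
  exact ENat.add_left_injective_of_ne_top h3 h2

end

/-- Let R be a discrete valuation ring with uniformizer π and residue field k, n ≥ 0, M₀ a finitely
generated R-module killed by πⁿ and N₀ a submodule of M₀. Then dim_k(N₀/πN₀) ≤ dim_k(M₀/πM₀). The
published lemma is stated for a finitely presented submodule N of a finitely presented module M over
the quotient of the ring of integers of an algebraic closure of K by the elements of valuation ≥ t,
and the published proof reduces it by descent to exactly this statement over the valuation ring of a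
finite extension of K (comparing π-torsion with π-cotorsion by additivity of length); the row states
that step. -/
theorem result
    (R : Type u) [CommRing R] [IsDomain R] [IsDiscreteValuationRing R] (ϖ : R) (hϖ : Irreducible ϖ) (n : ℕ)
    (M : Type v) [AddCommGroup M] [Module R M] [Module.Finite R M] (hM : ∀ m : M, ϖ ^ n • m = 0)
    (N : Submodule R M) :
    Module.finrank (IsLocalRing.ResidueField R) (IsLocalRing.ResidueField R ⊗[R] N) ≤
      Module.finrank (IsLocalRing.ResidueField R) (IsLocalRing.ResidueField R ⊗[R] M) := by
  rw [← Nat.cast_le (α := ℕ∞), ← length_ker R ϖ hϖ M n hM,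
    ← length_ker R ϖ hϖ N n (fun m => Subtype.ext (hM m))]
  refine Module.length_le_of_injective (LinearMap.restrict N.subtype
    (p := LinearMap.ker (LinearMap.lsmul R N ϖ)) (q := LinearMap.ker (LinearMap.lsmul R M ϖ)) ?_) ?_
  · intro x hx
    rw [LinearMap.mem_ker, LinearMap.lsmul_apply] at hx ⊢
    rw [← map_smul, hx, map_zero]
  · intro x y hxy
    apply Subtype.ext
    apply Subtype.ext
    exact congrArg (fun z => ((z : LinearMap.ker (LinearMap.lsmul R M ϖ)) : M)) hxy

end Groth.Agent.S15368
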