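import Groth.Statements.S15369
import Groth.Agent.Biell.K856.Final

set_option autoImplicit false
universe u
open CategoryTheory CategoryTheory.Limits AlgebraicGeometry
open Biell

namespace Groth.Agent.S15369

/-- Let k be an algebraically closed field and X a (quasi-)bielliptic surface over k, meaning here: X is
an integral k-scheme, proper and smooth of relative dimension 2 over k and carrying an ample
invertible sheaf, whose canonical sheaf ω (a second exterior power of Ω_{X/k}) is numerically
trivial (degree 0 on every integral closed curve in X) and whose second ℓ-adic Betti number (the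
rank of lim_ν H²(X_et, Z/ℓ^ν)) equals 2 for every prime ℓ invertible in k. Then the Picard number
ρ(X), the rank of the Néron–Severi lattice Num(X) (invertible sheaves modulo numerical equivalence,
equivalently the rank of the intersection pairing (L·M) = χ(O_X) − χ(L) − χ(M) + χ(L ⊗ M) on
invertible sheaves), equals 2 = b₂(X): there are two invertible sheaves whose 2×2 intersection
matrix is nonsingular, and the 3×3 intersection matrix of any three invertible sheaves is singular. -/
theorem result (k : Type u) [Field k] [IsAlgClosed k] (X : Scheme.{u}) [X.Over (Spec (CommRingCat.of k))]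
    [IsIntegral X] [IsProper (X ↘ Spec (CommRingCat.of k))] [SmoothOfRelativeDimension 2 (X ↘ Spec (CommRingCat.of k))]
    (hproj : ∃ H : X.Modules, CohB1.IsAmple H)
    (ω : X.Modules) (hω : Canon.IsTopDiff (X ↘ Spec (CommRingCat.of k)) 2 ω) (hnum : Pic13.IsNumEquivZero k X ω)
    (hb2 : ∀ ℓ : ℕ, ℓ.Prime → (ℓ : k) ≠ 0 → EtAdic.betti X ℓ 2 = 2) :
    (∃ L₁ L₂ : X.Modules, PicF.IsInvertible L₁ ∧ PicF.IsInvertible L₂ ∧
      FGA.intNum k X 2 ![L₁, L₁] (Coh.structureModule X) * FGA.intNum k X 2 ![L₂, L₂] (Coh.structureModule X) ≠
        FGA.intNum k X 2 ![L₁, L₂] (Coh.structureModule X) ^ 2) ∧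
    ∀ L : Fin 3 → X.Modules, (∀ i, PicF.IsInvertible (L i)) →
      (Matrix.of fun i j : Fin 3 => FGA.intNum k X 2 ![L i, L j] (Coh.structureModule X)).det = 0 := by
  exact K856.Final.rank_eq_two k X hproj hω hnum hb2

end Groth.Agent.S15369
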