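import Groth.Statements.S15371
import Groth.Agent.Biell.K856.Final
import Groth.Agent.Biell.K665.AlgTriv

set_option autoImplicit false
universe u
open CategoryTheory CategoryTheory.Limits AlgebraicGeometry
open Biell

namespace Groth.Agent.S15371

/-- Let k be an algebraically closed field and X a (quasi-)bielliptic surface over k, meaning here: X is
an integral k-scheme, proper and smooth of relative dimension 2 over k and carrying an ample
invertible sheaf, whose canonical sheaf ω (a second exterior power of Ω_{X/k}) is numerically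
trivial (degree 0 on every integral closed curve in X) and whose second ℓ-adic Betti number (the
rank of lim_ν H²(X_et, Z/ℓ^ν)) equals 2 for every prime ℓ invertible in k. Then ω is algebraically
trivial, i.e. lies in Pic⁰(X): there are a connected k-scheme T of finite type, an invertible sheaf
M on X ×_k T and k-points t, t₀ of T with M_t ≅ ω and M_{t₀} ≅ O_X. -/
theorem result (k : Type u) [Field k] [IsAlgClosed k] (X : Scheme.{u}) [X.Over (Spec (CommRingCat.of k))]
    [IsIntegral X] [IsProper (X ↘ Spec (CommRingCat.of k))] [SmoothOfRelativeDimension 2 (X ↘ Spec (CommRingCat.of k))]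
    (hproj : ∃ H : X.Modules, CohB1.IsAmple H)
    (ω : X.Modules) (hω : Canon.IsTopDiff (X ↘ Spec (CommRingCat.of k)) 2 ω) (hnum : Pic13.IsNumEquivZero k X ω)
    (hb2 : ∀ ℓ : ℕ, ℓ.Prime → (ℓ : k) ≠ 0 → EtAdic.betti X ℓ 2 = 2) :
    Pic13.IsAlgEquivZero k X ω := by
  obtain ⟨E, hE, f, h1, h2, h3, h4, h5, -⟩ := K856.Final.exists_fibration k X hproj hω hnum hb2
  exact K665.AlgTriv.algTriv' k ⟨E, hE, f, h1, h2, h3, h4, h5⟩ hproj ω hω hnum
    (K856.Final.eulerCharLE_eq_zero k X hproj hω hnum hb2)
    (fun I _ hdim => K856.Final.integral_nonneg k X hproj hω hnum hb2 I hdim)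

end Groth.Agent.S15371
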