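import Groth.Statements.S15372
import Groth.Agent.Biell.K856.Final

set_option autoImplicit false
universe u
open CategoryTheory CategoryTheory.Limits AlgebraicGeometry
open Biell

namespace Groth.Agent.S15372

/-- Let k be an algebraically closed field and X a (quasi-)bielliptic surface over k, meaning here: X is
an integral k-scheme, proper and smooth of relative dimension 2 over k and carrying an ample
invertible sheaf, whose canonical sheaf ω (a second exterior power of Ω_{X/k}) is numerically
trivial (degree 0 on every integral closed curve in X) and whose second ℓ-adic Betti number (the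
rank of lim_ν H²(X_et, Z/ℓ^ν)) equals 2 for every prime ℓ invertible in k. Then for every invertible
O_X-module L the self-intersection number (L·L) = χ(O_X) − 2χ(L) + χ(L ⊗ L) equals 2χ(L), where χ(L)
= dim H⁰(X,L) − dim H¹(X,L) + dim H²(X,L); consequently the Néron–Severi lattice Num(X) is an even
lattice. (The published statement is for bielliptic surfaces and asserts moreover that Num(X) is
unimodular of signature (1,1), hence hyperbolic; only the evenness identity is stated here, and it
is stated for quasi-bielliptic surfaces as well, which share χ(O_X) = 0 and the numerical triviality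
of ω on which it rests.) -/
theorem result (k : Type u) [Field k] [IsAlgClosed k] (X : Scheme.{u}) [X.Over (Spec (CommRingCat.of k))]
    [IsIntegral X] [IsProper (X ↘ Spec (CommRingCat.of k))] [SmoothOfRelativeDimension 2 (X ↘ Spec (CommRingCat.of k))]
    (hproj : ∃ H : X.Modules, CohB1.IsAmple H)
    (ω : X.Modules) (hω : Canon.IsTopDiff (X ↘ Spec (CommRingCat.of k)) 2 ω) (hnum : Pic13.IsNumEquivZero k X ω)
    (hb2 : ∀ ℓ : ℕ, ℓ.Prime → (ℓ : k) ≠ 0 → EtAdic.betti X ℓ 2 = 2)
    (L : X.Modules) (hL : PicF.IsInvertible L) :
    FGA.intNum k X 2 ![L, L] (Coh.structureModule X) = 2 * FGA.eulerCharLE k X L 2 := by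
  exact K856.Final.self_eq k X hproj hω hnum hb2 L hL

end Groth.Agent.S15372
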