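import Groth.Statements.S15373
import Groth.Agent.Biell.K856.Final

set_option autoImplicit false
universe u
open CategoryTheory CategoryTheory.Limits AlgebraicGeometry
open Biell

namespace Groth.Agent.S15373

/-- Let k be an algebraically closed field and X a (quasi-)bielliptic surface over k, meaning here: X is
an integral k-scheme, proper and smooth of relative dimension 2 over k and carrying an ample
invertible sheaf, whose canonical sheaf ω (a second exterior power of Ω_{X/k}) is numerically
trivial (degree 0 on every integral closed curve in X) and whose second ℓ-adic Betti number (the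
rank of lim_ν H²(X_et, Z/ℓ^ν)) equals 2 for every prime ℓ invertible in k. Then for every prime ℓ
invertible in k the ℓ-adic Betti numbers bᵢ(X) (the Z_ℓ-rank of lim_ν Hⁱ(X_et, Z/ℓ^ν)) are b₀ = 1,
b₁ = 2, b₂ = 2, b₃ = 2, b₄ = 1. (The published statement is for bielliptic surfaces; b₁ = 2 holds
for quasi-bielliptic surfaces as well and this row states the table for both.) -/
theorem result (k : Type u) [Field k] [IsAlgClosed k] (X : Scheme.{u}) [X.Over (Spec (CommRingCat.of k))]
    [IsIntegral X] [IsProper (X ↘ Spec (CommRingCat.of k))] [SmoothOfRelativeDimension 2 (X ↘ Spec (CommRingCat.of k))]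
    (hproj : ∃ H : X.Modules, CohB1.IsAmple H)
    (ω : X.Modules) (hω : Canon.IsTopDiff (X ↘ Spec (CommRingCat.of k)) 2 ω) (hnum : Pic13.IsNumEquivZero k X ω)
    (hb2 : ∀ ℓ : ℕ, ℓ.Prime → (ℓ : k) ≠ 0 → EtAdic.betti X ℓ 2 = 2)
    (ℓ : ℕ) (hℓ : ℓ.Prime) (hℓk : (ℓ : k) ≠ 0) :
    EtAdic.betti X ℓ 0 = 1 ∧ EtAdic.betti X ℓ 1 = 2 ∧ EtAdic.betti X ℓ 2 = 2 ∧
      EtAdic.betti X ℓ 3 = 2 ∧ EtAdic.betti X ℓ 4 = 1 := by
  exact K856.Final.betti_table k X hproj hω hnum hb2 ℓ hℓ hℓk

end Groth.Agent.S15373
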