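import Groth.Statements.S15374
import Groth.Agent.Biell.K856.Final

set_option autoImplicit false
universe u
open CategoryTheory CategoryTheory.Limits AlgebraicGeometry
open Biell

namespace Groth.Agent.S15374

/-- Let k be an algebraically closed field and X a (quasi-)bielliptic surface over k, meaning here: X is
an integral k-scheme, proper and smooth of relative dimension 2 over k and carrying an ample
invertible sheaf, whose canonical sheaf ω (a second exterior power of Ω_{X/k}) is numerically
trivial (degree 0 on every integral closed curve in X) and whose second ℓ-adic Betti number (the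
rank of lim_ν H²(X_et, Z/ℓ^ν)) equals 2 for every prime ℓ invertible in k. Let L be an invertible
O_X-module with tensor inverse L′ (L ⊗ L′ ≅ O_X) and positive self-intersection (L·L) = χ(O_X) −
2χ(L) + χ(L ⊗ L) > 0. Then H⁰(X, L) ≠ 0 or H⁰(X, L′) ≠ 0: the corresponding divisor or its negative
is linearly equivalent to an effective divisor. (The published statement is for bielliptic surfaces
and sits in a discussion of surfaces over fields of characteristic different from 2 and 3; it rests
only on χ(O_X) = 0 and the numerical triviality of ω, which quasi-bielliptic surfaces in any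
characteristic share, so this row states it for (quasi-)bielliptic surfaces with no assumption on
the characteristic.) -/
theorem result (k : Type u) [Field k] [IsAlgClosed k] (X : Scheme.{u}) [X.Over (Spec (CommRingCat.of k))]
    [IsIntegral X] [IsProper (X ↘ Spec (CommRingCat.of k))] [SmoothOfRelativeDimension 2 (X ↘ Spec (CommRingCat.of k))]
    (hproj : ∃ H : X.Modules, CohB1.IsAmple H)
    (ω : X.Modules) (hω : Canon.IsTopDiff (X ↘ Spec (CommRingCat.of k)) 2 ω) (hnum : Pic13.IsNumEquivZero k X ω)
    (hb2 : ∀ ℓ : ℕ, ℓ.Prime → (ℓ : k) ≠ 0 → EtAdic.betti X ℓ 2 = 2)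
    (L L' : X.Modules) (hL : PicF.IsInvertible L) (hLL' : ClSub.IsInverseOf L L')
    (hpos : 0 < FGA.intNum k X 2 ![L, L] (Coh.structureModule X)) :
    Nontrivial (Coh.HH X L 0) ∨ Nontrivial (Coh.HH X L' 0) := by
  exact K856.Final.sections_or k X hproj hω hnum hb2 L L' hL hLL' hpos

end Groth.Agent.S15374
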