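import Groth.Statements.S15375
import Groth.Agent.Biell.K856.Final

set_option autoImplicit false
universe u
open CategoryTheory CategoryTheory.Limits AlgebraicGeometry
open Biell

namespace Groth.Agent.S15375

/-- Let k be an algebraically closed field and X a (quasi-)bielliptic surface over k, meaning here: X is
an integral k-scheme, proper and smooth of relative dimension 2 over k and carrying an ample
invertible sheaf, whose canonical sheaf ω (a second exterior power of Ω_{X/k}) is numerically
trivial (degree 0 on every integral closed curve in X) and whose second ℓ-adic Betti number (the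
rank of lim_ν H²(X_et, Z/ℓ^ν)) equals 2 for every prime ℓ invertible in k. Then for any two
effective Cartier divisors D, D′ on X, with ideal sheaves I, J locally generated by a single
nonzerodivisor, the intersection number (D·D′) = χ(O_X) − χ(I) − χ(J) + χ(I ⊗ J) is non-negative; in
particular (D·D) ≥ 0 for every effective divisor D. (The published statement is for bielliptic
surfaces and sits in a discussion of surfaces over fields of characteristic different from 2 and 3;
like the non-negativity of self-intersections of integral curves from which it follows, it is stated
here for (quasi-)bielliptic surfaces with no assumption on the characteristic.) -/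
theorem result (k : Type u) [Field k] [IsAlgClosed k] (X : Scheme.{u}) [X.Over (Spec (CommRingCat.of k))]
    [IsIntegral X] [IsProper (X ↘ Spec (CommRingCat.of k))] [SmoothOfRelativeDimension 2 (X ↘ Spec (CommRingCat.of k))]
    (hproj : ∃ H : X.Modules, CohB1.IsAmple H)
    (ω : X.Modules) (hω : Canon.IsTopDiff (X ↘ Spec (CommRingCat.of k)) 2 ω) (hnum : Pic13.IsNumEquivZero k X ω)
    (hb2 : ∀ ℓ : ℕ, ℓ.Prime → (ℓ : k) ≠ 0 → EtAdic.betti X ℓ 2 = 2)
    (I J : X.IdealSheafData) (hI : FGA.IsEffCartier I) (hJ : FGA.IsEffCartier J) :
    0 ≤ FGA.intNum k X 2 ![ClSub.idealMod I, ClSub.idealMod J] (Coh.structureModule X) := by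
  exact K856.Final.eff_nonneg k X hproj hω hnum hb2 I J hI hJ

end Groth.Agent.S15375
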