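import Groth.Statements.S15377
import Groth.Agent.Biell.K627.SpecOrder
import Groth.Agent.Biell.K857.T1Final

set_option autoImplicit false
universe u
open CategoryTheory CategoryTheory.Limits AlgebraicGeometry
open Biell

namespace Groth.Agent.S15377

/-- Let R be a complete discrete valuation ring in which 6 is invertible (residue characteristic not 2
or 3), and let f : X → Spec R be a proper morphism of schemes, smooth of relative dimension 2, such
that every geometric fibre is a bielliptic surface in the following sense: for every algebraically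
closed field Ω and every Ω-point of the base, the fibre X_Ω is integral, carries an ample invertible
sheaf, its canonical sheaf (a second exterior power of Ω_{X_Ω/Ω}) is numerically trivial, and its
second ℓ-adic Betti number is 2 for every prime ℓ invertible in Ω. Let K̄ be an algebraically closed
field with an injective ring map R → K̄ (a geometric generic point) and k̄ an algebraically closed
field with a ring map R → k̄ killing the maximal ideal (a geometric special point), and let ω_K̄,
ω_k̄ be canonical sheaves (second exterior powers of the relative differentials over K̄, k̄) of the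
two geometric fibres. Then for every natural number n, ω_K̄^{⊗n} ≅ O_{X_K̄} if and only if ω_k̄^{⊗n}
≅ O_{X_k̄}; that is, the order of the canonical sheaf in the Picard group is the same on the
geometric generic and the geometric special fibre. (The published statement is for families that are
algebraic spaces over Spec R; this row takes X a scheme.) -/
theorem result
    (R : Type u) [CommRing R] [IsDomain R] [IsDiscreteValuationRing R]
    [IsAdicComplete (IsLocalRing.maximalIdeal R) R] (h6 : IsUnit (6 : R))
    (X : Scheme.{u}) (f : X ⟶ Spec (CommRingCat.of R)) [IsProper f] [SmoothOfRelativeDimension 2 f]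
    (hfib : ∀ (Ω : Type u) [Field Ω] [IsAlgClosed Ω] (s : Spec (CommRingCat.of Ω) ⟶ Spec (CommRingCat.of R)),
      AlgebraicGeometry.IsIntegral (pullback f s) ∧ (∃ H : (pullback f s).Modules, CohB1.IsAmple H) ∧
        (∃ ω' : (pullback f s).Modules, Canon.IsTopDiff (pullback.snd f s) 2 ω' ∧ @Pic13.IsNumEquivZero Ω _ (pullback f s) ⟨pullback.snd f s⟩ ω') ∧
        ∀ ℓ : ℕ, ℓ.Prime → (ℓ : Ω) ≠ 0 → EtAdic.betti (pullback f s) ℓ 2 = 2)
    (K : Type u) [Field K] [IsAlgClosed K] (φ : R →+* K) (hφ : Function.Injective φ)
    (κ : Type u) [Field κ] [IsAlgClosed κ] (ψ : R →+* κ) (hψ : ∀ x ∈ IsLocalRing.maximalIdeal R, ψ x = 0)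
    (ωK : (pullback f (Spec.map (CommRingCat.ofHom φ))).Modules)
    (hωK : Canon.IsTopDiff (pullback.snd f (Spec.map (CommRingCat.ofHom φ))) 2 ωK)
    (ωκ : (pullback f (Spec.map (CommRingCat.ofHom ψ))).Modules)
    (hωκ : Canon.IsTopDiff (pullback.snd f (Spec.map (CommRingCat.ofHom ψ))) 2 ωκ) (n : ℕ) :
    Nonempty (CohB1.tensorPow ωK n ≅ Coh.structureModule (pullback f (Spec.map (CommRingCat.ofHom φ)))) ↔
      Nonempty (CohB1.tensorPow ωκ n ≅ Coh.structureModule (pullback f (Spec.map (CommRingCat.ofHom ψ)))) :=
  K627.SpecOrder.result (fun k _ _ X _ _ _ _ hproj ω hω hnum hb2 h6 => K857.T1Final.main k X hproj ω hω hnum hb2 h6)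
    R h6 X f hfib K φ hφ κ ψ hψ ωK hωK ωκ hωκ n

end Groth.Agent.S15377
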