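import Groth.Statements.S15378
import Groth.Agent.Biell.K440.CanonOrder
import Groth.Agent.Biell.K857.T1Final
import Groth.Agent.S15377

set_option autoImplicit false
attribute [-instance] CategoryTheory.catToReflQuiver
universe u
open CategoryTheory CategoryTheory.Limits AlgebraicGeometry
open Biell

namespace Groth.Agent.S15378

/-- Let S be a connected, reduced Noetherian scheme with 6 invertible in Γ(S, O_S), and let π : X → S be
a proper morphism of schemes, smooth of relative dimension 2, such that every geometric fibre is a
bielliptic surface in the following sense: for every algebraically closed field Ω and every Ω-point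
of the base, the fibre X_Ω is integral, carries an ample invertible sheaf, its canonical sheaf (a
second exterior power of Ω_{X_Ω/Ω}) is numerically trivial, and its second ℓ-adic Betti number is 2
for every prime ℓ invertible in Ω. Let ω be a relative canonical sheaf of π (a second exterior power
of Ω_{X/S}). Then there are an integer n ∈ {2, 3, 4, 6} and an invertible O_S-module N with ω^{⊗n} ≅
π^*N; in particular the element of Pic_{X/S}(S) defined by ω^{⊗n} is trivial. (The published
statement is for families that are algebraic spaces over an arbitrary connected Noetherian base;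
this row takes X a scheme and assumes S reduced, the case in which the printed base-change argument
applies: over a reduced base an invertible sheaf that is trivial on every geometric fibre has
invertible direct image compatible with base change, whereas over a non-reduced base a fibrewise
trivial invertible sheaf need not be pulled back from the base.) -/
theorem result
    {X S : Scheme.{u}} (π : X ⟶ S) [IsProper π] [SmoothOfRelativeDimension 2 π]
    [IsNoetherian S] [AlgebraicGeometry.IsReduced S] [ConnectedSpace S] (h6 : IsUnit (6 : Γ(S, ⊤)))
    (hfib : ∀ (Ω : Type u) [Field Ω] [IsAlgClosed Ω] (s : Spec (CommRingCat.of Ω) ⟶ S),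
      AlgebraicGeometry.IsIntegral (pullback π s) ∧ (∃ H : (pullback π s).Modules, CohB1.IsAmple H) ∧
        (∃ ω' : (pullback π s).Modules, Canon.IsTopDiff (pullback.snd π s) 2 ω' ∧ @Pic13.IsNumEquivZero Ω _ (pullback π s) ⟨pullback.snd π s⟩ ω') ∧
        ∀ ℓ : ℕ, ℓ.Prime → (ℓ : Ω) ≠ 0 → EtAdic.betti (pullback π s) ℓ 2 = 2)
    (ω : X.Modules) (hω : Canon.IsTopDiff π 2 ω) :
    ∃ n : ℕ, (n = 2 ∨ n = 3 ∨ n = 4 ∨ n = 6) ∧ ∃ N : S.Modules, PicF.IsInvertible N ∧
      Nonempty (CohB1.tensorPow ω n ≅ (Scheme.Modules.pullback π).obj N) :=
  K440.Fam.exists_pullback (fun k _ _ X _ _ _ _ hproj ω hω hnum hb2 h6 =>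
      K857.T1Final.main k X hproj ω hω hnum hb2 h6)
    (fun R _ _ _ _ h6 X f _ _ hfib K _ _ φ hφ κ _ _ ψ hψ ωK hωK ωκ hωκ n =>
      (Groth.Agent.S15377.result R h6 X f hfib K φ hφ κ ψ hψ ωK hωK ωκ hωκ n).mpr)
    π h6 hfib ω hω

end Groth.Agent.S15378
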