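import Groth.Statements.S15379
import Groth.Agent.Biell.K440.FamPolar
import Groth.Agent.Biell.K857.T2Final

set_option autoImplicit false
attribute [-instance] CategoryTheory.catToReflQuiver
universe u
open CategoryTheory CategoryTheory.Limits AlgebraicGeometry
open Biell

namespace Groth.Agent.S15379

/-- Let R be a Noetherian ring in which 6 is invertible and let π : X → Spec R be a proper morphism of
schemes, smooth of relative dimension 2, such that every geometric fibre is a bielliptic surface in
the following sense: for every algebraically closed field Ω and every Ω-point of the base, the fibre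
X_Ω is integral, carries an ample invertible sheaf, its canonical sheaf (a second exterior power of
Ω_{X_Ω/Ω}) is numerically trivial, and its second ℓ-adic Betti number is 2 for every prime ℓ
invertible in Ω. Then there are a scheme S′ and an étale surjective morphism g : S′ → Spec R such
that the base change X ×_{Spec R} S′ → S′ admits a relatively ample invertible sheaf (a
polarization). (The published statement is for families that are algebraic spaces over a Noetherian
affine base in characteristics other than 2 and 3; this row takes X a scheme.) -/
theorem result
    (R : Type u) [CommRing R] [IsNoetherianRing R] (h6 : IsUnit (6 : R))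
    (X : Scheme.{u}) (π : X ⟶ Spec (CommRingCat.of R)) [IsProper π] [SmoothOfRelativeDimension 2 π]
    (hfib : ∀ (Ω : Type u) [Field Ω] [IsAlgClosed Ω] (s : Spec (CommRingCat.of Ω) ⟶ Spec (CommRingCat.of R)),
      AlgebraicGeometry.IsIntegral (pullback π s) ∧ (∃ H : (pullback π s).Modules, CohB1.IsAmple H) ∧
        (∃ ω' : (pullback π s).Modules, Canon.IsTopDiff (pullback.snd π s) 2 ω' ∧ @Pic13.IsNumEquivZero Ω _ (pullback π s) ⟨pullback.snd π s⟩ ω') ∧
        ∀ ℓ : ℕ, ℓ.Prime → (ℓ : Ω) ≠ 0 → EtAdic.betti (pullback π s) ℓ 2 = 2) :
    ∃ (S' : Scheme.{u}) (g : S' ⟶ Spec (CommRingCat.of R)), Etale g ∧ Surjective g ∧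
      ∃ L : (pullback π g).Modules, RelAmple.IsRelAmple (pullback.snd π g) L := by
  exact K440.Fam.exists_polarization K857.T2.main R h6 X π hfib

end Groth.Agent.S15379
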