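import Groth.Statements.S15380
import Groth.Agent.Biell.K440.Fam
import Groth.Agent.Biell.K857.T2Final

set_option autoImplicit false
attribute [-instance] CategoryTheory.catToReflQuiver
universe u
open CategoryTheory CategoryTheory.Limits AlgebraicGeometry
open Biell

namespace Groth.Agent.S15380

/-- Let S be a scheme with 6 invertible in Γ(S, O_S) and let π : X → S be a proper morphism of schemes,
smooth of relative dimension 2, such that every geometric fibre is a bielliptic surface in the
following sense: for every algebraically closed field Ω and every Ω-point of the base, the fibre X_Ω
is integral, carries an ample invertible sheaf, its canonical sheaf (a second exterior power of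
Ω_{X_Ω/Ω}) is numerically trivial, and its second ℓ-adic Betti number is 2 for every prime ℓ
invertible in Ω. If an S-scheme P represents the relative Picard functor of X over S (étale
sheafification of T ↦ Pic(X ×_S T)), then P is smooth over S. (The published statement is for
families that are algebraic spaces and asserts, with part (a), that the Picard functor is always
represented by an algebraic space, separated and locally of finite type, which is smooth over S when
6 is invertible; this row takes X a scheme and states the smoothness for a representing scheme.) -/
theorem result
    {X S : Scheme.{u}} (π : X ⟶ S) [IsProper π] [SmoothOfRelativeDimension 2 π]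
    (h6 : IsUnit (6 : Γ(S, ⊤)))
    (hfib : ∀ (Ω : Type u) [Field Ω] [IsAlgClosed Ω] (s : Spec (CommRingCat.of Ω) ⟶ S),
      AlgebraicGeometry.IsIntegral (pullback π s) ∧ (∃ H : (pullback π s).Modules, CohB1.IsAmple H) ∧
        (∃ ω' : (pullback π s).Modules, Canon.IsTopDiff (pullback.snd π s) 2 ω' ∧ @Pic13.IsNumEquivZero Ω _ (pullback π s) ⟨pullback.snd π s⟩ ω') ∧
        ∀ ℓ : ℕ, ℓ.Prime → (ℓ : Ω) ≠ 0 → EtAdic.betti (pullback π s) ℓ 2 = 2)
    (P : Over S) (hP : PicRel.RepresentedBy π P) :
    Smooth P.hom := by
  exact K440.Fam.smooth_picScheme K857.T2.main π h6 hfib P hP

end Groth.Agent.S15380
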