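import Groth.Statements.S15381
import Groth.Agent.Biell.K856.PicBiell
import Groth.Agent.Biell.K856.T2

set_option autoImplicit false
universe u
open CategoryTheory CategoryTheory.Limits AlgebraicGeometry
open Biell

attribute [-instance] CategoryTheory.ReflQuiver.toQuiver

namespace Groth.Agent.S15381

/-- Let R be a complete discrete valuation ring in which 6 is invertible and let f : X → Spec R be a
proper morphism of schemes, smooth of relative dimension 2, such that every geometric fibre is a
bielliptic surface in the following sense: for every algebraically closed field Ω and every Ω-point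
of the base, the fibre X_Ω is integral, carries an ample invertible sheaf, its canonical sheaf (a
second exterior power of Ω_{X_Ω/Ω}) is numerically trivial, and its second ℓ-adic Betti number is 2
for every prime ℓ invertible in Ω. Let P be a scheme over Spec R which, through the family of maps
φ, represents the fppf sheafification of the subfunctor Pic⁰_{X/R} of the relative Picard functor
(classes of invertible sheaves on X ×_R T that are algebraically equivalent to zero on every
geometric fibre). Then P is an elliptic curve over Spec R: P → Spec R is proper and smooth of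
relative dimension 1, and every geometric fibre of P is an integral curve with χ(O) = 0 (arithmetic
genus one). (The published statement is for families that are algebraic spaces over Spec R, with
Pic⁰ the identity component of the Picard scheme; this row takes X a scheme and P a representing
scheme.) -/
theorem result
    (R : Type u) [CommRing R] [IsDomain R] [IsDiscreteValuationRing R]
    [IsAdicComplete (IsLocalRing.maximalIdeal R) R] (h6 : IsUnit (6 : R))
    (X : Scheme.{u}) (f : X ⟶ Spec (CommRingCat.of R)) [IsProper f] [SmoothOfRelativeDimension 2 f]
    (hfib : ∀ (Ω : Type u) [Field Ω] [IsAlgClosed Ω] (s : Spec (CommRingCat.of Ω) ⟶ Spec (CommRingCat.of R)),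
      AlgebraicGeometry.IsIntegral (pullback f s) ∧ (∃ H : (pullback f s).Modules, CohB1.IsAmple H) ∧
        (∃ ω' : (pullback f s).Modules, Canon.IsTopDiff (pullback.snd f s) 2 ω' ∧ @Pic13.IsNumEquivZero Ω _ (pullback f s) ⟨pullback.snd f s⟩ ω') ∧
        ∀ ℓ : ℕ, ℓ.Prime → (ℓ : Ω) ≠ 0 → EtAdic.betti (pullback f s) ℓ 2 = 2)
    (P : Over (Spec (CommRingCat.of R))) (φ : ∀ T : Over (Spec (CommRingCat.of R)), PicF.Cl (PicF.XT f T) → (T ⟶ P))
    (hP : AbDual.IsRelPicZeroK Scheme.fppfPrecoverage f P φ) :
    IsProper P.hom ∧ SmoothOfRelativeDimension 1 P.hom ∧
      ∀ (Ω : Type u) [Field Ω] [IsAlgClosed Ω] (s : Spec (CommRingCat.of Ω) ⟶ Spec (CommRingCat.of R)),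
        AlgebraicGeometry.IsIntegral (pullback P.hom s) ∧
          @FGA.eulerCharLE Ω _ (pullback P.hom s) ⟨pullback.snd P.hom s⟩ (Coh.structureModule (pullback P.hom s)) 1 = 0 := by
  exact K856.PicBiell.main K856.T2.t2
    R h6 X f hfib P φ hP

end Groth.Agent.S15381
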