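import Groth.Statements.S15391
import Mathlib.RingTheory.Ideal.MinimalPrime.Localization
import Mathlib.RingTheory.Ideal.MinimalPrime.Noetherian
import Mathlib.RingTheory.LocalRing.ResidueField.Ideal
import Mathlib.RingTheory.Localization.BaseChange
import Mathlib.RingTheory.Nilpotent.Lemmas
import Mathlib.RingTheory.LocalProperties.Reduced

set_option autoImplicit false
universe u
open TensorProduct
open TorFree

namespace Groth.Agent.S15391

/-- In a reduced ring an element of a minimal prime is killed by an element outside of it. -/
private theorem exists_mul_eq_zero {R : Type u} [CommRing R] [IsReduced R] (p : Ideal R) [p.IsPrime]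
    (hp : p ∈ minimalPrimes R) (x : R) (hx : x ∈ p) : ∃ s ∉ p, s * x = 0 := by
  have h1 := IsLocalization.AtPrime.radical_map_of_mem_minimalPrimes
    (A := Localization.AtPrime p) p ⊥ hp
  rw [Ideal.map_bot] at h1
  have h2 : (⊥ : Ideal (Localization.AtPrime p)).radical = ⊥ := by
    have : IsReduced (Localization.AtPrime p) :=
      isReduced_localizationPreserves p.primeCompl (Localization.AtPrime p) inferInstance
    exact nilradical_eq_zero _
  rw [h2] at h1
  have h3 : algebraMap R (Localization.AtPrime p) x ∈ p.map (algebraMap R _) :=
    Ideal.mem_map_of_mem _ hx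
  rw [← h1, Ideal.mem_bot, IsLocalization.map_eq_zero_iff p.primeCompl] at h3
  obtain ⟨⟨s, hs⟩, h⟩ := h3
  exact ⟨s, hs, h⟩

/-- The residue field at a minimal prime of a reduced ring is the localization. -/
private theorem isLocalization_residueField {R : Type u} [CommRing R] [IsReduced R] (p : Ideal R)
    [p.IsPrime] (hp : p ∈ minimalPrimes R) : IsLocalization p.primeCompl p.ResidueField where
  map_units s := by
    rw [isUnit_iff_ne_zero, ne_eq, Ideal.algebraMap_residueField_eq_zero]
    exact s.2
  surj x := by
    obtain ⟨x, rfl⟩ := IsLocalRing.residue_surjective x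
    obtain ⟨x, s, rfl⟩ := IsLocalization.exists_mk'_eq p.primeCompl x
    refine ⟨⟨x, s⟩, ?_⟩
    rw [IsScalarTower.algebraMap_apply R (Localization.AtPrime p) p.ResidueField,
      IsScalarTower.algebraMap_apply R (Localization.AtPrime p) p.ResidueField]
    change IsLocalRing.residue _ _ * IsLocalRing.residue _ _ = IsLocalRing.residue _ _
    rw [← map_mul, IsLocalization.mk'_spec]
  exists_of_eq {x y} h := by
    rw [← sub_eq_zero, ← map_sub, Ideal.algebraMap_residueField_eq_zero] at h
    obtain ⟨s, hs, h⟩ := exists_mul_eq_zero p hp _ h
    exact ⟨⟨s, hs⟩, by rw [mul_sub, sub_eq_zero] at h; exact h⟩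

/-- Let R be a reduced Noetherian commutative ring, M a finitely generated torsion-free R-module (no
non-zero element of M is annihilated by a non-zero-divisor of R), and t an element of M whose image
1 ⊗ t in the fibre κ(p) ⊗_R M vanishes for every prime ideal p of R, κ(p) being the residue field at
p. Then t = 0. This is the affine form of the claim that a global section of a coherent torsion-free
module on a reduced Noetherian scheme which vanishes in every fibre is zero. -/
theorem result (R : Type u) [CommRing R] [IsReduced R] [IsNoetherianRing R]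
    (M : Type u) [AddCommGroup M] [Module R M] [Module.Finite R M] [Module.IsTorsionFree R M]
    (t : M) (ht : ∀ p : PrimeSpectrum R, (1 : p.asIdeal.ResidueField) ⊗ₜ[R] t = (0 : p.asIdeal.ResidueField ⊗[R] M)) :
    t = 0 := by
  classical
  -- the annihilator of `t` is contained in no minimal prime
  have hann : ∀ p ∈ minimalPrimes R, ∃ s ∉ p, s • t = 0 := by
    intro p hp
    have : p.IsPrime := hp.1.1
    have := isLocalization_residueField p hp
    have h1 := ht ⟨p, inferInstance⟩
    have h2 := IsLocalizedModule.eq_zero_iff p.primeCompl
      (TensorProduct.mk R p.ResidueField M 1) (m := t)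
    obtain ⟨s, hs⟩ := h2.1 h1
    exact ⟨s.1, s.2, hs⟩
  have hfin : (minimalPrimes R).Finite := minimalPrimes.finite_of_isNoetherianRing R
  -- prime avoidance
  have hav : ∃ r ∈ Ideal.span {r : R | r • t = 0}, ∀ p ∈ minimalPrimes R, r ∉ p := by
    by_contra hcon
    push Not at hcon
    have h3 : ((Ideal.span {r : R | r • t = 0} : Ideal R) : Set R) ⊆ ⋃ p ∈ (hfin.toFinset : Set (Ideal R)), (p : Set R) := by
      intro r hr
      obtain ⟨p, hp, hrp⟩ := hcon r hr
      simp only [Set.mem_iUnion]
      exact ⟨p, by simpa using hp, hrp⟩
    rw [Ideal.subset_union_prime (f := fun p => p) ⊥ ⊥ (fun p hp _ _ => by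
      have := hfin.mem_toFinset.1 hp
      exact this.1.1)] at h3
    obtain ⟨p, hp, hle⟩ := h3
    obtain ⟨s, hs, hst⟩ := hann p (hfin.mem_toFinset.1 hp)
    exact hs (hle (Ideal.subset_span hst))
  obtain ⟨r, hr, hrp⟩ := hav
  have hrt : r • t = 0 := by
    have : Ideal.span {r : R | r • t = 0} ≤ (LinearMap.toSpanSingleton R M t).ker := by
      rw [Ideal.span_le]
      intro x hx
      simpa using hx
    simpa using this hr
  have hreg : IsRegular r := by
    have h0 : ∀ y : R, r * y = 0 → y = 0 := by
      intro y hy
      have : y ∈ nilradical R := by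
        rw [nilradical, Ideal.radical_eq_sInf, Ideal.mem_sInf]
        intro p hp
        have := hp.2
        obtain ⟨q, hq, hqp⟩ := Ideal.exists_minimalPrimes_le hp.1 (J := p)
        have hq' : q.IsPrime := hq.1.1
        have h4 : r * y ∈ q := by rw [hy]; exact q.zero_mem
        exact hqp ((hq'.mem_or_mem h4).resolve_left (hrp q hq))
      rw [nilradical_eq_zero] at this
      simpa using this
    have hl : IsLeftRegular r := by
      intro a b hab
      have : r * (a - b) = 0 := by
        have hab' : r * a = r * b := hab
        rw [mul_sub, hab', sub_self]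
      exact sub_eq_zero.1 (h0 _ this)
    exact ⟨hl, (Commute.isRightRegular_iff (Commute.all r)).mpr hl⟩
  exact (Module.IsTorsionFree.isSMulRegular (R := R) (M := M) hreg) (by simpa using hrt)

end Groth.Agent.S15391
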