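import Groth.Statements.S15393
import Groth.Agent.AbVar.K512.FMDualMain
import Groth.Agent.AbVar.K511.PC1
import Groth.Agent.AbVar.K511.PC2
import Groth.Agent.AbVar.K232.FMFinal

set_option autoImplicit false
universe u
open CategoryTheory CategoryTheory.Limits MonoidalCategory CartesianMonoidalCategory MonObj GrpObj AlgebraicGeometry
attribute [local instance] HasDerivedCategory.standard
open AbVar

namespace Groth.Agent.S15393

/-- Let k be an algebraically closed field of characteristic zero, A an abelian variety over k (a proper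
smooth k-group scheme with geometrically connected fibres) of dimension g, (A^t, φ) a given dual
abelian variety of A for the fppf topology with A^t itself an abelian variety, and P an invertible
module on A ×_k A^t whose class is a Poincaré class. Let I_0 ⊆ O_A be the ideal sheaf of the unit
point of A (the kernel of O_A → e_*O_{Spec k} for the unit section e), I_0^∨ = RHom(I_0, O_A) its
derived dual in D(O_A), and similarly I_{0^t} ⊆ O_{A^t} the ideal sheaf of the unit point of A^t.
Write Φ_P = Rpr_{2,*}(Lpr_1^*(−) ⊗^L P) : D(O_A) → D(O_{A^t}); the derived functors involved are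
assumed to exist. Then Φ_P(I_0^∨) is isomorphic in D(O_{A^t}) to I_{0^t}[−(g − 1)], the ideal sheaf
of the unit point placed in degree g − 1 (existence of an isomorphism). -/
theorem result (k : Type u) [Field k] [IsAlgClosed k] [CharZero k]
    (A At : Over (Spec (CommRingCat.of k))) [GrpObj A] [IsProper A.hom] [Smooth A.hom] [GeometricallyConnected A.hom]
    [GrpObj At] [IsProper At.hom] [Smooth At.hom] [GeometricallyConnected At.hom]
    (φ : ∀ T : Over (Spec (CommRingCat.of k)), PicF.Cl (PicF.XT A.hom T) → (T ⟶ At))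
    (hφ : AbDual.IsDualAV Scheme.fppfPrecoverage A At φ)
    (P : (pullback A.hom At.hom).Modules) (hP : PicF.IsInvertible P)
    (hPξ : AbDual.IsPoincareCl A At φ (PicF.cl P))
    (g : ℕ) (hg : topologicalKrullDim ↥A.left = g)
    [DCoh.HasLpull (pullback.fst A.hom At.hom)] [DCoh.HasLTensorMod P] [DCoh.HasRpush (pullback.snd A.hom At.hom)]
    [DCoh.HasLTensorCx ((HomologicalComplex.single A.left.Modules (ComplexShape.up ℤ) 0).obj (kernel (ClSub.unitToPush η[A].left)))]
    [DCoh.HasRSheafHom ((HomologicalComplex.single A.left.Modules (ComplexShape.up ℤ) 0).obj (kernel (ClSub.unitToPush η[A].left)))] :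
    Nonempty ((DCoh.Lpull (pullback.fst A.hom At.hom) ⋙ DCoh.LTensorMod P ⋙ DCoh.Rpush (pullback.snd A.hom At.hom)).obj
        ((DCoh.RSheafHom ((HomologicalComplex.single A.left.Modules (ComplexShape.up ℤ) 0).obj
          (kernel (ClSub.unitToPush η[A].left)))).obj (DCoh.inD A.left (Coh.structureModule A.left))) ≅
      (shiftFunctor (DCoh.D At.left) (-((g : ℤ) - 1))).obj (DCoh.inD At.left (kernel (ClSub.unitToPush η[At].left)))) := by
  have hI : HasInjectiveResolutions (pullback A.hom At.hom).Modules :=
    Groth.Agent.Dcoh.DerSch.hasInjectiveResolutions _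
  have hQ : ∀ M : DCoh.D A.left, DCoh.IsQCohD M → DCoh.IsQCohD ((DCoh.Lpull (pullback.fst A.hom At.hom) ⋙
      DCoh.LTensorMod P ⋙ DCoh.Rpush (pullback.snd A.hom At.hom)).obj M) :=
    fun M hM => K512.FMDualMain.qc_fm _ _ hP M hM
  have hΦ := (K512.FMSky.isTriang (pullback.fst A.hom At.hom) (pullback.snd A.hom At.hom) hP).additive
  obtain ⟨ζ, k1, k2, k3, k4⟩ := K732.AV.exists_of_isPoincareCl hPξ
  have hζ : ζ = Grpsch.PicGrp.mk P hP := Fga.RigGrp.toCl_injective k4
  have h1' : ∀ i : ℕ, i ≠ g → IsZero ((Coh.Rpush (pullback.snd A.hom At.hom) i).obj P) :=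
    fun i hi => K511.PC2.isZero hφ k1 k2 k3 hP hζ g hg i hi
  have h2 := K511.PC2.nonempty_iso hφ k1 k2 k3 hP hζ g hg
  have hE := K232.FMFinal.isEquivalence hφ hP hPξ g g
    ⟨fun i hi => K511.PC1.isZero hφ k1 k2 k3 hP hζ g hg i hi, K511.PC1.nonempty_iso hφ k1 k2 k3 hP hζ g hg⟩
    ⟨h1', h2⟩ hQ
  exact K512.FMDualMain.nonempty_iso k A At φ P hP hPξ g hg h1' h2
    (fun M N f hM hN hf => K512.FMDualMain.eq_zero_of_lift _ _ _ _ hE.faithful M N f hM hN hf)

end Groth.Agent.S15393
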