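import Groth.Statements.S15396
import Groth.Agent.AbVar.K517.RHLes
import Groth.Agent.AbVar.K517.ExtPoint
import Groth.Agent.AbVar.K512.AV
import Groth.Agent.Krr.H502.KosZero

set_option autoImplicit false
universe u
open CategoryTheory CategoryTheory.Limits MonoidalCategory CartesianMonoidalCategory MonObj GrpObj AlgebraicGeometry
attribute [local instance] HasDerivedCategory.standard
open AbVar

namespace Groth.Agent.S15396

/-- Let k be an algebraically closed field of characteristic zero and A an abelian variety over k (a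
proper smooth k-group scheme with geometrically connected fibres) of dimension g ≥ 2, with unit
section e : Spec k → A. Let I_0 ⊆ O_A be the ideal sheaf of the unit point (the kernel of O_A →
e_*O_{Spec k}) and I_0^∨ = RHom(I_0, O_A) its derived dual in D(O_A), whose cohomology sheaves are
the sheaves Ext^p(I_0, O_A); the derived functors involved are assumed to exist. Then Ext^0(I_0,
O_A) is isomorphic to O_A, Ext^{g−1}(I_0, O_A) is isomorphic to the skyscraper e_*O_{Spec k}, and
Ext^p(I_0, O_A) = 0 for every integer p different from 0 and g − 1 (existence of isomorphisms). (The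
published table is printed without restriction on g and twisted by a principal polarization, which
does not change the computation; for g = 1 the degrees 0 and g − 1 coincide and Hom(I_0, O_A) is the
invertible module O_A(0), so the table is stated here for g ≥ 2, the case in which it is used.) -/
theorem result (k : Type u) [Field k] [IsAlgClosed k] [CharZero k]
    (A : Over (Spec (CommRingCat.of k))) [GrpObj A] [IsProper A.hom] [Smooth A.hom] [GeometricallyConnected A.hom]
    (g : ℕ) (hg : topologicalKrullDim ↥A.left = g) (hg2 : 2 ≤ g)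
    [DCoh.HasLTensorCx ((HomologicalComplex.single A.left.Modules (ComplexShape.up ℤ) 0).obj (kernel (ClSub.unitToPush η[A].left)))] [DCoh.HasRSheafHom ((HomologicalComplex.single A.left.Modules (ComplexShape.up ℤ) 0).obj (kernel (ClSub.unitToPush η[A].left)))] :
    Nonempty (DCoh.HD ((DCoh.RSheafHom ((HomologicalComplex.single A.left.Modules (ComplexShape.up ℤ) 0).obj (kernel (ClSub.unitToPush η[A].left)))).obj (DCoh.inD A.left (Coh.structureModule A.left))) 0 ≅ Coh.structureModule A.left) ∧
    Nonempty (DCoh.HD ((DCoh.RSheafHom ((HomologicalComplex.single A.left.Modules (ComplexShape.up ℤ) 0).obj (kernel (ClSub.unitToPush η[A].left)))).obj (DCoh.inD A.left (Coh.structureModule A.left))) ((g : ℤ) - 1) ≅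
      (Scheme.Modules.pushforward η[A].left).obj (Coh.structureModule (Spec (CommRingCat.of k)))) ∧
    (∀ p : ℤ, p ≠ 0 → p ≠ (g : ℤ) - 1 → IsZero (DCoh.HD ((DCoh.RSheafHom ((HomologicalComplex.single A.left.Modules (ComplexShape.up ℤ) 0).obj (kernel (ClSub.unitToPush η[A].left)))).obj (DCoh.inD A.left (Coh.structureModule A.left))) p)) := by
  have hgi : GeometricallyIntegral A.hom := K512.AV.geometricallyIntegral A
  have hint : IsIntegral A.left := GeometricallyIntegral.isIntegral_of_subsingleton A.hom
  let i : Spec (CommRingCat.of k) ⟶ A.left := η[A].left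
  have hcl : IsClosedImmersion i := K517.ExtPoint.isClosedImmersion_unit A
  have hepi : Epi (ClSub.unitToPush i) := Groth.Agent.Krr.H502.KosZero.epi_unitToPush i
  let M := (Scheme.Modules.pushforward i).obj (Coh.structureModule (Spec (CommRingCat.of k)))
  let S : ShortComplex A.left.Modules := ShortComplex.mk (kernel.ι (ClSub.unitToPush i)) (ClSub.unitToPush i)
    (kernel.condition _)
  have hS : S.ShortExact :=
    { exact := ShortComplex.exact_kernel _
      mono_f := inferInstanceAs (Mono (kernel.ι (ClSub.unitToPush i)))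
      epi_g := hepi }
  let O := DCoh.inD A.left (Coh.structureModule A.left)
  obtain ⟨h1, h2⟩ := K517.ExtPoint.main A g hg
  let e : (DCoh.RSheafHom ((HomologicalComplex.single A.left.Modules (ComplexShape.up ℤ) 0).obj
      (kernel (ClSub.unitToPush i)))).obj O ≅
      (Groth.Agent.PerfC.RHomD.RH (DCoh.inD A.left (kernel (ClSub.unitToPush i)))).obj O :=
    (Groth.Agent.PerfC.RHomD.rsIso _).app O ≪≫
      (Groth.Agent.PerfC.RHomD.rhIso ((DerivedCategory.singleFunctorIsoCompQ A.left.Modules 0).symm.app
        (kernel (ClSub.unitToPush i))) O).symm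
  let e' : ∀ p : ℤ, DCoh.HD ((DCoh.RSheafHom ((HomologicalComplex.single A.left.Modules (ComplexShape.up ℤ) 0).obj
      (kernel (ClSub.unitToPush i)))).obj O) p ≅
      DCoh.HD ((Groth.Agent.PerfC.RHomD.RH (DCoh.inD A.left (kernel (ClSub.unitToPush i)))).obj O) p :=
    fun p => (DerivedCategory.homologyFunctor _ p).mapIso e
  refine ⟨?_, ?_, fun p hp0 hpg => ?_⟩
  · obtain ⟨a⟩ := K517.RHLes.nonempty_iso₂₁ hS O 0 (h1 0 (by omega)) (h1 (0 + 1) (by omega))
    obtain ⟨b⟩ := K517.RHLes.nonempty_HD_unit_zero (X := A.left)
    exact ⟨e' 0 ≪≫ a.symm ≪≫ b⟩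
  · obtain ⟨a⟩ := K517.RHLes.nonempty_iso₁₃ hS O ((g : ℤ) - 1)
      (K517.RHLes.isZero_HD_unit _ _ (by omega)) (K517.RHLes.isZero_HD_unit _ _ (by omega))
    obtain ⟨b⟩ := h2
    rw [sub_add_cancel] at a
    exact ⟨e' _ ≪≫ a ≪≫ b⟩
  · refine IsZero.of_iso ?_ (e' p)
    exact K517.RHLes.isZero₁ hS O p (K517.RHLes.isZero_HD_unit _ _ hp0) (h1 (p + 1) (by omega))

end Groth.Agent.S15396
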