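import Groth.Statements.S15397
import Groth.Agent.AbVar.K517.MulSec
import Groth.Agent.AbVar.K512.AV
import Groth.Agent.Sga67.DVRConn

set_option autoImplicit false
universe u
open CategoryTheory CategoryTheory.Limits MonoidalCategory CartesianMonoidalCategory MonObj GrpObj AlgebraicGeometry
open AbVar

namespace Groth.Agent.S15397

/-- Let k be an algebraically closed field of characteristic zero, A an abelian variety over k (a proper
smooth k-group scheme with geometrically connected fibres), and E a finite locally free O_A-module
of rank r which is generically globally generated: there are a non-empty open subset U of A and a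
family of global sections s_j : O_A → E such that the induced map from the direct sum of copies of
O_A to E is an epimorphism after restriction to U. Assume that r is smaller than the dimension over
k of H^0(A, E), and let D be a determinant of E, that is an r-th exterior power of E. Then the
multiplication map on global sections Γ(A, E) ⊗ Γ(A, D) → Γ(A, E ⊗ D), written as the canonical map
from the global sections of the sectionwise tensor product presheaf (the tensor being over the ring
of global functions Γ(A, O_A)) to the global sections of its sheafification, is not injective. -/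
theorem result (k : Type u) [Field k] [IsAlgClosed k] [CharZero k]
    (A : Over (Spec (CommRingCat.of k))) [GrpObj A] [IsProper A.hom] [Smooth A.hom] [GeometricallyConnected A.hom]
    (E : A.left.Modules) (r : ℕ) (hE : FlatMod.IsFinLocFreeOfRank r E)
    (hgen : ∃ (U : A.left.Opens) (J : Type u) (s : J → (Coh.structureModule A.left ⟶ E)),
      (U : Set ↥A.left).Nonempty ∧ Epi ((Scheme.Modules.restrictFunctor U.ι).map (Sigma.desc s)))
    (hlt : r < @Module.finrank k (Coh.HH A.left E 0) _ _ (@Coh.moduleOver k _ A.left ⟨A.hom⟩ E 0))
    (D : A.left.Modules) (hD : ExtPow.IsExtPow r E D) :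
    ¬ Function.Injective
      ((toSheafify (Opens.grothendieckTopology ↥A.left) (CohB1.tensorPre E D).presheaf).app (Opposite.op ⊤)) := by
  have hA : GeometricallyIntegral A.hom := K512.AV.geometricallyIntegral A
  obtain ⟨U, J, s, ⟨x, hx⟩, hU⟩ := hgen
  let _ : A.left.Over (Spec (CommRingCat.of k)) := ⟨A.hom⟩
  have hb : Function.Bijective (Groth.Agent.CurvesB.HZero.gl k A.left) := by
    have h1 := Groth.Agent.Sga67.DVRConn.appTop_bijective_of_field k A.left A.hom
    have h2 : Function.Bijective (Scheme.ΓSpecIso (CommRingCat.of k)).inv.hom :=
      ConcreteCategory.bijective_of_isIso _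
    exact h1.comp h2
  have hR : IsField Γ(A.left, ⊤) :=
    (RingEquiv.ofBijective _ hb).symm.toMulEquiv.isField (Field.toIsField k)
  obtain ⟨z, hz, hz0⟩ := K517.MulSec.exists_ne_zero hE hD s U hx hU hR (fun t ht =>
    absurd (K517.MulSec.finrank_le k hb.2 t ht) (not_le.2 hlt))
  intro hinj
  apply hz
  apply hinj
  refine Eq.trans ?_ (map_zero _).symm
  exact hz0

end Groth.Agent.S15397
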