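import Groth.Statements.S15398
import Groth.Agent.AbVar.K517.PPFin
import Groth.Agent.AbVar.K517.PPCoh
import Groth.Agent.AbVar.K512.AV

set_option autoImplicit false
universe u
open CategoryTheory CategoryTheory.Limits MonoidalCategory CartesianMonoidalCategory MonObj GrpObj AlgebraicGeometry
open AbVar

namespace Groth.Agent.S15398

/-- Let k be an algebraically closed field of characteristic zero, A an abelian variety over k (a proper
smooth k-group scheme with geometrically connected fibres) of dimension g ≥ 2, (A^t, φ) a given dual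
abelian variety of A for the fppf topology with A^t itself an abelian variety, and P an invertible
module on A ×_k A^t whose class is a Poincaré class; for a k-rational point α of A^t write P_α for
the restriction of P along A = A × {α} → A ×_k A^t. Let L be an ample invertible O_A-module with an
inverse L' (L ⊗ L' ≅ O_A), n ≥ 0, and P^n(L) the sheaf of principal parts of order n of L relative
to k with its left O_A-module structure (the direct image along the first projection of the pullback
of L along the second projection of the n-th infinitesimal neighbourhood of the diagonal). For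
integers b, c ≥ 1, so that t = c/b − 1 is any rational number greater than −1, let b_A : A → A be
multiplication by b (the b-th power of the identity in the group Hom(A, A)). Then for every
k-rational point α of A^t the module b_A^*P^n(L) ⊗ L^{⊗ cb} ⊗ L'^{⊗ b·b} ⊗ P_α has vanishing
cohomology H^j for every j ≥ 1, and its space of global sections H^0 has dimension b^g · c^g ·
h^0(L) · binom(n + g, g) over k, h^0(L) being the dimension of H^0(A, L). In the language of
Q-twisted sheaves: P^n(L)⟨tℓ⟩ satisfies IT(0) and has h^0 = (1 + t)^g h^0(L) binom(n+g, g) for every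
t > −1. -/
theorem result (k : Type u) [Field k] [IsAlgClosed k] [CharZero k]
    (A At : Over (Spec (CommRingCat.of k))) [GrpObj A] [IsProper A.hom] [Smooth A.hom] [GeometricallyConnected A.hom]
    [GrpObj At] [IsProper At.hom] [Smooth At.hom] [GeometricallyConnected At.hom]
    (φ : ∀ T : Over (Spec (CommRingCat.of k)), PicF.Cl (PicF.XT A.hom T) → (T ⟶ At))
    (hφ : AbDual.IsDualAV Scheme.fppfPrecoverage A At φ)
    (P : (pullback A.hom At.hom).Modules) (hP : PicF.IsInvertible P)
    (hPξ : AbDual.IsPoincareCl A At φ (PicF.cl P))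
    (g : ℕ) (hg : topologicalKrullDim ↥A.left = g) (hg2 : 2 ≤ g)
    (L L' : A.left.Modules) (hL : CohB1.IsAmple L) (hLL' : Nonempty (CohB1.tensorMod L L' ≅ Coh.structureModule A.left))
    (n b c : ℕ) (hb : 1 ≤ b) (hc : 1 ≤ c) (α : 𝟙_ (Over (Spec (CommRingCat.of k))) ⟶ At) :
    (∀ j : ℕ, 1 ≤ j → Subsingleton (Coh.HH A.left (CohB1.tensorMod (CohB1.tensorMod (CohB1.tensorMod ((Scheme.Modules.pullback ((𝟙 A) ^ b).left).obj (PrinPart.PMod A.hom n L)) (CohB1.tensorPow L (c * b))) (CohB1.tensorPow L' (b * b))) ((Scheme.Modules.pullback (CartesianMonoidalCategory.lift (𝟙 A) (toUnit A ≫ α)).left).obj P)) j)) ∧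
    @Module.finrank k (Coh.HH A.left (CohB1.tensorMod (CohB1.tensorMod (CohB1.tensorMod ((Scheme.Modules.pullback ((𝟙 A) ^ b).left).obj (PrinPart.PMod A.hom n L)) (CohB1.tensorPow L (c * b))) (CohB1.tensorPow L' (b * b))) ((Scheme.Modules.pullback (CartesianMonoidalCategory.lift (𝟙 A) (toUnit A ≫ α)).left).obj P)) 0) _ _ (@Coh.moduleOver k _ A.left ⟨A.hom⟩ (CohB1.tensorMod (CohB1.tensorMod (CohB1.tensorMod ((Scheme.Modules.pullback ((𝟙 A) ^ b).left).obj (PrinPart.PMod A.hom n L)) (CohB1.tensorPow L (c * b))) (CohB1.tensorPow L' (b * b))) ((Scheme.Modules.pullback (CartesianMonoidalCategory.lift (𝟙 A) (toUnit A ≫ α)).left).obj P)) 0) =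
      b ^ g * c ^ g * @Module.finrank k (Coh.HH A.left L 0) _ _ (@Coh.moduleOver k _ A.left ⟨A.hom⟩ L 0) * Nat.choose (n + g) g := by
  have hI : GeometricallyIntegral A.hom := K512.AV.geometricallyIntegral A
  have hm : 0 < c * b := Nat.mul_pos hc hb
  have hL' : PicF.IsInvertible L' := K517.PPFin.isInvertible' A hLL'
  obtain ⟨x, ⟨e⟩⟩ := K517.PPFin.exists_translate A At hφ hP hPξ α hL hLL' b (c * b) hm
  have hpow := Groth.Agent.Divis.NormAmple.isAmple_tensorPow hL hm
  have hq : Coh.IsQCoh (CohB1.tensorPow L (c * b)) := Groth.Agent.Ega2.QCohLocal.isQCoh_of_isInvertible hpow.1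
  have hx : IsIso (K512.Phi.tr x) :=
    ⟨K512.Phi.tr x⁻¹, by rw [K512.Phi.tr_comp_tr, mul_inv_cancel, K512.Phi.tr_one],
      by rw [K512.Phi.tr_comp_tr, inv_mul_cancel, K512.Phi.tr_one]⟩
  have hx' : IsIso (K512.Phi.tr x).left := inferInstanceAs (IsIso ((Over.forget _).map (K512.Phi.tr x)))
  have hN : PicF.IsInvertible (K517.PPFin.tw A At (P := P) α (L := L) (L' := L') b (c * b)) :=
    Groth.Agent.Fdesc.LocGen.isInvertible_tensorMod (Groth.Agent.Fdesc.LocGen.isInvertible_tensorMod
      hpow.1 (Groth.Agent.Fdesc.LocGen.isInvertible_tensorPow hL' _))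
      (Groth.Agent.Fdesc.LocGen.isInvertible_pullback _ hP)
  obtain ⟨h1, h2⟩ := K517.PPCoh.main A g hg n ((𝟙 A) ^ b) hL.1 hN fun p =>
    K517.PPCoh.subsingleton_iso e.symm (p + 1)
      ((Groth.Agent.Flat2H.ThickFibre.subsingleton_HH_pullback_iff _ _ hq _).2
        (K511.AmpleVan.vanish A _ hpow (p + 1) (Nat.succ_pos p)))
  let e2 : CohB1.tensorMod (CohB1.tensorMod (CohB1.tensorMod ((Scheme.Modules.pullback ((𝟙 A) ^ b).left).obj (PrinPart.PMod A.hom n L)) (CohB1.tensorPow L (c * b))) (CohB1.tensorPow L' (b * b))) ((Scheme.Modules.pullback (CartesianMonoidalCategory.lift (𝟙 A) (toUnit A ≫ α)).left).obj P) ≅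
      CohB1.tensorMod ((Scheme.Modules.pullback ((𝟙 A) ^ b).left).obj (PrinPart.PMod A.hom n L))
        (K517.PPFin.tw A At (P := P) α (L := L) (L' := L') b (c * b)) :=
    Groth.Agent.Ega2.Tens.mapTIso (Groth.Agent.Ega2.Tens.assoc _ _ _) (Iso.refl _) ≪≫
      Groth.Agent.Ega2.Tens.assoc _ _ _
  refine ⟨fun j hj => ?_, ?_⟩
  · obtain ⟨p, rfl⟩ : ∃ p, j = p + 1 := ⟨j - 1, by omega⟩
    exact K517.PPCoh.subsingleton_iso e2.symm _ (h1 p)
  · let _ : A.left.Over (Spec (CommRingCat.of k)) := ⟨A.hom⟩
    have h3 := Groth.Agent.Dix.Cast0.finrank_HH_iso k (K512.Phi.tr x).left (Over.w (K512.Phi.tr x))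
      (CohB1.tensorPow L (c * b)) hq 0
    have h4 := K517.PPFin.finrank_pow A g hg hL (c * b) hm
    rw [K517.PPCoh.hz_eq, K517.PPCoh.hz_iso _ e2, h2, K517.PPCoh.hz_iso _ e, ← K517.PPCoh.hz_eq]
    refine (congrArg (fun q => (n + g).choose g * q) (h3.trans h4)).trans ?_
    rw [mul_pow]
    ring

end Groth.Agent.S15398
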