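import Groth.Statements.S15401
-- import your own Groth.Agent.* helpers here
import Groth.Agent.PicGrp.K858.Basic
import Groth.Agent.CurvesA.H1GmPicSurj

set_option autoImplicit false
universe u
open CategoryTheory CategoryTheory.Limits AlgebraicGeometry
open PicGrp

namespace Groth.Agent.S15401

/-- Let X be a quasi-compact and quasi-separated scheme and assume the Picard group law on X. Then the
Picard group of X, written additively, is isomorphic as a group to the first cohomology group of the
multiplicative group sheaf G_m on the small étale site of X. (Existence of a group isomorphism only:
the isomorphism induced by sending an invertible module to its sheaf of trivialisations is not named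
here.) -/
theorem result (X : Scheme.{u}) [CompactSpace X] [QuasiSeparatedSpace X]
    [PicGrp.Law X] :
    Nonempty (Additive (PicLoc.PicSet X) ≃+ EtCoh.H X (EtCoh.Gm X) 1) := by
  exact ⟨(MulEquiv.toAdditive (K858.Basic.ofPic X).symm).trans
    (Groth.Agent.CurvesA.H1GmPic.picEquiv X)⟩

end Groth.Agent.S15401
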