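import Groth.Statements.S15402
import Groth.Agent.Pic13.K858.DivAlg
import Groth.Agent.PicGrp.K858.Basic
import Groth.Agent.Pic13.H950.NumCl
import Groth.Agent.S4277
import Groth.Agent.S4289

set_option autoImplicit false
universe u
open CategoryTheory CategoryTheory.Limits AlgebraicGeometry
open PicGrp

namespace Groth.Agent.S15402

/-- Let k be an algebraically closed field, X a proper k-scheme, ℓ a prime number which is nonzero in k,
and L an invertible O_X-module; assume the Picard group law on X. Call a class c of Pic(X)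
ℓ-divisible when for every n ≥ 1 it is an ℓ^n-th power. (a) If some power c^m, m ≥ 1, of the class c
of L is ℓ-divisible, then c lies in the subgroup of Pic(X) generated by the classes of invertible
modules τ-equivalent to zero (some positive tensor power algebraically equivalent to zero). (b)
Conversely, if moreover the structure map induces an isomorphism k ≅ H⁰(X, O_X) and c lies in that
subgroup, then some power c^m, m ≥ 1, is ℓ-divisible. (The published statement lists further
equivalent conditions through the ℓ-adic first Chern class, not stated here. The published statement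
proves (a) for X proper over an arbitrary field; here k is taken algebraically closed in both parts,
the setting of the τ-equivalence notion used.) -/
theorem result (k : Type u) [Field k] [IsAlgClosed k]
    (X : Scheme.{u}) [X.Over (Spec (CommRingCat.of k))] [IsProper (X ↘ Spec (CommRingCat.of k))]
    (ℓ : ℕ) (hℓ : ℓ.Prime) (hℓk : (ℓ : k) ≠ 0) (L : X.Modules) (hL : PicF.IsInvertible L) [PicGrp.Law X] :
    ((∃ m : ℕ, 0 < m ∧ ∀ n : ℕ, ∃ d : PicLoc.PicSet X, d ^ (ℓ ^ n) = PicGrp.cls L hL ^ m) →
        PicGrp.cls L hL ∈ PicGrp.subCl (Pic13.IsTauEquivZero k X)) ∧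
      (IsIso (X ↘ Spec (CommRingCat.of k)).appTop →
        PicGrp.cls L hL ∈ PicGrp.subCl (Pic13.IsTauEquivZero k X) →
          ∃ m : ℕ, 0 < m ∧ ∀ n : ℕ, ∃ d : PicLoc.PicSet X, d ^ (ℓ ^ n) = PicGrp.cls L hL ^ m) := by
  have hcl : ∀ c : PicLoc.PicSet X, c ∈ PicGrp.subCl (Pic13.IsTauEquivZero k X) →
      (K858.Basic.ofPic X).symm c ∈ Groth.Agent.Pic13.H138.AlgEquiv.tau0 k X := by
    intro c hc
    have hle : PicGrp.subCl (Pic13.IsTauEquivZero k X) ≤
        (Groth.Agent.Pic13.H138.AlgEquiv.tau0 k X).comap (K858.Basic.ofPic X).symm.toMonoidHom := by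
      rw [PicGrp.subCl, Subgroup.closure_le]
      rintro _ ⟨M, hM, hP, rfl⟩
      change (K858.Basic.ofPic X).symm (PicGrp.cls M hM) ∈ Groth.Agent.Pic13.H138.AlgEquiv.tau0 k X
      rw [K858.Basic.ofPic_symm_cls]
      exact (Groth.Agent.Pic13.H138.AlgEquiv.isTauEquivZero_iff_mem hM).mp hP
    exact hle hc
  constructor
  · rintro ⟨m, hm, h⟩
    apply PicGrp.cls_mem_subCl hL
    apply Groth.Agent.S4277.result k X L hL
    rw [← Groth.Agent.Pic13.H950.NumCl.mem_numCl_iff k X hL,
      ← Groth.Agent.Pic13.H950.NumCl.pow_mem_numCl_iff k X hm.ne']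
    intro C
    by_contra hne
    have hdvd : ∀ n : ℕ, ((ℓ ^ n : ℕ) : ℤ) ∣
        Groth.Agent.Pic13.H950.NumCl.dgc k X C (Groth.Agent.Grpsch.PicGrp.mk L hL ^ m) := by
      intro n
      obtain ⟨d, hd⟩ := h n
      have h1 := congrArg (K858.Basic.ofPic X).symm hd
      rw [map_pow, map_pow, K858.Basic.ofPic_symm_cls] at h1
      rw [← h1, Groth.Agent.Pic13.H950.NumCl.dgc_pow]
      exact Dvd.intro _ rfl
    have h2 := hdvd (Groth.Agent.Pic13.H950.NumCl.dgc k X C (Groth.Agent.Grpsch.PicGrp.mk L hL ^ m)).natAbs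
    have h3 := Nat.le_of_dvd (Int.natAbs_pos.mpr hne) (Int.natCast_dvd.mp h2)
    exact absurd (Nat.lt_pow_self hℓ.one_lt) (not_lt.mpr h3)
  · intro _ hc
    have h1 := hcl _ hc
    rw [K858.Basic.ofPic_symm_cls] at h1
    obtain ⟨m, hm, h2⟩ := h1
    obtain ⟨P, hP, -, hP'⟩ := Groth.Agent.S4289.result k X
    refine ⟨m, hm, fun n => ?_⟩
    have hn : ((ℓ ^ n : ℕ) : k) ≠ 0 := by
      rw [Nat.cast_pow]
      exact pow_ne_zero n hℓk
    obtain ⟨d, hd⟩ := K858.DivAlg.exists_pow_of_mem_alg0 X hP (ℓ ^ n) hn h2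
    refine ⟨K858.Basic.ofPic X d, ?_⟩
    rw [← map_pow, hd, map_pow]
    rfl

end Groth.Agent.S15402
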