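import Groth.Statements.S15405
import Groth.Agent.ASBun.K792.PicTw2
-- import your own Groth.Agent.* helpers here

set_option autoImplicit false
universe u
open CategoryTheory CategoryTheory.Limits AlgebraicGeometry
open ASBun

namespace Groth.Agent.S15405

open W4c1astiltbs12 PicGrp K792.PicTw Groth.Agent.ASBun.K791.Dual in
/-- Let X be proper over a field k, K an algebraic closure of k such that X_K is connected, and π : X_K
→ X the projection; assume the Picard group laws on X and on X_K and that pullback of invertible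
classes along π is multiplicative. Suppose that Pic(X_K) is infinite cyclic, generated by the class
of an invertible module L; that J is an invertible O_X-module with π^*J ≅ L^{⊗r} for some r ≥ 1; and
that there is an indecomposable finite locally free O_X-module (nonzero, and in any direct-sum
decomposition one summand is zero) whose pullback to X_K is isomorphic to L^{⊕d} for some d. Then:
(a) every indecomposable finite locally free O_X-module E whose pullback to X_K is a finite direct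
sum of invertible modules is isomorphic to M ⊗ J_a, where 0 ≤ j < r, M is an indecomposable finite
locally free O_X-module with π^*M ≅ (L^{⊗j})^{⊕d} for some d, a is an integer and J_a is an
invertible O_X-module whose class in Pic(X) is the a-th power of the class of J; (b) the integers a
and j in such an expression are determined by E. (The published statement takes r to be the least
such integer, the period, and leaves the connectedness of X_K implicit; the argument treats
invertible modules on X_K as indecomposable, whence that hypothesis, and does not use the minimality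
of r.) -/
theorem result (k : Type u) [Field k] {X : Scheme.{u}}
    (p : X ⟶ Spec (CommRingCat.of k)) [IsProper p] (K : Type u) [Field K] [Algebra k K] [IsAlgClosure k K]
    [ConnectedSpace ↥(W4bk4gw11416.baseChange p K)]
    [PicGrp.Law X] [PicGrp.Law (W4bk4gw11416.baseChange p K)] (hπ : PicGrp.PullMul (proj p K))
    (L : (W4bk4gw11416.baseChange p K).Modules) (hL : PicF.IsInvertible L)
    (e : PicLoc.PicSet (W4bk4gw11416.baseChange p K) ≃* Multiplicative ℤ)
    (he : e (PicGrp.cls L hL) = Multiplicative.ofAdd 1)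
    (r : ℕ) (hr : 1 ≤ r) (J : X.Modules) (hJ : PicF.IsInvertible J)
    (hJL : Nonempty (bcMod p K J ≅ CohB1.tensorPow L r))
    (hML : ∃ (M₁ : X.Modules) (d₁ : ℕ), FlatMod.IsFinLocFree M₁ ∧
      (¬ IsZero M₁ ∧ ∀ A B : X.Modules, Nonempty (M₁ ≅ A ⊞ B) → IsZero A ∨ IsZero B) ∧
      Nonempty (bcMod p K M₁ ≅ pow L d₁))
    (E : X.Modules) (hE : FlatMod.IsFinLocFree E)
    (hEi : (¬ IsZero E ∧ ∀ A B : X.Modules, Nonempty (E ≅ A ⊞ B) → IsZero A ∨ IsZero B))
    (n : ℕ) (Ls : Fin n → (W4bk4gw11416.baseChange p K).Modules) (hLs : ∀ i, PicF.IsInvertible (Ls i))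
    (hEs : Nonempty (bcMod p K E ≅ ∐ Ls)) :
    (∃ (a : ℤ) (j : ℕ), j < r ∧ ∃ (M : X.Modules) (d : ℕ) (Ja : X.Modules) (hJa : PicF.IsInvertible Ja),
      FlatMod.IsFinLocFree M ∧ (¬ IsZero M ∧ ∀ A B : X.Modules, Nonempty (M ≅ A ⊞ B) → IsZero A ∨ IsZero B) ∧
      Nonempty (bcMod p K M ≅ pow (CohB1.tensorPow L j) d) ∧
      PicGrp.cls Ja hJa = PicGrp.cls J hJ ^ a ∧ Nonempty (E ≅ CohB1.tensorMod M Ja)) ∧
    (∀ (a a' : ℤ) (j j' : ℕ) (M M' : X.Modules) (d d' : ℕ) (Ja Ja' : X.Modules)
      (hJa : PicF.IsInvertible Ja) (hJa' : PicF.IsInvertible Ja'),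
      j < r → j' < r →
      (¬ IsZero M ∧ ∀ A B : X.Modules, Nonempty (M ≅ A ⊞ B) → IsZero A ∨ IsZero B) → (¬ IsZero M' ∧ ∀ A B : X.Modules, Nonempty (M' ≅ A ⊞ B) → IsZero A ∨ IsZero B) →
      Nonempty (bcMod p K M ≅ pow (CohB1.tensorPow L j) d) → Nonempty (bcMod p K M' ≅ pow (CohB1.tensorPow L j') d') →
      PicGrp.cls Ja hJa = PicGrp.cls J hJ ^ a → PicGrp.cls Ja' hJa' = PicGrp.cls J hJ ^ a' →
      Nonempty (E ≅ CohB1.tensorMod M Ja) → Nonempty (E ≅ CohB1.tensorMod M' Ja') → a = a' ∧ j = j') := by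
  have hEc : Coh.IsCoh E := PerfA.CohSerre.isCoh_of_isFinLocFree hE
  have hE0 : ¬ IsZero (bcMod p K E) := not_isZero_bc p K hEc hEi.1
  have hJi := PicLoc.isInvertible_pullback (proj p K) hJ
  have hJL' : cls (bcMod p K J) hJi = cls L hL ^ r := by
    apply Subtype.ext
    rw [cls_pow_val]
    exact (cl_eq_cl_iff _ _).2 hJL
  have hinj : ∀ m m' : ℤ, cls L hL ^ m = cls L hL ^ m' → m = m' := by
    intro m m' h
    have h2 := congrArg e h
    rw [map_zpow, map_zpow, he] at h2
    have h3 := congrArg Multiplicative.toAdd h2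
    simpa using h3
  have hpinv : ∀ j : ℕ, PicF.IsInvertible (CohB1.tensorPow L j) := isInvertible_tensorPow hL
  have hcl : ∀ j : ℕ, cls (CohB1.tensorPow L j) (hpinv j) = cls L hL ^ (j : ℤ) := fun j => by
    rw [zpow_natCast]
    exact Subtype.ext (cls_pow_val hL j).symm
  -- the class of the pull back of `J_a`
  have hpull : ∀ (a : ℤ) (Ja : X.Modules) (hJa : PicF.IsInvertible Ja), cls Ja hJa = cls J hJ ^ a →
      cls (bcMod p K Ja) (PicLoc.isInvertible_pullback (proj p K) hJa) = cls L hL ^ (r * a) := by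
    intro a Ja hJa h
    rw [cls_pull hπ hJ hJa a h, hJL', zpow_mul, zpow_natCast]
  constructor
  · -- the exponent
    have hn : 0 < n := by
      obtain ⟨φ⟩ := hEs
      rcases Nat.eq_zero_or_pos n with hn | hn
      · exfalso
        subst hn
        apply hE0
        refine IsZero.of_iso ?_ φ
        rw [IsZero.iff_id_eq_zero]
        exact Sigma.hom_ext _ _ (fun i => i.elim0)
      · exact hn
    obtain ⟨φ⟩ := hEs
    let D := K792.EndPow.Dec.ofCoprodIso φ
    set N := Ls ⟨0, hn⟩ with hNdef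
    have hN : PicF.IsInvertible N := hLs _
    set m : ℤ := Multiplicative.toAdd (e (cls N hN)) with hm
    have hNm : cls N hN = cls L hL ^ m := by
      apply e.injective
      rw [map_zpow, he, hm]
      simp [← ofAdd_zsmul]
    have hr0 : (0 : ℤ) < r := by omega
    set q : ℤ := m / r with hq
    set j : ℕ := (m % r).toNat with hj
    have hj0 : (j : ℤ) = m % r := by
      rw [hj]
      exact Int.toNat_of_nonneg (Int.emod_nonneg m hr0.ne')
    have hjr : j < r := by
      have := Int.emod_lt_of_pos m hr0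
      omega
    have hmq : m = j + r * q := by
      rw [hj0, hq]
      exact (Int.emod_add_mul_ediv m r).symm
    obtain ⟨Jq, hJq, h1⟩ := exists_eq_cls (cls J hJ ^ q)
    obtain ⟨Jn, hJn, h2⟩ := exists_eq_cls (cls J hJ ^ (-q))
    obtain ⟨M₁, d₁, hM₁, hM₁i, ⟨ψ⟩⟩ := hML
    have hM₁c : Coh.IsCoh M₁ := PerfA.CohSerre.isCoh_of_isFinLocFree hM₁
    have hd₁ : 0 < d₁ := pos_of_pow (not_isZero_bc p K hM₁c hM₁i.1) ψ
    have t0 : Tp (proj p K) L d₁ M₁ := ⟨ψ⟩
    obtain ⟨t1⟩ := iso_of_cls (hpinv j) (PicLoc.isInvertible_pullback (proj p K) hJq) hN (by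
      rw [hcl, hpull q Jq hJq h1.symm, hNm, ← zpow_add, ← hmq])
    have t2 : Tp (proj p K) N (d₁ ^ j) (CohB1.tensorMod (K792.EndTens.tp M₁ j) Jq) :=
      (Tp.tens_one (J := Jq) (t0.tp j)).of_iso t1 (Iso.refl _)
    have t3 : FlatMod.IsFinLocFree (CohB1.tensorMod (K792.EndTens.tp M₁ j) Jq) :=
      Groth.Agent.Sga67.LocBasis.isFinLocFree_tensorMod (K792.EndTens.isFinLocFree_tp hM₁ j) (isFinLocFree_of_inv hJq)
    have t4 : ¬ IsZero (CohB1.tensorMod (K792.EndTens.tp M₁ j) Jq) :=
      not_isZero_of_tp (K792.EndLine.not_isZero hN) (pow_pos hd₁ j) t2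
    obtain ⟨s, hs, ⟨w⟩⟩ := exists_tp_of_summand p K hEc hEi hN (D.ι ⟨0, hn⟩) (D.π ⟨0, hn⟩) (D.ι_π_self _)
      (PerfA.CohSerre.isCoh_of_isFinLocFree t3) t4 t2
    have w' : Tp (proj p K) N s E := ⟨w⟩
    obtain ⟨t5⟩ := iso_of_cls hN (PicLoc.isInvertible_pullback (proj p K) hJn) (hpinv j) (by
      rw [hcl, hpull (-q) Jn hJn h2.symm, hNm, ← zpow_add, hmq]
      congr 1
      ring)
    obtain ⟨i1⟩ := (cls_mul_cls_eq_one_iff hJn hJq).1 (by rw [← h1, ← h2, ← zpow_add]; simp)
    refine ⟨q, j, hjr, CohB1.tensorMod E Jn, s, Jq, hJq,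
      Groth.Agent.Sga67.LocBasis.isFinLocFree_tensorMod hE (isFinLocFree_of_inv hJn), indec_tens i1 hEi, 
      (Tp.tens_one (J := Jn) w').of_iso t5 (Iso.refl _), h1.symm, ⟨(tensCancel E i1).symm⟩⟩
  · intro a a' j j' M M' d d' Ja Ja' hJa hJa' hj hj' hM hM' eM eM' ha ha' i i'
    obtain ⟨i⟩ := i
    obtain ⟨i'⟩ := i'
    have h1 : Tp (proj p K) (CohB1.tensorMod (CohB1.tensorPow L j) (bcMod p K Ja)) d E :=
      (Tp.tens_one (J := Ja) (show Tp (proj p K) _ _ _ from eM)).of_iso (Iso.refl _) i.symm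
    have h1' : Tp (proj p K) (CohB1.tensorMod (CohB1.tensorPow L j') (bcMod p K Ja')) d' E :=
      (Tp.tens_one (J := Ja') (show Tp (proj p K) _ _ _ from eM')).of_iso (Iso.refl _) i'.symm
    have hcl2 : ∀ (j : ℕ) (a : ℤ) (Ja : X.Modules) (hJa : PicF.IsInvertible Ja), cls Ja hJa = cls J hJ ^ a →
        ∃ h : PicF.IsInvertible (CohB1.tensorMod (CohB1.tensorPow L j) (bcMod p K Ja)),
          cls _ h = cls L hL ^ ((j : ℤ) + r * a) := by
      intro j a Ja hJa ha
      obtain ⟨N, hN, hN'⟩ := exists_eq_cls (cls L hL ^ ((j : ℤ) + r * a))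
      obtain ⟨t⟩ := iso_of_cls (hpinv j) (PicLoc.isInvertible_pullback (proj p K) hJa) hN (by
        rw [hcl, hpull a Ja hJa ha, ← zpow_add, hN'])
      refine ⟨isInvertible_of_iso t.symm hN, ?_⟩
      rw [hN']
      exact (cls_eq_cls_iff _ _).2 ⟨t⟩
    obtain ⟨g, hg⟩ := hcl2 j a Ja hJa ha
    obtain ⟨g', hg'⟩ := hcl2 j' a' Ja' hJa' ha'
    obtain ⟨φ⟩ := h1
    obtain ⟨φ'⟩ := h1'
    have hd : 0 < d := pos_of_pow hE0 φ
    have h2 := iso_of_pow_iso p K g g' hd (φ.symm ≪≫ φ')
    have h3 : (j : ℤ) + r * a = j' + r * a' := hinj _ _ (by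
      rw [← hg, ← hg']
      exact (cls_eq_cls_iff _ _).2 h2)
    have h4 : (j : ℤ) = j' := by
      have e1 : ((j : ℤ) + r * a) % r = j := by
        rw [Int.add_mul_emod_self_left]
        exact Int.emod_eq_of_lt (by positivity) (by exact_mod_cast hj)
      have e2 : ((j' : ℤ) + r * a') % r = j' := by
        rw [Int.add_mul_emod_self_left]
        exact Int.emod_eq_of_lt (by positivity) (by exact_mod_cast hj')
      rw [← e1, ← e2, h3]
    refine ⟨?_, by exact_mod_cast h4⟩
    rw [h4] at h3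
    have h5 : (r : ℤ) * a = r * a' := by linarith
    exact mul_left_cancel₀ (by omega) h5

end Groth.Agent.S15405
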