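import Groth.Statements.S15406
import Groth.Agent.S19553
import Groth.Agent.Models.K954.GenFib
import Groth.Agent.Models.K954.ExactComp
import Groth.Agent.PicGrp.K858.Basic

set_option autoImplicit false
universe u
open CategoryTheory CategoryTheory.Limits AlgebraicGeometry
open Models

namespace Groth.Agent.S15406

/-- Let R be a complete discrete valuation ring with algebraically closed residue field k and fraction
field K, C a smooth proper curve over K with H⁰(C, O_C) = K and dim_K H¹(C, O_C) ≥ 2, and X → Spec R
a regular proper model of C, with g : C → X exhibiting C as the generic fibre. Let Γ₁, …, Γ_n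
enumerate the irreducible components of the closed fibre, with multiplicities of greatest common
divisor 1, and for each i let L_i be an invertible O_X-module inverse to the ideal sheaf of Γ_i (so
that (L_i · Γ_j) is the intersection number Γ_i · Γ_j). Assume the Picard group laws on X and on C
and that pullback of invertible classes along g is multiplicative. Let G be the quotient of ℤⁿ by
the subgroup spanned by the vectors ((L_i · Γ_j))_j, i = 1, …, n. Then: (a) an invertible O_X-module
of degree 0 on every Γ_j whose pullback to C is trivial is itself trivial; (b) there is a surjective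
homomorphism ψ from Pic(C) (written additively) onto G which sends the class of g^*L, for every
invertible O_X-module L, to the class of the vector ((L · Γ_j))_j, and whose kernel consists exactly
of the classes g^*L with L invertible on X of degree 0 on every Γ_j. In other words 0 → Pic⁰(X) →
Pic(C) → G → 0 is exact, Pic⁰(X) denoting the classes of degree 0 on all components of the closed
fibre. -/
theorem result
    (R : Type u) [CommRing R] [IsDomain R] [IsDiscreteValuationRing R]
    [IsAdicComplete (IsLocalRing.maximalIdeal R) R] (hk : IsAlgClosed (IsLocalRing.ResidueField R))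
    (C : Scheme.{u}) (fC : C ⟶ Spec (CommRingCat.of (FractionRing R))) [IsProper fC] [Smooth fC]
    (hC0 : Models.hRank (FractionRing R) C fC (Coh.structureModule C) 0 = 1)
    (hg2 : 2 ≤ Models.curveGenus (FractionRing R) C fC)
    (X : Scheme.{u}) (p : X ⟶ Spec (CommRingCat.of R)) (hX : Models.IsRegularProperModel R X p C fC)
    (g : C ⟶ X) (hg : IsPullback g fC p (Spec.map (CommRingCat.ofHom (algebraMap R (FractionRing R)))))
    {n : ℕ} (Γ : Fin n → ArSurf.VertComp R (Over.mk p)) (hΓ : Models.IsComponentList R (Over.mk p) Γ)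
    (hgcd : Models.multGcd R (Over.mk p) Γ = 1)
    (LD : Fin n → X.Modules) (hLD : ∀ i, ClSub.IsInverseOf (LD i) (ClSub.idealMod (Γ i).ι.ker))
    [PicGrp.Law X] [PicGrp.Law C] (hgm : PicGrp.PullMul g) :
    (∀ (L : X.Modules) (hL : PicF.IsInvertible L), (∀ j, ArSurf.inter R (Over.mk p) L (Γ j) = 0) →
        PicGrp.pullHom g hgm (PicGrp.cls L hL) = 1 → PicGrp.cls L hL = 1) ∧
      ∃ ψ : Additive (PicLoc.PicSet C) →+
          ((Fin n → ℤ) ⧸ LinearMap.range (Matrix.mulVecLin
            (Matrix.of fun j i => ArSurf.inter R (Over.mk p) (LD i) (Γ j)))),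
        (∀ (L : X.Modules) (hL : PicF.IsInvertible L),
            ψ (Additive.ofMul (PicGrp.pullHom g hgm (PicGrp.cls L hL))) =
              Submodule.Quotient.mk (fun j => ArSurf.inter R (Over.mk p) L (Γ j))) ∧
          Function.Surjective ψ ∧
          (∀ c : PicLoc.PicSet C, ψ (Additive.ofMul c) = 0 →
            ∃ (L : X.Modules) (hL : PicF.IsInvertible L),
              (∀ j, ArSurf.inter R (Over.mk p) L (Γ j) = 0) ∧ PicGrp.pullHom g hgm (PicGrp.cls L hL) = c) := by
  have hn : 0 < n := by
    rcases Nat.eq_zero_or_pos n with h | h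
    · subst h
      simp [Models.multGcd] at hgcd
    · exact h
  have hC := Groth.Agent.Models.K954.GenFib.isSmoothProperCurve hC0 hX hΓ hn
  have hH0 : IsIso fC.appTop := Groth.Agent.Models.H56.Glue.isIso_appTop _ _ _ hC0
  have hprop : IsProper p := hX.2.1
  have hsurj := Groth.Agent.Models.K954.ExactComp.degVec_surjective Γ (fun i =>
    Groth.Agent.S19553.result R hk C fC hC0 _ hg2 rfl X p hX Γ hΓ i)
  obtain ⟨ψ, h1, h2, h3⟩ := Groth.Agent.Models.K954.ExactComp.exists_psi Γ LD hC hH0 hX hΓ g hg hLD hsurj
  refine ⟨?_, ψ.comp (MonoidHom.toAdditive (K858.Basic.ofPic C).symm.toMonoidHom), ?_, ?_, ?_⟩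
  · intro L hL hd h
    have h4 := Groth.Agent.Models.K954.ExactComp.eq_one_of_deg_zero Γ hC hH0 hX hΓ g hg hgcd
      (K858.Basic.mk L hL) (funext hd) (by
        have h5 := K858.Basic.ofPic_symm_pullHom g hgm (PicGrp.cls L hL)
        rw [h, map_one, K858.Basic.ofPic_symm_cls] at h5
        exact h5.symm)
    exact (K858.Basic.ofPic X).symm.injective
      ((K858.Basic.ofPic_symm_cls L hL).trans (h4.trans (map_one _).symm))
  · intro L hL
    have h4 := h1 (K858.Basic.mk L hL)
    have h5 := K858.Basic.ofPic_symm_pullHom g hgm (PicGrp.cls L hL)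
    have h6 : ψ (Additive.ofMul ((K858.Basic.ofPic C).symm (PicGrp.pullHom g hgm (PicGrp.cls L hL)))) =
        ψ (Additive.ofMul (Groth.Agent.Grpsch.PicGrp.pull g (K858.Basic.mk L hL))) := by
      rw [h5, K858.Basic.ofPic_symm_cls]
    exact h6.trans h4
  · intro γ
    obtain ⟨c, hc⟩ := h2 γ
    refine ⟨Additive.ofMul (K858.Basic.ofPic C c.toMul), ?_⟩
    have h4 : (K858.Basic.ofPic C).symm (K858.Basic.ofPic C c.toMul) = c.toMul :=
      MulEquiv.symm_apply_apply _ _
    have h5 : ψ (Additive.ofMul ((K858.Basic.ofPic C).symm (K858.Basic.ofPic C c.toMul))) = γ := by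
      rw [h4]
      exact hc
    exact h5
  · intro c hc
    obtain ⟨c', h4, h5⟩ := h3 ((K858.Basic.ofPic C).symm c) hc
    obtain ⟨L, hL, rfl⟩ := Groth.Agent.Grpsch.PicGrp.exists_mk c'
    refine ⟨L, hL, fun j => congrFun h4 j, ?_⟩
    have h6 := K858.Basic.ofPic_pull g hgm (K858.Basic.mk L hL)
    rw [K858.Basic.ofPic_mk] at h6
    rw [h6]
    have h7 : K858.Basic.pull g (K858.Basic.mk L hL) = (K858.Basic.ofPic C).symm c := h5
    rw [h7, MulEquiv.apply_symm_apply]

end Groth.Agent.S15406
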