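import Groth.Statements.S15407
import Groth.Agent.Models.K954.GenFib
import Groth.Agent.Models.K954.PicClosed
import Groth.Agent.PicGrp.K858.Basic

set_option autoImplicit false
universe u
open CategoryTheory CategoryTheory.Limits AlgebraicGeometry
open Models

namespace Groth.Agent.S15407

attribute [-instance] CategoryTheory.catToReflQuiver

/-- Let R be a complete discrete valuation ring with algebraically closed residue field k and fraction
field K, C a smooth proper K-scheme of Krull dimension one (a curve) with H⁰(C, O_C) = K and dim_K
H¹(C, O_C) ≥ 2, X → Spec R a regular proper model of C, X_k = X ×_R Spec k its closed fibre with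
inclusion i : X_k → X, and q ≥ 1 an integer which is nonzero in k. Assume the Picard group laws on X
and X_k and that pullback of invertible classes along i is multiplicative. Then (a) the restriction
Pic(X) → Pic(X_k) is surjective, and (b) its kernel N is uniquely q-divisible: for every c in N
there is exactly one d in N with d^q = c. (The published statement introduces N as the kernel of
Pic⁰(X) → Pic⁰(X_k), Pic⁰ denoting the classes of degree 0 on every component of the closed fibre,
and asserts that this map is surjective; a class trivial on X_k has degree 0 on every component, so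
N is the kernel in (b), and (a) is the equivalent surjectivity of the unrestricted map.) -/
theorem result
    (R : Type u) [CommRing R] [IsDomain R] [IsDiscreteValuationRing R]
    [IsAdicComplete (IsLocalRing.maximalIdeal R) R] (hk : IsAlgClosed (IsLocalRing.ResidueField R))
    (C : Scheme.{u}) (fC : C ⟶ Spec (CommRingCat.of (FractionRing R))) [IsProper fC] [Smooth fC]
    (hC0 : Models.hRank (FractionRing R) C fC (Coh.structureModule C) 0 = 1)
    (hg2 : 2 ≤ Models.curveGenus (FractionRing R) C fC) (hC1 : topologicalKrullDim C = 1)
    (X : Scheme.{u}) (p : X ⟶ Spec (CommRingCat.of R)) (hX : Models.IsRegularProperModel R X p C fC)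
    (q : ℕ) (hq : 1 ≤ q) (hqk : (q : IsLocalRing.ResidueField R) ≠ 0)
    [PicGrp.Law X]
    [PicGrp.Law (pullback p (Spec.map (CommRingCat.ofHom (algebraMap R (IsLocalRing.ResidueField R)))))]
    (hi : PicGrp.PullMul (pullback.fst p (Spec.map (CommRingCat.ofHom (algebraMap R (IsLocalRing.ResidueField R)))))) :
    Function.Surjective (PicGrp.pullHom
        (pullback.fst p (Spec.map (CommRingCat.ofHom (algebraMap R (IsLocalRing.ResidueField R))))) hi) ∧
      ∀ c ∈ (PicGrp.pullHom
          (pullback.fst p (Spec.map (CommRingCat.ofHom (algebraMap R (IsLocalRing.ResidueField R))))) hi).ker,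
        ∃! d : PicLoc.PicSet X,
          d ∈ (PicGrp.pullHom
            (pullback.fst p (Spec.map (CommRingCat.ofHom (algebraMap R (IsLocalRing.ResidueField R))))) hi).ker ∧
          d ^ q = c := by
  have hCi : IsIntegral C := Groth.Agent.Models.K954.GenFib.isIntegral fC hC0
  have hC : Curve.IsSmoothProperCurve (FractionRing R) C fC := ⟨inferInstance, inferInstance, hCi, hC1⟩
  have hH0 : IsIso fC.appTop := Groth.Agent.Models.H56.Glue.isIso_appTop _ _ _ hC0
  have hprop : IsProper p := hX.2.1
  have hhens : HenselianLocalRing R := Groth.Agent.Models.K954.PicClosed.henselianLocalRing R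
  have hdim := Groth.Agent.Models.H68.FibGood.dim_fiber_le_of_isModel hX.1 hC1.le
  refine ⟨?_, ?_⟩
  · intro c
    obtain ⟨d, hd⟩ := Groth.Agent.Models.K954.PicClosed.pull_surjective p hdim ((K858.Basic.ofPic _).symm c)
    refine ⟨K858.Basic.ofPic X d, ?_⟩
    rw [K858.Basic.ofPic_pull]
    have h1 : K858.Basic.pull (pullback.fst p (Spec.map (CommRingCat.ofHom
      (algebraMap R (IsLocalRing.ResidueField R))))) d = (K858.Basic.ofPic _).symm c := hd
    rw [h1, MulEquiv.apply_symm_apply]
  · intro c hc
    have h1 : Groth.Agent.Grpsch.PicGrp.pull (Groth.Agent.Models.SpecFib.ιk R X p)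
        ((K858.Basic.ofPic X).symm c) = 1 := by
      have h2 := K858.Basic.ofPic_symm_pullHom (pullback.fst p (Spec.map (CommRingCat.ofHom
        (algebraMap R (IsLocalRing.ResidueField R))))) hi c
      rw [MonoidHom.mem_ker] at hc
      rw [hc, map_one] at h2
      exact h2.symm
    obtain ⟨d, ⟨hd, hdq⟩, huniq⟩ := Groth.Agent.Models.K954.PicClosed.existsUnique_root hC hH0 hX hq hqk _ h1
    refine ⟨K858.Basic.ofPic X d, ⟨?_, ?_⟩, ?_⟩
    · rw [MonoidHom.mem_ker, K858.Basic.ofPic_pull]
      have h3 : K858.Basic.pull (pullback.fst p (Spec.map (CommRingCat.ofHom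
        (algebraMap R (IsLocalRing.ResidueField R))))) d = 1 := hd
      rw [h3, map_one]
    · rw [← map_pow, hdq, MulEquiv.apply_symm_apply]
    · rintro d' ⟨h3, h4⟩
      have h5 : (K858.Basic.ofPic X).symm d' = d := huniq _ ⟨by
        have h6 := K858.Basic.ofPic_symm_pullHom (pullback.fst p (Spec.map (CommRingCat.ofHom
          (algebraMap R (IsLocalRing.ResidueField R))))) hi d'
        rw [MonoidHom.mem_ker] at h3
        rw [h3, map_one] at h6
        exact h6.symm, by rw [← map_pow, h4]⟩
      rw [← h5, MulEquiv.apply_symm_apply]

end Groth.Agent.S15407
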