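import Groth.Statements.S15409
import Groth.Agent.ASBun.K792.PicTw
import Groth.Agent.S13688
-- import your own Groth.Agent.* helpers here

set_option autoImplicit false
universe u
open CategoryTheory CategoryTheory.Limits AlgebraicGeometry
open ASBun

namespace Groth.Agent.S15409

open W4c1astiltbs12 PicGrp K792.PicTw Groth.Agent.ASBun.K791.Dual in
/-- Let X be proper over a field k with k ≅ H⁰(X, O_X), K an algebraic closure of k with X_K connected
and projection π : X_K → X; assume the Picard group laws on X and X_K with pullback along π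
multiplicative, that Pic(X_K) is infinite cyclic generated by the class of an invertible module L,
and that J is an invertible O_X-module whose pullback to X_K has class the r-th power of the class
of L, r ≥ 1. Let j and a be integers and N, N' invertible O_{X_K}-modules with classes (cls L)^j and
(cls L)^{j'} where either j' = −j or j' = j + a·r. If W, W' are indecomposable finite locally free
O_X-modules (nonzero, and in any direct-sum decomposition one summand is zero) with π^*W ≅ N^{⊕d}
and π^*W' ≅ N'^{⊕d'}, then d = d': the rank of the indecomposable absolutely isotypical sheaf of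
type L^{⊗j} depends only on ±j modulo r. (The published statement phrases this for the sheaves
W_{L^{⊗j}}, whose existence for every j it assumes through an indecomposable absolutely isotypical
sheaf of type L; here the two sheaves are given, and r need not be minimal.) -/
theorem result (k : Type u) [Field k] {X : Scheme.{u}}
    (p : X ⟶ Spec (CommRingCat.of k)) [IsProper p] (hO : IsIso p.appTop) (K : Type u) [Field K] [Algebra k K] [IsAlgClosure k K]
    [ConnectedSpace ↥(W4bk4gw11416.baseChange p K)]
    [PicGrp.Law X] [PicGrp.Law (W4bk4gw11416.baseChange p K)] (hπ : PicGrp.PullMul (proj p K))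
    (L : (W4bk4gw11416.baseChange p K).Modules) (hL : PicF.IsInvertible L)
    (e : PicLoc.PicSet (W4bk4gw11416.baseChange p K) ≃* Multiplicative ℤ)
    (he : e (PicGrp.cls L hL) = Multiplicative.ofAdd 1)
    (r : ℕ) (hr : 1 ≤ r) (J : X.Modules) (hJ : PicF.IsInvertible J)
    (hJL : PicGrp.cls (bcMod p K J) (PicLoc.isInvertible_pullback (proj p K) hJ) = PicGrp.cls L hL ^ r)
    (j a j' : ℤ) (hj' : j' = -j ∨ j' = j + a * r)
    (N N' : (W4bk4gw11416.baseChange p K).Modules) (hN : PicF.IsInvertible N) (hN' : PicF.IsInvertible N')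
    (hNj : PicGrp.cls N hN = PicGrp.cls L hL ^ j) (hN'j : PicGrp.cls N' hN' = PicGrp.cls L hL ^ j')
    (W W' : X.Modules) (hW : FlatMod.IsFinLocFree W) (hW' : FlatMod.IsFinLocFree W')
    (hWi : (¬ IsZero W ∧ ∀ A B : X.Modules, Nonempty (W ≅ A ⊞ B) → IsZero A ∨ IsZero B)) (hW'i : (¬ IsZero W' ∧ ∀ A B : X.Modules, Nonempty (W' ≅ A ⊞ B) → IsZero A ∨ IsZero B))
    (d d' : ℕ) (eW : Nonempty (bcMod p K W ≅ pow N d)) (eW' : Nonempty (bcMod p K W' ≅ pow N' d')) :
    d = d' := by
  have hKa : Algebra.IsAlgebraic k K := IsAlgClosure.isAlgebraic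
  obtain ⟨x⟩ : Nonempty (W4bk4gw11416.baseChange p K) := inferInstance
  have key : ∀ V : X.Modules, FlatMod.IsFinLocFree V → K790.KS.Indec V → Tp (proj p K) N' d V → d = d' := by
    intro V hV hVi hVt
    obtain ⟨i⟩ := Groth.Agent.S13688.result k p K N' V W' hV hW' hVi hW'i d d' hVt eW'
    obtain ⟨φ⟩ := hVt
    obtain ⟨ψ⟩ := eW'
    exact pow_inj x hN' (φ.symm ≪≫ (Scheme.Modules.pullback (proj p K)).mapIso i ≪≫ ψ)
  rcases hj' with hj' | hj'
  · obtain ⟨V, hV, ⟨pV⟩⟩ := exists_dual hW
    have h1 : cls N hN * cls N' hN' = 1 := by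
      rw [hNj, hN'j, hj', zpow_neg, mul_inv_cancel]
    obtain ⟨t⟩ := (cls_mul_cls_eq_one_iff hN hN').1 h1
    exact key V hV (indec_dual hV hWi) (Tp.dual hN eW t)
  · obtain ⟨Ja, hJa, h1⟩ := exists_eq_cls (cls J hJ ^ a)
    obtain ⟨Jb, hJb, h2⟩ := exists_eq_cls (cls J hJ ^ a)⁻¹
    have h3 := cls_pull hπ hJ hJa a h1.symm
    obtain ⟨i⟩ := (cls_mul_cls_eq_one_iff hJa hJb).1 (by rw [← h1, ← h2, mul_inv_cancel])
    obtain ⟨t⟩ := iso_of_cls hN (PicLoc.isInvertible_pullback (proj p K) hJa) hN' (by
      rw [h3, hNj, hN'j, hj', hJL, zpow_add]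
      congr 1
      rw [mul_comm, zpow_mul, zpow_natCast])
    refine key (CohB1.tensorMod W Ja) (Groth.Agent.Sga67.LocBasis.isFinLocFree_tensorMod hW
      (isFinLocFree_of_inv hJa)) (indec_tens i hWi) ?_
    exact (Tp.tens_one (J := Ja) eW).of_iso t (Iso.refl _)

end Groth.Agent.S15409
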