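import Groth.Statements.S15410
import Groth.Agent.Models.K954.DivZero
import Groth.Agent.PicGrp.K858.Basic
import Groth.Agent.S19553

set_option autoImplicit false
universe u
open CategoryTheory CategoryTheory.Limits AlgebraicGeometry
open Models

namespace Groth.Agent.S15410

attribute [-instance] CategoryTheory.catToReflQuiver

/-- Let R be a complete discrete valuation ring with algebraically closed residue field k and fraction
field K, C a smooth proper curve over K with H⁰(C, O_C) = K and dim_K H¹(C, O_C) ≥ 2, X → Spec R a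
regular proper model of C with generic fibre g : C → X and closed fibre i : X_k = X ×_R Spec k → X,
Γ₁, …, Γ_n the irreducible components of the closed fibre with multiplicities of greatest common
divisor 1, L_i an invertible O_X-module inverse to the ideal sheaf of Γ_i, and q ≥ 1 an integer
which is nonzero in k. Assume the Picard group laws on X, C and X_k with pullback along g and along
i multiplicative, and let G be ℤⁿ modulo the subgroup spanned by the vectors ((L_i · Γ_j))_j. Then:
(a) every homomorphism ψ from Pic(C) (written additively) to G with ψ(g^*L) equal to the class of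
((L · Γ_j))_j for all invertible L on X maps the classes c with c^q = 1 onto the elements γ of G
with qγ = 0, and a class c with c^q = 1 and ψ(c) = 0 is g^*c' for some class c' on X with c'^q = 1;
(b) restriction along i is a bijection from the classes c' on X with c'^q = 1 onto the classes d on
X_k with d^q = 1. That is, 0 → Pic⁰(X_k)[q] → Pic(C)[q] → G[q] → 0 is exact, the q-torsion of Pic(X)
being identified with that of Pic⁰(X_k) by (b) and with that of Pic⁰(X) (q-torsion classes have
degree 0 on every component). -/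
theorem result
    (R : Type u) [CommRing R] [IsDomain R] [IsDiscreteValuationRing R]
    [IsAdicComplete (IsLocalRing.maximalIdeal R) R] (hk : IsAlgClosed (IsLocalRing.ResidueField R))
    (C : Scheme.{u}) (fC : C ⟶ Spec (CommRingCat.of (FractionRing R))) [IsProper fC] [Smooth fC]
    (hC0 : Models.hRank (FractionRing R) C fC (Coh.structureModule C) 0 = 1)
    (hg2 : 2 ≤ Models.curveGenus (FractionRing R) C fC)
    (X : Scheme.{u}) (p : X ⟶ Spec (CommRingCat.of R)) (hX : Models.IsRegularProperModel R X p C fC)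
    (g : C ⟶ X) (hg : IsPullback g fC p (Spec.map (CommRingCat.ofHom (algebraMap R (FractionRing R)))))
    {n : ℕ} (Γ : Fin n → ArSurf.VertComp R (Over.mk p)) (hΓ : Models.IsComponentList R (Over.mk p) Γ)
    (hgcd : Models.multGcd R (Over.mk p) Γ = 1)
    (LD : Fin n → X.Modules) (hLD : ∀ i, ClSub.IsInverseOf (LD i) (ClSub.idealMod (Γ i).ι.ker))
    (q : ℕ) (hq : 1 ≤ q) (hqk : (q : IsLocalRing.ResidueField R) ≠ 0)
    [PicGrp.Law X] [PicGrp.Law C]
    [PicGrp.Law (pullback p (Spec.map (CommRingCat.ofHom (algebraMap R (IsLocalRing.ResidueField R)))))]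
    (hgm : PicGrp.PullMul g)
    (hi : PicGrp.PullMul (pullback.fst p (Spec.map (CommRingCat.ofHom (algebraMap R (IsLocalRing.ResidueField R)))))) :
    (∀ ψ : Additive (PicLoc.PicSet C) →+
          ((Fin n → ℤ) ⧸ LinearMap.range (Matrix.mulVecLin
            (Matrix.of fun j i => ArSurf.inter R (Over.mk p) (LD i) (Γ j)))),
        (∀ (L : X.Modules) (hL : PicF.IsInvertible L),
            ψ (Additive.ofMul (PicGrp.pullHom g hgm (PicGrp.cls L hL))) =
              Submodule.Quotient.mk (fun j => ArSurf.inter R (Over.mk p) L (Γ j))) →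
          (∀ γ : (Fin n → ℤ) ⧸ LinearMap.range (Matrix.mulVecLin
              (Matrix.of fun j i => ArSurf.inter R (Over.mk p) (LD i) (Γ j))),
            q • γ = 0 → ∃ c : PicLoc.PicSet C, c ^ q = 1 ∧ ψ (Additive.ofMul c) = γ) ∧
          (∀ c : PicLoc.PicSet C, c ^ q = 1 → ψ (Additive.ofMul c) = 0 →
            ∃ c' : PicLoc.PicSet X, c' ^ q = 1 ∧ PicGrp.pullHom g hgm c' = c)) ∧
      (∀ d : PicLoc.PicSet (pullback p (Spec.map (CommRingCat.ofHom (algebraMap R (IsLocalRing.ResidueField R))))),
        d ^ q = 1 → ∃! c' : PicLoc.PicSet X, c' ^ q = 1 ∧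
          PicGrp.pullHom (pullback.fst p (Spec.map (CommRingCat.ofHom (algebraMap R (IsLocalRing.ResidueField R))))) hi c' = d) := by
  have hn : 0 < n := by
    rcases Nat.eq_zero_or_pos n with h | h
    · subst h
      simp [Models.multGcd] at hgcd
    · exact h
  have hC := Groth.Agent.Models.K954.GenFib.isSmoothProperCurve hC0 hX hΓ hn
  have hH0 : IsIso fC.appTop := Groth.Agent.Models.H56.Glue.isIso_appTop _ _ _ hC0
  have hprop : IsProper p := hX.2.1
  have hsurj := Groth.Agent.Models.K954.ExactComp.degVec_surjective Γ (fun i =>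
    Groth.Agent.S19553.result R hk C fC hC0 _ hg2 rfl X p hX Γ hΓ i)
  have hpullg : Function.Surjective (Groth.Agent.Grpsch.PicGrp.pull g) :=
    Groth.Agent.Models.H300.ExtPic.pull_surjective_of_isPullback hg hX.2.2
  refine ⟨fun ψ hψ => ⟨fun γ hγ => ?_, fun c hc hψc => ?_⟩, fun d hd => ?_⟩
  · obtain ⟨v, rfl⟩ := Submodule.Quotient.mk_surjective _ γ
    obtain ⟨c, hcv⟩ := hsurj v
    have h1 : Groth.Agent.Models.K954.ExactComp.degVec Γ (Additive.ofMul (c.toMul ^ q)) ∈
        LinearMap.range (Matrix.mulVecLin (Matrix.of fun j i => ArSurf.inter R (Over.mk p) (LD i) (Γ j))) := by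
      rw [ofMul_pow, map_nsmul]
      have h2 : Groth.Agent.Models.K954.ExactComp.degVec Γ (Additive.ofMul c.toMul) = v := hcv
      rw [h2, ← Submodule.Quotient.mk_eq_zero]
      exact hγ
    obtain ⟨c', hc', hdc'⟩ := (Groth.Agent.Models.K954.ExactComp.degVec_mem_range_iff Γ LD hC hH0 hX hΓ g hg hLD _).1 h1
    obtain ⟨e, hde, rfl⟩ := Groth.Agent.Models.K954.DivZero.exists_root hk hC hH0 hX hΓ hsurj hq hqk c' hdc'
    have h3 : Groth.Agent.Grpsch.PicGrp.pull g (c.toMul * e⁻¹) ^ q = 1 := by
      rw [← map_pow, mul_pow, inv_pow, map_mul, map_inv, ← hc', mul_inv_cancel]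
    refine ⟨K858.Basic.ofPic C (Groth.Agent.Grpsch.PicGrp.pull g (c.toMul * e⁻¹)), ?_, ?_⟩
    · rw [← map_pow, h3, map_one]
    · obtain ⟨L, hL, hLe⟩ := Groth.Agent.Grpsch.PicGrp.exists_mk (c.toMul * e⁻¹)
      rw [hLe]
      have h4 := hψ L hL
      have h5 : K858.Basic.ofPic C (Groth.Agent.Grpsch.PicGrp.pull g (K858.Basic.mk L hL)) =
          PicGrp.pullHom g hgm (PicGrp.cls L hL) := by
        rw [← K858.Basic.ofPic_mk, K858.Basic.ofPic_pull]
      refine (congrArg (fun z => ψ (Additive.ofMul z)) h5).trans (h4.trans ?_)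
      congr 1
      have h6 : Groth.Agent.Models.K954.ExactComp.degVec Γ (Additive.ofMul (Groth.Agent.Grpsch.PicGrp.mk L hL)) = v := by
        rw [← hLe, ofMul_mul, ofMul_inv, map_add, map_neg, hde, neg_zero, add_zero]
        exact hcv
      exact h6
  · obtain ⟨c₀, hc₀⟩ := hpullg ((K858.Basic.ofPic C).symm c)
    obtain ⟨L, hL, rfl⟩ := Groth.Agent.Grpsch.PicGrp.exists_mk c₀
    have h5 : K858.Basic.ofPic C (Groth.Agent.Grpsch.PicGrp.pull g (K858.Basic.mk L hL)) =
        PicGrp.pullHom g hgm (PicGrp.cls L hL) := by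
      rw [← K858.Basic.ofPic_mk, K858.Basic.ofPic_pull]
    have h5' : PicGrp.pullHom g hgm (PicGrp.cls L hL) = c := by
      rw [← h5]
      have h6 : Groth.Agent.Grpsch.PicGrp.pull g (K858.Basic.mk L hL) = (K858.Basic.ofPic C).symm c := hc₀
      rw [h6, MulEquiv.apply_symm_apply]
    have h1 : Groth.Agent.Models.K954.ExactComp.degVec Γ (Additive.ofMul (Groth.Agent.Grpsch.PicGrp.mk L hL)) ∈
        LinearMap.range (Matrix.mulVecLin (Matrix.of fun j i => ArSurf.inter R (Over.mk p) (LD i) (Γ j))) := by
      rw [← Submodule.Quotient.mk_eq_zero]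
      have h2 := hψ L hL
      rw [h5', hψc] at h2
      exact h2.symm
    obtain ⟨c', hc', hdc'⟩ := (Groth.Agent.Models.K954.ExactComp.degVec_mem_range_iff Γ LD hC hH0 hX hΓ g hg hLD _).1 h1
    have h7 : Groth.Agent.Grpsch.PicGrp.pull g c' = (K858.Basic.ofPic C).symm c := hc'.trans hc₀
    have h8 : c' ^ q = 1 := Groth.Agent.Models.K954.ExactComp.eq_one_of_deg_zero Γ hC hH0 hX hΓ g hg hgcd (c' ^ q)
      (by rw [ofMul_pow, map_nsmul, hdc', smul_zero]) (by rw [map_pow, h7, ← map_pow, hc, map_one])
    refine ⟨K858.Basic.ofPic X c', ?_, ?_⟩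
    · rw [← map_pow, h8, map_one]
    · rw [K858.Basic.ofPic_pull]
      have h9 : K858.Basic.pull g c' = (K858.Basic.ofPic C).symm c := h7
      rw [h9, MulEquiv.apply_symm_apply]
  · obtain ⟨c, ⟨hcq, hcd⟩, huniq⟩ := Groth.Agent.Models.K954.DivZero.existsUnique_torsion hC hH0 hX hq hqk
      ((K858.Basic.ofPic _).symm d) (by rw [← map_pow, hd, map_one])
    refine ⟨K858.Basic.ofPic X c, ⟨?_, ?_⟩, ?_⟩
    · rw [← map_pow, hcq, map_one]
    · rw [K858.Basic.ofPic_pull]
      have h1 : K858.Basic.pull (pullback.fst p (Spec.map (CommRingCat.ofHom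
        (algebraMap R (IsLocalRing.ResidueField R))))) c = (K858.Basic.ofPic _).symm d := hcd
      rw [h1, MulEquiv.apply_symm_apply]
    · rintro d' ⟨h3, h4⟩
      have h5 : (K858.Basic.ofPic X).symm d' = c := huniq _ ⟨by rw [← map_pow, h3, map_one], by
        have h6 := K858.Basic.ofPic_symm_pullHom (pullback.fst p (Spec.map (CommRingCat.ofHom
          (algebraMap R (IsLocalRing.ResidueField R))))) hi d'
        rw [h4] at h6
        exact h6.symm⟩
      rw [← h5, MulEquiv.apply_symm_apply]

end Groth.Agent.S15410
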