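import Groth.Statements.S15411
import Groth.Agent.Hopf.K503.Equalizer

set_option autoImplicit false
universe u
open scoped TensorProduct
open Hopf

namespace Groth.Agent.S15411

/-- Let K be a field and let finitely many commutative K-algebras be given in two layers, K_i for each
vertex i and K_k for each edge k, with K-algebra maps from K_{l k} and from K_{r k} into K_k for
every edge k, such that K is the equalizer of the system: every family (x_i) whose two images in K_k
agree for every k comes from exactly one element of K. Let A and B be commutative K-bialgebras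
(coordinate rings of affine group or monoid schemes over K) and let u_i : K_i ⊗ B ≅ K_i ⊗ A be
isomorphisms of K_i-bialgebras such that, for every edge k, the base changes of u_{l k} and u_{r k}
to K_k agree. Then there is exactly one isomorphism of K-bialgebras v : B ≅ A inducing every u_i,
that is with u_i (1 ⊗ b) = 1 ⊗ v b. (The published statement is for the system obtained from a
finite inverse factorization system of fields by base change to a finite separable extension K, and
for linear algebraic groups; this row keeps from that setting only what the argument uses: K is a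
field and is the equalizer of the finite system, and the group schemes are affine.) -/
theorem result
    (K : Type u) [Field K] (ιv ιe : Type u) [Finite ιv] [Finite ιe]
    (Kv : ιv → Type u) [∀ i, CommRing (Kv i)] [∀ i, Algebra K (Kv i)]
    (Ke : ιe → Type u) [∀ k, CommRing (Ke k)] [∀ k, Algebra K (Ke k)]
    (l r : ιe → ιv) (ρl : ∀ k, Kv (l k) →ₐ[K] Ke k) (ρr : ∀ k, Kv (r k) →ₐ[K] Ke k)
    (hlim : ∀ x : (∀ i, Kv i), (∀ k, ρl k (x (l k)) = ρr k (x (r k))) →
      ∃! a : K, ∀ i, algebraMap K (Kv i) a = x i)
    (A B : Type u) [CommRing A] [CommRing B] [Bialgebra K A] [Bialgebra K B]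
    (u : ∀ i, (Kv i ⊗[K] B) ≃ₐc[Kv i] (Kv i ⊗[K] A))
    (hu : ∀ (k : ιe) (b : B),
      Algebra.TensorProduct.map (ρl k) (AlgHom.id K A) (u (l k) (1 ⊗ₜ[K] b)) =
        Algebra.TensorProduct.map (ρr k) (AlgHom.id K A) (u (r k) (1 ⊗ₜ[K] b))) :
    ∃! v : B ≃ₐc[K] A, ∀ (i : ιv) (b : B), u i (1 ⊗ₜ[K] b) = 1 ⊗ₜ[K] v b := by
  obtain ⟨i₀, hi₀⟩ := K503.Equalizer.exists_nontrivial K Kv Ke l r ρl ρr hlim
  have hex : ∀ b : B, ∃ a : A, ∀ i, u i (1 ⊗ₜ[K] b) = 1 ⊗ₜ[K] a := by
    intro b
    exact K503.Equalizer.exists_of_compat K Kv Ke l r ρl ρr hlim (fun i => u i (1 ⊗ₜ[K] b)) (fun k => hu k b)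
  choose v hv using hex
  have hinj : ∀ {a a' : A}, (1 : Kv i₀) ⊗ₜ[K] a = 1 ⊗ₜ[K] a' → a = a' := fun h =>
    Module.FaithfullyFlat.tensorProduct_mk_injective (A := K) (B := Kv i₀) A h
  let vl : B →ₗ[K] A :=
    { toFun := v
      map_add' := fun x y => by
        apply hinj
        rw [← hv, TensorProduct.tmul_add, map_add, hv, hv, ← TensorProduct.tmul_add]
      map_smul' := fun c x => by
        apply hinj
        rw [← hv, RingHom.id_apply, TensorProduct.tmul_smul, TensorProduct.tmul_smul,
          ← algebraMap_smul (Kv i₀) c ((1 : Kv i₀) ⊗ₜ[K] x), map_smul, hv, algebraMap_smul] }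
  obtain ⟨V, hV⟩ := K503.Equalizer.exists_bialgEquiv (u i₀) vl (fun b => hv b i₀)
  have hV' : ∀ b, V b = v b := hV
  refine ⟨V, fun i b => by rw [hV', hv], ?_⟩
  intro W hW
  apply BialgEquiv.ext
  intro b
  apply hinj
  rw [← hW, hV', hv]

end Groth.Agent.S15411
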