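import Groth.Statements.S15412

set_option autoImplicit false
universe w v u
open CategoryTheory Opposite
open Bitors

namespace Groth.Agent.S15412

/-- the group element relating `p` and `q` -/
private noncomputable def diff {C : Type u} [Category.{v} C] {J : GrothendieckTopology C}
    {G : Sheaf J GrpCat.{w}} {P : NonAbH1.GSheaf G} (hP : P.IsPseudoTorsor)
    {U : Cᵒᵖ} (p q : P.P.obj.obj U) : G.obj.obj U := (hP U p q).choose

private lemma diff_smul {C : Type u} [Category.{v} C] {J : GrothendieckTopology C}
    {G : Sheaf J GrpCat.{w}} {P : NonAbH1.GSheaf G} (hP : P.IsPseudoTorsor)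
    {U : Cᵒᵖ} (p q : P.P.obj.obj U) : P.smul (diff hP p q) p = q := (hP U p q).choose_spec.1

private lemma smul_inj {C : Type u} [Category.{v} C] {J : GrothendieckTopology C}
    {G : Sheaf J GrpCat.{w}} {P : NonAbH1.GSheaf G} (hP : P.IsPseudoTorsor)
    {U : Cᵒᵖ} (p : P.P.obj.obj U) {g g' : G.obj.obj U} (h : P.smul g p = P.smul g' p) : g = g' :=
  (hP U p (P.smul g' p)).unique h rfl

private noncomputable def phi {C : Type u} [Category.{v} C] {J : GrothendieckTopology C}
    {G H : Sheaf J GrpCat.{w}} {P : NonAbH1.GSheaf G} (hP : P.IsPseudoTorsor)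
    (ρ : Bitors.RightStr P H) {U : Cᵒᵖ} (p : P.P.obj.obj U) : H.obj.obj U ≃* G.obj.obj U :=
  MulEquiv.ofBijective
    ({ toFun := fun h => diff hP p (ρ.rsmul p h)
       map_one' := by
        apply smul_inj hP p
        rw [diff_smul, ρ.rsmul_one, P.one_smul]
       map_mul' := fun h h' => by
        apply smul_inj hP p
        rw [diff_smul, P.mul_smul, ρ.rsmul_mul, diff_smul]
        conv_lhs => rw [← diff_smul hP p (ρ.rsmul p h)]
        rw [ρ.smul_rsmul] } : H.obj.obj U →* G.obj.obj U) (by
    constructor
    · intro h h' e
      change diff hP p (ρ.rsmul p h) = diff hP p (ρ.rsmul p h') at e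
      have e1 : ρ.rsmul p h = ρ.rsmul p h' := by
        rw [← diff_smul hP p (ρ.rsmul p h), e, diff_smul]
      exact (ρ.existsUnique_rsmul p (ρ.rsmul p h')).unique e1 rfl
    · intro g
      obtain ⟨h, hh, -⟩ := ρ.existsUnique_rsmul p (P.smul g p)
      refine ⟨h, ?_⟩
      change diff hP p (ρ.rsmul p h) = g
      apply smul_inj hP p
      rw [diff_smul]
      exact hh)

private lemma phi_smul {C : Type u} [Category.{v} C] {J : GrothendieckTopology C}
    {G H : Sheaf J GrpCat.{w}} {P : NonAbH1.GSheaf G} (hP : P.IsPseudoTorsor)
    (ρ : Bitors.RightStr P H) {U : Cᵒᵖ} (p : P.P.obj.obj U) (h : H.obj.obj U) :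
    P.smul (phi hP ρ p h) p = ρ.rsmul p h := diff_smul hP p _

/-- On a site, let G and H be sheaves of groups and P a sheaf of sets with a left G-action which is
simply transitive on every set of sections P(U). The right H-actions on P that are compatible with
restriction, commute with the G-action and are simply transitive on every P(U) (for P a G-torsor:
the structures of (G, H)-bitorsor on P) correspond exactly to the families of group isomorphisms φ_p
: H(U) ≃ G(U), one for each section p of P over each U, compatible with restriction and with φ_{g·p}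
= g φ_p g⁻¹ (the equivariant maps from P to the sheaf of isomorphisms from H to G); the
correspondence is the rule p · h = φ_p(h) · p, and the statement is that every right structure
arises by this rule from exactly one family and every family from exactly one right structure. (The
published statement takes P a left G-torsor; only the simple transitivity of the G-action on
sections enters, so local existence of sections is not assumed.) -/
theorem result
    {C : Type u} [Category.{v} C] {J : GrothendieckTopology C}
    (G H : Sheaf J GrpCat.{w}) (P : NonAbH1.GSheaf G) (hP : P.IsPseudoTorsor) :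
    (∀ ρ : Bitors.RightStr P H, ∃! φ : Bitors.IsomFamily P H,
        ∀ (U : Cᵒᵖ) (p : P.P.obj.obj U) (h : H.obj.obj U), ρ.rsmul p h = P.smul (φ.φ p h) p) ∧
    (∀ φ : Bitors.IsomFamily P H, ∃! ρ : Bitors.RightStr P H,
        ∀ (U : Cᵒᵖ) (p : P.P.obj.obj U) (h : H.obj.obj U), ρ.rsmul p h = P.smul (φ.φ p h) p) := by
  constructor
  · intro ρ
    refine ⟨⟨fun {U} p => phi hP ρ p, ?_, ?_⟩, ?_, ?_⟩
    · intro U V f p h
      apply smul_inj hP (P.P.obj.map f p)
      rw [phi_smul, ← P.map_smul, phi_smul, ρ.map_rsmul]
    · intro U g p h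
      apply smul_inj hP (P.smul g p)
      rw [phi_smul, ρ.smul_rsmul, ← P.mul_smul, inv_mul_cancel_right, P.mul_smul, phi_smul]
    · intro U p h
      exact (phi_smul hP ρ p h).symm
    · intro ψ hψ
      obtain ⟨ψ, h1, h2⟩ := ψ
      congr 1
      funext U p
      ext h
      apply smul_inj hP p
      rw [phi_smul]
      exact (hψ U p h).symm
  · intro φ
    refine ⟨⟨fun {U} p h => P.smul (φ.φ p h) p, ?_, ?_, ?_, ?_, ?_⟩, ?_, ?_⟩
    · intro U p
      rw [map_one, P.one_smul]
    · intro U p h h'
      rw [map_mul, φ.φ_smul, ← P.mul_smul, inv_mul_cancel_right]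
    · intro U V f p h
      rw [P.map_smul, φ.map_φ]
    · intro U g p h
      rw [φ.φ_smul, ← P.mul_smul, inv_mul_cancel_right, P.mul_smul]
    · intro U p q
      obtain ⟨g, hg, hu⟩ := hP U p q
      refine ⟨(φ.φ p).symm g, ?_, ?_⟩
      · simpa using hg
      · intro h hh
        rw [← hu _ hh]
        simp
    · intro U p h
      rfl
    · intro ρ hρ
      obtain ⟨r, h1, h2, h3, h4, h5⟩ := ρ
      congr 1
      funext U p h
      exact hρ U p h

end Groth.Agent.S15412
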