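import Groth.Statements.S15415
import Groth.Agent.GalCoh.K447.SL1
import Groth.Agent.S13692

set_option autoImplicit false
universe u v w
open scoped TensorProduct
attribute [local instance] CSAGal.tensorAction GpH1.unitsAction
open GalCoh

namespace Groth.Agent.S15415

/-- For a central simple algebra over a field, the first Galois cohomology set of its norm-one group is
identified with the nonzero scalars modulo the reduced norms of units, by the boundary map of the
sequence norm-one units → units → nonzero scalars. Finite-level form: let k be a field, K a finite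
Galois extension of k whose Galois group acts on K ⊗_k A through the first factor, A a
finite-dimensional central simple k-algebra split by K, N the reduced norm of A over k and N_K the
reduced norm of K ⊗_k A over K. Then (i) every 1-cocycle a with values in the units of K ⊗_k A of
reduced norm one is of the form a σ = b⁻¹ · σ(b) for a unit b whose reduced norm is an element c of
kˣ; and (ii) for units b, b' of K ⊗_k A with reduced norms c, c' in kˣ, the cocycles σ ↦ b⁻¹σ(b) and
σ ↦ b'⁻¹σ(b') are cohomologous through a unit of reduced norm one if and only if c' = N(x) · c for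
some unit x of A. (Since K splits A the reduced norm N_K takes every value in kˣ, so (i) and (ii)
say that c ↦ class of b⁻¹σ(b), N_K b = c, is a well-defined bijection from kˣ/N(Aˣ) onto the
cohomology set of the norm-one units. The published statement is for the absolute Galois group of a
field of characteristic different from 2, an assumption playing no role here; this row is the
finite-level form over a splitting field.) -/
theorem result
    (k : Type u) [Field k] (K : Type v) [Field K] [Algebra k K] [FiniteDimensional k K] [IsGalois k K]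
    (A : Type w) [Ring A] [Algebra k A] [Algebra.IsCentral k A] [IsSimpleRing A] [FiniteDimensional k A]
    (hA : Curves.Splits k A K)
    (N : A →* k) (hN : CSAGal.IsRedNorm k A N)
    (NK : (K ⊗[k] A) →* K) (hNK : CSAGal.IsRedNorm K (K ⊗[k] A) NK) :
    (∀ a : GpH1.OneCocycle (K ≃ₐ[k] K) (K ⊗[k] A)ˣ, (∀ σ, NK (a σ : K ⊗[k] A) = 1) →
        ∃ (c : kˣ) (b : (K ⊗[k] A)ˣ), NK (b : K ⊗[k] A) = algebraMap k K (c : k) ∧
          ∀ σ : K ≃ₐ[k] K, a σ = b⁻¹ * σ • b) ∧
    (∀ (c c' : kˣ) (b b' : (K ⊗[k] A)ˣ),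
        NK (b : K ⊗[k] A) = algebraMap k K (c : k) → NK (b' : K ⊗[k] A) = algebraMap k K (c' : k) →
        ((∃ s : (K ⊗[k] A)ˣ, NK (s : K ⊗[k] A) = 1 ∧
            ∀ σ : K ≃ₐ[k] K, b'⁻¹ * σ • b' = s⁻¹ * (b⁻¹ * σ • b) * σ • s) ↔
          ∃ x : Aˣ, (c' : k) = N (x : A) * (c : k))) := by
  obtain ⟨n, hn, ⟨φ⟩⟩ := hA
  have : NeZero n := ⟨hn⟩
  have : Nonempty (Fin n) := ⟨0⟩
  have : Algebra.IsCentral K (K ⊗[k] A) := K447.SL1.isCentral_of_algEquiv φ
  have : IsSimpleRing (K ⊗[k] A) := IsSimpleRing.of_ringEquiv φ.symm.toRingEquiv inferInstance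
  have hN' := K440.RedCP.eq_redNorm hN
  have hNK' := K440.RedCP.eq_redNorm hNK
  have hNA : ∀ a : A, NK (1 ⊗ₜ[k] a) = algebraMap k K (N a) := fun a => by
    rw [hN', hNK', K447.SL1.redNorm_one_tmul φ]
  have hNσ : ∀ (σ : K ≃ₐ[k] K) (t : K ⊗[k] A), NK (σ • t) = σ (NK t) := fun σ t => by
    rw [hNK', K447.SL1.redNorm_smul φ]
  have hcoe : ∀ (σ : K ≃ₐ[k] K) (u : (K ⊗[k] A)ˣ), ((σ • u : (K ⊗[k] A)ˣ) : K ⊗[k] A) =
      σ • (u : K ⊗[k] A) := fun σ u => rfl
  constructor
  · intro a ha
    have h1 : a.cl = GpH1.H1.pt := Groth.Agent.S13692.result k K A a.cl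
    obtain ⟨b, hb⟩ := (GpH1.OneCocycle.cl_eq_cl_iff a GpH1.OneCocycle.trivial).mp h1
    have hb' : ∀ σ, a σ = b⁻¹ * σ • b := fun σ => by
      rw [hb σ]
      change b⁻¹ * 1 * σ • b = _
      rw [mul_one]
    have hfix : ∀ σ : K ≃ₐ[k] K, σ (NK (b : K ⊗[k] A)) = NK (b : K ⊗[k] A) := fun σ => by
      have h2 : b * a σ = σ • b := by rw [hb' σ, mul_inv_cancel_left]
      have h3 := congrArg (fun u : (K ⊗[k] A)ˣ => NK (u : K ⊗[k] A)) h2
      simp only [Units.val_mul, map_mul, ha σ, mul_one, hcoe, hNσ] at h3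
      exact h3.symm
    obtain ⟨c, hc⟩ := (IsGalois.mem_range_algebraMap_iff_fixed (F := k) (NK (b : K ⊗[k] A))).mpr hfix
    have hc0 : c ≠ 0 := by
      rintro rfl
      rw [map_zero] at hc
      have h4 : NK ((b : K ⊗[k] A) * ((b⁻¹ : (K ⊗[k] A)ˣ) : K ⊗[k] A)) = 1 := by
        rw [Units.mul_inv, map_one]
      rw [map_mul, ← hc, zero_mul] at h4
      exact zero_ne_one h4
    exact ⟨Units.mk0 c hc0, b, hc.symm, hb'⟩
  · intro c c' b b' hbc hbc'
    have hNu : ∀ u : (K ⊗[k] A)ˣ, NK (u : K ⊗[k] A) * NK ((u⁻¹ : (K ⊗[k] A)ˣ) : K ⊗[k] A) = 1 :=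
      fun u => by rw [← map_mul, Units.mul_inv, map_one]
    constructor
    · rintro ⟨s, hs, hσ⟩
      -- the element `x = b' s⁻¹ b⁻¹` is fixed
      let x : (K ⊗[k] A)ˣ := b' * s⁻¹ * b⁻¹
      have hx : ∀ σ : K ≃ₐ[k] K, σ • x = x := fun σ => by
        have h1 : σ • b' = b' * (s⁻¹ * (b⁻¹ * σ • b) * σ • s) := by
          rw [← hσ σ, mul_inv_cancel_left]
        simp only [x, smul_mul', smul_inv', h1]
        group
      obtain ⟨a, ha⟩ := K447.Descent.exists_of_fixed (k := k) (x : K ⊗[k] A)
        (fun σ => congrArg Units.val (hx σ))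
      obtain ⟨a', ha'⟩ := K447.Descent.exists_of_fixed (k := k) ((x⁻¹ : (K ⊗[k] A)ˣ) : K ⊗[k] A)
        (fun σ => congrArg Units.val (show σ • x⁻¹ = x⁻¹ by rw [smul_inv', hx]))
      have haa' : a * a' = 1 := K447.Descent.tmul_one_injective (k := k) (K := K) (by
        have h := x.mul_inv
        rw [← ha, ← ha', Algebra.TensorProduct.tmul_mul_tmul, mul_one] at h
        exact h)
      have ha'a : a' * a = 1 := K447.Descent.tmul_one_injective (k := k) (K := K) (by
        have h := x.inv_mul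
        rw [← ha, ← ha', Algebra.TensorProduct.tmul_mul_tmul, mul_one] at h
        exact h)
      refine ⟨⟨a, a', haa', ha'a⟩, (algebraMap k K).injective ?_⟩
      change algebraMap k K (c' : k) = algebraMap k K (N a * c)
      rw [map_mul, ← hNA, ha, ← hbc, ← hbc', ← map_mul]
      have h5 : (x : K ⊗[k] A) * b = ((b' * s⁻¹ : (K ⊗[k] A)ˣ) : K ⊗[k] A) := by
        rw [← Units.val_mul]
        refine congrArg Units.val ?_
        simp only [x]
        group
      rw [h5, Units.val_mul, map_mul]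
      have h6 := hNu s
      rw [hs, one_mul] at h6
      rw [h6, mul_one]
    · rintro ⟨x, hx⟩
      let y : (K ⊗[k] A)ˣ := Units.map (Algebra.TensorProduct.includeRight : A →ₐ[k] K ⊗[k] A).toMonoidHom x
      have hy : (y : K ⊗[k] A) = 1 ⊗ₜ[k] (x : A) := rfl
      have hyσ : ∀ σ : K ≃ₐ[k] K, σ • y = y := fun σ => Units.ext (by
        rw [hcoe, hy]
        exact K447.Descent.smul_one_tmul σ (x : A))
      refine ⟨b⁻¹ * y⁻¹ * b', ?_, fun σ => ?_⟩
      · have h1 : ((y * b : (K ⊗[k] A)ˣ) : K ⊗[k] A) * ((b⁻¹ * y⁻¹ * b' : (K ⊗[k] A)ˣ) : K ⊗[k] A) =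
            (b' : K ⊗[k] A) := by
          rw [← Units.val_mul]
          refine congrArg Units.val ?_
          group
        have h2 := congrArg NK h1
        have h3 : NK ((y * b : (K ⊗[k] A)ˣ) : K ⊗[k] A) = NK (b' : K ⊗[k] A) := by
          rw [Units.val_mul, map_mul, hy, hNA, hbc, hbc', hx, map_mul]
        rw [map_mul, h3] at h2
        have h4 : NK (b' : K ⊗[k] A) ≠ 0 := left_ne_zero_of_mul_eq_one (hNu b')
        exact mul_left_cancel₀ h4 (by rw [h2, mul_one])
      · simp only [smul_mul', smul_inv', hyσ]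
        group

end Groth.Agent.S15415
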