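import Groth.Statements.S15432
import Groth.Agent.GrSyz.K860.HBurch
import Mathlib.Tactic.LinearCombination
-- import your own Groth.Agent.* helpers here

set_option autoImplicit false
universe u
open GrSyz

namespace Groth.Agent.S15432

/-- Let k be a field, Z a nonempty finite set of nonzero vectors of k^3, regarded as points of the
projective plane, I ⊆ S = k[x_0, x_1, x_2] the homogeneous vanishing ideal of Z (a polynomial lies
in I exactly when each of its homogeneous components vanishes at every vector of Z), M = S/I given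
as a ℤ-graded S-module with a surjective degree-preserving S-linear map π : S → M with kernel I, and
F a minimal graded free resolution of M of length at most 2 whose terms F_1 and F_2 have ranks t + 1
and t, with basis degrees a_1 ≥ … ≥ a_{t+1} for F_1 and b_1 ≥ … ≥ b_t for F_2 (non-increasing along
the chosen bases), so that the (i, j) entry of the matrix F_2 → F_1 has degree b_j − a_i. Put e_i =
b_i − a_i and f_i = b_i − a_{i+1}. Then e_i ≥ 1 and f_i ≥ 1 for every i, and Σ_i a_i = Σ_j b_j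
(equivalently a_i = Σ_{j < i} e_j + Σ_{j ≥ i} f_j for every i). (The ordering of both bases is the
standing assumption under which the published statement is made; this row carries it as the
hypotheses on the basis degrees. The further inequalities f_i ≥ e_i and f_i ≥ e_{i+1} follow at once
from the ordering and are not restated.) -/
theorem result (k : Type u) [Field k]
    (Z : Finset (Fin 3 → k)) (hZ : ∀ p ∈ Z, p ≠ 0) (hZne : Z.Nonempty) (I : Ideal (MvPolynomial (Fin 3) k))
    (hI : ∀ f : MvPolynomial (Fin 3) k, f ∈ I ↔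
      ∀ p ∈ Z, ∀ j : ℕ, MvPolynomial.eval p (MvPolynomial.homogeneousComponent j f) = 0)
    (M : Type u) [AddCommGroup M] [Module k M] [Module (MvPolynomial (Fin 3) k) M] [IsScalarTower k (MvPolynomial (Fin 3) k) M]
    (ℳ : ℤ → Submodule k M) [DirectSum.Decomposition ℳ] [SetLike.GradedSMul (GrSyz.stdGr k (Fin 3)) ℳ]
    (π : MvPolynomial (Fin 3) k →ₗ[MvPolynomial (Fin 3) k] M) (hπ : Function.Surjective π)
    (hπg : GrLC.IsGrHom (GrSyz.stdGr k (Fin 3)) ℳ π) (hker : LinearMap.ker π = I)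
    (F : GrSyz.FreeRes (GrSyz.stdGr k (Fin 3)) ℳ) (hF : F.IsMinimal (GrSyz.irrel (GrSyz.stdGr k (Fin 3))).toIdeal) (hlen : F.HasLengthLE 2)
    (t : ℕ) (h1 : F.rk 1 = t + 1) (h2 : F.rk 2 = t)
    (ha : ∀ i j : Fin (t + 1), i ≤ j → F.deg 1 (Fin.cast h1.symm j) ≤ F.deg 1 (Fin.cast h1.symm i))
    (hb : ∀ i j : Fin t, i ≤ j → F.deg 2 (Fin.cast h2.symm j) ≤ F.deg 2 (Fin.cast h2.symm i)) :
    (∀ i : Fin t, 1 ≤ F.deg 2 (Fin.cast h2.symm i) - F.deg 1 (Fin.cast h1.symm i.castSucc) ∧
        1 ≤ F.deg 2 (Fin.cast h2.symm i) - F.deg 1 (Fin.cast h1.symm i.succ)) ∧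
      ∑ i : Fin (t + 1), F.deg 1 (Fin.cast h1.symm i) = ∑ j : Fin t, F.deg 2 (Fin.cast h2.symm j) := by
  classical
  have hlt := K860.HBurch.lt_deg F hF hlen t h1 h2 ha hb
  refine ⟨fun i => ⟨by have := hlt i; omega, ?_⟩, ?_⟩
  · have := hlt i
    have h3 := ha i.castSucc i.succ (by rw [Fin.le_def]; simp)
    omega
  -- the pieces of `M`
  have hlift : ∀ (d : ℤ) (m : M), m ∈ ℳ d → ∃ f ∈ GrSyz.stdGr k (Fin 3) d, π f = m := by
    intro d m hm
    obtain ⟨f, rfl⟩ := hπ m
    refine ⟨K860.Comp.cmp (GrSyz.stdGr k (Fin 3)) d f, K860.Comp.cmp_mem _ _ _, ?_⟩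
    have hπ1 : π 1 ∈ ℳ 0 := hπg 0 1 K860.Basic.one_mem'
    have e : ∀ g : MvPolynomial (Fin 3) k, π g = g • π 1 := fun g => by
      rw [← map_smul, smul_eq_mul, mul_one]
    rw [e (K860.Comp.cmp (GrSyz.stdGr k (Fin 3)) d f),
      ← K860.Comp.cmp_smul_of_eq' (GrSyz.stdGr k (Fin 3)) hπ1 (add_zero d) f, ← e f]
    exact K860.Comp.cmp_of_mem hm
  -- all generators of `F_0` have degree zero
  have hdeg0 : ∀ b : Fin (F.rk 0), F.deg 0 b = 0 := by
    intro b
    by_contra hb0
    have hV : (K860.Kos.kos (K860.KosPoly.xs k 3) ℳ 3).Van ((0 : ℕ) : ℤ) (F.deg 0 b) := by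
      rw [Nat.cast_zero, K860.Kos.van_zero_iff _ _ (K860.KosPoly.xs_smul_mem ℳ)]
      intro m hm
      obtain ⟨f, hf, rfl⟩ := hlift _ m hm
      have h4 : (fun _ : Unit => f) ∈ K860.Kos.I (K860.KosPoly.xs k 3)
          (K860.KosPoly.fr k 3 (fun _ : Unit => (0 : ℤ))) 3 (F.deg 0 b) := by
        refine K860.KosPoly.mem_I_top_iff.2 ⟨fun _ => by simpa using hf, fun _ => ?_⟩
        exact K860.Basic.constantCoeff_eq_zero hb0 hf
      have h5 : ∀ (s : ℕ) (j : ℤ) (v : Unit → MvPolynomial (Fin 3) k),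
          v ∈ K860.Kos.I (K860.KosPoly.xs k 3) (K860.KosPoly.fr k 3 (fun _ : Unit => (0 : ℤ))) s j →
          π (v ()) ∈ K860.Kos.I (K860.KosPoly.xs k 3) ℳ s j := by
        intro s
        induction s with
        | zero =>
          intro j v hv
          have hv0 : v = 0 := hv
          rw [hv0, Pi.zero_apply, map_zero]
          exact zero_mem _
        | succ s ih =>
          intro j v hv
          rw [K860.Kos.I_succ, Submodule.mem_sup] at hv ⊢
          obtain ⟨a, ha, _, ⟨q, hq, rfl⟩, rfl⟩ := hv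
          refine ⟨π (a ()), ih j a ha, _, ⟨π (q ()), hπg _ _ (by simpa using hq ()), rfl⟩, ?_⟩
          rw [Pi.add_apply, map_add]
          congr 1
          exact (map_smul π _ _).symm
      exact h5 3 _ _ h4
    exact (K860.Betti.betti_ne_zero_iff F 0 (F.deg 0 b)).2 ⟨b, rfl⟩ ((K860.Betti.van_iff_betti hF 0 _).1 hV)
  -- the Hilbert function is bounded
  have hbd : ∀ d : ℤ, Module.finrank k ↥(ℳ d) ≤ Z.card := by
    intro d
    by_cases hd : 0 ≤ d
    · obtain ⟨n, rfl⟩ := Int.eq_ofNat_of_zero_le hd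
      let ev : MvPolynomial (Fin 3) k →ₗ[k] (Z → k) :=
        LinearMap.pi fun p => (MvPolynomial.aeval (R := k) p.1).toLinearMap
      have hev : ∀ f ∈ GrSyz.stdGr k (Fin 3) (n : ℤ), ev f = 0 → π f = 0 := by
        intro f hf he
        have hfn : f ∈ MvPolynomial.homogeneousSubmodule (Fin 3) k n := (K860.Basic.mem_stdGr_nat n f).1 hf
        have : f ∈ I := by
          rw [hI]
          intro p hp j
          rw [MvPolynomial.homogeneousComponent_of_mem hfn]
          split_ifs with h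
          · have := congrFun he ⟨p, hp⟩
            rw [← MvPolynomial.coe_aeval_eq_eval]
            exact this
          · rw [map_zero]
        rw [← hker] at this
        exact this
      -- `M_n` is a quotient of `S_n`, and the kernel contains the kernel of the evaluation
      have hfin := K860.Basic.finite_stdGr (k := k) 3 (n : ℤ)
      let g : ↥(GrSyz.stdGr k (Fin 3) (n : ℤ)) →ₗ[k] ↥(ℳ (n : ℤ)) :=
        ((π.restrictScalars k) ∘ₗ (GrSyz.stdGr k (Fin 3) (n : ℤ)).subtype).codRestrict _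
          fun m => hπg _ _ m.2
      let h : ↥(GrSyz.stdGr k (Fin 3) (n : ℤ)) →ₗ[k] (Z → k) := ev ∘ₗ (GrSyz.stdGr k (Fin 3) (n : ℤ)).subtype
      have hg : LinearMap.range g = ⊤ := by
        rw [LinearMap.range_eq_top]
        rintro ⟨m, hm⟩
        obtain ⟨f, hf, e⟩ := hlift _ m hm
        exact ⟨⟨f, hf⟩, Subtype.ext e⟩
      have hle : LinearMap.ker h ≤ LinearMap.ker g := by
        rintro ⟨f, hf⟩ hz
        rw [LinearMap.mem_ker] at hz ⊢
        exact Subtype.ext (hev f hf hz)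
      have e1 := LinearMap.finrank_range_add_finrank_ker g
      have e2 := LinearMap.finrank_range_add_finrank_ker h
      rw [hg, finrank_top] at e1
      have e3 := Submodule.finrank_mono hle
      have e4 : Module.finrank k ↥(LinearMap.range h) ≤ Z.card := by
        refine (Submodule.finrank_le _).trans ?_
        rw [Module.finrank_fintype_fun_eq_card, Fintype.card_coe]
      omega
    · have : Subsingleton ↥(ℳ d) := by
        refine ⟨fun a b => ?_⟩
        have h0 : ∀ c : ↥(ℳ d), c = 0 := by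
          rintro ⟨c, hc⟩
          obtain ⟨f, hf, e⟩ := hlift _ c hc
          have : f = 0 := K860.Basic.eq_zero_of_neg (by omega) hf
          refine Subtype.ext ?_
          change c = 0
          rw [← e, this, map_zero]
        rw [h0 a, h0 b]
      rw [Module.finrank_zero_of_subsingleton]
      exact Nat.zero_le _
  -- the quadratic function
  obtain ⟨J, hJ⟩ := K860.Hilb.exists_degs F 2
  obtain ⟨d₀, hd₀⟩ : ∃ d₀ : ℤ, ∀ j ∈ J, j ≤ d₀ := by
    obtain ⟨d₀, hd₀⟩ := J.bddAbove
    exact ⟨d₀, fun j hj => hd₀ hj⟩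
  have hH : ∀ d : ℤ, d₀ ≤ d → 2 * (Module.finrank k ↥(ℳ d) : ℤ) =
      ((F.rk 0 : ℤ) - F.rk 1 + F.rk 2) * d ^ 2 +
        ((3 * (F.rk 0 : ℤ) - 2 * ∑ b, F.deg 0 b) - (3 * (F.rk 1 : ℤ) - 2 * ∑ b, F.deg 1 b) +
          (3 * (F.rk 2 : ℤ) - 2 * ∑ b, F.deg 2 b)) * d +
        (∑ b, (F.deg 0 b ^ 2 - 3 * F.deg 0 b + 2) - ∑ b, (F.deg 1 b ^ 2 - 3 * F.deg 1 b + 2) +
          ∑ b, (F.deg 2 b ^ 2 - 3 * F.deg 2 b + 2)) := by
    intro d hd
    have hle : ∀ i ≤ 2, ∀ b : Fin (F.rk i), F.deg i b ≤ d := fun i hi b => (hd₀ _ (hJ i hi b)).trans hd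
    have e0 := K860.HBurch.sum_choose_two (F.deg 0) (hle 0 (by omega))
    have e1 := K860.HBurch.sum_choose_two (F.deg 1) (hle 1 (by omega))
    have e2 := K860.HBurch.sum_choose_two (F.deg 2) (hle 2 (by omega))
    rw [Fintype.card_fin] at e0 e1 e2
    rw [K860.Hilb.finrank_piece_eq_choose F 2 hlen d, Finset.sum_range_succ, Finset.sum_range_succ,
      Finset.sum_range_succ, Finset.sum_range_zero]
    linear_combination e0 - e1 + e2
  have hq := K860.HBurch.quad_bounded (C := 2 * (Z.card : ℤ)) (d₀ := d₀) fun d hd => by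
    rw [← hH d hd]
    have := hbd d
    constructor <;> omega
  obtain ⟨hα, hβ⟩ := hq
  have hs0 : ∑ b, F.deg 0 b = 0 := Finset.sum_eq_zero fun b _ => hdeg0 b
  rw [hs0] at hβ
  have e1 : ∑ b, F.deg 1 b = ∑ i : Fin (t + 1), F.deg 1 (Fin.cast h1.symm i) :=
    (Equiv.sum_comp (finCongr h1.symm) (F.deg 1)).symm
  have e2 : ∑ b, F.deg 2 b = ∑ i : Fin t, F.deg 2 (Fin.cast h2.symm i) :=
    (Equiv.sum_comp (finCongr h2.symm) (F.deg 2)).symm
  rw [← e1, ← e2]
  linarith

end Groth.Agent.S15432
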