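import Groth.Statements.S15437
import Groth.Agent.GrSyz.K860.Hilb
import Mathlib.Algebra.BigOperators.Finprod
-- import your own Groth.Agent.* helpers here

set_option autoImplicit false
universe u
open GrSyz

namespace Groth.Agent.S15437

/-- Let k be a field, S = k[x_0, …, x_r] graded by degree and M a ℤ-graded S-module with a finite graded
free resolution F of length at most m by free modules of finite rank with homogeneous bases; write
β_{i,j} for the number of basis vectors of F_i of degree j (the graded Betti numbers when F is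
minimal) and B_j = Σ_{i ≤ m} (−1)^i β_{i,j}. Then for every integer d, dim_k M_d = Σ_j B_j C(r + d −
j, r), where a binomial with d < j counts as zero and only finitely many j contribute; and the B_j
are recovered from the Hilbert function by B_j = dim_k M_j − Σ_{n < j} B_n C(r + j − n, r). (Stated
for any finite graded free resolution; the published statement takes the minimal one.) -/
theorem result (k : Type u) [Field k] (r : ℕ)
    (M : Type u) [AddCommGroup M] [Module k M] [Module (MvPolynomial (Fin (r + 1)) k) M]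
    [IsScalarTower k (MvPolynomial (Fin (r + 1)) k) M] [Module.Finite (MvPolynomial (Fin (r + 1)) k) M]
    (ℳ : ℤ → Submodule k M) [DirectSum.Decomposition ℳ] [SetLike.GradedSMul (GrSyz.stdGr k (Fin (r + 1))) ℳ]
    (F : GrSyz.FreeRes (GrSyz.stdGr k (Fin (r + 1))) ℳ) (m : ℕ) (hF : F.HasLengthLE m) :
    (∀ d : ℤ, (Module.finrank k ↥(ℳ d) : ℤ) =
        ∑ᶠ j : ℤ, (∑ i ∈ Finset.range (m + 1), (-1 : ℤ) ^ i * (F.betti i j : ℤ)) *
          (if j ≤ d then ((Nat.choose (r + (d - j).toNat) r : ℕ) : ℤ) else 0)) ∧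
      ∀ j : ℤ, (∑ i ∈ Finset.range (m + 1), (-1 : ℤ) ^ i * (F.betti i j : ℤ)) =
        (Module.finrank k ↥(ℳ j) : ℤ) -
          ∑ᶠ n : ℤ, (if n < j then (∑ i ∈ Finset.range (m + 1), (-1 : ℤ) ^ i * (F.betti i n : ℤ)) * ((Nat.choose (r + (j - n).toNat) r : ℕ) : ℤ) else 0) := by
  classical
  obtain ⟨J, hJ⟩ := K860.Hilb.exists_degs F m
  have hB : ∀ j, j ∉ J → (∑ i ∈ Finset.range (m + 1), (-1 : ℤ) ^ i * (F.betti i j : ℤ)) = 0 := by
    intro j hj
    refine Finset.sum_eq_zero fun i hi => ?_
    rw [K860.Hilb.betti_eq_zero_of_notMem F hJ (Nat.lt_succ_iff.1 (Finset.mem_range.1 hi)) hj, Nat.cast_zero,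
      mul_zero]
  have h1 : ∀ d : ℤ, (Module.finrank k ↥(ℳ d) : ℤ) =
      ∑ᶠ j : ℤ, (∑ i ∈ Finset.range (m + 1), (-1 : ℤ) ^ i * (F.betti i j : ℤ)) *
        (if j ≤ d then ((Nat.choose (r + (d - j).toNat) r : ℕ) : ℤ) else 0) := by
    intro d
    rw [K860.Hilb.finrank_piece_eq_sum_betti F m hF J hJ d]
    refine (finsum_eq_sum_of_support_subset _ fun j hj => ?_).symm
    by_contra h
    exact hj (by
      change _ * _ = _
      rw [hB j h, zero_mul])
  refine ⟨h1, fun j => ?_⟩
  rw [h1 j]
  have hs : ∀ f : ℤ → ℤ, (∀ n, n ∉ J → f n = 0) → Function.support f ⊆ J := fun f hf n hn => by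
    by_contra h
    exact hn (hf n h)
  have hfin : ∀ f : ℤ → ℤ, (∀ n, n ∉ J → f n = 0) → (Function.support f).Finite :=
    fun f hf => J.finite_toSet.subset (hs f hf)
  rw [← finsum_sub_distrib (hfin _ fun n hn => by rw [hB n hn, zero_mul])
    (hfin _ fun n hn => by rw [hB n hn, zero_mul, ite_self])]
  rw [finsum_eq_single _ j]
  · rw [if_pos le_rfl, if_neg (lt_irrefl j), sub_self, Int.toNat_zero, add_zero, Nat.choose_self, Nat.cast_one,
      mul_one, sub_zero]
  · intro n hn
    rcases lt_or_gt_of_ne hn with h | h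
    · rw [if_pos h.le, if_pos h, sub_self]
    · rw [if_neg (not_le.2 h), if_neg (not_lt.2 h.le), mul_zero, sub_zero]

end Groth.Agent.S15437
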