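import Groth.Statements.S15449
import Groth.Agent.WeilCoh.K861.Point

set_option autoImplicit false
universe u v
open CategoryTheory AlgebraicGeometry
open WeilCoh

namespace Groth.Agent.S15449

/-- For a Weil cohomology theory H^* (coefficients in K of characteristic zero, on nonsingular connected
projective varieties over an algebraically closed field k), such varieties X and Y with product X ×
Y and projections p, q, and α ∈ H^i(Y): p_*(q^*(α)) = Tr_Y(α) (as a multiple of 1 ∈ H^0(X)) if i = 2
dim Y, and p_*(q^*(α)) = 0 otherwise. The product is any object Q with morphisms p : Q → X, q : Q →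
Y forming a cartesian square over Spec k; both sides are read in the total cohomology ring of X. -/
theorem result (k : Type u) [Field k] [IsAlgClosed k] (K : Type v) [Field K] [CharZero K]
    (T : WeilCoh.Theory k K) (X Y Q : WeilCoh.Var k) (p : Q ⟶ X) (q : Q ⟶ Y)
    (hQ : WeilCoh.IsProd p q) (i : ℤ) (a : ↥(T.gr Y i)) :
    (i = 2 * (WeilCoh.dim Y.obj.left : ℤ) →
      (T.push p i ⟨T.pull q a, T.pull_mem q i a a.2⟩ : T.H X) = algebraMap K (T.H X) (T.tr Y a)) ∧
    (i ≠ 2 * (WeilCoh.dim Y.obj.left : ℤ) →
      (T.push p i ⟨T.pull q a, T.pull_mem q i a a.2⟩ : T.H X) = 0) := by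
  have key : ∀ b : T.H X, T.tr Q (T.pull q (a : T.H Y) * T.pull p b) =
      T.tr Y (a : T.H Y) * T.tr X b := by
    intro b
    induction b using K861.Basic.hom_induction T with
    | hom j b hb =>
      by_cases hi : i = 2 * (WeilCoh.dim Y.obj.left : ℤ)
      · subst hi
        rw [K861.Basic.comm_two_mul T (T.pull_mem q _ _ a.2), K861.Basic.tr_pull_mul_pull T hQ, mul_comm]
      · rw [K861.Basic.tr_of_ne T a.2 hi, zero_mul, T.gradedComm Q _ _ _ _ (T.pull_mem q _ _ a.2)
          (T.pull_mem p _ _ hb), map_smul, K861.Basic.tr_pull_mul_pull T hQ,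
          K861.Basic.tr_of_ne T a.2 hi, mul_zero, smul_zero]
    | zero => simp
    | add c d hc hd => rw [map_add, mul_add, map_add, map_add, hc, hd, mul_add]
  constructor
  · intro hi
    apply K861.Basic.push_eq_of' T
    intro b
    rw [Algebra.algebraMap_eq_smul_one, smul_mul_assoc, one_mul, map_smul, smul_eq_mul]
    exact key b
  · intro hi
    apply K861.Basic.push_eq_of' T
    intro b
    rw [zero_mul, map_zero]
    refine (key b).trans ?_
    rw [K861.Basic.tr_of_ne T a.2 hi, zero_mul]

end Groth.Agent.S15449
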