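import Groth.Statements.S15451
import Groth.Agent.WeilCoh.K861.Graph

set_option autoImplicit false
universe u v
open CategoryTheory AlgebraicGeometry
open WeilCoh

namespace Groth.Agent.S15451

/-- Let H^* be a Weil cohomology theory (coefficients in K of characteristic zero, on nonsingular
connected projective varieties over an algebraically closed field k), φ an endomorphism of such a
variety X of dimension n, p, q the projections of X × X and Γ_φ the graph of φ. If (e^r_i)_i is a
basis of H^r(X) and (f^{2n−r}_i)_i the dual basis of H^{2n−r}(X) for Poincaré duality,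
Tr_X(f^{2n−r}_ℓ ∪ e^r_i) = δ_{i,ℓ}, for every 0 ≤ r ≤ 2n, then cl(Γ_φ) = Σ_{r=0}^{2n} Σ_i
p^*(φ^*(e^r_i)) ∪ q^*(f^{2n−r}_i) in H^{2n}(X × X). Here X × X is any object P with a cartesian
square p, q : P → X over Spec k, Γ_φ is the closure of the image of the generic point of X under the
section j = (id, φ) of p, and the f^{2n−r}_i are any family satisfying the duality relations. -/
theorem result (k : Type u) [Field k] [IsAlgClosed k] (K : Type v) [Field K] [CharZero K]
    (T : WeilCoh.Theory k K)
    (X P : WeilCoh.Var k) [IrreducibleSpace ↥X.obj.left] (φ : X ⟶ X)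
    (p q : P ⟶ X) (hP : WeilCoh.IsProd p q) (j : X ⟶ P) (hjp : j ≫ p = 𝟙 X) (hjq : j ≫ q = φ)
    (ι : ℕ → Type) [∀ r, Fintype (ι r)] [∀ r, DecidableEq (ι r)]
    (e : (r : ℕ) → Module.Basis (ι r) K ↥(T.gr X (r : ℤ)))
    (f : (r : ℕ) → ι r → ↥(T.gr X (2 * (WeilCoh.dim X.obj.left : ℤ) - r)))
    (hef : ∀ r, r ≤ 2 * WeilCoh.dim X.obj.left → ∀ i l : ι r,
      T.tr X ((f r l : T.H X) * (e r i : T.H X)) = if i = l then 1 else 0) :
    T.cl P (WeilCoh.sm j (genericPoint ↥X.obj.left)) =
      ∑ r ∈ Finset.range (2 * WeilCoh.dim X.obj.left + 1), ∑ i : ι r,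
        T.pull p (T.pull φ (e r i : T.H X)) * T.pull q (f r i : T.H X) := by
  open K861 in
  apply Basic.eq_of_tr_prod T hP
  intro s t a b ha hb
  rw [Point.tr_cl_section_generic_mul T j p hjp, map_mul, ← Basic.pull_comp_apply,
    ← Basic.pull_comp_apply, hjp, hjq, Basic.pull_id_apply, Finset.sum_mul, map_sum]
  -- each term
  have hterm : ∀ r : ℕ, ∀ i : ι r, T.tr P (T.pull p (T.pull φ (e r i : T.H X)) *
      T.pull q (f r i : T.H X) * (T.pull p a * T.pull q b)) =
      (-1 : K) ^ ((2 * (WeilCoh.dim X.obj.left : ℤ) - r).natAbs * s.natAbs) *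
        (T.tr X (T.pull φ (e r i : T.H X) * a) * T.tr X ((f r i : T.H X) * b)) := by
    intro r i
    have h1 := T.gradedComm P _ _ _ _ (T.pull_mem q _ _ (f r i).2) (T.pull_mem p s a ha)
    rw [mul_assoc, ← mul_assoc (T.pull q (f r i : T.H X)), h1, smul_mul_assoc, mul_smul_comm, map_smul,
      smul_eq_mul]
    congr 1
    rw [← Basic.tr_pull_mul_pull T hP]
    simp only [map_mul, mul_assoc]
  have hsum : ∀ r : ℕ, T.tr P ((∑ i : ι r, T.pull p (T.pull φ (e r i : T.H X)) *
      T.pull q (f r i : T.H X)) * (T.pull p a * T.pull q b)) =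
      (-1 : K) ^ ((2 * (WeilCoh.dim X.obj.left : ℤ) - r).natAbs * s.natAbs) *
        ∑ i : ι r, (T.tr X (T.pull φ (e r i : T.H X) * a) * T.tr X ((f r i : T.H X) * b)) := by
    intro r
    rw [Finset.sum_mul, map_sum, Finset.mul_sum]
    exact Finset.sum_congr rfl fun i _ => hterm r i
  rw [Finset.sum_congr rfl fun r _ => hsum r]
  by_cases ht : t < 0 ∨ (2 * (WeilCoh.dim X.obj.left : ℤ)) < t
  · have hb0 := Basic.eq_zero_of_lt T hb ht
    simp [hb0]
  · obtain ⟨n, rfl⟩ : ∃ n : ℕ, t = n := ⟨t.toNat, by omega⟩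
    rw [Finset.sum_eq_single n]
    · -- expansion of `b` in the basis
      have hn : n ≤ 2 * WeilCoh.dim X.obj.left := by omega
      have hb' : b = ∑ i : ι n, T.tr X ((f n i : T.H X) * b) • (e n i : T.H X) := by
        have h1 := (e n).sum_repr ⟨b, hb⟩
        have h2 : b = ∑ i : ι n, ((e n).repr ⟨b, hb⟩ i) • (e n i : T.H X) := by
          have h5 := congrArg (T.gr X (n : ℤ)).subtype h1
          rw [map_sum] at h5
          exact h5.symm
        have h3 : ∀ l : ι n, T.tr X ((f n l : T.H X) * b) = (e n).repr ⟨b, hb⟩ l := by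
          intro l
          conv_lhs => rw [h2]
          rw [Finset.mul_sum, map_sum]
          simp only [mul_smul_comm, map_smul, smul_eq_mul, hef n hn]
          simp
        conv_lhs => rw [h2]
        exact Finset.sum_congr rfl fun l _ => by rw [h3]
      have h4 : ∑ i : ι n, (T.tr X (T.pull φ (e n i : T.H X) * a) * T.tr X ((f n i : T.H X) * b)) =
          T.tr X (T.pull φ b * a) := by
        conv_rhs => rw [hb', map_sum, Finset.sum_mul, map_sum]
        refine Finset.sum_congr rfl fun i _ => ?_
        rw [map_smul, smul_mul_assoc, map_smul, smul_eq_mul, mul_comm]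
      rw [h4]
      by_cases hst : s + n = 2 * (WeilCoh.dim X.obj.left : ℤ)
      · rw [Total.neg_one_pow_natAbs_mul K (by
            have : 2 * (WeilCoh.dim X.obj.left : ℤ) - n + s = 2 * s := by omega
            rw [this]; exact even_two_mul _), Total.tr_mul_comm T ha (T.pull_mem φ _ _ hb)]
        congr 1
        apply Total.eps_congr
        have : s + (2 * (WeilCoh.dim X.obj.left : ℤ) - n) = 2 * s := by omega
        rw [this]
        exact even_two_mul _
      · rw [Basic.tr_of_ne T (Basic.mul_mem T ha (T.pull_mem φ _ _ hb)) hst,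
          Basic.tr_of_ne T (Basic.mul_mem T (T.pull_mem φ _ _ hb) ha) (by omega), mul_zero]
    · intro r _ hr
      rw [Finset.sum_eq_zero, mul_zero]
      intro i _
      rw [Basic.tr_of_ne T (Basic.mul_mem T (f r i).2 hb) (by omega), mul_zero]
    · intro hn
      exfalso
      apply hn
      rw [Finset.mem_range]
      omega

end Groth.Agent.S15451
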