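import Groth.Statements.S15452
import Groth.Agent.WeilCoh.K861.ZetaProd

set_option autoImplicit false
universe u v
open CategoryTheory AlgebraicGeometry
open WeilCoh

namespace Groth.Agent.S15452

open K861 in
theorem trace_formula {k₀ : Type u} [Field k₀] [Finite k₀] {k : Type u} [Field k] [IsAlgClosed k]
    [Algebra k₀ k] {K : Type v} [Field K] [CharZero K] (T : WeilCoh.Theory k K)
    {X : Scheme.{u}} (f : X ⟶ Spec (CommRingCat.of k₀)) [LocallyOfFiniteType f] [QuasiCompact f]
    (FX : X ⟶ X) (hFb : FX.base = 𝟙 _) (hle : ∀ U : X.Opens, U ≤ FX ⁻¹ᵁ U)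
    (hFapp : ∀ (U : X.Opens) (s : Γ(X, U)), (FX.appLE U U (hle U)).hom s = s ^ Nat.card k₀)
    (Xb : WeilCoh.Var k) (π : Xb.obj.left ⟶ X)
    (hπ : IsPullback π Xb.obj.hom f (Spec.map (CommRingCat.ofHom (algebraMap k₀ k))))
    (F : Xb ⟶ Xb) (hF : WeilCoh.sm F ≫ π = π ≫ FX)
    (Pb : WeilCoh.Var k) (p q : Pb ⟶ Xb) (hP : WeilCoh.IsProd p q) (m : ℕ) (hm : m ≠ 0) :
    ((Zeta.nPts f m : ℕ) : K) = ∑ i ∈ Finset.range (2 * WeilCoh.dim Xb.obj.left + 1),
      (-1 : K) ^ i * LinearMap.trace K ↥(T.gr Xb (i : ℤ)) (T.pullDeg F (i : ℤ) ^ m) := by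
  obtain ⟨p', e, hp', hch, he, hcard, hpY, h, hiso, hfac⟩ :=
    Frob.exists_factor f FX hFb hle hFapp Xb.obj.hom π hπ (sm F) hF (Dim.w F)
  have hSqF : Fixed.Sq (sm F) := by
    rw [hfac]; exact Fixed.sq_frob p' hp' hpY e he h
  have hSq : Fixed.Sq (sm (Count.iter F m)) := by
    obtain ⟨n, rfl⟩ := Nat.exists_eq_succ_of_ne_zero hm
    exact hSqF.comp_left (sm (Count.iter F n))
  have h1 := Fixed.tr_graph_diag T hP (Count.iter F m) hSq (Graph.lift hP (𝟙 Xb) (Count.iter F m))
    (Graph.lift hP (𝟙 Xb) (𝟙 Xb)) (Graph.lift_fst hP _ _) (Graph.lift_snd hP _ _)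
    (Graph.lift_fst hP _ _) (Graph.lift_snd hP _ _)
  have h2 := Graph.lefschetz T hP (Graph.lift hP (𝟙 Xb) (Count.iter F m))
    (Graph.lift hP (𝟙 Xb) (𝟙 Xb)) (Count.iter F m) (Graph.lift_fst hP _ _) (Graph.lift_snd hP _ _)
    (Graph.lift_fst hP _ _) (Graph.lift_snd hP _ _)
  rw [h1, Count.card_fixed f FX hFb hle hFapp Xb π hπ F hF m hm] at h2
  rw [h2]
  exact Finset.sum_congr rfl fun i _ => by rw [Count.pullDeg_iter]


/-- Let k₀ be a finite field with q elements, k an algebraically closed field containing k₀, H^* a Weil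
cohomology theory, with coefficient field K of characteristic zero, on nonsingular connected
projective varieties over k, X a scheme of finite type over k₀ whose base change X̄ = X ×_{k₀} k is
such a variety (as it is when X is nonsingular, projective and geometrically connected), and F =
Frob_{X,q} × id the k-endomorphism of X̄ induced by the q-Frobenius of X; let n = dim X̄ and P_i(t)
= det(Id − t F^* | H^i(X̄)). Then Z(X, t) = P_1(t) P_3(t) ⋯ P_{2n−1}(t) / (P_0(t) P_2(t) ⋯
P_{2n}(t)); stated multiplied out in K⟦t⟧, with Z(X, t) = exp(Σ_m N_m t^m / m) ∈ ℚ⟦t⟧ mapped to K⟦t⟧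
and P_i the reverse of the characteristic polynomial of F^* on H^i(X̄). The q-Frobenius of X is
pinned as the endomorphism that is the identity on points and the q-th power on sections, X̄ as a
cartesian square over Spec k → Spec k₀, and F by its compatibility with the projection to X; the
product X̄ ×_k X̄, on which the proof applies the trace formula to the graphs of the powers of F, is
given as any object of the category with a cartesian square p, q to X̄ over Spec k. (The published
statement takes k to be an algebraic closure of the prime field; this row allows any algebraically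
closed field containing k₀.) -/
theorem result (k₀ : Type u) [Field k₀] [Finite k₀] (k : Type u) [Field k] [IsAlgClosed k] [Algebra k₀ k]
    (K : Type v) [Field K] [CharZero K] (T : WeilCoh.Theory k K)
    {X : Scheme.{u}} (f : X ⟶ Spec (CommRingCat.of k₀)) [LocallyOfFiniteType f] [QuasiCompact f]
    (FX : X ⟶ X) (hFb : FX.base = 𝟙 _) (hle : ∀ U : X.Opens, U ≤ FX ⁻¹ᵁ U)
    (hFapp : ∀ (U : X.Opens) (s : Γ(X, U)), (FX.appLE U U (hle U)).hom s = s ^ Nat.card k₀)
    (Xb : WeilCoh.Var k) (π : Xb.obj.left ⟶ X)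
    (hπ : IsPullback π Xb.obj.hom f (Spec.map (CommRingCat.ofHom (algebraMap k₀ k))))
    (F : Xb ⟶ Xb) (hF : WeilCoh.sm F ≫ π = π ≫ FX)
    (Pb : WeilCoh.Var k) (p q : Pb ⟶ Xb) (hP : WeilCoh.IsProd p q) :
    PowerSeries.map (algebraMap ℚ K) (Zeta.zetaFun f) *
        (∏ i ∈ Finset.range (WeilCoh.dim Xb.obj.left + 1),
          ((LinearMap.charpoly (T.pullDeg F ((2 * i : ℕ) : ℤ))).reverse : PowerSeries K)) =
      ∏ i ∈ Finset.range (WeilCoh.dim Xb.obj.left),
        ((LinearMap.charpoly (T.pullDeg F ((2 * i + 1 : ℕ) : ℤ))).reverse : PowerSeries K) := by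
  have h := K861.ZetaProd.mul_prod_eq_prod (K := K) (V := fun i => T.gr Xb (i : ℤ))
    (fun i => T.pullDeg F (i : ℤ)) (WeilCoh.dim Xb.obj.left) (fun m => (Zeta.nPts f m : ℚ))
    (Zeta.zetaFun f) (K466.Basic.logD_zetaFun f) (K466.Basic.constantCoeff_zetaFun f)
    (by rw [K466.Basic.nPts_zero, Nat.cast_zero]) (fun m hm => by
      rw [← trace_formula T f FX hFb hle hFapp Xb π hπ F hF Pb p q hP m hm]
      norm_cast)
  exact h

end Groth.Agent.S15452
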