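import Groth.Statements.S15457
import Groth.Agent.WeilCoh.K923.Final

set_option autoImplicit false
universe u v
open CategoryTheory AlgebraicGeometry
open WeilCoh

namespace Groth.Agent.S15457

/-- For a Weil cohomology theory H^* (coefficients in K of characteristic zero, on nonsingular connected
projective varieties over an algebraically closed field k), such a variety X and an r-cycle α = Σ_i
n_i [V_i] on X that is rationally equivalent to zero, Σ_i n_i cl(V_i) = 0 in H^{2(dim X − r)}(X).
Cycles are integer combinations of points (a point standing for its closure), the dimension function
δ on X is the one induced from weight 0 on Spec k, and rational equivalence to zero means being a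
locally finite (here finite) sum of divisors of nonzero rational functions on closed subvarieties of
δ-dimension r + 1. -/
theorem result (k : Type u) [Field k] [IsAlgClosed k] (K : Type v) [Field K] [CharZero K]
    (T : WeilCoh.Theory k K) (X : WeilCoh.Var k)
    (δ : ↥X.obj.left → ℤ) (hδ : Cyc.DeltaCompat X.obj.hom δ (fun _ => 0)) (r : ℤ)
    (α : AlgebraicCycle X.obj.left ℤ) (hα : Cyc.RatEquivZero δ r α) :
    T.clCyc X α = 0 := by
  exact K923.Final.clCyc_eq_zero T X δ hδ r α hα

end Groth.Agent.S15457
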