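import Groth.Statements.S15460
import Groth.Agent.Zeta.K468.Absc
import Groth.Agent.S15462

set_option autoImplicit false
universe u
open CategoryTheory AlgebraicGeometry
open Zeta

namespace Groth.Agent.S15460

/-- If X is an arithmetic scheme (a scheme of finite type over ℤ) of dimension r, the abscissa of
convergence of its zeta function L_X(s) = Σ_{n ≥ 1} a_n n^{−s}, where a_n is the number of effective
0-cycles on X of norm n (nonnegative coefficients, so convergence and absolute convergence agree),
is ρ = r. -/
theorem result {X : Scheme.{u}}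
    (f : X ⟶ Spec (CommRingCat.of (ULift.{u} ℤ))) [LocallyOfFiniteType f] [QuasiCompact f] (r : ℕ)
    (hr : topologicalKrullDim X = r) :
    LSeries.abscissaOfAbsConv (Zeta.arithCoeff X) = (r : ℝ) := by
  have hft := K468.Arith.finiteType_ulift.{u}
  refine le_antisymm (K468.Arith.abscissa_le f r hr.le).1 ?_
  by_contra hlt
  rw [not_le] at hlt
  obtain ⟨ε, hε, g, hg, hgL, hord⟩ := Groth.Agent.S15462.result f r hr
  have hL : AnalyticAt ℂ (LSeries (Zeta.arithCoeff X)) (r : ℂ) :=
    LSeries_analyticOnNhd (Zeta.arithCoeff X) (r : ℂ) (by simpa using hlt)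
  have hgr : MeromorphicAt g (r : ℂ) := hg (r : ℂ) (by simpa using hε)
  have hsub : MeromorphicAt (g - LSeries (Zeta.arithCoeff X)) (r : ℂ) := hgr.sub hL.meromorphicAt
  have heq : g =ᶠ[nhdsWithin (r : ℂ) {(r : ℂ)}ᶜ] LSeries (Zeta.arithCoeff X) := by
    rcases hsub.eventually_eq_zero_or_eventually_ne_zero with h | h
    · filter_upwards [h] with z hz
      exact sub_eq_zero.mp hz
    · exfalso
      have htend : Filter.Tendsto (fun n : ℕ => ((r : ℂ) + (1 / ((n : ℝ) + 1) : ℝ))) Filter.atTop
          (nhdsWithin (r : ℂ) {(r : ℂ)}ᶜ) := by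
        rw [tendsto_nhdsWithin_iff]
        constructor
        · have h1 : Filter.Tendsto (fun n : ℕ => (1 / ((n : ℝ) + 1))) Filter.atTop (nhds 0) :=
            tendsto_one_div_add_atTop_nhds_zero_nat
          have h2 := ((Complex.continuous_ofReal.tendsto 0).comp h1).const_add (r : ℂ)
          simpa using h2
        · refine Filter.Eventually.of_forall fun n => ?_
          rw [Set.mem_compl_iff, Set.mem_singleton_iff, add_eq_left, Complex.ofReal_eq_zero]
          positivity
      obtain ⟨n, hn⟩ := (htend.eventually h).exists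
      apply hn
      rw [Pi.sub_apply, sub_eq_zero]
      apply hgL
      have : 0 < 1 / ((n : ℝ) + 1) := by positivity
      simp only [Complex.add_re, Complex.natCast_re, Complex.ofReal_re]
      linarith
  rw [meromorphicOrderAt_congr heq] at hord
  exact absurd hord (not_lt.mpr hL.meromorphicOrderAt_nonneg)

end Groth.Agent.S15460
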