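import Groth.Statements.S15461
import Groth.Agent.Zeta.K669.Count
import Groth.Agent.Zeta.K675.Hilb

set_option autoImplicit false
universe u
open CategoryTheory CategoryTheory.Limits AlgebraicGeometry
open Zeta

namespace Groth.Agent.S15461

/-- Given n, d, r with d > 0 and r ≥ 2 there is a constant A₂ = A₂(n, d, r) > 0 such that, for every
finite field k with q elements and every reduced, geometrically irreducible closed subvariety X ⊆
P^n_k of dimension r and degree d lying in no k-hyperplane, at most A₂ q^{n−1} hyperplanes H defined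
over k cut X in a scheme H ∩ X that fails to be geometrically irreducible or fails to be reduced at
its generic points. Hyperplanes are counted through their nonzero linear forms ℓ ∈ k[T_0, …, T_n]_1
(q − 1 forms per hyperplane, so the bound reads A₂ (q − 1) q^{n−1}); H is the zero scheme of ℓ
viewed as the global section ℓ/1 of O(1) (the section morphism O ⟶ O(1) is pinned by this value), H
∩ X is the fibre product of X and H over P^n_k, 'reduced at its generic points' is rendered as
having a dense open reduced subscheme, 'lying in no k-hyperplane' as every nonzero ℓ leaving some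
point of X outside its zero scheme, and the degree is the intersection number (O(1)^r · O_X),
written as the alternating-Euler-characteristic intersection number of r copies of O(−1)|_X with
O_X. -/
theorem result (n d r : ℕ) (hd : 0 < d) (hr : 2 ≤ r) :
    ∃ A : ℝ, 0 < A ∧ ∀ (k : Type u) [Field k] [Finite k] (X : Scheme.{u})
      (ι : X ⟶ CohB1.ProjSpace n k) [IsClosedImmersion ι] [IsReduced X]
      [GeometricallyIrreducible (ι ≫ CohB1.ProjSpace.toSpec n k)],
      topologicalKrullDim X = r →
      letI : X.Over (Spec (CommRingCat.of k)) := ⟨ι ≫ CohB1.ProjSpace.toSpec n k⟩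
      FGA.intNum k X r (fun _ : Fin r => (Scheme.Modules.pullback ι).obj (Twist.twistProjSpace n k (-1)))
          (Coh.structureModule X) = d →
      (∀ (ℓ : ↥(CohB1.polyGrading n k 1)) (s : (Coh.structureModule (CohB1.ProjSpace n k) ⟶ Twist.twistProjSpace n k 1)),
        ℓ ≠ 0 → PicF2.secVal (Twist.twistProjSpace n k 1) s ⊤ = Twist.globalOf (CohB1.polyGrading n k) ℓ →
          ∃ x : X, ι.base x ∉ ((PicF2.zeroScheme (Twist.twistProjSpace n k 1) s).support : Set ↥(CohB1.ProjSpace n k))) →
      (Nat.card {ℓ : ↥(CohB1.polyGrading n k 1) // ℓ ≠ 0 ∧ ∀ s : (Coh.structureModule (CohB1.ProjSpace n k) ⟶ Twist.twistProjSpace n k 1),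
          PicF2.secVal (Twist.twistProjSpace n k 1) s ⊤ = Twist.globalOf (CohB1.polyGrading n k) ℓ →
            ¬ (GeometricallyIrreducible
                  (pullback.fst ι (PicF2.zeroScheme (Twist.twistProjSpace n k 1) s).subschemeι ≫ ι ≫ CohB1.ProjSpace.toSpec n k) ∧
               ∃ U : (pullback ι (PicF2.zeroScheme (Twist.twistProjSpace n k 1) s).subschemeι).Opens,
                 Dense (U : Set ↥(pullback ι (PicF2.zeroScheme (Twist.twistProjSpace n k 1) s).subschemeι)) ∧ IsReduced (U : Scheme.{u}))} : ℝ) ≤
        A * ((Nat.card k : ℝ) - 1) * (Nat.card k : ℝ) ^ (n - 1) := by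
  obtain ⟨A, hA, h⟩ := K669.Count.main.{u} (fun k _ N X ι _ _ r hdim =>
    K675.Hilb.tendsto_hilb k ι r hdim) n d r hd hr
  refine ⟨A, hA, ?_⟩
  intro k _ _ X ι _ _ _ hdim hdeg _
  exact h k X ι hdim hdeg

end Groth.Agent.S15461
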