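import Groth.Statements.S15463
import Groth.Agent.Zeta.K797.Final

set_option autoImplicit false
universe u
open CategoryTheory AlgebraicGeometry
open Zeta

namespace Groth.Agent.S15463

/-- If X is an irreducible arithmetic scheme (of finite type over ℤ) of dimension r that dominates Spec
ℤ, then for some ε > 0 the zeta function L_X(s) = Σ_{n ≥ 1} a_n n^{−s} (a_n the number of effective
0-cycles of norm n) has a meromorphic continuation to the half-plane Re(s) > r − ε whose only pole
there is s = r, and this pole has order one. Stated with a function g on ℂ, meromorphic at every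
point of the half-plane and agreeing with the Dirichlet series where Re(s) > r, of order −1 at r and
of nonnegative order at every other point of the half-plane; X dominates Spec ℤ in the sense that
some point of X maps to the generic point. -/
theorem result {X : Scheme.{u}}
    (f : X ⟶ Spec (CommRingCat.of (ULift.{u} ℤ))) [LocallyOfFiniteType f] [QuasiCompact f] (r : ℕ)
    (hr : topologicalKrullDim X = r) [IrreducibleSpace ↥X]
    (hdom : ∃ x : X, closure ({f.base x} : Set ↥(Spec (CommRingCat.of (ULift.{u} ℤ)))) = Set.univ) :
    ∃ ε : ℝ, 0 < ε ∧ ∃ g : ℂ → ℂ, MeromorphicOn g {s : ℂ | (r : ℝ) - ε < s.re} ∧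
      (∀ s : ℂ, (r : ℝ) < s.re → g s = LSeries (Zeta.arithCoeff X) s) ∧
      meromorphicOrderAt g (r : ℂ) = -1 ∧
      ∀ s : ℂ, (r : ℝ) - ε < s.re → s ≠ (r : ℂ) → 0 ≤ meromorphicOrderAt g s := by
  obtain ⟨ε, hε, g, h1, h2, h3, h4⟩ := K797.Final.main_irr X f r hr hdom
  rw [Complex.ofReal_natCast] at h3 h4
  exact ⟨ε, hε, g, h1, h2, h3, h4 trivial⟩

end Groth.Agent.S15463
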