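import Groth.Statements.S15467
import Groth.Agent.VBCurve.K707.FlagMain

set_option autoImplicit false
universe u
open VBCurve

namespace Groth.Agent.S15467

open CategoryTheory CategoryTheory.Limits AlgebraicGeometry in
/-- Let k be an algebraically closed field of characteristic zero, Y an irreducible scheme locally of
finite type over k, f : X → Y a smooth morphism of relative dimension 1 that factors through a
closed immersion into some projective space P^n_Y over Y (a family of smooth projective curves), and
E an O_X-module that is locally free of rank r ≥ 1. Then there is a non-empty open U ⊆ Y over which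
E is filtered by line bundles: the restriction of E to f⁻¹(U) has a chain of subobjects 0 = E_0 ≤
E_1 ≤ ⋯ ≤ E_r = E with E_i locally free of rank i and each E_{i+1}/E_i locally free of rank 1. (The
published statement works with schemes of finite type over k and does not say that the open set is
non-empty; this row takes Y only locally of finite type over k and asks for a non-empty U, which the
printed proof provides, since the open set it constructs contains the generic point of Y.) -/
theorem result
    (k : Type u) [Field k] [IsAlgClosed k] [CharZero k] {X Y : Scheme.{u}}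
    (pY : Y ⟶ Spec (CommRingCat.of k)) [LocallyOfFiniteType pY] [IrreducibleSpace Y]
    (f : X ⟶ Y) [SmoothOfRelativeDimension 1 f]
    (n : ℕ) (ι : X ⟶ CohB1.ProjSpaceOver n Y) [IsClosedImmersion ι]
    (hι : ι ≫ CohB1.ProjSpaceOver.toBase n Y = f)
    (E : X.Modules) (r : ℕ) (hr : 1 ≤ r) (hE : FlatMod.IsFinLocFreeOfRank r E) :
    ∃ U : Y.Opens, (U : Set Y).Nonempty ∧
      ∃ F : Fin (r + 1) → Subobject (E.restrict (f ⁻¹ᵁ U).ι),
        Monotone F ∧ F 0 = ⊥ ∧ F (Fin.last r) = ⊤ ∧
        (∀ i : Fin (r + 1), FlatMod.IsFinLocFreeOfRank (i : ℕ) (Subobject.underlying.obj (F i))) ∧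
        (∀ i : Fin r, ∃ h : F i.castSucc ≤ F i.succ,
          FlatMod.IsFinLocFreeOfRank 1 (cokernel ((F i.castSucc).ofLE (F i.succ) h))) := by
  obtain ⟨y⟩ : Nonempty Y := inferInstance
  obtain ⟨U, hyU, hU⟩ := K707.FlagMain.exists_open pY f n ι hι E r hr hE y
  exact ⟨U, ⟨y, hyU⟩, K707.Flag.exists_flag hU⟩

end Groth.Agent.S15467
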