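import Groth.Statements.S15487

set_option autoImplicit false
universe u
open CategoryTheory AlgebraicGeometry
open IsoNat

namespace Groth.Agent.S15487

open IsoNat AlgSt

/-- The field-valued point given by an object of the fibre over `Spec K`. -/
def ofFib {S : Scheme.{u}} {𝒳 : AlgSt.Cat S} (K : Type u) [Field K] (str : Spec (CommRingCat.of K) ⟶ S)
    (x : 𝒳.p.Fiber (Over.mk str)) : AlgSt.FPt 𝒳 :=
  { K := K, str := str, obj := x.1, lies := x.2 }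

theorem mk_ofFib_eq_of_hom {S : Scheme.{u}} {𝒳 : AlgSt.Cat S} {K L : Type u} [Field K] [Field L]
    {s : Spec (CommRingCat.of K) ⟶ S} {t : Spec (CommRingCat.of L) ⟶ S}
    {x : 𝒳.p.Fiber (Over.mk s)} {y : 𝒳.p.Fiber (Over.mk t)} (a : x.1 ⟶ y.1) :
    AlgSt.Points.mk (ofFib K s x) = AlgSt.Points.mk (ofFib L t y) :=
  AlgSt.Points.sound ⟨ofFib K s x, 𝟙 _, a, trivial⟩

theorem iso_of_cls_eq {S : Scheme.{u}} {𝒳 : AlgSt.Cat S} {T : Over S} {x y : 𝒳.p.Fiber T}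
    (h : cls x = cls y) : Nonempty (x ≅ y) := Quotient.exact h

theorem mk_ofFib_eq_of_cls {S : Scheme.{u}} {𝒳 : AlgSt.Cat S} {K : Type u} [Field K]
    {s : Spec (CommRingCat.of K) ⟶ S} {x y : 𝒳.p.Fiber (Over.mk s)} (h : cls x = cls y) :
    AlgSt.Points.mk (ofFib K s x) = AlgSt.Points.mk (ofFib K s y) := by
  obtain ⟨e⟩ := iso_of_cls_eq h
  exact mk_ofFib_eq_of_hom e.hom.1

theorem exists_rep {S : Scheme.{u}} {𝒳 : AlgSt.Cat S} {T : Over S} (c : IsoCl 𝒳 T) :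
    ∃ x : 𝒳.p.Fiber T, cls x = c := Quotient.exists_rep c

/-- The transport of a field-valued point along an isomorphism of presheaves of classes. -/
noncomputable def tr {S : Scheme.{u}} {𝒳 𝒴 : AlgSt.Cat S} (φ : FIso 𝒳 𝒴) (p : AlgSt.FPt 𝒳) :
    AlgSt.FPt 𝒴 :=
  ofFib p.K p.str (exists_rep (φ.toEquiv (Over.mk p.str) (cls ⟨p.obj, p.lies⟩))).choose

theorem mk_tr_eq {S : Scheme.{u}} {𝒳 𝒴 : AlgSt.Cat S} (φ : FIso 𝒳 𝒴) (p : AlgSt.FPt 𝒳)
    (y : 𝒴.p.Fiber (Over.mk p.str)) (hy : cls y = φ.toEquiv (Over.mk p.str) (cls ⟨p.obj, p.lies⟩)) :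
    AlgSt.Points.mk (tr φ p) = AlgSt.Points.mk (ofFib p.K p.str y) :=
  mk_ofFib_eq_of_cls (((exists_rep (φ.toEquiv (Over.mk p.str) (cls ⟨p.obj, p.lies⟩))).choose_spec).trans
    hy.symm)

/-- A morphism between objects lying over `R`, `T` lies over some morphism `R ⟶ T`. -/
theorem exists_isHomLift {C : Type*} [Category C] {X : Type*} [Category X] (p : X ⥤ C)
    {a b : X} (φ : a ⟶ b) {R T : C} (ha : p.obj a = R) (hb : p.obj b = T) :
    ∃ g : R ⟶ T, p.IsHomLift g φ := by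
  subst ha hb
  exact ⟨p.map φ, inferInstance⟩

theorem mk_tr_eq_of_rel {S : Scheme.{u}} {𝒳 𝒴 : AlgSt.Cat S} (φ : FIso 𝒳 𝒴) {p q : AlgSt.FPt 𝒳}
    (a : p.obj ⟶ q.obj) : AlgSt.Points.mk (tr φ p) = AlgSt.Points.mk (tr φ q) := by
  obtain ⟨g, hg⟩ := exists_isHomLift 𝒳.p a p.lies q.lies
  obtain ⟨y', y, b, -, h1, h2⟩ := φ.natural g ⟨p.obj, p.lies⟩ ⟨q.obj, q.lies⟩ a hg
  rw [mk_tr_eq φ p y' h1.symm, mk_tr_eq φ q y h2.symm]
  exact mk_ofFib_eq_of_hom b

/-- The map on points induced by an isomorphism of presheaves of classes. -/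
noncomputable def trPts {S : Scheme.{u}} {𝒳 𝒴 : AlgSt.Cat S} (φ : FIso 𝒳 𝒴) :
    AlgSt.Points 𝒳 → AlgSt.Points 𝒴 :=
  Quot.lift (fun p => AlgSt.Points.mk (tr φ p)) (by
    rintro p q ⟨r, a, b, -⟩
    exact (mk_tr_eq_of_rel φ a).symm.trans (mk_tr_eq_of_rel φ b))


/-- Surjectivity of a morphism of algebraic stacks is detected by the induced map of presheaves of
isomorphism classes. Let f : 𝒳 → 𝒴 and f' : 𝒳' → 𝒴' be morphisms of algebraic stacks over a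
quasi-separated scheme S with isomorphisms of the presheaves of isomorphism classes of 𝒳 with 𝒳' and
of 𝒴 with 𝒴' under which the induced maps correspond. If f induces a surjective map on spaces of
points, so does f'. Here an algebraic stack over a quasi-separated scheme S means a stack in
groupoids for the fppf topology with a smooth surjective atlas from a scheme, whose diagonal is
representable by separated quasi-compact morphisms of algebraic spaces and whose inertia is locally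
of finite presentation over it. -/
theorem result
    (S : Scheme.{u}) [QuasiSeparatedSpace S]
    (𝒳 𝒴 : AlgSt.Cat S)
    (h𝒳 : AlgSt.IsAlgStack Scheme.fppfPrecoverage 𝒳)
    (h𝒳d : AlgSt.RepByAlgSpWith (AlgSp.IsSeparatedMor ⊓ AlgSp.IsQuasiCompactMor)
      (FibCat.diag (FibCat.toSelf 𝒳)))
    (h𝒳i : AlgSt.RepByAlgSpWith (AlgSp.LocP @LocallyOfFinitePresentation)
      (FibCat.inertiaToBase (FibCat.toSelf 𝒳)))
    (h𝒴 : AlgSt.IsAlgStack Scheme.fppfPrecoverage 𝒴)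
    (h𝒴d : AlgSt.RepByAlgSpWith (AlgSp.IsSeparatedMor ⊓ AlgSp.IsQuasiCompactMor)
      (FibCat.diag (FibCat.toSelf 𝒴)))
    (h𝒴i : AlgSt.RepByAlgSpWith (AlgSp.LocP @LocallyOfFinitePresentation)
      (FibCat.inertiaToBase (FibCat.toSelf 𝒴)))
    (𝒳' 𝒴' : AlgSt.Cat S)
    (h𝒳' : AlgSt.IsAlgStack Scheme.fppfPrecoverage 𝒳')
    (h𝒳'd : AlgSt.RepByAlgSpWith (AlgSp.IsSeparatedMor ⊓ AlgSp.IsQuasiCompactMor)
      (FibCat.diag (FibCat.toSelf 𝒳')))
    (h𝒳'i : AlgSt.RepByAlgSpWith (AlgSp.LocP @LocallyOfFinitePresentation)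
      (FibCat.inertiaToBase (FibCat.toSelf 𝒳')))
    (h𝒴' : AlgSt.IsAlgStack Scheme.fppfPrecoverage 𝒴')
    (h𝒴'd : AlgSt.RepByAlgSpWith (AlgSp.IsSeparatedMor ⊓ AlgSp.IsQuasiCompactMor)
      (FibCat.diag (FibCat.toSelf 𝒴')))
    (h𝒴'i : AlgSt.RepByAlgSpWith (AlgSp.LocP @LocallyOfFinitePresentation)
      (FibCat.inertiaToBase (FibCat.toSelf 𝒴')))
    (f : 𝒳 ⥤ᵇ 𝒴) (f' : 𝒳' ⥤ᵇ 𝒴') (φ : IsoNat.FIsoSq f f')
    (hf : AlgSt.IsSurjective f) :
    AlgSt.IsSurjective f' := by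
  intro z
  obtain ⟨p', rfl⟩ := AlgSt.Points.mk_surjective z
  let T : Over S := Over.mk p'.str
  let y' : 𝒴'.p.Fiber T := ⟨p'.obj, p'.lies⟩
  obtain ⟨y, hy⟩ := exists_rep ((φ.tgt.toEquiv T).symm (cls y'))
  have hy' : φ.tgt.toEquiv T (cls y) = cls y' := by rw [hy, Equiv.apply_symm_apply]
  obtain ⟨w, hw⟩ := hf (AlgSt.Points.mk (ofFib p'.K p'.str y))
  obtain ⟨q, rfl⟩ := AlgSt.Points.mk_surjective w
  have h1 : trPts φ.tgt (AlgSt.Points.mk (q.map f)) =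
      trPts φ.tgt (AlgSt.Points.mk (ofFib p'.K p'.str y)) := congrArg _ hw
  change AlgSt.Points.mk (tr φ.tgt (q.map f)) = AlgSt.Points.mk (tr φ.tgt (ofFib p'.K p'.str y)) at h1
  -- the second transported point is `p'`
  have h2 : AlgSt.Points.mk (tr φ.tgt (ofFib p'.K p'.str y)) = AlgSt.Points.mk p' :=
    mk_tr_eq φ.tgt (ofFib p'.K p'.str y) y' hy'.symm
  -- the first one is in the image of `f'`
  obtain ⟨x', hx'⟩ := exists_rep (φ.src.toEquiv (Over.mk q.str) (cls ⟨q.obj, q.lies⟩))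
  have h3 : AlgSt.Points.mk (tr φ.tgt (q.map f)) =
      AlgSt.Points.mk (ofFib q.K q.str ((fibFun f' (Over.mk q.str)).obj x')) := by
    apply mk_tr_eq
    have h4 := φ.comm (Over.mk q.str) (cls ⟨q.obj, q.lies⟩)
    rw [← hx'] at h4
    exact h4.symm
  refine ⟨AlgSt.Points.mk (ofFib q.K q.str x'), ?_⟩
  rw [AlgSt.Points.map_mk]
  exact h3.symm.trans (h1.trans h2)

end Groth.Agent.S15487
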