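import Groth.Statements.S15488
import Mathlib.LinearAlgebra.Projection
import Mathlib.LinearAlgebra.Dimension.Constructions
import Mathlib.LinearAlgebra.StdBasis
import Mathlib.LinearAlgebra.FreeModule.StrongRankCondition
import Mathlib.Data.ZMod.QuotientGroup

set_option autoImplicit false
universe u
open IsoNat

namespace Groth.Agent.S15488

/-- Let A be a nontrivial commutative ring, G a finite group, g an element of G of order ν and l an
element of A with l ^ ν = 1. In the free A-module of functions G → A (the regular representation, g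
acting by translation v ↦ v(g·)), the submodule of v with v(g h) = l v(h) for all h is a direct
summand, free of rank |G| / ν (stated as: free, rank · ν = |G|, and a complementary submodule
exists). (The published statement is over an arbitrary ring and also covers Hom(A^N, −) of the
regular representation, which follows; nontriviality of A is needed for the rank to be meaningful.) -/
theorem result
    (A : Type u) [CommRing A] [Nontrivial A] (G : Type u) [Group G] [Finite G]
    (g : G) (l : A) (hl : l ^ orderOf g = 1) :
    Module.Free A (LinearMap.ker (LinearMap.funLeft A A (fun h : G => g * h) - l • LinearMap.id)) ∧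
      Module.finrank A (LinearMap.ker (LinearMap.funLeft A A (fun h : G => g * h) - l • LinearMap.id)) * orderOf g = Nat.card G ∧
      ∃ E' : Submodule A (G → A), IsCompl (LinearMap.ker (LinearMap.funLeft A A (fun h : G => g * h) - l • LinearMap.id)) E' := by
  classical
  -- the submodule as explicit condition
  set E := LinearMap.ker (LinearMap.funLeft A A (fun h : G => g * h) - l • LinearMap.id) with hE
  have memE : ∀ v : G → A, v ∈ E ↔ ∀ h, v (g * h) = l * v h := by
    intro v
    rw [hE, LinearMap.mem_ker]
    constructor
    · intro hv h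
      have := congrFun hv h
      simpa [LinearMap.funLeft_apply, sub_eq_zero] using this
    · intro hv
      funext h
      simp [LinearMap.funLeft_apply, hv h]
  let Z := Subgroup.zpowers g
  let Q := Quotient (QuotientGroup.rightRel Z)
  let σ : G → Q := fun h => Quotient.mk (QuotientGroup.rightRel Z) h
  let out : Q → G := Quotient.out
  have hσout : ∀ q, σ (out q) = q := fun q => Quotient.out_eq q
  have hσ : ∀ a b : G, σ a = σ b ↔ b * a⁻¹ ∈ Z := fun a b =>
    Quotient.eq.trans (QuotientGroup.rightRel_apply)
  have hfin : IsOfFinOrder g := isOfFinOrder_of_finite g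
  have hk : ∀ h : G, ∃ k : ℕ, g ^ k * out (σ h) = h := by
    intro h
    have h1 : h * (out (σ h))⁻¹ ∈ Z := (hσ _ _).1 (hσout (σ h))
    obtain ⟨k, hk⟩ := (hfin.mem_powers_iff_mem_zpowers).2 h1
    refine ⟨k, ?_⟩
    have hk' : g ^ k = h * (out (σ h))⁻¹ := hk
    rw [hk', inv_mul_cancel_right]
  choose k hk using hk
  have hpow : ∀ m n : ℕ, g ^ m = g ^ n → l ^ m = l ^ n := by
    intro m n hmn
    have h1 : m ≡ n [MOD orderOf g] := pow_eq_pow_iff_modEq.1 hmn
    have aux : ∀ m : ℕ, l ^ m = l ^ (m % orderOf g) := by
      intro m
      conv_lhs => rw [← Nat.mod_add_div m (orderOf g), pow_add, pow_mul, hl, one_pow, mul_one]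
    rw [aux m, aux n, h1]
  have hσg : ∀ h, σ (g * h) = σ h := fun h => (hσ _ _).2 (by
    rw [mul_inv_rev, mul_inv_cancel_left]
    exact Z.inv_mem (Subgroup.mem_zpowers g))
  have hσgp : ∀ (n : ℕ) h, σ (g ^ n * h) = σ h := by
    intro n
    induction n with
    | zero => intro h; simp
    | succ n ih => intro h; rw [pow_succ', mul_assoc, hσg, ih]
  have hkg : ∀ h, l ^ k (g * h) = l * l ^ k h := by
    intro h
    rw [← pow_succ']
    apply hpow
    have h1 := hk (g * h)
    have h2 := hk h
    rw [hσg] at h1
    have h3 : g ^ (k h + 1) * out (σ h) = g * h := by rw [pow_succ', mul_assoc, h2]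
    exact mul_right_cancel (h1.trans h3.symm)
  have hkout : ∀ q, l ^ k (out q) = 1 := by
    intro q
    have h1 := hk (out q)
    rw [hσout] at h1
    have h2 : g ^ k (out q) = g ^ 0 := by
      rw [pow_zero]
      exact mul_right_cancel (h1.trans (one_mul _).symm)
    rw [hpow _ _ h2, pow_zero]
  -- v in E is determined by its values on representatives
  have hvpow : ∀ v : G → A, v ∈ E → ∀ (n : ℕ) h, v (g ^ n * h) = l ^ n * v h := by
    intro v hv n
    induction n with
    | zero => intro h; simp
    | succ n ih => intro h; rw [pow_succ', mul_assoc, (memE v).1 hv, ih, pow_succ', mul_assoc]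
  let r : (G → A) →ₗ[A] (Q → A) := LinearMap.funLeft A A out
  let s₀ : (Q → A) →ₗ[A] (G → A) :=
    { toFun := fun w h => l ^ k h * w (σ h)
      map_add' := fun w w' => by funext h; simp [mul_add]
      map_smul' := fun c w => by funext h; simp [mul_left_comm] }
  have hs₀E : ∀ w, s₀ w ∈ E := by
    intro w
    rw [memE]
    intro h
    change l ^ k (g * h) * w (σ (g * h)) = l * (l ^ k h * w (σ h))
    rw [hkg, hσg, mul_assoc]
  let s : (Q → A) →ₗ[A] E := LinearMap.codRestrict E s₀ hs₀E
  have hrs : ∀ w, r (s₀ w) = w := by
    intro w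
    funext q
    change l ^ k (out q) * w (σ (out q)) = w q
    rw [hkout, hσout, one_mul]
  have hsr : ∀ v ∈ E, s₀ (r v) = v := by
    intro v hv
    funext h
    change l ^ k h * v (out (σ h)) = v h
    rw [← hvpow v hv, hk]
  let e : E ≃ₗ[A] (Q → A) := LinearEquiv.ofLinearMap (r ∘ₗ E.subtype) s
    (LinearMap.ext hrs) (by
      ext v : 1
      exact Subtype.ext (hsr v.1 v.2))
  have hQ : Nat.card Q * orderOf g = Nat.card G := by
    have h1 : Nat.card Q = Z.index :=
      Nat.card_congr (QuotientGroup.quotientRightRelEquivQuotientLeftRel Z)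
    rw [h1, ← Nat.card_zpowers]
    exact Z.index_mul_card
  refine ⟨Module.Free.of_equiv e.symm, ?_, ?_⟩
  · let _ : Fintype Q := Fintype.ofFinite Q
    rw [LinearEquiv.finrank_eq e]
    rw [Module.finrank_fintype_fun_eq_card, ← Nat.card_eq_fintype_card, hQ]
  · refine ⟨LinearMap.ker (s ∘ₗ r), ?_⟩
    apply LinearMap.isCompl_of_proj
    intro x
    exact Subtype.ext (hsr x.1 x.2)

end Groth.Agent.S15488
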