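import Groth.Statements.S15489
import Groth.Agent.IsoNat.K864.SepClean
import Groth.Agent.IsoNat.K863.Corr

set_option autoImplicit false
universe u
open CategoryTheory AlgebraicGeometry
open IsoNat

namespace Groth.Agent.S15489

open K863.Arr K863.Glue K863.Pair K864.Disj K864.Prd K864.Cross K864.Twist

/-- Two objects of a stack without automorphisms which become isomorphic on a covering are isomorphic. -/
theorem exists_vert_of_clean {S : Scheme.{u}} {𝒳 : AlgSt.Cat S} (hst : Stk.IsStack (AlgSp.J S) 𝒳)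
    (hc : ∀ η : 𝒳.obj, IsoNat.IsClean η) {T T' : Over S} (π : T' ⟶ T) [Flat π.left] [Surjective π.left]
    [LocallyOfFinitePresentation π.left] {x₁ x₂ x₁' x₂' : 𝒳.obj} {a₁ : x₁' ⟶ x₁} {a₂ : x₂' ⟶ x₂}
    (h₁ : 𝒳.p.IsHomLift π a₁) (h₂ : 𝒳.p.IsHomLift π a₂) {e : x₁' ⟶ x₂'}
    (he : 𝒳.p.IsHomLift (𝟙 T') e) : ∃ γ : x₁ ⟶ x₂, 𝒳.p.IsHomLift (𝟙 T) γ := by
  have hp := hst.1
  obtain ⟨γ, hγ, -⟩ := exists_hom_fam (I := Unit) (V := fun _ => T') hp (fun _ => π)
    (prestackFor hst _ (ofArrows_mem (fun _ => π) (fun _ => ⟨inferInstance, inferInstance⟩)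
      (fun x => ⟨(), π.left.surjective x⟩))) (cod h₁) (cod h₂) (𝟙 T) (fun _ => x₁') (fun _ => a₁)
    (fun _ => h₁) (fun _ => e ≫ a₂) (fun _ => by
      rw [Category.comp_id]; exact lift_id_comp he h₂)
    (by
      intro _ _ R a b t α β hα hβ h
      have h5 : a ≫ π = b ≫ π := base_unique (lift_comp hα h₁) (by erw [h]; exact lift_comp hβ h₁)
      have l1 : 𝒳.p.IsHomLift (a ≫ π) (α ≫ e ≫ a₂) := lift_comp hα (lift_id_comp he h₂)
      have l2 : 𝒳.p.IsHomLift (a ≫ π) (β ≫ e ≫ a₂) := h5 ▸ lift_comp hβ (lift_id_comp he h₂)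
      obtain ⟨χ, hχ, hχ'⟩ := exists_vert hp l1 l2
      have h6 : χ = 𝟙 t := by
        obtain rfl : 𝒳.p.obj t = R := dom hα
        refine hc t t (𝟙 t) χ ?_
        exact (base_unique hχ (IsHomLift.map 𝒳.p χ)).symm
      rw [h6, Category.id_comp] at hχ'
      exact hχ')
  exact ⟨γ, hγ⟩


/-- The presheaf of isomorphism classes of an algebraic stack 𝒳 over a quasi-separated scheme S is a
sheaf exactly when 𝒳 has no non-trivial automorphisms. Stated as: every object of 𝒳 is clean (every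
object mapping to it has only the identity endomorphism over the identity of its base) if and only
if the presheaf of isomorphism classes is separated for fppf coverings — whenever T' → T is flat,
surjective and locally of finite presentation and two objects over T receive morphisms over it from
isomorphic objects over T', the two objects are isomorphic over T. (The gluing half of the sheaf
property also follows from the triviality of automorphism sheaves; only separation is needed for the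
converse, and only it is stated.) Here an algebraic stack over a quasi-separated scheme S means a
stack in groupoids for the fppf topology with a smooth surjective atlas from a scheme, whose
diagonal is representable by separated quasi-compact morphisms of algebraic spaces and whose inertia
is locally of finite presentation over it. -/
theorem result
    (S : Scheme.{u}) [QuasiSeparatedSpace S]
    (𝒳 : AlgSt.Cat S)
    (h𝒳 : AlgSt.IsAlgStack Scheme.fppfPrecoverage 𝒳)
    (h𝒳d : AlgSt.RepByAlgSpWith (AlgSp.IsSeparatedMor ⊓ AlgSp.IsQuasiCompactMor)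
      (FibCat.diag (FibCat.toSelf 𝒳)))
    (h𝒳i : AlgSt.RepByAlgSpWith (AlgSp.LocP @LocallyOfFinitePresentation)
      (FibCat.inertiaToBase (FibCat.toSelf 𝒳))) :
    (∀ η : 𝒳.obj, IsoNat.IsClean η) ↔
      ∀ (T T' : Over S) (π : T' ⟶ T) [Flat π.left] [Surjective π.left] [LocallyOfFinitePresentation π.left]
        (x₁ x₂ : 𝒳.p.Fiber T) (x₁' x₂' : 𝒳.p.Fiber T') (a₁ : x₁'.1 ⟶ x₁.1) (a₂ : x₂'.1 ⟶ x₂.1),
        𝒳.p.IsHomLift π a₁ → 𝒳.p.IsHomLift π a₂ → Nonempty (x₁' ≅ x₂') → Nonempty (x₁ ≅ x₂) := by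
  have hst : Stk.IsStack (AlgSp.J S) 𝒳 := h𝒳.isStack
  have hp := hst.1
  constructor
  · intro hc T T' π _ _ _ x₁ x₂ x₁' x₂' a₁ a₂ h₁ h₂ ⟨e⟩
    obtain ⟨γ, hγ⟩ := exists_vert_of_clean hst hc π h₁ h₂ (e := e.hom.1) e.hom.2
    exact Quotient.exact ((K863.Corr.cls_eq_iff hp x₁ x₂).2 ⟨γ, hγ⟩)
  · intro hsep η x _ s hs
    have hs' : 𝒳.p.IsHomLift (𝟙 (𝒳.p.obj x)) s := hs ▸ IsHomLift.map 𝒳.p s
    obtain ⟨D⟩ := exists_data hst rfl hs'
    obtain ⟨xD, aD, haD⟩ := exists_lift hp rfl (p₁ (𝒳.p.obj x) D2.{u})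
    obtain ⟨z', x', bz, bx, γ, hbz, hbx, hγ⟩ := K864.SepClean.exists_cover_iso hst D haD
    let fz : 𝒳.p.Fiber (two (prd (𝒳.p.obj x) Cr.{u})) := ⟨z', dom hbz⟩
    let fx : 𝒳.p.Fiber (two (prd (𝒳.p.obj x) Cr.{u})) := ⟨x', dom hbx⟩
    have e' : Nonempty (fz ≅ fx) :=
      Quotient.exact ((K863.Corr.cls_eq_iff hp _ _).2 ⟨γ, hγ⟩)
    obtain ⟨e⟩ := hsep _ _ (K864.SepClean.πD (𝒳.p.obj x)) ⟨D.z, cod hbz⟩ ⟨xD, cod hbx⟩
      fz fx bz bx hbz hbx e'
    exact K864.SepClean.eq_id_of_data (fun _ _ _ h => h.1) h𝒳d hp hs' D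
      (γ := e.hom.1 ≫ aD) (lift_id_comp e.hom.2 haD)

end Groth.Agent.S15489
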