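import Groth.Statements.S15491

set_option autoImplicit false
universe v u
open CategoryTheory CategoryTheory.Functor
open IsoNat

namespace Groth.Agent.S15491

open CategoryTheory.Limits in
theorem isTwoCart_iff_aux {A B D X : Type u} [Category.{v} A] [Category.{v} B] [Category.{v} D]
    [Category.{v} X] (T : X ⥤ A) (L : X ⥤ D) (F : A ⥤ B) (G : D ⥤ B) (e : T ⋙ F ≅ L ⋙ G) :
    FibCat.IsTwoCart T L F G e ↔
      (∀ (x y : X) (f g : x ⟶ y), T.map f = T.map g → L.map f = L.map g → f = g) ∧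
      (∀ (x y : X) (a : T.obj x ⟶ T.obj y) (b : L.obj x ⟶ L.obj y),
        F.map a ≫ e.hom.app y = e.hom.app x ≫ G.map b → ∃ f : x ⟶ y, T.map f = a ∧ L.map f = b) ∧
      (∀ (a : A) (d : D) (φ : F.obj a ≅ G.obj d), ∃ (x : X) (α : T.obj x ≅ a) (β : L.obj x ≅ d),
        F.map α.hom ≫ φ.hom = e.hom.app x ≫ G.map β.hom) := by
  constructor
  · intro h
    have hF : ((CategoricalPullback.CatCommSqOver.toFunctorToCategoricalPullback F G X).obj
      ⟨T, L, e⟩).IsEquivalence := h
    refine ⟨?_, ?_, ?_⟩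
    · intro x y f g h1 h2
      apply ((CategoricalPullback.CatCommSqOver.toFunctorToCategoricalPullback F G X).obj
        ⟨T, L, e⟩).map_injective
      exact CategoricalPullback.hom_ext h1 h2
    · intro x y a b hab
      obtain ⟨f, hf⟩ := ((CategoricalPullback.CatCommSqOver.toFunctorToCategoricalPullback F G X).obj
        ⟨T, L, e⟩).map_surjective (X := x) (Y := y) ⟨a, b, hab⟩
      exact ⟨f, congrArg CategoricalPullback.Hom.fst hf, congrArg CategoricalPullback.Hom.snd hf⟩
    · intro a d φ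
      obtain ⟨x, ⟨i⟩⟩ := hF.essSurj.mem_essImage (⟨a, d, φ⟩ : CategoricalPullback F G)
      exact ⟨x, (CategoricalPullback.π₁ F G).mapIso i, (CategoricalPullback.π₂ F G).mapIso i, i.hom.w⟩
  · rintro ⟨h1, h2, h3⟩
    change ((CategoricalPullback.CatCommSqOver.toFunctorToCategoricalPullback F G X).obj
      ⟨T, L, e⟩).IsEquivalence
    exact
      { faithful := ⟨fun {x y f g} hfg => h1 x y f g (congrArg CategoricalPullback.Hom.fst hfg)
          (congrArg CategoricalPullback.Hom.snd hfg)⟩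
        full := ⟨fun {x y} f => by
          obtain ⟨g, hg1, hg2⟩ := h2 x y f.fst f.snd f.w
          exact ⟨g, CategoricalPullback.hom_ext hg1 hg2⟩⟩
        essSurj := ⟨fun z => by
          obtain ⟨x, α, β, hc⟩ := h3 z.fst z.snd z.iso
          exact ⟨x, ⟨CategoricalPullback.mkIso α β hc⟩⟩⟩ }


/-- Pasting of 2-cartesian squares, stated in the 2-category of categories. Consider functors t : A → B,
t' : A' → B', t'' : A'' → B'' and l : A → A', r : B → B', l' : A' → A'', r' : B' → B'' with natural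
isomorphisms e₁ : t ⋙ r ≅ l ⋙ t' and e₂ : t' ⋙ r' ≅ l' ⋙ t''. If the lower square (t', l', r', t'',
e₂) is 2-cartesian (its comparison functor to the 2-fibre product is an equivalence), then the upper
square (t, l, r, t', e₁) is 2-cartesian if and only if the outer rectangle (t, l ⋙ l', r ⋙ r', t'')
with the pasted isomorphism is. (The published statement is for an arbitrary 2-category whose
2-morphisms are invertible; this row is the case of categories, functors and natural isomorphisms.) -/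
theorem result
    {A B A' B' A'' B'' : Type u} [Category.{v} A] [Category.{v} B] [Category.{v} A'] [Category.{v} B']
    [Category.{v} A''] [Category.{v} B'']
    (t : A ⥤ B) (l : A ⥤ A') (r : B ⥤ B') (t' : A' ⥤ B') (l' : A' ⥤ A'') (r' : B' ⥤ B'') (t'' : A'' ⥤ B'')
    (e₁ : t ⋙ r ≅ l ⋙ t') (e₂ : t' ⋙ r' ≅ l' ⋙ t'')
    (h₂ : FibCat.IsTwoCart t' l' r' t'' e₂) :
    FibCat.IsTwoCart t l r t' e₁ ↔
      FibCat.IsTwoCart t (l ⋙ l') (r ⋙ r') t''
        ((Functor.associator t r r').symm ≪≫ isoWhiskerRight e₁ r' ≪≫ Functor.associator l t' r' ≪≫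
          isoWhiskerLeft l e₂ ≪≫ (Functor.associator l l' t'').symm) := by
  rw [isTwoCart_iff_aux] at h₂
  rw [isTwoCart_iff_aux, isTwoCart_iff_aux]
  obtain ⟨lf, lF, lE⟩ := h₂
  have nat₁ : ∀ {x y : A} (f : x ⟶ y), r.map (t.map f) ≫ e₁.hom.app y = e₁.hom.app x ≫ t'.map (l.map f) :=
    fun f => e₁.hom.naturality f
  have nat₂ : ∀ {x y : A'} (f : x ⟶ y), r'.map (t'.map f) ≫ e₂.hom.app y = e₂.hom.app x ≫ t''.map (l'.map f) :=
    fun f => e₂.hom.naturality f
  have he : ∀ x : A, ((Functor.associator t r r').symm ≪≫ isoWhiskerRight e₁ r' ≪≫ Functor.associator l t' r' ≪≫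
          isoWhiskerLeft l e₂ ≪≫ (Functor.associator l l' t'').symm).hom.app x =
      r'.map (e₁.hom.app x) ≫ e₂.hom.app (l.obj x) := by
    intro x
    simp
  constructor
  · rintro ⟨uf, uF, uE⟩
    refine ⟨?_, ?_, ?_⟩
    · intro x y f g h1 h2
      refine uf x y f g h1 (lf _ _ _ _ ?_ h2)
      have n1 := nat₁ f
      have n2 := nat₁ g
      rw [h1, n2] at n1
      exact ((cancel_epi _).1 n1).symm
    · intro x y a b hab
      rw [he, he] at hab
      obtain ⟨c, hc1, hc2⟩ := lF (l.obj x) (l.obj y) (e₁.inv.app x ≫ r.map a ≫ e₁.hom.app y) b (by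
        have hab' : r'.map (r.map a) ≫ r'.map (e₁.hom.app y) ≫ e₂.hom.app (l.obj y) =
          (r'.map (e₁.hom.app x) ≫ e₂.hom.app (l.obj x)) ≫ t''.map b := hab
        rw [Functor.map_comp, Functor.map_comp, Category.assoc, Category.assoc, hab', Category.assoc,
          ← Functor.map_comp_assoc]
        simp)
      obtain ⟨f, hf1, hf2⟩ := uF x y a c (by rw [hc1]; simp)
      exact ⟨f, hf1, by rw [← hc2, ← hf2]; rfl⟩
    · intro b a'' φ
      obtain ⟨a', β', γ, hγ⟩ := lE (r.obj b) a'' φ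
      obtain ⟨x, α, δ, hδ⟩ := uE b a' β'.symm
      refine ⟨x, α, l'.mapIso δ ≪≫ γ, ?_⟩
      rw [he]
      change r'.map (r.map α.hom) ≫ φ.hom = (r'.map (e₁.hom.app x) ≫ e₂.hom.app (l.obj x)) ≫
        t''.map (l'.map δ.hom ≫ γ.hom)
      have hδ' : r.map α.hom = e₁.hom.app x ≫ t'.map δ.hom ≫ β'.hom := by
        rw [← Category.assoc, ← Iso.comp_inv_eq]
        exact hδ
      rw [hδ', Functor.map_comp, Functor.map_comp, Category.assoc, Category.assoc, hγ, Category.assoc,
        Functor.map_comp]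
      rw [reassoc_of% (nat₂ δ.hom)]
  · rintro ⟨of, oF, oE⟩
    refine ⟨?_, ?_, ?_⟩
    · intro x y f g h1 h2
      exact of x y f g h1 (congrArg l'.map h2)
    · intro x y a c hac
      obtain ⟨f, hf1, hf2⟩ := oF x y a (l'.map c) (by
        rw [he, he]
        change r'.map (r.map a) ≫ r'.map (e₁.hom.app y) ≫ e₂.hom.app (l.obj y) =
          (r'.map (e₁.hom.app x) ≫ e₂.hom.app (l.obj x)) ≫ t''.map (l'.map c)
        rw [← Functor.map_comp_assoc, hac, Functor.map_comp, Category.assoc, Category.assoc, nat₂ c])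
      refine ⟨f, hf1, lf _ _ _ _ ?_ hf2⟩
      have n1 := nat₁ f
      rw [hf1, hac] at n1
      exact ((cancel_epi _).1 n1).symm
    · intro b a' φ
      obtain ⟨x, α, β, hβ⟩ := oE b (l'.obj a') (r'.mapIso φ ≪≫ e₂.app a')
      rw [he] at hβ
      have hβ' : r'.map (r.map α.hom) ≫ r'.map φ.hom ≫ e₂.hom.app a' =
        (r'.map (e₁.hom.app x) ≫ e₂.hom.app (l.obj x)) ≫ t''.map β.hom := hβ
      let ψ : t'.obj (l.obj x) ≅ t'.obj a' := (e₁.app x).symm ≪≫ r.mapIso α ≪≫ φ
      have hψ : ψ.hom = e₁.inv.app x ≫ r.map α.hom ≫ φ.hom := rfl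
      have hc : r'.map ψ.hom ≫ e₂.hom.app a' = e₂.hom.app (l.obj x) ≫ t''.map β.hom := by
        rw [hψ, Functor.map_comp, Functor.map_comp, Category.assoc, Category.assoc, hβ', Category.assoc,
          ← Functor.map_comp_assoc]
        simp
      have hc' : r'.map ψ.inv ≫ e₂.hom.app (l.obj x) = e₂.hom.app a' ≫ t''.map β.inv := by
        have h1 : r'.map ψ.hom ≫ r'.map ψ.inv = 𝟙 _ := by rw [← Functor.map_comp]; simp
        have h2 : t''.map β.hom ≫ t''.map β.inv = 𝟙 _ := by rw [← Functor.map_comp]; simp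
        have h3 : IsIso (r'.map ψ.hom) := inferInstance
        rw [← cancel_epi (r'.map ψ.hom), reassoc_of% h1, reassoc_of% hc, h2]
        exact (Category.comp_id _).symm
      obtain ⟨c, hc1, hc2⟩ := lF (l.obj x) a' ψ.hom β.hom hc
      obtain ⟨d, hd1, hd2⟩ := lF a' (l.obj x) ψ.inv β.inv hc'
      refine ⟨x, α, ⟨c, d, ?_, ?_⟩, ?_⟩
      · apply lf
        · rw [Functor.map_comp, hc1, hd1, Functor.map_id]; simp
        · rw [Functor.map_comp, hc2, hd2, Functor.map_id]; simp
      · apply lf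
        · rw [Functor.map_comp, hc1, hd1, Functor.map_id]; simp
        · rw [Functor.map_comp, hc2, hd2, Functor.map_id]; simp
      · change r.map α.hom ≫ φ.hom = e₁.hom.app x ≫ t'.map c
        rw [hc1, hψ]
        simp

end Groth.Agent.S15491
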