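import Groth.Statements.S15493
import Groth.Agent.IsoNat.K864.MonoFF

set_option autoImplicit false
universe u
open CategoryTheory AlgebraicGeometry
open IsoNat

namespace Groth.Agent.S15493

set_option backward.isDefEq.respectTransparency false in
set_option backward.isDefEq.respectTransparency.types false in
/-- Two objects of the 2-fibre product along an open immersion are isomorphic when their components are. -/
theorem exists_hom {S : Scheme.{u}} {𝒳 𝒴 𝒴' : AlgSt.Cat S} [FibCat.IsFibGrpd 𝒳.p]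
    [FibCat.IsFibGrpd 𝒴.p] [FibCat.IsFibGrpd 𝒴'.p] (f : 𝒳 ⥤ᵇ 𝒴) (i : 𝒴' ⥤ᵇ 𝒴)
    (hi : AlgSt.IsOpenImm i) {T : Over S} (z₁ z₂ : (FibCat.fp f i).p.Fiber T)
    (e₁ : (IsoNat.fibFun (FibCat.fpFst f i) T).obj z₁ ⟶ (IsoNat.fibFun (FibCat.fpFst f i) T).obj z₂)
    (e₂ : (IsoNat.fibFun (FibCat.fpSnd f i) T).obj z₁ ⟶ (IsoNat.fibFun (FibCat.fpSnd f i) T).obj z₂) :
    Nonempty (z₁ ⟶ z₂) := by
  obtain ⟨z₁, rfl⟩ := z₁
  obtain ⟨z₂, h2⟩ := z₂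
  obtain ⟨a, ha⟩ := e₁
  obtain ⟨b, hb⟩ := e₂
  change z₁.obj.fst ⟶ z₂.obj.fst at a
  change z₁.obj.snd ⟶ z₂.obj.snd at b
  have p1 : 𝒴.p.IsHomLift (𝟙 ((FibCat.fp f i).p.obj z₁)) z₁.obj.iso.hom := z₁.property
  have p2 : 𝒴.p.IsHomLift (𝟙 ((FibCat.fp f i).p.obj z₁)) z₂.obj.iso.hom := h2 ▸ z₂.property
  have p1' : 𝒴.p.IsHomLift (𝟙 ((FibCat.fp f i).p.obj z₁)) z₁.obj.iso.inv :=
    IsHomLift.lift_id_inv 𝒴.p _ z₁.obj.iso
  have qa : 𝒴.p.IsHomLift (𝟙 ((FibCat.fp f i).p.obj z₁)) (f.map a) :=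
    BasedFunctor.preserves_isHomLift f _ a
  have qb := IsHomLift.codomain_eq 𝒴'.p (𝟙 ((FibCat.fp f i).p.obj z₁)) b
  have qb' := IsHomLift.domain_eq 𝒴'.p (𝟙 ((FibCat.fp f i).p.obj z₁)) b
  have hc : 𝒴.p.IsHomLift (𝟙 ((FibCat.fp f i).p.obj z₁)) (z₁.obj.iso.inv ≫ f.map a ≫ z₂.obj.iso.hom) := by
    have : 𝒴.p.IsHomLift (𝟙 ((FibCat.fp f i).p.obj z₁)) (f.map a ≫ z₂.obj.iso.hom) :=
      IsHomLift.comp_of_lift_id 𝒴.p _ _ _
    exact IsHomLift.comp_of_lift_id 𝒴.p _ _ _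
  obtain ⟨⟨d, hd⟩, hd', -⟩ := K864.MonoFF.existsUnique_lift_of_isOpenImm hi
    (T := (FibCat.fp f i).p.obj z₁) ⟨z₁.obj.snd, qb'⟩ ⟨z₂.obj.snd, qb⟩ ⟨_, hc⟩
  change i.map d = z₁.obj.iso.inv ≫ f.map a ≫ z₂.obj.iso.hom at hd'
  refine ⟨⟨K862.Fp.mkHom (z := z₁) (z' := z₂) a d ?_, ?_⟩⟩
  · rw [hd', Iso.hom_inv_id_assoc]
  · have h4 : (FibCat.fp f i).p.IsHomLift ((FibCat.fp f i).p.map
      (K862.Fp.mkHom (z := z₁) (z' := z₂) a d (by rw [hd', Iso.hom_inv_id_assoc])))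
      (K862.Fp.mkHom (z := z₁) (z' := z₂) a d (by rw [hd', Iso.hom_inv_id_assoc])) :=
      IsHomLift.map _ _
    refine IsHomLift.of_fac (FibCat.fp f i).p _ _ rfl h2 ?_
    have h5 := IsHomLift.fac' 𝒳.p (𝟙 ((FibCat.fp f i).p.obj z₁)) a
    change 𝒳.p.map a = _ at h5
    change 𝟙 _ = eqToHom _ ≫ 𝒳.p.map a ≫ eqToHom _
    rw [h5]
    simp


/-- The presheaf of isomorphism classes commutes with fibre products along an open immersion. Let f : 𝒳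
→ 𝒴 be a morphism of algebraic stacks over a quasi-separated scheme S and i : 𝒴' → 𝒴 an open
immersion of algebraic stacks (representable by open immersions of algebraic spaces). If two objects
of the 2-fibre product 𝒳 ×_𝒴 𝒴' over a scheme T have isomorphic images in 𝒳 over T and isomorphic
images in 𝒴' over T, then they are isomorphic over T. (Together with the evident surjectivity this
says that the natural map from the presheaf of isomorphism classes of 𝒳 ×_𝒴 𝒴' to the fibre product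
of the presheaves of 𝒳 and 𝒴' over that of 𝒴 is an isomorphism; the published statement is for
arbitrary stacks, this row takes them algebraic.) -/
theorem result
    (S : Scheme.{u}) [QuasiSeparatedSpace S]
    (𝒳 𝒴 𝒴' : AlgSt.Cat S)
    (h𝒳 : AlgSt.IsAlgStack Scheme.fppfPrecoverage 𝒳) (h𝒴 : AlgSt.IsAlgStack Scheme.fppfPrecoverage 𝒴)
    (h𝒴' : AlgSt.IsAlgStack Scheme.fppfPrecoverage 𝒴')
    (f : 𝒳 ⥤ᵇ 𝒴) (i : 𝒴' ⥤ᵇ 𝒴) (hi : AlgSt.IsOpenImm i)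
    (T : Over S) (z₁ z₂ : (FibCat.fp f i).p.Fiber T)
    (h₁ : IsoNat.mapCls (FibCat.fpFst f i) T (IsoNat.cls z₁) = IsoNat.mapCls (FibCat.fpFst f i) T (IsoNat.cls z₂))
    (h₂ : IsoNat.mapCls (FibCat.fpSnd f i) T (IsoNat.cls z₁) = IsoNat.mapCls (FibCat.fpSnd f i) T (IsoNat.cls z₂)) :
    IsoNat.cls z₁ = IsoNat.cls z₂ := by
  have := h𝒳.isStack.1
  have := h𝒴.isStack.1
  have := h𝒴'.isStack.1
  obtain ⟨e₁⟩ := (K862.Cls.cls_eq_iff _ _).1 h₁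
  obtain ⟨e₂⟩ := (K862.Cls.cls_eq_iff _ _).1 h₂
  rw [K862.Cls.cls_eq_iff_hom]
  exact exists_hom f i hi z₁ z₂ e₁.hom e₂.hom

end Groth.Agent.S15493
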