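import Groth.Statements.S15494
import Mathlib.Tactic
import Mathlib.Algebra.BigOperators.Intervals
import Mathlib.Algebra.BigOperators.GroupWithZero.Action

set_option autoImplicit false
universe u v
open Dieud

namespace Groth.Agent.S15494

/-- Let W be a commutative ring with a ring endomorphism σ, p a natural number, M a W-module and F an
additive self-map of M with F (w • m) = σ w • F m. Let d ≥ 1, c ≥ 1, h = d + c, and let e_1, …, e_h,
… be vectors of M on which F acts through a display matrix in normal form: F e_i = e_{i+1} for 1 ≤ i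
< d; F e_d = Σ_{i=1}^{d} a_{i,d} e_i + e_{d+1}; F e_j = Σ_{i=1}^{d} p a_{i,j} e_i + p e_{j+1} for d
< j < h; F e_h = Σ_{i=1}^{d} p a_{i,h} e_i. Then F^h e_1 = Σ_{i=1}^{d} Σ_{j=d}^{h} p^{j-d}
σ^{h-j}(a_{i,j}) F^{h+i-j-1} e_1. (The published statement is for the Dieudonné module of a
p-divisible group of dimension d and height h over the Witt ring of a field of characteristic p,
with σ the Frobenius and e_1, …, e_h a basis; this row keeps only the relations which the printed
computation uses, so W, σ, p and the vectors are arbitrary.) -/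
theorem result
    (W : Type u) [CommRing W] (σ : W →+* W) (p : ℕ)
    (M : Type v) [AddCommGroup M] [Module W M]
    (F : M →+ M) (hF : ∀ (w : W) (m : M), F (w • m) = σ w • F m)
    (d c : ℕ) (hd : 0 < d) (hc : 0 < c)
    (a : ℕ → ℕ → W) (e : ℕ → M)
    (h1 : ∀ i : ℕ, 1 ≤ i → i < d → F (e i) = e (i + 1))
    (h2 : F (e d) = (∑ i ∈ Finset.Icc 1 d, a i d • e i) + e (d + 1))
    (h3 : ∀ j : ℕ, d < j → j < d + c →
      F (e j) = (∑ i ∈ Finset.Icc 1 d, ((p : W) * a i j) • e i) + (p : W) • e (j + 1))
    (h4 : F (e (d + c)) = ∑ i ∈ Finset.Icc 1 d, ((p : W) * a i (d + c)) • e i) :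
    (⇑F)^[d + c] (e 1) = ∑ i ∈ Finset.Icc 1 d, ∑ j ∈ Finset.Icc d (d + c),
      ((p : W) ^ (j - d) * (⇑σ)^[d + c - j] (a i j)) • (⇑F)^[d + c + i - j - 1] (e 1) := by
  have hE : ∀ i : ℕ, i < d → (⇑F)^[i] (e 1) = e (i + 1) := by
    intro i
    induction i with
    | zero => intro _; rfl
    | succ i ih =>
      intro hi
      rw [Function.iterate_succ_apply', ih (by omega), h1 (i + 1) (by omega) hi]
  have key : ∀ k : ℕ, k ≤ c → (⇑F)^[d + k] (e 1) =
      (∑ i ∈ Finset.Icc 1 d, ∑ j ∈ Finset.Icc d (d + k),
        ((p : W) ^ (j - d) * (⇑σ)^[d + k - j] (a i j)) • (⇑F)^[d + k + i - j - 1] (e 1))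
      + (if k < c then (p : W) ^ k • e (d + k + 1) else 0) := by
    intro k
    induction k with
    | zero =>
      intro _
      obtain ⟨d', rfl⟩ : ∃ d', d = d' + 1 := ⟨d - 1, by omega⟩
      rw [add_zero, Function.iterate_succ_apply', hE d' (by omega), h2, if_pos hc]
      simp only [Finset.Icc_self, Finset.sum_singleton, pow_zero, one_smul, Nat.sub_self, one_mul,
        Function.iterate_zero, id]
      congr 1
      refine Finset.sum_congr rfl fun i hi => ?_
      rw [Finset.mem_Icc] at hi
      have : d' + 1 + i - (d' + 1) - 1 = i - 1 := by omega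
      rw [this, hE (i - 1) (by omega)]
      congr 2
      omega
    | succ k ih =>
      intro hk
      have hk' : k < c := hk
      rw [← add_assoc, Function.iterate_succ_apply', ih hk'.le, if_pos hk', map_add, map_sum]
      have hterm : F ((p : W) ^ k • e (d + k + 1)) =
          (∑ i ∈ Finset.Icc 1 d, ((p : W) ^ (k + 1) * a i (d + k + 1)) • e i) +
          (if k + 1 < c then (p : W) ^ (k + 1) • e (d + k + 1 + 1) else 0) := by
        rw [hF, map_pow, map_natCast]
        split_ifs with h
        · rw [h3 (d + k + 1) (by omega) (by omega), smul_add, Finset.smul_sum]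
          congr 1
          · refine Finset.sum_congr rfl fun i _ => ?_
            rw [smul_smul]
            congr 1
            ring
          · rw [smul_smul, pow_succ]
        · have hkc : d + k + 1 = d + c := by omega
          rw [hkc, h4, Finset.smul_sum, add_zero]
          refine Finset.sum_congr rfl fun i _ => ?_
          rw [smul_smul]
          congr 1
          ring
      rw [hterm, ← add_assoc]
      congr 1
      rw [← Finset.sum_add_distrib]
      refine Finset.sum_congr rfl fun i hi => ?_
      rw [Finset.mem_Icc] at hi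
      rw [map_sum, Finset.sum_Icc_succ_top (by omega)]
      congr 1
      · refine Finset.sum_congr rfl fun j hj => ?_
        rw [Finset.mem_Icc] at hj
        have e1 : d + k + 1 - j = (d + k - j) + 1 := by omega
        have e2 : d + k + 1 + i - j - 1 = (d + k + i - j - 1) + 1 := by omega
        rw [hF, map_mul, map_pow, map_natCast, e1, e2, Function.iterate_succ_apply',
          Function.iterate_succ_apply']
      · have e1 : d + k + 1 - d = k + 1 := by omega
        have e2 : d + k + 1 - (d + k + 1) = 0 := by omega
        have e3 : d + k + 1 + i - (d + k + 1) - 1 = i - 1 := by omega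
        rw [e1, e2, e3, hE (i - 1) (by omega)]
        simp only [Function.iterate_zero, id]
        congr 2
        omega
  have := key c le_rfl
  rw [if_neg (lt_irrefl c), add_zero] at this
  exact this

end Groth.Agent.S15494
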