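import Groth.Statements.S15495
import Mathlib.Algebra.CharP.Lemmas
import Mathlib.RingTheory.Artinian.Module

set_option autoImplicit false
universe u
open CAlg

namespace Groth.Agent.S15495

/-- In an Artinian local ring R whose maximal ideal m contains the prime number p, the multiplicative
group 1 + m is annihilated under some power of p: there is n with (1 + x)^(p^n) = 1 for every x in
m. (The published text makes this assertion inside a proof, for Artinian local algebras over the
Witt ring of a perfect field of characteristic p; only p ∈ m and the nilpotence of m are used.) -/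
theorem result
    (R : Type u) [CommRing R] [IsLocalRing R] [IsArtinianRing R]
    (p : ℕ) (hp : p.Prime) (hpm : (p : R) ∈ IsLocalRing.maximalIdeal R) :
    ∃ n : ℕ, ∀ x ∈ IsLocalRing.maximalIdeal R, (1 + x) ^ (p ^ n) = 1 := by
  obtain ⟨N, hN⟩ := (IsArtinianRing.isNilpotent_jacobson_bot (R := R))
  rw [IsLocalRing.jacobson_eq_maximalIdeal ⊥ bot_ne_top] at hN
  refine ⟨N, fun x hx => ?_⟩
  have key : ∀ n : ℕ, ∃ y ∈ (IsLocalRing.maximalIdeal R) ^ (n + 1), (1 + x) ^ (p ^ n) = 1 + y := by
    intro n
    induction n with
    | zero => exact ⟨x, by simpa using hx, by simp⟩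
    | succ n ih =>
      obtain ⟨y, hy, hxy⟩ := ih
      obtain ⟨r, hr⟩ := exists_add_pow_prime_eq hp 1 y
      refine ⟨y ^ p + p * y * r, ?_, ?_⟩
      · refine Ideal.add_mem _ ?_ ?_
        · have h1 : y ^ p ∈ (IsLocalRing.maximalIdeal R) ^ ((n + 1) * p) := by
            rw [pow_mul]; exact Ideal.pow_mem_pow hy p
          refine Ideal.pow_le_pow_right ?_ h1
          nlinarith [hp.two_le]
        · rw [pow_succ' _ (n + 1)]
          exact Ideal.mul_mem_right _ _ (Ideal.mul_mem_mul hpm hy)
      · rw [pow_succ, pow_mul, hxy, hr]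
        ring
  obtain ⟨y, hy, hxy⟩ := key N
  have : y ∈ (IsLocalRing.maximalIdeal R) ^ N := Ideal.pow_le_pow_right (Nat.le_succ N) hy
  rw [hN] at this
  rw [hxy, show y = 0 by simpa using this, add_zero]

end Groth.Agent.S15495
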