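import Groth.Statements.S15498
import Mathlib.Tactic.Ring
import Mathlib.Tactic.Linarith
import Mathlib.Order.Interval.Finset.Nat
import Mathlib.Data.Finset.Union
import Mathlib.Algebra.Order.Interval.Finset.Basic

set_option autoImplicit false
open NewtonPoly

namespace Groth.Agent.S15498

private lemma half (m n : ℕ) (hmn : Nat.Coprime m n) :
    2 * ((Finset.Ico 1 m ×ˢ Finset.Ico 1 n).filter
      (fun jt : ℕ × ℕ => jt.1 * n < jt.2 * m)).card = (m - 1) * (n - 1) := by
  classical
  set U := Finset.Ico 1 m ×ˢ Finset.Ico 1 n with hU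
  have hcard : (U.filter (fun jt : ℕ × ℕ => jt.1 * n < jt.2 * m)).card =
      (U.filter (fun jt : ℕ × ℕ => ¬ (jt.1 * n < jt.2 * m))).card := by
    refine Finset.card_bij' (fun jt _ => (m - jt.1, n - jt.2)) (fun jt _ => (m - jt.1, n - jt.2))
      ?_ ?_ ?_ ?_
    · rintro ⟨j, t⟩ h
      simp only [hU, Finset.mem_filter, Finset.mem_product, Finset.mem_Ico] at h ⊢
      obtain ⟨⟨⟨h1, h2⟩, h3, h4⟩, h5⟩ := h
      refine ⟨⟨⟨by omega, by omega⟩, by omega, by omega⟩, ?_⟩
      obtain ⟨a, rfl⟩ : ∃ a, m = j + a := ⟨m - j, by omega⟩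
      obtain ⟨b, rfl⟩ : ∃ b, n = t + b := ⟨n - t, by omega⟩
      simp only [Nat.add_sub_cancel_left]
      nlinarith
    · rintro ⟨j, t⟩ h
      simp only [hU, Finset.mem_filter, Finset.mem_product, Finset.mem_Ico] at h ⊢
      obtain ⟨⟨⟨h1, h2⟩, h3, h4⟩, h5⟩ := h
      refine ⟨⟨⟨by omega, by omega⟩, by omega, by omega⟩, ?_⟩
      have hne : j * n ≠ t * m := by
        intro he
        have hd : n ∣ t * m := he ▸ Dvd.intro_left j rfl
        have hd2 : n ∣ t := (Nat.Coprime.dvd_mul_right hmn.symm).1 hd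
        exact absurd (Nat.le_of_dvd (by omega) hd2) (by omega)
      have h6 : t * m < j * n := by omega
      obtain ⟨a, rfl⟩ : ∃ a, m = j + a := ⟨m - j, by omega⟩
      obtain ⟨b, rfl⟩ : ∃ b, n = t + b := ⟨n - t, by omega⟩
      simp only [Nat.add_sub_cancel_left]
      nlinarith
    · rintro ⟨j, t⟩ h
      simp only [hU, Finset.mem_filter, Finset.mem_product, Finset.mem_Ico] at h ⊢
      ext <;> simp <;> omega
    · rintro ⟨j, t⟩ h
      simp only [hU, Finset.mem_filter, Finset.mem_product, Finset.mem_Ico] at h ⊢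
      ext <;> simp <;> omega
  have htot := Finset.card_filter_add_card_filter_not (s := U) (fun jt : ℕ × ℕ => jt.1 * n < jt.2 * m)
  have hUc : U.card = (m - 1) * (n - 1) := by
    rw [hU, Finset.card_product, Nat.card_Ico, Nat.card_Ico]
  omega

/-- Let m, n ≥ 1 be coprime, h = m + n, δ the segment from (0,0) to (h,m) (the isoclinic Newton polygon
of slope m/h) and ρ the ordinary polygon with n slopes 0 followed with m slopes 1, so ρ(i) = max(0,
i − n). The integer points (i,j), 0 ≤ i ≤ h, on or above ρ and strictly below δ — that is max(0, i −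
n) ≤ j and j·h < i·m — are (m−1)(n−1)/2 + (m+n−1) in number (which equals mn − r for r =
(m−1)(n−1)/2). (The published text works under m ≥ n > 0 coprime; the inequality m ≥ n is not used
and not assumed.) -/
theorem result
    (m n : ℕ) (hm : 0 < m) (hn : 0 < n) (hmn : Nat.Coprime m n) :
    ((Finset.range (m + n + 1) ×ˢ Finset.range (m + 1)).filter
      (fun ij : ℕ × ℕ => ij.1 ≤ ij.2 + n ∧ ij.2 * (m + n) < ij.1 * m)).card
      = (m - 1) * (n - 1) / 2 + (m + n - 1) := by
  classical
  set A := (Finset.Ico 1 m ×ˢ Finset.Ico 1 n).filter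
      (fun jt : ℕ × ℕ => jt.1 * n < jt.2 * m) with hA
  have h2 : 2 * A.card = (m - 1) * (n - 1) := half m n hmn
  have h3 : (Finset.range m ×ˢ ({n} : Finset ℕ)).card = m := by
    simp
  have h4 : (({0} : Finset ℕ) ×ˢ Finset.Ico 1 n).card = n - 1 := by
    simp
  have d1 : Disjoint (Finset.range m ×ˢ ({n} : Finset ℕ)) (({0} : Finset ℕ) ×ˢ Finset.Ico 1 n) := by
    rw [Finset.disjoint_left]
    rintro ⟨j, t⟩ h h'
    simp only [Finset.mem_product, Finset.mem_range, Finset.mem_singleton, Finset.mem_Ico] at h h'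
    omega
  have d2 : Disjoint ((Finset.range m ×ˢ ({n} : Finset ℕ)) ∪ (({0} : Finset ℕ) ×ˢ Finset.Ico 1 n)) A := by
    rw [Finset.disjoint_left]
    rintro ⟨j, t⟩ h h'
    simp only [Finset.mem_union, hA, Finset.mem_filter, Finset.mem_product, Finset.mem_range,
      Finset.mem_singleton, Finset.mem_Ico] at h h'
    omega
  have hc : (((Finset.range m ×ˢ ({n} : Finset ℕ)) ∪ (({0} : Finset ℕ) ×ˢ Finset.Ico 1 n)) ∪ A).card
      = m + (n - 1) + A.card := by
    rw [Finset.card_union_of_disjoint d2, Finset.card_union_of_disjoint d1, h3, h4]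
  have hb : ((Finset.range (m + n + 1) ×ˢ Finset.range (m + 1)).filter
      (fun ij : ℕ × ℕ => ij.1 ≤ ij.2 + n ∧ ij.2 * (m + n) < ij.1 * m)).card =
      (((Finset.range m ×ˢ ({n} : Finset ℕ)) ∪ (({0} : Finset ℕ) ×ˢ Finset.Ico 1 n)) ∪ A).card := by
    refine Finset.card_bij' (fun ij _ => (ij.2, ij.1 - ij.2)) (fun jt _ => (jt.1 + jt.2, jt.1))
      ?_ ?_ ?_ ?_
    · rintro ⟨i, j⟩ h
      simp only [Finset.mem_union, hA, Finset.mem_filter, Finset.mem_product, Finset.mem_range,
        Finset.mem_singleton, Finset.mem_Ico] at h ⊢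
      obtain ⟨⟨h1, h2⟩, h3, h4⟩ := h
      have hji : j < i := by
        by_contra hh
        have : i * m ≤ j * m := Nat.mul_le_mul_right _ (by omega)
        nlinarith [Nat.zero_le (j * n)]
      obtain ⟨t, rfl⟩ : ∃ t, i = j + t := ⟨i - j, by omega⟩
      simp only [Nat.add_sub_cancel_left]
      have h5 : j * n < t * m := by nlinarith
      have h6 : j < m := by
        by_contra hh
        have : m * n ≤ j * n := Nat.mul_le_mul_right _ (by omega)
        have : t * m ≤ n * m := Nat.mul_le_mul_right _ (by omega)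
        nlinarith
      by_cases htn : t = n
      · left; left; exact ⟨h6, htn⟩
      by_cases hj : j = 0
      · left; right; exact ⟨hj, by omega, by omega⟩
      · right; exact ⟨⟨⟨by omega, h6⟩, by omega, by omega⟩, h5⟩
    · rintro ⟨j, t⟩ h
      simp only [Finset.mem_union, hA, Finset.mem_filter, Finset.mem_product, Finset.mem_range,
        Finset.mem_singleton, Finset.mem_Ico] at h ⊢
      have h5 : j * n < t * m := by
        rcases h with (⟨h1, h2⟩ | ⟨h1, h2⟩) | h
        · subst h2
          rw [mul_comm t m]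
          exact Nat.mul_lt_mul_of_pos_right h1 hn
        · subst h1
          rw [zero_mul]
          exact Nat.mul_pos (by omega) hm
        · exact h.2
      refine ⟨⟨by omega, by omega⟩, by omega, by nlinarith⟩
    · rintro ⟨i, j⟩ h
      simp only [Finset.mem_filter, Finset.mem_product, Finset.mem_range] at h ⊢
      obtain ⟨⟨h1, h2⟩, h3, h4⟩ := h
      have hji : j < i := by
        by_contra hh
        have : i * m ≤ j * m := Nat.mul_le_mul_right _ (by omega)
        nlinarith [Nat.zero_le (j * n)]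
      ext <;> simp; omega
    · rintro ⟨j, t⟩ h
      simp
  rw [hb, hc]
  have h5 : A.card = (m - 1) * (n - 1) / 2 := by
    rw [← h2]; omega
  rw [h5]
  generalize (m - 1) * (n - 1) / 2 = z
  omega

end Groth.Agent.S15498
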