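import Groth.Statements.S15505
import Mathlib.FieldTheory.Finite.Basic

set_option autoImplicit false
universe u v w
open FrobAlg

namespace Groth.Agent.S15505

/-- In a field of characteristic `p`, an element is in the image of `ZMod p` iff it is fixed by `x ↦ x^p`. -/
theorem exists_zmod_of_pow_eq (p : ℕ) [Fact p.Prime] (k : Type u) [Field k] [CharP k p] (a : k)
    (ha : a ^ p = a) : ∃ c : ZMod p, ZMod.castHom (dvd_refl p) k c = a := by
  classical
  by_contra hne
  push Not at hne
  let P : Polynomial k := Polynomial.X ^ p - Polynomial.X
  have hp1 : 1 < p := (Fact.out : p.Prime).one_lt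
  have hP0 : P ≠ 0 := FiniteField.X_pow_card_sub_X_ne_zero k hp1
  have hdeg : P.natDegree = p := FiniteField.X_pow_card_sub_X_natDegree_eq k hp1
  let S : Finset k := insert a (Finset.univ.image (ZMod.castHom (dvd_refl p) k))
  have hinj : Function.Injective (ZMod.castHom (dvd_refl p) k) := RingHom.injective _
  have hScard : S.card = p + 1 := by
    rw [Finset.card_insert_of_notMem, Finset.card_image_of_injective _ hinj, Finset.card_univ,
      ZMod.card]
    simp only [Finset.mem_image, Finset.mem_univ, true_and, not_exists]
    exact fun c => hne c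
  have hroots : ∀ x ∈ S, P.IsRoot x := by
    intro x hx
    simp only [S, Finset.mem_insert, Finset.mem_image, Finset.mem_univ, true_and] at hx
    rcases hx with rfl | ⟨c, rfl⟩
    · simp [P, ha]
    · have h := congrArg (ZMod.castHom (dvd_refl p) k) (ZMod.pow_card c)
      rw [map_pow] at h
      simp only [P, Polynomial.IsRoot.def, Polynomial.eval_sub, Polynomial.eval_pow, Polynomial.eval_X]
      rw [h, sub_self]
  have hle : S.card ≤ P.natDegree := by
    have hsub : S.val ≤ P.roots := by
      rw [Multiset.le_iff_subset S.nodup]
      intro x hx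
      exact (Polynomial.mem_roots hP0).2 (hroots x hx)
    exact (Multiset.card_le_card hsub).trans (Polynomial.card_roots' P)
  omega

/-- Let k be an algebraically closed field of characteristic p, V a k-vector space, φ a p⁻¹-linear
endomorphism of V (additive, φ(a·v) = a^{1/p}·φ(v)) and b a finite basis of V consisting of vectors
fixed by φ. Then the vectors fixed by φ are exactly the combinations of the b_i with coefficients in
the prime field: v is fixed if and only if v = Σ c_i·b_i with all c_i in the image of ℤ/p. -/
theorem result (p : ℕ) [Fact p.Prime]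
    (k : Type u) [Field k] [CharP k p] [IsAlgClosed k]
    (V : Type v) [AddCommGroup V] [Module k V]
    (φ : V →ₛₗ[((frobeniusEquiv k p).symm : k →+* k)] V)
    {ι : Type w} [Fintype ι] (b : Module.Basis ι k V) (hb : ∀ i, φ (b i) = b i) (v : V) :
    φ v = v ↔ ∃ c : ι → ZMod p, v = ∑ i, (ZMod.castHom (dvd_refl p) k (c i)) • b i := by
  have hφ : ∀ a : ι → k, φ (∑ i, a i • b i) = ∑ i, ((frobeniusEquiv k p).symm (a i)) • b i := by
    intro a
    rw [map_sum]
    refine Finset.sum_congr rfl fun i _ => ?_
    rw [LinearMap.map_smulₛₗ, hb]
    rfl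
  constructor
  · intro hv
    have h1 : ∀ i, (frobeniusEquiv k p).symm (b.repr v i) = b.repr v i := by
      have h2 := hφ (fun i => b.repr v i)
      rw [b.sum_repr, hv] at h2
      intro i
      have h3 := congrArg (fun w => b.repr w i) h2
      simp only [map_sum, map_smul, Module.Basis.repr_self] at h3
      rw [Finsupp.finsetSum_apply] at h3
      simp only [Finsupp.smul_apply, smul_eq_mul] at h3
      rw [Finset.sum_eq_single i] at h3
      · simpa using h3.symm
      · intro j _ hj
        simp [hj]
      · intro h
        exact absurd (Finset.mem_univ i) h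
    have h4 : ∀ i, ∃ c : ZMod p, ZMod.castHom (dvd_refl p) k c = b.repr v i := by
      intro i
      apply exists_zmod_of_pow_eq
      have h5 := congrArg (frobeniusEquiv k p) (h1 i)
      rw [RingEquiv.apply_symm_apply] at h5
      exact h5.symm
    choose c hc using h4
    refine ⟨c, ?_⟩
    simp only [hc]
    exact (b.sum_repr v).symm
  · rintro ⟨c, rfl⟩
    rw [hφ]
    refine Finset.sum_congr rfl fun i _ => ?_
    congr 1
    rw [RingEquiv.symm_apply_eq]
    change _ = (ZMod.castHom (dvd_refl p) k (c i)) ^ p
    rw [← map_pow, ZMod.pow_card]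

end Groth.Agent.S15505
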