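import Groth.Statements.S15506
import Mathlib.AlgebraicGeometry.Morphisms.Flat
import Mathlib.AlgebraicGeometry.Morphisms.QuasiFinite
import Groth.Agent.EtBase.K152.Basic
import Mathlib.AlgebraicGeometry.ResidueField

set_option autoImplicit false
universe u
open CategoryTheory AlgebraicGeometry
open EtBase

namespace Groth.Agent.S15506

/-- Let k be a field, K an algebraic closure of k (an algebraically closed field algebraic over k), Ω a
field containing K, and Z a scheme étale over Spec k. Composition with Spec Ω → Spec K is a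
bijection from the k-morphisms Spec K → Z onto the k-morphisms Spec Ω → Z: two k-morphisms Spec K →
Z that agree on Spec Ω are equal, and every k-morphism Spec Ω → Z factors through Spec K. (The
published statement is the case where k has characteristic zero with a chosen embedding of its
algebraic closure into the complex numbers, Ω = ℂ, and Z is the scheme of isomorphisms between two
K3 surfaces over k, known there to be étale over k; this row states the fact about an arbitrary
étale k-scheme that the argument establishes.) -/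
theorem result
    (k K Ω : Type u) [Field k] [Field K] [Field Ω] [Algebra k K] [IsAlgClosed K] [Algebra.IsAlgebraic k K]
    [Algebra K Ω] [Algebra k Ω] [IsScalarTower k K Ω]
    (Z : Scheme.{u}) (f : Z ⟶ Spec (CommRingCat.of k)) [AlgebraicGeometry.Etale f] :
    (∀ g₁ g₂ : Spec (CommRingCat.of K) ⟶ Z,
        g₁ ≫ f = Spec.map (CommRingCat.ofHom (algebraMap k K)) →
        g₂ ≫ f = Spec.map (CommRingCat.ofHom (algebraMap k K)) →
        Spec.map (CommRingCat.ofHom (algebraMap K Ω)) ≫ g₁ = Spec.map (CommRingCat.ofHom (algebraMap K Ω)) ≫ g₂ →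
        g₁ = g₂) ∧
    (∀ h : Spec (CommRingCat.of Ω) ⟶ Z, h ≫ f = Spec.map (CommRingCat.ofHom (algebraMap k Ω)) →
        ∃ g : Spec (CommRingCat.of K) ⟶ Z, g ≫ f = Spec.map (CommRingCat.ofHom (algebraMap k K)) ∧
          Spec.map (CommRingCat.ofHom (algebraMap K Ω)) ≫ g = h) := by
  have hepi : Epi (Spec.map (CommRingCat.ofHom (algebraMap K Ω))) := by
    have h1 : Flat (Spec.map (CommRingCat.ofHom (algebraMap K Ω))) := by
      rw [HasRingHomProperty.Spec_iff (P := @Flat), CommRingCat.hom_ofHom,
        RingHom.flat_algebraMap_iff]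
      infer_instance
    have h2 : Surjective (Spec.map (CommRingCat.ofHom (algebraMap K Ω))) := by
      refine ⟨fun x => ⟨(default : PrimeSpectrum Ω), ?_⟩⟩
      exact Subsingleton.elim (α := PrimeSpectrum K) _ _
    exact Flat.epi_of_flat_of_surjective _
  have hqf : LocallyQuasiFinite f := K152.Basic.locallyQuasiFinite_of_etale f
  refine ⟨fun g₁ g₂ _ _ h => (cancel_epi _).mp h, fun h hh => ?_⟩
  -- the image point
  let z : Z := h (IsLocalRing.closedPoint Ω)
  let ψ : Z.residueField z ⟶ CommRingCat.of Ω := Scheme.descResidueField (Scheme.stalkClosedPointTo h)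
  have hψ : Spec.map ψ ≫ Z.fromSpecResidueField z = h :=
    Scheme.descResidueField_stalkClosedPointTo_fromSpecResidueField Ω Z h
  obtain ⟨φ, hφ⟩ := Spec.map_surjective (Z.fromSpecResidueField z ≫ f)
  have hfin : φ.hom.Finite := by
    have h1 : LocallyQuasiFinite (Spec.map φ) := by rw [hφ]; infer_instance
    have h4 : IsFinite (Spec.map φ) := IsFinite.of_locallyQuasiFinite _
    rwa [IsFinite.SpecMap_iff] at h4
  have hcomp : φ ≫ ψ = CommRingCat.ofHom (algebraMap k Ω) := by
    apply Spec.map_injective
    rw [Spec.map_comp, hφ, reassoc_of% hψ, hh]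
  have hmem : ∀ x, ψ.hom x ∈ (algebraMap K Ω).range := by
    intro x
    have h1 : φ.hom.IsIntegralElem x := hfin.to_isIntegral x
    obtain ⟨p, hp, hx⟩ := h1
    have h2 : IsIntegral k (ψ.hom x) := by
      refine ⟨p, hp, ?_⟩
      have h3 : algebraMap k Ω = ψ.hom.comp φ.hom := by
        rw [← CommRingCat.hom_comp, hcomp]; rfl
      rw [h3, ← Polynomial.hom_eval₂, hx, map_zero]
    have h3 : IsIntegral K (ψ.hom x) := h2.tower_top
    exact minpoly.mem_range_of_degree_eq_one K _
      (IsAlgClosed.degree_eq_one_of_irreducible K (minpoly.irreducible h3))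
  let e : K ≃+* (algebraMap K Ω).range :=
    RingEquiv.ofBijective (algebraMap K Ω).rangeRestrict
      ⟨fun a b hab => (algebraMap K Ω).injective (congrArg Subtype.val hab),
        (algebraMap K Ω).rangeRestrict_surjective⟩
  let g0 : Z.residueField z →+* K :=
    (e.symm : (algebraMap K Ω).range →+* K).comp (ψ.hom.codRestrict (algebraMap K Ω).range hmem)
  have hg0 : (algebraMap K Ω).comp g0 = ψ.hom := by
    ext x
    exact congrArg Subtype.val (e.apply_symm_apply ⟨ψ.hom x, hmem x⟩)
  have hg : Spec.map (CommRingCat.ofHom (algebraMap K Ω)) ≫ Spec.map (CommRingCat.ofHom g0) ≫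
      Z.fromSpecResidueField z = h := by
    rw [← Spec.map_comp_assoc, ← CommRingCat.ofHom_comp, hg0]
    exact hψ
  refine ⟨Spec.map (CommRingCat.ofHom g0) ≫ Z.fromSpecResidueField z, ?_, hg⟩
  rw [← cancel_epi (Spec.map (CommRingCat.ofHom (algebraMap K Ω))), ← Category.assoc, hg, hh,
    ← Spec.map_comp, ← CommRingCat.ofHom_comp, ← IsScalarTower.algebraMap_eq]

end Groth.Agent.S15506
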