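import Groth.Statements.S15507
import Groth.Agent.S0002
import Groth.Agent.Ega3B.ProjProper
import Groth.Agent.Picfga.CurveRelDim
import Groth.Agent.FrobSch.K865.DualSplit
import Groth.Agent.FrobSch.K865.FrobCoh

set_option autoImplicit false
universe u
open CategoryTheory AlgebraicGeometry Opposite
open FrobSch

namespace Groth.Agent.S15507

/-- (2) ⇔ (3): let k be a perfect field of characteristic p > 3 and X a Calabi–Yau threefold over k — an
integral scheme, smooth and projective over k (closed in some Pⁿ_k), of dimension 3, with H⁰(X, O_X)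
= k, trivial canonical sheaf (O_X is a third exterior power of Ω_{X/k}) and H¹(X, O_X) = H²(X, O_X)
= 0. Let φ be the p-th power map on the sheaf of additive groups underlying O_X (the comorphism of
the absolute Frobenius F). Then X is Frobenius split, i.e. O_X → F_*O_X has an O_X-linear retraction
(an additive sheaf endomorphism s of O_X with s(t^p) = t and s(a^p·b) = a·s(b) on every open), if
and only if the endomorphism of H³(X, O_X) induced by φ is bijective. (Clause (1) of the published
statement, that X has height one, is not stated here.) -/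
theorem result
    (p : ℕ) [Fact p.Prime] (hp : 3 < p) (k : Type u) [Field k] [CharP k p] [PerfectField k]
    (X : Scheme.{u}) [X.Over (Spec (CommRingCat.of k))] [AlgebraicGeometry.IsIntegral X]
    [AlgebraicGeometry.Smooth (X ↘ Spec (CommRingCat.of k))]
    (hproj : ∃ (n : ℕ) (ι : X ⟶ CohB1.ProjSpace n k), AlgebraicGeometry.IsClosedImmersion ι ∧
      ι ≫ CohB1.ProjSpace.toSpec n k = X ↘ Spec (CommRingCat.of k))
    (hdim : topologicalKrullDim X = 3)
    (hω : ExtPow.IsExtPow 3 (Omega.sheaf (X ↘ Spec (CommRingCat.of k))) (Coh.structureModule X))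
    (h0 : Module.finrank k (Coh.HH X (Coh.structureModule X) 0) = 1)
    (h1 : Subsingleton (Coh.HH X (Coh.structureModule X) 1))
    (h2 : Subsingleton (Coh.HH X (Coh.structureModule X) 2))
    (φ : Coh.toAb (Coh.structureModule X) ⟶ Coh.toAb (Coh.structureModule X))
    (hφ : ∀ (U : X.Opens) (t : Γ(X, U)), φ.hom.app (op U) t = t ^ p) :
    (∃ s : Coh.toAb (Coh.structureModule X) ⟶ Coh.toAb (Coh.structureModule X),
        φ ≫ s = 𝟙 _ ∧ ∀ (U : X.Opens) (a b : Γ(X, U)),
          s.hom.app (op U) (a ^ p * b) = a * @id Γ(X, U) (s.hom.app (op U) b)) ↔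
      Function.Bijective (Sheaf.H.map φ 3) := by
  have hX : IsCharP X p := IsCharP.of_hom (X ↘ Spec (CommRingCat.of k)) p
  have hprop : IsProper (X ↘ Spec (CommRingCat.of k)) := by
    obtain ⟨n, ι, hι, hcomp⟩ := hproj
    have := Groth.Agent.Ega3B.ProjProper.isProper_toSpec n k
    rw [← hcomp]
    infer_instance
  have hsm : SmoothOfRelativeDimension 3 (X ↘ Spec (CommRingCat.of k)) :=
    Groth.Agent.Picfga.CurveRelDim.smoothOfRelativeDimension_of_topologicalKrullDim_eq k X _ 3 hdim
  constructor
  · rintro ⟨s, hs, hlin⟩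
    have hinj := K865.FrobCoh.Hmap_injective_of_split φ s hs 3
    exact ⟨hinj, K865.FrobCoh.Hmap_frob_surjective φ hφ k 3
      (Groth.Agent.S0002.result k X _ (Groth.Agent.CurvesC.UnitCoh.isCoh_unit X) 3) hinj⟩
  · intro hbij
    exact K865.DualSplit.exists_split k hω φ hφ hbij.1

end Groth.Agent.S15507
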