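import Groth.Statements.S15509
import Groth.Agent.AbSch.K451.TorsCount
import Groth.Agent.Sga7.H751.PowEtale
import Groth.Agent.S2821
import Mathlib.AlgebraicGeometry.ZariskisMainTheorem

set_option autoImplicit false
universe u
open CategoryTheory CategoryTheory.Limits MonoidalCategory CartesianMonoidalCategory MonObj AlgebraicGeometry
open AbSch

namespace Groth.Agent.S15509

theorem locallyQuasiFinite_of_etale {X Y : Scheme.{u}} (f : X ⟶ Y) [Etale f] :
    LocallyQuasiFinite f where
  quasiFinite_appLE {U} hU {V} hV e := by
    have h1 := HasRingHomProperty.appLE @Etale f inferInstance ⟨U, hU⟩ ⟨V, hV⟩ e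
    algebraize [(f.appLE U V e).hom]
    exact inferInstanceAs (Algebra.QuasiFinite Γ(Y, U) Γ(X, V))

/-- Let R be a regular local ring which is a domain and contains the rational numbers, with fraction
field K and residue field k, and let A be an abelian scheme over Spec R of relative dimension g (a
commutative group scheme which is smooth and proper with geometrically connected fibres of dimension
g). Then for every integer m ≥ 1 the number of K-valued points of A over Spec R killed by m is at
most the number of k-valued points of A over Spec R killed by m: the m-torsion of the rational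
points of the generic fibre is no larger than the m-torsion of the rational points of the closed
fibre. (The published statement is for an arbitrary Noetherian regular local ring R inside a paper
whose standing setting is schemes over the complex numbers; this row keeps from that setting only
that R contains the rationals, which is what the printed argument uses to make the m-torsion
subgroup scheme étale over the base.) -/
theorem result
    (R : Type u) [CommRing R] [IsDomain R] [IsRegularLocalRing R] [Algebra ℚ R]
    (A : Over (Spec (CommRingCat.of R))) [GrpObj A] [IsCommMonObj A] (g : ℕ) (hA : AgPol.IsAbSch A g)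
    (m : ℕ) (hm : 1 ≤ m) :
    Nat.card (AbDual.torsPts A m (Over.mk (Spec.map (CommRingCat.ofHom (algebraMap R (FractionRing R)))))) ≤
      Nat.card (AbDual.torsPts A m (Over.mk (Spec.map (CommRingCat.ofHom (IsLocalRing.residue R))))) := by
  have := hA.smooth
  have := hA.proper
  have hufd : UniqueFactorizationMonoid R := (Groth.Agent.S2821.result R).2
  have hic : IsIntegrallyClosed R := inferInstance
  have het : Etale (𝟙 A ^ m).left := by
    refine Groth.Agent.Sga7.H751.PowEtale.etale_pow A m fun s => ?_
    let φ : R →+* (Spec (CommRingCat.of R)).residueField s :=
      ((Scheme.ΓSpecIso (CommRingCat.of R)).inv ≫ (Spec (CommRingCat.of R)).evaluation ⊤ s trivial).hom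
    have hQ : Algebra ℚ ((Spec (CommRingCat.of R)).residueField s) :=
      (φ.comp (algebraMap ℚ R)).toAlgebra
    have : CharZero ((Spec (CommRingCat.of R)).residueField s) :=
      algebraRat.charZero _
    exact_mod_cast (by omega : m ≠ 0)
  have hprop : IsProper (𝟙 A ^ m).left := by
    have h1 : (𝟙 A ^ m).left ≫ A.hom = A.hom := Over.w _
    have h2 : IsProper ((𝟙 A ^ m).left ≫ A.hom) := by rw [h1]; infer_instance
    exact IsProper.of_comp _ A.hom
  have hlqf : LocallyQuasiFinite (𝟙 A ^ m).left := locallyQuasiFinite_of_etale _
  have hfin : IsFinite (𝟙 A ^ m).left := IsFinite.of_isProper_of_locallyQuasiFinite _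
  have hloc : IsLocalHom (algebraMap R (IsLocalRing.ResidueField R)) :=
    inferInstanceAs (IsLocalHom (IsLocalRing.residue R))
  exact K451.TorsCount.card_le (K := FractionRing R) (k := IsLocalRing.ResidueField R) A m

end Groth.Agent.S15509
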