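import Groth.Statements.S15510
import Groth.Agent.AbVar.K517.P1Point

set_option autoImplicit false
universe u
open CategoryTheory CategoryTheory.Limits MonoidalCategory CartesianMonoidalCategory MonObj AlgebraicGeometry
open AbVar

namespace Groth.Agent.S15510

/-- Let F be a field and A a principally polarized abelian variety over F: a commutative group scheme
over Spec F, smooth and proper with geometrically connected fibres of dimension g, given together
with a commutative group scheme At, data φ presenting At as the dual of A for the fppf topology, and
a polarization lam : A ⟶ At which is an isomorphism. Let Q = F(t_1, …, t_n) be the field of rational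
functions in n variables over F. Then base change from F to Q is a bijection from the F-rational
points of A onto the Q-valued points of A over Spec F: every Q-point of A comes from exactly one
F-point. -/
theorem result
    (F : Type u) [Field F]
    (A At : Over (Spec (CommRingCat.of F))) [GrpObj A] [IsCommMonObj A] [GrpObj At] [IsCommMonObj At]
    (g : ℕ) (hA : AgPol.IsAbSch A g)
    (φ : AgPol.DualMap A At) (hdual : AbDual.IsDualAV Scheme.fppfPrecoverage A At φ)
    (lam : A ⟶ At) (hpol : AgPol.IsPolarization A At φ lam) (hiso : IsIso lam) (n : ℕ) :
    Function.Bijective (fun x : (Over.mk (𝟙 (Spec (CommRingCat.of F))) ⟶ A) =>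
      (Over.homMk (Spec.map (CommRingCat.ofHom (algebraMap F (FractionRing (MvPolynomial (Fin n) F)))))
          (Category.comp_id _) :
        Over.mk (Spec.map (CommRingCat.ofHom (algebraMap F (FractionRing (MvPolynomial (Fin n) F))))) ⟶
          Over.mk (𝟙 (Spec (CommRingCat.of F)))) ≫ x) := by
  have : IsProper A.hom := hA.proper
  constructor
  · intro x y hxy
    have h1 := congrArg (fun t : (Over.mk (Spec.map (CommRingCat.ofHom
      (algebraMap F (FractionRing (MvPolynomial (Fin n) F))))) ⟶ A) => t.left) hxy
    have h2 : Flat (Spec.map (CommRingCat.ofHom
        (algebraMap F (FractionRing (MvPolynomial (Fin n) F))))) := by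
      rw [Flat.SpecMap_iff]
      exact (RingHom.flat_algebraMap_iff).mpr inferInstance
    have h3 : Surjective (Spec.map (CommRingCat.ofHom
        (algebraMap F (FractionRing (MvPolynomial (Fin n) F))))) :=
      ⟨fun y => ⟨Classical.arbitrary _, Subsingleton.elim _ _⟩⟩
    have h4 : Epi (Spec.map (CommRingCat.ofHom
      (algebraMap F (FractionRing (MvPolynomial (Fin n) F))))) := Flat.epi_of_flat_of_surjective _
    apply Over.OverMorphism.ext
    rw [← cancel_epi (Spec.map (CommRingCat.ofHom
      (algebraMap F (FractionRing (MvPolynomial (Fin n) F)))))]
    exact h1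
  · intro y
    obtain ⟨σ, hσ1, hσ2⟩ := K517.P1Point.exists_of_mvPolynomial n F A
      (FractionRing (MvPolynomial (Fin n) F)) y.left (Over.w y)
    exact ⟨Over.homMk σ hσ1, Over.OverMorphism.ext hσ2⟩

end Groth.Agent.S15510
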