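import Groth.Statements.S15511
import Groth.Agent.AbSch.K452.LamKer
import Groth.Agent.AbSch.K448.SmoothConn
import Groth.Agent.AbSch.K448.RigidityMain
import Groth.Agent.S4367

set_option autoImplicit false
universe u
open CategoryTheory CategoryTheory.Limits MonoidalCategory CartesianMonoidalCategory MonObj AlgebraicGeometry
open AbSch

namespace Groth.Agent.S15511

open Groth.Agent.Grpsch.PicGrp Groth.Agent.Fga.RigGrp K530.PicZero K452.LamPic K452.LamKer

/-- Let S be a connected locally Noetherian scheme, A an abelian scheme over S (a commutative group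
scheme which is smooth and proper with geometrically connected fibres of dimension g) given with a
commutative group scheme At and data φ presenting At as the dual of A for the fppf topology, L an
invertible module on A, and lam : A ⟶ At the homomorphism attached to L through φ (the morphism
sending a point x to the class of the translate of L by x tensor the inverse of L). If for some
closed point s of S the base change of lam to the fibre over s is the trivial homomorphism (the
class of L restricted to the fibre A_s has vanishing attached homomorphism, i.e. is zero in the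
Néron–Severi group), then lam itself is the trivial homomorphism, the structure morphism of A
followed by the unit section of At. (The published statement does not ask S to be connected; over a
base with two connected components, L trivial over one component and relatively ample over the other
gives an attached homomorphism vanishing on a closed fibre without vanishing identically, and the
printed proof rests on the rigidity lemma, which needs a connected base. The base is also taken
locally Noetherian, the published setting being schemes locally of finite type over ℂ.) -/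
theorem result
    (S : Scheme.{u}) [IsLocallyNoetherian S] [ConnectedSpace S]
    (A At : Over S) [GrpObj A] [IsCommMonObj A] [GrpObj At] [IsCommMonObj At]
    (g : ℕ) (hA : AgPol.IsAbSch A g)
    (φ : AgPol.DualMap A At) (hdual : AbDual.IsDualAV Scheme.fppfPrecoverage A At φ)
    (L : A.left.Modules) (hL : PicF.IsInvertible L) (lam : A ⟶ At) (hlam : AgPol.IsLambda A At φ L lam)
    (s : S) (hs : IsClosed ({s} : Set S))
    (h : (Over.pullback (S.fromSpecResidueField s)).map lam = 1) :
    lam = 1 := by
  obtain ⟨N, hN, hsheaf, hlamN⟩ := hlam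
  have hsm : Smooth A.hom := hA.smooth
  have hpr : IsProper A.hom := hA.proper
  have hgc : GeometricallyConnected A.hom := hA.geomConnected
  have hgi : GeometricallyIntegral A.hom := K448.SmoothConn.geometricallyIntegral A.hom
  have hgr : GeometricallyReduced A.hom := K448.SmoothConn.geometricallyReduced A.hom
  set n := mum (mk L hL) (fst A A) (snd A A) with hndef
  have hn : (mk N hN : Pic (PicF.XT A.hom A)) = n := mk_eq_mum L hL N hN hsheaf
  have hlam' : lam = φ A (toCl n) := by rw [← hn]; exact hlamN.symm
  have hη : (η[A] : 𝟙_ (Over S) ⟶ A).left ≫ A.hom = 𝟙 S := Over.w (η[A] : 𝟙_ (Over S) ⟶ A)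
  obtain ⟨W, j, hj1, -, hj⟩ := exists_ker A.hom (η[A] : 𝟙_ (Over S) ⟶ A).left hη hdual A n
    (fibZero_mum _)
  have hker : ∀ (T : Over S) (x : T ⟶ A), (∃ g : T.left ⟶ W, g ≫ j = x.left) ↔ x ≫ lam = 1 := by
    intro T x
    rw [hj T x, hlam']
  -- the unit
  have hone : ∀ T : Over S, (1 : T ⟶ A) ≫ lam = 1 := by
    intro T
    rw [hlam', hndef, comp_lam hdual]
    have h1 : pull (PicF.XTmap A.hom (1 : T ⟶ A)) (mum (mk L hL) (fst A A) (snd A A)) =
        pull (PicF.XTproj A.hom T) (pull T.hom (pull (η[A] : 𝟙_ (Over S) ⟶ A).left (mk L hL)))⁻¹ := by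
      have h2 := pull_mum (mk L hL) (A ◁ (1 : T ⟶ A)) (fst A A) (snd A A)
      rw [whiskerLeft_snd, MonObj.comp_one, mum_one_right, one_left' (A ⊗ T) (snd A T).left T.hom
        (Over.w (snd A T)), pull_comp, pull_comp, ← map_inv] at h2
      exact h2
    rw [h1]
    exact phi_pull hdual T _
  -- the fibres
  let x (t : S) : Over.mk (pullback.fst A.hom (S.fromSpecResidueField t) ≫ A.hom) ⟶ A :=
    Over.homMk (pullback.fst A.hom (S.fromSpecResidueField t)) rfl
  have hrange (t : S) : Set.range (x t).left = A.hom ⁻¹' {t} := Scheme.Hom.range_fiberι A.hom t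
  have hfib1 (t : S) : x t ≫ lam = 1 → t ∈ K448.Rigidity.collapsed A.hom lam.left := by
    rintro ht _ ⟨a, ha, rfl⟩ _ ⟨b, hb, rfl⟩
    rw [← hrange t] at ha hb
    obtain ⟨a', rfl⟩ := ha
    obtain ⟨b', rfl⟩ := hb
    have h2 : (x t).left ≫ lam.left = pullback.snd A.hom (S.fromSpecResidueField t) ≫
        (S.fromSpecResidueField t ≫ (η[At] : 𝟙_ (Over S) ⟶ At).left) := by
      rw [← Over.comp_left, ht, one_left]
      have h1 : (Over.mk (pullback.fst A.hom (S.fromSpecResidueField t) ≫ A.hom)).hom =
        pullback.snd A.hom (S.fromSpecResidueField t) ≫ S.fromSpecResidueField t := pullback.condition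
      rw [h1, Category.assoc]
    rw [← Scheme.Hom.comp_apply, ← Scheme.Hom.comp_apply, h2]
    have h3 : pullback.snd A.hom (S.fromSpecResidueField t) a' =
        pullback.snd A.hom (S.fromSpecResidueField t) b' := Subsingleton.elim _ _
    exact (Scheme.Hom.comp_apply _ _ _).trans ((congrArg _ h3).trans (Scheme.Hom.comp_apply _ _ _).symm)
  have hfib2 (t : S) : t ∈ K448.Rigidity.collapsed A.hom lam.left → x t ≫ lam = 1 := by
    intro ht
    let g := pullback.snd A.hom (S.fromSpecResidueField t)
    have hcol : ∀ z, z ∈ K448.Rigidity.collapsed g ((x t).left ≫ lam.left) := by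
      rintro z _ ⟨a, -, rfl⟩ _ ⟨b, -, rfl⟩
      have hmem : ∀ c : ↥(pullback A.hom (S.fromSpecResidueField t)), (x t).left c ∈ A.hom ⁻¹' {t} := by
        intro c
        rw [← hrange t]
        exact ⟨c, rfl⟩
      rw [Scheme.Hom.comp_apply, Scheme.Hom.comp_apply]
      exact ht ⟨_, hmem a, rfl⟩ ⟨_, hmem b, rfl⟩
    obtain ⟨k, hk, -⟩ := K448.RigidityMain.existsUnique_factor g ((x t).left ≫ lam.left) hcol
    let e : Spec (S.residueField t) ⟶ pullback A.hom (S.fromSpecResidueField t) :=
      pullback.lift (S.fromSpecResidueField t ≫ (η[A] : 𝟙_ (Over S) ⟶ A).left) (𝟙 _) (by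
        rw [Category.assoc, hη, Category.comp_id, Category.id_comp])
    have he : e ≫ g = 𝟙 _ := pullback.lift_snd _ _ _
    have he' : e ≫ (x t).left = S.fromSpecResidueField t ≫ (η[A] : 𝟙_ (Over S) ⟶ A).left :=
      pullback.lift_fst _ _ _
    have hk' : k = S.fromSpecResidueField t ≫ (η[At] : 𝟙_ (Over S) ⟶ At).left := by
      have h0 : e ≫ g ≫ k = k := by rw [reassoc_of% he]
      rw [← h0, hk, reassoc_of% he']
      congr 1
      have h1 := congrArg (fun z => z.left) (hone (𝟙_ (Over S)))
      rw [Over.comp_left, one_left, one_left] at h1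
      have h2 : (𝟙_ (Over S)).hom = 𝟙 S := rfl
      rw [h2] at h1
      simpa using h1
    apply Over.OverMorphism.ext
    rw [Over.comp_left, ← hk, hk', one_left]
    have h1 : (Over.mk (pullback.fst A.hom (S.fromSpecResidueField t) ≫ A.hom)).hom =
        pullback.snd A.hom (S.fromSpecResidueField t) ≫ S.fromSpecResidueField t := pullback.condition
    rw [h1, Category.assoc]
  have hset : (K448.Rigidity.collapsed A.hom lam.left)ᶜ = A.hom '' (Set.range j)ᶜ := by
    ext t
    constructor
    · intro ht
      by_contra hcon
      apply ht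
      apply hfib1
      rw [← hker]
      have hgr' : IsReduced (pullback A.hom (S.fromSpecResidueField t)) :=
        GeometricallyReduced.geometrically_isReduced (f := A.hom) (S.fromSpecResidueField t) _ _
          (.of_hasPullback _ _)
      refine @Groth.Agent.S4367.result _ _ _ hgr' (x t).left j _ ?_
      rintro _ ⟨a, rfl⟩
      by_contra ha
      apply hcon
      refine ⟨(x t).left a, ha, ?_⟩
      have : (x t).left a ∈ A.hom ⁻¹' {t} := by rw [← hrange t]; exact ⟨a, rfl⟩
      exact this
    · rintro ⟨a, ha, rfl⟩ ht
      obtain ⟨g, hg⟩ := (hker _ _).mpr (hfib2 _ ht)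
      have : a ∈ Set.range (x (A.hom a)).left := by rw [hrange]; rfl
      obtain ⟨a', ha'⟩ := this
      apply ha
      refine ⟨g a', ?_⟩
      rw [← Scheme.Hom.comp_apply, hg, ha']
  have hopen : IsOpen (K448.Rigidity.collapsed A.hom lam.left) :=
    K448.RigidityMain.isOpen_collapsed' A.hom lam.left
  have hclosed : IsClosed (K448.Rigidity.collapsed A.hom lam.left) := by
    rw [← isOpen_compl_iff, hset]
    exact Scheme.Hom.isOpenMap A.hom _ j.isClosedEmbedding.isClosed_range.isOpen_compl
  have hmem : s ∈ K448.Rigidity.collapsed A.hom lam.left := by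
    apply hfib1
    apply Over.OverMorphism.ext
    have h0 : (Over.pullback (S.fromSpecResidueField s)).map lam =
        (Over.pullback (S.fromSpecResidueField s)).map (1 : A ⟶ At) :=
      h.trans (map_one (Functor.homMonoidHom (Over.pullback (S.fromSpecResidueField s)) (X := A) (M := At))).symm
    have h1 := congrArg (fun z => z.left ≫ pullback.fst At.hom (S.fromSpecResidueField s)) h0
    have h2 (y : A ⟶ At) : ((Over.pullback (S.fromSpecResidueField s)).map y).left ≫
        pullback.fst At.hom (S.fromSpecResidueField s) =
        pullback.fst A.hom (S.fromSpecResidueField s) ≫ y.left := pullback.lift_fst _ _ _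
    simp only [h2] at h1
    rw [Over.comp_left]
    refine h1.trans ?_
    rw [one_left, one_left]
    exact (Category.assoc _ _ _).symm
  have huniv : K448.Rigidity.collapsed A.hom lam.left = Set.univ :=
    IsClopen.eq_univ ⟨hclosed, hopen⟩ ⟨s, hmem⟩
  obtain ⟨k, hk, -⟩ := K448.RigidityMain.existsUnique_factor A.hom lam.left
    (fun t => by rw [huniv]; trivial)
  have hk' : k = (η[At] : 𝟙_ (Over S) ⟶ At).left := by
    have h0 : (η[A] : 𝟙_ (Over S) ⟶ A).left ≫ A.hom ≫ k = k := by
      rw [reassoc_of% hη]
      exact Category.id_comp _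
    rw [← h0, hk]
    have h1 := congrArg (fun z => z.left) (hone (𝟙_ (Over S)))
    rw [Over.comp_left, one_left, one_left] at h1
    have h2 : (𝟙_ (Over S)).hom = 𝟙 S := rfl
    rw [h2] at h1
    simpa using h1
  apply Over.OverMorphism.ext
  rw [← hk, hk', one_left]

end Groth.Agent.S15511
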