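import Groth.Statements.S15512
import Groth.Agent.S0563
import Groth.Agent.CAlg.K87.ExtPd
import Mathlib.RingTheory.LocalProperties.ProjectiveDimension
import Mathlib.RingTheory.Ideal.Height

set_option autoImplicit false
universe u
open CategoryTheory
open CAlg

namespace Groth.Agent.S15512

/-- The two forms of the localization of a module are isomorphic. -/
noncomputable def locIso {R : Type u} [CommRing R] (S : Submonoid R) (M : ModuleCat.{u} R) :
    M.localizedModule S ≅ ModuleCat.of (Localization S) (LocalizedModule S M) :=
  (Shrink.linearEquiv.{u} (Localization S) (LocalizedModule S M)).toModuleIso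

/-- Let A be a Noetherian ring which is regular (its localization at every maximal ideal is a regular
local ring) and of finite Krull dimension, M a finitely generated A-module and d a natural number.
If Ext^i_A(M, A) vanishes for every i > d, then the projective dimension of M is at most d. -/
theorem result (A : Type u) [CommRing A]
    [IsNoetherianRing A] (hreg : ∀ m : MaximalSpectrum A, IsRegularLocalRing (Localization.AtPrime m.asIdeal))
    (hdim : ringKrullDim A < ⊤) (M : Type u) [AddCommGroup M] [Module A M] [Module.Finite A M] (d : ℕ)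
    (h : ∀ i : ℕ, d < i → Subsingleton (Abelian.Ext (ModuleCat.of A M) (ModuleCat.of A A) i)) :
    HasProjectiveDimensionLT (ModuleCat.of A M) (d + 1) := by
  -- a uniform bound for the dimensions
  obtain ⟨n, hn⟩ : ∃ n : ℕ, ringKrullDim A ≤ n := by
    rcases eq_or_ne (ringKrullDim A) ⊥ with h0 | h0
    · exact ⟨0, by rw [h0]; exact bot_le⟩
    · obtain ⟨e, he⟩ := WithBot.ne_bot_iff_exists.1 h0
      rw [← he] at hdim ⊢
      have h3 : e ≠ ⊤ := fun h => absurd hdim (by rw [h]; exact lt_irrefl _)
      obtain ⟨n, hn⟩ := ENat.ne_top_iff_exists.1 h3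
      exact ⟨n, by rw [← hn]; rfl⟩
  have hpd : HasProjectiveDimensionLE (ModuleCat.of A M) n := by
    rw [ModuleCat.hasProjectiveDimensionLE_iff_forall_maximalSpectrum]
    intro m
    have := hreg m
    have hprime : m.asIdeal.IsPrime := m.isMaximal.isPrime
    have h1 : ringKrullDim (Localization.AtPrime m.asIdeal) ≤ n := by
      rw [IsLocalization.AtPrime.ringKrullDim_eq_height m.asIdeal]
      exact (Ideal.height_le_ringKrullDim_of_isPrime).trans hn
    obtain ⟨e, he⟩ : ∃ e : ℕ, ringKrullDim (Localization.AtPrime m.asIdeal) = e := by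
      have h1 : ringKrullDim (Localization.AtPrime m.asIdeal) ≠ ⊤ := ringKrullDim_ne_top
      have h2 : ringKrullDim (Localization.AtPrime m.asIdeal) ≠ ⊥ := ringKrullDim_ne_bot
      obtain ⟨e, he⟩ := WithBot.ne_bot_iff_exists.1 h2
      rw [← he] at h1 ⊢
      have h3 : e ≠ ⊤ := fun h => h1 (by rw [h]; rfl)
      obtain ⟨d, hd⟩ := ENat.ne_top_iff_exists.1 h3
      exact ⟨d, by rw [← hd]; rfl⟩
    have hen : e ≤ n := by
      rw [he] at h1
      exact_mod_cast h1
    have h2 := Groth.Agent.S0563.result (Localization.AtPrime m.asIdeal) e he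
      (LocalizedModule m.asIdeal.primeCompl M)
    have h3 := hasProjectiveDimensionLT_of_iso (locIso m.asIdeal.primeCompl (ModuleCat.of A M)).symm (e + 1)
    exact hasProjectiveDimensionLT_of_ge _ (e + 1) _ (Nat.succ_le_succ hen)
  exact K87.ExtPd.hasProjectiveDimensionLT_of_ext_self M d (n + 1) hpd h

end Groth.Agent.S15512
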