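import Groth.Statements.S15522
import Groth.Agent.Coherent.K54.FibreSpec
import Groth.Agent.Ega3B.Master
import Groth.Agent.Ega3A.DRank
import Groth.Agent.Ega3B.ExchangeAlg
-- import your own Groth.Agent.* helpers here

set_option autoImplicit false
universe u
attribute [local instance] HasDerivedCategory.standard
open Coherent

namespace Groth.Agent.S15522

open AlgebraicGeometry CategoryTheory in
/-- Let A be a reduced Noetherian ring, X a proper scheme over Spec A with structure morphism f, F a
coherent O_X-module flat over Spec A, and p a natural number such that the function y ↦ dim_{κ(y)}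
H^p(X_y, F_y) is locally constant on Spec A. For each q write T^q for the functor M ↦ H^q(X, f^*(M~)
⊗ F) from A-modules to abelian groups. Then T^p takes surjections to surjections, and so does
T^(p-1) when p ≥ 1; equivalently, every base-change map H^q(X, F) ⊗_A M → H^q(X, F ⊗_A M) is
bijective for q = p and q = p - 1. (The published statement also asserts that R^p f_*F is locally
free of finite rank; this row states the two exchange properties only, over an affine base.) -/
theorem result (A : Type u) [CommRing A]
    [IsNoetherianRing A] [IsReduced A] (X : Scheme.{u}) [X.Over (Spec (CommRingCat.of A))]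
    [IsProper (X ↘ Spec (CommRingCat.of A))] (F : X.Modules) (hF : Coh.IsCoh F)
    (hfl : FlatMod.IsFlatOver (X ↘ Spec (CommRingCat.of A)) F) (p : ℕ)
    (hconst : IsLocallyConstant (CohIII.fiberRank (X ↘ Spec (CommRingCat.of A)) F p)) :
    (CohIII.tensorAFunctor A F ⋙ CohIII.HAb X p).PreservesEpimorphisms ∧
      ∀ q : ℕ, q + 1 = p → (CohIII.tensorAFunctor A F ⋙ CohIII.HAb X q).PreservesEpimorphisms := by
  have hqc : Coh.IsQCoh F := hF.1
  obtain ⟨P, hP, -, hT⟩ := Groth.Agent.Ega3B.Master.exists_complex X F hF hfl
  have hr : IsLocallyConstant (CohIII.dRank P (-(p : ℤ))) := by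
    have h1 : CohIII.dRank P (-(p : ℤ)) = CohIII.fiberRank (X ↘ Spec (CommRingCat.of A)) F p := by
      funext y
      exact ((K54.FibreSpec.fiberRank_spec X F hqc P p (hP _).1 (hT p) y).2).symm
    rw [h1]
    exact hconst
  obtain ⟨h1, h2⟩ := Groth.Agent.Ega3A.DRank.projective_opcycles_of_isLocallyConstant P (-(p : ℤ))
    (-(p : ℤ) - 1) (by simp) (hP _).1 (hP _).1 (hP _).2 hr
  have key : ∀ q : ℕ, Module.Flat A (P.opcycles (-(q : ℤ) - 1)) →
      (CohIII.tensorAFunctor A F ⋙ CohIII.HAb X q).PreservesEpimorphisms := by
    intro q hq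
    obtain ⟨e⟩ := hT q
    refine Groth.Agent.Ega3B.ExchangeAlg.preservesEpi_of_iso e.symm ?_
    rw [Groth.Agent.Ega3B.ExchangeAlg.preservesEpi_comp_forget₂_iff]
    rw [Groth.Agent.Ega3A.TFunBasic.chain_preservesEpi_iff_flat P (fun i => (hP i).2) (-(q : ℤ))
      (-(q : ℤ) - 1) (by ring)]
    exact hq
  refine ⟨key p inferInstance, ?_⟩
  rintro q rfl
  refine key q ?_
  have h3 : (-((q + 1 : ℕ) : ℤ)) = -(q : ℤ) - 1 := by push_cast; ring
  rw [← h3]
  infer_instance

end Groth.Agent.S15522
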