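import Groth.Statements.S15524
import Groth.Agent.MiscA.ZetaAbsCx

set_option autoImplicit false
open Finset
open Zeta

namespace Groth.Agent.S15524

/-- Let q ≥ 1 and let α_1, …, α_{2g} be complex numbers permuted by α ↦ q/α, i.e. α_{σ(i)} α_i = q for a
permutation σ of the indices; these play the role of the inverse roots of the numerator of the zeta
function of a curve over a field with q elements, for which #X(F_{q^N}) = q^N + 1 − Σ_i α_i^N. If
for some d ≥ 1 and real C one has |Σ_i α_i^{dN}| ≤ C q^{dN/2} for every N ≥ 1, then |α_i|^2 = q for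
every i (the Riemann hypothesis for the curve). -/
theorem result {g : ℕ} (q : ℕ) (hq : 0 < q)
    (α : Fin (2 * g) → ℂ) (σ : Equiv.Perm (Fin (2 * g))) (hσ : ∀ i, α (σ i) * α i = q)
    (d : ℕ) (hd : 0 < d) (C : ℝ)
    (hC : ∀ N : ℕ, 1 ≤ N → ‖∑ i, α i ^ (d * N)‖ ≤ C * (q : ℝ) ^ ((d : ℝ) * N / 2))
    (i : Fin (2 * g)) : ‖α i‖ ^ 2 = q := by
  have hq0 : (0 : ℝ) < q := by exact_mod_cast hq
  have hs : (0 : ℝ) < Real.sqrt q := Real.sqrt_pos.mpr hq0
  have hle : ∀ j, ‖α j‖ ≤ Real.sqrt q := by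
    intro j
    have h1 := MiscA.ZetaAbsCx.norm_le_of_sum_pow_le (fun j => α j ^ d) (Real.sqrt q ^ d) C
      (by positivity) (fun N hN => by
        have h2 := hC N hN
        have h3 : (q : ℝ) ^ ((d : ℝ) * N / 2) = (Real.sqrt q ^ d) ^ N := by
          rw [← pow_mul, Real.sqrt_eq_rpow, ← Real.rpow_natCast, ← Real.rpow_mul hq0.le]
          congr 1
          push_cast
          ring
        rw [h3] at h2
        simpa only [← pow_mul] using h2) j
    simp only [norm_pow] at h1
    exact (pow_le_pow_iff_left₀ (norm_nonneg _) hs.le hd.ne').mp h1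
  have h4 : ‖α (σ i)‖ * ‖α i‖ = q := by
    rw [← norm_mul, hσ i, Complex.norm_natCast]
  have h5 : Real.sqrt q ≤ ‖α i‖ := by
    have h6 : ‖α (σ i)‖ * ‖α i‖ ≤ Real.sqrt q * ‖α i‖ :=
      mul_le_mul_of_nonneg_right (hle _) (norm_nonneg _)
    have h7 : Real.sqrt q * Real.sqrt q = q := Real.mul_self_sqrt hq0.le
    have h8 : Real.sqrt q * Real.sqrt q ≤ Real.sqrt q * ‖α i‖ := by
      rw [h7]; exact h4.symm.le.trans h6
    exact le_of_mul_le_mul_left h8 hs
  rw [le_antisymm (hle i) h5, Real.sq_sqrt hq0.le]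

end Groth.Agent.S15524
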