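import Groth.Statements.S15525
import Mathlib.LinearAlgebra.Matrix.Charpoly.Coeff
import Mathlib.Analysis.Complex.Polynomial.Basic
import Mathlib.Algebra.Polynomial.Reverse

set_option autoImplicit false
universe u
open Zeta

namespace Groth.Agent.S15525

open Polynomial in
theorem reverse_prod_aux (s : Multiset ℂ) (hs : ∀ z ∈ s, ‖z‖ = 1) :
    ∃ c : ℂ, ((s.map fun z => (X - C z : ℂ[X])).prod).reverse =
      C c * ((s.map fun z => (X - C z : ℂ[X])).prod).map (starRingEnd ℂ) := by
  induction s using Multiset.induction_on with
  | empty => exact ⟨1, by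
      simp only [Multiset.map_zero, Multiset.prod_zero, Polynomial.map_one, C_1, mul_one]
      exact Polynomial.reverse_C 1⟩
  | cons a s ih =>
    obtain ⟨c, hc⟩ := ih fun z hz => hs z (Multiset.mem_cons_of_mem hz)
    have ha : ‖a‖ = 1 := hs a (Multiset.mem_cons_self a s)
    have ha1 : a * (starRingEnd ℂ) a = 1 := by
      rw [Complex.mul_conj, Complex.normSq_eq_norm_sq, ha]; norm_num
    refine ⟨-a * c, ?_⟩
    rw [Multiset.map_cons, Multiset.prod_cons, Polynomial.reverse_mul_of_domain, hc,
      Polynomial.map_mul]
    have h1 : (X - C a : ℂ[X]).reverse = C (-a) * (X - C a : ℂ[X]).map (starRingEnd ℂ) := by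
      have ha0 : a ≠ 0 := by rintro rfl; simp at ha
      have h2 : (X - C a : ℂ[X]).reverse = 1 - C a * X := by
        ext n
        rw [Polynomial.reverse, Polynomial.coeff_reflect, natDegree_X_sub_C]
        rcases n with _ | _ | n
        · simp [Polynomial.revAt_le (show 0 ≤ 1 by norm_num)]
        · simp [Polynomial.revAt_le (le_refl 1), Polynomial.coeff_one]
        · rw [Polynomial.revAt_eq_self_of_lt (by omega)]
          simp [Polynomial.coeff_X, Polynomial.coeff_C, Polynomial.coeff_one]
      rw [h2, Polynomial.map_sub, Polynomial.map_X, Polynomial.map_C, mul_sub, ← C_mul,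
        neg_mul, ha1]
      simp
      ring
    rw [h1]
    simp only [C_mul]
    ring

/-- Let L be a field with a ring embedding ι into ℂ and M an r × r matrix over L all of whose
eigenvalues, the complex roots of its characteristic polynomial mapped along ι, have absolute value
1. Then every coefficient of the characteristic polynomial of the block-diagonal matrix with blocks
M and the inverse transpose of M is mapped by ι into ℝ. This is the pointwise content of the
assertion that for a lisse sheaf F pure of weight 0 the sum of F and its dual is real, the Frobenius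
of the dual acting by the inverse transpose. -/
theorem result (L : Type u) [Field L] (ι : L →+* ℂ)
    {r : ℕ} (M : Matrix (Fin r) (Fin r) L)
    (hM : ∀ z ∈ ((Matrix.charpoly M).map ι).roots, ‖z‖ = 1) (n : ℕ) :
    (ι ((Matrix.fromBlocks M 0 0 (M⁻¹).transpose).charpoly.coeff n)).im = 0 := by
  classical
  rw [Matrix.charpoly_fromBlocks_zero₁₂, Matrix.charpoly_transpose]
  set P := (Matrix.charpoly M).map ι with hP
  have hPm : P.Monic := (Matrix.charpoly_monic M).map ι
  have hPs : P = (P.roots.map fun z => (Polynomial.X - Polynomial.C z)).prod :=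
    (IsAlgClosed.splits P).eq_prod_roots_of_monic hPm
  -- M is invertible
  have hdet : IsUnit M := by
    rw [Matrix.isUnit_iff_isUnit_det, isUnit_iff_ne_zero]
    intro h0
    have h1 : P.eval 0 = 0 := by
      rw [hP, ← ι.map_zero, Polynomial.eval_map_apply, Matrix.eval_charpoly]
      simp [Matrix.det_neg, h0]
    have h2 : (0 : ℂ) ∈ P.roots := (Polynomial.mem_roots hPm.ne_zero).mpr h1
    have := hM 0 h2
    simp at this
  obtain ⟨c, hc⟩ := reverse_prod_aux P.roots hM
  rw [← hPs] at hc
  have hQ : (Matrix.charpoly M⁻¹).map ι = P.map (starRingEnd ℂ) := by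
    have hQm : ((Matrix.charpoly M⁻¹).map ι).Monic := (Matrix.charpoly_monic _).map ι
    have hPcm : (P.map (starRingEnd ℂ)).Monic := hPm.map _
    have h3 : (Matrix.charpoly M⁻¹).map ι =
        Polynomial.C (((-1) ^ r * ι (Ring.inverse M.det)) * c) * P.map (starRingEnd ℂ) := by
      have h7 : (M.charpoly.reverse).map ι = P.reverse := by
        rw [hP, Polynomial.reverse, Polynomial.reverse, Polynomial.natDegree_map,
          Polynomial.reflect_map]
      rw [Matrix.charpoly_inv M hdet, ← Matrix.reverse_charpoly, Polynomial.map_mul,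
        Polynomial.map_mul, h7, hc]
      · simp only [Polynomial.map_pow, Polynomial.map_neg, Polynomial.map_one,
          Polynomial.map_C, Fintype.card_fin, Polynomial.C_mul, Polynomial.C_pow,
          Polynomial.C_neg, Polynomial.C_1]
        ring
    have h4 := congrArg Polynomial.leadingCoeff h3
    rw [hQm.leadingCoeff, Polynomial.leadingCoeff_mul, hPcm.leadingCoeff,
      Polynomial.leadingCoeff_C, mul_one] at h4
    rw [h3, ← h4]
    simp
  have h5 : ι ((M.charpoly * M⁻¹.charpoly).coeff n) = (P * P.map (starRingEnd ℂ)).coeff n := by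
    rw [← hQ, hP, ← Polynomial.map_mul, Polynomial.coeff_map]
  rw [h5]
  clear_value P
  rw [← Complex.conj_eq_iff_im, ← Polynomial.coeff_map, Polynomial.map_mul, Polynomial.map_map]
  have h6 : (starRingEnd ℂ).comp (starRingEnd ℂ) = RingHom.id ℂ := by
    ext z; simp
  rw [h6, Polynomial.map_id, mul_comm]

end Groth.Agent.S15525
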