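import Groth.Statements.S15526
import Mathlib.Algebra.Polynomial.Monic
import Mathlib.Algebra.MvPolynomial.Basic
import Mathlib.Algebra.Polynomial.Eval.Degree
import Mathlib.Tactic.FinCases

set_option autoImplicit false
universe u
open MvPolynomial
open CAlg

namespace Groth.Agent.S15526

/-- Let R be a commutative ring, P ∈ R[x] a monic polynomial of degree 2g + 1, and A = R[x, y, z]/(y^2 −
P(x), yz − 1). Then every element of A is a finite sum Σ_n Q_n(x) y^n over integers n, negative
powers of y meaning powers of z, with each Q_n ∈ R[x] of degree at most 2g: the R-submodule of A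
spanned by the classes of x^i y^n and x^i z^n with i ≤ 2g and n ≥ 0 is all of A. (The published
statement takes for R the ring of Witt vectors of a finite field and for P a lift of a separable
polynomial; the argument uses only that P is monic of degree 2g + 1.) -/
theorem result (R : Type u) [CommRing R] (g : ℕ)
    (P : Polynomial R) (hP : P.Monic) (hdeg : P.natDegree = 2 * g + 1) :
    Submodule.span R {a : MvPolynomial (Fin 3) R ⧸
        Ideal.span ({X 1 ^ 2 - Polynomial.aeval (X 0 : MvPolynomial (Fin 3) R) P, X 1 * X 2 - 1} :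
          Set (MvPolynomial (Fin 3) R)) |
        ∃ i n : ℕ, i ≤ 2 * g ∧
          (a = Ideal.Quotient.mk _ (X 0 ^ i * X 1 ^ n) ∨ a = Ideal.Quotient.mk _ (X 0 ^ i * X 2 ^ n))} =
      ⊤ := by
  set J : Ideal (MvPolynomial (Fin 3) R) :=
    Ideal.span ({X 1 ^ 2 - Polynomial.aeval (X 0 : MvPolynomial (Fin 3) R) P, X 1 * X 2 - 1} :
          Set (MvPolynomial (Fin 3) R)) with hJ
  set S := Submodule.span R {a : MvPolynomial (Fin 3) R ⧸ J |
        ∃ i n : ℕ, i ≤ 2 * g ∧
          (a = Ideal.Quotient.mk _ (X 0 ^ i * X 1 ^ n) ∨ a = Ideal.Quotient.mk _ (X 0 ^ i * X 2 ^ n))}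
    with hS
  set x : MvPolynomial (Fin 3) R ⧸ J := Ideal.Quotient.mk J (X 0) with hx
  set y : MvPolynomial (Fin 3) R ⧸ J := Ideal.Quotient.mk J (X 1) with hy
  set z : MvPolynomial (Fin 3) R ⧸ J := Ideal.Quotient.mk J (X 2) with hz
  have hyz : y * z = 1 := by
    rw [hy, hz, ← map_mul, ← map_one (Ideal.Quotient.mk J), Ideal.Quotient.eq]
    exact Ideal.subset_span (by simp)
  have hyP : y ^ 2 = Polynomial.aeval x P := by
    have h1 : Polynomial.aeval x P =
        Ideal.Quotient.mk J (Polynomial.aeval (X 0 : MvPolynomial (Fin 3) R) P) := by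
      rw [hx, ← Ideal.Quotient.mkₐ_eq_mk R J, Polynomial.aeval_algHom_apply]
    rw [h1, hy, ← map_pow, Ideal.Quotient.eq]
    exact Ideal.subset_span (by simp)
  have hmemy : ∀ i n : ℕ, i ≤ 2 * g → x ^ i * y ^ n ∈ S := fun i n hi =>
    Submodule.subset_span ⟨i, n, hi, Or.inl (by simp [hx, hy])⟩
  have hmemz : ∀ i n : ℕ, i ≤ 2 * g → x ^ i * z ^ n ∈ S := fun i n hi =>
    Submodule.subset_span ⟨i, n, hi, Or.inr (by simp [hx, hz])⟩
  -- closure under multiplication by an element, reduced to generators
  have hclos : ∀ t : MvPolynomial (Fin 3) R ⧸ J,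
      (∀ i n : ℕ, i ≤ 2 * g → x ^ i * y ^ n * t ∈ S) →
      (∀ i n : ℕ, i ≤ 2 * g → x ^ i * z ^ n * t ∈ S) → ∀ a ∈ S, a * t ∈ S := by
    intro t h1 h2 a ha
    induction ha using Submodule.span_induction with
    | mem a ha =>
      obtain ⟨i, n, hi, rfl | rfl⟩ := ha
      · simpa [hx, hy] using h1 i n hi
      · simpa [hx, hz] using h2 i n hi
    | zero => simp
    | add a b _ _ ha hb => rw [add_mul]; exact S.add_mem ha hb
    | smul r a _ ha => rw [smul_mul_assoc]; exact S.smul_mem r ha
  have hY : ∀ a ∈ S, a * y ∈ S := by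
    refine hclos y ?_ ?_
    · intro i n hi
      rw [mul_assoc, ← pow_succ]
      exact hmemy i (n + 1) hi
    · intro i n hi
      cases n with
      | zero =>
        rw [pow_zero, mul_one, ← pow_one y]; exact hmemy i 1 hi
      | succ n =>
        have : x ^ i * z ^ (n + 1) * y = x ^ i * z ^ n := by
          rw [pow_succ, mul_assoc, mul_assoc, mul_comm z y, hyz, mul_one]
        rw [this]; exact hmemz i n hi
  have hZ : ∀ a ∈ S, a * z ∈ S := by
    refine hclos z ?_ ?_
    · intro i n hi
      cases n with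
      | zero =>
        rw [pow_zero, mul_one, ← pow_one z]; exact hmemz i 1 hi
      | succ n =>
        have : x ^ i * y ^ (n + 1) * z = x ^ i * y ^ n := by
          rw [pow_succ, mul_assoc, mul_assoc, hyz, mul_one]
        rw [this]; exact hmemy i n hi
    · intro i n hi
      rw [mul_assoc, ← pow_succ]
      exact hmemz i (n + 1) hi
  have hsm : ∀ (r : R) (a : MvPolynomial (Fin 3) R ⧸ J), r • a = algebraMap R _ r * a :=
    fun r a => Algebra.smul_def r a
  have hxtop : x ^ (2 * g + 1) = y ^ 2 - ∑ i ∈ Finset.range (2 * g + 1), P.coeff i • x ^ i := by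
    have h2 := hyP
    rw [hP.as_sum, hdeg] at h2
    rw [h2]
    simp [hsm]
  have hX : ∀ a ∈ S, a * x ∈ S := by
    refine hclos x ?_ ?_
    · intro i n hi
      rcases Nat.lt_or_ge i (2 * g) with hlt | hge
      · have : x ^ i * y ^ n * x = x ^ (i + 1) * y ^ n := by ring
        rw [this]; exact hmemy _ _ hlt
      · obtain rfl : i = 2 * g := le_antisymm hi hge
        have : x ^ (2 * g) * y ^ n * x = x ^ 0 * y ^ (n + 2) -
            ∑ i ∈ Finset.range (2 * g + 1), P.coeff i • (x ^ i * y ^ n) := by
          rw [show x ^ (2 * g) * y ^ n * x = x ^ (2 * g + 1) * y ^ n by ring, hxtop, sub_mul,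
            Finset.sum_mul]
          congr 1
          · ring
          · refine Finset.sum_congr rfl fun i _ => ?_
            rw [smul_mul_assoc]
        rw [this]
        refine S.sub_mem (hmemy _ _ (Nat.zero_le _)) (S.sum_mem fun i hi => S.smul_mem _ (hmemy _ _ ?_))
        rw [Finset.mem_range] at hi; omega
    · intro i n hi
      rcases Nat.lt_or_ge i (2 * g) with hlt | hge
      · have : x ^ i * z ^ n * x = x ^ (i + 1) * z ^ n := by ring
        rw [this]; exact hmemz _ _ hlt
      · obtain rfl : i = 2 * g := le_antisymm hi hge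
        have : x ^ (2 * g) * z ^ n * x = x ^ 0 * z ^ n * y * y -
            ∑ i ∈ Finset.range (2 * g + 1), P.coeff i • (x ^ i * z ^ n) := by
          rw [show x ^ (2 * g) * z ^ n * x = x ^ (2 * g + 1) * z ^ n by ring, hxtop, sub_mul,
            Finset.sum_mul]
          congr 1
          · ring
          · refine Finset.sum_congr rfl fun i _ => ?_
            rw [smul_mul_assoc]
        rw [this]
        refine S.sub_mem (hY _ (hY _ (hmemz _ _ (Nat.zero_le _))))
          (S.sum_mem fun i hi => S.smul_mem _ (hmemz _ _ ?_))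
        rw [Finset.mem_range] at hi; omega
  rw [eq_top_iff]
  rintro a -
  obtain ⟨a, rfl⟩ := Ideal.Quotient.mk_surjective a
  induction a using MvPolynomial.induction_on with
  | C r =>
    have : (Ideal.Quotient.mk J) (C r) = r • (x ^ 0 * y ^ 0) := by
      rw [pow_zero, pow_zero, mul_one, hsm, mul_one]; rfl
    rw [this]; exact S.smul_mem _ (hmemy _ _ (Nat.zero_le _))
  | add p q hp hq => rw [map_add]; exact S.add_mem hp hq
  | mul_X p i hp =>
    rw [map_mul]
    fin_cases i
    · exact hX _ hp
    · exact hY _ hp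
    · exact hZ _ hp

end Groth.Agent.S15526
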