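import Groth.Statements.S15534
import Groth.Agent.DeRhamSh.K494.DTop

set_option autoImplicit false
universe u
open DeRhamSh

namespace Groth.Agent.S15534

open CategoryTheory AlgebraicGeometry in
/-- For a field k, a proper k-scheme X which is smooth of relative dimension d = e + 1 over k
(equidimensional of dimension d ≥ 1; for d = 0 there is nothing to prove) and a de Rham complex D of
the sheaf of differentials of X over k, the map H^d(X, Ω^{d-1}_{X/k}) → H^d(X, Ω^d_{X/k}) induced on
cohomology in degree d by the de Rham differential Ω^{d-1} → Ω^d (a map of abelian sheaves, read on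
the terms of D through its identifications K^p ≅ Ω^p) is zero. -/
theorem result (k : Type u) [Field k] (X : Scheme.{u})
    (f : X ⟶ Spec (CommRingCat.of k)) [IsProper f] (e : ℕ) [SmoothOfRelativeDimension (e + 1) f]
    (D : DeRhamSh.OmegaCx f) (x : Coh.HH X (D.term e) (e + 1)) :
    Sheaf.H.map ((D.iso e).inv ≫ D.K.d e (e + 1) ≫ (D.iso (e + 1)).hom) (e + 1) x = 0 :=
  K494.DTop.result f e (Groth.Agent.S5005.result f) D x

end Groth.Agent.S15534
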