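import Groth.Statements.S15537
import Groth.Agent.DeRhamSh.K853.Row15537
import Groth.Agent.DeRhamSh.K494.UCls

set_option autoImplicit false
universe u
open DeRhamSh

attribute [-instance] CategoryTheory.catToReflQuiver Groth.Agent.Ega3B.LeraySheaf.hasSheafifySh

namespace Groth.Agent.S15537

open CategoryTheory AlgebraicGeometry in
/-- For a quasi-compact quasi-separated scheme S, a proper morphism f : X → S which is smooth of
relative dimension n = e + 1 with all fibres nonempty (equidimensional of dimension n ≥ 1; for n = 0
there is nothing to prove), and a de Rham complex D of the sheaf of differentials of f, the map R^n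
f_*Ω^{n-1}_{X/S} → R^n f_*Ω^n_{X/S} induced by the de Rham differential Ω^{n-1} → Ω^n (a map of
abelian sheaves, read on the terms of D through its identifications K^p ≅ Ω^p) on the n-th higher
direct images of abelian sheaves is zero. -/
theorem result (S X : Scheme.{u}) (f : X ⟶ S)
    [CompactSpace ↥S] [QuasiSeparatedSpace ↥S] [IsProper f] (e : ℕ) [SmoothOfRelativeDimension (e + 1) f]
    [Surjective f] (D : DeRhamSh.OmegaCx f) :
    (Coh.RpushAb f (e + 1)).map ((D.iso e).inv ≫ D.K.d e (e + 1) ≫ (D.iso (e + 1)).hom) = 0 := by
  exact K853.Row15537.main (fun e => K494.UCls.diag e) f e D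

end Groth.Agent.S15537
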