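import Groth.Statements.S15547
-- import your own Groth.Agent.* helpers here

set_option autoImplicit false
open CategoryTheory AlgebraicGeometry TopologicalSpace
universe u
open Coherent

namespace Groth.Agent.S15547

section Aux

variable {Z X : Scheme.{u}} (g : Z ⟶ X)

/-- The canonical map `(g_* O_Z)_x ⟶ O_{Z,z}` for `z` over `x`. -/
noncomputable abbrev can (x : X) (z : {z : Z // g.base z = x}) :
    (g.base _* Z.presheaf).stalk x ⟶ Z.presheaf.stalk z.1 :=
  ((g.base _* Z.presheaf).stalkCongr (Inseparable.of_eq z.2)).inv ≫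
    TopCat.Presheaf.stalkPushforward CommRingCat g.base Z.presheaf z.1

theorem germ_can (x : X) (z : {z : Z // g.base z = x}) (V : X.Opens) (hx : x ∈ V) (hz : z.1 ∈ g ⁻¹ᵁ V)
    (s : Γ(Z, g ⁻¹ᵁ V)) :
    (can g x z).hom ((g.base _* Z.presheaf).germ V x hx s) = Z.presheaf.germ (g ⁻¹ᵁ V) z.1 hz s := by
  obtain ⟨z, rfl⟩ := z
  have e1 := TopCat.Presheaf.stalkPushforward_germ (C := CommRingCat) g.base Z.presheaf V z hx
  have e2 : (g.base _* Z.presheaf).germ V (g.base z) hx ≫
      ((g.base _* Z.presheaf).stalkCongr (Inseparable.of_eq (rfl : g.base z = g.base z))).inv =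
      (g.base _* Z.presheaf).germ V (g.base z) hx :=
    TopCat.Presheaf.germ_stalkSpecializes (h := specializes_refl _) ..
  have e3 : (g.base _* Z.presheaf).germ V (g.base z) hx ≫ can g (g.base z) ⟨z, rfl⟩ =
      Z.presheaf.germ (g ⁻¹ᵁ V) z hz := by
    rw [can, ← Category.assoc, e2, e1]
  exact ConcreteCategory.congr_hom e3 s

/-- The structure map `O_{X,x} ⟶ (g_* O_Z)_x`. -/
noncomputable abbrev str (x : X) : X.presheaf.stalk x ⟶ (g.base _* Z.presheaf).stalk x :=
  (TopCat.Presheaf.stalkFunctor CommRingCat x).map g.c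

theorem germ_str (x : X) (V : X.Opens) (hx : x ∈ V) (s : Γ(X, V)) :
    (str g x).hom (X.presheaf.germ V x hx s) = (g.base _* Z.presheaf).germ V x hx (g.app V s) := by
  have := TopCat.Presheaf.stalkFunctor_map_germ (C := CommRingCat) V x hx g.c
  exact ConcreteCategory.congr_hom this s

/-- Elements of the stalk are fractions. -/
theorem exists_frac (x : X) (V : X.Opens) (hV : IsAffineOpen V) (hZ : IsAffineOpen (g ⁻¹ᵁ V))
    (hx : x ∈ V) (c : (g.base _* Z.presheaf).stalk x) :
    ∃ (a : Γ(X, V)) (b : Γ(Z, g ⁻¹ᵁ V)), x ∈ X.basicOpen a ∧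
      c * (g.base _* Z.presheaf).germ V x hx (g.app V a) = (g.base _* Z.presheaf).germ V x hx b := by
  obtain ⟨W, hxW, s, rfl⟩ := TopCat.Presheaf.exists_germ_eq (g.base _* Z.presheaf) c
  obtain ⟨a, haW, hxa⟩ := hV.exists_basicOpen_le (V := W ⊓ V) ⟨x, hxW, hx⟩ hx
  have haW' : X.basicOpen a ≤ W := haW.trans inf_le_left
  have haV : X.basicOpen a ≤ V := X.basicOpen_le a
  set s' : Γ(Z, g ⁻¹ᵁ (X.basicOpen a)) := (g.base _* Z.presheaf).map (homOfLE haW').op s with hs'
  have hs'' : (g.base _* Z.presheaf).germ W x hxW s =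
      (g.base _* Z.presheaf).germ (X.basicOpen a) x hxa s' :=
    (TopCat.Presheaf.germ_res_apply (g.base _* Z.presheaf) (homOfLE haW') x hxa s).symm
  have hloc := hZ.isLocalization_basicOpen (g.app V a)
  have heq : g ⁻¹ᵁ (X.basicOpen a) = Z.basicOpen (g.app V a) := Scheme.preimage_basicOpen g a
  let t : Γ(Z, Z.basicOpen (g.app V a)) := Z.presheaf.map (eqToHom heq.symm).op s'
  obtain ⟨⟨b, ⟨_, n, rfl⟩⟩, hb⟩ := IsLocalization.surj (Submonoid.powers (g.app V a)) t
  refine ⟨a ^ n, b, ?_, ?_⟩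
  · rcases Nat.eq_zero_or_pos n with rfl | hn
    · simpa [Scheme.basicOpen_one] using hx
    · rwa [Scheme.basicOpen_pow _ _ hn]
  · rw [hs'']
    have e1 : (g.base _* Z.presheaf).germ V x hx b = (g.base _* Z.presheaf).germ (X.basicOpen a) x hxa
        ((g.base _* Z.presheaf).map (homOfLE haV).op b) :=
      (TopCat.Presheaf.germ_res_apply (g.base _* Z.presheaf) (homOfLE haV) x hxa b).symm
    have e2 : (g.base _* Z.presheaf).germ V x hx (g.app V (a ^ n)) =
        (g.base _* Z.presheaf).germ (X.basicOpen a) x hxa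
        ((g.base _* Z.presheaf).map (homOfLE haV).op (g.app V (a ^ n))) :=
      (TopCat.Presheaf.germ_res_apply (g.base _* Z.presheaf) (homOfLE haV) x hxa _).symm
    rw [e1, e2, ← map_mul]
    congr 1
    have hb' := congrArg (Z.presheaf.map (eqToHom heq).op) hb
    rw [map_mul] at hb'
    have e3 : Z.presheaf.map (eqToHom heq).op t = s' := by
      change (Z.presheaf.map _ ≫ Z.presheaf.map _) s' = s'
      rw [← Functor.map_comp]
      exact (ConcreteCategory.congr_hom (Z.presheaf.map_id _) s' :)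
    rw [e3] at hb'
    have e4 : ∀ r : Γ(Z, g ⁻¹ᵁ V), Z.presheaf.map (eqToHom heq).op
        (algebraMap Γ(Z, g ⁻¹ᵁ V) Γ(Z, Z.basicOpen (g.app V a)) r) =
        (g.base _* Z.presheaf).map (homOfLE haV).op r := by
      intro r
      change (Z.presheaf.map _ ≫ Z.presheaf.map _) r = _
      rw [← Functor.map_comp]
      rfl
    rw [e4, e4] at hb'
    rw [map_pow (g.app V).hom a n]
    exact hb'

theorem str_isIntegral [IsFinite g] (x : X) : (str g x).hom.IsIntegral := by
  obtain ⟨V, hV, hx, -⟩ := exists_isAffineOpen_mem_and_subset (x := x) (U := ⊤) trivial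
  have hZ : IsAffineOpen (g ⁻¹ᵁ V) := hV.preimage g
  intro c
  obtain ⟨a, b, hxa, hab⟩ := exists_frac g x V hV hZ hx c
  have hb : (g.app V).hom.IsIntegralElem b := (IsFinite.finite_app (f := g) V hV).to_isIntegral b
  have hb' : (str g x).hom.IsIntegralElem ((g.base _* Z.presheaf).germ V x hx b) := by
    obtain ⟨p, hp, hpb⟩ := hb
    refine ⟨p.map (X.presheaf.germ V x hx).hom, hp.map _, ?_⟩
    rw [Polynomial.eval₂_map]
    have : (str g x).hom.comp (X.presheaf.germ V x hx).hom =
        ((g.base _* Z.presheaf).germ V x hx).hom.comp (g.app V).hom := by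
      ext s
      exact germ_str g x V hx s
    rw [this]
    have h2 := congrArg ((g.base _* Z.presheaf).germ V x hx).hom hpb
    rw [Polynomial.hom_eval₂, map_zero] at h2
    exact h2
  have hu : IsUnit (X.presheaf.germ V x hx a) := (X.mem_basicOpen a x hx).mp hxa
  obtain ⟨v, hv⟩ := hu
  have hc : c = (g.base _* Z.presheaf).germ V x hx b * (str g x).hom (↑v⁻¹ : X.presheaf.stalk x) := by
    rw [← hab, ← germ_str, ← hv, mul_assoc, ← map_mul, Units.mul_inv, map_one, mul_one]
  rw [hc]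
  exact hb'.mul _ (RingHom.isIntegralElem_map _)

theorem comap_can_isMaximal [IsFinite g] (x : X) (z : {z : Z // g.base z = x}) :
    (Ideal.comap (can g x z).hom (IsLocalRing.maximalIdeal (Z.presheaf.stalk z.1))).IsMaximal := by
  let _ := (str g x).hom.toAlgebra
  have : Algebra.IsIntegral (X.presheaf.stalk x) ((g.base _* Z.presheaf).stalk x) := ⟨str_isIntegral g x⟩
  have hp : (Ideal.comap (can g x z).hom (IsLocalRing.maximalIdeal (Z.presheaf.stalk z.1))).IsPrime :=
    inferInstance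
  refine Ideal.isMaximal_of_isIntegral_of_isMaximal_comap (R := X.presheaf.stalk x) _ ?_
  obtain ⟨z, rfl⟩ := z
  have h1 : Ideal.comap (algebraMap (X.presheaf.stalk (g.base z)) ((g.base _* Z.presheaf).stalk (g.base z)))
      (Ideal.comap (can g (g.base z) ⟨z, rfl⟩).hom (IsLocalRing.maximalIdeal (Z.presheaf.stalk z))) =
      IsLocalRing.maximalIdeal _ := by
    rw [Ideal.comap_comap]
    have h2 : (can g (g.base z) ⟨z, rfl⟩).hom.comp (algebraMap (X.presheaf.stalk (g.base z))
        ((g.base _* Z.presheaf).stalk (g.base z))) = (g.stalkMap z).hom := by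
      refine RingHom.ext fun t => ?_
      obtain ⟨W, hW, s, rfl⟩ := TopCat.Presheaf.exists_germ_eq X.presheaf t
      change (can g (g.base z) ⟨z, rfl⟩).hom ((str g (g.base z)).hom (X.presheaf.germ W (g.base z) hW s)) = _
      rw [germ_str, germ_can g (g.base z) ⟨z, rfl⟩ W hW hW]
      exact (Scheme.Hom.germ_stalkMap_apply g W z hW s).symm
    rw [h2]
    exact IsLocalRing.maximalIdeal_comap (g.stalkMap z).hom
  rw [h1]
  infer_instance

theorem eq_of_basicOpen {Y : Scheme.{u}} {U : Y.Opens} (hU : IsAffineOpen U) {y y' : Y}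
    (hy : y ∈ U) (hy' : y' ∈ U) (h : ∀ b : Γ(Y, U), y ∈ Y.basicOpen b ↔ y' ∈ Y.basicOpen b) : y = y' := by
  refine Inseparable.eq ?_
  rw [inseparable_iff_forall_isOpen]
  intro W hW
  constructor
  · intro hyW
    obtain ⟨b, hb, hyb⟩ := hU.exists_basicOpen_le (V := ⟨W, hW⟩) ⟨y, hyW⟩ hy
    exact hb ((h b).mp hyb)
  · intro hyW
    obtain ⟨b, hb, hyb⟩ := hU.exists_basicOpen_le (V := ⟨W, hW⟩) ⟨y', hyW⟩ hy'
    exact hb ((h b).mpr hyb)

end Aux

/-- Let g : Z ⟶ X be a finite morphism of schemes (Z is the spectrum of the finite quasi-coherent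
O_X-algebra C = g_*O_Z) and x a point of X. Then the points of Z over x correspond bijectively to
the maximal ideals of the stalk C_x = (g_*O_Z)_x: the map sending z with g(z) = x to the preimage of
the maximal ideal of O_{Z,z} under the canonical map (g_*O_Z)_x ⟶ O_{Z,z} is a bijection from the
fibre onto the set of maximal ideals. -/
theorem result {Z X : Scheme.{u}} (g : Z ⟶ X)
    [IsFinite g] (x : X) :
    Set.BijOn (fun z : {z : Z // g.base z = x} =>
        Ideal.comap (((g.base _* Z.presheaf).stalkCongr (Inseparable.of_eq z.2)).inv ≫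
            TopCat.Presheaf.stalkPushforward CommRingCat g.base Z.presheaf z.1).hom
          (IsLocalRing.maximalIdeal (Z.presheaf.stalk z.1)))
      Set.univ {I : Ideal ((g.base _* Z.presheaf).stalk x) | I.IsMaximal} := by
  obtain ⟨V, hV, hx, -⟩ := exists_isAffineOpen_mem_and_subset (x := x) (U := ⊤) trivial
  have hZ : IsAffineOpen (g ⁻¹ᵁ V) := hV.preimage g
  have key : ∀ (z : {z : Z // g.base z = x}) (b : Γ(Z, g ⁻¹ᵁ V)),
      (g.base _* Z.presheaf).germ V x hx b ∈
        Ideal.comap (can g x z).hom (IsLocalRing.maximalIdeal (Z.presheaf.stalk z.1)) ↔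
      z.1 ∉ Z.basicOpen b := by
    intro z b
    have hz : z.1 ∈ g ⁻¹ᵁ V := by
      change g.base z.1 ∈ V
      rw [z.2]; exact hx
    rw [Ideal.mem_comap, germ_can g x z V hx hz, IsLocalRing.mem_maximalIdeal, mem_nonunits_iff,
      Z.mem_basicOpen b z.1 hz]
  refine ⟨fun z _ => comap_can_isMaximal g x z, ?_, ?_⟩
  · intro z _ z' _ h
    have hz : z.1 ∈ g ⁻¹ᵁ V := by
      change g.base z.1 ∈ V
      rw [z.2]; exact hx
    have hz' : z'.1 ∈ g ⁻¹ᵁ V := by
      change g.base z'.1 ∈ V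
      rw [z'.2]; exact hx
    have h' : Ideal.comap (can g x z).hom (IsLocalRing.maximalIdeal (Z.presheaf.stalk z.1)) =
      Ideal.comap (can g x z').hom (IsLocalRing.maximalIdeal (Z.presheaf.stalk z'.1)) := h
    have hb : ∀ b : Γ(Z, g ⁻¹ᵁ V), z.1 ∈ Z.basicOpen b ↔ z'.1 ∈ Z.basicOpen b := by
      intro b
      rw [← not_iff_not, ← key z b, ← key z' b, h']
    exact Subtype.ext (eq_of_basicOpen hZ hz hz' hb)
  · intro M hM
    have hM' : M.IsMaximal := hM
    let q : Ideal Γ(Z, g ⁻¹ᵁ V) := M.comap ((g.base _* Z.presheaf).germ V x hx).hom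
    have hq : q.IsPrime := inferInstance
    let z : Z := hZ.fromSpec ⟨q, hq⟩
    have hzV : z ∈ g ⁻¹ᵁ V := (hZ.isoSpec.inv _).2
    have hzb : ∀ b : Γ(Z, g ⁻¹ᵁ V), z ∈ Z.basicOpen b ↔ b ∉ q := by
      intro b
      have := hZ.fromSpec_preimage_basicOpen b
      change (⟨q, hq⟩ : PrimeSpectrum Γ(Z, g ⁻¹ᵁ V)) ∈ hZ.fromSpec ⁻¹ᵁ Z.basicOpen b ↔ _
      rw [this]
      rfl
    let _ := (str g x).hom.toAlgebra
    have : Algebra.IsIntegral (X.presheaf.stalk x) ((g.base _* Z.presheaf).stalk x) := ⟨str_isIntegral g x⟩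
    have hcm : (Ideal.comap (algebraMap (X.presheaf.stalk x) ((g.base _* Z.presheaf).stalk x)) M).IsMaximal :=
      Ideal.isMaximal_comap_of_isIntegral_of_isMaximal M
    have hcm' := IsLocalRing.eq_maximalIdeal hcm
    have hgz : g.base z = x := by
      refine eq_of_basicOpen hV hzV hx fun a => ?_
      have e1 : g.base z ∈ X.basicOpen a ↔ z ∈ Z.basicOpen (g.app V a) := by
        rw [← Scheme.preimage_basicOpen g a]; rfl
      rw [e1, hzb]
      change ¬ ((g.base _* Z.presheaf).germ V x hx (g.app V a) ∈ M) ↔ _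
      rw [← germ_str, X.mem_basicOpen a x hx]
      have e2 : (str g x).hom (X.presheaf.germ V x hx a) ∈ M ↔
          X.presheaf.germ V x hx a ∈ IsLocalRing.maximalIdeal (X.presheaf.stalk x) := by
        rw [← hcm', Ideal.mem_comap]
        rfl
      rw [e2, IsLocalRing.mem_maximalIdeal, mem_nonunits_iff, not_not]
    refine ⟨⟨z, hgz⟩, trivial, ?_⟩
    change Ideal.comap (can g x ⟨z, hgz⟩).hom (IsLocalRing.maximalIdeal (Z.presheaf.stalk z)) = M
    have hmax := comap_can_isMaximal g x ⟨z, hgz⟩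
    refine (hM'.eq_of_le hmax.ne_top ?_).symm
    intro c hc
    obtain ⟨a, b, hxa, hab⟩ := exists_frac g x V hV hZ hx c
    have hb : (g.base _* Z.presheaf).germ V x hx b ∈ M := by
      rw [← hab]; exact M.mul_mem_right _ hc
    have hb2 : (g.base _* Z.presheaf).germ V x hx b ∈
        Ideal.comap (can g x ⟨z, hgz⟩).hom (IsLocalRing.maximalIdeal (Z.presheaf.stalk z)) := by
      rw [key ⟨z, hgz⟩ b]
      change ¬ (z ∈ Z.basicOpen b)
      rw [hzb b, not_not]
      exact hb
    rw [← hab, ← germ_str] at hb2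
    have hu : IsUnit (X.presheaf.germ V x hx a) := (X.mem_basicOpen a x hx).mp hxa
    have hu' := hu.map (str g x).hom
    exact (Ideal.mul_unit_mem_iff_mem _ hu').mp hb2

end Groth.Agent.S15547
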