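import Groth.Statements.S15548
import Groth.Agent.CalgC.ProTor2

set_option autoImplicit false
universe u
open CategoryTheory
open CAlg

namespace Groth.Agent.S15548

/-- Let R be a Noetherian commutative ring, I an ideal of R and M a finitely generated R-module. Then
for every natural number n there is m ≥ n such that the map Tor_1^R(M, R/I^m) → Tor_1^R(M, R/I^n)
induced by the projection R/I^m → R/I^n is the zero map. Here Tor_1^R(M, -) is the first left
derived functor of M ⊗_R - (derived in the second variable). -/
theorem result (R : Type u) [CommRing R] [IsNoetherianRing R] (I : Ideal R)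
    (M : Type u) [AddCommGroup M] [Module R M] [Module.Finite R M] (n : ℕ) :
    ∃ m : ℕ, n ≤ m ∧ ∀ h : I ^ m ≤ I ^ n,
      ((CategoryTheory.Tor (ModuleCat.{u} R) 1).obj (ModuleCat.of R M)).map
        (ModuleCat.ofHom (Submodule.factor h)) = 0 := by
  obtain ⟨k, π, hπ⟩ := Module.Finite.exists_fin' R M
  obtain ⟨c, hc⟩ := Ideal.exists_pow_inf_eq_pow_smul I (LinearMap.ker π)
  have hW : Groth.Agent.CalgC.ProTor2.W I c 1 M := by
    refine Groth.Agent.CalgC.ProTor2.W.one (K := LinearMap.ker π) (F := Fin k → R)
      (I := I) (LinearMap.ker π).subtype_injective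
      (LinearMap.exact_subtype_ker_map π) hπ ?_
    intro a b hab x hx
    have h1 : (x : Fin k → R) ∈ I ^ a • ⊤ ⊓ LinearMap.ker π := ⟨hx, x.2⟩
    rw [hc a (by omega)] at h1
    have h2 : I ^ (a - c) • (I ^ c • ⊤ ⊓ LinearMap.ker π) ≤
        (I ^ b • ⊤ : Submodule R (LinearMap.ker π)).map (LinearMap.ker π).subtype := by
      rw [Submodule.map_smul'', Submodule.map_top, Submodule.range_subtype]
      exact Submodule.smul_mono (Ideal.pow_le_pow_right (by omega)) inf_le_right
    obtain ⟨y, hy, hyx⟩ := h2 h1
    have : y = x := Subtype.ext hyx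
    rw [← this]
    exact hy
  refine ⟨n + c, by omega, fun h => ?_⟩
  exact hW (n + c) n le_rfl

end Groth.Agent.S15548
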