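import Groth.Statements.S15549
import Groth.Agent.LocCoh.K170.GrComp

set_option autoImplicit false
universe u
open CategoryTheory AlgebraicGeometry
open LocCoh

namespace Groth.Agent.S15549

/-- Let R be a Noetherian commutative ring, positively graded by additive subgroups R_d, with irrelevant
ideal R_+ and X = Proj R, and let M be a graded R-module which is the direct sum of its pieces M_i,
i ≥ 0 (non-negatively graded here). For every i and every m ∈ M_i, the global section of M(i)~
defined by m (the value m/1 at every point) is zero if and only if some power of R_+ annihilates m.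
Equivalently, degree by degree, the kernel of the canonical map from M to the direct sum over all n
of Γ(X, M(n)~) is the R_+-power-torsion submodule H^0_{R_+}(M). -/
theorem result {R σ : Type u} [CommRing R] [IsNoetherianRing R] [SetLike σ R] [AddSubgroupClass σ R]
    (𝒜 : ℕ → σ) [GradedRing 𝒜] {M τ : Type u} [AddCommGroup M] [Module R M] [SetLike τ M] [AddSubgroupClass τ M]
    (ℳ : ℕ → τ) [SetLike.GradedSMul 𝒜 ℳ] [DirectSum.Decomposition ℳ]
    (i : ℕ) (m : ℳ i) :
    GrMod.alpha 𝒜 ℳ i m = 0 ↔
      ∃ k : ℕ, ∀ r : R, r ∈ (HomogeneousIdeal.irrelevant 𝒜).toIdeal ^ k → r • (m : M) = 0 := by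
  constructor
  · intro h
    apply K170.GrTilde.exists_pow_irrelevant_smul (𝒜 := 𝒜) ℳ m.2
    intro x
    have h1 : LocalizedModule.mk (m : M) (1 : x.asHomogeneousIdeal.toIdeal.primeCompl) = 0 :=
      congrArg (fun s : GrMod.sect 𝒜 ℳ (i : ℤ) (Opposite.op ⊤) => (s.1 ⟨x, trivial⟩).1) h
    rw [← LocalizedModule.zero_mk 1, LocalizedModule.mk_eq] at h1
    obtain ⟨t, ht⟩ := h1
    refine ⟨t.1, t.2, ?_⟩
    simpa [Submonoid.smul_def] using ht
  · rintro ⟨k, hk⟩
    refine Subtype.ext (funext fun x => Subtype.ext ?_)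
    obtain ⟨r, hr, hrx⟩ := SetLike.not_le_iff_exists.mp x.1.not_irrelevant_le
    change LocalizedModule.mk (m : M) (1 : x.1.asHomogeneousIdeal.toIdeal.primeCompl) = 0
    rw [← LocalizedModule.zero_mk 1, LocalizedModule.mk_eq]
    refine ⟨⟨r ^ k, fun h => hrx (x.1.isPrime.mem_of_pow_mem k h)⟩, ?_⟩
    have := hk (r ^ k) (Ideal.pow_mem_pow hr k)
    simpa [Submonoid.smul_def] using this

end Groth.Agent.S15549
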