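import Groth.Statements.S15551
import Groth.Agent.S0246
import Groth.Agent.Pi1.H419.HypConn
import Groth.Agent.Ega1.AmpFam
import Groth.Agent.Sga5.AmpleFib
import Groth.Agent.Sga3C.DimTop

set_option autoImplicit false
universe u
open CategoryTheory CategoryTheory.Limits AlgebraicGeometry
open Pi1

namespace Groth.Agent.S15551

theorem aux (k : Type u) [Field k] {X Z : Scheme.{u}} (f : X ⟶ Spec (CommRingCat.of k)) [IsProper f]
    [AlgebraicGeometry.IsIntegral X] (hdim : (2 : WithBot ℕ∞) ≤ topologicalKrullDim X)
    (L : X.Modules) (hL : CohB1.IsAmple L) (s : Coh.structureModule X ⟶ L)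
    (h : Z ⟶ X) [AlgebraicGeometry.IsFinite h] [Etale h] [AlgebraicGeometry.IsIntegral Z]
    (hZn : Pi1.IsNormalScheme Z) :
    ConnectedSpace ↥(pullback h (PicF2.zeroScheme L s).subschemeι) := by
  have hsurj : Surjective h := by
    have hopen : IsOpen (Set.range h) := h.isOpenMap.isOpen_range
    have hclosed : IsClosed (Set.range h) := h.isClosedMap.isClosed_range
    have hne : (Set.range h).Nonempty := Set.range_nonempty _
    have : Set.range h = Set.univ := IsClopen.eq_univ ⟨hclosed, hopen⟩ hne
    exact ⟨Set.range_eq_univ.mp this⟩
  have hdimY : (2 : WithBot ℕ∞) ≤ topologicalKrullDim Z := by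
    rw [Groth.Agent.Sga3C.DimTop.topologicalKrullDim_eq_of_isIntegralHom h]
    exact hdim
  have hamp := Groth.Agent.Sga5.AmpleFib.isAmple_pullback h hL
  have hconn := Groth.Agent.Pi1.H419.HypConn.isConnected_compl_genLocus (h ≫ f) hZn hdimY hamp
    (Groth.Agent.Fdesc.LocGen.pullHom h s)
  rw [Groth.Agent.Ega1.AmpFam.genLocus_pullHom h hL.1 s] at hconn
  have hrange : Set.range (pullback.fst h (PicF2.zeroScheme L s).subschemeι) =
      ((h ⁻¹ᵁ CohB1.genLocus L s : Z.Opens) : Set Z)ᶜ := by
    rw [Scheme.Pullback.range_fst, Scheme.IdealSheafData.range_subschemeι,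
      Groth.Agent.Pi1C.LefFinal.support_eq hL.1 s]
    rfl
  have e : ↥(pullback h (PicF2.zeroScheme L s).subschemeι) ≃ₜ
      Set.range (pullback.fst h (PicF2.zeroScheme L s).subschemeι) :=
    (pullback.fst h (PicF2.zeroScheme L s).subschemeι).isClosedEmbedding.isEmbedding.toHomeomorph
  have h1 : ConnectedSpace (Set.range (pullback.fst h (PicF2.zeroScheme L s).subschemeι)) := by
    rw [hrange]
    exact isConnected_iff_connectedSpace.mp hconn
  exact e.symm.surjective.connectedSpace e.symm.continuous


/-- Let k be an algebraically closed field and X an integral normal scheme (all local rings integrally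
closed domains), proper over k and of dimension at least 2, with an ample invertible module L; let s
be a nonzero global section of L, given as a monomorphism O_X → L, and D = Z(s) ⊆ X its zero scheme
(the support of an effective ample divisor). Then for every finite étale cover Y → X with Y
connected, the fibre product Y ×_X D is connected. This is the statement that the étale fundamental
group of D maps onto that of X. (The published statement takes X projective over k; this row takes X
proper over k with an ample invertible module, which is equivalent.) -/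
theorem result (k : Type u) [Field k] [IsAlgClosed k]
    (X : Scheme.{u}) (f : X ⟶ Spec (CommRingCat.of k)) [IsProper f] [IsIntegral X] (hN : Pi1.IsNormalScheme X)
    (hdim : (2 : WithBot ℕ∞) ≤ topologicalKrullDim X)
    (L : X.Modules) (hL : CohB1.IsAmple L) (s : Coh.structureModule X ⟶ L) (hs : Mono s)
    (Y : FEt.Cat X) [ConnectedSpace Y.left] :
    ConnectedSpace ↥(pullback Y.hom (PicF2.zeroScheme L s).subschemeι) := by
  obtain ⟨hYi, hYn⟩ := Groth.Agent.S0246.result hN Y
  have hfin : AlgebraicGeometry.IsFinite Y.hom := Y.prop.1
  have het : Etale Y.hom := Y.prop.2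
  exact aux (Z := Y.left) k f hdim L hL s Y.hom hYn

end Groth.Agent.S15551
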