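import Groth.Statements.S15555
import Mathlib.FieldTheory.Finite.Basic
import Mathlib.RingTheory.Smooth.Basic
import Mathlib.RingTheory.RingHom.Smooth
import Mathlib.RingTheory.Polynomial.Basic
import Mathlib.RingTheory.Nakayama
import Mathlib.RingTheory.Localization.AtPrime.Basic
import Mathlib.Tactic.LinearCombination
import Mathlib.Tactic.FieldSimp

set_option autoImplicit false
universe u
open CategoryTheory AlgebraicGeometry
open Zeta

namespace Groth.Agent.S15555

section aux

open MvPolynomial

variable {k : Type u} [Field k] [Fintype k] {n : ℕ}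

lemma nilp {R : Type*} [CommRing R] (I : Ideal R) (h : ∀ a ∈ I, ∀ b ∈ I, a * b = 0) :
    IsNilpotent I := by
  refine ⟨2, ?_⟩
  rw [pow_two, Ideal.zero_eq_bot, eq_bot_iff, Ideal.mul_le]
  intro a ha b hb
  rw [Ideal.mem_bot]
  exact h a ha b hb

/-- lifting an `S`-point of `S/J`, invertible at `x`, when `(S/J)[1/x]` is smooth -/
lemma exists_lift {k S : Type u} [CommRing k] [CommRing S] [Algebra k S] (J : Ideal S) (x : S)
    [Algebra.FormallySmooth k (Localization.Away (Ideal.Quotient.mk J x))]
    {B C : Type u} [CommRing B] [CommRing C] [Algebra k B] [Algebra k C] (g : B →ₐ[k] C)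
    (hg : Function.Surjective g) (hnil : IsNilpotent (RingHom.ker (g : B →+* C)))
    (φ0 : S →ₐ[k] C) (hφ0 : ∀ a ∈ J, φ0 a = 0) (hu : IsUnit (φ0 x)) :
    ∃ ψ : S →ₐ[k] B, (∀ a ∈ J, ψ a = 0) ∧ ∀ s, g (ψ s) = φ0 s := by
  let φ1 : (S ⧸ J) →ₐ[k] C := Ideal.Quotient.liftₐ J φ0 hφ0
  have hu1 : IsUnit ((φ1 : (S ⧸ J) →+* C) (Ideal.Quotient.mk J x)) := hu
  let φr : Localization.Away (Ideal.Quotient.mk J x) →+* C := IsLocalization.Away.lift _ hu1
  have hφr : ∀ x', φr (algebraMap (S ⧸ J) _ x') = φ1 x' := fun x' =>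
    IsLocalization.Away.lift_eq _ hu1 x'
  let φ : Localization.Away (Ideal.Quotient.mk J x) →ₐ[k] C := AlgHom.mk φr (fun r => by
    change φr _ = _
    rw [IsScalarTower.algebraMap_apply k (S ⧸ J) (Localization.Away (Ideal.Quotient.mk J x)),
      hφr, AlgHom.commutes])
  let ψ := Algebra.FormallySmooth.liftOfSurjective φ g hg hnil
  have hψ : ∀ x, g (ψ x) = φ x := Algebra.FormallySmooth.liftOfSurjective_apply φ g hg hnil
  refine ⟨ψ.comp ((IsScalarTower.toAlgHom k (S ⧸ J) _).comp (Ideal.Quotient.mkₐ k J)), ?_, ?_⟩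
  · intro a ha
    change ψ (algebraMap (S ⧸ J) _ (Ideal.Quotient.mk J a)) = 0
    rw [Ideal.Quotient.eq_zero_iff_mem.mpr ha, map_zero, map_zero]
  · intro s
    change g (ψ (algebraMap (S ⧸ J) _ (Ideal.Quotient.mk J s))) = _
    rw [hψ]
    exact hφr _

/-- the form `F` evaluated at a point with values in a `k`-algebra -/
noncomputable def ff (D : Type*) [CommRing D] (q : ℕ) (z : Fin (n + 1) ⊕ Fin (n + 1) → D) : D :=
  ∑ i : Fin (n + 1), (z (Sum.inl i) * z (Sum.inr i) ^ q - z (Sum.inr i) * z (Sum.inl i) ^ q)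

lemma frob_add (D : Type*) [CommRing D] [Algebra k D] (a b : D) :
    (a + b) ^ Fintype.card k = a ^ Fintype.card k + b ^ Fintype.card k := by
  have := map_add (FiniteField.frobeniusAlgHom k D) a b
  simpa [FiniteField.coe_frobeniusAlgHom] using this

lemma frob_alg (D : Type*) [CommRing D] [Algebra k D] (a : k) :
    (algebraMap k D a) ^ Fintype.card k = algebraMap k D a := by
  rw [← map_pow, FiniteField.pow_card]

/-- the tangency point -/
def pt (c : Fin (n + 1) ⊕ Fin (n + 1) → k) : Fin (n + 1) ⊕ Fin (n + 1) → k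
  | Sum.inl i => - c (Sum.inr i)
  | Sum.inr i => c (Sum.inl i)

omit [Fintype k] in
lemma sum_pt (c : Fin (n + 1) ⊕ Fin (n + 1) → k) : ∑ v, c v * pt c v = 0 := by
  rw [Fintype.sum_sum_type, ← Finset.sum_add_distrib]
  refine Finset.sum_eq_zero fun i _ => ?_
  simp only [pt]; ring

lemma ff_pt (c : Fin (n + 1) ⊕ Fin (n + 1) → k) : ff k (Fintype.card k) (pt c) = 0 := by
  refine Finset.sum_eq_zero fun i _ => ?_
  rw [FiniteField.pow_card, FiniteField.pow_card]; ring

/-- expansion at the tangency point -/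
lemma ff_add (D : Type*) [CommRing D] [Algebra k D] (c : Fin (n + 1) ⊕ Fin (n + 1) → k)
    (V : Fin (n + 1) ⊕ Fin (n + 1) → D) (hV : ∑ v, algebraMap k D (c v) * V v = 0) :
    ff D (Fintype.card k) (fun v => algebraMap k D (pt c v) + V v) = ff D (Fintype.card k) V := by
  have h1 : ∑ v, algebraMap k D (c v) * V v ^ Fintype.card k = 0 := by
    have := congrArg (FiniteField.frobeniusAlgHom k D) hV
    rw [map_sum, map_zero] at this
    rw [← this]
    refine Finset.sum_congr rfl fun v _ => ?_
    simp [mul_pow, frob_alg]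
  rw [Fintype.sum_sum_type, ← Finset.sum_add_distrib] at hV h1
  have h2 : ff D (Fintype.card k) (fun v => algebraMap k D (pt c v) + V v)
      = ff D (Fintype.card k) V
        + ∑ i : Fin (n + 1), (algebraMap k D (c (Sum.inl i)) * V (Sum.inl i)
            + algebraMap k D (c (Sum.inr i)) * V (Sum.inr i))
        - ∑ i : Fin (n + 1), (algebraMap k D (c (Sum.inl i)) * V (Sum.inl i) ^ Fintype.card k
            + algebraMap k D (c (Sum.inr i)) * V (Sum.inr i) ^ Fintype.card k) := by
    unfold ff
    rw [← Finset.sum_add_distrib, ← Finset.sum_sub_distrib]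
    refine Finset.sum_congr rfl fun i _ => ?_
    simp only [frob_add, frob_alg, pt, map_neg]
    have h3 : (-(algebraMap k D (c (Sum.inr i)))) ^ Fintype.card k
        = -(algebraMap k D (c (Sum.inr i))) := by
      rw [← map_neg, frob_alg]
    rw [h3]
    ring
  rw [h2, hV, h1]; ring

/-- infinitesimal version: if the ideal `I` has square zero, is killed by `z v - P v`, and
`δ v ∈ I` then `F (z + δ) - L (z + δ) = F z - L z`. -/
lemma ff_inf (B : Type*) [CommRing B] [Algebra k B] (c : Fin (n + 1) ⊕ Fin (n + 1) → k)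
    (z δ : Fin (n + 1) ⊕ Fin (n + 1) → B) (h2 : ∀ v, δ v * δ v = 0)
    (hz : ∀ v w, (z v - algebraMap k B (pt c v)) * δ w = 0) :
    ff B (Fintype.card k) (fun v => z v + δ v) - ∑ v, algebraMap k B (c v) * (z v + δ v)
      = ff B (Fintype.card k) z - ∑ v, algebraMap k B (c v) * z v := by
  have hq : 2 ≤ Fintype.card k := Fintype.one_lt_card
  have hδ : ∀ v, δ v ^ Fintype.card k = 0 := fun v => by
    obtain ⟨m, hm⟩ := Nat.exists_eq_add_of_le hq
    rw [hm, pow_add, pow_two, h2, zero_mul]
  have hzq : ∀ v w, z v ^ Fintype.card k * δ w = algebraMap k B (pt c v) * δ w := fun v w => by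
    have e : z v = algebraMap k B (pt c v) + (z v - algebraMap k B (pt c v)) := by ring
    rw [e, frob_add, frob_alg, add_mul]
    have : (z v - algebraMap k B (pt c v)) ^ Fintype.card k * δ w = 0 := by
      obtain ⟨m, hm⟩ := Nat.exists_eq_add_of_le (show 1 ≤ Fintype.card k by omega)
      rw [hm, pow_add, pow_one, mul_comm (z v - _), mul_assoc, hz, mul_zero]
    rw [this]; ring
  rw [Fintype.sum_sum_type, Fintype.sum_sum_type, ← Finset.sum_add_distrib,
    ← Finset.sum_add_distrib]
  unfold ff
  rw [← Finset.sum_sub_distrib, ← Finset.sum_sub_distrib]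
  refine Finset.sum_congr rfl fun i _ => ?_
  rw [frob_add, frob_add, hδ, hδ]
  have e1 := hzq (Sum.inr i) (Sum.inl i)
  have e2 := hzq (Sum.inl i) (Sum.inr i)
  simp only [pt, map_neg] at e1 e2
  linear_combination e1 - e2

/-- a point on the hyperplane, near the tangency point, outside the hypersurface -/
lemma exists_pt (hn : 1 ≤ n) (c : Fin (n + 1) ⊕ Fin (n + 1) → k) (hc : c ≠ 0) :
    ∃ V : Fin (n + 1) ⊕ Fin (n + 1) → Polynomial (Polynomial k),
      ∑ v, algebraMap k _ (c v) * V v = 0 ∧
      ff (Polynomial (Polynomial k)) (Fintype.card k) V ≠ 0 ∧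
      ∀ v, Polynomial.eval 0 (Polynomial.eval 0 (V v)) = 0 := by
  classical
  obtain ⟨v0, hv0⟩ : ∃ v, c v ≠ 0 := by
    by_contra h
    push Not at h
    exact hc (funext h)
  have hq : 2 ≤ Fintype.card k := Fintype.one_lt_card
  -- the index of the pair of `v0`
  let i0 : Fin (n + 1) := v0.elim id id
  have : Nontrivial (Fin (n + 1)) := Fin.nontrivial_iff_two_le.mpr (by omega)
  obtain ⟨i1, hi1⟩ := exists_ne i0
  let s : Polynomial (Polynomial k) := Polynomial.X
  let t : Polynomial (Polynomial k) := Polynomial.C Polynomial.X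
  let r : Polynomial (Polynomial k) :=
    algebraMap k _ (-(c v0)⁻¹) * (algebraMap k _ (c (Sum.inl i1)) * s
      + algebraMap k _ (c (Sum.inr i1)) * t)
  let V : Fin (n + 1) ⊕ Fin (n + 1) → Polynomial (Polynomial k) := fun v =>
    (if v = Sum.inl i1 then s else 0) + (if v = Sum.inr i1 then t else 0) + (if v = v0 then r else 0)
  have h10 : Sum.inl i1 ≠ v0 := by
    rintro rfl
    exact hi1 rfl
  have h11 : Sum.inr i1 ≠ v0 := by
    rintro rfl
    exact hi1 rfl
  refine ⟨V, ?_, ?_, ?_⟩
  · simp only [V, mul_add, Finset.sum_add_distrib, mul_ite, mul_zero, Finset.sum_ite_eq',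
      Finset.mem_univ, if_true, r]
    have : algebraMap k (Polynomial (Polynomial k)) (c v0) *
        algebraMap k (Polynomial (Polynomial k)) (-(c v0)⁻¹) = -1 := by
      rw [← map_mul]
      have : c v0 * -(c v0)⁻¹ = -1 := by field_simp
      rw [this, map_neg, map_one]
    linear_combination (algebraMap k (Polynomial (Polynomial k)) (c (Sum.inl i1)) * s +
      algebraMap k (Polynomial (Polynomial k)) (c (Sum.inr i1)) * t) * this
  · have e : ff (Polynomial (Polynomial k)) (Fintype.card k) V
        = s * t ^ Fintype.card k - t * s ^ Fintype.card k := by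
      unfold ff
      rw [Finset.sum_eq_single i1]
      · simp [V, h10, h11]
      · intro i _ hi
        have a1 : V (Sum.inl i) = if Sum.inl i = v0 then r else 0 := by
          simp [V, hi]
        have a2 : V (Sum.inr i) = if Sum.inr i = v0 then r else 0 := by
          simp [V, hi]
        rw [a1, a2]
        by_cases b1 : Sum.inl i = v0
        · have b2 : Sum.inr i ≠ v0 := by rw [← b1]; simp
          rw [if_neg b2, zero_pow (by omega)]; ring
        · rw [if_neg b1, zero_pow (by omega)]; ring
      · intro h; exact absurd (Finset.mem_univ _) h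
    rw [e]
    intro h0
    have := congrArg (fun p => Polynomial.coeff p 1) h0
    simp only [s, t, Polynomial.coeff_sub, Polynomial.coeff_zero, ← Polynomial.C_pow] at this
    have e1 : (Polynomial.X * Polynomial.C ((Polynomial.X : Polynomial k) ^ Fintype.card k) :
        Polynomial (Polynomial k)).coeff 1 = Polynomial.X ^ Fintype.card k := by
      rw [Polynomial.coeff_X_mul, Polynomial.coeff_C_zero]
    have e2 : (Polynomial.C (Polynomial.X : Polynomial k) * Polynomial.X ^ Fintype.card k :
        Polynomial (Polynomial k)).coeff 1 = 0 := by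
      rw [Polynomial.coeff_C_mul, Polynomial.coeff_X_pow, if_neg (by omega), mul_zero]
    rw [e1, e2, sub_zero] at this
    exact pow_ne_zero _ Polynomial.X_ne_zero this
  · intro v
    simp only [V, r, s, t]
    split_ifs <;> simp

/-- the local computation at the tangency point, for any ring with elements `X v` -/
lemma core {S : Type u} [CommRing S] [Algebra k S] [IsNoetherianRing S]
    (X : Fin (n + 1) ⊕ Fin (n + 1) → S) (c : Fin (n + 1) ⊕ Fin (n + 1) → k) (F L : S)
    (hF : F = ff S (Fintype.card k) X) (hL : L = ∑ v, algebraMap k S (c v) * X v)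
    (ev : S →ₐ[k] k) (hev : ∀ v, ev (X v) = pt c v) (w : Fin (n + 1) ⊕ Fin (n + 1))
    (hw : pt c w ≠ 0)
    [Algebra.FormallySmooth k
      (Localization.Away (Ideal.Quotient.mk (Ideal.span {F, L}) (X w)))] :
    ∃ s a : S, ev s ≠ 0 ∧ s * F = a * L := by
  classical
  have evF : ev F = 0 := by
    have := ff_pt c
    simp only [ff] at this
    simp only [hF, ff, map_sum, map_sub, map_mul, map_pow, hev]
    exact this
  have evL : ev L = 0 := by
    have := sum_pt c
    simp only [hL, map_sum, map_mul, hev, AlgHom.commutes]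
    exact this
  have hmax : (RingHom.ker ev).IsMaximal := RingHom.ker_isMaximal_of_surjective _ (fun a =>
    ⟨algebraMap k S a, ev.commutes a⟩)
  have hpr : (RingHom.ker ev).IsPrime := hmax.isPrime
  obtain ⟨m, hm⟩ : ∃ m : Ideal S, m = RingHom.ker ev := ⟨_, rfl⟩
  rw [← hm] at hmax hpr
  have hmem : ∀ a : S, a ∈ m ↔ ev a = 0 := fun a => by rw [hm]; exact Iff.rfl
  obtain ⟨J, hJ⟩ : ∃ J : Ideal S, J = Ideal.span {F, L} := ⟨_, rfl⟩
  have hJm : J ≤ m := by
    rw [hJ, Ideal.span_le]
    rintro x (rfl | rfl)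
    · exact (hmem _).2 evF
    · exact (hmem _).2 evL
  have hmA : IsLocalRing.maximalIdeal (Localization.AtPrime m)
      = m.map (algebraMap S (Localization.AtPrime m)) :=
    (Localization.AtPrime.map_eq_maximalIdeal).symm
  obtain ⟨JA, hJA'⟩ : ∃ JA : Ideal (Localization.AtPrime m),
    JA = J.map (algebraMap S (Localization.AtPrime m)) := ⟨_, rfl⟩
  obtain ⟨mA, hmA'⟩ : ∃ mA : Ideal (Localization.AtPrime m),
    mA = IsLocalRing.maximalIdeal (Localization.AtPrime m) := ⟨_, rfl⟩
  rw [← hmA'] at hmA
  have hJA : JA ≤ mA := by rw [hmA, hJA']; exact Ideal.map_mono hJm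
  let g : (Localization.AtPrime m ⧸ (mA * JA)) →ₐ[k] (Localization.AtPrime m ⧸ JA) :=
    Ideal.Quotient.factorₐ k Ideal.mul_le_right
  have hg : Function.Surjective g := by
    intro x
    obtain ⟨y, rfl⟩ := Ideal.Quotient.mk_surjective x
    exact ⟨Ideal.Quotient.mk _ y, rfl⟩
  have hgk : ∀ x : Localization.AtPrime m, g (Ideal.Quotient.mk _ x) = 0 → x ∈ JA :=
    fun x hx => Ideal.Quotient.eq_zero_iff_mem.mp hx
  have hker : ∀ (x : Localization.AtPrime m) (b : Localization.AtPrime m ⧸ (mA * JA)),
      x ∈ mA → g b = 0 → (Ideal.Quotient.mk (mA * JA) x) * b = 0 := by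
    intro x b hx hb
    obtain ⟨y, rfl⟩ := Ideal.Quotient.mk_surjective b
    rw [← map_mul, Ideal.Quotient.eq_zero_iff_mem]
    exact Ideal.mul_mem_mul hx (hgk y hb)
  have hker2 : ∀ (a b : Localization.AtPrime m ⧸ (mA * JA)), g a = 0 → g b = 0 → a * b = 0 := by
    intro a b ha hb
    obtain ⟨y, rfl⟩ := Ideal.Quotient.mk_surjective a
    exact hker y b (hJA (hgk y ha)) hb
  have hnil : IsNilpotent (RingHom.ker (g : (Localization.AtPrime m ⧸ (mA * JA)) →+*
      (Localization.AtPrime m ⧸ JA))) :=
    nilp _ (fun a ha b hb => hker2 a b ha hb)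
  let φ0 : S →ₐ[k] (Localization.AtPrime m ⧸ JA) :=
    (Ideal.Quotient.mkₐ k JA).comp (IsScalarTower.toAlgHom k S (Localization.AtPrime m))
  have hφ0' : ∀ a, φ0 a = Ideal.Quotient.mk JA (algebraMap S (Localization.AtPrime m) a) :=
    fun a => rfl
  have hφ0 : ∀ a ∈ Ideal.span {F, L}, φ0 a = 0 := fun a ha => by
    rw [hφ0', Ideal.Quotient.eq_zero_iff_mem, hJA', hJ]
    exact Ideal.mem_map_of_mem _ ha
  have hu : IsUnit (φ0 (X w)) := by
    rw [hφ0']
    refine IsUnit.map _ ?_
    refine IsLocalization.map_units (Localization.AtPrime m) (⟨X w, ?_⟩ : m.primeCompl)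
    intro h
    exact hw ((hev w).symm.trans ((hmem _).1 h))
  obtain ⟨θ, hθJ, hθ0⟩ := exists_lift (Ideal.span {F, L}) (X w) g hg hnil φ0 hφ0 hu
  obtain ⟨z, hz⟩ : ∃ z : Fin (n + 1) ⊕ Fin (n + 1) → (Localization.AtPrime m ⧸ (mA * JA)),
    z = fun v => Ideal.Quotient.mk _ (algebraMap S (Localization.AtPrime m) (X v)) := ⟨_, rfl⟩
  obtain ⟨δ, hδ'⟩ : ∃ δ : Fin (n + 1) ⊕ Fin (n + 1) → (Localization.AtPrime m ⧸ (mA * JA)),
    δ = fun v => θ (X v) - z v := ⟨_, rfl⟩
  have hδ : ∀ v, g (δ v) = 0 := fun v => by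
    rw [hδ']
    simp only
    rw [map_sub, hθ0, sub_eq_zero, hz]
    rfl
  have hzδ : ∀ v, z v + δ v = θ (X v) := fun v => by simp [hδ']
  have rF : ff _ (Fintype.card k) (fun v => z v + δ v) = 0 := by
    have h1 : θ F = 0 := hθJ F (Ideal.subset_span (by simp))
    rw [← h1]
    simp only [hF, map_sum, map_sub, map_mul, map_pow, ff, hzδ]
  have rL : ∑ v, algebraMap k _ (c v) * (z v + δ v) = 0 := by
    have h1 : θ L = 0 := hθJ L (Ideal.subset_span (by simp))
    rw [← h1]
    simp only [hL, map_sum, map_mul, AlgHom.commutes, hzδ]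
  have key := ff_inf _ c z δ (fun v => hker2 _ _ (hδ v) (hδ v)) (fun v w' => by
    have : z v - algebraMap k _ (pt c v) = Ideal.Quotient.mk (mA * JA)
        (algebraMap S (Localization.AtPrime m) (X v - algebraMap k S (pt c v))) := by
      rw [map_sub, map_sub, hz]
      rfl
    rw [this]
    refine hker _ _ ?_ (hδ w')
    rw [hmA]
    refine Ideal.mem_map_of_mem _ ?_
    rw [hmem, map_sub, hev, AlgHom.commutes]
    exact sub_self _)
  rw [rF, rL, sub_zero] at key
  have hFL : algebraMap S (Localization.AtPrime m) F - algebraMap S (Localization.AtPrime m) L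
      ∈ mA * JA := by
    rw [← Ideal.Quotient.eq_zero_iff_mem, map_sub]
    rw [key]
    have e1 : Ideal.Quotient.mk (mA * JA) (algebraMap S (Localization.AtPrime m) F)
        = ff _ (Fintype.card k) z := by
      simp only [hF, map_sum, map_sub, map_mul, map_pow, ff, hz]
    have e2 : Ideal.Quotient.mk (mA * JA) (algebraMap S (Localization.AtPrime m) L)
        = ∑ v, algebraMap k _ (c v) * z v := by
      simp only [hL, map_sum, map_mul, hz]
      rfl
    rw [e1, e2]
  have hJAle : ∀ K : Ideal (Localization.AtPrime m), algebraMap S _ F ∈ K →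
      algebraMap S _ L ∈ K → JA ≤ K := by
    intro K h1 h2
    rw [hJA', Ideal.map_le_iff_le_comap, hJ, Ideal.span_le]
    rintro x (rfl | rfl)
    · exact h1
    · exact h2
  have hle : JA ≤ Ideal.span {algebraMap S (Localization.AtPrime m) L} := by
    refine Submodule.le_of_le_smul_of_le_jacobson_bot (I := mA) (IsNoetherian.noetherian _)
      (by rw [hmA']; exact IsLocalRing.maximalIdeal_le_jacobson _) ?_
    refine hJAle _ ?_ ?_
    · have : algebraMap S (Localization.AtPrime m) F = algebraMap S (Localization.AtPrime m) L +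
        (algebraMap S (Localization.AtPrime m) F - algebraMap S (Localization.AtPrime m) L) := by
        ring
      rw [this]
      exact Submodule.add_mem_sup (Ideal.mem_span_singleton_self _) hFL
    · exact Submodule.mem_sup_left (Ideal.mem_span_singleton_self _)
  have hF' : algebraMap S (Localization.AtPrime m) F ∈
      Ideal.span {algebraMap S (Localization.AtPrime m) L} :=
    hle (by rw [hJA', hJ]; exact Ideal.mem_map_of_mem _ (Ideal.subset_span (by simp)))
  obtain ⟨a, ha⟩ := Ideal.mem_span_singleton'.mp hF'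
  obtain ⟨⟨a0, s⟩, hs⟩ := IsLocalization.surj m.primeCompl a
  have e : algebraMap S (Localization.AtPrime m) (s * F)
      = algebraMap S (Localization.AtPrime m) (a0 * L) := by
    rw [map_mul, map_mul, ← hs, ← ha]
    ring
  obtain ⟨d, hd⟩ := (IsLocalization.eq_iff_exists m.primeCompl _).mp e
  refine ⟨d * s, d * a0, ?_, ?_⟩
  · rw [map_mul]
    refine mul_ne_zero ?_ ?_
    · exact fun h => d.2 ((hmem _).2 h)
    · exact fun h => s.2 ((hmem _).2 h)
  · rw [mul_assoc, mul_assoc]; exact hd

end aux


/-- Let k be a finite field with q elements and n ≥ 1 a natural number; in the 2n + 2 variables X_0, …,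
X_n, Y_0, …, Y_n (indexed by Fin (n+1) ⊕ Fin (n+1), the left summand carrying the X_i) let F = Σ_i
(X_i Y_i^q − Y_i X_i^q), a form of degree q + 1 defining the hypersurface Hyp ⊂ P^{2n+1}_k. Then no
hyperplane of P^{2n+1}_k defined over k meets Hyp transversally: for every linear form L = Σ_v c_v
x_v with a nonzero coefficient vector c over k, the scheme-theoretic intersection Hyp ∩ (L = 0) ⊂
P^{2n+1}_k is not smooth over k. The intersection is presented through the standard open pieces of
its affine cone: with R = k[X, Y]/(F, L), the piece x_w ≠ 0 of the cone Spec R is (Hyp ∩ (L = 0) ∩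
D₊(x_w)) × 𝔾_m, so Hyp ∩ (L = 0) is smooth over k exactly when every localisation R[1/x_w] is a
smooth k-algebra, and the row states that not all of them are. (The published example is stated for
every n ≥ 0; for n = 0 the hypersurface is the set of the q + 1 rational points of P^1_k, it
contains every rational point H, and Hyp ∩ H = H is a reduced point, smooth over k; so this row
takes n ≥ 1, where no rational hyperplane is contained in Hyp and each one is tangent to Hyp at a
rational point, at which the intersection is singular.) -/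
theorem result (k : Type u) [Field k] [Fintype k] (n : ℕ) (hn : 1 ≤ n)
    (F L : MvPolynomial (Fin (n + 1) ⊕ Fin (n + 1)) k)
    (hF : F = ∑ i : Fin (n + 1), (MvPolynomial.X (Sum.inl i) * MvPolynomial.X (Sum.inr i) ^ Fintype.card k -
      MvPolynomial.X (Sum.inr i) * MvPolynomial.X (Sum.inl i) ^ Fintype.card k))
    (c : Fin (n + 1) ⊕ Fin (n + 1) → k) (hc : c ≠ 0)
    (hL : L = ∑ v, MvPolynomial.C (c v) * MvPolynomial.X v) :
    ¬ ∀ w : Fin (n + 1) ⊕ Fin (n + 1),
      Smooth (Spec.map (CommRingCat.ofHom (algebraMap k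
        (Localization.Away (Ideal.Quotient.mk (Ideal.span {F, L}) (MvPolynomial.X w)))))) := by
  classical
  intro hsm
  -- the tangency point has a nonzero coordinate `w`
  obtain ⟨w, hw⟩ : ∃ w, pt c w ≠ 0 := by
    by_contra h
    push Not at h
    apply hc
    funext v
    rcases v with i | i
    · exact h (Sum.inr i)
    · have := h (Sum.inl i)
      simpa [pt] using this
  specialize hsm w
  have hsm' : Algebra.Smooth k (Localization.Away
      (Ideal.Quotient.mk (Ideal.span {F, L}) (MvPolynomial.X w))) := by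
    have := (HasRingHomProperty.Spec_iff (P := @Smooth)).mp hsm
    rw [CommRingCat.hom_ofHom] at this
    exact RingHom.smooth_algebraMap.mp this
  have : Algebra.FormallySmooth k (Localization.Away
      (Ideal.Quotient.mk (Ideal.span {F, L}) (MvPolynomial.X w))) := hsm'.formallySmooth
  obtain ⟨s, a, hs, hsF⟩ := core (fun v => MvPolynomial.X v) c F L (by rw [hF]; rfl)
    (by rw [hL]; rfl) (MvPolynomial.aeval (pt c)) (fun v => MvPolynomial.aeval_X _ _) w hw
  obtain ⟨V, hV1, hV2, hV3⟩ := exists_pt hn c hc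
  obtain ⟨Φ, hΦ⟩ : ∃ Φ : MvPolynomial (Fin (n + 1) ⊕ Fin (n + 1)) k →ₐ[k]
      Polynomial (Polynomial k), Φ = MvPolynomial.aeval (fun v => algebraMap k _ (pt c v) + V v) :=
    ⟨_, rfl⟩
  have ΦX : ∀ v, Φ (MvPolynomial.X v) = algebraMap k _ (pt c v) + V v :=
    fun v => by rw [hΦ]; exact MvPolynomial.aeval_X _ _
  have ΦC : ∀ a, Φ (MvPolynomial.C a) = algebraMap k _ a := fun a => Φ.commutes a
  have hΦL : Φ L = 0 := by
    simp only [hL, map_sum, map_mul, ΦX, ΦC, mul_add,
      Finset.sum_add_distrib, hV1, add_zero]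
    rw [← map_zero (algebraMap k (Polynomial (Polynomial k))), ← sum_pt c, map_sum]
    simp only [map_mul]
  have hΦF : Φ F = ff (Polynomial (Polynomial k)) (Fintype.card k) V := by
    rw [← ff_add _ c V hV1]
    simp only [hF, map_sum, map_sub, map_mul, map_pow, ΦX, ff]
  have hΦs : Φ s ≠ 0 := by
    intro h0
    apply hs
    have e : ((Polynomial.evalRingHom (0 : k)).comp
        ((Polynomial.evalRingHom (0 : Polynomial k)).comp (Φ : _ →+* _)))
          = (MvPolynomial.aeval (pt c) : _ →ₐ[k] k).toRingHom := by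
      apply MvPolynomial.ringHom_ext
      · intro r
        change Polynomial.eval 0 (Polynomial.eval 0 (Φ (MvPolynomial.C r)))
          = MvPolynomial.aeval (pt c) (MvPolynomial.C r)
        rw [ΦC, MvPolynomial.aeval_C]
        simp
      · intro v
        change Polynomial.eval 0 (Polynomial.eval 0 (Φ (MvPolynomial.X v)))
          = MvPolynomial.aeval (pt c) (MvPolynomial.X v)
        rw [ΦX, MvPolynomial.aeval_X]
        simp [hV3 v]
    have e2 := congrArg (fun f => f s) e
    change Polynomial.eval 0 (Polynomial.eval 0 (Φ s)) = MvPolynomial.aeval (pt c) s at e2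
    rw [← e2, h0]; simp
  have := congrArg Φ hsF
  rw [map_mul, map_mul, hΦL, mul_zero, hΦF] at this
  rcases mul_eq_zero.mp this with h | h
  · exact hΦs h
  · exact hV2 h

end Groth.Agent.S15555
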