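import Groth.Statements.S15556
import Groth.Agent.Cyc.K309.Base
import Groth.Agent.CycB.FiniteFlat
import Groth.Agent.Pi1B.PurInsepSpec
import Groth.Agent.S1868

set_option autoImplicit false
universe u
open CategoryTheory AlgebraicGeometry
open CategoryTheory.Limits
open Cyc

namespace Groth.Agent.S15556

/-- Let k be a field of characteristic p > 0, E a finite purely inseparable field extension of k, X a
separated scheme of finite type over k, X' = X ×_k E with projection f : X' → X (any pullback
square), δ a dimension function on X making (X, δ) a cycle setup (X locally Noetherian with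
universally catenary local rings) and δ' the induced dimension function on X' (so (X', δ') is a
cycle setup and δ' is compatible with δ along f, which has relative dimension 0). Then flat pullback
of cycles along f induces a bijection of Chow groups of i-cycles after inverting p, in the following
two-sided sense: for every i-cycle β on X' there are an i-cycle α on X, an i-cycle α' on X' with the
flat-pullback coefficients of α, and an exponent s with [α'] = p^s · [β] in CH_i(X'); and for every
i-cycle α on X and every i-cycle α' on X' with the flat-pullback coefficients of α, if [α'] = 0 in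
CH_i(X') then p^s · [α] = 0 in CH_i(X) for some s. (The published statement allows an arbitrary
purely inseparable extension E of k; this row takes E finite over k, the case the printed argument
carries out.) -/
theorem result (k E : Type u) [Field k] [Field E] [Algebra k E] (p : ℕ) [Fact p.Prime] [CharP k p] [Module.Finite k E] [IsPurelyInseparable k E] (X X' : Scheme.{u}) (g : X ⟶ Spec (CommRingCat.of k)) [IsSeparated g] [LocallyOfFiniteType g] [QuasiCompact g] (f : X' ⟶ X) (g' : X' ⟶ Spec (CommRingCat.of E)) (hsq : IsPullback f g' g (Spec.map (CommRingCat.ofHom (algebraMap k E)))) (δ : X → ℤ) (δ' : X' → ℤ) (hX : Cyc.IsSetup X δ) (hX' : Cyc.IsSetup X' δ') (hδ : Cyc.DeltaCompat f δ' δ) (i : ℤ) : (∀ (β : AlgebraicCycle X' ℤ) (hβ : β ∈ Cyc.Zk X' δ' i), ∃ (α : AlgebraicCycle X ℤ) (hα : α ∈ Cyc.Zk X δ i) (α' : AlgebraicCycle X' ℤ) (hα' : α' ∈ Cyc.Zk X' δ' i) (s : ℕ), ⇑α' = Cyc.pullFun f δ' δ 0 ⇑α ∧ ChowOps.cl α' hα' = p ^ s • ChowOps.cl β hβ) ∧ (∀ (α : AlgebraicCycle X ℤ) (hα : α ∈ Cyc.Zk X δ i) (α' : AlgebraicCycle X' ℤ) (hα'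 : α' ∈ Cyc.Zk X' δ' i), ⇑α' = Cyc.pullFun f δ' δ 0 ⇑α → ChowOps.cl α' hα' = 0 → ∃ s : ℕ, p ^ s • ChowOps.cl α hα = 0) := by
  have hSfin : IsFinite (Spec.map (CommRingCat.ofHom (algebraMap k E))) := by
    rw [IsFinite.SpecMap_iff]
    exact RingHom.finite_algebraMap.2 inferInstance
  have hSflat : Flat (Spec.map (CommRingCat.ofHom (algebraMap k E))) := by
    rw [Flat.SpecMap_iff]
    exact RingHom.flat_algebraMap_iff.2 inferInstance
  have hSinj := Groth.Agent.Pi1B.PurInsepSpec.universallyInjective_specMap k E
  have : IsFinite f := MorphismProperty.of_isPullback hsq.flip hSfin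
  have : Flat f := MorphismProperty.of_isPullback hsq.flip hSflat
  have : UniversallyInjective f := MorphismProperty.of_isPullback hsq.flip hSinj
  have hinj : Function.Injective f := f.injective
  obtain ⟨s, hs⟩ := IsPurelyInseparable.finrank_eq_pow k E p
  have hrank : ∀ x : X, f.finrank x = p ^ s := by
    intro x
    rw [Scheme.Hom.finrank_of_isPullback _ _ _ _ hsq.flip, ← hs]
    refine (Scheme.Hom.finrank_SpecMap_algebraMap k E (g x)).trans ?_
    rw [Module.rankAtStalk_eq_finrank_of_free]
    rfl
  have hdelta : ∀ x : X', δ' x = δ (f x) :=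
    CycB.FiniteFlat.delta_eq_of_locallyQuasiFinite f δ' δ hδ
  have hmul : ∀ x' : X', (((Module.length (X'.presheaf.stalk x')
      (X'.presheaf.stalk x' ⧸ CycB.FiberStalk.fibIdeal f x')).toNat : ℤ)) *
        (f.residueDegree x' : ℤ) = ((p ^ s : ℕ) : ℤ) := by
    intro x'
    rw [← hrank (f x'), ← CycB.FiniteFlat.finsum_finite_flat f (f x')]
    have : {z : X' | f z = f x'} = {x'} := by
      ext z
      exact ⟨fun h => hinj h, by rintro rfl; rfl⟩
    rw [this, finsum_mem_singleton]
    push_cast
    rfl
  refine ⟨?_, ?_⟩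
  · intro β hβ
    have hα : AlgebraicCycle.map f δ' δ β ∈ Cyc.Zk X δ i := K309.Base.map_mem_Zk f hβ
    refine ⟨AlgebraicCycle.map f δ' δ β, hα, (p ^ s) • β,
      (ChowOps.zk X' δ' i).nsmul_mem hβ _, s, ?_, ?_⟩
    · funext x'
      change ((p ^ s) • β) x' = _
      unfold Cyc.pullFun
      rw [if_pos (by rw [hdelta x']; simp),
        K309.Base.map_apply_of_unique f β x' (fun z h => hinj h),
        AlgebraicCycle.mapCoeff, if_pos (hdelta x')]
      have h1 : ((p ^ s) • β) x' = ((p ^ s : ℕ) : ℤ) * β x' := by
        rw [Function.locallyFinsuppWithin.coe_nsmul]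
        simp
      rw [h1, ← hmul x']
      change _ = β x' * (f.residueDegree x' : ℤ) * _
      ring
    · exact (map_nsmul (ChowOps.clHom X' δ' i) (p ^ s) ⟨β, hβ⟩)
  · intro α hα α' hα' hpull hzero
    refine ⟨s, ?_⟩
    rw [K309.Base.cl_eq_zero_iff] at hzero
    have h1 := K309.Base.ratEquivZero_push hX' hX f hδ hzero
    have h2 : p ^ s • ChowOps.cl α hα = ChowOps.cl (p ^ s • α)
        ((ChowOps.zk X δ i).nsmul_mem hα _) :=
      (map_nsmul (ChowOps.clHom X δ i) (p ^ s) ⟨α, hα⟩).symm
    rw [h2]
    refine (K309.Base.cl_eq_zero_iff _ _).2 ?_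
    rw [(Groth.Agent.S1868.result X' X δ' δ hX' hX f (p ^ s) hrank hδ i).2 α hα α' hpull] at h1
    exact h1

end Groth.Agent.S15556
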