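import Groth.Statements.S15557

set_option autoImplicit false
universe v u
open CategoryTheory
open CohDer

namespace Groth.Agent.S15557

open CategoryTheory.Pretriangulated in
/-- Let T = (X, Y, Z) and T' = (X', Y', Z') be distinguished triangles in a pretriangulated category and
assume that every morphism X → Z' and every morphism X → Z'[-1] is zero. Then composing with the
first map X' → Y' of T' is a bijection Hom(X, X') → Hom(X, Y'), and composing with the second map Y
→ Z of T is a bijection Hom(Z, Z') → Hom(Y, Z'). (The published lemma is for triangulated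
categories; the octahedral axiom plays no role.) -/
theorem result {D : Type u} [Category.{v} D] [Preadditive D]
    [Limits.HasZeroObject D] [HasShift D ℤ] [∀ n : ℤ, (shiftFunctor D n).Additive] [Pretriangulated D]
    (T T' : Triangle D) (hT : T ∈ distinguishedTriangles) (hT' : T' ∈ distinguishedTriangles)
    (hXZ : ∀ u : T.obj₁ ⟶ T'.obj₃, u = 0)
    (hXZ' : ∀ u : T.obj₁ ⟶ (shiftFunctor D (-1 : ℤ)).obj T'.obj₃, u = 0) :
    Function.Bijective (fun u : T.obj₁ ⟶ T'.obj₁ => u ≫ T'.mor₁) ∧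
      Function.Bijective (fun w : T.obj₃ ⟶ T'.obj₃ => T.mor₂ ≫ w) := by
  -- morphisms `X[1] ⟶ Z'` vanish
  have hs : ∀ u : (shiftFunctor D (1 : ℤ)).obj T.obj₁ ⟶ T'.obj₃, u = 0 := by
    intro u
    have h1 : (shiftFunctorCompIsoId D (1 : ℤ) (-1) (by lia)).inv.app T.obj₁ ≫
        (shiftFunctor D (-1 : ℤ)).map u = 0 := hXZ' _
    have h2 : (shiftFunctor D (-1 : ℤ)).map u = 0 := by
      rw [← cancel_epi ((shiftFunctorCompIsoId D (1 : ℤ) (-1) (by lia)).inv.app T.obj₁), h1,
        Limits.comp_zero]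
    exact (shiftFunctor D (-1 : ℤ)).map_injective (by rw [h2, Functor.map_zero])
  refine ⟨⟨?_, ?_⟩, ⟨?_, ?_⟩⟩
  · intro u u' h
    have h0 : (u - u') ≫ T'.mor₁ = 0 := by
      rw [Preadditive.sub_comp]; exact sub_eq_zero.2 h
    obtain ⟨g, hg⟩ := Triangle.coyoneda_exact₂ _ (inv_rot_of_distTriang _ hT') (u - u') h0
    rw [← sub_eq_zero, hg, hXZ' g]
    exact Limits.zero_comp
  · intro w
    obtain ⟨g, hg⟩ := Triangle.coyoneda_exact₂ _ hT' w (hXZ _)
    exact ⟨g, hg.symm⟩
  · intro w w' h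
    have h0 : T.mor₂ ≫ (w - w') = 0 := by
      rw [Preadditive.comp_sub]; exact sub_eq_zero.2 h
    obtain ⟨g, hg⟩ := Triangle.yoneda_exact₃ _ hT (w - w') h0
    rw [← sub_eq_zero, hg, hs g, Limits.comp_zero]
  · intro w
    obtain ⟨g, hg⟩ := Triangle.yoneda_exact₂ _ hT w (hXZ _)
    exact ⟨g, hg.symm⟩

end Groth.Agent.S15557
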