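import Groth.Statements.S15563
import Groth.Agent.KronMod.K866.Basic

set_option autoImplicit false
universe u v w
open KronMod

namespace Groth.Agent.S15563

/-- Let f be a Kronecker module with n arrows over a field K, from V of dimension d₋₁ > 0 to W of
dimension n·d₋₁. Then f is stable if and only if f is semistable and d₋₁ = 1: for d₋₁ = 1 every
semistable module is stable (so the stable locus of K(n; 1, n) is the one point), while for d₋₁ > 1
no module is stable. (The published statement assumes K algebraically closed of characteristic zero
and n ≥ 2; this row allows any field K and any number n of arrows.) -/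
theorem result (K : Type u) [Field K] (V : Type v) (W : Type w)
    [AddCommGroup V] [Module K V] [FiniteDimensional K V]
    [AddCommGroup W] [Module K W] [FiniteDimensional K W]
    (n : ℕ) (f : Fin n → (V →ₗ[K] W))
    (hV : 0 < Module.finrank K V) (hW : Module.finrank K W = n * Module.finrank K V) :
    KronMod.IsStable f ↔ (KronMod.IsSemistable f ∧ Module.finrank K V = 1) := by
  constructor
  · intro hf
    have hs := K866.Kron.isSemistable_of_isStable hf
    refine ⟨hs, ?_⟩
    by_contra hne
    exact K866.Kron.not_isStable_of_sumMap (by omega) hW
      ((K866.Kron.isSemistable_iff_sumMap f hV hW).1 hs) hf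
  · rintro ⟨hs, h1⟩
    refine ⟨hs.1, fun V' W' h h2 h3 => ?_⟩
    have hb := (K866.Kron.isSemistable_iff_sumMap f hV hW).1 hs
    rcases K866.Kron.submodule_eq_bot_or_top_of_finrank_one h1 V' with rfl | rfl
    · have hW' : W' ≠ ⊥ := fun h => h2 ⟨rfl, h⟩
      have hW'' : 0 < Module.finrank K W' := Nat.pos_of_ne_zero fun h =>
        hW' (Submodule.finrank_eq_zero.1 h)
      rw [finrank_bot, mul_zero]
      exact Nat.mul_pos hV hW''
    · exfalso
      apply h3
      refine ⟨rfl, top_le_iff.1 ?_⟩
      have := K866.Kron.map_sumMap_le h
      rwa [K866.Kron.powSub_top, Submodule.map_top, LinearMap.range_eq_top.2 hb.2] at this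

end Groth.Agent.S15563
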