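import Groth.Statements.S15564
import Groth.Agent.KronMod.K866.Basic

set_option autoImplicit false
universe u v w
open KronMod

namespace Groth.Agent.S15564

/-- For a Kronecker module f with n arrows over a field K between one-dimensional spaces V and W,
semistability, stability and f ≠ 0 are equivalent: the semistable locus and the stable locus of
dimension vector (1, 1) are both the complement of the zero module. (The published statement assumes
K algebraically closed of characteristic zero and n ≥ 2; this row allows any field K and any n.) -/
theorem result (K : Type u) [Field K] (V : Type v) (W : Type w)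
    [AddCommGroup V] [Module K V] [FiniteDimensional K V]
    [AddCommGroup W] [Module K W] [FiniteDimensional K W]
    (n : ℕ) (f : Fin n → (V →ₗ[K] W))
    (hV : Module.finrank K V = 1) (hW : Module.finrank K W = 1) :
    (KronMod.IsSemistable f ↔ f ≠ 0) ∧ (KronMod.IsStable f ↔ f ≠ 0) := by
  have key : f ≠ 0 → KronMod.IsStable f := by
    intro hf
    refine ⟨by omega, fun V' W' h h2 h3 => ?_⟩
    rcases K866.Kron.submodule_eq_bot_or_top_of_finrank_one hV V' with rfl | rfl <;>
    rcases K866.Kron.submodule_eq_bot_or_top_of_finrank_one hW W' with rfl | rfl
    · exact absurd ⟨rfl, rfl⟩ h2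
    · rw [finrank_bot, finrank_top, hV, hW]; norm_num
    · exfalso
      apply hf
      funext j
      ext v
      exact h j ⟨v, trivial, rfl⟩
    · exact absurd ⟨rfl, rfl⟩ h3
  have key2 : KronMod.IsSemistable f → f ≠ 0 := by
    rintro hf rfl
    have h := hf.2 ⊤ ⊥ (fun j => by
      rintro _ ⟨v, -, rfl⟩
      exact Submodule.zero_mem _) (fun h => by
        have : Module.finrank K (⊤ : Submodule K V) = 0 := by rw [h.1]; exact finrank_bot K V
        rw [finrank_top] at this; omega) (fun h => by
        have : Module.finrank K (⊥ : Submodule K W) = Module.finrank K W := by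
          rw [h.2, finrank_top]
        rw [finrank_bot] at this; omega)
    rw [finrank_bot, finrank_top, hV, hW] at h
    omega
  exact ⟨⟨key2, fun h => K866.Kron.isSemistable_of_isStable (key h)⟩,
    ⟨fun h => key2 (K866.Kron.isSemistable_of_isStable h), key⟩⟩

end Groth.Agent.S15564
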