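import Groth.Statements.S15565
import Groth.Agent.KronMod.K866.Pencil

set_option autoImplicit false
universe u v w
open KronMod

namespace Groth.Agent.S15565

/-- Over an algebraically closed field K, a Kronecker module with two arrows between spaces V and W of
the same dimension k ≥ 2 is never stable: the stable locus of dimension vector (k, k) for the
Kronecker quiver with two arrows is empty. (The published statement also assumes characteristic
zero; this row does not.) -/
theorem result (K : Type u) [Field K] [IsAlgClosed K] (V : Type v) (W : Type w)
    [AddCommGroup V] [Module K V] [FiniteDimensional K V]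
    [AddCommGroup W] [Module K W] [FiniteDimensional K W]
    (f : Fin 2 → (V →ₗ[K] W)) (k : ℕ) (hk : 2 ≤ k)
    (hV : Module.finrank K V = k) (hW : Module.finrank K W = k) :
    ¬ KronMod.IsStable f := by
  intro hf
  obtain ⟨v, w, hv, h0, h1⟩ := K866.Kron.exists_dependent (f 0) (f 1) (by rw [hV, hW]) (by omega)
  have hsub : KronMod.IsSubrep f (K ∙ v) (K ∙ w) := by
    intro j
    rw [Submodule.map_span_le]
    rintro _ rfl
    fin_cases j
    · exact h0
    · exact h1
  have h := hf.2 (K ∙ v) (K ∙ w) hsub (by
    rintro ⟨h, -⟩
    exact hv (Submodule.span_singleton_eq_bot.1 h)) (by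
    rintro ⟨h, -⟩
    have := finrank_span_singleton (K := K) hv
    rw [h, finrank_top] at this
    omega)
  rw [hV, hW, finrank_span_singleton hv, mul_one] at h
  have h2 : Module.finrank K (K ∙ w) ≤ 1 := finrank_span_le_card ({w} : Set W) |>.trans (by simp)
  have h3 : k * Module.finrank K (K ∙ w) ≤ k * 1 := Nat.mul_le_mul_left _ h2
  omega

end Groth.Agent.S15565
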