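import Groth.Statements.S15567
import Mathlib.LinearAlgebra.Dual.Lemmas

set_option autoImplicit false
universe u v w
open KronMod

namespace Groth.Agent.S15567

/-- Duality of Kronecker modules. Let f be a Kronecker module with n arrows over a field K, from V to W,
both finite-dimensional. The dual module has arrows the transposes f_j^∨ : W^∨ → V^∨, so its
dimension vector is (d₀, d₋₁). Then f is semistable if and only if its dual is, and f is stable if
and only if its dual is. This is the module-level content of the isomorphism K(n; d₋₁, d₀) ≅ K(n;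
d₀, d₋₁) of moduli spaces, stated here without the moduli spaces. (The published statement assumes K
algebraically closed of characteristic zero and n ≥ 2; this row allows any field K and any number n
of arrows.) -/
theorem result (K : Type u) [Field K] (V : Type v) (W : Type w)
    [AddCommGroup V] [Module K V] [FiniteDimensional K V]
    [AddCommGroup W] [Module K W] [FiniteDimensional K W]
    (n : ℕ) (f : Fin n → (V →ₗ[K] W)) :
    (KronMod.IsSemistable f ↔ KronMod.IsSemistable (fun j => (f j).dualMap)) ∧
    (KronMod.IsStable f ↔ KronMod.IsStable (fun j => (f j).dualMap)) := by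
  have hV : Module.finrank K (Module.Dual K V) = Module.finrank K V := Subspace.dual_finrank_eq
  have hW : Module.finrank K (Module.Dual K W) = Module.finrank K W := Subspace.dual_finrank_eq
  -- annihilators of a subrepresentation
  have sub1 : ∀ (V' : Submodule K V) (W' : Submodule K W), KronMod.IsSubrep f V' W' →
      KronMod.IsSubrep (fun j => (f j).dualMap) W'.dualAnnihilator V'.dualAnnihilator := by
    intro V' W' h j
    rintro _ ⟨φ, hφ, rfl⟩
    rw [Submodule.mem_dualAnnihilator]
    intro v hv
    exact (Submodule.mem_dualAnnihilator φ).1 hφ _ (h j ⟨v, hv, rfl⟩)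
  have sub2 : ∀ (U : Submodule K (Module.Dual K W)) (T : Submodule K (Module.Dual K V)),
      KronMod.IsSubrep (fun j => (f j).dualMap) U T →
      KronMod.IsSubrep f T.dualCoannihilator U.dualCoannihilator := by
    intro U T h j
    rintro _ ⟨v, hv, rfl⟩
    rw [Submodule.mem_dualCoannihilator]
    intro φ hφ
    exact (Submodule.mem_dualCoannihilator v).1 hv _ (h j ⟨φ, hφ, rfl⟩)
  have d1 : ∀ V' : Submodule K V, Module.finrank K V' + Module.finrank K V'.dualAnnihilator =
      Module.finrank K V := fun V' => Subspace.finrank_add_finrank_dualAnnihilator_eq V'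
  have d2 : ∀ W' : Submodule K W, Module.finrank K W' + Module.finrank K W'.dualAnnihilator =
      Module.finrank K W := fun V' => Subspace.finrank_add_finrank_dualAnnihilator_eq V'
  have d3 : ∀ T : Submodule K (Module.Dual K V), Module.finrank K T +
      Module.finrank K T.dualCoannihilator = Module.finrank K V :=
    fun T => Subspace.finrank_add_finrank_dualCoannihilator_eq T
  have d4 : ∀ T : Submodule K (Module.Dual K W), Module.finrank K T +
      Module.finrank K T.dualCoannihilator = Module.finrank K W :=
    fun T => Subspace.finrank_add_finrank_dualCoannihilator_eq T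
  have botV : ∀ V' : Submodule K V, V' = ⊥ ↔ V'.dualAnnihilator = ⊤ := by
    intro V'
    constructor
    · rintro rfl; exact Submodule.dualAnnihilator_bot
    · intro h
      have := d1 V'
      rw [h, finrank_top, hV] at this
      exact Submodule.finrank_eq_zero.1 (by omega)
  have botW : ∀ V' : Submodule K W, V' = ⊥ ↔ V'.dualAnnihilator = ⊤ := by
    intro V'
    constructor
    · rintro rfl; exact Submodule.dualAnnihilator_bot
    · intro h
      have := d2 V'
      rw [h, finrank_top, hW] at this
      exact Submodule.finrank_eq_zero.1 (by omega)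
  have topV : ∀ V' : Submodule K V, V'.dualAnnihilator = ⊥ → V' = ⊤ := by
    intro V' h
    have := d1 V'
    rw [h, finrank_bot] at this
    exact Submodule.eq_top_of_finrank_eq (by omega)
  have topW : ∀ V' : Submodule K W, V'.dualAnnihilator = ⊥ → V' = ⊤ := by
    intro V' h
    have := d2 V'
    rw [h, finrank_bot] at this
    exact Submodule.eq_top_of_finrank_eq (by omega)
  have cbotV : ∀ T : Submodule K (Module.Dual K V), T.dualCoannihilator = ⊥ → T = ⊤ := by
    intro T h
    have := d3 T
    rw [h, finrank_bot] at this
    exact Submodule.eq_top_of_finrank_eq (by omega)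
  have ctopV : ∀ T : Submodule K (Module.Dual K V), T.dualCoannihilator = ⊤ → T = ⊥ := by
    intro T h
    have := d3 T
    rw [h, finrank_top] at this
    exact Submodule.finrank_eq_zero.1 (by omega)
  have cbotW : ∀ T : Submodule K (Module.Dual K W), T.dualCoannihilator = ⊥ → T = ⊤ := by
    intro T h
    have := d4 T
    rw [h, finrank_bot] at this
    exact Submodule.eq_top_of_finrank_eq (by omega)
  have ctopW : ∀ T : Submodule K (Module.Dual K W), T.dualCoannihilator = ⊤ → T = ⊥ := by
    intro T h
    have := d4 T
    rw [h, finrank_top] at this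
    exact Submodule.finrank_eq_zero.1 (by omega)
  constructor
  · constructor
    · intro hf
      refine ⟨by rw [hV, hW]; have := hf.1; omega, fun U T h h1 h2 => ?_⟩
      have h3 := hf.2 _ _ (sub2 U T h) (fun h4 => h2 ⟨cbotW _ h4.2, cbotV _ h4.1⟩)
        (fun h4 => h1 ⟨ctopW _ h4.2, ctopV _ h4.1⟩)
      rw [hV, hW]
      have e1 := d3 T
      have e2 := d4 U
      rw [← e1, ← e2] at h3 ⊢
      nlinarith [h3]
    · intro hf
      refine ⟨by have := hf.1; rw [hV, hW] at this; omega, fun V' W' h h1 h2 => ?_⟩
      have h3 := hf.2 _ _ (sub1 V' W' h) (fun h4 => h2 ⟨topV _ h4.2, topW _ h4.1⟩)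
        (fun h4 => h1 ⟨(botV _).2 h4.2, (botW _).2 h4.1⟩)
      rw [hV, hW] at h3
      have e1 := d1 V'
      have e2 := d2 W'
      rw [← e1, ← e2] at h3 ⊢
      nlinarith [h3]
  · constructor
    · intro hf
      refine ⟨by rw [hV, hW]; have := hf.1; omega, fun U T h h1 h2 => ?_⟩
      have h3 := hf.2 _ _ (sub2 U T h) (fun h4 => h2 ⟨cbotW _ h4.2, cbotV _ h4.1⟩)
        (fun h4 => h1 ⟨ctopW _ h4.2, ctopV _ h4.1⟩)
      rw [hV, hW]
      have e1 := d3 T
      have e2 := d4 U
      rw [← e1, ← e2] at h3 ⊢
      nlinarith [h3]
    · intro hf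
      refine ⟨by have := hf.1; rw [hV, hW] at this; omega, fun V' W' h h1 h2 => ?_⟩
      have h3 := hf.2 _ _ (sub1 V' W' h) (fun h4 => h2 ⟨topV _ h4.2, topW _ h4.1⟩)
        (fun h4 => h1 ⟨(botV _).2 h4.2, (botW _).2 h4.1⟩)
      rw [hV, hW] at h3
      have e1 := d1 V'
      have e2 := d2 W'
      rw [← e1, ← e2] at h3 ⊢
      nlinarith [h3]

end Groth.Agent.S15567
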