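import Groth.Statements.S15568
import Mathlib.Topology.Algebra.Module.FiniteDimension
import Mathlib.Analysis.Convex.Topology
import Mathlib.Topology.Order.IntermediateValue

set_option autoImplicit false
universe u
open QuiverStab

namespace Groth.Agent.S15568

/-- Walls and chambers for stability weights of a quiver. Let I be the finite vertex set, d ∈ ℕ^I a
dimension vector, and call two weights θ₁, θ₂ ∈ ℝ^I orthogonal to d numerically equivalent when, for
every d′ ≤ d in ℕ^I, the numbers θ₁·d′ and θ₂·d′ are both positive, both negative or both zero. The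
walls are the hyperplanes W(d′) = {θ ⊥ d : θ·d′ = 0} of d^⊥ for d′ ≤ d such that d is not a multiple
of d′. Then θ₁ and θ₂ are numerically equivalent if and only if there is a set J₁ of such d′ for
which θ₁ and θ₂ lie in the same connected component of the locally closed subset of d^⊥ consisting
of the weights lying on W(d₁) for every d₁ ∈ J₁ and off W(d₂) for every other wall W(d₂). (Only the
quiver's vertex set enters; multiples are taken with natural-number factors.) -/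
theorem result
    (I : Type u) [Fintype I] (d : I → ℕ) (θ₁ θ₂ : I → ℝ)
    (h₁ : ∑ i, θ₁ i * (d i : ℝ) = 0) (h₂ : ∑ i, θ₂ i * (d i : ℝ) = 0) :
    (∀ d' : I → ℕ, d' ≤ d →
        SignType.sign (∑ i, θ₁ i * (d' i : ℝ)) = SignType.sign (∑ i, θ₂ i * (d' i : ℝ))) ↔
    ∃ J₁ : Set (I → ℕ), J₁ ⊆ {d' | d' ≤ d ∧ ¬ ∃ m : ℕ, d = m • d'} ∧
      θ₂ ∈ connectedComponentIn
        {θ : I → ℝ | ∑ i, θ i * (d i : ℝ) = 0 ∧ (∀ d₁ ∈ J₁, ∑ i, θ i * (d₁ i : ℝ) = 0) ∧
          ∀ d₂ : I → ℕ, d₂ ≤ d → (¬ ∃ m : ℕ, d = m • d₂) → d₂ ∉ J₁ →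
            ∑ i, θ i * (d₂ i : ℝ) ≠ 0} θ₁ := by
  classical
  have cont : ∀ e : I → ℕ, Continuous (fun θ : I → ℝ => ∑ i, θ i * (e i : ℝ)) := fun e =>
    continuous_finsetSum _ fun i _ => (continuous_apply i).mul continuous_const
  have smul' : ∀ (θ : I → ℝ) (m : ℕ) (e : I → ℕ),
      ∑ i, θ i * ((m • e) i : ℝ) = m * ∑ i, θ i * (e i : ℝ) := by
    intro θ m e
    rw [Finset.mul_sum]
    refine Finset.sum_congr rfl fun i _ => ?_
    simp only [Pi.smul_apply, smul_eq_mul, Nat.cast_mul]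
    ring
  constructor
  · intro h
    refine ⟨{d' | (d' ≤ d ∧ ¬ ∃ m : ℕ, d = m • d') ∧ ∑ i, θ₁ i * (d' i : ℝ) = 0},
      fun d' hd' => hd'.1, ?_⟩
    set S : Set (I → ℝ) := {θ : I → ℝ | ∑ i, θ i * (d i : ℝ) = 0 ∧
      (∀ d₁ ∈ {d' : I → ℕ | (d' ≤ d ∧ ¬ ∃ m : ℕ, d = m • d') ∧ ∑ i, θ₁ i * (d' i : ℝ) = 0},
        ∑ i, θ i * (d₁ i : ℝ) = 0) ∧
          ∀ d₂ : I → ℕ, d₂ ≤ d → (¬ ∃ m : ℕ, d = m • d₂) →
            d₂ ∉ {d' : I → ℕ | (d' ≤ d ∧ ¬ ∃ m : ℕ, d = m • d') ∧ ∑ i, θ₁ i * (d' i : ℝ) = 0} →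
            ∑ i, θ i * (d₂ i : ℝ) ≠ 0} with hS
    have hseg : segment ℝ θ₁ θ₂ ⊆ S := by
      rintro θ ⟨a, b, ha, hb, hab, rfl⟩
      have lin : ∀ e : I → ℕ, ∑ i, (a • θ₁ + b • θ₂) i * (e i : ℝ) =
          a * (∑ i, θ₁ i * (e i : ℝ)) + b * (∑ i, θ₂ i * (e i : ℝ)) := by
        intro e
        rw [Finset.mul_sum, Finset.mul_sum, ← Finset.sum_add_distrib]
        refine Finset.sum_congr rfl fun i _ => ?_
        simp only [Pi.add_apply, Pi.smul_apply, smul_eq_mul]
        ring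
      refine ⟨?_, ?_, ?_⟩
      · rw [lin, h₁, h₂]; ring
      · rintro e ⟨⟨he, -⟩, he'⟩
        have h3 := h e he
        rw [he', sign_zero] at h3
        rw [lin, he', sign_eq_zero_iff.1 h3.symm]; ring
      · intro e he hm hne
        have hne' : ∑ i, θ₁ i * (e i : ℝ) ≠ 0 := fun h0 => hne ⟨⟨he, hm⟩, h0⟩
        have h3 := h e he
        rw [lin]
        rcases lt_or_gt_of_ne hne' with h4 | h4
        · rw [sign_neg h4] at h3
          have h5 := sign_eq_neg_one_iff.1 h3.symm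
          apply ne_of_lt
          rcases ha.eq_or_lt with rfl | ha'
          · rw [zero_add] at hab; subst hab; linarith
          · nlinarith [mul_neg_of_pos_of_neg ha' h4, mul_nonpos_of_nonneg_of_nonpos hb h5.le]
        · rw [sign_pos h4] at h3
          have h5 := sign_eq_one_iff.1 h3.symm
          apply ne_of_gt
          rcases ha.eq_or_lt with rfl | ha'
          · rw [zero_add] at hab; subst hab; linarith
          · nlinarith [mul_pos ha' h4, mul_nonneg hb h5.le]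
    exact (convex_segment θ₁ θ₂).isPreconnected.subset_connectedComponentIn
      (left_mem_segment ℝ θ₁ θ₂) hseg (right_mem_segment ℝ θ₁ θ₂)
  · rintro ⟨J, hJ, hmem⟩ d' hd'
    set S : Set (I → ℝ) := {θ : I → ℝ | ∑ i, θ i * (d i : ℝ) = 0 ∧
      (∀ d₁ ∈ J, ∑ i, θ i * (d₁ i : ℝ) = 0) ∧
          ∀ d₂ : I → ℕ, d₂ ≤ d → (¬ ∃ m : ℕ, d = m • d₂) → d₂ ∉ J →
            ∑ i, θ i * (d₂ i : ℝ) ≠ 0} with hS
    have h1S : θ₁ ∈ S := by
      by_contra hne
      rw [connectedComponentIn_eq_empty hne] at hmem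
      exact hmem
    have h2S : θ₂ ∈ S := connectedComponentIn_subset _ _ hmem
    by_cases hm : ∃ m : ℕ, d = m • d'
    · obtain ⟨m, hm⟩ := hm
      rcases Nat.eq_zero_or_pos m with rfl | hpos
      · have hd0 : d = 0 := by rw [hm, zero_smul]
        have hd'0 : d' = 0 := le_antisymm (hd0 ▸ hd') (fun _ => Nat.zero_le _)
        rw [hd'0]; simp
      · have hmr : (m : ℝ) ≠ 0 := by exact_mod_cast hpos.ne'
        rw [hm, smul'] at h₁ h₂
        rw [(mul_eq_zero.1 h₁).resolve_left hmr, (mul_eq_zero.1 h₂).resolve_left hmr]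
    · by_cases hdJ : d' ∈ J
      · rw [h1S.2.1 d' hdJ, h2S.2.1 d' hdJ]
      · have hpre : IsPreconnected (connectedComponentIn S θ₁) :=
          isPreconnected_connectedComponentIn
        have hne : ∀ θ ∈ connectedComponentIn S θ₁, ∑ i, θ i * (d' i : ℝ) ≠ 0 :=
          fun θ hθ => (connectedComponentIn_subset _ _ hθ).2.2 d' hd' hm hdJ
        have h1C : θ₁ ∈ connectedComponentIn S θ₁ := mem_connectedComponentIn h1S
        rcases lt_or_gt_of_ne (hne θ₁ h1C) with h4 | h4 <;>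
        rcases lt_or_gt_of_ne (hne θ₂ hmem) with h5 | h5
        · rw [sign_neg h4, sign_neg h5]
        · obtain ⟨θ, hθ, h0⟩ := hpre.intermediate_value h1C hmem (cont d').continuousOn
            ⟨h4.le, h5.le⟩
          exact absurd h0 (hne θ hθ)
        · obtain ⟨θ, hθ, h0⟩ := hpre.intermediate_value hmem h1C (cont d').continuousOn
            ⟨h5.le, h4.le⟩
          exact absurd h0 (hne θ hθ)
        · rw [sign_pos h4, sign_pos h5]

end Groth.Agent.S15568
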