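import Groth.Statements.S15570
import Groth.Agent.KronMod.K866.Basic

set_option autoImplicit false
universe u v w
open KronMod

namespace Groth.Agent.S15570

/-- Let f be a Kronecker module with n arrows over a field K, from V of dimension n·d₀ to W of dimension
d₀ > 0. Then f is stable if and only if f is semistable and d₀ = 1: for d₀ = 1 every semistable
module is stable (the stable locus of K(n; n, 1) is the one point), while for d₀ > 1 no module is
stable. This is the case dual to dimension vector (d₋₁, n·d₋₁). (The published statement assumes K
algebraically closed of characteristic zero and n ≥ 2; this row allows any field K and any number n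
of arrows.) -/
theorem result (K : Type u) [Field K] (V : Type v) (W : Type w)
    [AddCommGroup V] [Module K V] [FiniteDimensional K V]
    [AddCommGroup W] [Module K W] [FiniteDimensional K W]
    (n : ℕ) (f : Fin n → (V →ₗ[K] W))
    (hW : 0 < Module.finrank K W) (hV : Module.finrank K V = n * Module.finrank K W) :
    KronMod.IsStable f ↔ (KronMod.IsSemistable f ∧ Module.finrank K W = 1) := by
  constructor
  · intro hf
    have hs := K866.Kron.isSemistable_of_isStable hf
    refine ⟨hs, ?_⟩
    by_contra hne
    exact K866.Kron.not_isStable_of_prodMap (by omega) hV
      ((K866.Kron.isSemistable_iff_prodMap f hW hV).1 hs) hf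
  · rintro ⟨hs, h1⟩
    refine ⟨hs.1, fun V' W' h h2 h3 => ?_⟩
    have hb := (K866.Kron.isSemistable_iff_prodMap f hW hV).1 hs
    rcases K866.Kron.submodule_eq_bot_or_top_of_finrank_one h1 W' with rfl | rfl
    · exfalso
      apply h2
      refine ⟨le_bot_iff.1 ?_, rfl⟩
      have := K866.Kron.le_comap_prodMap h
      rwa [K866.Kron.powSub_bot, Submodule.comap_bot, LinearMap.ker_eq_bot.2 hb.1] at this
    · have hV' : V' ≠ ⊤ := fun h => h3 ⟨h, rfl⟩
      have hV'' : Module.finrank K V' < Module.finrank K V := Submodule.finrank_lt hV'
      rw [finrank_top, h1, one_mul, mul_one]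
      exact hV''

end Groth.Agent.S15570
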