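import Groth.Statements.S15582
import Mathlib.Topology.Sheaves.LocallySurjective
import Mathlib.Topology.Sheaves.SheafCondition.UniqueGluing
import Mathlib.CategoryTheory.Sites.LocallyBijective

set_option autoImplicit false
universe u
open CategoryTheory TopologicalSpace
open CohTop

namespace Groth.Agent.S15582

open Opposite

section

variable {X : TopCat.{u}} (P : TopCat.Presheaf (Type u) X)

/-- restriction -/
def rs {U V : Opens X} (h : V ≤ U) (x : P.obj (op U)) : P.obj (op V) := P.map (homOfLE h).op x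

theorem rs_rs {U V W : Opens X} (h : V ≤ U) (h' : W ≤ V) (x : P.obj (op U)) :
    rs P h' (rs P h x) = rs P (h'.trans h) x := by
  have : P.map (homOfLE (h'.trans h)).op = P.map (homOfLE h).op ≫ P.map (homOfLE h').op := by
    rw [← P.map_comp]
    rfl
  simp only [rs, this]
  rfl

theorem rs_nat {P Q : TopCat.Presheaf (Type u) X} (β : P ⟶ Q) {U V : Opens X} (h : V ≤ U)
    (x : P.obj (op U)) : β.app (op V) (rs P h x) = rs Q h (β.app (op U) x) :=
  ConcreteCategory.congr_hom (β.naturality (homOfLE h).op) x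

theorem glue (F : TopCat.Sheaf (Type u) X) {ι : Type u} (U : ι → Opens X)
    (sf : ∀ i, F.obj.obj (op (U i)))
    (h : ∀ i j, rs F.obj (inf_le_left : U i ⊓ U j ≤ U i) (sf i) =
      rs F.obj (inf_le_right : U i ⊓ U j ≤ U j) (sf j)) :
    ∃ g : F.obj.obj (op (iSup U)), ∀ i, rs F.obj (le_iSup U i) g = sf i := by
  obtain ⟨g, hg, -⟩ := TopCat.Presheaf.IsSheaf.isSheafUniqueGluing_types F.property sf
    (fun i j => h i j)
  exact ⟨g, hg⟩

theorem sep (F : TopCat.Sheaf (Type u) X) {ι : Type u} (U : ι → Opens X) (W : Opens X)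
    (hU : ∀ i, U i ≤ W)
    (hW : W ≤ iSup U) (s t : F.obj.obj (op W)) (h : ∀ i, rs F.obj (hU i) s = rs F.obj (hU i) t) :
    s = t :=
  TopCat.Sheaf.eq_of_locally_eq' F U W
    (fun i => homOfLE (hU i)) hW s t h

theorem surj_iff {F G : TopCat.Sheaf (Type u) X} (f : F ⟶ G) : Epi f ↔
    ∀ (U : Opens X) (t : G.obj.obj (op U)) (x : X), x ∈ U → ∃ (V : Opens X) (h : V ≤ U),
      x ∈ V ∧ ∃ s : F.obj.obj (op V), f.hom.app (op V) s = rs G.obj h t := by
  rw [← TopCat.Sheaf.isLocallySurjective_iff_epi, TopCat.Presheaf.isLocallySurjective_iff]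
  constructor
  · intro h U t x hx
    obtain ⟨V, hV, ⟨s, hs⟩, hxV⟩ := h U t x hx
    exact ⟨V, hV, hxV, s, hs⟩
  · intro h U t x hx
    obtain ⟨V, hV, hxV, s, hs⟩ := h U t x hx
    exact ⟨V, hV, ⟨s, hs⟩, hxV⟩

end


/-- Let `π : X → Y` be a continuous map such that every open set containing a fibre `π⁻¹(y)` contains
the preimage of an open neighbourhood of `y`, and such that every fibre is finite with its points
separated by pairwise disjoint open sets of `X`. Then the direct image of sheaves of sets along `π`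
preserves epimorphisms. -/
theorem result
    {X Y : TopCat.{u}} (π : X ⟶ Y)
    (h1 : ∀ (y : Y) (U : Set X), IsOpen U → π ⁻¹' {y} ⊆ U →
      ∃ V : Set Y, IsOpen V ∧ y ∈ V ∧ π ⁻¹' V ⊆ U)
    (h2 : ∀ y : Y, (π ⁻¹' {y}).Finite ∧ ∃ U : X → Set X,
      (∀ x ∈ π ⁻¹' {y}, IsOpen (U x) ∧ x ∈ U x) ∧ (π ⁻¹' {y}).PairwiseDisjoint U) :
    (TopCat.Sheaf.pushforward (Type u) π).PreservesEpimorphisms := by
  refine ⟨fun {F G} f hf => ?_⟩
  rw [surj_iff] at hf ⊢
  intro V t' y hy
  let t : G.obj.obj (op ((Opens.map π).obj V)) := t'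
  obtain ⟨hfin, U, hU, hdisj⟩ := h2 y
  have hloc : ∀ x : π ⁻¹' {y}, ∃ (W : Opens X) (h : W ≤ (Opens.map π).obj V),
      x.1 ∈ W ∧ (W : Set X) ⊆ U x.1 ∧ ∃ s : F.obj.obj (op W), f.hom.app (op W) s = rs G.obj h t := by
    rintro ⟨x, hx⟩
    have hxV : x ∈ (Opens.map π).obj V := by
      have : π x = y := hx
      change π x ∈ V
      rw [this]
      exact hy
    obtain ⟨W, hW, hxW, s, hs⟩ := hf ((Opens.map π).obj V) t x hxV
    refine ⟨W ⊓ ⟨U x, (hU x hx).1⟩, inf_le_left.trans hW, ⟨hxW, (hU x hx).2⟩, fun z hz => hz.2,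
      rs F.obj inf_le_left s, ?_⟩
    exact (rs_nat f.hom _ _).trans ((congrArg _ hs).trans (rs_rs G.obj _ _ _))
  choose W hW hxW hWU s hs using hloc
  have hempty : ∀ (O : Opens X) (hO : ∀ z, z ∉ O) (a b : F.obj.obj (op O)), a = b := by
    intro O hO a b
    refine sep F (fun i : PEmpty.{u + 1} => O) O (fun i => i.elim) (fun z hz => (hO z hz).elim) a b
      (fun i => i.elim)
  obtain ⟨g, hg⟩ := glue F W s (by
    intro i j
    by_cases hij : i = j
    · subst hij
      rfl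
    · refine hempty _ (fun z hz => ?_) _ _
      exact Set.disjoint_left.1 (hdisj i.2 j.2 (fun h => hij (Subtype.ext h))) (hWU i hz.1)
        (hWU j hz.2))
  have hle : iSup W ≤ (Opens.map π).obj V := iSup_le hW
  have hgt : f.hom.app (op (iSup W)) g = rs G.obj hle t := by
    refine sep G W _ (fun i => le_iSup W i) le_rfl _ _ fun i => ?_
    exact (rs_nat f.hom _ _).symm.trans ((congrArg _ (hg i)).trans ((hs i).trans
      (rs_rs G.obj _ _ _).symm))
  obtain ⟨V', hV', hyV', hsub⟩ := h1 y (iSup W : Opens X) (iSup W).isOpen (by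
    intro x hx
    exact (le_iSup W ⟨x, hx⟩) (hxW ⟨x, hx⟩))
  refine ⟨V ⊓ ⟨V', hV'⟩, inf_le_left, ⟨hy, hyV'⟩, ?_⟩
  have hsub' : (Opens.map π).obj (V ⊓ ⟨V', hV'⟩) ≤ iSup W := fun x hx => hsub hx.2
  refine ⟨rs F.obj hsub' g, ?_⟩
  exact (rs_nat f.hom hsub' g).trans ((congrArg _ hgt).trans (rs_rs G.obj hle hsub' t))

end Groth.Agent.S15582
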