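import Groth.Statements.S15590
import Mathlib.RingTheory.Flat.FaithfullyFlat.Algebra
import Mathlib.RingTheory.Flat.FaithfullyFlat.Descent
import Mathlib.RingTheory.DedekindDomain.Basic
import Mathlib.RingTheory.Ideal.GoingUp
import Mathlib.RingTheory.IntegralClosure.IntegrallyClosed
import Mathlib.RingTheory.Localization.FractionRing
import Mathlib.RingTheory.Spectrum.Prime.Topology

set_option autoImplicit false
universe u v
open CAlg

namespace Groth.Agent.S15590

/-- Let A → B be an injective homomorphism of commutative rings which makes B a finite flat A-module,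
and suppose B is a Dedekind domain (Noetherian, integrally closed, of Krull dimension at most one; a
field is allowed). Then A is a Dedekind domain. -/
theorem result (A : Type u) (B : Type v)
    [CommRing A] [CommRing B] [Algebra A B] [IsDedekindDomain B]
    (hinj : Function.Injective (algebraMap A B)) [Module.Finite A B] [Module.Flat A B] :
    IsDedekindDomain A := by
  have : IsDomain A := hinj.isDomain
  have hint : Algebra.IsIntegral A B := inferInstance
  have : FaithfulSMul A B := (faithfulSMul_iff_algebraMap_injective A B).2 hinj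
  have hff : Module.FaithfullyFlat A B := by
    refine Module.FaithfullyFlat.of_comap_surjective ?_
    exact Algebra.IsIntegral.comap_surjective A B
  have : IsNoetherianRing A := by
    have h1 : IsNoetherian B (TensorProduct A B A) :=
      isNoetherian_of_linearEquiv (TensorProduct.AlgebraTensorModule.rid A B B).symm
    exact Submodule.IsNoetherian.of_isNoetherian_tensorProduct_of_faithfullyFlat h1
  have hdiv : ∀ a b : A, algebraMap A B a ∣ algebraMap A B b → a ∣ b := by
    rintro a b ⟨c, hc⟩
    have h1 : b ∈ ((Ideal.span {a}).map (algebraMap A B)).comap (algebraMap A B) := by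
      rw [Ideal.mem_comap, Ideal.map_span, Set.image_singleton, Ideal.mem_span_singleton]
      exact ⟨c, hc⟩
    rwa [Ideal.comap_map_eq_self_of_faithfullyFlat, Ideal.mem_span_singleton] at h1
  refine (isDedekindDomain_iff A (FractionRing A)).2 ⟨inferInstance, inferInstance, ⟨?_⟩, ?_⟩
  · intro p hp hpp
    obtain ⟨Q, _, hQ, hQp⟩ := Ideal.exists_ideal_over_prime_of_isIntegral (S := B) p ⊥ (by
      rw [← RingHom.ker_eq_comap_bot, (RingHom.injective_iff_ker_eq_bot _).1 hinj]; exact bot_le)
    have hQ0 : Q ≠ ⊥ := by
      rintro rfl
      rw [← RingHom.ker_eq_comap_bot, (RingHom.injective_iff_ker_eq_bot _).1 hinj] at hQp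
      exact hp hQp.symm
    have hQm : Q.IsMaximal := hQ.isMaximal hQ0
    rw [← hQp]
    exact Ideal.isMaximal_comap_of_isIntegral_of_isMaximal Q
  · intro x hx
    obtain ⟨a, s, hs, rfl⟩ := IsFractionRing.div_surjective (A := A) x
    -- the map of fraction fields
    let φ : FractionRing A →+* FractionRing B := IsFractionRing.map hinj
    have hφ : ∀ a : A, φ (algebraMap A (FractionRing A) a) =
        algebraMap B (FractionRing B) (algebraMap A B a) := fun a => by
      exact IsLocalization.map_eq _ a
    have hx' : IsIntegral B (φ (algebraMap A (FractionRing A) a / algebraMap A (FractionRing A) s)) := by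
      obtain ⟨P, hP, hP0⟩ := hx
      refine ⟨P.map (algebraMap A B), hP.map _, ?_⟩
      rw [Polynomial.eval₂_map]
      have : (algebraMap B (FractionRing B)).comp (algebraMap A B) = φ.comp (algebraMap A (FractionRing A)) := by
        ext a; exact (hφ a).symm
      rw [this, ← Polynomial.hom_eval₂, hP0, map_zero]
    obtain ⟨b, hb⟩ := (IsIntegrallyClosed.isIntegral_iff (R := B)).1 hx'
    have hs0 : s ≠ 0 := nonZeroDivisors.ne_zero hs
    have hsB : algebraMap B (FractionRing B) (algebraMap A B s) ≠ 0 := by
      rw [Ne, IsFractionRing.to_map_eq_zero_iff, map_eq_zero_iff _ hinj]; exact hs0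
    obtain ⟨c, hc⟩ := hdiv s a ⟨b, by
      apply IsFractionRing.injective B (FractionRing B)
      rw [map_mul, hb, map_div₀, hφ, hφ, mul_div_cancel₀ _ hsB]⟩
    refine ⟨c, ?_⟩
    have hsA : algebraMap A (FractionRing A) s ≠ 0 := by
      rw [Ne, IsFractionRing.to_map_eq_zero_iff]; exact hs0
    rw [hc, map_mul, mul_div_cancel_left₀ _ hsA]

end Groth.Agent.S15590
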