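import Groth.Statements.S15591
import Groth.Agent.S3919
import Groth.Agent.S3920
import Groth.Agent.S1464

set_option autoImplicit false
universe u
open CategoryTheory MonoidalCategory CartesianMonoidalCategory MonObj GrpObj AlgebraicGeometry
open AGF

namespace Groth.Agent.S15591

/-- Let k be a field, G an affine smooth connected k-group scheme and T ⟶ G, T' ⟶ G two maximal k-tori
of G (each maximal among the k-subtori of G through which it factors). Then T and T' have the same
dimension. -/
theorem result (k : Type u) [Field k]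
    (G : Over (Spec (CommRingCat.of k))) [GrpObj G] [IsAffine G.left] [Smooth G.hom] [ConnectedSpace ↥G.left]
    (T T' : Over (Spec (CommRingCat.of k))) [GrpObj T] [GrpObj T'] (iT : T ⟶ G) (iT' : T' ⟶ G)
    (hT : AGF.IsMaxTorus iT) (hT' : AGF.IsMaxTorus iT') :
    topologicalKrullDim ↥T.left = topologicalKrullDim ↥T'.left := by
  have hm := hT.1
  have hmono := hT.2.1
  have hm' := hT'.1
  have hmono' := hT'.2.1
  have h1 : Red.IsMaximalTorus iT := (Groth.Agent.S3919.result k G T iT hT.2.2.1).1 hT
  have h2 : Red.IsMaximalTorus iT' := (Groth.Agent.S3919.result k G T' iT' hT'.2.2.1).1 hT'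
  obtain ⟨k', _, _, _, _, g, f, hf⟩ := Groth.Agent.S3920.result k G T T' iT iT' h1 h2
  have key : ∀ (X : Over (Spec (CommRingCat.of k))) [GrpObj X], Red.IsTorus X →
      topologicalKrullDim ↥(Red.bc (Spec.map (CommRingCat.ofHom (algebraMap k k'))) X).left =
        topologicalKrullDim ↥X.left := by
    intro X _ hX
    obtain ⟨ha, hl⟩ : IsAffineHom X.hom ∧ LocallyOfFiniteType X.hom := ⟨Groth.Agent.Sga3B.TorusAlgClosed.isAffineHom_of_isTorus hX, (have := Groth.Agent.Sga3B.TorusAlgClosed.smooth_of_isTorus hX; inferInstance : LocallyOfFiniteType X.hom)⟩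
    have : IsAffine X.left := isAffine_of_isAffineHom X.hom
    exact Groth.Agent.S1464.inv_scheme (Field.toIsField k) (Field.toIsField k') X.hom _ _
      (CommRingCat.ofHom (algebraMap k k')) (IsPullback.of_hasPullback X.hom _)
  rw [← key T hT.2.2.1, ← key T' hT'.2.2.1]
  exact Groth.Agent.S1464.topologicalKrullDim_eq_of_iso ((Over.forget _).mapIso f)

end Groth.Agent.S15591
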