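import Groth.Statements.S15594
import Mathlib.LinearAlgebra.TensorProduct.Basis
import Mathlib.LinearAlgebra.Basis.VectorSpace

set_option autoImplicit false
universe u
open TensorProduct
open AGF

namespace Groth.Agent.S15594

/-- Affine form. Let k ⊆ K be a field extension, A a commutative k-algebra and S a set of k-algebra
homomorphisms A → k (rational points of Spec A). The ideal ⋂_{σ ∈ S} ker σ cuts out the Zariski
closure of S with its reduced structure, and its extension to K ⊗_k A equals ⋂_{σ ∈ S} ker σ_K,
where σ_K : K ⊗_k A → K is the K-algebra map induced by σ. In words: the closure of a set of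
rational points is formed compatibly with extension of the ground field. (The published statement is
for schemes locally of finite type; this affine row assumes no finiteness, which the argument does
not use.) -/
theorem result (k K A : Type u) [Field k] [Field K] [Algebra k K]
    [CommRing A] [Algebra k A] (S : Set (A →ₐ[k] k)) :
    Ideal.map (Algebra.TensorProduct.includeRight : A →ₐ[k] K ⊗[k] A) (⨅ σ ∈ S, RingHom.ker σ) =
      ⨅ σ ∈ S, RingHom.ker ((Algebra.TensorProduct.rid k K K).toAlgHom.comp
        (Algebra.TensorProduct.map (AlgHom.id K K) σ)) := by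
  apply le_antisymm
  · rw [Ideal.map_le_iff_le_comap]
    intro a ha
    simp only [Ideal.mem_iInf, Ideal.mem_comap, RingHom.mem_ker] at ha ⊢
    intro σ hσ
    have h := ha σ hσ
    simp [h]
  · intro z hz
    simp only [Ideal.mem_iInf, RingHom.mem_ker] at hz
    obtain ⟨c, rfl⟩ := TensorProduct.eq_repr_basis_left (Module.Basis.ofVectorSpace k K) z
    have key : ∀ i, c i ∈ (⨅ σ ∈ S, RingHom.ker σ : Ideal A) := by
      intro i
      simp only [Ideal.mem_iInf, RingHom.mem_ker]
      intro σ hσ
      have h := hz σ hσ
      have h2 : (c.sum fun i a => σ a • (Module.Basis.ofVectorSpace k K) i) = 0 := by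
        rw [← h, map_finsuppSum]
        refine Finsupp.sum_congr fun i _ => ?_
        simp [Algebra.smul_def]
      have h3 : Finsupp.linearCombination k (Module.Basis.ofVectorSpace k K)
          (c.mapRange σ (map_zero σ)) = 0 := by
        rw [Finsupp.linearCombination_apply, Finsupp.sum_mapRange_index (by simp), ← h2]
      have h4 := (Module.Basis.ofVectorSpace k K).linearIndependent
      rw [linearIndependent_iff] at h4
      have h5 := h4 _ h3
      have h6 := DFunLike.congr_fun h5 i
      simpa using h6
    refine Submodule.sum_mem _ fun i _ => ?_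
    have : (Module.Basis.ofVectorSpace k K) i ⊗ₜ[k] c i =
      ((Module.Basis.ofVectorSpace k K) i ⊗ₜ[k] (1 : A)) * (Algebra.TensorProduct.includeRight (c i)) := by
      simp
    change (Module.Basis.ofVectorSpace k K) i ⊗ₜ[k] c i ∈ _
    rw [this]
    exact Ideal.mul_mem_left _ _ (Ideal.mem_map_of_mem _ (key i))

end Groth.Agent.S15594
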