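import Groth.Statements.S15595
import Groth.Agent.CurvesB.FlatRegular
import Mathlib.RingTheory.Flat.Localization
import Mathlib.RingTheory.TensorProduct.Maps
import Mathlib.RingTheory.Flat.Stability

set_option autoImplicit false
universe u
open TensorProduct
attribute [local instance] RingHom.ker_isPrime
open CAlg

namespace Groth.Agent.S15595

section

attribute [local instance] Algebra.TensorProduct.rightAlgebra

theorem flat_right (k K A : Type u) [Field k] [Field K] [Algebra k K] [CommRing A] [Algebra k A] :
    Module.Flat A (K ⊗[k] A) :=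
  Module.Flat.of_linearEquiv (Algebra.TensorProduct.commRight k A K).symm.toLinearEquiv

theorem key (k K A : Type u) [Field k] [Field K] [Algebra k K] [CommRing A] [Algebra k A]
    [IsLocalRing A] [IsNoetherianRing A]
    (π : A →ₐ[k] k) (hπ : RingHom.ker π = IsLocalRing.maximalIdeal A)
    (ψ : K ⊗[k] A →ₐ[K] K) (hψ : ∀ (x : K) (a : A), ψ (x ⊗ₜ[k] a) = x * algebraMap k K (π a))
    [IsNoetherianRing (Localization.AtPrime (RingHom.ker ψ))] :
    IsRegularLocalRing A ↔ IsRegularLocalRing (Localization.AtPrime (RingHom.ker ψ)) := by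
  have := flat_right k K A
  have hflat : Module.Flat A (Localization.AtPrime (RingHom.ker ψ)) :=
    Module.Flat.trans A (K ⊗[k] A) _
  -- the maximal ideal generates the kernel
  have hmap : (IsLocalRing.maximalIdeal A).map (algebraMap A (K ⊗[k] A)) = RingHom.ker ψ := by
    apply le_antisymm
    · rw [Ideal.map_le_iff_le_comap]
      intro a ha
      rw [Ideal.mem_comap, RingHom.mem_ker]
      rw [← hπ, RingHom.mem_ker] at ha
      change ψ ((1 : K) ⊗ₜ[k] a) = 0
      rw [hψ, ha, map_zero, mul_zero]
    · intro z hz
      have h1 : ∀ z : K ⊗[k] A, z - (ψ z) ⊗ₜ[k] (1 : A) ∈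
          (IsLocalRing.maximalIdeal A).map (algebraMap A (K ⊗[k] A)) := by
        intro z
        induction z with
        | zero => simp
        | tmul x a =>
          have h2 : a - algebraMap k A (π a) ∈ IsLocalRing.maximalIdeal A := by
            rw [← hπ, RingHom.mem_ker, map_sub, AlgHom.commutes]
            simp
          have h3 : x ⊗ₜ[k] a - (ψ (x ⊗ₜ[k] a)) ⊗ₜ[k] (1 : A) =
              (x ⊗ₜ[k] (1 : A)) * algebraMap A (K ⊗[k] A) (a - algebraMap k A (π a)) := by
            change _ = (x ⊗ₜ[k] (1 : A)) * ((1 : K) ⊗ₜ[k] (a - algebraMap k A (π a)))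
            rw [Algebra.TensorProduct.tmul_mul_tmul, mul_one, one_mul, TensorProduct.tmul_sub, hψ]
            congr 1
            rw [mul_comm x, ← Algebra.smul_def, TensorProduct.smul_tmul, Algebra.smul_def, mul_one]
          rw [h3]
          exact Ideal.mul_mem_left _ _ (Ideal.mem_map_of_mem _ h2)
        | add x y hx hy =>
          rw [map_add, TensorProduct.add_tmul, add_sub_add_comm]
          exact Ideal.add_mem _ hx hy
      have h2 := h1 z
      rw [RingHom.mem_ker] at hz
      rwa [hz, TensorProduct.zero_tmul, sub_zero] at h2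
  refine Groth.Agent.CurvesB.FlatRegular.isRegularLocalRing_iff A
    (Localization.AtPrime (RingHom.ker ψ)) ?_
  rw [← Localization.AtPrime.map_eq_maximalIdeal,
    IsScalarTower.algebraMap_eq A (K ⊗[k] A) (Localization.AtPrime (RingHom.ker ψ)), ← Ideal.map_map]
  exact congrArg (Ideal.map (algebraMap (K ⊗[k] A) (Localization.AtPrime (RingHom.ker ψ)))) hmap

end

/-- Let k ⊆ K be a field extension and A a Noetherian local k-algebra with residue field k, recorded by
a k-algebra map π : A → k whose kernel is the maximal ideal. Let π_K : K ⊗_k A → K be the induced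
K-algebra map, m' its kernel, and A' the localization of K ⊗_k A at m'. Assume A' is Noetherian.
Then A is a regular local ring if and only if A' is a regular local ring. -/
theorem result (k K A : Type u) [Field k] [Field K]
    [Algebra k K] [CommRing A] [Algebra k A] [IsLocalRing A] [IsNoetherianRing A]
    (π : A →ₐ[k] k) (hπ : RingHom.ker π = IsLocalRing.maximalIdeal A)
    [IsNoetherianRing (Localization.AtPrime (RingHom.ker
      ((Algebra.TensorProduct.rid k K K).toAlgHom.comp (Algebra.TensorProduct.map (AlgHom.id K K) π))))] :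
    IsRegularLocalRing A ↔ IsRegularLocalRing (Localization.AtPrime (RingHom.ker
      ((Algebra.TensorProduct.rid k K K).toAlgHom.comp (Algebra.TensorProduct.map (AlgHom.id K K) π)))) := by
  refine key k K A π hπ _ ?_
  intro x a
  change (Algebra.TensorProduct.rid k K K) ((Algebra.TensorProduct.map (AlgHom.id K K) π) (x ⊗ₜ[k] a)) = _
  rw [Algebra.TensorProduct.map_tmul, Algebra.TensorProduct.rid_tmul, Algebra.smul_def, mul_comm]
  rfl

end Groth.Agent.S15595
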