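import Groth.Statements.S15596
import Mathlib.AlgebraicGeometry.AlgClosed.Basic
-- import your own Groth.Agent.* helpers here

set_option autoImplicit false
universe u
open CategoryTheory MonoidalCategory CartesianMonoidalCategory MonObj GrpObj AlgebraicGeometry
open AlgGrp

namespace Groth.Agent.S15596

/-- Let k be an algebraically closed field, H a smooth k-group scheme of finite type, and U a dense open
subset of H. Then every k-rational point h of H is of the form u₂ · u₁⁻¹ for k-rational points u₁,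
u₂ of H whose underlying points lie in U. -/
theorem result (k : Type u) [Field k] [IsAlgClosed k]
    (H : Over (Spec (CommRingCat.of k))) [GrpObj H] [Smooth H.hom] [QuasiCompact H.hom]
    (U : H.left.Opens) (hU : Dense (U : Set ↥H.left)) (h : 𝟙_ (Over (Spec (CommRingCat.of k))) ⟶ H) :
    ∃ u₁ u₂ : 𝟙_ (Over (Spec (CommRingCat.of k))) ⟶ H,
      u₁.left.base (IsLocalRing.closedPoint k) ∈ U ∧ u₂.left.base (IsLocalRing.closedPoint k) ∈ U ∧
        h = u₂ * u₁⁻¹ := by
  let τ : H ≅ H :=
    { hom := (toUnit H ≫ h)⁻¹ * 𝟙 H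
      inv := (toUnit H ≫ h) * 𝟙 H
      hom_inv_id := by
        rw [MonObj.comp_mul, Category.comp_id, ← Category.assoc, comp_toUnit, mul_inv_cancel_left]
      inv_hom_id := by
        rw [MonObj.comp_mul, Category.comp_id, GrpObj.comp_inv, ← Category.assoc, comp_toUnit,
          inv_mul_cancel_left] }
  have hτi : IsIso τ.hom.left := ((Over.forget _).mapIso τ).isIso_hom
  have h2 : Dense (τ.hom.left.base ⁻¹' (U : Set H.left)) := by
    have : IsOpenMap τ.hom.left.base := τ.hom.left.homeomorph.isOpenMap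
    exact hU.preimage this
  have hd := hU.inter_of_isOpen_left h2 U.2
  have : Nonempty H.left := ⟨(η[H]).left.base (IsLocalRing.closedPoint k)⟩
  have hj : JacobsonSpace H.left := LocallyOfFiniteType.jacobsonSpace H.hom
  obtain ⟨z, ⟨hz1, hz2⟩, hz⟩ := nonempty_inter_closedPoints hd.nonempty
    (U.2.inter (U.2.preimage τ.hom.left.continuous)).isLocallyClosed
  let u₂ : 𝟙_ (Over (Spec (CommRingCat.of k))) ⟶ H :=
    Over.homMk (pointOfClosedPoint H.hom z hz) (pointOfClosedPoint_comp H.hom z hz)
  have hu₂ : u₂.left.base (IsLocalRing.closedPoint k) = z :=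
    pointOfClosedPoint_apply H.hom z hz _
  refine ⟨u₂ ≫ τ.hom, u₂, ?_, ?_, ?_⟩
  · rw [Over.comp_left, Scheme.Hom.comp_base, TopCat.comp_app, hu₂]
    exact hz2
  · rw [hu₂]; exact hz1
  · have : u₂ ≫ τ.hom = h⁻¹ * u₂ := by
      change u₂ ≫ ((toUnit H ≫ h)⁻¹ * 𝟙 H) = _
      rw [MonObj.comp_mul, GrpObj.comp_inv, Category.comp_id, ← Category.assoc, comp_toUnit]
      congr 2
    rw [this]
    simp

end Groth.Agent.S15596
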