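import Groth.Statements.S15597
import Groth.Agent.HopfRep.K190.SsTorus
import Groth.Agent.Books.HopfConn

set_option autoImplicit false
universe u v
open HopfRep

namespace Groth.Agent.S15597

/-- Let k be an algebraically closed field and G = Spec A a smooth connected affine k-group, that is, A
is a finitely generated commutative Hopf algebra over k which is reduced and has no idempotents
other than 0 and 1; commutativity of G is not assumed. If every k-point of G is semisimple, in the
sense that it acts semisimply in every finite-dimensional A-comodule, then G is a torus: A is
spanned over k by its group-like elements. (The published statement is over an arbitrary field, with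
the hypothesis on the points over an algebraic closure; this row is the algebraically closed case.) -/
theorem result (k : Type u) (A : Type v) [Field k]
    [IsAlgClosed k] [CommRing A] [HopfAlgebra k A] [Algebra.FiniteType k A] [IsReduced A]
    (hconn : ∀ e : A, IsIdempotentElem e → e = 0 ∨ e = 1)
    (hss : ∀ (g : A →ₐ[k] k) (V : Type v) [AddCommGroup V] [Module k V] [HopfRep.Comod k A V],
      Module.Finite k V → Module.End.IsSemisimple (HopfRep.Comod.act k A V g)) :
    HopfRep.IsDiagonalizable k A := by
  have hdom : IsDomain A := Groth.Agent.Books.HopfConn.isDomain_of_isReduced (k := k) hconn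
  have hinj : Function.Injective (algebraMap k A) := (algebraMap k A).injective
  have hsmall : Small.{v} k := small_of_injective hinj
  let e : Shrink.{v} k ≃ₐ[k] k := Shrink.algEquiv k k
  have hb : Function.Bijective (algebraMap k (Shrink.{v} k)) := by
    have h1 : (algebraMap k (Shrink.{v} k) : k → Shrink.{v} k) = e.symm := by
      funext x
      have h2 := e.symm.commutes x
      rw [← h2]
      rfl
    rw [h1]
    exact e.symm.bijective
  have hac : IsAlgClosed (Shrink.{v} k) := K190.SsTorus.isAlgClosed_of_ringEquiv e.symm.toRingEquiv
  let i : A →ₐ[k] TensorProduct k (Shrink.{v} k) A := Algebra.TensorProduct.includeRight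
  have hi : Function.Bijective i := by
    refine ⟨Algebra.TensorProduct.includeRight_injective hb.1, ?_⟩
    exact Algebra.TensorProduct.includeRight_surjective _ hb.2
  have hdom' : IsDomain (TensorProduct k (Shrink.{v} k) A) := (AlgEquiv.ofBijective i hi).symm.toMulEquiv.isDomain _
  refine K190.SsComm.isDiagonalizable_of_commute (fun g h => ?_) hss
  exact K190.SsTorus.commute_of_baseChange (K := Shrink.{v} k)
    (K190.SsTorus.commute (K190.SsTorus.diag_baseChange hb (K190.SsTorus.diag_of_isSemisimple hss))) g h

end Groth.Agent.S15597
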