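import Groth.Statements.S15601
import Groth.Agent.S3266
import Groth.Agent.S3268
import Groth.Agent.Books.ComodTrig2

set_option autoImplicit false
universe u v
open HopfRep

namespace Groth.Agent.S15601

open Groth.Agent.Books.ComodTrig in
lemma act_eq_rho (k : Type u) [Field k] (A : Type v) [CommRing A] [HopfAlgebra k A]
    (V : Type v) [AddCommGroup V] [Module k V] [HopfRep.Comod k A V]
    (g : WithConv (A →ₐ[k] k)) : HopfRep.Comod.act k A V g.ofConv = rho k A V g := by
  ext v
  rw [rho_apply]
  rfl

/-- Let k be an algebraically closed field and G = Spec A a smooth connected affine k-group: A is a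
finitely generated commutative Hopf algebra over k which is reduced and has no idempotents other
than 0 and 1. Suppose G is solvable, i.e. the group G(k) of k-algebra maps A → k under convolution
is solvable. Then the derived group of G is unipotent: every element of the commutator subgroup of
G(k) acts in every finite-dimensional A-comodule by an operator u with u − 1 nilpotent. (Stated over
an algebraically closed field, where the derived group is determined by the commutators of k-points;
the case of a general field reduces to this one.) -/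
theorem result (k : Type u) [Field k] [IsAlgClosed k]
    (A : Type v) [CommRing A] [HopfAlgebra k A] [Algebra.FiniteType k A] [IsReduced A]
    (hconn : ∀ e : A, IsIdempotentElem e → e = 0 ∨ e = 1)
    [Group.IsSolvable (WithConv (A →ₐ[k] k))]
    (g : WithConv (A →ₐ[k] k)) (hg : g ∈ commutator (WithConv (A →ₐ[k] k)))
    (V : Type v) [AddCommGroup V] [Module k V] [HopfRep.Comod k A V] [Module.Finite k V] :
    IsNilpotent (HopfRep.Comod.act k A V g.ofConv - 1) := by
  classical
  rw [act_eq_rho]
  have hT := Groth.Agent.S3266.result k A hconn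
  obtain ⟨F, hmono, hsub, hdim⟩ := Groth.Agent.S3268.result k A hT V
  set n := Module.finrank k V with hn
  set ρ := Groth.Agent.Books.ComodTrig.rho k A V with hρ
  have hst : ∀ i g, ∀ v ∈ F i, ρ g v ∈ F i := by
    intro i g v hv
    rw [hρ, Groth.Agent.Books.ComodTrig.rho_apply]
    exact (Groth.Agent.Books.ComodTrig.isSubcomod_iff (F i)).1 (hsub i) _ v hv
  -- one-dimensional steps
  have hstep : ∀ i, i + 1 ≤ n → ∀ g, ∃ c : k, ∀ v ∈ F (i + 1), ρ g v - c • v ∈ F i := by
    intro i hi g
    have hlt : F i < F (i + 1) := by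
      refine lt_of_le_of_ne (hmono (Nat.le_succ i)) fun h => ?_
      have h1 := hdim i (by omega)
      have h2 := hdim (i + 1) hi
      rw [← h] at h2
      omega
    obtain ⟨v₀, hv₀, hv₀'⟩ := SetLike.exists_of_lt hlt
    have hsup : F i ⊔ Submodule.span k {v₀} = F (i + 1) := by
      have hle : F i ⊔ Submodule.span k {v₀} ≤ F (i + 1) := by
        refine sup_le hlt.le ?_
        rw [Submodule.span_singleton_le_iff_mem]
        exact hv₀
      refine Submodule.eq_of_le_of_finrank_le hle ?_
      have hlt' : F i < F i ⊔ Submodule.span k {v₀} := by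
        refine lt_of_le_of_ne le_sup_left fun h => hv₀' ?_
        rw [h]
        exact Submodule.mem_sup_right (Submodule.mem_span_singleton_self v₀)
      have h3 := Submodule.finrank_lt_finrank_of_lt hlt'
      rw [hdim i (by omega)] at h3
      rw [hdim (i + 1) hi]
      omega
    have hdec : ∀ v ∈ F (i + 1), ∃ a : k, v - a • v₀ ∈ F i := by
      intro v hv
      rw [← hsup, Submodule.mem_sup] at hv
      obtain ⟨y, hy, z, hz, rfl⟩ := hv
      obtain ⟨a, rfl⟩ := Submodule.mem_span_singleton.1 hz
      exact ⟨a, by simpa using hy⟩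
    obtain ⟨c, hc⟩ := hdec _ (hst (i + 1) g v₀ hv₀)
    refine ⟨c, fun v hv => ?_⟩
    obtain ⟨a, ha⟩ := hdec v hv
    have e1 : ρ g v - c • v = ρ g (v - a • v₀) + a • (ρ g v₀ - c • v₀) - c • (v - a • v₀) := by
      rw [map_sub, map_smul, smul_sub, smul_sub, smul_comm c a]
      abel
    rw [e1]
    exact (F i).sub_mem ((F i).add_mem (hst i g _ ha) ((F i).smul_mem a hc)) ((F i).smul_mem c ha)
  -- the subgroup acting trivially on a step
  let N : ℕ → Subgroup (WithConv (A →ₐ[k] k)) := fun i =>
    { carrier := {g | ∀ v ∈ F (i + 1), ρ g v - v ∈ F i}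
      mul_mem' := by
        intro a b ha hb v hv
        have e1 : ρ (a * b) v - v = ρ a (ρ b v - v) + (ρ a v - v) := by
          rw [map_mul, Module.End.mul_apply, map_sub]
          abel
        rw [e1]
        exact (F i).add_mem (hst i a _ (hb v hv)) (ha v hv)
      one_mem' := by
        intro v hv
        rw [map_one, Module.End.one_apply, sub_self]
        exact Submodule.zero_mem _
      inv_mem' := by
        intro a ha v hv
        have e1 : ρ a⁻¹ v - v = -(ρ a⁻¹ (ρ a v - v)) := by
          rw [map_sub, ← Module.End.mul_apply, ← map_mul, inv_mul_cancel, map_one,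
            Module.End.one_apply]
          abel
        rw [e1]
        exact (F i).neg_mem (hst i _ _ (ha v hv)) }
  have hN : ∀ i, i + 1 ≤ n → commutator (WithConv (A →ₐ[k] k)) ≤ N i := by
    intro i hi
    rw [commutator_def, Subgroup.commutator_le]
    intro a _ b _ v hv
    obtain ⟨c, hc⟩ := hstep i hi (a⁻¹)
    obtain ⟨d, hd⟩ := hstep i hi (b⁻¹)
    -- `a⁻¹ b⁻¹ v ≡ c d v ≡ b⁻¹ a⁻¹ v`
    have e1 : ρ (a⁻¹ * b⁻¹) v - (c * d) • v ∈ F i := by
      have : ρ (a⁻¹ * b⁻¹) v - (c * d) • v = ρ a⁻¹ (ρ b⁻¹ v - d • v) + d • (ρ a⁻¹ v - c • v) := by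
        rw [map_mul, Module.End.mul_apply, map_sub, map_smul, smul_sub, smul_smul, mul_comm d c]
        abel
      rw [this]
      exact (F i).add_mem (hst i _ _ (hd v hv)) ((F i).smul_mem _ (hc v hv))
    have e2 : ρ (b⁻¹ * a⁻¹) v - (c * d) • v ∈ F i := by
      have : ρ (b⁻¹ * a⁻¹) v - (c * d) • v = ρ b⁻¹ (ρ a⁻¹ v - c • v) + c • (ρ b⁻¹ v - d • v) := by
        rw [map_mul, Module.End.mul_apply, map_sub, map_smul, smul_sub, smul_smul]
        abel
      rw [this]
      exact (F i).add_mem (hst i _ _ (hc v hv)) ((F i).smul_mem _ (hd v hv))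
    have e3 : ρ (a⁻¹ * b⁻¹) v - ρ (b⁻¹ * a⁻¹) v ∈ F i := by
      have := (F i).sub_mem e1 e2
      simpa using this
    have e4 : ρ (a * b * a⁻¹ * b⁻¹) v - v = ρ (a * b) (ρ (a⁻¹ * b⁻¹) v - ρ (b⁻¹ * a⁻¹) v) := by
      rw [map_sub, ← Module.End.mul_apply, ← Module.End.mul_apply, ← map_mul, ← map_mul]
      have h1 : a * b * (b⁻¹ * a⁻¹) = 1 := by group
      have h2 : a * b * (a⁻¹ * b⁻¹) = a * b * a⁻¹ * b⁻¹ := by group
      rw [h1, h2, map_one, Module.End.one_apply]
    change ρ (a * b * a⁻¹ * b⁻¹) v - v ∈ F i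
    rw [e4]
    exact hst i _ _ e3
  -- nilpotency
  have hF0 : F 0 = ⊥ := by
    have := hdim 0 (Nat.zero_le _)
    exact Submodule.finrank_eq_zero.1 this
  have hFn : F n = ⊤ := Submodule.eq_top_of_finrank_eq (hdim n le_rfl)
  have hnil : ∀ i, i ≤ n → ∀ v ∈ F i, ((ρ g - 1) ^ i) v = 0 := by
    intro i
    induction i with
    | zero =>
      intro _ v hv
      rw [hF0] at hv
      rw [(Submodule.mem_bot k).1 hv, map_zero]
    | succ i ih =>
      intro hi v hv
      rw [pow_succ, Module.End.mul_apply]
      apply ih (by omega)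
      exact hN i hi hg v hv
  refine ⟨n, ?_⟩
  ext v
  rw [hnil n le_rfl v (by rw [hFn]; trivial)]
  rfl

end Groth.Agent.S15601
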