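import Groth.Statements.S15602
import Groth.Agent.AlgGrp.K405.GaLaw
-- import your own Groth.Agent.* helpers here

set_option autoImplicit false
universe u
open CategoryTheory MonoidalCategory CartesianMonoidalCategory MonObj GrpObj AlgebraicGeometry
open AlgGrp

namespace Groth.Agent.S15602

lemma gaFn_mul_eq {k : Type u} [Field k] {L : Over (Spec (CommRingCat.of k))} [GrpObj L]
    (e : L ≅ Red.Ga (Spec (CommRingCat.of k))) :
    Red.gaFn (μ[L] ≫ e.hom) = Red.gaFn (fst L L ≫ e.hom) + Red.gaFn (snd L L ≫ e.hom) -
      Red.gaFn ((toUnit (L ⊗ L) ≫ η[L]) ≫ e.hom) := by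
  rw [MonObj.mul_eq_mul, K405.GaLaw.mul_formula e (fst L L) (snd L L)]
  rfl

/-- Additive case. Let k be a field and consider the affine line over k, taken here as the underlying
k-scheme of the additive group. Any two structures of k-group scheme on it with the same unit
section have the same multiplication; in particular a group law on the affine line whose identity is
the origin is the usual addition. -/
theorem result (k : Type u) [Field k]
    (h₁ h₂ : GrpObj (Red.Ga (Spec (CommRingCat.of k)))) (e : h₁.one = h₂.one) : h₁.mul = h₂.mul := by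
  have e1 := @gaFn_mul_eq k _ (Red.Ga (Spec (CommRingCat.of k))) h₁ (Iso.refl _)
  have e2 := @gaFn_mul_eq k _ (Red.Ga (Spec (CommRingCat.of k))) h₂ (Iso.refl _)
  simp only [Iso.refl_hom, Category.comp_id] at e1 e2
  apply Groth.Agent.Sga3B.GaPts.gaFn_injective
  refine e1.trans (Eq.trans ?_ e2.symm)
  have : (@MonObj.one _ _ _ (Red.Ga (Spec (CommRingCat.of k))) h₁.toMonObj) =
    (@MonObj.one _ _ _ (Red.Ga (Spec (CommRingCat.of k))) h₂.toMonObj) := e
  rw [this]

end Groth.Agent.S15602
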