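import Groth.Statements.S15603
import Groth.Agent.AlgGrp.K405.GmLaw
-- import your own Groth.Agent.* helpers here

set_option autoImplicit false
universe u
open CategoryTheory MonoidalCategory CartesianMonoidalCategory MonObj GrpObj AlgebraicGeometry
open AlgGrp

namespace Groth.Agent.S15603

lemma unitOfPt_mul_eq {k : Type u} [Field k] {L : Over (Spec (CommRingCat.of k))} [GrpObj L]
    (e : L ≅ Red.Gm (Spec (CommRingCat.of k))) :
    GmPts.unitOfPt (μ[L] ≫ e.hom) = GmPts.unitOfPt (fst L L ≫ e.hom) * GmPts.unitOfPt (snd L L ≫ e.hom) *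
      (GmPts.unitOfPt ((toUnit (L ⊗ L) ≫ η[L]) ≫ e.hom))⁻¹ := by
  rw [MonObj.mul_eq_mul, ← K405.GmLaw.mul_formula e (fst L L) (snd L L)]
  exact (mul_inv_cancel_right _ _).symm

/-- Multiplicative case. Let k be a field and consider the affine line minus the origin over k, taken
here as the underlying k-scheme of the multiplicative group. Any two structures of k-group scheme on
it with the same unit section have the same multiplication; in particular a group law on the
punctured line whose identity is the point 1 is the usual multiplication. -/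
theorem result (k : Type u) [Field k]
    (h₁ h₂ : GrpObj (Red.Gm (Spec (CommRingCat.of k)))) (e : h₁.one = h₂.one) : h₁.mul = h₂.mul := by
  have e1 := @unitOfPt_mul_eq k _ (Red.Gm (Spec (CommRingCat.of k))) h₁ (Iso.refl _)
  have e2 := @unitOfPt_mul_eq k _ (Red.Gm (Spec (CommRingCat.of k))) h₂ (Iso.refl _)
  simp only [Iso.refl_hom, Category.comp_id] at e1 e2
  apply (Function.LeftInverse.injective GmPts.ptOfUnit_unitOfPt :
    Function.Injective (GmPts.unitOfPt : (Red.Gm (Spec (CommRingCat.of k)) ⊗ Red.Gm (Spec (CommRingCat.of k)) ⟶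
      Red.Gm (Spec (CommRingCat.of k))) → _))
  refine e1.trans (Eq.trans ?_ e2.symm)
  have : (@MonObj.one _ _ _ (Red.Gm (Spec (CommRingCat.of k))) h₁.toMonObj) =
    (@MonObj.one _ _ _ (Red.Gm (Spec (CommRingCat.of k))) h₂.toMonObj) := e
  rw [this]

end Groth.Agent.S15603
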