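import Groth.Statements.S15605
import Mathlib.LinearAlgebra.TensorProduct.Basis
import Mathlib.LinearAlgebra.Basis.VectorSpace
import Mathlib.LinearAlgebra.TensorProduct.RightExactness

set_option autoImplicit false
universe u
open TensorProduct
open AGF

namespace Groth.Agent.S15605

/-- Affine form. Let k be a field, A and A' finitely generated commutative k-algebras and S, S' sets of
k-algebra homomorphisms A → k, A' → k. The closure of a set of rational points of Spec A is cut out
by the intersection of their kernels. Compatibility of these closures with products: in A ⊗_k A',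
the intersection over (σ, σ') ∈ S × S' of the kernels of σ ⊗ σ' : A ⊗_k A' → k equals the ideal
generated by the images of ⋂_{σ} ker σ and of ⋂_{σ'} ker σ'. -/
theorem result (k A A' : Type u) [Field k] [CommRing A] [Algebra k A]
    [Algebra.FiniteType k A] [CommRing A'] [Algebra k A'] [Algebra.FiniteType k A']
    (S : Set (A →ₐ[k] k)) (S' : Set (A' →ₐ[k] k)) :
    (⨅ σ ∈ S, ⨅ σ' ∈ S', RingHom.ker ((Algebra.TensorProduct.lmul' (S := k) k).comp
        (Algebra.TensorProduct.map σ σ'))) =
      Ideal.map (Algebra.TensorProduct.includeLeft : A →ₐ[k] A ⊗[k] A') (⨅ σ ∈ S, RingHom.ker σ) ⊔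
        Ideal.map (Algebra.TensorProduct.includeRight : A' →ₐ[k] A ⊗[k] A') (⨅ σ' ∈ S', RingHom.ker σ') := by
  set I : Ideal A := ⨅ σ ∈ S, RingHom.ker σ with hI
  set I' : Ideal A' := ⨅ σ' ∈ S', RingHom.ker σ' with hI'
  have hIm : ∀ a, a ∈ I ↔ ∀ σ ∈ S, σ a = 0 := fun a => by
    simp only [hI, Ideal.mem_iInf, RingHom.mem_ker]
  have hIm' : ∀ a, a ∈ I' ↔ ∀ σ ∈ S', σ a = 0 := fun a => by
    simp only [hI', Ideal.mem_iInf, RingHom.mem_ker]
  apply le_antisymm
  · have hk := Algebra.TensorProduct.map_ker (R := k) (Ideal.Quotient.mkₐ k I) (Ideal.Quotient.mkₐ k I')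
      (Ideal.Quotient.mkₐ_surjective k I) (Ideal.Quotient.mkₐ_surjective k I')
    have hk1 : RingHom.ker (Ideal.Quotient.mkₐ k I) = I := Ideal.mk_ker
    have hk2 : RingHom.ker (Ideal.Quotient.mkₐ k I') = I' := Ideal.mk_ker
    rw [hk1, hk2] at hk
    rw [← hk]
    intro z hz
    simp only [Ideal.mem_iInf, RingHom.mem_ker] at hz
    rw [RingHom.mem_ker]
    obtain ⟨c, hc⟩ := TensorProduct.eq_repr_basis_left (Module.Basis.ofVectorSpace k (A ⧸ I))
      (Algebra.TensorProduct.map (Ideal.Quotient.mkₐ k I) (Ideal.Quotient.mkₐ k I') z)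
    have key : c = 0 := by
      ext i
      obtain ⟨a', ha'⟩ := Ideal.Quotient.mk_surjective (c i)
      rw [Finsupp.zero_apply, ← ha', Ideal.Quotient.eq_zero_iff_mem, hIm']
      intro σ' hσ'
      let τ' : (A' ⧸ I') →ₐ[k] k := Ideal.Quotient.liftₐ I' σ' (fun a ha => (hIm' a).1 ha σ' hσ')
      have hx : (c.sum fun j b => τ' b • (Module.Basis.ofVectorSpace k (A ⧸ I)) j) = 0 := by
        obtain ⟨x, hx⟩ := Ideal.Quotient.mk_surjective
          (c.sum fun j b => τ' b • (Module.Basis.ofVectorSpace k (A ⧸ I)) j)
        rw [← hx, Ideal.Quotient.eq_zero_iff_mem, hIm]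
        intro σ hσ
        let τ : (A ⧸ I) →ₐ[k] k := Ideal.Quotient.liftₐ I σ (fun a ha => (hIm a).1 ha σ hσ)
        have h1 : σ x = τ (Ideal.Quotient.mk I x) := rfl
        rw [h1, hx]
        have h2 : (Algebra.TensorProduct.lmul' (S := k) k).comp (Algebra.TensorProduct.map σ σ') =
            ((Algebra.TensorProduct.lmul' (S := k) k).comp (Algebra.TensorProduct.map τ τ')).comp
              (Algebra.TensorProduct.map (Ideal.Quotient.mkₐ k I) (Ideal.Quotient.mkₐ k I')) := by
          ext a
          · simp only [AlgHom.comp_apply, Algebra.TensorProduct.includeLeft_apply,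
              Algebra.TensorProduct.map_tmul, map_one]
            rfl
          · simp only [AlgHom.comp_apply, Algebra.TensorProduct.includeRight_apply,
              AlgHom.restrictScalars_apply, Algebra.TensorProduct.map_tmul, map_one]
            rfl
        have h3 := hz σ hσ σ' hσ'
        rw [h2, AlgHom.comp_apply, ← hc] at h3
        rw [map_finsuppSum] at h3
        rw [map_finsuppSum, ← h3]
        refine Finsupp.sum_congr fun j _ => ?_
        rw [map_smul, smul_eq_mul, AlgHom.comp_apply, Algebra.TensorProduct.map_tmul,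
          Algebra.TensorProduct.lmul'_apply_tmul, mul_comm]
      have h3 : Finsupp.linearCombination k (Module.Basis.ofVectorSpace k (A ⧸ I))
          (c.mapRange τ' (map_zero τ')) = 0 := by
        rw [Finsupp.linearCombination_apply, Finsupp.sum_mapRange_index (by simp), ← hx]
      have h4 := (Module.Basis.ofVectorSpace k (A ⧸ I)).linearIndependent
      rw [linearIndependent_iff] at h4
      have h6 := DFunLike.congr_fun (h4 _ h3) i
      have h7 : τ' (c i) = 0 := by simpa using h6
      rw [← ha'] at h7
      exact h7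
    rw [← hc, key]
    simp
  · apply sup_le
    · rw [Ideal.map_le_iff_le_comap]
      intro a ha
      rw [hIm] at ha
      simp only [Ideal.mem_iInf, Ideal.mem_comap, RingHom.mem_ker]
      intro σ hσ σ' hσ'
      simp [ha σ hσ]
    · rw [Ideal.map_le_iff_le_comap]
      intro a ha
      rw [hIm'] at ha
      simp only [Ideal.mem_iInf, Ideal.mem_comap, RingHom.mem_ker]
      intro σ hσ σ' hσ'
      simp [ha σ' hσ']

end Groth.Agent.S15605
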