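import Groth.Statements.S15609
import Groth.Agent.AlgGrp.K406.TanMono

set_option autoImplicit false
universe u
open CategoryTheory MonoidalCategory CartesianMonoidalCategory MonObj GrpObj AlgebraicGeometry
open AlgGrp

namespace Groth.Agent.S15609

/-- The implication (ii) ⇒ (i). Let k be a field and f : G ⟶ G' a homomorphism of k-group schemes of
finite type. Suppose that f is injective on K-points for every algebraically closed field K over k,
and that f is injective on tangent spaces at the identity: every point of G with values in the dual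
numbers k[ε] which restricts to the identity at ε = 0 and is sent by f to the identity point of G'
is itself the identity point. Then f has trivial kernel: it is a monomorphism. (The published
statement assumes G smooth; this implication does not use it.) -/
theorem result (k : Type u) [Field k]
    (G G' : Over (Spec (CommRingCat.of k))) [GrpObj G] [GrpObj G'] [LocallyOfFiniteType G.hom] [QuasiCompact G.hom]
    [LocallyOfFiniteType G'.hom] [QuasiCompact G'.hom] (f : G ⟶ G') [IsMonHom f]
    (hgeom : ∀ (K : Type u) [Field K] [IsAlgClosed K] [Algebra k K],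
      Function.Injective (fun g : (Over.mk (Spec.map (CommRingCat.ofHom (algebraMap k K)))) ⟶ G => g ≫ f))
    (htan : ∀ g : (Over.mk (Spec.map (CommRingCat.ofHom (algebraMap k (DualNumber k))))) ⟶ G,
      (∀ x : 𝟙_ (Over (Spec (CommRingCat.of k))) ⟶ (Over.mk (Spec.map (CommRingCat.ofHom (algebraMap k (DualNumber k))))), x ≫ g = η[G]) →
        g ≫ f = toUnit _ ≫ η[G'] → g = toUnit _ ≫ η[G]) :
    Mono f := by
  let N := Groth.Agent.Sga3B.KerGrp.kerObj f
  let i : N ⟶ G := Groth.Agent.Sga3B.KerGrp.kerι f
  obtain ⟨e, he⟩ := Groth.Agent.Sga3B.KerGrp.exists_lift f η[G] (by rw [IsMonHom.one_hom]; exact one_eq_one _)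
  have hf : LocallyOfFiniteType f.left := by
    have : LocallyOfFiniteType (f.left ≫ G'.hom) := by rw [Over.w]; infer_instance
    exact locallyOfFiniteType_of_comp f.left G'.hom
  have hNft : LocallyOfFiniteType N.hom :=
    inferInstanceAs (LocallyOfFiniteType (Limits.pullback.snd f.left (η[G'] : 𝟙_ _ ⟶ G').left))
  have hsub : ∀ x : N.left, x = e.left (IsLocalRing.closedPoint k) := by
    intro x
    let K := AlgebraicClosure (N.left.residueField x)
    let p : Spec (CommRingCat.of K) ⟶ N.left :=
      Spec.map (CommRingCat.ofHom (algebraMap (N.left.residueField x) K)) ≫ N.left.fromSpecResidueField x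
    obtain ⟨φ, hφ⟩ := Spec.map_surjective (p ≫ N.hom)
    algebraize [φ.hom]
    let P : (Over.mk (Spec.map (CommRingCat.ofHom (algebraMap k K)))) ⟶ N := Over.homMk p hφ.symm
    have h1 : (P ≫ i) ≫ f = (toUnit _ ≫ η[G]) ≫ f := by
      rw [Category.assoc, Groth.Agent.Sga3B.KerGrp.kerι_comp, MonObj.comp_one, Category.assoc, IsMonHom.one_hom,
        ← Hom.one_def]
    have h2 : P ≫ i = toUnit _ ≫ η[G] := hgeom K h1
    rw [← he, ← Category.assoc, cancel_mono] at h2
    have h3 : P.left (IsLocalRing.closedPoint K) = x := by
      change p _ = x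
      simp only [p, Scheme.Hom.comp_apply]
      exact Scheme.fromSpecResidueField_apply x _
    rw [← h3, h2, Over.comp_left, Scheme.Hom.comp_apply]
    congr 1
    exact Subsingleton.elim (α := PrimeSpectrum k) _ _
  have hss : Subsingleton N.left := ⟨fun x y => (hsub x).trans (hsub y).symm⟩
  apply K406.TanMono.mono_of_isIso_ker
  apply K406.TanMono.isIso_of_tangent k N e
  intro g hg
  rw [← cancel_mono i, Category.assoc, he]
  apply htan
  · intro x
    rw [← Category.assoc, hg, he]
  · rw [Category.assoc, Groth.Agent.Sga3B.KerGrp.kerι_comp, MonObj.comp_one, ← Hom.one_def]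

end Groth.Agent.S15609
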