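import Groth.Statements.S15623
import Groth.Prelude.Def_SchFin2

set_option autoImplicit false
universe u
open SchFin SchFin.FEt

namespace Groth.Agent.S15623

open SchFin CategoryTheory in
/-- Over a schematic finite space, a morphism of étale covers which is injective at every point is a
monomorphism in the category of étale covers. -/
theorem result (X : RSpace.{u}) (hX : X.IsSchematic) {A B : FEt X} (f : A ⟶ B)
    (hf : ∀ p : X.pt, Function.Injective (f.hom.app p)) : Mono f := by
  refine ⟨fun {C} g h hgh => ?_⟩
  have key : ∀ p : X.pt, g.hom.app p = h.hom.app p := by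
    intro p
    have h1 : (f.hom.app p).comp (g.hom.app p) = (f.hom.app p).comp (h.hom.app p) :=
      congrArg (fun t : C ⟶ B => t.hom.app p) hgh
    ext x
    exact hf p (AlgHom.congr_fun h1 x)
  exact ObjectProperty.hom_ext _ (Alg.hom_ext _ _ key)

end Groth.Agent.S15623
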