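import Groth.Statements.S15624
import Groth.Prelude.Def_SchFin2

set_option autoImplicit false
universe u
open SchFin SchFin.FEt

namespace Groth.Agent.S15624

open SchFin CategoryTheory in
/-- Over a schematic finite space, a morphism of étale covers which is surjective at every point is an
epimorphism in the category of étale covers. -/
theorem result (X : RSpace.{u}) (hX : X.IsSchematic) {A B : FEt X} (f : A ⟶ B)
    (hf : ∀ p : X.pt, Function.Surjective (f.hom.app p)) : Epi f := by
  refine ⟨fun {C} g h hgh => ?_⟩
  have key : ∀ p : X.pt, g.hom.app p = h.hom.app p := by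
    intro p
    have h1 : (g.hom.app p).comp (f.hom.app p) = (h.hom.app p).comp (f.hom.app p) :=
      congrArg (fun t : A ⟶ C => t.hom.app p) hgh
    ext x
    obtain ⟨y, rfl⟩ := hf p x
    exact AlgHom.congr_fun h1 y
  exact ObjectProperty.hom_ext _ (Alg.hom_ext _ _ key)

end Groth.Agent.S15624
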