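import Groth.Statements.S15637
import Groth.Agent.HilbZeta.K940.AxesHilb

set_option autoImplicit false
universe u
open CategoryTheory CategoryTheory.Limits AlgebraicGeometry
open HilbZeta

namespace Groth.Agent.S15637

/-- Let k be an algebraically closed field, N a natural number and X_N = Spec k[x_1, …, x_N]/(x_i x_j :
i ≠ j) the union of the coordinate axes in affine N-space, with origin x₀ (the point where all x_i
vanish). For every d let H_d be a k-scheme of finite type carrying a universal family Z_d ⊆ X_N ×_k
H_d of closed subschemes that are finite locally free of degree d over H_d (so H_d is the Hilbert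
scheme of d points of X_N), and write [–] for classes in the Grothendieck ring of k-schemes of
finite type and L for the class of the affine line; for each d let HP_d ⊆ H_d be a closed subscheme
whose points are exactly those h such that every point of Z_d lying over h projects to x₀ in X_N
(the punctual Hilbert scheme of d points of X_N at x₀; its class does not depend on the chosen
subscheme structure). Then for every d the class [HP_d] is a polynomial in L with integer
coefficients. (The published statement gives moreover the punctual Hilbert zeta function Σ_d [HP_d]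
t^d explicitly, as 1 plus (1 − t)^(−N) times a polynomial of degree N in t whose coefficients are
classes of open pieces of Grassmannians; this row states its final assertion only.) -/
theorem result (k : Type u) [Field k] [IsAlgClosed k] (N : ℕ)
    (J : Ideal (MvPolynomial (Fin N) k))
    (hJ : J = Ideal.span {m | ∃ i j : Fin N, i ≠ j ∧ m = MvPolynomial.X i * MvPolynomial.X j})
    (H : ℕ → Over (Spec (CommRingCat.of k)))
    (Z : ∀ d, HilbD.Obj (Spec.map (CommRingCat.ofHom (algebraMap k (MvPolynomial (Fin N) k ⧸ J)))) d (H d)) (hZ : ∀ d, HilbD.IsUniversal (Spec.map (CommRingCat.ofHom (algebraMap k (MvPolynomial (Fin N) k ⧸ J)))) d (H d) (Z d))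
    [∀ d, LocallyOfFiniteType (H d).hom] [∀ d, QuasiCompact (H d).hom]
    (x₀ : Spec (CommRingCat.of (MvPolynomial (Fin N) k ⧸ J)))
    (hx₀ : x₀.asIdeal = Ideal.map (Ideal.Quotient.mk J) (Ideal.span (Set.range MvPolynomial.X)))
    (HP : ℕ → Scheme.{u}) (ι : ∀ d, HP d ⟶ (H d).left) [∀ d, IsClosedImmersion (ι d)]
    (hι : ∀ d, Set.range (ι d) = {h | ∀ z : (Z d).1.subscheme,
      ((Z d).1.subschemeι ≫ pullback.snd (Spec.map (CommRingCat.ofHom (algebraMap k (MvPolynomial (Fin N) k ⧸ J)))) (H d).hom) z = h →
        ((Z d).1.subschemeι ≫ pullback.fst (Spec.map (CommRingCat.ofHom (algebraMap k (MvPolynomial (Fin N) k ⧸ J)))) (H d).hom) z = x₀}) (d : ℕ) :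
    ∃ p : Polynomial ℤ, K0Var.cl (ι d ≫ (H d).hom) =
      Polynomial.eval₂ (Int.castRingHom (K0Var.K (Spec (CommRingCat.of k)))) (K0Var.L (Spec (CommRingCat.of k))) p := by
  rcases Nat.eq_zero_or_pos d with hd | hd
  · subst hd
    rw [K940.Axes.cl_zero x₀ (H 0) (Z 0) (hZ 0) (HP 0) (ι 0) (hι 0), K940.ClAff.cA_self]
    exact K940.Torus.IsPolL.one
  · rw [K940.Axes.cl_axes (Ideal.Quotient.mkₐ k J) hd (Ideal.Quotient.mkₐ_surjective k J) ?_ ?_ x₀ hx₀
      (H d) (Z d) (hZ d) (HP d) (ι d) (hι d)]
    · exact K940.Torus.IsPolL.sum _ _ fun s _ => K940.Torus.isPolL_tor _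
    · intro i j hij
      refine Ideal.Quotient.eq_zero_iff_mem.mpr ?_
      rw [hJ]
      exact Ideal.subset_span ⟨i, j, hij, rfl⟩
    · intro f hf
      rw [← hJ]
      exact Ideal.Quotient.eq_zero_iff_mem.mp hf

end Groth.Agent.S15637
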