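import Groth.Statements.S15638
import Groth.Agent.HilbZeta.K940.FlagHilb
import Groth.Agent.HilbZeta.K940.HilbGen

set_option autoImplicit false
universe u
open CategoryTheory CategoryTheory.Limits AlgebraicGeometry
open HilbZeta

namespace Groth.Agent.S15638

/-- Let k be an algebraically closed field, n ≥ 1 and C_n = Spec k[x, y]/(y^n) the n-fold thickened
affine line in the plane, with origin x₀ (where x and y vanish). For every d let H_d be a k-scheme
of finite type carrying a universal family Z_d ⊆ C_n ×_k H_d of closed subschemes that are finite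
locally free of degree d over H_d (so H_d is the Hilbert scheme of d points of C_n), and write [–]
for classes in the Grothendieck ring of k-schemes of finite type and L for the class of the affine
line; for each d let HP_d ⊆ H_d be a closed subscheme whose points are exactly those h such that
every point of Z_d lying over h projects to x₀ in C_n (the punctual Hilbert scheme of d points of
C_n at x₀; its class does not depend on the chosen subscheme structure). Then (Σ_d [HP_d] t^d) ·
∏_{m=1}^{n} (1 − L^(m−1) t^m) = 1: the punctual Hilbert zeta function of C_n at the origin is the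
inverse of ∏_{m=1}^{n} (1 − L^(m−1) t^m). -/
theorem result (k : Type u) [Field k] [IsAlgClosed k] (n : ℕ) (hn : 0 < n)
    (J : Ideal (MvPolynomial (Fin 2) k)) (hJ : J = Ideal.span {MvPolynomial.X 1 ^ n})
    (H : ℕ → Over (Spec (CommRingCat.of k)))
    (Z : ∀ d, HilbD.Obj (Spec.map (CommRingCat.ofHom (algebraMap k (MvPolynomial (Fin 2) k ⧸ J)))) d (H d)) (hZ : ∀ d, HilbD.IsUniversal (Spec.map (CommRingCat.ofHom (algebraMap k (MvPolynomial (Fin 2) k ⧸ J)))) d (H d) (Z d))
    [∀ d, LocallyOfFiniteType (H d).hom] [∀ d, QuasiCompact (H d).hom]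
    (x₀ : Spec (CommRingCat.of (MvPolynomial (Fin 2) k ⧸ J)))
    (hx₀ : x₀.asIdeal = Ideal.map (Ideal.Quotient.mk J) (Ideal.span (Set.range MvPolynomial.X)))
    (HP : ℕ → Scheme.{u}) (ι : ∀ d, HP d ⟶ (H d).left) [∀ d, IsClosedImmersion (ι d)]
    (hι : ∀ d, Set.range (ι d) = {h | ∀ z : (Z d).1.subscheme,
      ((Z d).1.subschemeι ≫ pullback.snd (Spec.map (CommRingCat.ofHom (algebraMap k (MvPolynomial (Fin 2) k ⧸ J)))) (H d).hom) z = h →
        ((Z d).1.subschemeι ≫ pullback.fst (Spec.map (CommRingCat.ofHom (algebraMap k (MvPolynomial (Fin 2) k ⧸ J)))) (H d).hom) z = x₀}) :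
    PowerSeries.mk (fun d => K0Var.cl (ι d ≫ (H d).hom)) *
      (∏ m ∈ Finset.range n, (1 - PowerSeries.C (K0Var.L (Spec (CommRingCat.of k)) ^ m) * PowerSeries.X ^ (m + 1))) = 1 := by
  have h1 : (fun d => K0Var.cl (ι d ≫ (H d).hom)) = fun d => ∑ c : K940.HZFlag.Sg n d,
      K0Var.L (Spec (CommRingCat.of k)) ^ Fintype.card (K940.HZFlag.Par (K940.HZFlag.ext0 c.1) n) := by
    funext d
    refine K940.HZFlag.cl_punctual (Ideal.Quotient.mkₐ k J) n d (Ideal.Quotient.mkₐ_surjective k J) ?_ x₀
      hx₀ ?_ (H d) (Z d) (hZ d) (HP d) (ι d) (hι d)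
    · intro f hf
      rw [← hJ]
      exact Ideal.Quotient.eq_zero_iff_mem.mp hf
    · intro K Q' _ _ κ' β' a' _
      rw [← map_pow, ← map_pow]
      have h2 : Ideal.Quotient.mkₐ k J (MvPolynomial.X 1 ^ n) = 0 :=
        Ideal.Quotient.eq_zero_iff_mem.mpr (by rw [hJ]; exact Ideal.subset_span rfl)
      rw [h2, map_zero]
  rw [h1]
  exact K940.HZFlag.mk_sum_mul_prod _ n

end Groth.Agent.S15638
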