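import Groth.Statements.S15639
import Groth.Agent.HilbZeta.K940.FlagHilb
import Groth.Agent.HilbZeta.K940.HilbGen
import Groth.Agent.HilbZeta.K940.NilPow

set_option autoImplicit false
universe u
open CategoryTheory CategoryTheory.Limits AlgebraicGeometry
open HilbZeta

namespace Groth.Agent.S15639

/-- Let k be an algebraically closed field and A² = Spec k[x, y] the affine plane, with origin x₀. For
every d let H_d be a k-scheme of finite type carrying a universal family Z_d ⊆ A² ×_k H_d of closed
subschemes that are finite locally free of degree d over H_d (so H_d is the Hilbert scheme of d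
points of A²), and write [–] for classes in the Grothendieck ring of k-schemes of finite type and L
for the class of the affine line; for each d let HP_d ⊆ H_d be a closed subscheme whose points are
exactly those h such that every point of Z_d lying over h projects to x₀ in A² (the punctual Hilbert
scheme of d points of A² at x₀; its class does not depend on the chosen subscheme structure). Then
for every D the product (Σ_d [HP_d] t^d) · ∏_{m=1}^{D} (1 − L^(m−1) t^m) is congruent to 1 modulo
t^(D+1); that is, the punctual Hilbert zeta function of the plane at the origin is the inverse of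
the infinite product ∏_{m ≥ 1} (1 − L^(m−1) t^m). -/
theorem result (k : Type u) [Field k] [IsAlgClosed k]
    (H : ℕ → Over (Spec (CommRingCat.of k)))
    (Z : ∀ d, HilbD.Obj (Spec.map (CommRingCat.ofHom (algebraMap k (MvPolynomial (Fin 2) k)))) d (H d)) (hZ : ∀ d, HilbD.IsUniversal (Spec.map (CommRingCat.ofHom (algebraMap k (MvPolynomial (Fin 2) k)))) d (H d) (Z d))
    [∀ d, LocallyOfFiniteType (H d).hom] [∀ d, QuasiCompact (H d).hom]
    (x₀ : Spec (CommRingCat.of (MvPolynomial (Fin 2) k)))
    (hx₀ : x₀.asIdeal = Ideal.span (Set.range MvPolynomial.X))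
    (HP : ℕ → Scheme.{u}) (ι : ∀ d, HP d ⟶ (H d).left) [∀ d, IsClosedImmersion (ι d)]
    (hι : ∀ d, Set.range (ι d) = {h | ∀ z : (Z d).1.subscheme,
      ((Z d).1.subschemeι ≫ pullback.snd (Spec.map (CommRingCat.ofHom (algebraMap k (MvPolynomial (Fin 2) k)))) (H d).hom) z = h →
        ((Z d).1.subschemeι ≫ pullback.fst (Spec.map (CommRingCat.ofHom (algebraMap k (MvPolynomial (Fin 2) k)))) (H d).hom) z = x₀}) (D : ℕ) :
    PowerSeries.trunc (D + 1) (PowerSeries.mk (fun d => K0Var.cl (ι d ≫ (H d).hom)) *
      (∏ m ∈ Finset.range D, (1 - PowerSeries.C (K0Var.L (Spec (CommRingCat.of k)) ^ m) * PowerSeries.X ^ (m + 1)))) = 1 := by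
  refine K940.HZFlag.trunc_mul_prod _ D _ fun d hd => ?_
  refine K940.HZFlag.cl_punctual (AlgHom.id k (MvPolynomial (Fin 2) k)) D d Function.surjective_id ?_
    x₀ ?_ ?_ (H d) (Z d) (hZ d) (HP d) (ι d) (hι d)
  · intro f hf
    have h1 : f = 0 := hf
    rw [h1]
    exact Submodule.zero_mem _
  · rw [hx₀]
    exact (Ideal.map_id _).symm
  · intro K Q' _ _ κ' β' a' hP
    obtain ⟨u, hu⟩ := hP.bas
    have hnil : IsNilpotent (a' (MvPolynomial.X 1)) := by
      rw [nilpotent_iff_mem_prime]
      intro P hP'
      have h1 := hP.supp ⟨P, hP'⟩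
      have h2 : (MvPolynomial.X 1 : MvPolynomial (Fin 2) k) ∈ x₀.asIdeal := by
        rw [hx₀]
        exact Ideal.subset_span ⟨1, rfl⟩
      rw [← h1] at h2
      exact h2
    exact pow_eq_zero_of_le hd (K940.HZFlag.pow_eq_zero_of_bij β' _ hu _ hnil)

end Groth.Agent.S15639
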