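import Groth.Statements.S15641
import Groth.Agent.HilbZeta.K842.ReducedCurve

set_option autoImplicit false
universe u
open CategoryTheory CategoryTheory.Limits AlgebraicGeometry
open HilbZeta

namespace Groth.Agent.S15641

/-- Let k be an algebraically closed field and X a reduced separated k-scheme of finite type whose local
ring at every closed point has Krull dimension one (a reduced curve); for every d let H_d be a
k-scheme of finite type carrying a universal family Z_d ⊆ X ×_k H_d of closed subschemes that are
finite locally free of degree d over H_d (so H_d is the Hilbert scheme of d points of X), and write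
[–] for classes in the Grothendieck ring of k-schemes of finite type. Then the Hilbert zeta function
Σ_d [H_d] t^d has constant term 1 and is a rational function: there are polynomials P and Q over
that ring, Q with constant term 1, such that (Σ_d [H_d] t^d) · Q = P. -/
theorem result (k : Type u) [Field k] [IsAlgClosed k]
    (X : Scheme.{u}) (f : X ⟶ Spec (CommRingCat.of k)) [LocallyOfFiniteType f] [QuasiCompact f] [IsSeparated f] [IsReduced X]
    (hdim : ∀ x : X, IsClosed ({x} : Set X) → ringKrullDim (X.presheaf.stalk x) = 1)
    (H : ℕ → Over (Spec (CommRingCat.of k)))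
    (Z : ∀ d, HilbD.Obj f d (H d)) (hZ : ∀ d, HilbD.IsUniversal f d (H d) (Z d))
    [∀ d, LocallyOfFiniteType (H d).hom] [∀ d, QuasiCompact (H d).hom] :
    PowerSeries.constantCoeff (PowerSeries.mk (fun d => K0Var.cl (H d).hom)) = 1 ∧
    ∃ P Q : Polynomial (K0Var.K (Spec (CommRingCat.of k))), Q.coeff 0 = 1 ∧
      PowerSeries.mk (fun d => K0Var.cl (H d).hom) * (Q : PowerSeries (K0Var.K (Spec (CommRingCat.of k)))) =
        (P : PowerSeries (K0Var.K (Spec (CommRingCat.of k)))) := by
  refine ⟨?_, ?_⟩
  · have hN := fun d => K842.K0Basic.isNoetherian_of_ft (H d).hom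
    rw [← PowerSeries.coeff_zero_eq_constantCoeff_apply, PowerSeries.coeff_mk]
    exact K842.Removal.cl_zero (hZ 0)
  · have h := K842.ReducedCurve.isRat hdim hZ
    rw [K842.ProdPoints.zetaOpen_top] at h
    exact h

end Groth.Agent.S15641
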