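import Groth.Statements.S15643
import Groth.Agent.RelQuot.K928.Filt
import Groth.Agent.RelQuot.K928.AFc
import Groth.Agent.S14664

set_option autoImplicit false
universe u
open RelQuot

namespace Groth.Agent.S15643

open CategoryTheory CategoryTheory.Limits AlgebraicGeometry in
/-- Let k be an algebraically closed field of characteristic zero, Y a scheme of finite type over k, f :
X → Y a smooth morphism of relative dimension 1 factoring through a closed immersion into some
projective space P^n_Y over Y (a family of smooth projective curves), and E an O_X-module locally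
free of rank r ≥ 1 that is filtered by line bundles: there is a chain of sub-O_X-modules 0 = E_0 ≤
E_1 ≤ ⋯ ≤ E_r = E with E_i locally free of rank i and each E_{i+1}/E_i locally free of rank 1. Fix d
≥ 0. For every a ≤ d let (S_a, q_a, g_a) be an a-th symmetric power of X over Y (q_a : X ×_Y ⋯ ×_Y X
→ S_a a quotient of the a-fold fibre power by the symmetric group permuting the factors: affine,
invariant, with the sections of S_a the invariant sections; g_a : S_a → Y its structure map, of
finite type), and let (H, u) represent the functor of length-d quotients of E along f (u a universal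
family: every sub-module of the pull-back of E to X ×_Y T whose quotient is quasi-coherent, lives on
a closed subscheme finite over T and has finite locally free direct image of rank d on T is pulled
back from u along a unique Y-morphism T → H), with H → Y of finite type. Then in the Grothendieck
ring of Y-schemes of finite type (product = fibre product over Y, L_Y = class of the affine line
over Y) the class of H → Y is the sum, over all r-tuples (α_0, …, α_{r−1}) of natural numbers with
α_0 + ⋯ + α_{r−1} = d, of the products ∏_{i=0}^{r−1} [S_{α_i} → Y] · L_Y^{i·α_i}. -/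
theorem result
    (k : Type u) [Field k] [IsAlgClosed k] [CharZero k] {X Y : Scheme.{u}}
    (pY : Y ⟶ Spec (CommRingCat.of k)) [LocallyOfFiniteType pY] [QuasiCompact pY]
    (f : X ⟶ Y) [SmoothOfRelativeDimension 1 f]
    (n : ℕ) (ι : X ⟶ CohB1.ProjSpaceOver n Y) [IsClosedImmersion ι]
    (hι : ι ≫ CohB1.ProjSpaceOver.toBase n Y = f)
    (E : X.Modules) (r : ℕ) (hr : 1 ≤ r) (hE : FlatMod.IsFinLocFreeOfRank r E)
    (F : Fin (r + 1) → Subobject E) (hF : Monotone F) (hF0 : F 0 = ⊥) (hFr : F (Fin.last r) = ⊤)
    (hFrk : ∀ i : Fin (r + 1), FlatMod.IsFinLocFreeOfRank (i : ℕ) (Subobject.underlying.obj (F i)))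
    (hFq : ∀ i : Fin r, ∃ h : F i.castSucc ≤ F i.succ,
      FlatMod.IsFinLocFreeOfRank 1 (cokernel ((F i.castSucc).ofLE (F i.succ) h)))
    (d : ℕ) (Sy : Fin (d + 1) → Scheme.{u}) (q : ∀ a : Fin (d + 1), SymProd.fibPow f (a : ℕ) ⟶ Sy a)
    (g : ∀ a : Fin (d + 1), Sy a ⟶ Y) (hSy : ∀ a : Fin (d + 1), SymProd.IsSymProd f (a : ℕ) (q a) (g a))
    [∀ a : Fin (d + 1), LocallyOfFiniteType (g a)] [∀ a : Fin (d + 1), QuasiCompact (g a)]
    (H : Over Y) (u : QuotD.Obj f E d H) (hu : QuotD.IsUniversal f E d H u)
    [LocallyOfFiniteType H.hom] [QuasiCompact H.hom] :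
    K0Var.cl H.hom =
      ∑ α ∈ (Finset.univ : Finset (Fin r → Fin (d + 1))).filter (fun α => ∑ i, (α i : ℕ) = d),
        ∏ i : Fin r, K0Var.cl (g (α i)) * K0Var.L Y ^ ((i : ℕ) * (α i : ℕ)) := by
  have i1 : IsLocallyNoetherian Y := LocallyOfFiniteType.isLocallyNoetherian pY
  have i2 : CompactSpace Y := QuasiCompact.compactSpace_of_compactSpace pY
  have i3 : IsNoetherian Y := {}
  have i4 : IsProper f := K928.AFc.isProper n ι hι
  have hAF : K928.Pts.AFb f := K928.AFc.afb n ι hι
  have hD := fun b : Fin (d + 1) => Groth.Agent.S14664.result f (K928.AFc.symAF hAF) b (q b) (g b) (hSy b)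
  choose D hD using hD
  let 𝒟 : K928.Filt.Div f d :=
    { B := fun b => Over.mk (g b)
      lft := fun b => inferInstanceAs (LocallyOfFiniteType (g b))
      qc := fun b => inferInstanceAs (QuasiCompact (g b))
      D := D
      univ := hD }
  have h1 := K928.Filt.wf_total hAF hr (K928.Filt.isQCoh_of_rank hE) F hF0 hFr hFrk hFq 𝒟
  have h2 := K928.Final.cl_eq_of_universal hAF (K928.Filt.isQCoh_of_rank hE) h1 H u hu
  rw [h2, K928.Comb.Cr_eq _ _ d r d le_rfl]
  refine Finset.sum_congr rfl fun α _ => Finset.prod_congr rfl fun i _ => ?_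
  congr 1
  rw [K928.Filt.Div.s, dif_pos (α i).2]
  exact K928.K0Calc.clD_eq (g (α i))

end Groth.Agent.S15643
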