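import Groth.Statements.S15644
import Groth.Agent.RelQuot.K928.Total
import Groth.Agent.RelQuot.K928.AFc
import Groth.Agent.Sga4B.RelCurveFibre
import Groth.Agent.Fdesc.GeomAlgClosed
import Groth.Agent.Flat2B.SmoothGeom
import Groth.Agent.S1170

set_option autoImplicit false
universe u
open RelQuot

namespace Groth.Agent.S15644

open CategoryTheory CategoryTheory.Limits AlgebraicGeometry in
/-- Let k be an algebraically closed field of characteristic zero, Y a scheme of finite type over k, C
an irreducible scheme smooth of relative dimension 1 over k that admits a closed immersion into some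
P^n_k over k (a smooth projective curve), and E a module on Y ×_k C locally free of rank r. Fix d ≥
0. Let (H_1, u_1) represent the functor of length-d quotients of E along the projection Y ×_k C → Y
and (H_2, u_2) the functor of length-d quotients of the free module O_C^r along C → Spec k (in each
case a universal family of sub-modules of the pulled-back module whose quotient is quasi-coherent,
lives on a closed subscheme finite over the test scheme and has finite locally free direct image of
rank d), with H_1 → Y and H_2 → Spec k of finite type. Then in the Grothendieck ring of k-schemes of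
finite type the class of H_1 (as a k-scheme, via H_1 → Y → Spec k) equals [Y] · [H_2]. -/
theorem result
    (k : Type u) [Field k] [IsAlgClosed k] [CharZero k] (Y C : Scheme.{u})
    (pY : Y ⟶ Spec (CommRingCat.of k)) [LocallyOfFiniteType pY] [QuasiCompact pY]
    (pC : C ⟶ Spec (CommRingCat.of k)) [SmoothOfRelativeDimension 1 pC] [IrreducibleSpace C]
    (n : ℕ) (ι : C ⟶ CohB1.ProjSpaceOver n (Spec (CommRingCat.of k))) [IsClosedImmersion ι]
    (hι : ι ≫ CohB1.ProjSpaceOver.toBase n (Spec (CommRingCat.of k)) = pC)
    (E : (pullback pY pC).Modules) (r : ℕ) (hE : FlatMod.IsFinLocFreeOfRank r E) (d : ℕ)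
    (H₁ : Over Y) (u₁ : QuotD.Obj (pullback.fst pY pC) E d H₁)
    (h₁ : QuotD.IsUniversal (pullback.fst pY pC) E d H₁ u₁)
    [LocallyOfFiniteType H₁.hom] [QuasiCompact H₁.hom]
    (H₂ : Over (Spec (CommRingCat.of k))) (u₂ : QuotD.Obj pC (FlatMod.freeMod C r) d H₂)
    (h₂ : QuotD.IsUniversal pC (FlatMod.freeMod C r) d H₂ u₂)
    [LocallyOfFiniteType H₂.hom] [QuasiCompact H₂.hom] :
    K0Var.cl (H₁.hom ≫ pY) = K0Var.cl pY * K0Var.cl H₂.hom := by
  have h1 : IsProper pC := K928.AFc.isProper n ι hι
  have h2 : K928.Pts.AFb pC := K928.AFc.afb n ι hι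
  have h3 : Smooth pC := SmoothOfRelativeDimension.smooth 1 pC
  have h4 : GeometricallyIrreducible pC := Groth.Agent.Fdesc.GeomAlgClosed.geometricallyIrreducible_of_irreducibleSpace pC
  have h5 : GeometricallyIntegral pC := Groth.Agent.Flat2B.SmoothGeom.geometricallyIntegral_of_smooth pC
  have h6 : Curve.IsSmoothProperCurve k C pC := Groth.Agent.Sga4B.RelCurveFibre.isSmoothProperCurve pC
  have h7 := fun b : Fin (d + 1) => Groth.Agent.S1170.result k C pC h6 b
  choose B D hD hBp hBs using h7
  let 𝒟 : K928.Filt.Div pC d :=
    { B := B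
      lft := fun b => inferInstance
      qc := fun b => inferInstance
      D := D
      univ := hD }
  have h8 := K928.Total.cl_total (IsPullback.of_hasPullback pY pC).flip h2 hE 𝒟 H₁ u₁ h₁
  have h9 := K928.Final.cl_eq_of_universal h2
    (Groth.Agent.PerfA.QCohEpi.isQCoh_of_isFinLocFree (Groth.Agent.Dcoh.ResFree.isFinLocFree_freeMod r))
    (K928.Flags.wf_flag h2 (K928.Flags.flag_free r) 𝒟 d le_rfl) H₂ u₂ h₂
  rw [h8, h9]

end Groth.Agent.S15644
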