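import Groth.Statements.S15646
import Groth.Agent.StrictSS.K866.ModIso

set_option autoImplicit false
universe u
open StrictSS

namespace Groth.Agent.S15646

open CategoryTheory CategoryTheory.Limits AlgebraicGeometry in
/-- Let R be a valuation ring with finitely many prime ideals whose fraction field K is separably
closed, S = Spec R, and C a reduced S-curve without marked points (flat, finitely presented, of pure
relative dimension one over S, not assumed proper or separated) which is strictly semistable over S
and has smooth generic fibre C_K. Then strictly semistable blow-ups of C are cofinal in the family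
of all modifications of C: for every modification g : C'' → C there are a quasi-coherent ideal of
finite type on C and a blowing up C' → C in it which is a modification with C' strictly semistable
over S and which factors through g (C' dominates C''). -/
theorem result
    (R : Type u) [CommRing R] [IsDomain R] [ValuationRing R] [Finite (PrimeSpectrum R)]
    [IsSepClosed (FractionRing R)]
    {C : Scheme.{u}} (φ : C ⟶ Spec (CommRingCat.of R)) [IsReduced C]
    (h : StrictSS.IsStrictlySemistable φ (Scheme.emptyTo C))
    (hK : Smooth (pullback.snd φ (Spec.map (CommRingCat.ofHom (algebraMap R (FractionRing R))))))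
    {C'' : Scheme.{u}} (g : C'' ⟶ C) (hg : SSMod.IsModification g) :
    ∃ (C' : Scheme.{u}) (fC : C' ⟶ C) (𝓘 : C.IdealSheafData) (e : C' ⟶ C''),
      BlowUp.IsBlowUp fC 𝓘 ∧ BlowUp.IsFiniteTypeIdeal 𝓘 ∧ SSMod.IsModification fC ∧
      StrictSS.IsStrictlySemistable (fC ≫ φ) (Scheme.emptyTo C') ∧ e ≫ g = fC := by
  have hφ := K866.ToGood.good_of_isStrictlySemistable h hK
  obtain ⟨C', b, e, hdom, he, -, -⟩ := K866.ModIso.exists_dominating (FractionRing R) hφ hg ∅
    Set.finite_empty (by simp)
  obtain ⟨𝓘, hb, hft⟩ := hdom.blow
  have het : Etale (Scheme.emptyTo C' ≫ b ≫ φ) := inferInstance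
  have hemp : ∀ d : (∅ : Scheme.{u}), Groth.Agent.CurvesB.NodalPoint.Sm (b ≫ φ) (Scheme.emptyTo C' d) := fun d => d.elim
  exact ⟨C', b, 𝓘, e, hb, hft, K866.MPBack.Dom.isModification hφ hdom,
    K866.MPBack.isStrictlySemistable_of_good hdom.good (Scheme.emptyTo C') hemp, he⟩

end Groth.Agent.S15646
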