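import Groth.Statements.S15647
import Groth.Agent.StrictSS.K866.DLift

set_option autoImplicit false
universe u
open StrictSS

namespace Groth.Agent.S15647

open CategoryTheory CategoryTheory.Limits AlgebraicGeometry in
/-- Let R be a valuation ring with finitely many prime ideals whose fraction field K is separably
closed, S = Spec R, and (C, D) a multipointed S-curve with C and D reduced whose generic fibre (C_K,
D_K) is semistable, and assume that C, without its marked points, is strictly semistable over S with
smooth generic fibre C_K. Then there is a blowing up C' → C, in a quasi-coherent ideal of finite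
type, which underlies a strictly semistable modification (C', D') → (C, D). -/
theorem result
    (R : Type u) [CommRing R] [IsDomain R] [ValuationRing R] [Finite (PrimeSpectrum R)]
    [IsSepClosed (FractionRing R)]
    {C D : Scheme.{u}} (φ : C ⟶ Spec (CommRingCat.of R)) (i : D ⟶ C)
    (hC : SSMod.IsMPCurve φ i) [IsReduced C] [IsReduced D]
    (hη : SSMod.IsSemistable (pullback.snd φ (Spec.map (CommRingCat.ofHom (algebraMap R (FractionRing R)))))
      (CInt.baseChangeOver i φ (Spec.map (CommRingCat.ofHom (algebraMap R (FractionRing R))))))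
    (hK : Smooth (pullback.snd φ (Spec.map (CommRingCat.ofHom (algebraMap R (FractionRing R))))))
    (h : StrictSS.IsStrictlySemistable φ (Scheme.emptyTo C)) :
    ∃ (C' D' : Scheme.{u}) (i' : D' ⟶ C') (fC : C' ⟶ C) (fD : D' ⟶ D) (𝓘 : C.IdealSheafData),
      BlowUp.IsBlowUp fC 𝓘 ∧ BlowUp.IsFiniteTypeIdeal 𝓘 ∧
      StrictSS.IsStrictSSModification φ i i' fC fD := by
  obtain ⟨-, -, -, -, -, hcl, hflat, hlfp, -⟩ := hC
  have hφ := K866.ToGood.good_of_isStrictlySemistable h hK
  have het : Etale (pullback.snd (i ≫ φ)
      (Spec.map (CommRingCat.ofHom (algebraMap R (FractionRing R))))) := by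
    have h1 := hη.2.2.1
    have h2 : CInt.baseChangeOver i φ (Spec.map (CommRingCat.ofHom (algebraMap R (FractionRing R)))) ≫
        pullback.snd φ (Spec.map (CommRingCat.ofHom (algebraMap R (FractionRing R)))) =
        pullback.snd (i ≫ φ) (Spec.map (CommRingCat.ofHom (algebraMap R (FractionRing R)))) := by
      rw [CInt.baseChangeOver, pullback.map, pullback.lift_snd, Category.comp_id]
    rwa [h2] at h1
  obtain ⟨C', D', i', fC, fD, hdom, hmod⟩ :=
    K866.DLift.exists_modification (FractionRing R) hφ i het
  obtain ⟨𝓘, hb, hft⟩ := hdom.blow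
  exact ⟨C', D', i', fC, fD, 𝓘, hb, hft, hmod⟩

end Groth.Agent.S15647
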