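import Groth.Statements.S15648
import Groth.Agent.StrictSS.K866.CommonDom

set_option autoImplicit false
universe u
open StrictSS

namespace Groth.Agent.S15648

open CategoryTheory CategoryTheory.Limits AlgebraicGeometry in
/-- Let R be a valuation ring with finitely many prime ideals whose fraction field K is separably
closed, S = Spec R, and (C, D) a multipointed S-curve with C and D reduced and with smooth generic
fibre C_K; let (C_st, D_st) → (C, D) be a stable modification and (C', D') → (C, D) a semistable
modification. If C is a modification, over S, of a strictly semistable S-curve C₁ without marked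
points, then both modifications are dominated by one semistable modification (C̄, D̄) → (C, D):
there are morphisms of multipointed curves from (C̄, D̄) to (C', D') and to (C_st, D_st) over (C,
D). (The published statement does not assume the generic fibre of C₁ smooth; this row assumes it,
because the argument applies the cofinality of strictly semistable blow-ups to C₁, which needs a
smooth generic fibre.) -/
theorem result
    (R : Type u) [CommRing R] [IsDomain R] [ValuationRing R] [Finite (PrimeSpectrum R)]
    [IsSepClosed (FractionRing R)]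
    {C D Cst Dst C' D' C₁ : Scheme.{u}} (φ : C ⟶ Spec (CommRingCat.of R)) (i : D ⟶ C)
    (hC : SSMod.IsMPCurve φ i) [IsReduced C] [IsReduced D]
    (hK : Smooth (pullback.snd φ (Spec.map (CommRingCat.ofHom (algebraMap R (FractionRing R))))))
    (ist : Dst ⟶ Cst) (fC : Cst ⟶ C) (fD : Dst ⟶ D) (hst : SSMod.IsStableModification φ i ist fC fD)
    (i' : D' ⟶ C') (gC : C' ⟶ C) (gD : D' ⟶ D) (hss : SSMod.IsSemistableModification φ i i' gC gD)
    (φ₁ : C₁ ⟶ Spec (CommRingCat.of R)) [IsReduced C₁] (m : C ⟶ C₁) (hm : m ≫ φ₁ = φ)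
    (hmod : SSMod.IsModification m) (h₁ : StrictSS.IsStrictlySemistable φ₁ (Scheme.emptyTo C₁))
    (hK₁ : Smooth (pullback.snd φ₁ (Spec.map (CommRingCat.ofHom (algebraMap R (FractionRing R)))))) :
    ∃ (Cb Db : Scheme.{u}) (ib : Db ⟶ Cb) (bC : Cb ⟶ C) (bD : Db ⟶ D) (pC : Cb ⟶ C') (pD : Db ⟶ D')
      (qC : Cb ⟶ Cst) (qD : Db ⟶ Dst),
      SSMod.IsSemistableModification φ i ib bC bD ∧
      (ib ≫ pC = pD ≫ i' ∧ pC ≫ gC = bC ∧ pD ≫ gD = bD) ∧
      (ib ≫ qC = qD ≫ ist ∧ qC ≫ fC = bC ∧ qD ≫ fD = bD) := by
  subst hm
  have hφ₁ := K866.ToGood.good_of_isStrictlySemistable h₁ hK₁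
  obtain ⟨hfl, hfp, -, -, hdim, -⟩ := id hC
  exact K866.CommonDom.exists_common (FractionRing R) φ₁ hφ₁ m hmod i hC
    (fun y hy => K866.ToGood.sm_genO (FractionRing R) hdim hK y hy) ist fC fD hst.1 i' gC gD hss

end Groth.Agent.S15648
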