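import Groth.Statements.S15677
import Groth.Agent.Variety.K104.SymbRows
import Groth.Agent.Vanish.K909.AltFinal
import Groth.Agent.Vanish.K909.KodAkn
import Groth.Agent.Resolve.K284.NodeB

set_option autoImplicit false
universe u
open CategoryTheory CategoryTheory.Limits AlgebraicGeometry
open Variety

namespace Groth.Agent.S15677

/-- Let k be an algebraically closed field of characteristic zero (the published statement is over the
complex numbers; this row allows any algebraically closed field of characteristic zero), n ≥ 1, and
I a nonzero quasi-coherent ideal sheaf on P^n_k which is radical (it defines a reduced closed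
subscheme Z). For p ≥ 0 write I^(p) for the p-th symbolic power: the ideal sheaf of functions whose
germ at every generic point of Z lies in the p-th power of the maximal ideal there. Suppose that
away from a finite set T of closed points the symbolic and ordinary powers agree for all p ≥ 1, in
the sense that I^(p) and I^p have the same ideal of sections over every affine open disjoint from T.
Then: (i) for every p ≥ 1 and every integer m, if the O-module I^p is m-regular then I^(p) is
m-regular (reg I^(p) ≤ reg I^p); and (ii) there are real numbers s and e such that for all p ≥ 1 and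
all integers m, s p ≤ m whenever I^p is m-regular, and I^(p) is m-regular whenever m ≥ s p + e. (The
published statement is the bound reg I^(p) ≤ s p + e with s the s-invariant of I; here s is pinned
by being a linear lower bound for the regularity of the ordinary powers: every such s is at most the
s-invariant and the s-invariant is one, so assertion (ii) amounts to the published bound, while
assertion (i) is the comparison of regularities the argument establishes. The zero ideal and n = 0
are excluded, as for the linear bounds on reg I^p.) -/
theorem result (k : Type u) [Field k] [IsAlgClosed k] [CharZero k]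
    (n : ℕ) (hn : 1 ≤ n) (I : (CohB1.ProjSpace n k).IdealSheafData) (hI : I ≠ ⊥) (hrad : I.radical = I)
    (T : Set (CohB1.ProjSpace n k)) (hT : T.Finite) (hTcl : ∀ t ∈ T, IsClosed ({t} : Set (CohB1.ProjSpace n k)))
    (hagree : ∀ p : ℕ, 1 ≤ p → ∀ U : (CohB1.ProjSpace n k).affineOpens,
      Disjoint ((U : (CohB1.ProjSpace n k).Opens) : Set (CohB1.ProjSpace n k)) T → (SymbPow.sheaf I p).ideal U = (I ^ p).ideal U) :
    (∀ p : ℕ, 1 ≤ p → ∀ m : ℤ, Curv2.IsMRegular k n (ClSub.idealMod (I ^ p)) m →
        Curv2.IsMRegular k n (ClSub.idealMod (SymbPow.sheaf I p)) m) ∧
    (∃ s e : ℝ, ∀ p : ℕ, 1 ≤ p → ∀ m : ℤ,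
        (Curv2.IsMRegular k n (ClSub.idealMod (I ^ p)) m → s * (p : ℝ) ≤ (m : ℝ)) ∧
        (s * (p : ℝ) + e ≤ (m : ℝ) → Curv2.IsMRegular k n (ClSub.idealMod (SymbPow.sheaf I p)) m)) := by
  exact K104.SymbRows.row15677 (K909.AltFinal.alt k (K284.NodeB.nodeB k))
    (fun X _ _ _ _ m hm L Linv hL hLinv b hb => K909.KodAkn.kod k X m hm L Linv hL hLinv b hb) n hn I hI T hT hTcl hagree

end Groth.Agent.S15677
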