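import Groth.Statements.S15685
import Groth.Agent.AGF.K925.Final

set_option autoImplicit false
universe u
open CategoryTheory CategoryTheory.Limits MonoidalCategory CartesianMonoidalCategory MonObj GrpObj AlgebraicGeometry
open AGF

namespace Groth.Agent.S15685

/-- Let k be an algebraically closed field (of any characteristic), G a connected reductive group over
k, P a parabolic subgroup of G (a smooth closed subgroup scheme containing a Borel subgroup) and X_P
the quotient G/P with its G-action and base point. Then there is a k-morphism f from the projective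
line P^1_k to X_P such that, for every parabolic subgroup Q of G containing P, every quotient X_Q =
G/Q and every G-equivariant morphism π : X_P → X_Q sending the base point of X_P to that of X_Q (the
projection G/P → G/Q), the pull-back along f of the sheaf of relative differentials Ω_π has only the
zero global section on P^1_k. (The published statement says that f^* of the relative tangent sheaf
of π is ample; since π is smooth, Ω_π is finite locally free and f^*Ω_π is the dual of that
pull-back, and a finite locally free sheaf on P^1 over an algebraically closed field has no nonzero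
global sections exactly when its dual is ample, so the two formulations agree. The published
statement is for standard parabolic subgroups, meaning geometrically reduced closed subgroups with
projective quotient, which over an algebraically closed field are exactly the smooth closed
subgroups containing a Borel subgroup used here.) -/
theorem result (k : Type u) [Field k] [IsAlgClosed k]
    (G : (Over (Spec (CommRingCat.of k)))) [GrpObj G] (hG : Red.IsReductiveOver k G)
    (P : (Over (Spec (CommRingCat.of k)))) [GrpObj P] (iP : P ⟶ G) (hP : Red.IsParabolicOver k iP)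
    (XP : (Over (Spec (CommRingCat.of k)))) (aP : AlgGrp.Action G XP) (oP : 𝟙_ (Over (Spec (CommRingCat.of k))) ⟶ XP)
    (hXP : AGF.IsQuotient iP XP aP oP) :
    ∃ f : CohB1.ProjSpace 1 k ⟶ XP.left, f ≫ XP.hom = CohB1.ProjSpace.toSpec 1 k ∧
      ∀ (Q : (Over (Spec (CommRingCat.of k)))) [GrpObj Q] (iQ : Q ⟶ G) (_ : Red.IsParabolicOver k iQ)
        (j : P ⟶ Q) (_ : j ≫ iQ = iP)
        (XQ : (Over (Spec (CommRingCat.of k)))) (aQ : AlgGrp.Action G XQ) (oQ : 𝟙_ (Over (Spec (CommRingCat.of k))) ⟶ XQ)
        (_ : AGF.IsQuotient iQ XQ aQ oQ) (π : XP ⟶ XQ) (_ : aP.act ≫ π = (G ◁ π) ≫ aQ.act) (_ : oP ≫ π = oQ),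
        Subsingleton (Coh.HH (CohB1.ProjSpace 1 k) ((Scheme.Modules.pullback f).obj (Omega.sheaf π.left)) 0) := by
  have hGs : Smooth G.hom := hG.2.1
  have hGaff : IsAffine G.left := hG.1
  have hPs : Smooth P.hom := hP.2.2.1
  have hPc : IsClosedImmersion iP.left := hP.2.1
  have hXft : LocallyOfFiniteType XP.hom := hXP.1
  have hXs : IsSeparated XP.hom :=
    Groth.Agent.Agf.H586.QuotSep.isSeparated_of_isQuotient iP aP oP hXP
  obtain ⟨lam, _, o', x, hg⟩ := K925.Lift.exists_good hG hP hXP
  obtain ⟨f, hfX, hft⟩ := K925.Curve.exists_f hg
  refine ⟨f, hfX, ?_⟩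
  intro Q _ iQ hQ j hj XQ aQ oQ hXQ π hπ ho
  have hQs : Smooth Q.hom := hQ.2.2.1
  have hsm : Smooth π.left := K925.Final.smooth_proj hXP hXQ π hπ ho
  have hqs : QuasiSeparated π.left := by
    have : QuasiSeparated (π.left ≫ XQ.hom) := by
      rw [Over.w]
      infer_instance
    exact QuasiSeparated.of_comp π.left XQ.hom
  have hd := K136.UnivOmega.isUniversal_dOmega π.left
  have hzero := K925.Curve.sections_eq_zero (aQ := aQ) hg hfX hft π hπ hd
  let e := Groth.Agent.CurvesB.HZero.equivAdd
    ((Scheme.Modules.pullback f).obj (Omega.sheaf π.left))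
  refine ⟨fun u v => e.injective ?_⟩
  rw [hzero (e u), hzero (e v)]

end Groth.Agent.S15685
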