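import Groth.Statements.S15687
import Groth.Agent.StackCount.K815.Rat
import Groth.Agent.StackCount.K815.Cov
import Groth.Agent.StackCount.K815.TwPts
import Groth.Agent.GalTw.K869.ProcH1


set_option autoImplicit false
universe u
open CategoryTheory AlgebraicGeometry MonObj
open GalTw

namespace Groth.Agent.S15687

open K815.Frob K815.PtsBC K815.TwLang K815.Rat K815.TwPts Limits MonoidalCategory CartesianMonoidalCategory

/-- Let k be a finite field with algebraic closure k̄, and let A, B, C be smooth algebraic groups over k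
with homomorphisms i : A → B and π : B → C forming a short exact sequence 1 → A → B → C → 1 (π ∘ i
trivial, B a pseudo-torsor over C under A acting through i, and π acquiring sections fppf-locally on
C), with A connected. Then the map H¹(k, B) → H¹(k, C) induced by π on the continuous Galois
cohomology sets (continuous cocycles of Gal(k̄/k) with values in the k̄-points, up to equivalence)
is bijective. -/
theorem result (k : Type u) [Field k] [Finite k]
    (kb : Type u) [Field kb] [Algebra k kb] [IsAlgClosure k kb]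
    (A B C : Over (Spec (CommRingCat.of k))) [GrpObj A] [GrpObj B] [GrpObj C]
    [Smooth A.hom] [Smooth B.hom] [Smooth C.hom]
    [QuasiCompact A.hom] [QuasiCompact B.hom] [QuasiCompact C.hom]
    (i : A ⟶ B) (π : B ⟶ C) [IsMonHom i] [IsMonHom π]
    (hex : NonAbH1.IsExactSeq Scheme.fppfPrecoverage i π) [ConnectedSpace A.left] :
    Function.Bijective
      (GalTw.H1lcMap (GalTw.ptsMap (K := kb) π) (GalTw.ptsMap_smul (K := kb) π)) := by
  have hkb : IsAlgClosed kb := IsAlgClosure.isAlgClosed k
  have hkb' : Algebra.IsAlgebraic k kb := IsAlgClosure.isAlgebraic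
  obtain ⟨φ, hφ⟩ := K815.GalFin.exists_frob (k := k) (kb := kb)
  obtain ⟨-, -, hip, hcart, hloc⟩ := hex
  -- `i` is a monomorphism
  have hmono : Mono i := by
    constructor
    intro T a a' h
    have h1 : lift (1 : T ⟶ B) a = lift (1 : T ⟶ B) a' := by
      apply hcart.hom_ext
      · rw [lift_fst, lift_fst]
      · rw [← Category.assoc, ← Category.assoc, lift_whiskerLeft, lift_whiskerLeft, h]
    have h2 := congrArg (fun f => f ≫ snd B A) h1
    simpa using h2
  -- the kernel of `π` on points
  have hker : ∀ (T : Over (Spec (CommRingCat.of k))) (b : T ⟶ B), b ≫ π = 1 → ∃ a : T ⟶ A, a ≫ i = b := by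
    intro T b hb
    have h1 : (1 : T ⟶ B) ≫ π = b ≫ π := by
      rw [MonObj.one_comp]; exact hb.symm
    let l := hcart.lift (1 : T ⟶ B) b h1
    refine ⟨l ≫ snd B A, ?_⟩
    have h2 : l ≫ fst B A = 1 := hcart.lift_fst _ _ _
    have h3 : l ≫ (B ◁ i) ≫ μ[B] = b := hcart.lift_snd _ _ _
    have h4 : (B ◁ i) ≫ μ[B] = fst B A * (snd B A ≫ i) := by
      rw [Hom.mul_def]
      congr 1
    rw [h4, MonObj.comp_mul, h2, _root_.one_mul, ← Category.assoc] at h3
    exact h3
  -- the conjugation action
  obtain ⟨c₀, hc₀⟩ := hker (B ⊗ A) (fst B A * (snd B A ≫ i) * (fst B A)⁻¹) (by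
    rw [MonObj.mul_comp, MonObj.mul_comp, GrpObj.inv_comp, Category.assoc, hip, MonObj.comp_one, _root_.mul_one,
      mul_inv_cancel])
  let c : AlgGrp.Action B A := K869.ProcH1.conjAct i c₀ hc₀
  have hc : c.act ≫ i = fst B A * (snd B A ≫ i) * (fst B A)⁻¹ := hc₀
  -- surjectivity of `p` on geometric points
  have hsurj : ∀ y : SGA7.Pts kb C, ∃ x : SGA7.Pts kb B, x ≫ π = y := by
    intro y
    obtain ⟨R, hR, hR'⟩ := hloc
    obtain ⟨Y, f, hf, s, hs⟩ := K815.Cov.exists_fppf hR y.left
    obtain ⟨t, ht⟩ := hR' f hf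
    have h1 : (s ≫ t) ≫ π.left = y.left := by
      rw [Category.assoc, show t ≫ π.left = f from ht, hs]
    refine ⟨Over.homMk (s ≫ t) ?_, ?_⟩
    · rw [← Over.w π, ← Category.assoc, h1, Over.w y]
    · apply Over.OverMorphism.ext
      exact h1
  have hact : ∀ (T : Over (Spec (CommRingCat.of k))) (g : T ⟶ B) (a : T ⟶ A),
      (lift g a ≫ c.act) ≫ i = g * (a ≫ i) * g⁻¹ := by
    intro T g a
    rw [Category.assoc, hc, MonObj.comp_mul, MonObj.comp_mul, GrpObj.comp_inv, lift_fst, lift_snd_assoc]
  have hgen := K815.GalFin.gen hφ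
  refine K869.ProcH1.bijective_H1lcMap hgen (ptsMap (K := kb) i) (ptsMap (K := kb) π) (ptsMap_smul (K := kb) π)
    (fun x => isOpen_stab x) (fun x => isOpen_stab x)
    (K869.ProcH1.exists_fin hgen (fun x => isOpen_stab x) fun n hn => finite_fixed hφ n hn) hsurj
    (fun b hb => hker _ b hb) ?_
  intro β a
  have : ConnectedSpace (bcK kb A).left := connectedSpace_bcK A
  have : Smooth (bcK kb A).hom := inferInstanceAs (Smooth (pullback.snd A.hom (SGA7.pt (K := k) kb).hom))
  have : Mono ((Over.pullback (SGA7.pt (K := k) kb).hom).map i) := inferInstance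
  have hj : (FrK kb A ≫ actK kb c β) ≫ (Over.pullback (SGA7.pt (K := k) kb).hom).map i =
      (Over.pullback (SGA7.pt (K := k) kb).hom).map i ≫ FrK kb B ≫ innK kb β := by
    rw [Category.assoc, actK_map c i hact, ← Category.assoc, ← Category.assoc, FrK, FrK, ← Functor.map_comp,
      ← Functor.map_comp, comp_Fr]
  obtain ⟨x, hx⟩ := K815.TwLang.exists_pt B (bcK kb A) ((Over.pullback (SGA7.pt (K := k) kb).hom).map i)
    β (FrK kb A ≫ actK kb c β) hj (secOfPt kb a)
  refine ⟨ofSec x, ?_⟩
  have h1 : ofSec x * (lift β (φ • ofSec x) ≫ c.act)⁻¹ = a := by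
    apply sec_injective
    rw [sec_mul, sec_inv, sec_ofSec]
    rw [← hx]
    congr 2
    rw [← sec_actK, ← Category.assoc, ← onPts_FrK hφ, sec_onPts, sec_ofSec]
  rw [← h1, map_mul, map_inv]
  congr 2
  exact (hact _ β (φ • ofSec x)).symm

end Groth.Agent.S15687
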