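import Groth.Statements.S15688
import Groth.Agent.StackCount.K815.Rat
import Groth.Agent.StackCount.K815.Cov
import Groth.Agent.StackCount.K815.TwPts

set_option autoImplicit false
universe u
open CategoryTheory AlgebraicGeometry MonoidalCategory CartesianMonoidalCategory MonObj
open StackCount

namespace Groth.Agent.S15688

open K815.Frob K815.PtsBC K815.TwLang K815.Rat K815.TwPts GalTw Limits

/-- Let k be a finite field with algebraic closure k̄, and let A, B, C be smooth algebraic groups over k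
with homomorphisms i : A → B and π : B → C forming a short exact sequence 1 → A → B → C → 1 (π ∘ i
trivial, B a pseudo-torsor over C under A acting through i, and π acquiring sections fppf-locally on
C), with A connected; let c be the action of B on A by conjugation, i.e. an action with i(b · a) = b
i(a) b⁻¹. Let z be a continuous cocycle of Gal(k̄/k) with values in B(k̄), A_z a twist of A by z
through the action c, B_z an inner form of B by z, and C_z an inner form of C by the image of z
under π. Then the numbers of k-points satisfy #B_z(k) = #A_z(k) · #C_z(k). -/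
theorem result (k : Type u) [Field k] [Finite k]
    (kb : Type u) [Field kb] [Algebra k kb] [IsAlgClosure k kb]
    (A B C : Over (Spec (CommRingCat.of k))) [GrpObj A] [GrpObj B] [GrpObj C]
    [Smooth A.hom] [Smooth B.hom] [Smooth C.hom]
    [QuasiCompact A.hom] [QuasiCompact B.hom] [QuasiCompact C.hom]
    (i : A ⟶ B) (π : B ⟶ C) [IsMonHom i] [IsMonHom π]
    (hex : NonAbH1.IsExactSeq Scheme.fppfPrecoverage i π) [ConnectedSpace A.left]
    (c : AlgGrp.Action B A) (hc : c.act ≫ i = fst B A * (snd B A ≫ i) * (fst B A)⁻¹)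
    (z : GpH1.OneCocycleLC (kb ≃ₐ[k] kb) (SGA7.Pts kb B))
    (Az : Over (Spec (CommRingCat.of k))) (hAz : GalTw.IsActTwist kb c z.1 Az)
    (Bz : Over (Spec (CommRingCat.of k))) [GrpObj Bz] (hBz : GalTw.IsInnTwist kb B z.1 Bz)
    (Cz : Over (Spec (CommRingCat.of k))) [GrpObj Cz]
    (hCz : GalTw.IsInnTwist kb C
      (GalTw.lcMap (GalTw.ptsMap (K := kb) π) (GalTw.ptsMap_smul (K := kb) π) z).1 Cz) :
    Nat.card (SGA7.Pts k Bz) = Nat.card (SGA7.Pts k Az) * Nat.card (SGA7.Pts k Cz) := by
  have hkb : IsAlgClosed kb := IsAlgClosure.isAlgClosed k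
  have hkb' : Algebra.IsAlgebraic k kb := IsAlgClosure.isAlgebraic
  obtain ⟨φ, hφ⟩ := K815.GalFin.exists_frob (k := k) (kb := kb)
  rw [card_innTwist hφ hBz, card_actTwist hφ hAz, card_innTwist hφ hCz]
  obtain ⟨-, -, hip, hcart, hloc⟩ := hex
  -- `i` is a monomorphism
  have hmono : Mono i := by
    constructor
    intro T a a' h
    have h1 : lift (1 : T ⟶ B) a = lift (1 : T ⟶ B) a' := by
      apply hcart.hom_ext
      · rw [lift_fst, lift_fst]
      · rw [← Category.assoc, ← Category.assoc, lift_whiskerLeft, lift_whiskerLeft, h]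
    have h2 := congrArg (fun f => f ≫ snd B A) h1
    simpa using h2
  -- surjectivity of `p` on geometric points
  have hsurj : ∀ y : SGA7.Pts kb C, ∃ x : SGA7.Pts kb B, x ≫ π = y := by
    intro y
    obtain ⟨R, hR, hR'⟩ := hloc
    obtain ⟨Y, f, hf, s, hs⟩ := K815.Cov.exists_fppf hR y.left
    obtain ⟨t, ht⟩ := hR' f hf
    have h1 : (s ≫ t) ≫ π.left = y.left := by
      rw [Category.assoc, show t ≫ π.left = f from ht, hs]
    refine ⟨Over.homMk (s ≫ t) ?_, ?_⟩
    · rw [← Over.w π, ← Category.assoc, h1, Over.w y]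
    · apply Over.OverMorphism.ext
      exact h1
  have hact : ∀ (T : Over (Spec (CommRingCat.of k))) (g : T ⟶ B) (a : T ⟶ A),
      (lift g a ≫ c.act) ≫ i = g * (a ≫ i) * g⁻¹ := by
    intro T g a
    rw [Category.assoc, hc, MonObj.comp_mul, MonObj.comp_mul, GrpObj.comp_inv, lift_fst, lift_snd_assoc]
  refine card_fixed (ptsMap (K := kb) i) (ptsMap (K := kb) π) ?_ hsurj ?_
    (fun a => lift (z.1 φ) (φ • a) ≫ c.act) (twFrob φ (z.1 φ))
    (fun y => (lcMap (ptsMap (K := kb) π) (ptsMap_smul (K := kb) π) z).1 φ * φ • y *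
      ((lcMap (ptsMap (K := kb) π) (ptsMap_smul (K := kb) π) z).1 φ)⁻¹) ?_ ?_ ?_
  · intro a a' h
    exact (cancel_mono i).mp h
  · intro b
    constructor
    · intro hb
      have h1 : (1 : SGA7.Pts kb B) ≫ π = b ≫ π := by
        rw [MonObj.one_comp]; exact hb.symm
      let l := hcart.lift (1 : SGA7.Pts kb B) b h1
      refine ⟨l ≫ snd B A, ?_⟩
      have h2 : l ≫ fst B A = 1 := hcart.lift_fst _ _ _
      have h3 : l ≫ (B ◁ i) ≫ μ[B] = b := hcart.lift_snd _ _ _
      have h4 : (B ◁ i) ≫ μ[B] = fst B A * (snd B A ≫ i) := by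
        rw [Hom.mul_def]
        congr 1
      rw [h4, MonObj.comp_mul, h2, _root_.one_mul, ← Category.assoc] at h3
      exact h3
    · rintro ⟨a, rfl⟩
      change (a ≫ i) ≫ π = 1
      rw [Category.assoc, hip, MonObj.comp_one]
  · intro a
    change (lift (z.1 φ) (φ • a) ≫ c.act) ≫ i = z.1 φ * φ • (a ≫ i) * (z.1 φ)⁻¹
    rw [hact]
    rfl
  · intro b
    change (z.1 φ * φ • b * (z.1 φ)⁻¹) ≫ π = _
    rw [MonObj.mul_comp, MonObj.mul_comp, GrpObj.inv_comp]
    rfl
  · intro a
    have : ConnectedSpace (bcK kb A).left := connectedSpace_bcK A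
    have : Smooth (bcK kb A).hom := inferInstanceAs (Smooth (pullback.snd A.hom (SGA7.pt (K := k) kb).hom))
    have : Mono ((Over.pullback (SGA7.pt (K := k) kb).hom).map i) := inferInstance
    have hj : (FrK kb A ≫ actK kb c (z.1 φ)) ≫ (Over.pullback (SGA7.pt (K := k) kb).hom).map i =
        (Over.pullback (SGA7.pt (K := k) kb).hom).map i ≫ FrK kb B ≫ innK kb (z.1 φ) := by
      rw [Category.assoc, actK_map c i hact, ← Category.assoc, ← Category.assoc, FrK, FrK, ← Functor.map_comp,
        ← Functor.map_comp, comp_Fr]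
    obtain ⟨x, hx⟩ := K815.TwLang.exists_pt B (bcK kb A) ((Over.pullback (SGA7.pt (K := k) kb).hom).map i)
      (z.1 φ) (FrK kb A ≫ actK kb c (z.1 φ)) hj (secOfPt kb a)
    refine ⟨ofSec x, ?_⟩
    apply sec_injective
    rw [sec_mul, sec_inv, sec_ofSec]
    rw [← hx]
    congr 2
    rw [← sec_actK, ← Category.assoc, ← onPts_FrK hφ, sec_onPts, sec_ofSec]

end Groth.Agent.S15688
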