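import Groth.Statements.S15702
import Groth.Agent.GLin.K764.Units

set_option autoImplicit false
universe u
open GLin

namespace Groth.Agent.S15702


/-- Let k be algebraically closed of characteristic zero, let G be a connected linear algebraic group
over k without non-trivial characters acting on an integral affine k-variety Spec B of finite type
with B a unique factorisation domain; then the field of G-invariant rational functions is the
fraction field of the ring of invariants B^G. In coordinate-ring form: A is a commutative Hopf
algebra of finite type over k, a domain, whose only group-like element is 1; B is a k-algebra of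
finite type, a domain and a unique factorisation monoid, with a coaction of A that is an algebra
map; k-points φ : A →ₐ[k] k act on B through the coaction. If f, g ∈ B, g ≠ 0, satisfy (φ·f) g = f
(φ·g) for all φ, then f g' = f' g for some f', g' ∈ B fixed by all φ with g' ≠ 0. (The published
lemma allows G disconnected with character-free identity component; this row is the connected case
treated first in its proof.) -/
theorem result (k : Type u) [Field k] [IsAlgClosed k] [CharZero k]
    (A : Type u) [CommRing A] [HopfAlgebra k A] [Algebra.FiniteType k A] [IsDomain A]
    (hchar : ∀ a : A, IsGroupLikeElem k a → a = 1)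
    (B : Type u) [CommRing B] [Algebra k B] [Algebra.FiniteType k B] [IsDomain B] [UniqueFactorizationMonoid B]
    [HopfRep.Comod k A B] [GLin.IsCoactAlg k A B]
    (f g : B) (hg : g ≠ 0)
    (hinv : ∀ φ : A →ₐ[k] k, HopfRep.Comod.act k A B φ f * g = f * HopfRep.Comod.act k A B φ g) :
    ∃ f' g' : B, (∀ φ : A →ₐ[k] k, HopfRep.Comod.act k A B φ f' = f') ∧
      (∀ φ : A →ₐ[k] k, HopfRep.Comod.act k A B φ g' = g') ∧ g' ≠ 0 ∧ f * g' = f' * g := by
  by_cases hf : f = 0
  · refine ⟨0, 1, fun φ => map_zero _, fun φ => ?_, one_ne_zero, by rw [hf]; simp⟩
    exact K764.Units.act_of_mem_invariants (one_mem _) φ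
  · obtain ⟨f1, g1, d, rfl, rfl, hf1, hg1, -, hf2, hg2⟩ := K764.Units.exists_reduced hf hg hinv
    refine ⟨f1, g1, fun φ => ?_, fun φ => ?_, hg1, by ring⟩
    · exact K764.Units.act_of_mem_invariants (K764.Units.mem_invariants_of_dvd hchar hf1 hf2) φ
    · exact K764.Units.act_of_mem_invariants (K764.Units.mem_invariants_of_dvd hchar hg1 hg2) φ

end Groth.Agent.S15702
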