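import Groth.Statements.S15703
import Groth.Agent.Red.K215.CoxPts
import Groth.Agent.S2962
import Groth.Agent.Sga3B.SplitFin885
import Groth.Agent.Sga3B.SplitBc264b
import Groth.Agent.Sga3B.SplitIso848
import Groth.Agent.RedSub.H161.RootSpan

set_option autoImplicit false
universe u
open CategoryTheory MonoidalCategory CartesianMonoidalCategory MonObj GrpObj AlgebraicGeometry
open Red

namespace Groth.Agent.S15703

/-- Every central element of a connected semisimple group over an algebraically closed field of
characteristic zero is the commutator of two elements of finite order. Here K is an algebraically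
closed field of characteristic zero, G is a semisimple K-group scheme in the sense used for
reductive groups over an algebraically closed field (affine, smooth, connected, trivial unipotent
radical, no non-trivial normal subtorus), and the assertion concerns the group G(K) of K-rational
points: a central element c of G(K) equals a b a⁻¹ b⁻¹ for some a, b ∈ G(K) of finite order. (The
published statement is over the complex numbers; this row takes any algebraically closed field of
characteristic zero.) -/
theorem result (K : Type u) [Field K] [IsAlgClosed K] [CharZero K]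
    (G : Over (Spec (CommRingCat.of K))) [GrpObj G] (hG : Red.IsSemisimpleOver K G)
    (c : 𝟙_ (Over (Spec (CommRingCat.of K))) ⟶ G) (hc : c ∈ Subgroup.center (𝟙_ (Over (Spec (CommRingCat.of K))) ⟶ G)) :
    ∃ a b : 𝟙_ (Over (Spec (CommRingCat.of K))) ⟶ G, IsOfFinOrder a ∧ IsOfFinOrder b ∧ c = a * b * a⁻¹ * b⁻¹ := by
  obtain ⟨U, f, hf, ⟨s', hs'⟩, D₀, hD₀⟩ := Groth.Agent.Sga3B.SplitFin885.splitNear G
    (Groth.Agent.Sga3B.AlgBc.isReductive_iff.2 hG.1) (IsLocalRing.closedPoint K)
  obtain ⟨σ, hσ, -⟩ := Scheme.exists_fac_of_etale_of_isSepClosed f (𝟙 (Spec (CommRingCat.of K))) s'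
    (by rw [hs']; exact Subsingleton.elim _ _)
  let D : Red.SplitRed G := Groth.Agent.Sga3B.SplitIso848.splitOfIso
    ((Groth.Agent.Sga3B.BcIso.bcCompIso σ f G).symm ≪≫
      Groth.Agent.Sga3B.BcIso.bcCongrIso hσ G ≪≫ Groth.Agent.Sga3B.BcIso.bcIdIso G)
    (Groth.Agent.Sga3B.SplitBc264.splitBc σ D₀)
  have hD : D.P.IsReduced := hD₀
  have : Nonempty (Spec (CommRingCat.of K)) := inferInstanceAs (Nonempty (PrimeSpectrum K))
  obtain ⟨d, hd, hspan⟩ := Groth.Agent.RedSub.H161.RootSpan.span_of_isSemisimple D
    (Groth.Agent.Sga3B.AlgBc.isSemisimple_iff.2 hG)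
  exact K215.CoxPts.main hG.1 D hD hd hspan c ((Groth.Agent.S2962.result D _ c).mp
    fun X' x h => K215.CoxPts.central_of_points hG.1 c hc X' x h)

end Groth.Agent.S15703
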