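import Groth.Statements.S15704
import Groth.Agent.AGF.K500.BirIrr
-- import your own Groth.Agent.* helpers here

set_option autoImplicit false
universe u
open CategoryTheory CategoryTheory.Limits MonoidalCategory CartesianMonoidalCategory MonObj GrpObj AlgebraicGeometry
open AGF

namespace Groth.Agent.S15704

open K500.Bir K500.BirIrr Groth.Agent.Agf.H584.QBasic Groth.Agent.Agf.H584.QExt

/-- Let G be a linear algebraic group over a field k of characteristic zero, contained as a closed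
subgroup in two special groups G₁, G₂ whose underlying varieties are k-rational; then G₁/G and G₂/G
are stably k-birationally equivalent. Here G, G₁, G₂ are affine group schemes of finite type over k
with homomorphic closed immersions G → G_j; 'special' is spelled out: for every action of G_j on a
k-scheme X of finite type and every faithfully flat k-morphism p : X → Y to a k-scheme of finite
type such that (g, x) ↦ (g·x, x) makes G_j × X the fibre product X ×_Y X, every point of Y has an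
open neighbourhood over which p has a section; 'k-rational' is birationality over k with an affine
space; Q_j with its G_j-action and base point is a quotient G_j/G; the conclusion is that Q₁ ×_k
Spec k[x_1, ..., x_r] and Q₂ ×_k Spec k[x_1, ..., x_s] are birational over k for some r, s. -/
theorem result (k : Type u) [Field k] [CharZero k]
    (G G₁ G₂ : Over (Spec (CommRingCat.of k))) [GrpObj G] [GrpObj G₁] [GrpObj G₂]
    [IsAffine G.left] [IsAffine G₁.left] [IsAffine G₂.left]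
    [LocallyOfFiniteType G.hom] [LocallyOfFiniteType G₁.hom] [LocallyOfFiniteType G₂.hom]
    (i₁ : G ⟶ G₁) (i₂ : G ⟶ G₂) [IsMonHom i₁] [IsMonHom i₂]
    [IsClosedImmersion i₁.left] [IsClosedImmersion i₂.left]
    (hsp₁ : (∀ (X' Y' : Over (Spec (CommRingCat.of k))) (a : AlgGrp.Action G₁ X') (p : X' ⟶ Y'),
      LocallyOfFiniteType X'.hom → QuasiCompact X'.hom → LocallyOfFiniteType Y'.hom → QuasiCompact Y'.hom →
      Flat p.left → Surjective p.left → IsPullback a.act.left (snd G₁ X').left p.left p.left →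
      ∀ y : ↥Y'.left, ∃ (W : Y'.left.Opens) (s : (W : Scheme.{u}) ⟶ X'.left), y ∈ W ∧ s ≫ p.left = W.ι))
    (hsp₂ : (∀ (X' Y' : Over (Spec (CommRingCat.of k))) (a : AlgGrp.Action G₂ X') (p : X' ⟶ Y'),
      LocallyOfFiniteType X'.hom → QuasiCompact X'.hom → LocallyOfFiniteType Y'.hom → QuasiCompact Y'.hom →
      Flat p.left → Surjective p.left → IsPullback a.act.left (snd G₂ X').left p.left p.left →
      ∀ y : ↥Y'.left, ∃ (W : Y'.left.Opens) (s : (W : Scheme.{u}) ⟶ X'.left), y ∈ W ∧ s ≫ p.left = W.ι))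
    [Scheme.IsRationalOver G₁.hom] [Scheme.IsRationalOver G₂.hom]
    (Q₁ Q₂ : Over (Spec (CommRingCat.of k))) (a₁ : AlgGrp.Action G₁ Q₁) (a₂ : AlgGrp.Action G₂ Q₂)
    (o₁ : 𝟙_ (Over (Spec (CommRingCat.of k))) ⟶ Q₁) (o₂ : 𝟙_ (Over (Spec (CommRingCat.of k))) ⟶ Q₂)
    (hQ₁ : AGF.IsQuotient i₁ Q₁ a₁ o₁) (hQ₂ : AGF.IsQuotient i₂ Q₂ a₂ o₂) :
    ∃ r s : ℕ, Scheme.BirationalOver
      (pullback.fst Q₁.hom (Spec.map (CommRingCat.ofHom (algebraMap k (MvPolynomial (Fin r) k)))) ≫ Q₁.hom)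
      (pullback.fst Q₂.hom (Spec.map (CommRingCat.ofHom (algebraMap k (MvPolynomial (Fin s) k)))) ≫ Q₂.hom) := by
  obtain ⟨hirr₁, r₁, hr₁⟩ := exists_fin (X := G₁)
  obtain ⟨hirr₂, r₂, hr₂⟩ := exists_fin (X := G₂)
  have hm₁ : Mono i₁ := Over.mono_of_mono_left i₁
  have hm₂ : Mono i₂ := Over.mono_of_mono_left i₂
  have hq₁ := isQ_of_isQuotient hQ₁
  have hq₂ := isQ_of_isQuotient hQ₂
  have hQl₁ := hq₁.lft
  have hQl₂ := hq₂.lft
  -- the product
  let D := G₁ ⊗ G₂
  have hDaff : IsAffine D.left := inferInstanceAs (IsAffine (pullback G₁.hom G₂.hom))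
  have hDlft : LocallyOfFiniteType D.hom :=
    inferInstanceAs (LocallyOfFiniteType (pullback.fst G₁.hom G₂.hom ≫ G₁.hom))
  let i : G ⟶ D := lift i₁ i₂
  have hi : IsMonHom i := inferInstance
  have hi1 : i ≫ fst G₁ G₂ = i₁ := lift_fst _ _
  have hi2 : i ≫ snd G₁ G₂ = i₂ := lift_snd _ _
  have hmi : Mono i := by
    constructor
    intro T x y h
    rw [← cancel_mono i₁, ← hi1, ← Category.assoc, h, Category.assoc]
  obtain ⟨Y, a, o, h1, h2, h3, h4, h5⟩ := Groth.Agent.S3279.result k D G i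
  have hπ : IsQ i (a.orbitMap o) := isQ_of_isPullback h1 h3 h4 h5
  have ha : ∀ {T : Over (Spec (CommRingCat.of k))} (g g' : T ⟶ D),
      (g * g') ≫ a.orbitMap o = lift g (g' ≫ a.orbitMap o) ≫ a.act := fun g g' => by
    rw [AlgGrp.Action.comp_orbitMap, AlgGrp.Action.comp_orbitMap, AlgGrp.Action.lift_mul_act]
  have hflat : ∀ (A B : Over (Spec (CommRingCat.of k))) [GrpObj B], Flat (fst A B).left ∧ Surjective (fst A B).left := by
    intro A B _
    refine ⟨of_isPullback' (P := @Flat) (isPullback_fst A B) (flat_toUnit B),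
      of_isPullback' (P := @Surjective) (isPullback_fst A B) ?_⟩
    have h1 : η[B] ≫ toUnit B = 𝟙 _ := toUnit_unique _ _
    have h2 : η[B].left ≫ (toUnit B).left = 𝟙 _ := by
      rw [← Over.comp_left, h1, Over.id_left]
    have h3 : Surjective (η[B].left ≫ (toUnit B).left) := by rw [h2]; infer_instance
    exact Surjective.of_comp η[B].left (toUnit B).left
  have hd1 : Flat (fst G₁ G₂).left := (hflat G₁ G₂).1
  have hd2 : Surjective (fst G₁ G₂).left := (hflat G₁ G₂).2
  have hsnd : (snd G₁ G₂) = lift (snd G₁ G₂) (fst G₁ G₂) ≫ fst G₂ G₁ := by rw [lift_fst]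
  have hiso : IsIso (lift (snd G₁ G₂) (fst G₁ G₂)) :=
    ⟨lift (snd G₂ G₁) (fst G₂ G₁), by apply CartesianMonoidalCategory.hom_ext <;> simp,
      by apply CartesianMonoidalCategory.hom_ext <;> simp⟩
  have hisol : IsIso (lift (snd G₁ G₂) (fst G₁ G₂)).left :=
    inferInstanceAs (IsIso ((Over.forget _).map (lift (snd G₁ G₂) (fst G₁ G₂))))
  have hd3 : Flat (snd G₁ G₂).left := by
    have := (hflat G₂ G₁).1
    rw [hsnd, Over.comp_left]
    infer_instance
  have hd4 : Surjective (snd G₁ G₂).left := by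
    have := (hflat G₂ G₁).2
    rw [hsnd, Over.comp_left]
    infer_instance
  let e₂ : G₂ ⟶ D := lift 1 (𝟙 G₂)
  let e₁ : G₁ ⟶ D := lift (𝟙 G₁) 1
  have he₂ : IsMonHom e₂ := Groth.Agent.Sga3B.Pts.isMonHom_of_points _ fun T x y => by
    apply CartesianMonoidalCategory.hom_ext
    · rw [MonObj.mul_comp (x ≫ e₂) (y ≫ e₂) (fst G₁ G₂)]
      simp [e₂]
    · rw [MonObj.mul_comp (x ≫ e₂) (y ≫ e₂) (snd G₁ G₂)]
      simp [e₂]
  have he₁ : IsMonHom e₁ := Groth.Agent.Sga3B.Pts.isMonHom_of_points _ fun T x y => by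
    apply CartesianMonoidalCategory.hom_ext
    · rw [MonObj.mul_comp (x ≫ e₁) (y ≫ e₁) (fst G₁ G₂)]
      simp [e₁]
    · rw [MonObj.mul_comp (x ≫ e₁) (y ≫ e₁) (snd G₁ G₂)]
      simp [e₁]
  have hme₂ : Mono e₂ := by
    constructor
    intro T x y h
    have := congrArg (fun z => z ≫ snd G₁ G₂) h
    simpa [e₂] using this
  have hme₁ : Mono e₁ := by
    constructor
    intro T x y h
    have := congrArg (fun z => z ≫ fst G₁ G₂) h
    simpa [e₁] using this
  have hk₂ : ∀ {T : Over (Spec (CommRingCat.of k))} (g : T ⟶ D), g ≫ fst G₁ G₂ = 1 ↔ ∃ x : T ⟶ G₂, x ≫ e₂ = g := by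
    intro T g
    constructor
    · intro hg
      refine ⟨g ≫ snd G₁ G₂, ?_⟩
      apply CartesianMonoidalCategory.hom_ext
      · simp [e₂, hg]
      · simp [e₂]
    · rintro ⟨x, rfl⟩
      simp [e₂]
  have hk₁ : ∀ {T : Over (Spec (CommRingCat.of k))} (g : T ⟶ D), g ≫ snd G₁ G₂ = 1 ↔ ∃ x : T ⟶ G₁, x ≫ e₁ = g := by
    intro T g
    constructor
    · intro hg
      refine ⟨g ≫ fst G₁ G₂, ?_⟩
      apply CartesianMonoidalCategory.hom_ext
      · simp [e₁]
      · simp [e₁, hg]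
    · rintro ⟨x, rfl⟩
      simp [e₁]
  have hDqc : QuasiCompact D.hom := inferInstance
  have hb₁ : Scheme.BirationalOver Y.hom (G₂ ⊗ Q₁).hom :=
    bir_of_special i (a.orbitMap o) hπ a ha (fst G₁ G₂) e₂ hk₂ i₁ hi1 (a₁.orbitMap o₁) hq₁ hsp₂ hirr₁
  have hb₂ : Scheme.BirationalOver Y.hom (G₁ ⊗ Q₂).hom :=
    bir_of_special i (a.orbitMap o) hπ a ha (snd G₁ G₂) e₁ hk₁ i₂ hi2 (a₂.orbitMap o₂) hq₂ hsp₁ hirr₂
  have hu₁ : UniversallyOpen Q₁.hom := universallyOpen_hom Q₁
  have hu₂ : UniversallyOpen Q₂.hom := universallyOpen_hom Q₂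
  refine ⟨r₂, r₁, ?_⟩
  have hc₁ := (hb₁.trans (bir_comm G₂ Q₁)).trans (bir_tensor hr₂ Q₁)
  have hc₂ := (hb₂.trans (bir_comm G₁ Q₂)).trans (bir_tensor hr₁ Q₂)
  exact hc₁.symm.trans hc₂

end Groth.Agent.S15704
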