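import Groth.Statements.S15706
import Mathlib.RingTheory.Ideal.AssociatedPrime.Finiteness
import Mathlib.RingTheory.Ideal.MinimalPrime.Localization
import Mathlib.RingTheory.Ideal.Operations

set_option autoImplicit false
universe u
open CAlg

namespace Groth.Agent.S15706

/-- Let A be a Noetherian ring with Serre's property (S_1), stated here in the equivalent form that
every associated prime of A is a minimal prime of A. Let I be an ideal of A and b an element of A/I
which is regular (a non-zero-divisor) in A/I. Then b is the image of a regular element of A. -/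
theorem result (A : Type u) [CommRing A]
    [IsNoetherianRing A] (hS1 : ∀ p ∈ associatedPrimes A A, p ∈ minimalPrimes A) (I : Ideal A)
    (b : A ⧸ I) (hb : b ∈ nonZeroDivisors (A ⧸ I)) :
    ∃ a : A, a ∈ nonZeroDivisors A ∧ Ideal.Quotient.mk I a = b := by
  classical
  obtain ⟨a, rfl⟩ := Ideal.Quotient.mk_surjective b
  have hfin : (associatedPrimes A A).Finite := associatedPrimes.finite A A
  have hprime : ∀ p ∈ associatedPrimes A A, p.IsPrime := fun p hp => IsAssociatedPrime.isPrime hp
  -- no associated prime contains both `a` and `I`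
  have hno : ∀ p ∈ associatedPrimes A A, a ∈ p → ¬ I ≤ p := by
    intro p hp hap hIp
    haveI := hprime p hp
    have hmin : p ∈ I.minimalPrimes := by
      refine ⟨⟨hprime p hp, hIp⟩, fun q hq hqp => ?_⟩
      exact (hS1 p hp).2 ⟨hq.1, bot_le⟩ hqp
    have hmin' : p.map (Ideal.Quotient.mk I) ∈ minimalPrimes (A ⧸ I) := by
      rw [minimalPrimes_eq_minimals, Set.mem_setOf_eq]
      refine ⟨Ideal.map_isPrime_of_surjective Ideal.Quotient.mk_surjective (by simpa using hIp), ?_⟩
      intro q hq hqp
      have h1 : q.comap (Ideal.Quotient.mk I) ≤ p := by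
        have := Ideal.comap_mono (f := Ideal.Quotient.mk I) hqp
        rwa [Ideal.comap_map_of_surjective _ Ideal.Quotient.mk_surjective, ← RingHom.ker_eq_comap_bot,
          Ideal.mk_ker, sup_eq_left.2 hIp] at this
      haveI : q.IsPrime := hq
      have h2 : I ≤ q.comap (Ideal.Quotient.mk I) := by
        intro x hx
        rw [Ideal.mem_comap, Ideal.Quotient.eq_zero_iff_mem.2 hx]; exact q.zero_mem
      have h3 := hmin.2 ⟨Ideal.comap_isPrime _ _, h2⟩ h1
      rw [Ideal.map_le_iff_le_comap]
      exact h3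
    exact notMem_nonZeroDivisors_of_mem_mem_minimalPrimes (Ideal.mem_map_of_mem _ hap) hmin' hb
  -- split the associated primes according to whether they contain `a`
  set S : Finset (Ideal A) := hfin.toFinset with hS
  have hmemS : ∀ p, p ∈ S ↔ p ∈ associatedPrimes A A := fun p => by simp [hS]
  set J : Ideal A := I ⊓ (S.filter (fun p => a ∉ p)).inf id with hJ
  have hJno : ∀ p ∈ S.filter (fun p => a ∈ p), ¬ J ≤ p := by
    intro p hp hle
    rw [Finset.mem_filter, hmemS] at hp
    have hpp := hprime p hp.1
    rcases hpp.inf_le.1 hle with h | h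
    · exact hno p hp.1 hp.2 h
    · obtain ⟨q, hq, hqp⟩ := hpp.inf_le'.1 h
      rw [Finset.mem_filter, hmemS] at hq
      have : p ≤ q := (hS1 p hp.1).2 ⟨hprime q hq.1, bot_le⟩ hqp
      exact hq.2 (this hp.2)
  have hex : ∃ i ∈ J, ∀ p ∈ S.filter (fun p => a ∈ p), i ∉ p := by
    by_contra hcon
    push Not at hcon
    have hsub : ((J : Set A) ⊆ ⋃ p ∈ (↑(S.filter (fun p => a ∈ p)) : Set (Ideal A)), (p : Set A)) := by
      intro i hi
      obtain ⟨p, hp, hip⟩ := hcon i hi
      exact Set.mem_biUnion (Finset.mem_coe.2 hp) hip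
    obtain ⟨p, hp, hle⟩ := (Ideal.subset_union_prime (f := fun p : Ideal A => p) ⊤ ⊤ (by
      intro p hp _ _
      rw [Finset.mem_filter, hmemS] at hp
      exact hprime p hp.1)).1 hsub
    exact hJno p hp hle
  obtain ⟨i, hiJ, hi⟩ := hex
  refine ⟨a + i, ?_, ?_⟩
  · by_contra hcon
    have h1 : a + i ∈ ⋃ p ∈ associatedPrimes A A, (p : Set A) := by
      rw [biUnion_associatedPrimes_eq_compl_nonZeroDivisors]; exact hcon
    rw [Set.mem_iUnion₂] at h1
    obtain ⟨p, hp, hmem⟩ := h1
    by_cases hap : a ∈ p
    · refine hi p (Finset.mem_filter.2 ⟨(hmemS p).2 hp, hap⟩) ?_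
      simpa using p.sub_mem hmem hap
    · have h2 : i ∈ p := by
        have h3 : (S.filter (fun p => a ∉ p)).inf id ≤ p :=
          Finset.inf_le (f := id) (Finset.mem_filter.2 ⟨(hmemS p).2 hp, hap⟩)
        exact h3 hiJ.2
      exact hap (by simpa using p.sub_mem hmem h2)
  · rw [map_add, Ideal.Quotient.eq_zero_iff_mem.2 hiJ.1, add_zero]

end Groth.Agent.S15706
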