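import Groth.Statements.S15707
import Mathlib.RingTheory.Ideal.MinimalPrime.Localization

set_option autoImplicit false
universe u
open CAlg

namespace Groth.Agent.S15707

/-- Let A be a Noetherian ring with Serre's property (S_1), stated here as: every associated prime of A
is a minimal prime. Let I be an ideal and B = A/I. Then the B-module Hom_A(B, A), with B acting
through the source, is torsion-free: an A-linear map φ : B → A which is killed by a regular element
b of B, in the sense that φ(b x) = 0 for all x, is zero. -/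
theorem result (A : Type u) [CommRing A]
    [IsNoetherianRing A] (hS1 : ∀ p ∈ associatedPrimes A A, p ∈ minimalPrimes A) (I : Ideal A)
    (φ : (A ⧸ I) →ₗ[A] A) (b : A ⧸ I) (hb : b ∈ nonZeroDivisors (A ⧸ I))
    (h : ∀ x : A ⧸ I, φ (b * x) = 0) : φ = 0 := by
  have key : ∀ y : A, φ (Ideal.Quotient.mk I y) = y * φ 1 := by
    intro y
    have : Ideal.Quotient.mk I y = y • (1 : A ⧸ I) := by
      rw [Algebra.smul_def, mul_one]; rfl
    rw [this, map_smul, smul_eq_mul]
  suffices ha : φ 1 = 0 by
    ext
    simpa using ha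
  by_contra ha
  obtain ⟨P, hP, hle⟩ := exists_le_isAssociatedPrime_of_isNoetherianRing A (φ 1) ha
  have hmin : P ∈ minimalPrimes A := hS1 P hP
  have hPp : P.IsPrime := hmin.1.1
  have hIP : I ≤ P := by
    intro i hi
    apply hle
    rw [Submodule.mem_colon_singleton, smul_eq_mul, ← key, Ideal.Quotient.eq_zero_iff_mem.mpr hi]
    simp
  obtain ⟨b', rfl⟩ := Ideal.Quotient.mk_surjective b
  have hbP : b' ∈ P := by
    apply hle
    rw [Submodule.mem_colon_singleton, smul_eq_mul, ← key]
    have := h 1
    rw [mul_one] at this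
    rw [this]; simp
  have hprime : (P.map (Ideal.Quotient.mk I)).IsPrime := by
    apply Ideal.map_isPrime_of_surjective Ideal.Quotient.mk_surjective
    rwa [Ideal.mk_ker]
  have hmin' : P.map (Ideal.Quotient.mk I) ∈ minimalPrimes (A ⧸ I) := by
    refine ⟨⟨hprime, bot_le⟩, ?_⟩
    rintro Q ⟨hQ, -⟩ hQP
    have h1 : Q.comap (Ideal.Quotient.mk I) ≤ P := by
      refine (Ideal.comap_mono hQP).trans ?_
      rw [Ideal.comap_map_of_surjective _ Ideal.Quotient.mk_surjective]
      refine sup_le le_rfl ?_
      rw [← RingHom.ker_eq_comap_bot, Ideal.mk_ker]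
      exact hIP
    have h2 : P ≤ Q.comap (Ideal.Quotient.mk I) :=
      hmin.2 ⟨Ideal.IsPrime.comap _, bot_le⟩ h1
    exact Ideal.map_le_iff_le_comap.mpr h2
  exact notMem_nonZeroDivisors_of_mem_mem_minimalPrimes (Ideal.mem_map_of_mem _ hbP) hmin' hb

end Groth.Agent.S15707
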