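import Groth.Statements.S15712
-- import your own Groth.Agent.* helpers here
import Groth.Agent.S1699
import Groth.Agent.S3842
import Groth.Agent.Localalg.Depth2
import Groth.Agent.RatSing.K870.GenPt

set_option autoImplicit false
universe u
open CategoryTheory AlgebraicGeometry TopologicalSpace
open RatSing

namespace Groth.Agent.S15712

/-- Let X be a locally Noetherian scheme with Serre's property (S_1), i.e. every local ring O_{X,x} has
depth at least min(1, dim O_{X,x}) (for instance X Cohen–Macaulay), and let U ⊆ X be open. Then
scheme-theoretic density of U in X is equivalent to U being dense as a subset. (The published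
statement assumes every scheme excellent, in particular locally Noetherian.) -/
theorem result (X : Scheme.{u}) [IsLocallyNoetherian X]
    (hS1 : ∀ x : X, min (1 : WithBot ℕ∞) (ringKrullDim (X.presheaf.stalk x)) ≤
      ((LocCoh.depth (X.presheaf.stalk x) (X.presheaf.stalk x) : ℕ∞) : WithBot ℕ∞))
    (U : X.Opens) : CInt.IsSchematicallyDense U ↔ Dense (U : Set X) := by
  refine ⟨fun h => Groth.Agent.S3842.dense_of_isSchematicallyDense U h, fun hd => ?_⟩
  rw [Groth.Agent.S1699.result]
  intro x hx
  refine K870.GenPt.mem_of_dense_of_dim_le_zero X U hd x ?_
  have h0 : LocCoh.depth (X.presheaf.stalk x) (X.presheaf.stalk x) = 0 :=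
    Groth.Agent.Localalg.Depth2.idealDepth_eq_zero_of_le_associatedPrime hx le_rfl
  have h1 := hS1 x
  rw [h0] at h1
  rcases min_le_iff.1 h1 with h | h
  · exact absurd h (by decide)
  · exact h

end Groth.Agent.S15712
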