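import Groth.Statements.S15716
import Groth.Agent.RatSing.K870.EtaDual
import Groth.Agent.RatSing.K870.DualDeg
import Groth.Agent.Dual.H341.CMSch
import Groth.Agent.LoccohB.DCalc

set_option autoImplicit false
universe u
open CategoryTheory CategoryTheory.Limits AlgebraicGeometry TopologicalSpace
attribute [local instance] HasDerivedCategory.standard
open RatSing

namespace Groth.Agent.S15716

/-- Take excellent schemes X and Y of pure dimension d, Y with a dualizing complex, and a proper
birational morphism f : X → Y, with X Cohen–Macaulay and O_Y ≅ Rf_* O_X (O_Y → f_* O_X an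
isomorphism and R^p f_* O_X = 0 for p > 0). Then Y is Cohen–Macaulay if and only if R^p f_* ω_X = 0
for all p > 0. This row takes Y Noetherian (the assertion is local on Y), fixes a dualizing complex
K on Y with quasi-coherent cohomology, uses ω_X^• = f^! K with f^! the right adjoint of Rf_* on
D_QCoh, and assumes ω_X^• concentrated in degree -d (so that ω_X^• = ω_X[d] with ω_X = h^{-d}(f^!
K), the normalization the published statement uses); birational means f restricts to an isomorphism
between dense open subsets. Existence of Rf_* and f^!, preservation of D_QCoh, exactness of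
restriction to opens and of M ↦ M~, and injective resolutions are carried as hypotheses. -/
theorem result (X Y : Scheme.{u}) (d : ℕ)
    [IsLocallyNoetherian X] [IsNoetherian Y]
    (hexcX : ∀ V : X.affineOpens, EGA4.IsExcellent Γ(X, V.1)) (hexcY : ∀ V : Y.affineOpens, EGA4.IsExcellent Γ(Y, V.1))
    (hcmX : ∀ x : X, LocCoh.IsCohenMacaulayLocalRing (X.presheaf.stalk x))
    (hpdX : ∀ Z ∈ irreducibleComponents (X : Type u), topologicalKrullDim Z = d)
    (hpdY : ∀ Z ∈ irreducibleComponents (Y : Type u), topologicalKrullDim Z = d)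
    [∀ (U : Scheme.{u}) (j : U ⟶ Y) [IsOpenImmersion j], PreservesFiniteLimits (Scheme.Modules.restrictFunctor j)]
    [∀ (R : CommRingCat.{u}), PreservesFiniteLimits (tilde.functor R)]
    (f : X ⟶ Y) [IsProper f]
    (hbir : ∃ V : Y.Opens, Dense (V : Set Y) ∧ Dense ((f ⁻¹ᵁ V : X.Opens) : Set X) ∧ IsIso (f ∣_ V))
    [DCoh.HasRpush f] (h : DCoh.RpushPreservesQCoh f) [DCoh.HasShriek f h]
    (K : DCoh.DQCoh Y) (hK : Dual2.IsDualizingSch Y K.obj)
    (hKX : ∀ i : ℤ, i ≠ -(d : ℤ) → IsZero (DCoh.HD ((DCoh.shriek f h).obj K).obj i))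
    [HasInjectiveResolutions X.Modules]
    (hξ : IsIso (ClSub.unitToPush f) ∧ ∀ p : ℕ, 0 < p → IsZero ((Coh.Rpush f p).obj (Coh.structureModule X))) :
    (∀ y : Y, LocCoh.IsCohenMacaulayLocalRing (Y.presheaf.stalk y)) ↔
      ∀ p : ℕ, 0 < p → IsZero ((Coh.Rpush f p).obj (DCoh.HD ((DCoh.shriek f h).obj K).obj (-(d : ℤ)))) := by
  have hL : DCoh.HasLpull f := Groth.Agent.Dcoh.DerPull.hasLpull f
  have hu := Groth.Agent.Ega1.ADualUniv.isUniv_of_adj (h := h) (DCoh.shriekAdj f h) K
  have hη := (K870.EtaIff.isIso_eta_iff f).2 hξ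
  have hτ := K870.EtaIff.isIso_trace f hη K.property hu
  let L : DCoh.D X := ((DCoh.shriek f h).obj K).obj
  let τ : (DCoh.Rpush f).obj L ≅ K.obj := @asIso _ _ _ _ _ hτ
  have hLge : L.IsGE (-(d : ℤ)) := by
    rw [DerivedCategory.isGE_iff]
    exact fun i hi => hKX i (by omega)
  have hLle : L.IsLE (-(d : ℤ)) := by
    rw [DerivedCategory.isLE_iff]
    exact fun i hi => hKX i (by omega)
  let M : X.Modules := DCoh.HD L (-(d : ℤ))
  obtain ⟨eL⟩ := Groth.Agent.LoccohB.DCalc.exists_iso_single L (-(d : ℤ))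
  -- the cohomology of `K`
  have hiso : ∀ m n : ℤ, n + (-(d : ℤ)) = m →
      Nonempty (DCoh.HD K.obj m ≅ DCoh.HD ((DCoh.Rpush f).obj (DCoh.inD X M)) n) := by
    intro m n hmn
    exact ⟨(DerivedCategory.homologyFunctor Y.Modules m).mapIso
      (τ.symm ≪≫ (DCoh.Rpush f).mapIso eL) ≪≫
      Groth.Agent.PerfC.RpushSingle.isoSingle f M (-(d : ℤ)) m n hmn⟩
  constructor
  · intro hcm p hp
    obtain ⟨V, hV, hV', hiV⟩ := hbir
    have h1 : ∀ i : ℤ, i ≠ -(d : ℤ) → IsZero (DCoh.HD K.obj i) := by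
      refine K870.DualDeg.isZero_HD_of_dense Y K.obj hK hcm V hV (-(d : ℤ)) ?_
      intro i hi y hy
      obtain ⟨x, rfl⟩ := K870.DualDeg.exists_preimage f V y hy
      obtain ⟨e⟩ := K870.DualDeg.nonempty_stalk_iso f V L i x hy
      have h2 := Groth.Agent.Dcoh.StalkMod.subsingleton_of_isZero (hKX i hi) x
      have h3 : Subsingleton ((DCoh.HD ((DCoh.Rpush f).obj L) i).presheaf.stalk (f x)) :=
        e.toEquiv.subsingleton
      have h4 := (Groth.Agent.PerfA.Restrict.stalkAb (f x)).mapIso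
        ((DerivedCategory.homologyFunctor Y.Modules i).mapIso τ)
      exact @Equiv.subsingleton _ _ h4.symm.addCommGroupIsoToAddEquiv.toEquiv h3
    obtain ⟨e⟩ := hiso ((p : ℤ) + (-(d : ℤ))) p rfl
    exact ((h1 _ (by omega)).of_iso e.symm).of_iso
      (Groth.Agent.PerfC.RpushSingle.iso f p M).symm
  · intro hR y
    have h1 : ∀ i : ℤ, i ≠ -(d : ℤ) → IsZero (DCoh.HD K.obj i) := by
      intro i hi
      obtain ⟨e⟩ := hiso i (i + d) (by ring)
      refine IsZero.of_iso ?_ e
      rcases lt_or_gt_of_ne (show i + d ≠ 0 by omega) with hlt | hgt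
      · exact Groth.Agent.PerfC.RpushSingle.isZero_of_neg f M _ hlt
      · obtain ⟨p, hp⟩ := Int.eq_ofNat_of_zero_le hgt.le
        rw [hp]
        exact (hR p (by omega)).of_iso (Groth.Agent.PerfC.RpushSingle.iso f p M)
    exact K870.DualDeg.cm_of_isZero Y K.obj hK (-(d : ℤ)) h1 y
      (Groth.Agent.Dual.H341.CMSch.stalk_of_concentrated hK (-(d : ℤ)) h1 y).1

end Groth.Agent.S15716
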