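import Groth.Statements.S15719
import Groth.Agent.RatSing.K870.Eta

set_option autoImplicit false
universe u
open CategoryTheory CategoryTheory.Limits AlgebraicGeometry TopologicalSpace
attribute [local instance] HasDerivedCategory.standard
open RatSing

namespace Groth.Agent.S15719

/-- Let φ : Z → W be a proper birational morphism of equidimensional excellent schemes admitting
dualizing complexes which is an isomorphism in codimension 1 on the target (an isomorphism over an
open V of W whose complement has codimension at least 2), and let η : O_W → Rφ_* O_Z be the natural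
map. If there is η' : Rφ_* O_Z → O_W with η' ∘ η an automorphism of O_W, then φ is a pseudo-rational
modification: the natural map φ_* ω_Z → ω_W is surjective. This row takes W Noetherian and Z, W of
pure dimension d (the assertion is local on W), fixes the dualizing complex K = ω_W^• on W with
quasi-coherent cohomology vanishing below degree -d, uses ω_Z^• = φ^! K with φ^! the right adjoint
of Rφ_* on D_QCoh, renders the surjectivity of φ_* ω_Z → ω_W as: h^{-d} of the trace Rφ_* φ^! K → K
is an epimorphism, renders the codimension condition as dim O_{W,w} ≥ 2 off V together with density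
of φ⁻¹V in Z (for equidimensional local rings this is the codimension condition of the published
definition), and writes η in D_QCoh(O_W) as the unit of Lφ^* ⊣ Rφ_* at O_W followed by Rφ_* of an
identification Lφ^* O_W ≅ O_Z. Existence of the derived functors and adjoints, preservation of
D_QCoh, and exactness of restriction to opens and of M ↦ M~ are carried as hypotheses. -/
theorem result (Z W : Scheme.{u}) (d : ℕ)
    [IsLocallyNoetherian Z] [IsNoetherian W]
    (hexcZ : ∀ U : Z.affineOpens, EGA4.IsExcellent Γ(Z, U.1)) (hexcW : ∀ U : W.affineOpens, EGA4.IsExcellent Γ(W, U.1))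
    (hpdZ : ∀ C ∈ irreducibleComponents (Z : Type u), topologicalKrullDim C = d)
    (hpdW : ∀ C ∈ irreducibleComponents (W : Type u), topologicalKrullDim C = d)
    [∀ (U : Scheme.{u}) (j : U ⟶ W) [IsOpenImmersion j], PreservesFiniteLimits (Scheme.Modules.restrictFunctor j)]
    [∀ (R : CommRingCat.{u}), PreservesFiniteLimits (tilde.functor R)]
    (φ : Z ⟶ W) [IsProper φ]
    (V : W.Opens) (hV : ∀ w : W, w ∉ V → (2 : WithBot ℕ∞) ≤ ringKrullDim (W.presheaf.stalk w))
    (hVZ : Dense ((φ ⁻¹ᵁ V : Z.Opens) : Set Z)) [IsIso (φ ∣_ V)]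
    [DCoh.HasRpush φ] (h : DCoh.RpushPreservesQCoh φ) [DCoh.HasShriek φ h]
    [DCoh.HasLpull φ] (hL : Dual3.LpullPreservesQCoh φ) (adjL : Dual3.LpullQ φ hL ⊣ DCoh.RpushQ φ h)
    (K : DCoh.DQCoh W) (hK : Dual2.IsDualizingSch W K.obj)
    (hKlow : ∀ i : ℤ, i < -(d : ℤ) → IsZero (DCoh.HD K.obj i))
    (OW : DCoh.DQCoh W) (eW : OW.obj ≅ DCoh.inD W (Coh.structureModule W))
    (OZ : DCoh.DQCoh Z) (eZ : OZ.obj ≅ DCoh.inD Z (Coh.structureModule Z))
    (e : (Dual3.LpullQ φ hL).obj OW ≅ OZ)
    (hsplit : ∃ η' : (DCoh.RpushQ φ h).obj OZ ⟶ OW, IsIso (adjL.unit.app OW ≫ (DCoh.RpushQ φ h).map e.hom ≫ η')) :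
    Epi ((DerivedCategory.homologyFunctor W.Modules (-(d : ℤ))).map
      ((ObjectProperty.ι DCoh.IsQCohD).map ((DCoh.trace φ h).app K))) := by
  obtain ⟨e', he'⟩ := K870.Eta.exists_eta_eq φ hL h adjL OW OZ e
  obtain ⟨η', hη'⟩ := hsplit
  have hi : IsIso ((adjL.unit.app OW ≫ (DCoh.RpushQ φ h).map e.hom).hom ≫ η'.hom) := by
    have h1 : IsIso ((ObjectProperty.ι DCoh.IsQCohD).map
      (adjL.unit.app OW ≫ (DCoh.RpushQ φ h).map e.hom ≫ η')) := inferInstance
    rw [← Category.assoc, Functor.map_comp] at h1
    exact h1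
  obtain ⟨r, hr⟩ := K870.Eta.exists_retraction φ eW eZ OZ.property e' _ he' η'.hom hi K.obj
    K.property
  obtain ⟨s, hs⟩ := K870.Eta.exists_section_trace φ K.property
    (Groth.Agent.Ega1.ADualUniv.isUniv_of_adj (h := h) (DCoh.shriekAdj φ h) K) r hr
  have h2 : IsSplitEpi ((DerivedCategory.homologyFunctor W.Modules (-(d : ℤ))).map
      ((ObjectProperty.ι DCoh.IsQCohD).map ((DCoh.trace φ h).app K))) :=
    ⟨⟨⟨(DerivedCategory.homologyFunctor W.Modules (-(d : ℤ))).map s, by
      rw [← Functor.map_comp]
      refine Eq.trans (congrArg _ hs) (CategoryTheory.Functor.map_id _ _)⟩⟩⟩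
  infer_instance

end Groth.Agent.S15719
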