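import Groth.Statements.S15720
import Groth.Agent.RatSing.K870.SmoothCM
import Groth.Agent.RatSing.K870.BCUnit
import Groth.Agent.RatSing.K870.Sect
import Groth.Agent.RatSing.K870.SectTr
import Groth.Agent.Sga4h.H924.Codim

set_option autoImplicit false
universe u
open CategoryTheory CategoryTheory.Limits AlgebraicGeometry TopologicalSpace
attribute [local instance] HasDerivedCategory.standard
open RatSing

namespace Groth.Agent.S15720

/-- Suppose φ : Z → W is a pseudo-rational modification and p : P → W is smooth of relative dimension m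
and separated, and let σ : Q = Z ×_W P → P the base change of φ. Then σ is also a pseudo-rational
modification, and if W is Cohen–Macaulay so is P. This row states the case Z, W Cohen–Macaulay of
pure dimension d with W Noetherian (the assertion is local on W), in this block's rendering: K =
ω_W^• a dualizing complex on W with quasi-coherent cohomology concentrated in degree -d, φ proper
and an isomorphism over an open V with dim O_{W,w} ≥ 2 off V and φ⁻¹V dense in Z, and h^{-d} of the
trace Rφ_* φ^! K → K an epimorphism (φ^! the right adjoint of Rφ_* on D_QCoh). The conclusion: P is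
Cohen–Macaulay; the local rings of P off p⁻¹V have dimension ≥ 2, σ⁻¹(p⁻¹V) is dense in Q and σ is
an isomorphism over p⁻¹V; and for every dualizing complex K' on P with quasi-coherent cohomology
concentrated in degree -(d+m) and every right adjoint σ^! of Rσ_* on D_QCoh, h^{-(d+m)} of the trace
Rσ_* σ^! K' → K' is an epimorphism. (The published statement also records isomorphisms ω_P^• ≅
ω_{P/W}[m] ⊗^L p^*ω_W^• and its analogue on Q for a line bundle ω_{P/W}; these are not restated.)
Existence of the derived functors and adjoints, preservation of D_QCoh, and exactness of restriction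
to opens and of M ↦ M~ are carried as hypotheses. -/
theorem result (Z W P : Scheme.{u}) (d m : ℕ)
    [IsLocallyNoetherian Z] [IsNoetherian W]
    (hexcZ : ∀ U : Z.affineOpens, EGA4.IsExcellent Γ(Z, U.1)) (hexcW : ∀ U : W.affineOpens, EGA4.IsExcellent Γ(W, U.1))
    (hcmZ : ∀ z : Z, LocCoh.IsCohenMacaulayLocalRing (Z.presheaf.stalk z))
    (hcmW : ∀ w : W, LocCoh.IsCohenMacaulayLocalRing (W.presheaf.stalk w))
    (hpdZ : ∀ C ∈ irreducibleComponents (Z : Type u), topologicalKrullDim C = d)
    (hpdW : ∀ C ∈ irreducibleComponents (W : Type u), topologicalKrullDim C = d)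
    [∀ (U : Scheme.{u}) (j : U ⟶ W) [IsOpenImmersion j], PreservesFiniteLimits (Scheme.Modules.restrictFunctor j)]
    [∀ (U : Scheme.{u}) (j : U ⟶ P) [IsOpenImmersion j], PreservesFiniteLimits (Scheme.Modules.restrictFunctor j)]
    [∀ (R : CommRingCat.{u}), PreservesFiniteLimits (tilde.functor R)]
    (φ : Z ⟶ W) [IsProper φ]
    (V : W.Opens) (hV : ∀ w : W, w ∉ V → (2 : WithBot ℕ∞) ≤ ringKrullDim (W.presheaf.stalk w))
    (hVZ : Dense ((φ ⁻¹ᵁ V : Z.Opens) : Set Z)) [IsIso (φ ∣_ V)]
    [DCoh.HasRpush φ] (h : DCoh.RpushPreservesQCoh φ) [DCoh.HasShriek φ h]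
    (K : DCoh.DQCoh W) (hK : Dual2.IsDualizingSch W K.obj)
    (hKd : ∀ i : ℤ, i ≠ -(d : ℤ) → IsZero (DCoh.HD K.obj i))
    (hsurj : Epi ((DerivedCategory.homologyFunctor W.Modules (-(d : ℤ))).map
      ((ObjectProperty.ι DCoh.IsQCohD).map ((DCoh.trace φ h).app K))))
    (p : P ⟶ W) [SmoothOfRelativeDimension m p] [IsSeparated p] :
    (∀ x : P, LocCoh.IsCohenMacaulayLocalRing (P.presheaf.stalk x)) ∧
    (∀ x : P, x ∉ p ⁻¹ᵁ V → (2 : WithBot ℕ∞) ≤ ringKrullDim (P.presheaf.stalk x)) ∧
    Dense ((pullback.snd φ p ⁻¹ᵁ (p ⁻¹ᵁ V) : (pullback φ p).Opens) : Set ↑(pullback φ p)) ∧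
    IsIso (pullback.snd φ p ∣_ (p ⁻¹ᵁ V)) ∧
    ∀ (K' : DCoh.DQCoh P), Dual2.IsDualizingSch P K'.obj →
      (∀ i : ℤ, i ≠ -((d + m : ℕ) : ℤ) → IsZero (DCoh.HD K'.obj i)) →
      ∀ [DCoh.HasRpush (pullback.snd φ p)] (h' : DCoh.RpushPreservesQCoh (pullback.snd φ p))
        [DCoh.HasShriek (pullback.snd φ p) h'],
        Epi ((DerivedCategory.homologyFunctor P.Modules (-((d + m : ℕ) : ℤ))).map
          ((ObjectProperty.ι DCoh.IsQCohD).map ((DCoh.trace (pullback.snd φ p) h').app K'))) := by
  have hsm : Smooth p := SmoothOfRelativeDimension.smooth m p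
  have hP : IsLocallyNoetherian P := LocallyOfFiniteType.isLocallyNoetherian p
  refine ⟨fun x => K870.SmoothCM.cm_of_smooth p x (hcmW _), fun x hx =>
    (hV (p x) hx).trans (Groth.Agent.Sga4h.H924.Codim.le_ringKrullDim_of_flat p x), ?_,
    K870.SmoothCM.isIso_morphismRestrict (IsPullback.of_hasPullback φ p) V, ?_⟩
  · rw [K870.SmoothCM.preimage_eq pullback.condition V]
    exact K870.SmoothCM.dense_preimage (pullback.fst φ p) (φ ⁻¹ᵁ V) hVZ
  · intro K' hK' hKd' _ h' _
    have : DCoh.HasLpull φ := Groth.Agent.Dcoh.DerPull.hasLpull φ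
    obtain ⟨τs, hτs⟩ := K870.SectTr.exists_section φ h (DCoh.shriekAdj φ h) hcmZ V hVZ K hK
      (-(d : ℤ)) hKd hsurj
    -- the unit at `K` splits
    obtain ⟨ρ, hρ⟩ := ((Groth.Agent.Dcoh.DerPull.lpullAdj φ).homEquiv K.obj
      ((DCoh.shriek φ h).obj K).obj).surjective τs
    rw [Adjunction.homEquiv_unit] at hρ
    have hr : (Groth.Agent.Dcoh.DerPull.lpullAdj φ).unit.app K.obj ≫
        ((DCoh.Rpush φ).map ρ ≫ ((DCoh.trace φ h).app K).hom) = 𝟙 K.obj := by
      rw [← Category.assoc, hρ]
      exact hτs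
    obtain ⟨r, hr'⟩ := K870.Sect.exists_retraction φ hK (Iso.refl _) (Iso.refl _)
      (K870.EtaIff.lpullO φ) (K870.EtaIff.eta φ) rfl _ hr
    have hu := Groth.Agent.Ega1.ADualUniv.isUniv_of_adj (h := h')
      (DCoh.shriekAdj (pullback.snd φ p) h') K'
    obtain ⟨s, hs⟩ := K870.BCUnit.exists_section_trace (IsPullback.of_hasPullback φ p) r hr'
      K'.property hu
    refine ⟨fun a b hab => ?_⟩
    have h1 : (DerivedCategory.homologyFunctor P.Modules (-((d + m : ℕ) : ℤ))).map s ≫
        (DerivedCategory.homologyFunctor P.Modules (-((d + m : ℕ) : ℤ))).map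
          ((ObjectProperty.ι DCoh.IsQCohD).map ((DCoh.trace (pullback.snd φ p) h').app K')) =
        𝟙 _ := by
      rw [← Functor.map_comp]
      refine (congrArg _ hs).trans ?_
      exact CategoryTheory.Functor.map_id _ _
    have h2 := congrArg (fun t =>
      (DerivedCategory.homologyFunctor P.Modules (-((d + m : ℕ) : ℤ))).map s ≫ t) hab
    rw [← Category.assoc, ← Category.assoc, h1] at h2
    exact (Category.id_comp a).symm.trans (h2.trans (Category.id_comp b))

end Groth.Agent.S15720
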