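import Groth.Statements.S15721
import Groth.Agent.RatSing.K870.LowSch
import Groth.Agent.Dual.H380.HypLocal

set_option autoImplicit false
universe u
open CategoryTheory CategoryTheory.Limits AlgebraicGeometry TopologicalSpace
attribute [local instance] HasDerivedCategory.standard
open RatSing

namespace Groth.Agent.S15721

/-- Let Z be an excellent scheme of finite type over a Noetherian local scheme S admitting a dualizing
complex, with canonical sheaf ω_Z = h^{-d}(ω_Z^•), where ω_Z^• = f^! ω_S^• for the normalized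
dualizing complex ω_S^• of S and -d is the lowest degree with nonzero cohomology. Then ω_Z is
torsion-free and (S_2); if moreover Z is normal, ω_Z is reflexive of rank 1. This row states the
case Z proper over S = Spec A (so that f^! is the right adjoint of Rf_* on D_QCoh), with
torsion-freeness (no nonzero section killed by a regular element of the coordinate ring), the (S_2)
condition and reflexivity all stated for the modules of sections over affine opens, and without the
rank assertion. Existence of Rf_* and f^!, preservation of D_QCoh, and exactness of restriction to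
opens and of M ↦ M~ are carried as hypotheses. -/
theorem result (A : Type u) [CommRing A] [IsNoetherianRing A] [IsLocalRing A]
    (ωA : Dual.D A) (hω : Dual.IsDualizing A ωA) (hn : Dual.IsNormalized A ωA)
    [PreservesFiniteLimits (tilde.functor (CommRingCat.of A))]
    (Z : Scheme.{u}) [IsLocallyNoetherian Z] (hexc : ∀ U : Z.affineOpens, EGA4.IsExcellent Γ(Z, U.1))
    (f : Z ⟶ Spec (CommRingCat.of A)) [IsProper f]
    [DCoh.HasRpush f] (h : DCoh.RpushPreservesQCoh f) [DCoh.HasShriek f h]
    (K : DCoh.DQCoh (Spec (CommRingCat.of A))) (hK : Nonempty (K.obj ≅ (DCoh.tildeD (CommRingCat.of A)).obj ωA))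
    (d : ℕ) (hlow : ∀ i : ℤ, i < -(d : ℤ) → IsZero (DCoh.HD ((DCoh.shriek f h).obj K).obj i))
    (hne : ¬ IsZero (DCoh.HD ((DCoh.shriek f h).obj K).obj (-(d : ℤ)))) :
    (∀ U : Z.affineOpens, Submodule.torsion Γ(Z, U.1)
      ((DCoh.HD ((DCoh.shriek f h).obj K).obj (-(d : ℤ))).val.obj (Opposite.op U.1)) = ⊥) ∧
    (∀ U : Z.affineOpens, LocCoh.HasSk 2 Γ(Z, U.1)
      ((DCoh.HD ((DCoh.shriek f h).obj K).obj (-(d : ℤ))).val.obj (Opposite.op U.1))) ∧
    (Pi1.IsNormalScheme Z → ∀ U : Z.affineOpens, Module.IsReflexive Γ(Z, U.1)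
      ((DCoh.HD ((DCoh.shriek f h).obj K).obj (-(d : ℤ))).val.obj (Opposite.op U.1))) := by
  have hH : Groth.Agent.PerfA.CohDim.Hyp ((DCoh.shriek f h).obj K).obj :=
    Groth.Agent.Dual.H380.HypLocal.hyp_local A ωA hω hn Z f h _ (DCoh.shriekAdj f h) K hK
  have : CompactSpace Z := QuasiCompact.compactSpace_of_compactSpace f
  have hdual : Dual2.IsDualizingSch Z ((DCoh.shriek f h).obj K).obj := hH.exists_dual
  have hcoh := Groth.Agent.Ega1.DualSchBdd.isCohD_of_isDualizingSch hdual (-(d : ℤ))
  have key : ∀ U : Z.affineOpens, K870.LowMod.Deep Γ(Z, U.1)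
      Γ(DCoh.HD ((DCoh.shriek f h).obj K).obj (-(d : ℤ)), U.1) := fun U =>
    K870.LowSch.deep_sections hcoh.1 (K870.LowSch.min_le_depth_stalk hH (d : ℤ) hlow) U.2
  have hN : ∀ U : Z.affineOpens, IsNoetherianRing Γ(Z, U.1) := fun U =>
    IsLocallyNoetherian.component_noetherian U
  have hfin : ∀ U : Z.affineOpens, Module.Finite Γ(Z, U.1)
      Γ(DCoh.HD ((DCoh.shriek f h).obj K).obj (-(d : ℤ)), U.1) := fun U =>
    Groth.Agent.Divis.StalkMod.finite_sections hcoh U.2
  refine ⟨fun U => (key U).torsion_eq_bot, fun U => (key U).hasSk, fun hnorm U => ?_⟩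
  exact (key U).isReflexive fun p hp => K870.LowSch.normal_localization hnorm U.2 p

end Groth.Agent.S15721
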