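import Groth.Statements.S15722
import Groth.Agent.RatSing.K870.EtaIff
import Groth.Agent.RatSing.K870.DualDeg
import Groth.Agent.RatSing.K870.CMBlow
import Groth.Agent.RatSing.K870.BlowRegD
import Groth.Agent.Ega4B.RpushCompare
import Groth.Agent.Flat2C.BlowProper
import Groth.Agent.Flat2C.CompData
import Groth.Agent.S1682
import Groth.Agent.S1810
import Groth.Agent.LoccohB.DCalc

set_option autoImplicit false
universe u
open CategoryTheory CategoryTheory.Limits AlgebraicGeometry TopologicalSpace
attribute [local instance] HasDerivedCategory.standard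
open RatSing

namespace Groth.Agent.S15722

/-- Let W be a Cohen–Macaulay scheme (excellent, as the published statement assumes throughout), I an
ideal sheaf locally generated by a regular sequence whose zero locus V is nowhere dense in W, and π
: T → W the blowing up of W in I. Then Rπ_* ω_T ≅ ω_W through the natural map: the trace Rπ_* ω_T^•
→ ω_W^• is an isomorphism and R^p π_* ω_T = 0 for p > 0. (The published statement also asserts O_W ≅
Rπ_* O_T, i.e. that O_W → π_* O_T is an isomorphism and R^p π_* O_T = 0 for p > 0; that assertion is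
not restated in this row.) This row takes W Noetherian of pure dimension d, fixes the dualizing
complex K = ω_W^• with quasi-coherent cohomology concentrated in degree -d, uses ω_T^• = π^! K with
π^! the right adjoint of Rπ_* on D_QCoh and ω_T = h^{-d}(π^! K), and characterises the blowing up by
its universal property. (The published statement does not exclude the empty regular sequence, i.e. I
= 0 on a connected component, where the blowing up is empty and neither O_W → π_* O_T nor the trace
0 = Rπ_* ω_T^• → ω_W^• is an isomorphism; so V is taken nowhere dense here.) Existence of Rπ_* and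
π^!, preservation of D_QCoh, exactness of restriction to opens and of M ↦ M~, and injective
resolutions are carried as hypotheses. -/
theorem result (W T : Scheme.{u}) (d : ℕ) [IsNoetherian W]
    (hexc : ∀ U : W.affineOpens, EGA4.IsExcellent Γ(W, U.1))
    (hcm : ∀ w : W, LocCoh.IsCohenMacaulayLocalRing (W.presheaf.stalk w))
    (hpd : ∀ C ∈ irreducibleComponents (W : Type u), topologicalKrullDim C = d)
    [∀ (U : Scheme.{u}) (j : U ⟶ W) [IsOpenImmersion j], PreservesFiniteLimits (Scheme.Modules.restrictFunctor j)]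
    [∀ (R : CommRingCat.{u}), PreservesFiniteLimits (tilde.functor R)]
    (K : DCoh.DQCoh W) (hK : Dual2.IsDualizingSch W K.obj) (hKd : ∀ i : ℤ, i ≠ -(d : ℤ) → IsZero (DCoh.HD K.obj i))
    (I : W.IdealSheafData) (hI : RegImm.IsRegularIdeal RegImm.Kind.regular I)
    (hV : Dense ((I.support : Set W)ᶜ)) (π : T ⟶ W) (hπ : BlowUp.IsBlowUp π I)
    [DCoh.HasRpush π] (h : DCoh.RpushPreservesQCoh π) [DCoh.HasShriek π h] [HasInjectiveResolutions T.Modules] :
    IsIso ((ObjectProperty.ι DCoh.IsQCohD).map ((DCoh.trace π h).app K)) ∧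
      (∀ p : ℕ, 0 < p → IsZero ((Coh.Rpush π p).obj (DCoh.HD ((DCoh.shriek π h).obj K).obj (-(d : ℤ))))) := by
  have hft : BlowUp.IsFiniteTypeIdeal I := fun U => by
    have : IsNoetherianRing Γ(W, U.1) := IsLocallyNoetherian.component_noetherian U
    exact IsNoetherian.noetherian _
  have hprop : IsProper π := Groth.Agent.Flat2C.BlowProper.isProper_of_isBlowUp hπ hft
  have : IsLocallyNoetherian T := LocallyOfFiniteType.isLocallyNoetherian π
  have : ∀ (U : Scheme.{u}) (j : U ⟶ T) [IsOpenImmersion j],
      PreservesFiniteLimits (Scheme.Modules.restrictFunctor j) := fun U j _ => inferInstance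
  have : DCoh.HasLpull π := Groth.Agent.Dcoh.DerPull.hasLpull π
  have hξ : IsIso (ClSub.unitToPush π) ∧
      ∀ p : ℕ, 0 < p → IsZero ((Coh.Rpush π p).obj (Coh.structureModule T)) :=
    ⟨K870.BlowRegD.isIso_unitToPush I hI hV π hπ, fun p hp =>
      (Groth.Agent.Ega4B.RpushCompare.isZero_rpush_iff π _ p).2
        (K870.BlowRegD.isZero_RpushAb I hI hV π hπ p hp)⟩
  have hη := (K870.EtaIff.isIso_eta_iff π).2 hξ
  have hu := Groth.Agent.Ega1.ADualUniv.isUniv_of_adj (h := h) (DCoh.shriekAdj π h) K
  have hτ := K870.EtaIff.isIso_trace π hη K.property hu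
  refine ⟨hτ, fun p hp => ?_⟩
  let L : DCoh.D T := ((DCoh.shriek π h).obj K).obj
  let τ : (DCoh.Rpush π).obj L ≅ K.obj := @asIso _ _ _ _ _ hτ
  have hL : Dual2.IsDualizingSch T L :=
    Groth.Agent.S1810.result T W π h _ (DCoh.shriekAdj π h) K hK
  have hiso : IsIso (π ∣_ I.support.compl) := Groth.Agent.S1682.result I π hπ
  have hLc : ∀ i : ℤ, i ≠ -(d : ℤ) → IsZero (DCoh.HD L i) := by
    refine K870.DualDeg.isZero_HD_of_dense T L hL
      (K870.CMBlow.cm_blowUp I hI hcm hπ) (π ⁻¹ᵁ I.support.compl)
      (Groth.Agent.Flat2C.CompData.dense_preimage_blowUp hπ I.support.compl hV) (-(d : ℤ)) ?_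
    intro i hi x hx
    obtain ⟨e⟩ := K870.DualDeg.nonempty_stalk_iso π I.support.compl L i x hx
    have h1 : IsZero (DCoh.HD ((DCoh.Rpush π).obj L) i) :=
      (hKd i hi).of_iso ((DerivedCategory.homologyFunctor W.Modules i).mapIso τ)
    have h2 := Groth.Agent.Dcoh.StalkMod.subsingleton_of_isZero h1 (π x)
    exact e.symm.toEquiv.subsingleton
  have hLge : L.IsGE (-(d : ℤ)) := by
    rw [DerivedCategory.isGE_iff]
    exact fun i hi => hLc i (by omega)
  have hLle : L.IsLE (-(d : ℤ)) := by
    rw [DerivedCategory.isLE_iff]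
    exact fun i hi => hLc i (by omega)
  obtain ⟨eL⟩ := Groth.Agent.LoccohB.DCalc.exists_iso_single L (-(d : ℤ))
  have e1 : DCoh.HD K.obj ((p : ℤ) + (-(d : ℤ))) ≅
      DCoh.HD ((DCoh.Rpush π).obj (DCoh.inD T (DCoh.HD L (-(d : ℤ))))) p :=
    (DerivedCategory.homologyFunctor W.Modules ((p : ℤ) + (-(d : ℤ)))).mapIso
      (τ.symm ≪≫ (DCoh.Rpush π).mapIso eL) ≪≫
      Groth.Agent.PerfC.RpushSingle.isoSingle π (DCoh.HD L (-(d : ℤ))) (-(d : ℤ)) _ p rfl
  exact ((hKd _ (by omega)).of_iso e1.symm).of_iso
    (Groth.Agent.PerfC.RpushSingle.iso π p (DCoh.HD L (-(d : ℤ)))).symm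

end Groth.Agent.S15722
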