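import Groth.Statements.S15724
import Groth.Agent.W4c2invhilbsl2.K871.Wt

set_option autoImplicit false
universe u
open W4c2invhilbsl2

namespace Groth.Agent.S15724
open K871.Gen K871.Wt

/-- Grade the polynomial ring k[X₀,…,X₄] over a field k by ℤ × ℤ/m, giving X₀ weight (1,0), X₁ and X₂
weight (−p,−1), and X₃ and X₄ weight (q,1), where 0 < p < q are coprime integers and m ≥ 1, and let
P be the principal ideal generated by the weight-zero element X₀^(q−p) − X₁X₄ + X₂X₃ (the equation
of an affine hypersurface). Then every polynomial homogeneous of the weight of X₁ is congruent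
modulo P to some a·X₁ + b·X₂ with a and b homogeneous of weight zero, and every polynomial
homogeneous of the weight of X₃ is congruent modulo P to some a·X₃ + b·X₄ with a and b homogeneous
of weight zero. Equivalently, in the coordinate ring of the hypersurface the weight pieces of the
weights of X₁ and of X₃ are generated over the weight-zero subring (the ring of invariants of the
diagonal action of a one-dimensional torus times the group of m-th roots of unity with these
weights) by X₁, X₂ and by X₃, X₄ respectively. (For the weight of X₁ the congruence is already an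
equality in the polynomial ring; for the weight of X₃ the hypersurface equation is needed, e.g.
X₀^(q+p)X₁ has that weight when m divides 2.) -/
theorem result (k : Type u) [Field k] (p q m : ℕ) (hp : 0 < p) (hpq : p < q) (hcop : Nat.Coprime p q) (hm : 0 < m) (f : MvPolynomial (Fin 5) k) :
    (f ∈ MvPolynomial.weightedHomogeneousSubmodule k (W4c2invhilbsl2.wt5 p q m) (W4c2invhilbsl2.wt5 p q m 1) →
      ∃ a b : MvPolynomial (Fin 5) k, a ∈ MvPolynomial.weightedHomogeneousSubmodule k (W4c2invhilbsl2.wt5 p q m) 0 ∧ b ∈ MvPolynomial.weightedHomogeneousSubmodule k (W4c2invhilbsl2.wt5 p q m) 0 ∧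
        f - (a * MvPolynomial.X (1 : Fin 5) + b * MvPolynomial.X (2 : Fin 5)) ∈ Ideal.span {MvPolynomial.X (0 : Fin 5) ^ (q - p) - MvPolynomial.X 1 * MvPolynomial.X 4 + MvPolynomial.X 2 * MvPolynomial.X 3}) ∧
    (f ∈ MvPolynomial.weightedHomogeneousSubmodule k (W4c2invhilbsl2.wt5 p q m) (W4c2invhilbsl2.wt5 p q m 3) →
      ∃ a b : MvPolynomial (Fin 5) k, a ∈ MvPolynomial.weightedHomogeneousSubmodule k (W4c2invhilbsl2.wt5 p q m) 0 ∧ b ∈ MvPolynomial.weightedHomogeneousSubmodule k (W4c2invhilbsl2.wt5 p q m) 0 ∧
        f - (a * MvPolynomial.X (3 : Fin 5) + b * MvPolynomial.X (4 : Fin 5)) ∈ Ideal.span {MvPolynomial.X (0 : Fin 5) ^ (q - p) - MvPolynomial.X 1 * MvPolynomial.X 4 + MvPolynomial.X 2 * MvPolynomial.X 3}) := by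
  have hpq' : (p : ℤ) < q := by exact_mod_cast hpq
  have hp' : (0 : ℤ) < p := by exact_mod_cast hp
  set P : Ideal (MvPolynomial (Fin 5) k) := Ideal.span {MvPolynomial.X (0 : Fin 5) ^ (q - p) -
    MvPolynomial.X 1 * MvPolynomial.X 4 + MvPolynomial.X 2 * MvPolynomial.X 3} with hP
  refine ⟨fun hf => ?_, fun hf => ?_⟩
  · set g : Fin 2 → MvPolynomial (Fin 5) k := ![MvPolynomial.X 1, MvPolynomial.X 2] with hg
    have hmem : f ∈ genSub (wt5 p q m) (Finset.univ : Finset (Fin 2)) g P := by
      refine weightPiece_le _ _ _ ?_ hf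
      intro d hd
      have hd' := hd
      have hw1 : wt5 p q m 1 = (-(p : ℤ), ((-1 : ℤ) : ZMod m)) := by simp [wt5]
      rw [hw1, weight5_eq_iff] at hd
      obtain ⟨h1, -⟩ := hd
      have hcases : 1 ≤ d 1 ∨ 1 ≤ d 2 := by
        by_contra h
        have h0 : d 1 = 0 := by omega
        have h0' : d 2 = 0 := by omega
        rw [h0, h0'] at h1
        have h5 : (0 : ℤ) ≤ d 3 + d 4 := by positivity
        have h6 : (0 : ℤ) ≤ d 0 := Int.natCast_nonneg _
        push_cast at h1
        nlinarith
      rcases hcases with h | h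
      · refine monomial_mem_genSub _ _ _ _ d (ex5 0 1 0 0 0) ?_ ?_ 0 (Finset.mem_univ _) ?_
        · rw [ex5_le_iff]
          exact ⟨Nat.zero_le _, h, Nat.zero_le _, Nat.zero_le _, Nat.zero_le _⟩
        · rw [hd', weight_ex5, hw1]
          ext <;> push_cast <;> ring
        · simp [monomial_ex5, hg]
      · refine monomial_mem_genSub _ _ _ _ d (ex5 0 0 1 0 0) ?_ ?_ 1 (Finset.mem_univ _) ?_
        · rw [ex5_le_iff]
          exact ⟨Nat.zero_le _, Nat.zero_le _, h, Nat.zero_le _, Nat.zero_le _⟩
        · rw [hd', weight_ex5, hw1]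
          ext <;> push_cast <;> ring
        · simp [monomial_ex5, hg]
    obtain ⟨a, ha, h⟩ := hmem
    refine ⟨a 0, a 1, ha 0, ha 1, ?_⟩
    rw [Fin.sum_univ_two] at h
    simpa [hg] using h
  · set g : Fin 2 → MvPolynomial (Fin 5) k := ![MvPolynomial.X 3, MvPolynomial.X 4] with hg
    have hmem : f ∈ genSub (wt5 p q m) (Finset.univ : Finset (Fin 2)) g P := by
      refine weightPiece_le _ _ _ ?_ hf
      intro d hd
      have hd' := hd
      have hw3 : wt5 p q m 3 = ((q : ℤ), ((1 : ℤ) : ZMod m)) := by simp [wt5]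
      rw [hw3, weight5_eq_iff] at hd
      obtain ⟨h1, -⟩ := hd
      by_cases hcase : 1 ≤ d 3 ∨ 1 ≤ d 4
      · rcases hcase with h | h
        · refine monomial_mem_genSub _ _ _ _ d (ex5 0 0 0 1 0) ?_ ?_ 0 (Finset.mem_univ _) ?_
          · rw [ex5_le_iff]
            exact ⟨Nat.zero_le _, Nat.zero_le _, Nat.zero_le _, h, Nat.zero_le _⟩
          · rw [hd', weight_ex5, hw3]
            ext <;> push_cast <;> ring
          · simp [monomial_ex5, hg]
        · refine monomial_mem_genSub _ _ _ _ d (ex5 0 0 0 0 1) ?_ ?_ 1 (Finset.mem_univ _) ?_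
          · rw [ex5_le_iff]
            exact ⟨Nat.zero_le _, Nat.zero_le _, Nat.zero_le _, Nat.zero_le _, h⟩
          · rw [hd', weight_ex5, hw3]
            ext <;> push_cast <;> ring
          · simp [monomial_ex5, hg]
      · have h0 : d 3 = 0 := by omega
        have h0' : d 4 = 0 := by omega
        rw [h0, h0'] at h1
        have hd0 : q - p ≤ d 0 := by
          have h5 : (0 : ℤ) ≤ d 1 + d 2 := by positivity
          push_cast at h1
          have h6 : (q : ℤ) - p ≤ d 0 := by nlinarith
          rw [← Nat.cast_sub hpq.le] at h6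
          exact_mod_cast h6
        have hle : ex5 (q - p) 0 0 0 0 ≤ d := (ex5_le_iff _ _ _ _ _ _).2
          ⟨hd0, Nat.zero_le _, Nat.zero_le _, Nat.zero_le _, Nat.zero_le _⟩
        have h3 : (MvPolynomial.monomial d (1 : k)) =
            MvPolynomial.monomial (d - ex5 (q - p) 0 0 0 0) 1 *
              MvPolynomial.monomial (ex5 (q - p) 0 0 0 0) 1 := by
          rw [MvPolynomial.monomial_mul, one_mul, tsub_add_cancel_of_le hle]
        set A := (MvPolynomial.monomial (d - ex5 (q - p) 0 0 0 0) (1 : k)) with hA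
        have hwsub : Finsupp.weight (wt5 p q m) (d - ex5 (q - p) 0 0 0 0) +
            Finsupp.weight (wt5 p q m) (ex5 (q - p) 0 0 0 0) = wt5 p q m 3 := by
          rw [← map_add, tsub_add_cancel_of_le hle, hd']
        have hwsub' : Finsupp.weight (wt5 p q m) (d - ex5 (q - p) 0 0 0 0) =
            ((p : ℤ), (1 : ZMod m)) := by
          have h7 := eq_sub_of_add_eq hwsub
          rw [h7, weight_ex5, hw3]
          ext <;> simp [Nat.cast_sub hpq.le]
        have hAX : ∀ i : Fin 5, wt5 p q m i = (-(p : ℤ), (-1 : ZMod m)) →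
            A * MvPolynomial.X i ∈ MvPolynomial.weightedHomogeneousSubmodule k (wt5 p q m) 0 := by
          intro i hi
          rw [MvPolynomial.mem_weightedHomogeneousSubmodule]
          have h8 := MvPolynomial.isWeightedHomogeneous_monomial (wt5 p q m)
            (d - ex5 (q - p) 0 0 0 0) (1 : k) hwsub'
          have h9 := MvPolynomial.isWeightedHomogeneous_X k (wt5 p q m) i
          have h10 := h8.mul h9
          rw [hi] at h10
          have h11 : (((p : ℤ), (1 : ZMod m)) + (-(p : ℤ), (-1 : ZMod m))) = 0 := by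
            ext <;> simp
          rw [h11] at h10
          exact h10
        have h4 : (MvPolynomial.monomial d (1 : k)) =
            A * (MvPolynomial.X (0 : Fin 5) ^ (q - p) - MvPolynomial.X 1 * MvPolynomial.X 4 +
              MvPolynomial.X 2 * MvPolynomial.X 3) + (A * MvPolynomial.X 1) * g 1 -
                (A * MvPolynomial.X 2) * g 0 := by
          rw [h3, monomial_ex5, hg]
          simp only [pow_zero, mul_one, Matrix.cons_val]
          ring
        rw [h4]
        refine Submodule.sub_mem _ (Submodule.add_mem _ ?_ ?_) ?_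
        · exact mem_genSub_of_mem _ _ _ _ _ (P.mul_mem_left _ (Ideal.subset_span rfl))
        · exact mul_mem_genSub _ _ _ _ _ (hAX 1 (by simp [wt5])) _ (Finset.mem_univ _)
        · exact mul_mem_genSub _ _ _ _ _ (hAX 2 (by simp [wt5])) _ (Finset.mem_univ _)
    obtain ⟨a, ha, h⟩ := hmem
    refine ⟨a 0, a 1, ha 0, ha 1, ?_⟩
    rw [Fin.sum_univ_two] at h
    simpa [hg] using h

end Groth.Agent.S15724
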