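import Groth.Statements.S15725
import Groth.Agent.W4c2invhilbsl2.K871.Wt

set_option autoImplicit false
universe u
open W4c2invhilbsl2

namespace Groth.Agent.S15725
open K871.Gen K871.Wt

/-- Grade the polynomial ring k[X₀,X₁,X₂] over a field k by ℤ × ℤ/m, giving X₀ weight (1,0), X₁ weight
(−p,−1) and X₂ weight (q,1), where 0 < p < q are coprime integers and m ≥ 1 (this three-variable
ring stands for the subring k[X₀,X₁,Xⱼ], j = 3 or 4, of the five-variable ring with the same
weights). Then every polynomial homogeneous of weight (q−p, 0) can be written a·X₀^(q−p) + b·X₁X₂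
with a and b homogeneous of weight zero; in other words the weight-(q−p, 0) piece is generated by
X₀^(q−p) and X₁X₂ as a module over the weight-zero subring. -/
theorem result (k : Type u) [Field k] (p q m : ℕ) (hp : 0 < p) (hpq : p < q) (hcop : Nat.Coprime p q) (hm : 0 < m) (f : MvPolynomial (Fin 3) k)
    (hf : f ∈ MvPolynomial.weightedHomogeneousSubmodule k (W4c2invhilbsl2.wt3 p q m) ((q : ℤ) - (p : ℤ), (0 : ZMod m))) :
    ∃ a b : MvPolynomial (Fin 3) k, a ∈ MvPolynomial.weightedHomogeneousSubmodule k (W4c2invhilbsl2.wt3 p q m) 0 ∧ b ∈ MvPolynomial.weightedHomogeneousSubmodule k (W4c2invhilbsl2.wt3 p q m) 0 ∧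
      f = a * MvPolynomial.X (0 : Fin 3) ^ (q - p) + b * (MvPolynomial.X (1 : Fin 3) * MvPolynomial.X (2 : Fin 3)) := by
  have hpq' : (p : ℤ) < q := by exact_mod_cast hpq
  have hp' : (0 : ℤ) < p := by exact_mod_cast hp
  have hmem : f ∈ genSub (wt3 p q m) (Finset.univ : Finset (Fin 2))
      ![MvPolynomial.X (0 : Fin 3) ^ (q - p), MvPolynomial.X 1 * MvPolynomial.X 2] ⊥ := by
    refine weightPiece_le _ _ _ ?_ hf
    intro d hd
    have hd' := hd
    rw [show ((q : ℤ) - p, (0 : ZMod m)) = ((q : ℤ) - p, ((0 : ℤ) : ZMod m)) by simp,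
      weight3_eq_iff] at hd
    obtain ⟨h1, -⟩ := hd
    by_cases hcase : q - p ≤ d 0
    · refine monomial_mem_genSub _ _ _ _ d (ex3 (q - p) 0 0)
        ((ex3_le_iff _ _ _ _).2 ⟨hcase, Nat.zero_le _, Nat.zero_le _⟩) ?_ 0 (Finset.mem_univ _) ?_
      · rw [hd', weight_ex3]
        ext <;> simp [Nat.cast_sub hpq.le]
      · simp [monomial_ex3]
    · have hd0 : (d 0 : ℤ) < q - p := by
        have := (Nat.cast_lt (α := ℤ)).2 (not_le.1 hcase)
        rwa [Nat.cast_sub hpq.le] at this
      have hd1 : 1 ≤ d 1 := by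
        by_contra h
        have h0 : d 1 = 0 := by omega
        rw [h0] at h1
        have h2 : d 2 = 0 := by
          by_contra h3
          have h4 : (1 : ℤ) ≤ d 2 := by exact_mod_cast Nat.one_le_iff_ne_zero.2 h3
          have h5 : (0 : ℤ) ≤ d 0 := Int.natCast_nonneg _
          push_cast at h1
          nlinarith
        rw [h2] at h1
        push_cast at h1
        linarith
      have hd2 : 1 ≤ d 2 := by
        by_contra h
        have h0 : d 2 = 0 := by omega
        rw [h0] at h1
        have h5 : (0 : ℤ) ≤ d 1 := Int.natCast_nonneg _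
        push_cast at h1
        nlinarith
      refine monomial_mem_genSub _ _ _ _ d (ex3 0 1 1)
        ((ex3_le_iff _ _ _ _).2 ⟨Nat.zero_le _, hd1, hd2⟩) ?_ 1 (Finset.mem_univ _) ?_
      · rw [hd', weight_ex3]
        ext <;> push_cast <;> ring
      · simp [monomial_ex3]
  obtain ⟨a, ha, h⟩ := hmem
  refine ⟨a 0, a 1, ha 0, ha 1, ?_⟩
  rw [Ideal.mem_bot, sub_eq_zero] at h
  rw [h]
  simp

end Groth.Agent.S15725
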