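import Groth.Statements.S15726
import Groth.Agent.W4c2invhilbsl2.K871.Wt

set_option autoImplicit false
universe u
open W4c2invhilbsl2

namespace Groth.Agent.S15726
open K871.Gen K871.Wt

/-- Grade the polynomial ring k[X₀,…,X₄] over a field k by ℤ × ℤ/m, giving X₀ weight (1,0), X₁ and X₂
weight (−p,−1), and X₃ and X₄ weight (q,1), where 0 < p < q are coprime integers and m ≥ 1. Then
modulo the principal ideal generated by the weight-zero element X₀^(q−p) − X₁X₄ + X₂X₃ (the equation
of an affine hypersurface), every polynomial homogeneous of weight (q−p, 0) is congruent to a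
combination a₁₃X₁X₃ + a₁₄X₁X₄ + a₂₃X₂X₃ + a₂₄X₂X₄ whose four coefficients are homogeneous of weight
zero. Equivalently, in the coordinate ring of the hypersurface the weight-(q−p, 0) piece is
generated over the weight-zero subring (the invariant ring of the diagonal action with these
weights) by the span of the four products XₐX_b with a ∈ {1,2} and b ∈ {3,4}. (The published
statement is over the complex numbers; this row takes any field.) -/
theorem result (k : Type u) [Field k] (p q m : ℕ) (hp : 0 < p) (hpq : p < q) (hcop : Nat.Coprime p q) (hm : 0 < m) (f : MvPolynomial (Fin 5) k)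
    (hf : f ∈ MvPolynomial.weightedHomogeneousSubmodule k (W4c2invhilbsl2.wt5 p q m) ((q : ℤ) - (p : ℤ), (0 : ZMod m))) :
    ∃ a₁₃ a₁₄ a₂₃ a₂₄ : MvPolynomial (Fin 5) k,
      a₁₃ ∈ MvPolynomial.weightedHomogeneousSubmodule k (W4c2invhilbsl2.wt5 p q m) 0 ∧ a₁₄ ∈ MvPolynomial.weightedHomogeneousSubmodule k (W4c2invhilbsl2.wt5 p q m) 0 ∧ a₂₃ ∈ MvPolynomial.weightedHomogeneousSubmodule k (W4c2invhilbsl2.wt5 p q m) 0 ∧ a₂₄ ∈ MvPolynomial.weightedHomogeneousSubmodule k (W4c2invhilbsl2.wt5 p q m) 0 ∧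
      f - (a₁₃ * (MvPolynomial.X (1 : Fin 5) * MvPolynomial.X 3) + a₁₄ * (MvPolynomial.X (1 : Fin 5) * MvPolynomial.X 4) +
          a₂₃ * (MvPolynomial.X (2 : Fin 5) * MvPolynomial.X 3) + a₂₄ * (MvPolynomial.X (2 : Fin 5) * MvPolynomial.X 4)) ∈
        Ideal.span {MvPolynomial.X (0 : Fin 5) ^ (q - p) - MvPolynomial.X 1 * MvPolynomial.X 4 + MvPolynomial.X 2 * MvPolynomial.X 3} := by
  have hpq' : (p : ℤ) < q := by exact_mod_cast hpq
  have hp' : (0 : ℤ) < p := by exact_mod_cast hp
  set P : Ideal (MvPolynomial (Fin 5) k) := Ideal.span {MvPolynomial.X (0 : Fin 5) ^ (q - p) -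
    MvPolynomial.X 1 * MvPolynomial.X 4 + MvPolynomial.X 2 * MvPolynomial.X 3} with hP
  set g : Fin 4 → MvPolynomial (Fin 5) k :=
      ![MvPolynomial.X 1 * MvPolynomial.X 3, MvPolynomial.X 1 * MvPolynomial.X 4,
        MvPolynomial.X 2 * MvPolynomial.X 3, MvPolynomial.X 2 * MvPolynomial.X 4] with hg
  have hmem : f ∈ genSub (wt5 p q m) (Finset.univ : Finset (Fin 4)) g P := by
    refine weightPiece_le _ _ _ ?_ hf
    intro d hd
    have hd' := hd
    rw [show ((q : ℤ) - p, (0 : ZMod m)) = ((q : ℤ) - p, ((0 : ℤ) : ZMod m)) by simp,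
      weight5_eq_iff] at hd
    obtain ⟨h1, -⟩ := hd
    by_cases hcase : q - p ≤ d 0
    · have hle : ex5 (q - p) 0 0 0 0 ≤ d := (ex5_le_iff _ _ _ _ _ _).2
        ⟨hcase, Nat.zero_le _, Nat.zero_le _, Nat.zero_le _, Nat.zero_le _⟩
      have hw : Finsupp.weight (wt5 p q m) d = Finsupp.weight (wt5 p q m) (ex5 (q - p) 0 0 0 0) := by
        rw [hd', weight_ex5]
        ext <;> simp [Nat.cast_sub hpq.le]
      have h2 := monomial_sub_mem (k := k) (wt5 p q m) d _ hle hw
      have h3 : (MvPolynomial.monomial d (1 : k)) =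
          MvPolynomial.monomial (d - ex5 (q - p) 0 0 0 0) 1 *
            MvPolynomial.monomial (ex5 (q - p) 0 0 0 0) 1 := by
        rw [MvPolynomial.monomial_mul, one_mul, tsub_add_cancel_of_le hle]
      set A := (MvPolynomial.monomial (d - ex5 (q - p) 0 0 0 0) (1 : k)) with hA
      have h4 : (MvPolynomial.monomial d (1 : k)) =
          A * (MvPolynomial.X (0 : Fin 5) ^ (q - p) - MvPolynomial.X 1 * MvPolynomial.X 4 +
            MvPolynomial.X 2 * MvPolynomial.X 3) + A * g 1 - A * g 2 := by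
        rw [h3, monomial_ex5, hg]
        simp only [pow_zero, mul_one, Matrix.cons_val]
        ring
      rw [h4]
      refine Submodule.sub_mem _ (Submodule.add_mem _ ?_ ?_) ?_
      · exact mem_genSub_of_mem _ _ _ _ _ (P.mul_mem_left _ (Ideal.subset_span rfl))
      · exact mul_mem_genSub _ _ _ _ _ h2 _ (Finset.mem_univ _)
      · exact mul_mem_genSub _ _ _ _ _ h2 _ (Finset.mem_univ _)
    · have hd0 : (d 0 : ℤ) < q - p := by
        have := (Nat.cast_lt (α := ℤ)).2 (not_le.1 hcase)
        rwa [Nat.cast_sub hpq.le] at this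
      have hd1 : 1 ≤ d 1 + d 2 := by
        by_contra h
        have h0 : d 1 = 0 := by omega
        have h0' : d 2 = 0 := by omega
        rw [h0, h0'] at h1
        have h2 : d 3 + d 4 = 0 := by
          by_contra h3
          have h4 : (1 : ℤ) ≤ d 3 + d 4 := by exact_mod_cast Nat.one_le_iff_ne_zero.2 h3
          have h5 : (0 : ℤ) ≤ d 0 := Int.natCast_nonneg _
          push_cast at h1
          nlinarith
        have h2' : (d 3 : ℤ) + d 4 = 0 := by exact_mod_cast h2
        rw [h2'] at h1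
        push_cast at h1
        linarith
      have hd2 : 1 ≤ d 3 + d 4 := by
        by_contra h
        have h0 : (d 3 : ℤ) + d 4 = 0 := by omega
        rw [h0] at h1
        have h5 : (0 : ℤ) ≤ d 1 + d 2 := by positivity
        nlinarith
      have hcases : (1 ≤ d 1 ∨ 1 ≤ d 2) ∧ (1 ≤ d 3 ∨ 1 ≤ d 4) := by omega
      have hgen : ∀ (e : Fin 5 →₀ ℕ) (j : Fin 4), e ≤ d → g j = MvPolynomial.monomial e 1 →
          Finsupp.weight (wt5 p q m) e = ((q : ℤ) - p, (0 : ZMod m)) →
          MvPolynomial.monomial d (1 : k) ∈ genSub (wt5 p q m) (Finset.univ : Finset (Fin 4)) g P :=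
        fun e j he hge hwe => monomial_mem_genSub _ _ _ _ d e he (hd'.trans hwe.symm) j
          (Finset.mem_univ _) hge
      rcases hcases with ⟨h1' | h1', h3' | h3'⟩
      · refine hgen (ex5 0 1 0 1 0) 0 ?_ ?_ ?_
        · rw [ex5_le_iff]
          exact ⟨Nat.zero_le _, h1', Nat.zero_le _, h3', Nat.zero_le _⟩
        · simp [monomial_ex5, hg]
        · rw [weight_ex5]
          ext <;> push_cast <;> ring
      · refine hgen (ex5 0 1 0 0 1) 1 ?_ ?_ ?_
        · rw [ex5_le_iff]
          exact ⟨Nat.zero_le _, h1', Nat.zero_le _, Nat.zero_le _, h3'⟩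
        · simp [monomial_ex5, hg]
        · rw [weight_ex5]
          ext <;> push_cast <;> ring
      · refine hgen (ex5 0 0 1 1 0) 2 ?_ ?_ ?_
        · rw [ex5_le_iff]
          exact ⟨Nat.zero_le _, Nat.zero_le _, h1', h3', Nat.zero_le _⟩
        · simp [monomial_ex5, hg]
        · rw [weight_ex5]
          ext <;> push_cast <;> ring
      · refine hgen (ex5 0 0 1 0 1) 3 ?_ ?_ ?_
        · rw [ex5_le_iff]
          exact ⟨Nat.zero_le _, Nat.zero_le _, h1', Nat.zero_le _, h3'⟩
        · simp [monomial_ex5, hg]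
        · rw [weight_ex5]
          ext <;> push_cast <;> ring
  obtain ⟨a, ha, h⟩ := hmem
  refine ⟨a 0, a 1, a 2, a 3, ha 0, ha 1, ha 2, ha 3, ?_⟩
  rw [Fin.sum_univ_four] at h
  simpa [hg] using h

end Groth.Agent.S15726
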