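import Groth.Statements.S15727
import Groth.Agent.W4c2invhilbsl2.K871.Wt
import Groth.Agent.W4c2invhilbsl2.K871.Mono

set_option autoImplicit false
universe u
open W4c2invhilbsl2

namespace Groth.Agent.S15727
open K871.Gen K871.Wt K871.Mono

/-- Let k be an algebraically closed field, 0 < p < q coprime integers and m ≥ 1, and grade k[X₀,…,X₄]
by ℤ × ℤ/m, giving X₀ weight (1,0), X₁ and X₂ weight (−p,−1), and X₃ and X₄ weight (q,1). For s ∈ k
let I_s be the ideal (X₀^(q−p) − X₁X₄, X₂, X₃, s − X₀^(mp)X₁^m), whose generators are homogeneous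
(the last one of weight zero). Then for every weight ν the image in k[X₀,…,X₄]/I_s of the
homogeneous polynomials of weight ν is a k-vector space of dimension at most 1. (The published
statement asserts that this dimension equals 1 for every ν and every s, namely that the quotient has
the Hilbert function of the regular representation of the grading group; this row states the upper
bound, the half obtained from the monomial analysis of the weight pieces, while the lower bound
there is drawn from the moduli interpretation of these ideals. The published statement is over the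
complex numbers; this row takes any algebraically closed field, which is what the reduction to s =
0, 1 by rescaling the variables uses.) -/
theorem result (k : Type u) [Field k] [IsAlgClosed k] (p q m : ℕ) (hp : 0 < p) (hpq : p < q) (hcop : Nat.Coprime p q) (hm : 0 < m) (s : k) (ν : ℤ × ZMod m) :
    Module.rank k (W4c2invhilbsl2.piece k (W4c2invhilbsl2.wt5 p q m) (W4c2invhilbsl2.idealI k p q m s) ν) ≤ 1 := by
  refine rank_piece_le_one _ _ _ fun d e hd he => ?_
  set I := idealI k p q m s with hI
  have hX2 : Ideal.Quotient.mk I (MvPolynomial.X 2) = 0 :=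
    Ideal.Quotient.eq_zero_iff_mem.2 (Ideal.subset_span (by simp))
  have hX3 : Ideal.Quotient.mk I (MvPolynomial.X 3) = 0 :=
    Ideal.Quotient.eq_zero_iff_mem.2 (Ideal.subset_span (by simp))
  have hrel : (Ideal.Quotient.mk I (MvPolynomial.X 0)) ^ (q - p) =
      Ideal.Quotient.mk I (MvPolynomial.X 1) * Ideal.Quotient.mk I (MvPolynomial.X 4) := by
    rw [← map_pow, ← map_mul, Ideal.Quotient.eq]
    exact Ideal.subset_span (by simp)
  have hs : (Ideal.Quotient.mk I (MvPolynomial.X 0)) ^ (m * p) *
      (Ideal.Quotient.mk I (MvPolynomial.X 1)) ^ m = Ideal.Quotient.mk I (MvPolynomial.C s) := by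
    rw [← map_pow, ← map_pow, ← map_mul]
    refine Eq.symm ((Ideal.Quotient.eq).2 ?_)
    exact Ideal.subset_span (by simp)
  have hmon : ∀ f : Fin 5 →₀ ℕ, Ideal.Quotient.mk I (MvPolynomial.monomial f (1 : k)) =
      Ideal.Quotient.mk I (MvPolynomial.X 0) ^ f 0 * Ideal.Quotient.mk I (MvPolynomial.X 1) ^ f 1 *
        Ideal.Quotient.mk I (MvPolynomial.X 2) ^ f 2 * Ideal.Quotient.mk I (MvPolynomial.X 3) ^ f 3 *
        Ideal.Quotient.mk I (MvPolynomial.X 4) ^ f 4 := by
    intro f
    conv_lhs => rw [eq_ex5 f, monomial_ex5]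
    simp only [map_mul, map_pow]
  have hzero : ∀ f : Fin 5 →₀ ℕ, ¬ (f 2 = 0 ∧ f 3 = 0) →
      Ideal.Quotient.mk I (MvPolynomial.monomial f (1 : k)) = 0 := by
    intro f hf
    rw [hmon, hX2, hX3]
    by_cases h2 : f 2 = 0
    · have h3 : f 3 ≠ 0 := fun h3 => hf ⟨h2, h3⟩
      rw [zero_pow h3, mul_zero, zero_mul]
    · rw [zero_pow h2, mul_zero, zero_mul, zero_mul]
  have hsmul : ∀ (j : ℕ) (x : MvPolynomial (Fin 5) k ⧸ I),
      (Ideal.Quotient.mk I (MvPolynomial.C s)) ^ j * x = (s ^ j) • x := by
    intro j x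
    obtain ⟨f, rfl⟩ := Ideal.Quotient.mk_surjective x
    rw [← map_pow, ← map_mul, ← map_pow, ← MvPolynomial.smul_eq_C_mul]
    rfl
  by_cases hd23 : d 2 = 0 ∧ d 3 = 0
  · by_cases he23 : e 2 = 0 ∧ e 3 = 0
    · have hw := hd.trans he.symm
      rw [weight5_same_iff] at hw
      obtain ⟨hn, z, hz⟩ := hw
      have hd' : Ideal.Quotient.mk I (MvPolynomial.monomial d (1 : k)) =
          Ideal.Quotient.mk I (MvPolynomial.X 0) ^ d 0 *
            Ideal.Quotient.mk I (MvPolynomial.X 1) ^ d 1 *
            Ideal.Quotient.mk I (MvPolynomial.X 4) ^ d 4 := by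
        rw [hmon, hd23.1, hd23.2, pow_zero, pow_zero, mul_one, mul_one]
      have he' : Ideal.Quotient.mk I (MvPolynomial.monomial e (1 : k)) =
          Ideal.Quotient.mk I (MvPolynomial.X 0) ^ e 0 *
            Ideal.Quotient.mk I (MvPolynomial.X 1) ^ e 1 *
            Ideal.Quotient.mk I (MvPolynomial.X 4) ^ e 4 := by
        rw [hmon, he23.1, he23.2, pow_zero, pow_zero, mul_one, mul_one]
      rw [hd23.1, hd23.2, he23.1, he23.2] at hn hz
      rcases le_total 0 z with hz0 | hz0
      · obtain ⟨j, rfl⟩ := Int.eq_ofNat_of_zero_le hz0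
        refine ⟨s ^ j, Or.inl ?_⟩
        rw [hd', he', ← hsmul, ← hs]
        refine mono_eq_pow _ _ _ p q m hpq hrel _ _ _ _ _ _ j ?_ ?_
        · push_cast at hn
          linear_combination (-1 : ℤ) * hn
        · push_cast at hz
          linear_combination hz
      · obtain ⟨j, hj⟩ := Int.eq_ofNat_of_zero_le (neg_nonneg.2 hz0)
        refine ⟨s ^ j, Or.inr ?_⟩
        rw [hd', he', ← hsmul, ← hs]
        refine mono_eq_pow _ _ _ p q m hpq hrel _ _ _ _ _ _ j ?_ ?_
        · push_cast at hn
          linear_combination hn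
        · rw [← hj]
          push_cast at hz
          linear_combination (-1 : ℤ) * hz
    · exact ⟨0, Or.inr (by rw [hzero e he23, zero_smul])⟩
  · exact ⟨0, Or.inl (by rw [hzero d hd23, zero_smul])⟩

end Groth.Agent.S15727
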