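import Groth.Statements.S15728
import Groth.Agent.W4c2invhilbsl2.K871.Wt
import Groth.Agent.W4c2invhilbsl2.K871.Mono

set_option autoImplicit false
universe u
open W4c2invhilbsl2

namespace Groth.Agent.S15728
open K871.Gen K871.Wt K871.Mono

/-- Let k be an algebraically closed field, 0 < p < q coprime integers and m ≥ 1; put g = gcd(m, q−p)
and a = m/g, and grade k[X₀,…,X₄] by ℤ × ℤ/m, giving X₀ weight (1,0), X₁ and X₂ weight (−p,−1), and
X₃ and X₄ weight (q,1). For s ∈ k let J_s be the ideal (X₀^g, X₂, X₄, s − X₁^(aq)X₃^(ap)), whose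
generators are homogeneous (the last one of weight zero). Then for every weight ν the image in
k[X₀,…,X₄]/J_s of the homogeneous polynomials of weight ν is a k-vector space of dimension at most
1. (The published statement asserts that this dimension equals 1 for every ν and every s; this row
states the upper bound, the half obtained from the monomial analysis of the weight pieces, while the
lower bound there is drawn from the moduli interpretation of these ideals. The published statement
is over the complex numbers; this row takes any algebraically closed field, which is what the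
reduction to s = 0, 1 by rescaling the variables uses.) -/
theorem result (k : Type u) [Field k] [IsAlgClosed k] (p q m : ℕ) (hp : 0 < p) (hpq : p < q) (hcop : Nat.Coprime p q) (hm : 0 < m) (s : k) (ν : ℤ × ZMod m) :
    Module.rank k (W4c2invhilbsl2.piece k (W4c2invhilbsl2.wt5 p q m) (W4c2invhilbsl2.idealJ k p q m s) ν) ≤ 1 := by
  refine rank_piece_le_one _ _ _ fun d e hd he => ?_
  set I := idealJ k p q m s with hI
  set g := Nat.gcd m (q - p) with hg
  have hX2 : Ideal.Quotient.mk I (MvPolynomial.X 2) = 0 :=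
    Ideal.Quotient.eq_zero_iff_mem.2 (Ideal.subset_span (by simp))
  have hX4 : Ideal.Quotient.mk I (MvPolynomial.X 4) = 0 :=
    Ideal.Quotient.eq_zero_iff_mem.2 (Ideal.subset_span (by simp))
  have hX0 : (Ideal.Quotient.mk I (MvPolynomial.X 0)) ^ g = 0 := by
    rw [← map_pow]
    exact Ideal.Quotient.eq_zero_iff_mem.2 (Ideal.subset_span (by simp [hg]))
  have hs : (Ideal.Quotient.mk I (MvPolynomial.X 1)) ^ (m / g * q) *
      (Ideal.Quotient.mk I (MvPolynomial.X 3)) ^ (m / g * p) =
        Ideal.Quotient.mk I (MvPolynomial.C s) := by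
    rw [← map_pow, ← map_pow, ← map_mul]
    refine Eq.symm ((Ideal.Quotient.eq).2 ?_)
    exact Ideal.subset_span (by simp [hg])
  have hmon : ∀ f : Fin 5 →₀ ℕ, Ideal.Quotient.mk I (MvPolynomial.monomial f (1 : k)) =
      Ideal.Quotient.mk I (MvPolynomial.X 0) ^ f 0 * Ideal.Quotient.mk I (MvPolynomial.X 1) ^ f 1 *
        Ideal.Quotient.mk I (MvPolynomial.X 2) ^ f 2 * Ideal.Quotient.mk I (MvPolynomial.X 3) ^ f 3 *
        Ideal.Quotient.mk I (MvPolynomial.X 4) ^ f 4 := by
    intro f
    conv_lhs => rw [eq_ex5 f, monomial_ex5]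
    simp only [map_mul, map_pow]
  have hzero : ∀ f : Fin 5 →₀ ℕ, ¬ (f 2 = 0 ∧ f 4 = 0 ∧ f 0 < g) →
      Ideal.Quotient.mk I (MvPolynomial.monomial f (1 : k)) = 0 := by
    intro f hf
    rw [hmon, hX2, hX4]
    by_cases h2 : f 2 = 0
    · by_cases h4 : f 4 = 0
      · have h0 : g ≤ f 0 := by
          by_contra h0
          exact hf ⟨h2, h4, not_le.1 h0⟩
        rw [pow_eq_zero_of_le h0 hX0, zero_mul, zero_mul, zero_mul, zero_mul]
      · rw [zero_pow h4, mul_zero]
    · rw [zero_pow h2, mul_zero, zero_mul, zero_mul]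
  have hsmul : ∀ (j : ℕ) (x : MvPolynomial (Fin 5) k ⧸ I),
      (Ideal.Quotient.mk I (MvPolynomial.C s)) ^ j * x = (s ^ j) • x := by
    intro j x
    obtain ⟨f, rfl⟩ := Ideal.Quotient.mk_surjective x
    rw [← map_pow, ← map_mul, ← map_pow, ← MvPolynomial.smul_eq_C_mul]
    rfl
  -- the comparison of two monomials
  have hcmp : ∀ (a1 a3 b1 b3 d0 j : ℕ), (b1 : ℤ) - a1 = (m / g * q : ℕ) * (j : ℤ) →
      (b3 : ℤ) - a3 = (m / g * p : ℕ) * (j : ℤ) →
      Ideal.Quotient.mk I (MvPolynomial.X 0) ^ d0 *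
            Ideal.Quotient.mk I (MvPolynomial.X 1) ^ b1 *
            Ideal.Quotient.mk I (MvPolynomial.X 3) ^ b3 =
        (s ^ j) • (Ideal.Quotient.mk I (MvPolynomial.X 0) ^ d0 *
            Ideal.Quotient.mk I (MvPolynomial.X 1) ^ a1 *
            Ideal.Quotient.mk I (MvPolynomial.X 3) ^ a3) := by
    intro a1 a3 b1 b3 d0 j hb1 hb3
    have hb1' : b1 = a1 + (m / g * q) * j := by
      have : (b1 : ℤ) = ((a1 + (m / g * q) * j : ℕ) : ℤ) := by
        rw [Nat.cast_add, Nat.cast_mul (m / g * q) j]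
        linarith
      exact_mod_cast this
    have hb3' : b3 = a3 + (m / g * p) * j := by
      have : (b3 : ℤ) = ((a3 + (m / g * p) * j : ℕ) : ℤ) := by
        rw [Nat.cast_add, Nat.cast_mul (m / g * p) j]
        linarith
      exact_mod_cast this
    rw [← hsmul, ← hs, hb1', hb3', pow_add, pow_add, mul_pow, pow_mul _ (m / g * q) j,
      pow_mul _ (m / g * p) j]
    ring
  by_cases hd23 : d 2 = 0 ∧ d 4 = 0 ∧ d 0 < g
  · by_cases he23 : e 2 = 0 ∧ e 4 = 0 ∧ e 0 < g
    · have hw := hd.trans he.symm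
      rw [weight5_same_iff] at hw
      obtain ⟨hn, hdvd⟩ := hw
      obtain ⟨hd2, hd4, hd0⟩ := hd23
      obtain ⟨he2, he4, he0⟩ := he23
      have hd' : Ideal.Quotient.mk I (MvPolynomial.monomial d (1 : k)) =
          Ideal.Quotient.mk I (MvPolynomial.X 0) ^ d 0 *
            Ideal.Quotient.mk I (MvPolynomial.X 1) ^ d 1 *
            Ideal.Quotient.mk I (MvPolynomial.X 3) ^ d 3 := by
        rw [hmon, hd2, hd4, pow_zero, pow_zero, mul_one, mul_one]
      have he' : Ideal.Quotient.mk I (MvPolynomial.monomial e (1 : k)) =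
          Ideal.Quotient.mk I (MvPolynomial.X 0) ^ e 0 *
            Ideal.Quotient.mk I (MvPolynomial.X 1) ^ e 1 *
            Ideal.Quotient.mk I (MvPolynomial.X 3) ^ e 3 := by
        rw [hmon, he2, he4, pow_zero, pow_zero, mul_one, mul_one]
      rw [hd2, hd4, he2, he4] at hn hdvd
      obtain ⟨h00, z, h1, h3, -⟩ := small_d0 p q m hpq hcop (d 0) (d 1) (d 3) (e 0) (e 1) (e 3)
        (by push_cast at hn; linear_combination (-1 : ℤ) * hn)
        (by
          push_cast at hdvd
          rw [← dvd_neg]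
          ring_nf at hdvd ⊢
          exact hdvd) hd0 he0
      rcases le_total 0 z with hz0 | hz0
      · obtain ⟨j, rfl⟩ := Int.eq_ofNat_of_zero_le hz0
        refine ⟨s ^ j, Or.inr ?_⟩
        rw [hd', he', ← h00]
        exact hcmp _ _ _ _ _ j h1 h3
      · obtain ⟨j, hj⟩ := Int.eq_ofNat_of_zero_le (neg_nonneg.2 hz0)
        refine ⟨s ^ j, Or.inl ?_⟩
        rw [hd', he', ← h00]
        exact hcmp _ _ _ _ _ j (by rw [← hj]; linear_combination (-1 : ℤ) * h1)
          (by rw [← hj]; linear_combination (-1 : ℤ) * h3)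
    · exact ⟨0, Or.inr (by rw [hzero e he23, zero_smul])⟩
  · exact ⟨0, Or.inl (by rw [hzero d hd23, zero_smul])⟩

end Groth.Agent.S15728
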