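import Groth.Statements.S15729
import Groth.Agent.W4c2invhilbsl2.K871.Wt
import Groth.Agent.W4c2invhilbsl2.K871.Dich

set_option autoImplicit false
universe u
open W4c2invhilbsl2

namespace Groth.Agent.S15729
open K871.Gen K871.Wt K871.HJArith K871.HJBounds K871.Dich

/-- Let 0 < p < q be coprime integers and m ≥ 1 such that q − p does not divide m; put g = gcd(m, q−p),
b = (q−p)/g, α = ⌊mp/(q−p)⌋, β = the remainder of mp modulo q−p and t = (q−p−β)/g, so that 1 ≤ t <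
b, and let b/t = c₁ − 1/(c₂ − 1/(⋯ − 1/c_r)) be the negative-regular (Hirzebruch–Jung) continued
fraction expansion with every cᵢ ≥ 2; set P₀ = 0, P₁ = 1, Q₀ = −1, Q₁ = 0, Pᵢ = cᵢ₋₁Pᵢ₋₁ − Pᵢ₋₂, Qᵢ
= cᵢ₋₁Qᵢ₋₁ − Qᵢ₋₂ for 2 ≤ i ≤ r+1, and eᵢ = (α+1+m)Pᵢ − Qᵢ, lᵢ = (α+1)Pᵢ − Qᵢ, nᵢ = q·lᵢ − p·eᵢ,
which are non-negative integers for 0 ≤ i ≤ r+1. Grade the polynomial ring k[X₀,X₁,X₂] over a field
k by ℤ × ℤ/m with weights (1,0), (−p,−1), (q,1) (it stands for k[X₀,X₁,Xⱼ], j = 3 or 4, inside the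
five-variable ring). Then for every 1 ≤ i ≤ r, every polynomial homogeneous of weight (nᵢ, 0) can be
written a·X₀^(nᵢ) + b·X₁^(eᵢ)X₂^(lᵢ) with a and b homogeneous of weight zero; that is, the
weight-(nᵢ,0) piece is generated over the weight-zero subring by X₀^(nᵢ) and X₁^(eᵢ)X₂^(lᵢ). -/
theorem result (k : Type u) [Field k] (p q m : ℕ) (hp : 0 < p) (hpq : p < q) (hcop : Nat.Coprime p q) (hm : 0 < m) (hnt : ¬ (q - p ∣ m)) (c : List ℤ) (hc : W4c2invhilbsl2.IsHJDigits p q m c) (i : ℕ) (hi : 1 ≤ i) (hir : i ≤ c.length)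
    (f : MvPolynomial (Fin 3) k) (hf : f ∈ MvPolynomial.weightedHomogeneousSubmodule k (W4c2invhilbsl2.wt3 p q m) (W4c2invhilbsl2.nN p q m c i, (0 : ZMod m))) :
    ∃ a b : MvPolynomial (Fin 3) k, a ∈ MvPolynomial.weightedHomogeneousSubmodule k (W4c2invhilbsl2.wt3 p q m) 0 ∧ b ∈ MvPolynomial.weightedHomogeneousSubmodule k (W4c2invhilbsl2.wt3 p q m) 0 ∧
      f = a * MvPolynomial.X (0 : Fin 3) ^ (W4c2invhilbsl2.nN p q m c i).toNat +
        b * (MvPolynomial.X (1 : Fin 3) ^ (W4c2invhilbsl2.eE p q m c i).toNat * MvPolynomial.X (2 : Fin 3) ^ (W4c2invhilbsl2.lL p q m c i).toNat) := by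
  have hpq' : (p : ℤ) < q := by exact_mod_cast hpq
  have hp' : (0 : ℤ) < p := by exact_mod_cast hp
  have hnpos := nN_pos p q m hpq c hc i hir
  have hepos := eE_pos p q m hpq c hc hp hm i hi hir
  have hlpos := lL_pos p q m hpq c hc hp hm i hi hir
  have hee := eE_eq p q m c i
  have hnn : nN p q m c i = -(p : ℤ) * eE p q m c i + (q : ℤ) * lL p q m c i := rfl
  have hmem : f ∈ genSub (wt3 p q m) (Finset.univ : Finset (Fin 2))
      ![MvPolynomial.X (0 : Fin 3) ^ (nN p q m c i).toNat,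
        MvPolynomial.X 1 ^ (eE p q m c i).toNat * MvPolynomial.X 2 ^ (lL p q m c i).toNat] ⊥ := by
    refine weightPiece_le _ _ _ ?_ hf
    intro d hd
    have hd' := hd
    rw [show (nN p q m c i, (0 : ZMod m)) = (nN p q m c i, ((0 : ℤ) : ZMod m)) by simp,
      weight3_eq_iff] at hd
    obtain ⟨h1, h2⟩ := hd
    rcases dichotomy p q m hpq c hc hp hm i hi hir (d 0) (d 1) (d 2) (Int.natCast_nonneg _)
      (Int.natCast_nonneg _) (Int.natCast_nonneg _) h1 (by simpa using h2) with h | ⟨h, h'⟩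
    · refine monomial_mem_genSub _ _ _ _ d (ex3 (nN p q m c i).toNat 0 0)
        ((ex3_le_iff _ _ _ _).2 ⟨by omega, Nat.zero_le _, Nat.zero_le _⟩) ?_ 0
        (Finset.mem_univ _) ?_
      · rw [hd', weight_ex3, Int.toNat_of_nonneg hnpos.le]
        ext <;> simp
      · simp [monomial_ex3]
    · refine monomial_mem_genSub _ _ _ _ d (ex3 0 (eE p q m c i).toNat (lL p q m c i).toNat)
        ((ex3_le_iff _ _ _ _).2 ⟨Nat.zero_le _, by omega, by omega⟩) ?_ 1
        (Finset.mem_univ _) ?_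
      · rw [hd', weight_ex3, Int.toNat_of_nonneg hepos.le, Int.toNat_of_nonneg hlpos.le]
        ext
        · simp only [hnn]
          push_cast
          ring
        · simp [hee]
      · simp [monomial_ex3]
  obtain ⟨a, ha, h⟩ := hmem
  refine ⟨a 0, a 1, ha 0, ha 1, ?_⟩
  rw [Ideal.mem_bot, sub_eq_zero] at h
  rw [h]
  simp

end Groth.Agent.S15729
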