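import Groth.Statements.S15730
import Groth.Agent.W4c2invhilbsl2.K871.Wt
import Groth.Agent.W4c2invhilbsl2.K871.PairL

set_option autoImplicit false
universe u
open W4c2invhilbsl2

namespace Groth.Agent.S15730
open K871.Gen K871.Wt K871.HJArith K871.HJBounds K871.PairL

/-- Let 0 < p < q be coprime integers and m ≥ 1 such that q − p does not divide m; put g = gcd(m, q−p),
b = (q−p)/g, α = ⌊mp/(q−p)⌋, β = the remainder of mp modulo q−p and t = (q−p−β)/g, so that 1 ≤ t <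
b, and let b/t = c₁ − 1/(c₂ − 1/(⋯ − 1/c_r)) be the negative-regular (Hirzebruch–Jung) continued
fraction expansion with every cᵢ ≥ 2; set P₀ = 0, P₁ = 1, Q₀ = −1, Q₁ = 0, Pᵢ = cᵢ₋₁Pᵢ₋₁ − Pᵢ₋₂, Qᵢ
= cᵢ₋₁Qᵢ₋₁ − Qᵢ₋₂ for 2 ≤ i ≤ r+1, and eᵢ = (α+1+m)Pᵢ − Qᵢ, lᵢ = (α+1)Pᵢ − Qᵢ, nᵢ = q·lᵢ − p·eᵢ,
which are non-negative integers for 0 ≤ i ≤ r+1. Grade the polynomial ring k[X₀,X₁,X₂] over a field
k by ℤ × ℤ/m with weights (1,0), (−p,−1), (q,1) (it stands for k[X₀,X₁,Xⱼ], j = 3 or 4, inside the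
five-variable ring), let K be the ideal generated by all weight-zero monomials other than 1, and for
1 ≤ i ≤ r let L⁽ⁱ⁾₀ be the ideal (X₀^(nᵢ₋₁), X₁^(eᵢ)X₂^(lᵢ)) + K, which is generated by homogeneous
elements. Then for every weight ν the image in k[X₀,X₁,X₂]/L⁽ⁱ⁾₀ of the homogeneous polynomials of
weight ν is a k-vector space of dimension at most 1. (The published statement is over the complex
numbers and writes this ideal as (X₀^(nᵢ₋₁), s·X₀^(nᵢ) − X₁^(eᵢ)X₂^(lᵢ)) + K with s = 0; this row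
takes any field.) -/
theorem result (k : Type u) [Field k] (p q m : ℕ) (hp : 0 < p) (hpq : p < q) (hcop : Nat.Coprime p q) (hm : 0 < m) (hnt : ¬ (q - p ∣ m)) (c : List ℤ) (hc : W4c2invhilbsl2.IsHJDigits p q m c) (i : ℕ) (hi : 1 ≤ i) (hir : i ≤ c.length)
    (ν : ℤ × ZMod m) :
    Module.rank k (W4c2invhilbsl2.piece k (W4c2invhilbsl2.wt3 p q m) (W4c2invhilbsl2.idealL k p q m c i 0) ν) ≤ 1 := by
  refine rank_piece_le_one _ _ _ fun d e hd he => ?_
  set I := idealL k p q m c i 0 with hI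
  have H1 : (Ideal.Quotient.mk I (MvPolynomial.X 0)) ^ (nN p q m c (i - 1)).toNat = 0 := by
    rw [← map_pow]
    refine Ideal.Quotient.eq_zero_iff_mem.2 (Ideal.mem_sup_left (Ideal.subset_span ?_))
    exact Or.inl rfl
  have H2 : (Ideal.Quotient.mk I (MvPolynomial.X 1)) ^ (eE p q m c i).toNat *
      (Ideal.Quotient.mk I (MvPolynomial.X 2)) ^ (lL p q m c i).toNat =
        ((Ideal.Quotient.mk I).comp MvPolynomial.C) 0 *
          (Ideal.Quotient.mk I (MvPolynomial.X 0)) ^ (nN p q m c i).toNat := by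
    rw [← map_pow, ← map_pow, ← map_pow, ← map_mul, RingHom.comp_apply, ← map_mul]
    refine Eq.symm ((Ideal.Quotient.eq).2 (Ideal.mem_sup_left (Ideal.subset_span ?_)))
    exact Or.inr rfl
  have H3 : ∀ u0 u1 u2 : ℕ, ¬ (u0 = 0 ∧ u1 = 0 ∧ u2 = 0) → (u0 : ℤ) - p * u1 + q * u2 = 0 →
      (m : ℤ) ∣ (u1 : ℤ) - u2 → (Ideal.Quotient.mk I (MvPolynomial.X 0)) ^ u0 *
        (Ideal.Quotient.mk I (MvPolynomial.X 1)) ^ u1 *
          (Ideal.Quotient.mk I (MvPolynomial.X 2)) ^ u2 = 0 := by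
    intro u0 u1 u2 hne hw hdvd
    rw [← map_pow, ← map_pow, ← map_pow, ← map_mul, ← map_mul, ← monomial_ex3]
    refine Ideal.Quotient.eq_zero_iff_mem.2 (Ideal.mem_sup_right (Ideal.subset_span ?_))
    refine ⟨ex3 u0 u1 u2, ?_, ?_, rfl⟩
    · intro h
      exact hne ⟨DFunLike.congr_fun h 0, DFunLike.congr_fun h 1, DFunLike.congr_fun h 2⟩
    · rw [show (0 : ℤ × ZMod m) = ((0 : ℤ), ((0 : ℤ) : ZMod m)) by ext <;> simp, weight3_eq_iff]
      refine ⟨hw, ?_⟩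
      change (m : ℤ) ∣ 0 - ((u2 : ℤ) - u1)
      simpa using hdvd
  have hmon : ∀ f : Fin 3 →₀ ℕ, Ideal.Quotient.mk I (MvPolynomial.monomial f (1 : k)) =
      Ideal.Quotient.mk I (MvPolynomial.X 0) ^ f 0 * Ideal.Quotient.mk I (MvPolynomial.X 1) ^ f 1 *
        Ideal.Quotient.mk I (MvPolynomial.X 2) ^ f 2 := by
    intro f
    conv_lhs => rw [eq_ex3 f, monomial_ex3]
    simp only [map_mul, map_pow]
  have hsmul : ∀ (t : k) (x : MvPolynomial (Fin 3) k ⧸ I),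
      ((Ideal.Quotient.mk I).comp MvPolynomial.C) t * x = t • x := by
    intro t x
    obtain ⟨f, rfl⟩ := Ideal.Quotient.mk_surjective x
    rw [RingHom.comp_apply, ← map_mul, ← MvPolynomial.smul_eq_C_mul]
    rfl
  have hw := hd.trans he.symm
  rw [weight3_same_iff] at hw
  obtain ⟨t, ht⟩ := pair ((Ideal.Quotient.mk I).comp MvPolynomial.C) _ _ _ 0 p q m hpq c hc hp hm
    i hi hir H1 H2 H3 (d 0) (d 1) (d 2) (e 0) (e 1) (e 2) hw.1 hw.2
  refine ⟨t, ?_⟩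
  rw [hmon, hmon, ← hsmul, ← hsmul]
  exact ht

end Groth.Agent.S15730
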