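import Groth.Statements.S15732
import Groth.Agent.W4c2invhilbsl2.K871.Wt
import Groth.Agent.W4c2invhilbsl2.K871.Dich

set_option autoImplicit false
universe u
open W4c2invhilbsl2

namespace Groth.Agent.S15732
open K871.Gen K871.Wt K871.HJArith K871.HJBounds K871.Dich

/-- Let 0 < p < q be coprime integers and m ≥ 1 such that q − p does not divide m; put g = gcd(m, q−p),
b = (q−p)/g, α = ⌊mp/(q−p)⌋, β = the remainder of mp modulo q−p and t = (q−p−β)/g, so that 1 ≤ t <
b, and let b/t = c₁ − 1/(c₂ − 1/(⋯ − 1/c_r)) be the negative-regular (Hirzebruch–Jung) continued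
fraction expansion with every cᵢ ≥ 2; set P₀ = 0, P₁ = 1, Q₀ = −1, Q₁ = 0, Pᵢ = cᵢ₋₁Pᵢ₋₁ − Pᵢ₋₂, Qᵢ
= cᵢ₋₁Qᵢ₋₁ − Qᵢ₋₂ for 2 ≤ i ≤ r+1, and eᵢ = (α+1+m)Pᵢ − Qᵢ, lᵢ = (α+1)Pᵢ − Qᵢ, nᵢ = q·lᵢ − p·eᵢ,
which are non-negative integers for 0 ≤ i ≤ r+1. Grade the polynomial ring k[X₀,…,X₄] over a field k
by ℤ × ℤ/m, giving X₀ weight (1,0), X₁ and X₂ weight (−p,−1), and X₃ and X₄ weight (q,1). Then for
every 1 ≤ i ≤ r, modulo the principal ideal generated by the weight-zero element X₀^(q−p) − X₁X₄ +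
X₂X₃, every polynomial homogeneous of weight (nᵢ, 0) is congruent to a combination a₀·X₀^(nᵢ) + Σ
a_{e,l}·X₁^(eᵢ−e)X₂^e X₃^(lᵢ−l)X₄^l (sum over 0 ≤ e ≤ eᵢ, 0 ≤ l ≤ lᵢ) whose coefficients a₀, a_{e,l}
are homogeneous of weight zero. Equivalently, in the coordinate ring of the hypersurface the
weight-(nᵢ,0) piece is generated over the weight-zero subring (the invariant ring) by X₀^(nᵢ)
together with the products of a degree-eᵢ monomial in X₁, X₂ and a degree-lᵢ monomial in X₃, X₄.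
(The published statement is over the complex numbers; this row takes any field.) -/
theorem result (k : Type u) [Field k] (p q m : ℕ) (hp : 0 < p) (hpq : p < q) (hcop : Nat.Coprime p q) (hm : 0 < m) (hnt : ¬ (q - p ∣ m)) (c : List ℤ) (hc : W4c2invhilbsl2.IsHJDigits p q m c) (i : ℕ) (hi : 1 ≤ i) (hir : i ≤ c.length)
    (f : MvPolynomial (Fin 5) k) (hf : f ∈ MvPolynomial.weightedHomogeneousSubmodule k (W4c2invhilbsl2.wt5 p q m) (W4c2invhilbsl2.nN p q m c i, (0 : ZMod m))) :
    ∃ (a₀ : MvPolynomial (Fin 5) k) (a : ℕ → ℕ → MvPolynomial (Fin 5) k),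
      a₀ ∈ MvPolynomial.weightedHomogeneousSubmodule k (W4c2invhilbsl2.wt5 p q m) 0 ∧ (∀ e l : ℕ, a e l ∈ MvPolynomial.weightedHomogeneousSubmodule k (W4c2invhilbsl2.wt5 p q m) 0) ∧
      f - (a₀ * MvPolynomial.X (0 : Fin 5) ^ (W4c2invhilbsl2.nN p q m c i).toNat +
          ∑ e ∈ Finset.range ((W4c2invhilbsl2.eE p q m c i).toNat + 1), ∑ l ∈ Finset.range ((W4c2invhilbsl2.lL p q m c i).toNat + 1),
            a e l * (MvPolynomial.X (1 : Fin 5) ^ ((W4c2invhilbsl2.eE p q m c i).toNat - e) * MvPolynomial.X (2 : Fin 5) ^ e *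
              MvPolynomial.X (3 : Fin 5) ^ ((W4c2invhilbsl2.lL p q m c i).toNat - l) * MvPolynomial.X (4 : Fin 5) ^ l)) ∈
        Ideal.span {MvPolynomial.X (0 : Fin 5) ^ (q - p) - MvPolynomial.X 1 * MvPolynomial.X 4 + MvPolynomial.X 2 * MvPolynomial.X 3} := by
  have hpq' : (p : ℤ) < q := by exact_mod_cast hpq
  have hp' : (0 : ℤ) < p := by exact_mod_cast hp
  have hnpos := nN_pos p q m hpq c hc i hir
  have hepos := eE_pos p q m hpq c hc hp hm i hi hir
  have hlpos := lL_pos p q m hpq c hc hp hm i hi hir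
  have hee := eE_eq p q m c i
  have hnn : nN p q m c i = -(p : ℤ) * eE p q m c i + (q : ℤ) * lL p q m c i := rfl
  set E := (eE p q m c i).toNat with hE
  set L := (lL p q m c i).toNat with hL
  set n := (nN p q m c i).toNat with hn
  have hE' : (E : ℤ) = eE p q m c i := Int.toNat_of_nonneg hepos.le
  have hL' : (L : ℤ) = lL p q m c i := Int.toNat_of_nonneg hlpos.le
  have hn' : (n : ℤ) = nN p q m c i := Int.toNat_of_nonneg hnpos.le
  set P : Ideal (MvPolynomial (Fin 5) k) := Ideal.span {MvPolynomial.X (0 : Fin 5) ^ (q - p) -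
    MvPolynomial.X 1 * MvPolynomial.X 4 + MvPolynomial.X 2 * MvPolynomial.X 3} with hP
  set g : Option (ℕ × ℕ) → MvPolynomial (Fin 5) k := fun o => o.elim (MvPolynomial.X 0 ^ n)
    (fun z => MvPolynomial.X (1 : Fin 5) ^ (E - z.1) * MvPolynomial.X (2 : Fin 5) ^ z.1 *
              MvPolynomial.X (3 : Fin 5) ^ (L - z.2) * MvPolynomial.X (4 : Fin 5) ^ z.2) with hg
  set s : Finset (Option (ℕ × ℕ)) :=
    Finset.insertNone (Finset.range (E + 1) ×ˢ Finset.range (L + 1)) with hs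
  have hmem : f ∈ genSub (wt5 p q m) s g P := by
    refine weightPiece_le _ _ _ ?_ hf
    intro d hd
    have hd' := hd
    rw [show (nN p q m c i, (0 : ZMod m)) = (nN p q m c i, ((0 : ℤ) : ZMod m)) by simp,
      weight5_eq_iff] at hd
    obtain ⟨h1, h2⟩ := hd
    rcases dichotomy p q m hpq c hc hp hm i hi hir (d 0) ((d 1 : ℤ) + d 2) ((d 3 : ℤ) + d 4)
      (by positivity) (by positivity) (by positivity) h1 (by simpa using h2) with h | ⟨h, h'⟩
    · refine monomial_mem_genSub _ _ _ _ d (ex5 n 0 0 0 0)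
        ((ex5_le_iff _ _ _ _ _ _).2 ⟨by omega, Nat.zero_le _, Nat.zero_le _, Nat.zero_le _,
          Nat.zero_le _⟩) ?_ none (by simp [hs]) ?_
      · rw [hd', weight_ex5, hn']
        ext <;> simp
      · simp [monomial_ex5, hg]
    · have hE1 : E ≤ d 1 + d 2 := by omega
      have hL1 : L ≤ d 3 + d 4 := by omega
      refine monomial_mem_genSub _ _ _ _ d
        (ex5 0 (E - min (d 2) E) (min (d 2) E) (L - min (d 4) L) (min (d 4) L))
        ((ex5_le_iff _ _ _ _ _ _).2 ⟨by omega, by omega, by omega, by omega, by omega⟩) ?_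
        (some (min (d 2) E, min (d 4) L)) ?_ ?_
      · rw [hd', weight_ex5]
        have h3 : (((E - min (d 2) E : ℕ) : ℤ) + ((min (d 2) E : ℕ) : ℤ)) = eE p q m c i := by
          rw [← hE']; omega
        have h4 : (((L - min (d 4) L : ℕ) : ℤ) + ((min (d 4) L : ℕ) : ℤ)) = lL p q m c i := by
          rw [← hL']; omega
        rw [h3, h4]
        ext
        · simp only [hnn]
          push_cast
          ring
        · simp [hee]
      · simp only [hs, Finset.some_mem_insertNone, Finset.mem_product, Finset.mem_range]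
        omega
      · simp [monomial_ex5, hg]
  obtain ⟨a, ha, h⟩ := hmem
  refine ⟨a none, fun e l => a (some (e, l)), ha none, fun e l => ha _, ?_⟩
  rw [hs, Finset.sum_insertNone, Finset.sum_product] at h
  exact h

end Groth.Agent.S15732
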