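import Groth.Statements.S15733
import Groth.Agent.W4c2invhilbsl2.K871.HJBounds

set_option autoImplicit false
open W4c2invhilbsl2

namespace Groth.Agent.S15733
open K871.HJArith K871.HJBounds

/-- Let 0 < p < q be coprime integers and m ≥ 1 such that q − p does not divide m; put g = gcd(m, q−p),
b = (q−p)/g, α = ⌊mp/(q−p)⌋, β = the remainder of mp modulo q−p and t = (q−p−β)/g, so that 1 ≤ t <
b, and let b/t = c₁ − 1/(c₂ − 1/(⋯ − 1/c_r)) be the negative-regular (Hirzebruch–Jung) continued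
fraction expansion with every cᵢ ≥ 2; set P₀ = 0, P₁ = 1, Q₀ = −1, Q₁ = 0, Pᵢ = cᵢ₋₁Pᵢ₋₁ − Pᵢ₋₂, Qᵢ
= cᵢ₋₁Qᵢ₋₁ − Qᵢ₋₂ for 2 ≤ i ≤ r+1, and eᵢ = (α+1+m)Pᵢ − Qᵢ, lᵢ = (α+1)Pᵢ − Qᵢ, nᵢ = q·lᵢ − p·eᵢ,
which are non-negative integers for 0 ≤ i ≤ r+1. Then for every 1 < i ≤ r and every integer x with 0
< x < Pᵢ, the remainder of pmx + nᵢ on division by q − p equals nᵢ plus the remainder of pmx on
division by q − p (in particular nᵢ + (pmx mod (q−p)) < q − p). -/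
theorem result (p q m : ℕ) (hp : 0 < p) (hpq : p < q) (hcop : Nat.Coprime p q) (hm : 0 < m) (hnt : ¬ (q - p ∣ m)) (c : List ℤ) (hc : W4c2invhilbsl2.IsHJDigits p q m c) (i : ℕ) (hi : 1 < i) (hir : i ≤ c.length)
    (x : ℤ) (hx0 : 0 < x) (hx : x < W4c2invhilbsl2.hjP c i) :
    Int.emod ((p : ℤ) * m * x + W4c2invhilbsl2.nN p q m c i) ((q : ℤ) - p) = W4c2invhilbsl2.nN p q m c i + Int.emod ((p : ℤ) * m * x) ((q : ℤ) - p) := by
  have hg : (0 : ℤ) < gcdK p q m := by exact_mod_cast gcdK_pos p q m hpq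
  have hb : (0 : ℤ) < bB p q m := by exact_mod_cast bB_pos p q m hpq
  obtain ⟨j, rfl⟩ : ∃ j, i = j + 1 := ⟨i - 1, by omega⟩
  have hl := lower_bound p q m hpq c hc j (by omega) hir x hx0 hx
  have hut := uU_lt p q m hpq c hc j (by omega)
  have hup := uU_pos p q m hpq c hc (j + 1) (by omega)
  have hgt := gcdK_mul_tT_int p q m hpq
  have hgb := gcdK_mul_bB_int p q m hpq
  have hnn := nN_eq p q m hpq c (j + 1)
  set ρ := ((tT p q m : ℤ) * x) % (bB p q m : ℤ) with hρ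
  set y := ((tT p q m : ℤ) * x) / (bB p q m : ℤ) with hy
  have h1 : ρ + (bB p q m : ℤ) * y = (tT p q m : ℤ) * x := Int.emod_add_mul_ediv _ _
  have hρlt : ρ < bB p q m := Int.emod_lt_of_pos _ hb
  have h2 : (p : ℤ) * m * x = (gcdK p q m : ℤ) * (bB p q m - ρ) +
      ((q : ℤ) - p) * ((alpha p q m + 1) * x - y - 1) := by
    linear_combination x * hgt - (y + 1) * hgb + (gcdK p q m : ℤ) * h1
  have h3 : ((p : ℤ) * m * x) % ((q : ℤ) - p) = (gcdK p q m : ℤ) * (bB p q m - ρ) := by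
    rw [h2, Int.add_mul_emod_self_left]
    refine Int.emod_eq_of_lt (mul_nonneg hg.le (by linarith)) ?_
    rw [← hgb]
    exact mul_lt_mul_of_pos_left (by linarith) hg
  change ((p : ℤ) * m * x + nN p q m c (j + 1)) % ((q : ℤ) - p) =
    nN p q m c (j + 1) + ((p : ℤ) * m * x) % ((q : ℤ) - p)
  rw [h3, h2, hnn]
  have h4 : (gcdK p q m : ℤ) * (bB p q m - ρ) + ((q : ℤ) - p) * ((alpha p q m + 1) * x - y - 1) +
      (gcdK p q m : ℤ) * uU p q m c (j + 1) =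
      ((gcdK p q m : ℤ) * uU p q m c (j + 1) + (gcdK p q m : ℤ) * (bB p q m - ρ)) +
        ((q : ℤ) - p) * ((alpha p q m + 1) * x - y - 1) := by ring
  rw [h4, Int.add_mul_emod_self_left]
  refine Int.emod_eq_of_lt ?_ ?_
  · have := mul_nonneg hg.le hup.le
    have := mul_nonneg hg.le (show 0 ≤ (bB p q m : ℤ) - ρ by linarith)
    linarith
  · rw [← hgb, ← mul_add]
    exact mul_lt_mul_of_pos_left (by linarith) hg

end Groth.Agent.S15733
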