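import Groth.Statements.S15738
import Mathlib.RingTheory.Ideal.Quotient.Operations
import Groth.Agent.W4c2invhilbsl2.K871.Mono

set_option autoImplicit false
universe u
open W4c2invhilbsl2

namespace Groth.Agent.S15738
open K871.Mono

/-- Let k be a field and m ≥ 1; for a monomial X₀^d₀X₁^d₁X₂^d₂ of the polynomial ring in X₀, X₁, X₂ (X₂
standing for Xⱼ, j = 3 or 4, of the five-variable ring) put n = d₀ − p·d₁ + q·d₂ (its weight for the
torus diag(t, t^(−p), t^q)), c = d₁ − d₂ and ω = p·d₁ − q·d₂, so that d₀ = n + ω; here 0 < p < q are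
coprime integers. Take two monomials X₀^d₀X₁^d₁X₂^d₂ and X₀^e₀X₁^e₁X₂^e₂ with the same n and with
values c, c' of c congruent modulo m (so both lie in the same ℤ × ℤ/m-weight piece for the weights
(1,0), (−p,−1), (q,1)). Then: (i) if c = c', the difference of the two monomials lies in the
principal ideal (X₀^(q−p) − X₁X₂); (ii) if c' < c, the monomial X₀^d₀X₁^d₁X₂^d₂ lies in the ideal
(X₀^(q−p) − X₁X₂, X₀^(mp)X₁^m); (iii) in all cases the difference lies in the ideal (X₀^(q−p) −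
X₁X₂, 1 − X₀^(mp)X₁^m). -/
theorem result (k : Type u) [Field k] (p q m : ℕ) (hp : 0 < p) (hpq : p < q) (hcop : Nat.Coprime p q) (hm : 0 < m)
    (d0 d1 d2 e0 e1 e2 : ℕ) (hn : (e0 : ℤ) - (p : ℤ) * e1 + (q : ℤ) * e2 = (d0 : ℤ) - (p : ℤ) * d1 + (q : ℤ) * d2)
    (hc : (m : ℤ) ∣ ((d1 : ℤ) - d2) - ((e1 : ℤ) - e2)) :
    ((d1 : ℤ) - d2 = (e1 : ℤ) - e2 →
      (MvPolynomial.X (0 : Fin 3) ^ d0 * MvPolynomial.X (1 : Fin 3) ^ d1 * MvPolynomial.X (2 : Fin 3) ^ d2 - MvPolynomial.X (0 : Fin 3) ^ e0 * MvPolynomial.X (1 : Fin 3) ^ e1 * MvPolynomial.X (2 : Fin 3) ^ e2 : MvPolynomial (Fin 3) k) ∈ Ideal.span {MvPolynomial.X (0 : Fin 3) ^ (q - p) - MvPolynomial.X (1 : Fin 3) * MvPolynomial.X (2 : Fin 3)}) ∧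
    ((e1 : ℤ) - e2 < (d1 : ℤ) - d2 →
      (MvPolynomial.X (0 : Fin 3) ^ d0 * MvPolynomial.X (1 : Fin 3) ^ d1 * MvPolynomial.X (2 : Fin 3) ^ d2 : MvPolynomial (Fin 3) k) ∈ Ideal.span {MvPolynomial.X (0 : Fin 3) ^ (q - p) - MvPolynomial.X (1 : Fin 3) * MvPolynomial.X (2 : Fin 3), MvPolynomial.X (0 : Fin 3) ^ (m * p) * MvPolynomial.X (1 : Fin 3) ^ m}) ∧
    ((MvPolynomial.X (0 : Fin 3) ^ d0 * MvPolynomial.X (1 : Fin 3) ^ d1 * MvPolynomial.X (2 : Fin 3) ^ d2 - MvPolynomial.X (0 : Fin 3) ^ e0 * MvPolynomial.X (1 : Fin 3) ^ e1 * MvPolynomial.X (2 : Fin 3) ^ e2 : MvPolynomial (Fin 3) k) ∈ Ideal.span {MvPolynomial.X (0 : Fin 3) ^ (q - p) - MvPolynomial.X (1 : Fin 3) * MvPolynomial.X (2 : Fin 3), 1 - MvPolynomial.X (0 : Fin 3) ^ (m * p) * MvPolynomial.X (1 : Fin 3) ^ m}) := by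
  refine ⟨fun h => ?_, fun h => ?_, ?_⟩
  · set P : Ideal (MvPolynomial (Fin 3) k) := Ideal.span {MvPolynomial.X (0 : Fin 3) ^ (q - p) -
      MvPolynomial.X (1 : Fin 3) * MvPolynomial.X (2 : Fin 3)} with hP
    rw [← Ideal.Quotient.eq]
    have hrel : (Ideal.Quotient.mk P (MvPolynomial.X 0)) ^ (q - p) =
        Ideal.Quotient.mk P (MvPolynomial.X 1) * Ideal.Quotient.mk P (MvPolynomial.X 2) := by
      rw [← map_pow, ← map_mul, Ideal.Quotient.eq]
      exact Ideal.subset_span rfl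
    have h1 := mono_eq (Ideal.Quotient.mk P (MvPolynomial.X 0)) (Ideal.Quotient.mk P (MvPolynomial.X 1))
      (Ideal.Quotient.mk P (MvPolynomial.X 2)) p q hpq hrel d0 d1 d2 e0 e1 e2 hn h
    simpa only [map_mul, map_pow] using h1
  · set P : Ideal (MvPolynomial (Fin 3) k) := Ideal.span {MvPolynomial.X (0 : Fin 3) ^ (q - p) -
      MvPolynomial.X (1 : Fin 3) * MvPolynomial.X (2 : Fin 3),
      MvPolynomial.X (0 : Fin 3) ^ (m * p) * MvPolynomial.X (1 : Fin 3) ^ m} with hP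
    rw [← Ideal.Quotient.eq_zero_iff_mem]
    have hrel : (Ideal.Quotient.mk P (MvPolynomial.X 0)) ^ (q - p) =
        Ideal.Quotient.mk P (MvPolynomial.X 1) * Ideal.Quotient.mk P (MvPolynomial.X 2) := by
      rw [← map_pow, ← map_mul, Ideal.Quotient.eq]
      exact Ideal.subset_span (Or.inl rfl)
    have hzero : (Ideal.Quotient.mk P (MvPolynomial.X 0)) ^ (m * p) *
        (Ideal.Quotient.mk P (MvPolynomial.X 1)) ^ m = 0 := by
      rw [← map_pow, ← map_pow, ← map_mul, Ideal.Quotient.eq_zero_iff_mem]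
      exact Ideal.subset_span (Or.inr rfl)
    obtain ⟨z, hz⟩ := hc
    have hm' : (0 : ℤ) < m := by exact_mod_cast hm
    have hz0 : 0 < z := by
      have h3 : 0 < (m : ℤ) * z := by linarith
      exact (mul_pos_iff_of_pos_left hm').1 h3
    obtain ⟨j, rfl⟩ := Int.eq_ofNat_of_zero_le hz0.le
    have hj : j ≠ 0 := by
      rintro rfl
      simp at hz0
    have h1 := mono_eq_pow (Ideal.Quotient.mk P (MvPolynomial.X 0))
      (Ideal.Quotient.mk P (MvPolynomial.X 1))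
      (Ideal.Quotient.mk P (MvPolynomial.X 2)) p q m hpq hrel d0 d1 d2 e0 e1 e2 j hn hz
    rw [hzero, zero_pow hj, zero_mul] at h1
    simpa only [map_mul, map_pow] using h1
  · set P : Ideal (MvPolynomial (Fin 3) k) := Ideal.span {MvPolynomial.X (0 : Fin 3) ^ (q - p) -
      MvPolynomial.X (1 : Fin 3) * MvPolynomial.X (2 : Fin 3),
      1 - MvPolynomial.X (0 : Fin 3) ^ (m * p) * MvPolynomial.X (1 : Fin 3) ^ m} with hP
    rw [← Ideal.Quotient.eq]
    have hrel : (Ideal.Quotient.mk P (MvPolynomial.X 0)) ^ (q - p) =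
        Ideal.Quotient.mk P (MvPolynomial.X 1) * Ideal.Quotient.mk P (MvPolynomial.X 2) := by
      rw [← map_pow, ← map_mul, Ideal.Quotient.eq]
      exact Ideal.subset_span (Or.inl rfl)
    have hone : (Ideal.Quotient.mk P (MvPolynomial.X 0)) ^ (m * p) *
        (Ideal.Quotient.mk P (MvPolynomial.X 1)) ^ m = 1 := by
      rw [← map_pow, ← map_pow, ← map_mul, ← map_one (Ideal.Quotient.mk P)]
      refine Eq.symm ((Ideal.Quotient.eq).2 ?_)
      exact Ideal.subset_span (Or.inr rfl)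
    obtain ⟨z, hz⟩ := hc
    rcases le_total 0 z with hz0 | hz0
    · obtain ⟨j, rfl⟩ := Int.eq_ofNat_of_zero_le hz0
      have h1 := mono_eq_pow (Ideal.Quotient.mk P (MvPolynomial.X 0))
        (Ideal.Quotient.mk P (MvPolynomial.X 1))
        (Ideal.Quotient.mk P (MvPolynomial.X 2)) p q m hpq hrel d0 d1 d2 e0 e1 e2 j hn hz
      rw [hone, one_pow, one_mul] at h1
      simpa only [map_mul, map_pow] using h1
    · obtain ⟨j, hj⟩ := Int.eq_ofNat_of_zero_le (neg_nonneg.2 hz0)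
      have hz' : ((e1 : ℤ) - e2) - ((d1 : ℤ) - d2) = m * j := by
        rw [← hj]; linarith
      have h1 := mono_eq_pow (Ideal.Quotient.mk P (MvPolynomial.X 0))
        (Ideal.Quotient.mk P (MvPolynomial.X 1))
        (Ideal.Quotient.mk P (MvPolynomial.X 2)) p q m hpq hrel e0 e1 e2 d0 d1 d2 j hn.symm hz'
      rw [hone, one_pow, one_mul] at h1
      simpa only [map_mul, map_pow] using h1.symm

end Groth.Agent.S15738
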