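import Groth.Statements.S15739
import Mathlib.RingTheory.Ideal.Quotient.Operations
import Groth.Agent.W4c2invhilbsl2.K871.Mono

set_option autoImplicit false
universe u
open W4c2invhilbsl2

namespace Groth.Agent.S15739
open K871.Mono

/-- Let k be a field and m ≥ 1, put g = gcd(m, q−p), a = m/g and b = (q−p)/g; for a monomial
X₀^d₀X₁^d₁X₂^d₂ of the polynomial ring in X₀, X₁, X₂ (X₂ standing for Xⱼ, j = 3 or 4, of the
five-variable ring) put n = d₀ − p·d₁ + q·d₂ (its weight for the torus diag(t, t^(−p), t^q)), c = d₁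
− d₂ and ω = p·d₁ − q·d₂, so that d₀ = n + ω; here 0 < p < q are coprime integers. Take two
monomials X₀^d₀X₁^d₁X₂^d₂ and X₀^e₀X₁^e₁X₂^e₂ with the same n, where 0 ≤ n < q − p, whose values c
and c' of c are both divisible by m, and with d₀ < g and e₀ < g (so each has the least ω for its
pair (n, c), as g ≤ q − p). Then: (i) d₀ = e₀, i.e. the two values of ω agree, and m·b divides c −
c'; (ii) if c < c', then X₀^e₀X₁^e₁X₂^e₂ is a multiple of X₀^d₀X₁^d₁X₂^d₂ · X₁^(aq)X₂^(ap); (iii)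
the difference of the two monomials lies in the principal ideal (1 − X₁^(aq)X₂^(ap)). -/
theorem result (k : Type u) [Field k] (p q m : ℕ) (hp : 0 < p) (hpq : p < q) (hcop : Nat.Coprime p q) (hm : 0 < m)
    (d0 d1 d2 e0 e1 e2 : ℕ) (hn : (e0 : ℤ) - (p : ℤ) * e1 + (q : ℤ) * e2 = (d0 : ℤ) - (p : ℤ) * d1 + (q : ℤ) * d2)
    (hn0 : 0 ≤ (d0 : ℤ) - (p : ℤ) * d1 + (q : ℤ) * d2) (hnq : (d0 : ℤ) - (p : ℤ) * d1 + (q : ℤ) * d2 < (q : ℤ) - p)
    (hcd : (m : ℤ) ∣ (d1 : ℤ) - d2) (hce : (m : ℤ) ∣ (e1 : ℤ) - e2)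
    (hd0 : d0 < Nat.gcd m (q - p)) (he0 : e0 < Nat.gcd m (q - p)) :
    (d0 = e0 ∧ ((m : ℤ) * ((q - p) / Nat.gcd m (q - p) : ℕ)) ∣ ((d1 : ℤ) - d2) - ((e1 : ℤ) - e2)) ∧
    ((d1 : ℤ) - d2 < (e1 : ℤ) - e2 →
      (MvPolynomial.X (0 : Fin 3) ^ d0 * MvPolynomial.X (1 : Fin 3) ^ d1 * MvPolynomial.X (2 : Fin 3) ^ d2 * (MvPolynomial.X (1 : Fin 3) ^ (m / Nat.gcd m (q - p) * q) * MvPolynomial.X (2 : Fin 3) ^ (m / Nat.gcd m (q - p) * p)) : MvPolynomial (Fin 3) k) ∣ MvPolynomial.X (0 : Fin 3) ^ e0 * MvPolynomial.X (1 : Fin 3) ^ e1 * MvPolynomial.X (2 : Fin 3) ^ e2) ∧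
    ((MvPolynomial.X (0 : Fin 3) ^ e0 * MvPolynomial.X (1 : Fin 3) ^ e1 * MvPolynomial.X (2 : Fin 3) ^ e2 - MvPolynomial.X (0 : Fin 3) ^ d0 * MvPolynomial.X (1 : Fin 3) ^ d1 * MvPolynomial.X (2 : Fin 3) ^ d2 : MvPolynomial (Fin 3) k) ∈
      Ideal.span {(1 : MvPolynomial (Fin 3) k) - MvPolynomial.X (1 : Fin 3) ^ (m / Nat.gcd m (q - p) * q) * MvPolynomial.X (2 : Fin 3) ^ (m / Nat.gcd m (q - p) * p)}) := by
  set g := Nat.gcd m (q - p) with hg
  have hgpos : 0 < g := Nat.gcd_pos_of_pos_right _ (by omega)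
  obtain ⟨h00, z, h1, h2, h3⟩ := small_d0 p q m hpq hcop d0 d1 d2 e0 e1 e2 hn (dvd_sub hce hcd) hd0 he0
  have hbpos : 0 < (q - p) / g := Nat.div_pos (Nat.le_of_dvd (by omega) (Nat.gcd_dvd_right _ _)) hgpos
  have hmb : (0 : ℤ) < (m : ℤ) * ((q - p) / g : ℕ) := by positivity
  have hpow : ∀ (a1 a2 b1 b2 j : ℕ), (b1 : ℤ) - a1 = (m / g * q : ℕ) * (j : ℤ) →
      (b2 : ℤ) - a2 = (m / g * p : ℕ) * (j : ℤ) →
      (MvPolynomial.X (0 : Fin 3) ^ e0 * MvPolynomial.X (1 : Fin 3) ^ b1 *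
        MvPolynomial.X (2 : Fin 3) ^ b2 : MvPolynomial (Fin 3) k) =
      MvPolynomial.X (0 : Fin 3) ^ d0 * MvPolynomial.X (1 : Fin 3) ^ a1 *
        MvPolynomial.X (2 : Fin 3) ^ a2 * (MvPolynomial.X (1 : Fin 3) ^ (m / g * q) *
          MvPolynomial.X (2 : Fin 3) ^ (m / g * p)) ^ j := by
    intro a1 a2 b1 b2 j hb1 hb2
    have hb1' : b1 = a1 + (m / g * q) * j := by
      have : (b1 : ℤ) = ((a1 + (m / g * q) * j : ℕ) : ℤ) := by
        rw [Nat.cast_add, Nat.cast_mul (m / g * q) j]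
        linarith
      exact_mod_cast this
    have hb2' : b2 = a2 + (m / g * p) * j := by
      have : (b2 : ℤ) = ((a2 + (m / g * p) * j : ℕ) : ℤ) := by
        rw [Nat.cast_add, Nat.cast_mul (m / g * p) j]
        linarith
      exact_mod_cast this
    rw [hb1', hb2', h00, pow_add, pow_add, mul_pow, pow_mul _ (m / g * q) j,
      pow_mul _ (m / g * p) j]
    ring
  refine ⟨⟨h00, ?_⟩, ?_, ?_⟩
  · refine ⟨-z, ?_⟩
    linear_combination (-1 : ℤ) * h3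
  · intro hlt
    have hz0 : 0 < z := by
      have h4 : 0 < ((m : ℤ) * ((q - p) / g : ℕ)) * z := by linarith
      exact (mul_pos_iff_of_pos_left hmb).1 h4
    obtain ⟨j, rfl⟩ := Int.eq_ofNat_of_zero_le hz0.le
    have hj : j ≠ 0 := by
      rintro rfl
      simp at hz0
    rw [hpow d1 d2 e1 e2 j h1 h2]
    exact mul_dvd_mul_left _ (dvd_pow_self _ hj)
  · rw [← Ideal.Quotient.eq]
    set P := Ideal.span {(1 : MvPolynomial (Fin 3) k) - MvPolynomial.X (1 : Fin 3) ^ (m / g * q) *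
      MvPolynomial.X (2 : Fin 3) ^ (m / g * p)} with hP
    have hone : Ideal.Quotient.mk P (MvPolynomial.X (1 : Fin 3) ^ (m / g * q) *
        MvPolynomial.X (2 : Fin 3) ^ (m / g * p)) = 1 := by
      rw [← map_one (Ideal.Quotient.mk P)]
      refine Eq.symm ((Ideal.Quotient.eq).2 ?_)
      exact Ideal.subset_span rfl
    have hgen : ∀ (A : MvPolynomial (Fin 3) k) (j : ℕ), Ideal.Quotient.mk P
        (A * (MvPolynomial.X (1 : Fin 3) ^ (m / g * q) * MvPolynomial.X (2 : Fin 3) ^ (m / g * p)) ^ j) =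
          Ideal.Quotient.mk P A := by
      intro A j
      rw [map_mul, map_pow _ _ j, hone, one_pow, mul_one]
    rcases le_total 0 z with hz0 | hz0
    · obtain ⟨j, rfl⟩ := Int.eq_ofNat_of_zero_le hz0
      rw [hpow d1 d2 e1 e2 j h1 h2]
      exact hgen _ j
    · obtain ⟨j, hj⟩ := Int.eq_ofNat_of_zero_le (neg_nonneg.2 hz0)
      have h5 := hpow e1 e2 d1 d2 j (by rw [← hj]; linear_combination (-1 : ℤ) * h1)
        (by rw [← hj]; linear_combination (-1 : ℤ) * h2)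
      rw [← h00] at h5 ⊢
      rw [h5]
      exact (hgen _ j).symm

end Groth.Agent.S15739
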