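import Groth.Statements.S15741
import Groth.Agent.DeRhamSh.K853.OmegaBridge

set_option autoImplicit false
universe u
open CategoryTheory AlgebraicGeometry
open Mor

namespace Groth.Agent.S15741

/-- For a quasi-separated morphism of schemes `f : X ⟶ Y` and affine opens `U ⊆ X`, `V ⊆ Y` with `U ≤
f⁻¹ V`, the canonical `Γ(X, U)`-linear map from the module of Kähler differentials of the ring `Γ(X,
U)` over `Γ(Y, V)` to the sections over `U` of the sheaf of relative differentials of `f` — the map
sending `d b` to `d_{X/Y} b` — is an isomorphism. (Quasi-separatedness of `f` is the standing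
hypothesis under which the sheaf of relative differentials is named in this library; the published
statement is for an arbitrary morphism of schemes.) -/
theorem result (X Y : Scheme.{u}) (f : X ⟶ Y) [QuasiSeparated f]
    (U : X.affineOpens) (V : Y.affineOpens) (h : U.1 ≤ f ⁻¹ᵁ V.1) :
    IsIso (OmAff.toSect f V.1 U.1 h) := by
  letI := Groth.Agent.CurvesB.OmegaDer.algX f h
  letI := Groth.Agent.CurvesB.OmegaDer.modO f h
  haveI := Groth.Agent.CurvesB.OmegaDer.isScalarTower f h
  let e : CommRingCat.KaehlerDifferential (f.appLE V.1 U.1 h) ⟶ OmAff.sectMod (Omega.sheaf f) U.1 :=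
    ModuleCat.ofHom (Groth.Agent.CurvesB.OmegaDer.der f h).liftKaehlerDifferential
  have he : e = OmAff.toSect f V.1 U.1 h := by
    apply OmAff.toSect_unique
    intro b
    have h1 := (Groth.Agent.CurvesB.OmegaDer.der f h).liftKaehlerDifferential_comp_D b
    refine Eq.trans h1 ((Groth.Agent.CurvesB.OmegaDer.der_apply f h b).trans ?_)
    exact (K853.OmegaBridge.dOmega_app_eq f U.1 b).symm
  rw [← he]
  have hb : Function.Bijective (Groth.Agent.CurvesB.OmegaDer.der f h).liftKaehlerDifferential :=
    Groth.Agent.CurvesB.OmegaDer.bijective_lift f h V.2 U.2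
  exact (ConcreteCategory.isIso_iff_bijective e).2 hb

end Groth.Agent.S15741
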