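import Groth.Statements.S15742
import Groth.Agent.DeRhamSh.K853.OmegaBridge
import Groth.Agent.Mor.K387.KaehlerTransport

set_option autoImplicit false
universe u
open CategoryTheory AlgebraicGeometry
open Mor

namespace Groth.Agent.S15742

/-- For a commutative ring `A` and a commutative `A`-algebra `B`, the canonical map from the module of
Kähler differentials `Ω[B⁄A]` to the global sections of the sheaf of relative differentials of `Spec
B ⟶ Spec A`, semilinear along the identification of `B` with the ring of global functions on `Spec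
B` and sending `D b` to `d_{X/Y}` of the global function `b`, is bijective. -/
theorem result (A B : Type u) [CommRing A] [CommRing B] [Algebra A B] :
    Function.Bijective (OmAff.toSpec A B) := by
  let f : Spec (CommRingCat.of B) ⟶ Spec (CommRingCat.of A) :=
    Spec.map (CommRingCat.ofHom (algebraMap A B))
  have h : (⊤ : (Spec (CommRingCat.of B)).Opens) ≤ f ⁻¹ᵁ (⊤ : (Spec (CommRingCat.of A)).Opens) := le_rfl
  let _ := Groth.Agent.CurvesB.OmegaDer.algX f h
  let _ := Groth.Agent.CurvesB.OmegaDer.modO f h
  have _ := Groth.Agent.CurvesB.OmegaDer.isScalarTower f h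
  have hb : Function.Bijective (Groth.Agent.CurvesB.OmegaDer.der f h).liftKaehlerDifferential :=
    Groth.Agent.CurvesB.OmegaDer.bijective_lift f h (isAffineOpen_top _) (isAffineOpen_top _)
  let α : A ≃+* Γ(Spec (CommRingCat.of A), ⊤) :=
    (Scheme.ΓSpecIso (CommRingCat.of A)).symm.commRingCatIsoToRingEquiv
  let β : B ≃+* Γ(Spec (CommRingCat.of B), ⊤) :=
    (Scheme.ΓSpecIso (CommRingCat.of B)).symm.commRingCatIsoToRingEquiv
  refine K387.KaehlerTransport.bijective_of_ringEquiv α β ?_ _ hb
    (OmAff.toSpec A B).toAddMonoidHom ?_ ?_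
  · intro a
    have h1 := OmAff.appTop_toΓ A B a
    refine h1.symm.trans ?_
    have h2 : f.app ⊤ = f.appLE ⊤ ⊤ h := Scheme.Hom.app_eq_appLE f
    exact congrArg (fun q ↦ q.hom (OmAff.toΓ A a)) h2
  · intro b x
    exact (OmAff.toSpec A B).map_smulₛₗ b x
  · intro b
    refine (OmAff.toSpec_D A B b).trans ?_
    have h1 := (Groth.Agent.CurvesB.OmegaDer.der f h).liftKaehlerDifferential_comp_D (β b)
    refine Eq.trans ?_ h1.symm
    refine Eq.trans ?_ (Groth.Agent.CurvesB.OmegaDer.der_apply f h _).symm
    exact K853.OmegaBridge.dOmega_app_eq f ⊤ _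

end Groth.Agent.S15742
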