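import Groth.Statements.S15751
import Groth.Agent.CAlg.K89.SnLaurent

set_option autoImplicit false
universe u
open CAlg

namespace Groth.Agent.S15751

/-- For a seminormal Henselian local ring R the Picard group of the Laurent series ring R((t)) is
trivial: every invertible R((t))-module is free. -/
theorem result (R : Type u) [CommRing R]
    [HenselianLocalRing R] (hR : HTop.IsSeminormalRing R)
    (M : Type u) [AddCommGroup M] [Module (LaurentSeries R) M] [Module.Invertible (LaurentSeries R) M] :
    Module.Free (LaurentSeries R) M := by
  refine K89.SnLaurent.free_laurent ?_ (LaurentSeries R) (RingEquiv.refl _) M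
  intro b c hbc
  obtain ⟨a, ⟨h1, h2⟩, -⟩ := hR c b hbc.symm
  exact ⟨a, h2.symm, h1.symm⟩

end Groth.Agent.S15751
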