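import Groth.Statements.S15755
import Groth.Agent.CAlg.K88.SmoothColim
import Groth.Agent.S0595
import Groth.Agent.S0536
import Groth.Agent.S0543

set_option autoImplicit false
universe u
open CategoryTheory CategoryTheory.Limits
open CAlg

namespace Groth.Agent.S15755

/-- Let (A, I) be a Henselian pair with A Noetherian whose map to the I-adic completion Â is a regular
ring homomorphism, and let F be a set-valued functor on commutative A-algebras preserving filtered
colimits. Then F(A) → F(Â) is injective, and an element of F(A/I) is in the image of F(A) if and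
only if it is in the image of F(Â) under the canonical A-algebra map Â → A/I. -/
theorem result (A : Type u) [CommRing A]
    [IsNoetherianRing A] (I : Ideal A) [HenselianRing A I]
    (hreg : CAlg.IsRegularHom A (AdicCompletion I A))
    (F : CommAlgCat.{u} A ⥤ Type u) [PreservesFilteredColimitsOfSize.{u, u} F] :
    Function.Injective (F.map (CommAlgCat.ofHom (Algebra.ofId A (AdicCompletion I A)))) ∧
    ∀ xbar : F.obj (CommAlgCat.of A (A ⧸ I)),
      (∃ x : F.obj (CommAlgCat.of A A), F.map (CommAlgCat.ofHom (Ideal.Quotient.mkₐ A I)) x = xbar) ↔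
      (∃ y : F.obj (CommAlgCat.of A (AdicCompletion I A)),
        F.map (CommAlgCat.ofHom (AdicCompletion.evalOneₐ I)) y = xbar) := by
  have hN : IsNoetherianRing (AdicCompletion I A) := Groth.Agent.S0543.result A I
  let P : Groth.Agent.Proet.AlgProp.{u} := fun R S _ _ _ => Algebra.Smooth R S
  have hind : Groth.Agent.Proet.IndAlg P A (AdicCompletion I A) := by
    rw [Groth.Agent.Proet.IndAlg.indAlg_iff_factor P (fun R S _ _ _ h => h.finitePresentation)]
    intro Z _ _ hZ g
    obtain ⟨B, i1, i2, hB, u, v, huv⟩ := Groth.Agent.S0595.result A (AdicCompletion I A) hreg Z g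
    exact ⟨B, i1, i2, u, v, hB, huv⟩
  obtain ⟨hsurj, hinj⟩ := K88.SmoothColim.exists_of_indAlg P (AdicCompletion I A) hind F
  refine ⟨?_, ?_⟩
  · intro x x' hxx
    obtain ⟨C, _, _, v, hC, h⟩ := hinj x x' hxx
    have : Algebra.Smooth A C := hC
    obtain ⟨τ, -⟩ := Groth.Agent.S0536.result A C A I ((AdicCompletion.evalOneₐ I).comp v)
    have h1 : ∀ w, F.map (CommAlgCat.ofHom τ) (F.map (CommAlgCat.ofHom (Algebra.ofId A C)) w) = w := by
      intro w
      have h3 := congrArg (fun k => k w)
        (F.map_comp (CommAlgCat.ofHom (Algebra.ofId A C)) (CommAlgCat.ofHom τ))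
      refine h3.symm.trans ?_
      have h4 : CommAlgCat.ofHom (Algebra.ofId A C) ≫ CommAlgCat.ofHom τ =
          𝟙 (CommAlgCat.of A A) := by ext
      rw [h4, F.map_id]
      rfl
    rw [← h1 x, ← h1 x', h]
  · intro xbar
    constructor
    · rintro ⟨x, rfl⟩
      refine ⟨F.map (CommAlgCat.ofHom (Algebra.ofId A (AdicCompletion I A))) x, ?_⟩
      have h3 := congrArg (fun k => k x)
        (F.map_comp (CommAlgCat.ofHom (Algebra.ofId A (AdicCompletion I A)))
          (CommAlgCat.ofHom (AdicCompletion.evalOneₐ I)))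
      refine h3.symm.trans ?_
      congr 3
    · rintro ⟨y, rfl⟩
      obtain ⟨C, _, _, v, z, hC, rfl⟩ := hsurj y
      have : Algebra.Smooth A C := hC
      obtain ⟨τ, hτ⟩ := Groth.Agent.S0536.result A C A I ((AdicCompletion.evalOneₐ I).comp v)
      refine ⟨F.map (CommAlgCat.ofHom τ) z, ?_⟩
      have h3 := congrArg (fun k => k z)
        (F.map_comp (CommAlgCat.ofHom τ) (CommAlgCat.ofHom (Ideal.Quotient.mkₐ A I)))
      have h4 := congrArg (fun k => k z)
        (F.map_comp (CommAlgCat.ofHom v) (CommAlgCat.ofHom (AdicCompletion.evalOneₐ I)))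
      refine h3.symm.trans (Eq.trans ?_ h4)
      rw [← CommAlgCat.ofHom_comp, ← CommAlgCat.ofHom_comp, hτ]

end Groth.Agent.S15755
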