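import Groth.Statements.S15756
import Groth.Agent.CAlg.K88.HensApprox

set_option autoImplicit false
universe u
open CAlg

namespace Groth.Agent.S15756

/-- Case of the whole affine base U = Spec A, the unit ideal I = A and an affine scheme X: let A be a
ring with an element t such that (A, tA) is a Henselian pair and the t-power torsion of A is
bounded, let Â be the t-adic completion, and let B be an A-algebra of finite type with B[1/t] smooth
over A[1/t]. Then every A-algebra homomorphism B → Â is congruent modulo t^n, for any prescribed n,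
to an A-algebra homomorphism B → A. (The published statement allows any quasi-compact open U of Spec
A containing Spec A[1/t], any bounded Zariski Gabber–Ramero triple (A, t, I) that is Henselian (or,
instead, satisfies a lifting condition for Zariski pairs over A[1/t]), and U-schemes locally of
finite type that are ind-quasi-affine or subprojective and smooth over A[1/t], and it asserts
density of X(U) in X(U_Â) for the (t, I)-adic topology; this row is the case U = Spec A, I = A, X =
Spec B affine, under the Henselian alternative.) -/
theorem result (A : Type u) [CommRing A] (t : A)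
    [HenselianRing A (Ideal.span {t})]
    (hbd : ∃ N : ℕ, ∀ a : A, (∃ m : ℕ, t ^ m * a = 0) → t ^ N * a = 0)
    (B : Type u) [CommRing B] [Algebra A B] [Algebra.FiniteType A B]
    (hsm : Algebra.Smooth (Localization.Away t)
      (Localization (Algebra.algebraMapSubmonoid B (Submonoid.powers t))))
    (n : ℕ) (σ : B →ₐ[A] AdicCompletion (Ideal.span {t}) A) :
    ∃ τ : B →ₐ[A] A,
      (Ideal.Quotient.mkₐ A (Ideal.span {t} ^ n)).comp τ =
        (AdicCompletion.evalₐ (Ideal.span {t}) n).comp σ := by
  obtain ⟨N, hN⟩ := hbd
  obtain ⟨c, hc⟩ := K88.HensApprox.exists_algHom' t N hN B hsm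
  obtain ⟨τ, hτ⟩ := hc n ((AdicCompletion.evalₐ (Ideal.span {t}) (c + n)).comp σ)
  refine ⟨τ, ?_⟩
  ext b
  obtain ⟨x, hx⟩ := Ideal.Quotient.mk_surjective
    ((AdicCompletion.evalₐ (Ideal.span {t}) (c + n)) (σ b))
  have h1 := hτ b x hx
  have h2 : (AdicCompletion.evalₐ (Ideal.span {t}) n) (σ b) = Ideal.Quotient.mk _ x := by
    have h3 : Ideal.Quotient.factor (Ideal.pow_le_pow_right (show n ≤ c + n by omega))
        ((AdicCompletion.evalₐ (Ideal.span {t}) (c + n)) (σ b)) =
        (AdicCompletion.evalₐ (Ideal.span {t}) n) (σ b) := by
      obtain ⟨y, hy⟩ := AdicCompletion.mk_surjective _ _ (σ b)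
      rw [← hy, AdicCompletion.evalₐ_mk, AdicCompletion.evalₐ_mk]
      have h5 : y.val n ≡ y.val (c + n) [SMOD (Ideal.span {t} ^ n • ⊤ : Submodule A A)] :=
        y.property (show n ≤ c + n by omega)
      rw [Ideal.Quotient.factor_mk, Ideal.Quotient.eq]
      rw [SModEq.comm, SModEq.sub_mem, smul_eq_mul, Ideal.mul_top] at h5
      exact h5
    rw [← h3, ← hx]
    rfl
  simp only [AlgHom.comp_apply, Ideal.Quotient.mkₐ_eq_mk]
  rw [h2, Ideal.Quotient.eq, Ideal.span_singleton_pow, Ideal.mem_span_singleton]
  exact h1

end Groth.Agent.S15756
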