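import Groth.Statements.S15757
import Groth.Agent.NonAbH1.K832.LaurH1
import Groth.Agent.MultTori.K965.Dict
import Groth.Agent.S15751

set_option autoImplicit false
universe u
open CategoryTheory MonoidalCategory CartesianMonoidalCategory MonObj GrpObj AlgebraicGeometry
open NonAbH1

namespace Groth.Agent.S15757

open K832.LaurGal

/-- a group scheme split by a faithfully flat ring extension is a torus -/
lemma isTorus_of_ff {A B : Type u} [CommRing A] [CommRing B] [Algebra A B] [Module.FaithfullyFlat A B]
    (T : Over (Spec (CommRingCat.of A))) [GrpObj T] {r : ℕ}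
    (h : Red.IsSplitTorusWith (Fin r → ℤ) (Red.bc (Spec.map (CommRingCat.ofHom (algebraMap A B))) T)) :
    Red.IsTorus T := by
  have hf : Flat (Spec.map (CommRingCat.ofHom (algebraMap A B))) := by
    rw [Flat.SpecMap_iff]
    exact (RingHom.flat_algebraMap_iff).2 inferInstance
  have hs : Surjective (Spec.map (CommRingCat.ofHom (algebraMap A B))) := by
    constructor
    exact PrimeSpectrum.comap_surjective_of_faithfullyFlat
  refine ⟨Spec (CommRingCat.of B), Spec.map (CommRingCat.ofHom (algebraMap A B)), hf, hs, ?_, ?_⟩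
  · intro V hV
    refine ⟨(Spec.map (CommRingCat.ofHom (algebraMap A B))) ⁻¹ᵁ V, (hV.preimage _).isCompact, ?_⟩
    exact Set.image_preimage_eq _ hs.surj
  · intro s'
    refine ⟨⊤, trivial, r, ?_⟩
    obtain ⟨e⟩ := Groth.Agent.Sga3B.TorusAlgClosed.isSplitTorusWith_bc
      ((⊤ : (Spec (CommRingCat.of B)).Opens).ι) h
    exact ⟨Groth.Agent.Sga3B.BcIso.bcCompIso _ _ T ≪≫ e⟩

/-- A seminormal ring is reduced. -/
lemma isReduced_of_seminormal {R : Type u} [CommRing R] (hR : HTop.IsSeminormalRing R) : IsReduced R := by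
  rw [isReduced_iff_pow_one_lt 2 (by norm_num)]
  intro x hx
  obtain ⟨a, -, ha⟩ := hR 0 0 (by simp)
  rw [ha x ⟨hx.symm, by rw [pow_succ, hx, zero_mul]⟩]
  exact (ha 0 ⟨by simp, by simp⟩).symm


/-- Let R be a seminormal strictly Henselian local ring, d > 0 an integer invertible in R, and T a group
scheme over the Laurent series ring R((t)) which becomes a split torus after base change along the
substitution t ↦ t^d of R((t)) into itself (that is, over R((t^{1/d}))). Then every fppf torsor
under T over Spec R((t)) is trivial. The substitution map is Mathlib's embDomainRingHom for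
multiplication by d on exponents; its injectivity and monotonicity are carried as (provable)
hypotheses. -/
theorem result (R : Type u) [CommRing R]
    [HenselianLocalRing R] [IsSepClosed (IsLocalRing.ResidueField R)] (hR : HTop.IsSeminormalRing R)
    (d : ℕ) (hd : 0 < d) (hdu : IsUnit (d : R))
    (hinj : Function.Injective (AddMonoidHom.mulLeft (d : ℤ)))
    (hmono : ∀ g g' : ℤ, AddMonoidHom.mulLeft (d : ℤ) g ≤ AddMonoidHom.mulLeft (d : ℤ) g' ↔ g ≤ g')
    (T : Over (Spec (CommRingCat.of (LaurentSeries R)))) [GrpObj T] (r : ℕ)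
    (hsplit : Red.IsSplitTorusWith (Fin r → ℤ)
      (Red.bc (Spec.map (CommRingCat.ofHom
        (HahnSeries.embDomainRingHom (R := R) (AddMonoidHom.mulLeft (d : ℤ)) hinj hmono))) T))
    (X : Over (Spec (CommRingCat.of (LaurentSeries R)))) (a : AlgGrp.Action T X)
    (hX : NonAbH1.IsTorsorFor Scheme.fppfPrecoverage a) :
    NonAbH1.HasSectionOver X (𝟙 (Spec (CommRingCat.of (LaurentSeries R)))) := by
  classical
  have hred := isReduced_of_seminormal hR
  obtain ⟨ζ, h1, h2, h3⟩ := K832.KumRoots.exists_primitive (R := R) hdu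
  let p : Par R d := ⟨ζ, h1, h2, hd, hdu⟩
  have hnz : NeZero d := ⟨hd.ne'⟩
  have hG := isGal (p := p)
  have := hG.ff
  have hconn : ∀ e : R, IsIdempotentElem e → e = 0 ∨ e = 1 := fun e he => by
    have h1 : e * (1 - e) = 0 := by rw [mul_sub, _root_.mul_one, he.eq, sub_self]
    rcases IsLocalRing.isUnit_or_isUnit_one_sub_self e with h | h
    · right
      exact (sub_eq_zero.1 (h.mul_right_eq_zero.1 h1)).symm
    · left
      exact h.mul_left_eq_zero.1 h1
  have hspl : Red.IsSplitTorusWith (Fin r → ℤ)
      (Red.bc (Spec.map (CommRingCat.ofHom (algebraMap (LaurentSeries R) (LB p)))) T) := hsplit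
  have haff : IsAffineHom T.hom :=
    Groth.Agent.Sga3B.TorusAlgClosed.isAffineHom_of_isTorus (isTorus_of_ff (B := LB p) T hspl)
  have haff' : IsAffine T.left := isAffine_of_isAffineHom T.hom
  obtain ⟨e⟩ := hspl
  obtain ⟨hD, ⟨D⟩⟩ := K965.Dic.exists_dict_of_split (G := Gp d) e hG (K832.LaurKum.idem hconn)
  have hPic : Subsingleton (CommRing.Pic (LB p)) :=
    (CommRing.Pic.subsingleton_iff (R := LaurentSeries R)).2 fun M _ _ _ => Groth.Agent.S15751.result R hR M
  obtain ⟨s⟩ := K832.TorSec.exists_section hG D hPic (K832.LaurH1.h1Van_laurent p h3) ⟨X, a, hX⟩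
  exact ⟨s.left, Over.w s⟩

end Groth.Agent.S15757
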