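import Groth.Statements.S15760
import Groth.Agent.AlgGrp.K406.OrbFin
import Groth.Agent.AlgGrp.K395.OrbLC

set_option autoImplicit false
universe u
open CategoryTheory MonoidalCategory CartesianMonoidalCategory MonObj GrpObj AlgebraicGeometry
open AlgGrp

namespace Groth.Agent.S15760

/-- Let G be a group scheme of finite type over a field k acting on a quasi-affine k-scheme X of finite
type, and let x be a k-point of X with orbit map G → X, g ↦ g · x. If every subtorus of G over an
algebraic closure of k fixes x (the base-changed orbit map restricted to the torus factors through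
the base change of x), then the orbit of x is a closed subset of X. -/
theorem result (k : Type u) [Field k]
    (G X : Over (Spec (CommRingCat.of k))) [GrpObj G] [LocallyOfFiniteType G.hom] [QuasiCompact G.hom]
    [LocallyOfFiniteType X.hom] (hX : X.left.IsQuasiAffine)
    (a : AlgGrp.Action G X) (x : 𝟙_ (Over (Spec (CommRingCat.of k))) ⟶ X)
    (htor : ∀ (T : Over (Spec (CommRingCat.of (AlgebraicClosure k)))) [GrpObj T]
      (i : T ⟶ Red.bc (Spec.map (CommRingCat.ofHom (algebraMap k (AlgebraicClosure k)))) G) [IsMonHom i],
      Mono i → Red.IsTorus T →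
      ∃ c : T ⟶ Red.bc (Spec.map (CommRingCat.ofHom (algebraMap k (AlgebraicClosure k))))
          (𝟙_ (Over (Spec (CommRingCat.of k)))),
        i ≫ (Over.pullback (Spec.map (CommRingCat.ofHom (algebraMap k (AlgebraicClosure k))))).map (a.orbitMap x) =
          c ≫ (Over.pullback (Spec.map (CommRingCat.ofHom (algebraMap k (AlgebraicClosure k))))).map x) :
    IsClosed (Set.range (a.orbitMap x).left) := by
  let K := AlgebraicClosure k
  let f : Spec (CommRingCat.of K) ⟶ Spec (CommRingCat.of k) := Spec.map (CommRingCat.ofHom (algebraMap k K))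
  have hs : Surjective f := ⟨fun s => ⟨IsLocalRing.closedPoint K, Subsingleton.elim _ _⟩⟩
  have hG1 : LocallyOfFiniteType (Red.bc f G).hom := inferInstanceAs (LocallyOfFiniteType (Limits.pullback.snd G.hom f))
  have hG2 : QuasiCompact (Red.bc f G).hom := inferInstanceAs (QuasiCompact (Limits.pullback.snd G.hom f))
  have hX1 : LocallyOfFiniteType (Red.bc f X).hom := inferInstanceAs (LocallyOfFiniteType (Limits.pullback.snd X.hom f))
  have hX2 : (Red.bc f X).left.IsQuasiAffine := by
    have h0 : IsAffineHom f := inferInstance
    have h1 : IsAffineHom (Limits.pullback.fst X.hom f) := MorphismProperty.pullback_fst _ _ h0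
    exact Scheme.IsQuasiAffine.of_isAffineHom (Limits.pullback.fst X.hom f)
  have hfix : K406.OrbRed.FixTori (a.bc f) (K395.OrbLC.bcPt f x) := by
    intro T _ i _ hm hT
    obtain ⟨c, hc⟩ := htor T i hm hT
    rw [K395.OrbLC.orbitMap_bc]
    refine hc.trans ?_
    rw [K395.OrbLC.bcPt, ← Category.assoc]
    congr 1
    rw [← cancel_mono (Functor.OplaxMonoidal.η (Over.pullback f)), Category.assoc,
      Functor.Monoidal.ε_η, Category.comp_id]
    exact toUnit_unique _ _
  have h := K406.OrbFin.isClosed_ft (a.bc f) (K395.OrbLC.bcPt f x) hfix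
  rw [K395.OrbLC.orbitMap_bc, K395.OrbLC.range_map] at h
  have hI : IsIntegral (Spec (CommRingCat.of k)) := inferInstance
  have hop : UniversallyOpen f := inferInstance
  have hq : Topology.IsQuotientMap (Limits.pullback.fst X.hom f) :=
    (Limits.pullback.fst X.hom f).isOpenMap.isQuotientMap (Limits.pullback.fst X.hom f).continuous
      (Limits.pullback.fst X.hom f).surjective
  exact hq.isClosed_preimage.1 h

end Groth.Agent.S15760
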