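import Groth.Statements.S15761
import Groth.Agent.Hensel.K141.Chain

set_option autoImplicit false
universe u
open CategoryTheory AlgebraicGeometry
open FEt

namespace Groth.Agent.S15761

/-- Let A → A' be a homomorphism of Noetherian rings and J ⊂ A an ideal with (A, J) and (A', JA')
Henselian pairs such that A/J^n → A'/J^nA' is bijective for all n, and let U ⊂ Spec A be an open
containing Spec A ∖ V(J). Then pullback along U ×_A A' → U is an equivalence from finite étale
U-schemes to finite étale schemes over the preimage of U in Spec A'. -/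
theorem result (A A' : Type u) [CommRing A] [CommRing A']
    [IsNoetherianRing A] [IsNoetherianRing A'] (φ : A →+* A') (J : Ideal A)
    [HenselianRing A J] [HenselianRing A' (J.map φ)]
    (hq : ∀ n : ℕ, Function.Bijective (Ideal.quotientMap (Ideal.map φ (J ^ n)) φ Ideal.le_comap_map))
    (U : (Spec (CommRingCat.of A)).Opens)
    (hU : ∀ p : PrimeSpectrum A, ¬ J ≤ p.asIdeal → p ∈ U) :
    (FEt.restrict ((Spec.map (CommRingCat.ofHom φ)) ∣_ U)).IsEquivalence := by
  let _ : Algebra A A' := φ.toAlgebra
  have hJ : J.FG := IsNoetherian.noetherian J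
  have hUc : IsCompact (U : Set (Spec (CommRingCat.of A))) := by
    have : TopologicalSpace.NoetherianSpace (PrimeSpectrum A) := inferInstance
    exact TopologicalSpace.NoetherianSpace.isCompact (α := PrimeSpectrum A) U.1
  have hU' : ∀ x : Spec (CommRingCat.of A), x ∉ U → J ≤ x.asIdeal := by
    intro x hx
    by_contra h
    exact hx (hU x h)
  have hJ' : (J.map (algebraMap A A')).FG := hJ.map _
  let C := AdicCompletion (J.map (algebraMap A A')) A'
  have hC : K730.CP (J.map (algebraMap A A')) C := K730.CP.of_adicCompletion _ hJ'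
  have h1 : K141.FEq (Groth.Agent.Pi1A.FEtAffine.specMap A' C) (Groth.Agent.Pi1A.FEtAffine.specMap A A' ⁻¹ᵁ U) := by
    have hq : QuasiCompact (Groth.Agent.Pi1A.FEtAffine.specMap A A') := inferInstance
    have hh : HenselianRing A' (J.map (algebraMap A A')) := ‹HenselianRing A' (J.map φ)›
    refine K141.FEq.completion A' (J.map (algebraMap A A')) hJ' _
      (hq.isCompact_preimage _ U.2 hUc) ?_ C hC
    intro x hx
    rw [Ideal.map_le_iff_le_comap]
    exact hU' _ hx
  let _ : Algebra A C := ((algebraMap A' C).comp (algebraMap A A')).toAlgebra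
  have h2 : K730.CP J C := by
    have hmap : J.map (algebraMap A C) = (J.map (algebraMap A A')).map (algebraMap A' C) := by
      rw [Ideal.map_map]; rfl
    refine ⟨by rw [hmap]; exact hC.complete, ?_, ?_⟩
    · intro n s
      obtain ⟨b, hb⟩ := hC.d n s
      obtain ⟨a, ha⟩ := (hq n).2 (Ideal.Quotient.mk _ b)
      obtain ⟨a, rfl⟩ := Ideal.Quotient.mk_surjective a
      rw [Ideal.quotientMap_mk, eq_comm, Ideal.Quotient.mk_eq_mk_iff_sub_mem] at ha
      refine ⟨a, ?_⟩
      rw [hmap]
      have h1 : s - algebraMap A C a = (s - algebraMap A' C b) +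
          algebraMap A' C (b - algebraMap A A' a) := by
        rw [map_sub]
        change _ = (s - algebraMap A' C b) + (algebraMap A' C b - algebraMap A C a)
        ring
      rw [h1]
      refine Ideal.add_mem _ hb ?_
      rw [← Ideal.map_pow]
      refine Ideal.mem_map_of_mem _ ?_
      rw [← Ideal.map_pow]
      exact ha
    · intro n a ha
      rw [hmap] at ha
      have h3 := hC.i n (algebraMap A A' a) ha
      rw [← Ideal.map_pow] at h3
      have h4 : Ideal.quotientMap (Ideal.map φ (J ^ n)) φ Ideal.le_comap_map
          (Ideal.Quotient.mk _ a) = 0 := by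
        rw [Ideal.quotientMap_mk, Ideal.Quotient.eq_zero_iff_mem]
        exact h3
      have h5 := (injective_iff_map_eq_zero _).mp (hq n).1 _ h4
      exact Ideal.Quotient.eq_zero_iff_mem.mp h5
  have h3 := K141.FEq.completion A J hJ U hUc hU' C h2
  have h4 : Groth.Agent.Pi1A.FEtAffine.specMap A C = Groth.Agent.Pi1A.FEtAffine.specMap A' C ≫ Groth.Agent.Pi1A.FEtAffine.specMap A A' := by
    rw [← Spec.map_comp]
    rfl
  rw [h4] at h3
  exact K141.FEq.of_comp_left h1 h3

end Groth.Agent.S15761
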