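import Groth.Statements.S15763
import Groth.Agent.Hensel.K141.FEtLaurent

set_option autoImplicit false
universe u
open CategoryTheory AlgebraicGeometry Polynomial
open FEt

namespace Groth.Agent.S15763

/-- The instance R{t}[1/t] → R((t)): for any ring R, base change along the canonical map from the
Henselian Laurent series ring R{t}[1/t] (R{t} a henselization of R[t] along (t), ψ its map to
R[[t]], χ the induced map to R((t))) to R((t)) is an equivalence between finite étale schemes over
Spec R{t}[1/t] and over Spec R((t)). (The published statement is for any topological ring with a
Henselian open nonunital subring whose induced topology has a neighbourhood base of zero consisting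
of ideals, and its completion; this row is the case R{t}[1/t] → R((t)), which the published
statement singles out.) -/
theorem result (R : Type u) [CommRing R]
    (B : Type u) [CommRing B] [Algebra R[X] B] (hB : Hens2.IsPairHenselization R[X] (Ideal.span {(X : R[X])}) B)
    (ψ : B →ₐ[R[X]] PowerSeries R)
    (χ : Localization.Away (algebraMap R[X] B X) →+* LaurentSeries R)
    (hχ : χ.comp (algebraMap B (Localization.Away (algebraMap R[X] B X))) =
      (HahnSeries.ofPowerSeries ℤ R).comp ψ.toRingHom) :
    (FEt.restrict (Spec.map (CommRingCat.ofHom χ))).IsEquivalence := by
  have hX := K141.Laurent.psi_X R ψ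
  have hloc : IsLocalization.Away (ψ.toRingHom (algebraMap R[X] B X)) (LaurentSeries R) := by
    rw [hX]
    exact LaurentSeries.of_powerSeries_localization
  have hens : HenselianRing (PowerSeries R) (Ideal.span {PowerSeries.X}) := inferInstance
  exact K141.Away.isEquivalence_ringHom ψ.toRingHom (algebraMap R[X] B X)
    (algebraMap B (Localization.Away (algebraMap R[X] B X))) (HahnSeries.ofPowerSeries ℤ R) χ
    ⟨inferInstance, rfl, inferInstance⟩ ⟨inferInstance, rfl, hloc⟩ hχ
    (K141.Laurent.henselian R hB) (by rw [hX]; exact hens) (K141.Laurent.cong R hB ψ)

end Groth.Agent.S15763
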