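import Groth.Statements.S15765
import Mathlib.AlgebraicGeometry.QuasiAffine
import Mathlib.Topology.Algebra.Ring.Basic

set_option autoImplicit false
universe u
open CategoryTheory AlgebraicGeometry
open CAlg

namespace Groth.Agent.S15765

/-- Let B be a topological ring in which the units form an open subset, B₀ → B a ring map with dense
image and X a quasi-affine scheme over B₀. Then the image of any B-point Spec B → X over B₀ is
contained in an affine open of X. (The published statement allows X ind-quasi-affine, i.e. with all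
quasi-compact opens quasi-affine; since a B-point lands in a quasi-compact open, this row's
quasi-affine case carries the content.) -/
theorem result (B : Type u) [CommRing B] [TopologicalSpace B]
    [IsTopologicalRing B] (hB : IsOpen {b : B | IsUnit b})
    (B₀ : Type u) [CommRing B₀] (φ : B₀ →+* B) (hφ : DenseRange φ)
    (X : Scheme.{u}) [X.IsQuasiAffine] (p : X ⟶ Spec (CommRingCat.of B₀))
    (f : Spec (CommRingCat.of B) ⟶ X) (hf : f ≫ p = Spec.map (CommRingCat.ofHom φ)) :
    ∃ U : X.Opens, IsAffineOpen U ∧ Set.range f.base ⊆ (U : Set X) := by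
  classical
  let γ : Γ(X, ⊤) ⟶ CommRingCat.of B := f.appTop ≫ (Scheme.ΓSpecIso (CommRingCat.of B)).hom
  let π : CommRingCat.of B₀ ⟶ Γ(X, ⊤) := (Scheme.ΓSpecIso (CommRingCat.of B₀)).inv ≫ p.appTop
  have hπγ : π ≫ γ = CommRingCat.ofHom φ := by
    change ((Scheme.ΓSpecIso (CommRingCat.of B₀)).inv ≫ p.appTop) ≫ f.appTop ≫ _ = _
    have h1 : p.appTop ≫ f.appTop = (Spec.map (CommRingCat.ofHom φ)).appTop := by
      rw [← Scheme.Hom.comp_appTop, hf]
    rw [Category.assoc, reassoc_of% h1, Scheme.ΓSpecIso_naturality, Iso.inv_hom_id_assoc]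
  have hπγ' : ∀ c : B₀, γ.hom (π.hom c) = φ c := fun c => by
    have := congrArg (fun g => g.hom c) hπγ
    simpa using this
  -- points of `Spec B` and basic opens
  have hpt : ∀ (x : Spec (CommRingCat.of B)) (r : Γ(X, ⊤)),
      f.base x ∈ X.basicOpen r ↔ γ.hom r ∉ x.asIdeal := by
    intro x r
    have h1 : f.base x ∈ X.basicOpen r ↔ x ∈ f ⁻¹ᵁ X.basicOpen r := Iff.rfl
    rw [h1, Scheme.preimage_basicOpen_top]
    rw [basicOpen_eq_of_affine']
    rfl
  -- the ideal of functions whose basic open lies in the image of `X` in `Spec Γ(X)`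
  let J : Ideal Γ(X, ⊤) :=
    PrimeSpectrum.vanishingIdeal (R := Γ(X, ⊤)) ((Set.range X.toSpecΓ.base)ᶜ)
  have hJ : ∀ r ∈ J, IsAffineOpen (X.basicOpen r) := by
    intro r hr
    have hrU : ((PrimeSpectrum.basicOpen r : TopologicalSpace.Opens (PrimeSpectrum Γ(X, ⊤))) :
        Set (PrimeSpectrum Γ(X, ⊤))) ⊆ Set.range X.toSpecΓ.base := by
      intro y hy
      by_contra hy'
      exact hy ((PrimeSpectrum.mem_vanishingIdeal _ _).mp hr y hy')
    rw [← Scheme.toSpecΓ_preimage_basicOpen]
    rw [← Scheme.Hom.isAffineOpen_iff_of_isOpenImmersion X.toSpecΓ]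
    convert! IsAffineOpen.Spec_basicOpen r
    exact SetLike.coe_injective (Set.image_preimage_eq_of_subset hrU)
  have hJcov : ∀ y : X, ∃ r ∈ J, y ∈ X.basicOpen r := by
    intro y
    obtain ⟨_, ⟨_, ⟨r, rfl⟩, rfl⟩, hyr, hrU⟩ := (PrimeSpectrum.isBasis_basic_opens
      (R := Γ(X, ⊤))).exists_subset_of_mem_open
      (Set.mem_range_self (f := X.toSpecΓ.base) y) (X.toSpecΓ.opensRange).2
    refine ⟨r, ?_, ?_⟩
    · rw [PrimeSpectrum.mem_vanishingIdeal]
      intro z hz
      by_contra hz'
      exact hz (hrU hz')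
    · rw [← Scheme.toSpecΓ_preimage_basicOpen]
      exact hyr
  -- the set of values `γ F`, `F ∈ J`, and its closure
  let D : AddSubgroup B := (J.toAddSubgroup).map γ.hom.toAddMonoidHom
  have hD : ∀ b : B, b ∈ D ↔ ∃ F ∈ J, γ.hom F = b := fun b => by
    simp [D]
  let K : Ideal B :=
    { carrier := D.topologicalClosure
      zero_mem' := D.topologicalClosure.zero_mem
      add_mem' := fun ha hb => D.topologicalClosure.add_mem ha hb
      smul_mem' := by
        intro c x hx
        -- first for `c` in the image of `B₀`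
        have h0 : ∀ (c₀ : B₀) (y : B), y ∈ D.topologicalClosure →
            φ c₀ * y ∈ D.topologicalClosure := by
          intro c₀ y hy
          have hc : Continuous fun z : B => φ c₀ * z := continuous_const.mul continuous_id
          have h2 := image_closure_subset_closure_image hc ⟨y, hy, rfl⟩
          refine closure_mono ?_ h2
          rintro _ ⟨z, hz, rfl⟩
          obtain ⟨F, hF, rfl⟩ := (hD z).mp hz
          refine (hD _).mpr ⟨π.hom c₀ * F, J.mul_mem_left _ hF, ?_⟩
          rw [map_mul, hπγ']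
        have hc : Continuous fun z : B => z * x := continuous_id.mul continuous_const
        have h2 := image_closure_subset_closure_image hc ⟨c, hφ c, rfl⟩
        have h3 : closure ((fun z : B => z * x) '' Set.range φ) ⊆ D.topologicalClosure := by
          apply closure_minimal _ D.isClosed_topologicalClosure
          rintro _ ⟨_, ⟨c₀, rfl⟩, rfl⟩
          exact h0 c₀ x hx
        exact h3 h2 }
  have hK : K = ⊤ := by
    by_contra hne
    obtain ⟨m, hm, hle⟩ := Ideal.exists_le_maximal K hne
    obtain ⟨r, hr, hyr⟩ := hJcov (f.base (⟨m, hm.isPrime⟩ : PrimeSpectrum B))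
    rw [hpt] at hyr
    exact hyr (hle (D.le_topologicalClosure ((hD _).mpr ⟨r, hr, rfl⟩)))
  have h1 : (1 : B) ∈ closure (D : Set B) := by
    have : (1 : B) ∈ K := by rw [hK]; trivial
    exact this
  obtain ⟨_, hu, hbD⟩ := mem_closure_iff.mp h1 _ hB isUnit_one
  obtain ⟨F, hF, rfl⟩ := (hD _).mp hbD
  refine ⟨X.basicOpen F, hJ F hF, ?_⟩
  rintro _ ⟨x, rfl⟩
  exact (hpt x F).mpr (fun h => x.isPrime.ne_top (Ideal.eq_top_of_isUnit_mem _ h hu))

end Groth.Agent.S15765
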