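import Groth.Statements.S15767
import Groth.Agent.PRed.K500.Coch
import Groth.Agent.PRed.K541.FP1

set_option autoImplicit false
universe u
open CategoryTheory MonoidalCategory CartesianMonoidalCategory MonObj GrpObj AlgebraicGeometry
open AGF

namespace Groth.Agent.S15767

/-- Let G be a group scheme locally of finite type over a field k, let i : S → G be a maximal split
k-torus (split of some rank and maximal among split subtori) and n : N → G its normalizer. Then
cocharacters of S up to N(k)-conjugacy correspond bijectively to cocharacters of G up to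
G(k)-conjugacy: every homomorphism from the multiplicative group to G is conjugate by a k-point of G
to one factoring through S, and two homomorphisms into S that become G(k)-conjugate in G are
conjugate by a k-point of N. (Conjugacy of maximal split tori under G(k) is not part of this row.) -/
theorem result (k : Type u) [Field k]
    (G : Over (Spec (CommRingCat.of k))) [GrpObj G] [LocallyOfFiniteType G.hom]
    (S : Over (Spec (CommRingCat.of k))) [GrpObj S] (r : ℕ) (hS : Red.IsSplitTorusWith (Fin r → ℤ) S)
    (i : S ⟶ G) [IsMonHom i] [Mono i]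
    (hmax : ∀ (S' : Over (Spec (CommRingCat.of k))) [GrpObj S'] (r' : ℕ) (i' : S' ⟶ G) [IsMonHom i'] [Mono i']
      (f : S ⟶ S'), Red.IsSplitTorusWith (Fin r' → ℤ) S' → f ≫ i' = i → IsIso f)
    (N : Over (Spec (CommRingCat.of k))) [GrpObj N] (n : N ⟶ G) (hN : Red.IsNormalizerOf i n) :
    (∀ (lam : Red.Gm (Spec (CommRingCat.of k)) ⟶ G) [IsMonHom lam],
        ∃ (g : 𝟙_ (Over (Spec (CommRingCat.of k))) ⟶ G) (mu : Red.Gm (Spec (CommRingCat.of k)) ⟶ S),
          IsMonHom mu ∧ lam = AGF.conjBy g (mu ≫ i)) ∧
    (∀ (mu mu' : Red.Gm (Spec (CommRingCat.of k)) ⟶ S) [IsMonHom mu] [IsMonHom mu']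
        (g : 𝟙_ (Over (Spec (CommRingCat.of k))) ⟶ G),
        mu' ≫ i = AGF.conjBy g (mu ≫ i) →
        ∃ h : 𝟙_ (Over (Spec (CommRingCat.of k))) ⟶ N, mu' ≫ i = AGF.conjBy (h ≫ n) (mu ≫ i)) :=
  have hFP : K500.Coch.FP k := fun _ _ _ _ _ lam mu _ _ => K541.FP1.fp1 lam mu
  ⟨fun lam _ => K500.Coch.exists_conj G S r hS i hmax hFP lam,
    fun mu mu' _ _ g hg => K500.Coch.exists_norm G S r hS i hmax hFP N n hN mu mu' g hg⟩

end Groth.Agent.S15767
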