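import Groth.Statements.S15768
import Groth.Agent.CAlg.K88.HensLaurent
import Groth.Agent.S15749

set_option autoImplicit false
universe u
open Polynomial
open CAlg

namespace Groth.Agent.S15768

/-- For any ring R and a henselization B of R[t] along (t), every idempotent of B[1/t] comes from a
unique idempotent of R under R → R[t] → B → B[1/t]. -/
theorem result (R : Type u) [CommRing R]
    (B : Type u) [CommRing B] [Algebra R[X] B] (hB : Hens2.IsPairHenselization R[X] (Ideal.span {(X : R[X])}) B)
    (e : Localization.Away (algebraMap R[X] B X)) (he : IsIdempotentElem e) :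
    ∃! r : R, IsIdempotentElem r ∧
      algebraMap B (Localization.Away (algebraMap R[X] B X)) (algebraMap R[X] B (Polynomial.C r)) = e := by
  obtain ⟨ψ, hψ⟩ := K88.HensLaurent.exists_psi hB
  obtain ⟨Φ, hΦ, hΦ'⟩ := K88.HensLaurent.exists_toLaurent hB ψ hψ
    (Localization.Away (algebraMap R[X] B X))
  have hC : ∀ r : R, Φ (algebraMap B _ (algebraMap R[X] B (Polynomial.C r))) = HahnSeries.C r := by
    intro r
    have h1 : ψ (algebraMap R[X] B (Polynomial.C r)) = PowerSeries.C r := by
      have := DFunLike.congr_fun hψ (Polynomial.C r)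
      rwa [RingHom.comp_apply, Polynomial.coeToPowerSeries.ringHom_apply, Polynomial.coe_C] at this
    rw [hΦ', h1, HahnSeries.ofPowerSeries_C]
  obtain ⟨r, ⟨hr, hr'⟩, huniq⟩ := Groth.Agent.S15749.result R (Φ e) (he.map Φ)
  refine ⟨r, ⟨hr, hΦ ?_⟩, ?_⟩
  · rw [hC]; exact hr'
  · rintro r' ⟨hr1, hr2⟩
    exact huniq r' ⟨hr1, by rw [← hC, hr2]⟩

end Groth.Agent.S15768
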