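import Groth.Statements.S15769
import Groth.Agent.CAlg.K88.GluePair
import Mathlib.AlgebraicGeometry.QuasiAffine

set_option autoImplicit false
universe u
open CategoryTheory AlgebraicGeometry
open CAlg

namespace Groth.Agent.S15769

/-- the ring map of global functions of a morphism from an affine scheme, and the recovery of the
morphism to `Spec Γ(X)` from it. -/
theorem exists_comp_toSpecΓ_eq {C : Type u} [CommRing C] {X : Scheme.{u}}
    (f : Spec (CommRingCat.of C) ⟶ X) :
    ∃ g : Γ(X, ⊤) ⟶ CommRingCat.of C, f ≫ X.toSpecΓ = Spec.map g :=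
  ⟨Spec.preimage (f ≫ X.toSpecΓ), (Spec.map_preimage _).symm⟩

/-- Case of a quasi-affine X over U = Spec A: let φ : A → A' and t ∈ A be such that A/t^m → A'/t^m is
bijective for every m and φ restricts to a bijection between the t-power-torsion submodules; let X
be a quasi-affine scheme over Spec A. Then sections of X over Spec A correspond bijectively to pairs
of an A'-point and an A[1/t]-point of X over A that agree over A'[1/t]. (The published statement
allows a flat A-scheme U as base and X either ind-quasi-affine or subprojective over U; this row is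
U = Spec A with X quasi-affine.) -/
theorem result (A A' : Type u) [CommRing A] [CommRing A']
    (φ : A →+* A') (t : A)
    (hq : ∀ m : ℕ, Function.Bijective (Ideal.quotientMap (Ideal.map φ (Ideal.span {t} ^ m)) φ Ideal.le_comap_map))
    (htor : ∀ a' : A', (∃ m : ℕ, φ t ^ m * a' = 0) → ∃! a : A, (∃ m : ℕ, t ^ m * a = 0) ∧ φ a = a')
    (X : Scheme.{u}) [X.IsQuasiAffine] (p : X ⟶ Spec (CommRingCat.of A)) :
    (∀ s₁ s₂ : Spec (CommRingCat.of A) ⟶ X, s₁ ≫ p = 𝟙 _ → s₂ ≫ p = 𝟙 _ →
        Spec.map (CommRingCat.ofHom φ) ≫ s₁ = Spec.map (CommRingCat.ofHom φ) ≫ s₂ →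
        Spec.map (CommRingCat.ofHom (algebraMap A (Localization.Away t))) ≫ s₁ =
          Spec.map (CommRingCat.ofHom (algebraMap A (Localization.Away t))) ≫ s₂ →
        s₁ = s₂) ∧
    (∀ (x' : Spec (CommRingCat.of A') ⟶ X) (xt : Spec (CommRingCat.of (Localization.Away t)) ⟶ X),
        x' ≫ p = Spec.map (CommRingCat.ofHom φ) →
        xt ≫ p = Spec.map (CommRingCat.ofHom (algebraMap A (Localization.Away t))) →
        Spec.map (CommRingCat.ofHom (algebraMap A' (Localization.Away (φ t)))) ≫ x' =
          Spec.map (CommRingCat.ofHom (Localization.awayMap φ t)) ≫ xt →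
        ∃ s : Spec (CommRingCat.of A) ⟶ X, s ≫ p = 𝟙 _ ∧
          Spec.map (CommRingCat.ofHom φ) ≫ s = x' ∧
          Spec.map (CommRingCat.ofHom (algebraMap A (Localization.Away t))) ≫ s = xt) := by
  have huniq : ∀ a b : A, φ a = φ b →
      algebraMap A (Localization.Away t) a = algebraMap A (Localization.Away t) b → a = b := by
    intro a b h1 h2
    rw [← sub_eq_zero]
    apply K88.GluePair.eq_zero φ t htor
    · rw [map_sub, h1, sub_self]
    · rw [map_sub, h2, sub_self]
  have hhom : ∀ {G : CommRingCat.{u}} (g₁ g₂ : G ⟶ CommRingCat.of A),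
      g₁ ≫ CommRingCat.ofHom φ = g₂ ≫ CommRingCat.ofHom φ →
      g₁ ≫ CommRingCat.ofHom (algebraMap A (Localization.Away t)) =
        g₂ ≫ CommRingCat.ofHom (algebraMap A (Localization.Away t)) → g₁ = g₂ := by
    intro G g₁ g₂ h1 h2
    ext x
    apply huniq
    · exact congrArg (fun k => k.hom x) h1
    · exact congrArg (fun k => k.hom x) h2
  refine ⟨?_, ?_⟩
  · intro s₁ s₂ _ _ h1 h2
    rw [← cancel_mono X.toSpecΓ]
    obtain ⟨g₁, hg₁⟩ := exists_comp_toSpecΓ_eq s₁
    obtain ⟨g₂, hg₂⟩ := exists_comp_toSpecΓ_eq s₂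
    rw [hg₁, hg₂]
    congr 1
    apply hhom
    · apply Spec.map_injective
      rw [Spec.map_comp, Spec.map_comp, ← hg₁, ← hg₂, reassoc_of% h1]
    · apply Spec.map_injective
      rw [Spec.map_comp, Spec.map_comp, ← hg₁, ← hg₂, reassoc_of% h2]
  · intro x' xt hx' hxt hagree
    obtain ⟨g', hg'⟩ := exists_comp_toSpecΓ_eq x'
    obtain ⟨gt, hgt⟩ := exists_comp_toSpecΓ_eq xt
    have hc : g' ≫ CommRingCat.ofHom (algebraMap A' (Localization.Away (φ t))) =
        gt ≫ CommRingCat.ofHom (Localization.awayMap φ t) := by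
      apply Spec.map_injective
      rw [Spec.map_comp, Spec.map_comp, ← hg', ← hgt, reassoc_of% hagree]
    obtain ⟨g, h1, h2⟩ := K88.GluePair.exists_ringHom φ t (fun m => (hq m).1) htor g'.hom gt.hom
      (congrArg (fun k => k.hom) hc)
    let s₀ : Spec (CommRingCat.of A) ⟶ Spec Γ(X, ⊤) := Spec.map (CommRingCat.ofHom g)
    have h1' : Spec.map (CommRingCat.ofHom φ) ≫ s₀ = x' ≫ X.toSpecΓ := by
      rw [hg', ← Spec.map_comp]
      congr 1
      ext x
      exact congrArg (fun k => k x) h1
    have h2' : Spec.map (CommRingCat.ofHom (algebraMap A (Localization.Away t))) ≫ s₀ =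
        xt ≫ X.toSpecΓ := by
      rw [hgt, ← Spec.map_comp]
      congr 1
      ext x
      exact congrArg (fun k => k x) h2
    have hrange : Set.range s₀.base ⊆ Set.range X.toSpecΓ.base := by
      rintro _ ⟨q, rfl⟩
      by_cases ht : t ∈ q.asIdeal
      · have hq1 := hq 1
        rw [pow_one] at hq1
        obtain ⟨Q, hQ, hQq⟩ := K88.GluePair.exists_comap_eq φ t hq1 q.asIdeal q.isPrime ht
        have hqq : (Spec.map (CommRingCat.ofHom φ)).base (⟨Q, hQ⟩ : PrimeSpectrum A') = q := by
          apply PrimeSpectrum.ext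
          exact hQq
        rw [← hqq]
        refine ⟨x'.base (⟨Q, hQ⟩ : PrimeSpectrum A'), ?_⟩
        have := congrArg (fun k => k.base (⟨Q, hQ⟩ : PrimeSpectrum A')) h1'
        simpa using this.symm
      · have : q ∈ Set.range (PrimeSpectrum.comap (algebraMap A (Localization.Away t))) := by
          rw [PrimeSpectrum.localization_away_comap_range (Localization.Away t) t]
          exact ht
        obtain ⟨Q, hQ⟩ := this
        have hqq : (Spec.map (CommRingCat.ofHom (algebraMap A (Localization.Away t)))).base Q = q :=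
          hQ
        rw [← hqq]
        refine ⟨xt.base Q, ?_⟩
        have := congrArg (fun k => k.base Q) h2'
        simpa using this.symm
    let s : Spec (CommRingCat.of A) ⟶ X := IsOpenImmersion.lift X.toSpecΓ s₀ hrange
    have hs : s ≫ X.toSpecΓ = s₀ := IsOpenImmersion.lift_fac _ _ _
    have hs1 : Spec.map (CommRingCat.ofHom φ) ≫ s = x' := by
      rw [← cancel_mono X.toSpecΓ, Category.assoc, hs, h1']
    have hs2 : Spec.map (CommRingCat.ofHom (algebraMap A (Localization.Away t))) ≫ s = xt := by
      rw [← cancel_mono X.toSpecΓ, Category.assoc, hs, h2']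
    refine ⟨s, ?_, hs1, hs2⟩
    -- `s ≫ p = 𝟙`
    obtain ⟨r, hr⟩ : ∃ r : CommRingCat.of A ⟶ CommRingCat.of A, Spec.map r = s ≫ p :=
      ⟨Spec.preimage (s ≫ p), Spec.map_preimage _⟩
    rw [← hr, ← Spec.map_id]
    congr 1
    apply hhom
    · apply Spec.map_injective
      rw [Spec.map_comp, Spec.map_comp, hr, reassoc_of% hs1, hx']
      simp
    · apply Spec.map_injective
      rw [Spec.map_comp, Spec.map_comp, hr, reassoc_of% hs2, hxt]
      simp

end Groth.Agent.S15769
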