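import Groth.Statements.S15770
import Mathlib.Topology.Instances.Matrix
import Mathlib.LinearAlgebra.Matrix.ToLin
import Mathlib.LinearAlgebra.Determinant

set_option autoImplicit false
universe u
open CAlg

namespace Groth.Agent.S15770

/-- Let B be a topological ring with Bˣ ⊂ B open and M, M' finitely generated projective B-modules, and
endow Hom_B(M, M') with the module topology (the canonical topology of a finite module). Then the
set of surjective B-linear maps M → M' is open. -/
theorem result (B : Type u) [CommRing B] [TopologicalSpace B]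
    [IsTopologicalRing B] (hB : IsOpen {b : B | IsUnit b})
    (M M' : Type u) [AddCommGroup M] [Module B M] [Module.Finite B M] [Module.Projective B M]
    [AddCommGroup M'] [Module B M'] [Module.Finite B M'] [Module.Projective B M']
    [TopologicalSpace (M →ₗ[B] M')] [IsModuleTopology B (M →ₗ[B] M')] :
    IsOpen {f : M →ₗ[B] M' | Function.Surjective f} := by
  classical
  obtain ⟨n, π, hπ⟩ := Module.Finite.exists_fin' B M'
  obtain ⟨σ, hσ⟩ := Module.projective_lifting_property π LinearMap.id hπ
  rw [isOpen_iff_forall_mem_open]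
  intro f hf
  obtain ⟨g, hg⟩ := Module.projective_lifting_property f LinearMap.id hf
  -- the affine-linear map `h ↦ σ ∘ h ∘ g ∘ π + (1 - σ ∘ π)`
  let L : (M →ₗ[B] M') →ₗ[B] Matrix (Fin n) (Fin n) B :=
    (LinearMap.toMatrix' (R := B) (m := Fin n) (n := Fin n)).toLinearMap ∘ₗ
      ((LinearMap.lcomp B (Fin n → B) (g ∘ₗ π)) ∘ₗ (LinearMap.compRight B σ))
  have hL : ∀ h, L h = LinearMap.toMatrix' ((σ ∘ₗ h) ∘ₗ (g ∘ₗ π)) := fun h => rfl
  have hcont : Continuous L := IsModuleTopology.continuous_of_linearMap L
  let E : Matrix (Fin n) (Fin n) B := LinearMap.toMatrix' (σ ∘ₗ π)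
  have hdet : Continuous fun h : M →ₗ[B] M' => (L h + (1 - E)).det :=
    (hcont.add continuous_const).matrix_det
  refine ⟨{h | IsUnit (L h + (1 - E)).det}, ?_, hB.preimage hdet, ?_⟩
  · intro h hh
    change Function.Surjective h
    have hu : IsUnit (L h + (1 - E)).det := hh
    have hu' : IsUnit (L h + (1 - E)) := (Matrix.isUnit_iff_isUnit_det _).mpr hu
    obtain ⟨U, hU⟩ := hu'
    -- the corresponding endomorphism is surjective
    have hT : Matrix.toLin' (L h + (1 - E)) = (σ ∘ₗ h) ∘ₗ (g ∘ₗ π) + (LinearMap.id - σ ∘ₗ π) := by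
      rw [map_add, map_sub, hL, Matrix.toLin'_toMatrix', Matrix.toLin'_one, Matrix.toLin'_toMatrix']
    intro y
    -- find `v` with `T v = σ y`
    let v : Fin n → B := Matrix.mulVec (↑U⁻¹ : Matrix (Fin n) (Fin n) B) (σ y)
    have hv : Matrix.toLin' (L h + (1 - E)) v = σ y := by
      rw [Matrix.toLin'_apply, ← hU]
      simp [v]
    rw [hT] at hv
    have hv' := congrArg π hv
    have hπσ : ∀ z, π (σ z) = z := fun z => LinearMap.congr_fun hσ z
    simp only [LinearMap.add_apply, LinearMap.sub_apply, LinearMap.comp_apply, LinearMap.id_apply,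
      map_add, map_sub, hπσ, sub_self, add_zero] at hv'
    exact ⟨_, hv'⟩
  · change IsUnit (L f + (1 - E)).det
    have : L f = E := by
      rw [hL]
      change _ = LinearMap.toMatrix' (σ ∘ₗ π)
      congr 1
      apply LinearMap.ext
      intro v
      have := LinearMap.congr_fun hg (π v)
      simp only [LinearMap.comp_apply, LinearMap.id_apply] at this ⊢
      rw [this]
    rw [this]
    simp

end Groth.Agent.S15770
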