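import Groth.Statements.S15771

set_option autoImplicit false
universe u
open TensorProduct
open CAlg

namespace Groth.Agent.S15771

/-- For a ring map B₀ → B with dense image into a topological ring B, a finitely generated B₀-module M₀
and any topological B-module structure on M = B ⊗_{B₀} M₀, the natural map M₀ → M has dense image. -/
theorem result (B₀ B : Type u) [CommRing B₀] [CommRing B] [Algebra B₀ B]
    [TopologicalSpace B] [IsTopologicalRing B] (hφ : DenseRange (algebraMap B₀ B))
    (M₀ : Type u) [AddCommGroup M₀] [Module B₀ M₀] [Module.Finite B₀ M₀]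
    [TopologicalSpace (B ⊗[B₀] M₀)] [IsTopologicalAddGroup (B ⊗[B₀] M₀)] [ContinuousSMul B (B ⊗[B₀] M₀)] :
    DenseRange (fun m : M₀ => (1 : B) ⊗ₜ[B₀] m) := by
  -- it suffices that every pure tensor, hence every finite sum, lies in the closure of the image
  have hclosure : ∀ x : B ⊗[B₀] M₀, x ∈ closure (Set.range fun m : M₀ => (1 : B) ⊗ₜ[B₀] m) := by
    let N : AddSubgroup (B ⊗[B₀] M₀) := (TensorProduct.mk B₀ B M₀ 1).toAddMonoidHom.range
    have hN : (N : Set (B ⊗[B₀] M₀)) = Set.range fun m : M₀ => (1 : B) ⊗ₜ[B₀] m := by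
      ext x; simp [N]
    have hcl : (N.topologicalClosure : Set (B ⊗[B₀] M₀)) =
        closure (Set.range fun m : M₀ => (1 : B) ⊗ₜ[B₀] m) := by
      rw [AddSubgroup.topologicalClosure_coe, hN]
    intro x
    rw [← hcl]
    induction x using TensorProduct.induction_on with
    | zero => exact N.topologicalClosure.zero_mem
    | add x y hx hy => exact N.topologicalClosure.add_mem hx hy
    | tmul b m =>
      have hcont : Continuous fun c : B => c • ((1 : B) ⊗ₜ[B₀] m) :=
        continuous_id.smul (continuous_const (y := (1 : B) ⊗ₜ[B₀] m))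
      have h1 : b ⊗ₜ[B₀] m = b • ((1 : B) ⊗ₜ[B₀] m) := by
        rw [TensorProduct.smul_tmul', smul_eq_mul, mul_one]
      rw [h1]
      have hb : b ∈ closure (Set.range (algebraMap B₀ B)) := hφ b
      have h2 := image_closure_subset_closure_image hcont ⟨b, hb, rfl⟩
      rw [hcl]
      refine closure_mono ?_ h2
      rintro _ ⟨_, ⟨c, rfl⟩, rfl⟩
      refine ⟨c • m, ?_⟩
      change (1 : B) ⊗ₜ[B₀] (c • m) = algebraMap B₀ B c • ((1 : B) ⊗ₜ[B₀] m)
      rw [algebraMap_smul, TensorProduct.tmul_smul]
  exact hclosure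

end Groth.Agent.S15771
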