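import Groth.Statements.S15772
import Groth.Agent.CAlg.K58.RankOne
import Groth.Agent.CAlg.K58.MatPt
import Groth.Agent.CAlg.K58.ProdSpec
import Groth.Agent.CAlg.K58.ElkikSch
import Groth.Agent.S0543

set_option autoImplicit false
universe u
open CategoryTheory AlgebraicGeometry
open CAlg

namespace Groth.Agent.S15772

open Limits K58 K58.ZPt K58.RowPt K58.RankOne K58.OpenLift

/-- The locus where the universal matrix has rank one. -/
noncomputable def T₀ (r N : ℕ) : (Spec (CommRingCat.of (RM.{u} r N))).Opens :=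
  ⨆ x : Fin r × Fin (N + 1), PrimeSpectrum.basicOpen (ent x.1 x.2 : RM.{u} r N)

theorem mem_T₀ {r N : ℕ} (x : PrimeSpectrum (RM.{u} r N)) :
    x ∈ T₀.{u} r N ↔ ∃ a j, (ent a j : RM.{u} r N) ∉ x.asIdeal := by
  constructor
  · intro h
    obtain ⟨⟨a, j⟩, hx⟩ := TopologicalSpace.Opens.mem_iSup.1 h
    exact ⟨a, j, hx⟩
  · rintro ⟨a, j, h⟩
    exact TopologicalSpace.Opens.mem_iSup.2 ⟨(a, j), h⟩

theorem exists_π (r N : ℕ) : ∃ π : (T₀.{u} r N).toScheme ⟶ CohB1.ProjSpace N Z.{u},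
    IsRow (T₀.{u} r N).ι ent π ∧ Smooth π := by
  have hc : ∀ x : T₀.{u} r N, ∃ a j, (ent a j : RM.{u} r N) ∉ ((T₀.{u} r N).ι x).asIdeal := fun x ↦
    (mem_T₀ x.1).1 x.2
  obtain ⟨π, hπ⟩ := exists_isRow (T₀.{u} r N).ι ent (fun a b i j ↦ ent_rel a b i j) hc
  exact ⟨π, hπ, smooth_of_isRow _ π hπ hc⟩

theorem exists_lift {B : Type u} [CommRing B] (O : (Spec (CommRingCat.of B)).Opens) {r N : ℕ}
    (p : O.toScheme ⟶ CohB1.ProjSpace N Z.{u}) (w : Fin r → Fin (N + 1) → B)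
    (hw : ∀ a b i j, w a i * w b j = w a j * w b i) (hp : IsRow O.ι w p) (hc : ∀ x : O, ∃ a j, w a j ∉ x.1.asIdeal)
    (π : (T₀.{u} r N).toScheme ⟶ CohB1.ProjSpace N Z.{u}) (hπ : IsRow (T₀.{u} r N).ι ent π) :
    ∃ g : O.toScheme ⟶ (T₀.{u} r N).toScheme,
      g ≫ (T₀.{u} r N).ι = O.ι ≫ Spec.map (CommRingCat.ofHom (lift w hw)) ∧ g ≫ π = p := by
  have hr : Set.range (O.ι ≫ Spec.map (CommRingCat.ofHom (lift w hw))) ⊆ Set.range (T₀.{u} r N).ι := by
    rw [Scheme.Opens.range_ι]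
    rintro _ ⟨x, rfl⟩
    obtain ⟨a, j, h⟩ := hc x
    refine (mem_T₀ (PrimeSpectrum.comap (lift w hw) x.1)).2 ⟨a, j, fun h' ↦ h ?_⟩
    have h2 : lift w hw (ent a j) ∈ x.1.asIdeal := h'
    rwa [lift_ent] at h2
  let g : O.toScheme ⟶ (T₀.{u} r N).toScheme := IsOpenImmersion.lift (T₀.{u} r N).ι _ hr
  have hg : g ≫ (T₀.{u} r N).ι = O.ι ≫ Spec.map (CommRingCat.ofHom (lift w hw)) := IsOpenImmersion.lift_fac _ _ _
  refine ⟨g, hg, ?_⟩
  have h1 : IsRow (O.ι ≫ Spec.map (CommRingCat.ofHom (lift w hw))) ent (g ≫ π) := by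
    rw [← hg]
    exact hπ.comp g
  have h2 := h1.base
  simp only [lift_ent] at h2
  exact h2.eq hp hc

theorem algZ_comp {A : Type u} [CommRing A] (T : Scheme.{u}) (f g : T ⟶ Spec (CommRingCat.of Z.{u})) : f = g :=
  specULiftZIsTerminal.hom_ext f g

/-- Let (A, J) be a Henselian pair with A Noetherian and J-adic completion Â, U an open of Spec A
containing the complement of V(J), and X ⊂ Z ⊂ P^N_U an open subscheme of a closed subscheme of
projective N-space over U whose restriction over Spec A ∖ V(J) is smooth. Then every point of X over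
U with values in U ×_A Â is congruent modulo J^n, for any n, to a section of X over U. The
comparison over A/J^n uses the restriction of Spec(A/J^n) → Spec Â to the preimages of U (the
inclusion of opens hle holds automatically and is carried as a hypothesis). (The published statement
allows X open in any projective U-scheme; this row takes the projective scheme to be a closed
subscheme of P^N_U.) -/
theorem result (A : Type u) [CommRing A] [IsNoetherianRing A] (J : Ideal A) [HenselianRing A J]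
    (U : (Spec (CommRingCat.of A)).Opens)
    (hU : ∀ q : PrimeSpectrum A, ¬ J ≤ q.asIdeal → q ∈ U)
    (N : ℕ) (Z X : Scheme.{u}) (κ : Z ⟶ CohB1.ProjSpaceOver N (U : Scheme.{u})) [IsClosedImmersion κ]
    (ι : X ⟶ Z) [IsOpenImmersion ι]
    (hsm : Smooth ((ι ≫ κ ≫ CohB1.ProjSpaceOver.toBase N (U : Scheme.{u})) ∣_
      (U.ι ⁻¹ᵁ ⟨(PrimeSpectrum.zeroLocus (J : Set A))ᶜ, (PrimeSpectrum.isClosed_zeroLocus (J : Set A)).isOpen_compl⟩)))
    (n : ℕ)
    (hle : (Spec.map (CommRingCat.ofHom (Ideal.Quotient.mk (J ^ n)))) ⁻¹ᵁ U ≤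
      (Spec.map (CommRingCat.ofHom (AdicCompletion.evalₐ J n).toRingHom)) ⁻¹ᵁ
        ((Spec.map (CommRingCat.ofHom (algebraMap A (AdicCompletion J A)))) ⁻¹ᵁ U))
    (xhat : ((Spec.map (CommRingCat.ofHom (algebraMap A (AdicCompletion J A)))) ⁻¹ᵁ U : Scheme.{u}) ⟶ X)
    (hxhat : xhat ≫ ι ≫ κ ≫ CohB1.ProjSpaceOver.toBase N (U : Scheme.{u}) =
      (Spec.map (CommRingCat.ofHom (algebraMap A (AdicCompletion J A)))) ∣_ U) :
    ∃ x : (U : Scheme.{u}) ⟶ X, x ≫ ι ≫ κ ≫ CohB1.ProjSpaceOver.toBase N (U : Scheme.{u}) = 𝟙 _ ∧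
      ((Spec.map (CommRingCat.ofHom (Ideal.Quotient.mk (J ^ n)))) ∣_ U) ≫ x =
        (Spec.map (CommRingCat.ofHom (AdicCompletion.evalₐ J n).toRingHom)).resLE _ _ hle ≫ xhat := by
  classical
  have hNN : IsNoetherianRing (AdicCompletion J A) := Groth.Agent.S0543.result A J
  let O := (Spec.map (CommRingCat.ofHom (algebraMap A (AdicCompletion J A)))) ⁻¹ᵁ U
  let PU : Scheme.{u} := CohB1.ProjSpaceOver N (U : Scheme.{u})
  let tb : PU ⟶ U := CohB1.ProjSpaceOver.toBase N (U : Scheme.{u})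
  let fstP : PU ⟶ CohB1.ProjSpace N K58.ZPt.Z.{u} := pullback.fst _ _
  let p : O.toScheme ⟶ CohB1.ProjSpace N K58.ZPt.Z.{u} := (xhat ≫ ι ≫ κ) ≫ fstP
  obtain ⟨r, w, hw, hrow, hcov⟩ := MatPt.exists_matrix O p
  obtain ⟨π, hπ, hπs⟩ := exists_π.{u} r N
  obtain ⟨g₀, hg₀, hg₀π⟩ := exists_lift O p w hw hrow hcov π hπ
  -- the product
  let UW : Scheme.{u} := pullback fstP π
  let W : Scheme.{u} := pullback (ι ≫ κ) (pullback.fst fstP π)
  let q : W ⟶ X := pullback.fst _ _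
  let e : W ⟶ UW := pullback.snd _ _
  have hqs : Smooth q := inferInstance
  have hei : IsImmersion e := inferInstance
  let b : UW ⟶ (T₀.{u} r N).toScheme := pullback.snd fstP π
  let a : UW ⟶ (U : Scheme.{u}) := pullback.fst fstP π ≫ tb
  have hP : IsPullback a b (U.ι ≫ Spec.map (CommRingCat.ofHom (@algebraMap K58.ZPt.Z.{u} A _ _ (algZ A))))
      ((T₀.{u} r N).ι ≫ Spec.map (CommRingCat.ofHom (@algebraMap K58.ZPt.Z.{u} (RM.{u} r N) _ _ (algZ (RM.{u} r N))))) := by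
    have h1 : IsPullback b (pullback.fst fstP π) π fstP := (IsPullback.of_hasPullback fstP π).flip
    have h2 : IsPullback fstP tb (CohB1.ProjSpace.toSpec N (ULift.{u} ℤ)) (specULiftZIsTerminal.from (U : Scheme.{u})) :=
      IsPullback.of_hasPullback _ _
    have h3 := (h1.paste_vert h2).flip
    rw [specULiftZIsTerminal.hom_ext (U.ι ≫ Spec.map (CommRingCat.ofHom (@algebraMap K58.ZPt.Z.{u} A _ _ (algZ A))))
      (specULiftZIsTerminal.from (U : Scheme.{u})), specULiftZIsTerminal.hom_ext ((T₀.{u} r N).ι ≫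
      Spec.map (CommRingCat.ofHom (@algebraMap K58.ZPt.Z.{u} (RM.{u} r N) _ _ (algZ (RM.{u} r N)))))
      (π ≫ CohB1.ProjSpace.toSpec N (ULift.{u} ℤ))]
    exact h3
  have hft : @Algebra.FiniteType K58.ZPt.Z.{u} (RM.{u} r N) _ _ (algZ (RM.{u} r N)) := by
    have h1 : (@algebraMap K58.ZPt.Z.{u} (RM.{u} r N) _ _ (algZ (RM.{u} r N))).FiniteType := by
      rw [ringHomZ_ext (@algebraMap K58.ZPt.Z.{u} (RM.{u} r N) _ _ (algZ (RM.{u} r N))) ((mk.{u} r N).comp MvPolynomial.C)]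
      exact finiteType_mk
    exact h1
  obtain ⟨P, _, _, _, ρ, i₀, hi₀, hPA, hPR, hext, huniv⟩ := @ProdSpec.exists_prod K58.ZPt.Z.{u} A (RM.{u} r N) _ _ _
    (algZ A) (algZ (RM.{u} r N)) hft UW U (T₀.{u} r N) U.ι (T₀.{u} r N).ι _ _ a b hP
  obtain ⟨σ₀, hσ₀⟩ := huniv (AdicCompletion J A) (lift w hw) (fun k ↦
    DFunLike.congr_fun (ringHomZ_ext ((lift w hw).comp (@algebraMap K58.ZPt.Z.{u} (RM.{u} r N) _ _ (algZ (RM.{u} r N))))
      ((algebraMap A (AdicCompletion J A)).comp (@algebraMap K58.ZPt.Z.{u} A _ _ (algZ A)))) k)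
  let i : W ⟶ Spec (CommRingCat.of P) := e ≫ i₀
  have hcond : q ≫ ι ≫ κ = e ≫ pullback.fst fstP π := pullback.condition
  have hiA : i ≫ Spec.map (CommRingCat.ofHom (algebraMap A P)) = q ≫ (ι ≫ κ ≫ tb) ≫ U.ι := by
    have h1 : (q ≫ ι ≫ κ) ≫ tb ≫ U.ι = (e ≫ pullback.fst fstP π) ≫ tb ≫ U.ι := by rw [hcond]
    simp only [Category.assoc] at h1 ⊢
    rw [h1, Category.assoc, hPA]
    simp only [a, Category.assoc]
  have c1 : (xhat ≫ ι ≫ κ) ≫ fstP = g₀ ≫ π := hg₀π.symm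
  let yU : O.toScheme ⟶ UW := pullback.lift (xhat ≫ ι ≫ κ) g₀ c1
  have c2 : xhat ≫ ι ≫ κ = yU ≫ pullback.fst fstP π := (pullback.lift_fst _ _ _).symm
  let y : O.toScheme ⟶ W := pullback.lift xhat yU c2
  have hyq : y ≫ q = xhat := pullback.lift_fst _ _ _
  have hye : y ≫ e = yU := pullback.lift_snd _ _ _
  have hy : y ≫ i = O.ι ≫ Spec.map (CommRingCat.ofHom σ₀.toRingHom) := by
    refine hext _ _ _ ?_ ?_
    · have h1 : σ₀.toRingHom.comp (algebraMap A P) = algebraMap A (AdicCompletion J A) := σ₀.comp_algebraMap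
      have h2 : (O.ι ≫ Spec.map (CommRingCat.ofHom σ₀.toRingHom)) ≫ Spec.map (CommRingCat.ofHom (algebraMap A P)) =
          O.ι ≫ Spec.map (CommRingCat.ofHom (algebraMap A (AdicCompletion J A))) := by
        rw [Category.assoc, ← spec_comp, h1]
      have h3 : (y ≫ i) ≫ Spec.map (CommRingCat.ofHom (algebraMap A P)) = (xhat ≫ ι ≫ κ ≫ tb) ≫ U.ι := by
        rw [Category.assoc, hiA, ← Category.assoc, hyq, ← Category.assoc]
      have h4 : xhat ≫ ι ≫ κ ≫ tb = (Spec.map (CommRingCat.ofHom (algebraMap A (AdicCompletion J A)))) ∣_ U := hxhat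
      rw [h2, h3, h4]
      exact morphismRestrict_ι _ _
    · have h1 : yU ≫ b = g₀ := pullback.lift_snd _ _ _
      have h2 : (O.ι ≫ Spec.map (CommRingCat.ofHom σ₀.toRingHom)) ≫ Spec.map (CommRingCat.ofHom ρ) =
          O.ι ≫ Spec.map (CommRingCat.ofHom (lift w hw)) := by
        rw [Category.assoc, ← spec_comp, hσ₀]
      have h3 : (y ≫ i) ≫ Spec.map (CommRingCat.ofHom ρ) = (yU ≫ b) ≫ (T₀.{u} r N).ι := by
        simp only [i, Category.assoc]
        rw [hPR, ← Category.assoc, hye]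
      rw [h2, h3, h1, hg₀]
  have hiU : ∀ x : W, (i ≫ Spec.map (CommRingCat.ofHom (algebraMap A P))) x ∈ U := by
    rw [hiA]
    intro x
    exact ((q ≫ ι ≫ κ ≫ tb) x).2
  obtain ⟨C₀, _, _, _, i', hi', σ, hi'A, hyi'⟩ := OpenLift.exists_open A P (AdicCompletion J A) U W i hiU σ₀ O
    (fun x hx ↦ hx) y hy
  -- the smooth locus
  let f : X ⟶ U := ι ≫ κ ≫ tb
  let DU : (U : Scheme.{u}).Opens :=
    U.ι ⁻¹ᵁ ⟨(PrimeSpectrum.zeroLocus (J : Set A))ᶜ, (PrimeSpectrum.isClosed_zeroLocus (J : Set A)).isOpen_compl⟩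
  have hf : Smooth (f ∣_ DU) := hsm
  have hi'f : i' ≫ Spec.map (CommRingCat.ofHom (algebraMap A C₀)) = q ≫ f ≫ U.ι := hi'A.trans hiA
  let D : W.Opens := q ⁻¹ᵁ (f ⁻¹ᵁ DU)
  have hD : ∀ x : W, ¬ J ≤ ((i' ≫ Spec.map (CommRingCat.ofHom (algebraMap A C₀))) x).asIdeal → x ∈ D := by
    rw [hi'f]
    exact fun x hx ↦ hx
  have hDs : Smooth (D.ι ≫ i' ≫ Spec.map (CommRingCat.ofHom (algebraMap A C₀))) := by
    have h1 : D.ι ≫ i' ≫ Spec.map (CommRingCat.ofHom (algebraMap A C₀)) =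
        (q ∣_ (f ⁻¹ᵁ DU)) ≫ (f ∣_ DU) ≫ DU.ι ≫ U.ι := by
      have m1 : (q ∣_ (f ⁻¹ᵁ DU)) ≫ (f ⁻¹ᵁ DU).ι = D.ι ≫ q := morphismRestrict_ι _ _
      have m2 : (f ∣_ DU) ≫ DU.ι = (f ⁻¹ᵁ DU).ι ≫ f := morphismRestrict_ι _ _
      calc D.ι ≫ i' ≫ Spec.map (CommRingCat.ofHom (algebraMap A C₀)) = (D.ι ≫ q) ≫ f ≫ U.ι := by
            rw [hi'f]
            exact (Category.assoc D.ι q (f ≫ U.ι)).symm
        _ = (q ∣_ (f ⁻¹ᵁ DU)) ≫ ((f ⁻¹ᵁ DU).ι ≫ f) ≫ U.ι := by
            rw [← m1]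
            simp only [Category.assoc]
        _ = _ := by
            rw [← m2]
            simp only [Category.assoc]
    rw [h1]
    infer_instance
  obtain ⟨τ, x₀, hx₀, hτ⟩ := ElkikSch.exists_section A J U hU C₀ W i' D hD σ y hyi' n
  refine ⟨x₀ ≫ q, ?_, ?_⟩
  · rw [← cancel_mono U.ι]
    have h1 : ((x₀ ≫ q) ≫ ι ≫ κ ≫ CohB1.ProjSpaceOver.toBase N (U : Scheme.{u})) ≫ U.ι =
        x₀ ≫ i' ≫ Spec.map (CommRingCat.ofHom (algebraMap A C₀)) := by
      rw [hi'f]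
      simp only [f, Category.assoc]
      rfl
    have h2 : τ.toRingHom.comp (algebraMap A C₀) = RingHom.id A := τ.comp_algebraMap
    rw [h1, ← Category.assoc, hx₀, Category.assoc, ← spec_comp, h2, Category.id_comp]
    exact (congrArg (U.ι ≫ ·) (Spec.map_id (CommRingCat.of A))).trans (Category.comp_id _)
  · have h1 : ((Spec.map (CommRingCat.ofHom (Ideal.Quotient.mk (J ^ n)))) ∣_ U) ≫ x₀ =
        (Spec.map (CommRingCat.ofHom (AdicCompletion.evalₐ J n).toRingHom)).resLE _ _ hle ≫ y := by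
      rw [← cancel_mono i', Category.assoc, hx₀, Category.assoc, hyi', ← Category.assoc, morphismRestrict_ι,
        ← Category.assoc, Scheme.Hom.resLE_comp_ι, Category.assoc, Category.assoc, ← spec_comp, ← spec_comp]
      congr 3
      exact congrArg AlgHom.toRingHom hτ
    rw [← Category.assoc, h1, Category.assoc, hyq]

end Groth.Agent.S15772
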