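import Groth.Statements.S15775
import Groth.Agent.Hensel.K141.FEtAway
import Groth.Agent.Hensel.K141.FEtCompl

set_option autoImplicit false
universe u
open CategoryTheory AlgebraicGeometry
open FEt

namespace Groth.Agent.S15775

/-- The instance A[1/t] → Â[1/t]: for (A, tA) a Henselian pair with bounded t-power torsion and Â the
t-adic completion, base change along Spec Â[1/t] → Spec A[1/t] is an equivalence of categories of
finite étale schemes. -/
theorem result (A : Type u) [CommRing A] (t : A) [HenselianRing A (Ideal.span {t})]
    (hbd : ∃ N : ℕ, ∀ a : A, (∃ m : ℕ, t ^ m * a = 0) → t ^ N * a = 0) :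
    (FEt.restrict (Spec.map (CommRingCat.ofHom (Localization.awayMap (algebraMap A (AdicCompletion (Ideal.span {t}) A)) t)))).IsEquivalence := by
  exact K141.Away.isEquivalence_awayMap (algebraMap A (AdicCompletion (Ideal.span {t}) A)) t
    inferInstance (K141.henselian_adicCompletion t) (K141.cong_adicCompletion t)

end Groth.Agent.S15775
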