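import Groth.Statements.S15776
import Groth.Agent.EtCoh.K23.FGMain

set_option autoImplicit false
universe u
open CategoryTheory CategoryTheory.Limits AlgebraicGeometry Opposite
open EtCoh

namespace Groth.Agent.S15776

/-- The instance A[1/t] → Â[1/t]: for (A, tA) a Henselian pair with bounded t-power torsion, Â the
t-adic completion and F a torsion abelian étale sheaf on Spec A[1/t], pullback along Spec Â[1/t] →
Spec A[1/t] is bijective on étale cohomology in every degree (exactness of the inverse image carried
as an instance binder). -/
theorem result (A : Type u) [CommRing A] (t : A) [HenselianRing A (Ideal.span {t})]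
    (hbd : ∃ N : ℕ, ∀ a : A, (∃ m : ℕ, t ^ m * a = 0) → t ^ N * a = 0)
    [PreservesFiniteLimits (EtCoh.pull (Spec.map (CommRingCat.ofHom (Localization.awayMap (algebraMap A (AdicCompletion (Ideal.span {t}) A)) t))))]
    (F : EtCoh.Ab (Spec (CommRingCat.of (Localization.Away t)))) (hF : EtCoh.IsTorsion F) (i : ℕ) :
    Function.Bijective (EtCore.Hpull (Spec.map (CommRingCat.ofHom (Localization.awayMap (algebraMap A (AdicCompletion (Ideal.span {t}) A)) t))) F i) := by
  have := K23.FGAway.henselianRing_hat_span A t
  exact K23.FGMain.Hpull_bijective_away t _ (algebraMap A (AdicCompletion (Ideal.span {t}) A)) rfl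
    (K23.FGAway.hat_inj_span A t) (K23.FGAway.hat_surj_span A t) _
    (fun a => IsLocalization.map_eq _ a) F hF i

end Groth.Agent.S15776
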