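import Groth.Statements.S15780
import Groth.Agent.Neron.K487.WeilOpen

set_option autoImplicit false
universe u
open CategoryTheory MonoidalCategory CartesianMonoidalCategory MonObj GrpObj AlgebraicGeometry
open Neron

namespace Groth.Agent.S15780

/-- Let R ⊆ R' be discrete valuation rings with R complete, R' a finite R-algebra and the residue field
of R algebraically closed, and write f for Spec R' → Spec R. Let N' be a smooth separated R'-group
scheme and j : N'₀ → N' an open immersion of group schemes whose image is the union of the identity
components of the fibres of N' (the identity component of N'). Let (W, q) be a Weil restriction of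
N' along f, endowed with a group structure for which the universal morphism q : W ×_R R' → N' is a
homomorphism, and let (W₀, q₀) be a Weil restriction of N'₀ along f. Then the morphism W₀ → W
corresponding to q₀ ≫ j under the universal property of W is an open immersion and its image is the
union of the identity components of the fibres of W: the identity component of the Weil restriction
is the Weil restriction of the identity component. (The published statement is for the Néron
lft-model of a semi-abelian variety over the fraction field of R', a finite separable extension of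
that of R; this row states it for any smooth separated group scheme over R'.) -/
theorem result
    (R : Type u) [CommRing R] [IsDomain R] [IsDiscreteValuationRing R]
    [IsAdicComplete (IsLocalRing.maximalIdeal R) R] [IsAlgClosed (IsLocalRing.ResidueField R)]
    (R' : Type u) [CommRing R'] [IsDomain R'] [IsDiscreteValuationRing R'] [Algebra R R']
    [Module.Finite R R'] [FaithfulSMul R R']
    (N' : Over (Spec (CommRingCat.of R'))) [GrpObj N'] [Smooth N'.hom] [IsSeparated N'.hom]
    (N'₀ : Over (Spec (CommRingCat.of R'))) [GrpObj N'₀] (j : N'₀ ⟶ N') [IsMonHom j] [IsOpenImmersion j.left]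
    (hj : Set.range j.left.base = SGA3x.neutralSet N')
    (W : Over (Spec (CommRingCat.of R))) [GrpObj W]
    (q : Red.bc (Spec.map (CommRingCat.ofHom (algebraMap R R'))) W ⟶ N') [IsMonHom q]
    (hW : WeilRes.IsWeilRes (Spec.map (CommRingCat.ofHom (algebraMap R R'))) N' W q)
    (W₀ : Over (Spec (CommRingCat.of R)))
    (q₀ : Red.bc (Spec.map (CommRingCat.ofHom (algebraMap R R'))) W₀ ⟶ N'₀)
    (hW₀ : WeilRes.IsWeilRes (Spec.map (CommRingCat.ofHom (algebraMap R R'))) N'₀ W₀ q₀) :
    IsOpenImmersion (hW.lift W₀ (q₀ ≫ j)).left ∧
      Set.range (hW.lift W₀ (q₀ ≫ j)).left.base = SGA3x.neutralSet W := by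
  have hfin := K487.WeilOpen.isFinite_specMap R R'
  have hcl : IsClosedMap (Limits.pullback.fst W.hom (Spec.map (CommRingCat.ofHom (algebraMap R R')))) :=
    Scheme.Hom.isClosedMap _
  obtain ⟨h1, h2⟩ := K487.WeilOpen.weil_open j hW hW₀ hcl
  refine ⟨h1, ?_⟩
  refine h2.trans ?_
  ext w
  rw [K487.WeilNeutral.mem_neutral_iff (K487.WeilOpen.injective_specMap R R') hW w, ← hj]
  rfl

end Groth.Agent.S15780
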