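import Groth.Statements.S15784
import Mathlib.Tactic

set_option autoImplicit false
universe u
open Neron

namespace Groth.Agent.S15784

/-- In a DVR: if `v * ϖ'^k` (in the fraction field) is the image of a unit, `v` a unit, then `k = 0`. -/
private theorem zpow_eq_zero_of_unit {O : Type u} [CommRing O] [IsDomain O] [IsDiscreteValuationRing O]
    {L : Type u} [Field L] [Algebra O L] [IsFractionRing O L]
    {ϖ' : O} (hϖ' : Irreducible ϖ') (v w : Oˣ) (k : ℤ)
    (h : algebraMap O L v * algebraMap O L ϖ' ^ k = algebraMap O L w) : k = 0 := by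
  have hinj : Function.Injective (algebraMap O L) := IsFractionRing.injective O L
  have hne : algebraMap O L ϖ' ≠ 0 := by
    intro h0
    exact hϖ'.ne_zero (hinj (by rw [h0, map_zero]))
  have hnu : ¬ IsUnit ϖ' := hϖ'.not_isUnit
  rcases lt_trichotomy k 0 with hk | hk | hk
  · -- k < 0 : v = w * ϖ'^(-k)
    exfalso
    obtain ⟨n, hn⟩ : ∃ n : ℕ, k = -((n : ℤ) + 1) := ⟨(-k - 1).toNat, by omega⟩
    rw [hn, zpow_neg] at h
    have h2 : algebraMap O L v = algebraMap O L w * algebraMap O L ϖ' ^ ((n : ℤ) + 1) := by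
      rw [← h, mul_assoc, inv_mul_cancel₀ (zpow_ne_zero _ hne), mul_one]
    have h3 : (v : O) = w * ϖ' ^ (n + 1) := by
      apply hinj
      rw [h2, map_mul, map_pow]
      norm_cast
    apply hnu
    have h4 : IsUnit ((w : O) * ϖ' ^ (n + 1)) := h3 ▸ v.isUnit
    exact (isUnit_pow_iff (Nat.succ_ne_zero n)).mp (isUnit_of_mul_isUnit_right h4)
  · exact hk
  · exfalso
    obtain ⟨n, hn⟩ : ∃ n : ℕ, k = ((n : ℤ) + 1) := ⟨(k - 1).toNat, by omega⟩
    rw [hn] at h
    have h3 : (w : O) = v * ϖ' ^ (n + 1) := by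
      apply hinj
      rw [← h, map_mul, map_pow]
      norm_cast
    apply hnu
    have h4 : IsUnit ((v : O) * ϖ' ^ (n + 1)) := h3 ▸ w.isUnit
    exact (isUnit_pow_iff (Nat.succ_ne_zero n)).mp (isUnit_of_mul_isUnit_right h4)

/-- Let O be a discrete valuation ring with fraction field L and uniformizer ϖ', let ϖ be an element of
the maximal ideal of O, let q = u·ϖ'^n with u a unit of O and n ≥ 1, and let m ≥ 1 be a divisor of
n. Then the following are equivalent: (i) there is a nonzero element z = w·ϖ'^a of L, with w a unit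
of O and a an integer congruent to n/m modulo n, and an integer j such that z^m·q^j lies in 1 + ϖO;
(ii) ϖ'^n/q is an m-th power in the group of units of O/ϖO, that is, u·(y^m + ϖ·r) = 1 for some y, r
∈ O. (The published statement phrases (i) geometrically, as the existence of a point of order m in
the special fibre of the Néron model of the Weil restriction of the Tate curve with parameter q from
L down to a subfield over which L is totally ramified with ϖ a uniformizer of the subfield, whose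
image in the component group also has order m; this row states the equivalence between (i) and (ii)
that the printed argument establishes.) -/
theorem result
    (O : Type u) [CommRing O] [IsDomain O] [IsDiscreteValuationRing O]
    (L : Type u) [Field L] [Algebra O L] [IsFractionRing O L]
    (ϖ' : O) (hϖ' : Irreducible ϖ') (ϖ : O) (hϖ : ϖ ∈ IsLocalRing.maximalIdeal O)
    (n : ℕ) (hn : 1 ≤ n) (u : Oˣ) (q : O) (hq : q = u * ϖ' ^ n)
    (m : ℕ) (hm : 1 ≤ m) (hmn : m ∣ n) :
    (∃ (w : Oˣ) (a j t : ℤ) (r : O), a = (n / m : ℕ) + t * n ∧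
        (algebraMap O L w * algebraMap O L ϖ' ^ a) ^ m * algebraMap O L q ^ j = algebraMap O L (1 + ϖ * r)) ↔
      ∃ y r : O, (u : O) * (y ^ m + ϖ * r) = 1 := by
  have hinj : Function.Injective (algebraMap O L) := IsFractionRing.injective O L
  have hne : algebraMap O L ϖ' ≠ 0 := by
    intro h0
    exact hϖ'.ne_zero (hinj (by rw [h0, map_zero]))
  have hunit : ∀ r : O, IsUnit (1 + ϖ * r) := by
    intro r
    by_contra hcon
    have h1 : (1 + ϖ * r) ∈ IsLocalRing.maximalIdeal O := (IsLocalRing.mem_maximalIdeal _).mpr hcon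
    have h2 : ϖ * r ∈ IsLocalRing.maximalIdeal O := Ideal.mul_mem_right _ _ hϖ
    have h3 : (1 : O) ∈ IsLocalRing.maximalIdeal O := by
      have := Ideal.sub_mem _ h1 h2
      simpa using this
    exact (IsLocalRing.mem_maximalIdeal _).mp h3 isUnit_one
  -- the unit map to L
  let φ : Oˣ →* Lˣ := Units.map (algebraMap O L).toMonoidHom
  have hφ : ∀ x : Oˣ, ((φ x : Lˣ) : L) = algebraMap O L x := fun x => rfl
  constructor
  · rintro ⟨w, a, j, t, r, ha, h⟩
    obtain ⟨s, hs⟩ := hunit r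
    have hmn' : m * (n / m) = n := Nat.mul_div_cancel' hmn
    have key : algebraMap O L ((w ^ m * u ^ j : Oˣ) : O) * algebraMap O L ϖ' ^ (a * m + n * j) =
        algebraMap O L s := by
      rw [hs, ← h, hq, map_mul, map_pow, mul_pow, mul_zpow, zpow_add₀ hne, zpow_mul, zpow_mul]
      rw [← hφ (w ^ m * u ^ j), map_mul, map_pow, map_zpow, Units.val_mul, Units.val_pow_eq_pow_val,
        Units.val_zpow_eq_zpow_val, hφ, hφ, zpow_natCast, zpow_natCast]
      ring
    have hk := zpow_eq_zero_of_unit (L := L) hϖ' _ s _ key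
    rw [hk, zpow_zero, mul_one] at key
    have key2 : w ^ m * u ^ j = s := Units.ext (hinj key)
    have hj : j = -(1 + t * m) := by
      have hn0 : (n : ℤ) ≠ 0 := by exact_mod_cast (by omega : n ≠ 0)
      have h1 : (n : ℤ) * (1 + t * m + j) = 0 := by
        have h2 : (m : ℤ) * ((n / m : ℕ) : ℤ) = n := by exact_mod_cast hmn'
        calc (n : ℤ) * (1 + t * m + j) = (m : ℤ) * ((n / m : ℕ) : ℤ) + t * n * m + n * j := by
              rw [h2]; ring
          _ = 0 := by rw [← hk, ha]; ring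
      rcases mul_eq_zero.mp h1 with h2 | h2
      · exact absurd h2 hn0
      · omega
    -- y = (w * u^(-t))⁻¹
    refine ⟨((w * u ^ (-t))⁻¹ : Oˣ), ((u⁻¹ : Oˣ) : O) * ((s⁻¹ : Oˣ) : O) * r, ?_⟩
    have hy : ((w * u ^ (-t))⁻¹ : Oˣ) ^ m = u⁻¹ * s⁻¹ := by
      rw [← key2, hj, inv_pow, mul_pow, ← zpow_natCast (u ^ (-t)), ← zpow_mul, neg_mul, neg_add, zpow_add]
      simp only [zpow_neg, zpow_one, mul_inv_rev, inv_inv]
      group
    have hy' : (((w * u ^ (-t))⁻¹ : Oˣ) : O) ^ m = ((u⁻¹ : Oˣ) : O) * ((s⁻¹ : Oˣ) : O) := by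
      rw [← Units.val_pow_eq_pow_val, hy, Units.val_mul]
    rw [hy']
    have e1 : (u : O) * ((u⁻¹ : Oˣ) : O) = 1 := u.mul_inv
    have e2 : (1 + ϖ * r) * ((s⁻¹ : Oˣ) : O) = 1 := by rw [← hs]; exact s.mul_inv
    calc (u : O) * (((u⁻¹ : Oˣ) : O) * ((s⁻¹ : Oˣ) : O) + ϖ * (((u⁻¹ : Oˣ) : O) * ((s⁻¹ : Oˣ) : O) * r))
        = ((u : O) * ((u⁻¹ : Oˣ) : O)) * ((1 + ϖ * r) * ((s⁻¹ : Oˣ) : O)) := by ring
      _ = 1 := by rw [e1, e2, one_mul]
  · rintro ⟨y, r, h⟩
    have hmn' : m * (n / m) = n := Nat.mul_div_cancel' hmn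
    obtain ⟨s, hs⟩ := hunit (-(u * r))
    have h1 : (u : O) * y ^ m = s := by rw [hs, ← h]; ring
    have hyu : IsUnit (y ^ m) := isUnit_of_mul_isUnit_right (h1 ▸ s.isUnit)
    have hyu' : IsUnit y := (isUnit_pow_iff (by omega : m ≠ 0)).mp hyu
    obtain ⟨y', rfl⟩ := hyu'
    have h2 : u * y' ^ m = s := Units.ext (by simpa using h1)
    refine ⟨y'⁻¹, (n / m : ℕ), -1, 0, ((s⁻¹ : Oˣ) : O) * (u * r), by simp, ?_⟩
    have e2 : (1 + ϖ * -(u * r)) * ((s⁻¹ : Oˣ) : O) = 1 := by rw [← hs]; exact s.mul_inv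
    have e3 : 1 + ϖ * (((s⁻¹ : Oˣ) : O) * (u * r)) = ((s⁻¹ : Oˣ) : O) := by
      linear_combination -e2
    rw [e3, ← h2, hq, mul_pow, ← zpow_natCast (algebraMap O L ϖ' ^ _), ← zpow_mul, zpow_neg, zpow_one,
      map_mul, map_pow]
    have h4 : (((n / m : ℕ) : ℤ) * (m : ℤ)) = (n : ℤ) := by
      rw [mul_comm]; exact_mod_cast hmn'
    rw [h4, zpow_natCast, mul_inv]
    have h5 : algebraMap O L ((y'⁻¹ : Oˣ) : O) = (algebraMap O L y')⁻¹ := by
      rw [← hφ, ← hφ, map_inv, Units.val_inv_eq_inv_val]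
    have h6 : algebraMap O L (((u * y' ^ m)⁻¹ : Oˣ) : O) = (algebraMap O L u * algebraMap O L y' ^ m)⁻¹ := by
      rw [← hφ, map_inv, Units.val_inv_eq_inv_val, hφ]; simp
    rw [h5, h6, mul_inv, inv_pow]
    have hne' : algebraMap O L ϖ' ^ n ≠ 0 := pow_ne_zero _ hne
    field_simp

end Groth.Agent.S15784
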