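import Groth.Statements.S15785
import Groth.Agent.Neron.K491.MultRed

set_option autoImplicit false
universe u
open CategoryTheory MonoidalCategory CartesianMonoidalCategory MonObj GrpObj AlgebraicGeometry
open Neron

namespace Groth.Agent.S15785

/-- Let R ⊆ R' be discrete valuation rings with fraction fields K ⊆ L, R complete with algebraically
closed residue field, R' a finite R-algebra, and L a finite Galois extension of K. Let E be an
abelian variety over L (a proper, geometrically integral L-group scheme) with a Néron model N_E over
R' (a Néron model of its own generic fibre, identified with E by an isomorphism of group schemes)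
having purely multiplicative reduction: the special fibre of N_E contains a torus as an open
subgroup scheme (its identity component is a torus). Let (A, q) be a Weil restriction of E along
Spec L → Spec K, endowed with a group structure for which q : A ×_K L → E is a homomorphism, and let
N_A be a Néron model over R' whose generic fibre is identified with A ×_K L by an isomorphism of
group schemes. Then the special fibre of N_A contains a torus as an open subgroup scheme: A ×_K L
has purely multiplicative reduction. (The published statement takes for E the Tate curve attached to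
an element q of positive valuation of L, an elliptic curve; this row states it for any abelian
variety over L with purely multiplicative reduction.) -/
theorem result
    (R : Type u) [CommRing R] [IsDomain R] [IsDiscreteValuationRing R]
    [IsAdicComplete (IsLocalRing.maximalIdeal R) R] [IsAlgClosed (IsLocalRing.ResidueField R)]
    (R' : Type u) [CommRing R'] [IsDomain R'] [IsDiscreteValuationRing R'] [Algebra R R']
    [Module.Finite R R'] [FaithfulSMul R R']
    (K L : Type u) [Field K] [Field L] [Algebra R K] [IsFractionRing R K] [Algebra R' L] [IsFractionRing R' L]
    [Algebra K L] [Algebra R L] [IsScalarTower R K L] [IsScalarTower R R' L] [FiniteDimensional K L] [IsGalois K L]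
    (E : Over (Spec (CommRingCat.of L))) [GrpObj E] [IsProper E.hom] [GeometricallyIntegral E.hom]
    (N_E : Over (Spec (CommRingCat.of R'))) [GrpObj N_E] (hNE : SGA7.IsNeron R' L N_E)
    (e_E : (SGA7.genFib R' L).obj N_E ≅ E) [IsMonHom e_E.hom]
    (T_E : Over (Spec (CommRingCat.of (IsLocalRing.ResidueField R')))) [GrpObj T_E]
    (i_E : T_E ⟶ Red.bc (Spec.map (CommRingCat.ofHom (IsLocalRing.residue R'))) N_E) [IsMonHom i_E] [IsOpenImmersion i_E.left] (hT_E : Red.IsTorus T_E)
    (A : Over (Spec (CommRingCat.of K))) [GrpObj A]
    (q : Red.bc (Spec.map (CommRingCat.ofHom (algebraMap K L))) A ⟶ E) [IsMonHom q] (hA : WeilRes.IsWeilRes (Spec.map (CommRingCat.ofHom (algebraMap K L))) E A q)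
    (N_A : Over (Spec (CommRingCat.of R'))) [GrpObj N_A] (hNA : SGA7.IsNeron R' L N_A)
    (e_A : (SGA7.genFib R' L).obj N_A ≅ Red.bc (Spec.map (CommRingCat.ofHom (algebraMap K L))) A) [IsMonHom e_A.hom] :
    ∃ (T : Over (Spec (CommRingCat.of (IsLocalRing.ResidueField R')))) (_ : GrpObj T)
      (i : T ⟶ Red.bc (Spec.map (CommRingCat.ofHom (IsLocalRing.residue R'))) N_A), IsMonHom i ∧ IsOpenImmersion i.left ∧ Red.IsTorus T := by
  have h1 : IsAlgClosed (IsLocalRing.ResidueField R') := K491.MultRed.isAlgClosed_residueField R R'
  have h2 : K491.MultRed.Mult R' L E :=
    ⟨N_E, inferInstance, T_E, inferInstance, e_E, i_E, hNE, inferInstance, inferInstance, inferInstance, hT_E⟩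
  exact (h2.weil R R' K L q hA).exists_torus N_A hNA e_A

end Groth.Agent.S15785
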