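import Groth.Statements.S15786
import Groth.Agent.TateGlob.K282.BrHN
import Groth.Agent.TateGlob.K829.FunBase

set_option autoImplicit false
universe u
open TateGlob

namespace Groth.Agent.S15786

open CategoryTheory AlgebraicGeometry in
/-- Let K be a global function field, a finite extension of the rational function field over a finite
field Fq, and let k' be a finite separable field extension of K. Let R = R_{k'/K}(𝔾_m) be the Weil
restriction of the multiplicative group, as the abelian sheaf on the big fppf site of Spec K given
by the direct image of 𝔾_m along Spec k' → Spec K. Then Ш^2(K, R) = 0: a class in H^2(K, R) whose
restriction to H^2(K_v, R) vanishes for every place v of K is zero. (The published statement is that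
every almost-torus over K is the image, under a surjective homomorphism, of an almost-torus whose
Ш^2 vanishes; this row states the case of that vanishing which the published argument establishes in
full, the Weil restriction of the multiplicative group along a finite separable extension — there
stated for the Weil restriction of any split k'-torus, a finite product of copies of this case —
with Ш defined by the local conditions at all places.) -/
theorem result (Fq : Type u) [Field Fq] [Finite Fq] (K : Type u) [Field K] [Algebra (RatFunc Fq) K] [FunctionField Fq K]
    [Algebra Fq K] [IsScalarTower Fq (RatFunc Fq) K]
    (k' : Type u) [Field k'] [Algebra K k'] [FiniteDimensional K k'] [Algebra.IsSeparable K k'] :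
    AdFn.ShaLoc Scheme.fppfPrecoverage Fq (CGrpSh3.pushGm Scheme.fppfPrecoverage (Spec.map (CommRingCat.ofHom (algebraMap K k')))) 2 = ⊥ := by
  let _ : Algebra Fq k' := ((algebraMap K k').comp (algebraMap Fq K)).toAlgebra
  have _ : IsScalarTower Fq K k' := IsScalarTower.of_algebraMap_eq fun _ => rfl
  exact K282.BrHN.shaLoc_pushGm (k := Fq) (F := K) (E := k') (K829.FunBase.isGen Fq K)

end Groth.Agent.S15786
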