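import Groth.Statements.S15789
import Groth.Agent.WildQuot.K873.ASPow
import Groth.Agent.WildQuot.K873.ASAut

set_option autoImplicit false
universe u
open WildQuot

namespace Groth.Agent.S15789

open MvPolynomial in
/-- Let `k` be a field of characteristic `p > 0`, `n ≥ 2`, `R = k[[x_1, …, x_n]]`, `a_1, …, a_n ∈ R`
nonzero with zero constant term, and `A = R[u_1, …, u_n] / (u_i ^ p - a_i ^ (p-1) u_i - x_i : i =
1..n)`. Then the group of `R`-algebra automorphisms of `A` has exactly `p ^ n` elements, is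
commutative and every element has `p`-th power the identity (it is the elementary abelian group
generated by the substitutions `u_i ↦ u_i + a_i`), and an element of `A` is fixed by every
`R`-algebra automorphism if and only if it comes from `R`. (The published statement says that
`Frac(A)/Frac(R)` is Galois with group `(ℤ/pℤ)^n` and `R = A^H`; this row states it through the
`R`-algebra automorphisms of `A`.) -/
theorem result
    (p : ℕ) [Fact p.Prime] (k : Type u) [Field k] [CharP k p] (n : ℕ) (hn : 2 ≤ n)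
    (a : Fin n → MvPowerSeries (Fin n) k)
    (ha0 : ∀ i, a i ≠ 0) (ham : ∀ i, MvPowerSeries.constantCoeff (a i) = 0) :
    let R := MvPowerSeries (Fin n) k
    let I : Ideal (MvPolynomial (Fin n) R) :=
      Ideal.span (Set.range fun i : Fin n =>
        X i ^ p - C (a i ^ (p - 1)) * X i - C (MvPowerSeries.X i))
    Nat.card ((MvPolynomial (Fin n) R ⧸ I) ≃ₐ[R] (MvPolynomial (Fin n) R ⧸ I)) = p ^ n ∧
      (∀ σ τ : (MvPolynomial (Fin n) R ⧸ I) ≃ₐ[R] (MvPolynomial (Fin n) R ⧸ I), σ * τ = τ * σ) ∧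
      (∀ σ : (MvPolynomial (Fin n) R ⧸ I) ≃ₐ[R] (MvPolynomial (Fin n) R ⧸ I), σ ^ p = 1) ∧
      (∀ b : MvPolynomial (Fin n) R ⧸ I,
        (∀ σ : (MvPolynomial (Fin n) R ⧸ I) ≃ₐ[R] (MvPolynomial (Fin n) R ⧸ I), σ b = b) ↔
          b ∈ Set.range (algebraMap R (MvPolynomial (Fin n) R ⧸ I))) := by
  intro R I
  have hp : 2 ≤ p := (Fact.out : p.Prime).two_le
  have hchar : CharP (MvPowerSeries (Fin n) k) p :=
    charP_of_injective_algebraMap
      (FaithfulSMul.algebraMap_injective k (MvPowerSeries (Fin n) k)) p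
  have hRdom : IsDomain (MvPowerSeries (Fin n) k) := NoZeroDivisors.to_isDomain _
  have hAdom := K873.ASPow.isDomain p a hp ham
  have hsurj := K873.ASAut.sh_surjective p a (MvPowerSeries.X : Fin n → MvPowerSeries (Fin n) k) ha0
  refine ⟨?_, fun σ τ => ?_, fun σ => ?_, fun b => ⟨fun hb => ?_, ?_⟩⟩
  · have h := K873.ASAut.card_aut p a (MvPowerSeries.X : Fin n → MvPowerSeries (Fin n) k) ha0
    rw [Fintype.card_fin] at h
    exact h
  · obtain ⟨c, rfl⟩ := hsurj σ
    obtain ⟨d, rfl⟩ := hsurj τ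
    rw [← K873.ASAut.sh_add, ← K873.ASAut.sh_add, add_comm]
  · obtain ⟨c, rfl⟩ := hsurj σ
    rw [← K873.ASAut.sh_nsmul, show p • c = 0 from by ext i; simp, K873.ASAut.sh_zero]
  · exact K873.ASAut.mem_range_of_fixed p a _ ha0 b hb
  · rintro ⟨r, rfl⟩ σ
    exact σ.commutes r

end Groth.Agent.S15789
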