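import Groth.Statements.S15795
import Mathlib.RingTheory.Nakayama
import Mathlib.RingTheory.Ideal.Maps

set_option autoImplicit false
universe u v
open WildQuot

namespace Groth.Agent.S15795

open IsLocalRing in
theorem map_maximalIdeal {A : Type u} [CommRing A] [IsLocalRing A] {G : Type v} [Group G]
    [MulSemiringAction G A] (σ : G) {a : A} (ha : a ∈ maximalIdeal A) :
    σ • a ∈ maximalIdeal A := by
  rw [mem_maximalIdeal, mem_nonunits_iff] at ha ⊢
  intro h
  apply ha
  have := h.map (MulSemiringAction.toRingHom G A σ⁻¹)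
  simpa using this

open IsLocalRing in
theorem core {A : Type u} [CommRing A] [IsLocalRing A] [IsNoetherianRing A]
    {G : Type v} [Group G] [MulSemiringAction G A]
    (n : ℕ) (u : Fin n → A)
    (hu : Ideal.span (Set.range u) = maximalIdeal A)
    (htri : ∀ (σ : G) (i : Fin n),
      σ • u i ∈ Ideal.span (u '' {j | j ≤ i}) ⊔ maximalIdeal A ^ 2) :
    ∀ τ : Fin n → G,
      Ideal.span (Set.range fun i => τ i • u i) = maximalIdeal A := by
  intro τ
  have hum : ∀ i, u i ∈ maximalIdeal A := fun i => hu ▸ Ideal.subset_span ⟨i, rfl⟩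
  let V : ℕ → Ideal A := fun k => Ideal.span (u '' {j | j.val < k}) ⊔ maximalIdeal A ^ 2
  have hVle : ∀ (σ : G) (k : ℕ), (V k).map (MulSemiringAction.toRingHom G A σ) ≤ V k := by
    intro σ k
    rw [Ideal.map_sup, sup_le_iff]
    constructor
    · rw [Ideal.map_span, Ideal.span_le]
      rintro _ ⟨_, ⟨j, hj, rfl⟩, rfl⟩
      have h0 : (u '' {l | l ≤ j}) ⊆ u '' {l | l.val < k} := by
        refine Set.image_mono ?_
        intro l hl
        exact lt_of_le_of_lt (Fin.le_def.mp hl) hj
      exact (sup_le_sup (Ideal.span_mono h0) le_rfl : _ ≤ V k) (htri σ j)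
    · rw [Ideal.map_pow]
      refine le_sup_of_le_right (Ideal.pow_right_mono ?_ 2)
      rw [Ideal.map_le_iff_le_comap]
      intro a ha
      exact map_maximalIdeal σ ha
  have hV : ∀ (σ : G) (k : ℕ) (a : A), σ • a ∈ V k ↔ a ∈ V k := by
    intro σ k a
    constructor
    · intro h
      have := hVle σ⁻¹ k (Ideal.mem_map_of_mem _ h)
      simpa using this
    · intro h
      exact hVle σ k (Ideal.mem_map_of_mem _ h)
  set N : Ideal A := Ideal.span (Set.range fun i => τ i • u i) with hN
  have hle : N ≤ maximalIdeal A := by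
    rw [hN, Ideal.span_le]
    rintro _ ⟨i, rfl⟩
    exact map_maximalIdeal _ (hum i)
  have hVN : ∀ k : ℕ, V k ≤ N ⊔ maximalIdeal A ^ 2 := by
    intro k
    induction k with
    | zero =>
      simp [V]
    | succ k ih =>
      refine sup_le (Ideal.span_le.mpr ?_) le_sup_right
      rintro _ ⟨j, hj, rfl⟩
      rcases Nat.lt_succ_iff_lt_or_eq.mp hj with hj | hj
      · exact ih (le_sup_left (a := Ideal.span (u '' {j | j.val < k})) (Ideal.subset_span ⟨j, hj, rfl⟩))
      · have h1 : u j ∈ V (k + 1) :=
          le_sup_left (a := Ideal.span (u '' {j | j.val < k + 1}))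
            (Ideal.subset_span ⟨j, by simp [hj], rfl⟩)
        have h2 : (τ j)⁻¹ • u j ∈ V (k + 1) := (hV _ _ _).mpr h1
        have h3 : V (k + 1) = V k ⊔ Ideal.span {u j} := by
          have : (u '' {l : Fin n | l.val < k + 1}) = u '' {l : Fin n | l.val < k} ∪ {u j} := by
            ext x
            constructor
            · rintro ⟨l, hl, rfl⟩
              rcases Nat.lt_succ_iff_lt_or_eq.mp hl with hl | hl
              · exact Or.inl ⟨l, hl, rfl⟩
              · right
                have : l = j := Fin.ext (hl.trans hj.symm)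
                simp [this]
            · rintro (⟨l, hl, rfl⟩ | hx)
              · exact ⟨l, Nat.lt_succ_of_lt hl, rfl⟩
              · rw [Set.mem_singleton_iff] at hx
                exact ⟨j, by simp [hj], hx.symm⟩
          simp only [V]
          rw [this, Ideal.span_union, sup_right_comm]
        rw [h3, Submodule.mem_sup] at h2
        obtain ⟨v, hv, w, hw, hvw⟩ := h2
        obtain ⟨c, rfl⟩ := Ideal.mem_span_singleton'.mp hw
        have h4 : u j = τ j • v + (τ j • c) * (τ j • u j) := by
          rw [← smul_mul', ← smul_add, hvw, smul_inv_smul]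
        have h5 : τ j • v ∈ N ⊔ maximalIdeal A ^ 2 := ih ((hV _ _ _).mpr hv)
        have h6 : (τ j • c) * (τ j • u j) ∈ N ⊔ maximalIdeal A ^ 2 :=
          le_sup_left (a := N) (N.mul_mem_left _ (Ideal.subset_span ⟨j, rfl⟩))
        show u j ∈ N ⊔ maximalIdeal A ^ 2
        rw [h4]
        exact Ideal.add_mem _ h5 h6
  refine le_antisymm hle ?_
  refine Submodule.le_of_le_smul_of_le_jacobson_bot (I := maximalIdeal A)
    (IsNoetherian.noetherian _) (maximalIdeal_le_jacobson _) ?_
  have h1 : maximalIdeal A ≤ V n := by
    rw [← hu]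
    refine le_sup_of_le_left (Ideal.span_mono ?_)
    rintro _ ⟨i, rfl⟩
    exact ⟨i, i.2, rfl⟩
  refine h1.trans ((hVN n).trans ?_)
  rw [smul_eq_mul, pow_two]

/-- Let `A` be a regular local ring of Krull dimension `n` with maximal ideal `m`, let a finite group
`G` act on `A` by ring automorphisms inducing the identity on the residue field, and let `u_1, …,
u_n` generate `m`. Suppose that for every `σ ∈ G` and every `i`, `σ u_i ∈ (u_1, …, u_i) + m ^ 2`,
i.e. the induced linear maps of `m / m ^ 2` are upper triangular in the basis given by the `u_i`.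
Then the system `u` is admissible: for every choice `σ_1, …, σ_n ∈ G` the elements `σ_1 u_1, …, σ_n
u_n` generate `m`. (The published statement is for a complete regular local ring containing a
`G`-fixed field of representatives; this row drops completeness and asks only that `G` act trivially
on the residue field.) -/
theorem result
    (A : Type u) [CommRing A] [IsRegularLocalRing A]
    (G : Type v) [Group G] [Finite G] [MulSemiringAction G A]
    (hres : ∀ (σ : G) (a : A), σ • a - a ∈ IsLocalRing.maximalIdeal A)
    (n : ℕ) (hn : ringKrullDim A = n) (u : Fin n → A)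
    (hu : Ideal.span (Set.range u) = IsLocalRing.maximalIdeal A)
    (htri : ∀ (σ : G) (i : Fin n),
      σ • u i ∈ Ideal.span (u '' {j | j ≤ i}) ⊔ IsLocalRing.maximalIdeal A ^ 2) :
    ∀ τ : Fin n → G,
      Ideal.span (Set.range fun i => τ i • u i) = IsLocalRing.maximalIdeal A := by
  exact core n u hu htri

end Groth.Agent.S15795
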