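import Groth.Statements.S15792
import Groth.Agent.S15795
import Mathlib.GroupTheory.PGroup
import Mathlib.RingTheory.Ideal.Cotangent
import Mathlib.RingTheory.RegularLocalRing.Defs
import Mathlib.LinearAlgebra.FreeModule.Finite.Basic
import Mathlib.FieldTheory.Finiteness
import Mathlib.Algebra.Module.ZMod
import Mathlib.Algebra.Field.ZMod

set_option autoImplicit false
universe u v
open WildQuot

namespace Groth.Agent.S15792

open IsLocalRing

/-- A `p`-group acting on a nonzero abelian group killed by `p` has a nonzero fixed vector. -/
theorem exists_fixed_ne_zero (p : ℕ) [Fact p.Prime] {G : Type v} [Group G] [Finite G]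
    (hG : IsPGroup p G) (M : Type u) [AddCommGroup M] [DistribMulAction G M]
    (hp : ∀ m : M, p • m = 0) [Nontrivial M] : ∃ m : M, m ≠ 0 ∧ ∀ σ : G, σ • m = m := by
  classical
  have := AddCommGroup.zmodModule hp
  obtain ⟨v, hv⟩ := exists_ne (0 : M)
  let W : Submodule (ZMod p) M := Submodule.span (ZMod p) (Set.range fun σ : G => σ • v)
  have hfin : Module.Finite (ZMod p) ↥W := Module.Finite.span_of_finite (ZMod p) (Set.finite_range (fun σ : G => σ • v))
  have hWst : ∀ (σ : G) (w : M), w ∈ W → σ • w ∈ W := by
    intro σ w hw
    have h1 : W ≤ W.comap ((DistribSMul.toAddMonoidHom M σ).toZModLinearMap p) := by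
      rw [Submodule.span_le]
      rintro _ ⟨τ, rfl⟩
      simp only [Submodule.comap_coe, Set.mem_preimage, SetLike.mem_coe]
      exact Submodule.subset_span ⟨σ * τ, by simp [mul_smul]⟩
    exact h1 hw
  let _ : MulAction G W :=
    { smul := fun σ w => ⟨σ • (w : M), hWst σ w w.2⟩
      one_smul := fun w => Subtype.ext (one_smul G (w : M))
      mul_smul := fun σ τ w => Subtype.ext (mul_smul σ τ (w : M)) }
  have hWfin : Finite W := Module.finite_of_finite (ZMod p)
  have hvW : v ∈ W := Submodule.subset_span ⟨1, by simp⟩
  have hnt : Nontrivial W := ⟨⟨⟨v, hvW⟩, 0, fun h => hv (by simpa using congrArg Subtype.val h)⟩⟩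
  have hcard : p ∣ Nat.card W := by
    rw [Module.natCard_eq_pow_finrank (K := ZMod p), Nat.card_zmod]
    exact dvd_pow_self _ (Module.finrank_pos).ne'
  have h0 : (0 : W) ∈ MulAction.fixedPoints G W := fun σ => Subtype.ext (smul_zero σ)
  obtain ⟨b, hb, hne⟩ := hG.exists_fixed_point_of_prime_dvd_card_of_fixed_point W hcard h0
  refine ⟨b, fun h => hne (Subtype.ext h.symm), fun σ => ?_⟩
  exact congrArg Subtype.val (hb σ)

theorem step (p : ℕ) [Fact p.Prime] {A : Type u} [CommRing A] [IsLocalRing A] [IsNoetherianRing A]
    [CharP A p] {G : Type v} [Group G] [Finite G] [MulSemiringAction G A] (hG : IsPGroup p G)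
    (W : Ideal A) (hWm : W < maximalIdeal A)
    (hW : ∀ (σ : G) (a : A), a ∈ W → σ • a ∈ W) :
    ∃ v ∈ maximalIdeal A, v ∉ W ∧ ∀ σ : G, σ • v - v ∈ W := by
  classical
  let W' : AddSubgroup (maximalIdeal A) := W.toAddSubgroup.comap (maximalIdeal A).toAddSubgroup.subtype
  let M := maximalIdeal A ⧸ W'
  have key : ∀ σ : G, W' ≤ W'.comap
      (((MulSemiringAction.toRingHom G A σ).toAddMonoidHom.comp
        (maximalIdeal A).toAddSubgroup.subtype).codRestrict (maximalIdeal A).toAddSubgroup
        (fun x => S15795.map_maximalIdeal σ x.2)) := by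
    intro σ x hx
    exact hW σ _ hx
  let act : G → M →+ M := fun σ => QuotientAddGroup.map W' W' _ (key σ)
  let _ : DistribMulAction G M :=
    { smul := fun σ m => act σ m
      one_smul := by
        intro m
        obtain ⟨m, rfl⟩ := QuotientAddGroup.mk_surjective m
        show QuotientAddGroup.mk _ = _
        congr 1
        exact Subtype.ext (one_smul G (m : A))
      mul_smul := by
        intro σ τ m
        obtain ⟨m, rfl⟩ := QuotientAddGroup.mk_surjective m
        show QuotientAddGroup.mk _ = QuotientAddGroup.mk _
        congr 1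
        exact Subtype.ext (mul_smul σ τ (m : A))
      smul_zero := fun σ => map_zero (act σ)
      smul_add := fun σ => map_add (act σ) }
  have hp : ∀ m : M, p • m = 0 := by
    intro m
    obtain ⟨m, rfl⟩ := QuotientAddGroup.mk_surjective m
    rw [← QuotientAddGroup.mk_nsmul]
    have : p • m = 0 := by
      apply Subtype.ext
      show ((p • m : maximalIdeal A) : A) = 0
      rw [Submodule.coe_smul_of_tower, nsmul_eq_mul, CharP.cast_eq_zero, zero_mul]
    rw [this]
    rfl
  obtain ⟨w, hwm, hwW⟩ := SetLike.exists_of_lt hWm
  have hnt : Nontrivial M := by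
    refine ⟨⟨QuotientAddGroup.mk ⟨w, hwm⟩, 0, fun h => hwW ?_⟩⟩
    exact (QuotientAddGroup.eq_zero_iff (N := W') _).mp h
  obtain ⟨m, hm0, hm⟩ := exists_fixed_ne_zero p hG M hp
  obtain ⟨v, rfl⟩ := QuotientAddGroup.mk_surjective m
  refine ⟨v, v.2, fun h => hm0 ((QuotientAddGroup.eq_zero_iff (N := W') _).mpr h), fun σ => ?_⟩
  have h1 := hm σ
  have h2 : (QuotientAddGroup.mk (s := W') (⟨σ • (v : A), S15795.map_maximalIdeal σ v.2⟩ : maximalIdeal A) : M)
      = QuotientAddGroup.mk v := h1
  have h3 := (QuotientAddGroup.eq (s := W')).mp h2.symm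
  have h4 : - (v : A) + σ • (v : A) ∈ W := h3
  rwa [neg_add_eq_sub] at h4

/-- Let `A` be a regular local ring of Krull dimension `n` and prime characteristic `p`, and let a
finite `p`-group `G` act on `A` by ring automorphisms inducing the identity on the residue field.
Then there is an admissible regular system of parameters: `u_1, …, u_n ∈ A` such that for every
choice `σ_1, …, σ_n ∈ G` the elements `σ_1 u_1, …, σ_n u_n` generate the maximal ideal. (The
published statement is for a complete regular local ring containing a field of representatives fixed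
by `G`; this row drops completeness and asks only that `G` act trivially on the residue field.) -/
theorem result
    (p : ℕ) [Fact p.Prime] (A : Type u) [CommRing A] [IsRegularLocalRing A] [CharP A p]
    (G : Type v) [Group G] [Finite G] [MulSemiringAction G A] (hG : IsPGroup p G)
    (hres : ∀ (σ : G) (a : A), σ • a - a ∈ IsLocalRing.maximalIdeal A)
    (n : ℕ) (hn : ringKrullDim A = n) :
    ∃ u : Fin n → A, ∀ τ : Fin n → G,
      Ideal.span (Set.range fun i => τ i • u i) = IsLocalRing.maximalIdeal A := by
  classical
  have hfr : Module.finrank (ResidueField A) (CotangentSpace A) = n := by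
    have := (IsRegularLocalRing.iff_finrank_cotangentSpace A).mp ‹_›
    rw [hn] at this
    exact_mod_cast this
  -- the submodule generated in the cotangent space
  have himg : ∀ (k : ℕ) (u : Fin k → A) (hum : ∀ i, u i ∈ maximalIdeal A) (x : maximalIdeal A),
      ((maximalIdeal A).toCotangent x ∈ Submodule.span (ResidueField A)
        (Set.range fun i => (maximalIdeal A).toCotangent ⟨u i, hum i⟩)) ↔
      (x : A) ∈ Ideal.span (Set.range u) ⊔ maximalIdeal A ^ 2 := by
    intro k u hum x
    rw [← Submodule.restrictScalars_mem A]
    have h1 : (Submodule.span (ResidueField A)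
        (Set.range fun i => (maximalIdeal A).toCotangent ⟨u i, hum i⟩)).restrictScalars A =
        Submodule.map (maximalIdeal A).toCotangent (Submodule.span A
          (Set.range fun i => (⟨u i, hum i⟩ : maximalIdeal A))) := by
      rw [Submodule.restrictScalars_span A (ResidueField A) IsLocalRing.residue_surjective]
      rw [Submodule.map_span, ← Set.range_comp]
      rfl
    rw [h1, Submodule.mem_map, Submodule.mem_sup]
    have h2 : ∀ y : maximalIdeal A, y ∈ Submodule.span A
          (Set.range fun i => (⟨u i, hum i⟩ : maximalIdeal A)) ↔ (y : A) ∈ Ideal.span (Set.range u) := by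
      intro y
      have h3 : Submodule.map (maximalIdeal A).subtype (Submodule.span A
          (Set.range fun i => (⟨u i, hum i⟩ : maximalIdeal A))) = Ideal.span (Set.range u) := by
        rw [Submodule.map_span, ← Set.range_comp]
        rfl
      rw [← h3, Submodule.mem_map]
      constructor
      · intro h
        exact ⟨y, h, rfl⟩
      · rintro ⟨z, hz, hzy⟩
        rwa [← Subtype.ext hzy]
    constructor
    · rintro ⟨y, hy, hxy⟩
      refine ⟨y, (h2 y).mp hy, (x : A) - y, ?_, by ring⟩
      have h4 := (Ideal.toCotangent_eq (I := maximalIdeal A)).mp hxy.symm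
      exact h4
    · rintro ⟨y, hy, z, hz, hyz⟩
      have hy' : y ∈ maximalIdeal A := by
        have : y = x - z := by rw [← hyz]; ring
        rw [this]
        exact Ideal.sub_mem _ x.2 (Ideal.pow_le_self two_ne_zero hz)
      refine ⟨⟨y, hy'⟩, (h2 _).mpr hy, ?_⟩
      rw [Ideal.toCotangent_eq]
      have : ((⟨y, hy'⟩ : maximalIdeal A) : A) - x = - z := by
        rw [← hyz]; ring
      rw [this]
      exact neg_mem hz
  -- build the flag
  have main : ∀ k : ℕ, k ≤ n → ∃ u : Fin k → A, ∃ hu : ∀ i, u i ∈ maximalIdeal A,
      LinearIndependent (ResidueField A) (fun i => (maximalIdeal A).toCotangent ⟨u i, hu i⟩) ∧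
      ∀ (σ : G) (i : Fin k),
        σ • u i ∈ Ideal.span (u '' {j | j ≤ i}) ⊔ maximalIdeal A ^ 2 := by
    intro k
    induction k with
    | zero =>
      intro _
      exact ⟨Fin.elim0, fun i => i.elim0, linearIndependent_empty_type, fun σ i => i.elim0⟩
    | succ k ih =>
      intro hk
      obtain ⟨u, hum, hli, htri⟩ := ih (Nat.le_of_succ_le hk)
      let W : Ideal A := Ideal.span (Set.range u) ⊔ maximalIdeal A ^ 2
      have hWle : W ≤ maximalIdeal A := by
        refine sup_le (Ideal.span_le.mpr ?_) (Ideal.pow_le_self two_ne_zero)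
        rintro _ ⟨i, rfl⟩
        exact hum i
      have hWne : W ≠ maximalIdeal A := by
        intro h
        have h1 : Submodule.span (ResidueField A)
            (Set.range fun i => (maximalIdeal A).toCotangent ⟨u i, hum i⟩) = ⊤ := by
          rw [eq_top_iff]
          rintro x -
          obtain ⟨x, rfl⟩ := (maximalIdeal A).toCotangent_surjective x
          rw [himg]
          exact h.ge x.2
        have h2 := finrank_range_le_card (R := ResidueField A)
          (fun i => (maximalIdeal A).toCotangent ⟨u i, hum i⟩)
        rw [Set.finrank, h1, finrank_top] at h2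
        change Module.finrank (ResidueField A) (CotangentSpace A) ≤ _ at h2
        rw [hfr, Fintype.card_fin] at h2
        omega
      have hWst : ∀ (σ : G) (a : A), a ∈ W → σ • a ∈ W := by
        intro σ a ha
        have h1 : W.map (MulSemiringAction.toRingHom G A σ) ≤ W := by
          rw [Ideal.map_sup, sup_le_iff]
          constructor
          · rw [Ideal.map_span, Ideal.span_le]
            rintro _ ⟨_, ⟨j, rfl⟩, rfl⟩
            exact (sup_le_sup (Ideal.span_mono (Set.image_subset_range _ _)) le_rfl : _ ≤ W) (htri σ j)
          · rw [Ideal.map_pow]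
            refine le_sup_of_le_right (Ideal.pow_right_mono ?_ 2)
            rw [Ideal.map_le_iff_le_comap]
            intro a ha
            exact S15795.map_maximalIdeal σ ha
        exact h1 (Ideal.mem_map_of_mem _ ha)
      obtain ⟨v, hv, hvW, hvσ⟩ := step p hG W (lt_of_le_of_ne hWle hWne) hWst
      have hum' : ∀ i, (Fin.snoc u v : Fin (k + 1) → A) i ∈ maximalIdeal A := by
        intro i
        refine Fin.lastCases ?_ (fun i => ?_) i
        · simpa using hv
        · simpa using hum i
      refine ⟨Fin.snoc u v, hum', ?_, ?_⟩
      · have : (fun i => (maximalIdeal A).toCotangent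
            ⟨(Fin.snoc u v : Fin (k + 1) → A) i, hum' i⟩) =
            Fin.snoc (fun i => (maximalIdeal A).toCotangent ⟨u i, hum i⟩)
              ((maximalIdeal A).toCotangent ⟨v, hv⟩) := by
          funext i
          refine Fin.lastCases ?_ (fun i => ?_) i
          · simp
          · simp
        rw [this]
        refine LinearIndependent.finSnoc hli ?_
        rw [himg]
        exact hvW
      · intro σ i
        refine Fin.lastCases ?_ (fun i => ?_) i
        · have h1 : (Fin.snoc u v : Fin (k + 1) → A) '' {j | j ≤ Fin.last k} = insert v (Set.range u) := by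
            have : {j : Fin (k + 1) | j ≤ Fin.last k} = Set.univ := by
              ext j; simp [Fin.le_last]
            rw [this, Set.image_univ]
            ext x
            constructor
            · rintro ⟨j, rfl⟩
              refine Fin.lastCases ?_ (fun j => ?_) j
              · simp
              · right
                exact ⟨j, by simp⟩
            · rintro (rfl | ⟨j, rfl⟩)
              · exact ⟨Fin.last k, by simp⟩
              · exact ⟨j.castSucc, by simp⟩
          rw [h1, Fin.snoc_last]
          have h2 : σ • v = v + (σ • v - v) := by ring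
          rw [h2]
          refine Ideal.add_mem _ (le_sup_left (a := Ideal.span (insert v (Set.range u)))
            (Ideal.subset_span (Set.mem_insert _ _))) ?_
          exact (sup_le_sup (Ideal.span_mono (Set.subset_insert _ _)) le_rfl : W ≤ _) (hvσ σ)
        · rw [Fin.snoc_castSucc]
          have h0 : u '' {j | j ≤ i} ⊆ (Fin.snoc u v : Fin (k + 1) → A) '' {j | j ≤ i.castSucc} := by
            rintro _ ⟨j, hj, rfl⟩
            exact ⟨j.castSucc, by simpa using hj, by simp⟩
          exact (sup_le_sup (Ideal.span_mono h0) le_rfl : _ ≤ Ideal.span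
            ((Fin.snoc u v : Fin (k + 1) → A) '' {j | j ≤ i.castSucc}) ⊔ maximalIdeal A ^ 2) (htri σ i)
  obtain ⟨u, hum, hli, htri⟩ := main n le_rfl
  refine ⟨u, S15795.core n u ?_ htri⟩
  have hspan : Submodule.span (ResidueField A)
      (Set.range fun i => (maximalIdeal A).toCotangent ⟨u i, hum i⟩) = ⊤ := by
    refine hli.span_eq_top_of_card_eq_finrank' ?_
    change _ = Module.finrank (ResidueField A) (CotangentSpace A)
    rw [hfr, Fintype.card_fin]
  refine le_antisymm ?_ ?_
  · rw [Ideal.span_le]
    rintro _ ⟨i, rfl⟩
    exact hum i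
  · refine Submodule.le_of_le_smul_of_le_jacobson_bot (I := maximalIdeal A)
      (IsNoetherian.noetherian _) (maximalIdeal_le_jacobson _) ?_
    intro x hx
    have h1 : (maximalIdeal A).toCotangent ⟨x, hx⟩ ∈ Submodule.span (ResidueField A)
      (Set.range fun i => (maximalIdeal A).toCotangent ⟨u i, hum i⟩) := by
      rw [hspan]; trivial
    rw [himg] at h1
    rw [smul_eq_mul, ← pow_two]
    exact h1

end Groth.Agent.S15792
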