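import Groth.Statements.S15793
import Groth.Agent.WildQuot.K873.ActJ
import Groth.Agent.CalgA.RegBasic

set_option autoImplicit false
universe u v w
open WildQuot

namespace Groth.Agent.S15793

/-- Let `A` be a complete regular local ring of Krull dimension at least `2` and prime characteristic
`p`, with maximal ideal `m`; let `k` be a field with a ring map `k → A` whose composite with `A →
A/m` is onto (a field of representatives); let `G` be a group of order `p` acting on `A` by ring
automorphisms that fix the image of `k`, ramified precisely at the origin: for every prime `P ≠ m`,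
the inertia subgroup of `P` (the elements of `G` fixing every element of `A` modulo `P`) is trivial.
Then no element of `m` outside `m ^ 2` is fixed by every element of `G`; in particular the action is
not linear in any regular system of parameters. -/
theorem result
    (p : ℕ) [Fact p.Prime] (A : Type u) [CommRing A] [IsRegularLocalRing A] [CharP A p]
    [IsAdicComplete (IsLocalRing.maximalIdeal A) A] (hdim : 2 ≤ ringKrullDim A)
    (k : Type v) [Field k] [Algebra k A]
    (hk : Function.Surjective (IsLocalRing.residue A ∘ algebraMap k A))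
    (G : Type w) [Group G] [Finite G] [MulSemiringAction G A] (hcard : Nat.card G = p)
    (hGk : ∀ (σ : G) (c : k), σ • algebraMap k A c = algebraMap k A c)
    (hram : ∀ P : Ideal A, P.IsPrime → P ≠ IsLocalRing.maximalIdeal A → P.inertia G = ⊥)
    (v : A) (hv : v ∈ IsLocalRing.maximalIdeal A) (hv2 : v ∉ IsLocalRing.maximalIdeal A ^ 2) :
    ∃ σ : G, σ • v ≠ v := by
  classical
  by_contra hcon
  push_neg at hcon
  obtain ⟨t, htc, ht⟩ := Groth.Agent.CalgA.RegBasic.exists_generators_of_notMem_sq v hv hv2
  have hreg := IsRegularLocalRing.spanFinrank_maximalIdeal (R := A)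
  -- a nontrivial element
  have hnt : Nontrivial G := by
    have : 1 < Nat.card G := hcard ▸ (Fact.out : p.Prime).one_lt
    exact (Finite.one_lt_card_iff_nontrivial).mp this
  obtain ⟨σ, hσ⟩ := exists_ne (1 : G)
  let s : Finset A := t.image fun x => σ • x - x
  have hsub : ∀ x ∈ (insert v (t : Set A)), σ • x - x ∈ Ideal.span (s : Set A) := by
    intro x hx
    rcases Set.mem_insert_iff.mp hx with rfl | hx
    · rw [hcon σ, sub_self]
      exact zero_mem _
    · exact Ideal.subset_span (by simpa [s] using ⟨x, hx, rfl⟩)
  have hall := K873.ActJ.smul_sub_mem k hk σ (hGk σ) (insert v (t : Set A)) ht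
    (Ideal.span (s : Set A)) hsub
  have hsm : Ideal.span (s : Set A) ≤ IsLocalRing.maximalIdeal A := by
    rw [Ideal.span_le]
    intro x hx
    simp only [s, Finset.coe_image, Set.mem_image] at hx
    obtain ⟨y, hy, rfl⟩ := hx
    have hym : y ∈ IsLocalRing.maximalIdeal A := by
      rw [← ht]
      exact Ideal.subset_span (Set.mem_insert_of_mem _ hy)
    exact Ideal.sub_mem _ (K873.ActJ.smul_mem_maximalIdeal σ hym) hym
  have hmin : IsLocalRing.maximalIdeal A ∈ (Ideal.span (s : Set A)).minimalPrimes := by
    refine ⟨⟨inferInstance, hsm⟩, fun Q hQ _ => ?_⟩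
    by_contra hne
    have hQne : Q ≠ IsLocalRing.maximalIdeal A := fun h => hne h.ge
    have h1 := hram Q hQ.1 hQne
    have h2 : σ ∈ Q.inertia G := fun x => hQ.2 (hall x)
    rw [h1, Subgroup.mem_bot] at h2
    exact hσ h2
  have h5 := Ideal.height_le_card_of_mem_minimalPrimes_span_finset hmin
  have h6 : s.card ≤ t.card := Finset.card_image_le
  have h7 : ((IsLocalRing.maximalIdeal A).height : WithBot ℕ∞) =
      ((t.card + 1 : ℕ) : WithBot ℕ∞) := by
    rw [IsLocalRing.maximalIdeal_height_eq_ringKrullDim, htc, ← hreg]
  have h8 : (IsLocalRing.maximalIdeal A).height = ((t.card + 1 : ℕ) : ℕ∞) := by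
    exact_mod_cast h7
  rw [h8] at h5
  have h9 : t.card + 1 ≤ s.card := by exact_mod_cast h5
  omega

end Groth.Agent.S15793
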