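import Groth.Statements.S15796
import Mathlib.RingTheory.Ideal.KrullsHeightTheorem

set_option autoImplicit false
universe u v
open WildQuot

namespace Groth.Agent.S15796

/-- Let `A` be a Noetherian local ring of Krull dimension `n` whose maximal ideal `m` is generated by
`u_1, …, u_n`, and let a finite group `G` act on `A` by ring automorphisms. If some `σ ∈ G` maps
some `u_i` into the ideal generated by the `u_j` with `j ≠ i`, then the system `u` is not weakly
admissible: for some choice `σ_1, …, σ_n ∈ G` the radical of `(σ_1 u_1, …, σ_n u_n)` does not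
contain `m`. (The published statement is for a linear action on `k[[u_1, …, u_n]]` whose matrix has
a zero diagonal entry; this row assumes instead that some `σ u_i` lies in the ideal generated by the
other `u_j`.) -/
theorem result
    (A : Type u) [CommRing A] [IsLocalRing A] [IsNoetherianRing A]
    (G : Type v) [Group G] [Finite G] [MulSemiringAction G A]
    (n : ℕ) (hn : ringKrullDim A = n) (u : Fin n → A)
    (hu : Ideal.span (Set.range u) = IsLocalRing.maximalIdeal A)
    (σ : G) (i : Fin n) (hσ : σ • u i ∈ Ideal.span (u '' {j | j ≠ i})) :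
    ∃ τ : Fin n → G,
      ¬ IsLocalRing.maximalIdeal A ≤ (Ideal.span (Set.range fun j => τ j • u j)).radical := by
  classical
  refine ⟨fun j => if j = i then σ else 1, fun hle => ?_⟩
  have hum : ∀ i, u i ∈ IsLocalRing.maximalIdeal A := fun i => hu ▸ Ideal.subset_span ⟨i, rfl⟩
  let s : Finset A := (Finset.univ.erase i).image u
  have hs : (Ideal.span (u '' {j | j ≠ i})) = Ideal.span (s : Set A) := by
    congr 1
    ext x
    simp [s]
  have h1 : Ideal.span (Set.range fun j => (if j = i then σ else 1 : G) • u j) ≤
      Ideal.span (s : Set A) := by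
    rw [← hs, Ideal.span_le]
    rintro _ ⟨j, rfl⟩
    by_cases hj : j = i
    · subst hj
      simpa using hσ
    · simp only [hj, if_false, one_smul]
      exact Ideal.subset_span ⟨j, hj, rfl⟩
  have h2 : IsLocalRing.maximalIdeal A ≤ (Ideal.span (s : Set A)).radical :=
    hle.trans (Ideal.radical_mono h1)
  have h3 : Ideal.span (s : Set A) ≤ IsLocalRing.maximalIdeal A := by
    rw [Ideal.span_le]
    intro x hx
    simp only [s, Finset.coe_image, Set.mem_image] at hx
    obtain ⟨j, -, rfl⟩ := hx
    exact hum j
  have h4 : IsLocalRing.maximalIdeal A ∈ (Ideal.span (s : Set A)).minimalPrimes := by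
    refine ⟨⟨inferInstance, h3⟩, fun Q hQ _ => h2.trans ((Ideal.IsPrime.radical_le_iff hQ.1).mpr hQ.2)⟩
  have h5 := Ideal.height_le_card_of_mem_minimalPrimes_span_finset h4
  have h6 : s.card ≤ n - 1 := by
    refine Finset.card_image_le.trans ?_
    rw [Finset.card_erase_of_mem (Finset.mem_univ _), Finset.card_univ, Fintype.card_fin]
  have h7 : ((IsLocalRing.maximalIdeal A).height : WithBot ℕ∞) = n := by
    rw [IsLocalRing.maximalIdeal_height_eq_ringKrullDim, hn]
  have h8 : (IsLocalRing.maximalIdeal A).height = (n : ℕ∞) := by
    exact_mod_cast h7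
  rw [h8] at h5
  have h9 : n ≤ s.card := by exact_mod_cast h5
  have := i.2
  omega

end Groth.Agent.S15796
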