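import Groth.Statements.S15797
import Groth.Agent.WildQuot.K873.Len
import Groth.Agent.WildQuot.K873.Sop

set_option autoImplicit false
universe u v
open WildQuot

namespace Groth.Agent.S15797

/-- Let `A` be a regular local ring of Krull dimension `n` with maximal ideal `m` generated by `u_1, …,
u_n`, let a finite group `G` of order `g` act on `A` by ring automorphisms, and suppose `u` is
weakly admissible: for every choice `σ_1, …, σ_n ∈ G` the radical of `(σ_1 u_1, …, σ_n u_n)`
contains `m`. With `x_i = ∏_{σ ∈ G} σ u_i` the norms, the length of `A / (x_1, …, x_n)` is at least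
`g ^ n` (so the finite flat map from `k[[x_1, …, x_n]]` has degree at least `g ^ n`). (The published
statement is for a complete regular local ring containing a `G`-fixed field of representatives; this
row does not assume those.) -/
theorem result
    (A : Type u) [CommRing A] [IsRegularLocalRing A]
    (G : Type v) [Group G] [Fintype G] [MulSemiringAction G A]
    (n : ℕ) (hn : ringKrullDim A = n) (u : Fin n → A)
    (hu : Ideal.span (Set.range u) = IsLocalRing.maximalIdeal A)
    (hwa : ∀ τ : Fin n → G,
      IsLocalRing.maximalIdeal A ≤ (Ideal.span (Set.range fun i => τ i • u i)).radical) :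
    ((Fintype.card G ^ n : ℕ) : ℕ∞) ≤
      Module.length A (A ⧸ Ideal.span (Set.range fun i => ∏ σ : G, σ • u i)) := by
  classical
  have hum : ∀ i, u i ∈ IsLocalRing.maximalIdeal A := fun i => hu ▸ Ideal.subset_span ⟨i, rfl⟩
  have hmem : ∀ (σ : G) (i : Fin n), σ • u i ∈ IsLocalRing.maximalIdeal A := by
    intro σ i
    have h := hum i
    rw [IsLocalRing.mem_maximalIdeal, mem_nonunits_iff] at h ⊢
    intro h'
    apply h
    have := h'.map (MulSemiringAction.toRingHom G A σ⁻¹)
    simpa using this
  have hrad : IsLocalRing.maximalIdeal A ≤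
      (Ideal.span (Set.range fun i => ∏ σ : G, σ • u i)).radical := by
    rw [Ideal.radical_eq_sInf]
    refine le_sInf ?_
    rintro P ⟨hP, hPp⟩
    have h1 : ∀ i, ∃ σ : G, σ • u i ∈ P := by
      intro i
      have h2 : ∏ σ : G, σ • u i ∈ P := hP (Ideal.subset_span ⟨i, rfl⟩)
      obtain ⟨σ, -, h3⟩ := (hPp.prod_mem_iff).mp h2
      exact ⟨σ, h3⟩
    choose τ hτ using h1
    refine (hwa τ).trans ((Ideal.IsPrime.radical_le_iff hPp).mpr (Ideal.span_le.mpr ?_))
    rintro _ ⟨i, rfl⟩
    exact hτ i
  have h1 := K873.Len.length_multi_eq n (⊥ : Ideal A) (fun i (σ : G) => σ • u i) (by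
    intro i s y hy c hc
    rw [bot_sup_eq] at hc ⊢
    have hdvd : ∀ j, j ≠ i → y j ∣ ∏ σ : G, σ • u j := by
      intro j hj
      rcases hy j hj with h | ⟨t, h⟩
      · rw [h]
      · rw [h]
        exact Finset.dvd_prod_of_mem (fun σ : G => σ • u j) (Finset.mem_univ t)
    refine K873.Sop.mem_of_mul_mem (n := n) hn i y ?_ (hmem s i) ?_ hc
    · intro j hj
      rcases hy j hj with h | ⟨t, h⟩
      · rw [h]
        exact Ideal.mem_of_dvd _ (Finset.dvd_prod_of_mem (fun σ : G => σ • u j) (Finset.mem_univ 1))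
          (hmem 1 j)
      · rw [h]
        exact hmem t j
    · refine hrad.trans (Ideal.radical_mono (Ideal.span_le.mpr ?_))
      rintro _ ⟨j, rfl⟩
      by_cases hj : j = i
      · subst hj
        exact Ideal.mem_of_dvd _ (Finset.dvd_prod_of_mem (fun σ : G => σ • u j) (Finset.mem_univ s))
          (le_sup_right (a := Ideal.span (y '' {l | l ≠ j})) (Ideal.mem_span_singleton_self _))
      · exact Ideal.mem_of_dvd _ (hdvd j hj)
          (le_sup_left (a := Ideal.span (y '' {l | l ≠ i})) (Ideal.subset_span ⟨j, hj, rfl⟩)))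
  rw [bot_sup_eq] at h1
  rw [h1]
  have h2 : ∀ τ : Fin n → G, 1 ≤ Module.length A
      (A ⧸ ((⊥ : Ideal A) ⊔ Ideal.span (Set.range fun i => τ i • u i))) := by
    intro τ
    rw [bot_sup_eq, Order.one_le_iff_pos, Module.length_pos_iff]
    refine Ideal.Quotient.nontrivial_iff.mpr fun h => ?_
    have h3 : Ideal.span (Set.range fun i => τ i • u i) ≤ IsLocalRing.maximalIdeal A := by
      rw [Ideal.span_le]
      rintro _ ⟨i, rfl⟩
      exact hmem _ i
    exact (IsLocalRing.maximalIdeal.isMaximal A).ne_top (top_le_iff.mp (h ▸ h3))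
  calc ((Fintype.card G ^ n : ℕ) : ℕ∞) = ∑ τ : Fin n → G, (1 : ℕ∞) := by simp
    _ ≤ _ := Finset.sum_le_sum fun τ _ => h2 τ

end Groth.Agent.S15797
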