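import Groth.Statements.S15799
import Groth.Agent.WildQuot.K873.SepInv
import Groth.Agent.WildQuot.K873.PS
import Groth.Agent.WildQuot.K873.ActJ
import Groth.Agent.CalgB.PowField

set_option autoImplicit false
universe u v w
open WildQuot

namespace Groth.Agent.S15799

/-- Let `A` be a complete regular local ring of Krull dimension `n ≥ 2` and prime characteristic `p`,
`k` a field with `k → A` mapping onto the residue field, and `G` a group of order `p` acting on `A`
by `k`-algebra automorphisms, ramified precisely at the origin (for every non-maximal prime `P`, the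
inertia subgroup of `P` (the elements of `G` fixing every element modulo `P`) is trivial). Let `u_1,
…, u_n` be an admissible regular system of parameters (for every choice `σ_1, …, σ_n ∈ G`, the
elements `σ_i u_i` generate the maximal ideal) and let `φ : k[[X_1, …, X_n]] → A` be the `k`-algebra
map with `φ X_i = x_i = ∏_{σ} σ u_i`, whose image is the norm subring `R`. Then `Frac(A^G)` is not
purely inseparable over `Frac(R)`; equivalently (as `A` is integral over the integrally closed `R`),
some `G`-invariant `y ∈ A` has no iterated `p`-th power `y ^ (p ^ e)` in `R`. -/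
theorem result
    (p : ℕ) [Fact p.Prime] (A : Type u) [CommRing A] [IsRegularLocalRing A] [CharP A p]
    [IsAdicComplete (IsLocalRing.maximalIdeal A) A] (n : ℕ) (hn : ringKrullDim A = n) (h2 : 2 ≤ n)
    (k : Type v) [Field k] [Algebra k A]
    (hk : Function.Surjective (IsLocalRing.residue A ∘ algebraMap k A))
    (G : Type w) [Group G] [Fintype G] [MulSemiringAction G A] (hcard : Fintype.card G = p)
    [SMulCommClass G k A]
    (hram : ∀ P : Ideal A, P.IsPrime → P ≠ IsLocalRing.maximalIdeal A → P.inertia G = ⊥)
    (u : Fin n → A)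
    (hu : ∀ τ : Fin n → G,
      Ideal.span (Set.range fun i => τ i • u i) = IsLocalRing.maximalIdeal A)
    (φ : MvPowerSeries (Fin n) k →ₐ[k] A) (hφ : ∀ i, φ (MvPowerSeries.X i) = ∏ σ : G, σ • u i) :
    ∃ y : A, (∀ σ : G, σ • y = y) ∧ ∀ e : ℕ, y ^ p ^ e ∉ Set.range φ := by
  classical
  have hdomA : IsDomain A := Groth.Agent.CalgA.RegBasic.isDomain A
  have hnormA : IsIntegrallyClosed A := Groth.Agent.CurvesC.RegNormal.isIntegrallyClosed A
  have hum : ∀ i, u i ∈ IsLocalRing.maximalIdeal A := fun i => by
    rw [← hu 1]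
    exact Ideal.subset_span ⟨i, one_smul G (u i)⟩
  let x : Fin n → A := fun i => ∏ σ : G, σ • u i
  have hxm : ∀ i, x i ∈ IsLocalRing.maximalIdeal A := fun i =>
    Ideal.mem_of_dvd _ (Finset.dvd_prod_of_mem (fun σ : G => σ • u i) (Finset.mem_univ 1))
      (by rw [one_smul]; exact hum i)
  have hrad : IsLocalRing.maximalIdeal A ≤ (Ideal.span (Set.range x)).radical := by
    rw [Ideal.radical_eq_sInf]
    refine le_sInf ?_
    rintro P ⟨hP, hPp⟩
    have h1 : ∀ i, ∃ σ : G, σ • u i ∈ P := by
      intro i
      have h2 : ∏ σ : G, σ • u i ∈ P := hP (Ideal.subset_span ⟨i, rfl⟩)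
      obtain ⟨σ, -, h3⟩ := (hPp.prod_mem_iff).mp h2
      exact ⟨σ, h3⟩
    choose τ hτ using h1
    rw [← hu τ]
    refine Ideal.span_le.mpr ?_
    rintro _ ⟨i, rfl⟩
    exact hτ i
  have hxG : ∀ (σ : G) i, σ • x i = x i := by
    intro σ i
    change σ • ∏ τ : G, τ • u i = ∏ τ : G, τ • u i
    rw [Finset.smul_prod']
    simp only [smul_smul]
    exact Fintype.prod_equiv (Equiv.mulLeft σ) _ _ fun τ => rfl
  have hfin := K873.PS.finite hk x hxm hrad φ hφ
  have hinj := K873.PS.injective hk hn x hxm hrad φ hφ
  have hσφ : ∀ (σ : G) (f : MvPowerSeries (Fin n) k), σ • φ f = φ f := by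
    intro σ f
    have h1 := K873.PS.eq_powEval (IsLocalRing.maximalIdeal A) x hxm φ hφ
    have h2 := K873.PS.eq_powEval (IsLocalRing.maximalIdeal A) x hxm
      ((MulSemiringAction.toAlgHom k A σ).comp φ) (fun i => by
        change σ • φ (MvPowerSeries.X i) = x i
        rw [hφ i]
        exact hxG σ i)
    exact DFunLike.congr_fun (h2.trans h1.symm) f
  let S := MvPowerSeries (Fin n) k
  let _ : Algebra S A := φ.toRingHom.toAlgebra
  have hSfin : Module.Finite S A := hfin
  have hSreg : IsRegularLocalRing S := Groth.Agent.CalgB.PowField.isRegularLocalRing k n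
  have hres : Function.Surjective (IsLocalRing.residue A ∘ algebraMap S A) := by
    intro y
    obtain ⟨c, hc⟩ := hk y
    refine ⟨MvPowerSeries.C c, ?_⟩
    rw [← hc]
    change IsLocalRing.residue A (φ (algebraMap k S c)) = _
    rw [AlgHom.commutes]
    rfl
  have hcomm : SMulCommClass G S A := ⟨fun σ f a => by
    change σ • (φ f * a) = φ f * (σ • a)
    rw [smul_mul', hσφ]⟩
  have hdim : 2 ≤ ringKrullDim S := by
    rw [Groth.Agent.CalgB.PowField.ringKrullDim_eq]
    exact_mod_cast h2
  exact K873.SepInv.main (R := S) hdim hinj hres p (by rw [Nat.card_eq_fintype_card, hcard]) hram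

end Groth.Agent.S15799
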