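import Groth.Statements.S15805
import Groth.Agent.WildQuot.K873.ASPow
import Groth.Agent.WildQuot.K873.ASSym
import Groth.Agent.WildQuot.K873.Skew

set_option autoImplicit false
universe u v
open WildQuot

namespace Groth.Agent.S15805

open MvPolynomial in
/-- Let `k` be a field of characteristic `p > 0`, `R = k[[x_1, …, x_n]]`, `a_1, …, a_n ∈ R` with zero
constant term and not all zero, and `A = R[u_1, …, u_n] / (u_i ^ p - a_i ^ (p-1) u_i - x_i : i =
1..n)`. Let `G` be a group of order `p` acting on `A` by `R`-algebra automorphisms, generated by an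
element `g` acting by `u_i ↦ u_i + a_i`. Then the skew group ring `A∗G` (free `A`-module on `G` with
`(a g)(b h) = a g(b) gh`) is a symmetric `R`-algebra: there is an `R`-linear form `φ : A∗G → R` with
`φ(xy) = φ(yx)` for all `x, y`, such that `y ↦ (x ↦ φ(x y))` is injective and reaches every
`R`-linear form on `A∗G` (so `Hom_R(A∗G, R) ≅ A∗G` as bimodules). -/
theorem result
    (p : ℕ) [Fact p.Prime] (k : Type u) [Field k] [CharP k p] (n : ℕ)
    (a : Fin n → MvPowerSeries (Fin n) k)
    (ham : ∀ i, MvPowerSeries.constantCoeff (a i) = 0) (hne : ∃ i, a i ≠ 0) :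
    let R := MvPowerSeries (Fin n) k
    let I : Ideal (MvPolynomial (Fin n) R) :=
      Ideal.span (Set.range fun i : Fin n =>
        X i ^ p - C (a i ^ (p - 1)) * X i - C (MvPowerSeries.X i))
    let A := MvPolynomial (Fin n) R ⧸ I
    ∀ (G : Type v) [Group G] [Finite G] [MulSemiringAction G A] [SMulCommClass G R A]
      (g : G), Nat.card G = p → (∀ h : G, h ∈ Subgroup.zpowers g) →
      (∀ i, g • (Ideal.Quotient.mk I (X i)) = Ideal.Quotient.mk I (X i) + algebraMap R A (a i)) →
      ∃ φ : SkewMonoidAlgebra A G →ₗ[R] R,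
        (∀ x y : SkewMonoidAlgebra A G, φ (x * y) = φ (y * x)) ∧
        Function.Injective (fun y : SkewMonoidAlgebra A G => fun x : SkewMonoidAlgebra A G => φ (x * y)) ∧
        ∀ ψ : SkewMonoidAlgebra A G →ₗ[R] R, ∃ y : SkewMonoidAlgebra A G, ∀ x, ψ x = φ (x * y) := by
  intro R I A G _ _ _ _ g hcard hgen hg
  have hp : 2 ≤ p := (Fact.out : p.Prime).two_le
  have hx : ∀ i, (MvPowerSeries.X i : MvPowerSeries (Fin n) k) ∈
      IsLocalRing.maximalIdeal (MvPowerSeries (Fin n) k) := fun i =>
    K873.ASPow.mem_maximalIdeal (MvPowerSeries.constantCoeff_X i)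
  have ha : ∀ i, a i ∈ IsLocalRing.maximalIdeal (MvPowerSeries (Fin n) k) := fun i =>
    K873.ASPow.mem_maximalIdeal (ham i)
  refine K873.Skew.main (K873.ASSym.lam p a MvPowerSeries.X hp) ?_
    (K873.ASSym.eq_zero p a MvPowerSeries.X hp hx ha)
    (K873.ASSym.exists_eq p a MvPowerSeries.X hp hx ha)
  let H : Subgroup G :=
    { carrier := {h | ∀ b : A, K873.ASSym.lam p a MvPowerSeries.X hp (h • b) =
        K873.ASSym.lam p a MvPowerSeries.X hp b}
      one_mem' := fun b => by rw [one_smul]
      mul_mem' := fun {h h'} hh hh' b => by rw [mul_smul, hh, hh']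
      inv_mem' := fun {h} hh b => by
        rw [← hh (h⁻¹ • b), smul_inv_smul] }
  have hgH : g ∈ H := fun b =>
    K873.ASSym.lam_sub p a MvPowerSeries.X hp a (MulSemiringAction.toAlgHom R A g) hg b
  intro h b
  have h1 : Subgroup.zpowers g ≤ H := by
    rw [Subgroup.zpowers_le]
    exact hgH
  exact h1 (hgen h) b

end Groth.Agent.S15805
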