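import Groth.Statements.S15808
import Groth.Agent.WildQuot.K873.ASCop
import Groth.Agent.WildQuot.K873.ASMinorB
import Groth.Agent.CurvesC.RegNormal

set_option autoImplicit false
universe u
open WildQuot

namespace Groth.Agent.S15808

open MvPolynomial in
/-- Let `k` be a field of characteristic `p > 0`, `n ≥ 2`, `R = k[[x_1, …, x_n]]`, `a_1, …, a_n ∈ R`
with zero constant term and pairwise coprime, `μ ∈ R` nonzero and coprime to each `a_i`; fix an
index `i₀` and let `B = R[Z_j : j ≠ i₀] / (Z_j ^ p - (μ a_{i₀} a_j) ^ (p-1) Z_j - (a_{i₀} ^ p x_j -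
a_j ^ p x_{i₀}) : j ≠ i₀)`, the complete-intersection ring of the minor elements through `u_{i₀}`.
Then `B` is a free `R`-module of rank `p ^ (n-1)`, `B` is an integral domain, and the localisation
`B[1/(μ a_{i₀})]` is integrally closed. (The published statement uses the first index for `i₀`; this
row allows any index.) -/
theorem result
    (p : ℕ) [Fact p.Prime] (k : Type u) [Field k] [CharP k p] (n : ℕ) (hn : 2 ≤ n)
    (a : Fin n → MvPowerSeries (Fin n) k) (μ : MvPowerSeries (Fin n) k)
    (ham : ∀ i, MvPowerSeries.constantCoeff (a i) = 0) (hcop : ∀ i j, i ≠ j → IsRelPrime (a i) (a j))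
    (hμ : μ ≠ 0) (hμa : ∀ i, IsRelPrime μ (a i)) (i₀ : Fin n) :
    let R := MvPowerSeries (Fin n) k
    let r : {j : Fin n // j ≠ i₀} → MvPolynomial {j : Fin n // j ≠ i₀} R := fun j =>
      X j ^ p - C ((μ * a i₀ * a j.1) ^ (p - 1)) * X j
        - C (a i₀ ^ p * MvPowerSeries.X j.1 - a j.1 ^ p * MvPowerSeries.X i₀)
    let B := MvPolynomial {j : Fin n // j ≠ i₀} R ⧸ Ideal.span (Set.range r)
    Module.Free R B ∧ Module.finrank R B = p ^ (n - 1) ∧ IsDomain B ∧
      IsIntegrallyClosed (Localization.Away (algebraMap R B (μ * a i₀))) := by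
  intro R r B
  have hp : 2 ≤ p := (Fact.out : p.Prime).two_le
  have hchar : CharP R p := K873.ASCop.charP p
  have hdom : IsDomain R := K873.ASCop.isDomain
  have ha0 : a i₀ ≠ 0 := K873.ASCop.ne_zero hn a ham hcop i₀
  have ham' : ∀ i, MvPowerSeries.constantCoeff (μ * a i) = 0 := fun i => by
    rw [map_mul, ham i, mul_zero]
  have hAreg := K873.ASPow.isRegularLocalRing p (fun i => μ * a i) hp ham'
  have hAdom := K873.ASPow.isDomain p (fun i => μ * a i) hp ham'
  have hAnorm := Groth.Agent.CurvesC.RegNormal.isIntegrallyClosed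
    (MvPolynomial (Fin n) R ⧸ K873.ArtSch.asI p (fun i => μ * a i) MvPowerSeries.X)
  refine ⟨K873.ArtSch.free p _ _ hp, ?_, K873.ASMinor.isDomain_minorRing p a MvPowerSeries.X μ i₀ ha0,
    K873.ASMinor.isIntegrallyClosed_minorRing p a MvPowerSeries.X μ i₀ ha0 hμ⟩
  have h := K873.ArtSch.finrank_eq p (fun j : {j : Fin n // j ≠ i₀} => μ * a i₀ * a j.1)
    (fun j : {j : Fin n // j ≠ i₀} => a i₀ ^ p * (MvPowerSeries.X j.1 : R) -
      a j.1 ^ p * MvPowerSeries.X i₀) hp
  rw [Fintype.card_subtype_compl, Fintype.card_fin, Fintype.card_subtype_eq] at h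
  exact h

end Groth.Agent.S15808
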