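import Groth.Statements.S15809
import Groth.Agent.WildQuot.K874.CodimIsoSch
import Groth.Agent.S2387

set_option autoImplicit false
universe u
open CategoryTheory MonoidalCategory CartesianMonoidalCategory AlgebraicGeometry Limits
open WildQuot

namespace Groth.Agent.S15809

/-- Let `S` be a Noetherian scheme, `G` a finite flat `S`-group scheme and `Y` a finite flat `S`-scheme
with an action of `G`; let `Ψ : G ×_S Y → Y ×_S Y` be `(g, y) ↦ (g y, y)`. Suppose that for every
point `s ∈ S` of codimension at most `1` (local ring of dimension `≤ 1`) the fibre `Y_s` is a torsor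
under `G_s`: it is nonempty and the base change of `Ψ` to `Spec κ(s)` is an isomorphism. Then `Y` is
a `G`-torsor: `Ψ` is an isomorphism and `Y → S` is surjective (so the finite flat cover `Y → S`
itself trivialises `Y`). -/
theorem result
    (S : Scheme.{u}) [AlgebraicGeometry.IsNoetherian S]
    (G Y : Over S) [GrpObj G]
    [AlgebraicGeometry.IsFinite G.hom] [AlgebraicGeometry.Flat G.hom]
    [AlgebraicGeometry.IsFinite Y.hom] [AlgebraicGeometry.Flat Y.hom]
    (a : AlgGrp.Action G Y)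
    (hfib : ∀ s : S, ringKrullDim (S.presheaf.stalk s) ≤ 1 →
      s ∈ Set.range Y.hom.base ∧
      IsIso (pullback.map (G ⊗ Y).hom (S.fromSpecResidueField s) (Y ⊗ Y).hom (S.fromSpecResidueField s)
        (CartesianMonoidalCategory.lift a.act (CartesianMonoidalCategory.snd G Y)).left
        (𝟙 _) (𝟙 S)
        ((Category.comp_id _).trans
          (Over.w (CartesianMonoidalCategory.lift a.act (CartesianMonoidalCategory.snd G Y))).symm)
        ((Category.comp_id _).trans (Category.id_comp _).symm))) :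
    IsIso (CartesianMonoidalCategory.lift a.act (CartesianMonoidalCategory.snd G Y)).left ∧
      Function.Surjective Y.hom.base := by
  have hfin {A B : Over S} [AlgebraicGeometry.IsFinite A.hom] [AlgebraicGeometry.IsFinite B.hom] :
      AlgebraicGeometry.IsFinite (A ⊗ B).hom := by
    change AlgebraicGeometry.IsFinite (pullback.fst A.hom B.hom ≫ A.hom)
    infer_instance
  have hfl {A B : Over S} [AlgebraicGeometry.Flat A.hom] [AlgebraicGeometry.Flat B.hom] :
      AlgebraicGeometry.Flat (A ⊗ B).hom := by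
    change AlgebraicGeometry.Flat (pullback.fst A.hom B.hom ≫ A.hom)
    infer_instance
  have i1 : AlgebraicGeometry.IsFinite (G ⊗ Y).hom := hfin
  have i2 : AlgebraicGeometry.IsFinite (Y ⊗ Y).hom := hfin
  have i3 : AlgebraicGeometry.Flat (G ⊗ Y).hom := hfl
  have i4 : AlgebraicGeometry.Flat (Y ⊗ Y).hom := hfl
  generalize hψ : (CartesianMonoidalCategory.lift a.act (CartesianMonoidalCategory.snd G Y)) = ψ at hfib ⊢
  have w : ψ.left ≫ (Y ⊗ Y).hom = (G ⊗ Y).hom := Over.w ψ
  have key : ∀ s : S, ringKrullDim (S.presheaf.stalk s) ≤ 1 →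
      ∃ U : S.Opens, s ∈ U ∧ IsIso (ψ.left ∣_ ((Y ⊗ Y).hom ⁻¹ᵁ U)) := by
    intro s hs
    have : IsIso (CohIII.fiberMapOver ψ.left (G ⊗ Y).hom (Y ⊗ Y).hom w s) := (hfib s hs).2
    exact Groth.Agent.S2387.result ψ.left (G ⊗ Y).hom (Y ⊗ Y).hom w s
  choose! U hU hU' using key
  let T := {s : S // ringKrullDim (S.presheaf.stalk s) ≤ 1}
  let W : S.Opens := ⨆ s : T, U s.1
  refine ⟨?_, K874.CodimIsoSch.surjective_of_codimOne _ fun s hs => (hfib s hs).1⟩
  have i5 : AlgebraicGeometry.IsFinite (ψ.left ≫ (Y ⊗ Y).hom) := by rw [w]; infer_instance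
  have i6 : AlgebraicGeometry.Flat (ψ.left ≫ (Y ⊗ Y).hom) := by rw [w]; infer_instance
  have i7 : IsIso (ψ.left ∣_ ((Y ⊗ Y).hom ⁻¹ᵁ W)) := by
    refine K874.CodimIsoSch.isIso_restrict_of_forall _ _ fun y hy => ?_
    obtain ⟨s, hs⟩ := TopologicalSpace.Opens.mem_iSup.mp
      (show (Y ⊗ Y).hom y ∈ (⨆ s : T, U s.1 : S.Opens) from hy)
    exact ⟨(Y ⊗ Y).hom ⁻¹ᵁ U s.1, hs, fun z hz => TopologicalSpace.Opens.mem_iSup.mpr ⟨s, hz⟩,
      hU' s.1 s.2⟩
  exact K874.CodimIsoSch.isIso_of_codimOne ψ.left (Y ⊗ Y).hom W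
    (fun s hs => TopologicalSpace.Opens.mem_iSup.mpr ⟨⟨s, hs⟩, hU s hs⟩)

end Groth.Agent.S15809
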