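import Groth.Statements.S15811
import Mathlib.FieldTheory.Finite.GaloisField

set_option autoImplicit false
universe u
open WildQuot

namespace Groth.Agent.S15811

/-- Let `R` be an integrally closed domain of prime characteristic `p` with fraction field `K`, and `α ∈
R`. Then `α ≠ 0` and the polynomial `T ^ p - α T` splits into linear factors over `K` — which says
that the finite flat group scheme `Spec R[T]/(T ^ p - α T)` of order `p` has constant generic fibre
(its `p` roots are then distinct) — if and only if `α = a ^ (p-1)` for some nonzero `a ∈ R`. (The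
published statement is that the generic fibre of the finite flat group scheme of order `p` with
parameters `α, β` satisfying `α β = 0`, whose underlying scheme is `Spec R[T]/(T ^ p - α T)`, is
constant if and only if `β = 0` and `α` is the `(p-1)`-th power of a nonzero element of `R`; this
row states the polynomial condition, in which `α ≠ 0` already forces `β = 0` over a domain.) -/
theorem result
    (p : ℕ) [Fact p.Prime] (R : Type u) [CommRing R] [IsDomain R] [IsIntegrallyClosed R]
    [CharP R p] (α : R) :
    (α ≠ 0 ∧ (Polynomial.map (algebraMap R (FractionRing R))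
        (Polynomial.X ^ p - Polynomial.C α * Polynomial.X)).Splits) ↔
      ∃ a : R, a ≠ 0 ∧ α = a ^ (p - 1) := by
  classical
  have hp : p.Prime := Fact.out
  have hp1 : p - 1 + 1 = p := Nat.sub_add_cancel hp.one_le
  have hp0 : p - 1 ≠ 0 := by have := hp.two_le; omega
  set K := FractionRing R with hK
  have hinj : Function.Injective (algebraMap R K) := IsFractionRing.injective R K
  have : CharP K p := charP_of_injective_algebraMap hinj p
  constructor
  · rintro ⟨hα, hs⟩
    have hfac : Polynomial.map (algebraMap R K) (Polynomial.X ^ p - Polynomial.C α * Polynomial.X) =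
        (Polynomial.X ^ (p - 1) - Polynomial.C (algebraMap R K α)) * Polynomial.X := by
      rw [Polynomial.map_sub, Polynomial.map_pow, Polynomial.map_mul, Polynomial.map_X,
        Polynomial.map_C, sub_mul, ← pow_succ, hp1]
    have hne : (Polynomial.X ^ (p - 1) - Polynomial.C (algebraMap R K α)) *
        (Polynomial.X : Polynomial K) ≠ 0 :=
      mul_ne_zero (Polynomial.X_pow_sub_C_ne_zero (Nat.pos_of_ne_zero hp0) _) Polynomial.X_ne_zero
    rw [hfac] at hs
    have hs' := Polynomial.Splits.of_dvd hs hne (Dvd.intro _ rfl)
    obtain ⟨r, hr⟩ := hs'.exists_eval_eq_zero (by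
      rw [Polynomial.degree_X_pow_sub_C (Nat.pos_of_ne_zero hp0)]
      exact_mod_cast hp0)
    have hr' : r ^ (p - 1) = algebraMap R K α := by
      simpa [sub_eq_zero] using hr
    have hint : IsIntegral R r := by
      refine ⟨Polynomial.X ^ (p - 1) - Polynomial.C α,
        Polynomial.monic_X_pow_sub_C _ hp0, ?_⟩
      have h0 : Polynomial.eval₂ (algebraMap R K) r (Polynomial.X ^ (p - 1) - Polynomial.C α) = 0 := by
        rw [Polynomial.eval₂_sub, Polynomial.eval₂_pow, Polynomial.eval₂_X, Polynomial.eval₂_C,
          hr', sub_self]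
      exact h0
    obtain ⟨a, ha⟩ := IsIntegrallyClosed.isIntegral_iff.mp hint
    refine ⟨a, ?_, ?_⟩
    · rintro rfl
      apply hα
      apply hinj
      rw [← hr', ← ha, map_zero, zero_pow hp0]
    · apply hinj
      rw [map_pow, ha, hr']
  · rintro ⟨a, ha, rfl⟩
    refine ⟨pow_ne_zero _ ha, ?_⟩
    have haK : algebraMap R K a ≠ 0 := fun h => ha (hinj (by rw [h, map_zero]))
    have h1 : (Polynomial.X ^ p - Polynomial.X : Polynomial K).Splits := by
      have := (GaloisField.splits_zmod_X_pow_sub_X p).map (ZMod.castHom (dvd_refl p) K)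
      simpa using this
    have h2 : ((Polynomial.X ^ p - Polynomial.X : Polynomial K).comp
        (Polynomial.C (algebraMap R K a)⁻¹ * Polynomial.X)).Splits :=
      h1.comp_of_degree_le_one (Polynomial.degree_C_mul_X_le _)
    have h3 := h2.C_mul ((algebraMap R K a) ^ p)
    have h4 : (algebraMap R K a) ^ p * ((algebraMap R K a)⁻¹) ^ p = 1 := by
      rw [← mul_pow, mul_inv_cancel₀ haK, one_pow]
    have h5 : (algebraMap R K a) ^ p * (algebraMap R K a)⁻¹ = (algebraMap R K a) ^ (p - 1) := by
      conv_lhs => rw [← hp1, pow_succ, mul_assoc, mul_inv_cancel₀ haK, mul_one]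
    have h6 : Polynomial.map (algebraMap R K)
        (Polynomial.X ^ p - Polynomial.C (a ^ (p - 1)) * Polynomial.X) =
        Polynomial.C ((algebraMap R K a) ^ p) * (Polynomial.X ^ p - Polynomial.X : Polynomial K).comp
        (Polynomial.C (algebraMap R K a)⁻¹ * Polynomial.X) := by
      rw [Polynomial.map_sub, Polynomial.map_pow, Polynomial.map_mul, Polynomial.map_X,
        Polynomial.map_C, Polynomial.sub_comp, Polynomial.pow_comp, Polynomial.X_comp, mul_sub,
        mul_pow, ← Polynomial.C_pow, ← mul_assoc, ← mul_assoc, ← Polynomial.C_mul,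
        ← Polynomial.C_mul, h4, h5, Polynomial.C_1, one_mul, map_pow]
    rw [h6]
    exact h3

end Groth.Agent.S15811
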