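import Groth.Statements.S15813
import Groth.Agent.WildQuot.K874.OrderCalc
import Mathlib.RingTheory.PowerSeries.Inverse
import Mathlib.RingTheory.IntegralClosure.IntegrallyClosed
import Mathlib.Algebra.CharP.Algebra
import Mathlib.RingTheory.Polynomial.RationalRoot

set_option autoImplicit false
universe u
open WildQuot

namespace Groth.Agent.S15813

/-- Let `k` be a field of characteristic `p > 0`, `A = k[[u]]`, and `σ` a `k`-algebra automorphism of
`A` of order exactly `p`, with ramification break `m`: `σ u - u` has order `m + 1`. Let `x = ∏_{i <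
p} σ^i u` be the norm of `u`, let `f ∈ A` be `σ`-invariant with nonzero constant term (a unit of the
invariant ring `k[[x]]`), let `μ > 0` be prime to `p`, and let `z ∈ Frac(A)` satisfy the
Artin–Schreier equation `z ^ p - z = f / x ^ μ`. Then `μ = m`. (The published statement also records
that `Frac(A) = Frac(A^σ)(z)`; that follows from the equation since `p` does not divide `μ`, so it
is not repeated as a hypothesis.) -/
theorem result
    (p : ℕ) [Fact p.Prime] (k : Type u) [Field k] [CharP k p]
    (σ : PowerSeries k ≃ₐ[k] PowerSeries k) (hσp : σ ^ p = 1) (hσ1 : σ ≠ 1)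
    (m : ℕ) (hm : (σ PowerSeries.X - PowerSeries.X).order = ((m + 1 : ℕ) : ℕ∞))
    (f : PowerSeries k) (hfσ : σ f = f) (hf0 : PowerSeries.constantCoeff f ≠ 0)
    (μ : ℕ) (hμ : 0 < μ) (hpμ : ¬ p ∣ μ)
    (z : FractionRing (PowerSeries k))
    (hz : z ^ p - z = algebraMap (PowerSeries k) (FractionRing (PowerSeries k)) f /
      algebraMap (PowerSeries k) (FractionRing (PowerSeries k))
        (∏ i ∈ Finset.range p, (σ ^ i) PowerSeries.X) ^ μ) :
    μ = m := by
  classical
  have hp : p.Prime := Fact.out
  have hp1 : p - 1 + 1 = p := Nat.sub_add_cancel hp.one_le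
  have hp0 : p - 1 ≠ 0 := by have := hp.two_le; omega
  let A := PowerSeries k
  let K := FractionRing A
  let x : A := K874.OrderCalc.nrm p σ
  have hx : x = ∏ i ∈ Finset.range p, (σ ^ i) PowerSeries.X := rfl
  have hxo : x.order = (p : ℕ∞) := K874.OrderCalc.order_nrm p σ hσp hm
  have hxσ : σ x = x := K874.OrderCalc.apply_nrm p σ hσp
  have hinj : Function.Injective (algebraMap A K) := IsFractionRing.injective A K
  have hx0 : x ≠ 0 := by
    intro h
    rw [h, PowerSeries.order_zero] at hxo
    exact ENat.natCast_ne_top _ hxo.symm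
  have hxK : algebraMap A K x ≠ 0 := fun h => hx0 (hinj (by rw [h, map_zero]))
  rw [← hx] at hz
  have : CharP K p := by
    have : CharP A p := by
      exact charP_of_injective_algebraMap (algebraMap k A).injective p
    exact charP_of_injective_algebraMap hinj p
  have hcharA : CharP A p := charP_of_injective_algebraMap (algebraMap k A).injective p
  -- the equation for `y = z x ^ μ`
  have hz' : (z * algebraMap A K x ^ μ) ^ p - algebraMap A K x ^ ((p - 1) * μ) *
      (z * algebraMap A K x ^ μ) = algebraMap A K x ^ ((p - 1) * μ) * algebraMap A K f := by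
    have h1 : (algebraMap A K x ^ μ) ^ p = algebraMap A K x ^ ((p - 1) * μ) *
        algebraMap A K x ^ μ := by
      rw [← pow_mul, ← pow_add]
      congr 1
      calc μ * p = μ * (p - 1 + 1) := by rw [hp1]
        _ = (p - 1) * μ + μ := by ring
    have h2 : (z * algebraMap A K x ^ μ) ^ p - algebraMap A K x ^ ((p - 1) * μ) *
      (z * algebraMap A K x ^ μ) = algebraMap A K x ^ ((p - 1) * μ) * algebraMap A K x ^ μ *
        (z ^ p - z) := by
      rw [mul_pow, h1]; ring
    rw [h2, hz, mul_assoc]
    congr 1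
    exact mul_div_cancel₀ _ (pow_ne_zero _ hxK)
  have hint : IsIntegral A (z * algebraMap A K x ^ μ) := by
    refine ⟨Polynomial.X ^ p - (Polynomial.C (x ^ ((p - 1) * μ)) * Polynomial.X +
      Polynomial.C (x ^ ((p - 1) * μ) * f)), ?_, ?_⟩
    · apply Polynomial.monic_X_pow_sub
      refine lt_of_le_of_lt (Polynomial.degree_linear_le) ?_
      have : 1 < p := hp.one_lt
      exact_mod_cast this
    · have h0 : Polynomial.eval₂ (algebraMap A K) (z * algebraMap A K x ^ μ)
        (Polynomial.X ^ p - (Polynomial.C (x ^ ((p - 1) * μ)) * Polynomial.X +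
          Polynomial.C (x ^ ((p - 1) * μ) * f))) = 0 := by
        rw [Polynomial.eval₂_sub, Polynomial.eval₂_add, Polynomial.eval₂_mul, Polynomial.eval₂_pow,
          Polynomial.eval₂_X, Polynomial.eval₂_C, Polynomial.eval₂_C, map_mul, map_pow, ← hz']
        ring
      exact h0
  obtain ⟨y, hy⟩ := IsIntegrallyClosed.isIntegral_iff.mp hint
  have hyeq : y ^ p = x ^ ((p - 1) * μ) * (y + f) := by
    apply hinj
    rw [map_pow, map_mul, map_pow, map_add, hy]
    linear_combination hz'
  have hx00 : PowerSeries.constantCoeff x = 0 := by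
    rw [← PowerSeries.order_ne_zero_iff_constCoeff_eq_zero, hxo]
    exact_mod_cast hp.ne_zero
  have hμ1 : (p - 1) * μ ≠ 0 := mul_ne_zero hp0 hμ.ne'
  have hy0 : PowerSeries.constantCoeff y = 0 := by
    have := congrArg PowerSeries.constantCoeff hyeq
    rw [map_pow, map_mul, map_pow, hx00, zero_pow hμ1, zero_mul] at this
    exact pow_eq_zero_iff hp.ne_zero |>.mp this
  have hyf : (y + f).order = 0 := by
    by_contra h
    rw [← ne_eq, PowerSeries.order_ne_zero_iff_constCoeff_eq_zero, map_add, hy0, zero_add] at h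
    exact hf0 h
  have hyo : y.order = (((p - 1) * μ : ℕ) : ℕ∞) := by
    have h1 := congrArg PowerSeries.order hyeq
    rw [PowerSeries.order_pow, PowerSeries.order_mul, PowerSeries.order_pow, hxo, hyf, add_zero] at h1
    have hyne : y ≠ 0 := by
      rintro rfl
      rw [PowerSeries.order_zero] at h1
      have : (p • (⊤ : ℕ∞)) = ⊤ := by
        rw [nsmul_eq_mul]
        exact ENat.mul_top (by exact_mod_cast hp.ne_zero)
      rw [this, nsmul_eq_mul] at h1
      exact ENat.natCast_ne_top (((p - 1) * μ) * p) (by push_cast at h1 ⊢; exact h1.symm)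
    obtain ⟨N, hN⟩ : ∃ N : ℕ, y.order = (N : ℕ∞) :=
      ⟨y.order.toNat, (PowerSeries.coe_toNat_order hyne).symm⟩
    rw [hN, nsmul_eq_mul, nsmul_eq_mul] at h1
    have h2 : p * N = ((p - 1) * μ) * p := by exact_mod_cast h1
    have h3 : N = (p - 1) * μ := by
      apply Nat.eq_of_mul_eq_mul_left hp.pos
      rw [h2]; ring
    rw [hN, h3]
  have hnd : ¬ p ∣ (p - 1) * μ := by
    intro h
    rcases (Nat.Prime.dvd_mul hp).mp h with h | h
    · have := Nat.le_of_dvd (Nat.pos_of_ne_zero hp0) h
      omega
    · exact hpμ h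
  have hδ := K874.OrderCalc.order_sub_eq p σ hσp hm hyo hnd
  have hδeq : (σ y - y) ^ p = x ^ ((p - 1) * μ) * (σ y - y) := by
    rw [sub_pow_char (p := p), ← map_pow, hyeq, map_mul, map_pow, hxσ, map_add, hfσ]
    ring
  have h1 := congrArg PowerSeries.order hδeq
  rw [PowerSeries.order_pow, PowerSeries.order_mul, PowerSeries.order_pow, hxo, hδ,
    nsmul_eq_mul, nsmul_eq_mul] at h1
  have h2 : p * ((p - 1) * μ + m) = ((p - 1) * μ) * p + ((p - 1) * μ + m) := by exact_mod_cast h1
  obtain ⟨q, rfl⟩ : ∃ q, p = q + 1 := ⟨p - 1, hp1.symm⟩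
  have hq : q ≠ 0 := by simpa using hp0
  simp only [Nat.add_sub_cancel] at h2
  have h3 : q * m = q * μ := by nlinarith
  exact (Nat.eq_of_mul_eq_mul_left (Nat.pos_of_ne_zero hq) h3).symm

end Groth.Agent.S15813
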