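import Groth.Statements.S15816
import Groth.Agent.Koszul.K872.Twist

set_option autoImplicit false
universe u
open CategoryTheory
open scoped TensorProduct
open Koszul

namespace Groth.Agent.S15816

/-- Let A be a commutative ring, f = (f_1, …, f_n) a sequence in A that is regular in the weak sense
(f_1 is a non-zero-divisor of A and each f_i is a non-zero-divisor modulo (f_1, …, f_{i-1})), with
Koszul complex K(f) and differentials ∂^q, and let x be a non-zero-divisor of A. Then for every
integer q < 0 the q-th cohomology module of the Koszul complex of (x f_1, …, x f_n) is isomorphic as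
an A-module to Ker(∂^q) ⊗_A A/(x) (existence of an A-linear isomorphism; mapping-cone model of the
Koszul complex). -/
theorem result (A : Type u) [CommRing A] (l : List A)
    (hl : RingTheory.Sequence.IsWeaklyRegular A l) (x : A) (hx : x ∈ nonZeroDivisors A) (q : ℤ) (hq : q < 0) :
    Nonempty ((Koszul.koszul A (l.map (fun f => x * f))).homology q ≅
      ModuleCat.of A (↥(LinearMap.ker ((Koszul.koszul A l).d q (q + 1)).hom) ⊗[A] (A ⧸ Ideal.span {x}))) := by
  have h : IsSMulRegular ((Koszul.koszul A l).X (q + 1)) x :=
    (Groth.Agent.Flat2H.KoszulReg.mono_smul_id_iff x _).1 (K872.Twist.mono_koszul_X hx l (q + 1))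
  obtain ⟨e⟩ := (K872.Twist.twKoszul x l).nonempty_homology_iso q h
  refine ⟨e ≪≫ LinearEquiv.toModuleIso (LinearEquiv.symm ?_)⟩
  have h0 := (Groth.Agent.Flat2H.KoszulReg.isKoszulRegularSeq_iff l).2
    (Groth.Agent.Flat2H.KoszulReg.kReg_of_isWeaklyRegular hl) q (by omega)
  have hex : LinearMap.range ((Koszul.koszul A l).d (q - 1) q).hom =
      LinearMap.ker ((Koszul.koszul A l).d q (q + 1)).hom := by
    have h1 := (HomologicalComplex.exactAt_iff_isZero_homology _ _).2 h0
    rw [HomologicalComplex.exactAt_iff' _ (q - 1) q (q + 1) (by simp) (by simp),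
      ShortComplex.moduleCat_exact_iff_range_eq_ker] at h1
    exact h1
  refine (TensorProduct.tensorQuotEquivQuotSMul _ _).trans (Submodule.quotEquivOfEq _ _ ?_)
  rw [hex]
  ext z
  rw [Submodule.mem_comap, Submodule.ideal_span_singleton_smul, Submodule.ideal_span_singleton_smul,
    Submodule.mem_smul_pointwise_iff_exists, Submodule.mem_smul_pointwise_iff_exists]
  constructor
  · rintro ⟨w, -, rfl⟩
    exact ⟨w, w.2, rfl⟩
  · rintro ⟨w, hw, hwz⟩
    exact ⟨⟨w, hw⟩, trivial, Subtype.ext hwz⟩

end Groth.Agent.S15816
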