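import Groth.Statements.S15817
import Mathlib.Algebra.Category.ModuleCat.Limits
import Mathlib.CategoryTheory.Limits.Types.Pullbacks
import Mathlib.CategoryTheory.Limits.Shapes.Pullback.IsPullback.Basic

set_option autoImplicit false
universe u v
open CategoryTheory
open CAlg

namespace Groth.Agent.S15817

/-- Let A be a commutative ring, M an A-module and P, Q submodules of M. Then the commuting square of
quotient projections with corners M/(P ∩ Q), M/P, M/Q and M/(P + Q) is cartesian in the category of
A-modules: M/(P ∩ Q) is the fibre product of M/P and M/Q over M/(P + Q). -/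
theorem result (A : Type u) [CommRing A] (M : Type v) [AddCommGroup M] [Module A M]
    (P Q : Submodule A M) :
    IsPullback (ModuleCat.ofHom (Submodule.factor (inf_le_left : P ⊓ Q ≤ P)))
      (ModuleCat.ofHom (Submodule.factor (inf_le_right : P ⊓ Q ≤ Q)))
      (ModuleCat.ofHom (Submodule.factor (le_sup_left : P ≤ P ⊔ Q)))
      (ModuleCat.ofHom (Submodule.factor (le_sup_right : Q ≤ P ⊔ Q))) := by
  have hw : ModuleCat.ofHom (Submodule.factor (inf_le_left : P ⊓ Q ≤ P)) ≫
      ModuleCat.ofHom (Submodule.factor (le_sup_left : P ≤ P ⊔ Q)) =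
      ModuleCat.ofHom (Submodule.factor (inf_le_right : P ⊓ Q ≤ Q)) ≫
      ModuleCat.ofHom (Submodule.factor (le_sup_right : Q ≤ P ⊔ Q)) := by
    ext z
    rfl
  refine IsPullback.of_map (forget (ModuleCat.{v} A)) hw ?_
  rw [Limits.Types.isPullback_iff]
  refine ⟨?_, ?_, ?_⟩
  · rw [← Functor.map_comp, ← Functor.map_comp, hw]
  · rintro a b ⟨h1, h2⟩
    obtain ⟨a, rfl⟩ := Submodule.Quotient.mk_surjective _ a
    obtain ⟨b, rfl⟩ := Submodule.Quotient.mk_surjective _ b
    replace h1 : (Submodule.Quotient.mk a : M ⧸ P) = Submodule.Quotient.mk b := h1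
    replace h2 : (Submodule.Quotient.mk a : M ⧸ Q) = Submodule.Quotient.mk b := h2
    rw [Submodule.Quotient.eq] at h1 h2
    exact (Submodule.Quotient.eq _).mpr ⟨h1, h2⟩
  · intro a b h
    obtain ⟨a, rfl⟩ := Submodule.Quotient.mk_surjective _ a
    obtain ⟨b, rfl⟩ := Submodule.Quotient.mk_surjective _ b
    replace h : (Submodule.Quotient.mk a : M ⧸ (P ⊔ Q)) = Submodule.Quotient.mk b := h
    rw [Submodule.Quotient.eq, Submodule.mem_sup] at h
    obtain ⟨y, hy, z, hz, hyz⟩ := h
    refine ⟨Submodule.Quotient.mk (a - y), ?_, ?_⟩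
    · change (Submodule.Quotient.mk (a - y) : M ⧸ P) = Submodule.Quotient.mk a
      rw [Submodule.Quotient.eq]
      simpa using hy
    · change (Submodule.Quotient.mk (a - y) : M ⧸ Q) = Submodule.Quotient.mk b
      rw [Submodule.Quotient.eq]
      have : a - y - b = z := by
        rw [sub_right_comm, ← hyz]
        abel
      rw [this]
      exact hz

end Groth.Agent.S15817
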