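import Groth.Statements.S15820
import Groth.Agent.RegImm.K560.ExcFinal

set_option autoImplicit false
universe u
open CategoryTheory CategoryTheory.Limits AlgebraicGeometry
attribute [local instance] HasDerivedCategory.standard
open RegImm

namespace Groth.Agent.S15820

/-- Let k be an algebraically closed field and X a smooth variety over k (X integral, f : X → Spec k
smooth, separated and of finite type). Let iY : Y → X and iZ : Z → X be closed immersions which are
regular (ideals locally generated by regular sequences), let W = Y ×_X Z be the scheme-theoretic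
intersection with projections jY, jZ and closed immersion w = jY ≫ iY : W → X, and assume w is
regular too. Let φY : jY^* C_{Y/X} → C_{W/X} and φZ : jZ^* C_{Z/X} → C_{W/X} be the canonical maps
of conormal sheaves (pinned by their effect on local sections of the ideals) and E the kernel of the
induced map C_{Y/X}|_W ⊕ C_{Z/X}|_W → C_{W/X}, the excess conormal sheaf. Then for every q ≥ 0 and
every q-th exterior power L of E (affine-local characterisation), the Tor sheaf Tor_q^{O_X}(iY_*O_Y,
iZ_*O_Z), i.e. the cohomology sheaf in degree -q of iY_*O_Y ⊗^L iZ_*O_Z (the total left derived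
functor of − ⊗ iZ_*O_Z on D(O_X) being assumed to exist), is isomorphic to w_*L (existence of an
isomorphism of O_X-modules). (The published statement allows n local complete intersection
subvarieties and their n-fold Tor; this row is the case of two closed subschemes, with the local
complete intersection condition expressed as regularity of the immersions and no integrality asked
of Y and Z.) -/
theorem result (k : Type u) [Field k] [IsAlgClosed k]
    {X Y Z : Scheme.{u}} (f : X ⟶ Spec (CommRingCat.of k)) [Smooth f] [IsSeparated f] [QuasiCompact f]
    [LocallyOfFiniteType f] [IsIntegral X]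
    (iY : Y ⟶ X) (iZ : Z ⟶ X) [IsClosedImmersion iY] [IsClosedImmersion iZ]
    (hY : RegImm.IsRegularImmersion RegImm.Kind.regular iY) (hZ : RegImm.IsRegularImmersion RegImm.Kind.regular iZ)
    (hW : RegImm.IsRegularImmersion RegImm.Kind.regular (pullback.fst iY iZ ≫ iY))
    (φY : (Scheme.Modules.pullback (pullback.fst iY iZ)).obj (Omega.conormal iY) ⟶ Omega.conormal (pullback.fst iY iZ ≫ iY))
    (hφY : OmegaSh.IsConormalMap (pullback.fst iY iZ ≫ iY) iY (𝟙 X) (pullback.fst iY iZ) φY)
    (φZ : (Scheme.Modules.pullback (pullback.snd iY iZ)).obj (Omega.conormal iZ) ⟶ Omega.conormal (pullback.fst iY iZ ≫ iY))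
    (hφZ : OmegaSh.IsConormalMap (pullback.fst iY iZ ≫ iY) iZ (𝟙 X) (pullback.snd iY iZ) φZ)
    [DCoh.HasLTensorMod ((Scheme.Modules.pushforward iZ).obj (Coh.structureModule Z))]
    (q : ℕ) (L : (pullback iY iZ).Modules) (hL : ExtPow.IsExtPow q (kernel (coprod.desc φY φZ)) L) :
    Nonempty (DCoh.HD ((DCoh.LTensorMod ((Scheme.Modules.pushforward iZ).obj (Coh.structureModule Z))).obj (DCoh.inD X ((Scheme.Modules.pushforward iY).obj (Coh.structureModule Y)))) (-(q : ℤ)) ≅
      (Scheme.Modules.pushforward (pullback.fst iY iZ ≫ iY)).obj L) := by
  have hi := (K560.Stalk.isRegularImmersion_iff_of_isClosedImmersion iY).1 hY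
  have hj := (K560.Stalk.isRegularImmersion_iff_of_isClosedImmersion iZ).1 hZ
  have hw := (K560.Stalk.isRegularImmersion_iff_of_isClosedImmersion (pullback.fst iY iZ ≫ iY)).1 hW
  let S : K560.Exc.Ctx X Y Z (pullback iY iZ) :=
    { i := iY
      j := iZ
      gY := pullback.fst iY iZ
      gZ := pullback.snd iY iZ
      w := pullback.fst iY iZ ≫ iY
      hY := rfl
      hZ := pullback.condition.symm
      ci := inferInstance
      cj := inferInstance
      cgY := inferInstance
      cgZ := inferInstance
      cw := inferInstance
      hi := hi
      hj := hj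
      hw := hw
      hK := K560.InterCodim.ker_inter iY iZ
      φY := φY
      φZ := φZ
      hφY := hφY
      hφZ := hφZ }
  exact K560.Exc.nonempty_iso_tor S q L hL

end Groth.Agent.S15820
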