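import Groth.Statements.S15822
import Groth.Agent.Koszul.K872.NullSum

set_option autoImplicit false
universe u
open CategoryTheory
open Koszul

namespace Groth.Agent.S15822

/-- Let A be a commutative ring, M an A-module, x = (x_1, …, x_s) a sequence in A and y_1, …, y_r
elements of the ideal (x_1, …, x_s). Then for every integer m, the m-th cohomology module of the
complex K(x_1, …, x_s, y_1, …, y_r) ⊗_A M (Koszul complex of the concatenated sequence in the
iterated mapping-cone model, tensored termwise with M) is isomorphic as an A-module to the direct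
sum over j = 0, …, r of (r choose j) copies of the (m + j)-th cohomology module of K(x_1, …, x_s)
⊗_A M (existence of an A-linear isomorphism). In the published indexing: H^{-q}(K(x, y) ⊗ M) ≅
⊕_{i+j=q} H^{-i}(K(x) ⊗ M) ⊗ ∧^j A^r. -/
theorem result (A : Type u) [CommRing A] (M : ModuleCat.{u} A)
    (xs ys : List A) (hy : ∀ y ∈ ys, y ∈ Ideal.span {a | a ∈ xs}) (m : ℤ) :
    Nonempty ((DRing.tensorCx (Koszul.koszul A (xs ++ ys)) M).homology m ≅
      ModuleCat.of A ((j : Fin (ys.length + 1)) → Fin (ys.length.choose j) →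
        (DRing.tensorCx (Koszul.koszul A xs) M).homology (m + j))) := by
  let F : ModuleCat.{u} A ⥤ ModuleCat.{u} A := MonoidalCategory.tensorRight M
  have hF : ∀ a : A, Groth.Agent.Flat2H.KoszulBC.SMulRel F a a := fun a X => by
    change MonoidalCategoryStruct.whiskerRight (a • 𝟙 X) M = a • 𝟙 (MonoidalCategoryStruct.tensorObj X M)
    rw [MonoidalLinear.smul_whiskerRight, MonoidalCategory.id_whiskerRight]
  have hl : ∀ l : List A, List.Forall₂ (Groth.Agent.Flat2H.KoszulBC.SMulRel F) l l := by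
    intro l
    induction l with
    | nil => exact List.Forall₂.nil
    | cons a l ih => exact List.Forall₂.cons (hF a) ih
  let S : CochainComplex (ModuleCat.{u} A) ℤ := Groth.Agent.Flat2H.KoszulReg.sgl (ModuleCat.of A A)
  let FS := (F.mapHomologicalComplex (ComplexShape.up ℤ)).obj S
  let L := Groth.Agent.Flat2H.KoszulBasic.kos xs FS
  have e0 : ∀ l : List A, Nonempty (DRing.tensorCx (Koszul.koszul A l) M ≅ Groth.Agent.Flat2H.KoszulBasic.kos l FS) := by
    intro l
    obtain ⟨e⟩ := Groth.Agent.Flat2H.KoszulBC.nonempty_map_kos_iso F (hl l) S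
    exact ⟨eqToIso (by rw [Groth.Agent.Flat2H.KoszulReg.koszul_eq_kos]; rfl) ≪≫ e⟩
  obtain ⟨e1⟩ := e0 (xs ++ ys)
  obtain ⟨e2⟩ := Groth.Agent.Flat2H.KoszulBasic.nonempty_kosIso_of_perm (List.perm_append_comm (l₁ := xs) (l₂ := ys)) FS
  have e2' := e2 ≪≫ eqToIso (Groth.Agent.Flat2H.KoszulBasic.kos_append ys xs FS)
  obtain ⟨e3⟩ := e0 xs
  have hy' : ∀ y ∈ ys, Groth.Agent.Flat2H.KoszulBasic.NullH L y := fun y hys =>
    Groth.Agent.Flat2H.KoszulBasic.nullH_kos_of_mem xs FS y (hy y hys)
  obtain ⟨e4⟩ := K872.NullSum.nonempty_kos ys L hy' m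
  obtain ⟨e5⟩ := K872.NullSum.nonempty_fin (A := A) (fun i => (L.homology i : Type u)) ys.length m
  let H (i : ℤ) := HomologicalComplex.homologyFunctor (ModuleCat.{u} A) (ComplexShape.up ℤ) i
  let e6 : ((DRing.tensorCx (Koszul.koszul A (xs ++ ys)) M).homology m : Type u) ≃ₗ[A]
      ((Groth.Agent.Flat2H.KoszulBasic.kos ys L).homology m : Type u) :=
    ((H m).mapIso (e1 ≪≫ e2')).toLinearEquiv
  let e7 (i : ℤ) : ((DRing.tensorCx (Koszul.koszul A xs) M).homology i : Type u) ≃ₗ[A]
      (L.homology i : Type u) := ((H i).mapIso e3).toLinearEquiv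
  exact ⟨((e6.trans (e4.trans e5)).trans
    (LinearEquiv.piCongrRight fun j => LinearEquiv.piCongrRight fun _ => (e7 (m + (j : ℕ))).symm)).toModuleIso⟩

end Groth.Agent.S15822
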