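import Groth.Statements.S15832
import Mathlib.Tactic.Group
-- import your own Groth.Agent.* helpers here

set_option autoImplicit false
universe u
open TopGrp

namespace Groth.Agent.S15832

/-- For a group T with a topology, let B be the family of two-sided translates x Γ y, where Γ runs over
the subgroups of T open in the given topology and x, y over T; the topology generated by B makes T a
topological group in which every neighbourhood of the identity contains a subgroup open for that
topology. (The published statement is for the free topological product of two Noohi groups whose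
open subgroups form a basis of neighbourhoods of the identity; the argument uses only the group
structure and the chosen family of subgroups, so the row is stated for an arbitrary group with a
topology. The published conventions include Hausdorffness in the word topological group; this row
does not assert it, and the published argument does not prove it.) -/
theorem result (T : Type u) [Group T]
    [TopologicalSpace T] :
    @NonarchimedeanGroup T _ (TopologicalSpace.generateFrom
      {S : Set T | ∃ (Γ : OpenSubgroup T) (x y : T), S = (fun g : T => x * g * y) '' (Γ : Set T)}) := by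
  set B : Set (Set T) :=
    {S : Set T | ∃ (Γ : OpenSubgroup T) (x y : T), S = (fun g : T => x * g * y) '' (Γ : Set T)} with hB
  have hmemB : ∀ (Γ : OpenSubgroup T) (x y : T),
      (fun g : T => x * g * y) '' (Γ : Set T) ∈ B := fun Γ x y => ⟨Γ, x, y, rfl⟩
  have key : ∀ (Γ : OpenSubgroup T) (x y z : T),
      z ∈ (fun g : T => x * g * y) '' (Γ : Set T) ↔ x⁻¹ * z * y⁻¹ ∈ Γ := by
    intro Γ x y z
    constructor
    · rintro ⟨g, hg, rfl⟩
      have : x⁻¹ * (x * g * y) * y⁻¹ = g := by group
      simpa [this] using hg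
    · intro h
      exact ⟨x⁻¹ * z * y⁻¹, h, by group⟩
  letI τ : TopologicalSpace T := TopologicalSpace.generateFrom B
  have hopen : ∀ S ∈ B, @IsOpen T τ S := fun S hS => TopologicalSpace.isOpen_generateFrom_of_mem hS
  have hmul : @Continuous (T × T) T (@instTopologicalSpaceProd T T τ τ) τ (fun p : T × T => p.1 * p.2) := by
    refine continuous_generateFrom_iff.mpr ?_
    rintro _ ⟨Γ, x, y, rfl⟩
    refine isOpen_iff_mem_nhds.mpr ?_
    rintro ⟨a, b⟩ hab
    have hab' : x⁻¹ * (a * b) * y⁻¹ ∈ Γ := (key Γ x y _).mp hab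
    -- neighbourhood of a : x Γ x⁻¹ a ; neighbourhood of b : (a⁻¹ x) Γ (x⁻¹ a b)
    have h1 := hopen _ (hmemB Γ x (x⁻¹ * a))
    have h2 := hopen _ (hmemB Γ (a⁻¹ * x) (x⁻¹ * a * b))
    refine Filter.mem_of_superset (IsOpen.mem_nhds (h1.prod h2) ⟨?_, ?_⟩) ?_
    · exact (key _ _ _ _).mpr (by
        have : x⁻¹ * a * (x⁻¹ * a)⁻¹ = 1 := by group
        rw [this]; exact one_mem Γ)
    · exact (key _ _ _ _).mpr (by
        have : (a⁻¹ * x)⁻¹ * b * (x⁻¹ * a * b)⁻¹ = 1 := by group
        rw [this]; exact one_mem Γ)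
    · rintro ⟨c, d⟩ ⟨hc, hd⟩
      have hc' := (key _ _ _ _).mp hc
      have hd' := (key _ _ _ _).mp hd
      refine (key _ _ _ _).mpr ?_
      have : x⁻¹ * ((c, d).1 * (c, d).2) * y⁻¹ =
          (x⁻¹ * c * (x⁻¹ * a)⁻¹) * ((a⁻¹ * x)⁻¹ * d * (x⁻¹ * a * b)⁻¹) * (x⁻¹ * (a * b) * y⁻¹) := by
        group
      rw [this]
      exact mul_mem (mul_mem hc' hd') hab'
  have hinv : @Continuous T T τ τ (fun x : T => x⁻¹) := by
    refine continuous_generateFrom_iff.mpr ?_
    rintro _ ⟨Γ, x, y, rfl⟩
    have : (fun x : T => x⁻¹) ⁻¹' ((fun g : T => x * g * y) '' (Γ : Set T)) =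
        (fun g : T => y⁻¹ * g * x⁻¹) '' (Γ : Set T) := by
      ext z
      rw [Set.mem_preimage, key, key]
      have h2 : y⁻¹⁻¹ * z * x⁻¹⁻¹ = (x⁻¹ * z⁻¹ * y⁻¹)⁻¹ := by group
      rw [h2, inv_mem_iff]
    rw [this]
    exact hopen _ (hmemB _ _ _)
  haveI : @IsTopologicalGroup T τ _ :=
    { continuous_mul := hmul
      continuous_inv := hinv }
  refine @NonarchimedeanGroup.mk T _ τ inferInstance ?_
  -- the filter of sets containing an open subgroup
  let F : Filter T :=
    { sets := {U | ∃ V : OpenSubgroup T, (V : Set T) ⊆ U}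
      univ_sets := ⟨⊤, fun _ _ => trivial⟩
      sets_of_superset := fun ⟨V, hV⟩ h => ⟨V, hV.trans h⟩
      inter_sets := fun ⟨V, hV⟩ ⟨W, hW⟩ => ⟨V ⊓ W, fun z hz => ⟨hV hz.1, hW hz.2⟩⟩ }
  have hF : F ≤ @nhds T τ 1 := by
    rw [TopologicalSpace.nhds_generateFrom]
    refine le_iInf₂ fun S hS => ?_
    rw [Filter.le_principal_iff]
    obtain ⟨h1, Γ, x, y, rfl⟩ := hS
    have h1' := (key _ _ _ _).mp h1
    have hopenS := hopen _ (hmemB Γ x y)
    have hmul' : ∀ z, z ∈ (fun g : T => x * g * y) '' (Γ : Set T) ↔ x⁻¹ * z * x ∈ Γ := by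
      intro z
      rw [key]
      have e : x⁻¹ * z * x = (x⁻¹ * z * y⁻¹) * (x⁻¹ * 1 * y⁻¹)⁻¹ := by group
      rw [e]
      exact ⟨fun h => mul_mem h (inv_mem h1'), fun h => by
        have := mul_mem h h1'
        simpa [mul_assoc] using this⟩
    refine ⟨{ carrier := (fun g : T => x * g * y) '' (Γ : Set T)
              mul_mem' := ?_
              one_mem' := h1
              inv_mem' := ?_
              isOpen' := hopenS }, fun z hz => hz⟩
    · intro a b ha hb
      rw [hmul'] at ha hb ⊢
      have : x⁻¹ * (a * b) * x = (x⁻¹ * a * x) * (x⁻¹ * b * x) := by group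
      rw [this]; exact mul_mem ha hb
    · intro a ha
      change a ∈ (fun g : T => x * g * y) '' (Γ : Set T) at ha
      change a⁻¹ ∈ (fun g : T => x * g * y) '' (Γ : Set T)
      rw [hmul'] at ha ⊢
      have : x⁻¹ * a⁻¹ * x = (x⁻¹ * a * x)⁻¹ := by group
      rw [this]; exact inv_mem ha
  intro U hU
  exact hF hU

end Groth.Agent.S15832
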