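import Groth.Statements.S15833
import Mathlib.AlgebraicGeometry.ValuativeCriterion
import Mathlib.AlgebraicGeometry.Morphisms.ClosedImmersion

set_option autoImplicit false
universe u
open EtBase

namespace Groth.Agent.S15833

open CategoryTheory CategoryTheory.Limits AlgebraicGeometry in
/-- Lifts over a morphism and over its base change. -/
noncomputable def liftEquiv {X X₀ Y A B : Scheme.{u}} (i : X₀ ⟶ X) (f : Y ⟶ X) (p : A ⟶ B)
    (i₁ : A ⟶ Y) (i₂ : B ⟶ X) (i₁' : A ⟶ pullback f i) (i₂' : B ⟶ X₀)
    (h1 : i₁' ≫ pullback.fst f i = i₁) (h2 : i₂' ≫ i = i₂)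
    (sq : CommSq i₁ p f i₂) (sq' : CommSq i₁' p (pullback.snd f i) i₂') :
    sq.LiftStruct ≃ sq'.LiftStruct where
  toFun l :=
    { l := pullback.lift l.l i₂' (by rw [l.fac_right, h2])
      fac_left := by
        apply pullback.hom_ext
        · rw [Category.assoc, pullback.lift_fst, l.fac_left, h1]
        · rw [Category.assoc, pullback.lift_snd, sq'.w]
      fac_right := pullback.lift_snd _ _ _ }
  invFun l :=
    { l := l.l ≫ pullback.fst f i
      fac_left := by rw [← Category.assoc, l.fac_left, h1]
      fac_right := by rw [Category.assoc, pullback.condition, ← Category.assoc, l.fac_right, h2] }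
  left_inv l := by
    apply CommSq.LiftStruct.ext
    exact pullback.lift_fst _ _ _
  right_inv l := by
    apply CommSq.LiftStruct.ext
    apply pullback.hom_ext
    · exact pullback.lift_fst _ _ _
    · exact (pullback.lift_snd _ _ _).trans l.fac_right.symm

open CategoryTheory CategoryTheory.Limits AlgebraicGeometry in
/-- Let i : X₀ ⟶ X be a surjective closed immersion of schemes and f : Y ⟶ X a morphism. Then f
satisfies the valuative criterion (existence and uniqueness of a lift in every valuative square,
over arbitrary valuation rings) if and only if its base change Y ×_X X₀ ⟶ X₀ does. (The published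
statement takes X locally Noetherian and connected, X₀ the reduced closed subscheme with the same
underlying space and f étale, and combines this step with the equivalence between étale schemes over
X and over X₀ to identify the geometric coverings, i.e. the étale morphisms satisfying the valuative
criterion, of X and of X₀; the argument for this step uses only that X₀ ⟶ X is a surjective closed
immersion and that valuation rings are reduced.) -/
theorem result {X X₀ Y : Scheme.{u}} (i : X₀ ⟶ X)
    [IsClosedImmersion i] [Surjective i] (f : Y ⟶ X) :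
    ValuativeCriterion f ↔ ValuativeCriterion (pullback.snd f i) := by
  constructor
  · intro h S'
    have sq : CommSq (S'.i₁ ≫ pullback.fst f i) (Spec.map (CommRingCat.ofHom (algebraMap S'.R S'.K)))
        f (S'.i₂ ≫ i) :=
      ⟨by rw [Category.assoc, pullback.condition, ← Category.assoc, S'.commSq.w, Category.assoc]⟩
    obtain ⟨hu⟩ := h ⟨S'.R, S'.K, _, _, sq⟩
    exact ⟨(liftEquiv i f _ _ _ S'.i₁ S'.i₂ rfl rfl sq S'.commSq).symm.unique⟩
  · intro h S
    have : IsDomain (CommRingCat.of S.R) := inferInstanceAs (IsDomain S.R)
    have hiso : IsIso (pullback.fst S.i₂ i) :=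
      isIso_of_isClosedImmersion_of_surjective _
    let j : Spec (.of S.R) ⟶ X₀ := inv (pullback.fst S.i₂ i) ≫ pullback.snd S.i₂ i
    have hj : j ≫ i = S.i₂ := by
      simp only [j, Category.assoc, ← pullback.condition, IsIso.inv_hom_id_assoc]
    let i₁' : Spec (.of S.K) ⟶ pullback f i :=
      pullback.lift S.i₁ (Spec.map (CommRingCat.ofHom (algebraMap S.R S.K)) ≫ j)
        (by rw [Category.assoc, hj, S.commSq.w])
    have sq' : CommSq i₁' (Spec.map (CommRingCat.ofHom (algebraMap S.R S.K)))
        (pullback.snd f i) j := ⟨pullback.lift_snd _ _ _⟩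
    obtain ⟨hu⟩ := h ⟨S.R, S.K, _, _, sq'⟩
    exact ⟨(liftEquiv i f _ _ _ i₁' j (pullback.lift_fst _ _ _) hj S.commSq sq').unique⟩

end Groth.Agent.S15833
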