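import Groth.Statements.S15834
import Groth.Agent.Pi1.K868.NodalMain
import Groth.Agent.Pi1.K868.VKMain

set_option autoImplicit false
universe u
open Pi1

namespace Groth.Agent.S15834

open CategoryTheory AlgebraicGeometry in
/-- Let X be a connected proper reduced scheme of dimension 1 over an algebraically closed field F whose
closed points are either smooth points or nodes (a connected projective semi-stable curve), let C_1,
…, C_N be its irreducible components with normalizations C̄_j, fix geometric points ξ of X and ξ_j
of each C̄_j, let I be the (finite) set of singular closed points of X and r = |I| + 1 − N. Then the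
étale fundamental group π₁(X, ξ) is a free profinite product of π₁(C̄_1, ξ_1), …, π₁(C̄_N, ξ_N) and
r copies of the profinite completion of ℤ, in the following sense: there are continuous
homomorphisms ι_j : π₁(C̄_j, ξ_j) → π₁(X, ξ) and elements γ_1, …, γ_r of π₁(X, ξ) such that for
every finite discrete group Q, sending a continuous homomorphism φ : π₁(X, ξ) → Q to the family (φ ∘
ι_j)_j together with (φ(γ_i))_i is a bijection onto pairs (family of continuous homomorphisms
π₁(C̄_j, ξ_j) → Q, r-tuple of elements of Q). The homomorphisms ι_j and the elements γ_i depend on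
choices of paths; only their existence is asserted. (The published statement is an isomorphism of
profinite groups with the coproduct, in the category of profinite groups, of the π₁(C̄_j, ξ_j) and
of r copies of the profinite completion of ℤ, for a projective curve; proper is used here, and the
universal property is tested on finite groups. The published statement also covers curves whose
reduction is such a curve; this row states the reduced case.) -/
theorem result (F : Type u) [Field F] [IsAlgClosed F]
    (X : Scheme.{u}) [X.Over (Spec (CommRingCat.of F))] [IsProper (X ↘ Spec (CommRingCat.of F))]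
    [ConnectedSpace X] [IsReduced X] (hdim : topologicalKrullDim X = 1) (hnod : Curv2.AtWorstNodal F X)
    {N : ℕ} (C : Fin N → Scheme.{u}) (κ : ∀ j, C j ⟶ X) [∀ j, IsClosedImmersion (κ j)]
    [∀ j, IsIntegral (C j)] (hC : ∀ j, Set.range (fun c : ↥(C j) => (κ j) c) ∈ irreducibleComponents ↥X)
    (hCb : Function.Bijective (fun j : Fin N =>
      (⟨Set.range (fun c : ↥(C j) => (κ j) c), hC j⟩ : irreducibleComponents ↥X)))
    [∀ j, QuasiCompact ((C j).fromSpecStalk (genericPoint (C j)))]
    [∀ j, QuasiSeparated ((C j).fromSpecStalk (genericPoint (C j)))]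
    {Ω : Type u} [Field Ω] [IsAlgClosed Ω] (ξ : Spec (CommRingCat.of Ω) ⟶ X)
    (Ω' : Fin N → Type u) [∀ j, Field (Ω' j)] [∀ j, IsAlgClosed (Ω' j)]
    (ξ' : ∀ j, Spec (CommRingCat.of (Ω' j)) ⟶ Curv2.normalization (C j)) :
    ∃ (ι : ∀ j, FEt.piOne (Curv2.normalization (C j)) (ξ' j) →* FEt.piOne X ξ)
      (hι : ∀ j, Continuous (ι j))
      (γ : Fin (Nat.card {x : ↥X // IsClosed ({x} : Set ↥X) ∧
              ∀ U : X.Opens, x ∈ U → ¬ Smooth (U.ι ≫ (X ↘ Spec (CommRingCat.of F)))} + 1 - N) →
            FEt.piOne X ξ),
      ∀ (Q : Type u) [Group Q] [Finite Q] [TopologicalSpace Q] [DiscreteTopology Q],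
        Function.Bijective (fun φ : {φ : FEt.piOne X ξ →* Q // Continuous φ} =>
          ((fun j : Fin N => (⟨φ.1.comp (ι j), φ.2.comp (hι j)⟩ :
              {ψ : FEt.piOne (Curv2.normalization (C j)) (ξ' j) →* Q // Continuous ψ})),
            (fun i => φ.1 (γ i)))) := by
  classical
  have hCb' : Function.Bijective (fun v : ULift.{u} (Fin N) =>
      (⟨Set.range (fun c : ↥(C v.down) => (κ v.down) c), hC v.down⟩ : irreducibleComponents ↥X)) :=
    hCb.comp Equiv.ulift.bijective
  obtain ⟨D, hinv⟩ := K868.NodalMain.exists_data F X (V := ULift.{u} (Fin N)) (fun v => C v.down)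
    (fun v => κ v.down) (fun v => hC v.down) hCb' hdim hnod
  have hfinJ : Finite (K868.NodalMain.Sing F X) := K868.NodalMain.finite_sing F X hdim
  have h1 := K868.NodalMain.isFinite_p F X (V := ULift.{u} (Fin N)) (fun v => C v.down)
    (fun v => κ v.down)
  have h2 := K868.NodalMain.surjective_p F X (V := ULift.{u} (Fin N)) (fun v => C v.down)
    (fun v => κ v.down) (fun v => hC v.down) hCb'
  have h3 := K868.NodalMain.lofp_p F X (V := ULift.{u} (Fin N)) (fun v => C v.down)
    (fun v => κ v.down)
  have h4 : ∀ v : ULift.{u} (Fin N), ConnectedSpace (Curv2.normalization (C v.down)) := fun v => by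
    have := (K868.NodalMain.normalization_data F X (V := ULift.{u} (Fin N)) (fun v => C v.down)
      (fun v => κ v.down) v).2.2.2.1
    infer_instance
  obtain ⟨ι, hι, T, δ, hT, hbij⟩ := K868.VKMain.main D hinv ξ (fun v => Ω' v.down)
    (fun v => ξ' v.down)
  let _ : Fintype (K868.NodalMain.Sing F X) := Fintype.ofFinite _
  have hcard : Nat.card {j : K868.NodalMain.Sing F X // j ∉ T} =
      Nat.card (K868.NodalMain.Sing F X) + 1 - N := by
    have h5 : N = T.card + 1 := by
      rw [hT]
      simp
    have h6 : T.card ≤ Fintype.card (K868.NodalMain.Sing F X) := Finset.card_le_univ T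
    rw [Nat.card_eq_fintype_card, Nat.card_eq_fintype_card, Fintype.card_subtype_compl,
      Fintype.card_coe]
    omega
  let e : Fin (Nat.card (K868.NodalMain.Sing F X) + 1 - N) ≃
      {j : K868.NodalMain.Sing F X // j ∉ T} := (Finite.equivFinOfCardEq hcard).symm
  refine ⟨fun j => ι (ULift.up j), fun j => hι (ULift.up j), fun i => δ (e i), ?_⟩
  intro Q _ _ _ _
  have h := hbij Q
  constructor
  · intro φ φ' hφ
    apply h.1
    refine Prod.ext (funext fun v => ?_) (funext fun j => ?_)
    · exact congrFun (congrArg Prod.fst hφ) v.down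
    · obtain ⟨i, rfl⟩ := e.surjective j
      exact congrFun (congrArg Prod.snd hφ) i
  · rintro ⟨ψ, q⟩
    obtain ⟨φ, hφ⟩ := h.2 (fun v => ψ v.down, fun j => q (e.symm j))
    refine ⟨φ, Prod.ext (funext fun j => ?_) (funext fun i => ?_)⟩
    · exact congrFun (congrArg Prod.fst hφ) (ULift.up j)
    · have h5 := congrFun (congrArg Prod.snd hφ) (e i)
      refine h5.trans ?_
      simp

end Groth.Agent.S15834
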