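import Groth.Statements.S15835
import Mathlib.Algebra.CharP.Invertible
-- import your own Groth.Agent.* helpers here

set_option autoImplicit false
universe u
open SprIso

namespace Groth.Agent.S15835

/-- Over a commutative ring R of prime characteristic p, let n ≥ 1 and let p^m be the largest power of p
dividing n. The locus of n × n matrices with characteristic polynomial t^n is stable under adding a
scalar matrix a·1 with n·a = 0 exactly when a^(p^m) = 0: for X with characteristic polynomial t^n
and such an a, the matrix X + a·1 has characteristic polynomial t^n if and only if a^(p^m) = 0.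
(Stated on points with values in an arbitrary ring of characteristic p; the scheme-theoretic
assertion about the nilpotent scheme of SL_n is this statement for all such rings.) -/
theorem result (p : ℕ) [Fact p.Prime] (R : Type u) [CommRing R]
    [CharP R p] (n : ℕ) (hn : 0 < n) (X : Matrix (Fin n) (Fin n) R) (hX : X.charpoly = Polynomial.X ^ n)
    (a : R) (ha : (n : R) * a = 0) :
    (X + Matrix.scalar (Fin n) a).charpoly = Polynomial.X ^ n ↔ a ^ (p ^ padicValNat p n) = 0 := by
  have hp : p.Prime := Fact.out
  haveI : ExpChar R p := ExpChar.prime hp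
  set q := padicValNat p n with hq
  obtain ⟨m, hm⟩ : p ^ q ∣ n := pow_padicValNat_dvd
  have hqpos : 0 < p ^ q := pow_pos hp.pos q
  have hmpos : 0 < m := by
    rcases Nat.eq_zero_or_pos m with h | h
    · rw [h, mul_zero] at hm; omega
    · exact h
  have hmp : ¬ p ∣ m := by
    rintro ⟨c, rfl⟩
    have h1 : p ^ (q + 1) ∣ n := ⟨c, by rw [hm, pow_succ]; ring⟩
    have h2 := (padicValNat_dvd_iff_le (p := p) hn.ne').mp h1
    omega
  -- the characteristic polynomial of the translate
  have hcp : (X + Matrix.scalar (Fin n) a).charpoly =
      Polynomial.expand R (p ^ q) ((Polynomial.X + Polynomial.C (-(a ^ (p ^ q)))) ^ m) := by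
    have h1 := Matrix.charpoly_sub_scalar X (-a)
    rw [map_neg, sub_neg_eq_add] at h1
    rw [h1, hX, Polynomial.X_pow_comp, map_pow, map_add, Polynomial.expand_X, Polynomial.expand_C]
    conv_lhs => rw [hm, pow_mul]
    congr 1
    rw [map_neg, map_neg, ← sub_eq_add_neg, ← sub_eq_add_neg, sub_pow_expChar_pow, map_pow]
  have hXn : (Polynomial.X : Polynomial R) ^ n = Polynomial.expand R (p ^ q) (Polynomial.X ^ m) := by
    rw [map_pow, Polynomial.expand_X, ← pow_mul, ← hm]
  rw [hcp, hXn, (Polynomial.expand_injective hqpos).eq_iff]
  constructor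
  · intro h
    have h1 := congrArg (fun f => Polynomial.coeff f (m - 1)) h
    simp only [Polynomial.coeff_X_add_C_pow, Polynomial.coeff_X_pow] at h1
    rw [if_neg (by omega), show m - (m - 1) = 1 by omega, pow_one,
      Nat.choose_symm_of_eq_add (show m = (m - 1) + 1 by omega), Nat.choose_one_right] at h1
    have hunit : IsUnit ((m : ℕ) : R) := by
      rw [CharP.isUnit_natCast_iff hp]
      exact hmp
    have h2 : -(a ^ (p ^ q)) = 0 := by
      exact (hunit.mul_left_eq_zero).mp h1
    exact neg_eq_zero.mp h2
  · intro h
    rw [h, neg_zero, map_zero, add_zero]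

end Groth.Agent.S15835
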