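import Groth.Statements.S15836
import Groth.Agent.SprIso.K875.PicCone
-- import your own Groth.Agent.* helpers here

set_option autoImplicit false
universe u
open SprIso

namespace Groth.Agent.S15836

theorem prod_aux {R : Type*} [CommRing R] {n : ℕ} (x : Fin n → R) (m : Fin n →₀ ℕ) :
    ∏ i, (Polynomial.C (x i) * Polynomial.X) ^ (m i) =
      Polynomial.C (∏ i, x i ^ (m i)) * Polynomial.X ^ m.degree := by
  rw [Finsupp.degree_eq_sum, map_prod, ← Finset.prod_pow_eq_pow_sum, ← Finset.prod_mul_distrib]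
  refine Finset.prod_congr rfl fun i _ => ?_
  rw [mul_pow, map_pow]

/-- Let k be a field and C a closed subscheme of affine n-space over k which is stable under the scaling
action of the affine line, i.e. C = Spec A with A = k[x_1, …, x_n]/I for an ideal I generated by
homogeneous polynomials, and assume C is normal (A is an integrally closed domain). Then Pic(C) = 0:
every invertible A-module is free. -/
theorem result (k : Type u) [Field k] (n : ℕ)
    (I : Ideal (MvPolynomial (Fin n) k))
    (hI : ∃ s : Set (MvPolynomial (Fin n) k), (∀ f ∈ s, ∃ d : ℕ, f.IsHomogeneous d) ∧ I = Ideal.span s)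
    [IsDomain (MvPolynomial (Fin n) k ⧸ I)] [IsIntegrallyClosed (MvPolynomial (Fin n) k ⧸ I)]
    (M : Type u) [AddCommGroup M] [Module (MvPolynomial (Fin n) k ⧸ I) M]
    [Module.Invertible (MvPolynomial (Fin n) k ⧸ I) M] :
    Module.Free (MvPolynomial (Fin n) k ⧸ I) M := by
  obtain ⟨s, hs, hIs⟩ := hI
  have hIne : I ≠ ⊤ := Ideal.Quotient.nontrivial_iff.mp inferInstance
  -- the action of the affine line
  let γ₀ : MvPolynomial (Fin n) k →ₐ[k] Polynomial (MvPolynomial (Fin n) k ⧸ I) :=
    MvPolynomial.aeval fun i => Polynomial.C (Ideal.Quotient.mk I (MvPolynomial.X i)) * Polynomial.X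
  -- values on homogeneous polynomials
  have hγhom : ∀ (f : MvPolynomial (Fin n) k) (d : ℕ), f.IsHomogeneous d →
      γ₀ f = Polynomial.C (Ideal.Quotient.mk I f) * Polynomial.X ^ d := by
    intro f d hf
    have h1 : γ₀ f = ∑ m ∈ f.support, algebraMap k (Polynomial (MvPolynomial (Fin n) k ⧸ I)) (f.coeff m) *
        ∏ i, (Polynomial.C (Ideal.Quotient.mk I (MvPolynomial.X i)) * Polynomial.X) ^ (m i) := by
      rw [MvPolynomial.aeval_def, MvPolynomial.eval₂_eq']
    rw [h1]
    conv_rhs => rw [MvPolynomial.as_sum f, map_sum, map_sum, Finset.sum_mul]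
    refine Finset.sum_congr rfl fun m hm => ?_
    have hdeg : m.degree = d := by
      have := hf (MvPolynomial.mem_support_iff.mp hm)
      rw [← this, Finsupp.degree_eq_weight_one]
      rfl
    have h2 : ∏ i, (Polynomial.C (Ideal.Quotient.mk I (MvPolynomial.X i)) * Polynomial.X) ^ (m i) =
        Polynomial.C (∏ i, (Ideal.Quotient.mk I (MvPolynomial.X i)) ^ (m i)) * Polynomial.X ^ d := by
      rw [← hdeg]
      exact prod_aux _ _
    rw [h2, ← mul_assoc]
    congr 1
    rw [MvPolynomial.monomial_eq, map_mul, map_mul, Finsupp.prod_fintype _ _ (fun i => pow_zero _), map_prod,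
      map_prod, map_prod]
    simp only [map_pow]
    rfl
  have hγI : ∀ a ∈ I, γ₀ a = 0 := by
    have : I ≤ RingHom.ker γ₀ := by
      refine hIs.le.trans (Ideal.span_le.mpr ?_)
      intro f hf
      obtain ⟨d, hd⟩ := hs f hf
      have hfI : f ∈ I := by rw [hIs]; exact Ideal.subset_span hf
      change γ₀ f = 0
      rw [hγhom f d hd, Ideal.Quotient.eq_zero_iff_mem.mpr hfI, map_zero, zero_mul]
    intro a ha
    exact this ha
  let γ : (MvPolynomial (Fin n) k ⧸ I) →ₐ[k] Polynomial (MvPolynomial (Fin n) k ⧸ I) :=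
    Ideal.Quotient.liftₐ I γ₀ hγI
  -- the augmentation
  let ε₀ : MvPolynomial (Fin n) k →+* k := MvPolynomial.constantCoeff
  have hεγ₀ : ∀ f : MvPolynomial (Fin n) k,
      (γ₀ f).coeff 0 = algebraMap k (MvPolynomial (Fin n) k ⧸ I) (ε₀ f) := by
    intro f
    have : ((Polynomial.constantCoeff (R := MvPolynomial (Fin n) k ⧸ I)).comp γ₀.toRingHom) =
        (algebraMap k (MvPolynomial (Fin n) k ⧸ I)).comp ε₀ := by
      apply MvPolynomial.ringHom_ext
      · intro c
        change (γ₀ (MvPolynomial.C c)).coeff 0 = algebraMap k _ (ε₀ (MvPolynomial.C c))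
        rw [MvPolynomial.algHom_C]
        simp only [ε₀, MvPolynomial.constantCoeff_C]
        rw [IsScalarTower.algebraMap_apply k (MvPolynomial (Fin n) k ⧸ I)
          (Polynomial (MvPolynomial (Fin n) k ⧸ I)), Polynomial.algebraMap_eq, Polynomial.coeff_C_zero]
      · intro i
        change (γ₀ (MvPolynomial.X i)).coeff 0 = algebraMap k _ (ε₀ (MvPolynomial.X i))
        simp [γ₀, ε₀]
    exact RingHom.congr_fun this f
  have hεI : ∀ a ∈ I, ε₀ a = 0 := by
    intro a ha
    have h1 := hεγ₀ a
    rw [hγI a ha, Polynomial.coeff_zero] at h1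
    exact (map_eq_zero_iff _ (algebraMap k (MvPolynomial (Fin n) k ⧸ I)).injective).mp h1.symm
  let ε : (MvPolynomial (Fin n) k ⧸ I) →+* k := Ideal.Quotient.lift I ε₀ hεI
  have hεsurj : Function.Surjective ε := fun c =>
    ⟨Ideal.Quotient.mk I (MvPolynomial.C c), by
      change ε₀ (MvPolynomial.C c) = c
      simp [ε₀]⟩
  have hSN : Groth.Agent.Sga7.H598.SNDef.SN (MvPolynomial (Fin n) k ⧸ I) :=
    Groth.Agent.Sga7.H598.SNDef.SN.of_isIntegrallyClosed' (MvPolynomial (Fin n) k ⧸ I)
      (FractionRing (MvPolynomial (Fin n) k ⧸ I))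
  refine K875.PicCone.free_of_contraction' hSN γ.toRingHom ?_ ε hεsurj
    (algebraMap k (MvPolynomial (Fin n) k ⧸ I)) ?_ M
  · intro a
    obtain ⟨f, rfl⟩ := Ideal.Quotient.mk_surjective a
    change (γ₀ f).eval 1 = _
    have : ((Polynomial.evalRingHom (1 : MvPolynomial (Fin n) k ⧸ I)).comp γ₀.toRingHom) =
        Ideal.Quotient.mk I := by
      apply MvPolynomial.ringHom_ext
      · intro c
        change (γ₀ (MvPolynomial.C c)).eval 1 = _
        rw [MvPolynomial.algHom_C]
        rw [IsScalarTower.algebraMap_apply k (MvPolynomial (Fin n) k ⧸ I)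
          (Polynomial (MvPolynomial (Fin n) k ⧸ I)), Polynomial.algebraMap_eq, Polynomial.eval_C]
        rfl
      · intro i
        change (γ₀ (MvPolynomial.X i)).eval 1 = _
        simp [γ₀]
    exact RingHom.congr_fun this f
  · intro a
    obtain ⟨f, rfl⟩ := Ideal.Quotient.mk_surjective a
    exact hεγ₀ f

end Groth.Agent.S15836
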