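import Groth.Statements.S15837
import Groth.Agent.SprIso.K875.Coinc
import Groth.Agent.SprIso.K875.FinLocProj
import Groth.Agent.Sga3.H817.CentRepProj
-- import your own Groth.Agent.* helpers here

set_option autoImplicit false
universe u
open CategoryTheory MonoidalCategory CartesianMonoidalCategory MonObj GrpObj AlgebraicGeometry
open SprIso

namespace Groth.Agent.S15837

/-- Let S be a scheme, G an S-group scheme of finite presentation acting on an S-scheme X which is
affine and of finite presentation over S, and Y a closed subscheme of X which is finite, flat and of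
finite presentation over S. Then the functorial stabilizer of Y in G — whose points with values in
an S-scheme T are the points g of G such that g acts as the identity on every point of Y with values
in a scheme over T — is represented by a closed subscheme of G whose inclusion is of finite
presentation. -/
theorem result (S : Scheme.{u}) (G X Y : Over S) [GrpObj G]
    [LocallyOfFinitePresentation G.hom] [QuasiCompact G.hom] [QuasiSeparated G.hom]
    [IsAffineHom X.hom] [LocallyOfFinitePresentation X.hom] (a : AlgGrp.Action G X)
    (i : Y ⟶ X) [IsClosedImmersion i.left] [IsFinite Y.hom] [Flat Y.hom] [LocallyOfFinitePresentation Y.hom] :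
    ∃ (Z : Over S) (j : Z ⟶ G), IsClosedImmersion j.left ∧ LocallyOfFinitePresentation j.left ∧
      ∀ (T : Over S) (g : T ⟶ G), (∃ z : T ⟶ Z, z ≫ j = g) ↔
        ∀ (T' : Over S) (t : T' ⟶ T) (y : T' ⟶ Y), lift (t ≫ g) (y ≫ i) ≫ a.act = y ≫ i := by
  have hdc := K875.Coinc.isClosedImmersion_diag X
  have hdf := K875.Coinc.locallyOfFinitePresentation_diag X
  obtain ⟨Z, j, h1, h2, h3⟩ := Groth.Agent.Sga3.H817.CentRepProj.exists_closed_map
    (X := G) (Q := Y) (K875.FinLocProj.locProj Y.hom)
    (lift ((G ◁ i) ≫ a.act) (snd G Y ≫ i)) (lift (𝟙 X) (𝟙 X))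
  refine ⟨Z, j, h1, h3 inferInstance hdf, fun T g => ?_⟩
  rw [h2]
  refine forall_congr' fun T' => forall_congr' fun t => forall_congr' fun y => ?_
  have e1 : lift (t ≫ g) y ≫ lift ((G ◁ i) ≫ a.act) (snd G Y ≫ i) =
      lift (lift (t ≫ g) (y ≫ i) ≫ a.act) (y ≫ i) := by
    rw [comp_lift, ← Category.assoc, lift_whiskerLeft, lift_snd_assoc]
  rw [e1]
  constructor
  · rintro ⟨b, hb⟩
    rw [comp_lift, Category.comp_id] at hb
    have h4 := congrArg (fun f => f ≫ fst _ _) hb
    have h5 := congrArg (fun f => f ≫ snd _ _) hb
    simp only [lift_fst, lift_snd] at h4 h5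
    rw [← h4, ← h5]
  · intro h
    exact ⟨y ≫ i, by rw [comp_lift, Category.comp_id, h]⟩

end Groth.Agent.S15837
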