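import Groth.Statements.S15838
import Mathlib.LinearAlgebra.JordanChevalley
-- import your own Groth.Agent.* helpers here

set_option autoImplicit false
universe u
open scoped TensorProduct
open SprIso

namespace Groth.Agent.S15838

/-- Uniqueness part of the additive Jordan decomposition, in the form: the nilpotent and the semisimple
part of `X` are polynomials in `X`. -/
theorem mem_adjoin_of_jordan {k : Type*} [Field k] [PerfectField k]
    {V : Type*} [AddCommGroup V] [Module k V] [FiniteDimensional k V]
    (X Y N : Module.End k V) (hY : Y.IsSemisimple) (hN : IsNilpotent N) (hYN : Commute Y N)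
    (h : X = Y + N) : Y ∈ Algebra.adjoin k {X} ∧ N ∈ Algebra.adjoin k {X} := by
  obtain ⟨N', hN', Y', hY', hnil, hss, he⟩ := Module.End.exists_isNilpotent_isSemisimple (K := k) (f := X)
  have hXY : Commute X Y := by
    rw [h]; exact (Commute.refl Y).add_left hYN.symm
  have hXN : Commute X N := by
    rw [h]; exact hYN.add_left (Commute.refl N)
  have comm_of_mem : ∀ Z : Module.End k V, Commute X Z → ∀ W ∈ Algebra.adjoin k {X}, Commute W Z := by
    intro Z hZ W hW
    induction hW using Algebra.adjoin_induction with
    | mem x hx => rw [Set.mem_singleton_iff] at hx; rw [hx]; exact hZ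
    | algebraMap r => exact Algebra.commutes r Z
    | add x y _ _ hx hy => exact hx.add_left hy
    | mul x y _ _ hx hy => exact hx.mul_left hy
  have h1 : Commute Y' Y := comm_of_mem Y hXY Y' hY'
  have h2 : Commute N' N := comm_of_mem N hXN N' hN'
  have hsub : Y' - Y = N - N' := by
    have : Y + N = N' + Y' := by rw [← h, ← he]
    refine sub_eq_sub_iff_add_eq_add.mpr ?_
    rw [add_comm Y' N', ← this, add_comm]
  have hss' : (Y' - Y).IsSemisimple := Module.End.IsSemisimple.sub_of_commute h1 hss hY
  have hnil' : IsNilpotent (Y' - Y) := by
    rw [hsub]; exact h2.symm.isNilpotent_sub hN hnil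
  have h0 : Y' - Y = 0 :=
    Module.End.eq_zero_of_isNilpotent_isSemisimple hnil' hss'
  have hYY : Y = Y' := (sub_eq_zero.mp h0).symm
  have hNN : N = N' := by
    have := hsub
    rw [h0] at this
    exact sub_eq_zero.mp this.symm
  exact ⟨hYY ▸ hY', hNN ▸ hN'⟩

theorem commute_baseChange_of_mem_adjoin {k : Type*} [Field k]
    {V : Type*} [AddCommGroup V] [Module k V]
    (R : Type*) [CommRing R] [Algebra k R] (h : Module.End R (R ⊗[k] V)) (X Z : Module.End k V)
    (hZ : Z ∈ Algebra.adjoin k {X}) (hX : Commute h (X.baseChange R)) :
    Commute h (Z.baseChange R) := by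
  induction hZ using Algebra.adjoin_induction with
  | mem x hx => rw [Set.mem_singleton_iff] at hx; rw [hx]; exact hX
  | algebraMap r =>
      rw [Algebra.algebraMap_eq_smul_one, LinearMap.baseChange_smul]
      have : LinearMap.baseChange R (1 : Module.End k V) = 1 := by
        ext v; simp
      rw [this]
      refine LinearMap.ext fun x => ?_
      change h (r • x) = r • h x
      exact (h.restrictScalars k).map_smul r x
  | add x y _ _ hx hy => rw [LinearMap.baseChange_add]; exact hx.add_right hy
  | mul x y _ _ hx hy =>
      have : LinearMap.baseChange R (x * y) = LinearMap.baseChange R x * LinearMap.baseChange R y := by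
        ext v; simp
      rw [this]; exact hx.mul_right hy


/-- General linear group case: this is the case G = GL(V), to which the general case reduces along a
closed embedding. Let k be a perfect field and V a finite-dimensional k-vector space. If an
invertible endomorphism g of V has multiplicative Jordan decomposition g = t u (t semisimple, u
unipotent, t and u commuting), then the scheme-theoretic centralizer of g in GL(V) is the
centralizer of u inside the centralizer of t: for every commutative k-algebra R, an R-linear
endomorphism h of R ⊗ V commutes with g_R if and only if it commutes with both t_R and u_R.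
Likewise, if an endomorphism X of V has additive Jordan decomposition X = Y + N (Y semisimple, N
nilpotent, commuting), then h commutes with X_R if and only if it commutes with both Y_R and N_R. -/
theorem result (k : Type u) [Field k] [PerfectField k]
    (V : Type u) [AddCommGroup V] [Module k V] [FiniteDimensional k V]
    (R : Type u) [CommRing R] [Algebra k R] (h : Module.End R (R ⊗[k] V)) :
    (∀ (g t u : Module.End k V), IsUnit g → t.IsSemisimple → IsNilpotent (u - 1) → Commute t u → g = t * u →
      (Commute h (g.baseChange R) ↔ Commute h (t.baseChange R) ∧ Commute h (u.baseChange R))) ∧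
    (∀ (X Y N : Module.End k V), Y.IsSemisimple → IsNilpotent N → Commute Y N → X = Y + N →
      (Commute h (X.baseChange R) ↔ Commute h (Y.baseChange R) ∧ Commute h (N.baseChange R))) := by
  have addcase : ∀ (X Y N : Module.End k V), Y.IsSemisimple → IsNilpotent N → Commute Y N → X = Y + N →
      (Commute h (X.baseChange R) ↔ Commute h (Y.baseChange R) ∧ Commute h (N.baseChange R)) := by
    intro X Y N hY hN hYN hX
    obtain ⟨h1, h2⟩ := mem_adjoin_of_jordan X Y N hY hN hYN hX
    constructor
    · intro hc
      exact ⟨commute_baseChange_of_mem_adjoin R h X Y h1 hc, commute_baseChange_of_mem_adjoin R h X N h2 hc⟩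
    · rintro ⟨ha, hb⟩
      rw [hX, LinearMap.baseChange_add]
      exact ha.add_right hb
  refine ⟨?_, addcase⟩
  intro g t u hg ht hu htu hgtu
  have hmul : LinearMap.baseChange R (t * u) = LinearMap.baseChange R t * LinearMap.baseChange R u := by
    ext v; simp
  have hcomm : Commute t (t * (u - 1)) :=
    (Commute.refl t).mul_right (htu.sub_right (Commute.one_right t))
  have hnil : IsNilpotent (t * (u - 1)) :=
    (htu.sub_right (Commute.one_right t)).isNilpotent_mul_left hu
  have hdec : g = t + t * (u - 1) := by rw [hgtu, mul_sub, mul_one, add_sub_cancel]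
  have hkey := addcase g t (t * (u - 1)) ht hnil hcomm hdec
  constructor
  · intro hc
    refine ⟨(hkey.mp hc).1, ?_⟩
    -- t is invertible
    have hgt : Commute g t := by
      rw [hgtu]; exact (Commute.refl t).mul_left htu.symm
    have htu' : IsUnit t := by
      have : IsUnit (t * u) := hgtu ▸ hg
      exact (htu.isUnit_mul_iff.mp this).1
    obtain ⟨T, hT⟩ := htu'
    have hTinv : LinearMap.baseChange R t * LinearMap.baseChange R ((T⁻¹ : (Module.End k V)ˣ) : Module.End k V) = 1 := by
      have h1 : LinearMap.baseChange R (t * ((T⁻¹ : (Module.End k V)ˣ) : Module.End k V)) =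
        LinearMap.baseChange R t * LinearMap.baseChange R ((T⁻¹ : (Module.End k V)ˣ) : Module.End k V) := by
        ext v; simp
      rw [← h1, ← hT, Units.mul_inv]
      ext v; simp
    have hTinv' : LinearMap.baseChange R ((T⁻¹ : (Module.End k V)ˣ) : Module.End k V) * LinearMap.baseChange R t = 1 := by
      have h1 : LinearMap.baseChange R (((T⁻¹ : (Module.End k V)ˣ) : Module.End k V) * t) =
        LinearMap.baseChange R ((T⁻¹ : (Module.End k V)ˣ) : Module.End k V) * LinearMap.baseChange R t := by
        ext v; simp
      rw [← h1, ← hT, Units.inv_mul]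
      ext v; simp
    let TR : (Module.End R (R ⊗[k] V))ˣ := ⟨_, _, hTinv, hTinv'⟩
    have hcT : Commute h (TR : Module.End R (R ⊗[k] V)) := (hkey.mp hc).1
    have hcTi : Commute h ((TR⁻¹ : (Module.End R (R ⊗[k] V))ˣ) : Module.End R (R ⊗[k] V)) := hcT.units_inv_right
    have hueq : LinearMap.baseChange R u =
        ((TR⁻¹ : (Module.End R (R ⊗[k] V))ˣ) : Module.End R (R ⊗[k] V)) * LinearMap.baseChange R g := by
      rw [hgtu, hmul, ← mul_assoc]
      have : ((TR⁻¹ : (Module.End R (R ⊗[k] V))ˣ) : Module.End R (R ⊗[k] V)) * LinearMap.baseChange R t = 1 := hTinv'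
      rw [this, one_mul]
    rw [hueq]
    exact hcTi.mul_right hc
  · rintro ⟨ha, hb⟩
    rw [hgtu, hmul]
    exact ha.mul_right hb

end Groth.Agent.S15838
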