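import Groth.Statements.S15839
import Groth.Agent.SprIso.K875.Coinc
-- import your own Groth.Agent.* helpers here

set_option autoImplicit false
universe u
open CategoryTheory MonoidalCategory CartesianMonoidalCategory MonObj GrpObj AlgebraicGeometry
open SprIso

namespace Groth.Agent.S15839

/-- Let S be a scheme, G an S-group scheme which is affine and of finite presentation over S, and g a
section of G over S. Then the centralizer of g — the subfunctor of G whose points with values in an
S-scheme T are the points x of G with x g_T = g_T x — is represented by a closed subscheme of G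
whose inclusion is of finite presentation. -/
theorem result (S : Scheme.{u}) (G : Over S) [GrpObj G]
    [IsAffineHom G.hom] [LocallyOfFinitePresentation G.hom] (g : 𝟙_ (Over S) ⟶ G) :
    ∃ (Z : Over S) (j : Z ⟶ G), IsClosedImmersion j.left ∧ LocallyOfFinitePresentation j.left ∧
      ∀ (T : Over S) (x : T ⟶ G), (∃ z : T ⟶ Z, z ≫ j = x) ↔
        x * (toUnit T ≫ g) = (toUnit T ≫ g) * x := by
  obtain ⟨Z, j, h1, h2, h3⟩ := K875.Coinc.exists_eq (𝟙 G * (toUnit G ≫ g)) ((toUnit G ≫ g) * 𝟙 G)
  refine ⟨Z, j, h1, h3 inferInstance, fun T x => ?_⟩
  rw [h2, MonObj.comp_mul, MonObj.comp_mul, Category.comp_id, ← Category.assoc, comp_toUnit]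

end Groth.Agent.S15839
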