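import Groth.Statements.S15841
-- import your own Groth.Agent.* helpers here

set_option autoImplicit false
universe u
open scoped TensorProduct
open SprIso

namespace Groth.Agent.S15841

section aux

variable {ι M N : Type*} [AddCommGroup M] [AddCommGroup N] (P : RootPairing ι ℤ M N)
  (k : Type*) [Field k]

/-- base change of a functional, with values in `k` -/
noncomputable def fn (f : N →ₗ[ℤ] ℤ) : k ⊗[ℤ] N →ₗ[k] k :=
  (TensorProduct.AlgebraTensorModule.rid ℤ k k).toLinearMap ∘ₗ f.baseChange k

theorem fn_tmul (f : N →ₗ[ℤ] ℤ) (c : k) (x : N) : fn k f (c ⊗ₜ x) = (f x : k) * c := by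
  simp [fn, LinearMap.baseChange_tmul]

theorem baseChange_eq_zero_of_fn (f : N →ₗ[ℤ] ℤ) (H : k ⊗[ℤ] N) (h : fn k f H = 0) :
    f.baseChange k H = 0 :=
  (TensorProduct.AlgebraTensorModule.rid ℤ k k).map_eq_zero_iff.mp h

/-- the base change of a simple coreflection -/
noncomputable def sR (i : ι) : k ⊗[ℤ] N →ₗ[k] k ⊗[ℤ] N :=
  (((P.coreflection i : N ≃ₗ[ℤ] N) : N →ₗ[ℤ] N)).baseChange k

theorem sR_apply (i : ι) (H : k ⊗[ℤ] N) :
    sR P k i H = H - fn k (P.root' i) H • ((1 : k) ⊗ₜ[ℤ] P.coroot i) := by
  induction H using TensorProduct.induction_on with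
  | zero => simp
  | tmul c x =>
    rw [sR, LinearMap.baseChange_tmul, LinearEquiv.coe_coe, RootPairing.coreflection_apply, fn_tmul,
      TensorProduct.tmul_sub, TensorProduct.smul_tmul', smul_eq_mul, mul_one, TensorProduct.tmul_smul,
      ← Int.cast_smul_eq_zsmul k, TensorProduct.smul_tmul', smul_eq_mul]
  | add x y hx hy => rw [map_add, map_add, hx, hy, add_smul]; abel

theorem sR_sR (i : ι) (H : k ⊗[ℤ] N) : sR P k i (sR P k i H) = H := by
  induction H using TensorProduct.induction_on with
  | zero => simp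
  | tmul c x =>
    rw [sR, LinearMap.baseChange_tmul, LinearMap.baseChange_tmul, LinearEquiv.coe_coe,
      RootPairing.coreflection_same]
  | add x y hx hy => rw [map_add, map_add, hx, hy]

theorem prod_cons_apply (i : ι) (l : List ι) (H : k ⊗[ℤ] N) :
    (((i :: l).map (fun i => ((P.coreflection i : N ≃ₗ[ℤ] N) : N →ₗ[ℤ] N))).prod).baseChange k H =
      sR P k i ((((l.map (fun i => ((P.coreflection i : N ≃ₗ[ℤ] N) : N →ₗ[ℤ] N))).prod).baseChange k H)) := by
  rw [List.map_cons, List.prod_cons]
  induction H using TensorProduct.induction_on with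
  | zero => simp
  | tmul c x => rfl
  | add x y hx hy => rw [map_add, map_add, map_add, hx, hy]

theorem prod_nil_apply (H : k ⊗[ℤ] N) :
    ((([] : List ι).map (fun i => ((P.coreflection i : N ≃ₗ[ℤ] N) : N →ₗ[ℤ] N))).prod).baseChange k H = H := by
  rw [List.map_nil, List.prod_nil]
  induction H using TensorProduct.induction_on with
  | zero => simp
  | tmul c x => rfl
  | add x y hx hy => rw [map_add, hx, hy]

theorem fn_prod_sub (f : N →ₗ[ℤ] ℤ) (l : List ι) (hf : ∀ j ∈ l, f (P.coroot j) = 0) (H : k ⊗[ℤ] N) :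
    fn k f (((l.map (fun i => ((P.coreflection i : N ≃ₗ[ℤ] N) : N →ₗ[ℤ] N))).prod).baseChange k H) =
      fn k f H := by
  induction l with
  | nil => rw [prod_nil_apply]
  | cons j l ih =>
    rw [prod_cons_apply, sR_apply, map_sub, map_smul, fn_tmul, hf j (by simp), Int.cast_zero, zero_mul,
      smul_zero, sub_zero]
    exact ih fun j' hj' => hf j' (by simp [hj'])

theorem main (l : List ι) (hl : l.Nodup)
    (hsc : ∀ i ∈ l, ∃ ω : M, P.coroot' i ω = 1 ∧ ∀ j ∈ l, j ≠ i → P.coroot' j ω = 0)
    (H : k ⊗[ℤ] N)
    (hH : ((l.map (fun i => ((P.coreflection i : N ≃ₗ[ℤ] N) : N →ₗ[ℤ] N))).prod).baseChange k H = H) :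
    ∀ i ∈ l, fn k (P.root' i) H = 0 := by
  induction l with
  | nil => intro i hi; simp at hi
  | cons j l ih =>
    rw [List.nodup_cons] at hl
    set Q := ((l.map (fun i => ((P.coreflection i : N ≃ₗ[ℤ] N) : N →ₗ[ℤ] N))).prod).baseChange k H with hQ
    rw [prod_cons_apply] at hH
    have h1 : Q = sR P k j H := by
      rw [hQ, ← sR_sR P k j (LinearMap.baseChange k _ H), hH]
    obtain ⟨ω, hω1, hω2⟩ := hsc j (by simp)
    have h2 : fn k (P.toLinearMap ω) Q = fn k (P.toLinearMap ω) H := by
      rw [hQ]
      refine fn_prod_sub P k _ l (fun j' hj' => ?_) H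
      exact hω2 j' (by simp [hj']) (by rintro rfl; exact hl.1 hj')
    have h3 : fn k (P.root' j) H = 0 := by
      rw [h1, sR_apply, map_sub, map_smul, fn_tmul] at h2
      have h4 : P.toLinearMap ω (P.coroot j) = 1 := hω1
      rw [h4, Int.cast_one, one_mul, smul_eq_mul, mul_one] at h2
      exact sub_eq_self.mp h2
    intro i hi
    rcases List.mem_cons.mp hi with rfl | hi
    · exact h3
    · refine ih hl.2 (fun i hi => ?_) ?_ i hi
      · obtain ⟨ω, h5, h6⟩ := hsc i (by simp [hi])
        exact ⟨ω, h5, fun j' hj' => h6 j' (by simp [hj'])⟩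
      · change Q = H
        rw [h1, sR_apply, h3, zero_smul, sub_zero]

end aux


/-- For a connected reductive group G with maximal torus T whose derived group is simply connected, and
a Coxeter element w (the product of the simple reflections, each once, in any order), an element of
Lie T = k ⊗ X_*(T) fixed by Ad(w) is killed by the differential of every simple root, i.e. lies in
the centre of Lie G. In root-datum form: let P be a root pairing over ℤ with character lattice M and
cocharacter lattice N, b a base, and suppose each simple coroot has a dual character ω_i in M with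
⟨ω_i, α_i^∨⟩ = 1 and ⟨ω_i, α_j^∨⟩ = 0 for every other simple j (the simply connected derived group
hypothesis). If l lists the simple roots without repetition, w^∨ is the composite of the
coreflections along l acting on N, k is a field and H in k ⊗ N satisfies w^∨_k H = H, then (α_i)_k H
= 0 for every simple root α_i, where (α_i)_k is the base change to k of the functional ⟨α_i, −⟩ on
N. (Stated for an arbitrary field k; the published setting is an algebraically closed field, and the
argument does not depend on k.) -/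
theorem result {ι M N : Type u} [AddCommGroup M] [AddCommGroup N]
    (P : RootPairing ι ℤ M N) (b : P.Base)
    (hsc : ∀ i ∈ b.support, ∃ ω : M, P.coroot' i ω = 1 ∧ ∀ j ∈ b.support, j ≠ i → P.coroot' j ω = 0)
    (l : List ι) (hl : l.Nodup) (hlb : ∀ i : ι, i ∈ l ↔ i ∈ b.support)
    (k : Type u) [Field k] (H : k ⊗[ℤ] N)
    (hH : ((l.map (fun i => ((P.coreflection i : N ≃ₗ[ℤ] N) : N →ₗ[ℤ] N))).prod).baseChange k H = H) :
    ∀ i ∈ b.support, (P.root' i).baseChange k H = 0 := by
  intro i hi
  apply baseChange_eq_zero_of_fn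
  refine main P k l hl (fun i hi => ?_) H hH i ((hlb i).mpr hi)
  obtain ⟨ω, h1, h2⟩ := hsc i ((hlb i).mp hi)
  exact ⟨ω, h1, fun j hj => h2 j ((hlb j).mp hj)⟩

end Groth.Agent.S15841
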