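import Groth.Statements.S15843
import Groth.Agent.SprIso.K875.RegFam
import Mathlib.RingTheory.Flat.Localization
import Mathlib.RingTheory.Flat.Stability
-- import your own Groth.Agent.* helpers here

set_option autoImplicit false
universe u
open SprIso

namespace Groth.Agent.S15843

/-- The flatness assertion, for a section of the group and equally for a section of its Lie algebra, in
the case G = GL_n (its derived group SL_n is simply connected and every prime is good for it, so the
hypotheses on the fundamental group and on the characteristic that the general statement needs hold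
over every base, and strong regularity is regularity). Let A be a commutative ring and g an n × n
matrix over A — a section of GL_n when invertible, of its Lie algebra gl_n in general; in both cases
the centralizer in GL_n is the scheme of invertible matrices commuting with g — which is fiberwise
regular (at every field-valued point A → K the commutant of g_K in M_n(K) has dimension n). Then the
centralizer Z_{GL_n}(g) is flat over A; concretely, with X the generic n × n matrix over A[x_ij],
the ring obtained from A[x_ij] by dividing by the entries of X g − g X and inverting det X is a flat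
A-module. -/
theorem result (A : Type u) [CommRing A] (n : ℕ)
    (g : Matrix (Fin n) (Fin n) A)
    (hreg : ∀ (K : Type u) [Field K] (φ : A →+* K),
      Module.finrank K (Subalgebra.centralizer K ({g.map φ} : Set (Matrix (Fin n) (Fin n) K))) = n) :
    Module.Flat A (Localization.Away
      (Ideal.Quotient.mk (Ideal.span (Set.range fun ij : Fin n × Fin n =>
        (Matrix.mvPolynomialX (Fin n) (Fin n) A * g.map MvPolynomial.C -
          g.map MvPolynomial.C * Matrix.mvPolynomialX (Fin n) (Fin n) A :
            Matrix (Fin n) (Fin n) (MvPolynomial (Fin n × Fin n) A)) ij.1 ij.2))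
        (Matrix.mvPolynomialX (Fin n) (Fin n) A).det)) := by
  have hg : K875.RegFam.IsFibReg g := fun K _ φ => hreg K φ
  obtain ⟨S, Y, hES, hSE⟩ := K875.RegFam.exists_S_Y g hg
  set I : Ideal (MvPolynomial (Fin n × Fin n) A) := Ideal.span (Set.range fun ij : Fin n × Fin n =>
        (Matrix.mvPolynomialX (Fin n) (Fin n) A * g.map MvPolynomial.C -
          g.map MvPolynomial.C * Matrix.mvPolynomialX (Fin n) (Fin n) A :
            Matrix (Fin n) (Fin n) (MvPolynomial (Fin n × Fin n) A)) ij.1 ij.2) with hI
  -- the entries of the relation, as linear forms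
  have hrel : ∀ ij : Fin n × Fin n, (Matrix.mvPolynomialX (Fin n) (Fin n) A * g.map MvPolynomial.C -
          g.map MvPolynomial.C * Matrix.mvPolynomialX (Fin n) (Fin n) A :
            Matrix (Fin n) (Fin n) (MvPolynomial (Fin n × Fin n) A)) ij.1 ij.2 =
        ∑ kl, MvPolynomial.C (K875.RegFam.D g ij kl) * MvPolynomial.X kl := by
    intro ij
    have h1 := K875.RegFam.D_mulVec (g.map (MvPolynomial.C : A →+* MvPolynomial (Fin n × Fin n) A))
      (Matrix.mvPolynomialX (Fin n) (Fin n) A) ij
    rw [← h1, K875.RegFam.D_map]
    rfl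
  let α : MvPolynomial (Fin n × Fin n) A →ₐ[A] MvPolynomial (Fin n) A :=
    MvPolynomial.aeval fun ij => ∑ k, MvPolynomial.C (K875.RegFam.E g k ij) * MvPolynomial.X k
  have hαI : ∀ a ∈ I, α a = 0 := by
    intro a ha
    have : I ≤ RingHom.ker α := by
      rw [hI, Ideal.span_le]
      rintro _ ⟨ij, rfl⟩
      refine (congrArg α (hrel ij)).trans ?_
      rw [map_sum]
      have h0 := K875.RegFam.E_mul_Dt g
      have h1 : ∀ k, ∑ kl, K875.RegFam.D g ij kl * K875.RegFam.E g k kl = 0 := by
        intro k
        have := congrFun (congrFun h0 k) ij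
        rw [Matrix.mul_apply] at this
        simp only [Matrix.transpose_apply, Matrix.zero_apply] at this
        rw [← this]
        exact Finset.sum_congr rfl fun _ _ => mul_comm _ _
      have h2 : ∀ kl, α (MvPolynomial.C (K875.RegFam.D g ij kl) * MvPolynomial.X kl) =
          ∑ k, MvPolynomial.C (K875.RegFam.D g ij kl * K875.RegFam.E g k kl) * MvPolynomial.X k := by
        intro kl
        rw [map_mul, MvPolynomial.algHom_C, MvPolynomial.aeval_X, Finset.mul_sum]
        refine Finset.sum_congr rfl fun k _ => ?_
        rw [MvPolynomial.algebraMap_eq, ← mul_assoc, ← map_mul]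
      simp_rw [h2]
      rw [Finset.sum_comm]
      refine Finset.sum_eq_zero fun k _ => ?_
      rw [← Finset.sum_mul, ← map_sum, h1 k, map_zero, zero_mul]
    exact this ha
  let αbar : (MvPolynomial (Fin n × Fin n) A ⧸ I) →ₐ[A] MvPolynomial (Fin n) A :=
    Ideal.Quotient.liftₐ I α hαI
  let β : MvPolynomial (Fin n) A →ₐ[A] (MvPolynomial (Fin n × Fin n) A ⧸ I) :=
    MvPolynomial.aeval fun k => Ideal.Quotient.mkₐ A I (∑ ij, MvPolynomial.C (S ij k) * MvPolynomial.X ij)
  have hαβ : αbar.comp β = AlgHom.id A _ := by
    apply MvPolynomial.algHom_ext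
    intro k
    rw [AlgHom.comp_apply, MvPolynomial.aeval_X, AlgHom.id_apply]
    change α _ = _
    rw [map_sum]
    have h2 : ∀ ij, α (MvPolynomial.C (S ij k) * MvPolynomial.X ij) =
          ∑ l, MvPolynomial.C (K875.RegFam.E g l ij * S ij k) * MvPolynomial.X l := by
      intro ij
      rw [map_mul, MvPolynomial.algHom_C, MvPolynomial.aeval_X, Finset.mul_sum]
      refine Finset.sum_congr rfl fun l _ => ?_
      rw [MvPolynomial.algebraMap_eq, ← mul_assoc, ← map_mul, mul_comm (S ij k)]
    simp_rw [h2]
    rw [Finset.sum_comm]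
    have h3 : ∀ l, ∑ ij, MvPolynomial.C (K875.RegFam.E g l ij * S ij k) * MvPolynomial.X l =
        MvPolynomial.C ((1 : Matrix (Fin n) (Fin n) A) l k) * (MvPolynomial.X l : MvPolynomial (Fin n) A) := by
      intro l
      rw [← Finset.sum_mul, ← map_sum, ← hES, Matrix.mul_apply]
    simp_rw [h3]
    rw [Finset.sum_eq_single k]
    · rw [Matrix.one_apply_eq, map_one, one_mul]
    · intro l _ hl
      rw [Matrix.one_apply_ne hl, map_zero, zero_mul]
    · intro h; exact (h (Finset.mem_univ _)).elim
  have hβα : β.comp αbar = AlgHom.id A _ := by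
    apply Ideal.Quotient.algHom_ext
    apply MvPolynomial.algHom_ext
    intro ij
    change β (α (MvPolynomial.X ij)) = Ideal.Quotient.mkₐ A I (MvPolynomial.X ij)
    rw [MvPolynomial.aeval_X, map_sum]
    have h2 : ∀ k, β (MvPolynomial.C (K875.RegFam.E g k ij) * MvPolynomial.X k) =
        Ideal.Quotient.mkₐ A I (∑ kl, MvPolynomial.C (S kl k * K875.RegFam.E g k ij) * MvPolynomial.X kl) := by
      intro k
      rw [map_mul, MvPolynomial.algHom_C, MvPolynomial.aeval_X]
      have : algebraMap A (MvPolynomial (Fin n × Fin n) A ⧸ I) (K875.RegFam.E g k ij) =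
          Ideal.Quotient.mkₐ A I (MvPolynomial.C (K875.RegFam.E g k ij)) := rfl
      rw [this, ← map_mul, Finset.mul_sum]
      congr 1
      refine Finset.sum_congr rfl fun kl _ => ?_
      rw [← mul_assoc, ← map_mul, mul_comm (S kl k)]
    simp_rw [h2]
    rw [← map_sum, Finset.sum_comm]
    have h3 : ∀ kl, ∑ k, MvPolynomial.C (S kl k * K875.RegFam.E g k ij) * MvPolynomial.X kl =
        MvPolynomial.C ((1 + (K875.RegFam.D g).transpose * Y) kl ij) *
          (MvPolynomial.X kl : MvPolynomial (Fin n × Fin n) A) := by
      intro kl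
      rw [← Finset.sum_mul, ← map_sum, ← hSE, Matrix.mul_apply]
    simp_rw [h3, Matrix.add_apply, map_add, add_mul]
    rw [Finset.sum_add_distrib, Finset.sum_eq_single ij, Matrix.one_apply_eq, map_one, one_mul]
    · rw [map_add, add_eq_left]
      change Ideal.Quotient.mk I _ = 0
      rw [Ideal.Quotient.eq_zero_iff_mem]
      have h4 : ∑ kl, MvPolynomial.C (((K875.RegFam.D g).transpose * Y) kl ij) *
          (MvPolynomial.X kl : MvPolynomial (Fin n × Fin n) A) =
          ∑ ab, MvPolynomial.C (Y ab ij) * ∑ kl, MvPolynomial.C (K875.RegFam.D g ab kl) * MvPolynomial.X kl := by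
        simp_rw [Finset.mul_sum]
        rw [Finset.sum_comm]
        refine Finset.sum_congr rfl fun kl _ => ?_
        rw [Matrix.mul_apply, map_sum, Finset.sum_mul]
        refine Finset.sum_congr rfl fun ab _ => ?_
        rw [Matrix.transpose_apply, map_mul]
        ring
      rw [h4]
      refine Ideal.sum_mem _ fun ab _ => Ideal.mul_mem_left _ _ (Ideal.subset_span ⟨ab, ?_⟩)
      exact hrel ab
    · intro kl _ hkl
      rw [Matrix.one_apply_ne hkl, map_zero, zero_mul]
    · intro h; exact (h (Finset.mem_univ _)).elim
  let e : (MvPolynomial (Fin n × Fin n) A ⧸ I) ≃ₐ[A] MvPolynomial (Fin n) A :=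
    AlgEquiv.ofAlgHom αbar β hαβ hβα
  haveI : Module.Flat A (MvPolynomial (Fin n × Fin n) A ⧸ I) :=
    Module.Flat.of_linearEquiv e.toLinearEquiv
  haveI : Module.Flat (MvPolynomial (Fin n × Fin n) A ⧸ I) (Localization.Away
      (Ideal.Quotient.mk I (Matrix.mvPolynomialX (Fin n) (Fin n) A).det)) :=
    IsLocalization.flat _ (Submonoid.powers
      (Ideal.Quotient.mk I (Matrix.mvPolynomialX (Fin n) (Fin n) A).det))
  exact Module.Flat.trans A (MvPolynomial (Fin n × Fin n) A ⧸ I) _

end Groth.Agent.S15843
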