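import Groth.Statements.S15845
-- import your own Groth.Agent.* helpers here

set_option autoImplicit false
universe u
open SprIso

namespace Groth.Agent.S15845

/-- General linear group case: this is the case G = GL_n with its upper-triangular Borel subgroup B
(derived group SL_n simply connected, all primes good, so the hypotheses on the characteristic
hold), together with the companion statement for a regular nilpotent element of Lie B. Let k be a
field and u an n × n upper-triangular matrix over k whose diagonal entries are all equal and whose
superdiagonal entries u_{i,i+1} are all non-zero — for diagonal 1 this is a regular unipotent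
element of B(k), for diagonal 0 a regular nilpotent element of Lie B. Then the centralizer of u in
GL_n is contained in B and is the product of the centre with the centralizer in the unipotent
radical: for every commutative k-algebra R and every invertible x ∈ M_n(R) commuting with u_R, x is
upper triangular and its diagonal entries are all equal. (The smoothness of the centralizer in the
unipotent radical, also part of the published statement, is not stated here.) -/
theorem result (k : Type u) [Field k] (n : ℕ)
    (u : Matrix (Fin n) (Fin n) k) (htri : ∀ i j : Fin n, j < i → u i j = 0) (hdiag : ∀ i j : Fin n, u i i = u j j)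
    (hreg : ∀ (i j : Fin n), j.val = i.val + 1 → u i j ≠ 0)
    (R : Type u) [CommRing R] [Algebra k R] (x : Matrix (Fin n) (Fin n) R) (hx : IsUnit x)
    (hxu : x * u.map (algebraMap k R) = u.map (algebraMap k R) * x) :
    (∀ i j : Fin n, j < i → x i j = 0) ∧ (∀ i j : Fin n, x i i = x j j) := by
  rcases n with _ | n
  · exact ⟨fun i => i.elim0, fun i => i.elim0⟩
  set N : Matrix (Fin (n + 1)) (Fin (n + 1)) R := u.map (algebraMap k R) with hN
  have hNij : ∀ i j, N i j = algebraMap k R (u i j) := fun i j => rfl
  have hNtri : ∀ i j : Fin (n + 1), j < i → N i j = 0 := fun i j hij => by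
    rw [hNij, htri i j hij, map_zero]
  have hNdiag : ∀ i j : Fin (n + 1), N i i = N j j := fun i j => by rw [hNij, hNij, hdiag i j]
  have hNunit : ∀ i j : Fin (n + 1), j.val = i.val + 1 → IsUnit (N i j) := fun i j hij => by
    rw [hNij]; exact (isUnit_iff_ne_zero.mpr (hreg i j hij)).map (algebraMap k R)
  -- the strictly upper triangular part
  set M : Matrix (Fin (n + 1)) (Fin (n + 1)) R := N - (N 0 0) • (1 : Matrix (Fin (n + 1)) (Fin (n + 1)) R)
    with hM
  have hMij : ∀ i j : Fin (n + 1), i ≠ j → M i j = N i j := fun i j hij => by
    simp [hM, Matrix.one_apply_ne hij]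
  have hM0 : ∀ i j : Fin (n + 1), j ≤ i → M i j = 0 := fun i j hij => by
    rcases eq_or_lt_of_le hij with h | h
    · subst h; simp [hM, hNdiag j 0]
    · rw [hMij i j h.ne', hNtri i j h]
  have hMunit : ∀ i j : Fin (n + 1), j.val = i.val + 1 → IsUnit (M i j) := fun i j hij => by
    rw [hMij i j (by intro h; rw [h] at hij; omega)]; exact hNunit i j hij
  have hxM : x * M = M * x := by
    rw [hM, mul_sub, sub_mul, hxu, mul_smul_comm, smul_mul_assoc, mul_one, one_mul]
  have hA : ∀ i j : Fin (n + 1), ∑ l, x i l * M l j = ∑ l, M i l * x l j := by
    intro i j
    have := congrFun (congrFun hxM i) j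
    rwa [Matrix.mul_apply, Matrix.mul_apply] at this
  -- vanishing below the diagonal
  have claim1 : ∀ m : ℕ, ∀ j : Fin (n + 1), j.val = m → ∀ i : Fin (n + 1), j < i → x i j = 0 := by
    intro m
    induction m using Nat.strong_induction_on with
    | _ m ih =>
      intro j hj
      have inner : ∀ d : ℕ, ∀ i : Fin (n + 1), n - i.val = d → j < i → x i j = 0 := by
        intro d
        induction d using Nat.strong_induction_on with
        | _ d ihd =>
          intro i hi hji
          have hji' : j.val < i.val := hji
          have hilt := i.isLt
          let i' : Fin (n + 1) := ⟨i.val - 1, by omega⟩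
          have h := hA i' j
          have hL : ∑ l, x i' l * M l j = 0 := by
            refine Finset.sum_eq_zero fun l _ => ?_
            by_cases hl : l < j
            · have hl' : l.val < j.val := hl
              rw [ih l.val (by omega) l rfl i' (by change l.val < i.val - 1; omega), zero_mul]
            · rw [hM0 l j (not_lt.mp hl), mul_zero]
          have hR : ∑ l, M i' l * x l j = M i' i * x i j := by
            refine Finset.sum_eq_single i (fun l _ hl => ?_) (fun h => (h (Finset.mem_univ _)).elim)
            by_cases hl' : l ≤ i'
            · rw [hM0 i' l hl', zero_mul]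
            · have h1 : i'.val < l.val := not_le.mp hl'
              have h2 : l.val ≠ i.val := fun h => hl (Fin.ext h)
              have h3 : i'.val = i.val - 1 := rfl
              have hllt := l.isLt
              rw [ihd (n - l.val) (by omega) l rfl (by change j.val < l.val; omega), mul_zero]
          rw [hL, hR] at h
          have hu := hMunit i' i (by change i.val = i.val - 1 + 1; omega)
          exact (hu.mul_right_eq_zero).mp h.symm
      intro i hi
      exact inner _ i rfl hi
  have claim1' : ∀ i j : Fin (n + 1), j < i → x i j = 0 := fun i j h => claim1 _ j rfl i h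
  refine ⟨claim1', ?_⟩
  have claim2 : ∀ m : ℕ, ∀ i : Fin (n + 1), i.val = m → x i i = x 0 0 := by
    intro m
    induction m with
    | zero =>
      intro i hi
      have : i = 0 := Fin.ext hi
      rw [this]
    | succ m ih =>
      intro i hi
      have hilt := i.isLt
      let i' : Fin (n + 1) := ⟨m, by omega⟩
      have hi' : i'.val = m := rfl
      rw [← ih i' rfl]
      have h := hA i' i
      have hne : ∀ l : Fin (n + 1), l ≠ i' → l.val ≠ m := fun l hl h => hl (Fin.ext h)
      have hne2 : ∀ l : Fin (n + 1), l ≠ i → l.val ≠ i.val := fun l hl h => hl (Fin.ext h)
      have hL : ∑ l, x i' l * M l i = x i' i' * M i' i := by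
        refine Finset.sum_eq_single i' (fun l _ hl => ?_) (fun h => (h (Finset.mem_univ _)).elim)
        by_cases hl' : i ≤ l
        · rw [hM0 l i hl', mul_zero]
        · have h1 : l.val < i.val := not_le.mp hl'
          have h2 := hne l hl
          rw [claim1' i' l (by change l.val < m; omega), zero_mul]
      have hR : ∑ l, M i' l * x l i = M i' i * x i i := by
        refine Finset.sum_eq_single i (fun l _ hl => ?_) (fun h => (h (Finset.mem_univ _)).elim)
        by_cases hl' : l ≤ i'
        · rw [hM0 i' l hl', zero_mul]
        · have h1 : m < l.val := not_le.mp hl'
          have h2 := hne2 l hl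
          rw [claim1' l i (by change i.val < l.val; omega), mul_zero]
      rw [hL, hR, mul_comm] at h
      exact (hMunit i' i (by rw [hi])).mul_left_cancel h.symm
  intro i j
  rw [claim2 _ i rfl, claim2 _ j rfl]

end Groth.Agent.S15845
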