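import Groth.Statements.S15850
import Groth.Agent.HilbD.K536.Upper
import Groth.Agent.HilbD.K536.Lower
import Groth.Agent.HilbD.K684.FAProj
import Groth.Agent.CohqB.ProjBC
import Groth.Agent.Picfga.CurveRelDim
-- import your own Groth.Agent.* helpers here

set_option autoImplicit false
universe u
open CategoryTheory CategoryTheory.Limits AlgebraicGeometry
open HilbD

namespace Groth.Agent.S15850

/-- Let k be an algebraically closed field of characteristic zero, S a smooth projective surface over k
(integral, smooth over k, of dimension two, with a closed immersion over k into some projective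
space) and C ⊆ S a non-empty effective Cartier divisor, i.e. a closed subscheme whose ideal is
locally generated by one nonzerodivisor (C may be reducible and non-reduced). If a k-scheme H with
an object Z of Hilb^d(C)(H) represents the Hilbert functor of d points of C over k (closed
subschemes of C ×_k T finite locally free of degree d over T), then the topological Krull dimension
of H is d. (The published lemma concerns the zero scheme of a section of a power of the polarisation
on a K3 surface; its argument uses only that C is a curve on a smooth surface, which is the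
generality taken here.) -/
theorem result
    (k : Type u) [Field k] [IsAlgClosed k] [CharZero k]
    (S : Scheme.{u}) [S.Over (Spec (CommRingCat.of k))] [IsIntegral S]
    [Smooth (S ↘ Spec (CommRingCat.of k))] (hdim : topologicalKrullDim S = 2)
    [IsProper (S ↘ Spec (CommRingCat.of k))]
    (hproj : ∃ (n : ℕ) (ι : S ⟶ CohB1.ProjSpace n k), IsClosedImmersion ι ∧
      ι ≫ CohB1.ProjSpace.toSpec n k = S ↘ Spec (CommRingCat.of k))
    (I : S.IdealSheafData) (hI : FGA.IsEffCartier I) [Nonempty I.subscheme]
    (d : ℕ) (H : Over (Spec (CommRingCat.of k)))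
    (Z : HilbD.Obj (I.subschemeι ≫ (S ↘ Spec (CommRingCat.of k))) d H)
    (hH : HilbD.IsUniversal (I.subschemeι ≫ (S ↘ Spec (CommRingCat.of k))) d H Z) :
    topologicalKrullDim H.left = (d : WithBot ℕ∞) := by
  obtain ⟨n, ι, hι1, hι2⟩ := hproj
  set g := (S ↘ Spec (CommRingCat.of k)) with hg
  have hFA : K684.NestPush.FA S := by
    have h1 : IsClosedImmersion (ι ≫ (Groth.Agent.CohqB.ProjBC.projSpaceOverIso n k).inv) := inferInstance
    exact K684.FAProj.fa (ι ≫ (Groth.Agent.CohqB.ProjBC.projSpaceOverIso n k).inv)
  have hsm : SmoothOfRelativeDimension 2 g :=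
    Groth.Agent.Picfga.CurveRelDim.smoothOfRelativeDimension_of_topologicalKrullDim_eq k S g 2 hdim
  have hgen : genericPoint S ∉ I.support := by
    intro h
    obtain ⟨⟨U, hU⟩, hyU, a, ha, hIa⟩ := hI (genericPoint S)
    have h3 := I.coe_support_inter ⟨U, hU⟩
    have h4 : genericPoint S ∈ (I.support : Set S) ∩ (U : Set S) := ⟨h, hyU⟩
    rw [h3, hIa] at h4
    have h5 := (S.mem_zeroLocus_iff _ _).1 h4.1 a (Ideal.mem_span_singleton_self a)
    have hne : Nonempty U := ⟨⟨_, hyU⟩⟩
    have h6 : S.basicOpen a ≠ ⊥ := by
      rw [Ne, AlgebraicGeometry.basicOpen_eq_bot_iff]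
      exact nonZeroDivisors.ne_zero ha
    have h7 : ((S.basicOpen a : S.Opens) : Set S).Nonempty := by
      rw [Set.nonempty_iff_ne_empty]
      intro h8
      exact h6 (TopologicalSpace.Opens.ext h8)
    exact h5 (((genericPoint_spec S).mem_open_set_iff (S.basicOpen a).2).2 (by simpa using h7))
  have hfp : LocallyOfFinitePresentation (I.subschemeι ≫ g) :=
    LocallyOfFinitePresentation.iff_locallyOfFiniteType.2 inferInstance
  have hlft : LocallyOfFiniteType H.hom :=
    K994.Hlft.locallyOfFiniteType_hom k (I.subschemeι ≫ g) hH
  obtain ⟨x₀⟩ := (inferInstance : Nonempty I.subscheme)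
  apply le_antisymm
  · exact K221.FldPt.topologicalKrullDim_le H.hom fun h =>
      K536.Upper.trdegAt_le g hdim.le hFA I hgen rfl hH h
  · exact K536.Lower.le_dim g hdim I hI rfl hH x₀

end Groth.Agent.S15850
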