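import Groth.Statements.S15851
import Groth.Agent.Surf.K459.SurfRes

set_option autoImplicit false
universe u
open CategoryTheory CategoryTheory.Limits AlgebraicGeometry
attribute [local instance] HasDerivedCategory.standard
open Surf

namespace Groth.Agent.S15851

/-- Let k be an algebraically closed field of characteristic zero, S a smooth projective surface over k
(integral, smooth over k, of dimension two, with a closed immersion over k into some projective
space) and ω an O_S-module which is a second exterior power of the sheaf of differentials of S over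
k (the canonical sheaf). Let j : C → S be a closed immersion with C integral of dimension one and A
a coherent O_C-module with torsion-free stalks and one-dimensional generic stalk (a rank-one
torsion-free sheaf on C). Put A^* = Ext^1_{O_S}(j_*A, ω), the value at ω of the first right derived
functor of the sheaf Hom functor Hom_{O_S}(j_*A, -) (taken as the right adjoint of j_*A ⊗ -). Then
Ext^1_{O_S}(A^*, ω) is isomorphic to j_*A: the operation A ↦ A^* is an involution up to isomorphism
(existence of an isomorphism only). (The instance binders on sheaf Hom functors and injective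
resolutions always hold.) -/
theorem result
    (k : Type u) [Field k] [IsAlgClosed k] [CharZero k]
    (S : Scheme.{u}) [S.Over (Spec (CommRingCat.of k))] [IsIntegral S]
    [Smooth (S ↘ Spec (CommRingCat.of k))] (hdim : topologicalKrullDim S = 2)
    [IsProper (S ↘ Spec (CommRingCat.of k))]
    (hproj : ∃ (n : ℕ) (ι : S ⟶ CohB1.ProjSpace n k), IsClosedImmersion ι ∧
      ι ≫ CohB1.ProjSpace.toSpec n k = S ↘ Spec (CommRingCat.of k))
    [HasInjectiveResolutions S.Modules]
    (ω : S.Modules) (hω : Canon.IsTopDiff (S ↘ Spec (CommRingCat.of k)) 2 ω)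
    (C : Scheme.{u}) (j : C ⟶ S) [IsClosedImmersion j] [IsIntegral C]
    (hC : topologicalKrullDim C = 1)
    (M : C.Modules) (hM : Coh.IsCoh M) (hMtf : TorSh.IsTorsionFree M)
    (hrk : Module.finrank (C.presheaf.stalk (genericPoint C)) (M.presheaf.stalk (genericPoint C)) = 1)
    [DCoh.HasSheafHom ((Coh.push j).obj M)] [(DCoh.sheafHom ((Coh.push j).obj M)).Additive]
    [DCoh.HasSheafHom (((DCoh.sheafHom ((Coh.push j).obj M)).rightDerived 1).obj ω)]
    [(DCoh.sheafHom (((DCoh.sheafHom ((Coh.push j).obj M)).rightDerived 1).obj ω)).Additive] :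
    Nonempty (((DCoh.sheafHom (((DCoh.sheafHom ((Coh.push j).obj M)).rightDerived 1).obj ω)).rightDerived 1).obj ω ≅ (Coh.push j).obj M) := by
  have hN := K459.SurfBase.isLocallyNoetherian S (S ↘ Spec (CommRingCat.of k))
  have hP : K459.Duality.Pure ((Coh.push j).obj M) :=
    ⟨⟨CohqA.AffPush.isQCoh_push j M hM.1, CohqA.AffPush.isFT_push j M hM.1 hM.2⟩,
      K459.SurfRes.tors_push (S ↘ Spec (CommRingCat.of k)) hdim j hC M,
      K459.CurveReg.reg1_push (S ↘ Spec (CommRingCat.of k)) hdim j hC M hMtf⟩
  have hinv : PicF.IsInvertible ω :=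
    K459.SurfRes.isInvertible_topDiff 2 S (S ↘ Spec (CommRingCat.of k)) hdim hω
  have hres := K459.SurfRes.hasEnoughLocFree hproj
  obtain ⟨e1⟩ := K459.HomLES.nonempty_rightDerived_iso ((Coh.push j).obj M) ω 1
  obtain ⟨e2⟩ := K459.HomLES.nonempty_rightDerived_iso
    (((DCoh.sheafHom ((Coh.push j).obj M)).rightDerived 1).obj ω) ω 1
  obtain ⟨e3⟩ := hP.nonempty_bidual (K459.SurfBase.isRegular (k := k) S)
    (K459.SurfBase.ringKrullDim_stalk_le S hdim) hres hinv
  exact ⟨e2 ≪≫ K459.HomLES.exIso e1 1 ω ≪≫ e3⟩

end Groth.Agent.S15851
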