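import Groth.Statements.S15852
import Groth.Agent.Surf.K459.SurfSD

set_option autoImplicit false
universe u
open CategoryTheory CategoryTheory.Limits AlgebraicGeometry
open Surf

namespace Groth.Agent.S15852

/-- Let k be an algebraically closed field of characteristic zero, S a smooth projective surface over k
(integral, smooth over k, of dimension two, with a closed immersion over k into some projective
space) and ω an O_S-module which is a second exterior power of the sheaf of differentials of S over
k. Let j : C → S be a closed immersion with C integral of dimension one and A a coherent O_C-module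
with torsion-free stalks and one-dimensional generic stalk, and put A^* = Ext^1_{O_S}(j_*A, ω), the
first right derived functor of the sheaf Hom functor Hom_{O_S}(j_*A, -) (the right adjoint of j_*A ⊗
-) evaluated at ω. Then the group Ext^1_{O_S}(j_*A, ω), computed in the category of all O_S-modules
with its k-linear structure (the Ext instance is the stated hypothesis; it holds), is k-linearly
isomorphic to H^0(S, A^*), and also to the k-dual of H^1(S, j_*A) = H^1(C, A). (Existence of
k-linear isomorphisms only.) -/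
theorem result
    (k : Type u) [Field k] [IsAlgClosed k] [CharZero k]
    (S : Scheme.{u}) [S.Over (Spec (CommRingCat.of k))] [IsIntegral S]
    [Smooth (S ↘ Spec (CommRingCat.of k))] (hdim : topologicalKrullDim S = 2)
    [IsProper (S ↘ Spec (CommRingCat.of k))]
    (hproj : ∃ (n : ℕ) (ι : S ⟶ CohB1.ProjSpace n k), IsClosedImmersion ι ∧
      ι ≫ CohB1.ProjSpace.toSpec n k = S ↘ Spec (CommRingCat.of k))
    [HasInjectiveResolutions S.Modules] [HasExt.{u} S.Modules]
    (ω : S.Modules) (hω : Canon.IsTopDiff (S ↘ Spec (CommRingCat.of k)) 2 ω)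
    (C : Scheme.{u}) (j : C ⟶ S) [IsClosedImmersion j] [IsIntegral C]
    (hC : topologicalKrullDim C = 1)
    (M : C.Modules) (hM : Coh.IsCoh M) (hMtf : TorSh.IsTorsionFree M)
    (hrk : Module.finrank (C.presheaf.stalk (genericPoint C)) (M.presheaf.stalk (genericPoint C)) = 1)
    [DCoh.HasSheafHom ((Coh.push j).obj M)] [(DCoh.sheafHom ((Coh.push j).obj M)).Additive] :
    Nonempty (Abelian.Ext ((Coh.push j).obj M) ω 1 ≃ₗ[k]
        Coh.HH S (((DCoh.sheafHom ((Coh.push j).obj M)).rightDerived 1).obj ω) 0) ∧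
      Nonempty (Abelian.Ext ((Coh.push j).obj M) ω 1 ≃ₗ[k]
        Module.Dual k (Coh.HH S ((Coh.push j).obj M) 1)) := by
  have hN := K459.SurfBase.isLocallyNoetherian S (S ↘ Spec (CommRingCat.of k))
  have hP : K459.Duality.Pure ((Coh.push j).obj M) :=
    ⟨⟨CohqA.AffPush.isQCoh_push j M hM.1, CohqA.AffPush.isFT_push j M hM.1 hM.2⟩,
      K459.SurfRes.tors_push (S ↘ Spec (CommRingCat.of k)) hdim j hC M,
      K459.CurveReg.reg1_push (S ↘ Spec (CommRingCat.of k)) hdim j hC M hMtf⟩
  have hinv : PicF.IsInvertible ω :=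
    K459.SurfRes.isInvertible_topDiff 2 S (S ↘ Spec (CommRingCat.of k)) hdim hω
  have hsm : SmoothOfRelativeDimension 2 (S ↘ Spec (CommRingCat.of k)) :=
    Picfga.CurveRelDim.smoothOfRelativeDimension_of_topologicalKrullDim_eq k S _ 2 hdim
  have h2 : Nonempty (Abelian.Ext ((Coh.push j).obj M) ω 1 ≃ₗ[k]
      Module.Dual k (Coh.HH S ((Coh.push j).obj M) 1)) :=
    K459.ExtDual.nonempty_ext_dual k S hP.coh.1 1 1 2 rfl (K461.SerreDual.exists_form k S 2 ω hω)
  refine ⟨?_, h2⟩
  obtain ⟨E⟩ := h2
  obtain ⟨e1⟩ := K459.HomLES.nonempty_rightDerived_iso ((Coh.push j).obj M) ω 1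
  obtain ⟨L, P, hL, hPi, e⟩ := K459.SurfSD.exists_ample hproj
  have r1 := K459.DualNum.finrank_zero_Ex k (K459.SurfBase.isRegular (k := k) S)
    (K459.SurfBase.ringKrullDim_stalk_le S hdim) (hdim.le) (K459.SurfSD.sd S hdim hω) hinv hL hPi e hP
  have f1 := Fga.HodgeSec.finite_HH' k hP.coh 1
  have hD := hP.dual (K459.SurfBase.isRegular (k := k) S)
    (K459.SurfBase.ringKrullDim_stalk_le S hdim) (K459.SurfRes.hasEnoughLocFree hproj) hinv
  have f2 := Fga.HodgeSec.finite_HH' k hD.coh 0
  have E2 : Nonempty (Module.Dual k (Coh.HH S ((Coh.push j).obj M) 1) ≃ₗ[k]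
      Coh.HH S (K459.HomLES.Ex 1 ((Coh.push j).obj M) ω) 0) := by
    apply LinearEquiv.nonempty_equiv_iff_rank_eq.2
    rw [← Module.finrank_eq_rank, ← Module.finrank_eq_rank, Subspace.dual_finrank_eq, r1]
  exact ⟨E.trans (E2.some.trans (VarietyA.EulerLES.equivA k e1.symm 0))⟩

end Groth.Agent.S15852
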