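import Groth.Statements.S15853
import Groth.Agent.ShStab.K462.K3Ext
import Groth.Agent.S1535
import Groth.Agent.VarietyA.CurveFin
import Groth.Agent.Picfga.CurveRelDim

set_option autoImplicit false
universe u
open CategoryTheory CategoryTheory.Limits AlgebraicGeometry Polynomial
open ShStab

namespace Groth.Agent.S15853

/-- Let k be an algebraically closed field of characteristic zero and S a K3 surface over k — a smooth
projective surface (integral, smooth over k, of dimension two, with a closed immersion over k into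
some projective space) whose structure sheaf is a second exterior power of its sheaf of
differentials and with H^1(S, O_S) = 0 — whose Picard group is infinite cyclic, generated by the
class of an ample invertible sheaf L. Let V be a coherent O_S-module with torsion-free stalks,
stable of dimension two with respect to L, and let P be its Hilbert polynomial with respect to L,
P(m) = χ(V ⊗ L^m). Assume: the leading coefficient of P is twice that of the Hilbert polynomial of
O_S (V has rank two); the coefficients of m and of m^2 in P agree (on such a surface this says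
c_1(V)·L = L^2, i.e. the first Chern class of V is the class of L); and P(0) = χ(V) ≥ 1
(equivalently c_2(V) ≤ L^2/2 + 3). Then V is an extension of L ⊗ I_Z by O_S for some finite
subscheme Z: there are a coherent subsheaf N ⊆ L with L/N supported in dimension at most zero and a
short exact sequence 0 → O_S → V → N → 0, which moreover does not split. -/
theorem result
    (k : Type u) [Field k] [IsAlgClosed k] [CharZero k]
    (S : Scheme.{u}) [S.Over (Spec (CommRingCat.of k))] [IsIntegral S]
    [Smooth (S ↘ Spec (CommRingCat.of k))] (hdim : topologicalKrullDim S = 2)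
    [IsProper (S ↘ Spec (CommRingCat.of k))]
    (hproj : ∃ (n : ℕ) (ι : S ⟶ CohB1.ProjSpace n k), IsClosedImmersion ι ∧
      ι ≫ CohB1.ProjSpace.toSpec n k = S ↘ Spec (CommRingCat.of k))
    (hK : Canon.IsTopDiff (S ↘ Spec (CommRingCat.of k)) 2 (Coh.structureModule S))
    (hq : Module.finrank k (Coh.HH S (Coh.structureModule S) 1) = 0)
    (L : S.Modules) (hLi : PicF.IsInvertible L) (hLa : CohB1.IsAmple L)
    [PicGrp.Law S] (hgen : ∀ c : PicLoc.PicSet S, ∃ n : ℤ, c = PicGrp.cls L hLi ^ n)
    (hfree : ∀ n : ℤ, PicGrp.cls L hLi ^ n = 1 → n = 0)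
    (V : S.Modules) (hV : Coh.IsCoh V) (hVtf : TorSh.IsTorsionFree V)
    (hst : ShStab.IsStable k S L V 2)
    (P PO : ℚ[X]) (hP : ShStab.IsHilbPoly k S L V P)
    (hPO : ShStab.IsHilbPoly k S L (Coh.structureModule S) PO)
    (hrk : P.coeff 2 = 2 * PO.coeff 2) (hc1 : P.coeff 1 = P.coeff 2) (hchi : 1 ≤ P.coeff 0) :
    ∃ (N : S.Modules) (ι : N ⟶ L) (_ : Mono ι) (_ : Coh.IsCoh N)
      (_ : topologicalKrullDim (CohB1.support (cokernel ι)) ≤ 0)
      (a : Coh.structureModule S ⟶ V) (b : V ⟶ N) (w : a ≫ b = 0),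
      (ShortComplex.mk a b w).ShortExact ∧
        ∀ r : V ⟶ Coh.structureModule S, a ≫ r ≠ 𝟙 (Coh.structureModule S) := by
  have hreg : ∀ x : S, IsRegularLocalRing (S.presheaf.stalk x) := Groth.Agent.S1535.result k S
  have := Groth.Agent.Fga.SnapperTwist.isNoetherian_of_proper k S
  have hsm : SmoothOfRelativeDimension 2 (S ↘ Spec (CommRingCat.of k)) :=
    Groth.Agent.Picfga.CurveRelDim.smoothOfRelativeDimension_of_topologicalKrullDim_eq k S _ 2 hdim
  have hn : topologicalKrullDim S = ((2 : ℕ) : WithBot ℕ∞) := hdim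
  have h00 : Module.finrank k (Coh.HH S (Coh.structureModule S) 0) = 1 :=
    Groth.Agent.VarietyA.CurveFin.finrank_h0_structure k S
  obtain ⟨T, hT, hT1, hcls⟩ := K114.K3Glue.exists_T L hLi
  have hL1 : CohB1.IsAmple (T 1) := by rw [hT1]; exact hLa
  have hmul := K114.K3Glue.mul_of_cls hcls
  have h0 := K114.K3Glue.zero_of_cls hcls
  have hW : ExtPow.IsExtPow 2 (Omega.sheaf (S ↘ Spec (CommRingCat.of k))) (Coh.structureModule S) := hK
  have hdual := K114.K3Glue.hdual k hW hT hmul h0
  obtain ⟨c, hc, hχ⟩ := K114.K3Chi.exists_chi k hT hmul h0 hL1 hn hdual h00 hq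
  have hO : Coh.IsCoh (Coh.structureModule S) := K848.Stab.isCoh_structureModule
  have ePO := K848.HB.eq_hp k hPO
  have eP := K848.HB.eq_hp k hP
  have hdeg := K848.Stab.natDegree_le k hLi hn hO
  -- the Hilbert polynomial of `O`
  have hform : ∀ x : ℚ, PO.eval x = PO.coeff 2 * x ^ 2 + PO.coeff 1 * x + PO.coeff 0 := fun x => by
    rw [ePO, eval_eq_sum_range' (n := 3) (by omega)]
    simp only [Finset.sum_range_succ, Finset.sum_range_zero]
    ring
  have hev : ∀ a : ℤ, PO.eval (a : ℚ) = c * a ^ 2 + 2 := fun a => by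
    rw [← hχ a, K114.K3Chi.hp_T k hT hmul h0 a, K848.Poly.eval_shift, zero_add, hT1, ePO]
  have hO1 : PO.coeff 1 = 0 := by
    have h1 := hev 1
    have h2 := hev (-1)
    rw [hform] at h1 h2
    push_cast at h1 h2
    linarith
  have hα := K848.Stab.alpha_O_pos k hLa hn
  have hr : K848.Hull.rk V = 2 := by
    have h1 := K848.Stab.alpha_rk k hLi hn hV
    rw [← eP, ← ePO] at h1
    rw [← ePO] at hα
    unfold StabCat.alpha at h1 hα
    rw [hrk] at h1
    have h2 : ((K848.Hull.rk V : ℚ) - 2) * (((2 : ℕ).factorial : ℚ) * PO.coeff 2) = 0 := by linarith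
    have h3 := (mul_eq_zero.1 h2).resolve_right hα.ne'
    have h4 : (K848.Hull.rk V : ℚ) = 2 := by linarith
    exact_mod_cast h4
  have hO1' : StabCat.alpha 1 (K848.HB.hp k L (Coh.structureModule S)) = 0 := by
    rw [← ePO, K848.Poly.alpha_eq_zero_iff, hO1]
  have hV1 : StabCat.alpha 1 (K848.HB.hp k L V) = StabCat.alpha 2 (K848.HB.hp k L (Coh.structureModule S)) := by
    rw [← ePO, ← eP]
    unfold StabCat.alpha
    rw [hc1, hrk]
    norm_num [Nat.factorial]
  have hgen' : ∀ c : PicLoc.PicSet S, ∃ n : ℤ, c = PicGrp.cls L hLa.1 ^ n := hgen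
  -- sections of `V`
  have hhom : Subsingleton (V ⟶ Coh.structureModule S) :=
    ⟨fun a b => (K462.K3Ext.hom_eq_zero k hLa hn hreg hgen' hO1' hV hVtf hst hr hV1 a).trans
      (K462.K3Ext.hom_eq_zero k hLa hn hreg hgen' hO1' hV hVtf hst hr hV1 b).symm⟩
  have h2 : Module.finrank k (Coh.HH S V 2) = 0 := by
    have hEx : HasExt.{u + 1} S.Modules := HasExt.standard _
    obtain ⟨e⟩ : Nonempty (CohB1.tensorMod (Coh.structureModule S) (Coh.structureModule S) ≅ Coh.structureModule S) :=
      (Groth.Agent.Fga.PicMon.mc_eq_iff _ _).1 (by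
        rw [Groth.Agent.Fga.PicMon.mc_tensor, Groth.Agent.Fga.PicMon.mc_one, one_mul])
    obtain ⟨-, h3⟩ := K114.K3Glue.finrank_ext k hW Groth.Agent.Fdesc.LocGen.isInvertible_structureModule e hV 0 2 rfl
    obtain ⟨e2⟩ : Nonempty (CohB1.tensorMod V (Coh.structureModule S) ≅ V) :=
      (Groth.Agent.Fga.PicMon.mc_eq_iff _ _).1 (by
        rw [Groth.Agent.Fga.PicMon.mc_tensor, Groth.Agent.Fga.PicMon.mc_one, mul_one])
    rw [(Groth.Agent.VarietyA.EulerLES.equivA k e2 2).finrank_eq] at h3
    rw [← h3]
    have : Subsingleton (Abelian.Ext.{u + 1} V (Coh.structureModule S) 0) :=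
      Abelian.Ext.homEquiv₀.subsingleton
    exact Module.finrank_zero_of_subsingleton
  have hs : ∃ s : Coh.structureModule S ⟶ V, s ≠ 0 := by
    by_contra hcon
    push Not at hcon
    have h3 : Subsingleton (Coh.structureModule S ⟶ V) := ⟨fun a b => (hcon a).trans (hcon b).symm⟩
    have h4 : Module.finrank k (Coh.HH S V 0) = 0 := by
      rw [← (K114.SimpObj.homHH k V).finrank_eq, Module.finrank_zero_of_subsingleton]
    have h5 := K848.HB.euler_eq_eval k hLi hV
    rw [K114.K3Chi.euler_eq k hn, h2, h4, ← eP, ← Polynomial.coeff_zero_eq_eval_zero] at h5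
    rw [← h5] at hchi
    push_cast at hchi
    have h6 : (0 : ℚ) ≤ Module.finrank k (Coh.HH S V 1) := Nat.cast_nonneg _
    linarith
  obtain ⟨s, hs⟩ := hs
  exact K462.K3Ext.exists_ext k hLa hn hreg hgen' hO1' hV hVtf hst hr hV1 s hs

end Groth.Agent.S15853
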