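import Groth.Statements.S15854
import Groth.Agent.ShStab.K848.K3
import Groth.Agent.S1535

set_option autoImplicit false
universe u
open CategoryTheory CategoryTheory.Limits AlgebraicGeometry Polynomial
open ShStab

namespace Groth.Agent.S15854

attribute [-instance] CategoryTheory.catToReflQuiver

open Groth.Agent.Fga.PicMon
open StabCat
open K848.Rank K848.Hull K848.Poly K848.HB K848.TF K848.Dim K848.Stab K848.Hartogs K848.PicOne K848.Extn K848.Hull2
open K848.Slope K848.K3Ext

/-- Let k be an algebraically closed field of characteristic zero and S a K3 surface over k — a smooth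
projective surface (integral, smooth over k, of dimension two, with a closed immersion over k into
some projective space) whose structure sheaf is a second exterior power of its sheaf of
differentials and with H^1(S, O_S) = 0 — whose Picard group is infinite cyclic, generated by the
class of an ample invertible sheaf L. Let V be a locally free O_S-module of rank two, stable of
dimension two with respect to L, with Hilbert polynomial P, P(m) = χ(V ⊗ L^m), such that the
coefficients of m and m^2 in P agree (c_1(V)·L = L^2, i.e. the first Chern class of V is the class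
of L), and let n be a natural number with P(n) = χ(V ⊗ L^n) ≥ 1 (by Riemann–Roch this is the bound
c_2(V) ≤ (n^2 + n + 1/2) L^2 + 3). Then V is an extension of type m for some m ≤ n: there are a
natural number m ≤ n, an invertible O_S-module M whose class is the inverse of the class of L^{⊗m},
a coherent subsheaf N ⊆ L^{⊗(m+1)} whose quotient is supported in dimension at most zero (N is
L^{⊗(m+1)} twisted by the ideal of a finite subscheme Z_m), and a short exact sequence 0 → M → V → N
→ 0. (The published statement also records the length of Z_m as c_2 + m(m+1)L^2; that Chern-class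
bookkeeping is not restated here. The published statement also assumes the lower bound c_2 >
((n-1)^2 + (n-1) + 1/2) L^2 + 3 with n ≥ 1; the argument uses only the upper bound, and neither the
lower bound nor n ≥ 1 is assumed here.) -/
theorem result
    (k : Type u) [Field k] [IsAlgClosed k] [CharZero k]
    (S : Scheme.{u}) [S.Over (Spec (CommRingCat.of k))] [IsIntegral S]
    [Smooth (S ↘ Spec (CommRingCat.of k))] (hdim : topologicalKrullDim S = 2)
    [IsProper (S ↘ Spec (CommRingCat.of k))]
    (hproj : ∃ (n : ℕ) (ι : S ⟶ CohB1.ProjSpace n k), IsClosedImmersion ι ∧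
      ι ≫ CohB1.ProjSpace.toSpec n k = S ↘ Spec (CommRingCat.of k))
    (hK : Canon.IsTopDiff (S ↘ Spec (CommRingCat.of k)) 2 (Coh.structureModule S))
    (hq : Module.finrank k (Coh.HH S (Coh.structureModule S) 1) = 0)
    (L : S.Modules) (hLi : PicF.IsInvertible L) (hLa : CohB1.IsAmple L)
    [PicGrp.Law S] (hgen : ∀ c : PicLoc.PicSet S, ∃ n : ℤ, c = PicGrp.cls L hLi ^ n)
    (hfree : ∀ n : ℤ, PicGrp.cls L hLi ^ n = 1 → n = 0)
    (V : S.Modules) (hV : FlatMod.IsFinLocFreeOfRank 2 V)
    (hst : ShStab.IsStable k S L V 2)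
    (P : ℚ[X]) (hP : ShStab.IsHilbPoly k S L V P) (hc1 : P.coeff 1 = P.coeff 2)
    (n : ℕ) (hn : 1 ≤ P.eval (n : ℚ)) :
    ∃ (m : ℕ) (_ : m ≤ n) (M : S.Modules) (hM : PicF.IsInvertible M)
      (_ : PicGrp.cls M hM * PicGrp.cls L hLi ^ m = 1)
      (N : S.Modules) (ι : N ⟶ CohB1.tensorPow L (m + 1)) (_ : Mono ι) (_ : Coh.IsCoh N)
      (_ : topologicalKrullDim (CohB1.support (cokernel ι)) ≤ 0)
      (a : M ⟶ V) (b : V ⟶ N) (w : a ≫ b = 0),
      (ShortComplex.mk a b w).ShortExact := by
  have hn2 : topologicalKrullDim S = (2 : ℕ) := by exact_mod_cast hdim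
  have := Groth.Agent.Fga.SnapperTwist.isNoetherian_of_proper k S
  have hreg := fun x => Groth.Agent.S1535.result k S x
  have hO := K848.K3.alpha_one k S hdim hK hLi
  have hα := alpha_O_pos k hLa hn2
  have hP' := eq_hp k hP
  subst hP'
  have hVc := hst.1
  have hVf : FlatMod.IsFinLocFree V := fun x => by
    obtain ⟨U, hx, e⟩ := hV x
    exact ⟨U, 2, hx, e⟩
  have hVtf : TorSh.IsTorsionFree V := isTorsionFree_of_isFinLocFree hVf
  have hr : rk V = 2 := by
    obtain ⟨U, hx, ⟨e⟩⟩ := hV (genericPoint S)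
    exact (eq_rk_of_triv e hx).symm
  have hV1 : alpha 1 (hp k L V) = alpha 2 (hp k L (Coh.structureModule S)) := by
    have h1 := alpha_rk k hLi hn2 hVc
    rw [hr] at h1
    rw [alpha, hc1]
    rw [alpha] at h1
    norm_num at h1 ⊢
    linarith
  -- the inverse of `L ^ n`
  obtain ⟨A, hA, hAc⟩ := exists_module ((PicGrp.cls L hLi ^ n)⁻¹)
  have hmcA : mc A * mc L ^ n = 1 := mc_mul_of_cls_eq_inv hLi hA n hAc
  have hAcoh := isCoh_of_isInvertible hA
  have hAt : TorSh.IsTorsionFree A := isTorsionFree_of_isInvertible hA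
  have hAr : rk A = 1 := rk_structureModule_of_isInvertible hA
  have h21 : (2 - 1 : ℕ) = 1 := rfl
  have hA1 : alpha 1 (hp k L A) = -n * alpha 2 (hp k L (Coh.structureModule S)) := by
    have h1 := alpha_pred_invertible hLi k hn2 (by norm_num) hA (-n) (by
      rw [zpow_neg, zpow_natCast, hAc])
    rw [h21, hO, zero_add] at h1
    rw [h1]
    push_cast
    ring
  obtain ⟨e0⟩ : Nonempty (CohB1.tensorMod A (CohB1.tensorPow L n) ≅ Coh.structureModule S) := by
    rw [← mc_eq_iff, mc_tensor, mc_tensorPow, mc_one, hmcA]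
  have hequiv := Groth.Agent.Sga2.LefPow644.isEquivalence_of_inv e0
  let R := DCoh.tensorRightMod A
  obtain ⟨e1⟩ : Nonempty (R.obj (Coh.structureModule S) ≅ A) := by
    rw [← mc_eq_iff]
    change mc (CohB1.tensorMod (Coh.structureModule S) A) = _
    rw [mc_tensor, mc_one, one_mul]
  obtain ⟨e2⟩ : Nonempty (R.obj (ShStab.twist S L V n) ≅ V) := by
    rw [← mc_eq_iff]
    change mc (CohB1.tensorMod (CohB1.tensorMod V (CohB1.tensorPow L n)) A) = _
    rw [mc_tensor, mc_tensor, mc_tensorPow, mul_assoc, mul_comm (mc L ^ n), hmcA, mul_one]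
  have hzeroA : ∀ g : V ⟶ A, g = 0 := fun g =>
    hom_eq_zero k hLa hn2 hst hr hAcoh hAt hAr (by
      rw [h21, hA1, hV1]
      have h1 : (0 : ℚ) ≤ n := Nat.cast_nonneg n
      nlinarith) g
  have hzero : ∀ g : ShStab.twist S L V n ⟶ Coh.structureModule S, g = 0 := by
    intro g
    have h1 := hzeroA (e2.inv ≫ R.map g ≫ e1.hom)
    apply R.map_injective
    rw [Functor.map_zero]
    have h2 : e2.inv ≫ R.map g ≫ e1.hom = e2.inv ≫ 0 ≫ e1.hom := by
      rw [h1, Limits.zero_comp, Limits.comp_zero]
    exact (cancel_mono _).1 ((cancel_epi _).1 h2)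
  have hH2 := K848.K3.subsingleton_H2 k S hdim hK hproj (isCoh_twist hLi hVc n) hzero
  obtain ⟨a0, ha0⟩ := exists_hom_of_euler k hn2.le hH2 (by
    have h1 := hP n
    rw [← h1] at hn
    exact_mod_cast hn)
  let a : A ⟶ V := e1.inv ≫ R.map a0 ≫ e2.hom
  have ha : a ≠ 0 := by
    intro h1
    apply ha0
    apply R.map_injective
    rw [Functor.map_zero]
    have h2 : e1.inv ≫ R.map a0 ≫ e2.hom = e1.inv ≫ 0 ≫ e2.hom := by
      rw [Limits.zero_comp, Limits.comp_zero]
      exact h1
    exact (cancel_mono _).1 ((cancel_epi _).1 h2)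
  have ham : Mono a := (eq_zero_or_mono hAcoh hAt hAr hVc hVtf a).resolve_left ha
  obtain ⟨A', b, i, hi, hA', M, hM, φ, c, hbi, ht, hrA, hφ, hcls, hcod, hc0, hal, hle⟩ :=
    exists_sat k hLa hn2 hreg hgen hO hst hVtf hr hV1 hAcoh hAr a
  have hc : -(n : ℤ) ≤ c := by
    rw [hA1] at hle
    have h1 : (-(n : ℚ)) ≤ c := le_of_mul_le_mul_right hle hα
    exact_mod_cast h1
  have hiso : IsIso φ := isIso_of_saturated (isIntegrallyClosed_of_regular hreg) φ hA' hrA hM hcod hVc hVf i ht
  obtain ⟨m, hm⟩ : ∃ m : ℕ, c = -m := ⟨(-c).toNat, by omega⟩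
  have hta : TorSh.IsTorsionFree (cokernel (inv φ ≫ i)) := isTorsionFree_of_mono (cokernelEpiComp (inv φ) i).hom ht
  obtain ⟨ι, hι, hdimι⟩ := exists_embed k hLa hn2 hreg hgen hO hst hr hV1 (isCoh_of_isInvertible hM)
    (rk_structureModule_of_isInvertible hM) (inv φ ≫ i) hta m
    (by
      have h1 := alpha_pred_invertible hLi k hn2 (by norm_num) hM c hcls
      rw [h21, hO, zero_add] at h1
      rw [h1, hm]
      push_cast
      ring)
    (Groth.Agent.Fdesc.LocGen.isInvertible_tensorPow hLi (m + 1)) (by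
      have h1 : ((m : ℤ) + 1) = ((m + 1 : ℕ) : ℤ) := by push_cast; rfl
      rw [h1, zpow_natCast]
      exact Subtype.ext (PicGrp.cls_pow_val hLi (m + 1)).symm)
  have hS : (ShortComplex.mk (inv φ ≫ i) (cokernel.π (inv φ ≫ i)) (cokernel.condition (inv φ ≫ i))).ShortExact :=
    { exact := ShortComplex.exact_cokernel _, mono_f := inferInstance, epi_g := inferInstance }
  refine ⟨m, by omega, M, hM, ?_, cokernel (inv φ ≫ i), ι, hι,
    Groth.Agent.PerfA.CohSerre.isCoh_cokernel _ (isCoh_of_isInvertible hM).1 hVc, hdimι, inv φ ≫ i,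
    cokernel.π _, cokernel.condition _, hS⟩
  rw [hcls, hm, zpow_neg, zpow_natCast, inv_mul_cancel]


end Groth.Agent.S15854
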