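import Groth.Statements.S15855
import Groth.Agent.Surf.K459.SurfSD

set_option autoImplicit false
universe u
open CategoryTheory CategoryTheory.Limits AlgebraicGeometry
attribute [local instance] HasDerivedCategory.standard
open Surf

namespace Groth.Agent.S15855

/-- Let k be an algebraically closed field of characteristic zero, S a smooth projective surface over k
(integral, smooth over k, of dimension two, with a closed immersion over k into some projective
space), ω an O_S-module which is a second exterior power of the sheaf of differentials of S over k,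
j : C → S a closed immersion with C integral of dimension one, and A a coherent O_C-module with
torsion-free stalks and one-dimensional generic stalk, with H^0(S, j_*A) ≠ 0 and H^1(S, j_*A) ≠ 0.
For a coherent O_S-module F write F^* = Ext^1_{O_S}(F, ω) (first right derived functor of the sheaf
Hom functor Hom_{O_S}(F, -), the right adjoint of F ⊗ -, at ω). Let A' ⊆ j_*A be the base-point-free
part of A: a globally generated coherent subsheaf such that H^0(S, A') → H^0(S, j_*A) is surjective
(the image of the evaluation map). Let B ⊆ A'^* be, likewise, a globally generated coherent subsheaf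
with H^0(S, B) → H^0(S, A'^*) surjective, and put A'' = B^*. Then both A'' and A''^* are globally
generated (quotients of free O_S-modules). -/
theorem result
    (k : Type u) [Field k] [IsAlgClosed k] [CharZero k]
    (S : Scheme.{u}) [S.Over (Spec (CommRingCat.of k))] [IsIntegral S]
    [Smooth (S ↘ Spec (CommRingCat.of k))] (hdim : topologicalKrullDim S = 2)
    [IsProper (S ↘ Spec (CommRingCat.of k))]
    (hproj : ∃ (n : ℕ) (ι : S ⟶ CohB1.ProjSpace n k), IsClosedImmersion ι ∧
      ι ≫ CohB1.ProjSpace.toSpec n k = S ↘ Spec (CommRingCat.of k))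
    [HasInjectiveResolutions S.Modules]
    (ω : S.Modules) (hω : Canon.IsTopDiff (S ↘ Spec (CommRingCat.of k)) 2 ω)
    (C : Scheme.{u}) (j : C ⟶ S) [IsClosedImmersion j] [IsIntegral C]
    (hC : topologicalKrullDim C = 1)
    (M : C.Modules) (hM : Coh.IsCoh M) (hMtf : TorSh.IsTorsionFree M)
    (hrk : Module.finrank (C.presheaf.stalk (genericPoint C)) (M.presheaf.stalk (genericPoint C)) = 1)
    (h0 : 0 < Module.finrank k (Coh.HH S ((Coh.push j).obj M) 0)) (h1 : 0 < Module.finrank k (Coh.HH S ((Coh.push j).obj M) 1))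
    (A' : S.Modules) (ι₁ : A' ⟶ ((Coh.push j).obj M)) [Mono ι₁] (hA'c : Coh.IsCoh A')
    (hA'g : Curv2.IsGloballyGenerated A') (hA'0 : Function.Surjective (Canon.HHlin k ι₁ 0))
    [DCoh.HasSheafHom A'] [(DCoh.sheafHom A').Additive]
    (B : S.Modules) (ι₂ : B ⟶ ((DCoh.sheafHom A').rightDerived 1).obj ω) [Mono ι₂] (hBc : Coh.IsCoh B)
    (hBg : Curv2.IsGloballyGenerated B) (hB0 : Function.Surjective (Canon.HHlin k ι₂ 0))
    [DCoh.HasSheafHom B] [(DCoh.sheafHom B).Additive]
    [DCoh.HasSheafHom (((DCoh.sheafHom B).rightDerived 1).obj ω)] [(DCoh.sheafHom (((DCoh.sheafHom B).rightDerived 1).obj ω)).Additive] :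
    Curv2.IsGloballyGenerated (((DCoh.sheafHom B).rightDerived 1).obj ω) ∧
      Curv2.IsGloballyGenerated (((DCoh.sheafHom (((DCoh.sheafHom B).rightDerived 1).obj ω)).rightDerived 1).obj ω) := by
  have hN := K459.SurfBase.isLocallyNoetherian S (S ↘ Spec (CommRingCat.of k))
  have hP : K459.Duality.Pure ((Coh.push j).obj M) :=
    ⟨⟨CohqA.AffPush.isQCoh_push j M hM.1, CohqA.AffPush.isFT_push j M hM.1 hM.2⟩,
      K459.SurfRes.tors_push (S ↘ Spec (CommRingCat.of k)) hdim j hC M,
      K459.CurveReg.reg1_push (S ↘ Spec (CommRingCat.of k)) hdim j hC M hMtf⟩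
  have hinv : PicF.IsInvertible ω :=
    K459.SurfRes.isInvertible_topDiff 2 S (S ↘ Spec (CommRingCat.of k)) hdim hω
  have hA : K459.Duality.Pure A' := hP.of_mono ι₁ hA'c.1
  obtain ⟨L, P, hL, hPi, e⟩ := K459.SurfSD.exists_ample hproj
  obtain ⟨e1⟩ := K459.HomLES.nonempty_rightDerived_iso A' ω 1
  obtain ⟨e2⟩ := K459.HomLES.nonempty_rightDerived_iso B ω 1
  obtain ⟨e3⟩ := K459.HomLES.nonempty_rightDerived_iso (((DCoh.sheafHom B).rightDerived 1).obj ω) ω 1
  -- stalks in codimension one
  have hpt : ∀ x : S, ringKrullDim (S.presheaf.stalk x) ≤ 1 → ¬ Subsingleton (A'.presheaf.stalk x) →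
      x = j (genericPoint C) := by
    intro x hx hne
    by_cases hxj : x ∈ Set.range j
    · obtain ⟨c, rfl⟩ := hxj
      rw [K459.CurvePts.eq_genericPoint (S ↘ Spec (CommRingCat.of k)) j hdim hC c hx]
    · exfalso
      have h1 := Ega1.ClosedUnit.subsingleton_stalk_pushforward j j.isClosedEmbedding.isClosed_range M x hxj
      exact hne ⟨fun a b => CycB.StalkExact.stalkLin_injective ι₁ x (Subsingleton.elim (α := ((Coh.push j).obj M).presheaf.stalk x) _ _)⟩
  have hmono : Mono (ι₂ ≫ e1.hom) := mono_comp _ _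
  have hB0' : Function.Surjective (VarietyA.EulerLES.mapA k (ι₂ ≫ e1.hom) 0) := by
    rw [VarietyA.EulerLES.mapA_comp]
    exact (VarietyA.EulerLES.equivA k e1 0).surjective.comp fun y => hB0 y
  obtain ⟨g1, g2⟩ := K459.DoubleDual.main k (K459.SurfBase.isRegular (k := k) S)
    (K459.SurfBase.ringKrullDim_stalk_le S hdim) hdim.le (K459.SurfRes.hasEnoughLocFree hproj)
    (K459.SurfSD.sd S hdim hω) hinv hL hPi e hA hA'g (fun x hx => by
      by_cases hne : Subsingleton (A'.presheaf.stalk x)
      · intro a b ha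
        exact absurd (Subsingleton.elim a 0) ha
      · obtain rfl := hpt x hx hne
        exact (K459.CurvePts.simpAt_push j M hrk).of_mono ι₁)
    (fun x y hx hy hxA hyA => (hpt x hx hxA).trans (hpt y hy hyA).symm)
    (ι₂ ≫ e1.hom) hBc hBg hB0'
  exact ⟨K459.DoubleDual.isGloballyGenerated_of_iso e2.symm g1,
    K459.DoubleDual.isGloballyGenerated_of_iso (e3 ≪≫ K459.HomLES.exIso e2 1 ω).symm g2⟩

end Groth.Agent.S15855
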