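import Groth.Statements.S15856
import Groth.Agent.ShStab.K114.K3Glue
import Groth.Agent.S1535
import Groth.Agent.VarietyA.CurveFin
import Groth.Agent.Picfga.CurveRelDim

set_option autoImplicit false
universe u
open CategoryTheory CategoryTheory.Limits AlgebraicGeometry
open ShStab

namespace Groth.Agent.S15856

attribute [-instance] CategoryTheory.catToReflQuiver

/-- Let k be an algebraically closed field of characteristic zero and S a K3 surface over k — a smooth
projective surface (integral, smooth over k, of dimension two, with a closed immersion over k into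
some projective space) whose structure sheaf is a second exterior power of its sheaf of
differentials and with H^1(S, O_S) = 0 — whose Picard group is infinite cyclic, generated by the
class of an ample invertible sheaf G. Let L and L' be invertible O_S-modules and N ⊆ L' a coherent
subsheaf whose quotient L'/N is supported in dimension at most zero (N is L' twisted by the ideal
sheaf of a finite subscheme Z). If the group Ext^1_{O_S}(N, L), computed in the category of all
O_S-modules with its k-linear structure (the Ext instance is the stated hypothesis; it holds), has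
k-dimension at least 2, then there is a short exact sequence 0 → L → V → N → 0 which does not split
and whose middle term V is not a finite locally free O_S-module. -/
theorem result
    (k : Type u) [Field k] [IsAlgClosed k] [CharZero k]
    (S : Scheme.{u}) [S.Over (Spec (CommRingCat.of k))] [IsIntegral S]
    [Smooth (S ↘ Spec (CommRingCat.of k))] (hdim : topologicalKrullDim S = 2)
    [IsProper (S ↘ Spec (CommRingCat.of k))]
    (hproj : ∃ (n : ℕ) (ι : S ⟶ CohB1.ProjSpace n k), IsClosedImmersion ι ∧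
      ι ≫ CohB1.ProjSpace.toSpec n k = S ↘ Spec (CommRingCat.of k))
    (hK : Canon.IsTopDiff (S ↘ Spec (CommRingCat.of k)) 2 (Coh.structureModule S))
    (hq : Module.finrank k (Coh.HH S (Coh.structureModule S) 1) = 0)
    (G : S.Modules) (hGi : PicF.IsInvertible G) (hGa : CohB1.IsAmple G)
    [PicGrp.Law S] (hgen : ∀ c : PicLoc.PicSet S, ∃ n : ℤ, c = PicGrp.cls G hGi ^ n)
    (hfree : ∀ n : ℤ, PicGrp.cls G hGi ^ n = 1 → n = 0)
    [HasExt.{u} S.Modules]
    (L L' : S.Modules) (hL : PicF.IsInvertible L) (hL' : PicF.IsInvertible L')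
    (N : S.Modules) (ι : N ⟶ L') [Mono ι] (hN : Coh.IsCoh N)
    (hZ : topologicalKrullDim (CohB1.support (cokernel ι)) ≤ 0)
    (h2 : 2 ≤ Module.finrank k (Abelian.Ext N L 1)) :
    ∃ (V : S.Modules) (a : L ⟶ V) (b : V ⟶ N) (w : a ≫ b = 0),
      (ShortComplex.mk a b w).ShortExact ∧ (∀ r : V ⟶ L, a ≫ r ≠ 𝟙 L) ∧
        ¬ FlatMod.IsFinLocFree V := by
  have hreg : ∀ x : S, IsRegularLocalRing (S.presheaf.stalk x) := Groth.Agent.S1535.result k S
  have := Groth.Agent.Fga.SnapperTwist.isNoetherian_of_proper k S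
  have hsm : SmoothOfRelativeDimension 2 (S ↘ Spec (CommRingCat.of k)) :=
    Groth.Agent.Picfga.CurveRelDim.smoothOfRelativeDimension_of_topologicalKrullDim_eq k S _ 2 hdim
  have hn : topologicalKrullDim S = ((2 : ℕ) : WithBot ℕ∞) := hdim
  have h00 : Module.finrank k (Coh.HH S (Coh.structureModule S) 0) = 1 :=
    Groth.Agent.VarietyA.CurveFin.finrank_h0_structure k S
  obtain ⟨T, hT, hT1, hcls⟩ := K114.K3Glue.exists_T G hGi
  have hL1 : CohB1.IsAmple (T 1) := by rw [hT1]; exact hGa
  have hmul := K114.K3Glue.mul_of_cls hcls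
  have h0 := K114.K3Glue.zero_of_cls hcls
  have hPic := K114.K3Glue.pic_of_cls hcls hgen
  have hW : ExtPow.IsExtPow 2 (Omega.sheaf (S ↘ Spec (CommRingCat.of k))) (Coh.structureModule S) := hK
  have hdual := K114.K3Glue.hdual k hW hT hmul h0
  have hv := K114.K3Chi.finrank_h1 k hT hmul h0 hL1 hn hdual h00 hq hreg hPic
  obtain ⟨l, ⟨el⟩⟩ := hPic L hL
  obtain ⟨e⟩ : Nonempty (CohB1.tensorMod L (T (-l)) ≅ Coh.structureModule S) :=
    (Groth.Agent.Fga.PicMon.mc_eq_iff _ _).1 (by
      rw [Groth.Agent.Fga.PicMon.mc_tensor, (Groth.Agent.Fga.PicMon.mc_eq_iff _ _).2 ⟨el⟩, hmul, add_neg_cancel, h0,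
        Groth.Agent.Fga.PicMon.mc_one])
  by_cases hQ0 : IsZero (cokernel ι)
  · exfalso
    have : Epi ι := Preadditive.epi_of_cokernel_zero (hQ0.eq_of_tgt _ _)
    have : IsIso ι := isIso_of_mono_of_epi ι
    obtain ⟨l', ⟨el'⟩⟩ := hPic L' hL'
    obtain ⟨-, h3⟩ := K114.K3Glue.finrank_ext k hW (hT (-l)) e hN 1 1 rfl
    obtain ⟨e2⟩ : Nonempty (CohB1.tensorMod N (T (-l)) ≅ T (l' + -l)) :=
      (Groth.Agent.Fga.PicMon.mc_eq_iff _ _).1 (by
        rw [Groth.Agent.Fga.PicMon.mc_tensor, (Groth.Agent.Fga.PicMon.mc_eq_iff _ _).2 ⟨asIso ι ≪≫ el'⟩, hmul])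
    rw [(Groth.Agent.VarietyA.EulerLES.equivA k e2 1).finrank_eq, hv] at h3
    omega
  · refine K114.NonLF.exists_not_isFinLocFree k hL1 hn hreg hL hL' ι hN hZ hQ0 ?_ h2
    intro F hF
    obtain ⟨h3, h4⟩ := K114.K3Glue.finrank_ext k hW (hT (-l)) e hF.1 2 0 rfl
    refine ⟨h3, ?_⟩
    rw [h4]
    exact K114.SimpObj.finrank_le_one k (K114.K3Glue.isSimp_tensor hL (hT (-l)) e hF)

end Groth.Agent.S15856
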