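import Groth.Statements.S15858
import Groth.Agent.S0002
import Groth.Agent.Surf.K459.SurfRes
import Groth.Agent.Surf.K459.HomLES
import Groth.Agent.Surf.K80.GGDual
import Groth.Agent.Surf.K80.EvMap
import Groth.Agent.Surf.K80.GenCond
import Groth.Agent.Surf.K80.FitIdeal
import Groth.Agent.Surf.K80.FamMain

set_option autoImplicit false
universe u
open CategoryTheory CategoryTheory.Limits AlgebraicGeometry
attribute [local instance] HasDerivedCategory.standard
open Surf

namespace Groth.Agent.S15858

theorem pt_eq {k : Type u} [Field k] {g : Polynomial k} {a b : k} (ha : g.eval a ≠ 0) (hb : g.eval b ≠ 0)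
    (h : K80.ALine.pt a ha = K80.ALine.pt b hb) : a = b := by
  have h1 := Spec.map_injective h
  have h2 := congr($(h1).hom (K80.ALine.coordR g))
  have h3 : K80.ALine.ev a ha (K80.ALine.coordR g) = K80.ALine.ev b hb (K80.ALine.coordR g) := h2
  rwa [K80.ALine.ev_coordR, K80.ALine.ev_coordR] at h3

/-- Let k be an algebraically closed field of characteristic zero and S a smooth projective surface over
k (integral, smooth over k, of dimension two, with a closed immersion over k into some projective
space) with H^1(S, O_S) = 0 and such that, ω being a second exterior power of the sheaf of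
differentials of S over k (the canonical sheaf), an invertible module ω' with ω ⊗ ω' ≅ O_S (the
anticanonical sheaf) is globally generated. Let j : C → S be a closed immersion with C integral of
dimension one and A a coherent O_C-module with torsion-free stalks and one-dimensional generic
stalk, and suppose that j_*A and A^* = Ext^1_{O_S}(j_*A, ω) (first right derived functor of the
sheaf Hom functor out of j_*A, evaluated at ω) are both globally generated. Then there exist a
smooth integral one-dimensional k-scheme T (not necessarily proper) with a k-point t₀, and a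
coherent O-module 𝒜 on S ×_k T, flat over T, such that for every k-point t of T, with s : S → S ×_k
T the induced section (identity on S, t on the second factor) and 𝒜_t = s^*𝒜 the fibre of 𝒜 over t:
(a) 𝒜_{t₀} is isomorphic to j_*A; (b) for t ≠ t₀ there is a closed subscheme C_t ⊆ S, integral,
smooth over k and of dimension one, and a coherent O_{C_t}-module with torsion-free stalks and
one-dimensional generic stalk whose direct image on S is isomorphic to 𝒜_t; (c) dim_k H^0(S, 𝒜_t) ≥
dim_k H^0(S, j_*A). (Integrality of C_t is not part of the published (b); it follows because C_t is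
linearly equivalent to the integral curve C and H^1(S, O_S) = 0.) -/
theorem result
    (k : Type u) [Field k] [IsAlgClosed k] [CharZero k]
    (S : Scheme.{u}) [S.Over (Spec (CommRingCat.of k))] [IsIntegral S]
    [Smooth (S ↘ Spec (CommRingCat.of k))] (hdim : topologicalKrullDim S = 2)
    [IsProper (S ↘ Spec (CommRingCat.of k))]
    (hproj : ∃ (n : ℕ) (ι : S ⟶ CohB1.ProjSpace n k), IsClosedImmersion ι ∧
      ι ≫ CohB1.ProjSpace.toSpec n k = S ↘ Spec (CommRingCat.of k))
    (hq : Module.finrank k (Coh.HH S (Coh.structureModule S) 1) = 0)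
    [HasInjectiveResolutions S.Modules]
    (ω : S.Modules) (hω : Canon.IsTopDiff (S ↘ Spec (CommRingCat.of k)) 2 ω)
    (ω' : S.Modules) (hω' : PicF.IsInvertible ω')
    (hinv : Nonempty (CohB1.tensorMod ω ω' ≅ Coh.structureModule S))
    (hω'g : Curv2.IsGloballyGenerated ω')
    (C : Scheme.{u}) (j : C ⟶ S) [IsClosedImmersion j] [IsIntegral C]
    (hC : topologicalKrullDim C = 1)
    (M : C.Modules) (hM : Coh.IsCoh M) (hMtf : TorSh.IsTorsionFree M)
    (hrk : Module.finrank (C.presheaf.stalk (genericPoint C)) (M.presheaf.stalk (genericPoint C)) = 1)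
    (hAg : Curv2.IsGloballyGenerated ((Coh.push j).obj M))
    [DCoh.HasSheafHom ((Coh.push j).obj M)] [(DCoh.sheafHom ((Coh.push j).obj M)).Additive]
    (hAsg : Curv2.IsGloballyGenerated (((DCoh.sheafHom ((Coh.push j).obj M)).rightDerived 1).obj ω)) :
    ∃ (T : Scheme.{u}) (pT : T ⟶ Spec (CommRingCat.of k)) (t₀ : Spec (CommRingCat.of k) ⟶ T)
      (_ : t₀ ≫ pT = 𝟙 _) (_ : IsIntegral T) (_ : Smooth pT) (_ : topologicalKrullDim T = 1)
      (𝒜 : (pullback (S ↘ Spec (CommRingCat.of k)) pT).Modules),
      Coh.IsCoh 𝒜 ∧ FlatMod.IsFlatOver (pullback.snd (S ↘ Spec (CommRingCat.of k)) pT) 𝒜 ∧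
      ∀ (t : Spec (CommRingCat.of k) ⟶ T) (_ : t ≫ pT = 𝟙 _)
        (s : S ⟶ pullback (S ↘ Spec (CommRingCat.of k)) pT)
        (_ : s ≫ pullback.fst (S ↘ Spec (CommRingCat.of k)) pT = 𝟙 S)
        (_ : s ≫ pullback.snd (S ↘ Spec (CommRingCat.of k)) pT = (S ↘ Spec (CommRingCat.of k)) ≫ t),
        (t = t₀ → Nonempty ((Scheme.Modules.pullback s).obj 𝒜 ≅ (Coh.push j).obj M)) ∧
        (t ≠ t₀ → ∃ (I : S.IdealSheafData) (_ : IsIntegral I.subscheme)
            (_ : Smooth (I.subschemeι ≫ (S ↘ Spec (CommRingCat.of k))))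
            (_ : topologicalKrullDim I.subscheme = 1)
            (N : I.subscheme.Modules) (_ : Coh.IsCoh N) (_ : TorSh.IsTorsionFree N)
            (_ : Module.finrank (I.subscheme.presheaf.stalk (genericPoint I.subscheme))
                (N.presheaf.stalk (genericPoint I.subscheme)) = 1),
            Nonempty ((Scheme.Modules.pullback s).obj 𝒜 ≅ (Coh.push I.subschemeι).obj N)) ∧
        Module.finrank k (Coh.HH S ((Coh.push j).obj M) 0) ≤
          Module.finrank k (Coh.HH S ((Scheme.Modules.pullback s).obj 𝒜) 0) := by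
  have hN := K459.SurfBase.isLocallyNoetherian S (S ↘ Spec (CommRingCat.of k))
  have hP : K459.Duality.Pure ((Coh.push j).obj M) :=
    ⟨⟨CohqA.AffPush.isQCoh_push j M hM.1, CohqA.AffPush.isFT_push j M hM.1 hM.2⟩,
      K459.SurfRes.tors_push (S ↘ Spec (CommRingCat.of k)) hdim j hC M,
      K459.CurveReg.reg1_push (S ↘ Spec (CommRingCat.of k)) hdim j hC M hMtf⟩
  have hω1 : PicF.IsInvertible ω :=
    K459.SurfRes.isInvertible_topDiff 2 S (S ↘ Spec (CommRingCat.of k)) hdim hω
  have hfin := S0002.result k S ((Coh.push j).obj M) hP.coh 0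
  obtain ⟨p, hp, hp0⟩ := K80.EvMap.exists_ev k hAg hfin
  have hreg := K459.SurfBase.isRegular (k := k) S
  have hst := K459.SurfBase.ringKrullDim_stalk_le S hdim
  have hFf : FlatMod.IsFinLocFree (kernel p) := K459.LocFreeKer.isFinLocFree_kernel hreg hst p
    (Dcoh.FinLocFree.isFinLocFree_freeMod S _) hP.coh.1 hP.reg
  have hFr := K80.RankGen.isFinLocFreeOfRank_kernel p (K80.KerCart.subsingleton_generic hdim j hC M) hFf
  have hFO := K80.EvMap.hom_kernel_eq_zero p hp0
  have hn : Module.finrank k (Coh.HH S ((Coh.push j).obj M) 0) ≠ 0 := by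
    intro h0
    have h2 : IsZero (FlatMod.freeMod S (Module.finrank k (Coh.HH S ((Coh.push j).obj M) 0))) := by
      rw [h0]
      exact Dcoh.FinLocFree.isZero_freeMod_zero S
    have h3 : IsZero ((Coh.push j).obj M) := h2.of_epi p
    have h4 := (VarietyB.ExactLoc.isZero_iff_stalk _).mp h3 (j (genericPoint C))
    have h5 := Sga67.FlatPre.pushAdd_bijective j j.isClosedEmbedding.isInducing M (genericPoint C)
    have h6 : Subsingleton (M.presheaf.stalk (genericPoint C)) := h5.2.subsingleton
    rw [Module.finrank_zero_of_subsingleton] at hrk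
    exact zero_ne_one hrk
  have h1 : Subsingleton (Coh.HH S (Coh.structureModule S) 1) := by
    have := S0002.result k S (Coh.structureModule S) (K707.Base.isCoh_of_rank
      (Ega2.QCohLocal.isFinLocFreeOfRank_one_iff.2 (K80.KerCart.isInvertible_structureModule S))) 1
    exact Module.finrank_zero_iff.mp hq
  have hS : (ShortComplex.mk (kernel.ι p) p (kernel.condition p)).ShortExact :=
    { exact := ShortComplex.exact_of_f_is_kernel _ (kernelIsKernel _) }
  obtain ⟨e1⟩ := K459.HomLES.nonempty_rightDerived_iso ((Coh.push j).obj M) ω 1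
  have hgg : Curv2.IsGloballyGenerated ((DCoh.sheafHom (kernel p)).obj
      (FlatMod.freeMod S (Module.finrank k (Coh.HH S ((Coh.push j).obj M) 0)))) :=
    K80.GGDual.gg_iso ((Sga2.PnHomAdj.sheafHomIso (kernel p)).app _).symm
      (K80.GGDual.gg_homSheaf_freeMod (K80.GGDual.gg_dual hS hFf hω1 hω' hinv.some hω'g hP.coh hP.tors
        (K80.GGDual.gg_iso e1 hAsg) h1) _)
  obtain ⟨φ₁, g, hg0, hg⟩ := (K80.GenCond.isGen_cond k S hdim hFr hgg).line (kernel.ι p)
  have hgne : g ≠ 0 := by rintro rfl; simp at hg0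
  let e : cokernel (kernel.ι p) ≅ (Coh.push j).obj M :=
    (IsColimit.coconePointUniqueUpToIso (cokernelIsCokernel (kernel.ι p)) hS.gIsCokernel)
  have hgood := fun (a : k) (ha : a ≠ 0) (hga : g.eval a ≠ 0) =>
    K80.Good.main hdim hn hFr hFO (kernel.ι p + a • φ₁) (hg a ha hga)
      (fun hm => K80.FitIdeal.h1_idealMod k hdim j hC M hM.1 hrk hP.coh hFr (kernel.ι p) e h1 _)
  have hmono : ∀ a : k, g.eval a ≠ 0 → Mono (kernel.ι p + a • φ₁) := by
    intro a hga
    by_cases ha : a = 0
    · rw [ha, zero_smul, add_zero]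
      infer_instance
    · exact (hgood a ha hga).1
  obtain ⟨𝒜, hA1, hA2, hA3⟩ := K80.FamMain.exists_family (g := g) hgne (K707.Base.isCoh_of_rank hFr)
    (K80.FittDet.isCoh_freeMod S _) (kernel.ι p) φ₁ hmono
  refine ⟨K80.ALine.T k g, K80.ALine.pT k g, K80.ALine.pt 0 hg0, K80.ALine.pt_pT 0 hg0,
    K80.ALine.isIntegral_T hgne, K80.ALine.smooth_pT, K80.ALine.krullDim_T hg0, 𝒜, hA1, hA2, ?_⟩
  intro t ht s hs1 hs2
  obtain ⟨a, ha, rfl⟩ := K80.ALine.exists_pt t ht
  obtain ⟨ε⟩ := hA3 a ha s hs1 hs2
  refine ⟨fun h0 => ?_, fun h0 => ?_, ?_⟩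
  · obtain rfl : a = 0 := pt_eq ha hg0 h0
    rw [zero_smul, add_zero] at ε
    exact ⟨ε ≪≫ e⟩
  · have hane : a ≠ 0 := by
      rintro rfl
      exact h0 rfl
    obtain ⟨-, I, hI1, hI2, hI3, N, hN1, hN2, hN3, ⟨e3⟩⟩ := hgood a hane ha
    exact ⟨I, hI1, hI2, hI3, N, hN1, hN2, hN3, ⟨ε ≪≫ e3⟩⟩
  · have := hmono a ha
    have hfin2 := S0002.result k S (cokernel (kernel.ι p + a • φ₁))
      (K80.FittDet.isCoh_coker (K707.Base.isCoh_of_rank hFr).1 _) 0
    refine (K80.EvMap.le_finrank k (kernel.ι p + a • φ₁) hFO hfin2).trans ?_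
    exact (VarietyA.EulerLES.equivA k ε 0).finrank_eq.ge

end Groth.Agent.S15858
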