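import Groth.Statements.S15862
import Groth.Agent.SurfBl.K805.Ample3
import Mathlib.Analysis.Complex.Polynomial.Basic

set_option autoImplicit false
open CategoryTheory CategoryTheory.Limits AlgebraicGeometry
open SurfBl

namespace Groth.Agent.S15862

/-- Let S be a smooth projective surface over the complex numbers (an integral scheme, smooth of
relative dimension 2 over C, with a closed immersion ι over C into some projective space P^n) and H
= ι^*O(1) the corresponding very ample invertible module. Let P_1, …, P_s be distinct closed points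
of S, σ : S' ⟶ S the blow-up of S at the reduced finite set {P_1, …, P_s} (universal property) and
I_{E_i} the inverse image ideal of the ideal of P_i (the ideal of the exceptional curve over P_i).
For every natural number N and positive natural numbers a_1, …, a_s with a_1 + ⋯ + a_s < N, the
invertible module σ^*(H^{⊗N}) ⊗ I_{E_1}^{a_1} ⊗ ⋯ ⊗ I_{E_s}^{a_s} is ample on S'. Equivalently: for
positive rationals δ_i with Σ δ_i < 1 the Q-divisor H − Σ δ_i E_i lies in the ample cone of the
blown-up surface. -/
theorem result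
    (S : Scheme.{0}) [S.Over (Spec (CommRingCat.of ℂ))] [IsIntegral S]
    [SmoothOfRelativeDimension 2 (S ↘ Spec (CommRingCat.of ℂ))]
    (n : ℕ) (ι : S ⟶ CohB1.ProjSpace n ℂ) [IsClosedImmersion ι]
    (hι : ι ≫ CohB1.ProjSpace.toSpec n ℂ = S ↘ Spec (CommRingCat.of ℂ))
    (s : ℕ) (P : Fin s → ↥S) (hP : Function.Injective P) (hPc : ∀ i, IsClosed ({P i} : Set ↥S))
    (hZ : IsClosed (Set.range P))
    {S' : Scheme.{0}} (σ : S' ⟶ S) (hσ : BlowUp.IsBlowUp σ (Scheme.IdealSheafData.vanishingIdeal ⟨Set.range P, hZ⟩))
    (N : ℕ) (a : Fin s → ℕ) (ha : ∀ i, 0 < a i) (hN : ∑ i, a i < N) :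
    CohB1.IsAmple (CohB1.tensorMod
      ((Scheme.Modules.pullback σ).obj (CohB1.tensorPow ((Scheme.Modules.pullback ι).obj (Twist.twistProjSpace n ℂ 1)) N))
      (FGA.tensorList (List.ofFn fun i : Fin s =>
        ClSub.idealMod ((Scheme.IdealSheafData.vanishingIdeal ⟨{P i}, hPc i⟩).comap σ ^ a i)))) := by
  exact K805.Ample.main n ι hι s P hP hPc hZ σ hσ N a ha hN

end Groth.Agent.S15862
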