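import Groth.Statements.S15867
import Groth.Agent.SurfBl.K805.EndSh

set_option autoImplicit false
open CategoryTheory CategoryTheory.Limits AlgebraicGeometry
open SurfBl

namespace Groth.Agent.S15867

/-- Let S be a smooth projective surface over the complex numbers (integral, smooth of relative
dimension 2 over C, admitting a closed immersion over C into some P^n), P_1, …, P_s distinct closed
points, σ : S' ⟶ S the blow-up of S at the reduced finite set {P_1, …, P_s} (universal property) and
E ⊆ S' the exceptional divisor, the closed subscheme of the inverse image ideal of the ideal of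
{P_1, …, P_s}. Let F be a finite locally free O_{S'}-module with F|_E ≅ O_E^r. Then H^i(S', End(F))
≅ H^i(S, End(σ_*F)) for every i, where End denotes the sheaf of endomorphisms (the internal Hom of
O-modules applied to the module itself; the instance hypotheses say that these internal Hom functors
exist, which is always the case). The isomorphism is one of vector spaces over C, the structure of
scheme over C on S' being the composite through σ; existence of C-linear isomorphisms only (i.e.
equality of dimensions). -/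
theorem result
    (S : Scheme.{0}) [S.Over (Spec (CommRingCat.of ℂ))] [IsIntegral S]
    [SmoothOfRelativeDimension 2 (S ↘ Spec (CommRingCat.of ℂ))]
    (hproj : ∃ (n : ℕ) (ι : S ⟶ CohB1.ProjSpace n ℂ), IsClosedImmersion ι ∧
      ι ≫ CohB1.ProjSpace.toSpec n ℂ = S ↘ Spec (CommRingCat.of ℂ))
    (s : ℕ) (P : Fin s → ↥S) (hP : Function.Injective P) (hPc : ∀ i, IsClosed ({P i} : Set ↥S))
    (hZ : IsClosed (Set.range P))
    {S' : Scheme.{0}} [S'.Over (Spec (CommRingCat.of ℂ))] (σ : S' ⟶ S)
    (hσk : σ ≫ (S ↘ Spec (CommRingCat.of ℂ)) = S' ↘ Spec (CommRingCat.of ℂ))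
    (hσ : BlowUp.IsBlowUp σ (Scheme.IdealSheafData.vanishingIdeal ⟨Set.range P, hZ⟩))
    (F : S'.Modules) (hF : FlatMod.IsFinLocFree F) (r : ℕ)
    (hE : Nonempty ((Scheme.Modules.pullback (BlowUp.exceptional σ (Scheme.IdealSheafData.vanishingIdeal ⟨Set.range P, hZ⟩)).subschemeι).obj F ≅
      FlatMod.freeMod (BlowUp.exceptional σ (Scheme.IdealSheafData.vanishingIdeal ⟨Set.range P, hZ⟩)).subscheme r))
    [ModSite.HasSheafHom (O := S'.sheaf) F]
    [ModSite.HasSheafHom (O := S.sheaf) ((Scheme.Modules.pushforward σ).obj F)] (i : ℕ) :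
    Nonempty (Coh.HH S' ((ModSite.sheafHom (O := S'.sheaf) F).obj F) i ≃ₗ[ℂ]
      Coh.HH S ((ModSite.sheafHom (O := S.sheaf) ((Scheme.Modules.pushforward σ).obj F)).obj
        ((Scheme.Modules.pushforward σ).obj F)) i) := by
  have hfin : ((⟨Set.range P, hZ⟩ : TopologicalSpace.Closeds S) : Set S).Finite := Set.finite_range P
  have hcl : ∀ t ∈ (⟨Set.range P, hZ⟩ : TopologicalSpace.Closeds S), IsClosed ({t} : Set S) := by
    rintro t ⟨j, rfl⟩
    exact hPc j
  have T := K805.Reg.setupR_smooth (S ↘ Spec (CommRingCat.of ℂ)) ⟨Set.range P, hZ⟩ hfin hcl hσ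
  obtain ⟨e⟩ := hE
  obtain ⟨h1, h2⟩ := K805.CounitIso.main T hF e
  obtain ⟨e₁⟩ := K805.EndSh.nonempty_hom_equiv T.toSetup (fun t ht O hO =>
    K805.EndSh.exists_loc_le_smooth (S ↘ Spec (CommRingCat.of ℂ)) ⟨Set.range P, hZ⟩ hfin hcl hσ (by
      have h3 : t ∈ (((Scheme.IdealSheafData.vanishingIdeal ⟨Set.range P, hZ⟩).support :
        TopologicalSpace.Closeds S) : Set S) := ht
      rwa [Scheme.IdealSheafData.coe_support_vanishingIdeal] at h3) O hO)
    hF hF h2 h1 h2 h1 ℂ hσk i
  exact ⟨(CurvesA.HHMap.equivOver ℂ ((K805.EndSh.sheafHomIso F).app F) i).trans (e₁.trans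
    (CurvesA.HHMap.equivOver ℂ ((K805.EndSh.sheafHomIso ((Scheme.Modules.pushforward σ).obj F)).app
      ((Scheme.Modules.pushforward σ).obj F)).symm i))⟩

end Groth.Agent.S15867
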