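import Groth.Statements.S15868
import Groth.Agent.SurfBl.K805.ThickDim

set_option autoImplicit false
open CategoryTheory CategoryTheory.Limits AlgebraicGeometry
open SurfBl

namespace Groth.Agent.S15868

/-- Let S be a smooth projective surface over the complex numbers (integral, smooth of relative
dimension 2 over C, admitting a closed immersion over C into some P^n), P_1, …, P_s distinct closed
points, σ : S' ⟶ S the blow-up of S at the reduced finite set {P_1, …, P_s} (universal property; S'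
is viewed over C through σ) and I the inverse image ideal of the ideal of {P_1, …, P_s}, so that the
closed subscheme E(n) of I^n is the (n−1)-st infinitesimal thickening of the exceptional divisor E =
E(1). Let L be an invertible O_{S'}-module and write L_n = L|_{E(n)}. Then for every n ≥ 1 the
connecting map H^0(E(n), L_n) ⟶ H^1(E, L|_E(n)) of the exact sequence 0 ⟶ L|_E(n) ⟶ L_{n+1} ⟶ L_n ⟶
0, where L|_E(n) = (L ⊗ I^n)|_E, vanishes; equivalently the restriction H^0(E(n+1), L_{n+1}) ⟶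
H^0(E(n), L_n) is surjective. Stated here as the equivalent identity of (finite) dimensions dim
H^0(S', L ⊗ O/I^{n+1}) = dim H^0(S', (L ⊗ I^n) ⊗ O/I) + dim H^0(S', L ⊗ O/I^n). -/
theorem result
    (S : Scheme.{0}) [S.Over (Spec (CommRingCat.of ℂ))] [IsIntegral S]
    [SmoothOfRelativeDimension 2 (S ↘ Spec (CommRingCat.of ℂ))]
    (hproj : ∃ (n : ℕ) (ι : S ⟶ CohB1.ProjSpace n ℂ), IsClosedImmersion ι ∧
      ι ≫ CohB1.ProjSpace.toSpec n ℂ = S ↘ Spec (CommRingCat.of ℂ))
    (s : ℕ) (P : Fin s → ↥S) (hP : Function.Injective P) (hPc : ∀ i, IsClosed ({P i} : Set ↥S))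
    (hZ : IsClosed (Set.range P))
    {S' : Scheme.{0}} [S'.Over (Spec (CommRingCat.of ℂ))] (σ : S' ⟶ S)
    (hσk : σ ≫ (S ↘ Spec (CommRingCat.of ℂ)) = S' ↘ Spec (CommRingCat.of ℂ))
    (hσ : BlowUp.IsBlowUp σ (Scheme.IdealSheafData.vanishingIdeal ⟨Set.range P, hZ⟩))
    (L : S'.Modules) (hL : PicF.IsInvertible L) (n : ℕ) (hn : 1 ≤ n) :
    Module.finrank ℂ (Coh.HH S' (CohB1.tensorMod L (ClSub.quotMod ((BlowUp.exceptional σ (Scheme.IdealSheafData.vanishingIdeal ⟨Set.range P, hZ⟩)) ^ (n + 1)))) 0) =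
      Module.finrank ℂ (Coh.HH S' (CohB1.tensorMod (CohB1.tensorMod L (ClSub.idealMod ((BlowUp.exceptional σ (Scheme.IdealSheafData.vanishingIdeal ⟨Set.range P, hZ⟩)) ^ n))) (ClSub.quotMod (BlowUp.exceptional σ (Scheme.IdealSheafData.vanishingIdeal ⟨Set.range P, hZ⟩)))) 0) +
      Module.finrank ℂ (Coh.HH S' (CohB1.tensorMod L (ClSub.quotMod ((BlowUp.exceptional σ (Scheme.IdealSheafData.vanishingIdeal ⟨Set.range P, hZ⟩)) ^ n))) 0) := by
  have hfin : ((⟨Set.range P, hZ⟩ : TopologicalSpace.Closeds S) : Set S).Finite := Set.finite_range P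
  have hcl : ∀ t ∈ (⟨Set.range P, hZ⟩ : TopologicalSpace.Closeds S), IsClosed ({t} : Set S) := by
    rintro t ⟨j, rfl⟩
    exact hPc j
  have hsupp : ∀ t, t ∈ (Scheme.IdealSheafData.vanishingIdeal ⟨Set.range P, hZ⟩).support →
      t ∈ (⟨Set.range P, hZ⟩ : TopologicalSpace.Closeds S) := by
    intro t ht
    have h3 : t ∈ (((Scheme.IdealSheafData.vanishingIdeal ⟨Set.range P, hZ⟩).support :
      TopologicalSpace.Closeds S) : Set S) := ht
    rwa [Scheme.IdealSheafData.coe_support_vanishingIdeal] at h3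
  have T := K805.Reg.setupR_smooth (S ↘ Spec (CommRingCat.of ℂ)) ⟨Set.range P, hZ⟩ hfin hcl hσ
  exact K805.ThickDim.main T ℂ hproj hσk (fun t ht => by
    obtain ⟨W, htW, hW⟩ := K805.EndSh.exists_isolating _ hfin hcl t
    obtain ⟨Λ, hΛ⟩ := K805.EndSh.exists_loc_le_smooth (S ↘ Spec (CommRingCat.of ℂ)) ⟨Set.range P, hZ⟩ hfin hcl hσ
      (hsupp t ht) W htW
    exact ⟨Λ, fun z hz hz' => hW z (hΛ hz) (hsupp z hz')⟩) L hL n hn

end Groth.Agent.S15868
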