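import Groth.Statements.S15869
import Groth.Agent.SurfBl.K805.R1Glob
import Mathlib.Analysis.Complex.Polynomial.Basic

set_option autoImplicit false
open CategoryTheory CategoryTheory.Limits AlgebraicGeometry
open SurfBl

namespace Groth.Agent.S15869

/-- The first higher direct image, in dimension form, for non-negative multiples of the exceptional
curves. Let S be a smooth projective surface over the complex numbers (integral, smooth of relative
dimension 2 over C, admitting a closed immersion over C into some P^n), P_1, …, P_s distinct closed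
points, σ : S' ⟶ S the blow-up of S at the reduced finite set {P_1, …, P_s} (universal property) and
I_{E_i} the inverse image ideal of the ideal of P_i (the ideal of the exceptional curve E_i). Let M
be an invertible O_S-module (a divisor D on S), L_i an O_{S'}-module with L_i ⊗ I_{E_i} ≅ O_{S'} (so
L_i = O(E_i)), b_1, …, b_s natural numbers, and L = σ^*M ⊗ L_1^{⊗ b_1} ⊗ ⋯ ⊗ L_s^{⊗ b_s}, the line
bundle σ^*D + Σ b_i E_i. Then R¹σ_*L is supported at the points P_i with b_i ≥ 2, where its stalk
has length C(b_i, 2) = b_i(b_i − 1)/2; consequently dim_C H^0(S, R¹σ_*L) = Σ_i C(b_i, 2), the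
binomial coefficient being 0 when b_i < 2. Only this dimension formula is stated (R¹σ_* of
O-modules, with the existence of injective resolutions as instance hypothesis). (The published
statement gives the stalk as O_S/m_{P_i}^{b_i − 2}, of length C(b_i − 1, 2), and only for b_i > 2;
the correct length is C(b_i, 2), that of O_S/m_{P_i}^{b_i − 1}, already non-zero for b_i = 2: on the
blown-up plane h¹(O(2E)) = 1 and h¹(O(3E)) = 3. Only the length is asserted; for b_i ≥ 3 the stalk
maps onto H¹(E_i, O(−b_i)), of dimension b_i − 1, so it is not a cyclic module.) -/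
theorem result
    (S : Scheme.{0}) [S.Over (Spec (CommRingCat.of ℂ))] [IsIntegral S]
    [SmoothOfRelativeDimension 2 (S ↘ Spec (CommRingCat.of ℂ))]
    (hproj : ∃ (n : ℕ) (ι : S ⟶ CohB1.ProjSpace n ℂ), IsClosedImmersion ι ∧
      ι ≫ CohB1.ProjSpace.toSpec n ℂ = S ↘ Spec (CommRingCat.of ℂ))
    (s : ℕ) (P : Fin s → ↥S) (hP : Function.Injective P) (hPc : ∀ i, IsClosed ({P i} : Set ↥S))
    (hZ : IsClosed (Set.range P))
    {S' : Scheme.{0}} (σ : S' ⟶ S) (hσ : BlowUp.IsBlowUp σ (Scheme.IdealSheafData.vanishingIdeal ⟨Set.range P, hZ⟩))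
    (M : S.Modules) (hM : PicF.IsInvertible M)
    (L : Fin s → S'.Modules)
    (hL : ∀ i, ClSub.IsInverseOf (L i) (ClSub.idealMod ((Scheme.IdealSheafData.vanishingIdeal ⟨{P i}, hPc i⟩).comap σ)))
    (b : Fin s → ℕ) [HasInjectiveResolutions S'.Modules] :
    Module.finrank ℂ (Coh.HH S ((Coh.Rpush σ 1).obj
      (CohB1.tensorMod ((Scheme.Modules.pullback σ).obj M) (FGA.multiTwist L b))) 0) =
      ∑ i, (b i).choose 2 := by
  exact K805.R1Glob.main s P hP hPc hZ σ hσ M hM L hL b

end Groth.Agent.S15869
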