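import Groth.Statements.S15870
import Groth.Agent.NonAbH1.K551.Tors
import Groth.Agent.Etbase.FinLiftSch
import Groth.Agent.FlatA.EtaleSections
import Groth.Agent.RedSub.H650.ValAC

set_option autoImplicit false
universe u
open CategoryTheory MonoidalCategory CartesianMonoidalCategory MonObj GrpObj AlgebraicGeometry
open NonAbH1

namespace Groth.Agent.S15870

open CategoryTheory.Limits in
/-- A smooth surjective morphism has a section over an étale covering. -/
theorem exists_etale_cover {X S : Scheme.{u}} (f : X ⟶ S) [Smooth f] [Surjective f] :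
    ∃ (W : Scheme.{u}) (q : W ⟶ S) (σ : W ⟶ X), Etale q ∧ Surjective q ∧ σ ≫ f = q := by
  choose V v v' hv hv' σ hσ using fun s : S =>
    Groth.Agent.FlatA.EtaleSections.exists_section f s (Surjective.surj (f := f) s)
  refine ⟨∐ V, Sigma.desc v, Sigma.desc σ, IsZariskiLocalAtSource.sigmaDesc hv, ?_, ?_⟩
  · apply Surjective.sigmaDesc_of_union_range_eq_univ
    rw [Set.eq_univ_iff_forall]
    intro s
    exact Set.mem_iUnion.2 ⟨s, v' s, hv' s⟩
  · apply Sigma.hom_ext
    intro s
    simp [hσ]

open CategoryTheory.Limits in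
/-- A smooth surjective scheme over `S'` finite over `S` acquires a section étale locally on `S`. -/
theorem exists_etale_base {X S S' : Scheme.{u}} (π : S' ⟶ S) [IsFinite π] (f : X ⟶ S') [Smooth f] [Surjective f]
    (s : S) : ∃ (U : Scheme.{u}) (g : U ⟶ S) (u : U), Etale g ∧ g u = s ∧
      ∃ σ : pullback g π ⟶ X, σ ≫ f = pullback.snd g π := by
  obtain ⟨W, q, σ, hq, hqs, hσ⟩ := exists_etale_cover f
  let Ω := AlgebraicClosure (S.residueField s)
  let t : Spec (CommRingCat.of Ω) ⟶ S := Red.geomPt s
  choose w hw using fun ζ : Spec (CommRingCat.of Ω) ⟶ S' =>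
    Groth.Agent.RedSub.H650.ValAC.exists_lift_pt q Ω ζ
  obtain ⟨V', g, hg, t', ht', H⟩ := Groth.Agent.Etbase.FinLiftSch.lifts π q t (fun ζ _ => w ζ) (fun ζ _ => hw ζ)
  obtain ⟨τ, hτ, -⟩ := H (pullback g π) (pullback.fst g π) (pullback.snd g π) pullback.condition
  refine ⟨V', g, t' (IsLocalRing.closedPoint Ω), hg, ?_, τ ≫ σ, by rw [Category.assoc, hσ, hτ]⟩
  rw [← Scheme.Hom.comp_apply, ht']
  simp only [t, Red.geomPt, Scheme.Hom.comp_apply]
  exact Scheme.fromSpecResidueField_apply s _

/-- Let π : S' → S be finite locally free (finite, flat, locally of finite presentation), G a smooth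
S'-group scheme and E an fppf G-torsor over S'. Then E trivializes fppf locally on S: some fppf
covering family of S consists of morphisms U → S such that E has a section over U ×_S S' → S'. (The
published statement is for a variable S-scheme T, torsors over S' ×_S T and G a group algebraic
space; this row is the case T = S with G a scheme, to which the general case reduces by base change
of π.) -/
theorem result
    {S S' : Scheme.{u}} (π : S' ⟶ S) [IsFinite π] [Flat π] [LocallyOfFinitePresentation π]
    (G : Over S') [GrpObj G] [Smooth G.hom]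
    (E : NonAbH1.TorsorSch G Scheme.fppfPrecoverage) :
    ∃ R ∈ Scheme.fppfPrecoverage S, ∀ ⦃U : Scheme.{u}⦄ (g : U ⟶ S), R g →
      NonAbH1.HasSectionOver E.X (Limits.pullback.snd g π) := by
  have h1 : Smooth E.X.hom := K551.Tors.smooth_of_torsor E.isTorsor
  have h2 : Surjective E.X.hom := K551.Tors.surjective_of_torsor E.isTorsor
  choose U g u hg hu σ hσ using fun s : S => exists_etale_base π E.X.hom s
  refine ⟨Presieve.ofArrows U g, ?_, ?_⟩
  · change _ ∈ Scheme.precoverage _ S
    rw [Scheme.ofArrows_mem_precoverage_iff]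
    refine ⟨fun s => ⟨s, u s, hu s⟩, fun s => ?_⟩
    have := hg s
    exact ⟨inferInstance, inferInstance⟩
  · rintro V v ⟨s⟩
    exact ⟨σ s, hσ s⟩

end Groth.Agent.S15870
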