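import Groth.Statements.S15871
import Groth.Agent.NonAbH1.K597.GlueMain
import Groth.Agent.S10725

set_option autoImplicit false
universe u
open CategoryTheory MonoidalCategory CartesianMonoidalCategory MonObj GrpObj AlgebraicGeometry
open NonAbH1

namespace Groth.Agent.S15871

/-- Let φ : A → A' and t ∈ A be such that A/t^m → A'/t^m is bijective for every m and φ restricts to a
bijection between the t-power-torsion submodules; let G be a flat A-group scheme, locally of finite
presentation, with quasi-affine underlying scheme; let T be an fppf G-torsor over A[1/t], T' an fppf
G-torsor over A', and e an equivariant isomorphism of their base changes to A'[1/t], for the base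
change of G along Spec A'[1/t] → Spec A. Then some fppf G-torsor P over A restricts to T over A[1/t]
and to T' over A', up to equivariant isomorphism. (The published statement is an equivalence of
categories between G-torsors over A and such glueing triples; this row states only that every triple
comes from a torsor over A, without the compatibility of the two isomorphisms with e and without the
full faithfulness. The published statement asks only that G be flat and quasi-affine; this row
assumes G locally of finite presentation, so that the torsor built by glueing is locally trivial for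
the fppf topology. The hypothesis h is the evident commutativity of the square of base rings.) -/
theorem result (A A' : Type u) [CommRing A] [CommRing A']
    (φ : A →+* A') (t : A)
    (hq : ∀ m : ℕ, Function.Bijective (Ideal.quotientMap (Ideal.map φ (Ideal.span {t} ^ m)) φ Ideal.le_comap_map))
    (htor : ∀ a' : A', (∃ m : ℕ, φ t ^ m * a' = 0) → ∃! a : A, (∃ m : ℕ, t ^ m * a = 0) ∧ φ a = a')
    (h : Spec.map (CommRingCat.ofHom (Localization.awayMap φ t)) ≫
        Spec.map (CommRingCat.ofHom (algebraMap A (Localization.Away t))) =
      Spec.map (CommRingCat.ofHom (algebraMap A' (Localization.Away (φ t)))) ≫ Spec.map (CommRingCat.ofHom φ))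
    (G : Over (Spec (CommRingCat.of A))) [GrpObj G] [Flat G.hom] [LocallyOfFinitePresentation G.hom]
    [G.left.IsQuasiAffine]
    (T : NonAbH1.TorsorSch (Red.bc (Spec.map (CommRingCat.ofHom (algebraMap A (Localization.Away t)))) G)
      Scheme.fppfPrecoverage)
    (T' : NonAbH1.TorsorSch (Red.bc (Spec.map (CommRingCat.ofHom φ)) G) Scheme.fppfPrecoverage)
    (e : NonAbH1.EquivIso
      ((T.act.bc (Spec.map (CommRingCat.ofHom (Localization.awayMap φ t)))).restrict
        (ActBC.bcCompIso (Spec.map (CommRingCat.ofHom (Localization.awayMap φ t)))
          (Spec.map (CommRingCat.ofHom (algebraMap A (Localization.Away t)))) G h).inv)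
      ((T'.act.bc (Spec.map (CommRingCat.ofHom (algebraMap A' (Localization.Away (φ t)))))).restrict
        (ActBC.bcCompIso (Spec.map (CommRingCat.ofHom (algebraMap A' (Localization.Away (φ t)))))
          (Spec.map (CommRingCat.ofHom φ)) G rfl).inv)) :
    ∃ P : NonAbH1.TorsorSch G Scheme.fppfPrecoverage,
      Nonempty (NonAbH1.EquivIso (P.act.bc (Spec.map (CommRingCat.ofHom (algebraMap A (Localization.Away t))))) T.act) ∧
      Nonempty (NonAbH1.EquivIso (P.act.bc (Spec.map (CommRingCat.ofHom φ))) T'.act) := by
  let _ : Algebra A A' := φ.toAlgebra
  exact K597.GlueMain.exists_glue (fun R _ R' _ _ f h XU' V V' Y' tU tX iU iX sq v y' q pV pY s1 s2 _ _ _ =>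
    Groth.Agent.S10725.result R R' f h tU tX iU iX sq v y' q pV pY s1 s2) hq htor h G T T' e

end Groth.Agent.S15871
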