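import Groth.Statements.S15872
import Groth.Agent.NonAbH1.K944.Ext
import Groth.Agent.NonAbH1.K944.FlatHull
import Groth.Agent.PRed.K543.UnipPts

set_option autoImplicit false
universe u
open CategoryTheory MonoidalCategory CartesianMonoidalCategory MonObj GrpObj AlgebraicGeometry
open NonAbH1

namespace Groth.Agent.S15872

/-- Let S be a locally Noetherian k-scheme, U ⊆ S open with the local rings of S at the points of the
complement of depth at least 3, and G an affine smooth connected k-group whose geometric fibre has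
no non-trivial subtorus. Then fppf torsors under G over U extend to S uniquely up to isomorphism:
every torsor over U is the restriction of one over S, and any two torsors over S restricting to it
are isomorphic. (The published statement is for an arbitrary unipotent k-group, and also for the
sections of every S-gerbe that is étale locally the classifying stack of G; this row is the case of
a smooth connected unipotent group, expressed through the absence of geometric subtori, and states
the torsor clause only.) -/
theorem result (k : Type u) [Field k]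
    (S : Scheme.{u}) [IsLocallyNoetherian S] (s : S ⟶ Spec (CommRingCat.of k)) (U : S.Opens)
    (hdepth : ∀ z : S, z ∉ (U : Set S) → (3 : ℕ∞) ≤ LocCoh.depth (S.presheaf.stalk z) (S.presheaf.stalk z))
    (G : Over (Spec (CommRingCat.of k))) [GrpObj G] [IsAffine G.left] [Smooth G.hom] [ConnectedSpace G.left]
    (hGu : (∀ s : ↥(Spec (CommRingCat.of k)), Red.HasNoSubtorus (AlgebraicClosure ((Spec (CommRingCat.of k)).residueField s)) (Red.geomFibre s G)))
    (E' : NonAbH1.TorsorSch (Red.bc U.ι (Red.bc s G)) Scheme.fppfPrecoverage) :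
    (∃ E : NonAbH1.TorsorSch (Red.bc s G) Scheme.fppfPrecoverage, Nonempty (NonAbH1.EquivIso (E.act.bc U.ι) E'.act)) ∧
    (∀ E₁ E₂ : NonAbH1.TorsorSch (Red.bc s G) Scheme.fppfPrecoverage,
      Nonempty (NonAbH1.EquivIso (E₁.act.bc U.ι) E'.act) → Nonempty (NonAbH1.EquivIso (E₂.act.bc U.ι) E'.act) →
      Nonempty (NonAbH1.EquivIso E₁.act E₂.act)) := by
  obtain ⟨A, _, _, e, he, hsm, hA⟩ := K543.UnipPts.exists_isUnipotent G hGu
  obtain ⟨D, hD⟩ := K944.Filt.exists_filt hA
  have hO : Groth.Agent.Desc.AffineHull.OIso U.ι := K944.OIDepth.oIso_ι U hdepth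
  have hG1 : IsAffineHom G.hom := inferInstance
  have hH1 : IsAffineHom (Red.bc s G).hom := MorphismProperty.pullback_snd (P := @IsAffineHom) _ _ hG1
  have hH2 : Smooth (Red.bc s G).hom := MorphismProperty.pullback_snd (P := @Smooth) _ _ inferInstance
  refine ⟨?_, ?_⟩
  · have he' : IsMonHom e.symm.hom := inferInstanceAs (IsMonHom e.inv)
    obtain ⟨Q, a, φ, hQ, hφ⟩ := K944.Ext.exists_extension (Red.bc s G) U hO
      (fun Q _ α hTr hO' hfl hs => K944.FlatHull.flat_surj s G e.symm α U hD hTr hO' hfl hs hdepth)
      E'.X E'.act E'.isTorsor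
    refine ⟨⟨Q, a, hQ⟩, ⟨⟨φ, ?_⟩⟩⟩
    rw [AlgGrp.Action.bc_act, Category.assoc, hφ]
  · rintro E₁ E₂ ⟨e₁⟩ ⟨e₂⟩
    refine K944.Ext.nonempty_equivIso (Red.bc s G) U hO E₁.act E₂.act E₁.isTorsor E₂.isTorsor
      ⟨e₁.iso ≪≫ e₂.iso.symm, ?_⟩
    have h1 := e₁.comm
    have h2 := e₂.comm
    rw [Iso.trans_hom, Iso.symm_hom, MonoidalCategory.whiskerLeft_comp, Category.assoc, ← Category.assoc, h1,
      Category.assoc]
    congr 1
    rw [← cancel_mono e₂.iso.hom, Category.assoc, Iso.inv_hom_id, Category.comp_id, Category.assoc, h2,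
      ← Category.assoc, ← MonoidalCategory.whiskerLeft_comp, Iso.inv_hom_id]
    simp

end Groth.Agent.S15872
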